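import Groth.Statements.S1616
import Groth.Agent.SegreMap.Basic
import Groth.Agent.ProjMor.ProjSpaceBase

set_option autoImplicit false
universe u
open CategoryTheory CategoryTheory.Limits AlgebraicGeometry
open Constr

namespace Groth.Agent.S1616

/-- For any scheme S and n, m ≥ 0 there is a closed immersion from P^n_S ×_S P^m_S into P^{nm+n+m}_S
compatible with the projections to S. -/
theorem result (S : Scheme.{u}) (n m : ℕ) :
    ∃ φ : pullback (CohB1.ProjSpaceOver.toBase n S) (CohB1.ProjSpaceOver.toBase m S) ⟶ CohB1.ProjSpaceOver (n * m + n + m) S,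
      IsClosedImmersion φ ∧ φ ≫ CohB1.ProjSpaceOver.toBase (n * m + n + m) S =
        pullback.fst (CohB1.ProjSpaceOver.toBase n S) (CohB1.ProjSpaceOver.toBase m S) ≫ CohB1.ProjSpaceOver.toBase n S := by
  obtain ⟨φ, hφ, hb⟩ := Groth.Agent.SegreMap.exists_segre S n m
  have hp : ∀ k, IsProper (CohB1.ProjSpaceOver.toBase k S) := fun k => by
    have := ProjMor.isProper_toSpec (n := k) (R := ULift.{u} ℤ)
    exact MorphismProperty.pullback_snd _ _ this
  have := hp n; have := hp m; have := hp (n * m + n + m)
  have : IsProper (φ ≫ CohB1.ProjSpaceOver.toBase (n * m + n + m) S) := by rw [hb]; infer_instance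
  have : IsProper φ := IsProper.of_comp φ (CohB1.ProjSpaceOver.toBase (n * m + n + m) S)
  have := hφ
  exact ⟨φ, IsClosedImmersion.of_isPreimmersion φ φ.isClosedMap.isClosed_range, hb⟩

end Groth.Agent.S1616
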