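import Mathlib

/-! Twisted Artin–Schreier cocycles are independent. -/

set_option autoImplicit false

universe u

open PowerSeries

namespace Groth.Agent.ASTwist

variable {k : Type u} [Field k]

theorem unit_zpow (n : ℕ) (hn : 0 < n) (U : (PowerSeries k)ˣ) (w : PowerSeries k)
    (hU : (U : PowerSeries k) = 1 + X ^ n * w) (b : ℤ) :
    ∃ v : PowerSeries k, ((U ^ b : (PowerSeries k)ˣ) : PowerSeries k) = 1 + X ^ n * v ∧
      constantCoeff v = (b : k) * constantCoeff w := by
  have hX : constantCoeff ((X : PowerSeries k) ^ n) = 0 := by rw [map_pow, constantCoeff_X, zero_pow hn.ne']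
  induction b with
  | zero => exact ⟨0, by simp, by simp⟩
  | succ i ih =>
    obtain ⟨v, hv, hv0⟩ := ih
    refine ⟨v + w + X ^ n * (v * w), ?_, ?_⟩
    · rw [zpow_add_one, Units.val_mul, hv, hU]; ring
    · simp only [map_add, map_mul, hX, hv0]; push_cast; ring
  | pred i ih =>
    obtain ⟨v, hv, hv0⟩ := ih
    refine ⟨(v - w) * (U⁻¹ : (PowerSeries k)ˣ), ?_, ?_⟩
    · have hinv : (U : PowerSeries k) * (U⁻¹ : (PowerSeries k)ˣ) = 1 := Units.mul_inv U
      rw [zpow_sub_one, Units.val_mul, hv]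
      linear_combination (-((U⁻¹ : (PowerSeries k)ˣ) : PowerSeries k)) * hU + hinv
    · have h1 : constantCoeff (U : PowerSeries k) = 1 := by rw [hU, map_add, map_one, map_mul, hX, zero_mul, add_zero]
      have h2 := congrArg constantCoeff (Units.mul_inv U)
      rw [map_mul, h1, one_mul, map_one] at h2
      rw [map_mul, map_sub, hv0, h2]; push_cast; ring

theorem coeff_subst_low (n : ℕ) (w : PowerSeries k) (h : PowerSeries k) (m : ℕ) (hm : m < n) :
    coeff m (PowerSeries.subst (X * (1 + X ^ n * w) : PowerSeries k) h) = coeff m h := by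
  have hs : HasSubst (X * (1 + X ^ n * w) : PowerSeries k) := HasSubst.of_constantCoeff_zero' (by simp)
  have hc : ∀ d : ℕ, coeff m ((X * (1 + X ^ n * w) : PowerSeries k) ^ d) = coeff m ((X : PowerSeries k) ^ d) := fun d => by
    obtain ⟨q, hq⟩ : (X : PowerSeries k) ^ n ∣ (X * (1 + X ^ n * w)) ^ d - X ^ d :=
      Dvd.dvd.trans ⟨X * w, by ring⟩ (sub_dvd_pow_sub_pow _ _ d)
    rw [eq_add_of_sub_eq hq, map_add, coeff_X_pow_mul', if_neg (by omega), zero_add]
  rw [coeff_subst' hs, finsum_eq_single _ m (fun d hd => by rw [hc, coeff_X_pow, if_neg (Ne.symm hd), smul_zero])]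
  rw [hc, coeff_X_pow, if_pos rfl, smul_eq_mul, mul_one]

theorem main [NeZero (1 : k)] (n : ℕ) (hn : 0 < n) (hnk : (n : k) ≠ 0) (U : (PowerSeries k)ˣ)
    (hu1 : constantCoeff (U : PowerSeries k) = 1) (hun : (U : PowerSeries k) ^ n * (1 + X ^ n) = 1) (a : ℤ)
    (c : ℕ → PowerSeries k) (S : Finset ℕ) (hS : ∀ m ∈ S, 1 ≤ m ∧ m ≤ n ∧ (((a - m : ℤ)) : k) ≠ 0)
    (hc : ∀ m ∈ S, X ^ m * c m = ((U ^ (a - m) : (PowerSeries k)ˣ) : PowerSeries k) - 1) (coef : ℕ → k) (h : PowerSeries k)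
    (hh : ((U ^ a : (PowerSeries k)ˣ) : PowerSeries k) * PowerSeries.subst (X * (U : PowerSeries k)) h - h = ∑ m ∈ S, coef m • c m) :
    ∀ m ∈ S, coef m = 0 := by
  classical
  set G := ∑ i ∈ Finset.range n, (U : PowerSeries k) ^ i
  have hG0 : constantCoeff G = (n : k) := by simp [G, hu1]
  have hGu : IsUnit G := isUnit_iff_constantCoeff.2 (hG0 ▸ isUnit_iff_ne_zero.2 hnk)
  obtain ⟨G', hG'⟩ := hGu.exists_left_inv
  set w : PowerSeries k := -(U : PowerSeries k) ^ n * G' with hw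
  have hU : (U : PowerSeries k) = 1 + X ^ n * w := by
    have hgeom : G * ((U : PowerSeries k) - 1) = (U : PowerSeries k) ^ n - 1 := geom_sum_mul _ _
    rw [hw]
    linear_combination G' * hgeom + G' * hun - ((U : PowerSeries k) - 1) * hG'
  have hw0 : constantCoeff w ≠ 0 := by
    have h1 := congrArg constantCoeff hG'
    rw [map_mul, hG0, map_one] at h1
    rw [hw, map_mul, map_neg, map_pow, hu1, one_pow, neg_one_mul, neg_ne_zero]
    intro h2; rw [h2, zero_mul] at h1; exact zero_ne_one h1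
  have hlow : ∀ i, i < n → coeff i (∑ m ∈ S, coef m • c m) = 0 := fun i hi => by
    obtain ⟨v, hv, -⟩ := unit_zpow n hn U w hU a
    rw [← hh, hv, hU, add_mul, one_mul, map_sub, map_add, coeff_subst_low n w h i hi, mul_assoc, coeff_X_pow_mul',
      if_neg (by omega), add_zero, sub_self]
  have hcm : ∀ m ∈ S, (∀ i, i < n - m → coeff i (c m) = 0) ∧ coeff (n - m) (c m) ≠ 0 := fun m hm => by
    obtain ⟨v, hv, hv0⟩ := unit_zpow n hn U w hU (a - m)
    obtain ⟨-, hmn, hne⟩ := hS m hm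
    have h1 := hc m hm
    rw [hv, add_sub_cancel_left] at h1
    have h2 : c m = X ^ (n - m) * v := by
      refine mul_left_cancel₀ (pow_ne_zero m (PowerSeries.X_ne_zero)) ?_
      rw [h1, ← mul_assoc, ← pow_add, Nat.add_sub_cancel' hmn]
    refine ⟨fun i hi => by rw [h2, coeff_X_pow_mul', if_neg (by omega)], ?_⟩
    rw [h2, coeff_X_pow_mul', if_pos le_rfl, Nat.sub_self, coeff_zero_eq_constantCoeff, hv0]
    exact mul_ne_zero hne hw0
  by_contra hcon
  push Not at hcon
  obtain ⟨m₀, hm₀, hne⟩ := hcon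
  set T := S.filter (fun m => coef m ≠ 0)
  have hT : T.Nonempty := ⟨m₀, Finset.mem_filter.2 ⟨hm₀, hne⟩⟩
  obtain ⟨hMS, hMne⟩ := Finset.mem_filter.1 (T.max'_mem hT)
  set M := T.max' hT
  have h0 := hlow (n - M) (by have := (hS M hMS).1; omega)
  rw [map_sum, Finset.sum_eq_single M] at h0
  · rw [map_smul, smul_eq_mul] at h0
    exact mul_ne_zero hMne (hcm M hMS).2 h0
  · intro m hm hmM
    rw [map_smul, smul_eq_mul]
    by_cases h2 : coef m = 0
    · rw [h2, zero_mul]
    have hle : m ≤ M := T.le_max' m (Finset.mem_filter.2 ⟨hm, h2⟩)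
    have := (hS m hm).2.1
    have hlt : m < M := lt_of_le_of_ne hle hmM
    have := (hS M hMS).2.1
    rw [(hcm m hm).1 _ (by omega), mul_zero]
  · intro h; exact absurd hMS h

end Groth.Agent.ASTwist
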