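import Groth.Statements.S5132
import Mathlib.AlgebraicGeometry.PullbackCarrier
import Mathlib.AlgebraicGeometry.Morphisms.QuasiCompact

set_option autoImplicit false
open CategoryTheory AlgebraicGeometry
universe u
open SGA1

namespace Groth.Agent.S5132

/-- Quasi-compactness of a morphism descends along a surjective and quasi-compact base change; flatness
of the base change is not needed for this property. -/
theorem result :
    MorphismProperty.DescendsAlong @QuasiCompact (@Surjective ⊓ @QuasiCompact : MorphismProperty Scheme.{u}) := by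
  refine ⟨fun {W X Y Z fst snd f g} h hf hfst ↦ ⟨fun U hU hUc ↦ ?_⟩⟩
  obtain ⟨hfs, hfq⟩ := hf
  have : Surjective f := hfs
  have : QuasiCompact f := hfq
  have : QuasiCompact fst := hfst
  have h1 : IsCompact (fst ⁻¹' (f ⁻¹' U)) :=
    QuasiCompact.isCompact_preimage (f := fst) _ (hU.preimage f.continuous)
      (QuasiCompact.isCompact_preimage (f := f) U hU hUc)
  have h2 := h1.image snd.continuous
  convert h2 using 1
  ext y
  constructor
  · intro hy
    obtain ⟨x, hx⟩ := f.surjective (g y)
    obtain ⟨z, hz₁, hz₂⟩ := Scheme.exists_preimage_of_isPullback h x y hx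
    refine ⟨z, ?_, hz₂⟩
    change f (fst z) ∈ U
    rw [show fst z = x from hz₁, hx]
    exact hy
  · rintro ⟨z, hz, rfl⟩
    change g (snd z) ∈ U
    rw [← Scheme.Hom.comp_apply, ← h.w]
    exact hz

end Groth.Agent.S5132
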