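import Groth.Statements.S0346
import Groth.Agent.ClosedRep.Over

set_option autoImplicit false
universe u v
open CategoryTheory MonoidalCategory CartesianMonoidalCategory MonObj GrpObj AlgebraicGeometry
open GrpSch

namespace Groth.Agent.S0346

/-- A group scheme over any base scheme is separated over the base exactly when its unit section is a
closed immersion, and quasi-separated exactly when the unit section is quasi-compact. -/
theorem result (S : Scheme.{u}) (G : Over S) [GrpObj G] : (IsSeparated G.hom ↔ IsClosedImmersion η[G].left) ∧ (QuasiSeparated G.hom ↔ QuasiCompact η[G].left) := by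
  have hs : η[G].left ≫ G.hom = 𝟙 S := Over.w η[G]
  have h : IsPullback (lift (𝟙 G) (𝟙 G)) (toUnit G) (fst G G * (snd G G)⁻¹) η[G] := by
    refine ⟨⟨?_⟩, ⟨Limits.PullbackCone.IsLimit.mk _
      (fun s ↦ s.fst ≫ fst G G) (fun s ↦ ?_) (fun s ↦ toUnit_unique _ _) (fun s m hm _ ↦ ?_)⟩⟩
    · rw [comp_mul, GrpObj.comp_inv, lift_fst, lift_snd, mul_inv_cancel, Hom.one_def]
    · have h := s.condition
      rw [comp_mul, GrpObj.comp_inv, toUnit_unique s.snd (toUnit _), ← Hom.one_def,
        mul_inv_eq_one] at h
      apply CartesianMonoidalCategory.hom_ext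
      · simp
      · simpa using h
    · simp [← hm]
  have h' : IsPullback (Limits.pullback.diagonal G.hom) (toUnit G).left
      (fst G G * (snd G G)⁻¹).left η[G].left := h.map (Over.forget _)
  refine ⟨⟨fun _ ↦ ?_, fun _ ↦ Groth.Agent.ClosedRep.isSeparated_of_one⟩,
    (quasiSeparated_iff _).trans ⟨fun hq ↦ ?_,
      fun hq ↦ MorphismProperty.of_isPullback h'.flip hq⟩⟩
  · have : IsClosedImmersion (η[G].left ≫ G.hom) := by rw [hs]; exact inferInstanceAs (IsClosedImmersion (𝟙 _))
    exact IsClosedImmersion.of_comp η[G].left G.hom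
  · have : QuasiCompact (η[G].left ≫ G.hom) := by rw [hs]; exact MorphismProperty.id_mem @QuasiCompact _
    have : QuasiSeparated G.hom := (quasiSeparated_iff _).mpr hq
    exact QuasiCompact.of_comp η[G].left G.hom

end Groth.Agent.S0346
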