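import Groth.Statements.S14809
import Mathlib
import Groth.Agent.TMul.Ample
open AlgebraicGeometry CategoryTheory

set_option autoImplicit false
universe u
open CategoryTheory CategoryTheory.Limits AlgebraicGeometry
open PicF

set_option backward.isDefEq.respectTransparency false
namespace Groth.Agent.S14809

section
open TopologicalSpace Opposite TMul
open Groth.Agent.QC (res resO res_res res_smul)

variable {X : Scheme.{u}} {L : X.Modules}

lemma isIso_of_genLocus_top (s : Coh.structureModule X ⟶ L) (h : CohB1.genLocus L s = ⊤) : IsIso s := by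
  rw [Scheme.Modules.Hom.isIso_iff_isIso_app]
  intro V
  rw [ConcreteCategory.isIso_iff_bijective]
  have hg := isGen_genLocus s
  rw [h] at hg
  have h1 := hg V le_top
  simp only [res_val] at h1
  have e : (fun c : Γ(X, V) => c • val s V) = fun c => s.app V c := funext fun c => (app_eq_smul s c).symm
  rw [e] at h1
  exact h1

lemma genLocus_nonempty [IsIntegral X] (hL : PicF.IsInvertible L) (s : Coh.structureModule X ⟶ L) (hs : s ≠ 0) :
    ∃ x, x ∈ CohB1.genLocus L s := by
  by_contra hne
  refine hs (Scheme.Modules.hom_ext s 0 fun V => ?_)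
  refine ConcreteCategory.hom_ext _ _ fun c => ?_
  show s.app V c = 0
  refine Groth.Agent.QC.section_eq_of_locally fun x hx => ?_
  obtain ⟨U, e, a, -, hxU, hUV, he, ha⟩ := exists_coeff hL s (W := V) hx
  refine ⟨U, hUV, hxU, ?_⟩
  haveI : Nonempty U := ⟨⟨x, hxU⟩⟩
  have hb : X.basicOpen a = ⊥ := eq_bot_iff.2 fun y hy => hne ⟨y, by
    have h := SetLike.ext_iff.mp (genLocus_inf s he ha) y
    exact (h.2 hy).2⟩
  rw [basicOpen_eq_bot_iff] at hb
  rw [app_eq_smul, res_smul, res_val, ha, hb, zero_smul, smul_zero]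
  exact (map_zero _).symm

lemma genLocus_unit_top (hfield : IsField (Γ(X, ⊤) : Type u)) (t : Coh.structureModule X ⟶ Coh.structureModule X) {x : X}
    (hx : x ∈ CohB1.genLocus (Coh.structureModule X) t) : CohB1.genLocus (Coh.structureModule X) t = ⊤ := by
  have h0 : CohB1.genLocus (Coh.structureModule X) (𝟙 (Coh.structureModule X)) = ⊤ :=
    top_le_iff.mp fun x _ => Opens.mem_sSup.mpr ⟨⊤, by
      change IsIso _
      rw [CategoryTheory.Functor.map_id]; infer_instance, trivial⟩
  have he := isGen_genLocus (𝟙 (Coh.structureModule X))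
  rw [h0] at he
  obtain ⟨a, ha⟩ := (he ⊤ le_rfl).2 (val t ⊤)
  simp only [res_val] at ha
  have key := genLocus_inf t he ha.symm
  by_cases ha0 : a = 0
  · have h := (SetLike.ext_iff.mp key x).1 (show x ∈ ⊤ ⊓ CohB1.genLocus (Coh.structureModule X) t from ⟨trivial, hx⟩)
    rw [ha0, Scheme.basicOpen_zero] at h
    exact h.elim
  · have : IsUnit a := isUnit_iff_exists_inv.2 (hfield.mul_inv_cancel ha0)
    refine top_le_iff.1 fun y _ => ?_
    have h := (SetLike.ext_iff.mp key y).2 (by rw [X.basicOpen_of_isUnit this]; trivial)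
    exact h.2

end


/-- Let X be an integral scheme such that Γ(X, O_X) is a field and L an invertible O_X-module with a
nonzero global section (a nonzero morphism O_X → L). If some tensor power L^{⊗d} with d ≥ 1 is
isomorphic to O_X, then L itself is isomorphic to O_X. -/
theorem result (X : Scheme.{u}) [IsIntegral X]
    (hfield : IsField (Γ(X, ⊤) : Type u)) (L : X.Modules) (hL : PicF.IsInvertible L)
    (s : Coh.structureModule X ⟶ L) (hs : s ≠ 0) (d : ℕ) (hd : 0 < d)
    (htriv : Nonempty (CohB1.tensorPow L d ≅ Coh.structureModule X)) :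
    Nonempty (L ≅ Coh.structureModule X) := by
  obtain ⟨e⟩ := htriv
  obtain ⟨d, rfl⟩ : ∃ d', d = d' + 1 := ⟨d - 1, by omega⟩
  let t : Coh.structureModule X ⟶ Coh.structureModule X := SecTwist.powHom s (d + 1) ≫ e.hom
  have hloc : CohB1.genLocus (Coh.structureModule X) t = CohB1.genLocus L s :=
    (TMul.genLocus_comp _ e.hom).trans (TMul.genLocus_powHom hL s d)
  obtain ⟨x, hx⟩ := genLocus_nonempty hL s hs
  rw [← hloc] at hx
  have htop : CohB1.genLocus L s = ⊤ := hloc ▸ genLocus_unit_top hfield t hx
  haveI : IsIso s := isIso_of_genLocus_top s htop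
  exact ⟨(asIso s).symm⟩

end Groth.Agent.S14809
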