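import Groth.Statements.S1570
import Groth.Agent.BlowUpLib.Cartier
import Groth.Agent.WeakAssLib.Basic
-- import your own Groth.Agent.* helpers here

set_option autoImplicit false
universe u
open CategoryTheory CategoryTheory.Limits AlgebraicGeometry
open Divisors

namespace Groth.Agent.S1570

/-- Let X be locally Noetherian and D a closed subscheme with ideal sheaf I. If for every point x of D
the ideal generated by I in the local ring at x is generated by one nonzerodivisor, then D is an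
effective Cartier divisor. -/
theorem result (X : Scheme.{u}) [IsLocallyNoetherian X]
    (D : X.IdealSheafData)
    (h : ∀ x ∈ D.support, ∀ (U : X.affineOpens) (hx : x ∈ (U : X.Opens)),
      ∃ g : X.presheaf.stalk x, g ∈ nonZeroDivisors (X.presheaf.stalk x) ∧
        (D.ideal U).map (X.presheaf.germ U x hx).hom = Ideal.span {g}) :
    BlowUp.IsEffCartierIdeal D := by
  classical
  intro x
  by_cases hx : x ∈ D.support
  swap
  · obtain ⟨W, hW, hxW, hWle⟩ := exists_isAffineOpen_mem_and_subset (X := X) (x := x)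
      (U := D.support.compl) hx
    refine ⟨⟨W, hW⟩, hxW, 1, one_mem _, ?_⟩
    rw [Ideal.span_singleton_one]
    rw [← Ideal.radical_eq_top, Ideal.radical_eq_sInf]
    refine sInf_eq_top.2 fun P hP => ?_
    exfalso
    haveI := hP.2
    let z := hW.fromSpec ⟨P, hP.2⟩
    have hzW : z ∈ W := hW.range_fromSpec.le ⟨⟨P, hP.2⟩, rfl⟩
    refine hWle hzW ?_
    refine (Scheme.IdealSheafData.mem_support_iff_of_mem (I := D) (U := ⟨W, hW⟩) hzW).2 ?_
    have hp : hW.primeIdealOf ⟨z, hzW⟩ = ⟨P, hP.2⟩ :=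
      hW.fromSpec.isOpenEmbedding.injective (hW.fromSpec_primeIdealOf ⟨z, hzW⟩)
    rw [Scheme.mem_zeroLocus_iff]
    intro a ha hza
    have := (Groth.Agent.WeakAssLib.mem_primeIdealOf hW hzW a).1 hza
    rw [hp] at this
    exact this (hP.1 ha)
  obtain ⟨U, hU, hxU, -⟩ := exists_isAffineOpen_mem_and_subset (X := X) (x := x) (U := (⊤ : X.Opens)) trivial
  obtain ⟨g, hg, hspan⟩ := h x hx ⟨U, hU⟩ hxU
  haveI : IsNoetherianRing Γ(X, U) := IsLocallyNoetherian.component_noetherian ⟨U, hU⟩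
  letI := (X.presheaf.germ U x hxU).hom.toAlgebra
  haveI := hU.isLocalization_stalk ⟨x, hxU⟩
  let p := (hU.primeIdealOf ⟨x, hxU⟩).asIdeal
  let S := X.presheaf.stalk x
  let I := D.ideal ⟨U, hU⟩
  have hspan' : I.map (algebraMap Γ(X, U) S) = Ideal.span {g} := hspan
  obtain ⟨⟨⟨a, ha⟩, s⟩, hs⟩ := (IsLocalization.mem_map_algebraMap_iff p.primeCompl S).1
    (hspan' ▸ Ideal.mem_span_singleton_self g : g ∈ I.map (algebraMap Γ(X, U) S))
  -- elements killing finitely many obstructions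
  have clear : ∀ (A B : Ideal Γ(X, U)), (∀ z ∈ A, ∃ t ∉ p, t * z ∈ B) → ∃ t ∉ p, ∀ z ∈ A, t * z ∈ B := by
    intro A B hAB
    obtain ⟨T, hT⟩ := (IsNoetherian.noetherian A : A.FG)
    choose t ht htz using fun z : T => hAB z (hT ▸ Ideal.subset_span z.2)
    refine ⟨∏ z, t z, fun hm => ?_, fun z hz => ?_⟩
    · obtain ⟨z, -, hz⟩ := (hU.primeIdealOf ⟨x, hxU⟩).isPrime.prod_mem_iff.1 hm
      exact ht z hz
    · have hle : A ≤ B.colon {∏ z, t z} := by
        rw [← hT]
        refine Submodule.span_le.2 fun w hw => Submodule.mem_colon_singleton.2 ?_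
        obtain ⟨e, he⟩ := Finset.dvd_prod_of_mem t (Finset.mem_univ (⟨w, hw⟩ : T))
        rw [he, smul_eq_mul, show w * (t ⟨w, hw⟩ * e) = e * (t ⟨w, hw⟩ * w) by ring]
        exact Ideal.mul_mem_left _ _ (htz ⟨w, hw⟩)
      have h' := Submodule.mem_colon_singleton.1 (hle hz)
      rwa [smul_eq_mul, mul_comm] at h'
  have hga : Ideal.span {g} = Ideal.span {algebraMap Γ(X, U) S a} := by
    refine le_antisymm ((Ideal.span_singleton_le_iff_mem _).2 ?_) ((Ideal.span_singleton_le_iff_mem _).2 ?_)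
    · exact (Ideal.mul_unit_mem_iff_mem _ (IsLocalization.map_units S s)).1
        (hs.symm ▸ Ideal.mem_span_singleton_self _)
    · rw [← hs]; exact Ideal.mul_mem_right _ _ (Ideal.mem_span_singleton_self g)
  obtain ⟨t₁, ht₁, ht₁I⟩ := clear I (Ideal.span {a}) fun z hz => by
    have h2 : algebraMap Γ(X, U) S z ∈ (Ideal.span {a}).map (algebraMap Γ(X, U) S) := by
      rw [Ideal.map_span, Set.image_singleton, ← hga, ← hspan']
      exact Ideal.mem_map_of_mem _ hz
    rw [IsLocalization.algebraMap_mem_map_algebraMap_iff p.primeCompl] at h2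
    exact h2
  obtain ⟨t₂, ht₂, ht₂a⟩ := clear (LinearMap.ker (LinearMap.toSpanSingleton Γ(X, U) Γ(X, U) a)) ⊥ fun z hz => by
    have h0 : algebraMap Γ(X, U) S z * g = 0 := by
      refine (IsLocalization.map_units S s).mul_left_eq_zero.1 ?_
      rw [mul_assoc, hs, ← map_mul, show z * a = 0 from hz, map_zero]
    obtain ⟨c, hc⟩ := (IsLocalization.map_eq_zero_iff p.primeCompl S z).1
      ((mem_nonZeroDivisors_iff_right.1 hg) _ h0)
    exact ⟨c, c.2, by rw [hc]; exact Ideal.zero_mem _⟩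
  let t := t₁ * t₂
  have ht : t ∉ p := fun h => ((hU.primeIdealOf ⟨x, hxU⟩).isPrime.mem_or_mem h).elim ht₁ ht₂
  haveI := hU.isLocalization_basicOpen t
  letI : Algebra Γ(X, U) Γ(X, (X.affineBasicOpen (U := ⟨U, hU⟩) t : X.Opens)) :=
    inferInstanceAs (Algebra Γ(X, U) Γ(X, X.basicOpen t))
  haveI : IsLocalization.Away t Γ(X, (X.affineBasicOpen (U := ⟨U, hU⟩) t : X.Opens)) :=
    inferInstanceAs (IsLocalization.Away t Γ(X, X.basicOpen t))
  refine ⟨X.affineBasicOpen (U := ⟨U, hU⟩) t, (Groth.Agent.WeakAssLib.mem_primeIdealOf hU hxU t).2 ht,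
    (X.presheaf.map (homOfLE (X.basicOpen_le t)).op).hom a, ?_, ?_⟩
  · refine mem_nonZeroDivisors_iff_right.2 fun y hy => ?_
    obtain ⟨⟨z, u⟩, hu⟩ := IsLocalization.surj (Submonoid.powers t) y
    refine (IsLocalization.map_units _ u).mul_left_eq_zero.1 ?_
    rw [hu]
    have h0 : algebraMap Γ(X, U) Γ(X, (X.affineBasicOpen (U := ⟨U, hU⟩) t : X.Opens)) (z * a) = 0 := by
      rw [map_mul, ← hu, mul_right_comm, show y * algebraMap _ _ a = 0 from hy, zero_mul]
    obtain ⟨⟨_, k, rfl⟩, hk⟩ := (IsLocalization.map_eq_zero_iff (Submonoid.powers t) _ _).1 h0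
    have hz : t₂ * (t ^ k * z) = 0 := (Submodule.mem_bot _).1 (ht₂a _ (show (t ^ k * z) * a = 0 by
      rw [mul_assoc]; exact hk))
    refine (IsLocalization.map_eq_zero_iff (Submonoid.powers t) _ _).2 ⟨⟨t ^ (k + 1), k + 1, rfl⟩, ?_⟩
    show t ^ (k + 1) * z = 0
    rw [pow_succ', mul_assoc, show t = t₁ * t₂ from rfl] at *
    rw [mul_assoc, hz, mul_zero]
  · show D.ideal (X.affineBasicOpen (U := ⟨U, hU⟩) t) = _
    rw [← D.map_ideal_basicOpen ⟨U, hU⟩ t]
    refine le_antisymm (Ideal.map_le_iff_le_comap.2 fun z hz => ?_) ((Ideal.span_singleton_le_iff_mem _).2 ?_)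
    · obtain ⟨c, hc⟩ := Ideal.mem_span_singleton.1 (ht₁I z hz)
      refine (Ideal.mul_unit_mem_iff_mem (Ideal.span {algebraMap Γ(X, U) Γ(X, X.basicOpen t) a})
        (x := algebraMap Γ(X, U) Γ(X, X.basicOpen t) z) (IsLocalization.Away.algebraMap_isUnit t)).1 ?_
      rw [← map_mul]
      refine Ideal.mem_span_singleton.2 ⟨algebraMap Γ(X, U) Γ(X, X.basicOpen t) (c * t₂), ?_⟩
      rw [← map_mul]
      congr 1
      show z * (t₁ * t₂) = a * (c * t₂)
      rw [← mul_assoc, ← mul_assoc, mul_comm z t₁, hc]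
    · exact Ideal.mem_map_of_mem _ ha

end Groth.Agent.S1570
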