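import Groth.Statements.S8914
import Groth.Agent.QC.IdealMod
import Groth.Agent.TMul.Power
import Groth.Agent.UfdExtend.Glue
import Mathlib

set_option autoImplicit false
universe u
open CategoryTheory CategoryTheory.Limits AlgebraicGeometry TopologicalSpace
open SDiv

set_option backward.isDefEq.respectTransparency false

namespace Groth.Agent.S8914

open Groth.Agent.QC (res resO app_res resO_resO)

/-- Let S be a scheme and D ⊆ S a closed subscheme with quasi-coherent ideal sheaf 𝓘. Then the ideal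
sheaf of D is an invertible O_S-module (that is, D is an effective Cartier divisor) if and only if
every point has an affine open neighbourhood Spec A in S with D ∩ Spec A = Spec A/(f) for a
nonzerodivisor f ∈ A. -/
theorem result {S : Scheme.{u}} (𝓘 : S.IdealSheafData) :
    PicF.IsInvertible (ClSub.idealMod 𝓘) ↔ BlowUp.IsEffCartierIdeal 𝓘 := by
  let ι₀ := ClSub.idealModι 𝓘
  have happ : ∀ {W : S.Opens} (c : Γ(S, W)) (m : Γ(ClSub.idealMod 𝓘, W)),
      (show Γ(S, W) from ι₀.app W (c • m)) = c * (show Γ(S, W) from ι₀.app W m) := fun c m =>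
    Scheme.Modules.Hom.app_smul ι₀ c m
  have hinj := fun W => Groth.Agent.QC.app_injective_of_mono ι₀ W
  constructor
  · intro h x
    obtain ⟨U, e, hxU, he⟩ := TMul.exists_isGen h x
    obtain ⟨D, hD, hxD, hDU⟩ := exists_isAffineOpen_mem_and_subset (x := x) (U := U) hxU
    replace hDU : D ≤ U := hDU
    let f : Γ(S, D) := ι₀.app D (res (ClSub.idealMod 𝓘) hDU e)
    refine ⟨⟨D, hD⟩, hxD, f, mem_nonZeroDivisors_iff_right.2 fun c hc => ?_, ?_⟩
    · refine (he D hDU).1 (hinj D ?_)
      change (show Γ(S, D) from ι₀.app D (c • _)) = (show Γ(S, D) from ι₀.app D ((0 : Γ(S, D)) • _))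
      rw [happ, happ, zero_mul]
      exact hc
    · ext t
      rw [Ideal.mem_span_singleton', ← Groth.Agent.QC.mem_range_idealModι_affine 𝓘 ⟨D, hD⟩ t]
      constructor
      · rintro ⟨m, rfl⟩
        obtain ⟨c, rfl⟩ := (he D hDU).2 m
        exact ⟨c, (happ c _).symm⟩
      · rintro ⟨c, rfl⟩
        exact ⟨c • res (ClSub.idealMod 𝓘) hDU e, happ c _⟩
  · intro h
    refine InvGen.isInvertible fun x => ?_
    obtain ⟨⟨D, hD⟩, hxD, f, hf, hI⟩ := h x
    obtain ⟨e, he⟩ := (Groth.Agent.QC.mem_range_idealModι_affine 𝓘 ⟨D, hD⟩ f).2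
      (hI ▸ Ideal.mem_span_singleton_self f)
    have key : ∀ (V : S.Opens) (hV : V ≤ D) (c : Γ(S, V)),
        (show Γ(S, V) from ι₀.app V (c • res (ClSub.idealMod 𝓘) hV e)) = c * resO S hV f := by
      intro V hV c
      rw [happ]
      congr 1
      exact (app_res ι₀ hV e).symm.trans (congrArg (resO S hV) he)
    refine ⟨D, e, hxD, fun V hV => ?_⟩
    -- regular on every basic open
    have hreg : ∀ (g : Γ(S, D)) (c : Γ(S, S.basicOpen g)),
        c * resO S (S.basicOpen_le g) f = 0 → c = 0 := fun g c hc => by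
      haveI := hD.isLocalization_basicOpen g
      exact (mem_nonZeroDivisors_iff_right.1 (IsLocalization.nonZeroDivisors_le_comap
        (Submonoid.powers g) Γ(S, S.basicOpen g) hf)) c hc
    have hinjV : ∀ (V : S.Opens) (hV : V ≤ D) (c c' : Γ(S, V)),
        c * resO S hV f = c' * resO S hV f → c = c' := by
      intro V hV c c' hcc
      refine TopCat.Presheaf.IsSheaf.section_ext S.sheaf.2 fun y hy => ?_
      obtain ⟨g, hg, hyg⟩ := hD.exists_basicOpen_le (⟨y, hy⟩ : V) (hV hy)
      refine ⟨S.basicOpen g, hg, hyg, ?_⟩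
      change resO S hg c = resO S hg c'
      refine sub_eq_zero.1 (hreg g _ ?_)
      rw [sub_mul, sub_eq_zero, ← resO_resO hg hV, ← map_mul, hcc, map_mul]
    refine ⟨fun c c' hcc => hinjV V hV c c' ?_, fun m => ?_⟩
    · rw [← key, ← key]
      exact congrArg (fun q => (show Γ(S, V) from ι₀.app V q)) hcc
    choose g hgV hyg using fun y : V => hD.exists_basicOpen_le (⟨y.1, y.2⟩ : V) (hV y.2)
    have hloc : ∀ y : V, ∃ c : Γ(S, S.basicOpen (g y)),
        c * resO S (S.basicOpen_le (g y)) f = (show Γ(S, S.basicOpen (g y)) from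
          ι₀.app _ (res (ClSub.idealMod 𝓘) (hgV y) m)) := fun y => by
      have h1 := (Groth.Agent.QC.mem_range_idealModι_affine 𝓘 (S.affineBasicOpen (U := ⟨D, hD⟩) (g y))
        (ι₀.app _ (res (ClSub.idealMod 𝓘) (hgV y) m))).1 ⟨_, rfl⟩
      rw [← 𝓘.map_ideal_basicOpen, hI, Ideal.map_span, Set.image_singleton,
        Ideal.mem_span_singleton'] at h1
      exact h1
    choose c hc using hloc
    obtain ⟨C, hC, -⟩ := TopCat.Sheaf.existsUnique_gluing' S.sheaf (fun y => S.basicOpen (g y)) V
      (fun y => homOfLE (hgV y)) (fun y hy => TopologicalSpace.Opens.mem_iSup.mpr ⟨⟨y, hy⟩, hyg _⟩) c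
      (fun y y' => by
        suffices h : ∀ (P : S.Opens) (h1 : P ≤ S.basicOpen (g y)) (h2 : P ≤ S.basicOpen (g y')),
            resO S h1 (c y) = resO S h2 (c y') from h _ inf_le_left inf_le_right
        intro P h1 h2
        refine hinjV P (h1.trans (S.basicOpen_le _)) _ _ ?_
        have e1 := congrArg (resO S h1) (hc y)
        have e2 := congrArg (resO S h2) (hc y')
        rw [map_mul, resO_resO] at e1 e2
        rw [e1, e2]
        exact ((app_res ι₀ h1 _).trans (congrArg (ι₀.app P) (Groth.Agent.QC.res_res _ h1 (hgV y) m))).trans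
          ((app_res ι₀ h2 _).trans (congrArg (ι₀.app P) (Groth.Agent.QC.res_res _ h2 (hgV y') m))).symm)
    obtain ⟨C, hC⟩ : ∃ C : Γ(S, V), ∀ y, resO S (hgV y) C = c y := ⟨C, hC⟩
    refine ⟨C, hinj V (Groth.Agent.QC.section_eq_of_locally fun y hy => ?_)⟩
    refine ⟨S.basicOpen (g ⟨y, hy⟩), hgV _, hyg _, ?_⟩
    change resO S (hgV _) (show Γ(S, V) from ι₀.app V (C • _)) =
      (show Γ(S, S.basicOpen (g ⟨y, hy⟩)) from
        res (Coh.structureModule S) (hgV _) (ι₀.app V m))
    rw [key, map_mul, resO_resO, hC, hc, app_res]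

end Groth.Agent.S8914
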