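import Groth.Statements.S16491
import Groth.Agent.RefStalk.RankOne
import Groth.Agent.TMul.AmpleComp
-- import your own Groth.Agent.* helpers here

set_option autoImplicit false
universe u
open CategoryTheory CategoryTheory.Limits AlgebraicGeometry TopologicalSpace
open VBPn

set_option backward.isDefEq.respectTransparency false

namespace Groth.Agent.S16491

open Groth.Agent.QC (res resO res_res res_smul resO_resO isLoc_of_isQCoh)
open Groth.Agent.WeakAssLib (mgerm mgerm_smul mgerm_res)
open TMul (IsGen)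

/-- A generator of a restricted module is a generator. -/
lemma isGen_of_restrict {X : Scheme.{u}} {F : X.Modules} {U : X.Opens} {A : (U : Scheme.{u}).Opens}
    {a : Γ(F.restrict U.ι, A)} (ha : IsGen a) : IsGen (N := F) (U := U.ι ''ᵁ A) a := by
  intro V hV
  obtain ⟨W', rfl⟩ : ∃ W', U.ι ''ᵁ W' = V := ⟨U.ι ⁻¹ᵁ V, by
    rw [Scheme.Hom.image_preimage_eq_opensRange_inf, inf_eq_right.mpr]
    exact hV.trans (U.ι.image_le_opensRange _)⟩
  have hW' : W' ≤ A := fun y hy => by
    obtain ⟨y', hy', e⟩ := hV ⟨y, hy, rfl⟩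
    exact U.ι.isOpenEmbedding.injective e ▸ hy'
  have key : (fun c : Γ((U : Scheme.{u}), W') => c • res (F.restrict U.ι) hW' a) =
      (fun c : Γ(X, U.ι ''ᵁ W') => c • res F (U.ι.image_mono hW') (a : Γ(F, U.ι ''ᵁ A))) ∘
        (U.ι.appIso W').inv := rfl
  have h := ha W' hW'
  rw [key] at h
  exact (Function.Bijective.of_comp_iff _ (ConcreteCategory.bijective_of_isIso (U.ι.appIso W').inv)).1 h

/-- Let X be an integral locally Noetherian scheme all of whose local rings are regular, and F a
coherent O_X-module which is reflexive (the canonical map F → F^** is an isomorphism) and of rank 1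
(F restricts to an invertible module on some dense open subset of X). Then F is invertible: every
point has an open neighbourhood on which F is isomorphic to the structure sheaf. The published
statement is for reflexive coherent analytic sheaves of rank 1 on a complex manifold; this row is
its statement on a regular integral locally Noetherian scheme, whose local rings are factorial as
the argument requires. -/
theorem result (X : Scheme.{u}) [IsIntegral X] [IsLocallyNoetherian X]
    (hreg : ∀ x : X, IsRegularLocalRing (X.presheaf.stalk x)) (F : X.Modules) (hF : Coh.IsCoh F)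
    (hrefl : RefHull.IsReflexive F) (hrk : RefHull.GenInvertible F) :
    PicF.IsInvertible F := by
  refine Groth.Agent.RefStalk.isInvertible_of_stalk_equiv hF.1 hF.2 fun x => ?_
  haveI := hreg x
  haveI : UniqueFactorizationMonoid (X.presheaf.stalk x) :=
    Groth.Agent.UFDLib.ufd_of_isRegularLocalRing _
  haveI : IsNoetherianRing (X.presheaf.stalk x) := inferInstance
  haveI : Module.IsReflexive (X.presheaf.stalk x) (F.presheaf.stalk x) :=
    (Groth.Agent.RefStalk.isReflexive_iff hF).1 hrefl x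
  -- a generator near some point
  obtain ⟨U, hUd, hUi⟩ := hrk
  obtain ⟨η, hη⟩ := hUd.nonempty
  obtain ⟨A, a, hηA, ha⟩ := TMul.exists_isGen hUi (⟨η, hη⟩ : (U : Scheme.{u}))
  let W : X.Opens := U.ι ''ᵁ A
  let e : Γ(F, W) := a
  have he : IsGen e := isGen_of_restrict ha
  obtain ⟨V, hV, hxV, -⟩ := exists_isAffineOpen_mem_and_subset (x := x) (U := (⊤ : X.Opens)) trivial
  obtain ⟨p, hpV, hpW⟩ := nonempty_preirreducible_inter V.2 W.2 ⟨x, hxV⟩ ⟨η, ⟨η, hη⟩, hηA, rfl⟩
  obtain ⟨f, hfW, hpf⟩ := hV.exists_basicOpen_le (V := W) ⟨p, hpW⟩ hpV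
  have hD := X.basicOpen_le f
  have hLoc := isLoc_of_isQCoh hV (hM := hF.1)
  haveI := hV.isLocalization_basicOpen f
  have hinjD : Function.Injective (resO X hD) :=
    @map_injective_of_isIntegral X _ _ _ (homOfLE hD) ⟨⟨p, hpf⟩⟩
  haveI : Nonempty ↥V := ⟨⟨x, hxV⟩⟩
  haveI : IsDomain Γ(X, V) := @IsIntegral.component_integral X _ V ⟨⟨x, hxV⟩⟩
  have hf0 : f ≠ 0 := fun h => by rw [h, Scheme.basicOpen_zero] at hpf; exact hpf
  have hgi := AlgebraicGeometry.germ_injective_of_isIntegral (X := X) (U := V) x hxV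
  -- coefficients with respect to the generator
  have hcoef : ∀ t : Γ(F, V), ∃ (k : ℕ) (C : Γ(X, V)),
      resO X hD (f ^ k) • res F hD t = resO X hD C • res F hfW e := fun t => by
    obtain ⟨c, hc⟩ := (he _ hfW).2 (res F hD t)
    obtain ⟨⟨C, -, k, rfl⟩, hCk⟩ := IsLocalization.surj (M := Submonoid.powers f) c
    have hCk' : c * resO X hD (f ^ k) = resO X hD C := hCk
    refine ⟨k, C, ?_⟩
    rw [← hCk', ← hc, smul_smul, mul_comm]
  have hloc : ∀ t : Γ(F, V), res F hD t = 0 → mgerm F hxV t = 0 := fun t ht => by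
    obtain ⟨n, hn⟩ := hLoc.exists_pow_smul_eq_zero f t ht
    have h := congrArg (mgerm F hxV) hn
    rw [mgerm_smul, map_zero] at h
    exact (smul_eq_zero.1 h).resolve_left fun h0 =>
      pow_ne_zero n hf0 (hgi (h0.trans (map_zero _).symm))
  haveI : Nontrivial (F.presheaf.stalk x) := by
    obtain ⟨n, s, hs⟩ := hLoc.exists_extend f (res F hfW e)
    refine ⟨⟨mgerm F hxV s, 0, fun h0 => ?_⟩⟩
    obtain ⟨b, hb, hbs⟩ := (WeakAssLib.germ_eq_zero_iff hV hLoc hxV s).1 h0
    have h := congrArg (res F hD) hbs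
    rw [res_smul, hs, map_zero, smul_smul, ← map_pow, ← map_mul,
      ← zero_smul Γ(X, X.basicOpen f) (res F hfW e), ← map_zero (resO X hD)] at h
    have := hinjD ((he _ hfW).1 h)
    rcases mul_eq_zero.1 this with h1 | h1
    · exact hb (h1 ▸ Ideal.zero_mem _)
    · exact pow_ne_zero n hf0 h1
  refine Groth.Agent.RefStalk.exists_equiv_of_isReflexive fun m m' hm => ?_
  obtain ⟨b, s, hb, hbs⟩ := WeakAssLib.exists_germ hV hLoc hxV m
  obtain ⟨b', s', hb', hbs'⟩ := WeakAssLib.exists_germ hV hLoc hxV m'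
  obtain ⟨k, C, hC⟩ := hcoef s
  obtain ⟨k', C', hC'⟩ := hcoef s'
  have hrel : mgerm F hxV ((C' * f ^ k) • s - (C * f ^ k') • s') = 0 := hloc _ (by
    rw [map_sub, res_smul, res_smul, map_mul, map_mul, mul_smul, mul_smul, hC, hC', smul_smul, smul_smul,
      mul_comm, sub_self])
  rw [map_sub, sub_eq_zero, mgerm_smul, mgerm_smul, ← hbs, ← hbs', smul_smul, smul_smul] at hrel
  refine ⟨_, _, ?_, hrel.symm⟩
  refine mul_ne_zero (fun h0 => ?_) (WeakAssLib.isUnit_germ hV hxV hb').ne_zero
  rcases mul_eq_zero.1 (hgi (h0.trans (map_zero _).symm)) with h1 | h1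
  · subst h1
    refine hm ((WeakAssLib.isUnit_germ hV hxV hb).smul_eq_zero.1 (hbs.trans (hloc s ?_)))
    rw [map_zero, zero_smul] at hC
    have hu : IsUnit (resO X hD (f ^ k)) :=
      IsLocalization.map_units (Γ(X, X.basicOpen f)) (⟨f ^ k, k, rfl⟩ : Submonoid.powers f)
    exact hu.smul_eq_zero.1 hC
  · exact pow_ne_zero k' hf0 h1

end Groth.Agent.S16491
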