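import Groth.Statements.S9576
import Groth.Agent.ProjMor.Sym

set_option autoImplicit false
universe u
open CategoryTheory CategoryTheory.Limits AlgebraicGeometry TopologicalSpace Opposite
open Constr

namespace Groth.Agent.S9576

/-- For a ring R and n ≥ 0, projective n-space Proj R[T_0, …, T_n] is covered by the n + 1 standard
opens D_+(T_i), and each D_+(T_i) = Spec R[T_0, …, T_n]_(T_i) is an affine n-space: the ring
homomorphism from the polynomial ring over R in the variables T_j, j ≠ i, to the degree-zero
localization R[T_0, …, T_n]_(T_i), sending T_j to T_j/T_i and a constant r to r/1, is bijective.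
(The published statement is over ℤ; this row is over any ring R.) -/
theorem result (n : ℕ) (R : Type u) [CommRing R] :
    (⨆ i : Fin (n + 1), Proj.basicOpen (CohB1.polyGrading n R) (MvPolynomial.X i)) = ⊤ ∧
      ∀ i : Fin (n + 1), Function.Bijective
        (MvPolynomial.eval₂Hom
          ((HomogeneousLocalization.fromZeroRingHom (CohB1.polyGrading n R) (Submonoid.powers (MvPolynomial.X i))).comp
            (algebraMap R (CohB1.polyGrading n R 0)))
          (fun j : {j : Fin (n + 1) // j ≠ i} =>
            (HomogeneousLocalization.mk ⟨1, ⟨MvPolynomial.X j.1, MvPolynomial.isHomogeneous_X R j.1⟩,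
              ⟨MvPolynomial.X i, MvPolynomial.isHomogeneous_X R i⟩, ⟨1, pow_one _⟩⟩ :
              HomogeneousLocalization.Away (CohB1.polyGrading n R) (MvPolynomial.X i)))) := by
  classical
  refine ⟨top_le_iff.mp fun x _ => ?_, fun i => ?_⟩
  · obtain ⟨g, hg, hgx⟩ := ProjMor.exists_notMem (ProjMor.genDegOne_projSpace n R) x
    by_contra hall
    refine hgx ?_
    have hX : ∀ i, (MvPolynomial.X i : MvPolynomial (Fin (n + 1)) R) ∈ x.asHomogeneousIdeal :=
      fun i => by
        by_contra hi
        exact hall (TopologicalSpace.Opens.mem_iSup.mpr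
          ⟨i, (ProjectiveSpectrum.mem_basicOpen _ _ _).mpr hi⟩)
    have hg1 : g.IsHomogeneous 1 := hg
    rw [MvPolynomial.as_sum g]
    refine x.asHomogeneousIdeal.toIdeal.sum_mem fun e he => ?_
    have hne : e ≠ 0 := fun h0 => by
      have := hg1.degree_eq_sum_deg_support he
      simp [h0] at this
    obtain ⟨k, hk⟩ : ∃ k, e k ≠ 0 := by
      by_contra h; push Not at h; exact hne (Finsupp.ext h)
    rw [MvPolynomial.monomial_eq, Finsupp.prod]
    refine Ideal.mul_mem_left _ _ ?_
    rw [← Finset.mul_prod_erase _ _ (Finsupp.mem_support_iff.mpr hk)]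
    exact Ideal.mul_mem_right _ _ (Ideal.pow_mem_of_mem _ (hX k) _ (Nat.pos_of_ne_zero hk))
  · set φ := MvPolynomial.eval₂Hom ((HomogeneousLocalization.fromZeroRingHom
      (CohB1.polyGrading n R) (Submonoid.powers (MvPolynomial.X i))).comp
      (algebraMap R (CohB1.polyGrading n R 0))) (fun j : {j : Fin (n + 1) // j ≠ i} =>
      (HomogeneousLocalization.mk ⟨1, ⟨MvPolynomial.X j.1, MvPolynomial.isHomogeneous_X R j.1⟩,
        ⟨MvPolynomial.X i, MvPolynomial.isHomogeneous_X R i⟩, ⟨1, pow_one _⟩⟩ :
        HomogeneousLocalization.Away (CohB1.polyGrading n R) (MvPolynomial.X i))) with hφ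
    let D : MvPolynomial (Fin (n + 1)) R →+* MvPolynomial {j : Fin (n + 1) // j ≠ i} R :=
      MvPolynomial.eval₂Hom MvPolynomial.C
        fun j => if h : j ≠ i then MvPolynomial.X ⟨j, h⟩ else 1
    have hD : IsUnit (D (MvPolynomial.X i)) := by simp [D]
    let ψ := (Localization.awayLift D _ hD).comp
      (algebraMap (HomogeneousLocalization.Away (CohB1.polyGrading n R) (MvPolynomial.X i))
        (Localization.Away (MvPolynomial.X i : MvPolynomial (Fin (n + 1)) R)))
    let v := (algebraMap (HomogeneousLocalization.Away (CohB1.polyGrading n R) (MvPolynomial.X i))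
        (Localization.Away (MvPolynomial.X i : MvPolynomial (Fin (n + 1)) R)))
    have hvC : ∀ r, v (φ (MvPolynomial.C r)) = algebraMap _ _ (MvPolynomial.C r) := fun r => by
      simp only [v, hφ, MvPolynomial.eval₂Hom_C, RingHom.comp_apply]
      rw [HomogeneousLocalization.algebraMap_apply]
      exact (HomogeneousLocalization.val_mk _).trans (Localization.mk_one_eq_algebraMap _)
    have hvX : ∀ j, v (φ (MvPolynomial.X j)) * algebraMap _ _ (MvPolynomial.X i) =
        algebraMap _ _ (MvPolynomial.X j.1) := fun j => by
      simp only [v, hφ, MvPolynomial.eval₂Hom_X', HomogeneousLocalization.algebraMap_apply,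
        HomogeneousLocalization.val_mk]
      rw [Localization.mk_eq_mk'_apply]
      exact IsLocalization.mk'_spec (Localization.Away (MvPolynomial.X i :
        MvPolynomial (Fin (n + 1)) R)) _ _
    constructor
    · refine Function.LeftInverse.injective (g := ψ) fun p => ?_
      refine RingHom.congr_fun (show ψ.comp φ = RingHom.id _ from
        MvPolynomial.ringHom_ext (fun r => ?_) fun j => ?_) p
      · change Localization.awayLift D _ hD (v (φ (MvPolynomial.C r))) = MvPolynomial.C r
        rw [hvC, Localization.awayLift, IsLocalization.Away.lift_eq]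
        simp [D]
      · change Localization.awayLift D _ hD (v (φ (MvPolynomial.X j))) = MvPolynomial.X j
        have := congrArg (Localization.awayLift D _ hD) (hvX j)
        rw [map_mul, Localization.awayLift, IsLocalization.Away.lift_eq,
          IsLocalization.Away.lift_eq] at this
        simpa [D, j.2, Localization.awayLift] using this
    · intro z
      obtain ⟨d, p, hp, rfl⟩ :=
        HomogeneousLocalization.Away.mk_surjective (CohB1.polyGrading n R)
          (MvPolynomial.isHomogeneous_X R i : MvPolynomial.X i ∈ CohB1.polyGrading n R 1) z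
      refine ⟨D p, HomogeneousLocalization.val_injective _ ?_⟩
      rw [HomogeneousLocalization.Away.val_mk]
      change v (φ (D p)) = _
      let u : Localization.Away (MvPolynomial.X i : MvPolynomial (Fin (n + 1)) R) :=
        algebraMap (MvPolynomial (Fin (n + 1)) R) _ (MvPolynomial.X i)
      have hp' : p.IsHomogeneous d := by simpa [smul_eq_mul] using hp
      have key : v (φ (D p)) * u ^ d = algebraMap _ _ p := by
        have e1 : (algebraMap (MvPolynomial (Fin (n + 1)) R) (Localization.Away
            (MvPolynomial.X i : MvPolynomial (Fin (n + 1)) R))) =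
            MvPolynomial.eval₂Hom ((algebraMap (MvPolynomial (Fin (n + 1)) R) _).comp MvPolynomial.C)
              fun j => v (φ (D (MvPolynomial.X j))) * u :=
          MvPolynomial.ringHom_ext (fun r => by simp) fun j => by
            by_cases hj : j = i
            · subst hj; simp [D, u]
            · simp [D, hj, u, ← hvX ⟨j, hj⟩]
        have e2 : v.comp (φ.comp D) =
            MvPolynomial.eval₂Hom ((algebraMap (MvPolynomial (Fin (n + 1)) R) _).comp MvPolynomial.C)
              fun j => v (φ (D (MvPolynomial.X j))) :=
          MvPolynomial.ringHom_ext (fun r => by simpa [D] using hvC r) fun j => by simp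
        rw [show v (φ (D p)) = v.comp (φ.comp D) p from rfl, e2]
        refine Eq.trans ?_ (RingHom.congr_fun e1 p).symm
        simp only [MvPolynomial.coe_eval₂Hom, MvPolynomial.eval₂_eq, Finset.sum_mul]
        refine Finset.sum_congr rfl fun e he => ?_
        have hdeg : d = ∑ k ∈ e.support, e k := hp'.degree_eq_sum_deg_support he
        simp only [mul_pow, Finset.prod_mul_distrib, Finset.prod_pow_eq_pow_sum, ← hdeg, mul_assoc]
      rw [Localization.mk_eq_mk'_apply, IsLocalization.eq_mk'_iff_mul_eq, map_pow]
      exact key

end Groth.Agent.S9576
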