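import Groth.Statements.S10829
import Groth.Agent.S9576
import Groth.Agent.Unibranch.FibreDim
import Groth.Agent.CartierDim.Basic

set_option autoImplicit false
universe u
open AlgebraicGeometry
open Variety

namespace Groth.Agent.S10829

/-- For a field k and a natural number n, projective n-space over k (Proj of the polynomial ring in n +
1 variables graded by degree) has Krull dimension n as a topological space. (The published statement
also gives affine n-space dimension n; that half is the Krull dimension of a polynomial ring and is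
not restated here.) -/
theorem result (k : Type u) [Field k] (n : ℕ) :
    topologicalKrullDim ↥(CohB1.ProjSpace n k) = (n : WithBot ℕ∞) := by
  classical
  let 𝒜 := CohB1.polyGrading n k
  obtain ⟨hcov, hbij⟩ := Groth.Agent.S9576.result n k
  have hX : ∀ i, (MvPolynomial.X i : MvPolynomial (Fin (n + 1)) k) ∈ 𝒜 1 :=
    fun i => MvPolynomial.isHomogeneous_X k i
  let A := fun i => HomogeneousLocalization.Away 𝒜 (MvPolynomial.X i : MvPolynomial (Fin (n + 1)) k)
  have hdim : ∀ i, topologicalKrullDim ↥(Spec (CommRingCat.of (A i))) = (n : WithBot ℕ∞) := fun i => by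
    refine PrimeSpectrum.topologicalKrullDim_eq_ringKrullDim _ |>.trans ?_
    rw [← ringKrullDim_eq_of_ringEquiv (RingEquiv.ofBijective _ (hbij i)),
      MvPolynomial.ringKrullDim_of_isNoetherianRing, ringKrullDim_eq_zero_of_field, zero_add,
      Nat.card_eq_fintype_card, Fintype.card_subtype_compl]
    simp
  refine le_antisymm (Groth.Agent.Unibranch.topologicalKrullDim_le_natCast fun l c hc => ?_) ?_
  · obtain ⟨i, hi⟩ := TopologicalSpace.Opens.mem_iSup.mp
      (show c (Fin.last l) ∈ ⨆ i, Proj.basicOpen 𝒜 (MvPolynomial.X i) from hcov ▸ trivial)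
    have hsp : ∀ j, c j ⤳ c (Fin.last l) := fun j => by
      induction j using Fin.reverseInduction with
      | last => rfl
      | cast j ih => exact (hc j).1.trans ih
    have hmem : ∀ j, c j ∈ Set.range (Proj.awayι 𝒜 _ (hX i) one_pos).base := fun j => by
      have : c j ∈ Proj.basicOpen 𝒜 (MvPolynomial.X i) := (hsp j).mem_open (Proj.basicOpen 𝒜 _).2 hi
      rwa [← Proj.opensRange_awayι 𝒜 _ (hX i) one_pos] at this
    choose c' hc' using hmem
    have h1 := Groth.Agent.Unibranch.natCast_le_topologicalKrullDim c' fun j => by
      have he := (Proj.awayι 𝒜 _ (hX i) one_pos).isOpenEmbedding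
      refine ⟨he.isInducing.specializes_iff.mp ?_, fun e => (hc j).2 ?_⟩
      · rw [hc', hc']; exact (hc j).1
      · rw [← hc', ← hc', e]
    rw [hdim i] at h1
    exact CartierDim.natCast_le_withBot.mp h1
  · rw [← hdim 0]
    exact (Proj.awayι 𝒜 _ (hX 0) one_pos).isOpenEmbedding.isInducing.topologicalKrullDim_le

end Groth.Agent.S10829
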