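import Groth.Statements.S0022
import Groth.Agent.CohQC.Relative
import Groth.Agent.ProjMor.ProjSpaceBase
import Groth.Agent.S9576

set_option autoImplicit false
universe u
open Coherent

namespace Groth.Agent.S0022

open AlgebraicGeometry in
/-- For any ring R, any quasi-coherent module F on projective space ℙ^n_R and any i > n, H^i(ℙ^n_R, F) =
0. (The published statement is for coherent modules over a Noetherian ring; it is stated here for
quasi-coherent modules over any ring.) -/
theorem result (n : ℕ) (R : Type u) [CommRing R]
    (M : (CohB1.ProjSpace n R).Modules) [Coh.IsQCoh M] (i : ℕ) (hi : n < i) :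
    Subsingleton (Coh.HH (CohB1.ProjSpace n R) M i) := by
  open AlgebraicGeometry CategoryTheory in
  let 𝒜 := CohB1.polyGrading n R
  let U : Fin (n + 1) → (CohB1.ProjSpace n R).Opens := fun j => Proj.basicOpen 𝒜 (MvPolynomial.X j)
  have hU : ∀ j, IsAffineOpen (U j) := fun j =>
    ProjLib.isAffineOpen_basicOpen 𝒜 (MvPolynomial.isHomogeneous_X R j) one_pos
  have : IsSeparated (CohB1.ProjSpace.toSpec n R) :=
    (ProjMor.isProper_toSpec n R).toIsSeparated
  have : (CohB1.ProjSpace n R).IsSeparated :=
    ⟨by rw [← Limits.terminal.comp_from (CohB1.ProjSpace.toSpec n R)]; infer_instance⟩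
  have h := Groth.Agent.CohQC.hu_affine_cover_vanish M (n + 1) U hU
    (fun V W hV hW => hV.inf hW) i hi
  rw [show iSup U = ⊤ from (Groth.Agent.S9576.result n R).1] at h
  exact (Groth.Agent.SiteCoh.huTerminalEquiv _
    (T := (⊤ : TopologicalSpace.Opens _)) CategoryTheory.Limits.isTerminalTop (Coh.toAb M) i).toEquiv.subsingleton

end Groth.Agent.S0022
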