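import Groth.Statements.S0234
import Groth.Agent.UfdExtend.Main
import Groth.Agent.TMul.AmpleBasis
import Groth.Agent.QC.Localisation

set_option autoImplicit false
universe u
open CategoryTheory CategoryTheory.Limits AlgebraicGeometry
open Curves

set_option backward.isDefEq.respectTransparency false

namespace Groth.Agent.S0234

open TopologicalSpace Opposite
open Groth.Agent.QC (res resO res_res res_smul Sub section_eq_of_locally)
open Groth.Agent.UfdExtend
open TMul (IsGen)

variable {X : Scheme.{u}}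

lemma rankOne_pushforward (U : X.Opens) {L : (U : Scheme.{u}).Modules} (hL : PicF.IsInvertible L) :
    RankOne U ((Scheme.Modules.pushforward U.ι).obj L) := by
  refine ⟨fun V => ?_, fun x hx => ?_⟩
  · have h1 : U.ι ⁻¹ᵁ V ≤ U.ι ⁻¹ᵁ (V ⊓ U) := fun y hy => ⟨hy, y.2⟩
    have h2 : U.ι ⁻¹ᵁ (V ⊓ U) ≤ U.ι ⁻¹ᵁ V := fun y hy => hy.1
    refine ⟨fun s t hst => ?_, fun s => ⟨res L h1 s, ?_⟩⟩
    · have h := congrArg (res L h1) (show res L h2 s = res L h2 t from hst)
      rw [res_res, res_res, Groth.Agent.QC.res_self, Groth.Agent.QC.res_self] at h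
      exact h
    · change res L h2 (res L h1 s) = s
      rw [res_res, Groth.Agent.QC.res_self]
  · let e : ((Scheme.Modules.pushforward U.ι).obj L).restrict U.ι ≅ L :=
      (Scheme.Modules.restrictFunctorAdjCounitIso U.ι).app L
    have hF : PicF.IsInvertible (((Scheme.Modules.pushforward U.ι).obj L).restrict U.ι) := fun y => by
      obtain ⟨W, hW, ⟨i⟩⟩ := hL y
      exact ⟨W, hW, ⟨(Scheme.Modules.restrictFunctor W.ι).mapIso e ≪≫ i⟩⟩
    obtain ⟨N, g, hxN, hg⟩ := TMul.exists_isGen hF ⟨x, hx⟩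
    refine ⟨U.ι ''ᵁ N, g, ⟨⟨x, hx⟩, hxN, rfl⟩, fun V hV => ?_⟩
    obtain ⟨W, rfl⟩ : ∃ W, U.ι ''ᵁ W = V := ⟨U.ι ⁻¹ᵁ V, by
      rw [Scheme.Hom.image_preimage_eq_opensRange_inf, inf_eq_right.mpr]
      exact hV.trans (U.ι.image_le_opensRange _)⟩
    have hWN : W ≤ N := fun y hy => by
      obtain ⟨z, hz, e⟩ := hV ⟨y, hy, rfl⟩
      rwa [← U.ι.isOpenEmbedding.injective e]
    exact (Function.Bijective.of_comp_iff _
      (ConcreteCategory.bijective_of_isIso (U.ι.appIso W).inv)).mp (hg W hWN)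

instance preservesBiprod {Y : Scheme.{u}} (j : Y ⟶ X) [IsOpenImmersion j] (M N : X.Modules) :
    PreservesBinaryBiproduct M N (Scheme.Modules.restrictFunctor j) :=
  haveI := preservesBinaryBiproducts_of_preservesBiproducts (Scheme.Modules.restrictFunctor j)
  inferInstance

lemma isZero_of_sections {Y : Scheme.{u}} (M : Y.Modules)
    (h : ∀ (V : Y.Opens) (s : Γ(M, V)), s = 0) : IsZero M := by
  rw [IsZero.iff_id_eq_zero]
  refine Scheme.Modules.hom_ext _ _ fun V => ?_
  ext s
  exact (h V _).trans (h V _).symm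

lemma eq_zero_of_disjoint {U : X.Opens} (L : (U : Scheme.{u}).Modules) {V : X.Opens}
    (h : ∀ y ∈ V, y ∉ U) (s : Γ((Scheme.Modules.pushforward U.ι).obj L, V)) : s = 0 :=
  section_eq_of_locally (M := L) (U := U.ι ⁻¹ᵁ V) fun y hy => absurd y.2 (h _ hy)


/-- On a locally Noetherian scheme, an invertible module on an open U extends to an invertible module on
X provided the local rings at the points outside U are unique factorisation domains. -/
theorem result (X : Scheme.{u}) [IsLocallyNoetherian X] (U : X.Opens)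
    (L : (U : Scheme.{u}).Modules) (hL : PicF.IsInvertible L)
    (hufd : ∀ x : X, x ∉ U → UniqueFactorizationMonoid (X.presheaf.stalk x)) :
    ∃ L' : X.Modules, PicF.IsInvertible L' ∧ Nonempty (L'.restrict U.ι ≅ L) := by
  classical
  let F := (Scheme.Modules.pushforward U.ι).obj L
  have hF : RankOne U F := rankOne_pushforward U hL
  haveI hLq : L.IsQuasicoherent := TMul.isQCoh_of_isInvertible hL
  haveI hFq : F.IsQuasicoherent := Groth.Agent.QC.isQCoh_pushforward (hM := hLq) U.ι
  have hN : ∀ x : X, ∃ W : X.Opens, x ∈ W ∧ NoetherianSpace (W : Set X) := fun x => by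
    obtain ⟨W, hW, hxW, -⟩ :=
      exists_isAffineOpen_mem_and_subset (x := x) (U := (⊤ : X.Opens)) trivial
    haveI : IsAffine W.toScheme := hW
    haveI : IsNoetherian W.toScheme := {}
    exact ⟨W, hxW, inferInstanceAs (NoetherianSpace W.toScheme)⟩
  let S₀ : Sub F := ⟨fun _ => ⊤, fun _ _ _ => trivial, fun _ _ => trivial⟩
  have hS₀ : Groth.Agent.QC.LocFinGen S₀ U := fun x hx => by
    obtain ⟨N, g, hxN, hg⟩ := hF.gen x hx
    obtain ⟨D, hD, hxD, hDN⟩ :=
      exists_isAffineOpen_mem_and_subset (x := x) (U := N ⊓ U) ⟨hxN, hx⟩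
    have hDN' : D ≤ N := fun y hy => (hDN hy).1
    refine ⟨D, hD, hxD, fun y hy => (hDN hy).2, {res F hDN' g},
      ⟨fun _ _ => trivial, fun O hO s _ y hy hyD => ?_⟩⟩
    obtain ⟨c, hc⟩ := (hg O (hO.trans hDN')).2 s
    refine ⟨O, le_rfl, hO, hy, ?_⟩
    rw [Groth.Agent.QC.res_self, ← hc]
    refine Submodule.smul_mem _ _ (Submodule.subset_span ⟨_, Finset.mem_singleton_self _, ?_⟩)
    rw [res_res]
  obtain ⟨S, hS, hSeq⟩ := Groth.Agent.QC.exists_extend hN S₀ hS₀
  have hStop : ∀ O ≤ U, S.obj O = ⊤ := hSeq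
  let S' := codimOne U S
  have hdom : ∀ x : X, x ∉ U → IsDomain (X.presheaf.stalk x) := fun x hx => by
    haveI := hufd x hx
    exact ({ } : IsDomain (X.presheaf.stalk x))
  have hopen : IsOpen (closure (U : Set X)) := isOpen_iff_mem_nhds.2 fun x hx => by
    by_cases hxU : x ∈ U
    · exact Filter.mem_of_superset (U.2.mem_nhds hxU) subset_closure
    · haveI := hdom x hxU
      obtain ⟨D, -, hxD, -, hD⟩ := exists_intOpen (x := x) (N := ⊤) trivial
      obtain ⟨z, hzD, hzU⟩ := mem_closure_iff.1 hx D D.2 hxD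
      refine Filter.mem_of_superset (D.2.mem_nhds hxD) fun y hy =>
        mem_closure_iff.2 fun o ho hyo => ?_
      obtain ⟨w, hw, hw'⟩ := hD.inter (V := ⟨o, ho⟩ ⊓ D) (W := U ⊓ D) inf_le_right inf_le_right
        (show y ∈ (⟨o, ho⟩ : X.Opens) ⊓ D from ⟨hyo, hy⟩) (show z ∈ U ⊓ D from ⟨hzU, hzD⟩)
      exact ⟨w, hw.1, hw'.1⟩
  let C : X.Opens := ⟨(closure (U : Set X))ᶜ, isClosed_closure.isOpen_compl⟩
  let P : X.Modules := (Scheme.Modules.pushforward C.ι).obj (Coh.structureModule C)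
  have hC : ∀ y ∈ C, y ∉ U := fun y hy h => hy (subset_closure h)
  refine ⟨S'.toModules ⊞ P, fun x => ?_, ?_⟩
  · by_cases hx : x ∈ closure (U : Set X)
    · obtain ⟨D, e, hxD, heS, he⟩ : ∃ (D : X.Opens) (e : Γ(F, D)), x ∈ D ∧ e ∈ S'.obj D ∧
          ∀ (V : X.Opens) (hV : V ≤ D), Function.Injective (fun c : Γ(X, V) => c • res F hV e) ∧
            ∀ s ∈ S'.obj V, ∃ c : Γ(X, V), c • res F hV e = s := by
        by_cases hxU : x ∈ U
        · obtain ⟨N, g, hxN, hg⟩ := hF.gen x hxU
          exact ⟨N ⊓ U, res F inf_le_left g, ⟨hxN, hxU⟩, mem_codimOne_of_le inf_le_right _,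
            fun V hV => ⟨(hg.res inf_le_left V hV).1, fun s _ => (hg.res inf_le_left V hV).2 s⟩⟩
        · haveI := hdom x hxU
          haveI := hufd x hxU
          exact exists_generator hF S hS hStop hufd hxU hx
      let D' : X.Opens := D ⊓ ⟨closure (U : Set X), hopen⟩
      obtain ⟨i⟩ := InvGen.nonempty_iso D'.ι S'.toModules (U := D')
        (Scheme.Opens.opensRange_ι _).le ⟨res F inf_le_left e, S'.res_mem inf_le_left heS⟩
        fun V hV => by
        have hval : ∀ c : Γ(X, V), S'.ι.app V (c • res S'.toModules hV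
            (⟨res F inf_le_left e, S'.res_mem inf_le_left heS⟩ : S'.obj D')) =
            c • res F (hV.trans inf_le_left) e := fun c => by
          rw [Scheme.Modules.Hom.app_smul]
          exact congrArg (c • ·) (res_res F hV inf_le_left e)
        refine ⟨fun c c' h => (he V (hV.trans inf_le_left)).1 ?_, fun s => ?_⟩
        · simp only [← hval]
          exact congrArg (S'.ι.app V) h
        · obtain ⟨c, hc⟩ := (he V (hV.trans inf_le_left)).2 (S'.ι.app V s)
            ((S'.range_ι_app V _).1 ⟨s, rfl⟩)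
          exact ⟨c, S'.ι_app_injective V ((hval c).trans hc)⟩
      refine ⟨D', ⟨hxD, hx⟩, ⟨(Scheme.Modules.restrictFunctor D'.ι).mapBiprod _ _ ≪≫
        (isoBiprodZero ?_).symm ≪≫ i⟩⟩
      refine isZero_of_sections ((Scheme.Modules.restrictFunctor D'.ι).obj P) fun V s =>
        eq_zero_of_disjoint (Coh.structureModule C) (V := D'.ι ''ᵁ V) ?_ s
      rintro _ ⟨y, -, rfl⟩ hy
      exact hy y.2.2
    · refine ⟨C, hx, ⟨(Scheme.Modules.restrictFunctor C.ι).mapBiprod _ _ ≪≫
        (isoZeroBiprod ?_).symm ≪≫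
        (Scheme.Modules.restrictFunctorAdjCounitIso C.ι).app (Coh.structureModule C)⟩⟩
      refine isZero_of_sections ((Scheme.Modules.restrictFunctor C.ι).obj S'.toModules) fun V s => ?_
      change Γ(S'.toModules, C.ι ''ᵁ V) at s
      change s = (0 : Γ(S'.toModules, C.ι ''ᵁ V))
      refine S'.ι_app_injective (C.ι ''ᵁ V) ?_
      rw [map_zero]
      refine eq_zero_of_disjoint L (V := C.ι ''ᵁ V) ?_ _
      rintro _ ⟨y, -, rfl⟩
      exact hC _ y.2
  · have hz : IsZero ((Scheme.Modules.restrictFunctor U.ι).obj P) :=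
      isZero_of_sections ((Scheme.Modules.restrictFunctor U.ι).obj P) fun V s =>
        eq_zero_of_disjoint (Coh.structureModule C) (V := U.ι ''ᵁ V) (by
        rintro _ ⟨y, -, rfl⟩ hy
        exact hC _ hy y.2) s
    haveI : IsIso ((Scheme.Modules.restrictFunctor U.ι).map S'.ι) := by
      rw [Scheme.Modules.Hom.isIso_iff_isIso_app]
      intro V
      rw [ConcreteCategory.isIso_iff_bijective]
      refine ⟨S'.ι_app_injective _, fun s => (S'.range_ι_app (U.ι ''ᵁ V) s).2 ?_⟩
      exact mem_codimOne_of_le (U.ι_image_le V) _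
    exact ⟨(Scheme.Modules.restrictFunctor U.ι).mapBiprod _ _ ≪≫ (isoBiprodZero hz).symm ≪≫
      asIso ((Scheme.Modules.restrictFunctor U.ι).map S'.ι) ≪≫
      (Scheme.Modules.restrictFunctorAdjCounitIso U.ι).app L⟩

end Groth.Agent.S0234
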