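import Groth.Statements.S1576
import Groth.Agent.WeakAssLib.Basic
import Groth.Agent.QC.Coherent

set_option autoImplicit false
universe u
open CategoryTheory CategoryTheory.Limits AlgebraicGeometry
open Divisors

namespace Groth.Agent.S1576

/-- Let X be locally Noetherian and F coherent. Then the associated points of F lying in any
quasi-compact open subset form a finite set. -/
theorem result (X : Scheme.{u}) [IsLocallyNoetherian X]
    (F : X.Modules) (hF : Coh.IsCoh F) (U : X.Opens) (hU : IsCompact (U : Set X)) :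
    {x : X | x ∈ U ∧ Curv2.IsAssPoint F x}.Finite := by
  classical
  have key : ∀ V : X.affineOpens, {x : X | x ∈ V.1 ∧ Curv2.IsAssPoint F x}.Finite := fun V => by
    have hq := (Groth.Agent.QC.isCoh_iff_finite_sections.1 hF)
    have := hq.2 V
    have : IsNoetherianRing Γ(X, V.1) := IsLocallyNoetherian.component_noetherian V
    have : Finite (associatedPrimes Γ(X, V.1) Γ(F, V.1)) :=
      (associatedPrimes.finite Γ(X, V.1) Γ(F, V.1)).to_subtype
    have h0 : ∀ x : {x : X | x ∈ V.1 ∧ Curv2.IsAssPoint F x},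
        (V.2.primeIdealOf ⟨x.1, x.2.1⟩).asIdeal ∈ associatedPrimes Γ(X, V.1) Γ(F, V.1) := fun ⟨x, hxV, hx⟩ => by
      obtain ⟨s, hs⟩ := (Groth.Agent.WeakAssLib.isWeakAssPoint_iff V.2
        (Groth.Agent.QC.isLoc_of_isQCoh V.2 (hM := hF.1)) hxV).1 ((Groth.Agent.WeakAssLib.isAssPoint_iff F x).1 hx)
      have hs' : (V.2.primeIdealOf ⟨x, hxV⟩).asIdeal ∈
          Ideal.minimalPrimes (Submodule.colon (⊥ : Submodule Γ(X, V.1) Γ(F, V.1)) {s}) := by
        convert hs using 2
        ext r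
        simp [Submodule.mem_colon_singleton]
      obtain ⟨t, ht⟩ := Submodule.exists_eq_colon_of_mem_minimalPrimes hs'
      exact ⟨(V.2.primeIdealOf ⟨x, hxV⟩).isPrime, t,
        ((congrArg Ideal.radical ht.symm).trans (V.2.primeIdealOf ⟨x, hxV⟩).isPrime.radical).symm⟩
    refine Set.finite_coe_iff.1 (Finite.of_injective
      (fun x => (⟨_, h0 x⟩ : associatedPrimes Γ(X, V.1) Γ(F, V.1))) fun x y h => ?_)
    have h1 : V.2.primeIdealOf ⟨x.1, x.2.1⟩ = V.2.primeIdealOf ⟨y.1, y.2.1⟩ :=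
      PrimeSpectrum.ext (congrArg Subtype.val h)
    exact Subtype.ext ((V.2.fromSpec_primeIdealOf _).symm.trans
      ((congrArg V.2.fromSpec.base h1).trans (V.2.fromSpec_primeIdealOf _)))
  obtain ⟨S, hS⟩ := hU.elim_finite_subcover (fun V : X.affineOpens => (V.1 : Set X)) (fun V => V.1.2)
    (fun x _ => by
      obtain ⟨V, hV, hx, -⟩ := exists_isAffineOpen_mem_and_subset (X := X) (U := ⊤) (trivial : x ∈ (⊤ : X.Opens))
      exact Set.mem_iUnion.mpr ⟨⟨V, hV⟩, hx⟩)
  refine (S.finite_toSet.biUnion fun V _ => key V).subset fun x hx => ?_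
  obtain ⟨V, hV, hxV⟩ := Set.mem_iUnion₂.1 (hS hx.1)
  exact Set.mem_biUnion hV ⟨hxV, hx.2⟩

end Groth.Agent.S1576
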