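import Groth.Statements.S7552
import Mathlib

set_option linter.style.haveILetI false

set_option autoImplicit false
universe u
open PtTop

namespace Groth.Agent.S7552

/-- Chains lift along a map with a lifting property. -/
lemma exists_lift {X : Type u} {Y : Type u} (f : X → Y) (r : X → X → Prop) (t : Y → Y → Prop)
    (h : ∀ ⦃x : X⦄ ⦃y : Y⦄, t (f x) y → ∃ x', r x x' ∧ f x' = y) :
    ∀ (n : ℕ) (p : Fin (n + 1) → Y), (∀ i : Fin n, t (p i.castSucc) (p i.succ)) →
      ∀ x, f x = p 0 → ∃ q : Fin (n + 1) → X, q 0 = x ∧ (∀ i : Fin n, r (q i.castSucc) (q i.succ)) ∧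
        ∀ i, f (q i) = p i := by
  intro n
  induction n with
  | zero =>
    intro p _ x hx
    exact ⟨fun _ => x, rfl, fun i => i.elim0, fun i => by rw [hx, Subsingleton.elim (α := Fin 1) i 0]⟩
  | succ n ih =>
    intro p hp x hx
    obtain ⟨x', hr, hx'⟩ := h (show t (f x) (p 1) from hx ▸ hp 0)
    obtain ⟨q, hq0, hq, hfq⟩ := ih (fun i => p i.succ) (fun i => by
      rw [Fin.succ_castSucc]; exact hp i.succ) x' hx'
    refine ⟨Fin.cons x q, rfl, fun i => ?_, fun i => ?_⟩
    · cases i using Fin.cases with
      | zero => simpa [hq0] using hr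
      | succ j => simpa [← Fin.succ_castSucc] using hq j
    · cases i using Fin.cases with
      | zero => simpa using hx
      | succ j => simpa using hfq j


/-- Let f : X → Y be a continuous surjective map of topological spaces with Y sober, and assume that
specializations lift along f or that generalizations lift along f. Then dim X ≥ dim Y (Krull
dimensions as suprema of lengths of chains of irreducible closed subsets). -/
theorem result {X Y : Type u}
    [TopologicalSpace X] [TopologicalSpace Y] [QuasiSober Y] [T0Space Y]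
    (f : X → Y) (hf : Continuous f) (hsurj : Function.Surjective f)
    (hlift : SpecializingMap f ∨ GeneralizingMap f) :
    topologicalKrullDim Y ≤ topologicalKrullDim X := by
  unfold topologicalKrullDim Order.krullDim
  refine iSup_le fun s => ?_
  letI := specializationOrder Y
  let e := irreducibleSetEquivPoints (α := Y)
  let p : Fin (s.length + 1) → Y := fun i => e (s i)
  have hp : ∀ i : Fin s.length, p i.succ ⤳ p i.castSucc ∧ ¬ p i.castSucc ⤳ p i.succ := fun i => by
    have h : e (s i.castSucc) < e (s i.succ) := e.lt_iff_lt.mpr (s.step i)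
    rw [lt_iff_le_not_ge] at h
    exact h
  obtain ⟨q, hq, hfq⟩ : ∃ q : Fin (s.length + 1) → X,
      (∀ i : Fin s.length, q i.succ ⤳ q i.castSucc) ∧ ∀ i, f (q i) = p i := by
    rcases hlift with h | h
    · obtain ⟨x, hx⟩ := hsurj (p (Fin.rev 0))
      obtain ⟨q, -, hq, hfq⟩ := exists_lift f (fun a b => a ⤳ b) (fun a b => a ⤳ b)
        (fun a b hab => h hab) _ (fun i => p (Fin.rev i))
        (fun i => by rw [Fin.rev_castSucc, Fin.rev_succ]; exact (hp i.rev).1) x hx
      refine ⟨fun i => q (Fin.rev i), fun i => ?_, fun i => by rw [hfq, Fin.rev_rev]⟩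
      simp only [Fin.rev_succ, Fin.rev_castSucc]
      exact hq i.rev
    · obtain ⟨x, hx⟩ := hsurj (p 0)
      obtain ⟨q, -, hq, hfq⟩ := exists_lift f (fun a b => b ⤳ a) (fun a b => b ⤳ a)
        (fun a b hab => h hab) _ p (fun i => (hp i).1) x hx
      exact ⟨q, hq, hfq⟩
  refine le_iSup_of_le (LTSeries.mk s.length
    (fun i => ⟨closure {q i}, isIrreducible_singleton.closure, isClosed_closure⟩)
    (Fin.strictMono_iff_lt_succ.mpr fun i => ?_)) le_rfl
  refine lt_of_le_not_ge (fun z hz => (specializes_iff_closure_subset.mp (hq i)) hz) fun h => ?_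
  refine (hp i).2 ?_
  rw [← hfq, ← hfq]
  exact (specializes_iff_closure_subset.mpr h).map hf

end Groth.Agent.S7552
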