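import Groth.Statements.S8292
import Groth.Agent.RelProjLib.QMapId
import Groth.Agent.RelProjLib.GenOne

set_option linter.style.haveILetI false
set_option backward.isDefEq.respectTransparency false

set_option autoImplicit false
universe u
open CategoryTheory CategoryTheory.Limits AlgebraicGeometry Opposite TopologicalSpace
open scoped HomogeneousIdeal
noncomputable section
open EGA2

namespace Groth.Agent.S8292

/-- Let 𝒮 be a quasi-coherent positively graded O_Y-algebra generated by 𝒮_1, M a quasi-coherent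
O_Y-module and u : M → 𝒮_1 a surjective module map; let ū : Sym(M) → 𝒮 be the graded algebra
homomorphism extending u. Then the morphism Proj(𝒮) → P(M) = Proj(Sym(M)) induced by ū is a closed
immersion. -/
theorem result {Y PT PS : Scheme.{u}} (𝒮 𝒯 : RelProj.QCGrAlg Y)
    (hgen : 𝒮.IsGenDegOne) (M : Y.Modules) (hM : Coh.IsQCoh M)
    (u : M ⟶ 𝒮.toModule)
    (hu1 : ∀ (U : Y.Opens) (hU : IsAffineOpen U) (x : Γ(M, U)), (u.app U) x ∈ 𝒮.deg U hU 1)
    (husurj : ∀ (U : Y.Opens) (hU : IsAffineOpen U) (s : 𝒮.presheaf.obj (op U)), s ∈ 𝒮.deg U hU 1 →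
      ∃ x : Γ(M, U), (u.app U) x = s)
    (j : M ⟶ 𝒯.toModule) (hT : RelProj.IsGrSymAlg M 𝒯 j)
    (ubar : 𝒯.toQCAlg ⟶ 𝒮.toQCAlg) (hubar : RelProj.IsGradedHom ubar)
    (hju : j ≫ RelSpec.QCAlg.Hom.toModuleMap ubar = u)
    (hirr : ∀ (U : Y.Opens) (hU : IsAffineOpen U),
      (𝒮.deg U hU)₊ ≤ ((𝒯.deg U hU)₊).map (RelProj.gradedHomAt ubar hubar U hU))
    (pT : PT ⟶ Y) (pS : PS ⟶ Y)
    (chartT : ∀ (U : Y.Opens) (hU : IsAffineOpen U), (((pT ⁻¹ᵁ U : PT.Opens) : Scheme.{u}) ≅ Proj (𝒯.deg U hU)))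
    (chartS : ∀ (U : Y.Opens) (hU : IsAffineOpen U), (((pS ⁻¹ᵁ U : PS.Opens) : Scheme.{u}) ≅ Proj (𝒮.deg U hU)))
    (hPT : RelProj.IsRelProj 𝒯 pT chartT) (hPS : RelProj.IsRelProj 𝒮 pS chartS)
    (h : PS ⟶ PT) (hh : RelProj.IsRelProjMap ubar hubar hirr chartT chartS h) : IsClosedImmersion h := by
  classical
  refine Groth.Agent.RelProjLib.prop_of_map hPT hPS @IsClosedImmersion hh fun U hU => ?_
  refine IsZariskiLocalAtTarget.of_openCover (Proj.affineOpenCover (𝒯.deg U hU)).openCover fun s => ?_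
  have H := ProjLib.isPullback_awayι (𝒯.deg U hU) (RelProj.gradedHomAt ubar hubar U hU) (hirr U hU)
    s.2.2 s.1.2
  refine ProjLib.isClosedImmersion_pullback_snd H (IsClosedImmersion.spec_of_surjective _
    (Groth.Agent.RelProjLib.away_map_surjective_of_large _ 1 (fun k hk y hy => ?_) s.2.2 s.1.2))
  letI := ((SetLike.GradeZero.subring (𝒮.deg U hU)).subtype.comp (𝒮.strZero U hU).hom).toAlgebra
  have hpow := Groth.Agent.RelProjLib.deg_le_pow (𝒮.strZero U hU) (hgen U hU) k hk y hy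
  let I : Subring (𝒮.presheaf.obj (op U)) := (RelProj.gradedHomAt ubar hubar U hU).toRingHom.range
  have h1 : ∀ z ∈ Groth.Agent.RelProjLib.degMod (𝒮.strZero U hU) 1, z ∈ I := by
    intro z hz
    obtain ⟨x, rfl⟩ := husurj U hU z hz
    exact ⟨(j.app U) x, by rw [← hju]; rfl⟩
  have hI : y ∈ I := by
    clear hy
    obtain ⟨m, rfl⟩ := Nat.exists_eq_succ_of_ne_zero (by omega : k ≠ 0)
    clear hk
    induction m generalizing y with
    | zero => exact h1 y (by simpa using hpow)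
    | succ m ih =>
      rw [pow_succ] at hpow
      induction hpow using Submodule.mul_induction_on' with
      | mem_mul_mem p hp q hq => exact mul_mem (ih p hp) (h1 q hq)
      | add p _ q _ hp hq => exact add_mem hp hq
  obtain ⟨x, rfl⟩ := hI
  exact ⟨_, SetLike.coe_mem (DirectSum.decompose (𝒯.deg U hU) x k),
    (GradedRingHom.map_directSumDecompose _ _ _).trans (DirectSum.decompose_of_mem_same _ hy)⟩

end Groth.Agent.S8292
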