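import Groth.Statements.S8255
-- import your own Groth.Agent.* helpers here

set_option autoImplicit false
set_option linter.style.haveILetI false
set_option backward.isDefEq.respectTransparency false
universe u
open CategoryTheory CategoryTheory.Limits AlgebraicGeometry Opposite TopologicalSpace
open EGA2

namespace Groth.Agent.S8255

/-- Let S be a scheme and A a quasi-coherent O_S-algebra, and let π : Spec(A) → S be its relative
spectrum (glued from the affine schemes Spec A(U), U an affine open of S). Then the canonical
comparison map π_* O_{Spec(A)} → A (which over an affine open U is restriction to the chart Spec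
A(U) followed by Γ(Spec R) = R) is an isomorphism; in other words the direct-image algebra of
Spec(A) is A. -/
theorem result {S : Scheme.{u}} (A : RelSpec.QCAlg S) : IsIso A.gammaMap := by
  let G := Scheme.AffineZariskiSite.toOpensFunctor S
  let F₁ : TopCat.Sheaf CommRingCat.{u} S.carrier :=
    ⟨A.π.base _* A.spec.presheaf, TopCat.Sheaf.pushforward_sheaf_of_sheaf _ A.spec.sheaf.property⟩
  let F₂ : TopCat.Sheaf CommRingCat.{u} S.carrier := ⟨A.presheaf, A.isSheaf⟩
  have hres : IsIso (Functor.whiskerLeft G.op A.gammaMap) := by
    rw [show Functor.whiskerLeft G.op A.gammaMap = A.gammaRestrict from A.gammaMap_restrict]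
    have : ∀ U, IsIso (A.gammaRestrict.app U) := fun U => by
      show IsIso (A.gammaAff U.unop.1 U.unop.2)
      have hι : IsIso ((A.ι U.unop.1 U.unop.2).appLE (A.π ⁻¹ᵁ U.unop.1) ⊤ (A.top_le_preimage U.unop.1 U.unop.2)) := by
        generalize A.top_le_preimage U.unop.1 U.unop.2 = e
        revert e
        rw [A.π_preimage U.unop.1 U.unop.2, ← Scheme.Hom.image_top_eq_opensRange]
        intro e
        rw [← Scheme.Hom.appIso_hom']
        infer_instance
      exact IsIso.comp_isIso
    exact NatIso.isIso_of_isIso_app _
  have h := Functor.IsCoverDense.iso_of_restrict_iso (K := Opens.grothendieckTopology S) (G := G)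
    (ℱ := F₁) (ℱ' := F₂) ⟨A.gammaMap⟩ hres
  exact (inferInstance : IsIso ((sheafToPresheaf _ _).map (⟨A.gammaMap⟩ : F₁ ⟶ F₂)))

end Groth.Agent.S8255
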