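import Groth.Statements.S8268
import Groth.Agent.RelSpecUP.Basic
import Groth.Agent.QC.Basic


set_option linter.style.haveILetI false
set_option backward.isDefEq.respectTransparency false
universe v
open CategoryTheory CategoryTheory.Limits AlgebraicGeometry Opposite TopologicalSpace
namespace Groth.Agent.S8268
open RelSpec

variable {S : Scheme.{v}}

lemma toModuleMap_comp {A B C : QCAlg S} (φ : A ⟶ B) (ψ : B ⟶ C) :
    QCAlg.Hom.toModuleMap (φ ≫ ψ) = QCAlg.Hom.toModuleMap φ ≫ QCAlg.Hom.toModuleMap ψ := by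
  apply Scheme.Modules.hom_ext
  intro U
  ext x
  rfl

lemma toModuleMap_id (A : QCAlg S) : QCAlg.Hom.toModuleMap (𝟙 A) = 𝟙 A.toModule := by
  apply Scheme.Modules.hom_ext
  intro U
  ext x
  rfl

/-- A homomorphism injective over the affine opens is injective. -/
lemma injective_of_affine {A B : QCAlg S} (φ : A ⟶ B)
    (h : ∀ U : S.Opens, IsAffineOpen U → Function.Injective (φ.hom.app (op U))) (V : S.Opens) :
    Function.Injective (φ.hom.app (op V)) := by
  intro a b hab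
  refine TopCat.Sheaf.eq_of_locally_eq' (⟨A.presheaf, A.isSheaf⟩ : TopCat.Sheaf CommRingCat.{v} S.carrier)
    (fun W : {W : S.affineOpens // W.1 ≤ V} => W.1.1) V (fun W => homOfLE W.2) ?_ _ _ fun W => ?_
  · intro y hy
    obtain ⟨_, ⟨W, hW, rfl⟩, hyW, hle⟩ :=
      S.isBasis_affineOpens.exists_subset_of_mem_open (show y ∈ V from hy) V.isOpen
    exact Opens.mem_iSup.2 ⟨⟨⟨W, hW⟩, hle⟩, hyW⟩
  · apply h W.1.1 W.1.2
    have n := φ.hom.naturality (homOfLE W.2).op
    exact (congr($n a)).trans ((congrArg _ hab).trans (congr($n b)).symm)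

lemma mono_toModuleMap {A B : QCAlg S} (φ : A ⟶ B)
    (h : ∀ V : S.Opens, Function.Injective (φ.hom.app (op V))) : Mono (QCAlg.Hom.toModuleMap φ) :=
  (Groth.Agent.QC.mono_iff_app_injective _).2 fun V => h V

end Groth.Agent.S8268


set_option autoImplicit false
universe u
open CategoryTheory CategoryTheory.Limits AlgebraicGeometry Opposite TopologicalSpace
open EGA2

namespace Groth.Agent.S8268

/-- A surjective homomorphism E → F of quasi-coherent O_S-modules induces a closed immersion V(F) → V(E)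
of the associated vector bundles (relative spectra of the symmetric algebras; the algebra map A → B
is the one extending E → F). -/
theorem result {S : Scheme.{u}} (E F : S.Modules) (hE : Coh.IsQCoh E)
    (hF : Coh.IsQCoh F) (u : E ⟶ F) [Epi u]
    (A B : RelSpec.QCAlg S) (j : E ⟶ A.toModule) (k : F ⟶ B.toModule)
    (hA : RelSpec.IsSymAlg E A j) (hB : RelSpec.IsSymAlg F B k)
    (ψ : A ⟶ B) (hψ : j ≫ RelSpec.QCAlg.Hom.toModuleMap ψ = u ≫ k) :
    IsClosedImmersion (RelSpec.QCAlg.specMap ψ) := by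
  let i := (RelSpec.QCAlg.specMap ψ).imageι
  let t := (RelSpec.QCAlg.specMap ψ).toImage
  haveI : IsAffineHom (RelSpec.QCAlg.specMap ψ) := by
    haveI : IsAffineHom (RelSpec.QCAlg.specMap ψ ≫ A.π) := by
      rw [RelSpec.QCAlg.specMap_π]; infer_instance
    exact IsAffineHom.of_comp _ A.π
  have hti : t ≫ i = RelSpec.QCAlg.specMap ψ := Scheme.Hom.toImage_imageι _
  haveI : IsClosedImmersion i := inferInstanceAs (IsClosedImmersion (RelSpec.QCAlg.specMap ψ).imageι)
  let πZ := i ≫ A.π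
  have htπ : t ≫ πZ = B.π := by
    change t ≫ i ≫ A.π = _
    rw [← Category.assoc, hti, RelSpec.QCAlg.specMap_π]
  let B' := RelSpec.QCAlg.directImage πZ
  let ψ₁ : A ⟶ B' := ⟨(Groth.Agent.RelSpecUP.toAlg A πZ ⟨i, rfl⟩).1,
    (Groth.Agent.RelSpecUP.toAlg A πZ ⟨i, rfl⟩).2⟩
  let ψ₂ : B' ⟶ B := ⟨AffAlg.algHom πZ B.π t htπ ≫ B.gammaMap, by
    change πZ.c ≫ _ = _
    rw [← Category.assoc, AffAlg.algHom_comm, B.π_c_gammaMap]⟩
  have h12 : ψ₁ ≫ ψ₂ = ψ := by
    apply RelSpec.QCAlg.hom_ext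
    change (inv A.gammaMap ≫ AffAlg.algHom A.π πZ i rfl) ≫ AffAlg.algHom πZ B.π t htπ ≫ B.gammaMap = ψ.hom
    rw [Category.assoc, ← Category.assoc (AffAlg.algHom _ _ _ _),
      ← Groth.Agent.RelSpecUP.algHom_comp]
    simp only [hti]
    rw [Groth.Agent.RelSpecUP.gammaMap_naturality, IsIso.inv_hom_id_assoc]
  have hinj : ∀ V : S.Opens, Function.Injective (ψ₂.hom.app (Opposite.op V)) := by
    refine injective_of_affine ψ₂ fun U hU => ?_
    have hb : Function.Bijective (B.gammaMap.app (Opposite.op U)) :=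
      ConcreteCategory.bijective_of_isIso ((asIso B.gammaMap).app (Opposite.op U)).hom
    change Function.Injective (B.gammaMap.app (Opposite.op U) ∘
      (AffAlg.algHom πZ B.π t htπ).app (Opposite.op U))
    refine hb.1.comp ?_
    rw [Groth.Agent.RelSpecUP.algHom_app, Scheme.Hom.appLE]
    generalize_proofs e
    have e' : t ⁻¹ᵁ (πZ ⁻¹ᵁ U) ≤ B.π ⁻¹ᵁ U := by rw [← Scheme.Hom.comp_preimage, htπ]
    haveI : IsIso (homOfLE e) := ⟨homOfLE e', Subsingleton.elim _ _, Subsingleton.elim _ _⟩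
    intro x y hxy
    exact Scheme.Hom.toImage_app_injective (RelSpec.QCAlg.specMap ψ) (U := ⟨A.π ⁻¹ᵁ U, hU.preimage A.π⟩)
      ((ConcreteCategory.bijective_of_isIso (B.spec.presheaf.map (homOfLE e).op)).1 hxy)
  haveI := mono_toModuleMap ψ₂ hinj
  have hk : (j ≫ RelSpec.QCAlg.Hom.toModuleMap ψ₁) ≫ RelSpec.QCAlg.Hom.toModuleMap ψ₂ = u ≫ k := by
    rw [Category.assoc, ← toModuleMap_comp, h12, hψ]
  let φ : F ⟶ B'.toModule := Abelian.epiDesc u (j ≫ RelSpec.QCAlg.Hom.toModuleMap ψ₁) (by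
    rw [← cancel_mono (RelSpec.QCAlg.Hom.toModuleMap ψ₂), Category.assoc, hk,
      ← Category.assoc, kernel.condition, zero_comp, zero_comp])
  obtain ⟨ψ₃, hψ₃, -⟩ := hB B' φ
  have hmon : ∀ {C : RelSpec.QCAlg S} (a b : C ⟶ B'), a ≫ ψ₂ = b ≫ ψ₂ → a = b := by
    intro C a b hab
    apply RelSpec.QCAlg.hom_ext
    ext V x
    exact hinj V congr(($hab).hom.app (Opposite.op V) x)
  have h32 : ψ₃ ≫ ψ₂ = 𝟙 B := by
    refine (hB B k).unique ?_ (by rw [toModuleMap_id, Category.comp_id])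
    rw [toModuleMap_comp, ← Category.assoc, hψ₃, ← cancel_epi u, ← Category.assoc,
      Abelian.comp_epiDesc, hk]
  have h23 : ψ₂ ≫ ψ₃ = 𝟙 B' := hmon _ _ (by rw [Category.assoc, h32, Category.comp_id, Category.id_comp])
  obtain ⟨⟨r, hr⟩, hr'⟩ := (Groth.Agent.RelSpecUP.toAlg_bijective B πZ).2 ⟨ψ₃.hom, ψ₃.comm⟩
  have hr'' : (Groth.Agent.RelSpecUP.toAlg B πZ ⟨r, hr⟩).1 = ψ₃.hom := congrArg Subtype.val hr'
  have hri : r ≫ RelSpec.QCAlg.specMap ψ = i := by
    have h1 := (Groth.Agent.RelSpecUP.toAlg_bijective A πZ).1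
      (a₁ := ⟨r ≫ RelSpec.QCAlg.specMap ψ, by rw [Category.assoc, RelSpec.QCAlg.specMap_π, hr]⟩)
      (a₂ := ⟨i, rfl⟩) ?_
    · exact congrArg Subtype.val h1
    · apply Subtype.ext
      rw [Groth.Agent.RelSpecUP.toAlg_specMap ψ πZ ⟨r, hr⟩, hr'']
      change (ψ ≫ ψ₃).hom = ψ₁.hom
      rw [← h12, Category.assoc, h23, Category.comp_id]
  have hrt : r ≫ t = 𝟙 _ := by
    rw [← cancel_mono i, Category.assoc, hti, hri, Category.id_comp]
  have htr : t ≫ r = 𝟙 _ := by
    have h1 := (Groth.Agent.RelSpecUP.toAlg_bijective B B.π).1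
      (a₁ := ⟨t ≫ r, by rw [Category.assoc, hr, htπ]⟩) (a₂ := ⟨𝟙 _, Category.id_comp _⟩) ?_
    · exact congrArg Subtype.val h1
    · apply Subtype.ext
      rw [Groth.Agent.RelSpecUP.toAlg_id]
      change inv B.gammaMap ≫ AffAlg.algHom B.π B.π (t ≫ r) (by rw [Category.assoc, hr, htπ]) = _
      rw [Groth.Agent.RelSpecUP.algHom_comp B.π πZ B.π r hr t htπ, ← Category.assoc]
      change (Groth.Agent.RelSpecUP.toAlg B πZ ⟨r, hr⟩).1 ≫ _ = _
      rw [hr'', ← cancel_mono B.gammaMap, Category.assoc, IsIso.inv_hom_id]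
      exact congrArg RelSpec.QCAlg.Hom.hom h32
  haveI : IsIso t := ⟨r, htr, hrt⟩
  rw [← hti]
  infer_instance


end Groth.Agent.S8268
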