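import Groth.Statements.S4871
import Groth.Agent.SchDense.Unit

set_option autoImplicit false
set_option linter.style.haveILetI false
set_option backward.isDefEq.respectTransparency false
universe u
open CategoryTheory AlgebraicGeometry
open EGA43
open Groth.Agent

namespace Groth.Agent.S4871

open CategoryTheory.Limits in
/-- Let f : X ⟶ S be flat and locally of finite presentation and U an open subscheme of X. Then U is
universally schematically dense in X relative to S, i.e. for every base change S' ⟶ S the preimage
of U in X ×_S S' is schematically dense, if and only if for every point s of S the trace U_s of U on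
the fibre X_s is schematically dense in X_s. -/
theorem result {X S : Scheme.{u}} (f : X ⟶ S) [Flat f]
    [LocallyOfFinitePresentation f] (U : X.Opens) :
    (∀ (S' : Scheme.{u}) (g : S' ⟶ S), CInt.IsSchematicallyDense ((pullback.fst f g) ⁻¹ᵁ U)) ↔
      ∀ s : S, CInt.IsSchematicallyDense ((f.fiberι s) ⁻¹ᵁ U) := by
  refine ⟨fun h s => h (Spec (S.residueField s)) (S.fromSpecResidueField s), fun h S' g => ?_⟩
  exact (SchDense.denseFor_unit_iff _).1 (SchDense.denseFor_of_iso (DerPerf.pullUnitIso (pullback.fst f g))
    (SchDense.denseFor_of_fibres f (QC.isQCoh_unit X) (SchDense.isFP_unit X) (SchDense.isFlatOver_unit f)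
      (fun s => SchDense.denseFor_of_iso (DerPerf.pullUnitIso (f.fiberι s)).symm ((SchDense.denseFor_unit_iff _).2 (h s)))
      (IsPullback.of_hasPullback f g)))

end Groth.Agent.S4871
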