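import Groth.Statements.S1664
import Groth.Agent.TMul.Ample
import Groth.Agent.TMul.AmpleCrit

set_option autoImplicit false
universe u
open CategoryTheory CategoryTheory.Limits AlgebraicGeometry
open Variety

set_option backward.isDefEq.respectTransparency false

namespace Groth.Agent.S1664

open TopologicalSpace TMul
open Groth.Agent.QC (res)

variable {X : Scheme.{u}}

/-- Every point is in the generating locus of some global section. -/
def Gen (L : X.Modules) : Prop :=
  ∀ x : X, ∃ s : Coh.structureModule X ⟶ L, x ∈ CohB1.genLocus L s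

lemma gen_of_globallyGenerated {L : X.Modules} (hL : PicF.IsInvertible L)
    (hg : Curv2.IsGloballyGenerated L) : Gen L := fun x => by
  obtain ⟨ι, p, hp⟩ := hg
  obtain ⟨V, g, hxV, hgen⟩ := exists_isGen hL x
  let p' : (∐ fun _ : ι => Coh.structureModule X) ⟶ L := p
  haveI : Epi p' := hp
  obtain ⟨t, W, hxW, -, hW⟩ := exists_isGen_of_epi_free p' hgen hxV
  refine ⟨homOf t, (mem_genLocus_iff _).2 ⟨W, hxW, ?_⟩⟩
  rw [val_homOf]
  exact hW


/-- Let X be quasi-compact. Suppose every point of X lies in the locus where some global section s of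
some globally generated invertible module L generates L, with that locus affine. Then X has an ample
invertible module. -/
theorem result (X : Scheme.{u}) [CompactSpace X]
    (h : ∀ x : X, ∃ (L : X.Modules) (s : Coh.structureModule X ⟶ L), PicF.IsInvertible L ∧ Curv2.IsGloballyGenerated L ∧
      x ∈ CohB1.genLocus L s ∧ IsAffineOpen (CohB1.genLocus L s)) :
    ∃ M : X.Modules, CohB1.IsAmple M := by
  classical
  choose L s hL hLg hx hU using h
  obtain ⟨S, hS⟩ := isCompact_univ.elim_finite_subcover (fun x : X => (CohB1.genLocus (L x) (s x) : Set X))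
    (fun x => (CohB1.genLocus (L x) (s x)).2) fun x _ => Set.mem_iUnion.2 ⟨x, hx x⟩
  have key : ∀ T : Finset X, T.Nonempty → ∃ M : X.Modules, PicF.IsInvertible M ∧ Gen M ∧
      ∀ y : X, (∃ i ∈ T, y ∈ CohB1.genLocus (L i) (s i)) → ∃ t : Coh.structureModule X ⟶ M,
        y ∈ CohB1.genLocus M t ∧ IsAffineOpen (CohB1.genLocus M t) := by
    intro T hT
    induction hT using Finset.Nonempty.cons_induction with
    | singleton a =>
      refine ⟨L a, hL a, gen_of_globallyGenerated (hL a) (hLg a), fun y hy => ⟨s a, ?_, hU a⟩⟩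
      obtain ⟨i, hi, hyi⟩ := hy
      rw [Finset.mem_singleton] at hi
      exact hi ▸ hyi
    | cons a T _ _ ih =>
      obtain ⟨M, hM, hMg, hMy⟩ := ih
      refine ⟨CohB1.tensorMod M (L a), isInvertible_tensorMod hM (hL a), fun y => ?_, fun y hy => ?_⟩
      · obtain ⟨t, ht⟩ := hMg y
        obtain ⟨t', ht'⟩ := gen_of_globallyGenerated (hL a) (hLg a) y
        exact ⟨SecTwist.tmulHom t t', by rw [genLocus_tmulHom hM (hL a)]; exact ⟨ht, ht'⟩⟩
      · obtain ⟨i, hi, hyi⟩ := hy
        rcases Finset.mem_cons.1 hi with rfl | hi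
        · obtain ⟨t, ht⟩ := hMg y
          refine ⟨SecTwist.tmulHom t (s i), ?_, ?_⟩
          · rw [genLocus_tmulHom hM (hL i)]; exact ⟨ht, hyi⟩
          · rw [genLocus_tmulHom hM (hL i), inf_comm]
            exact isAffineOpen_inf_genLocus hM t (hU i)
        · obtain ⟨t, ht, hta⟩ := hMy y ⟨i, hi, hyi⟩
          obtain ⟨t', ht'⟩ := gen_of_globallyGenerated (hL a) (hLg a) y
          refine ⟨SecTwist.tmulHom t t', ?_, ?_⟩
          · rw [genLocus_tmulHom hM (hL a)]; exact ⟨ht, ht'⟩
          · rw [genLocus_tmulHom hM (hL a)]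
            exact isAffineOpen_inf_genLocus (hL a) t' hta
  by_cases hne : S.Nonempty
  · obtain ⟨M, hM, -, hMy⟩ := key S hne
    refine ⟨M, hM, inferInstance, fun y => ?_⟩
    obtain ⟨i, hi, hyi⟩ := Set.mem_iUnion₂.1 (hS (Set.mem_univ y))
    obtain ⟨t, ht, hta⟩ := hMy y ⟨i, hi, hyi⟩
    exact ⟨0, SecTwist.powHom t 1, by rw [genLocus_powHom hM t 0]; exact ht,
      by rw [genLocus_powHom hM t 0]; exact hta⟩
  · refine ⟨Coh.structureModule X, fun y => ?_, inferInstance, fun y => ?_⟩ <;>
    · obtain ⟨i, hi, -⟩ := Set.mem_iUnion₂.1 (hS (Set.mem_univ y))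
      exact absurd ⟨i, hi⟩ hne

end Groth.Agent.S1664
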