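import Groth.Statements.S1551
import Groth.Agent.InvExt.Main
import Groth.Agent.AmpleDimOne.Pole
import Groth.Agent.S1664

set_option autoImplicit false
universe u
open CategoryTheory CategoryTheory.Limits AlgebraicGeometry
open Variety

set_option backward.isDefEq.respectTransparency false

namespace Groth.Agent.S1551

open TopologicalSpace
open Groth.Agent.InvExt Groth.Agent.AmpleDimOne
open Groth.Agent.QC (res resO res_res res_smul resO_resO)
open TMul (IsGen)

variable {X : Scheme.{u}}

/-- Sections generating everywhere give global generation. -/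
lemma isGloballyGenerated_of_gen {L : X.Modules}
    (h : ∀ x : X, ∃ s : Coh.structureModule X ⟶ L, x ∈ CohB1.genLocus L s) :
    Curv2.IsGloballyGenerated L := by
  choose s hs using h
  let p : (∐ fun _ : X => Coh.structureModule X) ⟶ L := Limits.Sigma.desc s
  haveI hp : Epi p := InvGen.epi_of_locally p fun O t x hx => by
    obtain ⟨V, hxV, hV⟩ := (TMul.mem_genLocus_iff (s x)).mp (hs x)
    obtain ⟨c, hc⟩ := (hV (O ⊓ V) inf_le_right).2 (res L inf_le_left t)
    simp only [TMul.res_val] at hc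
    refine ⟨O ⊓ V, inf_le_left, ⟨hx, hxV⟩,
      (Limits.Sigma.ι (fun _ : X => Coh.structureModule X) x).app (O ⊓ V) c, ?_⟩
    change (Limits.Sigma.ι (fun _ : X => Coh.structureModule X) x ≫ p).app (O ⊓ V) c = _
    rw [show Limits.Sigma.ι (fun _ : X => Coh.structureModule X) x ≫ p = s x from Limits.Sigma.ι_desc _ _,
      TMul.app_eq_smul]
    exact hc
  exact ⟨X, p, hp⟩

theorem exists_globallyGenerated [AlgebraicGeometry.IsNoetherian X] [X.IsSeparated]
    (hdim : topologicalKrullDim X ≤ 1) (x : X) :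
    ∃ (L : X.Modules) (s : Coh.structureModule X ⟶ L), PicF.IsInvertible L ∧
      Curv2.IsGloballyGenerated L ∧ x ∈ CohB1.genLocus L s ∧ IsAffineOpen (CohB1.genLocus L s) := by
  classical
  obtain ⟨U, hU, hxU, hfinE, hdisc⟩ := exists_dense_affine hdim x
  let E := {y : X // y ∉ U}
  haveI : Finite E := hfinE.to_subtype
  haveI := Fintype.ofFinite E
  choose W f hW hzW hone hWf _ using fun z : E =>
    exists_principal_nbhd U hdisc z.2 (ringKrullDim_stalk_le hdim z.1)
  choose ι hι v hv hpole using fun z : E =>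
    exists_valuations_point hdim hU z.2 (hW z) (hzW z) (hone z) (f z) (hWf z)
  haveI := hι
  haveI := Fintype.ofFinite (Σ z, ι z)
  obtain ⟨a, ha⟩ := exists_large (fun i : Σ z, ι z => v i.1 i.2) (fun i => hv i.1 i.2) Finset.univ
  choose N hN hP using fun z => hpole z a fun i => ha ⟨z, i⟩ (Finset.mem_univ _)
  let n := ∏ z, N z
  have hk : ∀ z, ∃ k, 0 < k ∧ n = N z * k := fun z => by
    obtain ⟨k, hk⟩ := Finset.dvd_prod_of_mem N (Finset.mem_univ z)
    refine ⟨k, Nat.pos_of_ne_zero fun h => ?_, hk⟩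
    have : 0 < n := Finset.prod_pos fun z _ => hN z
    rw [show n = _ from hk, h, mul_zero] at this
    exact lt_irrefl 0 this
  choose k hk0 hnk using hk
  choose W' hW'W Fz hzW' hFU hF1 using fun z => hP z (k z) (hk0 z)
  obtain ⟨F, σ, hF, hσ⟩ := exists_rankOne_unit U
  let b : ∀ z, Γ(X, W' z ⊓ U) := fun z => resO X (inf_le_right : W' z ⊓ U ≤ U) a ^ n
  have hb : ∀ z, resO X (inf_le_left : W' z ⊓ U ≤ W' z) (Fz z) * b z = 1 := fun z => by
    rw [show b z = _ ^ n from rfl, hnk z]
    exact hF1 z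
  let g : ∀ z, Γ(F, W' z ⊓ U) := fun z => b z • res F le_top σ
  have hg : ∀ z, IsGen (g z) := fun z => by
    refine TMul.isGen_smul ?_ (IsUnit.of_mul_eq_one_right _ (hb z))
    have := hσ.res (inf_le_right : W' z ⊓ U ≤ U)
    rwa [res_res] at this
  obtain ⟨L, hL, -, hs⟩ := exists_extension_sections hF g hg (fun z z' hne y hy => by
      by_contra hyU
      exact hne (Subtype.ext ((hone z y (hW'W z hy.1) hyU).symm.trans (hone z' y (hW'W z' hy.2) hyU))))
    fun y hy => ⟨⟨y, hy⟩, hzW' _⟩
  obtain ⟨s, -, hsU⟩ := hs σ Fz fun z => by rw [smul_smul, hb, one_smul]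
  have hsU' := hsU hσ hFU
  obtain ⟨τ, hτ⟩ := (hF.bij ⊤).2
    (resO X (inf_le_right : ⊤ ⊓ U ≤ U) a ^ n • res F le_top σ)
  obtain ⟨t, ht, -⟩ := hs τ (fun _ => 1) fun z => by
    have h1 := congrArg (res F (le_inf le_top inf_le_right : W' z ⊓ U ≤ ⊤ ⊓ U)) hτ
    rw [res_res, res_smul, map_pow, resO_resO, res_res] at h1
    rw [map_one, one_smul]
    exact h1
  refine ⟨L, s, hL, isGloballyGenerated_of_gen fun y => ?_, by rw [hsU']; exact hxU,
    by rw [hsU']; exact hU⟩
  by_cases hy : y ∈ U
  · exact ⟨s, by rw [hsU']; exact hy⟩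
  · refine ⟨t, ht ⟨y, hy⟩ ?_⟩
    rw [X.basicOpen_of_isUnit isUnit_one]
    exact hzW' ⟨y, hy⟩

/-- A Noetherian separated scheme of dimension one has an ample invertible module. -/
theorem result (X : Scheme.{u}) [IsNoetherian X] [X.IsSeparated]
    (hdim : topologicalKrullDim X = 1) : ∃ L : X.Modules, CohB1.IsAmple L := by
  exact Groth.Agent.S1664.result X fun x => exists_globallyGenerated hdim.le x

end Groth.Agent.S1551
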