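import Groth.Statements.S0294
import Mathlib

set_option autoImplicit false
universe u
open Pi1

namespace Groth.Agent.S0294

open AlgebraicGeometry CategoryTheory CategoryTheory.Limits in
/-- For a finite étale cover Y of a scheme X and a point ξ : Spec Ω → X with values in a field Ω, the
fibre of Y over ξ (the set of Ω-valued points of Y lying over ξ) is finite. -/
theorem result {X : Scheme.{u}} {Ω : Type u} [Field Ω] (ξ : Spec (CommRingCat.of Ω) ⟶ X) (Y : FEt.Cat X) :
    Finite (FEt.fiberObj ξ Y) := by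
  have : IsFinite Y.hom := Y.prop.1
  let P := pullback ξ Y.hom
  let F : FEt.fiberObj ξ Y → {s : Spec (CommRingCat.of Ω) ⟶ P // s ≫ pullback.fst ξ Y.hom = 𝟙 _} :=
    fun s => ⟨pullback.lift (𝟙 _) s.1 (by rw [Category.id_comp]; exact s.2.symm), pullback.lift_fst _ _ _⟩
  have hF : Function.Injective F := fun a b h => Subtype.ext (by
    have e : pullback.lift (f := ξ) (g := Y.hom) (𝟙 _) a.1 (by rw [Category.id_comp]; exact a.2.symm) =
      pullback.lift (𝟙 _) b.1 (by rw [Category.id_comp]; exact b.2.symm) := congrArg Subtype.val h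
    exact (pullback.lift_snd _ _ _).symm.trans ((congrArg (· ≫ pullback.snd ξ Y.hom) e).trans (pullback.lift_snd _ _ _)))
  suffices Finite {s : Spec (CommRingCat.of Ω) ⟶ P // s ≫ pullback.fst ξ Y.hom = 𝟙 _} from
    Finite.of_injective F hF
  have : IsFinite (pullback.fst ξ Y.hom) := inferInstance
  have : IsAffine P := isAffine_of_isAffineHom (pullback.fst ξ Y.hom)
  let φ : Ω →+* Γ(P, ⊤) := ((pullback.fst ξ Y.hom).appTop.hom).comp (Scheme.ΓSpecIso (CommRingCat.of Ω)).inv.hom
  have hfin : φ.Finite :=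
    (pullback.fst ξ Y.hom).finite_appTop.comp (RingHom.Finite.of_surjective _
      (ConcreteCategory.bijective_of_isIso (Scheme.ΓSpecIso (CommRingCat.of Ω)).inv).2)
  letI := φ.toAlgebra
  haveI : Module.Finite Ω Γ(P, ⊤) := hfin
  haveI : Finite (Γ(P, ⊤) →ₐ[Ω] Ω) := (linearIndependent_algHom_toLinearMap Ω Γ(P, ⊤) Ω).finite
  let G : {s : Spec (CommRingCat.of Ω) ⟶ P // s ≫ pullback.fst ξ Y.hom = 𝟙 _} → (Γ(P, ⊤) →ₐ[Ω] Ω) := fun s =>
    { toRingHom := (s.1.appTop ≫ (Scheme.ΓSpecIso (CommRingCat.of Ω)).hom).hom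
      commutes' := fun r => by
        have e : ((pullback.fst ξ Y.hom).appTop ≫ s.1.appTop) = 𝟙 _ := by
          rw [← Scheme.Hom.comp_appTop, s.2, Scheme.Hom.id_appTop]
        show ((Scheme.ΓSpecIso (CommRingCat.of Ω)).inv ≫ ((pullback.fst ξ Y.hom).appTop ≫ s.1.appTop) ≫
          (Scheme.ΓSpecIso (CommRingCat.of Ω)).hom).hom r = r
        rw [e]; simp }
  refine Finite.of_injective G fun a b h => Subtype.ext (ext_of_isAffine ?_)
  rw [← cancel_mono (Scheme.ΓSpecIso (CommRingCat.of Ω)).hom]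
  exact CommRingCat.hom_ext (congrArg AlgHom.toRingHom h)

end Groth.Agent.S0294
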