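import Groth.Statements.S1149
import Groth.Agent.FEtExp.Main
-- import your own Groth.Agent.* helpers here

set_option autoImplicit false
set_option linter.style.haveILetI false
set_option backward.isDefEq.respectTransparency false
universe u
open Pi1

namespace Groth.Agent.S1149

open AlgebraicGeometry CategoryTheory CategoryTheory.Limits Groth.Agent.FEtGal Groth.Agent.FEtRank
  Groth.Agent.FEtExp

noncomputable section

variable {X : Scheme.{u}} {U V W : FEt.Cat X}
  (ev : (FEt.restrict (str U)).obj W ⟶ (FEt.restrict (str U)).obj V) {T : Scheme.{u}} (g : T ⟶ X)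

/-- The comparison of `U_T ×_T W_T` with `W ×_X U`. -/
def pull : pullback (str ((FEt.restrict g).obj W)) (str ((FEt.restrict g).obj U)) ⟶
    pullback (str W) (str U) :=
  pullback.map _ _ _ _ (pullback.fst (str W) g) (pullback.fst (str U) g) g
    pullback.condition.symm pullback.condition.symm

theorem ev_cond : ev.left ≫ pullback.fst (str V) (str U) ≫ str V =
    pullback.snd (str W) (str U) ≫ str U := by
  rw [pullback.condition, ← Category.assoc]
  exact congrArg (· ≫ str U) (MorphismProperty.Over.w ev)

/-- The map of base changes to `U_T` induced by evaluation. -/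
def evT : (FEt.restrict (str ((FEt.restrict g).obj U))).obj ((FEt.restrict g).obj W) ⟶
    (FEt.restrict (str ((FEt.restrict g).obj U))).obj ((FEt.restrict g).obj V) :=
  MorphismProperty.Over.homMk
    (pullback.lift
      (pullback.lift (pull g ≫ ev.left ≫ pullback.fst (str V) (str U))
        (pullback.snd (str ((FEt.restrict g).obj W)) (str ((FEt.restrict g).obj U)) ≫
          str ((FEt.restrict g).obj U))
        (by
          simp only [Category.assoc, ev_cond ev]
          rw [pull, pullback.lift_snd_assoc, Category.assoc, pullback.condition]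
          rfl))
      (pullback.snd (str ((FEt.restrict g).obj W)) (str ((FEt.restrict g).obj U)))
      (pullback.lift_snd _ _ _))
    (pullback.lift_snd _ _ _)

/-- The map of base changes to `U_T` induced by a map `U_T ⟶ V_T`. -/
def homT (W : FEt.Cat X) (f : (FEt.restrict g).obj U ⟶ (FEt.restrict g).obj V) :
    (FEt.restrict (str ((FEt.restrict g).obj U))).obj ((FEt.restrict g).obj W) ⟶
      (FEt.restrict (str ((FEt.restrict g).obj U))).obj ((FEt.restrict g).obj V) :=
  MorphismProperty.Over.homMk
    (pullback.lift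
      (pullback.snd (str ((FEt.restrict g).obj W)) (str ((FEt.restrict g).obj U)) ≫ f.left)
      (pullback.snd (str ((FEt.restrict g).obj W)) (str ((FEt.restrict g).obj U)))
      ((Category.assoc _ _ _).trans
        (congrArg (pullback.snd (str ((FEt.restrict g).obj W)) _ ≫ ·) (MorphismProperty.Over.w f))))
    (pullback.lift_snd _ _ _)

variable {Ω : Type u} [Field Ω] {t : Spec (CommRingCat.of Ω) ⟶ T}

theorem evPt_evT (z : FEt.fiberObj t ((FEt.restrict g).obj W))
    (y : FEt.fiberObj t ((FEt.restrict g).obj U)) :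
    basePts g t V (evPt (evT ev g) z y) = evPt ev (basePts g t W z) (basePts g t U y) := by
  have hp : (pairPt z y).1 ≫ pull g = (pairPt (basePts g t W z) (basePts g t U y)).1 := by
    refine pullback.hom_ext ?_ ?_
    · rw [Category.assoc, pull, pullback.lift_fst, ← Category.assoc, pairPt_fst, pairPt_fst]
      rfl
    · rw [Category.assoc, pull, pullback.lift_snd, ← Category.assoc]
      exact (congrArg (· ≫ pullback.fst (str U) g) (pullback.lift_snd _ _ _)).trans
        (pullback.lift_snd _ _ _).symm
  refine Subtype.ext ?_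
  show (((pairPt z y).1 ≫ (evT ev g).left) ≫ pullback.fst _ _) ≫ pullback.fst (str V) g =
    ((pairPt (basePts g t W z) (basePts g t U y)).1 ≫ ev.left) ≫ pullback.fst (str V) (str U)
  rw [← hp]
  simp only [Category.assoc]
  refine congrArg ((pairPt z y).1 ≫ ·) ?_
  refine ((Category.assoc _ _ _).symm.trans (congrArg (· ≫ pullback.fst (str V) g)
    (pullback.lift_fst _ _ _))).trans (pullback.lift_fst _ _ _)

theorem evPt_homT (f : (FEt.restrict g).obj U ⟶ (FEt.restrict g).obj V)
    (z : FEt.fiberObj t ((FEt.restrict g).obj W)) (y : FEt.fiberObj t ((FEt.restrict g).obj U)) :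
    evPt (homT g W f) z y = fmap t f y := by
  refine Subtype.ext ?_
  rw [evPt_val, Category.assoc]
  refine (congrArg ((pairPt z y).1 ≫ ·) (pullback.lift_fst _ _ _)).trans ?_
  exact (Category.assoc _ _ _).symm.trans (congrArg (· ≫ f.left) (pullback.lift_snd _ _ _))

/-- The map `U_T ⟶ V_T` given by a `T`-point of `W`. -/
def toHom (s : {s : T ⟶ W.left // s ≫ W.hom = g}) :
    (FEt.restrict g).obj U ⟶ (FEt.restrict g).obj V :=
  MorphismProperty.Over.homMk
    (pullback.lift
      (pullback.lift (pullback.snd (str U) g ≫ s.1) (pullback.fst (str U) g)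
        (by rw [Category.assoc]; exact (congrArg (pullback.snd (str U) g ≫ ·) s.2).trans
              pullback.condition.symm) ≫ ev.left ≫ pullback.fst (str V) (str U))
      (pullback.snd (str U) g)
      ((Category.assoc _ _ _).trans
        ((congrArg (_ ≫ ·) ((Category.assoc _ _ _).trans (ev_cond ev))).trans
          ((pullback.lift_snd_assoc _ _ _ _).trans pullback.condition))))
    (pullback.lift_snd _ _ _)

/-- The point of `W` over `t ≫ g` given by a `T`-point of `W`. -/
def ptOf (t : Spec (CommRingCat.of Ω) ⟶ T) (s : {s : T ⟶ W.left // s ≫ W.hom = g}) :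
    FEt.fiberObj (t ≫ g) W :=
  ⟨t ≫ s.1, (Category.assoc _ _ _).trans (congrArg (t ≫ ·) s.2)⟩

theorem basePts_toHom (s : {s : T ⟶ W.left // s ≫ W.hom = g})
    (y : FEt.fiberObj t ((FEt.restrict g).obj U)) :
    basePts g t V (fmap t (toHom ev g s) y) = evPt ev (ptOf g t s) (basePts g t U y) := by
  refine Subtype.ext ?_
  show (y.1 ≫ (toHom ev g s).left) ≫ pullback.fst (str V) g =
    ((pairPt (ptOf g t s) (basePts g t U y)).1 ≫ ev.left) ≫ pullback.fst (str V) (str U)
  rw [Category.assoc, Category.assoc]
  refine (congrArg (y.1 ≫ ·) (pullback.lift_fst _ _ _)).trans ?_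
  rw [← Category.assoc]
  refine congrArg (· ≫ ev.left ≫ pullback.fst (str V) (str U)) (pullback.hom_ext ?_ ?_)
  · rw [Category.assoc, pullback.lift_fst, pairPt_fst]
    exact (Category.assoc _ _ _).symm.trans (congrArg (· ≫ s.1) y.2)
  · rw [Category.assoc, pullback.lift_snd]
    exact (pullback.lift_snd _ _ _).symm

theorem bijective_toHom (hev : IsExp U V W ev) : Function.Bijective (toHom ev g) := by
  refine ⟨fun s s' h => Subtype.ext ?_, fun f => ?_⟩
  · let σ : {s : T ⟶ W.left // s ≫ W.hom = g} → (one T ⟶ (FEt.restrict g).obj W) := fun r =>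
      MorphismProperty.Over.homMk
        (pullback.lift r.1 (𝟙 T) (r.2.trans (Category.id_comp g).symm)) (pullback.lift_snd _ _ _)
    have hσ : σ s = σ s' := hom_ext_of_forall_fmap _ _ fun Ω _ _ t x => by
      have hx : x.1 = t := (Category.comp_id _).symm.trans x.2
      have hz : ptOf g t s = ptOf g t s' := by
        refine (hev Ω (t ≫ g)).1 (funext fun u => ?_)
        obtain ⟨y, rfl⟩ := (basePts g t U).surjective u
        show evPt ev (ptOf g t s) _ = evPt ev (ptOf g t s') _
        rw [← basePts_toHom, ← basePts_toHom, h]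
      refine (basePts g t W).injective (Subtype.ext ?_)
      show (x.1 ≫ (σ s).left) ≫ pullback.fst (str W) g = (x.1 ≫ (σ s').left) ≫ pullback.fst _ _
      rw [Category.assoc, Category.assoc]
      refine (congrArg (x.1 ≫ ·) (pullback.lift_fst _ _ _)).trans
        (Eq.trans ?_ (congrArg (x.1 ≫ ·) (pullback.lift_fst _ _ _)).symm)
      rw [hx]
      exact congrArg Subtype.val hz
    exact (pullback.lift_fst _ _ _).symm.trans
      ((congrArg (fun k : one T ⟶ _ => k.left ≫ pullback.fst (str W) g) hσ).trans
        (pullback.lift_fst _ _ _))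
  · obtain ⟨E, i, hi⟩ := exists_agreement (evT ev g) (homT g W f)
    have hz : ∀ (Ω : Type u) [Field Ω] [IsAlgClosed Ω] (t : Spec (CommRingCat.of Ω) ⟶ T),
        ∃! z : FEt.fiberObj t ((FEt.restrict g).obj W), z ∈ Set.range (fmap t i) := fun Ω _ _ t => by
      obtain ⟨z₀, hz₀'⟩ := (hev Ω (t ≫ g)).2
        fun u => basePts g t V (fmap t f ((basePts g t U).symm u))
      have hz₀ : ∀ u, evPt ev z₀ u = basePts g t V (fmap t f ((basePts g t U).symm u)) :=
        congrFun hz₀'
      have hz₀' : ∀ z, z ∈ Set.range (fmap t i) ↔ basePts g t W z = z₀ := fun z => by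
        rw [(hi Ω t).2 z]
        refine ⟨fun h => (hev Ω (t ≫ g)).1 (funext fun u => ?_), fun h y => ?_⟩
        · show evPt ev _ u = evPt ev z₀ u
          rw [hz₀ u]
          obtain ⟨y, rfl⟩ := (basePts g t U).surjective u
          rw [Equiv.symm_apply_apply, ← evPt_homT g f z y, ← h y, evPt_evT]
        · refine (basePts g t V).injective ?_
          rw [evPt_evT, evPt_homT, h, hz₀, Equiv.symm_apply_apply]
      exact ⟨(basePts g t W).symm z₀, (hz₀' _).2 (Equiv.apply_symm_apply _ _),
        fun z hz => (Equiv.eq_symm_apply _).2 ((hz₀' z).1 hz)⟩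
    haveI : IsIso (toOne E) := isIso_of_forall_bijective _ fun Ω _ _ t => by
      haveI := subsingleton_fiber_one (X := T) t
      obtain ⟨z, ⟨e, he⟩, huniq⟩ := hz Ω t
      refine ⟨fun e₁ e₂ _ => (hi Ω t).1 ?_, fun b => ⟨e, Subsingleton.elim _ _⟩⟩
      rw [huniq _ ⟨e₁, rfl⟩, huniq _ ⟨e₂, rfl⟩]
    let σ : one T ⟶ (FEt.restrict g).obj W := inv (toOne E) ≫ i
    have hσw : σ.left ≫ pullback.snd (str W) g = 𝟙 T := MorphismProperty.Over.w σ
    refine ⟨⟨σ.left ≫ pullback.fst (str W) g, ?_⟩, ?_⟩
    · rw [Category.assoc]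
      exact (congrArg (σ.left ≫ ·) pullback.condition).trans
        ((reassoc_of% hσw) _)
    refine hom_ext_of_forall_fmap _ _ fun Ω _ _ t y => (basePts g t V).injective ?_
    let z : FEt.fiberObj t ((FEt.restrict g).obj W) := secPt σ t
    have hmem : z ∈ Set.range (fmap t i) := by
      refine ⟨secPt (inv (toOne E)) t, ?_⟩
      refine Subtype.ext ?_
      exact (Category.assoc _ _ _).trans
        (congrArg (t ≫ ·) (MorphismProperty.Comma.comp_left _ _).symm)
    rw [basePts_toHom, ← evPt_homT g f z y, ← ((hi Ω t).2 z).1 hmem y, evPt_evT]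
    refine congrArg (fun w => evPt ev w (basePts g t U y)) (Subtype.ext ?_)
    exact (Category.assoc _ _ _).symm

end

end Groth.Agent.S1149

namespace Groth.Agent.S1149

open AlgebraicGeometry CategoryTheory CategoryTheory.Limits in
/-- Let U and V be finite etale over a scheme X. Then some W finite etale over X has the following
property: for every morphism g : T ⟶ X the X-morphisms T ⟶ W are in bijection with the T-morphisms
U_T ⟶ V_T between the base changes. (The source's identification is moreover compatible with base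
change; only the bijections are asserted here.) -/
theorem result {X : Scheme.{u}} (U V : FEt.Cat X) :
    ∃ W : FEt.Cat X, ∀ (T : Scheme.{u}) (g : T ⟶ X),
      Nonempty ({s : T ⟶ W.left // s ≫ W.hom = g} ≃ ((FEt.restrict g).obj U ⟶ (FEt.restrict g).obj V)) := by
  obtain ⟨W, ev, hev⟩ := Groth.Agent.FEtExp.exists_isExp U V
  exact ⟨W, fun T g => ⟨Equiv.ofBijective _ (bijective_toHom ev g hev)⟩⟩

end Groth.Agent.S1149
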