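import Groth.Statements.S0392
import Groth.Agent.LocalCrit.Fibre

set_option autoImplicit false
universe u
open FlatMor

namespace Groth.Agent.S0392

open TensorProduct in
/-- Fibrewise criterion of flatness, Noetherian local form: for local homomorphisms R → S → S' of
Noetherian local rings and a nonzero finite S'-module M that is flat over R and whose reduction
modulo the maximal ideal of R is flat over the corresponding fibre ring of S, the ring S is flat
over R and M is flat over S. -/
theorem result {R S S' M : Type u} [CommRing R] [CommRing S] [CommRing S'] [IsLocalRing R] [IsLocalRing S] [IsLocalRing S']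
    [IsNoetherianRing R] [IsNoetherianRing S] [IsNoetherianRing S'] [Algebra R S] [Algebra S S'] [Algebra R S'] [IsScalarTower R S S']
    [IsLocalHom (algebraMap R S)] [IsLocalHom (algebraMap S S')]
    [AddCommGroup M] [Module S' M] [Module S M] [Module R M] [IsScalarTower S S' M] [IsScalarTower R S M]
    [Module.Finite S' M] [Nontrivial M] [Module.Flat R M]
    (h : Module.Flat (S ⧸ ((IsLocalRing.maximalIdeal R).map (algebraMap R S))) ((S ⧸ ((IsLocalRing.maximalIdeal R).map (algebraMap R S))) ⊗[S] M)) :
    Module.Flat R S ∧ Module.Flat S M := by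
  have hS : Module.Flat S M := by
    refine Groth.Agent.LocalCrit.flat_of_quotient_flat (R := S) (M := M) S'
      ((IsLocalRing.maximalIdeal R).map (algebraMap R S)) ?_ ?_ h
    · intro htop
      exact (IsLocalRing.maximalIdeal.isMaximal S).ne_top
        (top_le_iff.1 (htop ▸ Groth.Agent.LocalCrit.map_maximalIdeal_le (R := R) (S := S)))
    · exact Groth.Agent.LocalCrit.mulMap_map_injective (R := R) (S := S) (M := M)
        (Groth.Agent.LocalCrit.mulMap_injective (IsLocalRing.maximalIdeal R))
  haveI : Module.FaithfullyFlat S M := ⟨fun m hm htop => by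
    obtain rfl := IsLocalRing.eq_maximalIdeal hm
    have h1 : (⊤ : Submodule S' M) ≤ ((IsLocalRing.maximalIdeal S).map (algebraMap S S')) • ⊤ := by
      intro x _
      exact Groth.Agent.LocalCrit.smul_top_le_restrictScalars (R := S) (S := S') M _ (htop.symm ▸ Submodule.mem_top)
    have h2 := Submodule.eq_bot_of_le_smul_of_le_jacobson_bot _ _ Module.Finite.fg_top h1 (by
      rw [IsLocalRing.jacobson_eq_maximalIdeal (⊥ : Ideal S') bot_ne_top]
      exact Groth.Agent.LocalCrit.map_maximalIdeal_le (R := S) (S := S'))
    exact top_ne_bot h2⟩
  exact ⟨Groth.Agent.LocalCrit.flat_of_faithfullyFlat (R := R) (S := S) (M := M), hS⟩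

end Groth.Agent.S0392
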