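import Groth.Statements.S1684
import Groth.Agent.S1570
import Groth.Agent.CDivNormal.Primes
-- import your own Groth.Agent.* helpers here

set_option autoImplicit false
set_option backward.isDefEq.respectTransparency false
universe u
open CategoryTheory CategoryTheory.Limits AlgebraicGeometry TopologicalSpace
open SDiv

namespace Groth.Agent.S1684

/-- Let X be a locally Noetherian scheme and 𝓘 a quasi-coherent ideal sheaf whose closed subscheme D is
integral, of codimension 1 in X (the local ring of X at the generic point of D has dimension 1), and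
such that the local ring of X at every point of D is a unique factorisation domain. Then 𝓘 is the
ideal sheaf of an effective Cartier divisor. -/
theorem result (X : Scheme.{u}) [IsLocallyNoetherian X] (𝓘 : X.IdealSheafData)
    [IsIntegral 𝓘.subscheme]
    (hcodim : ringKrullDim (X.presheaf.stalk (𝓘.subschemeι (genericPoint ↥𝓘.subscheme))) = 1)
    (hufd : ∀ x : ↥X, x ∈ 𝓘.support → IsDomain (X.presheaf.stalk x) ∧ UniqueFactorizationMonoid (X.presheaf.stalk x)) :
    BlowUp.IsEffCartierIdeal 𝓘 := by
  classical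
  refine Groth.Agent.S1570.result X 𝓘 fun x hx U hxU => ?_
  obtain ⟨hdom, hu⟩ := hufd x hx
  let ι := 𝓘.subschemeι
  let η := ι (genericPoint ↥𝓘.subscheme)
  obtain ⟨x', hx'⟩ : ∃ x', ι x' = x := by
    have h : x ∈ Set.range ι := by rw [Scheme.IdealSheafData.range_subschemeι]; exact hx
    exact h
  have hηx : η ⤳ x := hx' ▸ ((genericPoint_spec _).specializes (Set.mem_univ x')).map ι.continuous
  have hηU : η ∈ U.1 := hηx.mem_open U.1.2 hxU
  let q := (U.2.primeIdealOf ⟨η, hηU⟩).asIdeal
  have hIq : 𝓘.ideal U = q := by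
    refine le_antisymm (fun a ha => ?_) (fun a ha => ?_)
    · by_contra hna
      have hmem : η ∈ X.basicOpen a := (Groth.Agent.WeakAssLib.mem_primeIdealOf U.2 hηU a).2 hna
      have hsupp : η ∈ 𝓘.support := by
        have h : η ∈ Set.range ι := ⟨_, rfl⟩
        rw [Scheme.IdealSheafData.range_subschemeι] at h
        exact h
      have h2 := (Scheme.IdealSheafData.mem_support_iff_of_mem (I := 𝓘) (U := U) hηU).1 hsupp
      rw [Scheme.mem_zeroLocus_iff] at h2
      exact h2 a ha hmem
    · rw [← 𝓘.ker_subschemeι_app U, RingHom.mem_ker]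
      refine AlgebraicGeometry.germ_injective_of_isIntegral (X := 𝓘.subscheme) (genericPoint ↥𝓘.subscheme)
        (show genericPoint ↥𝓘.subscheme ∈ ι ⁻¹ᵁ U.1 from hηU) ?_
      rw [map_zero]
      by_contra hne
      have hunit : IsUnit ((𝓘.subscheme.presheaf.germ (ι ⁻¹ᵁ U.1) (genericPoint ↥𝓘.subscheme) hηU).hom
          ((ι.app U.1).hom a)) := Ne.isUnit (fun e => hne e :
            (((𝓘.subscheme.presheaf.germ (ι ⁻¹ᵁ U.1) (genericPoint ↥𝓘.subscheme) hηU).hom
              ((ι.app U.1).hom a)) : 𝓘.subscheme.functionField) ≠ 0)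
      have h3 : genericPoint ↥𝓘.subscheme ∈ 𝓘.subscheme.basicOpen ((ι.app U.1).hom a) :=
        (𝓘.subscheme.mem_basicOpen _ _ hηU).2 hunit
      rw [← Scheme.preimage_basicOpen] at h3
      exact (Groth.Agent.WeakAssLib.mem_primeIdealOf U.2 hηU a).1 h3 ha
  have hP : (𝓘.ideal U).map (X.presheaf.germ U.1 x hxU).hom = Groth.Agent.CDivNormal.genPrime hηx := by
    rw [hIq]
    letI := (X.presheaf.germ U.1 x hxU).hom.toAlgebra
    haveI := U.2.isLocalization_stalk ⟨x, hxU⟩
    conv_rhs => rw [← IsLocalization.map_under (U.2.primeIdealOf ⟨x, hxU⟩).asIdeal.primeCompl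
      (X.presheaf.stalk x) (Groth.Agent.CDivNormal.genPrime hηx)]
    refine congrArg (Ideal.map _) ?_
    ext a
    exact (Groth.Agent.CDivNormal.germ_mem_genPrime hηx U.2 hxU a).symm
  rw [hP]
  let Q := Groth.Agent.CDivNormal.genPrime hηx
  have hlt : ∀ z w : X, w ⤳ z → w ≠ z → Order.coheight w + 1 ≤ Order.coheight z := fun z w h hne =>
    Order.coheight_add_one_le (lt_iff_le_not_ge.2 ⟨h, fun h' => hne (h.antisymm h').eq⟩)
  have hco : Order.coheight η = 1 := by
    rw [ringKrullDim_stalk_eq_coheight] at hcodim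
    exact_mod_cast hcodim
  obtain ⟨w₀, hw₀, hw₀P⟩ := Groth.Agent.CDivNormal.exists_genPrime_eq x (⊥ : Ideal (X.presheaf.stalk x))
  have hQ0 : Q ≠ ⊥ := by
    intro hbot
    -- some point lies strictly above the generic point of the subscheme
    have hpos : ∃ w, w ⤳ η ∧ w ≠ η := by
      by_contra hc
      push Not at hc
      have hmax : IsMax η := fun w hw => by rw [hc w hw]
      rw [Order.coheight_eq_zero.2 hmax] at hco
      exact zero_ne_one hco
    obtain ⟨w, hwη, hwne⟩ := hpos
    have hle := Groth.Agent.CDivNormal.genPrime_mono hwη hηx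
    rw [show Groth.Agent.CDivNormal.genPrime hηx = ⊥ from hbot, le_bot_iff] at hle
    have := Groth.Agent.CDivNormal.specializes_of_le hηx (hwη.trans hηx)
      (by rw [show Groth.Agent.CDivNormal.genPrime hηx = ⊥ from hbot]; exact bot_le)
    exact hwne (hwη.antisymm this).eq
  obtain ⟨p, hp, hpp⟩ := (inferInstance : Q.IsPrime).exists_mem_prime_of_ne_bot hQ0
  haveI : (Ideal.span {p}).IsPrime := (Ideal.span_singleton_prime hpp.ne_zero).2 hpp
  obtain ⟨z, hz, hzp⟩ := Groth.Agent.CDivNormal.exists_genPrime_eq x (Ideal.span {p})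
  have hzη : z ⤳ η := Groth.Agent.CDivNormal.specializes_of_le hz hηx (by
    rw [hzp]; exact (Ideal.span_singleton_le_iff_mem _).2 hp)
  by_cases hne : z = η
  · subst hne
    exact ⟨p, mem_nonZeroDivisors_of_ne_zero hpp.ne_zero, hzp⟩
  exfalso
  have hw₀z : w₀ ⤳ z := Groth.Agent.CDivNormal.specializes_of_le hw₀ hz (by rw [hw₀P]; exact bot_le)
  have hw₀ne : w₀ ≠ z := fun e => by
    subst e
    have h : Ideal.span {p} = (⊥ : Ideal (X.presheaf.stalk x)) := hzp.symm.trans hw₀P
    exact hpp.ne_zero (Ideal.span_singleton_eq_bot.1 h)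
  have h1 := (add_le_add_left ((add_le_add bot_le le_rfl).trans (hlt z w₀ hw₀z hw₀ne)) 1).trans (hlt η z hzη hne)
  rw [hco] at h1
  exact absurd h1 (by decide)

end Groth.Agent.S1684
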