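import Groth.Statements.S0320
import Mathlib
import Groth.Agent.LocH.Depth
-- import your own Groth.Agent.* helpers here

set_option autoImplicit false
universe u v
open LocCoh

namespace Groth.Agent.S0320

/-- For a finite module M over a Noetherian ring with IM ≠ M and x ∈ I a non-zero-divisor on M, the
I-depth of M/xM is one less than that of M. -/
theorem result (R : Type u) [CommRing R] [IsNoetherianRing R] (I : Ideal R) (M : Type u) [AddCommGroup M] [Module R M] [Module.Finite R M] (hIM : I • (⊤ : Submodule R M) ≠ ⊤) (x : R) (hx : x ∈ I) (hreg : IsSMulRegular M x) : LocCoh.idealDepth I (QuotSMulTop x M) + 1 = LocCoh.idealDepth I M := by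
  obtain ⟨t, ht⟩ := ENat.ne_top_iff_exists.1 (Groth.Agent.LocH.idealDepth_ne_top hIM)
  obtain ⟨hlow, hnt⟩ := (Groth.Agent.LocH.idealDepth_eq_iff t).1 ht.symm
  obtain ⟨k, rfl⟩ : ∃ k, t = k + 1 := by
    refine Nat.exists_eq_add_one_of_ne_zero fun h0 => ?_
    subst h0
    exact not_subsingleton_iff_nontrivial.2 hnt (Groth.Agent.LocH.subsingleton_of_isWeaklyRegular I [x] M
      (RingTheory.Sequence.IsWeaklyRegular.cons hreg (RingTheory.Sequence.IsWeaklyRegular.nil R _)) (by simpa using hx) 0 (by simp))
  have hS := Groth.Agent.LocH.smulSES_shortExact hreg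
  have hq : LocCoh.idealDepth I (QuotSMulTop x M) = k := by
    rw [Groth.Agent.LocH.idealDepth_eq_iff]
    refine ⟨fun i hi => Groth.Agent.LocH.subsingleton_X₃ hS i (hlow i (by omega)) (hlow (i + 1) (by omega)), ?_⟩
    rw [← not_subsingleton_iff_nontrivial]
    intro hs
    refine not_subsingleton_iff_nontrivial.2 hnt (subsingleton_of_forall_eq 0 fun z => ?_)
    obtain ⟨n, hn⟩ := Groth.Agent.LocH.isPowerTorsion I (k + 1) (ModuleCat.of R M) z
    have hzero : ∀ (n : ℕ) (z : LocCoh.H I (k + 1) M), x ^ n • z = 0 → z = 0 := by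
      intro n
      induction n with
      | zero => intro z hz; rwa [pow_zero, one_smul] at hz
      | succ n ih =>
        intro z hz
        have h1 : x • z = 0 := ih _ (by rwa [← mul_smul, ← pow_succ])
        obtain ⟨y, rfl⟩ := Groth.Agent.LocH.exact₁ hS k (x := z) ((Groth.Agent.LocH.map_smul_id_apply x (k + 1) z).trans h1)
        have h0 : y = 0 := hs.elim _ _
        rw [h0, map_zero]
        rfl
    exact hzero n z (hn _ (Ideal.pow_mem_pow hx n))
  rw [hq, ← ht, Nat.cast_succ]

end Groth.Agent.S0320
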