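import Groth.Statements.S4889
import Groth.Agent.Catenary.LocalDim
import Groth.Agent.Catenary.Space
import Groth.Agent.QC.Support
import Groth.Agent.QC.FiniteType
import Groth.Agent.LocFree.Rank

set_option autoImplicit false
universe u
open CategoryTheory AlgebraicGeometry
open EGA43

namespace Groth.Agent.S4889

open Groth.Agent in
theorem support_stalk {X : Scheme.{u}} {F : X.Modules} (hF : Coh.IsQCoh F) (x : X) (P : PrimeSpectrum (X.presheaf.stalk x)) :
    P ∈ Module.support (X.presheaf.stalk x) (F.presheaf.stalk x) ↔ X.fromSpecStalk x P ∈ CohB1.support F := by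
  haveI : F.IsQuasicoherent := hF
  obtain ⟨A, hA, hxA, -⟩ := exists_isAffineOpen_mem_and_subset (show x ∈ (⊤ : X.Opens) from trivial)
  letI := TopCat.Presheaf.algebra_section_stalk X.presheaf (⟨x, hxA⟩ : A)
  haveI := hA.isLocalization_stalk ⟨x, hxA⟩
  letI : Module Γ(X, A) (F.presheaf.stalk x) := Module.compHom (F.presheaf.stalk x) (X.presheaf.germ A x hxA).hom
  haveI : IsScalarTower Γ(X, A) (X.presheaf.stalk x) (F.presheaf.stalk x) :=
    IsScalarTower.of_algebraMap_smul fun _ _ => rfl
  obtain ⟨g, hg⟩ := LocFree.exists_stalkMap hA hF hxA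
  haveI := hg
  set p := (hA.primeIdealOf ⟨x, hxA⟩).asIdeal
  let q := PrimeSpectrum.comap (algebraMap Γ(X, A) (X.presheaf.stalk x)) P
  have hz : X.fromSpecStalk x P = hA.fromSpec q := by
    rw [← hA.fromSpecStalk_eq_fromSpecStalk hxA]
    rfl
  have hzA : X.fromSpecStalk x P ∈ A := by rw [hz, ← SetLike.mem_coe, ← hA.range_fromSpec]; exact ⟨q, rfl⟩
  have hqz : hA.primeIdealOf ⟨_, hzA⟩ = q :=
    hA.fromSpec.isOpenEmbedding.injective ((hA.fromSpec_primeIdealOf ⟨_, hzA⟩).trans hz)
  rw [← QC.mem_moduleSupport_iff hA hzA, hqz]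
  have hqp : q.asIdeal ≤ p := fun a ha => by
    by_contra hap
    exact P.2.ne_top (Ideal.eq_top_of_isUnit_mem _ ha
      (IsLocalization.map_units (M := p.primeCompl) (X.presheaf.stalk x) ⟨a, hap⟩))
  rw [← not_iff_not, Module.notMem_support_iff', Module.notMem_support_iff']
  constructor
  · intro h m
    obtain ⟨r, hr, hrm⟩ := h (g m)
    obtain ⟨⟨c, s⟩, hcs⟩ := IsLocalization.surj p.primeCompl r
    have hcq : c ∉ q.asIdeal := fun hc => by
      rcases P.2.mem_or_mem (show r * algebraMap Γ(X, A) (X.presheaf.stalk x) (s : Γ(X, A)) ∈ P.asIdeal by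
        rw [hcs]; exact hc) with h | h
      · exact hr h
      · exact s.2 (hqp h)
    have h1 : g (c • m) = g 0 := by
      rw [map_zero, map_smul, ← algebraMap_smul (X.presheaf.stalk x) c (g m), ← hcs, mul_comm, mul_smul, hrm, smul_zero]
    obtain ⟨b, hb⟩ := (IsLocalizedModule.eq_iff_exists p.primeCompl g).mp h1
    rw [smul_zero] at hb
    exact ⟨b.1 * c, q.asIdeal.primeCompl.mul_mem (fun h => b.2 (hqp h)) hcq, by rw [mul_smul]; exact hb⟩
  · intro h n
    obtain ⟨⟨m, s⟩, hms⟩ := IsLocalizedModule.surj p.primeCompl g n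
    obtain ⟨r, hr, hrm⟩ := h m
    refine ⟨algebraMap _ (X.presheaf.stalk x) r * algebraMap _ (X.presheaf.stalk x) (s : Γ(X, A)), fun hm => ?_, ?_⟩
    · rcases P.2.mem_or_mem hm with h | h
      · exact hr h
      · exact s.2 (hqp h)
    · rw [mul_smul, algebraMap_smul, algebraMap_smul, show (s : Γ(X, A)) • n = g m from hms, ← map_smul, hrm, map_zero]

open Groth.Agent in
theorem supportDim_stalk {X : Scheme.{u}} [IsLocallyNoetherian X] {F : X.Modules} (hF : Coh.IsCoh F) (x : X) :
    Module.supportDim (X.presheaf.stalk x) (F.presheaf.stalk x) =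
      topologicalKrullDim ↥{t : X | t ∈ CohB1.support F ∧ t ⤳ x} := by
  haveI : F.IsQuasicoherent := hF.1
  obtain ⟨A, hA, hxA, -⟩ := exists_isAffineOpen_mem_and_subset (show x ∈ (⊤ : X.Opens) from trivial)
  haveI := QC.finite_sections hA (M := F) hF.2
  haveI : Module.Finite (X.presheaf.stalk x) (F.presheaf.stalk x) := LocFree.finite_stalk hA hF.1 hxA
  rw [Module.supportDim_eq_ringKrullDim_quotient_annihilator, ← PrimeSpectrum.topologicalKrullDim_eq_ringKrullDim]
  let I := Module.annihilator (X.presheaf.stalk x) (F.presheaf.stalk x)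
  let g : PrimeSpectrum (X.presheaf.stalk x ⧸ I) → X :=
    fun q => X.fromSpecStalk x (PrimeSpectrum.comap (Ideal.Quotient.mk I) q)
  have hg : Topology.IsEmbedding g := (X.fromSpecStalk x).isEmbedding.comp
    (PrimeSpectrum.isClosedEmbedding_comap_of_surjective _ _ Ideal.Quotient.mk_surjective).isEmbedding
  have hr : Set.range g = {t : X | t ∈ CohB1.support F ∧ t ⤳ x} := by
    ext t
    constructor
    · rintro ⟨q, rfl⟩
      refine ⟨(support_stalk hF.1 x _).mp ?_, ?_⟩
      · rw [Module.support_eq_zeroLocus, PrimeSpectrum.mem_zeroLocus]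
        intro r hr
        show Ideal.Quotient.mk I r ∈ q.asIdeal
        rw [Ideal.Quotient.eq_zero_iff_mem.mpr hr]
        exact Ideal.zero_mem _
      · have : g q ∈ Set.range (X.fromSpecStalk x) := ⟨_, rfl⟩
        rwa [Scheme.range_fromSpecStalk] at this
    · rintro ⟨ht1, ht2⟩
      obtain ⟨b, rfl⟩ := Groth.Agent.EquidimPt.exists_fromSpecStalk_eq ht2
      obtain ⟨q, hq⟩ : b ∈ Set.range (PrimeSpectrum.comap (Ideal.Quotient.mk I)) := by
        rw [range_comap_of_surjective _ _ Ideal.Quotient.mk_surjective, Ideal.mk_ker]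
        have := (support_stalk hF.1 x b).mpr ht1
        rwa [Module.support_eq_zeroLocus] at this
      exact ⟨q, congrArg (X.fromSpecStalk x) hq⟩
  exact IsHomeomorph.topologicalKrullDim_eq _ (hg.toHomeomorph.trans (Homeomorph.setCongr hr)).isHomeomorph

/-- Stated as the dimension equality to which its two-line proof reduces it: let S be a locally
Noetherian Jacobson scheme whose local rings are universally catenary and whose irreducible
components are equidimensional (for every irreducible component S' and every closed point s of S',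
dim S' equals the dimension of the space of generizations of s in S'); let g : X ⟶ S be a morphism
locally of finite type, F a coherent O_X-module, Y its support and x a point of Y. Then dim(cl{x}) +
dim(F_x) = dim_x(Y), where dim(F_x) is the Krull dimension of the O_{X,x}-module F_x (the Krull
dimension of its support in Spec O_{X,x}) and dim_x(Y) is the local dimension of Y at x. (The
published statement reads prof*_x(F) = dim_x(Y) − coprof(F_x), with the rectified depth prof*_x(F) =
prof(F_x) + dim cl{x} and the codepth coprof(F_x) = dim(F_x) − prof(F_x); for the nonzero finitely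
generated module F_x this is the equality stated here. The published form of the special case in
which the base is X itself assumes only the Jacobson and universally-catenary conditions; this row
keeps the equidimensionality of the irreducible components of the base, which the proof uses and
without which the formula fails.) -/
theorem result {X S : Scheme.{u}} [IsLocallyNoetherian S]
    [JacobsonSpace S] (h2 : ∀ s : S, CAlg.IsUniversallyCatenary (S.presheaf.stalk s))
    (h3 : ∀ S' ∈ irreducibleComponents (S : Type u), ∀ s ∈ S', IsClosed ({s} : Set S) →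
      topologicalKrullDim (↥S' : Type u) = topologicalKrullDim ↥{t : S | t ∈ S' ∧ t ⤳ s})
    (g : X ⟶ S) [LocallyOfFiniteType g] (F : X.Modules) (hF : Coh.IsCoh F) (x : X) (hx : x ∈ CohB1.support F) :
    topologicalKrullDim ↥(closure ({x} : Set X)) + Module.supportDim ↑(X.presheaf.stalk x) ↑(F.presheaf.stalk x) =
      FlatMor.localDim ↥(CohB1.support F) ⟨x, hx⟩ := by
  haveI : IsLocallyNoetherian X := LocallyOfFiniteType.isLocallyNoetherian g
  haveI : JacobsonSpace X := LocallyOfFiniteType.jacobsonSpace g
  have hS := Groth.Agent.Catenary.closedDim_of_equidim h2 h3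
  have hX : Groth.Agent.Catenary.ClosedDim X := fun ζ => by
    obtain ⟨D, t, -, -, h⟩ := Groth.Agent.Catenary.closedDim_lft hS h2 g ζ
    exact ⟨D + t, h⟩
  have hcat : ∀ z : X, CAlg.IsCatenary (X.presheaf.stalk z) := fun z => by
    obtain ⟨V, hV, hzV, -⟩ := exists_isAffineOpen_mem_and_subset (U := (⊤ : S.Opens)) (x := g z) trivial
    obtain ⟨W, hW, hzW, hWV⟩ := exists_isAffineOpen_mem_and_subset (U := g ⁻¹ᵁ V) (x := z) hzV
    letI := (g.appLE V W hWV).hom.toAlgebra
    haveI : Algebra.FiniteType Γ(S, V) Γ(X, W) := g.finiteType_appLE hV hW hWV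
    exact Groth.Agent.Catenary.isCatenary_of_isUniversallyCatenary
      (Groth.Agent.Catenary.isUniversallyCatenary_stalk hW z hzW
        (Groth.Agent.Catenary.isUniversallyCatenary_of_finiteType
          (Groth.Agent.Catenary.isUniversallyCatenary_of_stalks hV fun s _ => h2 s)))
  rw [(Groth.Agent.Catenary.localDim_eq hX hcat (Groth.Agent.QC.isClosed_support hF.2) hx).1]
  exact congrArg _ (supportDim_stalk hF x)

end Groth.Agent.S4889
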