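import Groth.Statements.S9382
import Groth.Agent.ClosedUnion.Pushout

set_option linter.style.haveILetI false

set_option autoImplicit false
universe u
open QCohSub CategoryTheory AlgebraicGeometry

namespace Groth.Agent.S9382

open AlgebraicGeometry CategoryTheory in
/-- For closed subschemes Z, Y ⊆ X with ideal sheaves I, J, the scheme-theoretic intersection (ideal
sheaf I ⊔ J) together with its inclusions into Z and Y forms a cartesian square over X. -/
theorem result (X : Scheme.{u}) (I J : X.IdealSheafData) :
    IsPullback (Scheme.IdealSheafData.inclusion (le_sup_left : I ≤ I ⊔ J))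
      (Scheme.IdealSheafData.inclusion (le_sup_right : J ≤ I ⊔ J)) I.subschemeι J.subschemeι := by
  haveI : IsClosedImmersion (Scheme.IdealSheafData.inclusion (le_sup_left : I ≤ I ⊔ J) ≫ I.subschemeι) := by
    rw [Scheme.IdealSheafData.inclusion_subschemeι]; infer_instance
  haveI : IsClosedImmersion (Scheme.IdealSheafData.inclusion (le_sup_left : I ≤ I ⊔ J)) :=
    IsClosedImmersion.of_comp _ I.subschemeι
  refine isPullback_of_isClosedImmersion _ J.subschemeι _ I.subschemeι ?_ ?_
  · rw [Scheme.IdealSheafData.inclusion_subschemeι, Scheme.IdealSheafData.inclusion_subschemeι]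
  · rw [Scheme.IdealSheafData.ker_subschemeι, Groth.Agent.ClosedUnion.ker_inclusion_eq]

end Groth.Agent.S9382
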