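import Groth.Statements.S1618
import Groth.Agent.WeilLib.Trdeg
import Groth.Agent.BMCoh.Height

set_option autoImplicit false
universe u
open CategoryTheory CategoryTheory.Limits AlgebraicGeometry
open Variety

set_option backward.isDefEq.respectTransparency false
namespace Groth.Agent.S1618

/-- Let X be irreducible and locally of finite type over a field k. Then every nonempty open subset of X
has the same Krull dimension as X. -/
theorem result (k : Type u) [Field k] (X : Scheme.{u}) [X.Over (Spec (CommRingCat.of k))] [LocallyOfFiniteType (X ↘ (Spec (CommRingCat.of k)))] [IrreducibleSpace X]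
    (U : X.Opens) (hU : (U : Set X).Nonempty) : topologicalKrullDim U = topologicalKrullDim X := by
  let f := X ↘ Spec (CommRingCat.of k)
  have hη : genericPoint ↥X ∈ U := ((genericPoint_spec ↥X).mem_open_set_iff U.2).2 (by simpa using hU)
  let u : U.toScheme := ⟨genericPoint ↥X, hη⟩
  letI := specializationOrder U.toScheme
  letI := specializationOrder X
  haveI : LocallyOfFiniteType f := inferInstance
  haveI : LocallyOfFiniteType (U.ι ≫ f) := inferInstance
  letI := (Groth.Agent.WeilLib.kStr f (U.ι u)).toAlgebra
  letI := (Groth.Agent.WeilLib.kStr (U.ι ≫ f) u).toAlgebra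
  let r : X.residueField (U.ι u) →ₐ[k] U.toScheme.residueField u :=
    { (U.ι.residueFieldMap u).hom with
      commutes' := fun c => RingHom.congr_fun (Groth.Agent.WeilLib.kStr_comp (U.ι ≫ f) U.ι f rfl u) c }
  have hb : Function.Bijective r := ConcreteCategory.bijective_of_isIso (U.ι.residueFieldMap u)
  have h1 : Groth.Agent.WeilLib.trd f (U.ι u) = Groth.Agent.WeilLib.trd (U.ι ≫ f) u :=
    (AlgEquiv.ofBijective r hb).trdeg_eq
  rw [(Groth.Agent.WeilLib.exists_pdim_eq_trd f _).1, (Groth.Agent.WeilLib.exists_pdim_eq_trd (U.ι ≫ f) u).1,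
    Nat.cast_inj] at h1
  have hclU : closure ({u} : Set U.toScheme) = Set.univ := Set.eq_univ_of_forall fun y => by
    rw [← specializes_iff_mem_closure]
    exact (U.ι.isOpenEmbedding.isInducing.specializes_iff).1 (genericPoint_specializes (U.ι y))
  have hX : topologicalKrullDim ↥X = ((WeilCoh.pdim X (U.ι u) : ℕ∞) : WithBot ℕ∞) := by
    rw [← (Groth.Agent.WeilLib.exists_pdim_eq_trd f _).2, ← Groth.Agent.BMCoh.topologicalKrullDim_closure_singleton,
      show U.ι u = genericPoint ↥X from rfl, genericPoint_closure]
    exact (IsHomeomorph.topologicalKrullDim_eq _ (Homeomorph.Set.univ ↥X).isHomeomorph).symm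
  have hU' : topologicalKrullDim ↥U.toScheme = ((WeilCoh.pdim U.toScheme u : ℕ∞) : WithBot ℕ∞) := by
    rw [← (Groth.Agent.WeilLib.exists_pdim_eq_trd (U.ι ≫ f) u).2,
      ← Groth.Agent.BMCoh.topologicalKrullDim_closure_singleton, hclU]
    exact (IsHomeomorph.topologicalKrullDim_eq _ (Homeomorph.Set.univ ↥U.toScheme).isHomeomorph).symm
  rw [hX, h1]
  exact hU'

end Groth.Agent.S1618
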