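import Groth.Statements.S8291
import Groth.Agent.RelProjLib.Map
import Groth.Agent.RelProjLib.BaseChange

set_option linter.style.haveILetI false
set_option backward.isDefEq.respectTransparency false
set_option maxHeartbeats 1000000

open CategoryTheory CategoryTheory.Limits AlgebraicGeometry Opposite in
open scoped HomogeneousIdeal in
lemma Groth.Agent.S8291.chart_pullback.{v} {Y Y' : Scheme.{v}} (ψ : Y' ⟶ Y)
    (𝒮 : RelProj.QCGrAlg Y) (𝒮' : RelProj.QCGrAlg Y') (U : Y.Opens) (hU : IsAffineOpen U)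
    (U' : Y'.Opens) (hU' : IsAffineOpen U') (hle : U' ≤ ψ ⁻¹ᵁ U)
    (φ : 𝒮.deg U hU →+*ᵍ 𝒮'.deg U' hU')
    (hpo : IsPushout (ψ.appLE U U' hle) (𝒮.str.app (op U)) (𝒮'.str.app (op U'))
      (CommRingCat.ofHom φ.toRingHom))
    (hirr : (𝒮'.deg U' hU')₊ ≤ ((𝒮.deg U hU)₊).map φ) :
    IsPullback (Proj.map φ hirr) (Groth.Agent.RelProjLib.affBase 𝒮' U' hU')
      (Groth.Agent.RelProjLib.affBase 𝒮 U hU) (Spec.map (ψ.appLE U U' hle)) := by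
  letI := (ψ.appLE U U' hle).hom.toAlgebra
  letI := (𝒮.str.app (op U)).hom.toAlgebra
  letI := (𝒮'.str.app (op U')).hom.toAlgebra
  letI := φ.toRingHom.toAlgebra
  letI : Algebra Γ(Y, U) (𝒮'.presheaf.obj (op U')) :=
    ((𝒮'.str.app (op U')).hom.comp (ψ.appLE U U' hle).hom).toAlgebra
  haveI : IsScalarTower Γ(Y, U) Γ(Y', U') (𝒮'.presheaf.obj (op U')) :=
    IsScalarTower.of_algebraMap_eq fun r => rfl
  haveI : IsScalarTower Γ(Y, U) (𝒮.presheaf.obj (op U)) (𝒮'.presheaf.obj (op U')) :=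
    IsScalarTower.of_algebraMap_eq fun r => ConcreteCategory.congr_hom hpo.w r
  haveI : Algebra.IsPushout Γ(Y, U) Γ(Y', U') (𝒮.presheaf.obj (op U))
      (𝒮'.presheaf.obj (op U')) := CommRingCat.isPushout_iff_isPushout.mp hpo
  exact Groth.Agent.RelProjLib.isPullback_baseChange (R := Γ(Y, U)) (R' := Γ(Y', U')) φ
    (fun x => rfl) hirr (𝒮.strZero U hU) (𝒮'.strZero U' hU') (fun r => rfl) (fun r => rfl)

set_option autoImplicit false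
universe u
open CategoryTheory CategoryTheory.Limits AlgebraicGeometry Opposite TopologicalSpace
open scoped HomogeneousIdeal
noncomputable section
open EGA2

namespace Groth.Agent.S8291

/-- Let ψ : Y' → Y be a morphism, 𝒮 a quasi-coherent positively graded O_Y-algebra and 𝒮' = ψ^*𝒮,
presented as a quasi-coherent graded O_{Y'}-algebra with a graded ψ-morphism u : 𝒮 → ψ_*𝒮' whose
squares O_Y(U) → O_{Y'}(U'), 𝒮(U) → 𝒮'(U') over affine opens U' ⊆ ψ⁻¹(U) are pushouts of rings. If g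
: Proj(𝒮') → Proj(𝒮) is chartwise the morphism of homogeneous spectra induced by 𝒮(U) → 𝒮'(U'), then
Proj(𝒮') together with g and its structure morphism is the fibre product Proj(𝒮) ×_Y Y'. -/
theorem result {Y Y' P P' : Scheme.{u}} (ψ : Y' ⟶ Y) (𝒮 : RelProj.QCGrAlg Y)
    (𝒮' : RelProj.QCGrAlg Y') (u : 𝒮.presheaf ⟶ ψ.base _* 𝒮'.presheaf)
    (hu : 𝒮.str ≫ u = ψ.c ≫ (TopCat.Presheaf.pushforward CommRingCat.{u} ψ.base).map 𝒮'.str)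
    (φ : ∀ (U : Y.Opens) (hU : IsAffineOpen U) (U' : Y'.Opens) (hU' : IsAffineOpen U') (_ : U' ≤ ψ ⁻¹ᵁ U),
      𝒮.deg U hU →+*ᵍ 𝒮'.deg U' hU')
    (hφ : ∀ (U : Y.Opens) (hU : IsAffineOpen U) (U' : Y'.Opens) (hU' : IsAffineOpen U') (hle : U' ≤ ψ ⁻¹ᵁ U),
      (φ U hU U' hU' hle).toRingHom =
        ((u.app (op U) : 𝒮.presheaf.obj (op U) ⟶ 𝒮'.presheaf.obj (op (ψ ⁻¹ᵁ U))) ≫
          𝒮'.presheaf.map (homOfLE hle).op).hom)
    (hpo : ∀ (U : Y.Opens) (hU : IsAffineOpen U) (U' : Y'.Opens) (hU' : IsAffineOpen U') (hle : U' ≤ ψ ⁻¹ᵁ U),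
      IsPushout (ψ.appLE U U' hle) (𝒮.str.app (op U)) (𝒮'.str.app (op U'))
        ((u.app (op U) : 𝒮.presheaf.obj (op U) ⟶ 𝒮'.presheaf.obj (op (ψ ⁻¹ᵁ U))) ≫
          𝒮'.presheaf.map (homOfLE hle).op))
    (hirr : ∀ (U : Y.Opens) (hU : IsAffineOpen U) (U' : Y'.Opens) (hU' : IsAffineOpen U') (hle : U' ≤ ψ ⁻¹ᵁ U),
      (𝒮'.deg U' hU')₊ ≤ ((𝒮.deg U hU)₊).map (φ U hU U' hU' hle))
    (p : P ⟶ Y)
    (chart : ∀ (U : Y.Opens) (hU : IsAffineOpen U), (((p ⁻¹ᵁ U : P.Opens) : Scheme.{u}) ≅ Proj (𝒮.deg U hU)))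
    (hP : RelProj.IsRelProj 𝒮 p chart) (p' : P' ⟶ Y')
    (chart' : ∀ (U' : Y'.Opens) (hU' : IsAffineOpen U'), (((p' ⁻¹ᵁ U' : P'.Opens) : Scheme.{u}) ≅ Proj (𝒮'.deg U' hU')))
    (hP' : RelProj.IsRelProj 𝒮' p' chart') (g : P' ⟶ P)
    (hg : ∀ (U : Y.Opens) (hU : IsAffineOpen U) (U' : Y'.Opens) (hU' : IsAffineOpen U') (hle : U' ≤ ψ ⁻¹ᵁ U),
      (p' ⁻¹ᵁ U').ι ≫ g =
        (chart' U' hU').hom ≫ Proj.map (φ U hU U' hU' hle) (hirr U hU U' hU' hle) ≫ RelProj.emb p chart U hU) :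
    IsPullback g p' p ψ := by
  classical
  let ι := Σ U : Y.affineOpens, {U' : Y'.affineOpens // U'.1 ≤ ψ ⁻¹ᵁ U.1}
  let m : ∀ i : ι, Proj (𝒮'.deg i.2.1.1 i.2.1.2) ⟶ Proj (𝒮.deg i.1.1 i.1.2) := fun i =>
    Proj.map (φ i.1.1 i.1.2 i.2.1.1 i.2.1.2 i.2.2) (hirr i.1.1 i.1.2 i.2.1.1 i.2.1.2 i.2.2)
  have hg' : ∀ i : ι, m i ≫ RelProj.emb p chart i.1.1 i.1.2 =
      RelProj.emb p' chart' i.2.1.1 i.2.1.2 ≫ g := fun i => by
    change m i ≫ _ = ((chart' i.2.1.1 i.2.1.2).inv ≫ (p' ⁻¹ᵁ i.2.1.1).ι) ≫ g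
    rw [Category.assoc, hg i.1.1 i.1.2 i.2.1.1 i.2.1.2 i.2.2, Iso.inv_hom_id_assoc]
  have hphi : ∀ i : ι, IsPullback (m i) (Groth.Agent.RelProjLib.affBase 𝒮' i.2.1.1 i.2.1.2)
      (Groth.Agent.RelProjLib.affBase 𝒮 i.1.1 i.1.2) (Spec.map (ψ.appLE i.1.1 i.2.1.1 i.2.2)) := fun i => by
    refine Groth.Agent.S8291.chart_pullback ψ 𝒮 𝒮' i.1.1 i.1.2 i.2.1.1 i.2.1.2 i.2.2 _ ?_ _
    rw [hφ]
    exact hpo i.1.1 i.1.2 i.2.1.1 i.2.1.2 i.2.2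
  have hcovY : ∀ (y : Y'), ∀ U : Y.Opens, ψ y ∈ U → ∃ U' : Y'.affineOpens, U'.1 ≤ ψ ⁻¹ᵁ U ∧ y ∈ U'.1 := by
    intro y U hy
    obtain ⟨_, ⟨U', hU', rfl⟩, hyU', hle⟩ :=
      Y'.isBasis_affineOpens.exists_subset_of_mem_open (show y ∈ ψ ⁻¹ᵁ U from hy) (ψ ⁻¹ᵁ U).2
    exact ⟨⟨U', hU'⟩, hle, hyU'⟩
  have hcovP : ∀ x : P', ∃ i : ι, x ∈ (RelProj.emb p' chart' i.2.1.1 i.2.1.2).opensRange := by
    intro x
    obtain ⟨U, hU⟩ := TopologicalSpace.Opens.mem_iSup.mp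
      ((iSup_affineOpens_eq_top Y).ge (Set.mem_univ (ψ (p' x))))
    obtain ⟨U', hle, hx⟩ := hcovY (p' x) U.1 hU
    exact ⟨⟨U, U', hle⟩, by rw [Groth.Agent.RelProjLib.opensRange_emb]; exact hx⟩
  have w : g ≫ p = p' ≫ ψ := by
    let 𝒰 : P'.OpenCover := Scheme.Cover.mkOfCovers ι _
      (fun i => RelProj.emb p' chart' i.2.1.1 i.2.1.2) hcovP
      (fun i => inferInstanceAs (IsOpenImmersion (RelProj.emb p' chart' i.2.1.1 i.2.1.2)))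
    refine 𝒰.hom_ext _ _ fun i => ?_
    change RelProj.emb p' chart' i.2.1.1 i.2.1.2 ≫ g ≫ p =
      RelProj.emb p' chart' i.2.1.1 i.2.1.2 ≫ p' ≫ ψ
    rw [← Category.assoc, ← hg' i, Category.assoc, Groth.Agent.RelProjLib.emb_p hP, (hphi i).w_assoc,
      IsAffineOpen.SpecMap_appLE_fromSpec ψ i.1.2 i.2.1.2 i.2.2, Groth.Agent.RelProjLib.emb_p_assoc hP']
  refine Groth.Agent.RelProjLib.isPullback_of_charts w (ι := ι) _ _ (fun i => Spec Γ(Y', i.2.1.1))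
    (fun i => RelProj.emb p' chart' i.2.1.1 i.2.1.2) (fun i => RelProj.emb p chart i.1.1 i.1.2)
    (fun i => i.2.1.2.fromSpec) m (fun i => Groth.Agent.RelProjLib.affBase 𝒮' i.2.1.1 i.2.1.2) hg'
    (fun i => (Groth.Agent.RelProjLib.emb_p hP' _ _).symm) (fun i => ?_) (fun i => ?_) (fun x y hxy => ?_)
  · rw [Groth.Agent.RelProjLib.emb_p hP, ← IsAffineOpen.SpecMap_appLE_fromSpec ψ i.1.2 i.2.1.2 i.2.2]
    exact ⟨⟨by rw [(hphi i).w_assoc]⟩,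
      ⟨PullbackCone.isLimitOfCompMono _ _ i.1.2.fromSpec _ (hphi i).isLimit⟩⟩
  · rw [IsAffineOpen.opensRange_fromSpec, Groth.Agent.RelProjLib.opensRange_emb (𝒮 := 𝒮') (q := p') (ch := chart')]
    exact inf_le_right
  · obtain ⟨U, hU⟩ := TopologicalSpace.Opens.mem_iSup.mp
      ((iSup_affineOpens_eq_top Y).ge (Set.mem_univ (p x)))
    obtain ⟨U', hle, hy⟩ := hcovY y U.1 (hxy ▸ hU)
    exact ⟨⟨U, U', hle⟩, by rw [Groth.Agent.RelProjLib.opensRange_emb]; exact hU,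
      by rw [IsAffineOpen.opensRange_fromSpec]; exact hy⟩

end Groth.Agent.S8291
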