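import Groth.Statements.S12141
import Groth.Agent.RelProjLib.QMapPre
import Groth.Agent.RelProjLib.BaseChange
import Groth.Agent.RelSpecUP.QMap
import Groth.Agent.S8291

set_option linter.style.haveILetI false
set_option backward.isDefEq.respectTransparency false

open CategoryTheory CategoryTheory.Limits AlgebraicGeometry in
open scoped HomogeneousIdeal in
lemma Groth.Agent.S12141.irrelevant_le_of_isPushout.{v} {R R' A B : CommRingCat.{v}} {f : R ⟶ R'}
    {a : R ⟶ A} {b : R' ⟶ B} {σ τ : Type v} [SetLike σ A] [AddSubgroupClass σ A] [SetLike τ B]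
    [AddSubgroupClass τ B] {𝒜 : ℕ → σ} [GradedRing 𝒜] {ℬ : ℕ → τ} [GradedRing ℬ] (ψ : 𝒜 →+*ᵍ ℬ)
    (hb : ∀ r, b.hom r ∈ ℬ 0)
    (h : IsPushout f a b (CommRingCat.ofHom ψ.toRingHom)) : ℬ₊ ≤ (𝒜₊).map ψ := by
  classical
  letI := f.hom.toAlgebra
  letI := a.hom.toAlgebra
  letI := b.hom.toAlgebra
  letI := ψ.toRingHom.toAlgebra
  letI : Algebra R B := (b.hom.comp f.hom).toAlgebra
  haveI : IsScalarTower R R' B := IsScalarTower.of_algebraMap_eq fun r => rfl
  haveI : IsScalarTower R A B := IsScalarTower.of_algebraMap_eq fun r =>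
    ConcreteCategory.congr_hom h.w r
  haveI : Algebra.IsPushout R R' A B := CommRingCat.isPushout_iff_isPushout.mp h
  haveI : Algebra.IsPushout R A R' B := Algebra.IsPushout.symm inferInstance
  refine (HomogeneousIdeal.irrelevant_le _).mpr fun d hd y hy => ?_
  change y ∈ Ideal.map ψ ((𝒜₊).toIdeal)
  obtain ⟨t, rfl⟩ := (Algebra.IsPushout.equiv R A R' B).surjective y
  have key : ∀ t, (DirectSum.decompose ℬ (Algebra.IsPushout.equiv R A R' B t) d : B) ∈
      Ideal.map ψ ((𝒜₊).toIdeal) := by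
    intro t
    induction t with
    | zero => simp
    | add x y hx hy =>
      rw [map_add, DirectSum.decompose_add, DirectSum.add_apply, AddMemClass.coe_add]
      exact add_mem hx hy
    | tmul x r =>
      rw [Algebra.IsPushout.equiv_tmul, DirectSum.coe_decompose_mul_of_right_mem_zero ℬ (show algebraMap R' B r ∈ ℬ 0 from hb r)]
      change (DirectSum.decompose ℬ (ψ x) d : B) * _ ∈ _
      rw [← GradedRingHom.map_directSumDecompose]
      exact Ideal.mul_mem_right _ _ (Ideal.mem_map_of_mem _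
        (HomogeneousIdeal.mem_irrelevant_of_mem _ hd (SetLike.coe_mem _)))
  have := key t
  rwa [DirectSum.decompose_of_mem_same ℬ hy] at this

set_option autoImplicit false
universe u
open CategoryTheory CategoryTheory.Limits AlgebraicGeometry TopologicalSpace Opposite
open scoped HomogeneousIdeal
noncomputable section
open EGA2

namespace Groth.Agent.S12141

/-- Let ψ : Y' → Y be a morphism of schemes, 𝒮 a quasi-coherent positively graded O_Y-algebra and 𝒮' =
ψ^*𝒮, presented as a quasi-coherent graded O_{Y'}-algebra with a graded ψ-morphism u : 𝒮 → ψ_*𝒮'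
whose squares over affine opens U' ⊆ ψ⁻¹(U) are pushouts of rings; let P = Proj(𝒮), P' = Proj(𝒮')
with their charts. Then the morphism Proj(u) : P' → P is everywhere defined (its open of definition
G(u) is P' and it exists, pinned on the standard affine charts), and any such morphism identifies P'
with the fibre product P ×_Y Y'. -/
theorem result {Y Y' P P' : Scheme.{u}} (ψ : Y' ⟶ Y)
    (𝒮 : RelProj.QCGrAlg Y) (𝒮' : RelProj.QCGrAlg Y') (u : RelProj.QGrHom ψ 𝒮 𝒮')
    (hu : RelSpec.IsQBaseChange u.toQHom)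
    (p : P ⟶ Y) (chart : ∀ (U : Y.Opens) (hU : IsAffineOpen U), (((p ⁻¹ᵁ U : P.Opens) : Scheme.{u}) ≅ Proj (𝒮.deg U hU)))
    (hP : RelProj.IsRelProj 𝒮 p chart)
    (p' : P' ⟶ Y') (chart' : ∀ (U : Y'.Opens) (hU : IsAffineOpen U), (((p' ⁻¹ᵁ U : P'.Opens) : Scheme.{u}) ≅ Proj (𝒮'.deg U hU)))
    (hP' : RelProj.IsRelProj 𝒮' p' chart') :
    (∃ h : P' ⟶ P, RelProj.IsProjQMap u p chart p' chart' h) ∧
      ∀ h : P' ⟶ P, RelProj.IsProjQMap u p chart p' chart' h → IsPullback h p' p ψ := by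
  have hirr : ∀ (U : Y.Opens) (hU : IsAffineOpen U) (U' : Y'.Opens) (hU' : IsAffineOpen U')
      (hle : U' ≤ ψ ⁻¹ᵁ U), (𝒮'.deg U' hU')₊ ≤ ((𝒮.deg U hU)₊).map (u.gradedAt U hU U' hU' hle) :=
    fun U hU U' hU' hle => Groth.Agent.S12141.irrelevant_le_of_isPushout _
      (fun r => 𝒮'.str_mem U' hU' r) (hu U hU U' hU' hle)
  have hD : RelProj.domQ u p' chart' = ⊤ := by
    refine Groth.Agent.RelProjLib.domQ_eq_top_of_forall u hP' fun y => ?_
    obtain ⟨U, hU⟩ := TopologicalSpace.Opens.mem_iSup.mp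
      ((iSup_affineOpens_eq_top Y).ge (Set.mem_univ (ψ y)))
    obtain ⟨_, ⟨U', hU', rfl⟩, hy, hle⟩ :=
      Y'.isBasis_affineOpens.exists_subset_of_mem_open (show y ∈ ψ ⁻¹ᵁ U.1 from hU) (ψ ⁻¹ᵁ U.1).2
    exact ⟨U.1, U.2, U', hU', hle, hy, hirr _ _ _ _ _⟩
  haveI : IsIso (RelProj.domQ u p' chart').ι := by rw [hD]; exact (Scheme.topIso P').isIso_hom
  obtain ⟨v, hv, -⟩ := Groth.Agent.RelProjLib.existsUnique_qmap u hP hP'
  refine ⟨⟨inv (RelProj.domQ u p' chart').ι ≫ v, hD, fun U hU U' hU' hle d hd f hf => ?_⟩,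
    fun h hh => ?_⟩
  · let c : Groth.Agent.RelProjLib.Idx (g := ψ) (𝒮 := 𝒮) := ⟨U, hU, U', hU', hle, d, hd, f, hf⟩
    have hs : Groth.Agent.RelProjLib.src u p' chart' c ≫ inv (RelProj.domQ u p' chart').ι =
        Groth.Agent.RelProjLib.srcLift u p' chart' c := by
      rw [IsIso.comp_inv_eq, Groth.Agent.RelProjLib.srcLift_ι]
    have h2 : Groth.Agent.RelProjLib.src u p' chart' c ≫ inv (RelProj.domQ u p' chart').ι ≫ v =
        Groth.Agent.RelProjLib.tgt u p chart c := by
      rw [← Category.assoc, hs]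
      exact (Groth.Agent.RelProjLib.isProjQMapOn_iff u v).mp hv c
    exact h2
  · refine Groth.Agent.S8291.result ψ 𝒮 𝒮' (Groth.Agent.RelSpecUP.qNat u.toQHom) ?_
      (fun U hU U' hU' hle => u.gradedAt U hU U' hU' hle) (fun U hU U' hU' hle => rfl) ?_ hirr
      p chart hP p' chart' hP' h ?_
    · apply NatTrans.ext
      funext V
      exact u.toQHom.str_app V.unop
    · exact fun U hU U' hU' hle => hu U hU U' hU' hle
    · intro U hU U' hU' hle
      rw [← cancel_epi (chart' U' hU').inv, Iso.inv_hom_id_assoc, ← Category.assoc]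
      refine (Proj.mapAffineOpenCover (u.gradedAt U hU U' hU' hle) (hirr U hU U' hU' hle)).openCover.hom_ext
        _ _ fun s => ?_
      simp only [Scheme.AffineOpenCover.openCover_f, Proj.mapAffineOpenCover_f]
      rw [Proj.awayι_comp_map_assoc _ _ s.1.2 _ s.2.2]
      refine Eq.trans ?_ (hh.2 U hU U' hU' hle s.1 s.1.2 _ s.2.2)
      rw [← Category.assoc]
      rfl

end Groth.Agent.S12141
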