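import Groth.Statements.S8862
import Groth.Agent.BlowUpLib.Cartier

set_option autoImplicit false
universe u
open CategoryTheory CategoryTheory.Limits AlgebraicGeometry TopologicalSpace
open SDiv

namespace Groth.Agent.S8862

/-- Let f : X ⟶ Y be a morphism of schemes with X reduced and 𝓘 the ideal sheaf of an effective Cartier
divisor D ⊆ Y. If f ξ ∉ D for every generic point ξ of an irreducible component of X (every point of
X with no proper generization), then the inverse image ideal sheaf of 𝓘 on X is the ideal of an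
effective Cartier divisor. -/
theorem result {X Y : Scheme.{u}} [IsReduced X] (f : X ⟶ Y) (𝓘 : Y.IdealSheafData)
    (hD : BlowUp.IsEffCartierIdeal 𝓘)
    (h : ∀ ξ : ↥X, (∀ y : ↥X, y ⤳ ξ → y = ξ) → f ξ ∉ 𝓘.support) :
    BlowUp.IsEffCartierIdeal (𝓘.comap f) := by
  intro x
  obtain ⟨U, hxU, g, hg, he⟩ := hD (f.base x)
  obtain ⟨W, hW, hxW, hle⟩ := exists_isAffineOpen_mem_and_subset (X := X) (U := f ⁻¹ᵁ U.1) hxU
  refine ⟨⟨W, hW⟩, hxW, (f.appLE U.1 W hle).hom g, ?_, ?_⟩
  · have : _root_.IsReduced Γ(X, W) := IsReduced.component_reduced W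
    refine mem_nonZeroDivisors_iff_right.2 fun (a : Γ(X, W)) ha => ?_
    have hnil : a ∈ sInf (⊥ : Ideal Γ(X, W)).minimalPrimes := by
      refine Submodule.mem_sInf.2 fun (P : Ideal Γ(X, W)) hP => ?_
      have hPp : P.IsPrime := hP.1.1
      let q : Spec Γ(X, W) := ⟨P, hPp⟩
      let ξ := hW.fromSpec.base q
      have hξW : ξ ∈ W := by
        have : ξ ∈ Set.range hW.fromSpec.base := ⟨q, rfl⟩
        rwa [IsAffineOpen.range_fromSpec] at this
      have hmax : ∀ y : X, y ⤳ ξ → y = ξ := by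
        intro y hy
        obtain ⟨r, rfl⟩ : y ∈ Set.range hW.fromSpec.base := by
          rw [IsAffineOpen.range_fromSpec]; exact hy.mem_open W.isOpen hξW
        have hrq : r.asIdeal ≤ P :=
          (PrimeSpectrum.le_iff_specializes r q).2 (hW.fromSpec.isOpenEmbedding.isInducing.specializes_iff.1 hy)
        exact congrArg _ (PrimeSpectrum.ext (le_antisymm hrq (hP.2 ⟨r.isPrime, bot_le⟩ hrq)))
      have hb : ξ ∈ X.basicOpen ((f.appLE U.1 W hle).hom g) := by
        rw [Scheme.basicOpen_appLE]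
        exact ⟨hξW, (Groth.Agent.BlowUpLib.mem_basicOpen_of_notMem_support he (hle hξW)).1 (h ξ hmax)⟩
      have hgP : (f.appLE U.1 W hle).hom g ∉ P := by
        have : q ∈ hW.fromSpec ⁻¹ᵁ X.basicOpen ((f.appLE U.1 W hle).hom g) := hb
        rwa [hW.fromSpec_preimage_basicOpen] at this
      exact (hPp.mem_or_mem (ha ▸ P.zero_mem : a * (f.appLE U.1 W hle).hom g ∈ P)).resolve_right hgP
    rw [Ideal.sInf_minimalPrimes] at hnil
    exact IsNilpotent.eq_zero hnil
  · rw [Groth.Agent.FpqcDescent.ideal_comap_appLE 𝓘 f U ⟨W, hW⟩ hle, he, Ideal.map_span, Set.image_singleton]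

end Groth.Agent.S8862
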