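import Groth.Statements.S0386
import Groth.Agent.FlatSpread.Fp
import Mathlib.AlgebraicGeometry.Morphisms.FinitePresentation
import Mathlib.AlgebraicGeometry.Morphisms.Flat

set_option autoImplicit false
universe u
open FlatMor

namespace Groth.Agent.S0386

open AlgebraicGeometry CategoryTheory Limits in
/-- Openness of the flat locus: for a morphism f : X ⟶ S locally of finite presentation, the set of
points x of X at which the local ring O_{X,x} is flat over O_{S,f(x)} is open in X. (The published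
statement also treats the flat locus of a finitely presented quasi-coherent module; stated here for
the structure sheaf.) -/
theorem result {X S : Scheme.{u}} (f : X ⟶ S) [LocallyOfFinitePresentation f] :
    IsOpen {x : X | (f.stalkMap x).hom.Flat} := by
  refine isOpen_iff_forall_mem_open.2 fun x hx => ?_
  obtain ⟨V, hV, hxV, -⟩ := TopologicalSpace.Opens.isBasis_iff_nbhd.mp S.isBasis_affineOpens
    (TopologicalSpace.Opens.mem_top (f x))
  obtain ⟨U, hU, hxU, e⟩ := TopologicalSpace.Opens.isBasis_iff_nbhd.mp X.isBasis_affineOpens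
    (show x ∈ f ⁻¹ᵁ V from hxV)
  letI := (f.appLE V U e).hom.toAlgebra
  haveI : Algebra.FinitePresentation Γ(S, V) Γ(X, U) :=
    HasRingHomProperty.appLE @LocallyOfFinitePresentation f inferInstance ⟨V, hV⟩ ⟨U, hU⟩ e
  have key : ∀ y : U, (f.stalkMap y.1).hom.Flat ↔
      Module.Flat Γ(S, V) (LocalizedModule (hU.primeIdealOf y).asIdeal.primeCompl Γ(X, U)) := by
    intro y
    letI a1 : Algebra Γ(S, V) (S.presheaf.stalk (f y.1)) := S.presheaf.algebra_section_stalk ⟨f y.1, e y.2⟩
    haveI := hV.isLocalization_stalk ⟨f y.1, e y.2⟩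
    letI a2 : Algebra Γ(X, U) (X.presheaf.stalk y.1) := X.presheaf.algebra_section_stalk y
    haveI := hU.isLocalization_stalk y
    letI a3 : Algebra (S.presheaf.stalk (f y.1)) (X.presheaf.stalk y.1) := (f.stalkMap y.1).hom.toAlgebra
    letI a4 : Algebra Γ(S, V) (X.presheaf.stalk y.1) :=
      ((algebraMap Γ(X, U) (X.presheaf.stalk y.1)).comp (algebraMap Γ(S, V) Γ(X, U))).toAlgebra
    haveI : IsScalarTower Γ(S, V) Γ(X, U) (X.presheaf.stalk y.1) := IsScalarTower.of_algebraMap_eq fun _ => rfl
    haveI : IsScalarTower Γ(S, V) (S.presheaf.stalk (f y.1)) (X.presheaf.stalk y.1) := by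
      refine IsScalarTower.of_algebraMap_eq fun r => ?_
      change (X.presheaf.germ U y.1 y.2).hom ((f.appLE V U e).hom r) =
        (f.stalkMap y.1).hom ((S.presheaf.germ V (f y.1) (e y.2)).hom r)
      rw [← CommRingCat.comp_apply, ← CommRingCat.comp_apply]
      congr 2
      rw [Scheme.Hom.appLE]
      simp [Scheme.Hom.germ_stalkMap, TopCat.Presheaf.germ_res]
    haveI : IsLocalizedModule (hU.primeIdealOf y).asIdeal.primeCompl
        (Algebra.linearMap Γ(X, U) (X.presheaf.stalk y.1)) :=
      (isLocalizedModule_iff_isLocalization' _ _).2 inferInstance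
    let ee := (IsLocalizedModule.iso (hU.primeIdealOf y).asIdeal.primeCompl
        (Algebra.linearMap Γ(X, U) (X.presheaf.stalk y.1))).restrictScalars Γ(S, V)
    rw [Module.Flat.equiv_iff ee, RingHom.Flat]
    exact Module.flat_iff_of_isLocalization (R := Γ(S, V)) (S := S.presheaf.stalk (f y.1)) (M := X.presheaf.stalk y.1)
      (hV.primeIdealOf ⟨f y.1, e y.2⟩).asIdeal.primeCompl
  obtain ⟨W, hW, hWe⟩ := isOpen_induced_iff.1
    ((Groth.Agent.FlatSpread.isOpen_flatLocus (R := Γ(S, V)) (S := Γ(X, U)) (M := Γ(X, U))).preimage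
      hU.isoSpec.hom.continuous)
  refine ⟨(U : Set X) ∩ W, fun y hy => ?_, U.isOpen.inter hW, hxU, ?_⟩
  · exact (key ⟨y, hy.1⟩).2 ((Set.ext_iff.1 hWe ⟨y, hy.1⟩).1 hy.2)
  · exact (Set.ext_iff.1 hWe ⟨x, hxU⟩).2 ((key ⟨x, hxU⟩).1 hx)

end Groth.Agent.S0386
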