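import Groth.Statements.S4584
import Mathlib.AlgebraicGeometry.Morphisms.FinitePresentation
import Mathlib.AlgebraicGeometry.Morphisms.QuasiSeparated
import Mathlib.RingTheory.Spectrum.Prime.ConstructibleSet
import Mathlib.AlgebraicGeometry.Limits
import Mathlib.AlgebraicGeometry.AffineScheme

set_option autoImplicit false
universe u
open AlgebraicGeometry CategoryTheory Topology
open EGA41

namespace Groth.Agent.S4584

/-- Given a scheme X that is quasi-compact and quasi-separated, together with a constructible subset Z
of X, one can find an affine scheme X' with a morphism X' → X of finite presentation whose image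
equals Z. -/
theorem result (X : Scheme.{u}) [CompactSpace X]
    [QuasiSeparatedSpace X] (Z : Set X) (hZ : IsConstructible Z) :
    ∃ (X' : Scheme.{u}) (f : X' ⟶ X), IsAffine X' ∧ LocallyOfFinitePresentation f ∧ QuasiCompact f ∧
      QuasiSeparated f ∧ Set.range f.base = Z := by
  classical
  let 𝒰 := X.affineCover.finiteSubcover
  haveI hfin : Finite 𝒰.I₀ := by infer_instance
  have key : ∀ j : 𝒰.I₀, ∃ (ι : Type u) (_ : Finite ι) (R : ι → CommRingCat.{u})
      (g : ∀ i, Spec (R i) ⟶ 𝒰.X j), (∀ i, LocallyOfFinitePresentation (g i)) ∧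
      (⋃ i, Set.range (g i).base) = (𝒰.f j).base ⁻¹' Z := by
    intro j
    haveI : IsAffine (𝒰.X j) := by
      dsimp [𝒰]
      infer_instance
    let e := (𝒰.X j).isoSpec
    have hZj : IsConstructible (e.inv.base ⁻¹' ((𝒰.f j).base ⁻¹' Z)) := by
      have h1 := hZ.preimage_of_isOpenEmbedding (e.inv ≫ 𝒰.f j).isOpenEmbedding
      simpa [Scheme.Hom.comp_base, Set.preimage_comp] using h1
    obtain ⟨s, hs⟩ := (PrimeSpectrum.exists_constructibleSetData_iff).mpr hZj
    refine ⟨(s : Type u), inferInstance, fun C => CommRingCat.of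
      (Localization.Away (Ideal.Quotient.mk (Ideal.span (Set.range C.1.g)) C.1.f)),
      fun C => Spec.map (CommRingCat.ofHom ((algebraMap _
        (Localization.Away (Ideal.Quotient.mk (Ideal.span (Set.range C.1.g)) C.1.f))).comp
          (Ideal.Quotient.mk (Ideal.span (Set.range C.1.g))))) ≫ e.inv, fun C => ?_, ?_⟩
    · haveI : LocallyOfFinitePresentation (Spec.map (CommRingCat.ofHom ((algebraMap _
        (Localization.Away (Ideal.Quotient.mk (Ideal.span (Set.range C.1.g)) C.1.f))).comp
          (Ideal.Quotient.mk (Ideal.span (Set.range C.1.g)))))) := by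
        rw [HasRingHomProperty.Spec_iff (P := @LocallyOfFinitePresentation)]
        refine RingHom.FinitePresentation.comp ?_
          (RingHom.FinitePresentation.of_surjective _ Ideal.Quotient.mk_surjective
            (by rw [Ideal.mk_ker]; exact ⟨(Set.finite_range C.1.g).toFinset, by simp⟩))
        rw [RingHom.finitePresentation_algebraMap]
        exact IsLocalization.Away.finitePresentation (Ideal.Quotient.mk (Ideal.span (Set.range C.1.g)) C.1.f)
      infer_instance
    · have hr : ∀ C : (s : Type u), Set.range (Spec.map (CommRingCat.ofHom ((algebraMap _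
          (Localization.Away (Ideal.Quotient.mk (Ideal.span (Set.range C.1.g)) C.1.f))).comp
            (Ideal.Quotient.mk (Ideal.span (Set.range C.1.g)))))).base = C.1.toSet := by
        intro C
        show Set.range (PrimeSpectrum.comap ((algebraMap _
          (Localization.Away (Ideal.Quotient.mk (Ideal.span (Set.range C.1.g)) C.1.f))).comp
            (Ideal.Quotient.mk (Ideal.span (Set.range C.1.g))))) = _
        rw [PrimeSpectrum.comap_comp, Set.range_comp,
          PrimeSpectrum.localization_away_comap_range _ (Ideal.Quotient.mk (Ideal.span (Set.range C.1.g)) C.1.f),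
          ← PrimeSpectrum.comap_basicOpen, TopologicalSpace.Opens.coe_comap, ContinuousMap.coe_mk,
          Set.image_preimage_eq_inter_range,
          range_comap_of_surjective _ _ Ideal.Quotient.mk_surjective,
          PrimeSpectrum.BasicConstructibleSetData.toSet, Set.sdiff_eq_compl_inter,
          PrimeSpectrum.basicOpen_eq_zeroLocus_compl, Ideal.mk_ker, PrimeSpectrum.zeroLocus_span]
      have hu : (⋃ C : (s : Type u), C.1.toSet) = e.inv.base ⁻¹' ((𝒰.f j).base ⁻¹' Z) := by
        rw [← hs, PrimeSpectrum.ConstructibleSetData.toSet]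
        ext x; simp
      simp only [Scheme.Hom.comp_base, TopCat.coe_comp, Set.range_comp, hr]
      refine (Set.image_iUnion (f := e.inv.base) (s := fun C : (s : Type u) => C.1.toSet)).symm.trans ?_
      erw [hu]
      exact Set.image_preimage_eq _ (ConcreteCategory.bijective_of_isIso e.inv.base).2
  choose ι hι R g hg hrg using key
  let F : (Σ j, ι j) → Scheme.{u} := fun p => Spec (R p.1 p.2)
  let φ : ∀ p : Σ j, ι j, F p ⟶ X := fun p => g p.1 p.2 ≫ 𝒰.f p.1
  haveI : ∀ p, LocallyOfFinitePresentation (φ p) := fun p => by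
    haveI := hg p.1 p.2
    infer_instance
  haveI : Finite (Σ j, ι j) := inferInstance
  haveI : IsAffine (∐ F) := inferInstance
  refine ⟨∐ F, Limits.Sigma.desc φ, inferInstance, (haveI : IsZariskiLocalAtSource @LocallyOfFinitePresentation := HasRingHomProperty.instIsZariskiLocalAtSource
    IsZariskiLocalAtSource.sigmaDesc inferInstance),
    inferInstance, inferInstance, ?_⟩
  ext x
  constructor
  · rintro ⟨y, rfl⟩
    obtain ⟨p, y, rfl⟩ : ∃ (p : Σ j, ι j) (z : F p), (Limits.Sigma.ι F p).base z = y :=
      (sigmaOpenCover F).exists_eq y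
    have : (Limits.Sigma.desc φ).base ((Limits.Sigma.ι F p).base y) = (φ p).base y := by
      rw [← Scheme.Hom.comp_apply, Limits.Sigma.ι_desc]
    refine this.symm ▸ ?_
    have h2 : (g p.1 p.2).base y ∈ ⋃ i, Set.range (g p.1 i).base := Set.mem_iUnion.2 ⟨p.2, y, rfl⟩
    rw [hrg] at h2
    exact h2
  · intro hx
    obtain ⟨j, z, rfl⟩ := 𝒰.exists_eq x
    have : z ∈ ⋃ i, Set.range (g j i).base := (hrg j).symm ▸ hx
    obtain ⟨i, y, hy⟩ := Set.mem_iUnion.1 this
    refine ⟨(Limits.Sigma.ι F ⟨j, i⟩).base y, ?_⟩
    rw [← Scheme.Hom.comp_apply, Limits.Sigma.ι_desc, ← hy]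
    rfl

end Groth.Agent.S4584
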