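import Groth.Statements.S3398
import Mathlib
import Groth.Agent.ConsTop.Maps

set_option autoImplicit false
open CategoryTheory AlgebraicGeometry Topology
universe u
open EGA41

namespace Groth.Agent.S3398

/-- Let f : X' ⟶ X be a quasi-compact morphism of schemes and E' a pro-constructible subset of X'. Then
f(E') is pro-constructible in X; in particular f(X') is pro-constructible. -/
theorem result {X' X : Scheme.{u}} (f : X' ⟶ X) [QuasiCompact f]
    (E' : Set X') (hE' : ProCons.IsProConstructible E') :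
    ProCons.IsProConstructible (f.base '' E') := by
  classical
  refine ConsTop.proCons_iff_affine.mpr fun W hW => ?_
  obtain ⟨_, _, _, _⟩ := ConsTop.affine_instances hW
  obtain ⟨t, ht⟩ := (f.isCompact_preimage (U := W) hW.isCompact).elim_finite_subcover
    (fun V : {V : X'.Opens // IsAffineOpen V ∧ V ≤ f ⁻¹ᵁ W} => (V.1 : Set X')) (fun V => V.1.2)
    (fun x hx => by
      obtain ⟨V, hV, hxV, hsub⟩ := exists_isAffineOpen_mem_and_subset (U := f ⁻¹ᵁ W) hx
      exact Set.mem_iUnion.mpr ⟨⟨V, hV, hsub⟩, hxV⟩)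
  have h : (Subtype.val ⁻¹' (f.base '' E') : Set ↥(W : Set X)) =
      ⋃ V ∈ t, (fun x : ↥(V.1 : Set X') => (⟨f x.1, V.2.2 x.2⟩ : ↥(W : Set X))) '' (Subtype.val ⁻¹' E') := by
    ext ⟨y, hy⟩
    constructor
    · rintro ⟨x, hx, rfl⟩
      obtain ⟨V, hV, hxV⟩ := Set.mem_iUnion₂.mp (ht (show x ∈ f ⁻¹' (W : Set X) from hy))
      exact Set.mem_biUnion hV ⟨⟨x, hxV⟩, hx, rfl⟩
    · intro hy'
      obtain ⟨V, hV, x, hx, he⟩ := Set.mem_iUnion₂.mp hy'
      exact ⟨x.1, hx, congrArg Subtype.val he⟩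
  rw [h]
  refine @IsCompact.isClosed _ (constructibleTopology ↥(W : Set X)) ConsTop.t2Space_cons _ ?_
  refine @Finset.isCompact_biUnion _ _ (constructibleTopology ↥(W : Set X)) t _ fun V _ => ?_
  obtain ⟨_, _, _, _⟩ := ConsTop.affine_instances V.2.1
  refine @IsCompact.image _ _ (constructibleTopology _) (constructibleTopology _) _ _ ?_
    (ConsTop.continuous_cons_resLE f hW V.2.1 V.2.2)
  exact @IsCompact.of_isClosed_subset _ (constructibleTopology _) _ _
    (ConsTop.isCompact_cons (X := ↥(V.1 : Set X')) isOpen_univ isCompact_univ)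
    (ConsTop.proCons_iff_affine.mp hE' V.1 V.2.1) (Set.subset_univ _)

end Groth.Agent.S3398
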