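import Groth.Statements.S4591
import Groth.Agent.ConsTop.Basic

set_option autoImplicit false
universe u
open AlgebraicGeometry
open EGA41

namespace Groth.Agent.S4591

/-- Let X be a quasi-compact scheme, F a pro-constructible subset and (E_i) a family of
ind-constructible subsets covering F. Then some finite subfamily covers F. -/
theorem result (X : Scheme.{u}) [CompactSpace X]
    (F : Set X) (hF : ProCons.IsProConstructible F) {ι : Type u} (E : ι → Set X)
    (hE : ∀ i, ProCons.IsIndConstructible (E i)) (h : F ⊆ ⋃ i, E i) :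
    ∃ J : Finset ι, F ⊆ ⋃ i ∈ J, E i := by
  classical
  choose U hU hxU S hS hSF using hF
  choose W hW hxW hWU using fun x : X => exists_isAffineOpen_mem_and_subset (U := ⟨U x, hU x⟩) (hxU x)
  obtain ⟨t, ht⟩ := isCompact_univ.elim_finite_subcover (fun x : X => (W x : Set X)) (fun x => (W x).2)
    (fun x _ => Set.mem_iUnion.mpr ⟨x, hxW x⟩)
  have hloc : ∀ (V : Set X) (T : Set ↥V), IsOpen V → Topology.IsLocallyConstructible T →
      ∀ (W' : X.Opens), (W' : Set X) ⊆ V →
        Topology.IsLocallyConstructible ((Subtype.val ⁻¹' (Subtype.val '' T)) : Set ↥(W' : Set X)) := by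
    intro V T hV hT W' hsub
    have he : Topology.IsOpenEmbedding (Set.inclusion hsub) :=
      Topology.IsOpenEmbedding.of_comp _ hV.isOpenEmbedding_subtypeVal W'.2.isOpenEmbedding_subtypeVal
    convert hT.preimage_of_isOpenEmbedding he using 1
    ext ⟨z, hz⟩
    constructor
    · rintro ⟨⟨z', hz'⟩, hT', rfl⟩; exact hT'
    · intro h'; exact ⟨_, h', rfl⟩
  have key : ∀ x ∈ t, ∃ J : Finset ι, F ∩ (W x : Set X) ⊆ ⋃ i ∈ J, E i := by
    intro x _
    have heW := (W x).2.isOpenEmbedding_subtypeVal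
    haveI : CompactSpace ↥(W x : Set X) := isCompact_iff_compactSpace.mp (hW x).isCompact
    haveI : QuasiSeparatedSpace ↥(W x : Set X) :=
      (isQuasiSeparated_iff_quasiSeparatedSpace _ (W x).2).mp (hW x).isQuasiSeparated
    haveI : QuasiSober ↥(W x : Set X) := heW.quasiSober
    haveI : PrespectralSpace ↥(W x : Set X) := heW.prespectralSpace
    have hFc : @IsOpen _ (constructibleTopology ↥(W x : Set X)) (Subtype.val ⁻¹' F : Set ↥(W x : Set X))ᶜ := by
      have he : (Subtype.val ⁻¹' F : Set ↥(W x : Set X))ᶜ =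
          ⋃ T ∈ S x, (Subtype.val ⁻¹' (Subtype.val '' T) : Set ↥(W x : Set X))ᶜ := by
        ext ⟨z, hz⟩
        have h1 := Set.ext_iff.mp (hSF x) ⟨z, hWU x hz⟩
        simp only [Set.mem_preimage, Set.mem_sInter] at h1
        simp only [Set.mem_compl_iff, Set.mem_preimage, Set.mem_iUnion, Set.mem_image, exists_prop]
        rw [h1]
        push_neg
        refine ⟨fun ⟨T, hT, hn⟩ => ⟨T, hT, ?_⟩, fun ⟨T, hT, hn⟩ => ⟨T, hT, fun h => hn _ h rfl⟩⟩
        rintro ⟨z', hz'⟩ hmem rfl
        exact hn hmem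
      rw [he]
      exact @isOpen_biUnion _ _ (constructibleTopology ↥(W x : Set X)) _ _ fun T hT =>
        (ConsTop.isClopen_of_isLocallyConstructible (hloc _ T (hU x) (hS x T hT) (W x) (hWU x))).2
    have hEo : ∀ i, @IsOpen _ (constructibleTopology ↥(W x : Set X)) (Subtype.val ⁻¹' E i : Set ↥(W x : Set X)) := by
      intro i
      refine (@isOpen_iff_forall_mem_open _ (constructibleTopology ↥(W x : Set X)) _).mpr fun z hz => ?_
      obtain ⟨V, hV, hzV, S', hS', hSE⟩ := hE i z.1
      obtain ⟨T, hT, hzT⟩ : ∃ T ∈ S', (⟨z.1, hzV⟩ : ↥V) ∈ T := by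
        have := Set.ext_iff.mp hSE ⟨z.1, hzV⟩
        exact Set.mem_sUnion.mp (this.mp hz)
      obtain ⟨W', hW', hzW', hsub'⟩ := exists_isAffineOpen_mem_and_subset
        (U := (⟨V ∩ (W x : Set X), hV.inter (W x).2⟩ : X.Opens)) (⟨hzV, z.2⟩ : z.1 ∈ V ∩ (W x : Set X))
      let O : Set ↥(W x : Set X) := Subtype.val ⁻¹' (W' : Set X)
      have hOo : IsOpen O := W'.2.preimage continuous_subtype_val
      have hOc : IsCompact O := by
        show IsCompact (Subtype.val ⁻¹' (W' : Set X) : Set ↥(W x : Set X))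
        rw [heW.isInducing.isCompact_iff]
        convert hW'.isCompact using 1
        exact (Subtype.image_preimage_coe _ _).trans (Set.inter_eq_right.mpr fun a ha => (hsub' ha).2)
      refine ⟨(Subtype.val ⁻¹' (Subtype.val '' T)) ∩ O, ?_, ?_, ⟨⟨_, hzT, rfl⟩, hzW'⟩⟩
      · rintro a ⟨⟨b, hb, hba⟩, -⟩
        have := Set.ext_iff.mp hSE b
        show a.1 ∈ E i
        rw [← hba]
        exact this.mpr (Set.mem_sUnion.mpr ⟨T, hT, hb⟩)
      · have heW' := W'.2.isOpenEmbedding_subtypeVal
        haveI : QuasiSeparatedSpace ↥(W' : Set X) :=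
          (isQuasiSeparated_iff_quasiSeparatedSpace _ W'.2).mp hW'.isQuasiSeparated
        haveI : CompactSpace ↥(W' : Set X) := isCompact_iff_compactSpace.mp hW'.isCompact
        haveI : PrespectralSpace ↥(W' : Set X) := heW'.prespectralSpace
        have hi : (W' : Set X) ⊆ (W x : Set X) := fun a ha => (hsub' ha).2
        have hc := (hloc V T hV (hS' T hT) W' (fun a ha => (hsub' ha).1)).isConstructible
        have he : Topology.IsOpenEmbedding (Set.inclusion hi) :=
          Topology.IsOpenEmbedding.of_comp _ heW W'.2.isOpenEmbedding_subtypeVal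
        have hr : IsRetrocompact (Set.range (Set.inclusion hi)) := by
          rw [Set.range_inclusion]
          exact hOc.isRetrocompact hOo
        have h2 := hc.image_of_isOpenEmbedding he hr
        have : Set.inclusion hi '' (Subtype.val ⁻¹' (Subtype.val '' T)) = (Subtype.val ⁻¹' (Subtype.val '' T)) ∩ O := by
          ext ⟨a, ha⟩
          constructor
          · rintro ⟨⟨b, hb⟩, hb', he⟩
            obtain rfl : b = a := congrArg Subtype.val he
            exact ⟨hb', hb⟩
          · rintro ⟨h1, h2⟩; exact ⟨⟨a, h2⟩, h1, rfl⟩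
        rw [this] at h2
        exact (ConsTop.isClopen_of_isConstructible h2).1
    have hcW : @IsCompact ↥(W x : Set X) (constructibleTopology ↥(W x : Set X)) Set.univ := ConsTop.isCompact_cons isOpen_univ isCompact_univ
    have hFW : @IsCompact ↥(W x : Set X) (constructibleTopology ↥(W x : Set X)) (Subtype.val ⁻¹' F) :=
      @IsCompact.of_isClosed_subset _ (constructibleTopology ↥(W x : Set X)) _ _ hcW ((@isOpen_compl_iff _ _ (constructibleTopology ↥(W x : Set X))).mp hFc) (Set.subset_univ _)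
    obtain ⟨J, hJ⟩ := @IsCompact.elim_finite_subcover _ (constructibleTopology ↥(W x : Set X)) _ _ hFW _ hEo (fun z hz => by
      obtain ⟨i, hi⟩ := Set.mem_iUnion.mp (h hz)
      exact Set.mem_iUnion.mpr ⟨i, hi⟩)
    refine ⟨J, fun z ⟨hzF, hzW⟩ => ?_⟩
    obtain ⟨i, hi, hz⟩ := Set.mem_iUnion₂.mp (hJ (show (⟨z, hzW⟩ : ↥(W x : Set X)) ∈ Subtype.val ⁻¹' F from hzF))
    exact Set.mem_biUnion hi hz
  choose J hJ using key
  refine ⟨t.attach.biUnion fun x => J x.1 x.2, fun z hz => ?_⟩
  obtain ⟨x, hx, hzx⟩ := Set.mem_iUnion₂.mp (ht (Set.mem_univ z))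
  obtain ⟨i, hi, hzi⟩ := Set.mem_iUnion₂.mp (hJ x hx ⟨hz, hzx⟩)
  exact Set.mem_biUnion (Finset.mem_biUnion.mpr ⟨⟨x, hx⟩, Finset.mem_attach _ _, hi⟩) hzi

end Groth.Agent.S4591
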