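import Groth.Statements.S3439
import Mathlib
import Groth.Agent.ConsTop.Maps
import Groth.Agent.S4591

set_option autoImplicit false
open CategoryTheory AlgebraicGeometry Topology
universe u
open EGA41

namespace Groth.Agent.S3439

/-- Let X be a quasi-compact scheme, E an ind-constructible subset of X and (F_i) a family of
pro-constructible subsets of X whose intersection is contained in E. Then there is a finite set J of
indices such that the intersection of the F_i for i in J is already contained in E. (Taking E = ∅: a
family of pro-constructible subsets with empty intersection has a finite subfamily with empty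
intersection.) -/
theorem result (X : Scheme.{u}) [CompactSpace X] (E : Set X)
    (hE : ProCons.IsIndConstructible E) {ι : Type u} (F : ι → Set X) (hF : ∀ i, ProCons.IsProConstructible (F i))
    (h : ⋂ i, F i ⊆ E) :
    ∃ J : Finset ι, ⋂ i ∈ J, F i ⊆ E := by
  classical
  obtain ⟨J, hJ⟩ := Groth.Agent.S4591.result X Eᶜ
    (ConsTop.isProConstructible_iff_indCons_compl.mpr (by rwa [compl_compl])) (fun i => (F i)ᶜ)
    (fun i => ConsTop.isProConstructible_iff_indCons_compl.mp (hF i))
    (by rw [← Set.compl_iInter]; exact Set.compl_subset_compl.mpr h)
  refine ⟨J, fun z hz => by_contra fun hzE => ?_⟩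
  obtain ⟨i, hi, hzi⟩ := Set.mem_iUnion₂.mp (hJ hzE)
  exact hzi (Set.mem_iInter₂.mp hz i hi)

end Groth.Agent.S3439
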