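import Groth.Statements.S1333
import Mathlib
import Groth.Agent.DimField.Limit
import Groth.Agent.ConsEngine.SetProp

set_option autoImplicit false
set_option linter.style.haveILetI false
universe u
open FlatMor

namespace Groth.Agent.S1333

open AlgebraicGeometry CategoryTheory Limits in
/-- For a morphism of finite presentation (locally of finite presentation, quasi-compact,
quasi-separated), each level set of the function sending a point of the target to the dimension of
its fibre is locally constructible. -/
theorem result {X Y : Scheme.{u}} (f : X ⟶ Y) [LocallyOfFinitePresentation f] [QuasiCompact f] [QuasiSeparated f]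
    (n : WithBot ℕ∞) :
    Topology.IsLocallyConstructible {y : ↑Y | topologicalKrullDim ↑(f.fiber y) = n} := by
  let L : ∀ {X Y : Scheme.{u}} (f : X ⟶ Y), Set Y := fun f => {y | topologicalKrullDim ↑(f.fiber y) = n}
  have noeth : ∀ {X Y : Scheme.{u}} (f : X ⟶ Y) [IsNoetherian Y] [LocallyOfFiniteType f] [QuasiCompact f],
      Topology.IsLocallyConstructible (L f) := by
    intro X Y f _ _ _
    by_cases h : (L f).Nonempty
    · obtain ⟨y₀, hy₀⟩ := h
      have h1 := (DimField.isConstructible_dim_fiber_eq f y₀).isLocallyConstructible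
      have e : L f = {y : Y | topologicalKrullDim ↥(f.fiber y) = topologicalKrullDim ↥(f.fiber y₀)} :=
        Set.ext fun y => by simp only [L, Set.mem_setOf_eq, show topologicalKrullDim ↥(f.fiber y₀) = n from hy₀]
      rw [e]
      exact h1
    · rw [Set.not_nonempty_iff_eq_empty.mp h]
      exact Topology.IsConstructible.empty.isLocallyConstructible
  have bc : ∀ {X X' S S' : Scheme.{u}} {g : X ⟶ S} {g' : X' ⟶ S'} {e : X' ⟶ X} {σ : S' ⟶ S}
      [LocallyOfFiniteType g], IsPullback e g' g σ → L g' = σ ⁻¹' L g := fun {_ _ _ _ g g' e σ} _ h =>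
    Set.ext fun s => by simp only [L, Set.mem_preimage, Set.mem_setOf_eq, DimField.dim_fiber_eq_of_isPullback h s]
  have aff : ∀ (R : Type u) [CommRing R] {X : Scheme.{u}} (g : X ⟶ Spec (CommRingCat.of R))
      [LocallyOfFinitePresentation g] [QuasiCompact g] [QuasiSeparated g],
      Topology.IsLocallyConstructible (L g) := by
    intro R _ X g _ _ _
    haveI : IsCofiltered (LimModel.FgSub R)ᵒᵖ := isCofiltered_op_of_isFiltered _
    haveI : ∀ i : (LimModel.FgSub R)ᵒᵖ, CompactSpace ((LimModel.fgDiagram R).obj i) := fun i => inferInstance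
    haveI : ∀ i : (LimModel.FgSub R)ᵒᵖ, QuasiSeparatedSpace ((LimModel.fgDiagram R).obj i) := fun i => inferInstance
    haveI : @LocallyOfFinitePresentation X (LimModel.fgCone R).pt g := ‹LocallyOfFinitePresentation g›
    haveI : @QuasiCompact X (LimModel.fgCone R).pt g := ‹QuasiCompact g›
    haveI : @QuasiSeparated X (LimModel.fgCone R).pt g := ‹QuasiSeparated g›
    obtain ⟨i, X₀, g₀, q, h1, h2, h3, hq⟩ := LimModel.exists_model (LimModel.fgDiagram R) (LimModel.fgCone R)
      (LimModel.fgIsLimit R) (a := (g : X ⟶ (LimModel.fgCone R).pt))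
    have hn : IsNoetherianRing ↥(i.unop.1 : Subalgebra ℤ R) := by
      haveI : Algebra.FiniteType ℤ ↥(i.unop.1 : Subalgebra ℤ R) := (Subalgebra.fg_iff_finiteType _).mp i.unop.2
      exact Algebra.FiniteType.isNoetherianRing ℤ _
    haveI hN : IsNoetherian ((LimModel.fgDiagram R).obj i) :=
      inferInstanceAs (IsNoetherian (Spec (CommRingCat.of ↥(i.unop.1 : Subalgebra ℤ R))))
    have h := ConsEngine.isLocallyConstructible_preimage ((LimModel.fgCone R).π.app i) (noeth g₀)
    rw [← bc hq] at h
    exact h
  show Topology.IsLocallyConstructible (L f)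
  refine Topology.IsLocallyConstructible.of_isOpenCover (U := fun W : Y.affineOpens => W.1)
    (iSup_affineOpens_eq_top Y) fun W => ?_
  let ψ : Spec Γ(Y, W.1) ⟶ Y := W.2.isoSpec.inv ≫ W.1.ι
  have h := aff _ (pullback.snd f ψ)
  rw [bc (IsPullback.of_hasPullback f ψ)] at h
  have key := ConsEngine.isLocallyConstructible_preimage W.2.isoSpec.hom h
  have e : W.2.isoSpec.hom ⁻¹' (ψ ⁻¹' L f) = W.1.ι ⁻¹' L f := by
    ext w
    simp [ψ, ← Scheme.Hom.comp_apply]
  exact e ▸ key

end Groth.Agent.S1333
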