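import Groth.Statements.S0383
import Mathlib
import Groth.Agent.S4272
import Groth.Agent.S1844
import Groth.Agent.S7799
import Groth.Agent.BMCoh.Geom
import Groth.Agent.UFDLib.Regular
import Groth.Agent.SmLocalST.SmoothField
import Groth.Agent.W7See.Point
import Groth.Agent.TMul.Pullback
import Groth.Agent.TMul.Ample
import Groth.Agent.YBlowUp.Basic
import Groth.Agent.S14809
import Groth.Agent.S0346

set_option autoImplicit false
set_option backward.isDefEq.respectTransparency false
set_option maxHeartbeats 1000000
universe u v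
open CategoryTheory MonoidalCategory CartesianMonoidalCategory MonObj GrpObj AlgebraicGeometry
open GrpSch

namespace Groth.Agent.S0383

open TopologicalSpace in
/-- two points of the same fibre dimension zero -/
theorem eq_of_specializes_of_fiber {X Y : Scheme.{u}} (φ : X ⟶ Y)
    (hd : ∀ (y : Y) (Z : Set ↥(φ.fiber y)), Z ∈ irreducibleComponents ↥(φ.fiber y) → topologicalKrullDim ↥Z = 0)
    {z w : X} (h : z ⤳ w) (hzw : φ z = φ w) : z = w := by
  let e := φ.fiberHomeo (φ z)
  let z₁ : φ ⁻¹' {φ z} := ⟨z, rfl⟩
  let w₁ : φ ⁻¹' {φ z} := ⟨w, hzw.symm⟩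
  have h₁ : z₁ ⤳ w₁ := (subtype_specializes_iff z₁ w₁).2 h
  have h' : e.symm z₁ ⤳ e.symm w₁ := h₁.map e.symm.continuous
  set a := e.symm z₁
  set b := e.symm w₁
  let Z := irreducibleComponent a
  have hZ := hd (φ z) Z (irreducibleComponent_mem_irreducibleComponents a)
  have hbZ : b ∈ Z := h'.mem_closed isClosed_irreducibleComponent mem_irreducibleComponent
  let a₁ : Z := ⟨a, mem_irreducibleComponent⟩
  let b₁ : Z := ⟨b, hbZ⟩
  have h₂ : a₁ ⤳ b₁ := (subtype_specializes_iff a₁ b₁).2 h'
  let Ca : IrreducibleCloseds Z := ⟨closure {a₁}, isIrreducible_singleton.closure, isClosed_closure⟩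
  let Cb : IrreducibleCloseds Z := ⟨closure {b₁}, isIrreducible_singleton.closure, isClosed_closure⟩
  have hle : Cb ≤ Ca := specializes_iff_closure_subset.1 h₂
  have hmax : IsMax Cb := (Order.krullDim_nonpos_iff_forall_isMax.1 hZ.le) Cb
  have hab : a₁ = b₁ := (h₂.antisymm (specializes_iff_closure_subset.2 (hmax hle))).eq
  have := congrArg (fun t : Z => e t.1) hab
  simp only [a₁, b₁, a, b, Homeomorph.apply_symm_apply] at this
  exact congrArg Subtype.val this

open TopologicalSpace MonObj Limits in
theorem eq_of_specializes_unit (K : Type u) [Field K] (A : Over (Spec (CommRingCat.of K))) [GrpObj A] [IsProper A.hom]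
    [GeometricallyIntegral A.hom] (n : ℕ) (hn : 1 ≤ n) (hamp : MoreMor.HasAmpleFamily A.left) (z : A.left)
    (hz : (𝟙 A ^ n).left z = η[A].left (IsLocalRing.closedPoint K))
    (hze : z ⤳ η[A].left (IsLocalRing.closedPoint K)) : z = η[A].left (IsLocalRing.closedPoint K) := by
  haveI : Subsingleton (Spec (CommRingCat.of K)) := inferInstanceAs (Subsingleton (PrimeSpectrum K))
  haveI : Subsingleton ↥((𝟙_ (Over (Spec (CommRingCat.of K)))).left) :=
    inferInstanceAs (Subsingleton (Spec (CommRingCat.of K)))
  haveI : Nonempty (Spec (CommRingCat.of K)) := inferInstanceAs (Nonempty (PrimeSpectrum K))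
  haveI : Nonempty ↥((𝟙_ (Over (Spec (CommRingCat.of K)))).left) :=
    inferInstanceAs (Nonempty (Spec (CommRingCat.of K)))
  set e := η[A].left (IsLocalRing.closedPoint K) with he
  set φ := (𝟙 A ^ n).left
  set inv' := ((𝟙 A)⁻¹).left
  obtain ⟨L, hL, s, hes, hU⟩ : ∃ (L : A.left.Modules) (_ : PicF.IsInvertible L) (s : Coh.structureModule A.left ⟶ L),
      e ∈ CohB1.genLocus L s ∧ IsAffineOpen (CohB1.genLocus L s) := by
    obtain ⟨L₀, m, s, hL₀, -, hes, hU⟩ := hamp.2 e
    exact ⟨_, TMul.isInvertible_tensorPow hL₀ m, s, hes, hU⟩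
  have hinv : inv' e = e := by
    have h : η[A] ≫ (𝟙 A)⁻¹ = η[A] := by rw [GrpObj.comp_inv, Category.comp_id]; exact inv_one
    rw [he, ← Scheme.Hom.comp_apply, ← Over.comp_left, h]
  -- the closed subscheme
  let I := Scheme.IdealSheafData.vanishingIdeal ⟨closure {z}, isClosed_closure⟩
  let i := I.subschemeι
  have hrange : Set.range i = closure {z} := by
    rw [Scheme.IdealSheafData.range_subschemeι, Scheme.IdealSheafData.coe_support_vanishingIdeal]
    rfl
  haveI : IrreducibleSpace I.subscheme := by
    have h0 := (isIrreducible_singleton (x := z)).closure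
    rw [← hrange] at h0
    haveI := Subtype.irreducibleSpace h0
    exact i.isClosedEmbedding.isEmbedding.toHomeomorph.irreducibleSpace_iff.2 this
  haveI : IsReduced I.subscheme := BMCoh.isReduced_vanishingIdeal_subscheme _ _
  haveI : IsIntegral I.subscheme := isIntegral_of_irreducibleSpace_of_isReduced _
  haveI : UniversallyClosed (i ≫ A.hom) := inferInstance
  haveI : LocallyOfFiniteType (i ≫ A.hom) := inferInstance
  have hfield : IsField (Γ(I.subscheme, ⊤) : Type u) := isField_of_universallyClosed K (i ≫ A.hom)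
  -- it is sent to the origin
  obtain ⟨g, hg⟩ : ∃ g : I.subscheme ⟶ Spec (CommRingCat.of K), i ≫ φ = g ≫ η[A].left := by
    haveI : IsClosedImmersion η[A].left := ((S0346.result _ A).1).1 inferInstance
    haveI : Surjective (pullback.fst (i ≫ φ) η[A].left) := by
      refine ⟨fun c => ?_⟩
      have h1 : z ⤳ i c := specializes_iff_mem_closure.2 (hrange ▸ ⟨c, rfl⟩)
      have h2 : φ (i c) = e := by
        have h3 := h1.map φ.continuous
        rw [hz] at h3
        exact ((η[A].left.isClosedEmbedding.isClosedMap _ isClosed_singleton).closure_subset_iff.2 (by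
          rintro _ rfl; exact ⟨IsLocalRing.closedPoint K, rfl, rfl⟩) h3.mem_closure).elim fun p hp => by
            rw [← hp.2, he, Subsingleton.elim p (IsLocalRing.closedPoint K)]
      obtain ⟨w, hw, -⟩ := Scheme.Pullback.exists_preimage_pullback (f := i ≫ φ) (g := η[A].left) c
        (IsLocalRing.closedPoint K) h2
      exact ⟨w, hw⟩
    haveI := isIso_of_isClosedImmersion_of_surjective (pullback.fst (i ≫ φ) η[A].left)
    exact ⟨inv (pullback.fst (i ≫ φ) η[A].left) ≫ pullback.snd _ _, by
      rw [Category.assoc, ← pullback.condition, IsIso.inv_hom_id_assoc]⟩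
  -- sections
  set a := n * (n + 1) / 2 with ha
  set b := n * (n - 1) / 2
  obtain ⟨a', ha'⟩ : ∃ a', a = a' + 1 := ⟨a - 1, by
    have : 1 ≤ a := by rw [ha, Nat.le_div_iff_mul_le (by norm_num)]; nlinarith
    omega⟩
  let e' : Coh.structureModule A.left ≅ (Scheme.Modules.pullback inv').obj (Coh.structureModule A.left) :=
    (PicLoc.pullbackStructureIso inv').symm
  let s' : Coh.structureModule A.left ⟶ (Scheme.Modules.pullback inv').obj L :=
    e'.hom ≫ (Scheme.Modules.pullback inv').map s
  have hL' : PicF.IsInvertible ((Scheme.Modules.pullback inv').obj L) := PicLoc.isInvertible_pullback _ hL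
  have hs' : e ∈ CohB1.genLocus _ s' := by
    rw [TMul.genLocus_pullback inv' hL s e']
    show inv' e ∈ CohB1.genLocus L s
    rwa [hinv]
  let σ := SecTwist.tmulHom (SecTwist.powHom s a) (SecTwist.powHom s' b)
  have hσle : CohB1.genLocus _ σ ≤ CohB1.genLocus L s := by
    rw [TMul.genLocus_tmulHom (TMul.isInvertible_tensorPow hL a) (TMul.isInvertible_tensorPow hL' b)]
    refine inf_le_left.trans ?_
    rw [ha', TMul.genLocus_powHom hL s a']
  have hσe : e ∈ CohB1.genLocus _ σ := by
    rw [TMul.genLocus_tmulHom (TMul.isInvertible_tensorPow hL a) (TMul.isInvertible_tensorPow hL' b)]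
    refine ⟨?_, ?_⟩
    · rw [ha']
      exact (TMul.genLocus_powHom hL s a').symm ▸ hes
    · cases hb : b with
      | zero =>
        show e ∈ CohB1.genLocus _ (𝟙 _)
        rw [YBlowUp.genLocus_id]; trivial
      | succ b' => exact (TMul.genLocus_powHom hL' s' b').symm ▸ hs'
  obtain ⟨ψ⟩ := S1844.result K A L hL n hn
  let τ : Coh.structureModule A.left ⟶ (Scheme.Modules.pullback φ).obj L := σ ≫ ψ.inv
  have hτ : CohB1.genLocus _ τ = CohB1.genLocus _ σ := TMul.genLocus_comp _ ψ.inv
  obtain ⟨v⟩ : Nonempty ((Scheme.Modules.pullback (η[A].left : Spec (CommRingCat.of K) ⟶ A.left)).obj L ≅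
      Coh.structureModule (Spec (CommRingCat.of K))) :=
    W7See.nonempty_iso_unit_of_subsingleton (PicLoc.isInvertible_pullback _ hL)
  let eI : Coh.structureModule I.subscheme ≅ (Scheme.Modules.pullback i).obj (Coh.structureModule A.left) :=
    (PicLoc.pullbackStructureIso i).symm
  let ρ : (Scheme.Modules.pullback i).obj ((Scheme.Modules.pullback φ).obj L) ≅ Coh.structureModule I.subscheme :=
    (Scheme.Modules.pullbackComp i φ).app L ≪≫ (Scheme.Modules.pullbackCongr hg).app L ≪≫
      ((Scheme.Modules.pullbackComp g η[A].left).app L).symm ≪≫ (Scheme.Modules.pullback g).mapIso v ≪≫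
      PicLoc.pullbackStructureIso g
  let t := (eI.hom ≫ (Scheme.Modules.pullback i).map τ) ≫ ρ.hom
  have ht : CohB1.genLocus _ t = i ⁻¹ᵁ CohB1.genLocus _ σ :=
    (TMul.genLocus_comp _ ρ.hom).trans ((TMul.genLocus_pullback i (PicLoc.isInvertible_pullback _ hL) τ eI).trans
      (congrArg _ hτ))
  obtain ⟨c, hc⟩ : e ∈ Set.range i := hrange ▸ hze.mem_closure
  have htop := S14809.genLocus_unit_top hfield t (x := c) (by rw [ht]; show i c ∈ CohB1.genLocus _ σ; rwa [hc])
  have hsub : i ⁻¹ᵁ CohB1.genLocus L s = ⊤ := top_le_iff.1 (htop ▸ ht ▸ fun x hx => hσle hx)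
  -- proper and affine
  haveI : IsAffine I.subscheme := by
    have hr : Set.range i ⊆ Set.range (CohB1.genLocus L s).ι := by
      rw [Scheme.Opens.range_ι]; rintro _ ⟨x, rfl⟩; exact (SetLike.ext_iff.1 hsub x).2 trivial
    haveI : IsClosedImmersion (IsOpenImmersion.lift (CohB1.genLocus L s).ι i hr ≫ (CohB1.genLocus L s).ι) := by
      rw [IsOpenImmersion.lift_fac]; infer_instance
    haveI := IsClosedImmersion.of_comp (IsOpenImmersion.lift (CohB1.genLocus L s).ι i hr) (CohB1.genLocus L s).ι
    haveI : IsAffine (CohB1.genLocus L s : A.left.Opens).toScheme := hU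
    exact isAffine_of_isAffineHom (IsOpenImmersion.lift (CohB1.genLocus L s).ι i hr)
  haveI : IsFinite (i ≫ A.hom) := IsFinite.iff_isProper_and_isAffineHom.2 ⟨inferInstance, inferInstance⟩
  have hdim : topologicalKrullDim I.subscheme ≤ 0 := by
    haveI : JacobsonSpace I.subscheme := LocallyOfFiniteType.jacobsonSpace (i ≫ A.hom)
    haveI : Finite I.subscheme := by
      have h := (i ≫ A.hom).finite_preimage_singleton (IsLocalRing.closedPoint K)
      rw [show (i ≫ A.hom) ⁻¹' {IsLocalRing.closedPoint K} = Set.univ from Set.eq_univ_of_forall fun x =>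
        Subsingleton.elim _ _] at h
      exact Set.finite_univ_iff.1 h
    haveI : Nonempty I.subscheme := inferInstance
    exact topologicalKrullDim_zero_of_discreteTopology I.subscheme
  obtain ⟨c', hc'⟩ : z ∈ Set.range i := hrange ▸ subset_closure rfl
  have hcc : c' ⤳ c := (i.isClosedEmbedding.isInducing.specializes_iff).1 (by rw [hc', hc]; exact hze)
  have hmax := (Order.krullDim_nonpos_iff_forall_isMax.1 hdim) ⟨closure {c}, isIrreducible_singleton.closure, isClosed_closure⟩
  have : c = c' := ((specializes_iff_closure_subset.2 (hmax (b := ⟨closure {c'}, isIrreducible_singleton.closure,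
    isClosed_closure⟩) (specializes_iff_closure_subset.1 hcc))).antisymm hcc).eq
  rw [← hc', ← hc, this]

open TopologicalSpace MonObj Limits in
theorem surjective_pow (K : Type u) [Field K] (A : Over (Spec (CommRingCat.of K))) [GrpObj A] [IsProper A.hom]
    [GeometricallyIntegral A.hom] (n : ℕ)
    (key : ∀ z : A.left, (𝟙 A ^ n).left z = η[A].left (IsLocalRing.closedPoint K) →
      z ⤳ η[A].left (IsLocalRing.closedPoint K) → z = η[A].left (IsLocalRing.closedPoint K)) :
    Surjective ((𝟙 A ^ n).left) := by
  haveI : Subsingleton (Spec (CommRingCat.of K)) := inferInstanceAs (Subsingleton (PrimeSpectrum K))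
  haveI : Subsingleton ↥((𝟙_ (Over (Spec (CommRingCat.of K)))).left) :=
    inferInstanceAs (Subsingleton (Spec (CommRingCat.of K)))
  haveI : IsIntegral A.left := GeometricallyIntegral.isIntegral_of_subsingleton A.hom
  haveI : IsLocallyNoetherian A.left := LocallyOfFiniteType.isLocallyNoetherian A.hom
  haveI : CompactSpace A.left := QuasiCompact.compactSpace_of_compactSpace A.hom
  haveI : AlgebraicGeometry.IsNoetherian A.left := {}
  set e := η[A].left (IsLocalRing.closedPoint K) with he
  let φ : A.left ⟶ A.left := (𝟙 A ^ n).left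
  haveI : IsProper φ := by
    haveI : IsProper (φ ≫ A.hom) := by rw [show φ ≫ A.hom = A.hom from Over.w _]; infer_instance
    exact IsProper.of_comp φ A.hom
  obtain ⟨d, hd⟩ := S7799.result K A A.hom φ (Over.w _)
  have hfe : φ e = e := by
    have h : η[A] ≫ (𝟙 A ^ n) = η[A] := by rw [MonObj.comp_pow, Category.comp_id]; exact one_pow n
    rw [he, ← Scheme.Hom.comp_apply, ← Over.comp_left, h]
  have hd0 : d = 0 := by
    let h := φ.fiberHomeo e
    let e₁ : φ.fiber e := h.symm ⟨e, hfe⟩
    let Z := irreducibleComponent e₁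
    obtain ⟨ζ, hζ⟩ := QuasiSober.sober (S := Z) isIrreducible_irreducibleComponent isClosed_irreducibleComponent
    have hζe : ζ = e₁ := by
      have h1 : h ζ ⤳ h e₁ := (hζ.specializes mem_irreducibleComponent).map h.continuous
      have h2 := (subtype_specializes_iff _ _).1 h1
      have he₁ : ((h e₁ : φ ⁻¹' {e}) : A.left) = e := by simp [e₁]
      rw [he₁] at h2
      exact h.injective (Subtype.ext ((key _ (h ζ).2 h2).trans he₁.symm))
    have hZ : Z.Subsingleton := by
      haveI : IsClosedImmersion η[A].left := ((S0346.result _ A).1).1 inferInstance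
      have hcl : IsClosed ({e} : Set A.left) := by
        have h2 := η[A].left.isClosedEmbedding.isClosedMap _ (isClosed_discrete {IsLocalRing.closedPoint K})
        rwa [Set.image_singleton] at h2
      have hcl' : IsClosed ({e₁} : Set (φ.fiber e)) := by
        have : ({e₁} : Set (φ.fiber e)) = (fun t => ((h t : φ ⁻¹' {e}) : A.left)) ⁻¹' {e} := Set.ext fun t =>
          ⟨fun ht => by subst ht; simp [e₁], fun ht => h.injective (Subtype.ext (ht.trans (by simp [e₁])))⟩
        rw [this]
        exact hcl.preimage (continuous_subtype_val.comp h.continuous)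
      rw [← hζ.def, hζe, hcl'.closure_eq]
      exact Set.subsingleton_singleton
    haveI : Subsingleton Z := hZ.coe_sort
    haveI : Nonempty Z := ⟨⟨e₁, mem_irreducibleComponent⟩⟩
    have := hd e Z (irreducibleComponent_mem_irreducibleComponents e₁)
    have h0 := topologicalKrullDim_zero_of_discreteTopology Z
    rw [this] at h0
    have : (d : WithBot ℕ∞) ≤ ((0 : ℕ) : WithBot ℕ∞) := by exact_mod_cast h0
    exact Nat.le_zero.1 (by exact_mod_cast this)
  have hfib : ∀ {z w : A.left}, z ⤳ w → φ z = φ w → z = w :=
    fun h h' => eq_of_specializes_of_fiber φ (fun y Z hZ => by rw [hd y Z hZ, hd0]; rfl) h h'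
  let Φ : IrreducibleCloseds A.left → IrreducibleCloseds A.left := fun C =>
    ⟨φ '' C, C.isIrreducible.image _ φ.continuous.continuousOn, φ.isClosedMap _ C.isClosed⟩
  have hmono : StrictMono Φ := by
    intro C D hCD
    refine lt_of_le_of_ne (Set.image_mono hCD.le) fun heq => ?_
    obtain ⟨c, hc⟩ := QuasiSober.sober C.isIrreducible C.isClosed
    obtain ⟨d, hd⟩ := QuasiSober.sober D.isIrreducible D.isClosed
    have hdc : d ⤳ c := hd.specializes (hCD.le hc.mem)
    have hc' : IsGenericPoint (φ c) (φ '' C) := by
      have := hc.image φ.continuous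
      rwa [(φ.isClosedMap _ C.isClosed).closure_eq] at this
    have hd' : IsGenericPoint (φ d) (φ '' D) := by
      have := hd.image φ.continuous
      rwa [(φ.isClosedMap _ D.isClosed).closure_eq] at this
    have heq' : φ '' (C : Set A.left) = φ '' (D : Set A.left) := congrArg SetLike.coe heq
    have h := hfib hdc ((hd'.eq (heq' ▸ hc')))
    exact hCD.ne (SetLike.coe_injective (by rw [← hc.def, ← hd.def, h]))
  refine ⟨Set.range_eq_univ.1 ?_⟩
  by_contra hne
  let T : IrreducibleCloseds A.left := ⟨Set.univ, IrreducibleSpace.isIrreducible_univ _, isClosed_univ⟩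
  have hlt : Φ T < T := lt_of_le_of_ne (Set.subset_univ _) fun h => hne (by
    rw [← Set.image_univ]; exact congrArg SetLike.coe h)
  have hanti : StrictAnti fun k : ℕ => ((Φ^[k] T).carrier : Set A.left) := strictAnti_nat_of_succ_lt fun k => by
    have : Φ^[k] (Φ T) < Φ^[k] T := (hmono.iterate k) hlt
    rwa [← Function.iterate_succ_apply] at this
  exact not_strictAnti_of_wellFoundedLT (fun k : ℕ => (⟨(Φ^[k] T).carrier, (Φ^[k] T).isClosed⟩ : Closeds A.left))
    fun a b hab => hanti hab

/-- On an abelian variety over a field (a proper, geometrically integral group scheme), multiplication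
by any integer n ≥ 1 (the n-th power of the identity in the pointwise group Hom(A, A)) is a
surjective morphism. -/
theorem result (K : Type u) [Field K] (A : Over (Spec (CommRingCat.of K))) [GrpObj A] [IsProper A.hom] [GeometricallyIntegral A.hom] (n : ℕ) (hn : 1 ≤ n) : Surjective ((𝟙 A ^ n).left) := by
  haveI : GeometricallyReduced A.hom := inferInstance
  haveI : Smooth A.hom := by
    haveI : GrpObj (Over.mk A.hom) := inferInstanceAs (GrpObj A)
    exact smooth_of_grpObj A.hom
  haveI : Subsingleton (Spec (CommRingCat.of K)) := inferInstanceAs (Subsingleton (PrimeSpectrum K))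
  haveI : IsIntegral A.left := GeometricallyIntegral.isIntegral_of_subsingleton A.hom
  haveI : IsLocallyNoetherian A.left := LocallyOfFiniteType.isLocallyNoetherian A.hom
  haveI : CompactSpace A.left := QuasiCompact.compactSpace_of_compactSpace A.hom
  haveI : IsNoetherian A.left := {}
  haveI : A.left.IsSeparated := ⟨by
    rw [show Limits.terminal.from A.left = A.hom ≫ Limits.terminal.from _ from Limits.terminal.hom_ext _ _]
    infer_instance⟩
  have hamp : MoreMor.HasAmpleFamily A.left := S4272.result A.left fun x => by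
    haveI := SmLocalST.isRegularLocalRing_stalk_of_smooth_field A.hom x
    exact ⟨inferInstance, UFDLib.ufd_of_isRegularLocalRing _⟩
  have key := fun z => eq_of_specializes_unit K A n hn hamp z
  exact surjective_pow K A n key

end Groth.Agent.S0383
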