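import Groth.Statements.S15656
import Mathlib
import Groth.Agent.AVAmple.Square
import Groth.Agent.S0383

set_option autoImplicit false
set_option backward.isDefEq.respectTransparency false
set_option backward.isDefEq.respectTransparency.types false
universe u
open CategoryTheory MonoidalCategory CartesianMonoidalCategory MonObj GrpObj AlgebraicGeometry
open AbVar

namespace Groth.Agent.S15656

/-- Remark preceding it: let A and B be abelian varieties over a field k (proper, geometrically integral
commutative group schemes over k). Then the additive group Hom_k(A, B) of homomorphisms A → B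
defined over k (sum = pointwise product in the group law of B) is torsion-free: if n·f = 0 for an
integer n ≠ 0 then f = 0. -/
theorem result (k : Type u) [Field k]
    (A B : Over (Spec (CommRingCat.of k)))
    [GrpObj A] [IsCommMonObj A] [IsProper A.hom] [GeometricallyIntegral A.hom]
    [GrpObj B] [IsCommMonObj B] [IsProper B.hom] [GeometricallyIntegral B.hom] :
    NoZeroSMulDivisors ℤ (EndAV.Hom A B) := by
  rw [noZeroSMulDivisors_iff]
  intro n f hf
  rw [or_iff_not_imp_left]
  intro hn
  obtain ⟨m, hm, hm'⟩ : ∃ m : ℕ, 1 ≤ m ∧ (m • f = 0) := by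
    refine ⟨n.natAbs, Int.natAbs_pos.2 hn, ?_⟩
    rcases Int.natAbs_eq n with h | h
    · rw [← natCast_zsmul, ← h, hf]
    · rw [← natCast_zsmul, show ((n.natAbs : ℤ)) = -n by omega, neg_zsmul, hf, neg_zero]
  haveI := S0383.result k A m hm
  haveI : Subsingleton (Spec (CommRingCat.of k)) := inferInstanceAs (Subsingleton (PrimeSpectrum k))
  haveI : IsIntegral A.left := GeometricallyIntegral.isIntegral_of_subsingleton A.hom
  apply InducedCategory.hom_ext
  have h1 : (𝟙 A ^ m) ≫ f.hom.hom.hom = (𝟙 A ^ m) ≫ (1 : A ⟶ B) := by
    rw [MonObj.pow_comp, Category.id_comp, MonObj.comp_one]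
    have hp : ∀ j : ℕ, (j • f).hom.hom.hom = f.hom.hom.hom ^ j := by
      intro j
      induction j with
      | zero => rw [zero_smul, pow_zero]; rfl
      | succ j ih => rw [succ_nsmul, pow_succ, ← ih]; rfl
    rw [← hp m, hm']; rfl
  apply Grp.hom_ext
  apply Over.OverMorphism.ext
  exact ext_of_isDominant_of_isSeparated B.hom ((Over.w f.hom.hom.hom).trans (Over.w _).symm) (𝟙 A ^ m).left
    (by rw [← Over.comp_left, ← Over.comp_left, h1]; rfl)

end Groth.Agent.S15656
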