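import Groth.Statements.S0382
import Groth.Agent.FieldPow.Main

set_option autoImplicit false
universe u v
open CategoryTheory MonoidalCategory CartesianMonoidalCategory MonObj GrpObj AlgebraicGeometry
open GrpSch

namespace Groth.Agent.S0382

/-- On an abelian variety of positive dimension over a field K (a proper, geometrically integral group
scheme over K), multiplication by an integer d is étale exactly when d is nonzero in K.
Multiplication by d is written as the d-th power of the identity morphism in the group Hom(A, A),
whose multiplication is pointwise, induced by the group structure of A. -/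
theorem result (K : Type u) [Field K] (A : Over (Spec (CommRingCat.of K))) [GrpObj A] [IsProper A.hom] [GeometricallyIntegral A.hom] (hA : 0 < topologicalKrullDim A.left) (d : ℤ) : Etale ((𝟙 A ^ d).left) ↔ ((d : K) ≠ 0) := by
  have hcomm := AlgebraicGeometry.isCommMonObj_of_isProper_of_geometricallyIntegral A
  refine ⟨fun het hd => ?_, fun hd => Groth.Agent.FieldPow.etale_pow A hd⟩
  obtain ⟨ψ, hψ, -, hpt, hψn⟩ := Groth.Agent.FieldPow.exists_tangent_pow A d
  set e := Groth.Agent.FieldPow.ept A
  set φ := (𝟙 A ^ d).left
  have hd0 : (d : A.left.presheaf.stalk e) = 0 := by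
    rw [← map_intCast (Groth.Agent.FieldPow.ic A).hom d, hd, map_zero]
  have hχ := Groth.Agent.FieldPow.stalkMap_of_rep (f := φ) (x := e)
    (P := fun {R S} _ _ g => ∀ a : R, ¬IsUnit a → g a ∈ Ideal.span {b : S | ¬IsUnit b} ^ 2)
    hpt ψ hψ fun a ha => by
      have h := hψn a ((IsLocalRing.mem_maximalIdeal a).2 ha)
      rw [hd0, zero_mul, sub_zero] at h
      exact Ideal.pow_right_mono (fun b hb => Ideal.subset_span ((IsLocalRing.mem_maximalIdeal b).1 hb)) 2 h
  have : IsLocallyNoetherian A.left := LocallyOfFiniteType.isLocallyNoetherian A.hom
  have hfield : IsField (A.left.presheaf.stalk e) := by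
    algebraize [(φ.stalkMap e).hom]
    have : IsLocalHom (algebraMap (A.left.presheaf.stalk (φ e)) (A.left.presheaf.stalk e)) :=
      inferInstanceAs <| IsLocalHom (φ.stalkMap e).hom
    have : Algebra.EssFiniteType (A.left.presheaf.stalk (φ e)) (A.left.presheaf.stalk e) :=
      RingHom.essFiniteType_algebraMap.1 (LocallyOfFiniteType.stalkMap φ e)
    have : Algebra.FormallyUnramified (A.left.presheaf.stalk (φ e)) (A.left.presheaf.stalk e) :=
      RingHom.formallyUnramified_algebraMap.1 (FormallyUnramified.stalkMap φ e)
    rw [IsLocalRing.isField_iff_maximalIdeal_eq]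
    set m := IsLocalRing.maximalIdeal (A.left.presheaf.stalk e)
    have hle : m ≤ m * m := by
      conv_lhs => rw [show m = _ from
        (Algebra.FormallyUnramified.map_maximalIdeal (R := A.left.presheaf.stalk (φ e))).symm]
      rw [← pow_two]
      refine Ideal.map_le_iff_le_comap.2 fun a ha => ?_
      exact Ideal.pow_right_mono (Ideal.span_le.2 fun b hb => (IsLocalRing.mem_maximalIdeal b).2 hb) 2
        (hχ a ((IsLocalRing.mem_maximalIdeal a).1 ha))
    exact Submodule.eq_bot_of_le_smul_of_le_jacobson_bot m m (IsNoetherian.noetherian _) hle
      (IsLocalRing.maximalIdeal_le_jacobson _)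
  have : Subsingleton (Spec (CommRingCat.of K)) := inferInstanceAs (Subsingleton (PrimeSpectrum K))
  have : IsIntegral A.left := GeometricallyIntegral.isIntegral_of_subsingleton A.hom
  have hgen : genericPoint A.left = e := by
    have h : genericPoint A.left ∈ Set.range (A.left.fromSpecStalk e) := by
      rw [A.left.range_fromSpecStalk]; exact genericPoint_specializes e
    obtain ⟨q, hq⟩ := h
    let := hfield.toField
    have hs : Subsingleton (Spec (A.left.presheaf.stalk e)) :=
      inferInstanceAs (Subsingleton (PrimeSpectrum (A.left.presheaf.stalk e)))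
    rw [← hq, @Subsingleton.elim _ hs q (IsLocalRing.closedPoint _), Scheme.fromSpecStalk_closedPoint]
  have hclosed : IsClosed ({e} : Set A.left) := by
    have h := (η[A].left).isClosedEmbedding.isClosedMap {IsLocalRing.closedPoint K}
      ((Set.subsingleton_of_subsingleton (s := ({IsLocalRing.closedPoint K} : Set (Spec (CommRingCat.of K))))).isClosed)
    have h2 : η[A].left '' {(IsLocalRing.closedPoint K : Spec (CommRingCat.of K))} = ({e} : Set A.left) := Set.image_singleton
    rwa [h2] at h
  have : Subsingleton A.left := by
    have h : ({e} : Set A.left) = Set.univ := by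
      rw [← hclosed.closure_eq, ← hgen]; exact genericPoint_closure _
    exact Set.subsingleton_univ_iff.1 (h ▸ Set.subsingleton_singleton)
  exact absurd (topologicalKrullDim_zero_of_discreteTopology A.left) hA.not_ge

end Groth.Agent.S0382
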