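import Groth.Statements.S9709
import Mathlib

set_option autoImplicit false
universe u
open CategoryTheory CategoryTheory.Limits AlgebraicGeometry
open Mor

namespace Groth.Agent.S9709

/-- Let f : X ⟶ S be an integral morphism. Then every point x of X is closed in its fibre: a point of
f⁻¹(f x) specialising from x equals x. -/
theorem result {X S : Scheme.{u}} (f : X ⟶ S) [IsIntegralHom f] (x : X) :
    closure {x} ∩ f.base ⁻¹' {f.base x} = {x} := by
  refine Set.eq_singleton_iff_unique_mem.2 ⟨⟨subset_closure rfl, rfl⟩, ?_⟩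
  rintro y ⟨hy, hfy⟩
  have hs : x ⤳ y := specializes_iff_mem_closure.2 hy
  change f y = f x at hfy
  obtain ⟨V, hV, hyV, -⟩ := exists_isAffineOpen_mem_and_subset (show f y ∈ (⊤ : S.Opens) from trivial)
  have hU := hV.preimage f
  have hxU : x ∈ f ⁻¹ᵁ V := hs.mem_open (f ⁻¹ᵁ V).2 hyV
  have hint : (f.app V).hom.IsIntegral := IsIntegralHom.isIntegral_app f V hV
  let P := hU.primeIdealOf ⟨x, hxU⟩
  let Q := hU.primeIdealOf ⟨y, hyV⟩
  have hle : P.asIdeal ≤ Q.asIdeal := by
    change P ≤ Q
    rw [PrimeSpectrum.le_iff_specializes]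
    refine hU.fromSpec.isOpenEmbedding.isInducing.specializes_iff.1 ?_
    erw [hU.fromSpec_primeIdealOf, hU.fromSpec_primeIdealOf]
    exact hs
  have hc : PrimeSpectrum.comap (f.app V).hom P = PrimeSpectrum.comap (f.app V).hom Q := by
    have e : ∀ z : (f ⁻¹ᵁ V : X.Opens), hV.fromSpec (PrimeSpectrum.comap (f.app V).hom (hU.primeIdealOf z))
        = f z.1 := fun z => by
      have h := hV.SpecMap_appLE_fromSpec f hU le_rfl
      rw [Scheme.Hom.app_eq_appLE]
      exact (congr($(h).base (hU.primeIdealOf z))).trans (congrArg f (hU.fromSpec_primeIdealOf z))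
    apply hV.fromSpec.isOpenEmbedding.injective
    exact (e ⟨x, hxU⟩).trans (hfy.symm.trans (e ⟨y, hyV⟩).symm)
  letI := (f.app V).hom.toAlgebra
  haveI : Algebra.IsIntegral Γ(S, V) Γ(X, f ⁻¹ᵁ V) := ⟨hint⟩
  have : P = Q := by
    by_contra hne
    have hlt : P.asIdeal < Q.asIdeal := lt_of_le_of_ne hle fun h => hne (PrimeSpectrum.ext h)
    exact (Ideal.IsIntegral.comap_lt_comap (R := Γ(S, V)) hlt).ne (congrArg PrimeSpectrum.asIdeal hc)
  have := congrArg hU.fromSpec this
  rw [hU.fromSpec_primeIdealOf, hU.fromSpec_primeIdealOf] at this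
  exact this.symm

end Groth.Agent.S9709
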