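import Groth.Statements.S9683
import Groth.Agent.DimChain.Basic
import Groth.Agent.S9709

set_option autoImplicit false
universe u
open CategoryTheory CategoryTheory.Limits AlgebraicGeometry
open Mor

namespace Groth.Agent.S9683

/-- For any integral morphism of schemes f : X ⟶ Y, the dimension of X is at most that of Y, and if f is
surjective then dim X = dim Y (dimensions of the underlying topological spaces). -/
theorem result {X Y : Scheme.{u}} (f : X ⟶ Y) [IsIntegralHom f] :
    topologicalKrullDim ↥X ≤ topologicalKrullDim ↥Y ∧
      (Surjective f → topologicalKrullDim ↥X = topologicalKrullDim ↥Y) := by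
  set_option backward.isDefEq.respectTransparency false in
  have h1 : topologicalKrullDim ↥X ≤ topologicalKrullDim ↥Y :=
    Groth.Agent.DimChain.le_of_incomparable f f.continuous fun a b hab he => by
      have h := Groth.Agent.S9709.result f a
      have : b ∈ closure {a} ∩ f.base ⁻¹' {f.base a} := ⟨specializes_iff_mem_closure.1 hab, he.symm⟩
      rw [h] at this
      exact this.symm
  exact ⟨h1, fun hs => le_antisymm h1 (Groth.Agent.DimChain.le_of_specializingMap f hs.surj
    f.isClosedMap.specializingMap)⟩

end Groth.Agent.S9683
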