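import Groth.Statements.S19771
import Groth.Agent.AVAmple.Mumford
import Groth.Agent.AVAmple.Translate
import Groth.Agent.AgDual.FinitePts
import Groth.Agent.AgSymm.Fibre
import Groth.Agent.TMul.RelAmpleOps
-- import your own Groth.Agent.* helpers here

set_option autoImplicit false
universe u
open CategoryTheory MonoidalCategory CartesianMonoidalCategory MonObj GrpObj AlgebraicGeometry
open AbSch

set_option backward.isDefEq.respectTransparency false
set_option backward.isDefEq.respectTransparency.types false
set_option linter.style.haveILetI false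

namespace Groth.Agent.S19771

noncomputable section

attribute [local instance] W7Cube.law
open Groth.Agent.W7Cube (pull pull_pull pull_cls pc pull_pc pc_id)

/-- A proper scheme with finitely many geometric points over every geometric point of the base is finite. -/
theorem isFinite_of_points {S : Scheme.{u}} (K : Over S) [IsProper K.hom]
    (h : ∀ (Ω : Type u) [Field Ω] [IsAlgClosed Ω] (τ : Spec (CommRingCat.of Ω) ⟶ S), Finite (Over.mk τ ⟶ K)) :
    IsFinite K.hom := by
  refine (IsFinite.iff_isProper_and_locallyQuasiFinite K.hom).2 ⟨inferInstance, ?_⟩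
  refine LocallyQuasiFinite.of_finite_preimage_singleton K.hom fun q => ?_
  obtain ⟨Ω, _, _, τ, hτ⟩ := AgSymm.exists_geometric q
  let p := Limits.pullback.snd K.hom τ
  haveI : JacobsonSpace ↥(Limits.pullback K.hom τ) := LocallyOfFiniteType.jacobsonSpace p
  haveI : Finite ↥(Limits.pullback K.hom τ) := by
    refine AgDual.finite_of_closedPoints ?_
    rw [← Set.finite_coe_iff]
    haveI := h Ω τ
    haveI : Finite {s : Spec (CommRingCat.of Ω) ⟶ Limits.pullback K.hom τ // s ≫ p = 𝟙 _} := by
      refine Finite.of_injective (β := Over.mk τ ⟶ K)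
        (fun s => Over.homMk (s.1 ≫ Limits.pullback.fst _ _) (by
          rw [Category.assoc, Limits.pullback.condition, ← Category.assoc, s.2]
          exact Category.id_comp _)) fun s t hst => Subtype.ext (Limits.pullback.hom_ext
            (congrArg (fun a : Over.mk τ ⟶ K => a.left) hst) (s.2.trans t.2.symm))
    exact Finite.of_equiv _ (pointEquivClosedPoint p)
  refine (Set.finite_range (Limits.pullback.fst K.hom τ)).subset fun x hx => ?_
  obtain ⟨z, hz, -⟩ := Scheme.Pullback.exists_preimage_pullback (f := K.hom) (g := τ) x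
    (IsLocalRing.closedPoint Ω) ((Set.mem_singleton_iff.1 hx).trans (hτ _).symm)
  exact ⟨z, hz⟩

variable {S : Scheme.{u}} {A : Over S} [GrpObj A] {Ω : Type u} [Field Ω] {τ : Spec (CommRingCat.of Ω) ⟶ S}

omit [GrpObj A] in
theorem toBase_left {U : Over (Spec (CommRingCat.of Ω))} (f : U ⟶ Red.bc τ A) :
    (((Over.mapPullbackAdj τ).homEquiv _ _).symm f : (Over.map τ).obj U ⟶ A).left =
      f.left ≫ Limits.pullback.fst _ _ := by
  rw [Adjunction.homEquiv_counit]
  simp [Over.mapPullbackAdj]

theorem toBase_mul {U : Over (Spec (CommRingCat.of Ω))} (f g : U ⟶ Red.bc τ A) :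
    (((Over.mapPullbackAdj τ).homEquiv _ _).symm (f * g) : (Over.map τ).obj U ⟶ A) =
      ((Over.mapPullbackAdj τ).homEquiv _ _).symm f * ((Over.mapPullbackAdj τ).homEquiv _ _).symm g := by
  apply ((Over.mapPullbackAdj τ).homEquiv _ _).injective
  rw [Equiv.apply_symm_apply, Adjunction.homEquiv_unit, Functor.map_mul, MonObj.comp_mul,
    ← Adjunction.homEquiv_unit, ← Adjunction.homEquiv_unit, Equiv.apply_symm_apply, Equiv.apply_symm_apply]

/-- A geometric point of the base as a point of the base-changed group. -/
def pt (z : Over.mk τ ⟶ A) : 𝟙_ (Over (Spec (CommRingCat.of Ω))) ⟶ Red.bc τ A :=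
  Over.homMk (Limits.pullback.lift z.left (𝟙 _) ((Over.w z).trans (Category.id_comp τ).symm))
    (Limits.pullback.lift_snd _ _ _)

omit [GrpObj A] in
theorem pt_fst (z : Over.mk τ ⟶ A) : (pt z).left ≫ Limits.pullback.fst A.hom τ = z.left :=
  Limits.pullback.lift_fst _ _ _

omit [GrpObj A] in
theorem pt_injective : Function.Injective (pt : (Over.mk τ ⟶ A) → _) := fun z z' h =>
  Over.OverMorphism.ext (by rw [← pt_fst z, h, pt_fst])

/-- Translation by a point of the fibre is the translation on the product. -/
theorem translate_fst (z : Over.mk τ ⟶ A) :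
    (𝟙 (Red.bc τ A) * (toUnit (Red.bc τ A) ≫ pt z)).left ≫ Limits.pullback.fst A.hom τ =
      (fst A (Over.mk τ) * (snd A (Over.mk τ) ≫ z)).left := by
  let B := Red.bc τ A
  let e : (Over.map τ).obj B ⟶ A ⊗ Over.mk τ :=
    lift (Over.homMk (Limits.pullback.fst A.hom τ) Limits.pullback.condition)
      (Over.homMk (Limits.pullback.snd A.hom τ) rfl)
  have he : e.left = 𝟙 _ := by
    refine Limits.pullback.hom_ext ?_ ?_
    · exact (congrArg CommaMorphism.left (lift_fst (Over.homMk (U := (Over.map τ).obj B) (V := A)
        (Limits.pullback.fst A.hom τ) Limits.pullback.condition) (Over.homMk (U := (Over.map τ).obj B)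
        (V := Over.mk τ) (Limits.pullback.snd A.hom τ) rfl))).trans (Category.id_comp _).symm
    · exact (congrArg CommaMorphism.left (lift_snd (Over.homMk (U := (Over.map τ).obj B) (V := A)
        (Limits.pullback.fst A.hom τ) Limits.pullback.condition) (Over.homMk (U := (Over.map τ).obj B)
        (V := Over.mk τ) (Limits.pullback.snd A.hom τ) rfl))).trans (Category.id_comp _).symm
  have h : (((Over.mapPullbackAdj τ).homEquiv _ _).symm (𝟙 B * (toUnit B ≫ pt z)) : (Over.map τ).obj B ⟶ A) = e ≫ (fst A (Over.mk τ) * (snd A (Over.mk τ) ≫ z)) := by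
    rw [toBase_mul, MonObj.comp_mul]
    congr 1
    · rw [lift_fst]
      exact Over.OverMorphism.ext ((toBase_left _).trans (Category.id_comp _))
    · rw [lift_snd_assoc]
      refine Over.OverMorphism.ext ((toBase_left _).trans ?_)
      rw [Over.comp_left, Over.comp_left, Category.assoc, pt_fst]
      rfl
  refine ((toBase_left _).symm.trans (congrArg CommaMorphism.left h)).trans ?_
  exact (congrArg (· ≫ (fst A (Over.mk τ) * (snd A (Over.mk τ) ≫ z)).left) he).trans (Category.id_comp _)

/-- A point with trivial Mumford bundle fixes the class on the fibre. -/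
theorem fixes_of_triv {L : A.left.Modules} (hL : PicF.IsInvertible L) (z : Over.mk τ ⟶ A)
    (h : ThetaGrp.IsMumfordTriv A L z) :
    pull (𝟙 (Red.bc τ A) * (toUnit (Red.bc τ A) ≫ pt z)).left
        (pull (Limits.pullback.fst A.hom τ) (PicGrp.cls L hL)) =
      pull (Limits.pullback.fst A.hom τ) (PicGrp.cls L hL) := by
  haveI : Subsingleton (Over.mk τ : Over S).left := inferInstanceAs (Subsingleton (PrimeSpectrum Ω))
  haveI : Nonempty (Over.mk τ : Over S).left := inferInstanceAs (Nonempty (PrimeSpectrum Ω))
  have hm : (A ◁ z) ≫ μ[A] = fst A (Over.mk τ) * (snd A (Over.mk τ) ≫ z) := by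
    rw [Hom.mul_def]
    congr 1
  obtain ⟨M, hM, hN⟩ := h
  rw [AgPol.IsLambdaSheaf, ← PicGrp.cl_eq_cl_iff, hm] at hN
  have hcl : PicGrp.cls _ (PicLoc.isInvertible_pullback (snd A (Over.mk τ)).left hM) *
      pull (fst A (Over.mk τ)).left (PicGrp.cls L hL) * pull (snd A (Over.mk τ) ≫ z).left (PicGrp.cls L hL) =
      pull (fst A (Over.mk τ) * (snd A (Over.mk τ) ≫ z)).left (PicGrp.cls L hL) := by
    rw [pull_cls, pull_cls, pull_cls, Subtype.ext_iff]
    rw [PicGrp.mul_val]
    rw [Subtype.ext_iff.1 (rfl : PicGrp.cls _ (PicLoc.isInvertible_pullback (snd A (Over.mk τ)).left hM) *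
      PicGrp.cls _ (PicLoc.isInvertible_pullback (fst A (Over.mk τ)).left hL) = _), PicGrp.mul_val]
    exact hN
  rw [← pull_cls (hL := hM), AgSymm.picSet_eq_one (PicGrp.cls M hM), map_one, _root_.one_mul, Over.comp_left,
    ← pull_pull _ z.left, AgSymm.picSet_eq_one (pull z.left _), map_one, _root_.mul_one] at hcl
  refine (pull_pull _ _ _).trans ?_
  rw [translate_fst]
  exact hcl.symm


/-- Let S be a scheme, A an abelian scheme over S (an S-group scheme whose structure morphism is proper
and smooth with geometrically connected fibres), L an O_A-module that is ample relative to A → S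
(the structure morphism is quasi-compact and L restricted to the preimage of every affine open of S
is ample; in particular L is invertible), and i : K → A a closed immersion of S-schemes exhibiting K
as K(L): the maximal closed subscheme over which the Mumford bundle m^*L ⊗ p_1^*L⁻¹ ⊗ p_2^*L⁻¹ on A
×_S A, restricted to A ×_S K, is the inverse image of an invertible module on K, with its universal
property for S-morphisms T → A. Then K is finite over S. -/
theorem result {S : Scheme.{u}} (A : Over S)
    [GrpObj A] [IsProper A.hom] [Smooth A.hom] [GeometricallyConnected A.hom] (L : A.left.Modules)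
    (hL : RelAmple.IsRelAmple A.hom L)
    (K : Over S) (i : K ⟶ A) (hK : ThetaGrp.IsKL A L i) :
    IsFinite K.hom := by
  haveI := hK.closed
  haveI : IsProper (i.left ≫ A.hom) := inferInstance
  haveI : IsProper K.hom := (Over.w i) ▸ ‹IsProper (i.left ≫ A.hom)›
  refine isFinite_of_points K fun Ω _ _ τ => ?_
  let B := Red.bc τ A
  haveI : IsProper B.hom := inferInstanceAs (IsProper (Limits.pullback.snd A.hom τ))
  haveI : Smooth B.hom := inferInstanceAs (Smooth (Limits.pullback.snd A.hom τ))
  haveI : GeometricallyConnected B.hom := inferInstanceAs (GeometricallyConnected (Limits.pullback.snd A.hom τ))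
  haveI : GeometricallyReduced B.hom := Rigid.geometricallyReduced_of_smooth _
  haveI : GeometricallyIntegral B.hom := W7Cube.geometricallyIntegral_grp
  have hLi : PicF.IsInvertible L := TMul.isInvertible_of_isRelAmple hL
  have hB : CohB1.IsAmple (X := B.left) ((Scheme.Modules.pullback (Limits.pullback.fst A.hom τ)).obj L) :=
    TMul.isRelAmple_iff_isAmple.1 (TMul.isRelAmple_baseChange τ hL)
  haveI : Mono i.left := inferInstance
  haveI : Finite {a : 𝟙_ (Over (Spec (CommRingCat.of Ω))) ⟶ B |
      pc (PicGrp.cls _ hB.1) (𝟙 B * (toUnit B ≫ a)) = PicGrp.cls _ hB.1} := (AVAmple.finite_fixing hB).to_subtype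
  refine Finite.of_injective (β := {a : 𝟙_ (Over (Spec (CommRingCat.of Ω))) ⟶ B |
      pc (PicGrp.cls _ hB.1) (𝟙 B * (toUnit B ≫ a)) = PicGrp.cls _ hB.1})
    (fun y => ⟨pt (y ≫ i), ?_⟩) fun y y' h => ?_
  · have h := fixes_of_triv hLi (y ≫ i) ((hK.univ _ _).2 ⟨y, rfl⟩)
    rwa [pull_cls] at h
  · have h' := congrArg CommaMorphism.left (pt_injective (congrArg Subtype.val h))
    simp only [Over.comp_left] at h'
    exact Over.OverMorphism.ext ((cancel_mono i.left).1 h')

end

end Groth.Agent.S19771
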