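import Groth.Statements.S19947
import Groth.Agent.ThetaLib.KernelDesc
-- import your own Groth.Agent.* helpers here

set_option autoImplicit false
universe u
open CategoryTheory MonoidalCategory CartesianMonoidalCategory MonObj GrpObj AlgebraicGeometry
open ThetaGrp

set_option backward.isDefEq.respectTransparency false
set_option backward.isDefEq.respectTransparency.types false
set_option linter.style.haveILetI false

namespace Groth.Agent.S19947

open ThetaLib

/-- Let f : X → Y be a surjective homomorphism of abelian varieties over a field k (proper,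
geometrically integral, commutative k-group schemes), i : N → X its kernel (a homomorphism of
k-group schemes forming a cartesian square with the unit section of Y), L an invertible O_X-module,
and G a k-group scheme with a point u ∈ G(L)(G) representing the theta group of L (every point of
G(L)(T) is the base change of u along a unique T → G, multiplicatively). Then L descends to Y, i.e.
there is an invertible O_Y-module M with f^*M ≅ L, if and only if the inclusion i lifts to a
homomorphism of group schemes j : N → G over X: for every k-scheme T and every T-valued point n of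
N, the base change of u along j(n) lies over the translation by i(n). (The source states a bijection
between the isomorphism classes of such M and the set of such homomorphisms; this row states that
one set is non-empty exactly when the other is.) -/
theorem result (k : Type u) [Field k]
    (A : Over (Spec (CommRingCat.of k))) [GrpObj A] [IsCommMonObj A] [IsProper A.hom] [GeometricallyIntegral A.hom]
    (B : Over (Spec (CommRingCat.of k))) [GrpObj B] [IsCommMonObj B] [IsProper B.hom] [GeometricallyIntegral B.hom]
    (f : A ⟶ B) [IsMonHom f] (hf : Surjective f.left)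
    (N : Over (Spec (CommRingCat.of k))) [GrpObj N] (i : N ⟶ A) [IsMonHom i] (hN : AlgGrp.IsKernel i f)
    (L : A.left.Modules) (hL : PicF.IsInvertible L)
    (G : Over (Spec (CommRingCat.of k))) [GrpObj G] (u : ThetaGrp.thetaPts A L G)
    (hG : ThetaGrp.IsThetaGrpSch A L G u) :
    (∃ M : B.left.Modules, PicF.IsInvertible M ∧ Nonempty ((Scheme.Modules.pullback f.left).obj M ≅ L)) ↔
      ∃ j : N ⟶ G, IsMonHom j ∧
        ∀ (T : Over (Spec (CommRingCat.of k))) (n : T ⟶ N) (β : ThetaGrp.thetaPts A L T),
          ThetaGrp.IsBaseChange β (n ≫ j) u → ThetaGrp.IsOverPt β (n ≫ i) := by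
  obtain ⟨p, hp⟩ := exists_pt u
  constructor
  · rintro ⟨M, hM, ⟨e⟩⟩
    have hover : ∀ (T : Over (Spec (CommRingCat.of k))) (n : T ⟶ N),
        IsOverPt (1 : ThetaGrp.thetaPts B M T) ((n ≫ i) ≫ f) := fun T n => by
      rw [Category.assoc, show i ≫ f = (1 : N ⟶ B) from hN.w, MonObj.comp_one]
      exact isOverPt_one
    choose lft hlft hlftx using fun (T : Over (Spec (CommRingCat.of k))) (n : T ⟶ N) =>
      exists_descPt f e (hover T n)
    obtain ⟨j, hj, -⟩ := hG.univ N (lft N (𝟙 N))
    have hbc : ∀ (T : Over (Spec (CommRingCat.of k))) (n : T ⟶ N),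
        ThetaGrp.IsBaseChange (lft T n) (n ≫ j) u := fun T n => by
      obtain ⟨c, hc, hcx⟩ := exists_bc n (hlftx N (𝟙 N))
      obtain ⟨d, hd, -⟩ := exists_bc n (hover N (𝟙 N))
      have h := isDescPt_bc f e (hover N (𝟙 N)) (hlft N (𝟙 N)) (hlftx N (𝟙 N)) hc hd
      rw [show d = 1 from bc_unique hd ((Category.id_comp _).trans (Category.comp_id _).symm)] at h
      rw [show n ≫ 𝟙 N ≫ i = n ≫ i by rw [Category.id_comp]] at hcx
      rw [← isDescPt_unique f e h (hlft T n) hcx (hlftx T n)]
      exact bc_trans hc hj
    have hmul : ∀ (T : Over (Spec (CommRingCat.of k))) (a b : T ⟶ N), (a * b) ≫ j = (a ≫ j) * (b ≫ j) :=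
        fun T a b => by
      have h2 : lft T a * lft T b = lft T (a * b) := by
        refine isDescPt_unique f e ?_ (hlft T (a * b)) (isOverPt_mul (hlftx T a) (hlftx T b)) ?_
        · have h := isDescPt_mul f e (hlft T a) (hlft T b)
          rwa [_root_.one_mul] at h
        · rw [_root_.mul_comm (b ≫ i), ← MonObj.mul_comp]
          exact hlftx T (a * b)
      have h3 := hG.mul T _ _ _ _ (hbc T a) (hbc T b)
      rw [h2] at h3
      exact (hG.univ T _).unique (hbc T (a * b)) h3
    have hone : η[N] ≫ j = η[G] := by
      have h := hmul (𝟙_ _) 1 1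
      rw [_root_.one_mul] at h
      have h' : (1 : 𝟙_ _ ⟶ N) ≫ j = 1 := right_eq_mul.1 h
      simpa [Hom.one_def] using h'
    refine ⟨j, ⟨hone, by
      have h := hmul (N ⊗ N) (fst N N) (snd N N)
      simpa [Hom.mul_def, MonoidalCategory.tensorHom_def] using h⟩, fun T n β hβ => ?_⟩
    rw [bc_unique hβ (hbc T n)]
    exact hlftx T n
  · rintro ⟨j, hj, hover⟩
    choose lft hlft _huniq using fun (T : Over (Spec (CommRingCat.of k))) (n : T ⟶ N) =>
      hG.exists_bc T (n ≫ j)
    refine exists_desc_of_lifts f hf hN hL lft (fun T n => hover T n _ (hlft T n)) (fun T T' t n => ?_) fun T a b => ?_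
    · obtain ⟨c, hc, -⟩ := exists_bc t (hover T n _ (hlft T n))
      have h := bc_trans hc (hlft T n)
      rw [← Category.assoc] at h
      rwa [bc_unique (hlft T' (t ≫ n)) h]
    · refine bc_unique (hlft T (a * b)) ?_
      rw [MonObj.mul_comp]
      exact hG.mul T _ _ _ _ (hlft T a) (hlft T b)

end Groth.Agent.S19947
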