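import Groth.Statements.S5342
import Groth.Agent.GeomConn.Basic

set_option autoImplicit false
universe u
open CategoryTheory CategoryTheory.Limits MonoidalCategory CartesianMonoidalCategory MonObj GrpObj AlgebraicGeometry
open SGA3

namespace Groth.Agent.S5342

/-- Let X and Y be connected schemes over a field k such that X has a k-rational point (a section of X →
Spec k). Then X ×_k Y is connected. -/
theorem result (k : Type u) [Field k] (X Y : Scheme.{u})
    (f : X ⟶ Spec (CommRingCat.of k)) (g : Y ⟶ Spec (CommRingCat.of k)) [ConnectedSpace X] [ConnectedSpace Y]
    (x : Spec (CommRingCat.of k) ⟶ X) (hx : x ≫ f = 𝟙 _) : ConnectedSpace ↥(pullback f g) := by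
  have : GeometricallyConnected f := by
    rw [geometricallyConnected_iff, geometrically_iff_of_commRing_of_isClosedUnderIsomorphisms]
    intro K _ _
    have : GeometricallyConnected (𝟙 (Spec (CommRingCat.of k))) := by
      rw [geometricallyConnected_iff]
      intro L _ y Z p q sq
      have : IsIso q := (MorphismProperty.isomorphisms _).of_isPullback sq (inferInstanceAs (IsIso (𝟙 _)))
      exact q.homeomorph.symm.surjective.connectedSpace
        q.homeomorph.symm.continuous
    have h := Groth.Agent.GeomConn.isConnected_preimage_connectedComponent (K := K) f (𝟙 _) x hx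
      (IsLocalRing.closedPoint k)
    rw [PreconnectedSpace.connectedComponent_eq_univ, Set.preimage_univ] at h
    exact connectedSpace_iff_univ.2 h
  infer_instance

end Groth.Agent.S5342
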