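import Groth.Statements.S0927
import Groth.Agent.TMul.Frame
import Groth.Agent.CohQC.RpushModules
import Groth.Agent.GrothSS.SupportSS
import Groth.Agent.GrothSS.Ext
import Groth.Agent.DerPush.Basic
import Groth.Agent.GrT.Vanish
import Groth.Agent.KFlat.Pullback
import Groth.Agent.S0456

set_option autoImplicit false
universe u
open CategoryTheory
open Coh

set_option backward.isDefEq.respectTransparency false
set_option linter.style.haveILetI false
noncomputable section

namespace Groth.Agent.S0927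

open CategoryTheory.Limits AlgebraicGeometry TopologicalSpace Opposite
open Groth.Agent.QC (res res_res app_res res_self)
open Groth.Agent.WeakAssLib (mgerm mgerm_res)
open TMul

variable {X Y : Scheme.{u}}

section TensFunctor

variable (N : X.Modules)

/-- the bilinear maps behind `tmap` -/
def tmapB {M M' : X.Modules} (φ : M ⟶ M') (U : X.Opens) :
    Γ(N, U) →ₗ[Γ(X, U)] Γ(M, U) →ₗ[Γ(X, U)] Γ(CohB1.tensorMod N M', U) :=
  LinearMap.mk₂ _ (fun a b => tm a (φ.app U b))
    (fun a a' b => tm_add a a' _)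
    (fun r a b => smul_tm r a _)
    (fun a b b' => by rw [map_add, add_tm])
    (fun r a b => by rw [TMul.app_smul, tm_smul])

lemma tmapB_res {M M' : X.Modules} (φ : M ⟶ M') {V U : X.Opens} (h : V ≤ U) (a : Γ(N, U)) (b : Γ(M, U)) :
    res (CohB1.tensorMod N M') h (tmapB N φ U a b) = tmapB N φ V (res N h a) (res M h b) := by
  simp only [tmapB, LinearMap.mk₂_apply]
  rw [res_tm, app_res]

/-- tensoring a morphism on the right-hand factor -/
def tmap {M M' : X.Modules} (φ : M ⟶ M') : CohB1.tensorMod N M ⟶ CohB1.tensorMod N M' :=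
  TMul.lift (tmapB N φ) (tmapB_res N φ)

lemma tmap_tm {M M' : X.Modules} (φ : M ⟶ M') {U : X.Opens} (a : Γ(N, U)) (b : Γ(M, U)) :
    (tmap N φ).app U (tm a b) = tm a (φ.app U b) :=
  TMul.lift_tm (tmapB N φ) (tmapB_res N φ) a b

/-- tensoring with `N` as a functor -/
def tens : X.Modules ⥤ X.Modules where
  obj M := CohB1.tensorMod N M
  map φ := tmap N φ
  map_id M := TMul.hom_ext fun U a b => (tmap_tm N _ a b).trans rfl
  map_comp φ ψ := TMul.hom_ext fun U a b => by
    show (tmap N (φ ≫ ψ)).app U _ = (tmap N ψ).app U ((tmap N φ).app U _)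
    rw [tmap_tm, tmap_tm, tmap_tm]
    rfl

instance : (tens N).Additive where
  map_add {M M' φ ψ} := TMul.hom_ext fun U a b => by
    show (tmap N (φ + ψ)).app U _ = (tmap N φ).app U _ + (tmap N ψ).app U _
    rw [tmap_tm, tmap_tm, tmap_tm]
    exact add_tm a _ _

lemma germ_tm_congr {M : X.Modules} {U : X.Opens} {n : ℕ} (e : Fin n → Γ(N, U)) {i : Fin n} {x : X}
    {W W' : X.Opens} (hW : W ≤ U) (hW' : W' ≤ U) (hx : x ∈ W) (hx' : x ∈ W') (b : Γ(M, W)) (b' : Γ(M, W'))
    (h : mgerm M hx b = mgerm M hx' b') :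
    mgerm (CohB1.tensorMod N M) hx (tm (res N hW (e i)) b) =
      mgerm (CohB1.tensorMod N M) hx' (tm (res N hW' (e i)) b') := by
  obtain ⟨O, hxO, i₁, i₂, hO⟩ := TopCat.Presheaf.germ_eq M.presheaf x hx hx' b b' h
  rw [← mgerm_res (CohB1.tensorMod N M) i₁.le hxO, ← mgerm_res (CohB1.tensorMod N M) i₂.le hxO,
    res_tm, res_tm, res_res, res_res, show res M i₁.le b = res M i₂.le b' from hO]

/-- every point has a neighbourhood with a frame -/
def HasFrames : Prop := ∀ x : X, ∃ (U : X.Opens) (n : ℕ) (e : Fin n → Γ(N, U)), x ∈ U ∧ IsFrame e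

variable {N}

lemma stalk_map_mgerm {M M' : X.Modules} (φ : M ⟶ M') {U : X.Opens} {x : X} (hx : x ∈ U) (s : Γ(M, U)) :
    ((DerSch.stalkFunctor X x).map φ).hom (mgerm M hx s) = mgerm M' hx (φ.app U s) :=
  TopCat.Presheaf.stalkFunctor_map_germ_apply U x hx φ.mapPresheaf s

theorem exact_of_stalks (S : ShortComplex X.Modules)
    (h : ∀ x : X, (S.map (DerSch.stalkFunctor X x)).Exact) : S.Exact := by
  rw [ShortComplex.exact_iff_isZero_homology]
  refine KFlat.isZero_of_stalks _ fun x => ?_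
  exact ((ShortComplex.exact_iff_isZero_homology _).1 (h x)).of_iso
    (S.mapHomologyIso (DerSch.stalkFunctor X x)).symm

theorem tens_exact (hN : HasFrames N) (S : ShortComplex X.Modules) (hS : S.Exact) :
    (S.map (tens N)).Exact := by
  classical
  refine exact_of_stalks _ fun x => ?_
  rw [ShortComplex.moduleCat_exact_iff]
  intro σ hσ
  obtain ⟨U, n, e, hxU, he⟩ := hN x
  obtain ⟨W, hxW, s, hs⟩ := (CohB1.tensorMod N S.X₂).presheaf.exists_germ_eq (x := x) σ
  have hσ' : ((DerSch.stalkFunctor X x).map (tmap N S.g)).hom (mgerm (CohB1.tensorMod N S.X₂) hxW s) = 0 := by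
    rw [show mgerm (CohB1.tensorMod N S.X₂) hxW s = σ from hs]; exact hσ
  rw [stalk_map_mgerm, ← map_zero (mgerm (CohB1.tensorMod N S.X₃) hxW)] at hσ'
  obtain ⟨V₀, hxV₀, i₁, i₂, hz⟩ :=
    TopCat.Presheaf.germ_eq (CohB1.tensorMod N S.X₃).presheaf x hxW hxW _ _ hσ'
  have hz' : res (CohB1.tensorMod N S.X₃) i₁.le ((tmap N S.g).app W s) = 0 := hz.trans (map_zero _)
  let V : X.Opens := V₀ ⊓ U
  have hxV : x ∈ V := ⟨hxV₀, hxU⟩
  have hVW : V ≤ W := inf_le_left.trans i₁.le
  obtain ⟨m, hm⟩ := (he.tm_bijective (M := S.X₂) V inf_le_right).2 (res (CohB1.tensorMod N S.X₂) hVW s)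
  dsimp only at hm
  have hzero : (fun i => S.g.app V (m i)) = 0 := by
    apply (he.tm_bijective (M := S.X₃) V inf_le_right).1
    have h1 : res (CohB1.tensorMod N S.X₃) (inf_le_left : V ≤ V₀)
        (res (CohB1.tensorMod N S.X₃) i₁.le ((tmap N S.g).app W s)) = 0 := by rw [hz', map_zero]
    rw [res_res, app_res, ← hm, map_sum] at h1
    simp only [tmap_tm] at h1
    refine h1.trans ?_
    simp [← tt_tmul]
  have hex : ∀ i, ∃ τ, ((DerSch.stalkFunctor X x).map S.f).hom τ = mgerm S.X₂ hxV (m i) := fun i => by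
    refine (ShortComplex.moduleCat_exact_iff _).1 (hS.map (DerSch.stalkFunctor X x)) _ ?_
    show ((DerSch.stalkFunctor X x).map S.g).hom (mgerm S.X₂ hxV (m i)) = 0
    rw [stalk_map_mgerm, show S.g.app V (m i) = 0 from congrFun hzero i, map_zero]
  choose τ hτ using hex
  choose Wi hxWi ti hti using fun i => S.X₁.presheaf.exists_germ_eq (x := x) (τ i)
  refine ⟨∑ i, mgerm (CohB1.tensorMod N S.X₁) (show x ∈ Wi i ⊓ U from ⟨hxWi i, hxU⟩)
    (tm (res N inf_le_right (e i)) (res S.X₁ inf_le_left (ti i))), ?_⟩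
  have hσV : σ = ∑ i, mgerm (CohB1.tensorMod N S.X₂) hxV (tm (res N inf_le_right (e i)) (m i)) := by
    rw [← map_sum, hm, mgerm_res]
    exact hs.symm
  rw [hσV]
  refine (map_sum ((DerSch.stalkFunctor X x).map (tmap N S.f)).hom _ _).trans
    (Finset.sum_congr rfl fun i _ => ?_)
  rw [stalk_map_mgerm, tmap_tm]
  refine germ_tm_congr N e inf_le_right inf_le_right _ hxV _ _ ?_
  rw [← stalk_map_mgerm, mgerm_res, ← hτ i]
  exact congrArg _ (hti i)

end TensFunctor

section Flasque

theorem flasque_surjective (M : X.Modules)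
    (h : ∀ x : X, ∃ U : X.Opens, x ∈ U ∧ ∀ V : X.Opens, ∀ hV : V ≤ U, Function.Surjective (res M hV)) :
    TopCat.Sheaf.IsFlasque (Coh.toAb M) := by
  classical
  have key : ∀ (V₀ : X.Opens) (s₀ : Γ(M, V₀)), ∃ t : Γ(M, (⊤ : X.Opens)), res M le_top t = s₀ := by
    intro V₀ s₀
    let P := Σ' (V : X.Opens) (hle : V₀ ≤ V), {t : Γ(M, V) // res M hle t = s₀}
    let R : P → P → Prop := fun p q => ∃ hpq : p.1 ≤ q.1, res M hpq q.2.2.1 = p.2.2.1
    have hrefl : ∀ p, R p p := fun p => ⟨le_rfl, res_self M _ _⟩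
    haveI : Std.Refl R := ⟨hrefl⟩
    have htrans : ∀ {a b c}, R a b → R b c → R a c := fun {a b c} ⟨h₁, e₁⟩ ⟨h₂, e₂⟩ =>
      ⟨h₁.trans h₂, by rw [← res_res M h₁ h₂, e₂, e₁]⟩
    obtain ⟨p, hp⟩ : ∃ p : P, ∀ q, R p q → R q p := by
      refine exists_maximal_of_chains_bounded (fun c hc => ?_) htrans
      rcases c.eq_empty_or_nonempty with rfl | ⟨p₀, hp₀⟩
      · exact ⟨⟨V₀, le_rfl, s₀, res_self M _ _⟩, fun q hq => absurd hq (Set.notMem_empty q)⟩
      let Wc : c → X.Opens := fun q => q.1.1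
      obtain ⟨t, ht, -⟩ := TopCat.Sheaf.existsUnique_gluing' (Groth.Agent.QC.abSheaf M) Wc (iSup Wc)
        (fun q => homOfLE (le_iSup Wc q)) le_rfl (fun q => q.1.2.2.1) (fun q r => by
          rcases hc.total q.2 r.2 with ⟨hqr, e⟩ | ⟨hqr, e⟩
          · show res M _ q.1.2.2.1 = res M _ r.1.2.2.1
            rw [← e, res_res]
          · show res M _ q.1.2.2.1 = res M _ r.1.2.2.1
            rw [← e, res_res])
      refine ⟨⟨iSup Wc, p₀.2.1.trans (le_iSup Wc ⟨p₀, hp₀⟩), t, ?_⟩, fun q hq => ⟨le_iSup Wc ⟨q, hq⟩, ht ⟨q, hq⟩⟩⟩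
      rw [← res_res M p₀.2.1 (le_iSup Wc ⟨p₀, hp₀⟩), show res M (le_iSup Wc ⟨p₀, hp₀⟩) t = p₀.2.2.1 from ht ⟨p₀, hp₀⟩,
        p₀.2.2.2]
    obtain ⟨V, hle, t, ht⟩ := p
    have htop : V = ⊤ := by
      refine eq_top_iff.2 fun x _ => ?_
      by_contra hx
      obtain ⟨U, hxU, hU⟩ := h x
      obtain ⟨t', ht'⟩ := hU (V ⊓ U) inf_le_right (res M inf_le_left t)
      obtain ⟨t'', ht'', -⟩ := TopCat.Sheaf.existsUnique_gluing' (Groth.Agent.QC.abSheaf M)
        (fun b : Bool => cond b V U) (V ⊔ U)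
        (fun b => homOfLE (by cases b; exacts [le_sup_right, le_sup_left]))
        (sup_le (le_iSup (fun b : Bool => cond b V U) true) (le_iSup (fun b : Bool => cond b V U) false))
        (fun b => match b with | true => t | false => t') (fun a b => by
          cases a <;> cases b
          · rfl
          · show res M (inf_le_left : U ⊓ V ≤ U) t' = res M (inf_le_right : U ⊓ V ≤ V) t
            rw [← res_res M (show U ⊓ V ≤ V ⊓ U from (inf_comm U V).le) inf_le_right, ht', res_res]
          · show res M (inf_le_left : V ⊓ U ≤ V) t = res M (inf_le_right : V ⊓ U ≤ U) t'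
            rw [ht']
          · rfl)
      have e1 : res M (le_sup_left : V ≤ V ⊔ U) t'' = t := ht'' true
      obtain ⟨hle', -⟩ := hp ⟨V ⊔ U, hle.trans le_sup_left, t'', by
        rw [← res_res M hle le_sup_left, e1, ht]⟩ ⟨le_sup_left, e1⟩
      exact hx (hle' (Or.inr hxU))
    subst htop
    exact ⟨t, ht⟩
  refine ⟨fun {U V} i => (AddCommGrpCat.epi_iff_surjective _).mpr fun s => ?_⟩
  obtain ⟨t, ht⟩ := key V.unop s
  exact ⟨res M le_top t, (res_res M i.unop.le le_top t).trans ht⟩

theorem flasque_tensor {N : X.Modules} (hN : HasFrames N) (I : X.Modules) [Injective I] :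
    TopCat.Sheaf.IsFlasque (Coh.toAb (CohB1.tensorMod N I)) := by
  refine flasque_surjective _ fun x => ?_
  obtain ⟨U, n, e, hxU, he⟩ := hN x
  refine ⟨U, hxU, fun V hV s => ?_⟩
  obtain ⟨m, rfl⟩ := (he.tm_bijective (M := I) V hV).2 s
  choose m' hm' using fun i =>
    CohQC.sections_surjective_of_injective (R := X.ringCatSheaf) I (homOfLE hV) (m i)
  refine ⟨∑ i, tm (e i) (m' i), ?_⟩
  rw [map_sum]
  refine Finset.sum_congr rfl fun i _ => ?_
  rw [res_tm]
  exact congrArg (tm _) (hm' i)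

end Flasque

section Projection

variable (f : X ⟶ Y) (E : Y.Modules)

/-- the pull-back of sections -/
abbrev eta (U : Y.Opens) : Γ(E, U) →+ Γ((Scheme.Modules.pullback f).obj E, f ⁻¹ᵁ U) :=
  (((Scheme.Modules.pullbackPushforwardAdjunction f).unit.app E).app U).hom

lemma eta_smul {U : Y.Opens} (r : Γ(Y, U)) (a : Γ(E, U)) :
    eta f E U (r • a) = (f.app U r : Γ(X, f ⁻¹ᵁ U)) • eta f E U a :=
  TMul.app_smul ((Scheme.Modules.pullbackPushforwardAdjunction f).unit.app E) r a

lemma eta_res {V U : Y.Opens} (h : V ≤ U) (a : Γ(E, U)) :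
    res ((Scheme.Modules.pullback f).obj E) (f.preimage_mono h) (eta f E U a) = eta f E V (res E h a) :=
  app_res ((Scheme.Modules.pullbackPushforwardAdjunction f).unit.app E) h a

/-- the bilinear maps behind `proj` -/
def projB (M : X.Modules) (U : Y.Opens) :
    Γ(E, U) →ₗ[Γ(Y, U)] Γ((Scheme.Modules.pushforward f).obj M, U) →ₗ[Γ(Y, U)]
      Γ((Scheme.Modules.pushforward f).obj (CohB1.tensorMod ((Scheme.Modules.pullback f).obj E) M), U) :=
  LinearMap.mk₂ _
    (fun a b => (show Γ((Scheme.Modules.pushforward f).obj (CohB1.tensorMod ((Scheme.Modules.pullback f).obj E) M), U)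
      from tm (eta f E U a) (show Γ(M, f ⁻¹ᵁ U) from b)))
    (fun a a' b => by rw [map_add]; exact tm_add _ _ _)
    (fun r a b => by rw [eta_smul]; exact smul_tm _ _ _)
    (fun a b b' => add_tm _ _ _)
    (fun r a b => tm_smul _ _ _)

lemma projB_res (M : X.Modules) {V U : Y.Opens} (h : V ≤ U) (a : Γ(E, U))
    (b : Γ((Scheme.Modules.pushforward f).obj M, U)) :
    res ((Scheme.Modules.pushforward f).obj (CohB1.tensorMod ((Scheme.Modules.pullback f).obj E) M)) h
      (projB f E M U a b) = projB f E M V (res E h a) (res ((Scheme.Modules.pushforward f).obj M) h b) :=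
  (res_tm _ _ _).trans (congrArg (fun z => tm z _) (eta_res f E h a))

/-- the projection morphism -/
def proj (M : X.Modules) : CohB1.tensorMod E ((Scheme.Modules.pushforward f).obj M) ⟶
    (Scheme.Modules.pushforward f).obj (CohB1.tensorMod ((Scheme.Modules.pullback f).obj E) M) :=
  TMul.lift (projB f E M) (projB_res f E M)

lemma proj_tm (M : X.Modules) {U : Y.Opens} (a : Γ(E, U)) (b : Γ((Scheme.Modules.pushforward f).obj M, U)) :
    (proj f E M).app U (tm a b) = tm (eta f E U a) (show Γ(M, f ⁻¹ᵁ U) from b) :=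
  TMul.lift_tm (projB f E M) (projB_res f E M) a b

theorem isIso_proj (hE : FlatMod.IsFinLocFree E) (M : X.Modules) : IsIso (proj f E M) := by
  classical
  have hbij : ∀ {U₀ : Y.Opens} {n : ℕ} (e : Fin n → Γ(E, U₀)), IsFrame e → ∀ V, V ≤ U₀ →
      Function.Bijective ((proj f E M).app V) := by
    intro U₀ n e he V hV
    have hb := he.tm_bijective (M := (Scheme.Modules.pushforward f).obj M) V hV
    refine (Function.Bijective.of_comp_iff _ hb).1 ?_
    have hb' := (IsFrame.pullback f he).tm_bijective (M := M) (f ⁻¹ᵁ V) (f.preimage_mono hV)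
    have hk : ∀ m : Fin n → Γ((Scheme.Modules.pushforward f).obj M, V),
        (proj f E M).app V (∑ i, tm (res E hV (e i)) (m i)) =
          ∑ i, tm (res ((Scheme.Modules.pullback f).obj E) (f.preimage_mono hV) (eta f E U₀ (e i)))
            (show Γ(M, f ⁻¹ᵁ V) from m i) := fun m => by
      refine (map_sum ((proj f E M).app V).hom _ _).trans (Finset.sum_congr rfl fun i _ => ?_)
      refine (proj_tm f E M _ _).trans ?_
      rw [← eta_res f E hV (e i)]
    refine ⟨fun m m' hmm => hb'.1 ?_, fun t => ?_⟩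
    · exact (hk m).symm.trans (hmm.trans (hk m'))
    · obtain ⟨m, hm⟩ := hb'.2 t
      exact ⟨m, (hk m).trans hm⟩
  rw [Scheme.Modules.Hom.isIso_iff_isIso_app]
  intro V
  rw [ConcreteCategory.isIso_iff_bijective]
  have hinj : ∀ V : Y.Opens, Function.Injective ((proj f E M).app V) := fun V s t h =>
    Groth.Agent.QC.section_eq_of_locally fun y hy => by
      obtain ⟨U₀, n, e, hyU, he⟩ := TMul.exists_isFrame hE y
      refine ⟨V ⊓ U₀, inf_le_left, ⟨hy, hyU⟩, (hbij e he _ inf_le_right).1 ?_⟩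
      rw [← app_res, ← app_res, h]
  refine ⟨hinj V, fun t => ?_⟩
  choose U₀ n e hyU he using fun y : V => TMul.exists_isFrame hE (y : Y)
  choose s hs using fun y : V => (hbij (e y) (he y) _ (inf_le_right : V ⊓ U₀ y ≤ U₀ y)).2
    (res ((Scheme.Modules.pushforward f).obj (CohB1.tensorMod ((Scheme.Modules.pullback f).obj E) M)) inf_le_left t)
  obtain ⟨a, ha, -⟩ := TopCat.Sheaf.existsUnique_gluing'
    (Groth.Agent.QC.abSheaf (CohB1.tensorMod E ((Scheme.Modules.pushforward f).obj M)))
    (fun y : V => V ⊓ U₀ y) V (fun y => homOfLE inf_le_left)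
    (fun y hy => Opens.mem_iSup.mpr ⟨⟨y, hy⟩, hy, hyU _⟩) s (fun y z => by
      apply hinj
      show (proj f E M).app _ (res _ _ (s y)) = (proj f E M).app _ (res _ _ (s z))
      rw [← app_res, ← app_res, hs, hs, res_res, res_res])
  refine ⟨a, Groth.Agent.QC.section_eq_of_locally fun y hy =>
    ⟨V ⊓ U₀ ⟨y, hy⟩, inf_le_left, ⟨hy, hyU _⟩, ?_⟩⟩
  rw [app_res, show res _ inf_le_left a = s ⟨y, hy⟩ from ha ⟨y, hy⟩, hs]

/-- the projection isomorphism -/
def projIso (hE : FlatMod.IsFinLocFree E) :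
    Scheme.Modules.pushforward f ⋙ tens E ≅
      tens ((Scheme.Modules.pullback f).obj E) ⋙ Scheme.Modules.pushforward f :=
  haveI := isIso_proj f E hE
  NatIso.ofComponents (fun M => asIso (proj f E M)) fun {M M'} φ => TMul.hom_ext fun U a b => by
    show (proj f E M').app U ((tmap E ((Scheme.Modules.pushforward f).map φ)).app U (tm a b)) =
      (tmap ((Scheme.Modules.pullback f).obj E) φ).app (f ⁻¹ᵁ U) ((proj f E M).app U (tm a b))
    rw [tmap_tm, proj_tm]
    refine Eq.trans ?_ (congrArg _ (proj_tm f E M a b)).symm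
    rw [tmap_tm]
    rfl

end Projection

open AlgebraicGeometry CategoryTheory.Limits in
/-- Projection formula, for schemes and one degree at a time: let f : X → Y be a morphism of schemes, F
an O_X-module and E a finite locally free O_Y-module. Then for every q the O_Y-module E ⊗ R^q f_* F
is isomorphic to R^q f_* (f^* E ⊗ F). The higher direct images are the right derived functors of
f_*, under the instance argument recording that O_X-modules have injective resolutions. (The
published statement treats ringed spaces and also gives a version for bounded-below complexes.) -/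
theorem result {X Y : Scheme.{u}} (f : X ⟶ Y) [HasInjectiveResolutions X.Modules]
    (F : X.Modules) (E : Y.Modules) (hE : FlatMod.IsFinLocFree E) (q : ℕ) :
    Nonempty (CohB1.tensorMod E ((Coh.Rpush f q).obj F) ≅
      (Coh.Rpush f q).obj (CohB1.tensorMod ((Scheme.Modules.pullback f).obj E) F)) := by
  classical
  let fE := (Scheme.Modules.pullback f).obj E
  have hN : ∀ {Z : Scheme.{u}} (N : Z.Modules), HasFrames N →
      Limits.PreservesFiniteLimits (tens N) ∧ Limits.PreservesFiniteColimits (tens N) := fun N hN =>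
    ((Functor.exact_tfae (tens N)).out 1 3).1 (tens_exact hN)
  have hEf : HasFrames E := TMul.exists_isFrame hE
  have hfE : HasFrames fE := fun x => by
    obtain ⟨U, n, e, hx, he⟩ := TMul.exists_isFrame hE (f.base x)
    exact ⟨f ⁻¹ᵁ U, n, _, hx, IsFrame.pullback f he⟩
  haveI := (hN E hEf).1
  haveI := (hN E hEf).2
  haveI := (hN fE hfE).1
  haveI := (hN fE hfE).2
  haveI : EnoughInjectives X.Modules := inferInstance
  obtain ⟨e₁⟩ := GrothSS.nonempty_rightDerived_comp_exact (Scheme.Modules.pushforward f) (tens E) q F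
  obtain ⟨e₂⟩ := GrothSS.nonempty_rightDerived_comp_acyclic (tens fE) (Scheme.Modules.pushforward f)
    (fun Q hQ p hp => by
      obtain ⟨p, rfl⟩ : ∃ p', p = p' + 1 := ⟨p - 1, by omega⟩
      haveI := flasque_tensor hfE Q
      obtain ⟨i⟩ := CohQC.toAb_rpush_iso f (CohB1.tensorMod fE Q) (p + 1)
      have hz : IsZero (Coh.toAb ((Coh.Rpush f (p + 1)).obj (CohB1.tensorMod fE Q))) :=
        IsZero.of_iso (S0456.result f.base (Coh.toAb (CohB1.tensorMod fE Q)) p) i
      exact GrT.isZero_modules_of_subsingleton fun U s =>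
        congrArg (fun g : Coh.toAb _ ⟶ Coh.toAb _ => g.hom.app (op U) s) ((IsZero.iff_id_eq_zero _).1 hz)) q F
  exact ⟨e₁.symm ≪≫ (GrothSS.rightDerivedMapIso (projIso f E hE) q).app F ≪≫ e₂⟩

end Groth.Agent.S0927
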