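import Groth.Statements.S19955
import Groth.Agent.ThetaLib.Represent
import Groth.Agent.AgVanish.PhiSurj
-- import your own Groth.Agent.* helpers here

set_option autoImplicit false
universe u
open CategoryTheory MonoidalCategory CartesianMonoidalCategory MonObj GrpObj AlgebraicGeometry
open ThetaGrp

set_option backward.isDefEq.respectTransparency false
set_option backward.isDefEq.respectTransparency.types false
set_option linter.style.haveILetI false
set_option maxHeartbeats 1000000

namespace Groth.Agent.S19955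

open ThetaLib
open Groth.Agent.W7Cube
attribute [local instance] Groth.Agent.W7Cube.law

/-- Let A be an abelian variety over a field k (a proper, geometrically integral, commutative k-group
scheme), L an invertible O_A-module, and Λ an invertible module on A ×_k A which is the Mumford
bundle of L, stated without inverses: Λ ⊗ p_1^*L ⊗ p_2^*L ≅ m^*L for the group law m and the
projections p_1, p_2. Let i : K → A be a closed subgroup scheme exhibiting K as K(L) (the maximal
closed subscheme of A over which Λ, restricted to A ×_k K, is the inverse image of an invertible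
module on K, with its universal property), and let G be a k-group scheme with a point u ∈ G(Λ)(G)
representing the theta group of Λ on the k-group scheme A ×_k A (every point of G(Λ)(T) — a T-valued
point z of A × A with an isomorphism Λ_T ≅ t_z^*Λ_T — is the base change of u along a unique T → G,
multiplicatively). Then the action of K × {e} on A × A by translations lifts to Λ compatibly with
the group law of K: there is a homomorphism of group schemes j : K → G such that for every k-scheme
T and every T-valued point y of K, the base change of u along j(y) lies over the translation by the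
point (i(y), e) of A × A. (In the source L is a fixed ample invertible module and the equivariant
structure is moreover shown to be unique once an isomorphism of the fibre of L at e with k is fixed;
the argument for existence uses only that L is invertible, and the uniqueness is not part of this
statement.) -/
theorem result (k : Type u) [Field k]
    (A : Over (Spec (CommRingCat.of k))) [GrpObj A] [IsCommMonObj A] [IsProper A.hom] [GeometricallyIntegral A.hom]
    (L : A.left.Modules) (hL : PicF.IsInvertible L)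
    (Λ : (A ⊗ A).left.Modules) (hΛi : PicF.IsInvertible Λ)
    (hΛ : AgPol.IsLambdaSheaf μ[A].left (fst A A).left (snd A A).left L Λ)
    (K : Over (Spec (CommRingCat.of k))) [GrpObj K] (iK : K ⟶ A) [IsMonHom iK] (hK : ThetaGrp.IsKL A L iK)
    (G : Over (Spec (CommRingCat.of k))) [GrpObj G] (u : ThetaGrp.thetaPts (A ⊗ A) Λ G)
    (hG : ThetaGrp.IsThetaGrpSch (A ⊗ A) Λ G u) :
    ∃ j : K ⟶ G, IsMonHom j ∧
      ∀ (T : Over (Spec (CommRingCat.of k))) (y : T ⟶ K) (β : ThetaGrp.thetaPts (A ⊗ A) Λ T),
        ThetaGrp.IsBaseChange β (y ≫ j) u → ThetaGrp.IsOverPt β (y ≫ lift iK (1 : K ⟶ A)) := by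
  haveI hcA : IsCommMonObj A := isCommMonObj_of_isProper_of_geometricallyIntegral A
  have hsq : IsPullback (snd A A).left (fst A A).left A.hom A.hom := by
    have h := IsPullback.of_hasPullback A.hom A.hom
    exact h.flip
  haveI : IsProper (snd A A).left := MorphismProperty.of_isPullback (P := @IsProper) hsq.flip ‹_›
  haveI : GeometricallyIntegral (snd A A).left :=
    MorphismProperty.of_isPullback (P := @GeometricallyIntegral) hsq.flip ‹_›
  haveI : IsProper (A ⊗ A).hom := by rw [← Over.w (snd A A)]; infer_instance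
  haveI : LocallyOfFinitePresentation A.hom := by
    rw [LocallyOfFinitePresentation.iff_locallyOfFiniteType]; infer_instance
  haveI : GeometricallyIntegral (A ⊗ A).hom :=
    geometricallyIntegral_prod (IsPullback.of_hasPullback A.hom A.hom) (A ⊗ A).hom rfl
  haveI : IsCommMonObj (A ⊗ A) := isCommMonObj_of_isProper_of_geometricallyIntegral (A ⊗ A)
  let c := PicGrp.cls L hL
  let lam := PicGrp.cls Λ hΛi
  have hlam : lam = AVAmple.mum c (𝟙 A) := by
    refine ((AVAmple.isLambda_iff L hL (𝟙 A) Λ hΛi).1 ?_).symm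
    simpa using hΛ
  have hB : ∀ {V : Over (Spec (CommRingCat.of k))} (p q : V ⟶ A),
      pc lam (lift p q) = pc c (p * q) * (pc c p * pc c q)⁻¹ := fun {V} p q => by
    rw [hlam, pc, AVAmple.mum, map_mul, map_inv, map_mul, pull_pc, pull_pc, pull_pc, Category.comp_id,
      MonObj.comp_mul, lift_fst, lift_snd]
  have hK1 : ∀ {T : Over (Spec (CommRingCat.of k))} (y : T ⟶ K), AVAmple.mum c (y ≫ iK) = 1 := fun {T} y => by
    obtain ⟨d, hd⟩ := (AVAmple.isMumfordTriv_iff L hL _).1 ((hK.univ T (y ≫ iK)).2 ⟨y, rfl⟩)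
    exact AVAmple.mum_eq_one_of_pullback _ _ d hd
  have hpc1 : ∀ {V : Over (Spec (CommRingCat.of k))} (p : V ⟶ A), pc lam (lift p (1 : V ⟶ A)) = 1 := fun {V} p => by
    rw [hB, _root_.mul_one, pc_one, _root_.mul_one, mul_inv_cancel]
  have hmum : ∀ {T : Over (Spec (CommRingCat.of k))} (y : T ⟶ K),
      AVAmple.mum lam (lift (y ≫ iK) (1 : T ⟶ A)) = 1 := fun {T} y => by
    let p := fst (A ⊗ A) T ≫ fst A A
    let q := fst (A ⊗ A) T ≫ snd A A
    let w := snd (A ⊗ A) T ≫ y ≫ iK
    have hq : pc c (w * q) = pc c w * pc c q := by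
      have h := congrArg (pull (lift q (snd (A ⊗ A) T)).left) (hK1 y)
      rw [AVAmple.mum, map_one, map_mul, map_inv, map_mul, pull_pc, pull_pc, pull_pc, MonObj.comp_mul, lift_fst,
        lift_snd_assoc, mul_inv_eq_one] at h
      rw [_root_.mul_comm w q, h, _root_.mul_comm]
    have e1 : fst (A ⊗ A) T = lift p q := by apply CartesianMonoidalCategory.hom_ext <;> simp [p, q]
    have e2 : snd (A ⊗ A) T ≫ lift (y ≫ iK) (1 : T ⟶ A) = lift w 1 := by
      apply CartesianMonoidalCategory.hom_ext <;> simp [w, MonObj.comp_one]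
    have e3 : lift p q * lift w (1 : (A ⊗ A) ⊗ T ⟶ A) = lift (p * w) q := by
      apply CartesianMonoidalCategory.hom_ext
      · rw [MonObj.mul_comp, lift_fst, lift_fst, lift_fst]
      · rw [MonObj.mul_comp, lift_snd, lift_snd, lift_snd, _root_.mul_one]
    have h := cube_rel c p w q
    rw [AVAmple.mum, e2, e1, e3, hpc1, hB, hB, _root_.mul_one, mul_inv_eq_one]
    rw [hq] at h
    generalize pc c (p * w * q) = P at h ⊢
    generalize pc c (p * w) = Q at h ⊢
    generalize pc c (p * q) = R at h ⊢
    generalize pc c p = a at h ⊢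
    generalize pc c q = b at h ⊢
    generalize pc c w = b' at h ⊢
    have h' : P * a = Q * R := by
      have h2 : P * a * (b' * b) = Q * R * (b' * b) := by rw [← _root_.mul_assoc, ← _root_.mul_assoc]; simpa [_root_.mul_assoc] using h
      exact mul_right_cancel h2
    apply Additive.ofMul.injective
    have h'' := congrArg Additive.ofMul h'
    simp only [ofMul_mul, ofMul_inv] at h'' ⊢
    rw [show Additive.ofMul P = Additive.ofMul Q + Additive.ofMul R - Additive.ofMul a by rw [← h'']; abel]
    abel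
  -- the trivialisation along the first factor
  obtain ⟨i₀⟩ : Nonempty ((Scheme.Modules.pullback (lift (𝟙 A) (1 : A ⟶ A)).left).obj Λ ≅ Coh.structureModule A.left) := by
    have h := hpc1 (𝟙 A)
    rwa [pc, pull_cls, PicGrp.cls_eq_one_iff] at h
  let tau : uObj A.left ⟶ modObj (A ⊗ A) Λ := mk' (lift (𝟙 A) (1 : A ⟶ A)).left i₀.inv
  haveI : IsIso (fib tau) := inferInstanceAs (IsIso i₀.inv)
  have hsec : ∀ T : Over (Spec (CommRingCat.of k)), ∃ sg : uObj (A ⊗ T).left ⟶ (thetaObj (A ⊗ A) Λ T : Obj.{u}),
      sg.base = (lift (lift (fst A T) (1 : A ⊗ T ⟶ A)) (snd A T)).left ∧ IsIso (fib sg) ∧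
        sg ≫ prMap Λ T = uMap (fst A T).left ≫ tau := fun T => by
    obtain ⟨sg, hb, hsg⟩ := exists_lift (prMap Λ T) (uMap (fst A T).left ≫ tau)
      (lift (lift (fst A T) (1 : A ⊗ T ⟶ A)) (snd A T)).left (by
        change _ ≫ (fst (A ⊗ A) T).left = (fst A T).left ≫ (lift (𝟙 A) (1 : A ⟶ A)).left
        rw [← Over.comp_left, ← Over.comp_left, lift_fst, comp_lift, Category.comp_id, MonObj.comp_one])
    haveI : IsIso (fib (uMap (fst A T).left ≫ tau)) := isIso_fib_comp _ _
    haveI : IsIso (fib (sg ≫ prMap Λ T)) := isIso_fib_congr hsg.symm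
    exact ⟨sg, hb, isIso_fib_of_comp sg (prMap Λ T), hsg⟩
  choose sg hsgb hsgi hsgp using hsec
  have hfn : ∀ (T : Over (Spec (CommRingCat.of k))) (t : Γ(T.left, ⊤)),
      (sg T).base.appTop (fnT (A ⊗ A) T t) = fnT A T t := fun T t => by
    rw [hsgb]
    change ((snd (A ⊗ A) T).left.appTop ≫ (lift (lift (fst A T) (1 : A ⊗ T ⟶ A)) (snd A T)).left.appTop) t = _
    rw [← Scheme.Hom.comp_appTop, ← Over.comp_left, lift_snd]
    rfl
  let Nrm : ∀ T : Over (Spec (CommRingCat.of k)), (T ⟶ K) → ThetaGrp.thetaPts (A ⊗ A) Λ T → Prop := fun T y β =>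
    ThetaGrp.IsOverPt β (lift (y ≫ iK) (1 : T ⟶ A)) ∧ sg T ≫ hm β = uMap (transl A (y ≫ iK)).left ≫ sg T
  have hO := fun (T : Over (Spec (CommRingCat.of k))) => PicLoc.isInvertible_structureModule (A ⊗ T).left
  have hbase : ∀ (T : Over (Spec (CommRingCat.of k))) (y : T ⟶ K) (β : ThetaGrp.thetaPts (A ⊗ A) Λ T),
      ThetaGrp.IsOverPt β (lift (y ≫ iK) (1 : T ⟶ A)) →
        (sg T ≫ hm β).base = (uMap (transl A (y ≫ iK)).left ≫ sg T).base := fun T y β hβ => by
    change (sg T).base ≫ (hm β).base = (transl A (y ≫ iK)).left ≫ (sg T).base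
    rw [show (hm β).base = _ from hβ, hsgb, ← Over.comp_left, ← Over.comp_left]
    congr 1
    apply CartesianMonoidalCategory.hom_ext
    · rw [Category.assoc, transl_fst, MonObj.comp_mul, lift_fst, lift_snd_assoc, Category.assoc, lift_fst]
      apply CartesianMonoidalCategory.hom_ext
      · simp [transl_fst, MonObj.mul_comp]
      · simp [MonObj.mul_comp, MonObj.comp_one]
    · rw [Category.assoc, transl_snd, lift_snd, Category.assoc, lift_snd, transl_snd]
  have huniq : ∀ (T : Over (Spec (CommRingCat.of k))) (y : T ⟶ K) (β β' : ThetaGrp.thetaPts (A ⊗ A) Λ T),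
      Nrm T y β → Nrm T y β' → β = β' := fun T y β β' h h' => by
    obtain ⟨t, ht⟩ := exists_eq_act_pts hΛi fnT_surjective h.1 h'.1
    haveI := hsgi T
    haveI : IsIso (fib (sg T ≫ hm β)) := isIso_fib_comp _ _
    have e := h'.2
    rw [ht, comp_act, hfn, ← h.2] at e
    have h1 : t = 1 := fnT_injective (1 : T ⟶ A)
      ((act_injective (hO T) _ (e.trans (act_one _).symm)).trans (fnT_one T).symm)
    refine pts_ext (Eq.trans ?_ ht.symm)
    rw [h1, fnT_one, act_one]
  have hexi : ∀ (T : Over (Spec (CommRingCat.of k))) (y : T ⟶ K), ∃ β, Nrm T y β := fun T y => by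
    obtain ⟨β₀, hβ₀⟩ := exists_lift_pt hΛi (lift (y ≫ iK) (1 : T ⟶ A)) (hmum y) (hpc1 _)
    haveI := hsgi T
    haveI : IsIso (fib (sg T ≫ hm β₀)) := isIso_fib_comp _ _
    haveI : IsIso (fib (uMap (transl A (y ≫ iK)).left ≫ sg T)) := isIso_fib_comp _ _
    obtain ⟨a, ha⟩ := exists_eq_act (hO T) (uMap (transl A (y ≫ iK)).left ≫ sg T) (sg T ≫ hm β₀) (hbase T y β₀ hβ₀).symm
    obtain ⟨b, hb⟩ := exists_eq_act (hO T) (sg T ≫ hm β₀) (uMap (transl A (y ≫ iK)).left ≫ sg T) (hbase T y β₀ hβ₀)
    obtain ⟨t, rfl⟩ := fnT_surjective (A := A) T a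
    obtain ⟨t', rfl⟩ := fnT_surjective (A := A) T b
    have hu : IsUnit t := by
      refine IsUnit.of_mul_eq_one_right t' (fnT_injective (1 : T ⟶ A) ?_)
      rw [fnT_one]
      refine act_injective (hO T) (sg T ≫ hm β₀) ?_
      rw [act_one, show fnT A T (t' * t) = fnT A T t' * fnT A T t from map_mul _ _ _, act_mul, ← ha, ← hb]
    haveI : IsIso (fib (act (fnT (A ⊗ A) T t) (hm β₀))) := by
      haveI : IsIso (LBDesc.smulMor (md (thetaObj (A ⊗ A) Λ T : Obj.{u})) (fnT (A ⊗ A) T t)) :=
        LBDesc.isIso_smulMor _ (hu.map (snd (A ⊗ A) T).left.appTop.hom)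
      exact IsIso.comp_isIso
    obtain ⟨β, hβ, hβx⟩ := exists_of_hom (L := Λ) (lift (y ≫ iK) (1 : T ⟶ A)) (act (fnT (A ⊗ A) T t) (hm β₀)) hβ₀
    exact ⟨β, hβx, by rw [hβ, comp_act, hfn, ← ha]⟩
  choose lft hlft using hexi
  obtain ⟨j, hj, -⟩ := hG.univ K (lft K (𝟙 K))
  have hbc : ∀ (T : Over (Spec (CommRingCat.of k))) (y : T ⟶ K),
      ThetaGrp.IsBaseChange (lft T y) (y ≫ j) u := fun T y => by
    obtain ⟨β, hβ, hβx⟩ := exists_bc y (hlft K (𝟙 K)).1
    rw [comp_lift, Category.id_comp, MonObj.comp_one] at hβx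
    suffices hn : sg T ≫ hm β = uMap (transl A (y ≫ iK)).left ≫ sg T from
      huniq T y _ _ ⟨hβx, hn⟩ (hlft T y) ▸ bc_trans hβ hj
    have hnat : uMap (A ◁ y).left ≫ sg K = sg T ≫ bcLift (A ⊗ A) Λ y := by
      refine cancel_cart (prMap Λ K) ?_ ?_
      · change (A ◁ y).left ≫ (sg K).base = (sg T).base ≫ ((A ⊗ A) ◁ y).left
        rw [hsgb, hsgb, ← Over.comp_left, ← Over.comp_left]
        congr 1
        apply CartesianMonoidalCategory.hom_ext
        · apply CartesianMonoidalCategory.hom_ext <;> simp [MonObj.comp_one]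
        · simp
      · rw [Category.assoc, hsgp, Category.assoc, bcLift_pr, hsgp, ← Category.assoc, uMap_comp, ← Over.comp_left,
          whiskerLeft_fst]
    refine cancel_cart (bcLift (A ⊗ A) Λ y) ?_ ?_
    · exact hbase T y β hβx
    · rw [Category.assoc, Category.assoc, ← hnat]
      erw [show hm β ≫ bcLift (A ⊗ A) Λ y = _ from hβ]
      rw [← Category.assoc, ← hnat, Category.assoc, (hlft K (𝟙 K)).2, ← Category.assoc, uMap_comp, ← Category.assoc,
        uMap_comp, ← Over.comp_left, ← Over.comp_left, Category.id_comp, transl_bc]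
  have hmul : ∀ (T : Over (Spec (CommRingCat.of k))) (a b : T ⟶ K), (a * b) ≫ j = (a ≫ j) * (b ≫ j) :=
      fun T a b => by
    have h2 : lft T a * lft T b = lft T (a * b) := by
      refine huniq T (a * b) _ _ ⟨?_, ?_⟩ (hlft T (a * b))
      · have h := isOverPt_mul (hlft T a).1 (hlft T b).1
        convert h using 2
        apply CartesianMonoidalCategory.hom_ext
        · rw [MonObj.mul_comp, MonObj.mul_comp, lift_fst, lift_fst, lift_fst, _root_.mul_comm]
        · rw [MonObj.mul_comp, MonObj.mul_comp, lift_snd, lift_snd, lift_snd, _root_.mul_one]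
      · rw [hm_mul, ← Category.assoc, (hlft T b).2, Category.assoc, (hlft T a).2, ← Category.assoc, uMap_comp,
          ← Over.comp_left, ← transl_mul, MonObj.mul_comp, _root_.mul_comm]
    have h3 := hG.mul T _ _ _ _ (hbc T a) (hbc T b)
    rw [h2] at h3
    exact (hG.univ T _).unique (hbc T (a * b)) h3
  have hone : η[K] ≫ j = η[G] := by
    have h := hmul (𝟙_ _) 1 1
    rw [_root_.one_mul] at h
    have h' : (1 : 𝟙_ _ ⟶ K) ≫ j = 1 := right_eq_mul.1 h
    simpa [Hom.one_def] using h'
  refine ⟨j, ⟨hone, by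
    have h := hmul (K ⊗ K) (fst K K) (snd K K)
    simpa [Hom.mul_def, MonoidalCategory.tensorHom_def] using h⟩, fun T y β hβ => ?_⟩
  rw [bc_unique hβ (hbc T y), comp_lift, MonObj.comp_one]
  exact (hlft T y).1

end Groth.Agent.S19955
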