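import Groth.Statements.S3873
import Mathlib

set_option autoImplicit false
universe u
open FCompl

namespace Groth.Agent.S3873

open AlgebraicGeometry in
/-- Its content on the affine schemes underlying the formal spectra: the inverse image ideal of b^Δ is
(bA)^Δ, read on Spec: For a ring homomorphism φ : B -> A and an ideal b of B, the inverse image
along Spec(φ) of the ideal sheaf of b on Spec B is the ideal sheaf on Spec A of the ideal generated
by φ(b). -/
theorem result (A B : Type u) [CommRing A] [CommRing B] (φ : B →+* A) (𝔟 : Ideal B) :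
    (FSch.idealSpec B 𝔟).comap (Spec.map (CommRingCat.ofHom φ)) = FSch.idealSpec A (𝔟.map φ) := by
  have hc : ∀ (R : Type u) [CommRing R] (c : Ideal R),
      (FSch.idealSpec R c).ideal ⟨⊤, isAffineOpen_top _⟩ = c.comap (Scheme.ΓSpecIso (CommRingCat.of R)).hom.hom := by
    intro R _ c
    rw [FSch.idealSpec, Scheme.Hom.ker_apply]
    ext r
    rw [RingHom.mem_ker, Ideal.mem_comap]
    have h := Scheme.ΓSpecIso_naturality (CommRingCat.ofHom (Ideal.Quotient.mk c))
    have h2 := CategoryTheory.ConcreteCategory.congr_hom h r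
    have hinj := (CategoryTheory.ConcreteCategory.bijective_of_isIso (Scheme.ΓSpecIso (CommRingCat.of (R ⧸ c))).hom).1
    constructor
    · intro hr
      refine Ideal.Quotient.eq_zero_iff_mem.1 (h2.symm.trans ?_)
      exact (congrArg (Scheme.ΓSpecIso (CommRingCat.of (R ⧸ c))).hom.hom hr).trans (map_zero _)
    · intro hr
      refine hinj (h2.trans ?_)
      exact (Ideal.Quotient.eq_zero_iff_mem.2 hr).trans (map_zero _).symm
  have hle : ∀ (R : Type u) [CommRing R] (c d : Ideal R), FSch.idealSpec R c ≤ FSch.idealSpec R d ↔ c ≤ d := by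
    intro R _ c d
    constructor
    · intro h r hr
      have h1 := h ⟨⊤, isAffineOpen_top _⟩
      rw [hc, hc] at h1
      have h2 := @h1 ((Scheme.ΓSpecIso (CommRingCat.of R)).inv r)
      simp only [Ideal.mem_comap] at h2
      have h3 : (Scheme.ΓSpecIso (CommRingCat.of R)).hom ((Scheme.ΓSpecIso (CommRingCat.of R)).inv r) = r :=
        (Scheme.ΓSpecIso (CommRingCat.of R)).inv_hom_id_apply r
      exact h3 ▸ h2 (h3.symm ▸ hr)
    · intro h
      refine Scheme.IdealSheafData.le_of_isAffine ?_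
      rw [hc, hc]
      exact Ideal.comap_mono h
  have hsurj : ∀ (R : Type u) [CommRing R] (K : (Spec (CommRingCat.of R)).IdealSheafData),
      ∃ c, K = FSch.idealSpec R c := by
    intro R _ K
    refine ⟨(K.ideal ⟨⊤, isAffineOpen_top _⟩).comap (Scheme.ΓSpecIso (CommRingCat.of R)).inv.hom,
      Scheme.IdealSheafData.ext_of_isAffine ?_⟩
    rw [hc, Ideal.comap_comap, ← CommRingCat.hom_comp, CategoryTheory.Iso.hom_inv_id]
    rfl
  have hmap : ∀ c : Ideal A, (FSch.idealSpec A c).map (Spec.map (CommRingCat.ofHom φ)) = FSch.idealSpec B (c.comap φ) := by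
    intro c
    rw [FSch.idealSpec, Scheme.IdealSheafData.map_ker, ← Spec.map_comp, ← CommRingCat.ofHom_comp]
    obtain ⟨d, hd⟩ := hsurj B (Spec.map (CommRingCat.ofHom ((Ideal.Quotient.mk c).comp φ))).ker
    rw [hd]
    congr 1
    ext r
    have h1 := congrArg (fun K : (Spec (CommRingCat.of B)).IdealSheafData =>
      (Scheme.ΓSpecIso (CommRingCat.of B)).inv r ∈ K.ideal ⟨⊤, isAffineOpen_top _⟩) hd
    simp only [hc, Scheme.Hom.ker_apply, RingHom.mem_ker, Ideal.mem_comap] at h1
    have hrr : (Scheme.ΓSpecIso (CommRingCat.of B)).hom ((Scheme.ΓSpecIso (CommRingCat.of B)).inv r) = r :=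
        (Scheme.ΓSpecIso (CommRingCat.of B)).inv_hom_id_apply r
    have h := CategoryTheory.ConcreteCategory.congr_hom (Scheme.ΓSpecIso_inv_naturality (CommRingCat.ofHom ((Ideal.Quotient.mk c).comp φ))) r
    have hinj := (CategoryTheory.ConcreteCategory.bijective_of_isIso (Scheme.ΓSpecIso (CommRingCat.of (A ⧸ c))).inv).1
    rw [Ideal.mem_comap]
    refine Iff.trans ?_ (Iff.trans (Eq.to_iff h1).symm ?_)
    · exact ⟨fun hr => hrr.symm ▸ hr, fun hr => hrr ▸ hr⟩
    · exact ⟨fun h0 => Ideal.Quotient.eq_zero_iff_mem.1 (hinj ((h.trans h0).trans (map_zero _).symm)),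
        fun h0 => h.symm.trans ((congrArg (Scheme.ΓSpecIso (CommRingCat.of (A ⧸ c))).inv.hom (Ideal.Quotient.eq_zero_iff_mem.2 h0)).trans (map_zero _))⟩
  obtain ⟨c, hc'⟩ := hsurj A ((FSch.idealSpec B 𝔟).comap (Spec.map (CommRingCat.ofHom φ)))
  rw [hc']
  have key : ∀ d : Ideal A, c ≤ d ↔ 𝔟.map φ ≤ d := fun d => by
    rw [← hle A, ← hc', ← Scheme.IdealSheafData.le_map_iff_comap_le, hmap, hle B, Ideal.map_le_iff_le_comap]
  rw [le_antisymm ((key _).2 le_rfl) ((key c).1 le_rfl)]

end Groth.Agent.S3873
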