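import Groth.Statements.S1937
import Groth.Agent.GrpOmega.Diff
import Groth.Agent.GrpOmega.Free
import Groth.Agent.OmegaLib.FiniteType
import Groth.Agent.OmegaLib.BaseChange

set_option autoImplicit false
set_option backward.isDefEq.respectTransparency false
set_option backward.isDefEq.respectTransparency.types false
universe u v
open CategoryTheory MonoidalCategory CartesianMonoidalCategory MonObj GrpObj AlgebraicGeometry
open GrpSch

namespace Groth.Agent.S1937

/-- Let G be a group scheme over S with structure morphism f and unit section e : S → G. Then Ω_{G/S} ≅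
f^* C_{S/G}, the pullback of the conormal sheaf of the immersion e; and when S is the spectrum of a
field, Ω_{G/S} is a free O_G-module (a coproduct of copies of O_G). Stated for G → S
quasi-separated, where the shared prelude's Ω (conormal sheaf of the diagonal through Mathlib's
kernel ideal sheaf) and conormal sheaf of e are the usual ones. -/
theorem result (S : Scheme.{u}) (G : Over S) [GrpObj G] [QuasiSeparated G.hom] : Nonempty (Omega.sheaf G.hom ≅ (Scheme.Modules.pullback G.hom).obj (Omega.conormal η[G].left)) ∧ ∀ (K : Type u) [Field K], Nonempty (S ≅ Spec (CommRingCat.of K)) → ∃ I : Type u, Nonempty (Omega.sheaf G.hom ≅ ∐ fun _ : I => Coh.structureModule G.left) := by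
  let π := G.hom
  let e : S ⟶ G.left := η[G].left
  have he : e ≫ π = 𝟙 S := Over.w η[G]
  haveI : IsImmersion e := by
    haveI : IsImmersion (e ≫ π) := by rw [he]; infer_instance
    exact IsImmersion.of_comp e π
  haveI : QuasiCompact e := by
    haveI : QuasiCompact (e ≫ π) := by rw [he]; infer_instance
    exact MorphismProperty.of_postcomp (W' := @QuasiSeparated) _ e π inferInstance inferInstance
  let q₁ : Limits.pullback π π ⟶ G.left := Limits.pullback.fst π π
  let Δ := Limits.pullback.diagonal π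
  haveI : QuasiCompact Δ := QuasiSeparated.quasiCompact_diagonal
  let m : Limits.pullback π π ⟶ G.left := ((fst G G)⁻¹ * snd G G).left
  let θ : G ⊗ G ≅ G ⊗ G :=
    { hom := lift (fst G G) ((fst G G)⁻¹ * snd G G)
      inv := lift (fst G G) (fst G G * snd G G)
      hom_inv_id := by
        apply CartesianMonoidalCategory.hom_ext
        · simp
        · simp [MonObj.comp_mul, GrpObj.comp_inv]
      inv_hom_id := by
        apply CartesianMonoidalCategory.hom_ext
        · simp
        · simp [MonObj.comp_mul, GrpObj.comp_inv] }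
  haveI : IsIso θ.hom.left := ((Over.forget S).mapIso θ).isIso_hom
  have hθ₁ : θ.hom.left ≫ q₁ = q₁ :=
    congrArg CommaMorphism.left (lift_fst (fst G G) ((fst G G)⁻¹ * snd G G))
  have hθ₂ : θ.hom.left ≫ Limits.pullback.snd π π = m :=
    congrArg CommaMorphism.left (lift_snd (fst G G) ((fst G G)⁻¹ * snd G G))
  have hsq : IsPullback m q₁ π π :=
    (IsPullback.of_iso_pullback ⟨by rw [← hθ₁, ← hθ₂, Category.assoc, Category.assoc, Limits.pullback.condition]⟩
      (asIso θ.hom.left) hθ₁ hθ₂).flip
  have hd := Groth.Agent.OmegaLib.isUniversal_dOmega π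
  have hd' := Groth.Agent.OmegaLib.isUniversal_dOmega q₁
  obtain ⟨c, hc, -⟩ := Groth.Agent.OmegaLib.existsUnique_diffCompat (h := m) (b := π) hsq.w.symm hd (OmegaSh.dOmega q₁)
  haveI := Groth.Agent.OmegaLib.isIso_of_isPullback hsq hd hd' hc
  obtain ⟨e₁⟩ := Groth.Agent.GrpOmega.nonempty_iso_conormal q₁ Δ (Limits.pullback.lift_fst _ _ _) hd'
  obtain ⟨e₂⟩ := Groth.Agent.GrpOmega.nonempty_iso_conormal π e he hd
  have hΔm : Δ ≫ m = π ≫ e := by
    have h1 : (lift (𝟙 G) (𝟙 G)).left = Δ := Over.lift_left _ _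
    have h2 : lift (𝟙 G) (𝟙 G) ≫ ((fst G G)⁻¹ * snd G G) = (1 : G ⟶ G) := by
      simp [MonObj.comp_mul, GrpObj.comp_inv]
    rw [← h1]
    show _ ≫ ((fst G G)⁻¹ * snd G G).left = _
    rw [← Over.comp_left, h2]
    rfl
  let E : Omega.sheaf π ≅ (Scheme.Modules.pullback π).obj (Omega.conormal e) :=
    e₁ ≪≫ ((Scheme.Modules.pullback Δ).mapIso (asIso c)).symm ≪≫
      (Scheme.Modules.pullbackComp Δ m).app _ ≪≫ (Scheme.Modules.pullbackCongr hΔm).app _ ≪≫
      ((Scheme.Modules.pullbackComp π e).app _).symm ≪≫ (Scheme.Modules.pullback π).mapIso e₂.symm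
  refine ⟨⟨E⟩, fun K _ ⟨φ⟩ => ?_⟩
  haveI : Coh.IsQCoh (Omega.conormal e) := Groth.Agent.Conormal.isQCoh_conormal e
  haveI : ((Scheme.Modules.pullback φ.inv).obj (Omega.conormal e)).IsQuasicoherent :=
    Groth.Agent.QC.isQCoh_pullback φ.inv ‹_›
  obtain ⟨I, ⟨F⟩⟩ := Groth.Agent.GrpOmega.exists_iso_coprod (π ≫ φ.hom)
    ((Scheme.Modules.pullback φ.inv).obj (Omega.conormal e))
  refine ⟨I, ⟨E ≪≫ (Scheme.Modules.pullback π).mapIso
    (((Scheme.Modules.pullbackId S).app _).symm ≪≫ (Scheme.Modules.pullbackCongr φ.hom_inv_id.symm).app _ ≪≫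
      ((Scheme.Modules.pullbackComp φ.hom φ.inv).app _).symm) ≪≫
    (Scheme.Modules.pullbackComp π φ.hom).app _ ≪≫ F⟩⟩

end Groth.Agent.S1937
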