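import Groth.Statements.S0601
import Groth.Agent.Catenary.SerreNormal
import Groth.Agent.RegLoc.Normal

set_option autoImplicit false
universe u
open CAlg

namespace Groth.Agent.S0601

/-- A Noetherian ring has all its local rings integrally closed domains exactly when it satisfies the
regularity condition R₁ and the depth condition S₂. -/
theorem result (R : Type u) [CommRing R] [IsNoetherianRing R] :
    (∀ (p : Ideal R) [p.IsPrime], IsDomain (Localization.AtPrime p) ∧
      IsIntegrallyClosed (Localization.AtPrime p)) ↔ (LocCoh.HasRk 1 R ∧ LocCoh.HasSk 2 R R) := by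
  classical
  have hdim : ∀ (p : Ideal R) [p.IsPrime], ringKrullDim (Localization.AtPrime p) = (p.height : WithBot ℕ∞) :=
    fun p _ => IsLocalization.AtPrime.ringKrullDim_eq_height p _
  constructor
  · intro h
    refine ⟨fun p _ hp => ?_, fun p _ => ?_⟩
    · obtain ⟨hd, hi⟩ := h p
      haveI : IsNoetherianRing (Localization.AtPrime p) := IsLocalization.isNoetherianRing p.primeCompl _ inferInstance
      exact Groth.Agent.Catenary.isRegularLocalRing_of_normal (by rw [hdim p]; exact_mod_cast hp)
    · obtain ⟨hd, hi⟩ := h p
      haveI : IsNoetherianRing (Localization.AtPrime p) := IsLocalization.isNoetherianRing p.primeCompl _ inferInstance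
      rw [Groth.Agent.InvFin.supportDim_self, ← Groth.Agent.InvFin.depth_self]
      by_cases h2 : ringKrullDim (Localization.AtPrime p) ≤ 2
      · haveI := Groth.Agent.Catenary.isCohenMacaulay_of_normal_dim_le_two h2
        rw [← LocCoh.IsCohenMacaulayLocalRing.supportDim_eq_depth, Module.supportDim_self_eq_ringKrullDim, hdim p]
        exact min_le_right _ _
      · refine (min_le_left _ _).trans (WithBot.coe_le_coe.mpr ?_)
        exact Groth.Agent.Catenary.two_le_depth_of_normal fun h1 => h2 (h1.trans (by norm_num))
  · rintro ⟨hR, hS⟩
    suffices ∀ n : ℕ, ∀ (p : Ideal R) [p.IsPrime], p.height = n →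
        IsDomain (Localization.AtPrime p) ∧ IsIntegrallyClosed (Localization.AtPrime p) by
      intro p _
      obtain ⟨n, hn⟩ := ENat.ne_top_iff_exists.mp (p.height_ne_top (Ideal.IsPrime.ne_top inferInstance))
      exact this n p hn.symm
    intro n
    induction n using Nat.strongRecOn with
    | ind n ih =>
      intro p _ hn
      haveI : IsNoetherianRing (Localization.AtPrime p) := IsLocalization.isNoetherianRing p.primeCompl _ inferInstance
      rcases Nat.lt_or_ge n 2 with hlt | hge
      · haveI := hR p (by rw [hn]; exact_mod_cast Nat.lt_succ_iff.mp hlt)
        exact ⟨Groth.Agent.RegLoc.isDomain _, Groth.Agent.RegLoc.isIntegrallyClosed⟩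
      · refine Groth.Agent.Catenary.normal_of_depth_two ?_ fun Q hQ => ?_
        · have h2 := hS p
          rw [Groth.Agent.InvFin.supportDim_self, Groth.Agent.InvFin.depth_self] at *
          rw [← WithBot.coe_le_coe]
          refine le_trans (le_min le_rfl ?_) h2
          rw [hn]
          exact_mod_cast hge
        · let q := Q.asIdeal.comap (algebraMap R (Localization.AtPrime p))
          have hlt : q.height < n := by
            rw [← hn]
            refine Ideal.height_strict_mono_of_isPrime (lt_of_le_of_ne ?_ ?_)
            · exact fun a ha => by
                by_contra hap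
                exact Q.2.ne_top (Ideal.eq_top_of_isUnit_mem _ ha
                  (IsLocalization.map_units (M := p.primeCompl) (Localization.AtPrime p) ⟨a, hap⟩))
            · intro e
              refine hQ ?_
              rw [← IsLocalization.map_comap p.primeCompl (Localization.AtPrime p) Q.asIdeal,
                ← IsLocalization.map_comap p.primeCompl (Localization.AtPrime p) (IsLocalRing.maximalIdeal _)]
              show q.map _ = _
              rw [e, IsLocalization.AtPrime.comap_maximalIdeal (Localization.AtPrime p) p]
          obtain ⟨m, hm⟩ := ENat.ne_top_iff_exists.mp (q.height_ne_top (Ideal.IsPrime.ne_top inferInstance))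
          obtain ⟨hd, hi⟩ := ih m (by rw [← hm] at hlt; exact_mod_cast hlt) q hm.symm
          haveI := hd
          haveI := hi
          let e := (IsLocalization.localizationLocalizationAtPrimeIsoLocalization p.primeCompl Q.asIdeal).toRingEquiv
          exact ⟨MulEquiv.isDomain _ e.symm.toMulEquiv, IsIntegrallyClosed.of_equiv e⟩

end Groth.Agent.S0601
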