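import Groth.Statements.S1182
import Groth.Agent.Hensel.EtaleNormal
import Groth.Agent.Hensel.HenselizationNormal
import Groth.Agent.Unibranch.Rad
import Mathlib.RingTheory.Unramified.LocalStructure
import Mathlib.RingTheory.RingHom.Flat

set_option autoImplicit false
universe u
open Desc

namespace Groth.Agent.S1182

open scoped TensorProduct

theorem normal_atPrime_of_smooth (R B : Type u) [CommRing R] [IsDomain R] [IsIntegrallyClosed R]
    [CommRing B] [Algebra R B] [Algebra.Smooth R B] (q : Ideal B) [q.IsPrime] :
    IsDomain (Localization.AtPrime q) ∧ IsIntegrallyClosed (Localization.AtPrime q) := by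
  haveI : Algebra.FormallySmooth B (Localization.AtPrime q) :=
    Algebra.FormallySmooth.of_isLocalization q.primeCompl
  haveI : Algebra.IsSmoothAt R q := Algebra.FormallySmooth.comp R B (Localization.AtPrime q)
  obtain ⟨f, hf, n, alg, tower, hse⟩ := Algebra.IsSmoothAt.exists_isStandardEtale_mvPolynomial (R := R) (p := q)
  haveI := Unibranch.isIntegrallyClosed_mvPolynomial_fin (R := R) n
  obtain ⟨pr⟩ := hse.nonempty_standardEtalePresentation
  have hfu : IsUnit (algebraMap B (Localization.AtPrime q) f) :=
    IsLocalization.map_units (Localization.AtPrime q) (⟨f, hf⟩ : q.primeCompl)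
  let g : Localization.Away f →+* Localization.AtPrime q := IsLocalization.Away.lift f hfu
  have hg : ∀ b, g (algebraMap B _ b) = algebraMap B _ b := fun b => IsLocalization.Away.lift_eq f hfu b
  letI : Algebra (MvPolynomial (Fin n) R) (Localization.AtPrime q) :=
    (g.comp (algebraMap (MvPolynomial (Fin n) R) (Localization.Away f))).toAlgebra
  let gA : Localization.Away f →ₐ[MvPolynomial (Fin n) R] Localization.AtPrime q :=
    { g with commutes' := fun _ => rfl }
  let e : pr.P.Ring ≃ₐ[MvPolynomial (Fin n) R] Localization.Away f := pr.equivRing.symm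
  refine Hensel.normal_localization_standardEtale pr.P _ (gA.comp e.toAlgHom) (fun z => ?_) (fun b hb => ?_)
  · obtain ⟨⟨b, c⟩, hz⟩ := IsLocalization.surj q.primeCompl z
    refine ⟨e.symm (algebraMap B _ b), e.symm (algebraMap B _ c.1), ?_, ?_⟩
    · simpa [gA, hg] using IsLocalization.map_units (Localization.AtPrime q) c
    · simpa [gA, hg] using hz
  · obtain ⟨⟨b₀, m⟩, hm⟩ := IsLocalization.surj (Submonoid.powers f) (e b)
    have h0 : algebraMap B (Localization.AtPrime q) b₀ = 0 := by
      have := congrArg g hm
      rw [map_mul, hg, hg] at this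
      rw [← this, show g (e b) = 0 from hb, zero_mul]
    obtain ⟨c, hc⟩ := (IsLocalization.map_eq_zero_iff q.primeCompl _ _).1 h0
    refine ⟨e.symm (algebraMap B _ (m.1 * c.1)), ?_, ?_⟩
    · have hm' : m.1 ∈ q.primeCompl := by
        obtain ⟨k, hk⟩ := m.2
        rw [← hk]
        exact pow_mem (S := q.primeCompl) hf k
      simpa [gA, hg] using (IsLocalization.map_units (Localization.AtPrime q) ⟨m.1, hm'⟩).mul
        (IsLocalization.map_units (Localization.AtPrime q) c)
    · apply e.injective
      rw [map_mul, e.apply_symm_apply, map_zero, map_mul, ← mul_assoc, hm, ← map_mul, mul_comm, hc, map_zero]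

theorem ascend (A B : Type u) [CommRing A] [CommRing B] [Algebra A B] [Algebra.Smooth A B]
    (hA : EGA4.IsNormalRing A) : EGA4.IsNormalRing B := by
  intro q hq
  let p := q.under A
  have := (hA p).1
  have := (hA p).2
  let B' := Localization (Algebra.algebraMapSubmonoid B p.primeCompl)
  haveI : Algebra.IsPushout A (Localization.AtPrime p) B B' :=
    .symm <| Algebra.isPushout_of_isLocalization p.primeCompl _ _ _
  haveI : Algebra.Smooth (Localization.AtPrime p) B' :=
    .of_equiv (Algebra.IsPushout.equiv A (Localization.AtPrime p) B B')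
  have hdisj : Disjoint (Algebra.algebraMapSubmonoid B p.primeCompl : Set B) (q : Set B) := by
    rw [Set.disjoint_left]
    rintro _ ⟨x, hx, rfl⟩ h
    exact hx h
  let q' : Ideal B' := q.map (algebraMap B B')
  haveI hq' : q'.IsPrime :=
    IsLocalization.isPrime_of_isPrime_disjoint (Algebra.algebraMapSubmonoid B p.primeCompl) _ q hq hdisj
  have hcomap : q'.comap (algebraMap B B') = q :=
    IsLocalization.comap_map_of_isPrime_disjoint (Algebra.algebraMapSubmonoid B p.primeCompl) B' hq hdisj
  obtain ⟨h1, h2⟩ := normal_atPrime_of_smooth (Localization.AtPrime p) B' q'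
  haveI : IsLocalization.AtPrime (Localization.AtPrime q') q := by
    have := IsLocalization.isLocalization_isLocalization_atPrime_isLocalization
      (S := B') (Algebra.algebraMapSubmonoid B p.primeCompl) (Localization.AtPrime q') q'
    simpa only [hcomap] using this
  let e := IsLocalization.algEquiv q.primeCompl (Localization.AtPrime q') (Localization.AtPrime q)
  exact ⟨e.symm.toRingEquiv.injective.isDomain, IsIntegrallyClosed.of_equiv e.toRingEquiv⟩

theorem descend (A B : Type u) [CommRing A] [CommRing B] [Algebra A B] [Module.FaithfullyFlat A B]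
    (hB : EGA4.IsNormalRing B) : EGA4.IsNormalRing A := by
  intro p hp
  obtain ⟨q, hq⟩ := PrimeSpectrum.comap_surjective_of_faithfullyFlat (A := A) (B := B) ⟨p, hp⟩
  have hpq : p = q.asIdeal.comap (algebraMap A B) := (congrArg PrimeSpectrum.asIdeal hq).symm
  have := (hB q.asIdeal).1
  have := (hB q.asIdeal).2
  let φ : Localization.AtPrime p →+* Localization.AtPrime q.asIdeal := Localization.localRingHom p q.asIdeal (algebraMap A B) hpq
  have hfl : φ.Flat := RingHom.Flat.localRingHom (by rw [RingHom.flat_algebraMap_iff]; infer_instance) _ _ _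
  have hloc : IsLocalHom φ := Localization.isLocalHom_localRingHom _ _ _ _
  algebraize [φ]
  haveI : Module.FaithfullyFlat (Localization.AtPrime p) (Localization.AtPrime q.asIdeal) :=
    Module.FaithfullyFlat.of_flat_of_isLocalHom
  exact Hensel.normal_of_faithfullyFlat (S := Localization.AtPrime q.asIdeal)

/-- Let A → B be a smooth ring map. If A is a normal ring (all local rings integrally closed domains)
then so is B; and if moreover A → B is faithfully flat and B is normal, then A is normal. So
normality can be checked smooth-locally. -/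
theorem result (A B : Type u) [CommRing A] [CommRing B] [Algebra A B] [Algebra.Smooth A B] :
    (EGA4.IsNormalRing A → EGA4.IsNormalRing B) ∧
    (Module.FaithfullyFlat A B → EGA4.IsNormalRing B → EGA4.IsNormalRing A) :=
  ⟨ascend A B, fun _ => descend A B⟩

end Groth.Agent.S1182
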