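import Groth.Statements.S3387
import Groth.Agent.Unibranch.UpperSemicont

set_option autoImplicit false
open CategoryTheory AlgebraicGeometry
universe u
open EGA43

namespace Groth.Agent.S3387

/-- Let f : X ⟶ Y be locally of finite type and closed (as a map of underlying spaces). Then for every
natural number n the set of points y of Y whose fibre has dimension at least n is closed; that is,
the dimension of the fibre is upper semicontinuous on Y. -/
theorem result {X Y : Scheme.{u}} (f : X ⟶ Y) [LocallyOfFiniteType f]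
    (hf : IsClosedMap f.base) (n : ℕ) :
    IsClosed {y : Y | (n : WithBot ℕ∞) ≤ topologicalKrullDim ↥(f.fiber y)} := by
  have key : {y : Y | (n : WithBot ℕ∞) ≤ topologicalKrullDim ↥(f.fiber y)} =
      f '' {x : X | (n : WithBot ℕ∞) ≤ FlatMor.fibreDimAt f x} := by
    ext y
    have hdim : ((n : WithBot ℕ∞) ≤ topologicalKrullDim ↥(f.fiber y)) ↔
        Unibranch.HasChain f (Set.univ : Set X) y n := by
      refine Unibranch.natCast_le_topologicalKrullDim_iff f (f.fiberι y).isEmbedding ?_
      rw [Scheme.Hom.range_fiberι, Set.univ_inter]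
    constructor
    · intro h
      obtain ⟨c, hc, hc'⟩ := hdim.mp h
      refine ⟨c (Fin.last n), (Unibranch.natCast_le_fibreDimAt_iff f _).mpr fun U hU => ⟨c, fun i => ⟨?_, ?_⟩, hc'⟩,
        (hc _).2⟩
      · refine (show c i ⤳ c (Fin.last n) from ?_).mem_open U.2 hU
        induction i using Fin.reverseInduction with
        | last => exact specializes_rfl
        | cast j hj => exact (hc' j).1.trans hj
      · rw [(hc i).2, (hc (Fin.last n)).2]
    · rintro ⟨x, hx, rfl⟩
      exact hdim.mpr (((Unibranch.natCast_le_fibreDimAt_iff f x).mp hx ⊤ trivial).mono (Set.subset_univ _))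
  rw [key]
  refine hf _ ⟨?_⟩
  refine isOpen_iff_forall_mem_open.mpr fun x hx => ?_
  obtain ⟨d, hd⟩ := Unibranch.exists_fibreDimAt_eq f x
  have hdn : d < n := by
    by_contra h
    exact hx (show (n : WithBot ℕ∞) ≤ FlatMor.fibreDimAt f x by rw [hd]; exact_mod_cast not_lt.mp h)
  obtain ⟨U, hxU, hU⟩ := (Unibranch.fibreDimAt_le_iff f x).mp hd.le
  obtain ⟨U', hxU', -, hU'⟩ := Unibranch.exists_opens_chainsLE f hxU hU
  refine ⟨U', fun z hz (hnz : (n : WithBot ℕ∞) ≤ _) => ?_, U'.2, hxU'⟩
  have := hnz.trans ((Unibranch.fibreDimAt_le_iff f z).mpr ⟨U', hz, hU' _⟩)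
  exact absurd (show n ≤ d by exact_mod_cast this) (by omega)

end Groth.Agent.S3387
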