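import Groth.Statements.S0403
import Groth.Agent.S3387

set_option autoImplicit false
universe u
open FlatMor

namespace Groth.Agent.S0403

open AlgebraicGeometry CategoryTheory Limits in
/-- For a proper morphism the dimension of the fibre is an upper semicontinuous function on the target:
for every bound the set of points whose fibre has dimension at most that bound is open. -/
theorem result {X S : Scheme.{u}} (f : X ⟶ S) [IsProper f] (c : WithBot ℕ∞) :
    IsOpen {s : S | topologicalKrullDim (f.fiber s) ≤ c} := by
  have hcl : ∀ n : ℕ, IsClosed {s : S | (n : WithBot ℕ∞) ≤ topologicalKrullDim (f.fiber s)} :=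
    fun n ↦ Groth.Agent.S3387.result f f.isClosedMap n
  cases c with
  | bot =>
    convert (hcl 0).isOpen_compl using 1
    ext s
    simp only [Set.mem_setOf_eq, Set.mem_compl_iff]
    cases h : topologicalKrullDim (f.fiber s) with
    | bot => simp
    | coe a => simp
  | coe a =>
    cases a with
    | top =>
      convert isOpen_univ using 1
      exact Set.eq_univ_of_forall fun s ↦ (le_top : topologicalKrullDim (f.fiber s) ≤ ⊤)
    | coe n =>
      convert (hcl (n + 1)).isOpen_compl using 1
      ext s
      simp only [Set.mem_setOf_eq, Set.mem_compl_iff]
      refine ⟨fun h h' ↦ absurd (show n + 1 ≤ n by exact_mod_cast h'.trans h) (by omega), fun h ↦ ?_⟩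
      exact Unibranch.natCast_le_iff_of_le_iff.mpr fun k hk ↦ Classical.byContradiction fun hkn ↦
        h (le_trans (by exact_mod_cast not_le.mp hkn) hk)

end Groth.Agent.S0403
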