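import Groth.Statements.S9350
import Groth.Agent.KFlat.Pullback
import Groth.Agent.FlatModB.FFDesc

set_option autoImplicit false
set_option backward.isDefEq.respectTransparency false
universe u
open FlatMod Groth.Agent TensorProduct

namespace Groth.Agent.S9350

open AlgebraicGeometry CategoryTheory in
/-- Let h : X → Y be a morphism of S-schemes, q : Y → S, G a quasi-coherent O_Y-module and x ∈ X with h
flat at x. Flatness of G over S at h x is equivalent to flatness of h^*G over S at x. -/
theorem result {X Y S : Scheme.{u}} (h : X ⟶ Y) (q : Y ⟶ S)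
    (G : Y.Modules) (hG : Coh.IsQCoh G) (x : X) (hflat : (h.stalkMap x).hom.Flat) :
    FlatMod.IsFlatOverAt q G (h.base x) ↔ FlatMod.IsFlatOverAt (h ≫ q) ((Scheme.Modules.pullback h).obj G) x := by
  let R := S.presheaf.stalk ((h ≫ q) x)
  let φ : R →+* Y.presheaf.stalk (h x) := (q.stalkMap (h x)).hom
  letI : Algebra R (Y.presheaf.stalk (h x)) := φ.toAlgebra
  letI : Algebra (Y.presheaf.stalk (h x)) (X.presheaf.stalk x) := (h.stalkMap x).hom.toAlgebra
  letI : Algebra R (X.presheaf.stalk x) := ((h ≫ q).stalkMap x).hom.toAlgebra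
  haveI : IsScalarTower R (Y.presheaf.stalk (h x)) (X.presheaf.stalk x) :=
    IsScalarTower.of_algebraMap_eq fun a => congr($(Scheme.Hom.stalkMap_comp h q x) a)
  haveI : Module.Flat (Y.presheaf.stalk (h x)) (X.presheaf.stalk x) := hflat
  haveI : IsLocalHom (algebraMap (Y.presheaf.stalk (h x)) (X.presheaf.stalk x)) :=
    inferInstanceAs (IsLocalHom (h.stalkMap x).hom)
  haveI : Module.FaithfullyFlat (Y.presheaf.stalk (h x)) (X.presheaf.stalk x) :=
    Module.FaithfullyFlat.of_flat_of_isLocalHom
  letI : Module R (G.presheaf.stalk (h x)) := FlatMod.moduleStalkOver q G (h x)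
  haveI : IsScalarTower R (Y.presheaf.stalk (h x)) (G.presheaf.stalk (h x)) :=
    ⟨fun a c m => mul_smul (φ a) c m⟩
  letI := FlatMod.moduleStalkOver (h ≫ q) ((Scheme.Modules.pullback h).obj G) x
  let e0 : ((Scheme.Modules.pullback h).obj G).presheaf.stalk x ≃ₗ[X.presheaf.stalk x]
      X.presheaf.stalk x ⊗[Y.presheaf.stalk (h x)] G.presheaf.stalk (h x) :=
    ((KFlat.pullStalkIso h x).app G).toLinearEquiv
  haveI : IsScalarTower R (X.presheaf.stalk x) (((Scheme.Modules.pullback h).obj G).presheaf.stalk x) :=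
    ⟨fun a c m => mul_smul (((h ≫ q).stalkMap x).hom a) c m⟩
  have e := e0.restrictScalars R
  refine (FlatModB.flat_tensor_iff_of_faithfullyFlat R (Y.presheaf.stalk (h x))
    (X.presheaf.stalk x) (G.presheaf.stalk (h x))).symm.trans ⟨fun H => ?_, fun H => ?_⟩
  · exact @Module.Flat.of_linearEquiv _ _ _ _ _ _ _ _ H e
  · exact @Module.Flat.of_linearEquiv _ _ _ _ _ _ _ _ H e.symm

end Groth.Agent.S9350
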