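import Groth.Statements.S2092
import Groth.Agent.CMFlat.FiberRing
import Groth.Agent.CMFlat.FieldTensor

set_option autoImplicit false
universe u
open CAlg

namespace Groth.Agent.S2092

/-- Case `M = R`: if `R` is a Cohen–Macaulay ring then so is the polynomial ring `R[x_1, …, x_n]`. -/
theorem result {R : Type u} [CommRing R] [LocCoh.IsCohenMacaulayRing R] (n : ℕ) :
    LocCoh.IsCohenMacaulayRing (MvPolynomial (Fin n) R) := by
  haveI : IsNoetherianRing R := inferInstance
  refine Groth.Agent.CMFlat.isCohenMacaulayRing_of_fibers (A := R) fun p _ Q _ => ?_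
  refine Groth.Agent.CMFlat.isCohenMacaulay_localization_of_ringEquiv
    (MvPolynomial.algebraTensorAlgEquiv (σ := Fin n) R p.ResidueField).symm.toRingEquiv (fun q _ => ?_) Q
  haveI : IsRegularLocalRing (Localization.AtPrime q) := IsRegularRing.isRegularLocalRing_localization q
  exact Groth.Agent.CMFlat.isCohenMacaulayLocalRing_of_isRegularLocalRing _

end Groth.Agent.S2092
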