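import Groth.Statements.S3590
import Groth.Agent.ProjMor.Sym
import Groth.Agent.ProjMor.Over
import Groth.Agent.LocFree.SemiLocal
import Groth.Agent.ResDesc.ResProp
import Groth.Agent.ZeroSch.Basic
import Groth.Agent.QC.Sections

set_option autoImplicit false
set_option backward.isDefEq.respectTransparency false
set_option backward.isDefEq.respectTransparency.types false
set_option maxHeartbeats 1000000
universe u
open CategoryTheory CategoryTheory.Limits AlgebraicGeometry TopologicalSpace Opposite
open EGA2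
open Groth.Agent.QC (res resO res_res res_smul resO_resO res_self)
open TMul (IsGen homOf)

namespace Groth.Agent.S3590

variable {X : Scheme.{u}} {L : X.Modules}

/-- Generating global sections span on an affine scheme. -/
theorem span_eq_top [IsAffine X] (hL : PicF.IsInvertible L) {m : ℕ} (t : Fin m → Γ(L, ⊤))
    (ht : ProjUP.GeneratedBy L t) (z : Γ(L, ⊤)) : z ∈ Submodule.span Γ(X, ⊤) (Set.range t) := by
  classical
  choose i hi using fun x : X => ProjMor.exists_mem_genLocus hL t ht x
  choose f hfle hxf using fun x : X =>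
    (isAffineOpen_top X).exists_basicOpen_le (V := CohB1.genLocus L (homOf (t (i x)))) ⟨x, hi x⟩ trivial
  haveI : L.IsQuasicoherent := TMul.isQCoh_of_isInvertible hL
  let J : Ideal Γ(X, ⊤) := (Submodule.span Γ(X, ⊤) (Set.range t)).comap (LinearMap.toSpanSingleton Γ(X, ⊤) Γ(L, ⊤) z)
  have hJ : ∀ a, a ∈ J ↔ a • z ∈ Submodule.span Γ(X, ⊤) (Set.range t) := fun a => Iff.rfl
  have hpow : ∀ x : X, ∃ k : ℕ, f x ^ k ∈ J := by
    intro x
    haveI := (isAffineOpen_top X).isLocalization_basicOpen (f x)
    have he : IsGen (res L (le_top : X.basicOpen (f x) ≤ ⊤) (t (i x))) := by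
      have := (ProjMor.isGen_homOf (t (i x))).res (hfle x)
      rwa [res_res] at this
    obtain ⟨c, hc⟩ := (he _ le_rfl).2 (res L le_top z)
    simp only [res_self] at hc
    obtain ⟨⟨a, ⟨_, k, rfl⟩⟩, ha⟩ := IsLocalization.surj (Submonoid.powers (f x)) c
    change c * resO X (le_top : X.basicOpen (f x) ≤ ⊤) (f x ^ k) = resO X (le_top : X.basicOpen (f x) ≤ ⊤) a at ha
    have hz : res L (X.basicOpen_le (f x)) (f x ^ k • z - a • t (i x)) = 0 := by
      rw [map_sub, res_smul, res_smul, sub_eq_zero, ← hc, smul_smul, _root_.mul_comm]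
      exact congrArg (fun w : Γ(X, X.basicOpen (f x)) => w • res L le_top (t (i x))) ha
    obtain ⟨l, hl⟩ := (Groth.Agent.QC.isLoc_of_isQCoh (isAffineOpen_top X) (M := L)).exists_pow_smul_eq_zero _ _ hz
    refine ⟨l + k, (hJ _).2 ?_⟩
    rw [smul_sub, smul_smul, smul_smul, sub_eq_zero, ← pow_add] at hl
    rw [hl]
    exact Submodule.smul_mem _ _ (Submodule.subset_span ⟨_, rfl⟩)
  choose k hk using hpow
  have htop : Ideal.span (Set.range f) = ⊤ := by
    rw [← (isAffineOpen_top X).self_le_iSup_basicOpen_iff]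
    exact fun x _ => Opens.mem_iSup.mpr ⟨⟨f x, x, rfl⟩, hxf x⟩
  have h1 : (1 : Γ(X, ⊤)) ∈ J := by
    have hrad : Ideal.span (Set.range f) ≤ J.radical := Ideal.span_le.mpr (by
      rintro _ ⟨x, rfl⟩; exact ⟨k x, hk x⟩)
    rw [htop, top_le_iff, Ideal.radical_eq_top] at hrad
    rw [hrad]; trivial
  simpa using (hJ 1).1 h1

theorem rankOne_of_isInvertible (hL : PicF.IsInvertible L) : FlatMod.IsFinLocFreeOfRank 1 L := fun x => by
  obtain ⟨U, hx, ⟨φ⟩⟩ := hL x
  exact ⟨U, hx, ⟨φ ≪≫ (coproductUniqueIso fun _ : Fin 1 => Coh.structureModule (U : Scheme.{u})).symm⟩⟩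

/-- The rank from one affine open. -/
theorem rankOne_of_rankAtStalk (h : FlatMod.IsFinLocFree L) {V : X.Opens} (hV : IsAffineOpen V)
    (hVx : ∀ x : X, x ∈ V) (hr : ∀ q, Module.rankAtStalk (R := Γ(X, V)) Γ(L, V) q = 1) :
    FlatMod.IsFinLocFreeOfRank 1 L := fun x => by
  obtain ⟨W, m, hxW, ⟨e⟩⟩ := h x
  have hM := LocFree.isQCoh_of_isFinLocFree h
  have hfp := LocFree.finitePresentation_sections h hV
  haveI := hfp
  have hflat := LocFree.flat_sections hV hM (Groth.Agent.DerPerf.isFlat_of_isFinLocFree h)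
  haveI := hflat
  obtain ⟨b⟩ := LocFree.exists_basis_stalk e hM hxW
  letI := (X.presheaf.germ V x (hVx x)).hom.toAlgebra
  haveI := hV.isLocalization_stalk ⟨x, hVx x⟩
  obtain ⟨g, hg⟩ := LocFree.exists_stalkMap hV hM (hVx x)
  letI := Module.compHom (L.presheaf.stalk x) (X.presheaf.germ V x (hVx x)).hom
  haveI : IsScalarTower Γ(X, V) (X.presheaf.stalk x) (L.presheaf.stalk x) :=
    ⟨fun a c m => mul_smul ((X.presheaf.germ V x (hVx x)).hom a) c m⟩
  haveI := hg
  haveI : Module.Free (X.presheaf.stalk x) (L.presheaf.stalk x) := Module.Free.of_basis b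
  have h1 := Module.rankAtStalk_isBaseChange
    (IsLocalizedModule.isBaseChange (hV.primeIdealOf ⟨x, hVx x⟩).asIdeal.primeCompl (X.presheaf.stalk x) g)
    (IsLocalRing.closedPoint (X.presheaf.stalk x))
  rw [hr, Module.rankAtStalk_eq_finrank_of_free] at h1
  have h2 : Module.finrank (X.presheaf.stalk x) (L.presheaf.stalk x) = 1 := h1
  rw [Module.finrank_eq_card_basis b, Fintype.card_ulift, Fintype.card_fin] at h2
  subst h2
  exact ⟨W, hxW, ⟨e⟩⟩

/-- Rank at stalks and a bijective change of rings. -/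
theorem rankAtStalk_of_bijective {R S Q N : Type u} [CommRing R] [CommRing S] [AddCommGroup Q] [Module R Q]
    [Module.Flat R Q] [Module.Finite R Q] [AddCommGroup N] [Module S N] (φ : R →+* S) (hφ : Function.Bijective φ) (E : Q →+ N)
    (hE : Function.Bijective E) (hsm : ∀ r x, E (r • x) = φ r • E x) (q : PrimeSpectrum S) :
    Module.rankAtStalk (R := S) N q = Module.rankAtStalk (R := R) Q (q.comap φ) := by
  letI := φ.toAlgebra
  letI := Module.compHom N φ
  haveI : IsScalarTower R S N := ⟨fun a c m => mul_smul (φ a) c m⟩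
  let El : Q →ₗ[R] N := { toFun := E, map_add' := E.map_add, map_smul' := hsm }
  refine Module.rankAtStalk_isBaseChange (f := El) (IsBaseChange.of_lift_unique El fun P _ _ _ _ g => ?_) q
  let e := LinearEquiv.ofBijective El hE
  let g₀ : N →ₗ[R] P := g.comp e.symm.toLinearMap
  let g' : N →ₗ[S] P :=
    { toFun := g₀
      map_add' := g₀.map_add
      map_smul' := fun s n => by
        obtain ⟨r, rfl⟩ := hφ.2 s
        rw [RingHom.id_apply]
        exact (g₀.map_smul r n).trans (algebraMap_smul S r (g₀ n)).symm }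
  refine ⟨g', LinearMap.ext fun x => ?_, fun h hh => LinearMap.ext fun n => ?_⟩
  · change g (e.symm (El x)) = g x
    rw [show El x = e x from rfl, LinearEquiv.symm_apply_apply]
  · obtain ⟨x, rfl⟩ := hE.2 n
    change h (El x) = g (e.symm (El x))
    rw [show El x = e x from rfl, LinearEquiv.symm_apply_apply]
    exact LinearMap.congr_fun hh x

/-- For E = O_Y^{n+1} over an affine base Y = Spec R (image of the correspondence): a submodule F of
R^{n+1} is the module of relations among the pulled-back coordinates of some section of projective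
n-space over R if and only if the quotient R^{n+1}/F is an invertible R-module (projective, of rank
one at every prime). -/
theorem result {R : Type u} [CommRing R] (n : ℕ)
    (F : Submodule R (Fin (n + 1) → R)) :
    (∃ s : Spec (CommRingCat.of R) ⟶ CohB1.ProjSpace n R,
        s ≫ CohB1.ProjSpace.toSpec n R = 𝟙 _ ∧ ProjUP.secKernel n R s = F) ↔
      (Module.Projective R ((Fin (n + 1) → R) ⧸ F) ∧
        ∀ p : PrimeSpectrum R, Module.finrank (Localization.AtPrime p.asIdeal)
          (LocalizedModule p.asIdeal.primeCompl ((Fin (n + 1) → R) ⧸ F)) = 1) := by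
  classical
  let φ : R →+* Γ(Spec (CommRingCat.of R), ⊤) := (Scheme.ΓSpecIso (CommRingCat.of R)).inv.hom
  have hφ : Function.Bijective φ := ConcreteCategory.bijective_of_isIso (Scheme.ΓSpecIso (CommRingCat.of R)).inv
  let σ : R ≃+* Γ(Spec (CommRingCat.of R), ⊤) := RingEquiv.ofBijective φ hφ
  have htoG : ∀ c : R, ProjUP.toGlobal (𝟙 (Spec (CommRingCat.of R))) c = φ c := fun c => by
    rw [ProjUP.toGlobal]
    rfl
  constructor
  · rintro ⟨s, -, rfl⟩
    let L := (Scheme.Modules.pullback s).obj (Twist.twistProjSpace n R 1)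
    let t : Fin (n + 1) → Γ(L, ⊤) := fun i => ProjUP.pullSec s (Twist.twistProjSpace n R 1) (ProjUP.coord n R i)
    have hL : PicF.IsInvertible L := ProjMor.isInvertible_pull1 (ProjMor.genDegOne_projSpace n R) s
    have ht : ProjUP.GeneratedBy L t := ProjMor.generatedBy_of_mem_genLocus _ fun x => by
      obtain ⟨g, hg, hgx⟩ := ProjMor.exists_notMem (ProjMor.genDegOne_projSpace n R) (s x)
      obtain ⟨c, rfl⟩ := ProjMor.exists_of_mem_one (ProjMor.linForms_mem n R) (ProjMor.adjoin_linForms n R) hg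
      obtain ⟨i, hi⟩ : ∃ i, (MvPolynomial.X i : MvPolynomial (Fin (n + 1)) R) ∉ (s x).asHomogeneousIdeal.toIdeal := by
        by_contra hno
        push Not at hno
        refine hgx ?_
        rw [ProjMor.linForms, Fintype.linearCombination_apply]
        refine Ideal.sum_mem _ fun i _ => ?_
        rw [Algebra.smul_def]
        exact Ideal.mul_mem_left _ _ (hno i)
      have hX : (MvPolynomial.X i : MvPolynomial (Fin (n + 1)) R) ∈ CohB1.polyGrading n R 1 :=
        MvPolynomial.isHomogeneous_X R i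
      exact ⟨i, (ProjMor.genLocus_pull1 (ProjMor.genDegOne_projSpace n R) s hX).ge hi⟩
    letI : Module R Γ(L, ⊤) := Module.compHom _ φ
    let K : (Fin (n + 1) → R) →ₗ[R] Γ(L, ⊤) := Fintype.linearCombination R t
    have hker : ProjUP.secKernel n R s = LinearMap.ker K := rfl
    have hK : ∀ c, K c = ∑ i, φ (c i) • t i := fun c => by rw [Fintype.linearCombination_apply]; rfl
    have hsurj : Function.Surjective K := fun z => by
      obtain ⟨c, hc⟩ := (Submodule.mem_span_range_iff_exists_fun Γ(Spec (CommRingCat.of R), ⊤)).1 (span_eq_top hL t ht z)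
      refine ⟨fun i => σ.symm (c i), (hK _).trans ?_⟩
      rw [← hc]
      exact Finset.sum_congr rfl fun i _ => congrArg (· • t i) (σ.apply_symm_apply (c i))
    let e : ((Fin (n + 1) → R) ⧸ ProjUP.secKernel n R s) ≃ₗ[R] Γ(L, ⊤) :=
      (Submodule.quotEquivOfEq _ _ hker).trans (K.quotKerEquivOfSurjective hsurj)
    have hsm : ∀ (r : R) x, e (r • x) = φ r • e x := fun r x => e.map_smul r x
    have hfl := ResDesc.isFinLocFree_of_isInvertible hL
    haveI : RingHomInvPair (σ : R →+* Γ(Spec (CommRingCat.of R), ⊤)) (σ.symm : Γ(Spec (CommRingCat.of R), ⊤) →+* R) :=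
      RingHomInvPair.of_ringEquiv σ
    haveI : RingHomInvPair (σ.symm : Γ(Spec (CommRingCat.of R), ⊤) →+* R) (σ : R →+* Γ(Spec (CommRingCat.of R), ⊤)) :=
      RingHomInvPair.of_ringEquiv_symm σ
    haveI hproj : Module.Projective Γ(Spec (CommRingCat.of R), ⊤) Γ(L, ⊤) :=
      LocFree.projective_sections hfl (isAffineOpen_top _)
    let e' : Γ(L, ⊤) ≃ₛₗ[(σ.symm : Γ(Spec (CommRingCat.of R), ⊤) →+* R)] ((Fin (n + 1) → R) ⧸ ProjUP.secKernel n R s) :=
      { e.symm.toAddEquiv with
        map_smul' := fun a x => by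
          change e.symm (a • x) = σ.symm a • e.symm x
          rw [LinearEquiv.symm_apply_eq, hsm, LinearEquiv.apply_symm_apply]
          exact congrArg (· • x) (σ.apply_symm_apply a).symm }
    haveI hproj' : Module.Projective R ((Fin (n + 1) → R) ⧸ ProjUP.secKernel n R s) := Module.Projective.of_equiv e'
    haveI : Module.Flat R ((Fin (n + 1) → R) ⧸ ProjUP.secKernel n R s) := Module.Flat.of_projective
    refine ⟨hproj', fun p => ?_⟩
    have hfp := LocFree.finitePresentation_sections hfl (isAffineOpen_top (Spec (CommRingCat.of R)))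
    haveI := hfp
    let q : PrimeSpectrum Γ(Spec (CommRingCat.of R), ⊤) := p.comap (σ.symm : Γ(Spec (CommRingCat.of R), ⊤) →+* R)
    have hq : q.comap φ = p := PrimeSpectrum.ext (Ideal.ext fun r => by
      change σ.symm (σ r) ∈ p.asIdeal ↔ r ∈ p.asIdeal
      rw [σ.symm_apply_apply])
    have h1 := rankAtStalk_of_bijective φ hφ e.toAddEquiv.toAddMonoidHom e.bijective hsm q
    rw [hq] at h1
    refine h1.symm.trans ?_
    let x := (isAffineOpen_top (Spec (CommRingCat.of R))).fromSpec q
    have hx : (isAffineOpen_top (Spec (CommRingCat.of R))).primeIdealOf ⟨x, trivial⟩ = q :=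
      (isAffineOpen_top (Spec (CommRingCat.of R))).fromSpec.isOpenEmbedding.injective
        ((isAffineOpen_top (Spec (CommRingCat.of R))).fromSpec_primeIdealOf ⟨x, trivial⟩)
    rw [← hx]
    exact LocFree.rankAtStalk_eq_of_isFinLocFreeOfRank (rankOne_of_isInvertible hL)
      (LocFree.isQCoh_of_isFinLocFree hfl) (isAffineOpen_top _) trivial
  · rintro ⟨hP, hrk⟩
    let Q : ModuleCat.{u} (CommRingCat.of R) := ModuleCat.of R ((Fin (n + 1) → R) ⧸ F)
    let L := tilde Q
    let E : ((Fin (n + 1) → R) ⧸ F) →+ Γ(L, ⊤) := (tilde.isoTop Q).toLinearEquiv.toAddEquiv.toAddMonoidHom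
    have hE : Function.Bijective E := (tilde.isoTop Q).toLinearEquiv.bijective
    have hsm : ∀ (r : R) x, E (r • x) = φ r • E x := fun r x => by
      refine ((tilde.isoTop Q).toLinearEquiv.map_smul r x).trans ?_
      exact congrArg (fun a : Γ(Spec (CommRingCat.of R), ⊤) => a • E x)
        (ConcreteCategory.congr_hom ((Spec (CommRingCat.of R)).presheaf.map_id (Opposite.op ⊤)) (φ r))
    haveI : RingHomInvPair (σ : R →+* Γ(Spec (CommRingCat.of R), ⊤)) (σ.symm : Γ(Spec (CommRingCat.of R), ⊤) →+* R) :=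
      RingHomInvPair.of_ringEquiv σ
    haveI : RingHomInvPair (σ.symm : Γ(Spec (CommRingCat.of R), ⊤) →+* R) (σ : R →+* Γ(Spec (CommRingCat.of R), ⊤)) :=
      RingHomInvPair.of_ringEquiv_symm σ
    let e : ((Fin (n + 1) → R) ⧸ F) ≃ₛₗ[(σ : R →+* Γ(Spec (CommRingCat.of R), ⊤))] Γ(L, ⊤) :=
      { AddEquiv.ofBijective E hE with map_smul' := hsm }
    haveI := hP
    haveI : Module.Flat R ((Fin (n + 1) → R) ⧸ F) := Module.Flat.of_projective
    haveI hproj : Module.Projective Γ(Spec (CommRingCat.of R), ⊤) Γ(L, ⊤) := Module.Projective.of_equiv e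
    let t : Fin (n + 1) → Γ(L, ⊤) := fun i => E (Submodule.Quotient.mk (Pi.single i (1 : R)))
    have hcomb : ∀ c : Fin (n + 1) → R, E (Submodule.Quotient.mk c) = ∑ i, φ (c i) • t i := fun c => by
      conv_lhs => rw [pi_eq_sum_univ' c]
      rw [← Submodule.mkQ_apply, map_sum, map_sum]
      exact Finset.sum_congr rfl fun i _ => by rw [map_smul, hsm]; rfl
    have hspan : Submodule.span Γ(Spec (CommRingCat.of R), ⊤) (Set.range t) = ⊤ := top_le_iff.1 fun z _ => by
      obtain ⟨w, rfl⟩ := hE.2 z
      obtain ⟨c, rfl⟩ := Submodule.Quotient.mk_surjective F w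
      rw [hcomb]
      exact Submodule.sum_mem _ fun i _ => Submodule.smul_mem _ _ (Submodule.subset_span ⟨i, rfl⟩)
    haveI : Module.Finite Γ(Spec (CommRingCat.of R), ⊤) Γ(L, ⊤) :=
      ⟨⟨Finset.univ.image t, by rw [Finset.coe_image, Finset.coe_univ, Set.image_univ, hspan]⟩⟩
    haveI : Module.FinitePresentation Γ(Spec (CommRingCat.of R), ⊤) Γ(L, ⊤) := Module.finitePresentation_of_projective _ _
    haveI : Module.Flat Γ(Spec (CommRingCat.of R), ⊤) Γ(L, ⊤) := Module.Flat.of_projective
    have hqc : Coh.IsQCoh L := (inferInstance : (tilde Q).IsQuasicoherent)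
    have hfl : FlatMod.IsFinLocFree L := LocFree.isFinLocFree_of_affine_projective hqc fun x =>
      ⟨⊤, isAffineOpen_top _, trivial, inferInstance, inferInstance⟩
    have hL : PicF.IsInvertible L := ZeroSch.isInvertible_of_rankOne
      (rankOne_of_rankAtStalk hfl (isAffineOpen_top _) (fun _ => trivial) fun q =>
        (rankAtStalk_of_bijective φ hφ E hE hsm q).trans (hrk _))
    have hgen : ProjUP.GeneratedBy L t := fun x => by
      refine LocFree.span_germ (U := ⊤) (isAffineOpen_top _) hqc trivial t hspan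
    obtain ⟨s, hs, τ, hτ⟩ := ProjMor.exists_projSpace (n := n) (𝟙 (Spec (CommRingCat.of R))) hL t hgen
    refine ⟨s, hs, ?_⟩
    ext c
    letI : Module R (ProjUP.Γm ((Scheme.Modules.pullback s).obj (Twist.twistProjSpace n R 1))) :=
      Module.compHom _ φ
    change Fintype.linearCombination R
      (fun i => ProjUP.pullSec s (Twist.twistProjSpace n R 1) (ProjUP.coord n R i)) c = 0 ↔ _
    rw [Fintype.linearCombination_apply]
    have hsum : τ.hom.app ⊤ (∑ i, c i • ProjUP.pullSec s (Twist.twistProjSpace n R 1) (ProjUP.coord n R i)) =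
        E (Submodule.Quotient.mk c) := by
      rw [hcomb, map_sum]
      exact Finset.sum_congr rfl fun i _ => (Scheme.Modules.Hom.app_smul τ.hom (φ (c i)) _).trans
        (congrArg _ (hτ i))
    rw [← (ConcreteCategory.bijective_of_isIso (τ.hom.app ⊤)).1.eq_iff, hsum, map_zero,
      map_eq_zero_iff E hE.1, Submodule.Quotient.mk_eq_zero]

end Groth.Agent.S3590
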