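import Groth.Statements.S4438
import Groth.Agent.NormLB.Plain
import Groth.Agent.TMul.RelAmpleOps
-- import your own Groth.Agent.* helpers here

set_option autoImplicit false
universe u
open CategoryTheory CategoryTheory.Limits AlgebraicGeometry
open EGA2

namespace Groth.Agent.S4438

/-- In existence form: let f : X ⟶ Y be a quasi-compact morphism and g : X' ⟶ X a finite surjective
morphism such that the direct image of O_{X'} is a finite locally free O_X-module. Then there is an
invertible O_X-module ample relative to f if and only if there is an invertible O_{X'}-module ample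
relative to f ∘ g. (For the descent direction the published statement names the module on X, the
norm of the given one; this row asserts existence only. The other direction is the inverse image
along the affine morphism g.) -/
theorem result {X X' Y : Scheme.{u}} (f : X ⟶ Y) [QuasiCompact f]
    (g : X' ⟶ X) [IsFinite g] [Surjective g]
    (hfree : FlatMod.IsFinLocFree ((Coh.push g).obj (Coh.structureModule X'))) :
    (∃ L : X.Modules, PicF.IsInvertible L ∧ RelAmple.IsRelAmple f L) ↔
      ∃ L' : X'.Modules, PicF.IsInvertible L' ∧ RelAmple.IsRelAmple (g ≫ f) L' := by
  refine ⟨fun ⟨L, hL, h⟩ => ⟨(Scheme.Modules.pullback g).obj L, PicLoc.isInvertible_pullback g hL,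
    TMul.isRelAmple_pullback_of_isQuasiAffine g ⟨inferInstance, fun W hW => by
      have : IsAffine (g ⁻¹ᵁ W).toScheme := hW.preimage g
      infer_instance⟩ h⟩, fun ⟨L, _, h⟩ => ?_⟩
  obtain ⟨N⟩ := Groth.Agent.NormLB.exists_preNorm (Groth.Agent.NormAmple.freeNhds_of_isFinLocFree hfree)
  exact Groth.Agent.NormLB.exists_isRelAmple N f h

end Groth.Agent.S4438
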