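import Groth.Statements.S17081
import Mathlib
-- import your own Groth.Agent.* helpers here

set_option autoImplicit false
universe u
open CategoryTheory CategoryTheory.Limits AlgebraicGeometry
open MorSch


namespace Groth.Agent.S17081

open CategoryTheory CategoryTheory.Limits AlgebraicGeometry

lemma hilbPull_eq_comap {X S : Scheme.{u}} (f : X ⟶ S) {T T' : Over S} (g : T' ⟶ T)
    (I : (PicF.XT f T).IdealSheafData) :
    FGA.hilbPull f g I = I.comap (PicF.XTmap f g) := by
  unfold FGA.hilbPull Scheme.IdealSheafData.comap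
  rw [← pullbackSymmetry_hom_comp_fst I.subschemeι (PicF.XTmap f g), Scheme.Hom.ker_comp_of_isIso]

lemma XTmap_fst {X S : Scheme.{u}} (f : X ⟶ S) {T T' : Over S} (g : T' ⟶ T) :
    PicF.XTmap f g ≫ pullback.fst f T.hom = pullback.fst f T'.hom :=
  (pullback.lift_fst _ _ _).trans (Category.comp_id _)

lemma XTmap_snd {X S : Scheme.{u}} (f : X ⟶ S) {T T' : Over S} (g : T' ⟶ T) :
    PicF.XTmap f g ≫ pullback.snd f T.hom = pullback.snd f T'.hom ≫ g.left :=
  pullback.lift_snd _ _ _

/-- being proper and flat over a base is invariant under transport of a closed subscheme -/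
lemma proper_flat_comap_iso {A B T : Scheme.{u}} (I : B.IdealSheafData) (σ : A ⟶ B) [IsIso σ]
    (p : B ⟶ T) (h : IsProper (I.subschemeι ≫ p) ∧ Flat (I.subschemeι ≫ p)) :
    IsProper ((I.comap σ).subschemeι ≫ σ ≫ p) ∧ Flat ((I.comap σ).subschemeι ≫ σ ≫ p) := by
  let e : (I.comap σ).subscheme ≅ I.subscheme := I.comapIso σ ≪≫ asIso (pullback.snd σ I.subschemeι)
  have he : (I.comap σ).subschemeι ≫ σ ≫ p = e.hom ≫ I.subschemeι ≫ p := by
    show _ = ((I.comapIso σ).hom ≫ pullback.snd σ I.subschemeι) ≫ I.subschemeι ≫ p
    rw [← I.comapIso_hom_fst σ, Category.assoc, Category.assoc, pullback.condition_assoc]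
  rw [he]
  haveI := h.1
  haveI := h.2
  exact ⟨inferInstance, inferInstance⟩

end Groth.Agent.S17081

namespace Groth.Agent.S17081

/-- Let S and S' be Noetherian schemes, h : S' → S and f : X → S morphisms, and (H, Z) a pair
representing the Hilbert functor of X over S on locally Noetherian S-schemes (H locally Noetherian
over S; Z ⊆ X ×_S H closed, proper and flat over H; every closed subscheme of X ×_S T proper and
flat over a locally Noetherian S-scheme T is the pullback of Z along a unique S-morphism T → H),
with H locally of finite type over S. Write X' = X ×_S S' → S' and H' = H ×_S S' → S', and let Z' ⊆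
X' ×_{S'} H' be the closed subscheme pulled back from Z along the morphism X' ×_{S'} H' → X ×_S H
induced by the projections X' → X and H' → H. Then (H', Z') represents the Hilbert functor of X'
over S'. (Published for X flat and projective over S, which is how (H, Z) is known to exist there;
representability is taken as a hypothesis here; the hypothesis that H is locally of finite type over
S is added here (it holds for the Hilbert scheme of a flat projective scheme) so that H ×_S S' is
locally Noetherian.) -/
theorem result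
    {X S S' : Scheme.{u}} [IsNoetherian S] [IsNoetherian S'] (f : X ⟶ S) (h : S' ⟶ S)
    (H : Over S) (Z : FGA.HilbSet f H) (hH : FGA.HilbRepresentedBy f H Z)
    [LocallyOfFiniteType H.hom]
    (Z' : FGA.HilbSet (pullback.snd f h) (Over.mk (pullback.snd H.hom h)))
    (hZ' : Z'.1 = Z.1.comap (pullback.map (pullback.snd f h) (pullback.snd H.hom h) f H.hom
      (pullback.fst f h) (pullback.fst H.hom h) h pullback.condition.symm pullback.condition.symm)) :
    FGA.HilbRepresentedBy (pullback.snd f h) (Over.mk (pullback.snd H.hom h)) Z' := by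
  refine ⟨?_, fun T _ Y => ?_⟩
  · exact LocallyOfFiniteType.isLocallyNoetherian (pullback.snd H.hom h)
  let f' := pullback.snd f h
  let T0 : Over S := Over.mk (T.hom ≫ h)
  let σ : PicF.XT f' T ⟶ PicF.XT f T0 := (pullbackLeftPullbackSndIso f h T.hom).hom
  have hσ₁ : σ ≫ pullback.fst f T0.hom = pullback.fst f' T.hom ≫ pullback.fst f h :=
    pullbackLeftPullbackSndIso_hom_fst f h T.hom
  have hσ₂ : σ ≫ PicF.XTproj f T0 = PicF.XTproj f' T :=
    pullbackLeftPullbackSndIso_hom_snd f h T.hom
  have hiso : IsIso σ := (pullbackLeftPullbackSndIso f h T.hom).isIso_hom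
  have hY0 : IsProper ((Y.1.comap (inv σ)).subschemeι ≫ PicF.XTproj f T0) ∧
      Flat ((Y.1.comap (inv σ)).subschemeι ≫ PicF.XTproj f T0) := by
    have := proper_flat_comap_iso Y.1 (inv σ) (PicF.XTproj f' T) Y.2
    have e : inv σ ≫ PicF.XTproj f' T = PicF.XTproj f T0 :=
      (IsIso.inv_comp_eq σ).mpr hσ₂.symm
    rwa [e] at this
  haveI : IsLocallyNoetherian T0.left := ‹IsLocallyNoetherian T.left›
  obtain ⟨g0, hg0, huniq⟩ := hH.2 T0 ⟨Y.1.comap (inv σ), hY0⟩
  let H' : Over S' := Over.mk (pullback.snd H.hom h)
  let m := pullback.map f' H'.hom f H.hom (pullback.fst f h) (pullback.fst H.hom h) h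
      pullback.condition.symm pullback.condition.symm
  -- the comparison of the two pullbacks
  have key : ∀ (g : T ⟶ H') (g1 : T0 ⟶ H), g.left ≫ pullback.fst H.hom h = g1.left →
      PicF.XTmap f' g ≫ m = σ ≫ PicF.XTmap f g1 := by
    intro g g1 e
    have m1 : m ≫ pullback.fst f H.hom = pullback.fst f' H'.hom ≫ pullback.fst f h :=
      pullback.lift_fst _ _ _
    have m2 : m ≫ pullback.snd f H.hom = pullback.snd f' H'.hom ≫ pullback.fst H.hom h :=
      pullback.lift_snd _ _ _
    apply pullback.hom_ext
    · rw [Category.assoc, Category.assoc, m1, XTmap_fst, ← Category.assoc, XTmap_fst, hσ₁]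
    · rw [Category.assoc, Category.assoc, m2, XTmap_snd, ← Category.assoc, XTmap_snd,
        Category.assoc, e, ← Category.assoc]
      exact congrArg (· ≫ g1.left) hσ₂.symm
  have hpull : ∀ (g : T ⟶ H') (g1 : T0 ⟶ H), g.left ≫ pullback.fst H.hom h = g1.left →
      FGA.hilbPull f' g Z'.1 = (FGA.hilbPull f g1 Z.1).comap σ := by
    intro g g1 e
    rw [hilbPull_eq_comap, hilbPull_eq_comap, hZ', ← Scheme.IdealSheafData.comap_comp,
      ← Scheme.IdealSheafData.comap_comp]
    exact congrArg Z.1.comap (key g g1 e)
  let g : T ⟶ H' := Over.homMk (pullback.lift g0.left T.hom (by simpa [T0] using Over.w g0))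
    (pullback.lift_snd _ _ _)
  refine ⟨g, ?_, fun g' hg' => ?_⟩
  · show FGA.hilbPull f' g Z'.1 = Y.1
    rw [hpull g g0 (pullback.lift_fst _ _ _), hg0, ← Scheme.IdealSheafData.comap_comp,
      IsIso.hom_inv_id, Scheme.IdealSheafData.comap_id]
  · let g1 : T0 ⟶ H := Over.homMk (g'.left ≫ pullback.fst H.hom h) (by
      have := Over.w g'
      simp only [H', Over.mk_hom] at this
      simp [T0, Category.assoc, pullback.condition, reassoc_of% this])
    have hg1 : g1 = g0 := by
      apply huniq
      show FGA.hilbPull f g1 Z.1 = Y.1.comap (inv σ)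
      rw [← hg', hpull g' g1 rfl, ← Scheme.IdealSheafData.comap_comp, IsIso.inv_hom_id,
        Scheme.IdealSheafData.comap_id]
    apply Over.OverMorphism.ext
    apply pullback.hom_ext
    · rw [show g.left ≫ pullback.fst H.hom h = g0.left from pullback.lift_fst _ _ _, ← hg1]
      rfl
    · exact (Over.w g').trans (Over.w g).symm

end Groth.Agent.S17081
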