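import Groth.Statements.S9349
import Groth.Agent.FlatModB.Basic
import Groth.Agent.QC.Localisation

set_option autoImplicit false
set_option backward.isDefEq.respectTransparency false
universe u
open FlatMod Groth.Agent

namespace Groth.Agent.S9349

open AlgebraicGeometry CategoryTheory in
/-- Let f : X → Y be an affine morphism of S-schemes, with q : Y → S, and F a quasi-coherent O_X-module.
Flatness of F over S (along f ≫ q) is equivalent to flatness of f_*F over S (along q). -/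
theorem result {X Y S : Scheme.{u}} (f : X ⟶ Y) [IsAffineHom f] (q : Y ⟶ S)
    (F : X.Modules) (hF : Coh.IsQCoh F) :
    FlatMod.IsFlatOver (f ≫ q) F ↔ FlatMod.IsFlatOver q ((Coh.push f).obj F) := by
  have hFp : Coh.IsQCoh ((Coh.push f).obj F) := QC.isQCoh_pushforward (hM := hF) f
  constructor
  · intro h
    refine (FlatModB.isFlatOver_iff q _ hFp).2 fun W V hWV hW hV => ?_
    have hle : f ⁻¹ᵁ W ≤ (f ≫ q) ⁻¹ᵁ V := fun x hx => hWV hx
    have h1 := (FlatModB.flat_sections_iff (f ≫ q) F hF (hW.preimage f) hV hle).2 fun x _ => h x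
    have key : FlatModB.secModule q ((Coh.push f).obj F) W V hWV =
        FlatModB.secModule (f ≫ q) F (f ⁻¹ᵁ W) V hle := by
      refine Module.ext (funext₂ fun a m => ?_)
      change (f.app W).hom ((q.appLE V W hWV).hom a) • (show Γ(F, f ⁻¹ᵁ W) from m) =
        ((f ≫ q).appLE V (f ⁻¹ᵁ W) hle).hom a • (show Γ(F, f ⁻¹ᵁ W) from m)
      rw [← Scheme.Hom.appLE_comp_appLE f q V W (f ⁻¹ᵁ W) hWV le_rfl, Scheme.Hom.app_eq_appLE]
      rfl
    exact key ▸ h1
  · intro h x
    obtain ⟨V, hV, hx, -⟩ := exists_isAffineOpen_mem_and_subset (X := S) (x := (f ≫ q) x) (U := ⊤) trivial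
    obtain ⟨W, hW, hxW, hWV⟩ := exists_isAffineOpen_mem_and_subset (X := Y) (x := f x) (U := q ⁻¹ᵁ V) hx
    have hle : f ⁻¹ᵁ W ≤ (f ≫ q) ⁻¹ᵁ V := fun x hx => hWV hx
    refine (FlatModB.flat_sections_iff (f ≫ q) F hF (hW.preimage f) hV hle).1 ?_ x hxW
    have h1 := (FlatModB.flat_sections_iff q _ hFp hW hV hWV).2 fun y _ => h y
    have key : FlatModB.secModule q ((Coh.push f).obj F) W V hWV =
        FlatModB.secModule (f ≫ q) F (f ⁻¹ᵁ W) V hle := by
      refine Module.ext (funext₂ fun a m => ?_)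
      change (f.app W).hom ((q.appLE V W hWV).hom a) • (show Γ(F, f ⁻¹ᵁ W) from m) =
        ((f ≫ q).appLE V (f ⁻¹ᵁ W) hle).hom a • (show Γ(F, f ⁻¹ᵁ W) from m)
      rw [← Scheme.Hom.appLE_comp_appLE f q V W (f ⁻¹ᵁ W) hWV le_rfl, Scheme.Hom.app_eq_appLE]
      rfl
    exact key ▸ h1

end Groth.Agent.S9349
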