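import Groth.Statements.S0460
import Groth.Agent.SiteCoh.Kill

set_option autoImplicit false
universe u
open CategoryTheory
open CohTop

namespace Groth.Agent.S0460

open TopologicalSpace in
/-- Given an abelian sheaf F, an open U and a class ξ in H^(n+1)(U, F), there is an open covering of U
on each member of which ξ restricts to zero. -/
theorem result {X : TopCat.{u}} (F : CohTop.Ab X) (U : Opens X) (n : ℕ)
    (ξ : CohTop.HU F (n + 1) U) :
    ∃ (ι : Type u) (V : ι → Opens X) (hV : ∀ i, V i ≤ U), iSup V = U ∧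
      ∀ i, CohTop.res F (n + 1) (hV i) ξ = 0 := by
  obtain ⟨S, hS, h⟩ := Groth.Agent.SiteCoh.exists_sieve_res_eq_zero n F ξ
  refine ⟨{V : Opens X // ∃ hV : V ≤ U, S.arrows (homOfLE hV)}, fun i => i.1, fun i => i.2.1,
    le_antisymm (iSup_le fun i => i.2.1) (fun x hx => ?_), fun i => h _ i.2.2⟩
  obtain ⟨V, f, hf, hxV⟩ := hS x hx
  exact Opens.mem_iSup.2 ⟨⟨V, f.le, hf⟩, hxV⟩

end Groth.Agent.S0460
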