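import Groth.Statements.S0235
import Mathlib
import Groth.Agent.QA.GenLocus
import Groth.Agent.TMul.AmpleComp

set_option autoImplicit false
universe u
open CategoryTheory CategoryTheory.Limits AlgebraicGeometry
open Curves

set_option backward.isDefEq.respectTransparency false

namespace Groth.Agent.S0235

/-- For a finite morphism π : X → Y and an invertible module L on X, every point y of Y has an open
neighbourhood V such that L is trivial on the preimage of V. -/
theorem result {X Y : Scheme.{u}} (π : X ⟶ Y) [IsFinite π]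
    (L : X.Modules) (hL : PicF.IsInvertible L) (y : Y) :
    ∃ V : Y.Opens, y ∈ V ∧ Nonempty (L.restrict (π ⁻¹ᵁ V).ι ≅ Coh.structureModule (↑(π ⁻¹ᵁ V))) := by
  obtain ⟨V₀, hV₀, hy, -⟩ := exists_isAffineOpen_mem_and_subset (x := y) (U := (⊤ : Y.Opens)) trivial
  let W := π ⁻¹ᵁ V₀
  haveI : IsAffine W.toScheme := hV₀.preimage π
  have hLW : PicF.IsInvertible (L.restrict W.ι) := TMul.isInvertible_restrict W.ι hL
  let Z : Set W.toScheme := W.ι ⁻¹' (π ⁻¹' {y})
  have hZ : Z.Finite := (π.finite_preimage_singleton y).preimage W.ι.isOpenEmbedding.injective.injOn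
  obtain ⟨s, -, hs, -⟩ := TMul.exists_finite_le_of_isQuasiAffine hLW hZ (W := ⊤) fun _ _ => trivial
  let G := CohB1.genLocus (L.restrict W.ι) s
  let K : Set X := ((W.ι ''ᵁ G : X.Opens) : Set X)ᶜ
  have hK : IsClosed (π '' K) := π.isClosedMap _ (W.ι ''ᵁ G).2.isClosed_compl
  let V : Y.Opens := ⟨(π '' K)ᶜ, hK.isOpen_compl⟩
  have hyV : y ∈ V := by
    rintro ⟨x, hx, rfl⟩
    exact hx ⟨⟨x, hy⟩, hs (show π x ∈ ({π x} : Set Y) from rfl), rfl⟩
  have hle : π ⁻¹ᵁ V ≤ W.ι ''ᵁ G := fun x hx => by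
    by_contra h
    exact hx ⟨x, h, rfl⟩
  have hgen := (TMul.isGen_restrict_iff W.ι s G).1 (TMul.isGen_genLocus s)
  exact ⟨V, hyV, InvGen.nonempty_iso (π ⁻¹ᵁ V).ι L ((π ⁻¹ᵁ V).opensRange_ι.le.trans hle) _ hgen⟩

end Groth.Agent.S0235
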