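import Groth.Statements.S3523
import Mathlib
import Groth.Agent.TorKunneth.Filtration
import Groth.Agent.TorBalance.LESFlip

set_option linter.style.haveILetI false

set_option autoImplicit false
universe u
attribute [local instance] HasDerivedCategory.standard
open HTor

namespace Groth.Agent.S3523

open CategoryTheory CategoryTheory.Limits in
/-- (Cochain indexing.) Let A be a ring and L, M complexes of A-modules vanishing in large degrees, with
every term of L flat and every cohomology module H^i(L) flat. Then for every n there is a Künneth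
map ⊕_{i+j=n} H^i(L) ⊗_A H^j(M) → H^n(L ⊗_A M), sending [z] ⊗ [z'] to the class of z ⊗ z', and it is
bijective. -/
theorem result (A : Type u) [CommRing A] (L M : DRing.Cx A)
    (hL : DRing.TermwiseFlat L) (bL : ∃ b : ℤ, DRing.VanishesAbove L b)
    (bM : ∃ b : ℤ, DRing.VanishesAbove M b) (hH : ∀ i : ℤ, Module.Flat A (L.homology i)) (n : ℤ) :
    ∃ Φ : HTor.KunnethSum L M n →ₗ[A] (HTor.tensorCx L M).homology n,
      HTor.IsKunnethMap L M n Φ ∧ Function.Bijective Φ := by
  obtain ⟨bL, hbL⟩ := bL
  obtain ⟨bM, hbM⟩ := bM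
  have hK := DRingKP.isKFlat_of_bounded hbL hL
  have hbM' : ∀ j, bM < j → IsZero (M.homology j) := fun j hj =>
    ShortComplex.isZero_homology_of_isZero_X₂ _ (hbM j hj)
  have hT : ∀ (X : DRing.Cx A) (k : ℤ) (p : ℕ), Subsingleton (HTor.TorSum L X k (p + 1)) := fun X k p => by
    refine subsingleton_of_forall_eq 0 fun t => DFinsupp.ext fun ij => ?_
    haveI : Module.Flat A (ModuleCat.of A (L.homology ij.1.1)) := hH _
    exact @Subsingleton.elim _ (ModuleCat.subsingleton_of_isZero
      (TorBalance.isZero_flat (ModuleCat.of A (L.homology ij.1.1)) (ModuleCat.of A (X.homology ij.1.2)) p)) _ _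
  refine ⟨TorKunneth.kMap L M n, TorKunneth.isKunnethMap_kMap L M n, ?_,
    TorKunneth.kMap_surjective_of_tor hL hK n bL bM hbL hbM' (hT M n)⟩
  refine (injective_iff_map_eq_zero _).2 fun s hs => ?_
  obtain ⟨s', rfl⟩ : ∃ s', TorKunneth.sumMap L (TorKunneth.φ M) n s' = s :=
    (DirectSum.lmap_surjective _).2 (fun ij => LinearMap.lTensor_surjective _ (TorKunneth.homologyMap_φ_surjective M _)) s
  rw [← TorKunneth.map_kMap] at hs
  obtain ⟨w, hw⟩ := ((ShortComplex.moduleCat_exact_iff _).1
    ((TorKunneth.shortExact_tens_stp M L hL).homology_exact₂ n)) (TorKunneth.kMap L (TorKunneth.WC M) n s') hs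
  obtain ⟨t, ht⟩ := TorKunneth.kMap_surjective_of_tor (M := TorKunneth.nxt M) hL hK n bL bM hbL
    (TorKunneth.isZero_homology_tw M bM hbM' 1) (hT _ n) w
  subst ht
  have hs' : s' = TorKunneth.sumMap L (kernel.ι (TorKunneth.φ M)) n t :=
    (TorKunneth.kMap_WC_bijective M L hK n).1 (hw.symm.trans (TorKunneth.map_kMap L _ n t))
  rw [hs']
  refine DFinsupp.ext fun ij => ?_
  show (HomologicalComplex.homologyMap (TorKunneth.φ M) ij.1.2).hom.lTensor (L.homology ij.1.1)
    ((HomologicalComplex.homologyMap (kernel.ι (TorKunneth.φ M)) ij.1.2).hom.lTensor (L.homology ij.1.1) (t ij)) = 0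
  rw [← LinearMap.comp_apply, ← LinearMap.lTensor_comp, ← ModuleCat.hom_comp, ← HomologicalComplex.homologyMap_comp,
    kernel.condition, HomologicalComplex.homologyMap_zero, ModuleCat.hom_zero, LinearMap.lTensor_zero]
  rfl

end Groth.Agent.S3523
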