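import Groth.Statements.S0549
import Groth.Agent.AdicBasics.Dimension
import Groth.Agent.RegLoc.Order
import Mathlib.RingTheory.DiscreteValuationRing.TFAE

set_option autoImplicit false
universe u
open CAlg

namespace Groth.Agent.S0549

open IsLocalRing

/-- A Noetherian local domain is a DVR iff it is regular of dimension one. -/
theorem dvr_iff {R : Type u} [CommRing R] [IsLocalRing R] [IsNoetherianRing R] [IsDomain R] :
    IsDiscreteValuationRing R ↔ IsRegularLocalRing R ∧ ringKrullDim R = 1 := by
  constructor
  · intro h
    exact ⟨inferInstance, IsPrincipalIdealRing.ringKrullDim_eq_one R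
      (IsDiscreteValuationRing.not_isField R)⟩
  · rintro ⟨hreg, hdim⟩
    have hf : ¬ IsField R := fun hf => by
      rw [ringKrullDim_eq_zero_of_isField hf] at hdim
      exact zero_ne_one hdim
    have h1 := hreg.spanFinrank_maximalIdeal
    rw [hdim, spanFinrank_maximalIdeal_eq_finrank_cotangentSpace] at h1
    refine ((IsDiscreteValuationRing.TFAE R hf).out 0 5).2 ?_
    exact_mod_cast h1

/-- A Noetherian local ring is a discrete valuation ring exactly when its completion at the maximal
ideal is a discrete valuation ring. -/
theorem result (A : Type u) [CommRing A] [IsLocalRing A]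
    [IsNoetherianRing A] :
    (∃ _ : IsDomain A, IsDiscreteValuationRing A) ↔
      ∃ _ : IsDomain (AdicCompletion (IsLocalRing.maximalIdeal A) A),
        IsDiscreteValuationRing (AdicCompletion (IsLocalRing.maximalIdeal A) A) := by
  set B := AdicCompletion (IsLocalRing.maximalIdeal A) A
  constructor
  · rintro ⟨_, hA⟩
    obtain ⟨hreg, hdim⟩ := dvr_iff.1 hA
    haveI := (Groth.Agent.AdicBasics.isRegularLocalRing_completion_iff A).1 hreg
    haveI : IsDomain B := Groth.Agent.RegLoc.isDomain B
    exact ⟨inferInstance, dvr_iff.2 ⟨inferInstance, by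
      rw [Groth.Agent.AdicBasics.ringKrullDim_completion, hdim]⟩⟩
  · rintro ⟨_, hB⟩
    obtain ⟨hreg, hdim⟩ := dvr_iff.1 hB
    haveI : IsHausdorff (IsLocalRing.maximalIdeal A) A := IsHausdorff.of_le_jacobson _ _
      (IsLocalRing.maximalIdeal_le_jacobson _)
    haveI : IsDomain A := Function.Injective.isDomain
      (algebraMap A B) (AdicCompletion.of_injective (IsLocalRing.maximalIdeal A) A)
    exact ⟨inferInstance, dvr_iff.2 ⟨(Groth.Agent.AdicBasics.isRegularLocalRing_completion_iff A).2 hreg, by
      rw [← Groth.Agent.AdicBasics.ringKrullDim_completion, hdim]⟩⟩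

end Groth.Agent.S0549
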