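import Groth.Statements.S0792
import Groth.Agent.ClSubLib.AnnIdeal

set_option autoImplicit false
universe u
open Coherent

namespace Groth.Agent.S0792

open CategoryTheory AlgebraicGeometry in
/-- Let f : X → S be locally of finite type and F a quasi-coherent O_X-module of finite type. The
support of F is proper over S if and only if there are a closed subscheme i : Z → X with Z proper
over S and a quasi-coherent O_Z-module G of finite type with i_* G isomorphic to F. (The published
statement also gives a further equivalent condition, that the scheme-theoretic support of F is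
proper over S; it is not used here.) -/
theorem result {X S : Scheme.{u}} (f : X ⟶ S) [LocallyOfFiniteType f]
    (F : X.Modules) (hq : Coh.IsQCoh F) (hft : CohB1.IsFT F) :
    ClSub.IsProperOver f (CohB1.support F) ↔
      ∃ (Z : Scheme.{u}) (i : Z ⟶ X), IsClosedImmersion i ∧ IsProper (i ≫ f) ∧
        ∃ G : Z.Modules, Coh.IsQCoh G ∧ CohB1.IsFT G ∧
          Nonempty ((Scheme.Modules.pushforward i).obj G ≅ F) := by
  constructor
  · intro h
    let J := ClSubLib.annIdeal F hq hft
    have hk : ClSub.KilledByIdeal J.subschemeι.ker F := by
      rw [Scheme.IdealSheafData.ker_subschemeι]; exact ClSubLib.killedBy_annIdeal F hq hft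
    obtain ⟨G, hG, hiso⟩ := ClSubLib.exists_pushforward_iso J.subschemeι F ⟨hq, hft⟩ hk
    exact ⟨_, J.subschemeι, inferInstance,
      ClSubLib.isProper_comp f J.subschemeι h (ClSubLib.range_annIdeal F hq hft).le, G, hG.1, hG.2, hiso⟩
  · rintro ⟨Z, i, hi, hp, G, -, -, ⟨e⟩⟩
    refine ClSubLib.isProperOver_of_subset f i _ (Groth.Agent.QC.isClosed_support hft) ?_
    exact (ClSubLib.support_congr e).ge.trans (ClSubLib.support_pushforward_subset i G)

end Groth.Agent.S0792
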