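import Groth.Statements.S0986
import Mathlib.CategoryTheory.Abelian.Exact
import Mathlib.Data.Fintype.BigOperators
import Mathlib.CategoryTheory.Functor.OfSequence

set_option autoImplicit false
universe v u
open CategoryTheory CategoryTheory.Limits
open DerLim

namespace Groth.Agent.S0986

section

variable {A : Type u} [Category.{v} A] [Abelian A] (F : ℕ ⥤ A)

/-- `F n ⟶ ⨁_{j < N} F j`. -/
noncomputable def inj (n N : ℕ) (h : n < N) : F.obj n ⟶ ∐ fun j : Fin N => F.obj j :=
  Sigma.ι (fun j : Fin N => F.obj j) ⟨n, h⟩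

@[reassoc (attr := simp)]
lemma inj_desc {N : ℕ} {W : A} (g : ∀ j : Fin N, F.obj j ⟶ W) (n : ℕ) (h : n < N) :
    inj F n N h ≫ Sigma.desc g = g ⟨n, h⟩ := Sigma.ι_desc _ _

lemma hom_ext {N : ℕ} {W : A} (g g' : (∐ fun j : Fin N => F.obj j) ⟶ W)
    (h : ∀ n hn, inj F n N hn ≫ g = inj F n N hn ≫ g') : g = g' :=
  Sigma.hom_ext _ _ fun j => h j.1 j.2

/-- Partial sums `⨁_{n < b N} F n`. -/
noncomputable abbrev part (b : ℕ → ℕ) (hb : Monotone b) : ℕ ⥤ A where
  obj N := ∐ fun i : Fin (b N) => F.obj i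
  map {M N} h := Sigma.desc fun i : Fin (b M) => inj F i (b N) (lt_of_lt_of_le i.2 (hb (leOfHom h)))
  map_id M := hom_ext F _ _ fun n hn => by rw [inj_desc, Category.comp_id]
  map_comp {L M N} f g := hom_ext F _ _ fun n hn => by rw [inj_desc, ← Category.assoc, inj_desc, inj_desc]

lemma inj_part_map (b : ℕ → ℕ) (hb : Monotone b) {M N : ℕ} (f : M ⟶ N) (n : ℕ) (hn : n < b M) :
    inj F n (b M) hn ≫ (part F b hb).map f = inj F n (b N) (lt_of_lt_of_le hn (hb (leOfHom f))) :=
  inj_desc F _ _ _

variable [HasCoproduct F.obj]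

noncomputable abbrev partCocone (b : ℕ → ℕ) (hb : Monotone b) : Cocone (part F b hb) where
  pt := ∐ F.obj
  ι :=
    { app := fun N => Sigma.desc fun i : Fin (b N) => Sigma.ι F.obj i
      naturality := fun M N f => hom_ext F _ _ fun n hn => by simp }

noncomputable def isColimitPartCocone (b : ℕ → ℕ) (hb : Monotone b) (hcof : ∀ n, n < b n) :
    IsColimit (partCocone F b hb) :=
  have key : ∀ (s : Cocone (part F b hb)) (n M N : ℕ) (h : M ≤ N) (hM : n < b M),
      inj F n (b N) (lt_of_lt_of_le hM (hb h)) ≫ s.ι.app N = inj F n (b M) hM ≫ s.ι.app M := fun s n M N h hM => by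
    rw [← s.w (homOfLE h)]
    simp
  { desc := fun s => Sigma.desc fun n => inj F n (b n) (hcof n) ≫ s.ι.app n
    fac := fun s N => hom_ext F _ _ fun n hn => by
      simp only [inj_desc_assoc, Sigma.ι_desc]
      exact (key s n n (max n N) (le_max_left _ _) (hcof n)).symm.trans
          (key s n N (max n N) (le_max_right _ _) hn)
    uniq := fun s m hm => Sigma.hom_ext _ _ fun n => by
      simp only [← hm n, Sigma.ι_desc, inj_desc_assoc] }

/-- `1 - shift` on partial sums. -/
noncomputable def d :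
    part F (fun N => N + 1) (fun _ _ h => Nat.succ_le_succ h) ⟶
      part F (fun N => N + 2) (fun _ _ h => Nat.succ_le_succ (Nat.succ_le_succ h)) where
  app N := Sigma.desc fun i : Fin (N + 1) =>
    inj F i (N + 2) (by omega) - F.map (homOfLE (Nat.le_succ i)) ≫ inj F (i + 1) (N + 2) (by omega)
  naturality M N f := hom_ext F _ _ fun n hn => by
    simp [Preadditive.sub_comp]

omit [HasCoproduct F.obj] in
lemma mono_d_app (N : ℕ) : Mono ((d F).app N) := by
  classical
  let e : ∀ j : ℕ, F.obj j ⟶ ∐ fun k : Fin (N + 1) => F.obj k := fun j =>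
    ∑ k : Fin (N + 1), if h : j ≤ (k : ℕ) then F.map (homOfLE h) ≫ inj F k (N + 1) k.2 else 0
  have he : ∀ (i : ℕ) (hi : i < N + 1), e i - F.map (homOfLE (Nat.le_succ i)) ≫ e (i + 1) =
      inj F i (N + 1) hi := fun i hi => by
    simp only [e, Preadditive.comp_sum, ← Finset.sum_sub_distrib]
    rw [Finset.sum_eq_single (⟨i, hi⟩ : Fin (N + 1))]
    · rw [dif_pos le_rfl, dif_neg (show ¬ i + 1 ≤ i by omega)]
      simp
    · intro k _ hk
      have hk' : (k : ℕ) ≠ i := fun h => hk (Fin.ext h)
      by_cases h : i ≤ (k : ℕ)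
      · rw [dif_pos h, dif_pos (show i + 1 ≤ (k : ℕ) by omega), ← Category.assoc, ← F.map_comp]
        exact sub_self _
      · rw [dif_neg h, dif_neg (show ¬ i + 1 ≤ (k : ℕ) by omega)]
        simp
    · simp
  have : (d F).app N ≫ Sigma.desc (fun j : Fin (N + 2) => e j) = 𝟙 _ := hom_ext F _ _ fun n hn => by
    simp [d, Preadditive.sub_comp, he n hn]
  exact (SplitMono.mk (Sigma.desc (fun j : Fin (N + 2) => e j)) this).mono

end

/-- Let A be an abelian category in which colimits of sequences ℕ ⥤ A exist and are exact, and F : ℕ ⥤ A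
a sequence whose direct sum ⨁ Fₙ exists. Then the map 1 - shift on ⨁ Fₙ followed by the canonical
map ⨁ Fₙ → colim F is a short exact sequence 0 → ⨁ Fₙ → ⨁ Fₙ → colim F → 0. -/
theorem result {A : Type u} [Category.{v} A] [Abelian A]
    [HasColimitsOfShape ℕ A] [HasExactColimitsOfShape ℕ A] (F : ℕ ⥤ A) [HasCoproduct F.obj] :
    ∃ w : (𝟙 (∐ F.obj) - DerLim.shiftMap F.obj (fun n => F.map (homOfLE (Nat.le_succ n)))) ≫
        Sigma.desc (fun n => colimit.ι F n) = 0,
      (ShortComplex.mk _ _ w).ShortExact := by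
  let s := DerLim.shiftMap F.obj (fun n => F.map (homOfLE (Nat.le_succ n)))
  have hs : ∀ n, Sigma.ι F.obj n ≫ s = F.map (homOfLE (Nat.le_succ n)) ≫ Sigma.ι F.obj (n + 1) :=
    fun n => by simp [s, DerLim.shiftMap]
  have w : (𝟙 (∐ F.obj) - s) ≫ Sigma.desc (fun n => colimit.ι F n) = 0 := by
    apply Sigma.hom_ext
    intro n
    simp [Preadditive.sub_comp, reassoc_of% (hs n)]
  refine ⟨w, ?_⟩
  have cofork : IsColimit (CokernelCofork.ofπ (Sigma.desc (fun n => colimit.ι F n)) w) :=
    CokernelCofork.IsColimit.ofπ _ _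
      (fun {Z} g hg => colimit.desc F
        { pt := Z
          ι := NatTrans.ofSequence (fun n => Sigma.ι F.obj n ≫ g) (fun n => by
            have := congr(Sigma.ι F.obj n ≫ $hg)
            simp [Preadditive.sub_comp, reassoc_of% (hs n), sub_eq_zero] at this
            simpa using this.symm) })
      (fun {Z} g hg => by apply Sigma.hom_ext; intro n; simp)
      (fun {Z} g hg m hm => by
        apply colimit.hom_ext
        intro n
        simp [← hm])
  have hex := ShortComplex.exact_of_g_is_cokernel (ShortComplex.mk _ _ w) cofork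
  have hepi : Epi (Sigma.desc (fun n => colimit.ι F n)) := Cofork.IsColimit.epi cofork
  have hmono : Mono (𝟙 (∐ F.obj) - s) := by
    let h₁ := isColimitPartCocone F (fun N => N + 1) (fun _ _ h => Nat.succ_le_succ h) (fun n => Nat.lt_succ_self n)
    let h₂ := isColimitPartCocone F (fun N => N + 2) (fun _ _ h => Nat.succ_le_succ (Nat.succ_le_succ h))
      (fun n => by omega)
    have : ∀ N, Mono ((d F).app N) := mono_d_app F
    have : Mono (d F) := NatTrans.mono_of_mono_app _
    have : Mono (colim.map (d F)) := colim.map_mono (d F)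
    have heq : (colimit.isoColimitCocone ⟨_, h₁⟩).hom ≫ (𝟙 (∐ F.obj) - s) = colim.map (d F) ≫
        (colimit.isoColimitCocone ⟨_, h₂⟩).hom := by
      apply colimit.hom_ext
      intro N
      refine hom_ext F _ _ fun n hn => ?_
      simp [d, Preadditive.sub_comp, Preadditive.comp_sub, hs]
    rw [← Iso.eq_inv_comp] at heq
    rw [heq]
    exact mono_comp _ _
  exact { exact := hex, mono_f := hmono, epi_g := hepi }

end Groth.Agent.S0986
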