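import Groth.Statements.S1002
import Groth.Agent.PerfPush.Main
import Groth.Agent.SchDense.Unit
import Groth.Agent.DQCoh.TensorUnit

set_option autoImplicit false
set_option backward.isDefEq.respectTransparency false
set_option backward.isDefEq.respectTransparency.types false
universe u
open CategoryTheory CategoryTheory.Limits AlgebraicGeometry
attribute [local instance] HasDerivedCategory.standard
open Perf

namespace Groth.Agent.S1002

/-- Let f : X ⟶ S be proper, flat and of finite presentation and E a perfect object of D(O_X). Assuming
the derived direct image Rf_* exists on the unbounded derived category, Rf_* E is again perfect, as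
an object of D(O_S). (The published statement also asserts compatibility with arbitrary base change,
which is not asserted here.) -/
theorem result {X S : Scheme.{u}} (f : X ⟶ S) [IsProper f] [Flat f] [LocallyOfFinitePresentation f]
    [DCoh.HasRpush f] (E : DCoh.D X) (hE : DCoh.IsPerfect E) : DCoh.IsPerfect ((DCoh.Rpush f).obj E) := by
  haveI := Groth.Agent.KFlat.hasLTensorMod (Coh.structureModule X)
  obtain ⟨K, hK, -, ⟨ε⟩⟩ := Groth.Agent.KFlat.exists_isKFlat_rep E
  refine Groth.Agent.DQCoh.perfect_of_iso ((DCoh.Rpush f).mapIso ?_)
    (Groth.Agent.PerfPush.pushPerf f hE (Coh.structureModule X) (Groth.Agent.SchDense.isFP_unit X)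
      (Groth.Agent.SchDense.isFlatOver_unit f) ?_)
  · exact (DCoh.LTensorMod _).mapIso ε.symm ≪≫ Groth.Agent.KFlat.lTensorModIso _ hK ≪≫
      DerivedCategory.Q.mapIso (((NatIso.mapHomologicalComplex (Groth.Agent.DQCoh.tensUnitNat X) (ComplexShape.up ℤ)).app K) ≪≫
        (Functor.mapHomologicalComplexIdIso _ _).app K) ≪≫ ε
  · refine ClSubLib.isProperOver_of_subset f (𝟙 X) _ ?_ (by simp)
    exact Groth.Agent.QC.isClosed_support (Groth.Agent.ModDesc.isFT_of_isFP (Groth.Agent.SchDense.isFP_unit X))

end Groth.Agent.S1002
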