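import Groth.Statements.S2122
import Groth.Agent.InvGen.Basic
import Groth.Agent.KFlat.SchemeStalk
import Mathlib

set_option linter.style.haveILetI false

set_option autoImplicit false
universe u
open CategoryTheory AlgebraicGeometry
open Mor CategoryTheory AlgebraicGeometry TopologicalSpace Opposite TensorProduct
open Groth.Agent

namespace Groth.Agent.InvTensor

theorem exists_gen {A L N : Type u} [CommRing A] [IsLocalRing A] [AddCommGroup L] [Module A L]
    [AddCommGroup N] [Module A N] (e : L ⊗[A] N ≃ₗ[A] A) :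
    ∃ (s : L) (t : N), IsUnit (e (s ⊗ₜ t)) := by
  by_contra h
  simp only [not_exists] at h
  have key : ∀ z, e z ∈ IsLocalRing.maximalIdeal A := by
    intro z
    induction z using TensorProduct.induction_on with
    | zero => rw [map_zero]; exact zero_mem _
    | tmul s t => exact (IsLocalRing.mem_maximalIdeal _).2 (h s t)
    | add a b ha hb => rw [map_add]; exact add_mem ha hb
  obtain ⟨z, hz⟩ := e.surjective 1
  exact (IsLocalRing.mem_maximalIdeal (1 : A)).1 (hz ▸ key z) isUnit_one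

theorem bijective_smul_gen {A L N : Type u} [CommRing A] [IsLocalRing A] [AddCommGroup L] [Module A L]
    [AddCommGroup N] [Module A N] (e : L ⊗[A] N ≃ₗ[A] A) (s : L) (t : N) (h : IsUnit (e (s ⊗ₜ t))) :
    Function.Bijective fun a : A => a • s := by
  haveI := Module.Invertible.left e
  obtain ⟨f⟩ := (Module.Invertible.free_iff_linearEquiv (R := A) (M := L)).1 Module.free_of_flat_of_isLocalRing
  have hs : s = f s • f.symm 1 := by rw [← map_smul, smul_eq_mul, mul_one, f.symm_apply_apply]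
  have hu : IsUnit (f s) := by
    have h' : e (s ⊗ₜ t) = f s * e (f.symm 1 ⊗ₜ t) := by
      conv_lhs => rw [hs]
      rw [← TensorProduct.smul_tmul', map_smul, smul_eq_mul]
    rw [h'] at h
    exact isUnit_of_mul_isUnit_left h
  constructor
  · intro a b hab
    have := congrArg f hab
    simp only [map_smul, smul_eq_mul] at this
    exact hu.mul_left_injective this
  · intro l
    refine ⟨f l * ↑hu.unit⁻¹, f.injective ?_⟩
    simp only [map_smul, smul_eq_mul, mul_assoc, IsUnit.val_inv_mul, mul_one]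

variable {X : Scheme.{u}} (L N : X.Modules) (e : CohB1.tensorMod L N ≅ Coh.structureModule X)

/-- the pairing on sections -/
noncomputable def pairing (W : X.Opens) (l : Γ(L, W)) (n : Γ(N, W)) : Γ(X, W) :=
  (DCoh.toP.map e.hom).app (op W)
    ((KFlat.shUnit (CohB1.tensorPre L N)).app (op W) (KFlat.ptmul (DCoh.toP.obj L) (DCoh.toP.obj N) l n))

/-- the pairing on stalks -/
noncomputable def stalkEquiv (x : X) :
    ↥(L.presheaf.stalk x) ⊗[↥(X.presheaf.stalk x)] ↥(N.presheaf.stalk x) ≃ₗ[↥(X.presheaf.stalk x)]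
      ↥(X.presheaf.stalk x) :=
  (KFlat.stTensorIso L N x ≪≫ (DerSch.stalkFunctor X x).mapIso e ≪≫
    ((KFlat.stalkPstIso x).app _).symm).toLinearEquiv ≪≫ₗ
      (LinearEquiv.ofBijective _ (KFlat.oneMap_bijective x)).symm

theorem stalkEquiv_germ {x : X} {W : X.Opens} (hW : x ∈ W) (l : Γ(L, W)) (n : Γ(N, W)) :
    stalkEquiv L N e x ((L.presheaf.germ W x hW).hom l ⊗ₜ (N.presheaf.germ W x hW).hom n) =
      (X.presheaf.germ W x hW).hom (pairing L N e W l n) := by
  rw [stalkEquiv, LinearEquiv.trans_apply]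
  refine (LinearEquiv.symm_apply_eq _).2 ?_
  refine Eq.trans ?_ (KFlat.oneMap_germ hW (pairing L N e W l n)).symm
  have h2 := KFlat.stEquiv_tmul (DCoh.toP.obj L) (DCoh.toP.obj N) (x := x) hW l n
  change ((DerSch.stalkFunctor X x).map e.hom).hom ((KFlat.stalkShIso x).hom.app _
    (KFlat.stEquiv (DCoh.toP.obj L) (DCoh.toP.obj N) x
      (KFlat.pgerm (DCoh.toP.obj L) x W hW l ⊗ₜ KFlat.pgerm (DCoh.toP.obj N) x W hW n))) = _
  rw [h2]
  refine (congrArg _ (KFlat.pstMap_germ _ x hW _)).trans ?_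
  exact DerSch.stalkFunctor_map_germ _ _ _ _ _

theorem isInvertible (L N : X.Modules) (e : CohB1.tensorMod L N ≅ Coh.structureModule X) :
    PicF.IsInvertible L := by
  refine InvGen.isInvertible fun x => ?_
  obtain ⟨s, t, hst⟩ := exists_gen (stalkEquiv L N e x)
  obtain ⟨W₁, hW₁, s, rfl⟩ := L.presheaf.germ_exist s
  obtain ⟨W₂, hW₂, t, rfl⟩ := N.presheaf.germ_exist t
  let W := W₁ ⊓ W₂
  have hW : x ∈ W := ⟨hW₁, hW₂⟩
  let s' := QC.res L (show W ≤ W₁ from inf_le_left) s
  let t' := QC.res N (show W ≤ W₂ from inf_le_right) t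
  let c := pairing L N e W s' t'
  have hx : x ∈ X.basicOpen c := by
    rw [Scheme.mem_basicOpen _ _ x hW, ← stalkEquiv_germ L N e hW s' t']
    refine (congrArg IsUnit (congrArg₂ (fun a b => stalkEquiv L N e x (a ⊗ₜ b)) ?_ ?_)).mpr hst
    · exact L.presheaf.germ_res_apply _ _ _ _
    · exact N.presheaf.germ_res_apply _ _ _ _
  refine ⟨X.basicOpen c, QC.res L (X.basicOpen_le c) s', hx, fun V hV => ?_⟩
  have hgerm : ∀ y (hy : y ∈ V), Function.Bijective fun a : X.presheaf.stalk y =>
      a • (L.presheaf.germ V y hy).hom (QC.res L hV (QC.res L (X.basicOpen_le c) s')) := by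
    intro y hy
    have hyW : y ∈ W := X.basicOpen_le c (hV hy)
    have e1 : (L.presheaf.germ V y hy).hom (QC.res L hV (QC.res L (X.basicOpen_le c) s')) =
        (L.presheaf.germ W y hyW).hom s' :=
      (L.presheaf.germ_res_apply _ _ _ _).trans (L.presheaf.germ_res_apply _ _ _ _)
    rw [e1]
    refine bijective_smul_gen (stalkEquiv L N e y) _ ((N.presheaf.germ W y hyW).hom t') ?_
    rw [stalkEquiv_germ L N e hyW s' t']
    exact (Scheme.mem_basicOpen _ _ y hyW).1 (hV hy)
  generalize QC.res L hV (QC.res L (X.basicOpen_le c) s') = g at hgerm ⊢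
  have hsmul : ∀ (U : X.Opens) (hU : U ≤ V) (y : X) (hy : y ∈ U) (a : Γ(X, U)),
      (L.presheaf.germ U y hy).hom (a • QC.res L hU g) =
        (X.presheaf.germ U y hy).hom a • (L.presheaf.germ V y (hU hy)).hom g := fun U hU y hy a =>
    (KFlat.pgerm_smul (DCoh.toP.obj L) y hy a (QC.res L hU g)).trans
      (congrArg ((X.presheaf.germ U y hy).hom a • ·) (L.presheaf.germ_res_apply _ _ _ _))
  have hinj : ∀ (U : X.Opens) (hU : U ≤ V) (a b : Γ(X, U)), a • QC.res L hU g = b • QC.res L hU g → a = b := by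
    intro U hU a b hab
    refine TopCat.Presheaf.section_ext X.sheaf U a b fun y hy => (hgerm y (hU hy)).injective ?_
    show (X.presheaf.germ U y hy).hom a • _ = (X.presheaf.germ U y hy).hom b • _
    rw [← hsmul U hU y hy a, ← hsmul U hU y hy b, hab]
  have hres : QC.res L le_rfl g = g := QC.res_self L le_rfl g
  refine ⟨fun a b hab => hinj V le_rfl a b (by rw [hres]; exact hab), fun l => ?_⟩
  have hloc : ∀ y : V, ∃ (U : X.Opens) (hU : U ≤ V) (a : Γ(X, U)), y.1 ∈ U ∧ a • QC.res L hU g = QC.res L hU l := by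
    intro y
    obtain ⟨a, ha⟩ := (hgerm y.1 y.2).surjective ((L.presheaf.germ V y.1 y.2).hom l)
    obtain ⟨U, hyU, a, rfl⟩ := X.presheaf.germ_exist a
    have hyU' : y.1 ∈ U ⊓ V := ⟨hyU, y.2⟩
    have h1 : (L.presheaf.germ (U ⊓ V) y.1 hyU').hom
        ((X.presheaf.map (homOfLE (inf_le_left : U ⊓ V ≤ U)).op).hom a • QC.res L (inf_le_right : U ⊓ V ≤ V) g) =
        (L.presheaf.germ (U ⊓ V) y.1 hyU').hom (QC.res L (inf_le_right : U ⊓ V ≤ V) l) := by
      rw [hsmul _ inf_le_right]
      refine Eq.trans ?_ (L.presheaf.germ_res_apply _ _ _ _).symm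
      refine Eq.trans ?_ ha
      exact congrArg (· • (L.presheaf.germ V y.1 y.2).hom g) (X.presheaf.germ_res_apply _ _ _ _)
    obtain ⟨U', hyU'', i₁, i₂, h2⟩ := L.presheaf.germ_eq y.1 hyU' hyU' _ _ h1
    refine ⟨U', i₁.le.trans inf_le_right, (X.presheaf.map (homOfLE (i₁.le.trans inf_le_left : U' ≤ U)).op).hom a, hyU'', ?_⟩
    have h3 : QC.res L i₁.le ((X.presheaf.map (homOfLE (inf_le_left : U ⊓ V ≤ U)).op).hom a •
        QC.res L (inf_le_right : U ⊓ V ≤ V) g) = QC.res L i₁.le (QC.res L (inf_le_right : U ⊓ V ≤ V) l) := h2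
    rw [QC.res_smul, QC.res_res, QC.res_res] at h3
    refine Eq.trans ?_ h3
    congr 1
    exact (ConcreteCategory.congr_hom (X.presheaf.map_comp _ _) a)
  choose U hU a hyU ha using hloc
  have compat : ∀ y z : V, X.presheaf.map (Opens.infLELeft (U y) (U z)).op (a y) =
      X.presheaf.map (Opens.infLERight (U y) (U z)).op (a z) := by
    intro y z
    refine hinj (U y ⊓ U z) (inf_le_left.trans (hU y)) _ _ ?_
    have h1 := congrArg (QC.res L (inf_le_left : U y ⊓ U z ≤ U y)) (ha y)
    have h2 := congrArg (QC.res L (inf_le_right : U y ⊓ U z ≤ U z)) (ha z)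
    rw [QC.res_smul, QC.res_res, QC.res_res] at h1 h2
    exact h1.trans h2.symm
  obtain ⟨b, hb, -⟩ := TopCat.Sheaf.existsUnique_gluing' X.sheaf U V (fun y => homOfLE (hU y))
    (fun y hy => Opens.mem_iSup.2 ⟨⟨y, hy⟩, hyU _⟩) a compat
  refine ⟨b, QC.section_eq_of_locally fun y hy => ⟨U ⟨y, hy⟩, hU _, hyU _, ?_⟩⟩
  rw [← ha ⟨y, hy⟩, QC.res_smul]
  congr 1
  exact hb ⟨y, hy⟩

end Groth.Agent.InvTensor

namespace Groth.Agent.S2122

/-- On a scheme X, if an O_X-module L admits an O_X-module N with L ⊗ N ≅ O_X, then L is invertible: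
locally on X it is isomorphic to O_X (locally free of rank one). -/
theorem result {X : Scheme.{u}} (L N : X.Modules)
    (e : CohB1.tensorMod L N ≅ Coh.structureModule X) : PicF.IsInvertible L := by
  exact Groth.Agent.InvTensor.isInvertible L N e

end Groth.Agent.S2122
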