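import Groth.Statements.S19310
import Mathlib

set_option autoImplicit false
universe u
open TensorProduct
open CAlg

namespace Groth.Agent.S19310

open TensorProduct

theorem exists_point {k A : Type*} [Field k] [IsAlgClosed k] [CommRing A] [Algebra k A] [IsDomain A]
    [Algebra.FiniteType k A] {a : A} (ha : a ≠ 0) : ∃ ψ : A →ₐ[k] k, ψ a ≠ 0 := by
  have hnt : Nontrivial (Localization.Away a) :=
    (IsLocalization.injective (Localization.Away a) (powers_le_nonZeroDivisors_of_noZeroDivisors ha)).nontrivial
  obtain ⟨m, hm⟩ := Ideal.exists_maximal (Localization.Away a)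
  have : Algebra.FiniteType A (Localization.Away a) :=
    Algebra.FiniteType.of_finitePresentation
  have : Algebra.FiniteType k (Localization.Away a) :=
    Algebra.FiniteType.trans (S := A) inferInstance inferInstance
  have : Algebra.FiniteType k (Localization.Away a ⧸ m) :=
    Algebra.FiniteType.of_surjective (f := Ideal.Quotient.mkₐ k m) Ideal.Quotient.mk_surjective
  let := Ideal.Quotient.field m
  have : Module.Finite k (Localization.Away a ⧸ m) := finite_of_finite_type_of_isJacobsonRing k _
  let e : k ≃ₐ[k] Localization.Away a ⧸ m :=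
    AlgEquiv.ofBijective (Algebra.ofId k _)
      (IsAlgClosed.algebraMap_bijective_of_isIntegral (k := k) (K := Localization.Away a ⧸ m))
  refine ⟨(e.symm.toAlgHom.comp (Ideal.Quotient.mkₐ k m)).comp (IsScalarTower.toAlgHom k A _), ?_⟩
  intro h
  have h2 : Ideal.Quotient.mk m (algebraMap A (Localization.Away a) a) = 0 := e.symm.injective (by simpa using h)
  exact hm.ne_top (Ideal.eq_top_of_isUnit_mem _ (Ideal.Quotient.eq_zero_iff_mem.mp h2)
    (IsLocalization.Away.algebraMap_isUnit a))

theorem aux {k : Type*} [Field k] [IsAlgClosed k] {A : Type*} [CommRing A] [Algebra k A]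
    [IsDomain A] [Algebra.FiniteType k A] {R : Type*} [CommRing R] [Algebra k R]
    (f : R ⊗[k] A)
    (hh : ∀ q : Ideal R, q.IsPrime → ∃ h : R ⊗[k] A, h * f = 0 ∧
      h ∉ q.map (Algebra.TensorProduct.includeLeftRingHom : R →+* R ⊗[k] A)) : f = 0 := by
  classical
  let b := Module.Basis.ofVectorSpace k A
  let co := TensorProduct.equivFinsuppOfBasisRight (M := R) b
  have hco : ∀ x : R ⊗[k] A, x = (co x).sum fun i r => r ⊗ₜ b i := fun x => by
    conv_lhs => rw [← co.symm_apply_apply x]
    exact TensorProduct.equivFinsuppOfBasisRight_symm_apply b (co x)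
  suffices ∀ i, co f i = 0 by
    rw [hco f]
    exact Finset.sum_eq_zero fun i _ => by simp [this i]
  intro i
  suffices hloc : ∀ (q : Ideal R) [q.IsMaximal], algebraMap R (Localization.AtPrime q) (co f i) = 0 by
    by_contra hne
    obtain ⟨q, hq, hle⟩ := Ideal.exists_le_maximal (LinearMap.ker (LinearMap.toSpanSingleton R R (co f i)))
      (fun htop => hne (by simpa using Ideal.eq_top_iff_one _ |>.mp htop))
    obtain ⟨t, ht⟩ := (IsLocalization.map_eq_zero_iff q.primeCompl _ _).mp (hloc q)
    exact t.2 (hle (by simpa using ht))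
  intro q hq
  have hqp : q.IsPrime := hq.isPrime
  obtain ⟨h, hhf, hhq⟩ := hh q hqp
  let ev : (A →ₐ[k] k) → (R ⊗[k] A →ₐ[k] Localization.AtPrime q) := fun ψ =>
    Algebra.TensorProduct.lift (IsScalarTower.toAlgHom k R _)
      ((Algebra.ofId k (Localization.AtPrime q)).comp ψ) fun _ _ => Commute.all _ _
  have hev : ∀ ψ x (φ : Localization.AtPrime q →ₗ[k] k),
      φ (ev ψ x) = ψ ((co x).sum fun i r => φ (algebraMap R _ r) • b i) := by
    intro ψ x φ
    conv_lhs => rw [hco x]
    simp only [Finsupp.sum, map_sum]
    refine Finset.sum_congr rfl fun j _ => ?_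
    rw [map_smul]
    simp only [ev, Algebra.TensorProduct.lift_tmul, IsScalarTower.coe_toAlgHom', AlgHom.comp_apply,
      Algebra.ofId_apply, smul_eq_mul]
    rw [mul_comm, ← Algebra.smul_def, map_smul, smul_eq_mul, mul_comm]
  -- a function on `Spec A` off whose zeros `h` is a unit
  obtain ⟨a, ha, hau⟩ : ∃ a : A, a ≠ 0 ∧ ∀ ψ : A →ₐ[k] k, ψ a ≠ 0 → IsUnit (ev ψ h) := by
    obtain ⟨j, hj⟩ : ∃ j, co h j ∉ q := by
      by_contra hcon
      push Not at hcon
      refine hhq ?_
      rw [hco h]
      refine sum_mem fun j _ => ?_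
      show (co h) j ⊗ₜ[k] b j ∈ _
      rw [show (co h) j ⊗ₜ[k] b j = (co h j ⊗ₜ[k] (1 : A)) * ((1 : R) ⊗ₜ b j) by simp]
      exact Ideal.mul_mem_right _ _ (Ideal.mem_map_of_mem _ (hcon j))
    have hres : IsLocalRing.residue (Localization.AtPrime q) (algebraMap R _ (co h j)) ≠ 0 := fun h0 =>
      hj ((IsLocalization.AtPrime.to_map_mem_maximal_iff (Localization.AtPrime q) q _).mp
        ((IsLocalRing.residue_eq_zero_iff _).mp h0))
    obtain ⟨φ0, hφ0⟩ := Module.Projective.exists_dual_ne_zero k hres
    let φ : Localization.AtPrime q →ₗ[k] k :=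
      φ0 ∘ₗ (IsScalarTower.toAlgHom k (Localization.AtPrime q) (IsLocalRing.ResidueField _)).toLinearMap
    refine ⟨(co h).sum fun i r => φ (algebraMap R _ r) • b i, fun h0 => hφ0 ?_, fun ψ hψ => ?_⟩
    · have := congr_arg (fun x => b.repr x j) h0
      simp only [Finsupp.sum, map_sum, map_smul, b.repr_self, map_zero, Finsupp.coe_finsetSum,
        Finset.sum_apply, Finsupp.smul_apply, Finsupp.coe_zero, Pi.zero_apply] at this
      rw [Finset.sum_eq_single j (fun x _ hx => by simp [hx]) (fun hx => by simp [Finsupp.notMem_support_iff.mp hx])] at this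
      simpa [φ] using this
    · rw [← hev] at hψ
      refine IsLocalRing.notMem_maximalIdeal.mp fun hm => hψ ?_
      show φ0 (IsLocalRing.residue _ (ev ψ h)) = 0
      rw [(IsLocalRing.residue_eq_zero_iff _).mpr hm, map_zero]
  rw [← Module.forall_dual_apply_eq_zero_iff k]
  intro φ
  have key : ∀ ψ : A →ₐ[k] k, ψ (a * (co f).sum fun i r => φ (algebraMap R _ r) • b i) = 0 := by
    intro ψ
    rw [map_mul]
    by_cases hψ : ψ a = 0
    · rw [hψ, zero_mul]
    · have h0 : ev ψ f = 0 := by
        have := congr_arg (ev ψ) hhf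
        rw [map_mul, map_zero] at this
        exact (hau ψ hψ).mul_right_eq_zero.mp this
      rw [← hev, h0, map_zero, mul_zero]
  have h0 : ((co f).sum fun i r => φ (algebraMap R (Localization.AtPrime q) r) • b i) = 0 := by
    by_contra hne
    obtain ⟨ψ, hψ⟩ := exists_point (k := k) (mul_ne_zero ha hne)
    exact hψ (key ψ)
  have := congr_arg (fun x => b.repr x i) h0
  simp only [Finsupp.sum, map_sum, map_smul, b.repr_self, map_zero, Finsupp.coe_finsetSum,
    Finset.sum_apply, Finsupp.smul_apply, Finsupp.coe_zero, Pi.zero_apply] at this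
  rw [Finset.sum_eq_single i (fun x _ hx => by simp [hx]) (fun hx => by simp [Finsupp.notMem_support_iff.mp hx])] at this
  simpa using this

/-- Let k be an algebraically closed field, A a finitely generated k-algebra which is an integral domain
(X = Spec A an affine variety), R a commutative k-algebra, possibly non-reduced, and U an open
subset of X_R = Spec (R ⊗_k A) meeting every fibre of X_R → Spec R (a very dense open subset). Then
a regular function on X_R whose restriction to U vanishes is zero: if f ∈ R ⊗_k A maps to 0 in the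
localisation (R ⊗_k A)[1/g] for every g with D(g) ⊆ U, then f = 0. (The published statement is that
automorphisms of a torsor under a smooth affine group scheme over X_R which are the identity over a
very dense open subset are the identity, for X a smooth projective curve; its proof reduces this to
the present assertion about functions, for quasi-projective X; this row is the affine case.) -/
theorem result
    (k : Type u) [Field k] [IsAlgClosed k]
    (A : Type u) [CommRing A] [Algebra k A] [IsDomain A] [Algebra.FiniteType k A]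
    (R : Type u) [CommRing R] [Algebra k R]
    (U : TopologicalSpace.Opens (PrimeSpectrum (TensorProduct k R A)))
    (hsurj : ∀ q : PrimeSpectrum R, ∃ P ∈ U,
      PrimeSpectrum.comap (Algebra.TensorProduct.includeLeftRingHom : R →+* TensorProduct k R A) P = q)
    (f : TensorProduct k R A)
    (hf : ∀ g : TensorProduct k R A, (PrimeSpectrum.basicOpen g : Set (PrimeSpectrum (TensorProduct k R A))) ⊆ U →
      algebraMap (TensorProduct k R A) (Localization.Away g) f = 0) :
    f = 0 := by
  refine aux f ?_
  · intro q hq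
    obtain ⟨P, hPU, hPq⟩ := hsurj ⟨q, hq⟩
    obtain ⟨_, ⟨g, rfl⟩, hgP, hgU⟩ := PrimeSpectrum.isTopologicalBasis_basic_opens.exists_subset_of_mem_open
      hPU U.isOpen
    obtain ⟨⟨_, N, rfl⟩, hN⟩ := (IsLocalization.map_eq_zero_iff (Submonoid.powers g) _ _).mp (hf g hgU)
    refine ⟨g ^ N, hN, fun hmem => hgP ?_⟩
    refine P.2.mem_of_pow_mem N (Ideal.map_le_iff_le_comap.mpr ?_ hmem)
    rw [show q = (PrimeSpectrum.comap (Algebra.TensorProduct.includeLeftRingHom : R →+* TensorProduct k R A) P).asIdeal
      by rw [hPq]]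
    exact le_rfl

end Groth.Agent.S19310
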