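import Groth.Statements.S4439
import Mathlib

set_option autoImplicit false
universe u
open CategoryTheory CategoryTheory.Limits AlgebraicGeometry
open EGA2

namespace Groth.Agent.S4439

/-- Let A be a valuation ring with field of fractions K and f : X ⟶ Spec A a separated morphism whose
underlying map is closed. Then restriction to the generic point is a bijection from sections of f to
K-rational points of the generic fibre: every morphism Spec K ⟶ X over Spec A extends to exactly one
section of f. -/
theorem result (A : Type u) [CommRing A] [IsDomain A]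
    [ValuationRing A] (K : Type u) [Field K] [Algebra A K] [IsFractionRing A K] (X : Scheme.{u})
    (f : X ⟶ Spec (CommRingCat.of A)) [IsSeparated f] (hf : IsClosedMap f.base)
    (x : Spec (CommRingCat.of K) ⟶ X) (hx : x ≫ f = Spec.map (CommRingCat.ofHom (algebraMap A K))) :
    ∃! s : Spec (CommRingCat.of A) ⟶ X, s ≫ f = 𝟙 _ ∧ Spec.map (CommRingCat.ofHom (algebraMap A K)) ≫ s = x := by
  set_option backward.isDefEq.respectTransparency false in
  open IsLocalRing in
  have hex : ∃ s : Spec (CommRingCat.of A) ⟶ X, s ≫ f = 𝟙 _ ∧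
      Spec.map (CommRingCat.ofHom (algebraMap A K)) ≫ s = x := by
    let : Field (CommRingCat.of K) := inferInstanceAs (Field K)
    have : IsDomain (CommRingCat.of A) := inferInstanceAs (IsDomain A)
    have : ValuationRing (CommRingCat.of A) := inferInstanceAs (ValuationRing A)
    have hz : closedPoint A ∈ f.base '' closure ({x (closedPoint K)} : Set X) := by
      refine (hf _ isClosed_closure).stableUnderSpecialization ?_
        ⟨x (closedPoint K), subset_closure rfl, rfl⟩
      exact specializes_closedPoint _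
    obtain ⟨z, hzc, hzf'⟩ := hz
    have hzf : @Eq (Spec (CommRingCat.of A)) (f z) (closedPoint (CommRingCat.of A)) := hzf'
    have h₁ : x (closedPoint K) ⤳ z := specializes_iff_mem_closure.2 hzc
    let e : CommRingCat.of A ≅ (Spec <| .of A).presheaf.stalk (f z) :=
      (stalkClosedPointIso (.of A)).symm ≪≫
        (Spec <| .of A).presheaf.stalkCongr (.of_eq hzf.symm)
    let α := e.hom ≫ f.stalkMap z
    have : IsLocalHom e.hom.hom := isLocalHom_of_isIso e.hom
    have : IsLocalHom α.hom := inferInstanceAs
      (IsLocalHom ((f.stalkMap z).hom.comp e.hom.hom))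
    let β := X.presheaf.stalkSpecializes h₁ ≫ Scheme.stalkClosedPointTo x
    have hαβ : α ≫ β = CommRingCat.ofHom (algebraMap A K) := by
      simp only [CommRingCat.coe_of, Iso.trans_hom, Iso.symm_hom, TopCat.Presheaf.stalkCongr_hom,
        Category.assoc, α, e, β, stalkClosedPointIso_inv, StructureSheaf.toStalk]
      change (Scheme.ΓSpecIso (.of A)).inv ≫ (Spec <| .of A).presheaf.germ _ _ _ ≫ _ = _
      simp only [TopCat.Presheaf.germ_stalkSpecializes_assoc, Scheme.Hom.germ_stalkMap_assoc]
      simp only [TopologicalSpace.Opens.map_top]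
      rw [Scheme.germ_stalkClosedPointTo x ⊤ trivial]
      erw [← Scheme.Hom.comp_app_assoc x f]
      rw [hx]
      simp
    have hbij := bijective_rangeRestrict_comp_of_valuationRing (R := A) (K := K) α.hom β.hom
      (CommRingCat.hom_ext_iff.mp hαβ)
    let φ : X.presheaf.stalk z ⟶ CommRingCat.of A := CommRingCat.ofHom <|
      (RingEquiv.ofBijective _ hbij).symm.toRingHom.comp β.hom.rangeRestrict
    have hαφ : α ≫ φ = 𝟙 _ := by ext a; exact (RingEquiv.ofBijective _ hbij).symm_apply_apply a
    have hαφ' : f.stalkMap z ≫ φ = e.inv := by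
      rw [← cancel_epi e.hom, ← Category.assoc, hαφ, e.hom_inv_id]
    have hφβ : φ ≫ CommRingCat.ofHom (algebraMap A K) = β :=
      hαβ ▸ CommRingCat.hom_ext (RingHom.ext fun a ↦ congr_arg Subtype.val
        ((RingEquiv.ofBijective _ hbij).apply_symm_apply (β.hom.rangeRestrict a)))
    refine ⟨Spec.map φ ≫ X.fromSpecStalk _, ?_, ?_⟩
    · rw [Category.assoc, ← Scheme.SpecMap_stalkMap_fromSpecStalk, ← Spec.map_comp_assoc, hαφ']
      simp only [Iso.trans_inv, TopCat.Presheaf.stalkCongr_inv, Iso.symm_inv, Spec.map_comp,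
        Category.assoc, Scheme.SpecMap_stalkSpecializes_fromSpecStalk, e]
      rw [← Spec_stalkClosedPointIso, ← Spec.map_comp, Iso.inv_hom_id, Spec.map_id]
    · rw [← Spec.map_comp_assoc, hφβ]
      simp only [Spec.map_comp, Category.assoc, Scheme.SpecMap_stalkSpecializes_fromSpecStalk, β]
      exact Scheme.Spec_stalkClosedPointTo_fromSpecStalk x
  obtain ⟨s, hs₁, hs₂⟩ := hex
  refine ⟨s, ⟨hs₁, hs₂⟩, fun t ht => ?_⟩
  let S : ValuativeCommSq f :=
    { R := A, K := K, i₁ := x, i₂ := 𝟙 _, commSq := ⟨by rw [hx, Category.comp_id]⟩ }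
  have := IsSeparated.valuativeCriterion f S
  exact congrArg CommSq.LiftStruct.l (@Subsingleton.elim _ this
    ⟨t, ht.2, ht.1⟩ ⟨s, hs₂, hs₁⟩)

end Groth.Agent.S4439
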