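import Groth.Statements.S4454
import Groth.Agent.CurveNorm.Basic

set_option autoImplicit false
universe u
open CategoryTheory CategoryTheory.Limits AlgebraicGeometry
open EGA2

namespace Groth.Agent.S4454

theorem stalk_facts {T : Scheme.{u}} (R : CommRingCat.{u}) (j : Spec R ⟶ T) (_hj : IsOpenImmersion j)
    (P : PrimeSpectrum R) :
    Nonempty (T.presheaf.stalk (j P) ≃+* Localization.AtPrime P.asIdeal) :=
  ⟨((asIso (j.stalkMap P)).commRingCatIsoToRingEquiv).trans
    (StructureSheaf.stalkIso _ P).toRingEquiv.symm⟩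

/-- Case of an integral curve and a single field: let X be an integral algebraic curve over a field k, K
a finite extension of its field of rational functions and X' the integral closure of X in K (the
normalization of X along the morphism g : Spec K ⟶ X through the generic point). Then the canonical
morphism X' ⟶ X is finite and X' is a normal algebraic curve over k (local rings integrally closed
domains, of dimension one at closed points). -/
theorem result (k : Type u) [Field k] (X : Scheme.{u})
    [X.Over (Spec (CommRingCat.of k))] [LocallyOfFiniteType (X ↘ (Spec (CommRingCat.of k)))]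
    [QuasiCompact (X ↘ (Spec (CommRingCat.of k)))] [IsSeparated (X ↘ (Spec (CommRingCat.of k)))] [IsIntegral X]
    (hX : ∀ x : X, IsClosed ({x} : Set X) → ringKrullDim (X.presheaf.stalk x) = 1)
    (K : Type u) [Field K] (φ : X.functionField →+* K) (hφ : φ.Finite) (g : Spec (CommRingCat.of K) ⟶ X)
    (hg : g = Spec.map (CommRingCat.ofHom φ) ≫ X.fromSpecStalk (genericPoint X)) [QuasiCompact g] [QuasiSeparated g] :
    IsFinite g.fromNormalization ∧ Pi1.IsNormalScheme g.normalization ∧
      ∀ x' : g.normalization, IsClosed ({x'} : Set g.normalization) → ringKrullDim (g.normalization.presheaf.stalk x') = 1 := by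
  have hne : ∀ (U : X.Opens), (∃ x, x ∈ U) → Nonempty U := fun U ⟨x, hx⟩ => ⟨⟨x, hx⟩⟩
  have hfin : IsFinite g.fromNormalization := by
    refine { finite_app := fun U hU => ?_ }
    letI := (g.app U).hom.toAlgebra
    rw [g.fromNormalization_app hU, CommRingCat.hom_comp, CommRingCat.hom_ofHom]
    refine RingHom.Finite.comp (RingHom.Finite.of_surjective _
      (g.normalizationObjIso hU).symm.commRingCatIsoToRingEquiv.surjective) ?_
    rw [RingHom.finite_algebraMap]
    by_cases hU0 : Nonempty U
    · exact (CurveNorm.facts φ g k hφ hg hU).1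
    · obtain rfl : U = ⊥ := TopologicalSpace.Opens.ext (Set.eq_empty_iff_forall_notMem.2 fun x hx => hU0 ⟨⟨x, hx⟩⟩)
      haveI : Subsingleton Γ(X, (⊥ : X.Opens)) :=
        CommRingCat.subsingleton_of_isTerminal (Scheme.sheaf X).isTerminalOfEmpty
      haveI := Module.subsingleton Γ(X, (⊥ : X.Opens)) (integralClosure Γ(X, (⊥ : X.Opens)) Γ(Spec (CommRingCat.of K), g ⁻¹ᵁ (⊥ : X.Opens)))
      infer_instance
  refine ⟨hfin, ?_⟩
  have hpt : ∀ x' : g.normalization, ∃ (U : X.affineOpens) (P : PrimeSpectrum (g.normalizationDiagram.obj (.op U.1))),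
      g.normalizationOpenCover.f U P = x' ∧ g.fromNormalization x' ∈ U.1 := fun x' => by
    obtain ⟨U, hU, hxU, -⟩ := exists_isAffineOpen_mem_and_subset (U := (⊤ : X.Opens)) (x := g.fromNormalization x') trivial
    have hx' : x' ∈ g.fromNormalization ⁻¹ᵁ U := hxU
    rw [g.fromNormalization_preimage ⟨U, hU⟩] at hx'
    obtain ⟨P, hP⟩ := hx'
    exact ⟨⟨U, hU⟩, P, hP, hxU⟩
  refine ⟨fun x' => ?_, fun x' hx' => ?_⟩
  · obtain ⟨⟨U, hU⟩, P, rfl, hxU⟩ := hpt x'
    letI := (g.app U).hom.toAlgebra
    haveI := hne U ⟨_, hxU⟩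
    obtain ⟨-, h1, h2, -⟩ := CurveNorm.facts φ g k hφ hg hU
    haveI : IsDomain (g.normalizationDiagram.obj (.op U)) := h1
    haveI : IsIntegrallyClosed (g.normalizationDiagram.obj (.op U)) := h2
    obtain ⟨e⟩ := stalk_facts (g.normalizationDiagram.obj (.op U)) (g.normalizationOpenCover.f ⟨U, hU⟩) (g.normalizationOpenCover.map_prop ⟨U, hU⟩) P
    haveI : IsDomain (Localization.AtPrime P.asIdeal) := inferInstance
    haveI : IsIntegrallyClosed (Localization.AtPrime P.asIdeal) :=
      isIntegrallyClosed_of_isLocalization _ P.asIdeal.primeCompl P.asIdeal.primeCompl_le_nonZeroDivisors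
    exact ⟨e.toMulEquiv.isDomain _, IsIntegrallyClosed.of_equiv e.symm⟩
  · obtain ⟨⟨U, hU⟩, P, rfl, hxU⟩ := hpt x'
    letI := (g.app U).hom.toAlgebra
    haveI := hne U ⟨_, hxU⟩
    obtain ⟨-, h1, -, h4⟩ := CurveNorm.facts φ g k hφ hg hU
    haveI := h1
    haveI : IsDomain Γ(X, U) := inferInstance
    let x := g.fromNormalization (g.normalizationOpenCover.f ⟨U, hU⟩ P)
    have hxc : IsClosed ({x} : Set X) := by
      have := g.fromNormalization.isClosedMap _ hx'
      rwa [Set.image_singleton] at this
    let P' : Ideal (integralClosure Γ(X, U) Γ(Spec (CommRingCat.of K), g ⁻¹ᵁ U)) := P.asIdeal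
    let p : PrimeSpectrum Γ(X, U) :=
      PrimeSpectrum.comap (algebraMap Γ(X, U) (integralClosure Γ(X, U) Γ(Spec (CommRingCat.of K), g ⁻¹ᵁ U))) P
    have hxp : hU.fromSpec p = x :=
      (congrArg (fun h : _ ⟶ X => h P) (g.ι_fromNormalization ⟨U, hU⟩)).symm
    have hd := hX x hxc
    obtain ⟨e⟩ := stalk_facts Γ(X, U) hU.fromSpec inferInstance p
    rw [← hxp, ringKrullDim_eq_of_ringEquiv e, IsLocalization.AtPrime.ringKrullDim_eq_height p.asIdeal] at hd
    obtain ⟨e'⟩ := stalk_facts (g.normalizationDiagram.obj (.op U)) (g.normalizationOpenCover.f ⟨U, hU⟩) (g.normalizationOpenCover.map_prop ⟨U, hU⟩) P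
    refine (ringKrullDim_eq_of_ringEquiv e').trans ?_
    rw [IsLocalization.AtPrime.ringKrullDim_eq_height P.asIdeal]
    haveI : P'.IsPrime := P.isPrime
    have hh : P'.height = 1 := CurveNorm.height_eq_one h4 P' (by exact_mod_cast hd)
    exact_mod_cast hh

end Groth.Agent.S4454
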