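import Groth.Statements.S0579
import Mathlib.RingTheory.Smooth.Field
import Mathlib.RingTheory.AdicCompletion.RingHom
import Mathlib.FieldTheory.Perfect
import Mathlib.Algebra.Algebra.Rat
import Mathlib.Algebra.Algebra.Hom.Rat

set_option autoImplicit false
universe u
open CAlg

namespace Groth.Agent.S0579

lemma formallySmooth_charZero (K L : Type*) [Field K] [Field L] [Algebra K L] [CharZero K] :
    Algebra.FormallySmooth K L := by
  obtain ⟨s, hs⟩ := exists_isTranscendenceBasis K L
  have : CharZero (IntermediateField.adjoin K (Set.range ((↑) : s → L))) :=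
    charZero_of_injective_algebraMap (algebraMap K _).injective
  have halg : Algebra.IsAlgebraic (IntermediateField.adjoin K (Set.range ((↑) : s → L))) L :=
    hs.isAlgebraic_field
  have : Algebra.IsSeparable (IntermediateField.adjoin K (Set.range ((↑) : s → L))) L := inferInstance
  exact .of_algebraicIndependent_of_isSeparable hs.1

open IsLocalRing in
lemma exists_compatible_lifts (R : Type u) [CommRing R] [IsLocalRing R] [Algebra ℚ R]
    [Algebra ℚ (ResidueField R)] [Algebra.FormallySmooth ℚ (ResidueField R)] (n : ℕ) :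
    ∀ g : ResidueField R →ₐ[ℚ] R ⧸ maximalIdeal R ^ (n + 1), ∃ g' : ResidueField R →ₐ[ℚ] R ⧸ maximalIdeal R ^ (n + 2),
      ∀ x, Ideal.Quotient.factorPow (maximalIdeal R) (Nat.le_succ (n + 1)) (g' x) = g x := by
  intro g
  let π : (R ⧸ maximalIdeal R ^ (n + 2)) →ₐ[ℚ] R ⧸ maximalIdeal R ^ (n + 1) :=
    Ideal.Quotient.factorₐ ℚ (Ideal.pow_le_pow_right (I := maximalIdeal R) (Nat.le_succ (n + 1)))
  have hπ : Function.Surjective π := Ideal.Quotient.factor_surjective (Ideal.pow_le_pow_right (I := maximalIdeal R) (Nat.le_succ (n + 1)))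
  have hnil : IsNilpotent (RingHom.ker (π : (R ⧸ maximalIdeal R ^ (n + 2)) →+* R ⧸ maximalIdeal R ^ (n + 1))) := by
    have hle : RingHom.ker (π : (R ⧸ maximalIdeal R ^ (n + 2)) →+* R ⧸ maximalIdeal R ^ (n + 1)) ≤
        (maximalIdeal R ^ (n + 1)).map (Ideal.Quotient.mk (maximalIdeal R ^ (n + 2))) := fun x hx => by
      obtain ⟨x, rfl⟩ := Ideal.Quotient.mk_surjective x
      exact Ideal.mem_map_of_mem _ (Ideal.Quotient.eq_zero_iff_mem.1 hx)
    refine ⟨2, le_bot_iff.1 ((Ideal.pow_right_mono hle 2).trans (le_of_eq ?_))⟩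
    rw [← Ideal.map_pow, ← pow_mul, Ideal.map_eq_bot_iff_le_ker, Ideal.mk_ker]
    exact Ideal.pow_le_pow_right (by omega)
  exact ⟨Algebra.FormallySmooth.liftOfSurjective g π hπ hnil,
    fun x => Algebra.FormallySmooth.liftOfSurjective_apply g π hπ hnil x⟩

/-- A local ring which is complete with respect to its maximal ideal and whose residue field has
characteristic zero admits a coefficient field: there is a ring homomorphism from the residue field
to the ring which is a section of the residue map. -/
theorem result (R : Type u) [CommRing R] [IsLocalRing R]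
    [IsAdicComplete (IsLocalRing.maximalIdeal R) R] [CharZero (IsLocalRing.ResidueField R)] :
    ∃ s : IsLocalRing.ResidueField R →+* R, (IsLocalRing.residue R).comp s = RingHom.id _ := by
  have hu : ∀ z : nonZeroDivisors ℤ, IsUnit (Int.castRingHom R z) := fun z => by
    rw [← IsLocalRing.residue_ne_zero_iff_isUnit]
    simp
  let : Algebra ℚ R := (IsLocalization.lift (S := ℚ) hu).toAlgebra
  let : Algebra ℚ (IsLocalRing.ResidueField R) := DivisionRing.toRatAlgebra
  have hfs : Algebra.FormallySmooth ℚ (IsLocalRing.ResidueField R) := formallySmooth_charZero ℚ _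
  let m := IsLocalRing.maximalIdeal R
  let g0' : IsLocalRing.ResidueField R →+* R ⧸ m ^ 1 := Ideal.Quotient.factor (pow_one m).ge
  let g0 : IsLocalRing.ResidueField R →ₐ[ℚ] R ⧸ m ^ 1 := g0'.toRatAlgHom
  choose next hnext using exists_compatible_lifts R
  let g : (n : ℕ) → (IsLocalRing.ResidueField R →ₐ[ℚ] R ⧸ m ^ (n + 1)) :=
    fun n => Nat.rec g0 (fun i gi => next i gi) n
  have hg : ∀ {j : ℕ}, (Ideal.Quotient.factorPow m (Nat.succ_le_succ j.le_succ)).comp (g (j + 1)).toRingHom =
      (g j).toRingHom := fun {j} => RingHom.ext fun x => hnext j (g j) x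
  have ha : StrictMono (fun n : ℕ => n + 1) := fun a b h => Nat.succ_lt_succ h
  refine ⟨IsAdicComplete.StrictMono.liftRingHom m ha (fun n => (g n).toRingHom) hg, RingHom.ext fun x => ?_⟩
  have h := IsAdicComplete.StrictMono.mk_liftRingHom m ha (fun n => (g n).toRingHom) hg (n := 0) x
  obtain ⟨r, rfl⟩ := IsLocalRing.residue_surjective x
  have h' : Ideal.Quotient.mk (m ^ 1) (IsAdicComplete.StrictMono.liftRingHom m ha (fun n => (g n).toRingHom) hg
      (IsLocalRing.residue R r)) = Ideal.Quotient.mk (m ^ 1) r := h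
  rw [Ideal.Quotient.eq, pow_one] at h'
  exact Ideal.Quotient.eq.2 h'

end Groth.Agent.S0579
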