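import Groth.Statements.S9684
import Groth.Agent.Catenary.Formula
import Groth.Agent.DimFormula.Equidim
import Groth.Agent.DimFormula.ResTrdeg
import Groth.Agent.CycDim.Chains

set_option autoImplicit false
universe u
open CategoryTheory CategoryTheory.Limits AlgebraicGeometry
open Cyc

namespace Groth.Agent.S9684

/-- Let S be a locally Noetherian scheme whose local rings are universally catenary, δ a dimension
function on S, and f : X ⟶ S locally of finite type. Then the function δ_X(x) = δ(f x) + trdeg_{κ(f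
x)} κ(x) is a dimension function on X. -/
theorem result {X S : Scheme.{u}} (f : X ⟶ S)
    [LocallyOfFiniteType f] (δ : ↥S → ℤ) (hS : Cyc.IsSetup S δ) (δX : ↥X → ℤ)
    (hδ : Cyc.DeltaCompat f δX δ) : Cyc.IsDimFun X δX := by

  haveI := hS.1
  have hδ0 := hS.2.2
  haveI : IsLocallyNoetherian X := LocallyOfFiniteType.isLocallyNoetherian f
  intro x y hxy hne
  obtain ⟨ex, hex, hexle, hexge⟩ := Groth.Agent.DimFormula.exists_trdeg_eq f x
  obtain ⟨dy, hdy, hdyle, hdyge⟩ := Groth.Agent.DimFormula.exists_trdeg_eq f y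
  obtain ⟨a, hale, hage⟩ := Groth.Agent.DimFormula.exists_genLE_hasGen hxy
  obtain ⟨c, hcle, hcge⟩ := Groth.Agent.DimFormula.exists_genLE_hasGen (hxy.map f.continuous)
  obtain ⟨nx, hnx, hδx⟩ := hδ x
  obtain ⟨ny, hny, hδy⟩ := hδ y
  have hnx' : nx = ex := by exact_mod_cast hnx.symm.trans hex
  have hny' : ny = dy := by exact_mod_cast hny.symm.trans hdy
  have hC : δ (f x) = δ (f y) + c := by
    obtain ⟨g, hg, hg0, hgl⟩ := hcge
    have key : ∀ i : Fin (c + 1), δ (g i) + (i : ℕ) ≤ δ (g 0) := by
      intro i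
      induction i using Fin.induction with
      | zero => simp
      | succ i ih =>
        have := (hδ0 _ _ (hg i).1 (hg i).2).1
        simp only [Fin.val_succ, Fin.val_castSucc] at ih ⊢
        omega
    have h1 := key (Fin.last c)
    rw [hgl, Fin.val_last] at h1
    have hg0' : δ (g 0) ≤ δ (f x) := by
      by_cases he : f x = g 0
      · rw [he]
      · exact (hδ0 _ _ hg0 he).1.le
    suffices H : ∀ (n : ℕ) (b : S), f y ≤ b → b ≤ f x → δ b - δ (f y) = n → Groth.Agent.DimFormula.HasGen b (f y) n by
      have h2 := hcle.le_of_hasGen (H (δ (f x) - δ (f y)).toNat (f x) (Scheme.le_iff_specializes.2 (hxy.map f.continuous))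
        le_rfl (by omega))
      omega
    intro n
    induction n with
    | zero =>
      intro b h1 _ _
      exact Groth.Agent.DimFormula.hasGen_zero (Scheme.le_iff_specializes.1 h1)
    | succ n ih =>
      intro b h1 h2 hn
      have hlt : f y < b := Groth.Agent.CycDim.lt_of_spec (Scheme.le_iff_specializes.1 h1) (fun e => by rw [e] at hn; omega)
      obtain ⟨w, hw1, hw2, hw3⟩ := Groth.Agent.CycDim.exists_step hδ0 hlt
      obtain ⟨g', hg', hg0', hgl'⟩ := ih w hw1 (hw2.le.trans h2) (by omega)
      refine ⟨Fin.cons b g', fun i => ?_, specializes_rfl, ?_⟩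
      · refine Fin.cases ?_ (fun j => ?_) i
        · refine ⟨(Scheme.le_iff_specializes.1 hw2.le).trans hg0', fun e => ?_⟩
          have e' : b = g' 0 := by simpa using e
          exact hw2.ne' ((Scheme.le_iff_specializes.1 hw2.le).antisymm (e' ▸ hg0')).eq
        · simpa [← Fin.succ_castSucc] using hg' j
      · rw [← Fin.succ_last, Fin.cons_succ]
        exact hgl'
  have h1 := Groth.Agent.DimFormula.dimension_inequality f hxy hage hcle hdyge hexle
  have h2 := Groth.Agent.Catenary.dimension_formula f hxy (hS.2.1 (f y)) hale hcge hdyle hexge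
  have ha1 : 1 ≤ a := hale.le_of_hasGen ⟨![x, y], fun i => by fin_cases i; exact ⟨hxy, hne⟩, specializes_rfl, rfl⟩
  refine ⟨by rw [hδx, hδy]; omega, fun him => ?_⟩
  have ha : a ≤ 1 := by
    by_contra hcon
    obtain ⟨g, hg, hg0, hgl⟩ := hage.anti (k := 2) (by omega)
    have e2 : g 1 ⤳ y := (hg 1).1.trans (specializes_of_eq hgl)
    rcases him (g 1) (hg0.trans (hg 0).1) e2 with h | h
    · exact (hg 0).2 ((((hg 0).1.trans (specializes_of_eq h)).antisymm hg0).eq.trans h.symm)
    · exact (hg 1).2 (h.trans hgl.symm)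
  rw [hδx, hδy]
  omega

end Groth.Agent.S9684
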