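import Groth.Statements.S16836
import Mathlib.FieldTheory.Perfect
import Mathlib.RingTheory.Polynomial.UniqueFactorization
import Mathlib.FieldTheory.Separable
import Mathlib.Algebra.Polynomial.FieldDivision
-- import your own Groth.Agent.* helpers here

set_option autoImplicit false
universe u v
open scoped Classical
open AbVar

namespace Groth.Agent.S16836
open Polynomial UniqueFactorizationMonoid

open scoped Classical in
theorem map_factors {K L : Type*} [Field K] [Field L] [Algebra K L] {f : K[X]} (hf : f ≠ 0) :
    normalizedFactors (f.map (algebraMap K L))
      = (normalizedFactors f).bind fun P => normalizedFactors (P.map (algebraMap K L)) := by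
  have h1 : Associated (((normalizedFactors f).map (Polynomial.map (algebraMap K L))).prod)
      (f.map (algebraMap K L)) := by
    have := (prod_normalizedFactors hf).map (Polynomial.mapRingHom (algebraMap K L)).toMonoidHom
    simpa [map_multiset_prod] using this
  rw [← (associated_iff_normalizedFactors_eq_normalizedFactors ?_ ?_).1 h1]
  · have hne : ∀ (m : Multiset K[X]), (∀ P ∈ m, P ≠ 0) →
        normalizedFactors ((m.map (Polynomial.map (algebraMap K L))).prod)
          = m.bind fun P => normalizedFactors (P.map (algebraMap K L)) := by
      intro m hm
      induction m using Multiset.induction_on with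
      | empty => simp
      | cons P m ih =>
        rw [Multiset.map_cons, Multiset.prod_cons, Multiset.cons_bind,
          normalizedFactors_mul (Polynomial.map_ne_zero (hm P (Multiset.mem_cons_self _ _))),
          ih fun Q hQ => hm Q (Multiset.mem_cons_of_mem hQ)]
        rw [Ne, Multiset.prod_eq_zero_iff, Multiset.mem_map]
        rintro ⟨Q, hQ, h0⟩
        exact hm Q (Multiset.mem_cons_of_mem hQ) ((Polynomial.map_eq_zero _).1 h0)
    exact hne _ fun P hP => (irreducible_of_normalized_factor P hP).ne_zero
  · rw [Ne, Multiset.prod_eq_zero_iff, Multiset.mem_map]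
    rintro ⟨Q, hQ, h0⟩
    exact (irreducible_of_normalized_factor Q hQ).ne_zero ((Polynomial.map_eq_zero _).1 h0)
  · exact Polynomial.map_ne_zero hf

open scoped Classical in
theorem disjoint_factors {K L : Type*} [Field K] [Field L] [Algebra K L] {P P' : K[X]}
    (hP : Irreducible P) (hPm : P.Monic) (hP' : Irreducible P') (hP'm : P'.Monic) (hne : P ≠ P')
    {Q : L[X]} (hQ : Q ∈ normalizedFactors (P.map (algebraMap K L)))
    (hQ' : Q ∈ normalizedFactors (P'.map (algebraMap K L))) : False := by
  have hc : IsCoprime P P' := (hP.coprime_iff_not_dvd).2 fun hd =>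
    hne (Polynomial.eq_of_monic_of_associated hPm hP'm (hP.associated_of_dvd hP' hd))
  have := (hc.map (Polynomial.mapRingHom (algebraMap K L))).isUnit_of_dvd'
    (dvd_of_mem_normalizedFactors hQ) (dvd_of_mem_normalizedFactors hQ')
  exact (irreducible_of_normalized_factor Q hQ).not_isUnit this

open scoped Classical in
theorem count_map {K L : Type*} [Field K] [PerfectField K] [Field L] [Algebra K L] {P : K[X]}
    (hP : Irreducible P) (hPm : P.Monic) {m : Multiset K[X]}
    (hm : ∀ P' ∈ m, Irreducible P' ∧ P'.Monic) {Q : L[X]}
    (hQ : Q ∈ normalizedFactors (P.map (algebraMap K L))) :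
    (m.bind fun P' => normalizedFactors (P'.map (algebraMap K L))).count Q = m.count P := by
  induction m using Multiset.induction_on with
  | empty => simp
  | cons a m ih =>
    rw [Multiset.cons_bind, Multiset.count_add, ih fun P' hP' => hm P' (Multiset.mem_cons_of_mem hP'),
      Multiset.count_cons, add_comm]
    congr 1
    by_cases h : P = a
    · subst h
      rw [if_pos rfl]
      refine Multiset.count_eq_one_of_mem ?_ hQ
      exact (squarefree_iff_nodup_normalizedFactors (Polynomial.map_ne_zero hP.ne_zero)).1
        ((PerfectField.separable_of_irreducible hP).map).squarefree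
    · rw [if_neg h, Multiset.count_eq_zero]
      intro hQ'
      obtain ⟨ha, ham⟩ := hm a (Multiset.mem_cons_self _ _)
      exact disjoint_factors hP hPm ha ham h hQ hQ'

open scoped Classical in
theorem sum_deg {K L : Type*} [Field K] [PerfectField K] [Field L] [Algebra K L] {P : K[X]}
    (hP : Irreducible P) (hPm : P.Monic) :
    ∑ Q ∈ (normalizedFactors (P.map (algebraMap K L))).toFinset, Q.natDegree = P.natDegree := by
  set s := normalizedFactors (P.map (algebraMap K L))
  have hne : P.map (algebraMap K L) ≠ 0 := Polynomial.map_ne_zero hP.ne_zero
  have hmon : ∀ Q ∈ s, Q.Monic := fun Q hQ => by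
    have := normalize_normalized_factor Q hQ
    rw [← this]
    exact Polynomial.monic_normalize (irreducible_of_normalized_factor _ hQ).ne_zero
  have heq : s.prod = P.map (algebraMap K L) :=
    Polynomial.eq_of_monic_of_associated (by simpa using Polynomial.monic_multiset_prod_of_monic s id hmon)
      (hPm.map _) (prod_normalizedFactors hne)
  rw [← Polynomial.natDegree_map (algebraMap K L), ← heq, Polynomial.natDegree_multiset_prod_of_monic _ hmon]
  have hnd : s.Nodup := (squarefree_iff_nodup_normalizedFactors hne).1
        ((PerfectField.separable_of_irreducible hP).map).squarefree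
  rw [Finset.sum_eq_multiset_sum, Multiset.toFinset_val, Multiset.dedup_eq_self.2 hnd]


open Polynomial UniqueFactorizationMonoid in
/-- Let K ⊆ L be a field extension and f₁, f₂ non-zero polynomials in K[t]. For a field F and
polynomials g₁, g₂ over F put r_F(g₁, g₂) = Σ_P mult_P(g₁) · mult_P(g₂) · deg P, the sum running
over the monic irreducible polynomials P in F[t] (mult_P the multiplicity of P as an irreducible
factor). Assume K is perfect. Then r_K(f₁, f₂) = r_L(f₁, f₂): the number does not depend on the
field over which the factorisations are taken. (Perfectness of K cannot be dropped: for K = F_p(s),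
L = K(s^{1/p}) and f₁ = f₂ = t^p − s the number is p over K and p² over L, since the irreducible t^p
− s becomes a p-th power over L; the published statement has no restriction on K, and its proof
requires the relevant K[t]-modules to remain semisimple after base change, which holds when every
irreducible factor stays squarefree over L, in particular for K perfect.) -/
theorem result (K : Type u) (L : Type v) [Field K] [PerfectField K] [Field L] [Algebra K L]
    (f₁ f₂ : K[X]) (h₁ : f₁ ≠ 0) (h₂ : f₂ ≠ 0) :
    ∑ P ∈ (normalizedFactors (f₁.map (algebraMap K L))).toFinset,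
        (normalizedFactors (f₁.map (algebraMap K L))).count P *
          (normalizedFactors (f₂.map (algebraMap K L))).count P * P.natDegree =
      ∑ P ∈ (normalizedFactors f₁).toFinset,
        (normalizedFactors f₁).count P * (normalizedFactors f₂).count P * P.natDegree := by
  classical
  rw [map_factors h₁, map_factors h₂]
  set S := (normalizedFactors f₁).toFinset
  have hPirr : ∀ {f : K[X]} {P : K[X]}, P ∈ normalizedFactors f → Irreducible P ∧ P.Monic :=
    fun {f P} h => ⟨irreducible_of_normalized_factor _ h,
      (Polynomial.Monic.def.2 (by
        have := normalize_normalized_factor _ h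
        rw [← this]
        exact Polynomial.monic_normalize (irreducible_of_normalized_factor _ h).ne_zero))⟩
  have hset : ((normalizedFactors f₁).bind fun P => normalizedFactors (P.map (algebraMap K L))).toFinset
      = S.biUnion fun P => (normalizedFactors (P.map (algebraMap K L))).toFinset := by
    ext Q; simp [S]
  rw [hset, Finset.sum_biUnion]
  · refine Finset.sum_congr rfl fun P hP => ?_
    obtain ⟨hPi, hPm⟩ := hPirr (Multiset.mem_toFinset.1 hP)
    rw [Finset.sum_congr rfl (fun Q hQ => by
      rw [count_map hPi hPm (fun P' hP' => hPirr hP') (Multiset.mem_toFinset.1 hQ),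
        count_map hPi hPm (fun P' hP' => hPirr hP') (Multiset.mem_toFinset.1 hQ)]), ← Finset.mul_sum]
    congr 1
    exact sum_deg hPi hPm
  · intro P hP P' hP' hne
    rw [Function.onFun, Finset.disjoint_left]
    intro Q hQ hQ'
    rw [Multiset.mem_toFinset] at hQ hQ'
    exact disjoint_factors (hPirr (Multiset.mem_toFinset.1 hP)).1 (hPirr (Multiset.mem_toFinset.1 hP)).2
      (hPirr (Multiset.mem_toFinset.1 hP')).1 (hPirr (Multiset.mem_toFinset.1 hP')).2 hne hQ hQ' 

end Groth.Agent.S16836
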