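import Groth.Statements.S14944
import Groth.Agent.AVDeg.FrobEnd
import Groth.Agent.S14939
import Groth.Agent.S16837
import Groth.Agent.S16836

set_option autoImplicit false
universe u
open CategoryTheory MonoidalCategory CartesianMonoidalCategory MonObj GrpObj AlgebraicGeometry
open scoped TensorProduct
open AbVar

namespace Groth.Agent.S14944

/-- Let A be an abelian variety over a finite field k with q elements (a proper, geometrically integral
commutative group scheme over k), π_A its q-Frobenius endomorphism (the identity on points and the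
q-th power map on sections; a homomorphism), Ω an algebraic closure of k, and l₁, l₂ primes
invertible in k; assume (as is the case) that the l_i-adic Tate modules of Ω-points are free of
finite rank. Then the dimension over ℚ_l of the space of ℚ_l-linear endomorphisms of V_l(A) = ℚ_l
⊗_{ℤ_l} T_l(A) commuting with V_l(π_A) — the endomorphisms commuting with the Galois action — does
not depend on l: it is the same number for l₁ and l₂. -/
theorem result (k Ω : Type u) [Field k] [Finite k] [Field Ω] [Algebra k Ω] [IsAlgClosure k Ω]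
    (A : Over (Spec (CommRingCat.of k)))
    [GrpObj A] [IsCommMonObj A] [IsProper A.hom] [GeometricallyIntegral A.hom]
    (πA : A ⟶ A) [IsMonHom πA] (hπAb : πA.left.base = 𝟙 _)
    (hπAle : ∀ U : A.left.Opens, U ≤ πA.left ⁻¹ᵁ U)
    (hπAapp : ∀ (U : A.left.Opens) (s : Γ(A.left, U)), (πA.left.appLE U U (hπAle U)).hom s = s ^ Nat.card k)
    (l₁ l₂ : ℕ) [Fact l₁.Prime] [Fact l₂.Prime] (h₁ : (l₁ : k) ≠ 0) (h₂ : (l₂ : k) ≠ 0)
    [Module.Free ℤ_[l₁] (AbDual.TateMod A l₁ (SGA7.pt Ω))] [Module.Finite ℤ_[l₁] (AbDual.TateMod A l₁ (SGA7.pt Ω))]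
    [Module.Free ℤ_[l₂] (AbDual.TateMod A l₂ (SGA7.pt Ω))] [Module.Finite ℤ_[l₂] (AbDual.TateMod A l₂ (SGA7.pt Ω))] :
    Module.finrank ℚ_[l₁] (LinearMap.ker (LinearMap.lcomp ℚ_[l₁] _ ((AbDual.tateMapₗ (l := l₁) (T := SGA7.pt Ω) πA).baseChange ℚ_[l₁]) -
          LinearMap.llcomp ℚ_[l₁] _ _ _ ((AbDual.tateMapₗ (l := l₁) (T := SGA7.pt Ω) πA).baseChange ℚ_[l₁]) :
        Module.End ℚ_[l₁] (ℚ_[l₁] ⊗[ℤ_[l₁]] AbDual.TateMod A l₁ (SGA7.pt Ω)) →ₗ[ℚ_[l₁]]
          Module.End ℚ_[l₁] (ℚ_[l₁] ⊗[ℤ_[l₁]] AbDual.TateMod A l₁ (SGA7.pt Ω)))) =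
      Module.finrank ℚ_[l₂] (LinearMap.ker (LinearMap.lcomp ℚ_[l₂] _ ((AbDual.tateMapₗ (l := l₂) (T := SGA7.pt Ω) πA).baseChange ℚ_[l₂]) -
          LinearMap.llcomp ℚ_[l₂] _ _ _ ((AbDual.tateMapₗ (l := l₂) (T := SGA7.pt Ω) πA).baseChange ℚ_[l₂]) :
        Module.End ℚ_[l₂] (ℚ_[l₂] ⊗[ℤ_[l₂]] AbDual.TateMod A l₂ (SGA7.pt Ω)) →ₗ[ℚ_[l₂]]
          Module.End ℚ_[l₂] (ℚ_[l₂] ⊗[ℤ_[l₂]] AbDual.TateMod A l₂ (SGA7.pt Ω)))) := by
  have hsq := (Groth.Agent.AVDeg.frob_semisimple πA hπAb hπAle hπAapp).2.2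
  have s₁ := Groth.Agent.AVDeg.isSemisimple_tate (l := l₁) Ω (φ := EndAV.End.of πA) hsq
  have s₂ := Groth.Agent.AVDeg.isSemisimple_tate (l := l₂) Ω (φ := EndAV.End.of πA) hsq
  obtain ⟨P, hP₁, hP₂⟩ := Groth.Agent.S14939.result k Ω A πA l₁ l₂ h₁ h₂
  have e₁ : ((AbDual.tateMapₗ (l := l₁) (T := SGA7.pt (K := k) Ω) πA).baseChange ℚ_[l₁]).charpoly =
      (P.map (Int.castRingHom ℚ)).map (algebraMap ℚ ℚ_[l₁]) := by
    rw [LinearMap.charpoly_baseChange, hP₁, Polynomial.map_map, Polynomial.map_map]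
    exact congrArg (fun f => P.map f) (RingHom.ext_int _ _)
  have e₂ : ((AbDual.tateMapₗ (l := l₂) (T := SGA7.pt (K := k) Ω) πA).baseChange ℚ_[l₂]).charpoly =
      (P.map (Int.castRingHom ℚ)).map (algebraMap ℚ ℚ_[l₂]) := by
    rw [LinearMap.charpoly_baseChange, hP₂, Polynomial.map_map, Polynomial.map_map]
    exact congrArg (fun f => P.map f) (RingHom.ext_int _ _)
  have hP0 : P.map (Int.castRingHom ℚ) ≠ 0 := by
    intro h
    have := (LinearMap.charpoly_monic (AbDual.tateMapₗ (l := l₁) (T := SGA7.pt (K := k) Ω) πA)).ne_zero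
    rw [hP₁, (Polynomial.map_eq_zero_iff (Int.castRingHom ℚ).injective_int).1 h, Polynomial.map_zero] at this
    exact this rfl
  refine (Groth.Agent.S16837.result _ _ _ _ _ s₁ s₁).trans (Eq.trans ?_ (Groth.Agent.S16837.result _ _ _ _ _ s₂ s₂).symm)
  simp only [EndAV.End.toHom_of] at *
  rw [e₁, e₂]
  exact (Groth.Agent.S16836.result ℚ ℚ_[l₁] _ _ hP0 hP0).trans (Groth.Agent.S16836.result ℚ ℚ_[l₂] _ _ hP0 hP0).symm

end Groth.Agent.S14944
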