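import Groth.Statements.S4508
import Groth.Agent.W7Cech.BCLin
import Groth.Agent.FlatModBC.Basic

set_option autoImplicit false
universe u
open Coherent

open CategoryTheory CategoryTheory.Limits AlgebraicGeometry
set_option backward.isDefEq.respectTransparency false
namespace Groth.Agent.S4508

open Groth.Agent in
/-- The cohomology of a fibre only depends on the point up to extension of the field. -/
theorem betti_baseChange {X Y Y' : Scheme.{u}} (f : X ⟶ Y) (g : Y' ⟶ Y) [IsProper f] (F : X.Modules)
    (hF : Coh.IsQCoh F) (y' : Y') (i : ℕ) :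
    PerfAux.betti (pullback.snd f g) ((Scheme.Modules.pullback (pullback.fst f g)).obj F) y' i =
      PerfAux.betti f F (g.base y') i := by
  let k := Y.residueField (g y')
  let k' := Y'.residueField y'
  letI : Algebra k k' := (g.residueFieldMap y').hom.toAlgebra
  letI : (f.fiber (g y')).Over (Spec (CommRingCat.of ↥k)) := ⟨f.fiberToSpecResidueField (g y')⟩
  letI : ((pullback.snd f g).fiber y').Over (Spec (CommRingCat.of ↥k')) :=
    ⟨(pullback.snd f g).fiberToSpecResidueField y'⟩
  haveI : IsProper (f.fiberToSpecResidueField (g y')) := inferInstanceAs (IsProper (pullback.snd f _))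
  haveI : CompactSpace ↥(f.fiber (g y')) :=
    QuasiCompact.compactSpace_of_compactSpace (f.fiberToSpecResidueField (g y'))
  haveI : (f.fiber (g y')).IsSeparated := by
    constructor
    rw [← terminal.comp_from (f.fiberToSpecResidueField (g y'))]
    infer_instance
  obtain ⟨ι, hι, W, hW, hcov⟩ := W7Cech.exists_cover (f.fiber (g y'))
  haveI := hι
  have sq := isPullback_fiberToSpecResidueField_of_isPullback (IsPullback.of_hasPullback f g) y'
  let γ : (pullback.snd f g).fiber y' ⟶ f.fiber (g y') :=
    pullback.map _ _ _ _ (pullback.fst f g) (Spec.map (g.residueFieldMap y')) g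
      (pullback.condition (f := f) (g := g)).symm (by simp)
  have hγ : γ ≫ f.fiberι (g y') = (pullback.snd f g).fiberι y' ≫ pullback.fst f g := pullback.lift_fst _ _ _
  obtain ⟨e⟩ := W7Cech.nonempty_hh_flat_bc k k' W hW hcov γ sq (CohIII.fiberMod f F (g y'))
    (QC.isQCoh_pullback _ hF) i
  let j : (Scheme.Modules.pullback γ).obj (CohIII.fiberMod f F (g y')) ≅
      (Scheme.Modules.pullback ((pullback.snd f g).fiberι y')).obj
        ((Scheme.Modules.pullback (pullback.fst f g)).obj F) :=
    (Scheme.Modules.pullbackComp γ (f.fiberι (g y'))).app F ≪≫ (Scheme.Modules.pullbackCongr hγ).app F ≪≫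
      ((Scheme.Modules.pullbackComp ((pullback.snd f g).fiberι y') (pullback.fst f g)).app F).symm
  refine (((CohFinite.hhEquiv k' j i).symm.trans e).finrank_eq).trans ?_
  rw [Module.finrank_baseChange]
  rfl


open AlgebraicGeometry CategoryTheory CategoryTheory.Limits in
/-- For a single sheaf placed in degree 0 (the published statement is for a finite complex of such
sheaves). Let Y and Y' be locally Noetherian schemes, f : X ⟶ Y proper, g : Y' ⟶ Y any morphism, F a
coherent O_X-module flat over Y; let X' = X ×_Y Y' with projections f' : X' ⟶ Y' and X' ⟶ X, and F'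
the pullback of F to X'. Then F' is flat over Y', and for every point y' of Y' the Euler–Poincaré
characteristic of the fibre, Σ_i (−1)^i dim_{k(y')} H^i(X'_{y'}, F'_{y'}), equals Σ_i (−1)^i
dim_{k(g(y'))} H^i(X_{g(y')}, F_{g(y')}). -/
theorem result {X Y Y' : Scheme.{u}} (f : X ⟶ Y) (g : Y' ⟶ Y) [IsProper f]
    [IsLocallyNoetherian Y] [IsLocallyNoetherian Y'] (F : X.Modules) (hF : Coh.IsCoh F)
    (hfl : FlatMod.IsFlatOver f F) :
    FlatMod.IsFlatOver (pullback.snd f g) ((Scheme.Modules.pullback (pullback.fst f g)).obj F) ∧
      ∀ y' : Y', PerfAux.eulerChar (pullback.snd f g) ((Scheme.Modules.pullback (pullback.fst f g)).obj F) y' =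
        PerfAux.eulerChar f F (g.base y') := by
  refine ⟨fun x => Groth.Agent.FlatModBC.isFlatOverAt_baseChange (IsPullback.of_hasPullback f g) F x (hfl _),
    fun y' => finsum_congr fun i => ?_⟩
  rw [Groth.Agent.S4508.betti_baseChange f g F hF.1 y' i]

end Groth.Agent.S4508
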