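import Groth.Statements.S15949
import Groth.Agent.AVLine.Const
import Groth.Agent.GrpField.QAAffine

set_option autoImplicit false
set_option backward.isDefEq.respectTransparency false
universe u
open AlgGrp

namespace Groth.Agent.S15949

open CategoryTheory AlgebraicGeometry in
/-- Auxiliary step: let κ be an arbitrary field, G a group scheme over κ which is smooth over κ, and φ :
P¹_κ → G a morphism over κ. Then φ is constant: there is a κ-rational point g of G such that φ is
the structure morphism P¹_κ → Spec κ followed by g. (The published proof states this step for any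
smooth group scheme over a field in the course of proving the main proposition.) -/
theorem result (κ : Type u) [Field κ]
    (G : Over (Spec (CommRingCat.of κ))) [GrpObj G] [Smooth G.hom]
    (φ : CohB1.ProjSpaceOver 1 (Spec (CommRingCat.of κ)) ⟶ G.left)
    (hφ : φ ≫ G.hom = CohB1.ProjSpaceOver.toBase 1 (Spec (CommRingCat.of κ))) :
    ∃ g : Spec (CommRingCat.of κ) ⟶ G.left, g ≫ G.hom = 𝟙 _ ∧
      φ = CohB1.ProjSpaceOver.toBase 1 (Spec (CommRingCat.of κ)) ≫ g := by
  letI := Groth.Agent.AVLine.intAlg κ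
  haveI : IsSeparated G.hom := Groth.Agent.GrpField.isSeparated_hom G
  let j : Groth.Agent.AVLine.Ln κ ⟶ Over.mk (CohB1.ProjSpaceOver.toBase 1 (Spec (CommRingCat.of κ))) :=
    Over.homMk (Groth.Agent.AVLine.line κ 0) (Groth.Agent.AVLine.line_toBase κ 0)
  let F : Over.mk (CohB1.ProjSpaceOver.toBase 1 (Spec (CommRingCat.of κ))) ⟶ G := Over.homMk φ hφ
  have h := Groth.Agent.AVLine.eq_const_of_P1 κ G F (j ≫ F) rfl
  refine ⟨(Groth.Agent.AVLine.pt κ 0 ≫ j ≫ F).left, Over.w (Groth.Agent.AVLine.pt κ 0 ≫ j ≫ F), ?_⟩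
  haveI := Groth.Agent.REqP1.isIntegral_over κ
  haveI : Smooth (CohB1.ProjSpaceOver.toBase 1 (Spec (CommRingCat.of κ))) := Groth.Agent.AVLine.smooth_toBase κ
  haveI : IsDominant (Groth.Agent.AVLine.line κ 0) := ⟨(Groth.Agent.AVLine.line κ 0).isOpenEmbedding.isOpen_range.dense
    ⟨_, (Groth.Agent.AVLine.pt κ 0).left (IsLocalRing.closedPoint κ), rfl⟩⟩
  refine ext_of_isDominant_of_isSeparated G.hom ?_ (Groth.Agent.AVLine.line κ 0) ?_
  · rw [hφ, Category.assoc, Over.w (Groth.Agent.AVLine.pt κ 0 ≫ j ≫ F)]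
    exact (Category.comp_id _).symm
  · rw [reassoc_of% Groth.Agent.AVLine.line_toBase κ 0]
    exact congrArg CommaMorphism.left h

end Groth.Agent.S15949
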