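import Groth.Statements.S3556


set_option autoImplicit false
set_option backward.isDefEq.respectTransparency false
universe u
open CategoryTheory CategoryTheory.Limits AlgebraicGeometry
open EGA2

namespace Groth.Agent.S3556

/-- Let S be a graded ring which is essentially reduced, i.e. its irrelevant ideal S_+ contains no
nonzero nilpotent element. Then Proj S is a reduced scheme. -/
theorem result {R A : Type u} [CommRing R] [CommRing A] [Algebra R A] (𝒜 : ℕ → Submodule R A) [GradedAlgebra 𝒜]
    (hred : ∀ f ∈ (HomogeneousIdeal.irrelevant 𝒜).toIdeal, IsNilpotent f → f = 0) :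
    AlgebraicGeometry.IsReduced (Proj 𝒜) := by
  have : ∀ s, IsReduced ((Proj.affineOpenCover 𝒜).openCover.X s) := by
    intro s
    haveI : _root_.IsReduced (HomogeneousLocalization.Away 𝒜 (s.2 : A)) := by
      refine ⟨fun z hz => ?_⟩
      obtain ⟨n, a, ha, rfl⟩ := HomogeneousLocalization.Away.mk_surjective 𝒜 s.2.2 z
      obtain ⟨m, hm⟩ := hz
      have h1 := congrArg HomogeneousLocalization.val hm
      rw [HomogeneousLocalization.val_pow, HomogeneousLocalization.Away.val_mk,
        Localization.mk_pow, HomogeneousLocalization.val_zero, Localization.mk_eq_mk',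
        IsLocalization.mk'_eq_zero_iff] at h1
      obtain ⟨⟨_, k, rfl⟩, hk⟩ := h1
      have hzero : (s.2 : A) * a = 0 := by
        refine hred _ (Ideal.mul_mem_right _ _ (HomogeneousIdeal.mem_irrelevant_of_mem 𝒜 s.1.2 s.2.2))
          ⟨m + k, ?_⟩
        calc ((s.2 : A) * a) ^ (m + k) = ((s.2 : A) ^ k * a ^ m) * ((s.2 : A) ^ m * a ^ k) := by ring
          _ = 0 := by rw [hk, zero_mul]
      refine HomogeneousLocalization.val_injective _ ?_
      rw [HomogeneousLocalization.Away.val_mk, HomogeneousLocalization.val_zero,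
        Localization.mk_eq_mk', IsLocalization.mk'_eq_zero_iff]
      exact ⟨⟨(s.2 : A), 1, pow_one _⟩, hzero⟩
    exact inferInstanceAs (IsReduced (Spec (CommRingCat.of (HomogeneousLocalization.Away 𝒜 (s.2 : A)))))
  exact AlgebraicGeometry.IsReduced.of_openCover _ (Proj.affineOpenCover 𝒜).openCover

end Groth.Agent.S3556
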