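import Groth.Statements.S3559
import Mathlib

set_option autoImplicit false
universe u
open CategoryTheory CategoryTheory.Limits AlgebraicGeometry
open EGA2

namespace Groth.Agent.S3559

/-- Let S be a graded ring and (f_i) a family of homogeneous elements of positive degree. The opens
D_+(f_i) cover Proj S if and only if every element of S_+ has a power in the ideal generated by the
f_i. -/
theorem result {R A : Type u} [CommRing R] [CommRing A] [Algebra R A] (𝒜 : ℕ → Submodule R A) [GradedAlgebra 𝒜]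
    {ι : Type u} (f : ι → A) (hf : ∀ i, ∃ d : ℕ, 0 < d ∧ f i ∈ 𝒜 d) :
    (⨆ i, Proj.basicOpen 𝒜 (f i)) = ⊤ ↔
      (HomogeneousIdeal.irrelevant 𝒜).toIdeal ≤ (Ideal.span (Set.range f)).radical := by
  classical
  constructor
  · intro hcov
    have hhom : (Ideal.span (Set.range f)).IsHomogeneous 𝒜 :=
      Ideal.homogeneous_span 𝒜 _ (by
        rintro _ ⟨i, rfl⟩
        obtain ⟨d, -, hd⟩ := hf i
        exact ⟨d, hd⟩)
    rw [hhom.radical_eq, le_sInf_iff]
    rintro J ⟨hJ, hle, hp⟩
    by_contra hirr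
    let x : Proj 𝒜 := ⟨⟨J, hJ⟩, hp, hirr⟩
    obtain ⟨i, hi⟩ := TopologicalSpace.Opens.mem_iSup.1 (hcov.ge (show x ∈ (⊤ : (Proj 𝒜).Opens) from trivial))
    exact (Proj.mem_basicOpen 𝒜 _ x).1 hi (hle (Ideal.subset_span ⟨i, rfl⟩))
  · intro h
    refine top_le_iff.mp fun x _ => TopologicalSpace.Opens.mem_iSup.mpr ?_
    by_contra H
    push Not at H
    simp only [Proj.mem_basicOpen, not_not] at H
    refine x.not_irrelevant_le (h.trans (x.isPrime.radical_le_iff.2 ?_))
    rw [Ideal.span_le, Set.range_subset_iff]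
    exact H

end Groth.Agent.S3559
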