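import Groth.Statements.S3558
import Groth.Agent.S3559

set_option autoImplicit false
set_option backward.isDefEq.respectTransparency false
universe u
open CategoryTheory CategoryTheory.Limits AlgebraicGeometry
open EGA2

namespace Groth.Agent.S3558

/-- For a graded ring S, Proj S is empty if and only if every element of the irrelevant ideal S_+ is
nilpotent. -/
theorem result {R A : Type u} [CommRing R] [CommRing A] [Algebra R A] (𝒜 : ℕ → Submodule R A) [GradedAlgebra 𝒜] :
    IsEmpty (Proj 𝒜) ↔ ∀ f ∈ (HomogeneousIdeal.irrelevant 𝒜).toIdeal, IsNilpotent f := by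
  have h := Groth.Agent.S3559.result 𝒜 (fun i : PEmpty.{u + 1} => (i.elim : A)) fun i => i.elim
  rw [iSup_of_empty, Set.range_eq_empty, Ideal.span_empty] at h
  constructor
  · intro he f hf
    have h1 : (⊥ : (Proj 𝒜).Opens) = ⊤ :=
      TopologicalSpace.Opens.ext (Subsingleton.elim _ _)
    exact h.mp h1 hf
  · intro hn
    have h1 := h.mpr fun f hf => hn f hf
    exact ⟨fun x => absurd (show x ∈ (⊥ : (Proj 𝒜).Opens) from h1 ▸ trivial) id⟩

end Groth.Agent.S3558
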