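import Groth.Statements.S3557
import Groth.Agent.S3556
import Groth.Agent.S3558
import Groth.Agent.ProjLib.Nonempty

set_option autoImplicit false
set_option backward.isDefEq.respectTransparency false
universe u
open CategoryTheory CategoryTheory.Limits AlgebraicGeometry
open EGA2

namespace Groth.Agent.S3557

/-- Let S be a graded ring which is essentially reduced (S_+ contains no nonzero nilpotent). Then Proj S
is an integral scheme if and only if S is essentially integral, i.e. S_+ is nonzero and the product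
of two nonzero elements of S_+ is nonzero. -/
theorem result {R A : Type u} [CommRing R] [CommRing A] [Algebra R A] (𝒜 : ℕ → Submodule R A) [GradedAlgebra 𝒜]
    (hred : ∀ f ∈ (HomogeneousIdeal.irrelevant 𝒜).toIdeal, IsNilpotent f → f = 0) :
    AlgebraicGeometry.IsIntegral (Proj 𝒜) ↔
      ((∃ f ∈ (HomogeneousIdeal.irrelevant 𝒜).toIdeal, f ≠ 0) ∧
        ∀ f ∈ (HomogeneousIdeal.irrelevant 𝒜).toIdeal, ∀ g ∈ (HomogeneousIdeal.irrelevant 𝒜).toIdeal,
          f * g = 0 → f = 0 ∨ g = 0) := by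
  classical
  constructor
  · intro hint
    haveI := hint
    have hne : Nonempty (Proj 𝒜) := inferInstance
    refine ⟨?_, fun f hf g hg hfg => ?_⟩
    · by_contra! h
      exact (not_isEmpty_iff.mpr hne) ((Groth.Agent.S3558.result 𝒜).mpr fun f hf => by
        rw [h f hf]; exact IsNilpotent.zero)
    · by_contra! hne'
      obtain ⟨i, j, hi, hj, hij⟩ := ProjLib.mul_top_components 𝒜 hne'.1 hne'.2 hfg
      have key : ∀ (k : ℕ) (a : A), a ∈ (HomogeneousIdeal.irrelevant 𝒜).toIdeal →
          (DirectSum.decompose 𝒜 a k : A) ≠ 0 →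
          0 < k ∧ ¬ IsNilpotent (DirectSum.decompose 𝒜 a k : A) := by
        intro k a ha hk
        refine ⟨Nat.pos_of_ne_zero fun h0 => hk ?_, fun hn => hk (hred _
          ((HomogeneousIdeal.irrelevant 𝒜).is_homogeneous' k ha) hn)⟩
        subst h0
        have := (HomogeneousIdeal.mem_irrelevant_iff 𝒜 a).mp ha
        rwa [GradedRing.proj_apply] at this
      obtain ⟨hi0, hi1⟩ := key i f hf hi
      obtain ⟨hj0, hj1⟩ := key j g hg hj
      obtain ⟨y, hy⟩ := ProjLib.exists_mem_basicOpen 𝒜 (DirectSum.decompose 𝒜 f i).2 hi0 hi1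
      obtain ⟨z, hz⟩ := ProjLib.exists_mem_basicOpen 𝒜 (DirectSum.decompose 𝒜 g j).2 hj0 hj1
      obtain ⟨w, -, hw1, hw2⟩ := (PreirreducibleSpace.isPreirreducible_univ (X := Proj 𝒜)) _ _
        (Proj.basicOpen 𝒜 _).2 (Proj.basicOpen 𝒜 _).2 ⟨y, trivial, hy⟩ ⟨z, trivial, hz⟩
      have hw : w ∈ Proj.basicOpen 𝒜 ((DirectSum.decompose 𝒜 f i : A) * (DirectSum.decompose 𝒜 g j : A)) := by
        rw [Proj.basicOpen_mul]; exact ⟨hw1, hw2⟩
      rw [hij, Proj.basicOpen_zero] at hw
      exact hw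
  · rintro ⟨⟨f, hf, hf0⟩, hmul⟩
    haveI : Nonempty (Proj 𝒜) := not_isEmpty_iff.mp fun he =>
      hf0 (hred f hf ((Groth.Agent.S3558.result 𝒜).mp he f hf))
    haveI := Groth.Agent.S3556.result 𝒜 hred
    haveI : IrreducibleSpace (Proj 𝒜) := by
      haveI : PreirreducibleSpace (Proj 𝒜) := ⟨fun o o' ho ho' => fun ⟨y, _, hy⟩ ⟨z, _, hz⟩ => by
        obtain ⟨h, d, hh, hd, hyh, hho⟩ := ProjLib.exists_homogeneous_basicOpen 𝒜 y ho hy
        obtain ⟨h', d', hh', hd', hzh, hho'⟩ := ProjLib.exists_homogeneous_basicOpen 𝒜 z ho' hz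
        have hnn : ¬ IsNilpotent (h * h') := fun hn => by
          have hI : h ∈ (HomogeneousIdeal.irrelevant 𝒜).toIdeal :=
            HomogeneousIdeal.mem_irrelevant_of_mem 𝒜 hd hh
          rcases hmul h hI h' (HomogeneousIdeal.mem_irrelevant_of_mem 𝒜 hd' hh')
            (hred _ (Ideal.mul_mem_right _ _ hI) hn) with e | e
          · rw [e, Proj.basicOpen_zero] at hyh; exact hyh
          · rw [e, Proj.basicOpen_zero] at hzh; exact hzh
        obtain ⟨w, hw⟩ := ProjLib.exists_mem_basicOpen 𝒜 (SetLike.mul_mem_graded hh hh') (Nat.add_pos_left hd d') hnn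
        rw [Proj.basicOpen_mul] at hw
        exact ⟨w, trivial, hho hw.1, hho' hw.2⟩⟩
      exact ⟨inferInstance⟩
    exact isIntegral_of_irreducibleSpace_of_isReduced _

end Groth.Agent.S3557
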