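import Groth.Statements.S3403
import Mathlib
import Groth.Agent.ConsTop.Maps

set_option autoImplicit false
open CategoryTheory AlgebraicGeometry Topology
universe u
open EGA41

namespace Groth.Agent.S3403

/-- Let X be a scheme, E an ind-constructible subset of X and x a point of X. Then x is an interior
point of E if and only if every generization of x belongs to E. -/
theorem result (X : Scheme.{u}) (E : Set X)
    (hE : ProCons.IsIndConstructible E) (x : X) :
    x ∈ interior E ↔ ∀ x' : X, x' ⤳ x → x' ∈ E := by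
  refine ⟨fun hx x' h => interior_subset (h.mem_open isOpen_interior hx), fun h => ?_⟩
  obtain ⟨W, hW, hxW, -⟩ := exists_isAffineOpen_mem_and_subset (U := (⊤ : X.Opens)) (x := x) trivial
  obtain ⟨_, _, _, _⟩ := ConsTop.affine_instances hW
  let x₀ : ↥(W : Set X) := ⟨x, hxW⟩
  let ι' := {U : Set ↥(W : Set X) // IsOpen U ∧ IsCompact U ∧ x₀ ∈ U}
  haveI : Nonempty ι' := ⟨⟨Set.univ, isOpen_univ, isCompact_univ, trivial⟩⟩
  have hEc : @IsClosed _ (constructibleTopology ↥(W : Set X)) (Subtype.val ⁻¹' E)ᶜ :=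
    @IsClosed.mk _ (constructibleTopology ↥(W : Set X)) _
      (by rw [compl_compl]; exact ConsTop.indCons_iff_affine.mp hE W hW)
  obtain ⟨U, hU⟩ := @IsCompact.elim_directed_family_closed ↥(W : Set X) (constructibleTopology ↥(W : Set X))
    _ ι' _ (@IsCompact.of_isClosed_subset _ (constructibleTopology _) _ _
      (ConsTop.isCompact_cons (X := ↥(W : Set X)) isOpen_univ isCompact_univ) hEc (Set.subset_univ _))
    (fun U => U.1)
    (fun U => @IsClosed.mk _ (constructibleTopology ↥(W : Set X)) _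
      (ConsTop.isOpen_compl_of_isCompact U.2.1 U.2.2.1))
    (by
      refine Set.eq_empty_iff_forall_notMem.mpr fun y ⟨hyE, hy⟩ => hyE (h y.1 ?_)
      rw [← subtype_specializes_iff y x₀, specializes_iff_forall_open]
      intro s hs hxs
      obtain ⟨U, ⟨hU, hUc⟩, hxU, hUs⟩ :=
        PrespectralSpace.isTopologicalBasis.exists_subset_of_mem_open hxs hs
      exact hUs (Set.mem_iInter.mp hy ⟨U, hU, hUc, hxU⟩))
    (fun U V => ⟨⟨U.1 ∩ V.1, U.2.1.inter V.2.1, U.2.2.1.inter_of_isOpen V.2.2.1 U.2.1 V.2.1,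
      U.2.2.2, V.2.2.2⟩, Set.inter_subset_left, Set.inter_subset_right⟩)
  refine mem_interior.mpr ⟨Subtype.val '' U.1, ?_, W.2.isOpenMap_subtype_val _ U.2.1, ⟨x₀, U.2.2.2, rfl⟩⟩
  rintro _ ⟨y, hy, rfl⟩
  exact by_contra fun hyE => (Set.eq_empty_iff_forall_notMem.mp hU) y ⟨hyE, hy⟩

end Groth.Agent.S3403
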