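import Groth.Statements.S3401
import Mathlib
import Groth.Agent.ConsTop.Maps

set_option autoImplicit false
open CategoryTheory AlgebraicGeometry Topology
universe u
open EGA41

namespace Groth.Agent.S3401

/-- Let X be a scheme and E a subset of X. If E is ind-constructible then for every point x of E the set
E ∩ cl{x} is a neighbourhood of x in cl{x}; when X is locally Noetherian the converse holds. (As
published, the necessity clause quantifies over all points x of X; for x outside E the condition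
cannot hold, and the argument uses x ∈ E, so it is stated here for x ∈ E.) Stated as an equivalence
for X locally Noetherian. -/
theorem result (X : Scheme.{u}) [IsLocallyNoetherian X]
    (E : Set X) :
    ProCons.IsIndConstructible E ↔
      ∀ x ∈ E, (Subtype.val ⁻¹' E : Set ↥(closure ({x} : Set X))) ∈ nhds (⟨x, subset_closure rfl⟩ : ↥(closure ({x} : Set X))) := by
  constructor
  · intro hE x hx
    obtain ⟨W, hW, hxW, -⟩ := exists_isAffineOpen_mem_and_subset (U := (⊤ : X.Opens)) (x := x) trivial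
    obtain ⟨_, _, _, _⟩ := ConsTop.affine_instances hW
    obtain ⟨B, hB, hxB, hBE⟩ := ConsTop.exists_isConstructible_subset
      (ConsTop.indCons_iff_affine.mp hE W hW) (show (⟨x, hxW⟩ : ↥(W : Set X)) ∈ Subtype.val ⁻¹' E from hx)
    let x₀ : ↥(W : Set X) := ⟨x, hxW⟩
    have key : ∀ T : Set ↥(W : Set X), IsConstructible T →
        (x₀ ∈ T → ∃ O, IsOpen O ∧ x₀ ∈ O ∧ ∀ y ∈ O, x₀ ⤳ y → y ∈ T) ∧
        (x₀ ∉ T → ∃ O, IsOpen O ∧ x₀ ∈ O ∧ ∀ y ∈ O, x₀ ⤳ y → y ∉ T) := by
      intro T hT
      induction hT using IsConstructible.empty_union_induction with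
      | open_retrocompact U hU _ =>
        exact ⟨fun h => ⟨U, hU, h, fun y hy _ => hy⟩,
          fun h => ⟨Set.univ, isOpen_univ, trivial, fun y _ hy hyU => h (hy.mem_open hU hyU)⟩⟩
      | union s _ t _ hs ht =>
        refine ⟨fun h => ?_, fun h => ?_⟩
        · rcases h with h | h
          · obtain ⟨O, hO, hxO, hO'⟩ := hs.1 h
            exact ⟨O, hO, hxO, fun y hy hyx => Or.inl (hO' y hy hyx)⟩
          · obtain ⟨O, hO, hxO, hO'⟩ := ht.1 h
            exact ⟨O, hO, hxO, fun y hy hyx => Or.inr (hO' y hy hyx)⟩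
        · obtain ⟨O, hO, hxO, hO'⟩ := hs.2 fun h' => h (Or.inl h')
          obtain ⟨P, hP, hxP, hP'⟩ := ht.2 fun h' => h (Or.inr h')
          exact ⟨O ∩ P, hO.inter hP, ⟨hxO, hxP⟩, fun y hy hyx h' =>
            h'.elim (hO' y hy.1 hyx) (hP' y hy.2 hyx)⟩
      | compl s _ hs =>
        refine ⟨hs.2, fun h => ?_⟩
        obtain ⟨O, hO, hxO, hO'⟩ := hs.1 (not_not.mp h)
        exact ⟨O, hO, hxO, fun y hy hyx h' => h' (hO' y hy hyx)⟩
    obtain ⟨O, hO, hxO, hO'⟩ := (key B hB).1 hxB
    refine mem_nhds_iff.mpr ⟨Subtype.val ⁻¹' (Subtype.val '' O), ?_,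
      (W.2.isOpenMap_subtype_val _ hO).preimage continuous_subtype_val, ⟨x₀, hxO, rfl⟩⟩
    rintro ⟨y, hy⟩ ⟨y', hy', he⟩
    have : x₀ ⤳ y' := (subtype_specializes_iff x₀ y').mpr (specializes_iff_mem_closure.mpr (he ▸ hy))
    show y ∈ E
    rw [show y = y'.1 from he.symm]
    exact hBE (hO' y' hy' this)
  · intro h
    refine ConsTop.indCons_iff_affine.mpr fun W hW => ?_
    obtain ⟨_, _, _, _⟩ := ConsTop.affine_instances hW
    haveI := IsLocallyNoetherian.component_noetherian (X := X) ⟨W, hW⟩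
    haveI : TopologicalSpace.NoetherianSpace ↥(W : Set X) := noetherianSpace_of_isAffineOpen W hW
    refine (@isOpen_iff_forall_mem_open _ (constructibleTopology ↥(W : Set X)) _).mpr fun x hx => ?_
    obtain ⟨N, hN, hNo, hxN⟩ := mem_nhds_iff.mp (h x.1 hx)
    obtain ⟨O, hO, hON⟩ := isOpen_induced_iff.mp hNo
    refine ⟨Subtype.val ⁻¹' O ∩ closure {x}, ?_, ?_, ?_, subset_closure rfl⟩
    · rintro y ⟨hyO, hyx⟩
      have hy : y.1 ∈ closure ({x.1} : Set X) := specializes_iff_mem_closure.mp
        ((subtype_specializes_iff x y).mp (specializes_iff_mem_closure.mpr hyx))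
      exact hN (show (⟨y.1, hy⟩ : ↥(closure ({x.1} : Set X))) ∈ N by rw [← hON]; exact hyO)
    · refine @IsOpen.inter _ (constructibleTopology ↥(W : Set X)) _ _
        (ConsTop.isOpen_cons_of_isOpen (hO.preimage continuous_subtype_val)) ?_
      exact IsCompact.isOpen_constructibleTopology_of_isClosed (TopologicalSpace.NoetherianSpace.isCompact _) isClosed_closure
    · rw [← hON] at hxN
      exact hxN

end Groth.Agent.S3401
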