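import Groth.Statements.S3402
import Mathlib
import Groth.Agent.ConsTop.Maps

set_option autoImplicit false
open CategoryTheory AlgebraicGeometry Topology
universe u
open EGA41

namespace Groth.Agent.S3402

/-- A subset E of a scheme X is locally constructible if and only if it is both ind-constructible and
pro-constructible. -/
theorem result (X : Scheme.{u}) (E : Set X) :
    Topology.IsLocallyConstructible E ↔ ProCons.IsIndConstructible E ∧ ProCons.IsProConstructible E := by
  constructor
  · intro h
    have key : ∀ T : Set X, IsLocallyConstructible T → ProCons.IsIndConstructible T := fun T hT =>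
      ConsTop.indCons_iff_affine.mpr fun W hW => by
        obtain ⟨_, _, _, _⟩ := ConsTop.affine_instances hW
        exact (ConsTop.isClopen_of_isLocallyConstructible
          (hT.preimage_of_isOpenEmbedding W.2.isOpenEmbedding_subtypeVal)).1
    exact ⟨key E h, ConsTop.isProConstructible_iff_indCons_compl.mpr (key _ (ConsTop.isLocallyConstructible_compl h))⟩
  · rintro ⟨h1, h2⟩
    refine IsLocallyConstructible.of_isOpenCover (U := fun W : X.affineOpens => W.1)
      (iSup_affineOpens_eq_top X) fun W => ?_
    obtain ⟨_, _, _, _⟩ := ConsTop.affine_instances W.2
    exact ConsTop.isLocallyConstructible_of_isClopen (ConsTop.indCons_iff_affine.mp h1 W.1 W.2)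
      (ConsTop.proCons_iff_affine.mp h2 W.1 W.2).1

end Groth.Agent.S3402
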