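import Groth.Statements.S1550
import Mathlib
import Groth.Agent.SmoothPts.Alg

set_option autoImplicit false
universe u
open CategoryTheory CategoryTheory.Limits AlgebraicGeometry
attribute [local instance] Curv2.resAlgebra
open Variety

namespace Groth.Agent.S1550

/-- If X is smooth over a field k, then the set of closed points of X whose residue field is finite
separable over k is dense in X. -/
theorem result (k : Type u) [Field k] (X : Scheme.{u}) [X.Over (Spec (CommRingCat.of k))] [Smooth (X ↘ (Spec (CommRingCat.of k)))] :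
    Dense {x : X | IsClosed ({x} : Set X) ∧ FiniteDimensional k (X.residueField x) ∧ Algebra.IsSeparable k (X.residueField x)} := by
  classical
  let f := X ↘ Spec (CommRingCat.of k)
  haveI : JacobsonSpace X := LocallyOfFiniteType.jacobsonSpace f
  rw [dense_iff_inter_open]
  intro W hW hne
  obtain ⟨x, hxW⟩ := hne
  obtain ⟨U, hU, V, hV, hxV, e, hsm⟩ := Smooth.exists_isStandardSmooth f x
  haveI : Subsingleton (Spec (CommRingCat.of k)) := inferInstanceAs (Subsingleton (PrimeSpectrum k))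
  obtain rfl : U = ⊤ := eq_top_iff.2 fun p _ => Subsingleton.elim (f x) p ▸ e hxV
  obtain ⟨b, hbW, hxb⟩ := hV.exists_basicOpen_le (⟨x, hxW⟩ : (⟨W, hW⟩ : X.Opens)) hxV
  let φ₀ : k →+* Γ(X, V) := (f.appLE ⊤ V e).hom.comp (Scheme.ΓSpecIso (CommRingCat.of k)).inv.hom
  have hsm0 : φ₀.IsStandardSmooth :=
    RingHom.isStandardSmooth_respectsIso.2 _ (Scheme.ΓSpecIso (CommRingCat.of k)).symm.commRingCatIsoToRingEquiv hsm
  letI := φ₀.toAlgebra
  obtain ⟨n, g, hgC, hg⟩ := hsm0.exists_etale_mvPolynomial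
  let g' : MvPolynomial (Fin n) k →ₐ[k] Γ(X, V) :=
    { g with commutes' := fun c => congrArg (fun h : k →+* Γ(X, V) => h c) hgC }
  have hb : ¬ IsNilpotent b := fun hnil => by
    have h0 : X.basicOpen b = ⊥ := X.basicOpen_eq_bot_of_isNilpotent V b hnil
    rw [h0] at hxb
    exact hxb
  obtain ⟨Q, hQ, hbQ, hfin, hsep⟩ := Groth.Agent.SmoothPts.exists_separable_maximal g' hg b hb
  let q : Spec Γ(X, V) := ⟨Q, hQ.isPrime⟩
  let y := hV.fromSpec q
  have hyV : y ∈ V := hV.range_fromSpec.subset ⟨q, rfl⟩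
  haveI := hV.isOpenImmersion_fromSpec
  have hyb : y ∈ X.basicOpen b := by
    show q ∈ hV.fromSpec ⁻¹ᵁ X.basicOpen b
    rw [hV.fromSpec_preimage_basicOpen]; exact hbQ
  have hcl : IsClosed ({y} : Set X) := by
    refine isClosed_singleton_of_isLocallyClosed_singleton ?_
    have hq : IsClosed ({q} : Set (Spec Γ(X, V))) := (PrimeSpectrum.isClosed_singleton_iff_isMaximal q).2 hQ
    have := hq.isLocallyClosed.image hV.fromSpec.isEmbedding.isInducing
      hV.fromSpec.isOpenEmbedding.isOpen_range.isLocallyClosed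
    rwa [Set.image_singleton] at this
  -- the residue field is `Γ(X, V) / Q`
  have hpQ : (hV.primeIdealOf ⟨y, hyV⟩).asIdeal = Q := congrArg PrimeSpectrum.asIdeal
    (hV.fromSpec.isOpenEmbedding.injective (hV.fromSpec_primeIdealOf ⟨y, hyV⟩) : hV.primeIdealOf ⟨y, hyV⟩ = q)
  letI := TopCat.Presheaf.algebra_section_stalk X.presheaf (⟨y, hyV⟩ : V)
  haveI : IsLocalization.AtPrime (X.presheaf.stalk y) (hV.primeIdealOf ⟨y, hyV⟩).asIdeal :=
    hV.isLocalization_stalk ⟨y, hyV⟩
  let ψ : Γ(X, V) →+* X.residueField y := (X.residue y).hom.comp (X.presheaf.germ V y hyV).hom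
  have hψker : ∀ a, ψ a = 0 ↔ a ∈ Q := fun a => by
    have h1 : ψ a = 0 ↔ algebraMap Γ(X, V) (X.presheaf.stalk y) a ∈ IsLocalRing.maximalIdeal (X.presheaf.stalk y) :=
      IsLocalRing.residue_eq_zero_iff _
    rw [h1, IsLocalization.AtPrime.to_map_mem_maximal_iff (X.presheaf.stalk y) (hV.primeIdealOf ⟨y, hyV⟩).asIdeal a,
      hpQ]
  have hψsurj : Function.Surjective ψ := fun r => by
    obtain ⟨t, rfl⟩ := X.residue_surjective y r
    obtain ⟨⟨a, s⟩, hs⟩ := IsLocalization.surj (hV.primeIdealOf ⟨y, hyV⟩).asIdeal.primeCompl t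
    obtain ⟨s', hs'⟩ := hQ.exists_inv (show (s : Γ(X, V)) ∉ Q from hpQ ▸ s.2)
    obtain ⟨m, hm, hsm'⟩ := hs'
    refine ⟨a * s', ?_⟩
    have h2 : ψ s' * ψ (s : Γ(X, V)) = 1 := by
      rw [← map_mul, ← map_one ψ, ← hsm', map_add, (hψker m).2 hm, add_zero]
    have h3 : (X.residue y).hom t * ψ (s : Γ(X, V)) = ψ a :=
      (map_mul (X.residue y).hom t _).symm.trans (congrArg (X.residue y).hom hs)
    rw [map_mul, ← h3, mul_assoc, mul_comm (ψ (s : Γ(X, V))), h2, mul_one]
  let ev : (Γ(X, V) ⧸ Q) →+* X.residueField y :=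
    Ideal.Quotient.lift Q ψ fun a ha => (hψker a).2 ha
  have hev : Function.Bijective ev :=
    ⟨(injective_iff_map_eq_zero ev).2 fun z hz => by
        obtain ⟨a, rfl⟩ := Ideal.Quotient.mk_surjective z
        exact Ideal.Quotient.eq_zero_iff_mem.2 ((hψker a).1 hz),
      fun r => by obtain ⟨a, ha⟩ := hψsurj r; exact ⟨Ideal.Quotient.mk Q a, ha⟩⟩
  let E : (Γ(X, V) ⧸ Q) ≃ₐ[k] X.residueField y :=
    AlgEquiv.ofRingEquiv (f := RingEquiv.ofBijective ev hev) fun c => by
      show ψ (φ₀ c) = Curv2.resMap k X y c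
      show (X.residue y).hom ((X.presheaf.germ V y hyV).hom _) = (X.residue y).hom _
      congr 1
      show (f.appLE ⊤ V e ≫ X.presheaf.germ V y hyV).hom _ = _
      rw [Scheme.Hom.appLE, Category.assoc, X.presheaf.germ_res]
      rfl
  haveI := hfin
  haveI := hsep
  exact ⟨y, hbW hyb, hcl, Module.Finite.equiv E.toLinearEquiv, AlgEquiv.Algebra.isSeparable E⟩

end Groth.Agent.S1550
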