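import Groth.Statements.S4808
import Groth.Agent.BiratNormal.Scheme

set_option autoImplicit false
universe u
open CategoryTheory AlgebraicGeometry
open Lim8

namespace Groth.Agent.S4808

/-- Let Y' and Y be integral schemes, Y normal (every local ring of Y is integrally closed), and u : Y'
⟶ Y a finite morphism which is birational: u maps the generic point of Y' to the generic point of Y
and the stalk map of u at the generic point of Y', which is the induced homomorphism of function
fields, is an isomorphism. Then u is an isomorphism. -/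
theorem result {Y' Y : Scheme.{u}} [IsIntegral Y'] [IsIntegral Y]
    (hN : ∀ y : Y, IsIntegrallyClosed (Y.presheaf.stalk y)) (u : Y' ⟶ Y) [IsFinite u]
    (hgen : u (genericPoint Y') = genericPoint Y)
    (hbir : IsIso (u.stalkMap (genericPoint Y'))) : IsIso u := by
  haveI : Surjective u := by
    refine ⟨Set.range_eq_univ.mp (Set.eq_univ_of_univ_subset fun y _ => ?_)⟩
    refine u.isClosedMap.isClosed_range.closure_eq ▸ ((genericPoint_specializes y).mem_closed isClosed_closure ?_)
    exact subset_closure ⟨_, hgen⟩
  refine (IsZariskiLocalAtTarget.iff_of_iSup_eq_top (P := MorphismProperty.isomorphisms Scheme.{u})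
    (ι := {D : Y.Opens // IsIso (u ∣_ D)}) (fun D => D.1) ?_).mpr fun D => D.2
  refine eq_top_iff.mpr fun y _ => ?_
  obtain ⟨x, rfl⟩ := u.surjective y
  obtain ⟨D, V, e, hD, hV, h⟩ := BiratNormal.exists_nhd_isIso u hbir x (hN _) (u.quasiFiniteAt x)
  haveI := h
  exact TopologicalSpace.Opens.mem_iSup.mpr ⟨⟨D, BiratNormal.isIso_morphismRestrict_of_nhd u D V e ⟨x, hV⟩⟩, hD⟩

end Groth.Agent.S4808
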