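import Groth.Statements.S14845
import Groth.Agent.HilbOne.Basic

set_option autoImplicit false
open CategoryTheory CategoryTheory.Limits AlgebraicGeometry
universe u
open HilbD

namespace Groth.Agent.S14845

/-- For a separated morphism f : X → S, the Hilbert functor of one point of X over S is represented by X
with the diagonal as universal family: the diagonal of X ×_S X (the graph of the identity section of
X over itself) is a closed subscheme finite locally free of degree 1 over X, and every closed
subscheme of X ×_S T which is finite locally free of degree 1 over T is its base change along a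
unique S-morphism T → X. (The published statement takes S Noetherian, f locally of finite type and
the Hilbert functor on locally Noetherian S-schemes with flat proper families of Hilbert polynomial
1; this row uses the functor of families finite locally free of degree 1 on all S-schemes, for which
the same argument applies without Noetherian hypotheses.) -/
theorem result {X S : Scheme.{u}} (f : X ⟶ S) [IsSeparated f] :
    ∃ Δ : HilbD.Obj f 1 (Over.mk f),
      Δ.1 = HilbD.secGraph f (Over.mk f) (𝟙 X) (Category.id_comp f) ∧
      HilbD.IsUniversal f 1 (Over.mk f) Δ := by
  refine ⟨⟨_, HilbOne.secGraph_mem f (Over.mk f) (𝟙 X) (Category.id_comp f)⟩, rfl, fun T Z' => ?_⟩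
  obtain ⟨x, hx, hZ⟩ := HilbOne.exists_eq_secGraph f T Z'
  refine ⟨Over.homMk x hx, ?_, fun g hg => ?_⟩
  · refine ((HilbOne.pull_secGraph f (T := Over.mk f) (T' := T) (Over.homMk x hx) (𝟙 X) (Category.id_comp f)).trans ?_).trans hZ
    congr 1
  · have h1 := (HilbOne.pull_secGraph f (T := Over.mk f) (T' := T) g (𝟙 X) (Category.id_comp f)).symm.trans (hg.trans hZ.symm)
    have h2 := HilbOne.secGraph_injective f T _ _ _ hx h1
    exact Over.OverMorphism.ext ((Category.comp_id g.left).symm.trans h2)


end Groth.Agent.S14845
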