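import Groth.Statements.S14584
import Groth.Agent.AVRat.AxesSingular

set_option autoImplicit false
universe u
open CategoryTheory MonoidalCategory CartesianMonoidalCategory MonObj GrpObj AlgebraicGeometry CategoryTheory.Limits
open AlgGrp

namespace Groth.Agent.S14584

/-- Let k be a field, X and Y varieties over k (separated, geometrically integral k-schemes of finite
type) with rational points x₀ and y₀, A an abelian variety (a proper, smooth, connected k-group
scheme) and f : X × Y → A a k-morphism. Then, in the group of morphisms X × Y → A, f(x, y) = f(x₀,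
y₀)⁻¹ · f(x₀, y) · f(x, y₀) identically; additively, f(x, y) − f(x₀, y) − f(x, y₀) + f(x₀, y₀) = 0.
Neither smoothness nor properness of X, Y is assumed. -/
theorem result (k : Type u) [Field k]
    (X Y A : Over (Spec (CommRingCat.of k)))
    [LocallyOfFiniteType X.hom] [QuasiCompact X.hom] [IsSeparated X.hom] [GeometricallyIntegral X.hom]
    [LocallyOfFiniteType Y.hom] [QuasiCompact Y.hom] [IsSeparated Y.hom] [GeometricallyIntegral Y.hom]
    [GrpObj A] [IsProper A.hom] [Smooth A.hom] [ConnectedSpace ↥A.left]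
    (x₀ : 𝟙_ (Over (Spec (CommRingCat.of k))) ⟶ X) (y₀ : 𝟙_ (Over (Spec (CommRingCat.of k))) ⟶ Y) (f : X ⊗ Y ⟶ A) :
    f = (toUnit (X ⊗ Y) ≫ lift x₀ y₀ ≫ f)⁻¹ * (snd X Y ≫ lift (toUnit Y ≫ x₀) (𝟙 Y) ≫ f) *
      (fst X Y ≫ lift (𝟙 X) (toUnit X ≫ y₀) ≫ f) := by
  haveI : GeometricallyConnected A.hom :=
    Groth.Agent.Rigid.geometricallyConnected_of_section A.hom η[A].left (Over.w η[A])
  haveI : GeometricallyIntegral A.hom := Groth.Agent.ClosedRep.GeomIntegral.geometricallyIntegral_of_smooth A.hom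
  haveI : IsCommMonObj A := isCommMonObj_of_isProper_of_geometricallyIntegral A
  let a := lift (𝟙 X) (toUnit X ≫ y₀) ≫ f
  let b := lift (toUnit Y ≫ x₀) (𝟙 Y) ≫ f
  let c := lift x₀ y₀ ≫ f
  have h := AVRat.eq_one_of_axes_geomIntegral X Y A x₀ y₀
    (f * ((toUnit (X ⊗ Y) ≫ c)⁻¹ * (snd X Y ≫ b) * (fst X Y ≫ a))⁻¹) ?_ ?_
  · exact mul_inv_eq_one.1 h
  · simp only [a, b, c, MonObj.comp_mul, GrpObj.comp_inv, lift_fst_assoc, lift_snd_assoc, comp_lift_assoc,
      comp_toUnit_assoc, lift_fst, lift_snd, Category.assoc, Category.id_comp, Category.comp_id]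
    apply Additive.ofMul.injective
    simp only [ofMul_mul, ofMul_inv, ofMul_one]
    abel
  · simp only [a, b, c, MonObj.comp_mul, GrpObj.comp_inv, lift_fst_assoc, lift_snd_assoc, comp_lift_assoc,
      comp_toUnit_assoc, lift_fst, lift_snd, Category.assoc, Category.id_comp, Category.comp_id]
    apply Additive.ofMul.injective
    simp only [ofMul_mul, ofMul_inv, ofMul_one]
    abel

end Groth.Agent.S14584
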