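import Groth.Statements.S0116
import Mathlib

set_option autoImplicit false
open CategoryTheory CategoryTheory.Limits AlgebraicGeometry Opposite
universe u
open EtBase

namespace Groth.Agent.S0116

/-- If f : X → Y is surjective, flat and locally of finite presentation and X is locally Noetherian,
then Y is locally Noetherian. (This is the descent half of the statement that, for such f, X is
locally Noetherian if and only if Y is; the ascent half is the fact that a scheme locally of finite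
type over a locally Noetherian scheme is locally Noetherian, and is not stated here.) -/
theorem result {X Y : Scheme.{u}} (f : X ⟶ Y) [Surjective f] [Flat f] [LocallyOfFinitePresentation f]
    [IsLocallyNoetherian X] : IsLocallyNoetherian Y := by
  constructor
  intro ⟨U, hU⟩
  change IsNoetherianRing Γ(Y, U)
  have : IsAffine U.toScheme := hU
  have hopen : IsOpenMap f.base := f.isOpenMap
  have : ∀ x : X, ∃ W : X.Opens, IsAffineOpen W ∧ x ∈ W ∧ (f x ∈ U → W ≤ f ⁻¹ᵁ U) := fun x ↦ by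
    by_cases hx : f x ∈ U
    · obtain ⟨W, hW, hxW, hle⟩ := exists_isAffineOpen_mem_and_subset (show x ∈ f ⁻¹ᵁ U from hx)
      exact ⟨W, hW, hxW, fun _ ↦ hle⟩
    · obtain ⟨W, hW, hxW, -⟩ := exists_isAffineOpen_mem_and_subset (U := ⊤) (show x ∈ (⊤ : X.Opens) from trivial)
      exact ⟨W, hW, hxW, fun h ↦ absurd h hx⟩
  choose W hW hxW hle using this
  obtain ⟨t, ht⟩ := hU.isCompact.elim_finite_subcover (fun x : ↥(f ⁻¹ᵁ U) ↦ f '' (W x.1))
    (fun x ↦ hopen _ (W x.1).2) (fun y hy ↦ by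
      obtain ⟨x, rfl⟩ := f.surjective y
      exact Set.mem_iUnion.mpr ⟨⟨x, hy⟩, x, hxW x, rfl⟩)
  let Q : t → Scheme.{u} := fun i ↦ (W i.1.1).toScheme
  have : ∀ i, IsAffine (Q i) := fun i ↦ hW _
  let q : ∀ i, Q i ⟶ U.toScheme := fun i ↦ f.resLE U (W i.1.1) (hle _ i.1.2)
  let π := Limits.Sigma.desc q
  have : ∀ i, Flat (q i) := fun i ↦ inferInstance
  have : Flat π := inferInstanceAs (Flat (Limits.Sigma.desc q))
  have : Surjective π := ⟨fun y ↦ by
    obtain ⟨i, hi, x, hx, hxy⟩ : ∃ i ∈ t, y.1 ∈ f '' (W i.1) := by simpa using ht y.2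
    refine ⟨Limits.Sigma.ι Q ⟨i, hi⟩ ⟨x, hx⟩, ?_⟩
    refine (congr($(Limits.Sigma.ι_desc q ⟨i, hi⟩) ⟨x, hx⟩)).trans ?_
    exact U.ι.isOpenEmbedding.injective ((congr($(Scheme.Hom.resLE_comp_ι f (hle _ i.2)) ⟨x, hx⟩)).trans hxy)⟩
  have : IsLocallyNoetherian (∐ Q) :=
    (isLocallyNoetherian_iff_openCover (sigmaOpenCover Q)).mpr fun i ↦ (isLocallyNoetherian_of_isOpenImmersion ((W i.1.1).ι : Q i ⟶ X) : IsLocallyNoetherian (Q i))
  have : IsNoetherianRing Γ(∐ Q, ⊤) :=
    IsLocallyNoetherian.component_noetherian ⟨⊤, isAffineOpen_top _⟩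
  let φ := π.appTop
  have hφ : φ.hom.FaithfullyFlat := by
    rw [RingHom.FaithfullyFlat.iff_flat_and_comap_surjective]
    refine ⟨(HasRingHomProperty.iff_of_isAffine (P := @Flat)).mp ‹_›, ?_⟩
    have : Surjective (Spec.map φ) := by
      have : Surjective (Scheme.isoSpec (∐ Q)).inv := inferInstance
      have h := Scheme.toSpecΓ_naturality π
      have h2 : Spec.map φ = (∐ Q).isoSpec.inv ≫ π ≫ U.toScheme.isoSpec.hom := by
        rw [Iso.eq_inv_comp]; exact h.symm
      rw [h2]; infer_instance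
    exact this.surj
  algebraize [φ.hom]
  have : Module.FaithfullyFlat Γ(U.toScheme, ⊤) Γ(∐ Q, ⊤) := hφ
  have : IsNoetherianRing Γ(U.toScheme, ⊤) := by
    rw [isNoetherianRing_iff, isNoetherian_iff']
    refine (OrderEmbedding.ofMapLEIff (fun I : Ideal Γ(U.toScheme, ⊤) ↦ I.map φ.hom) fun I J ↦
      ⟨fun h ↦ ?_, Ideal.map_mono⟩).dual.wellFoundedLT
    rw [← Ideal.comap_map_eq_self_of_faithfullyFlat (B := Γ(∐ Q, ⊤)) I,
      ← Ideal.comap_map_eq_self_of_faithfullyFlat (B := Γ(∐ Q, ⊤)) J]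
    exact Ideal.comap_mono h
  exact isNoetherianRing_of_ringEquiv _ U.topIso.commRingCatIsoToRingEquiv

end Groth.Agent.S0116
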