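import Groth.Statements.S2135
-- import your own Groth.Agent.* helpers here
import Groth.Agent.Hensel.BranchMore
import Groth.Agent.Hensel.BranchCountStrict

set_option autoImplicit false
universe u
open CAlg

namespace Groth.Agent.S2135

/-- A local ring `A` is geometrically unibranch if and only if a strict henselization of `A` has a
unique minimal prime ideal. -/
theorem result {A Ash : Type u} [CommRing A] [IsLocalRing A]
    [CommRing Ash] [IsLocalRing Ash] [Algebra A Ash] [IsLocalHom (algebraMap A Ash)]
    [Hensel.IsStrictHenselization A Ash] :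
    CAlg2.IsGeomUnibranch A ↔ CAlgX.HasUniqueMinimalPrime Ash := by
  rw [← Groth.Agent.Hensel.numGeomBranches_eq_one_iff, ← Groth.Agent.Hensel.card_minimalPrimes_strictHenselization (A := A) (S := Ash),
    ENat.card_eq_one_iff_unique]
  unfold CAlgX.HasUniqueMinimalPrime
  constructor
  · rintro ⟨u⟩
    exact ⟨u.default.1, u.default.2, fun P hP => congrArg Subtype.val (u.uniq ⟨P, hP⟩)⟩
  · rintro ⟨P, hP, huniq⟩
    exact ⟨⟨⟨⟨P, hP⟩⟩, fun Q => Subtype.ext (huniq Q.1 Q.2)⟩⟩

end Groth.Agent.S2135
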