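import Groth.Statements.S8478
import Groth.Agent.RedR1.Hom

set_option autoImplicit false
universe u
open CategoryTheory MonoidalCategory CartesianMonoidalCategory MonObj GrpObj AlgebraicGeometry CategoryTheory.Limits
open Red

namespace Groth.Agent.S8478

/-- Let (G, T, α, p₊, p₋, α^*) and (G', T', α', p'₊, p'₋, α'^*) be two rank-one systems over S: G
reductive, i : T ⟶ G a maximal torus, α a character of T non-trivial on every geometric fibre, p₊,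
p₋ : 𝔾_a ⟶ G monomorphisms normalised by T with multipliers α, α⁻¹ whose cell map (y, t, x) ↦ p₋(y)
i(t) p₊(x) is an open immersion, α^* : 𝔾_m ⟶ T with α ∘ α^* the squaring map and p₊(x) p₋(y) =
p₋(y/(1+xy)) · i(α^*(1+xy)) · p₊(x/(1+xy)) whenever 1 + xy is invertible; likewise for the primed
data. Let q > 0 be an integer such that x ↦ x^q is additive on all functions of S-schemes. Let c be
an S-point of 𝔾_m and f : G ⟶ G' a homomorphism with f(p₊(x)) = p'₊(c x^q) for all points x of 𝔾_a.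
Write w(x) = p₊(x) p₋(-x⁻¹) p₊(x) and w'(x) = p'₊(x) p'₋(-x⁻¹) p'₊(x) for points x with invertible
coordinate. Then the following are equivalent: (i) f(i(α^*(z))) = i'(α'^*(z))^q for all points z of
𝔾_m; (ii) f(w(x)) = w'(c x^q) for all x with invertible coordinate; (iii) f(p₋(y)) = p'₋(c⁻¹ y^q)
for all points y. -/
theorem result (S : Scheme.{u}) (G T : Over S) [GrpObj G] [GrpObj T] (i : T ⟶ G) [IsMonHom i] [Mono i] (hG : Red.IsReductive G) (hTm : Red.IsMaximalTorus i)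
    (α : T ⟶ Red.Gm S) [IsMonHom α] (hα : ∀ s : S, (Over.pullback (Red.geomPt s)).map α ≠ 1)
    (pp pm : Red.Ga S ⟶ G) [IsMonHom pp] [Mono pp] [IsMonHom pm] [Mono pm]
    (hpp : ∀ (X : Over S) (t : X ⟶ T) (x : X ⟶ Red.Ga S), ∃ x' : X ⟶ Red.Ga S,
      x' ≫ pp = (t ≫ i) * (x ≫ pp) * (t ≫ i)⁻¹ ∧ Red.gaFn x' = Red.gmFn (t ≫ α) * Red.gaFn x)
    (hpm : ∀ (X : Over S) (t : X ⟶ T) (y : X ⟶ Red.Ga S), ∃ y' : X ⟶ Red.Ga S,
      y' ≫ pm = (t ≫ i) * (y ≫ pm) * (t ≫ i)⁻¹ ∧ Red.gaFn y' * Red.gmFn (t ≫ α) = Red.gaFn y)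
    (hΩ : IsOpenImmersion (((pm ⊗ₘ i) ⊗ₘ pp) ≫ (μ[G] ▷ G) ≫ μ[G]).left)
    (av : Red.Gm S ⟶ T) [IsMonHom av] (h2 : av ≫ α = (𝟙 (Red.Gm S)) ^ 2)
    (hF : ∀ (X : Over S) (x y : X ⟶ Red.Ga S), IsUnit (1 + Red.gaFn x * Red.gaFn y) →
      ∃ (x' y' : X ⟶ Red.Ga S) (z : X ⟶ Red.Gm S), Red.gmFn z = 1 + Red.gaFn x * Red.gaFn y ∧
        Red.gaFn x' * Red.gmFn z = Red.gaFn x ∧ Red.gaFn y' * Red.gmFn z = Red.gaFn y ∧
        (x ≫ pp) * (y ≫ pm) = (y' ≫ pm) * (z ≫ av ≫ i) * (x' ≫ pp))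
    (G' T' : Over S) [GrpObj G'] [GrpObj T'] (i' : T' ⟶ G') [IsMonHom i'] [Mono i'] (hG' : Red.IsReductive G') (hTm' : Red.IsMaximalTorus i')
    (α' : T' ⟶ Red.Gm S) [IsMonHom α'] (hα' : ∀ s : S, (Over.pullback (Red.geomPt s)).map α' ≠ 1)
    (pp' pm' : Red.Ga S ⟶ G') [IsMonHom pp'] [Mono pp'] [IsMonHom pm'] [Mono pm']
    (hpp' : ∀ (X : Over S) (t : X ⟶ T') (x : X ⟶ Red.Ga S), ∃ x' : X ⟶ Red.Ga S,
      x' ≫ pp' = (t ≫ i') * (x ≫ pp') * (t ≫ i')⁻¹ ∧ Red.gaFn x' = Red.gmFn (t ≫ α') * Red.gaFn x)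
    (hpm' : ∀ (X : Over S) (t : X ⟶ T') (y : X ⟶ Red.Ga S), ∃ y' : X ⟶ Red.Ga S,
      y' ≫ pm' = (t ≫ i') * (y ≫ pm') * (t ≫ i')⁻¹ ∧ Red.gaFn y' * Red.gmFn (t ≫ α') = Red.gaFn y)
    (hΩ' : IsOpenImmersion (((pm' ⊗ₘ i') ⊗ₘ pp') ≫ (μ[G'] ▷ G') ≫ μ[G']).left)
    (av' : Red.Gm S ⟶ T') [IsMonHom av'] (h2' : av' ≫ α' = (𝟙 (Red.Gm S)) ^ 2)
    (hF' : ∀ (X : Over S) (x y : X ⟶ Red.Ga S), IsUnit (1 + Red.gaFn x * Red.gaFn y) →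
      ∃ (x' y' : X ⟶ Red.Ga S) (z : X ⟶ Red.Gm S), Red.gmFn z = 1 + Red.gaFn x * Red.gaFn y ∧
        Red.gaFn x' * Red.gmFn z = Red.gaFn x ∧ Red.gaFn y' * Red.gmFn z = Red.gaFn y ∧
        (x ≫ pp') * (y ≫ pm') = (y' ≫ pm') * (z ≫ av' ≫ i') * (x' ≫ pp'))
    (q : ℕ) (hq0 : 0 < q) (hq : ∀ (X : Over S) (a b : Γ(X.left, ⊤)), (a + b) ^ q = a ^ q + b ^ q) (c : 𝟙_ (Over S) ⟶ Red.Gm S) (f : G ⟶ G') [IsMonHom f]
    (hf : ∀ (X : Over S) (x y : X ⟶ Red.Ga S), Red.gaFn y = Red.gmFn (toUnit X ≫ c) * Red.gaFn x ^ q →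
      (x ≫ pp) ≫ f = y ≫ pp') :
    [∀ (X : Over S) (z : X ⟶ Red.Gm S), (z ≫ av ≫ i) ≫ f = ((z ≫ av') ^ q) ≫ i',
      ∀ (X : Over S) (x x' y y' : X ⟶ Red.Ga S), Red.gaFn x' * Red.gaFn x = -1 →
        Red.gaFn y = Red.gmFn (toUnit X ≫ c) * Red.gaFn x ^ q → Red.gaFn y' * Red.gaFn y = -1 →
        ((x ≫ pp) * (x' ≫ pm) * (x ≫ pp)) ≫ f = (y ≫ pp') * (y' ≫ pm') * (y ≫ pp'),
      ∀ (X : Over S) (x y : X ⟶ Red.Ga S), Red.gaFn y * Red.gmFn (toUnit X ≫ c) = Red.gaFn x ^ q →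
        (x ≫ pm) ≫ f = y ≫ pm'].TFAE := by
  haveI : IsOpenImmersion (RedR1.cellMap i' pp' pm').left := hΩ'
  have s : RedR1.Sys i α pp pm av := ⟨‹_›, ‹_›, ‹_›, ‹_›, ‹_›, h2, hpp, hpm, hF⟩
  have s' : RedR1.Sys i' α' pp' pm' av' := ⟨‹_›, ‹_›, ‹_›, ‹_›, ‹_›, h2', hpp', hpm', hF'⟩
  let cX : ∀ X : Over S, (Γ(X.left, ⊤))ˣ := fun X => GmPts.unitOfPt (toUnit X ≫ c)
  have hcX : ∀ X : Over S, (cX X : Γ(X.left, ⊤)) = Red.gmFn (toUnit X ≫ c) := fun X => rfl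
  have hP : ∀ (X : Over S) b, (s.calc' X).P b ≫ f = (s'.calc' X).P ((cX X : Γ(X.left, ⊤)) * b ^ q) := fun X b =>
    hf X (BGaNotS.gaPt b) (BGaNotS.gaPt _) (by rw [BGaNotS.gaFn_gaPt, BGaNotS.gaFn_gaPt, hcX])
  have hqn : ∀ (X : Over S) (a : Γ(X.left, ⊤)), (-a) ^ q = -(a ^ q) := fun X =>
    RedR1.pow_neg_of_additive hq0 (hq X)
  -- translations of the three conditions
  have key2 : (∀ (X : Over S), ∀ a, (s.calc' X).w a ≫ f = (s'.calc' X).w (cX X * a ^ q)) →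
      (∀ (X : Over S) (x x' y y' : X ⟶ Red.Ga S), Red.gaFn x' * Red.gaFn x = -1 →
        Red.gaFn y = Red.gmFn (toUnit X ≫ c) * Red.gaFn x ^ q → Red.gaFn y' * Red.gaFn y = -1 →
        ((x ≫ pp) * (x' ≫ pm) * (x ≫ pp)) ≫ f = (y ≫ pp') * (y' ≫ pm') * (y ≫ pp')) := by
    intro h X x x' y y' hx hy hy'
    obtain ⟨a, ha, ha'⟩ := RedR1.Sys.exists_unit_of_neg_one hx
    have e : Red.gaFn y = ((cX X * a ^ q : (Γ(X.left, ⊤))ˣ) : Γ(X.left, ⊤)) := by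
      rw [hy, ha, Units.val_mul, hcX, Units.val_pow_eq_pow_val]
    have e' : Red.gaFn y' = -(↑(cX X * a ^ q)⁻¹ : Γ(X.left, ⊤)) := by
      rw [e] at hy'
      linear_combination (↑(cX X * a ^ q)⁻¹ : Γ(X.left, ⊤)) * hy' - Red.gaFn y' * Units.mul_inv (cX X * a ^ q)
    rw [s.calc'_w x x' a ha ha', s'.calc'_w y y' _ e e', h]
  have key3 : (∀ (X : Over S), ∀ b, (s.calc' X).M b ≫ f = (s'.calc' X).M ((↑(cX X)⁻¹ : Γ(X.left, ⊤)) * b ^ q)) →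
      ∀ (X : Over S) (x y : X ⟶ Red.Ga S), Red.gaFn y * Red.gmFn (toUnit X ≫ c) = Red.gaFn x ^ q →
        (x ≫ pm) ≫ f = y ≫ pm' := by
    intro h X x y hxy
    have e : Red.gaFn y = (↑(cX X)⁻¹ : Γ(X.left, ⊤)) * Red.gaFn x ^ q := by
      rw [← hxy, ← hcX]
      linear_combination -Red.gaFn y * Units.inv_mul (cX X)
    rw [s.calc'_M x rfl, s'.calc'_M y e, h]
  tfae_have 1 → 2 := by
    intro h
    refine key2 fun X a => ?_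
    have hH : ∀ (X' : Over S) (v : (Γ(X'.left, ⊤))ˣ), (s.calc' X').H v ≫ f = (s'.calc' X').H (v ^ q) := by
      intro X' v
      have h1 := h X' (GmPts.ptOfUnit v)
      rw [← zpow_natCast, s'.zpow_eq_H, s.calc'_H (GmPts.ptOfUnit v) (v := v) (GmPts.gmFn_ptOfUnit v),
        GmPts.unitOfPt_ptOfUnit, zpow_natCast] at h1
      exact h1
    set C := s.calc' X
    set C' := s'.calc' X
    obtain ⟨t, ht⟩ := s'.eq_torus_mul_w hG' hTm'.2.2.1 hα' (n := (q : ℤ)) (by exact_mod_cast hq0.ne')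
      (C.w 1 ≫ f) (fun X' g v => by
        rw [← Category.assoc, s.comp_w, map_one, zpow_natCast, ← hH, ← GrpObj.inv_comp, ← GrpObj.inv_comp,
          ← MonObj.mul_comp, ← MonObj.mul_comp, (s.calc' X').w_conj_H]) (cX X)
    have h3 := congrArg (· ≫ f) (C.w_conj_P_self' (s.w_conj_P X) 1)
    simp only [MonObj.mul_comp, GrpObj.inv_comp] at h3
    rw [hP, Units.val_one, one_pow, _root_.mul_one, ht] at h3
    have ht1 := s'.torus_eq_one t (cX X) h3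
    rw [ht1, _root_.one_mul] at ht
    have e : C.w a = C.H a * C.w 1 := by rw [← (C.w_smul a 1).1, _root_.mul_one]
    rw [e, MonObj.mul_comp, hH, ht, ← (C'.w_smul (a ^ q) (cX X)).1, mul_comm]
  tfae_have 2 → 3 := by
    intro h
    refine key3 fun X b => RedR1.Sys.hom_M_of_w s s' f (cX X) hq0 (hq X) (hP X) ?_ b
    have h1 := h X (BGaNotS.gaPt 1) (BGaNotS.gaPt (-1)) (BGaNotS.gaPt (cX X : Γ(X.left, ⊤)))
      (BGaNotS.gaPt (-(↑(cX X)⁻¹ : Γ(X.left, ⊤))))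
      (by rw [BGaNotS.gaFn_gaPt, BGaNotS.gaFn_gaPt, _root_.mul_one])
      (by rw [BGaNotS.gaFn_gaPt, BGaNotS.gaFn_gaPt, one_pow, _root_.mul_one, hcX])
      (by rw [BGaNotS.gaFn_gaPt, BGaNotS.gaFn_gaPt, neg_mul, Units.inv_mul])
    rw [s.calc'_w _ _ (1 : (Γ(X.left, ⊤))ˣ) (by rw [BGaNotS.gaFn_gaPt, Units.val_one])
      (by rw [BGaNotS.gaFn_gaPt, inv_one, Units.val_one]),
      s'.calc'_w _ _ (cX X) (BGaNotS.gaFn_gaPt _) (BGaNotS.gaFn_gaPt _)] at h1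
    exact h1
  tfae_have 3 → 1 := by
    intro h X z
    have hM : ∀ b, (s.calc' X).M b ≫ f = (s'.calc' X).M ((↑(cX X)⁻¹ : Γ(X.left, ⊤)) * b ^ q) := fun b =>
      h X (BGaNotS.gaPt b) (BGaNotS.gaPt _) (by
        rw [BGaNotS.gaFn_gaPt, BGaNotS.gaFn_gaPt, ← hcX]
        linear_combination b ^ q * Units.inv_mul (cX X))
    rw [← zpow_natCast, s'.zpow_eq_H, s.calc'_H z (v := GmPts.unitOfPt z) rfl, zpow_natCast]
    exact RedR1.Sys.hom_H_of_M s s' f (cX X) hq0 (hq X) (hP X) hM _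
  tfae_finish

end Groth.Agent.S8478
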