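import Groth.Statements.S5366
import Groth.Agent.SubGen.Rat
import Groth.Agent.SubGen.Words
import Groth.Agent.Rigid.Smooth
import Mathlib

set_option autoImplicit false
universe u
open CategoryTheory CategoryTheory.Limits MonoidalCategory CartesianMonoidalCategory MonObj GrpObj AlgebraicGeometry
open SGA3

namespace Groth.Agent.S5366

open Groth.Agent.SubGen
set_option backward.isDefEq.respectTransparency false

variable {k : Type u} [Field k] {G : Over (Spec (CommRingCat.of k))} [GrpObj G]

/-- Precomposition. -/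
noncomputable def preHom {T U : Over (Spec (CommRingCat.of k))} (t : T ⟶ U) : (U ⟶ G) →* (T ⟶ G) where
  toFun h := t ≫ h
  map_one' := MonObj.comp_one t
  map_mul' x y := MonObj.comp_mul t x y

theorem core [Smooth G.hom] (Ω : Type u) [Field Ω] [Algebra k Ω] [IsAlgClosed Ω]
    (F : ∀ (H : Type u) [Group H], Subgroup H)
    (hmap : ∀ {H K : Type u} [Group H] [Group K] (φ : H →* K), ∀ x ∈ F H, φ x ∈ F K)
    (hsurj : ∀ {H K : Type u} [Group H] [Group K] (φ : H →* K), Function.Surjective φ → F K ≤ (F H).map φ)
    (hΩ : F (ptL k Ω ⟶ G) = ⊥) (T : Over (Spec (CommRingCat.of k))) : F (T ⟶ G) = ⊥ := by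
  classical
  haveI : GeometricallyReduced G.hom := Rigid.geometricallyReduced_of_smooth G.hom
  haveI : IsSeparated G.hom := ClosedRep.isSeparated_of_field k G
  haveI : IsClosedImmersion η[G].left := by
    haveI : IsClosedImmersion (η[G].left ≫ G.hom) := by
      rw [Over.w]; exact inferInstanceAs (IsClosedImmersion (𝟙 _))
    exact IsClosedImmersion.of_comp η[G].left G.hom
  rw [eq_bot_iff]
  intro g hg
  rw [Subgroup.mem_bot]
  obtain ⟨w, hw, rfl⟩ := hsurj (FreeGroup.lift (id : (T ⟶ G) → (T ⟶ G)))
    (fun x => ⟨FreeGroup.of x, FreeGroup.lift_apply_of⟩) hg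
  obtain ⟨L0, rfl⟩ := Quot.exists_rep w
  have huniv : ∀ L : List (T ⟶ G), ∃ (l : List Bool) (t : T ⟶ src G l) (φ : (T ⟶ G) → (src G l ⟶ G)),
      ∀ a ∈ L, t ≫ φ a = a := fun L => by
    induction L with
    | nil => exact ⟨[], toUnit T, fun _ => 1, by simp⟩
    | cons a L ih =>
      obtain ⟨l, t, φ, hφ⟩ := ih
      refine ⟨true :: l, lift a t, fun b => if b = a then fst G (src G l) else snd G (src G l) ≫ φ b, fun b hb => ?_⟩
      show lift a t ≫ (if b = a then fst G (src G l) else snd G (src G l) ≫ φ b) = b
      split_ifs with h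
      · rw [h, lift_fst]
      · rw [lift_snd_assoc]
        exact hφ b ((List.mem_cons.1 hb).resolve_left h)
  obtain ⟨l, t, φ, hφ⟩ := huniv (L0.map Prod.fst)
  haveI := geometricallyReduced_src G l
  haveI : LocallyOfFiniteType G.hom := inferInstance
  haveI := lft_src G l
  haveI : IsReduced (src G l).left :=
    GeometricallyReduced.geometrically_isReduced (f := (src G l).hom) (K := k) (𝟙 _) (𝟙 _) (src G l).hom
      (IsPullback.of_horiz_isIso ⟨by rw [Category.id_comp, Category.comp_id]⟩)
  have h1 : FreeGroup.lift φ (FreeGroup.mk L0) = 1 := by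
    set h := FreeGroup.lift φ (FreeGroup.mk L0) with hdef
    have hh : h ∈ F (src G l ⟶ G) := hmap (FreeGroup.lift φ) _ hw
    haveI : JacobsonSpace (src G l).left := LocallyOfFiniteType.jacobsonSpace (src G l).hom
    have hpre : h.left ⁻¹' Set.range η[G].left = Set.univ := by
      rw [← Set.univ_subset_iff, ← closure_closedPoints]
      refine closure_minimal (fun u hu => ?_) (η[G].left.isClosedEmbedding.isClosed_range.preimage h.left.continuous)
      obtain ⟨q, hq⟩ := GrpAct.exists_point (K := Ω) u hu
      have h2 : q ≫ h = 1 := by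
        have := hmap (preHom q) h hh
        rwa [hΩ, Subgroup.mem_bot] at this
      refine ⟨(toUnit (ptL k Ω)).left (IsLocalRing.closedPoint Ω), ?_⟩
      rw [← hq (IsLocalRing.closedPoint Ω), ← Scheme.Hom.comp_apply, ← Scheme.Hom.comp_apply, ← Over.comp_left,
        ← Over.comp_left, h2]
      rfl
    obtain ⟨g', hg'⟩ := RedSepLib.exists_lift_of_isReduced h.left η[G].left (by
      rintro _ ⟨u, rfl⟩
      exact hpre.ge (Set.mem_univ u))
    let g'' : src G l ⟶ 𝟙_ _ := Over.homMk g' (by rw [← Over.w η[G], reassoc_of% hg', Over.w])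
    rw [Hom.one_def, ← toUnit_unique g'' (toUnit _)]
    exact Over.OverMorphism.ext hg'.symm
  have e : FreeGroup.lift (id : (T ⟶ G) → (T ⟶ G)) (FreeGroup.mk L0) = preHom t (FreeGroup.lift φ (FreeGroup.mk L0)) := by
    rw [FreeGroup.lift_mk, FreeGroup.lift_mk, map_list_prod, List.map_map]
    congr 1
    refine List.map_congr_left fun x hx => ?_
    have hx' : preHom t (φ x.1) = x.1 := hφ x.1 (List.mem_map.2 ⟨x, hx, rfl⟩)
    cases hb : x.2 <;> simp [hb, hx']
  refine e.trans ?_
  rw [h1, map_one]


/-- (i) ⟺ (iii): let G be a smooth group scheme of finite type over a field k, Ω an algebraically closed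
extension field of k and n a natural number. Then G is solvable of class n (the n-th term of the
derived series of the group G(T) is trivial for every k-scheme T) if and only if the n-th term of
the derived series of the group of Ω-points G(Ω) is trivial; and G is nilpotent of class n (the n-th
term of the lower central series of G(T) is trivial for every T) if and only if the n-th term of the
lower central series of G(Ω) is trivial. -/
theorem result (k : Type u) [Field k] (G : Over (Spec (CommRingCat.of k))) [GrpObj G]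
    [Smooth G.hom] [QuasiCompact G.hom] (Ω : Type u) [Field Ω] [Algebra k Ω] [IsAlgClosed Ω] (n : ℕ) :
    ((∀ T : Over (Spec (CommRingCat.of k)), derivedSeries (T ⟶ G) n = ⊥) ↔ derivedSeries ((Over.mk (Spec.map (CommRingCat.ofHom (algebraMap k Ω))) : Over (Spec (CommRingCat.of k))) ⟶ G) n = ⊥) ∧
    ((∀ T : Over (Spec (CommRingCat.of k)), Subgroup.lowerCentralSeries (⊤ : Subgroup (T ⟶ G)) n = ⊥) ↔ Subgroup.lowerCentralSeries (⊤ : Subgroup (((Over.mk (Spec.map (CommRingCat.ofHom (algebraMap k Ω))) : Over (Spec (CommRingCat.of k))) ⟶ G))) n = ⊥) := by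
  refine ⟨⟨fun h => h _, fun h => ?_⟩, ⟨fun h => h _, fun h => ?_⟩⟩
  · exact core Ω (fun H _ => derivedSeries H n)
      (fun φ x hx => map_derivedSeries_le_derivedSeries φ n ⟨x, hx, rfl⟩)
      (fun φ hφ => (map_derivedSeries_eq hφ n).ge) h
  · refine core Ω (fun H _ => Subgroup.lowerCentralSeries (⊤ : Subgroup H) n) (fun φ x hx => ?_)
      (fun φ hφ => ?_) h
    · have := Subgroup.map_lowerCentralSeries (S := ⊤) φ n
      have hx' : φ x ∈ (Subgroup.lowerCentralSeries (⊤ : Subgroup _) n).map φ := ⟨x, hx, rfl⟩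
      rw [this] at hx'
      exact (Subgroup.lowerCentralSeries_mono n le_top) hx'
    · rw [Subgroup.map_lowerCentralSeries, Subgroup.map_top_of_surjective φ hφ]

end Groth.Agent.S5366
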