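import Groth.Statements.S15702
import Groth.Agent.UnitTensor.Basic
import Groth.Agent.Comod.Reductive
import Groth.Prelude.Def_HopfRep
import Groth.Prelude.Def_GLin
import Mathlib

set_option autoImplicit false
universe u
open GLin

namespace Groth.Agent.S15702

open TensorProduct Groth.Agent.UnitTensor
open scoped Classical

section
variable {k : Type*} [Field k] [IsAlgClosed k] {A : Type*} [CommRing A] [HopfAlgebra k A]
  [Algebra.FiniteType k A] [IsDomain A] {B : Type*} [CommRing B] [Algebra k B] [HopfRep.Comod k A B]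
  [GLin.IsCoactAlg k A B]

local notation "ρ" => GLin.coactAlgHom k A B

omit [IsAlgClosed k] [Algebra.FiniteType k A] [IsDomain A] in
theorem act_eq_spec (φ : A →ₐ[k] k) (b : B) : HopfRep.Comod.act k A B φ b = spec φ (ρ b) := by
  show (TensorProduct.rid k B) (LinearMap.lTensor B φ.toLinearMap (HopfRep.Comod.coact (k := k) (A := A) b)) = _
  rw [GLin.coactAlgHom_apply]
  generalize HopfRep.Comod.coact (k := k) (A := A) b = t
  induction t using TensorProduct.induction_on with
  | zero => simp
  | tmul x y => simp
  | add x y hx hy => simp only [map_add, hx, hy]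

omit [IsAlgClosed k] [Algebra.FiniteType k A] [IsDomain A] in
theorem act_act_antipode (φ : A →ₐ[k] k) (b : B) :
    HopfRep.Comod.act k A B φ (spec (φ.comp (HopfAlgebra.antipodeAlgHom k A)) (ρ b)) = b := by
  let T : (B ⊗[k] A) ⊗[k] A →ₗ[k] B :=
    TensorProduct.lift
      (((LinearMap.lsmul k B).comp (φ.toLinearMap ∘ₗ HopfAlgebra.antipode k)).flip ∘ₗ (spec φ).toLinearMap)
  have h1 : ∀ t : B ⊗[k] A, HopfRep.Comod.act k A B φ (spec (φ.comp (HopfAlgebra.antipodeAlgHom k A)) t) =
      T ((HopfRep.Comod.coact (k := k) (A := A)).rTensor A t) := by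
    intro t
    induction t using TensorProduct.induction_on with
    | zero => simp
    | tmul x a =>
      rw [spec_tmul, map_smul, act_eq_spec]
      rfl
    | add x y hx hy => simp only [map_add, hx, hy]
  have h2 : ∀ t : B ⊗[k] A, T ((TensorProduct.assoc k B A A).symm ((CoalgebraStruct.comul (R := k) (A := A)).lTensor B t)) =
      TensorProduct.rid k B ((CoalgebraStruct.counit (R := k) (A := A)).lTensor B t) := by
    intro t
    induction t using TensorProduct.induction_on with
    | zero => simp
    | tmul x a =>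
      rw [LinearMap.lTensor_tmul, LinearMap.lTensor_tmul, TensorProduct.rid_tmul]
      have e : (φ (algebraMap k A (CoalgebraStruct.counit (R := k) a))) • x = CoalgebraStruct.counit (R := k) a • x := by simp
      rw [← e, ← HopfAlgebra.mul_antipode_lTensor_comul_apply (R := k) a]
      generalize CoalgebraStruct.comul (R := k) a = s
      induction s using TensorProduct.induction_on with
      | zero => simp
      | tmul p q => simp [T, smul_smul, mul_comm]
      | add p q hp hq => simp only [tmul_add, map_add, hp, hq, add_smul]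
    | add x y hx hy => simp only [map_add, hx, hy]
  rw [h1, GLin.coactAlgHom_apply]
  have e : (HopfRep.Comod.coact (k := k) (A := A)).rTensor A (HopfRep.Comod.coact (k := k) (A := A) b) =
      (TensorProduct.assoc k B A A).symm ((CoalgebraStruct.comul (R := k) (A := A)).lTensor B (HopfRep.Comod.coact (k := k) (A := A) b)) :=
    (LinearEquiv.eq_symm_apply _).mpr (LinearMap.congr_fun HopfRep.Comod.coassoc b)
  rw [e, h2]
  have e2 : (CoalgebraStruct.counit (R := k) (A := A)).lTensor B (HopfRep.Comod.coact (k := k) (A := A) b) = b ⊗ₜ (1 : k) :=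
    LinearMap.congr_fun HopfRep.Comod.counit_comp b
  rw [e2, TensorProduct.rid_tmul, one_smul]

omit [IsAlgClosed k] [Algebra.FiniteType k A] [IsDomain A] [HopfRep.Comod k A B] [GLin.IsCoactAlg k A B] in
theorem coord_mul (c : B) (x : B ⊗[k] A) (j) : coord B ((c ⊗ₜ 1) * x) j = c * coord B x j := by
  induction x using TensorProduct.induction_on with
  | zero => simp
  | tmul r a =>
    simp [coord, TensorProduct.equivFinsuppOfBasisRight_apply_tmul_apply, mul_smul_comm]
  | add x y hx hy => simp only [mul_add, map_add, Finsupp.add_apply, hx, hy]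

theorem aux [IsDomain B] [UniqueFactorizationMonoid B]
    (hchar : ∀ a : A, IsGroupLikeElem k a → a = 1) (f g : B) (hg : g ≠ 0)
    (hinv : ∀ φ : A →ₐ[k] k, HopfRep.Comod.act k A B φ f * g = f * HopfRep.Comod.act k A B φ g) :
    ∃ f' g' : B, (∀ φ : A →ₐ[k] k, HopfRep.Comod.act k A B φ f' = f') ∧
      (∀ φ : A →ₐ[k] k, HopfRep.Comod.act k A B φ g' = g') ∧ g' ≠ 0 ∧ f * g' = f' * g := by
  obtain ⟨f', g', c, hrel, rfl, rfl⟩ := UniqueFactorizationMonoid.exists_reduced_factors' f g hg
  have hc : c ≠ 0 := left_ne_zero_of_mul hg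
  have hg' : g' ≠ 0 := right_ne_zero_of_mul hg
  obtain ⟨φ0, -⟩ := exists_point (k := k) (one_ne_zero (α := A))
  have hmulact : ∀ (φ : A →ₐ[k] k) (a b : B),
      HopfRep.Comod.act k A B φ (a * b) = HopfRep.Comod.act k A B φ a * HopfRep.Comod.act k A B φ b := fun φ a b => by
    simp only [act_eq_spec, map_mul]
  have hone : ∀ φ : A →ₐ[k] k, HopfRep.Comod.act k A B φ 1 = 1 := fun φ => by simp only [act_eq_spec, map_one]
  have hinj : ∀ φ : A →ₐ[k] k, Function.Injective (HopfRep.Comod.act k A B φ) := by
    intro φ
    have hS : (φ.comp (HopfAlgebra.antipodeAlgHom k A)).comp (HopfAlgebra.antipodeAlgHom k A) = φ := by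
      refine AlgHom.ext fun a => ?_
      show φ (HopfAlgebra.antipode k (HopfAlgebra.antipode k a)) = φ a
      exact congr_arg φ (Groth.Agent.Comod.antipodeAlgHom_antipode a)
    intro a b h
    rw [← act_act_antipode (φ.comp (HopfAlgebra.antipodeAlgHom k A)) a,
      ← act_act_antipode (φ.comp (HopfAlgebra.antipodeAlgHom k A)) b, hS, ← act_eq_spec, ← act_eq_spec, h]
  have hinv' : ∀ φ : A →ₐ[k] k, HopfRep.Comod.act k A B φ f' * g' = f' * HopfRep.Comod.act k A B φ g' := by
    intro φ
    have h := hinv φ
    rw [hmulact, hmulact] at h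
    have hc' : HopfRep.Comod.act k A B φ c ≠ 0 := fun h0 => hc (hinj φ (by rw [h0, map_zero]))
    refine mul_left_cancel₀ (mul_ne_zero hc hc') ?_
    linear_combination h
  have hρ : (ρ f') * (g' ⊗ₜ[k] (1 : A)) = (f' ⊗ₜ[k] (1 : A)) * ρ g' := by
    rw [← sub_eq_zero]
    refine eq_zero_of_forall_spec fun φ => ?_
    rw [map_sub, map_mul, map_mul, spec_tmul, spec_tmul, ← act_eq_spec, ← act_eq_spec, map_one, one_smul,
      one_smul, hinv', sub_self]
  have hdvd : ∀ j, g' ∣ coord B (ρ g') j := by
    intro j
    have h := congr_arg (fun x => coord B x j) hρ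
    rw [mul_comm (ρ f')] at h
    simp only [coord_mul] at h
    exact (IsRelPrime.dvd_of_dvd_mul_left hrel.symm (Dvd.intro _ h))
  choose y hy using hdvd
  let u : B ⊗[k] A := ∑ j ∈ (coord B (ρ g')).support, y j ⊗ₜ Module.Basis.ofVectorSpace k A j
  have hug : ρ g' = (g' ⊗ₜ[k] (1 : A)) * u := by
    conv_lhs => rw [eq_sum_coord (ρ g')]
    simp only [u, Finset.mul_sum, Algebra.TensorProduct.tmul_mul_tmul, one_mul, ← hy, Finsupp.sum]
  have hreg : ∀ z w : B ⊗[k] A, (g' ⊗ₜ[k] (1 : A)) * z = (g' ⊗ₜ[k] (1 : A)) * w → z = w := by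
    intro z w h
    refine (coord B).injective (Finsupp.ext fun j => ?_)
    have := congr_arg (fun x => coord B x j) h
    simp only [coord_mul] at this
    exact mul_left_cancel₀ hg' this
  have huf : ρ f' = (f' ⊗ₜ[k] (1 : A)) * u := by
    refine hreg _ _ ?_
    rw [mul_comm _ (ρ f'), hρ, hug]
    ring
  -- specialisations of `u` and an inverse of `u`
  have hsu : ∀ φ : A →ₐ[k] k, HopfRep.Comod.act k A B φ g' = g' * spec φ u := fun φ => by
    rw [act_eq_spec, hug, map_mul, spec_tmul, map_one, one_smul]
  let v : B ⊗[k] A := Algebra.TensorProduct.lift (ρ)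
    ((Algebra.TensorProduct.includeRight : A →ₐ[k] B ⊗[k] A).comp (HopfAlgebra.antipodeAlgHom k A))
    (fun _ _ => Commute.all _ _) u
  have hsv : ∀ φ : A →ₐ[k] k, spec φ v = HopfRep.Comod.act k A B φ (spec (φ.comp (HopfAlgebra.antipodeAlgHom k A)) u) := by
    intro φ
    simp only [v]
    generalize u = t
    induction t using TensorProduct.induction_on with
    | zero => simp
    | tmul x a =>
      rw [spec_tmul, map_smul, Algebra.TensorProduct.lift_tmul, map_mul, act_eq_spec, AlgHom.comp_apply,
        Algebra.TensorProduct.includeRight_apply, spec_tmul, mul_smul_comm, mul_one]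
      rfl
    | add x y hx hy => simp only [map_add, hx, hy]
  have huv : u * v = 1 := by
    rw [← sub_eq_zero]
    refine eq_zero_of_forall_spec fun φ => ?_
    rw [map_sub, map_mul, map_one, hsv, sub_eq_zero]
    refine mul_left_cancel₀ hg' ?_
    rw [mul_one, ← mul_assoc, ← hsu, ← hmulact]
    conv_rhs => rw [← act_act_antipode φ g', ← act_eq_spec, hsu]
  obtain ⟨b, a, hba⟩ := exists_eq_tmul_of_mul_eq_one huv
  -- normalise at the neutral element
  have hε : ∀ t : B, spec (Bialgebra.counitAlgHom k A) (ρ t) = t := by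
    intro t
    have e2 : (CoalgebraStruct.counit (R := k) (A := A)).lTensor B (HopfRep.Comod.coact (k := k) (A := A) t) = t ⊗ₜ (1 : k) :=
      LinearMap.congr_fun HopfRep.Comod.counit_comp t
    rw [← act_eq_spec]
    show (TensorProduct.rid k B) (LinearMap.lTensor B (Bialgebra.counitAlgHom k A).toLinearMap
      (HopfRep.Comod.coact (k := k) (A := A) t)) = t
    rw [show (Bialgebra.counitAlgHom k A).toLinearMap = CoalgebraStruct.counit from rfl, e2,
      TensorProduct.rid_tmul, one_smul]
  have hεu : spec (Bialgebra.counitAlgHom k A) u = 1 := by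
    refine mul_left_cancel₀ hg' ?_
    have h := hε g'
    rw [hug, map_mul, spec_tmul, map_one, one_smul] at h
    rw [h, mul_one]
  rw [hba, spec_tmul] at hεu
  set a' : A := (Bialgebra.counitAlgHom k A a)⁻¹ • a with ha'
  have he0 : Bialgebra.counitAlgHom k A a ≠ 0 := fun h => by
    rw [h, zero_smul] at hεu; exact zero_ne_one hεu
  have hu1 : u = (1 : B) ⊗ₜ a' := by
    rw [hba, ha', ← hεu, TensorProduct.smul_tmul, smul_smul, mul_inv_cancel₀ he0, one_smul]
  have hga : ρ g' = g' ⊗ₜ a' := by rw [hug, hu1, Algebra.TensorProduct.tmul_mul_tmul, one_mul, mul_one]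
  obtain ⟨θ, hθ⟩ := Module.Projective.exists_dual_ne_zero k hg'
  have hgl : IsGroupLikeElem k a' := by
    constructor
    · show Bialgebra.counitAlgHom k A a' = 1
      rw [ha', map_smul, smul_eq_mul, inv_mul_cancel₀ he0]
    · have h := LinearMap.congr_fun (HopfRep.Comod.coassoc (k := k) (A := A) (V := B)) g'
      simp only [LinearMap.comp_apply, ← GLin.coactAlgHom_apply k A] at h
      rw [hga] at h
      simp only [LinearMap.rTensor_tmul, ← GLin.coactAlgHom_apply k A, hga, LinearEquiv.coe_coe,
        TensorProduct.assoc_tmul, LinearMap.lTensor_tmul] at h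
      have h2 := congr_arg (fun x => TensorProduct.lid k (A ⊗[k] A) (θ.rTensor (A ⊗[k] A) x)) h
      simp only [LinearMap.rTensor_tmul, TensorProduct.lid_tmul] at h2
      exact (smul_right_injective (A ⊗[k] A) hθ h2).symm
  have hone' : u = 1 := by rw [hu1, hchar a' hgl]; rfl
  refine ⟨f', g', fun φ => ?_, fun φ => ?_, hg', by ring⟩
  · rw [act_eq_spec, huf, hone', mul_one, spec_tmul, map_one, one_smul]
  · rw [hsu, hone', map_one, mul_one]

end

/-- Let k be algebraically closed of characteristic zero, let G be a connected linear algebraic group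
over k without non-trivial characters acting on an integral affine k-variety Spec B of finite type
with B a unique factorisation domain; then the field of G-invariant rational functions is the
fraction field of the ring of invariants B^G. In coordinate-ring form: A is a commutative Hopf
algebra of finite type over k, a domain, whose only group-like element is 1; B is a k-algebra of
finite type, a domain and a unique factorisation monoid, with a coaction of A that is an algebra
map; k-points φ : A →ₐ[k] k act on B through the coaction. If f, g ∈ B, g ≠ 0, satisfy (φ·f) g = f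
(φ·g) for all φ, then f g' = f' g for some f', g' ∈ B fixed by all φ with g' ≠ 0. (The published
lemma allows G disconnected with character-free identity component; this row is the connected case
treated first in its proof.) -/
theorem result (k : Type u) [Field k] [IsAlgClosed k] [CharZero k]
    (A : Type u) [CommRing A] [HopfAlgebra k A] [Algebra.FiniteType k A] [IsDomain A]
    (hchar : ∀ a : A, IsGroupLikeElem k a → a = 1)
    (B : Type u) [CommRing B] [Algebra k B] [Algebra.FiniteType k B] [IsDomain B] [UniqueFactorizationMonoid B]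
    [HopfRep.Comod k A B] [GLin.IsCoactAlg k A B]
    (f g : B) (hg : g ≠ 0)
    (hinv : ∀ φ : A →ₐ[k] k, HopfRep.Comod.act k A B φ f * g = f * HopfRep.Comod.act k A B φ g) :
    ∃ f' g' : B, (∀ φ : A →ₐ[k] k, HopfRep.Comod.act k A B φ f' = f') ∧
      (∀ φ : A →ₐ[k] k, HopfRep.Comod.act k A B φ g' = g') ∧ g' ≠ 0 ∧ f * g' = f' * g := by
  exact aux hchar f g hg hinv

end Groth.Agent.S15702
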