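import Groth.Statements.S2966
import Groth.Agent.UnipMult.Basic
import Groth.Agent.Comod.Change

set_option autoImplicit false
universe u
open scoped TensorProduct
open SGA3t2b

namespace Groth.Agent.S2966

open Groth.Agent
set_option backward.isDefEq.respectTransparency false

/-- In Hopf-algebra form (with unipotent taken in the representation-theoretic sense: affine and every
non-zero finite-dimensional representation has a non-zero fixed vector): let k be a field, A_M the
coordinate Hopf algebra of an affine k-group M of finite type which is of multiplicative type in the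
sense that it becomes diagonalisable over an algebraic closure of k, and A_U that of a unipotent
affine k-group U of finite type. Then (i) every homomorphism M -> U and (ii) every homomorphism U ->
M is trivial: every bialgebra map A_U -> A_M, resp. A_M -> A_U, factors through the counit. -/
theorem result {k : Type u} [Field k] {AM AU : Type u} [CommRing AM] [CommRing AU]
    [HopfAlgebra k AM] [HopfAlgebra k AU] [Algebra.FiniteType k AM] [Algebra.FiniteType k AU]
    (hM : HopfRep.IsDiagonalizable (AlgebraicClosure k) (AlgebraicClosure k ⊗[k] AM)) (hU : HopfRep.IsUnipotent k AU) :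
    (∀ φ : AU →ₐc[k] AM, SGA3t2b.IsTrivialBialgHom φ) ∧ (∀ ψ : AM →ₐc[k] AU, SGA3t2b.IsTrivialBialgHom ψ) := by
  have hspan : ∀ f : AM, (1 : AlgebraicClosure k) ⊗ₜ[k] f ∈
      Submodule.span (AlgebraicClosure k) {g : AlgebraicClosure k ⊗[k] AM | IsGroupLikeElem (AlgebraicClosure k) g} :=
    fun f => (hM.symm ▸ Submodule.mem_top : _)
  refine ⟨fun φ a => ?_, fun ψ a => ?_⟩
  · rw [Algebra.algebraMap_eq_smul_one]
    refine UnipMult.eq_counit hU (1 : AM) (φ : AU →ₗ[k] AM) (map_one φ) (TensorProduct.mk k AM AM)
      Coalgebra.comul (fun u => ?_) (Bialgebra.comul_one) (fun u c h => ?_) a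
    · show Coalgebra.comul (φ u) = _
      rw [← CoalgHomClass.map_comp_comul_apply φ u]
      generalize Coalgebra.comul (R := k) u = z
      induction z using TensorProduct.induction_on with
      | zero => simp
      | tmul x y => rfl
      | add x y hx hy => simp only [map_add, hx, hy]
    · exact sub_eq_zero.1 (UnipMult.prim_eq_zero (K := AlgebraicClosure k) (hspan _) h)
  · classical
    obtain ⟨S, hS, hfin⟩ := Groth.Agent.Comod.exists_finite_subcomod_finset (K := k) (C := AM) (V := AM) {a}
    let W := Groth.Agent.Comod.ofDSub S
    let cW := ComodSub.Comod.restr (inferInstance : HopfRep.Comod k AM AM) W (Groth.Agent.Comod.isSubcomod_ofDSub S)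
    let cU := Groth.Agent.Comod.pushforward (ψ : AM →ₗc[k] AU) cW
    haveI : Module.Finite k W := hfin
    have h := @UnipMult.trivial_of_unipotent k _ AU _ _ hU AU _ _ (AU ⊗[k] AU) _ _ 1 LinearMap.id rfl
      (TensorProduct.mk k AU AU) Coalgebra.comul
      (fun u => by
        simp only [LinearMap.id_apply]
        generalize Coalgebra.comul (R := k) u = z
        induction z using TensorProduct.induction_on with
        | zero => simp
        | tmul x y => rfl
        | add x y hx hy => simp only [map_add, ← hx, ← hy])
      Bialgebra.comul_one (LinearMap.range (ψ : AM →ₗ[k] AU))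
      (fun u hu c hc => by
        obtain ⟨m, rfl⟩ := hu
        refine sub_eq_zero.1 (UnipMult.prim_eq_zero (K := AlgebraicClosure k) ?_ hc)
        let Φ := Bialgebra.TensorProduct.map (BialgHom.id (AlgebraicClosure k) (AlgebraicClosure k)) ψ
        have e : (1 : AlgebraicClosure k) ⊗ₜ[k] (LinearMap.id (R := k) ((ψ : AM →ₗ[k] AU) m) - c • 1) =
            Φ ((1 : AlgebraicClosure k) ⊗ₜ[k] (m - c • 1)) := by
          simp [Φ]
        rw [e]
        have := hspan (m - c • 1)
        generalize (1 : AlgebraicClosure k) ⊗ₜ[k] (m - c • 1) = y at this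
        induction this using Submodule.span_induction with
        | mem y hy => exact Submodule.subset_span (IsGroupLikeElem.map Φ hy)
        | zero => simp
        | add x y _ _ hx hy => rw [map_add]; exact add_mem hx hy
        | smul r x _ hx => rw [map_smul]; exact Submodule.smul_mem _ r hx)
      W _ _ cU hfin
      (fun w => by
        show (ψ : AM →ₗ[k] AU).lTensor W (cW.coact w) ∈ _
        refine ⟨(ψ : AM →ₗ[k] AU).rangeRestrict.lTensor W (cW.coact w), ?_⟩
        rw [← LinearMap.comp_apply, ← LinearMap.lTensor_comp]
        rfl)
      ⟨a, hS a (Finset.mem_singleton_self a)⟩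
    have h2 := congrArg (fun z => (TensorProduct.lid k AU) (((Coalgebra.counit (R := k) (A := AM)) ∘ₗ W.subtype).rTensor AU z)) h
    simp only [LinearMap.rTensor_tmul, LinearMap.comp_apply, Submodule.subtype_apply, TensorProduct.lid_tmul] at h2
    rw [Algebra.algebraMap_eq_smul_one, ← h2, LinearMap.lTensor_id, LinearMap.id_apply]
    show ψ a = (TensorProduct.lid k AU) (((Coalgebra.counit (R := k) (A := AM)) ∘ₗ W.subtype).rTensor AU
      ((ψ : AM →ₗ[k] AU).lTensor W (cW.coact ⟨a, hS a (Finset.mem_singleton_self a)⟩)))
    have h3 : ∀ z : W ⊗[k] AM, (TensorProduct.lid k AU)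
        (((Coalgebra.counit (R := k) (A := AM)) ∘ₗ W.subtype).rTensor AU ((ψ : AM →ₗ[k] AU).lTensor W z)) =
        ψ ((TensorProduct.lid k AM) ((Coalgebra.counit (R := k) (A := AM)).rTensor AM (W.subtype.rTensor AM z))) := by
      intro z
      induction z using TensorProduct.induction_on with
      | zero => simp
      | tmul x y => simp
      | add x y hx hy => simp only [map_add, hx, hy]
    rw [h3, ComodSub.restr_coact_coe]
    exact congrArg ψ ((one_smul k a).symm.trans (by
      rw [show HopfRep.Comod.coact (k := k) (A := AM) a = Coalgebra.comul a from rfl, Coalgebra.rTensor_counit_comul,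
        TensorProduct.lid_tmul]))

end Groth.Agent.S2966
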