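import Groth.Statements.S5256
import Groth.Agent.MTBridge.CentralFibres
-- import your own Groth.Agent.* helpers here

set_option autoImplicit false
open CategoryTheory MonoidalCategory CartesianMonoidalCategory MonObj GrpObj AlgebraicGeometry
universe u
open SGA3x

namespace Groth.Agent.S5256

/-- Let u : H ⟶ G be a homomorphism of S-groups, with H of multiplicative type and of finite type and G
of finite presentation over S (locally of finite presentation, quasi-compact and quasi-separated).
If for every s ∈ S the homomorphism u_s : H_s ⟶ G_s induced on the fibres at s is central (every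
point of G_s commutes with the image of every point of H_s), then u is central. -/
theorem result {S : Scheme.{u}} (H G : Over S) [GrpObj H] [GrpObj G]
    (hH : SGA3x.IsMultTypeFT H) [LocallyOfFinitePresentation G.hom] [QuasiCompact G.hom] [QuasiSeparated G.hom]
    (u : H ⟶ G) [IsMonHom u]
    (hfib : ∀ (s : S) (X : Over (Spec (S.residueField s))) (g : X ⟶ Red.bc (S.fromSpecResidueField s) G)
      (h : X ⟶ Red.bc (S.fromSpecResidueField s) H),
      g * (h ≫ (Over.pullback (S.fromSpecResidueField s)).map u) = (h ≫ (Over.pullback (S.fromSpecResidueField s)).map u) * g) :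
    ∀ (X : Over S) (g : X ⟶ G) (h : X ⟶ H), g * (h ≫ u) = (h ≫ u) * g := by
  intro X g h
  apply Over.OverMorphism.ext
  refine Groth.Agent.MTBridge.hom_ext_fromSpecStalk _ _ fun t => ?_
  let T : Type u := X.left.presheaf.stalk t
  let m : Spec (CommRingCat.of T) ⟶ X.left := X.left.fromSpecStalk t
  let f : Spec (CommRingCat.of T) ⟶ S := m ≫ X.hom
  obtain ⟨V, hV, hxV, -⟩ := exists_isAffineOpen_mem_and_subset
    (x := f (IsLocalRing.closedPoint T)) (U := ⊤) trivial
  let R : Type u := Γ(S, V)
  let j : Spec (CommRingCat.of R) ⟶ S := hV.fromSpec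
  have hr : Set.range f ⊆ Set.range j := by
    rintro _ ⟨z, rfl⟩
    rw [show Set.range j = (V : Set S) from hV.range_fromSpec]
    exact ((IsLocalRing.specializes_closedPoint (z : PrimeSpectrum T)).map f.continuous).mem_open V.2 hxV
  let φ : R →+* T := (Spec.preimage (IsOpenImmersion.lift j f hr)).hom
  letI : Algebra R T := φ.toAlgebra
  have hφ : Spec.map (CommRingCat.ofHom (algebraMap R T)) ≫ j = f := by
    rw [RingHom.algebraMap_toAlgebra, CommRingCat.ofHom_hom, Spec.map_preimage, IsOpenImmersion.lift_fac]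
  obtain ⟨A, _, _, hA, hAf, ⟨e⟩⟩ := Groth.Agent.MTBridge.exists_hopf (Red.bc j H)
    (Groth.Agent.MTBridge.isMultTypeFT_bc H j hH)
  haveI := hAf
  haveI : LocallyOfFiniteType (Red.bc j G).hom := by
    show LocallyOfFiniteType (Limits.pullback.snd G.hom j)
    infer_instance
  let v : (Groth.Agent.MTBridge.specGrp R A).X ⟶ Red.bc j G := e.inv.hom.hom ≫ (Over.pullback j).map u
  haveI : IsMonHom v := inferInstanceAs (IsMonHom (e.inv.hom.hom ≫ (Over.pullback j).map u))
  let a := (Over.mapPullbackAdj j).homEquiv ((Spec (CommRingCat.of T)).asOver (Spec (CommRingCat.of R)))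
  let μm : (Over.map j).obj ((Spec (CommRingCat.of T)).asOver (Spec (CommRingCat.of R))) ⟶ X :=
    Over.homMk m hφ.symm
  have hcentral : ∀ (Y : Over S) (K : Type u) [Field K] (b : Y.left ⟶ Spec (CommRingCat.of K))
      (w : Spec (CommRingCat.of K) ⟶ S), b ≫ w = Y.hom → ∀ (p : Y ⟶ G) (q : Y ⟶ H),
      p * (q ≫ u) = (q ≫ u) * p := by
    intro Y K _ b w hb p q
    refine Groth.Agent.MTBridge.comm_of_factor (S.fromSpecResidueField (w (IsLocalRing.closedPoint K))) u
      (hfib _) Y (b ≫ Spec.map (S.descResidueField (Scheme.stalkClosedPointTo w))) ?_ p q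
    rw [Category.assoc, Scheme.descResidueField_stalkClosedPointTo_fromSpecResidueField, hb]
  have hfib' : ∀ (K : Type u) [Field K] [Algebra R K] (T : Type u) [CommRing T] [Algebra R T] [Algebra K T]
      [IsScalarTower R K T] (p : Groth.Agent.MTBridge.Pt (Red.bc j G) T)
      (q : Groth.Agent.MTBridge.Pt (Groth.Agent.MTBridge.specGrp R A).X T), p * (q ≫ v) = (q ≫ v) * p := by
    intro K _ _ T _ _ _ _ p q
    let b := (Over.mapPullbackAdj j).homEquiv ((Spec (CommRingCat.of T)).asOver (Spec (CommRingCat.of R)))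
    have h1 := hcentral _ K (Spec.map (CommRingCat.ofHom (algebraMap K T)))
      (Spec.map (CommRingCat.ofHom (algebraMap R K)) ≫ j) (by
        show Spec.map (CommRingCat.ofHom (algebraMap K T)) ≫ Spec.map (CommRingCat.ofHom (algebraMap R K)) ≫ j =
          Spec.map (CommRingCat.ofHom (algebraMap R T)) ≫ j
        rw [← Category.assoc, ← Spec.map_comp, ← CommRingCat.ofHom_comp, ← IsScalarTower.algebraMap_eq]) ((b G).symm p) ((b H).symm (q ≫ e.inv.hom.hom))
    have h2 := congrArg (Groth.Agent.MTBridge.toBC j) h1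
    rw [Groth.Agent.MTBridge.toBC_mul, Groth.Agent.MTBridge.toBC_mul, Groth.Agent.MTBridge.toBC_comp] at h2
    simp only [Groth.Agent.MTBridge.toBC, b, Equiv.apply_symm_apply, Category.assoc] at h2
    exact h2
  have key := Groth.Agent.MTBridge.central_affine hA v hfib' (T := T)
    (Groth.Agent.MTBridge.toBC j (μm ≫ g)) (Groth.Agent.MTBridge.toBC j (μm ≫ h) ≫ e.hom.hom.hom)
  have he : e.hom.hom.hom ≫ e.inv.hom.hom = 𝟙 _ := ((Grp.forget _).mapIso e).hom_inv_id
  simp only [v, Category.assoc, reassoc_of% he] at key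
  rw [← Groth.Agent.MTBridge.toBC_comp, ← Groth.Agent.MTBridge.toBC_mul, ← Groth.Agent.MTBridge.toBC_mul] at key
  have key2 := ((Over.mapPullbackAdj j).homEquiv _ G).injective key
  rw [Category.assoc, ← MonObj.comp_mul, ← MonObj.comp_mul] at key2
  exact congrArg (fun w => w.left) key2

end Groth.Agent.S5256
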