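import Groth.Statements.S0384
import Groth.Agent.Nagata.Noether
import Groth.Agent.Nagata.Reduce
-- import your own Groth.Agent.* helpers here

set_option autoImplicit false
universe u
open FlatMor

namespace Groth.Agent.S0384

open AlgebraicGeometry CategoryTheory Limits in
/-- Nagata compactification: a separated morphism of finite type to a quasi-compact quasi-separated
scheme factors as a quasi-compact open immersion followed by a proper morphism. -/
theorem result {X S : Scheme.{u}} (f : X ⟶ S) [CompactSpace S] [QuasiSeparatedSpace S] [IsSeparated f] [QuasiCompact f] [LocallyOfFiniteType f] :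
    ∃ (Xc : Scheme.{u}) (j : X ⟶ Xc) (g : Xc ⟶ S), IsOpenImmersion j ∧ QuasiCompact j ∧ IsProper g ∧ j ≫ g = f := by
  obtain ⟨X₀, S₀, f₀, a, i, _, _, _, _, _, hi⟩ := Groth.Agent.Nagata.exists_reduction f
  obtain ⟨Y, j, p, _, _, _, hj⟩ := Groth.Agent.Nagata.exists_compactification f₀
  let m : pullback f₀ a ⟶ pullback p a := pullback.map f₀ a p a j (𝟙 S) (𝟙 S₀) (by simp [hj]) (by simp)
  have hm : m ≫ pullback.snd p a = pullback.snd f₀ a :=
    (pullback.lift_snd _ _ _).trans (Category.comp_id _)
  haveI : IsOpenImmersion m := inferInstanceAs (IsOpenImmersion (pullback.map f₀ a p a j (𝟙 S) (𝟙 S₀) _ _))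
  haveI : QuasiCompact m := by
    haveI : QuasiCompact (m ≫ pullback.snd p a) := by rw [hm]; infer_instance
    exact QuasiCompact.of_comp m (pullback.snd p a)
  exact Groth.Agent.Nagata.comp_of_immersion f (i ≫ m) (pullback.snd p a) (by rw [Category.assoc, hm, hi])

end Groth.Agent.S0384
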