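import Groth.Statements.S1989
import Groth.Agent.EtRamTower.Basic

set_option autoImplicit false
universe u
open EtAlg

namespace Groth.Agent.S1989

/-- Let K be the fraction field of a discrete valuation ring A, and K ⊂ L ⊂ M finite separable
extensions. If M is tamely ramified, respectively unramified, with respect to A, then so is L. -/
theorem result (A K : Type u) [CommRing A] [IsDomain A] [IsDiscreteValuationRing A] [Field K] [Algebra A K] [IsFractionRing A K] (L M : Type u) [Field L] [Field M]
    [Algebra K L] [Algebra K M] [Algebra L M] [IsScalarTower K L M] [FiniteDimensional K M] [Algebra.IsSeparable K M] :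
    (EtRam.IsTamelyRamified A ((algebraMap K M).comp (algebraMap A K)) →
      EtRam.IsTamelyRamified A ((algebraMap K L).comp (algebraMap A K))) ∧
    (EtRam.IsUnramifiedExt A ((algebraMap K M).comp (algebraMap A K)) →
      EtRam.IsUnramifiedExt A ((algebraMap K L).comp (algebraMap A K))) := by
  letI : Algebra A L := ((algebraMap K L).comp (algebraMap A K)).toAlgebra
  letI : Algebra A M := ((algebraMap K M).comp (algebraMap A K)).toAlgebra
  haveI : FiniteDimensional K L := FiniteDimensional.left K L M
  haveI : Algebra.IsSeparable K L := Algebra.isSeparable_tower_bot_of_isSeparable K L M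
  have hgM : (algebraMap L M).comp ((algebraMap K L).comp (algebraMap A K)) =
      (algebraMap K M).comp (algebraMap A K) := by
    rw [← RingHom.comp_assoc, ← IsScalarTower.algebraMap_eq]
  have hinjL : Function.Injective ((algebraMap K L).comp (algebraMap A K)) :=
    (algebraMap K L).injective.comp (IsFractionRing.injective A K)
  constructor
  · intro hM V hV
    obtain ⟨W, rfl⟩ := EtRamTower.exists_comap_eq (algebraMap L M) V
    have hW : EtRam.Dominates A ((algebraMap K M).comp (algebraMap A K)) W :=
      hgM ▸ (EtRamTower.dominates_comap_iff _ _ W).1 hV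
    intro hloc
    letI : Algebra A (W.comap (algebraMap L M)) :=
      (RingHom.codRestrict ((algebraMap K L).comp (algebraMap A K)) (W.comap (algebraMap L M)) hV.1).toAlgebra
    haveI : IsLocalHom (algebraMap A (W.comap (algebraMap L M))) := hloc
    letI : Algebra A W := (RingHom.codRestrict ((algebraMap K M).comp (algebraMap A K)) W hW.1).toAlgebra
    letI : Algebra (W.comap (algebraMap L M)) W :=
      (RingHom.codRestrict ((algebraMap L M).comp (W.comap (algebraMap L M)).subtype) W (fun v => v.2)).toAlgebra
    haveI : IsScalarTower A (W.comap (algebraMap L M)) W :=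
      IsScalarTower.of_algebraMap_eq fun a => Subtype.ext (RingHom.congr_fun hgM a).symm
    haveI : IsLocalHom (algebraMap A W) := EtRamTower.isLocalHom_codRestrict _ _ hW
    haveI : IsLocalHom (algebraMap (W.comap (algebraMap L M)) W) :=
      EtRam.isLocalHom_inclOfComap W (algebraMap L M)
    obtain ⟨h1, h2⟩ := @hM W hW (EtRamTower.isLocalHom_codRestrict _ _ hW)
    refine ⟨(EtRamTower.isSeparable_residue_iff.1 h1).1, fun p hp hc hdvd => h2 p hp hc ?_⟩
    haveI := EtRamTower.isDiscreteValuationRing_of_dominates A K L _ hV
    haveI := EtRamTower.isDiscreteValuationRing_of_dominates A K M _ hW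
    rw [EtRamTower.ramificationIdx'_mul (A := A) (B := W.comap (algebraMap L M)) (C := W) ?_ ?_]
    · exact hdvd.mul_right _
    · rw [Ne, Ideal.map_eq_bot_iff_of_injective (fun a b e => hinjL (congrArg Subtype.val e))]
      exact IsDiscreteValuationRing.not_a_field A
    · rw [Ne, Ideal.map_eq_bot_iff_of_injective (fun a b e => Subtype.ext ((algebraMap L M).injective
        (congrArg Subtype.val e)))]
      exact IsDiscreteValuationRing.not_a_field _
  · intro hM V hV
    obtain ⟨W, rfl⟩ := EtRamTower.exists_comap_eq (algebraMap L M) V
    have hW : EtRam.Dominates A ((algebraMap K M).comp (algebraMap A K)) W :=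
      hgM ▸ (EtRamTower.dominates_comap_iff _ _ W).1 hV
    intro hloc
    letI : Algebra A (W.comap (algebraMap L M)) :=
      (RingHom.codRestrict ((algebraMap K L).comp (algebraMap A K)) (W.comap (algebraMap L M)) hV.1).toAlgebra
    haveI : IsLocalHom (algebraMap A (W.comap (algebraMap L M))) := hloc
    letI : Algebra A W := (RingHom.codRestrict ((algebraMap K M).comp (algebraMap A K)) W hW.1).toAlgebra
    letI : Algebra (W.comap (algebraMap L M)) W :=
      (RingHom.codRestrict ((algebraMap L M).comp (W.comap (algebraMap L M)).subtype) W (fun v => v.2)).toAlgebra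
    haveI : IsScalarTower A (W.comap (algebraMap L M)) W :=
      IsScalarTower.of_algebraMap_eq fun a => Subtype.ext (RingHom.congr_fun hgM a).symm
    haveI : IsLocalHom (algebraMap A W) := EtRamTower.isLocalHom_codRestrict _ _ hW
    haveI : IsLocalHom (algebraMap (W.comap (algebraMap L M)) W) :=
      EtRam.isLocalHom_inclOfComap W (algebraMap L M)
    obtain ⟨h1, h2⟩ := @hM W hW (EtRamTower.isLocalHom_codRestrict _ _ hW)
    refine ⟨EtRamTower.weaklyUnramified_bot (φ := algebraMap L M) (g := (algebraMap K L).comp (algebraMap A K))
      hinjL W hV.1 (fun a => by rw [hgM]; exact hW.1 a) hV.2 ?_, (EtRamTower.isSeparable_residue_iff.1 h2).1⟩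
    refine Eq.trans ?_ h1
    congr 1
    exact RingHom.ext fun a => Subtype.ext (RingHom.congr_fun hgM a)

end Groth.Agent.S1989
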