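import Groth.Statements.S1990
import Groth.Agent.EtRamTower.Basic

set_option autoImplicit false
universe u
open EtAlg

namespace Groth.Agent.S1990

/-- Let K be the fraction field of a discrete valuation ring A, and K ⊂ L ⊂ M finite separable
extensions. If L/K is tamely ramified (resp. unramified) with respect to A and M/L is tamely
ramified (resp. unramified) with respect to every valuation subring of L dominating A, then M/K is
tamely ramified (resp. unramified) with respect to A. -/
theorem result (A K : Type u) [CommRing A] [IsDomain A] [IsDiscreteValuationRing A] [Field K] [Algebra A K] [IsFractionRing A K] (L M : Type u) [Field L] [Field M]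
    [Algebra K L] [Algebra K M] [Algebra L M] [IsScalarTower K L M] [FiniteDimensional K M] [Algebra.IsSeparable K M] :
    (EtRam.IsTamelyRamified A ((algebraMap K L).comp (algebraMap A K)) →
      (∀ (V : ValuationSubring L), EtRam.Dominates A ((algebraMap K L).comp (algebraMap A K)) V →
        EtRam.IsTamelyRamified V ((algebraMap L M).comp V.subtype)) →
      EtRam.IsTamelyRamified A ((algebraMap K M).comp (algebraMap A K))) ∧
    (EtRam.IsUnramifiedExt A ((algebraMap K L).comp (algebraMap A K)) →
      (∀ (V : ValuationSubring L), EtRam.Dominates A ((algebraMap K L).comp (algebraMap A K)) V →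
        EtRam.IsUnramifiedExt V ((algebraMap L M).comp V.subtype)) →
      EtRam.IsUnramifiedExt A ((algebraMap K M).comp (algebraMap A K))) := by
  letI : Algebra A L := ((algebraMap K L).comp (algebraMap A K)).toAlgebra
  letI : Algebra A M := ((algebraMap K M).comp (algebraMap A K)).toAlgebra
  haveI : FiniteDimensional K L := FiniteDimensional.left K L M
  haveI : Algebra.IsSeparable K L := Algebra.isSeparable_tower_bot_of_isSeparable K L M
  have hgM : (algebraMap L M).comp ((algebraMap K L).comp (algebraMap A K)) =
      (algebraMap K M).comp (algebraMap A K) := by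
    rw [← RingHom.comp_assoc, ← IsScalarTower.algebraMap_eq]
  have hinjL : Function.Injective ((algebraMap K L).comp (algebraMap A K)) :=
    (algebraMap K L).injective.comp (IsFractionRing.injective A K)
  constructor
  · intro hL hML W hW
    have hV : EtRam.Dominates A ((algebraMap K L).comp (algebraMap A K)) (W.comap (algebraMap L M)) :=
      (EtRamTower.dominates_comap_iff _ _ W).2 (hgM.symm ▸ hW)
    intro hloc
    letI : Algebra A (W.comap (algebraMap L M)) :=
      (RingHom.codRestrict ((algebraMap K L).comp (algebraMap A K)) (W.comap (algebraMap L M)) hV.1).toAlgebra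
    haveI : IsLocalHom (algebraMap A (W.comap (algebraMap L M))) := EtRamTower.isLocalHom_codRestrict _ _ hV
    letI : Algebra A W := (RingHom.codRestrict ((algebraMap K M).comp (algebraMap A K)) W hW.1).toAlgebra
    letI : Algebra (W.comap (algebraMap L M)) W :=
      (RingHom.codRestrict ((algebraMap L M).comp (W.comap (algebraMap L M)).subtype) W (fun v => v.2)).toAlgebra
    haveI : IsScalarTower A (W.comap (algebraMap L M)) W :=
      IsScalarTower.of_algebraMap_eq fun a => Subtype.ext (RingHom.congr_fun hgM a).symm
    haveI : IsLocalHom (algebraMap A W) := EtRamTower.isLocalHom_codRestrict _ _ hW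
    haveI : IsLocalHom (algebraMap (W.comap (algebraMap L M)) W) :=
      EtRam.isLocalHom_inclOfComap W (algebraMap L M)
    have hVW : EtRam.Dominates (W.comap (algebraMap L M))
        ((algebraMap L M).comp (W.comap (algebraMap L M)).subtype) W :=
      ⟨fun v => v.2, fun v hv => (W.valuation_lt_one_iff _).1 (map_nonunit (EtRam.inclOfComap W (algebraMap L M)) v hv)⟩
    obtain ⟨h1, h2⟩ := @hL _ hV (EtRamTower.isLocalHom_codRestrict _ _ hV)
    obtain ⟨k1, k2⟩ := @hML _ hV W hVW (EtRamTower.isLocalHom_codRestrict _ _ hVW)
    refine ⟨EtRamTower.isSeparable_residue_iff.2 ⟨h1, k1⟩, fun p hp hc hdvd => ?_⟩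
    haveI := EtRamTower.isDiscreteValuationRing_of_dominates A K L _ hV
    haveI := EtRamTower.isDiscreteValuationRing_of_dominates A K M _ hW
    have ne1 : (IsLocalRing.maximalIdeal A).map (algebraMap A (W.comap (algebraMap L M))) ≠ ⊥ := by
      rw [Ne, Ideal.map_eq_bot_iff_of_injective (fun a b e => hinjL (congrArg Subtype.val e))]
      exact IsDiscreteValuationRing.not_a_field A
    have ne2 : (IsLocalRing.maximalIdeal (W.comap (algebraMap L M))).map (algebraMap (W.comap (algebraMap L M)) W) ≠ ⊥ := by
      rw [Ne, Ideal.map_eq_bot_iff_of_injective (fun a b e => Subtype.ext ((algebraMap L M).injective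
        (congrArg Subtype.val e)))]
      exact IsDiscreteValuationRing.not_a_field _
    rw [EtRamTower.ramificationIdx'_mul ne1 ne2] at hdvd
    rcases hp.dvd_mul.1 hdvd with hd | hd
    · exact h2 p hp hc hd
    · haveI := hc
      exact k2 p hp (charP_of_injective_algebraMap (algebraMap (IsLocalRing.ResidueField A)
        (IsLocalRing.ResidueField (W.comap (algebraMap L M)))).injective p) hd
  · intro hL hML W hW
    have hV : EtRam.Dominates A ((algebraMap K L).comp (algebraMap A K)) (W.comap (algebraMap L M)) :=
      (EtRamTower.dominates_comap_iff _ _ W).2 (hgM.symm ▸ hW)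
    intro hloc
    letI : Algebra A (W.comap (algebraMap L M)) :=
      (RingHom.codRestrict ((algebraMap K L).comp (algebraMap A K)) (W.comap (algebraMap L M)) hV.1).toAlgebra
    haveI : IsLocalHom (algebraMap A (W.comap (algebraMap L M))) := EtRamTower.isLocalHom_codRestrict _ _ hV
    letI : Algebra A W := (RingHom.codRestrict ((algebraMap K M).comp (algebraMap A K)) W hW.1).toAlgebra
    letI : Algebra (W.comap (algebraMap L M)) W :=
      (RingHom.codRestrict ((algebraMap L M).comp (W.comap (algebraMap L M)).subtype) W (fun v => v.2)).toAlgebra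
    haveI : IsScalarTower A (W.comap (algebraMap L M)) W :=
      IsScalarTower.of_algebraMap_eq fun a => Subtype.ext (RingHom.congr_fun hgM a).symm
    haveI : IsLocalHom (algebraMap A W) := EtRamTower.isLocalHom_codRestrict _ _ hW
    haveI : IsLocalHom (algebraMap (W.comap (algebraMap L M)) W) :=
      EtRam.isLocalHom_inclOfComap W (algebraMap L M)
    have hVW : EtRam.Dominates (W.comap (algebraMap L M))
        ((algebraMap L M).comp (W.comap (algebraMap L M)).subtype) W :=
      ⟨fun v => v.2, fun v hv => (W.valuation_lt_one_iff _).1 (map_nonunit (EtRam.inclOfComap W (algebraMap L M)) v hv)⟩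
    obtain ⟨h1, h2⟩ := @hL _ hV (EtRamTower.isLocalHom_codRestrict _ _ hV)
    obtain ⟨k1, k2⟩ := @hML _ hV W hVW (EtRamTower.isLocalHom_codRestrict _ _ hVW)
    refine ⟨?_, EtRamTower.isSeparable_residue_iff.2 ⟨h2, k2⟩⟩
    show (IsLocalRing.maximalIdeal A).map (algebraMap A W) = _
    rw [IsScalarTower.algebraMap_eq A (W.comap (algebraMap L M)) W, ← Ideal.map_map]
    exact (congrArg (Ideal.map _) h1).trans k1

end Groth.Agent.S1990
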