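import Groth.Statements.S0820
import Groth.Agent.Devissage.Apply2

set_option autoImplicit false
universe u
open Coherent

set_option backward.isDefEq.respectTransparency false
namespace Groth.Agent.S0820

open CategoryTheory AlgebraicGeometry in
/-- Let f : Y → X be finite and surjective with X locally Noetherian, and let i : Z → X be a closed
immersion from an integral scheme, ξ the image of the generic point of Z. Then some coherent
O_Y-module F has f_* F supported exactly on i(Z), with the stalk of f_* F at ξ killed by every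
element of 𝔪_{X,ξ}, the maximal ideal of O_{X,ξ}. -/
theorem result {Y X : Scheme.{u}} (f : Y ⟶ X) [IsFinite f]
    [Surjective f] [IsLocallyNoetherian X] (Z : Scheme.{u}) (i : Z ⟶ X) [IsClosedImmersion i] [IsIntegral Z] :
    ∃ F : Y.Modules, Coh.IsCoh F ∧ CohB1.support ((Coh.push f).obj F) = Set.range ⇑i ∧
      ∀ a ∈ IsLocalRing.maximalIdeal (X.presheaf.stalk (i (genericPoint Z))),
        ∀ m : ↑(((Coh.push f).obj F).presheaf.stalk (i (genericPoint Z))), a • m = 0 := by
  haveI : IsLocallyNoetherian Y := LocallyOfFiniteType.isLocallyNoetherian f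
  obtain ⟨η', hη'⟩ := f.surjective (i (genericPoint Z))
  have hrange : Set.range ⇑i = closure {i (genericPoint Z)} := by
    refine Set.Subset.antisymm ?_ (closure_minimal (by simp) i.isClosedEmbedding.isClosed_range)
    rintro _ ⟨z, rfl⟩
    exact specializes_iff_mem_closure.1
      (((genericPoint_spec Z).specializes trivial).map i.continuous)
  haveI : (Coh.structureModule
      (Scheme.IdealSheafData.vanishingIdeal (Devissage.Zc η')).subscheme).IsQuasicoherent :=
    QC.isQCoh_unit _
  have hc : Coh.IsCoh (Devissage.A η') :=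
    QC.isCoh_pushforward_of_isFinite (Devissage.Zi η') (Devissage.isCoh_unit _).2
  refine ⟨Devissage.A η', hc, ?_, ?_⟩
  · rw [hrange]
    ext y
    constructor
    · intro hy
      by_contra hyc
      refine hy ⟨fun a b => ?_⟩
      suffices h : ∀ m : ((Coh.push f).obj (Devissage.A η')).presheaf.stalk y, m = 0 from (h a).trans (h b).symm
      intro m
      obtain ⟨W, hyW, s, rfl⟩ := TopCat.Presheaf.exists_germ_eq _ m
      let V : X.Opens := W ⊓ ⟨(closure {i (genericPoint Z)})ᶜ, isClosed_closure.isOpen_compl⟩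
      have hyV : y ∈ V := ⟨hyW, hyc⟩
      have h0 : ((Coh.push f).obj (Devissage.A η')).presheaf.map
          (homOfLE (inf_le_left : V ≤ W)).op s = 0 := by
        refine Devissage.A_sep η' _ fun h => absurd (subset_closure ?_) h.2
        exact hη'
      rw [← TopCat.Presheaf.germ_res_apply _ (homOfLE (inf_le_left : V ≤ W)) y hyV s, h0, map_zero]
    · intro hy hs
      have h := @Subsingleton.elim _ hs
        (((Coh.push f).obj (Devissage.A η')).presheaf.germ ⊤ y trivial
          ((Devissage.η η').app (f ⁻¹ᵁ ⊤) (1 : Γ(Y, f ⁻¹ᵁ ⊤)))) 0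
      obtain ⟨V, hV, iU, iV, he⟩ := TopCat.Presheaf.germ_eq _ (U := ⊤) (V := ⊤) y (trivial : y ∈ (⊤ : X.Opens))
        (trivial : y ∈ (⊤ : X.Opens)) _ 0 (h.trans (map_zero _).symm)
      have h1 : QC.res (Devissage.A η') (f.preimage_mono iU.le)
          ((Devissage.η η').app (f ⁻¹ᵁ ⊤) (1 : Γ(Y, f ⁻¹ᵁ ⊤))) = 0 := he.trans (map_zero _)
      rw [QC.app_res, show QC.res (Coh.structureModule Y) (f.preimage_mono iU.le)
        (1 : Γ(Y, f ⁻¹ᵁ ⊤)) = (1 : Γ(Y, f ⁻¹ᵁ V)) from map_one (QC.resO Y _)] at h1
      have hξV : i (genericPoint Z) ∈ V :=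
        (specializes_iff_mem_closure.2 hy).mem_open V.2 hV
      exact (Devissage.η_eq_zero_iff η' (1 : Γ(Y, f ⁻¹ᵁ V))).1 h1
        (show f η' ∈ V from hη'.symm ▸ hξV) (by rw [map_one]; exact isUnit_one)
  · intro a ha m
    obtain ⟨W, hW, a', rfl⟩ := X.presheaf.exists_germ_eq a
    obtain ⟨W', hW', s, rfl⟩ := TopCat.Presheaf.exists_germ_eq _ m
    let V : X.Opens := W ⊓ W'
    have hV : i (genericPoint Z) ∈ V := ⟨hW, hW'⟩
    let a'' : Γ(X, V) := X.presheaf.map (homOfLE (inf_le_left : V ≤ W)).op a'
    let s'' := ((Coh.push f).obj (Devissage.A η')).presheaf.map (homOfLE (inf_le_right : V ≤ W')).op s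
    have h0 : a'' • s'' = 0 := by
      refine Devissage.A_sep η' _ fun h => ?_
      change WeakAssLib.mgerm (Devissage.A η') h ((f.app V).hom a'' • (show Γ(Devissage.A η', f ⁻¹ᵁ V) from s'')) = 0
      rw [WeakAssLib.mgerm_smul]
      refine Devissage.smul_stalk_of_killed (Devissage.killed_push _) _ ?_ _
      intro hu
      refine ha ?_
      have hu2 : IsUnit (f.stalkMap η' ((X.presheaf.germ V (f η') h).hom a'')) := by
        rw [Scheme.Hom.germ_stalkMap_apply]; exact hu
      have hu3 := isUnit_of_map_unit (f.stalkMap η').hom _ hu2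
      have : ∀ (y : X) (e : y = i (genericPoint Z)) (hy : y ∈ V),
          IsUnit ((X.presheaf.germ V y hy).hom a'') →
            IsUnit ((X.presheaf.germ W (i (genericPoint Z)) hW).hom a') := by
        rintro y rfl hy hy'
        rwa [X.presheaf.germ_res_apply (homOfLE (inf_le_left : V ≤ W)) _ hy a'] at hy'
      exact this _ hη' h hu3
    rw [← X.presheaf.germ_res_apply (homOfLE (inf_le_left : V ≤ W)) _ hV a',
      ← TopCat.Presheaf.germ_res_apply _ (homOfLE (inf_le_right : V ≤ W')) _ hV s]
    exact (WeakAssLib.mgerm_smul ((Coh.push f).obj (Devissage.A η')) hV a'' s'').symm.trans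
      ((congrArg _ h0).trans (map_zero _))

end Groth.Agent.S0820
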