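import Groth.Statements.S0021
import Groth.Agent.W7Hull.PushSub
import Groth.Agent.Devissage.Apply2
import Groth.Agent.CohQC.Affineness
import Groth.Agent.CohQC.QuasiAffine
import Groth.Agent.CohFinite.Sequence
import Groth.Agent.S0820
import Groth.Agent.S0012
import Groth.Agent.S0007

set_option autoImplicit false
universe u
open Coherent

set_option backward.isDefEq.respectTransparency false
open CategoryTheory CategoryTheory.Limits AlgebraicGeometry
namespace Groth.Agent.S0021

open AlgebraicGeometry in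
/-- Let f : Y → X be finite and surjective with Y affine and X Noetherian. Then X is affine. -/
theorem result {Y X : Scheme.{u}} (f : Y ⟶ X) [IsFinite f]
    [Surjective f] [IsAffine Y] [IsNoetherian X] : IsAffine X := by
  refine CohQC.isAffine_of_subH1Zero fun I i hi hI => ?_
  haveI := hi
  refine key I (QC.isCoh_of_mono i (Devissage.isCoh_unit X) hI)
where
  retract (A B : X.Modules) (p : A ⟶ B) (q : B ⟶ A) (h : q ≫ p = 𝟙 B)
      (hA : Subsingleton (Coh.HH X A 1)) : Subsingleton (Coh.HH X B 1) := by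
    refine @Subsingleton.intro _ fun x y => ?_
    suffices ∀ z : Coh.HH X B 1, z = 0 from (this x).trans (this y).symm
    intro z
    have h1 : Sheaf.H.map ((SheafOfModules.toSheaf X.ringCatSheaf).map (𝟙 B)) 1 z = z := by
      rw [CategoryTheory.Functor.map_id]
      exact Abelian.Ext.comp_mk₀_id z
    rw [← h1, ← h, (SheafOfModules.toSheaf X.ringCatSheaf).map_comp, Sheaf.H.map_comp_apply,
      @Subsingleton.elim _ hA (Sheaf.H.map ((SheafOfModules.toSheaf X.ringCatSheaf).map q) 1 z) 0,
      map_zero]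
  key (M : X.Modules) (hM : Coh.IsCoh M) : Subsingleton (Coh.HH X M 1) := by
    refine Devissage.extension_roots (fun N : X.Modules => Subsingleton (Coh.HH X N 1))
      (fun A B ⟨e⟩ h => ?_) (fun A hA => ?_) ⊤ (fun S hS _ _ _ h1 h3 => ?_) (fun A r _ hr h => ?_)
      (fun ξ _ => Or.inr ?_) M hM (Set.subset_univ _)
    · exact retract A B e.hom e.inv e.inv_hom_id h
    · refine @Subsingleton.intro _ fun x y => ?_
      suffices ∀ z : Coh.HH X A 1, z = 0 from (this x).trans (this y).symm
      intro z
      have h1 : Sheaf.H.map (0 : Coh.toAb A ⟶ Coh.toAb A) 1 z = z := by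
        rw [((SheafOfModules.toSheaf X.ringCatSheaf).map_isZero hA).eq_of_src (0 : Coh.toAb A ⟶ Coh.toAb A) (𝟙 _)]
        exact Abelian.Ext.comp_mk₀_id z
      rw [← h1]
      change Abelian.Ext.comp z (Abelian.Ext.mk₀ (0 : Coh.toAb A ⟶ Coh.toAb A)) (add_zero 1) = 0
      rw [Abelian.Ext.mk₀_zero, Abelian.Ext.comp_zero]
    · have hT := hS.map_of_exact (CohQC.toAbF X)
      refine @Subsingleton.intro _ fun x y => ?_
      suffices ∀ z : Coh.HH X S.X₂ 1, z = 0 from (this x).trans (this y).symm
      intro z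
      obtain ⟨w, hw⟩ := (CohFinite.map_g_eq_zero_iff hT 1 z).1
        (@Subsingleton.elim _ h3 _ _)
      rw [← hw, @Subsingleton.elim _ h1 w 0, map_zero]
    · exact retract _ A (Sigma.desc fun _ : Fin r => 𝟙 A) (Sigma.ι (fun _ : Fin r => A) ⟨0, hr⟩)
        (Sigma.ι_desc _ _) h
    · haveI := Devissage.Zi_isIntegral ξ
      obtain ⟨N, hN, hs, hk⟩ := S0820.result f _ (Devissage.Zi ξ)
      rw [Devissage.genericPoint_Zi] at hk
      rw [Devissage.range_Zi] at hs
      haveI : N.IsQuasicoherent := hN.1
      refine ⟨(Coh.push f).obj N, QC.isCoh_pushforward_of_isFinite f hN.2, hs.le,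
        hs ▸ subset_closure rfl, hk, fun J hJ => ?_⟩
      obtain ⟨M', m, hm, hM', h0, hsurj⟩ := W7Hull.exists_push_sub f J N hN.1
      haveI := hm
      haveI : M'.IsQuasicoherent := hM'
      let ι' : (Coh.push f).obj M' ⟶ (Dual3.idealMul J).obj ((Coh.push f).obj N) :=
        kernel.lift _ ((Coh.push f).map m) h0
      have hι : ι' ≫ Dual3.idealMulι J ((Coh.push f).obj N) = (Coh.push f).map m :=
        kernel.lift_ι _ _ _
      haveI : Mono (ι' ≫ Dual3.idealMulι J ((Coh.push f).obj N)) := by rw [hι]; infer_instance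
      refine ⟨(Coh.push f).obj M', ι', mono_of_mono ι' (Dual3.idealMulι J ((Coh.push f).obj N)),
        QC.isQCoh_pushforward f, ?_, ?_⟩
      · rw [hι]; exact hsurj ξ hJ
      · obtain ⟨e⟩ := S0012.result f M' 1
        haveI := S0007.result Y M' 1 Nat.one_pos
        exact e.symm.toEquiv.subsingleton

end Groth.Agent.S0021
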