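import Groth.Statements.S7629
import Groth.Agent.Birat.Basic
import Groth.Agent.GeomProp.BCStalk

set_option autoImplicit false
universe u
open CategoryTheory CategoryTheory.Limits AlgebraicGeometry
open Variety

namespace Groth.Agent.S7629

/-- (2) ⇒ (3): let X and Y be varieties over a field k (integral, separated, of finite type) and suppose
the function fields k(X) and k(Y) are isomorphic as k-algebras. Then there are nonempty open
subschemes U ⊆ X and V ⊆ Y which are isomorphic as schemes over k. -/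
theorem result (k : Type u) [Field k] (X : Scheme.{u}) [X.Over (Spec (CommRingCat.of k))] [IsIntegral X] [IsSeparated (X ↘ (Spec (CommRingCat.of k)))] [LocallyOfFiniteType (X ↘ (Spec (CommRingCat.of k)))] [QuasiCompact (X ↘ (Spec (CommRingCat.of k)))]
    (Y : Scheme.{u}) [Y.Over (Spec (CommRingCat.of k))] [IsIntegral Y] [IsSeparated (Y ↘ (Spec (CommRingCat.of k)))] [LocallyOfFiniteType (Y ↘ (Spec (CommRingCat.of k)))] [QuasiCompact (Y ↘ (Spec (CommRingCat.of k)))]
    (e : X.functionField ≅ Y.functionField)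
    (he : e.hom.hom.comp (Curv2.stalkMap k X (genericPoint X)) = Curv2.stalkMap k Y (genericPoint Y)) :
    ∃ (U : X.Opens) (V : Y.Opens), (U : Set ↥X).Nonempty ∧
      ∃ φ : (U : Scheme.{u}) ≅ (V : Scheme.{u}), φ.hom ≫ V.ι ≫ (Y ↘ (Spec (CommRingCat.of k))) = U.ι ≫ (X ↘ (Spec (CommRingCat.of k))) := by
  haveI : LocallyOfFinitePresentation (X ↘ Spec (CommRingCat.of k)) := inferInstance
  haveI : LocallyOfFinitePresentation (Y ↘ Spec (CommRingCat.of k)) := inferInstance
  have hh : Spec.map e.inv ≫ Y.fromSpecStalk (genericPoint Y) ≫ (Y ↘ Spec (CommRingCat.of k)) =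
      X.fromSpecStalk (genericPoint X) ≫ (X ↘ Spec (CommRingCat.of k)) := by
    rw [GeomProp.fromSpecStalk_over k Y, GeomProp.fromSpecStalk_over k X, ← Spec.map_comp]
    congr 1
    refine CommRingCat.hom_ext (RingHom.ext fun c => ?_)
    show e.inv.hom (Curv2.stalkMap k Y (genericPoint Y) c) = Curv2.stalkMap k X (genericPoint X) c
    rw [← he]
    exact e.hom_inv_id_apply _
  haveI : IsIso e.inv := inferInstance
  obtain ⟨U, hxU, V, hyV, f, hf, -, -, hfk, -⟩ := Birat.exists_isIso_lfp (X ↘ Spec (CommRingCat.of k))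
    (Y ↘ Spec (CommRingCat.of k)) e.inv hh ⊤ trivial ⊤ trivial
  exact ⟨U, V, ⟨_, hxU⟩, asIso f, hfk⟩

end Groth.Agent.S7629
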