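import Groth.Statements.S2469
import Mathlib
import Groth.Agent.CartierEq.Basic
import Groth.Agent.FSField.Basic

set_option autoImplicit false
set_option linter.style.haveILetI false
universe u
open EGA41

namespace Groth.Agent.S2469

/-- Let L be a finitely generated extension field of K. Then Ω_{L/K} and the imperfection module Υ_{L/K}
(kernel of Ω_{K/ℤ} ⊗_K L → Ω_{L/ℤ}) are finite-dimensional L-vector spaces and rank Ω_{L/K} − rank
Υ_{L/K} equals the transcendence degree of L over K. -/
theorem result {K L : Type u} [Field K] [Field L] [Algebra K L] [Algebra.EssFiniteType K L] :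
    Module.Finite L (Ω[L⁄K]) ∧ Module.Finite L (EGA41.imperfection ℤ K L) ∧
      (Module.finrank L (Ω[L⁄K]) : ℤ) - Module.finrank L (EGA41.imperfection ℤ K L) = Cardinal.toNat (Algebra.trdeg K L) := by
  obtain ⟨h1, h2, h3⟩ := CartierEq.cartier_equality K L
  haveI := h2
  have hr : EGA41.imperfection ℤ K L = LinearMap.range (Algebra.H1Cotangent.δ ℤ K L) :=
    LinearMap.exact_iff.mp (Algebra.H1Cotangent.exact_δ_mapBaseChange ℤ K L)
  have hz : Algebra.H1Cotangent.map ℤ K L L = 0 := by
    obtain ⟨p, hp⟩ := ExpChar.exists K
    cases hp with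
    | zero =>
      haveI : CharZero L := charZero_of_injective_algebraMap (algebraMap K L).injective
      haveI : Algebra.FormallySmooth ℚ L := FSField.formallySmooth_of_perfectField ℚ L
      haveI : IsScalarTower ℚ K L := IsScalarTower.of_algebraMap_eq' (Subsingleton.elim _ _)
      haveI : IsScalarTower ℤ ℚ K := IsScalarTower.of_algebraMap_eq' (Subsingleton.elim _ _)
      haveI : IsScalarTower ℤ ℚ L := IsScalarTower.of_algebraMap_eq' (Subsingleton.elim _ _)
      haveI : IsScalarTower ℤ K L := IsScalarTower.of_algebraMap_eq' (Subsingleton.elim _ _)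
      exact CartierEq.h1Cotangent_map_eq_zero ℤ ℚ K L
    | prime hq =>
      haveI := Fact.mk hq
      haveI : CharP L p := charP_of_injective_algebraMap (algebraMap K L).injective p
      letI := ZMod.algebra K p
      letI := ZMod.algebra L p
      haveI : Algebra.FormallySmooth (ZMod p) L := FSField.formallySmooth_of_perfectField (ZMod p) L
      haveI : IsScalarTower (ZMod p) K L := IsScalarTower.of_algebraMap_eq' (Subsingleton.elim _ _)
      haveI : IsScalarTower ℤ (ZMod p) K := IsScalarTower.of_algebraMap_eq' (Subsingleton.elim _ _)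
      haveI : IsScalarTower ℤ (ZMod p) L := IsScalarTower.of_algebraMap_eq' (Subsingleton.elim _ _)
      haveI : IsScalarTower ℤ K L := IsScalarTower.of_algebraMap_eq' (Subsingleton.elim _ _)
      exact CartierEq.h1Cotangent_map_eq_zero ℤ (ZMod p) K L
  have hinj : Function.Injective (Algebra.H1Cotangent.δ ℤ K L) := by
    rw [← LinearMap.ker_eq_bot, LinearMap.exact_iff.mp (Algebra.H1Cotangent.exact_map_δ ℤ K L), hz,
      LinearMap.range_zero]
  rw [hr]
  have h4 := LinearMap.finrank_range_of_inj hinj
  exact ⟨h1, inferInstance, by omega⟩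

end Groth.Agent.S2469
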