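import Groth.Statements.S2451
import Mathlib
import Groth.Agent.FSField.Basic
-- import your own Groth.Agent.* helpers here

set_option autoImplicit false
universe u
open EGA41

namespace Groth.Agent.S2451
open scoped TensorProduct

theorem linearIndepOn_pow {k L : Type u} [Field k] [Field L] [Algebra k L] (p : ℕ) (hp : p.Prime) [CharP k p]
    [Algebra.IsGeometricallyReduced k L] (s : Finset L) (hs : LinearIndepOn k _root_.id (s : Set L)) :
    LinearIndepOn k (· ^ p) (s : Set L) := by
  classical
  haveI : Fact p.Prime := ⟨hp⟩
  let kb := AlgebraicClosure k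
  haveI : CharP kb p := charP_of_injective_algebraMap (algebraMap k kb).injective p
  haveI : IsReduced (kb ⊗[k] L) := (Algebra.isGeometricallyReduced_field_iff k L).mp inferInstance
  haveI : Nontrivial (kb ⊗[k] L) := (Algebra.TensorProduct.includeRight_injective (A := kb) (B := L) (algebraMap k kb).injective).nontrivial
  haveI : CharP (kb ⊗[k] L) p := charP_of_injective_algebraMap (algebraMap kb (kb ⊗[k] L)).injective p
  unfold LinearIndepOn
  rw [Fintype.linearIndependent_iff]
  intro g hg i
  choose d hd using fun j => IsAlgClosed.exists_pow_nat_eq (algebraMap k kb (g j)) hp.pos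
  have hz : (∑ j, d j ⊗ₜ[k] (j : L)) ^ p = (0 : kb ⊗[k] L) := by
    rw [sum_pow_char]
    have h1 : ∀ j, (d j ⊗ₜ[k] (j : L)) ^ p = (1 : kb) ⊗ₜ[k] (g j • (j : L) ^ p) := fun j => by
      rw [Algebra.TensorProduct.tmul_pow, hd, Algebra.algebraMap_eq_smul_one, TensorProduct.smul_tmul]
    rw [Finset.sum_congr rfl fun j _ => h1 j, ← TensorProduct.tmul_sum, hg, TensorProduct.tmul_zero]
  have hz0 : (∑ j, d j ⊗ₜ[k] (j : L)) = (0 : kb ⊗[k] L) := IsReduced.eq_zero _ ⟨p, hz⟩
  let b := Module.Basis.extend hs
  have hd0 : d i = 0 := by
    have hmem : (i : L) ∈ LinearIndepOn.extend hs (Set.subset_univ _) :=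
      LinearIndepOn.subset_extend hs _ i.2
    have h2 := congr((b.baseChange kb).repr $hz0 ⟨i, hmem⟩)
    rw [map_sum, map_zero, Finsupp.coe_zero, Pi.zero_apply, Finsupp.finsetSum_apply] at h2
    have h3 : ∀ j : (s : Set L), (b.baseChange kb).repr (d j ⊗ₜ[k] (j : L)) ⟨i, hmem⟩ = if j = i then d j else 0 := by
      intro j
      have hj : (j : L) ∈ LinearIndepOn.extend hs (Set.subset_univ _) := LinearIndepOn.subset_extend hs _ j.2
      have : (j : L) = b ⟨j, hj⟩ := (Module.Basis.extend_apply_self hs ⟨j, hj⟩).symm
      rw [Module.Basis.baseChange_repr_tmul, this, b.repr_self, Finsupp.single_apply]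
      by_cases h : j = i
      · subst h; simp
      · rw [if_neg h]
        split_ifs with h'
        · exact (h (Subtype.ext (by simpa using congrArg Subtype.val h'))).elim
        · rw [zero_smul]
    rw [Finset.sum_congr rfl fun j _ => h3 j] at h2
    simpa using h2
  have := hd i
  rw [hd0, zero_pow hp.ne_zero] at this
  exact (_root_.map_eq_zero (algebraMap k kb)).mp this.symm

theorem isReduced_tensor {k K : Type u} [Field k] [Field K] [Algebra k K] [Algebra.FormallySmooth k K]
    (B : Type u) [Field B] [Algebra k B] [Module.Finite k B] : IsReduced (B ⊗[k] K) := by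
  classical
  let C := B ⊗[k] K
  haveI : IsArtinianRing C := by
    haveI : IsArtinianRing (K ⊗[k] B) := IsArtinianRing.of_finite K _
    exact (Algebra.TensorProduct.comm k K B).toRingEquiv.isArtinianRing
  have main : ∀ (F : Type) [Field F] [PerfectField F] [Algebra F B], IsReduced C := by
    intro F _ _ _
    haveI := Groth.Agent.FSField.formallySmooth_of_perfectField F B
    haveI : IsScalarTower F B C := inferInstance
    haveI : Algebra.FormallySmooth F C := .comp F B C
    refine isReduced_ofLocalizationMaximal C fun M hM => ?_
    haveI : Algebra.FormallySmooth C (Localization.AtPrime M) := .of_isLocalization M.primeCompl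
    haveI : Algebra.FormallySmooth F (Localization.AtPrime M) := .comp F C _
    haveI : IsArtinianRing (Localization.AtPrime M) := inferInstance
    have h := Groth.Agent.FSField.maximalIdeal_eq_bot F (Localization.AtPrime M)
    letI := (IsLocalRing.isField_iff_maximalIdeal_eq.mpr h).toField
    exact inferInstance
  obtain ⟨p, hp⟩ := CharP.exists B
  rcases eq_or_ne p 0 with rfl | hp0
  · haveI : CharZero B := CharP.charP_to_charZero _
    exact main ℚ
  · haveI : Fact p.Prime := ⟨(CharP.char_is_prime_or_zero B p).resolve_right hp0⟩
    letI : Algebra (ZMod p) B := ZMod.algebra _ p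
    exact main (ZMod p)

end Groth.Agent.S2451

namespace Groth.Agent.S2451

/-- Let k ⊆ K be fields with the discrete topologies. Then K is a formally smooth k-algebra if and only
if K is separable over k (K ⊗_k k' reduced for every extension k', i.e. geometrically reduced). -/
theorem result {k K : Type u} [Field k] [Field K] [Algebra k K] :
    Algebra.FormallySmooth k K ↔ Algebra.IsGeometricallyReduced k K := by
  classical
  constructor
  · intro h
    rw [Algebra.isGeometricallyReduced_field_iff]
    haveI : IsReduced (TensorProduct k K (AlgebraicClosure k)) := by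
      refine IsReduced.tensorProduct_of_flat_of_forall_fg fun B hB => ?_
      haveI : Algebra.IsIntegral k B := Algebra.IsIntegral.of_injective B.val Subtype.val_injective
      haveI : Algebra.FiniteType k B := (Subalgebra.fg_iff_finiteType B).mp hB
      haveI : Module.Finite k B := Algebra.IsIntegral.finite
      letI : Field B := (Algebra.IsIntegral.isField_iff_isField (R := k) (S := B)
        (FaithfulSMul.algebraMap_injective k B)).mp (Field.toIsField k) |>.toField
      haveI := isReduced_tensor (k := k) (K := K) B
      exact isReduced_of_injective (Algebra.TensorProduct.comm k K B) (Algebra.TensorProduct.comm k K B).injective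
    exact isReduced_of_injective (Algebra.TensorProduct.comm k (AlgebraicClosure k) K)
      (Algebra.TensorProduct.comm k (AlgebraicClosure k) K).injective
  · intro h
    refine Groth.Agent.FSField.formallySmooth_of_forall_finset k K fun s => ?_
    let L := IntermediateField.adjoin k (s : Set K)
    haveI : Algebra.EssFiniteType k L := IntermediateField.essFiniteType_iff.mpr (IntermediateField.fg_adjoin_finset _)
    haveI : Algebra.IsGeometricallyReduced k L := Algebra.IsGeometricallyReduced.of_injective L.val L.val.injective
    obtain ⟨p, hp⟩ := CharP.exists k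
    rcases eq_or_ne p 0 with rfl | hp0
    · haveI : CharZero k := CharP.charP_to_charZero _
      haveI : PerfectField k := PerfectField.ofCharZero
      exact Algebra.FormallySmooth.of_perfectField
    · have hp' := (CharP.char_is_prime_or_zero k p).resolve_right hp0
      haveI : ExpChar k p := ExpChar.prime hp'
      haveI : CharP L p := charP_of_injective_algebraMap (algebraMap k L).injective p
      haveI : ExpChar L p := ExpChar.prime hp'
      obtain ⟨t, ht, hsep⟩ := exists_isTranscendenceBasis_and_isSeparable_of_linearIndepOn_pow_of_essFiniteType
        p hp' (k := k) (K := L) (fun s hs => linearIndepOn_pow p hp' s hs)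
      have : Algebra.IsSeparable (IntermediateField.adjoin k (Set.range ((↑) : t → L))) L := by
        convert hsep <;> simp
      exact Algebra.FormallySmooth.of_algebraicIndependent_of_isSeparable ht.1

end Groth.Agent.S2451
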