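import Groth.Statements.S4523
-- import your own Groth.Agent.* helpers here
import Groth.Agent.S2451
import Groth.Agent.S2469

set_option autoImplicit false
universe u
open EGA41

namespace Groth.Agent.S4523

/-- Let k ⊆ K be fields. Then K is a separable extension of k if and only if the imperfection module
Υ_{K/k} vanishes, i.e. the canonical map Ω_{k/ℤ} ⊗_k K → Ω_{K/ℤ} is injective, and if and only if
every derivation of k into K extends to a derivation of K into itself. (No hypothesis on the
characteristic.) -/
theorem result {k K : Type u} [Field k] [Field K] [Algebra k K] :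
    (Algebra.IsGeometricallyReduced k K ↔ EGA41.imperfection ℤ k K = ⊥) ∧
    (Algebra.IsGeometricallyReduced k K ↔
      ∀ D : Derivation ℤ k K, ∃ D' : Derivation ℤ K K, ∀ a : k, D' (algebraMap k K a) = D a) := by
  open TensorProduct in
  have hr : EGA41.imperfection ℤ k K = LinearMap.range (Algebra.H1Cotangent.δ ℤ k K) :=
    LinearMap.exact_iff.mp (Algebra.H1Cotangent.exact_δ_mapBaseChange ℤ k K)
  have hz : Algebra.H1Cotangent.map ℤ k K K = 0 := by
    obtain ⟨p, hp⟩ := ExpChar.exists k
    cases hp with
    | zero =>
      haveI : CharZero K := charZero_of_injective_algebraMap (algebraMap k K).injective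
      haveI : Algebra.FormallySmooth ℚ K := FSField.formallySmooth_of_perfectField ℚ K
      haveI : IsScalarTower ℚ k K := IsScalarTower.of_algebraMap_eq' (Subsingleton.elim _ _)
      haveI : IsScalarTower ℤ ℚ k := IsScalarTower.of_algebraMap_eq' (Subsingleton.elim _ _)
      haveI : IsScalarTower ℤ ℚ K := IsScalarTower.of_algebraMap_eq' (Subsingleton.elim _ _)
      haveI : IsScalarTower ℤ k K := IsScalarTower.of_algebraMap_eq' (Subsingleton.elim _ _)
      exact CartierEq.h1Cotangent_map_eq_zero ℤ ℚ k K
    | prime hq =>
      haveI := Fact.mk hq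
      haveI : CharP K p := charP_of_injective_algebraMap (algebraMap k K).injective p
      letI := ZMod.algebra k p
      letI := ZMod.algebra K p
      haveI : Algebra.FormallySmooth (ZMod p) K := FSField.formallySmooth_of_perfectField (ZMod p) K
      haveI : IsScalarTower (ZMod p) k K := IsScalarTower.of_algebraMap_eq' (Subsingleton.elim _ _)
      haveI : IsScalarTower ℤ (ZMod p) k := IsScalarTower.of_algebraMap_eq' (Subsingleton.elim _ _)
      haveI : IsScalarTower ℤ (ZMod p) K := IsScalarTower.of_algebraMap_eq' (Subsingleton.elim _ _)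
      haveI : IsScalarTower ℤ k K := IsScalarTower.of_algebraMap_eq' (Subsingleton.elim _ _)
      exact CartierEq.h1Cotangent_map_eq_zero ℤ (ZMod p) k K
  have hinj : Function.Injective (Algebra.H1Cotangent.δ ℤ k K) := by
    rw [← LinearMap.ker_eq_bot, LinearMap.exact_iff.mp (Algebra.H1Cotangent.exact_map_δ ℤ k K), hz,
      LinearMap.range_zero]
  have h1 : Algebra.IsGeometricallyReduced k K ↔ EGA41.imperfection ℤ k K = ⊥ := by
    rw [← Groth.Agent.S2451.result, hr, LinearMap.range_eq_bot]
    refine ⟨fun h => ?_, fun h => ?_⟩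
    · exact LinearMap.ext fun x => by
        rw [Subsingleton.elim x 0, map_zero, LinearMap.zero_apply]
    · haveI : Subsingleton (Algebra.H1Cotangent k K) := ⟨fun a b => hinj (by rw [h]; rfl)⟩
      exact ⟨inferInstance, inferInstance⟩
  refine ⟨h1, h1.trans ?_⟩
  rw [EGA41.imperfection, LinearMap.ker_eq_bot]
  refine ⟨fun h D => ?_, fun h => ?_⟩
  · obtain ⟨g, hg⟩ := LinearMap.exists_leftInverse_of_injective (KaehlerDifferential.mapBaseChange ℤ k K)
      (LinearMap.ker_eq_bot.mpr h)
    refine ⟨(D.liftKaehlerDifferential.liftBaseChange K ∘ₗ g).compDer (KaehlerDifferential.D ℤ K), fun a => ?_⟩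
    show D.liftKaehlerDifferential.liftBaseChange K (g (KaehlerDifferential.D ℤ K (algebraMap k K a))) = D a
    have h2 : KaehlerDifferential.D ℤ K (algebraMap k K a) =
        KaehlerDifferential.mapBaseChange ℤ k K ((1 : K) ⊗ₜ[k] KaehlerDifferential.D ℤ k a) := by simp
    rw [h2, ← LinearMap.comp_apply g, hg]
    simp
  · refine (injective_iff_map_eq_zero _).mpr fun z hz0 => (Module.forall_dual_apply_eq_zero_iff K z).mp fun φ => ?_
    let D : Derivation ℤ k K :=
      (φ.restrictScalars k ∘ₗ TensorProduct.mk k K Ω[k⁄ℤ] 1).compDer (KaehlerDifferential.D ℤ k)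
    obtain ⟨D', hD'⟩ := h D
    have h3 : φ = D'.liftKaehlerDifferential ∘ₗ KaehlerDifferential.mapBaseChange ℤ k K := by
      refine TensorProduct.AlgebraTensorModule.curry_injective (LinearMap.ext_ring ?_)
      refine Derivation.liftKaehlerDifferential_unique _ _ (Derivation.ext fun a => ?_)
      simpa [D] using (hD' a).symm
    rw [h3, LinearMap.comp_apply, hz0, map_zero]

end Groth.Agent.S4523
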