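import Groth.Statements.S4562
import Mathlib.RingTheory.DedekindDomain.IntegralClosure
import Mathlib.FieldTheory.Normal.Closure
import Mathlib.FieldTheory.Galois.Basic
import Mathlib.FieldTheory.PurelyInseparable.Basic

set_option autoImplicit false
universe u
open CAlg

namespace Groth.Agent.S4562

theorem finite_of_separable (A C P L E : Type u) [CommRing A] [IsNoetherianRing A] [CommRing C]
    [IsDomain C] [Algebra A C] [Module.Finite A C] [Field P] [Algebra C P] [IsFractionRing C P]
    [IsIntegrallyClosed C] [Field E] [Algebra P E] [FiniteDimensional P E] [Algebra.IsSeparable P E]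
    [Algebra C E] [IsScalarTower C P E] [Algebra A E] [IsScalarTower A C E]
    [Field L] [Algebra A L] (j : L →ₐ[A] E) : Module.Finite A (integralClosure A L) := by
  haveI : IsNoetherianRing C := IsNoetherianRing.of_finite A C
  haveI : Module.Finite C (integralClosure C E) :=
    IsIntegralClosure.finite C P E (integralClosure C E)
  haveI : Module.Finite A (integralClosure C E) := Module.Finite.trans C _
  haveI : IsNoetherian A (integralClosure C E) := isNoetherian_of_isNoetherianRing_of_finite A _
  let f : integralClosure A L →ₗ[A] integralClosure C E :=
    { toFun := fun z => ⟨j z, IsIntegral.tower_top ((z.2 : IsIntegral A (z : L)).map j)⟩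
      map_add' := fun z w => Subtype.ext (map_add j (z : L) w)
      map_smul' := fun a z => Subtype.ext (map_smul j a (z : L)) }
  exact Module.Finite.of_injective f fun z w hzw =>
    Subtype.ext (j.toRingHom.injective (congrArg Subtype.val hzw))

theorem isPurelyInseparable_fixed (K E : Type u) [Field K] [Field E] [Algebra K E] [Normal K E] :
    IsPurelyInseparable K (IntermediateField.fixedField (⊤ : Subgroup Gal(E/K))) := by
  rw [isPurelyInseparable_iff]
  intro x
  have hxi : IsIntegral K (x : E) := Algebra.IsIntegral.isIntegral _
  have hm : minpoly K (x : E) = minpoly K x :=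
    minpoly.algHom_eq (IntermediateField.fixedField (⊤ : Subgroup Gal(E/K))).val
      Subtype.val_injective x
  refine ⟨minpoly.ne_zero_iff.1 (hm ▸ minpoly.ne_zero hxi), fun hsep => ?_⟩
  have hsub : ∀ y ∈ (minpoly K (x : E)).rootSet E, y = (x : E) := by
    intro y hy
    obtain ⟨σ, hσ⟩ := minpoly.exists_algEquiv_of_root' (y := (x : E)) hxi.isAlgebraic
      (Polynomial.mem_rootSet.1 hy).2
    rw [← hσ]
    exact (IntermediateField.mem_fixedField_iff _ _).1 x.2 σ trivial
  have hcard := Polynomial.card_rootSet_eq_natDegree (K := E)
    (p := minpoly K (x : E)) (hm ▸ hsep) (Normal.splits inferInstance (x : E))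
  have hle : Fintype.card ((minpoly K (x : E)).rootSet E) ≤ 1 :=
    Fintype.card_le_one_iff.2 fun a b => Subtype.ext ((hsub a a.2).trans (hsub b b.2).symm)
  have hdeg : (minpoly K x).natDegree = 1 := by
    rw [← hm]
    have := minpoly.natDegree_pos hxi
    omega
  exact minpoly.natDegree_eq_one_iff.1 hdeg

/-- Let A be a Noetherian domain with fraction field K. If the integral closure of A in every finite
purely inseparable extension of K is a finitely generated A-module, then A is Japanese (N-2). -/
theorem result (A : Type u) [CommRing A] [IsDomain A]
    [IsNoetherianRing A]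
    (h : ∀ (K' : Type u) [Field K'] [Algebra A K'] [Algebra (FractionRing A) K']
      [IsScalarTower A (FractionRing A) K'], FiniteDimensional (FractionRing A) K' →
      IsPurelyInseparable (FractionRing A) K' → Module.Finite A (integralClosure A K')) :
    CAlg.IsN2 A := by
  intro L _ _ _ _ hfd
  let K := FractionRing A
  let Ω := AlgebraicClosure L
  let ι : L →ₐ[K] Ω := IsScalarTower.toAlgHom K L Ω
  let E := IntermediateField.normalClosure K L Ω
  haveI : Normal K E := inferInstance
  haveI : FiniteDimensional K E := inferInstance
  let P := IntermediateField.fixedField (⊤ : Subgroup Gal(E/K))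
  have hP : IsPurelyInseparable K P := isPurelyInseparable_fixed K E
  haveI : Module.Finite A (integralClosure A P) := h P inferInstance hP
  let C := integralClosure A P
  haveI : IsFractionRing C P := integralClosure.isFractionRing_of_finite_extension K P
  haveI : IsIntegrallyClosed C := integralClosure.isIntegrallyClosedOfFiniteExtension K
  haveI : Algebra.IsSeparable P E :=
    inferInstanceAs (Algebra.IsSeparable (FixedPoints.subfield (⊤ : Subgroup Gal(E/K)) E) E)
  haveI : FiniteDimensional P E := FiniteDimensional.right K P E
  let j : L →ₐ[K] E := (IntermediateField.inclusion (AlgHom.fieldRange_le_normalClosure ι)).comp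
    ι.equivFieldRange.toAlgHom
  haveI : IsScalarTower A P E := IsScalarTower.of_algebraMap_eq fun a => by
    rw [IsScalarTower.algebraMap_apply A K P, ← IsScalarTower.algebraMap_apply K P E, ← IsScalarTower.algebraMap_apply A K E]
  haveI : IsScalarTower A C E := IsScalarTower.of_algebraMap_eq fun a => IsScalarTower.algebraMap_apply A P E a
  exact finite_of_separable A C P L E (j.restrictScalars A)

end Groth.Agent.S4562
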