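import Groth.Statements.S4989
import Mathlib
import Groth.Agent.GeomProp.SmoothLocal
import Groth.Agent.FlatDepth.CompDescent
-- import your own Groth.Agent.* helpers here

set_option autoImplicit false
universe u
open CategoryTheory CategoryTheory.Limits AlgebraicGeometry TopologicalSpace
open Unram17

namespace Groth.Agent.S4989

/-- Let f : X ⟶ Y be locally of finite presentation and smooth at a point x with image y. Then the local
ring of X at x is reduced if and only if the local ring of Y at y is reduced, and it is an
integrally closed domain if and only if the local ring of Y at y is one. (The published statement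
also covers geometrically unibranch local rings; this row states only the reduced and the integrally
closed cases.) -/
theorem result {X Y : Scheme.{u}} (f : X ⟶ Y)
    [LocallyOfFinitePresentation f] (x : ↥X) (hx : x ∈ f.smoothLocus) :
    (IsReduced ↑(X.presheaf.stalk x) ↔ IsReduced ↑(Y.presheaf.stalk (f.base x))) ∧
    ((IsDomain ↑(X.presheaf.stalk x) ∧ IsIntegrallyClosed ↑(X.presheaf.stalk x)) ↔
      (IsDomain ↑(Y.presheaf.stalk (f.base x)) ∧ IsIntegrallyClosed ↑(Y.presheaf.stalk (f.base x)))) := by
  obtain ⟨A, B, _, _, _, _, -, q, _, eY, eX, -⟩ := GeomProp.exists_local_model f x hx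
  have h1 := GeomProp.isReduced_iff_of_smooth A B q
  have h2 := GeomProp.normal_iff_of_smooth A B q
  constructor
  · constructor
    · intro h
      haveI := h1.1 (isReduced_of_injective eX.symm eX.symm.injective)
      exact isReduced_of_injective eY eY.injective
    · intro h
      haveI := h1.2 (isReduced_of_injective eY.symm eY.symm.injective)
      exact isReduced_of_injective eX eX.injective
  · constructor
    · rintro ⟨_, _⟩
      obtain ⟨_, _⟩ := h2.1 ⟨eX.symm.toMulEquiv.isDomain _, IsIntegrallyClosed.of_equiv eX⟩
      exact ⟨eY.toMulEquiv.isDomain _, IsIntegrallyClosed.of_equiv eY.symm⟩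
    · rintro ⟨_, _⟩
      obtain ⟨_, _⟩ := h2.2 ⟨eY.symm.toMulEquiv.isDomain _, IsIntegrallyClosed.of_equiv eY⟩
      exact ⟨eX.toMulEquiv.isDomain _, IsIntegrallyClosed.of_equiv eX.symm⟩

end Groth.Agent.S4989
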