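import Groth.Statements.S6033
import Groth.Agent.CechX.TildeCech
import Mathlib
-- import your own Groth.Agent.* helpers here

set_option autoImplicit false
universe u
open CategoryTheory CategoryTheory.Limits TopologicalSpace AlgebraicGeometry
open LocCohZ

namespace Groth.Agent.S6033

/-- Let A be a commutative ring such that the underlying space of X = Spec A is Noetherian. Then M~ is
flasque for every injective A-module M if and only if colim_n H^1(f^n, M) = 0 (direct limit of
Koszul cohomology of the powers) for every finite family f of elements of A and every injective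
A-module M; and in that case colim_n H^i(f^n, M) = 0 for all i > 0 as well. -/
theorem result (A : Type u) [CommRing A]
    [NoetherianSpace (PrimeSpectrum A)] :
    ((∀ (M : Type u) [AddCommGroup M] [Module A M], Module.Injective A M →
        TopCat.Sheaf.IsFlasque (Coh.toAb (AlgebraicGeometry.tilde (R := CommRingCat.of A) (ModuleCat.of A M)))) ↔
      ∀ (fs : List A) (M : Type u) [AddCommGroup M] [Module A M], Module.Injective A M →
        Subsingleton (CohIII.koszulHLim fs (ModuleCat.of A M) 1)) ∧
    ((∀ (M : Type u) [AddCommGroup M] [Module A M], Module.Injective A M →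
        TopCat.Sheaf.IsFlasque (Coh.toAb (AlgebraicGeometry.tilde (R := CommRingCat.of A) (ModuleCat.of A M)))) →
      ∀ (fs : List A) (M : Type u) [AddCommGroup M] [Module A M], Module.Injective A M →
        ∀ i : ℕ, 0 < i → Subsingleton (CohIII.koszulHLim fs (ModuleCat.of A M) i)) := by
  let X := Spec (CommRingCat.of A)
  have hopen : ∀ U : X.Opens, ∃ fs : List A, LocCoh.puncturedOpen A (Ideal.span {a | a ∈ fs}) = U := by
    intro U
    let U₀ : Set (PrimeSpectrum A) := U.carrier
    have hc : IsCompact U₀ := TopologicalSpace.NoetherianSpace.isCompact _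
    obtain ⟨b, hb⟩ : ∃ b : Finset A, U₀ = (PrimeSpectrum.zeroLocus (b : Set A))ᶜ := by
      obtain ⟨s, he⟩ := (PrimeSpectrum.isCompact_isOpen_iff).1 ⟨hc, U.2⟩
      exact ⟨s, he.symm⟩
    refine ⟨b.toList, TopologicalSpace.Opens.ext ?_⟩
    show (PrimeSpectrum.zeroLocus _)ᶜ = U₀
    rw [hb, PrimeSpectrum.zeroLocus_span]
    simp
  have key : ∀ (M : Type u) [AddCommGroup M] [Module A M] (fs : List A) (i : ℕ),
      Subsingleton (CohIII.koszulHLim fs (ModuleCat.of A M) i) ↔
        Subsingleton (LocCohZ.HZc (Coh.toAb (AlgebraicGeometry.tilde (R := CommRingCat.of A) (ModuleCat.of A M))) i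
          (LocCoh.puncturedOpen A (Ideal.span {a | a ∈ fs}))) := by
    intro M _ _ fs i
    obtain ⟨e⟩ := Groth.Agent.CechX.nonempty_HZM_equiv (ModuleCat.of A M) fs i
    exact e.toEquiv.subsingleton_congr
  have pos : ∀ (fs : List A) (M : Type u) [AddCommGroup M] [Module A M],
      TopCat.Sheaf.IsFlasque (Coh.toAb (AlgebraicGeometry.tilde (R := CommRingCat.of A) (ModuleCat.of A M))) →
      ∀ i : ℕ, 0 < i → Subsingleton (CohIII.koszulHLim fs (ModuleCat.of A M) i) := by
    intro fs M _ _ hM i hi
    obtain ⟨n, rfl⟩ := Nat.exists_eq_add_of_lt hi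
    rw [key, zero_add]
    exact Groth.Agent.LCZ.subsingleton_HZ_of_isFlasque _ n
  refine ⟨⟨fun h fs M _ _ hM => pos fs M (h M hM) 1 one_pos, fun h M _ _ hM => ?_⟩,
    fun h fs M _ _ hM i hi => pos fs M (h M hM) i hi⟩
  set F := Coh.toAb (AlgebraicGeometry.tilde (R := CommRingCat.of A) (ModuleCat.of A M))
  have surj : ∀ U : X.Opens, Function.Surjective (Groth.Agent.LCZ.res F (le_top : U ≤ ⊤)) := by
    intro U y
    obtain ⟨fs, rfl⟩ := hopen U
    have h1 := (Groth.Agent.LCZ.subsingleton_succ_iff_res (le_top : LocCoh.puncturedOpen A (Ideal.span {a | a ∈ fs}) ≤ ⊤) 0).1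
      ((key M fs 1).1 (h fs M hM))
    obtain ⟨x, hx⟩ := h1.1 ((Groth.Agent.SiteCoh.hu0 F _).symm y)
    refine ⟨Groth.Agent.SiteCoh.hu0 F ⊤ x, ?_⟩
    rw [← Groth.Agent.LCZ.res_zero_apply, hx, AddEquiv.apply_symm_apply]
  refine (Groth.Agent.LCZ.epi_res_iff F).2 fun V V' hV y => ?_
  obtain ⟨t, ht⟩ := surj V' y
  exact ⟨Groth.Agent.LCZ.res F le_top t, by rw [Groth.Agent.LCZ.res_res]; exact ht⟩

end Groth.Agent.S6033
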