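import Groth.Statements.S11329
import Groth.Agent.S6033
import Groth.Agent.CechX.LocCoh
import Groth.Agent.CechX.Koszul
import Groth.Agent.LocH.Interface
import Mathlib.Algebra.Category.ModuleCat.Injective

set_option autoImplicit false
universe u
open CategoryTheory AlgebraicGeometry Opposite
open Coherent

set_option backward.isDefEq.respectTransparency false
set_option linter.style.haveILetI false
namespace Groth.Agent.S11329

/-- Let A be a Noetherian ring and I an injective A-module. Then the quasi-coherent sheaf I~ on Spec A
associated with I is flasque: for all opens U ⊆ V of Spec A the restriction map I~(V) → I~(U) is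
surjective. -/
theorem result (A : Type u) [CommRing A] [IsNoetherianRing A]
    (I : Type u) [AddCommGroup I] [Module A I] [Module.Injective A I]
    (U V : (Spec (CommRingCat.of A)).Opens) (hUV : U ≤ V) :
    Function.Surjective ((tilde (ModuleCat.of A I)).val.map (homOfLE hUV).op).hom := by
  have key : ∀ (fs : List A) (M : Type u) [AddCommGroup M] [Module A M], Module.Injective A M →
      Subsingleton (CohIII.koszulHLim fs (ModuleCat.of A M) 1) := by
    intro fs M _ _ hM
    haveI : Injective (ModuleCat.of A M) := Module.injective_object_of_injective_module A M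
    obtain ⟨e1⟩ := Groth.Agent.CechX.nonempty_koszulHLim_equiv (ModuleCat.of A M) fs 1
    obtain ⟨e2⟩ := Groth.Agent.CechX.nonempty_extCechH_iso fs (ModuleCat.of A M) 1
    have h0 : Subsingleton ↑((localCohomology (Ideal.span {x | x ∈ fs}) 1).obj (ModuleCat.of A M)) :=
      subsingleton_of_forall_eq 0 fun x => by
        obtain ⟨n, α, rfl⟩ := Groth.Agent.LocH.exists_hι x
        rw [Abelian.Ext.eq_zero_of_injective α, map_zero]
    have h1 : Subsingleton ↑(DerCA.extCechH fs (ModuleCat.of A M) ((1 : ℕ) : ℤ)) :=
      e2.toLinearEquiv.toEquiv.subsingleton_congr.2 h0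
    refine e1.toEquiv.subsingleton_congr.2 ?_
    rw [← Groth.Agent.CechX.extCech_eq]
    exact h1
  haveI : TopCat.Sheaf.IsFlasque
      (Coh.toAb (AlgebraicGeometry.tilde (R := CommRingCat.of A) (ModuleCat.of A I))) :=
    ((Groth.Agent.S6033.result A).1.2 key) I inferInstance
  have h : Epi ((Coh.toAb (AlgebraicGeometry.tilde (R := CommRingCat.of A) (ModuleCat.of A I))).obj.map
      (homOfLE hUV).op) := TopCat.Presheaf.IsFlasque.epi _
  exact (AddCommGrpCat.epi_iff_surjective _).1 h

end Groth.Agent.S11329
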