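import Groth.Statements.S6031
import Groth.Agent.CohQC.CechVanish
import Mathlib
-- import your own Groth.Agent.* helpers here

set_option autoImplicit false
universe u
open CategoryTheory CategoryTheory.Limits TopologicalSpace AlgebraicGeometry
open LocCohZ

namespace Groth.Agent.S6031

/-- Let Y be an affine scheme, U an open subset with closed complement Z and M a quasi-coherent
O_Y-module with underlying abelian sheaf F. Then 0 → H^0_Z(Y, F) → H^0(Y, F) → H^0(U, F) → H^1_Z(Y,
F) → 0 is exact, i.e. the connecting map H^0(U, F) → H^1_Z(Y, F) is surjective, and the connecting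
maps H^i(U, F) → H^{i+1}_Z(Y, F) are bijective for all i ≥ 1. (The published statement assumes U
quasi-compact; the printed proof of these two assertions only uses the vanishing of the higher
cohomology of F on the affine scheme Y, so U is an arbitrary open here.) -/
theorem result (Y : Scheme.{u}) [IsAffine Y] (M : Y.Modules)
    (hM : Coh.IsQCoh M) (U : Y.Opens) :
    Function.Surjective (LocCohZ.delta (X := Y.carrier) (Coh.toAb M) 0 (le_top : U ≤ ⊤)) ∧
      ∀ i : ℕ, 1 ≤ i →
        Function.Bijective (LocCohZ.delta (X := Y.carrier) (Coh.toAb M) i (le_top : U ≤ ⊤)) := by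
  have : M.IsQuasicoherent := hM
  have hv : ∀ p : ℕ, Subsingleton (CohSite.HU (Coh.toAb M) (p + 1) (⊤ : Y.Opens)) :=
    fun p => Groth.Agent.CohQC.hu_vanish_of_isAffineOpen M (isAffineOpen_top Y) p
  have hsur : ∀ i : ℕ, Function.Surjective (LocCohZ.delta (X := Y.carrier) (Coh.toAb M) i (le_top : U ≤ ⊤)) := by
    intro i x
    obtain ⟨w, hw⟩ := CategoryTheory.Abelian.Ext.contravariant_sequence_exact₃
      (LocCohZ.zqSeq_shortExact (le_top : U ≤ ⊤)) (Coh.toAb M) x ((hv i).elim _ _) (Nat.add_comm 1 i)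
    exact ⟨w, hw⟩
  refine ⟨hsur 0, fun i hi => ⟨(injective_iff_map_eq_zero _).2 fun x hx => ?_, hsur i⟩⟩
  obtain ⟨p, rfl⟩ : ∃ p, i = p + 1 := ⟨i - 1, by omega⟩
  obtain ⟨y, rfl⟩ := CategoryTheory.Abelian.Ext.contravariant_sequence_exact₁
    (LocCohZ.zqSeq_shortExact (le_top : U ≤ ⊤)) (Coh.toAb M) x (n₁ := p + 1 + 1) (Nat.add_comm 1 (p + 1)) hx
  exact (congrArg (fun y : CategoryTheory.Abelian.Ext (LocCohZ.zqSeq (le_top : U ≤ ⊤)).X₂ (Coh.toAb M) (p + 1) =>
    (CategoryTheory.Abelian.Ext.mk₀ (LocCohZ.zqSeq (le_top : U ≤ ⊤)).f).comp y (zero_add (p + 1))) ((hv p).elim y 0)).trans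
    (CategoryTheory.Abelian.Ext.comp_zero _ _ _ _ _)

end Groth.Agent.S6031
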