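import Groth.Statements.S5161
import Groth.Agent.LCZ.Affine
import Groth.Agent.S6031
import Groth.Agent.LocH.NonVanishing
import Groth.Agent.LocH.Radical
import Mathlib
-- import your own Groth.Agent.* helpers here

set_option autoImplicit false
universe u
open AlgebraicGeometry
open LocCoh

namespace Groth.Agent.S5161

/-- Let A be a Noetherian ring, X = Spec A and Y ⊆ X a closed subset whose complement U is an affine
open. Then every irreducible component of Y has codimension ≤ 1 in X, i.e. the generic point of each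
irreducible component of Y is a prime of height at most 1. -/
theorem result (A : Type u) [CommRing A] [IsNoetherianRing A] (U : (Spec (CommRingCat.of A)).Opens) (hU : IsAffineOpen U) (p : PrimeSpectrum A) (hpU : (p : (Spec (CommRingCat.of A) : Type u)) ∉ (U : Set (Spec (CommRingCat.of A) : Type u))) (hmin : ∀ q : PrimeSpectrum A, q.asIdeal ≤ p.asIdeal → (q : (Spec (CommRingCat.of A) : Type u)) ∉ (U : Set (Spec (CommRingCat.of A) : Type u)) → q = p) : p.asIdeal.height ≤ 1 := by
  obtain ⟨J, hJ⟩ := Groth.Agent.LCZ.exists_eq_openCompl U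
  let M := AlgebraicGeometry.tilde (R := CommRingCat.of A) (ModuleCat.of A A)
  have hM : Coh.IsQCoh M := inferInstanceAs M.IsQuasicoherent
  have : M.IsQuasicoherent := hM
  have hvan : ∀ i : ℕ, 2 ≤ i → Subsingleton (LocCoh.H J i A) := by
    intro i hi
    obtain ⟨k, rfl⟩ : ∃ k, i = k + 1 + 1 := ⟨i - 2, by omega⟩
    refine (Groth.Agent.LCZ.subsingleton_HZc_iff J (k + 1 + 1) (ModuleCat.of A A)).1 ?_
    rw [hJ]
    have hb := (Groth.Agent.S6031.result (Spec (CommRingCat.of A)) M hM U).2 (k + 1) (by omega)
    have hU0 := Groth.Agent.CohQC.hu_vanish_of_isAffineOpen M hU k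
    exact (@Equiv.subsingleton _ _ (Equiv.ofBijective _ hb).symm hU0)
  by_contra hlt
  push Not at hlt
  obtain ⟨d, hd⟩ := ENat.ne_top_iff_exists.1 (Ideal.height_ne_top (I := p.asIdeal) p.isPrime.ne_top)
  have hd2 : 2 ≤ d := by
    rw [← hd] at hlt
    exact_mod_cast hlt
  have hdim : Module.supportDim (Localization.AtPrime p.asIdeal) (LocalizedModule p.asIdeal.primeCompl A) = d := by
    rw [Module.supportDim_eq_ringKrullDim_quotient_annihilator]
    have h0 : Module.annihilator (Localization.AtPrime p.asIdeal) (LocalizedModule p.asIdeal.primeCompl A) = ⊥ := by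
      refine (Submodule.eq_bot_iff _).2 fun a ha => ?_
      have h1 := Module.mem_annihilator.1 ha
      let e : LocalizedModule p.asIdeal.primeCompl A ≃ₗ[Localization.AtPrime p.asIdeal] Localization.AtPrime p.asIdeal :=
        (IsLocalizedModule.linearEquiv p.asIdeal.primeCompl (LocalizedModule.mkLinearMap p.asIdeal.primeCompl A)
          (Algebra.linearMap A (Localization.AtPrime p.asIdeal))).extendScalarsOfIsLocalization p.asIdeal.primeCompl _
      have h2 := congrArg e (h1 (e.symm 1))
      rwa [map_smul, LinearEquiv.apply_symm_apply, smul_eq_mul, mul_one, map_zero] at h2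
    rw [h0, ringKrullDim_eq_of_ringEquiv (RingEquiv.quotientBot _),
      IsLocalization.AtPrime.ringKrullDim_eq_height p.asIdeal, ← hd]
    rfl
  have hnt := Groth.Agent.LocH.nontrivial_at_supportDim (R := Localization.AtPrime p.asIdeal)
    (LocalizedModule p.asIdeal.primeCompl A) d hdim
  refine not_subsingleton_iff_nontrivial.2 hnt ?_
  refine (Groth.Agent.LocH.subsingleton_iff_of_radical_eq (I := J.map (algebraMap A (Localization.AtPrime p.asIdeal))) ?_ _ d).1
    (Groth.Agent.LocH.subsingleton_localized p.asIdeal.primeCompl A J d (hvan d hd2))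
  rw [(IsLocalRing.maximalIdeal.isMaximal _).isPrime.radical]
  have hcompl : ∀ q : PrimeSpectrum A, (q : (Spec (CommRingCat.of A) : Type u)) ∉ (U : Set (Spec (CommRingCat.of A) : Type u)) ↔ J ≤ q.asIdeal := by
    intro q
    rw [← hJ]
    exact not_not
  refine le_antisymm ?_ ?_
  · refine (Ideal.radical_mono ?_).trans (IsLocalRing.maximalIdeal.isMaximal _).isPrime.radical.le
    rw [← IsLocalization.AtPrime.map_eq_maximalIdeal p.asIdeal (Localization.AtPrime p.asIdeal)]
    exact Ideal.map_mono ((hcompl p).1 hpU)
  · rw [Ideal.radical_eq_sInf]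
    refine le_sInf fun P ⟨hle, hP⟩ => ?_
    have hPp : P.comap (algebraMap A (Localization.AtPrime p.asIdeal)) ≤ p.asIdeal := fun a ha => by
      by_contra has
      exact hP.ne_top (Ideal.eq_top_of_isUnit_mem _ ha (IsLocalization.map_units _ (⟨a, has⟩ : p.asIdeal.primeCompl)))
    have e := hmin ⟨P.comap (algebraMap A _), Ideal.comap_isPrime _ P⟩ hPp ((hcompl _).2 (Ideal.map_le_iff_le_comap.1 hle))
    rw [← IsLocalization.AtPrime.map_eq_maximalIdeal p.asIdeal (Localization.AtPrime p.asIdeal), Ideal.map_le_iff_le_comap]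
    exact (congrArg PrimeSpectrum.asIdeal e).ge

end Groth.Agent.S5161
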