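import Mathlib

set_option autoImplicit false
universe u

open CategoryTheory Limits AlgebraicGeometry MvPolynomial

namespace Groth.Agent.AffineSpaceUnits

variable {n : Type u}

/-- The zero section of affine space. -/
noncomputable def zero (n : Type u) (X : Scheme.{u}) : X ⟶ 𝔸(n; X) := AffineSpace.homOfVector (𝟙 X) 0

lemma zero_over (X : Scheme.{u}) : zero n X ≫ 𝔸(n; X) ↘ X = 𝟙 X :=
  AffineSpace.homOfVector_over _ _

lemma zero_coord (X : Scheme.{u}) (i : n) : (zero n X).appTop (AffineSpace.coord X i) = 0 :=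
  AffineSpace.homOfVector_appTop_coord _ _ _

lemma map_zero_comm {U X : Scheme.{u}} (f : U ⟶ X) :
    AffineSpace.map n f ≫ 𝔸(n; X) ↘ X ≫ zero n X = (𝔸(n; U) ↘ U ≫ zero n U) ≫ AffineSpace.map n f := by
  apply AffineSpace.hom_ext
  · simp only [Category.assoc, zero_over, AffineSpace.map_over, AffineSpace.map_over_assoc]
    rw [reassoc_of% (zero_over U), Category.comp_id]
  · intro i
    simp only [Scheme.Hom.comp_appTop, CommRingCat.comp_apply, zero_coord, map_zero,
      AffineSpace.map_appTop_coord]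

lemma isUnit_eq_spec (R : CommRingCat.{u}) [_root_.IsReduced R] (w : Γ(𝔸(n; Spec R), ⊤)) (hw : IsUnit w) :
    (𝔸(n; Spec R) ↘ Spec R ≫ zero n (Spec R)).appTop w = w := by
  set σ := AffineSpace.SpecIso n R
  set ε : CommRingCat.of (MvPolynomial n R) ⟶ CommRingCat.of (MvPolynomial n R) :=
    CommRingCat.ofHom (C.comp constantCoeff)
  have key : σ.inv ≫ 𝔸(n; Spec R) ↘ Spec R ≫ zero n (Spec R) = Spec.map ε ≫ σ.inv := by
    apply AffineSpace.hom_ext
    · simp only [Category.assoc, zero_over, Category.comp_id, σ, AffineSpace.SpecIso_inv_over]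
      rw [← Spec.map_comp]
      congr 1
      ext r
      simp [ε]
    · intro i
      simp only [Scheme.Hom.comp_appTop, CommRingCat.comp_apply, zero_coord, map_zero, σ,
        AffineSpace.SpecIso_inv_appTop_coord]
      rw [← CommRingCat.comp_apply, ← Scheme.ΓSpecIso_inv_naturality, CommRingCat.comp_apply]
      simp [ε]
  have hinj : Function.Injective σ.inv.appTop := fun a b hab ↦ by
    have h2 : σ.inv.appTop ≫ σ.hom.appTop = 𝟙 _ := by
      rw [← Scheme.Hom.comp_appTop, σ.hom_inv_id]; rfl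
    have := congrArg σ.hom.appTop hab
    rwa [← CommRingCat.comp_apply, ← CommRingCat.comp_apply, h2] at this
  apply hinj
  rw [← CommRingCat.comp_apply, ← Scheme.Hom.comp_appTop, key, Scheme.Hom.comp_appTop,
    CommRingCat.comp_apply]
  obtain ⟨P, hP⟩ := (Scheme.ΓSpecIso (CommRingCat.of (MvPolynomial n R))).symm.commRingCatIsoToRingEquiv.surjective
    (σ.inv.appTop w)
  replace hP : (Scheme.ΓSpecIso _).inv P = σ.inv.appTop w := hP
  have hu : IsUnit P := by
    have := (hw.map σ.inv.appTop.hom).map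
      (Scheme.ΓSpecIso (CommRingCat.of (MvPolynomial n R))).hom.hom
    rwa [show σ.inv.appTop.hom w = σ.inv.appTop w from rfl, ← hP, ← CommRingCat.comp_apply,
      Iso.inv_hom_id] at this
  rw [← hP, ← CommRingCat.comp_apply, ← Scheme.ΓSpecIso_inv_naturality, CommRingCat.comp_apply]
  congr 1
  obtain ⟨r, _, rfl⟩ := MvPolynomial.isUnit_iff_eq_C_of_isReduced.mp hu
  simp [ε]

lemma isUnit_eq (X : Scheme.{u}) [IsReduced X] (w : Γ(𝔸(n; X), ⊤)) (hw : IsUnit w) :
    (𝔸(n; X) ↘ X ≫ zero n X).appTop w = w := by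
  let e := (AffineSpace.toSpecMvPolyIntEquiv (X := 𝔸(n; X)) PUnit.{u + 1}).symm
  suffices h : e (fun _ ↦ (𝔸(n; X) ↘ X ≫ zero n X).appTop w) = e (fun _ ↦ w) from
    congrFun (e.injective h) ⟨⟩
  let 𝒰 := X.affineCover
  refine Scheme.Cover.hom_ext (𝒰.pullback₁ (𝔸(n; X) ↘ X)) _ _ fun i ↦ ?_
  haveI : IsOpenImmersion (𝒰.f i) := X.affineCover.map_prop i
  haveI hred : IsReduced (𝒰.X i) := isReduced_of_isOpenImmersion (𝒰.f i)
  let j := (AffineSpace.isPullback_map (n := n) (𝒰.f i)).isoPullback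
  have hj : j.inv ≫ AffineSpace.map n (𝒰.f i) = (𝒰.pullback₁ (𝔸(n; X) ↘ X)).f i :=
    (AffineSpace.isPullback_map (n := n) (𝒰.f i)).isoPullback_inv_fst
  rw [← hj]
  refine (Category.assoc _ _ _).trans (((Category.assoc _ _ _).trans ?_).symm)
  congr 1
  symm
  apply (AffineSpace.toSpecMvPolyIntEquiv PUnit.{u + 1}).injective
  funext _
  rw [AffineSpace.toSpecMvPolyIntEquiv_comp, AffineSpace.toSpecMvPolyIntEquiv_comp,
    Equiv.apply_symm_apply, Equiv.apply_symm_apply]
  rw [← CommRingCat.comp_apply, ← Scheme.Hom.comp_appTop, map_zero_comm, Scheme.Hom.comp_appTop,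
    CommRingCat.comp_apply]
  haveI : _root_.IsReduced _ := affine_isReduced_iff _ |>.mp hred
  exact isUnit_eq_spec _ _ (hw.map (AffineSpace.map n (𝒰.f i)).appTop.hom)

lemma exists_unit (X : Scheme.{u}) [IsReduced X] (w : Γ(𝔸(n; X), ⊤)) (hw : IsUnit w) :
    ∃ v : Γ(X, ⊤), IsUnit v ∧ (𝔸(n; X) ↘ X).appTop v = w :=
  ⟨(zero n X).appTop w, hw.map (zero n X).appTop.hom, isUnit_eq X w hw⟩

end Groth.Agent.AffineSpaceUnits
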