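import Groth.Statements.S6892
import Groth.Agent.FittLib.BaseChange

set_option autoImplicit false
universe u
open Fitt

namespace Groth.Agent.S6892

/-- Let `M` be a finite `R`-module. When `n` elements generate `M` one has `Fit_n(M) = R`; when `M` is
of finite presentation every `Fit_k(M)` is finitely generated as an ideal; and a surjection `M → M'`
onto another module gives `Fit_k(M) ⊆ Fit_k(M')` for every `k`. -/
theorem result {R : Type u} [CommRing R] (M M' : Type u) [AddCommGroup M]
    [Module R M] [Module.Finite R M] [AddCommGroup M'] [Module R M'] (k : ℕ) :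
    (∀ (n : ℕ) (x : Fin n → M), Submodule.span R (Set.range x) = ⊤ → Fitt.ideal R M n = ⊤) ∧
    (Module.FinitePresentation R M → (Fitt.ideal R M k).FG) ∧
    (∀ f : M →ₗ[R] M', Function.Surjective f → Fitt.ideal R M k ≤ Fitt.ideal R M' k) := by
  classical
  refine ⟨fun n x hx => FittLib.ideal_eq_top_of_generators x hx (by simp), fun hfp => ?_,
    fun f hf => FittLib.ideal_le_of_surjective f hf k⟩
  obtain ⟨n, x, hx⟩ := FittLib.exists_generators R M
  have hsurj : Function.Surjective (Fintype.linearCombination R x) := by
    rw [← LinearMap.range_eq_top, Fintype.range_linearCombination, hx]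
  obtain ⟨G, hG⟩ := Module.FinitePresentation.fg_ker _ hsurj
  let S : Set R := Set.range fun p : (Fin (n - k) → G) × (Fin (n - k) → Fin n) =>
    FittLib.minor (fun j => (p.1 j : Fin n → R)) p.2
  have : Fitt.ideal R M k = Ideal.span S := by
    rw [FittLib.ideal_eq_minors_fin x hx]
    apply le_antisymm
    · refine FittLib.minors_le_of_span (G : Set (Fin n → R)) (le_of_eq hG.symm) fun z e hz => ?_
      exact Ideal.subset_span ⟨(fun j => ⟨z j, hz j⟩, e), rfl⟩
    · refine Ideal.span_le.mpr ?_
      rintro _ ⟨⟨g, e⟩, rfl⟩
      refine FittLib.minor_mem_minors (fun j => ?_) e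
      exact hG.le (Submodule.subset_span (g j).2)
  rw [this]
  exact Submodule.fg_span (Set.finite_range _)

end Groth.Agent.S6892
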