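import Groth.Statements.S8873
import Groth.Agent.FittLib.Sheaf
import Groth.Agent.S6892

set_option autoImplicit false
universe u
open CategoryTheory CategoryTheory.Limits AlgebraicGeometry TopologicalSpace
open SDiv

namespace Groth.Agent.S8873

/-- Let S be a scheme and F a finitely presented O_S-module. Then for every r the Fitting ideal sheaf
Fit_r(F) is of finite type: its ideal of sections over every affine open is finitely generated. -/
theorem result (S : Scheme.{u}) (F : S.Modules) (hF : CohB1.IsFP F) (r : ℕ) :
    BlowUp.IsFiniteTypeIdeal (Fitt.sheafIdeal F r) := by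
  have hq : Coh.IsQCoh F := inferInstance
  have hft : CohB1.IsFT F := inferInstance
  intro U
  rw [FittLib.sheafIdeal_ideal hq hft]
  haveI := Groth.Agent.LocFree.finitePresentation_sections_of_isFP hq hF U.2
  exact (Groth.Agent.S6892.result Γ(F, U.1) Γ(F, U.1) r).2.1 inferInstance

end Groth.Agent.S8873
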