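import Groth.Statements.S6895
import Groth.Agent.FittLib.BaseChange

set_option autoImplicit false
universe u
open Fitt

namespace Groth.Agent.S6895

/-- (1) ⇔ (3): let `M` be a finite `R`-module and `r ≥ 0`. Then `M` is finite locally free of rank `r`
(every prime has a basic open neighbourhood `D(f)` with `M_f` free of rank `r` over `R_f`) if and
only if `Fit_k(M) = 0` for `k < r` and `Fit_k(M) = R` for `k ≥ r`. -/
theorem result {R : Type u} [CommRing R] (M : Type u) [AddCommGroup M] [Module R M]
    [Module.Finite R M] (r : ℕ) :
    (∀ (p : Ideal R) [p.IsPrime], ∃ f : R, f ∉ p ∧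
      Module.Free (Localization.Away f) (LocalizedModule (Submonoid.powers f) M) ∧
        Module.finrank (Localization.Away f) (LocalizedModule (Submonoid.powers f) M) = r) ↔
    ((∀ k, k < r → Fitt.ideal R M k = ⊥) ∧ (∀ k, r ≤ k → Fitt.ideal R M k = ⊤)) := by
  classical
  constructor
  · intro h
    have free : ∀ (p : Ideal R) [p.IsPrime], ∃ f : R, f ∉ p ∧
        ∀ k, (k < r → (Fitt.ideal R M k).map (algebraMap R (Localization.Away f)) = ⊥) ∧
          (r ≤ k → (Fitt.ideal R M k).map (algebraMap R (Localization.Away f)) = ⊤) := by
      intro p _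
      obtain ⟨f, hf, hfree, hrank⟩ := h p
      haveI := hfree
      haveI : Module.Finite (Localization.Away f) (LocalizedModule (Submonoid.powers f) M) :=
        Module.Finite.equiv (LocalizedModule.equivTensorProduct (Submonoid.powers f) M).symm
      haveI : Nontrivial (Localization.Away f) := by
        rw [nontrivial_iff]
        by_contra hc
        push Not at hc
        have := (IsLocalization.map_eq_zero_iff (Submonoid.powers f) (Localization.Away f) (1 : R)).mp
          (hc _ _)
        obtain ⟨⟨t, n, rfl⟩, ht⟩ := this
        rw [mul_one] at ht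
        exact hf (‹p.IsPrime›.mem_of_pow_mem n (by simp only at ht; rw [ht]; exact p.zero_mem))
      let b := Module.finBasisOfFinrankEq _ (LocalizedModule (Submonoid.powers f) M) hrank
      refine ⟨f, hf, fun k => ?_⟩
      rw [← FittLib.ideal_localizedModule, FittLib.ideal_eq_minors_fin b b.span_eq]
      refine ⟨fun hk => ?_, fun hk => FittLib.minors_eq_top_of_eq_zero _ (by omega)⟩
      refine le_bot_iff.mp (FittLib.minors_le fun z e hz => ?_)
      have hz0 : ∀ j, z j = 0 := fun j => funext
        (Fintype.linearIndependent_iff.mp b.linearIndependent (z j) (FittLib.mem_rel.mp (hz j)))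
      rw [Ideal.mem_bot]
      exact Matrix.det_eq_zero_of_column_eq_zero (⟨0, by omega⟩ : Fin (r - k)) fun i => by simp [hz0]
    refine ⟨fun k hk => ?_, fun k hk => ?_⟩
    · refine le_bot_iff.mp fun c hc => ?_
      rw [Ideal.mem_bot]
      by_contra hne
      obtain ⟨p, hp, hcp⟩ := Ideal.exists_le_maximal
        (Ideal.torsionOf R R c) (by simpa [Ideal.torsionOf_eq_top_iff] using hne)
      obtain ⟨f, hf, hk'⟩ := free p
      have := (hk' k).1 hk
      have h0 : algebraMap R (Localization.Away f) c ∈ (⊥ : Ideal (Localization.Away f)) :=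
        this ▸ Ideal.mem_map_of_mem _ hc
      rw [Ideal.mem_bot, IsLocalization.map_eq_zero_iff (Submonoid.powers f)] at h0
      obtain ⟨⟨t, n, rfl⟩, ht⟩ := h0
      exact hf (hp.isPrime.mem_of_pow_mem n (hcp (by simpa [Ideal.mem_torsionOf_iff] using ht)))
    · by_contra hne
      obtain ⟨p, hp, hle⟩ := Ideal.exists_le_maximal _ hne
      obtain ⟨f, hf, hk'⟩ := free p
      exact FittLib.not_le_of_map_localization_eq_top (Submonoid.powers_le.mpr hf) ((hk' k).2 hk) hle
  · rintro ⟨h0, h1⟩ p hp
    obtain ⟨f, hf, hgen⟩ := FittLib.exists_generators_of_not_le (p := p) (k := r) (M := M)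
      (by rw [h1 r le_rfl]; exact fun hle => hp.ne_top (top_le_iff.mp hle))
    obtain ⟨g, hg⟩ := hgen (Localization.Away f)
      (IsLocalization.map_units _ (⟨f, Submonoid.mem_powers f⟩ : Submonoid.powers f))
    haveI : Nontrivial (Localization.Away f) := by
      rw [nontrivial_iff]
      by_contra hc
      push Not at hc
      have := (IsLocalization.map_eq_zero_iff (Submonoid.powers f) (Localization.Away f) (1 : R)).mp
        (hc _ _)
      obtain ⟨⟨t, n, rfl⟩, ht⟩ := this
      rw [mul_one] at ht
      exact hf (hp.mem_of_pow_mem n (by simp only at ht; rw [ht]; exact p.zero_mem))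
    have hli : LinearIndependent (Localization.Away f) g := by
      rw [Fintype.linearIndependent_iff]
      intro u hu i
      have hr : 0 < r := i.pos
      have := FittLib.minor_mem_minors (x := g) (z := fun _ : Fin 1 => u)
        (fun _ => FittLib.mem_rel.mpr hu) (fun _ => i)
      have m1 : FittLib.minors (Localization.Away f) g 1 = ⊥ := by
        rw [← Ideal.map_bot (f := algebraMap R (Localization.Away f)), ← h0 (r - 1) (by omega),
          ← FittLib.ideal_baseChange, FittLib.ideal_eq_minors_fin g hg]
        congr 1
        omega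
      rw [m1] at this
      simpa [FittLib.minor] using this
    let b := (Module.Basis.mk hli hg.ge).map
      (LocalizedModule.equivTensorProduct (Submonoid.powers f) M).symm
    exact ⟨f, hf, Module.Free.of_basis b, by rw [Module.finrank_eq_card_basis b]; simp⟩

end Groth.Agent.S6895
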