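import Groth.Statements.S8875
import Groth.Agent.FittLib.Free
import Groth.Agent.S6895

set_option autoImplicit false
universe u
open CategoryTheory CategoryTheory.Limits AlgebraicGeometry TopologicalSpace
open SDiv

namespace Groth.Agent.S8875

/-- (1) ⇔ (3): let S be a scheme, F a quasi-coherent O_S-module of finite type and r ≥ 0. Then F is
finite locally free of rank r if and only if Fit_k(F) = 0 for every k < r and Fit_k(F) = O_S for
every k ≥ r. -/
theorem result (S : Scheme.{u}) (F : S.Modules) (hF : Coh.IsQCoh F) (hft : CohB1.IsFT F)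
    (r : ℕ) :
    FlatMod.IsFinLocFreeOfRank r F ↔
      (∀ k : ℕ, k < r → Fitt.sheafIdeal F k = ⊥) ∧ (∀ k : ℕ, r ≤ k → Fitt.sheafIdeal F k = ⊤) := by
  constructor
  · intro h
    have key : ∀ (U : S.affineOpens) (k : ℕ),
        (k < r → Fitt.ideal Γ(S, U.1) Γ(F, U.1) k = ⊥) ∧
          (r ≤ k → Fitt.ideal Γ(S, U.1) Γ(F, U.1) k = ⊤) := by
      intro U
      haveI : Module.Finite Γ(S, U.1) Γ(F, U.1) := Groth.Agent.QC.finite_sections U.2 (hM := hF) hft
      have := (Groth.Agent.S6895.result (R := Γ(S, U.1)) Γ(F, U.1) r).mp ?_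
      · exact fun k => ⟨this.1 k, this.2 k⟩
      intro p hp
      obtain ⟨W, hW, ⟨e⟩⟩ := h (U.2.fromSpec ⟨p, hp⟩)
      have hxU : U.2.fromSpec ⟨p, hp⟩ ∈ U.1 := U.2.range_fromSpec.subset ⟨_, rfl⟩
      obtain ⟨f, hfW, hxf⟩ := U.2.exists_basicOpen_le (⟨_, hW⟩ : W) hxU
      have hfp : f ∉ p := by
        have hm : (⟨p, hp⟩ : PrimeSpectrum Γ(S, U.1)) ∈ U.2.fromSpec ⁻¹ᵁ S.basicOpen f := hxf
        rw [U.2.fromSpec_preimage_basicOpen] at hm
        exact hm
      obtain ⟨g, hg, hli⟩ := FittLib.span_of_epi hF e.inv (U.2.basicOpen f) hfW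
      letI := Module.compHom Γ(F, S.basicOpen f) (Groth.Agent.QC.resO S (S.basicOpen_le f))
      obtain ⟨L, hL, htower⟩ := Groth.Agent.LocFree.exists_resMap hF U.2 f
      letI : Algebra Γ(S, U.1) Γ(S, S.basicOpen f) :=
        (Groth.Agent.QC.resO S (S.basicOpen_le f)).toAlgebra
      haveI := U.2.isLocalization_basicOpen f
      haveI := htower
      let b := Module.Basis.mk (hli inferInstance) hg.ge
      let σ : Localization.Away f ≃ₐ[Γ(S, U.1)] Γ(S, S.basicOpen f) :=
        IsLocalization.algEquiv (Submonoid.powers f) _ _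
      haveI := hL
      let e' := IsLocalizedModule.iso (Submonoid.powers f) L
      have he' : ∀ (c : Localization.Away f) (m : LocalizedModule (Submonoid.powers f) Γ(F, U.1)),
          e' (c • m) = σ c • e' m := by
        intro c m
        obtain ⟨a, t, rfl⟩ := IsLocalization.exists_mk'_eq (Submonoid.powers f) c
        have hu : IsUnit (algebraMap Γ(S, U.1) Γ(S, S.basicOpen f) t.1) :=
          IsLocalization.map_units _ t
        apply hu.smul_left_cancel.1
        have h1 : algebraMap Γ(S, U.1) Γ(S, S.basicOpen f) t.1 * σ (IsLocalization.mk' _ a t) =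
            algebraMap Γ(S, U.1) Γ(S, S.basicOpen f) a := by
          rw [← σ.commutes, ← map_mul, IsLocalization.mk'_spec', σ.commutes]
        have h2 : (t : Γ(S, U.1)) • (IsLocalization.mk' (Localization.Away f) a t • m) = a • m := by
          rw [← algebraMap_smul (Localization.Away f) (t : Γ(S, U.1)), ← mul_smul,
            IsLocalization.mk'_spec', algebraMap_smul]
        rw [← mul_smul, h1, algebraMap_smul, algebraMap_smul, ← map_smul, h2, map_smul]
      haveI : Nontrivial Γ(S, S.basicOpen f) := by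
        haveI : Nonempty ((S.basicOpen f : S.Opens) : Scheme.{u}) := ⟨⟨_, hxf⟩⟩
        infer_instance
      haveI : Nontrivial (Localization.Away f) := σ.toRingEquiv.toEquiv.nontrivial
      let bL := Module.Basis.mk (v := fun i => e'.symm (b i))
        (R := Localization.Away f) (M := LocalizedModule (Submonoid.powers f) Γ(F, U.1)) ?_ ?_
      · exact ⟨f, hfp, Module.Free.of_basis bL, by rw [Module.finrank_eq_card_basis bL]; simp⟩
      · rw [Fintype.linearIndependent_iff]
        intro c hc i
        have h0 : ∑ i, σ (c i) • b i = 0 := by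
          have := congrArg e' hc
          simpa [map_sum, he'] using this
        have := Fintype.linearIndependent_iff.mp b.linearIndependent (fun i => σ (c i)) h0 i
        simpa using this
      · intro m _
        obtain ⟨c, hc⟩ := (Submodule.mem_span_range_iff_exists_fun _).mp
          (show e' m ∈ Submodule.span Γ(S, S.basicOpen f) (Set.range b) by rw [b.span_eq]; trivial)
        refine (Submodule.mem_span_range_iff_exists_fun _).mpr
          ⟨fun i => σ.symm (c i), e'.injective ?_⟩
        simp [map_sum, he', hc]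
    refine ⟨fun k hk => ?_, fun k hk => ?_⟩
    · refine Scheme.IdealSheafData.ext (funext fun U => ?_)
      rw [FittLib.sheafIdeal_ideal hF hft, (key U k).1 hk]
      rfl
    · refine Scheme.IdealSheafData.ext (funext fun U => ?_)
      rw [FittLib.sheafIdeal_ideal hF hft, (key U k).2 hk]
      rfl
  · rintro ⟨h0, h1⟩ x
    obtain ⟨U, hU, hx⟩ := Groth.Agent.QC.exists_affine_mem x
    haveI : Module.Finite Γ(S, U) Γ(F, U) := Groth.Agent.QC.finite_sections hU (hM := hF) hft
    have hval : (∀ k, k < r → Fitt.ideal Γ(S, U) Γ(F, U) k = ⊥) ∧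
        (∀ k, r ≤ k → Fitt.ideal Γ(S, U) Γ(F, U) k = ⊤) := by
      refine ⟨fun k hk => ?_, fun k hk => ?_⟩
      · rw [← FittLib.sheafIdeal_ideal hF hft k ⟨U, hU⟩, h0 k hk]; rfl
      · rw [← FittLib.sheafIdeal_ideal hF hft k ⟨U, hU⟩, h1 k hk]; rfl
    haveI := (hU.primeIdealOf ⟨x, hx⟩).isPrime
    obtain ⟨f, hf, hfree, hrank⟩ := (Groth.Agent.S6895.result (R := Γ(S, U)) Γ(F, U) r).mpr hval
      (hU.primeIdealOf ⟨x, hx⟩).asIdeal
    have hxf : x ∈ S.basicOpen f := by
      have hm : hU.primeIdealOf ⟨x, hx⟩ ∈ hU.fromSpec ⁻¹ᵁ S.basicOpen f := by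
        rw [hU.fromSpec_preimage_basicOpen]
        exact hf
      have hfs : hU.fromSpec (hU.primeIdealOf ⟨x, hx⟩) = x := hU.fromSpec_primeIdealOf ⟨x, hx⟩
      rw [← hfs]
      exact hm
    haveI := hfree
    obtain ⟨h2, h3⟩ := Groth.Agent.LocFree.free_finite_basicOpen hF hU f
    haveI : Nontrivial Γ(S, S.basicOpen f) := by
      haveI : Nonempty ((S.basicOpen f : S.Opens) : Scheme.{u}) := ⟨⟨_, hxf⟩⟩
      infer_instance
    let b := Module.Free.chooseBasis Γ(S, S.basicOpen f) Γ(F, S.basicOpen f)
    have hbot : ∀ k, k < r → Fitt.ideal Γ(S, S.basicOpen f) Γ(F, S.basicOpen f) k = ⊥ := fun k hk => by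
      rw [← FittLib.ideal_basicOpen hF hft ⟨U, hU⟩ f k, hval.1 k hk, Ideal.map_bot]
    have htop : Fitt.ideal Γ(S, S.basicOpen f) Γ(F, S.basicOpen f) r = ⊤ := by
      rw [← FittLib.ideal_basicOpen hF hft ⟨U, hU⟩ f r, hval.2 r le_rfl, Ideal.map_top]
    have hcard : Fintype.card (Module.Free.ChooseBasisIndex Γ(S, S.basicOpen f)
        Γ(F, S.basicOpen f)) = r := by
      rcases lt_trichotomy (Fintype.card (Module.Free.ChooseBasisIndex Γ(S, S.basicOpen f)
        Γ(F, S.basicOpen f))) r with h | h | h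
      · have := hbot _ h
        rw [FittLib.ideal_eq_top_of_generators b b.span_eq le_rfl] at this
        exact absurd this top_ne_bot
      · exact h
      · rw [FittLib.ideal_eq_minors b b.span_eq] at htop
        have hle : FittLib.minors Γ(S, S.basicOpen f) b (Fintype.card
            (Module.Free.ChooseBasisIndex Γ(S, S.basicOpen f) Γ(F, S.basicOpen f)) - r) ≤ ⊥ :=
          FittLib.minors_le fun z e hz => by
            rw [Ideal.mem_bot]
            exact Matrix.det_eq_zero_of_column_eq_zero ⟨0, Nat.sub_pos_of_lt h⟩ fun i => by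
              simp [funext (Fintype.linearIndependent_iff.mp b.linearIndependent (z ⟨0, Nat.sub_pos_of_lt h⟩)
                (FittLib.mem_rel.mp (hz ⟨0, Nat.sub_pos_of_lt h⟩)))]
        rw [htop] at hle
        exact absurd (le_bot_iff.mp hle) top_ne_bot
    exact ⟨S.basicOpen f, hxf, FittLib.exists_iso_of_basis hF (hU.basicOpen f)
      (b.reindex (Fintype.equivFinOfCardEq hcard))⟩

end Groth.Agent.S8875
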