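import Groth.Statements.S8913
import Groth.Agent.FittLib.StrictTransform2
import Groth.Agent.S8873
import Groth.Agent.S8875

set_option autoImplicit false
universe u
open CategoryTheory CategoryTheory.Limits AlgebraicGeometry TopologicalSpace
open SDiv Groth.Agent

namespace Groth.Agent.S8913

/-- Let X be a scheme, F a finitely presented O_X-module and U ⊆ X an open subscheme which is
scheme-theoretically dense and over which F is locally free of constant finite rank r. Then: (1)
Fit_r(F) is of finite type with support disjoint from U, so a blowing up b : X' ⟶ X of X in Fit_r(F)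
is U-admissible; (2) the strict transform G of F along such b is locally free of rank r; (3) the
kernel of the surjection b^*F ⟶ G is finitely presented and restricts to zero over b⁻¹U. This row
does not assert that b^*F and the kernel are perfect of tor dimension at most one. -/
theorem result (X : Scheme.{u}) (F : X.Modules) (hF : CohB1.IsFP F)
    (U : X.Opens) (hU : CInt.IsSchematicallyDense U) (r : ℕ) (hfree : FlatMod.IsFinLocFreeOfRank r (F.restrict U.ι)) :
    BlowUp.IsAdmissibleFor U (Fitt.sheafIdeal F r) ∧
      ∀ (X' : Scheme.{u}) (b : X' ⟶ X), BlowUp.IsBlowUp b (Fitt.sheafIdeal F r) →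
        ∀ (G : X'.Modules) (π : (Scheme.Modules.pullback b).obj F ⟶ G), BlowUp.IsStrictTransform b (Fitt.sheafIdeal F r) F G π →
          FlatMod.IsFinLocFreeOfRank r G ∧ CohB1.IsFP (kernel π) ∧ IsZero ((kernel π).restrict (b ⁻¹ᵁ U).ι) := by
  have hq : Coh.IsQCoh F := inferInstance
  have hft : CohB1.IsFT F := inferInstance
  have hres := (S8875.result _ _ (QC.isQCoh_restrict U.ι hq) (QC.isFT_restrict U.ι hft) r).1 hfree
  have hdisj : Disjoint ((Fitt.sheafIdeal F r).support : Set X) (U : Set X) := by
    rw [Set.disjoint_left]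
    intro x hx hxU
    have h := hres.2 r le_rfl
    rw [FittLib.sheafIdeal_restrict F hq hft] at h
    have hx' : (⟨x, hxU⟩ : (U : Scheme.{u})) ∈ ((Fitt.sheafIdeal F r).comap U.ι).support := by
      rw [Scheme.IdealSheafData.support_comap]
      exact hx
    rw [h] at hx'
    simp only [Scheme.IdealSheafData.support_top] at hx'
    exact hx'
  refine ⟨⟨S8873.result X F hF r, hdisj⟩, fun X' b hb G π hG => ?_⟩
  have hGq := FittLib.isQCoh_strictTransform b _ F G π hq hb.1 hG
  haveI : Epi π := hG.1
  have hP := QC.isCoh_pullback b (M := F) ⟨hq, hft⟩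
  have hGf : CohB1.IsFT G := QC.isFT_of_epi π hP.2
  have hfr : FlatMod.IsFinLocFreeOfRank r G := by
    refine (S8875.result X' G hGq hGf r).2 ⟨fun j hj => ?_, fun j hj =>
      FittLib.sheafIdeal_strictTransform_eq_top b F G π hq hft hb.1 hG hj⟩
    refine FittLib.sheafIdeal_strictTransform_eq_bot b _ F G π hq hft ⊤
      (fun _ _ => trivial) ?_ hb.1 hG
    have hz : Fitt.sheafIdeal F j = ⊥ := FittLib.eq_bot_of_dense hU (by
      rw [← FittLib.sheafIdeal_restrict F hq hft]
      exact hres.1 j hj)
    rw [hz, Scheme.IdealSheafData.comap_bot]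
  refine ⟨hfr, FittLib.isFP_kernel π hP.1 hGq (fun x => ?_) hfr,
    FittLib.isZero_kernel_restrict b _ F G π hG _ ?_⟩
  · obtain ⟨W, hW, hxW⟩ := QC.exists_affine_mem (b x)
    exact ⟨b ⁻¹ᵁ W, hxW, fun V hV hVW => FittLib.finitePresentation_pullback b hq hF hW hV hVW⟩
  · rw [Scheme.IdealSheafData.support_comap]
    exact hdisj.preimage b

end Groth.Agent.S8913
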