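import Groth.Statements.S14164
import Groth.Agent.S14124
import Groth.Agent.AgVanish.Fibre
import Groth.Agent.W7Cech.GrauertMain
import Groth.Agent.W7FlatBC.Sections
import Groth.Agent.TMul.RelAmpleOps
import Groth.Agent.W7Hull.FlatTwist
import Groth.Agent.GrpField.FibreHom

set_option autoImplicit false
set_option backward.isDefEq.respectTransparency false
set_option backward.isDefEq.respectTransparency.types false
set_option maxHeartbeats 1000000
set_option linter.style.haveILetI false
universe u
open CategoryTheory CategoryTheory.Limits MonoidalCategory CartesianMonoidalCategory MonObj AlgebraicGeometry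
open AgPol

namespace Groth.Agent.S14164

open scoped TensorProduct

/-- Relatively ample modules on abelian schemes have no higher fibre cohomology. -/
theorem fibre_vanish {S : Scheme.{u}} (A : Over S) [GrpObj A] [Smooth A.hom] [IsProper A.hom]
    [GeometricallyConnected A.hom] (L : A.left.Modules) (hL : PicF.IsInvertible L)
    (hample : RelAmple.IsRelAmple A.hom L) (y : S) (p : ℕ) (hp : 0 < p) :
    Subsingleton (CohIII.fiberH A.hom L y p) := by
  let K : Type u := S.residueField y
  let Ω : Type u := AlgebraicClosure K
  let a : Spec (CommRingCat.of Ω) ⟶ Spec (CommRingCat.of K) := Spec.map (CommRingCat.ofHom (algebraMap K Ω))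
  let q : Spec (CommRingCat.of Ω) ⟶ S := a ≫ S.fromSpecResidueField y
  letI : GrpObj ((Over.pullback q).obj A) := Functor.grpObjObj (F := Over.pullback q)
  let A' : Over (Spec (CommRingCat.of Ω)) := (Over.pullback q).obj A
  haveI : IsProper A'.hom := inferInstanceAs (IsProper (pullback.snd A.hom q))
  haveI : Smooth A'.hom := inferInstanceAs (Smooth (pullback.snd A.hom q))
  haveI : GeometricallyConnected A'.hom := inferInstanceAs (GeometricallyConnected (pullback.snd A.hom q))
  letI : A'.left.Over (Spec (CommRingCat.of Ω)) := ⟨A'.hom⟩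
  have ha : CohB1.IsAmple ((Scheme.Modules.pullback (pullback.fst A.hom q)).obj L) :=
    TMul.isRelAmple_iff_isAmple.1 (TMul.isRelAmple_baseChange q hample)
  have hv := (S14124.result Ω A' ((Scheme.Modules.pullback (pullback.fst A.hom q)).obj L) ha).1 p hp
  let f' : A.hom.fiber y ⟶ Spec (CommRingCat.of K) := A.hom.fiberToSpecResidueField y
  letI : (A.hom.fiber y).Over (Spec (CommRingCat.of K)) := ⟨f'⟩
  have H0 : IsPullback (A.hom.fiberι y) f' A.hom (S.fromSpecResidueField y) := IsPullback.of_hasPullback _ _
  haveI : IsProper f' := MorphismProperty.of_isPullback H0 ‹IsProper A.hom›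
  haveI : CompactSpace (A.hom.fiber y) := QuasiCompact.compactSpace_of_compactSpace f'
  haveI : QuasiSeparatedSpace (A.hom.fiber y) := quasiSeparatedSpace_of_quasiSeparated f'
  let g : A'.left ⟶ A.hom.fiber y := pullback.lift (pullback.fst A.hom q) (pullback.snd A.hom q ≫ a)
    (by rw [Category.assoc]; exact pullback.condition)
  have sq : IsPullback g (A'.left ↘ Spec (CommRingCat.of Ω)) ((A.hom.fiber y) ↘ Spec (CommRingCat.of K)) a := by
    refine IsPullback.of_right ?_ (pullback.lift_snd _ _ _) H0
    rw [show g ≫ A.hom.fiberι y = pullback.fst A.hom q from pullback.lift_fst _ _ _]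
    exact IsPullback.of_hasPullback A.hom q
  let Ly := CohIII.fiberMod A.hom L y
  have hLy : Coh.IsQCoh Ly := TMul.isQCoh_of_isInvertible (PicLoc.isInvertible_pullback _ hL)
  obtain ⟨e⟩ := W7FlatBC.nonempty_hh_baseChange K Ω g sq Ly hLy p
  have h1 : Subsingleton (Coh.HH A'.left ((Scheme.Modules.pullback g).obj Ly) p) :=
    CohQC.hh_subsingleton_of_iso ((Scheme.Modules.pullbackCongr (show g ≫ A.hom.fiberι y = pullback.fst A.hom q from
      pullback.lift_fst _ _ _)).symm.app L ≪≫ ((Scheme.Modules.pullbackComp g (A.hom.fiberι y)).app L).symm) p hv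
  haveI : Subsingleton (Ω ⊗[K] Coh.HH (A.hom.fiber y) Ly p) := e.toEquiv.subsingleton
  exact (Module.FaithfullyFlat.subsingleton_tensorProduct_iff_right K Ω).1 this

/-- Let S be a locally Noetherian scheme, A a projective abelian scheme over S of relative dimension g
with structure morphism π, and L an invertible module on A which is ample relative to π. Then R^i
π_* L = 0 for every i ≥ 1 (right derived functors of the direct image on modules), and π_* L is a
finite locally free module on S. -/
theorem result (S : Scheme.{u}) [IsLocallyNoetherian S]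
    (A : Over S) [GrpObj A] (g : ℕ) (hA : AgPol.IsAbSch A g) (hproj : RelProj.IsProjective A.hom)
    [HasInjectiveResolutions A.left.Modules]
    (L : A.left.Modules) (hL : PicF.IsInvertible L) (hample : RelAmple.IsRelAmple A.hom L) :
    (∀ i : ℕ, 1 ≤ i → IsZero ((Coh.Rpush A.hom i).obj L)) ∧
      FlatMod.IsFinLocFree ((Coh.push A.hom).obj L) := by
  haveI := hA.smooth
  haveI := hA.proper
  haveI := hA.geomConnected
  have hcoh : Coh.IsCoh L := ⟨TMul.isQCoh_of_isInvertible hL, TMul.isFT_of_isInvertible hL⟩
  have hfl : FlatMod.IsFlatOver A.hom L := W7Hull.isFlatOver_of_isInvertible A.hom hL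
  have h : ∀ i : ℕ, 1 ≤ i → IsZero ((Coh.Rpush A.hom i).obj L) := fun i hi =>
    (IsZero.iff_id_eq_zero _).2 (Scheme.Modules.hom_ext _ _ fun V => by
      ext s
      exact AgVanish.sections_zero_of_fiberH A.hom hcoh hfl i ⊤ (fun y _ => fibre_vanish A L hL hample y i hi) V le_top s)
  exact ⟨h, W7Hull.isFinLocFree_of_iso ((Coh.push A.hom).rightDerivedZeroIsoSelf.app L)
    (W7Cech.of_higher_vanish A.hom hcoh hfl h).2.1⟩

end Groth.Agent.S14164
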