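import Groth.Statements.S1866
import Mathlib
import Groth.Agent.AVAmple.Basic
import Groth.Agent.AmpleEmb.Closed
import Groth.Agent.S4272
import Groth.Agent.UFDLib.Regular
import Groth.Agent.SmLocalST.SmoothField

set_option autoImplicit false
set_option backward.isDefEq.respectTransparency false
universe u v
open CategoryTheory MonoidalCategory CartesianMonoidalCategory MonObj GrpObj AlgebraicGeometry
open GrpSch

namespace Groth.Agent.S1866

/-- An abelian variety over a field K is projective over K; stated as: there is a closed immersion into
projective n-space over K compatible with the structure morphisms, for some n. -/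
theorem result (K : Type u) [Field K] (A : Over (Spec (CommRingCat.of K))) [GrpObj A] [IsProper A.hom] [GeometricallyIntegral A.hom] : ∃ (n : ℕ) (j : A.left ⟶ CohB1.ProjSpace n K), IsClosedImmersion j ∧ j ≫ CohB1.ProjSpace.toSpec n K = A.hom := by
  haveI : Smooth A.hom := by
    haveI : GrpObj (Over.mk A.hom) := inferInstanceAs (GrpObj A)
    exact smooth_of_grpObj A.hom
  haveI : Subsingleton (Spec (CommRingCat.of K)) := inferInstanceAs (Subsingleton (PrimeSpectrum K))
  haveI : IsIntegral A.left := GeometricallyIntegral.isIntegral_of_subsingleton A.hom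
  haveI : IsLocallyNoetherian A.left := LocallyOfFiniteType.isLocallyNoetherian A.hom
  haveI : CompactSpace A.left := QuasiCompact.compactSpace_of_compactSpace A.hom
  haveI : IsNoetherian A.left := {}
  haveI : A.left.IsSeparated := ⟨by
    rw [show Limits.terminal.from A.left = A.hom ≫ Limits.terminal.from _ from Limits.terminal.hom_ext _ _]
    infer_instance⟩
  have hamp : MoreMor.HasAmpleFamily A.left := S4272.result A.left fun x => by
    haveI := SmLocalST.isRegularLocalRing_stalk_of_smooth_field A.hom x
    exact ⟨inferInstance, UFDLib.ufd_of_isRegularLocalRing _⟩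
  obtain ⟨x⟩ : Nonempty A.left := inferInstance
  obtain ⟨L, m, s, hL, -, hx, hU⟩ := hamp.2 x
  have hamp' := AVAmple.isAmple A (TMul.isInvertible_tensorPow hL m) s ⟨x, hx⟩ hU
  obtain ⟨n, -, r, -, hr, hcl, -⟩ := AmpleEmb.exists_closedImmersion_projSpace A.hom hamp'
  exact ⟨n, r, hcl, hr⟩

end Groth.Agent.S1866
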