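import Groth.Statements.S5798
import Groth.Agent.TopDim.Basic

set_option autoImplicit false
universe u
open TopDim

namespace Groth.Agent.S5798

/-- If (U_i) is an open covering of a topological space X, then dim(X) = sup_i dim(U_i). -/
theorem result (X : Type u) [TopologicalSpace X] (ι : Type u)
    (U : ι → TopologicalSpace.Opens X) (hcov : ⨆ i, U i = ⊤) :
    topologicalKrullDim X = ⨆ i, topologicalKrullDim (U i) := by
  refine le_antisymm (iSup_le fun l => ?_) (iSup_le fun i => Topology.IsInducing.subtypeVal.topologicalKrullDim_le)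
  obtain ⟨x, hx⟩ := (l 0).isIrreducible.nonempty
  obtain ⟨i, hi⟩ := TopologicalSpace.Opens.mem_iSup.mp (hcov.ge (TopologicalSpace.Opens.mem_top x))
  exact le_iSup_of_le i (Groth.Agent.TopDim.length_le_dim_open l (U i) hx hi)

end Groth.Agent.S5798
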