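import Groth.Statements.S3016
import Groth.Agent.MonoFactor.HomogDim
import Groth.Agent.GrpField.Range
import Groth.Agent.GrpField.SchImg
import Groth.Agent.ClosedRep.Over

import Mathlib

set_option autoImplicit false
universe u
open CategoryTheory MonoidalCategory CartesianMonoidalCategory MonObj GrpObj AlgebraicGeometry TensorProduct
open SGA3

namespace Groth.Agent.S3016

open Limits MonObj CartesianMonoidalCategory in
theorem dim_eq_field {k : Type u} [Field k] {K G H : Over (Spec (CommRingCat.of k))} [GrpObj G] [GrpObj H]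
    [LocallyOfFiniteType G.hom] [LocallyOfFiniteType H.hom] (u : G ⟶ H) [IsMonHom u] [QuasiCompact u.left]
    (i : K ⟶ G) (hi : AlgGrp.IsKernel i u) :
    topologicalKrullDim G.left = topologicalKrullDim (Set.range u.left.base) + topologicalKrullDim K.left := by
  haveI : LocallyOfFinitePresentation G.hom := inferInstance
  haveI : Flat K.hom := inferInstance
  obtain ⟨Q, hQg, q, hqm, m, hmm, hs, hf, hp, hQ, hmono, hfac, hsq⟩ :=
    MonoFactor.exists_quotient_kernel u (Or.inr inferInstance) i hi
  haveI := hs; haveI := hf; haveI := hp; haveI := hQ; haveI := hmono; haveI := hmm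
  haveI : QuasiCompact (q.left ≫ m.left) := by rw [← Over.comp_left, hfac]; infer_instance
  haveI : QuasiCompact m.left := ThickLib.quasiCompact_of_comp_surjective q.left m.left
  haveI : IsClosedImmersion m.left := GrpField.isClosedImmersion_of_mono m
  have hr : Set.range u.left.base = Set.range m.left.base := by
    rw [← hfac, Over.comp_left]
    exact q.left.surjective.range_comp m.left
  rw [hr, ← m.left.isClosedEmbedding.isEmbedding.toHomeomorph.isHomeomorph.topologicalKrullDim_eq]
  haveI : IsLocallyNoetherian G.left := LocallyOfFiniteType.isLocallyNoetherian G.hom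
  haveI : IsLocallyNoetherian Q.left := LocallyOfFiniteType.isLocallyNoetherian Q.hom
  have hdim : ∀ {Y : Over (Spec (CommRingCat.of k))} [GrpObj Y] [LocallyOfFiniteType Y.hom] (y : Y.left),
      FlatMor.localDim Y.left y = topologicalKrullDim Y.left := by
    intro Y _ _ y
    unfold FlatMor.localDim
    refine le_antisymm ?_ (le_iInf fun U => ?_)
    · exact (iInf_le _ (⟨⊤, trivial⟩ : {U : TopologicalSpace.Opens Y.left // y ∈ U})).trans_eq
        ((GrpField.equidimensional Y).2 y _ isOpen_univ trivial)
    · exact ((GrpField.equidimensional Y).2 y _ U.1.2 U.2).ge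
  haveI : Mono i := ⟨fun {T} a b e => hi.hom_ext e (toUnit_unique _ _)⟩
  haveI : LocallyOfFiniteType K.hom := by
    rw [← show (toUnit K).left = K.hom by simpa using Over.w (toUnit K)]
    haveI : LocallyOfFiniteType (u.left ≫ H.hom) := by rw [Over.w u]; infer_instance
    exact MorphismProperty.of_isPullback (P := @LocallyOfFiniteType) (hi.map (Over.forget _))
      (locallyOfFiniteType_of_comp u.left H.hom)
  let ek₀ : 𝟙_ (Over (Spec (CommRingCat.of k))) ⟶ K :=
    hi.lift 1 (toUnit _) (by rw [MonObj.one_comp, Hom.one_def])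
  let x₀ : K.left := ek₀.left (IsLocalRing.closedPoint k)
  obtain ⟨b, δ, -, hbd, -⟩ := CMChart.localDim_field_eq K.hom x₀
  have hfib : ∀ g, FlatMor.fibreDimAt q.left g = FlatMor.localDim K.left x₀ := fun g => by
    have hsq' : IsPullback ((G ◁ i) ≫ μ[G]).left (fst G K).left q.left q.left := (hsq.map (Over.forget _)).flip
    let ek : 𝟙_ (Over (Spec (CommRingCat.of k))) ⟶ K := hi.lift 1 (toUnit _) (by rw [MonObj.one_comp, Hom.one_def])
    let e : G ⟶ G ⊗ K := lift (𝟙 G) (toUnit G ≫ ek)
    have he : ((G ◁ i) ≫ μ[G]).left (e.left g) = g := by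
      rw [← Scheme.Hom.comp_apply, ← Over.comp_left]
      have : e ≫ (G ◁ i) ≫ μ[G] = 𝟙 G := by
        rw [← Category.assoc, show e ≫ G ◁ i = lift (𝟙 G) (1 : G ⟶ G) by
          apply CartesianMonoidalCategory.hom_ext
          · simp [e]
          · simp only [e, Category.assoc, whiskerLeft_snd, lift_snd_assoc, lift_snd]
            rw [show ek ≫ i = 1 from hi.lift_fst _ _ _, MonObj.comp_one], ← Hom.mul_def, _root_.mul_one]
      rw [this]
      rfl
    rw [← he, ← LocalDimBC.fibreDimAt_of_isPullback q.left q.left _ _ hsq' (e.left g)]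
    rw [LocalDimBC.fibreDimAt_of_isPullback K.hom G.hom (snd G K).left (fst G K).left
      (IsPullback.of_hasPullback G.hom K.hom).flip]
    rw [CMChart.fibreDimAt_eq_localDim K.hom]
    congr 1
    show (snd G K).left (e.left g) = x₀
    have : e ≫ snd G K = toUnit G ≫ hi.lift 1 (toUnit _) (by rw [MonObj.one_comp, Hom.one_def]) := by simp [e, ek]
    rw [← Scheme.Hom.comp_apply, ← Over.comp_left, this]
    rw [Over.comp_left, Scheme.Hom.comp_apply]
    exact congrArg (fun z => ek₀.left z) (Subsingleton.elim (α := PrimeSpectrum k) _ _)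
  rw [hbd] at hfib
  obtain ⟨g⟩ : Nonempty G.left := ⟨(η[G] : 𝟙_ _ ⟶ G).left (IsLocalRing.closedPoint k)⟩
  haveI : IsSeparated H.hom := ClosedRep.isSeparated_of_field k H
  haveI : IsClosedImmersion (η[H] : 𝟙_ (Over (Spec (CommRingCat.of k))) ⟶ H).left := by
    haveI : IsClosedImmersion ((η[H] : 𝟙_ (Over (Spec (CommRingCat.of k))) ⟶ H).left ≫ H.hom) := by
      rw [Over.w]; exact inferInstanceAs (IsClosedImmersion (𝟙 (Spec (CommRingCat.of k))))
    exact IsClosedImmersion.of_comp _ H.hom
  haveI : IsClosedImmersion i.left :=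
    MorphismProperty.of_isPullback (P := @IsClosedImmersion) (hi.map (Over.forget _)).flip ‹_›
  have hone : ∀ {T : Over (Spec (CommRingCat.of k))} (a : T ⟶ K), (a ≫ i) ≫ u = 1 := fun a => by
    rw [Category.assoc, hi.w, ← Category.assoc, toUnit_unique (a ≫ toUnit K) (toUnit _), Hom.one_def]
  obtain ⟨hKg, -⟩ := GrpField.SchImg.exists_grpObj_of_div i
    ⟨hi.lift η[G] (𝟙 _) (by simp), hi.lift_fst _ _ _⟩
    (fun T k₁ k₂ => ⟨hi.lift ((k₁ ≫ i)⁻¹ * (k₂ ≫ i)) (toUnit T) (by
      rw [MonObj.mul_comp, GrpObj.inv_comp, hone, hone, inv_one, _root_.one_mul, Hom.one_def]),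
      hi.lift_fst _ _ _⟩)
  letI := hKg
  have hK : topologicalKrullDim K.left = FlatMor.localDim K.left x₀ := (hdim x₀).symm
  rw [hK, hbd, ← hdim g, SpRelDim.localDim_eq_of_fibreDimAt q.left hfib g, hdim]


open Limits MonObj CartesianMonoidalCategory in
open scoped CategoryTheory.Obj in
theorem dim_eq {A k : Type u} [CommRing A] [Field k] (φ : A →+* k) (hφ : Function.Surjective φ)
    [Subsingleton (Spec (CommRingCat.of A))] {G H : Over (Spec (CommRingCat.of A))} [GrpObj G] [GrpObj H]
    [LocallyOfFiniteType G.hom] [LocallyOfFiniteType H.hom] (u : G ⟶ H) [IsMonHom u] [QuasiCompact u.left] :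
    topologicalKrullDim G.left =
      topologicalKrullDim (Set.range u.left.base) +
        topologicalKrullDim ↥(Limits.pullback u.left (η[H] : 𝟙_ (Over (Spec (CommRingCat.of A))) ⟶ H).left) := by
  let B := Spec (CommRingCat.of A)
  let jj : Spec (CommRingCat.of k) ⟶ B := Spec.map (CommRingCat.ofHom φ)
  haveI : IsClosedImmersion jj := IsClosedImmersion.spec_of_surjective _ hφ
  haveI : Surjective jj := ⟨fun x => ⟨IsLocalRing.closedPoint k, Subsingleton.elim _ _⟩⟩
  let Φ := Over.pullback jj
  haveI : LocallyOfFiniteType (Φ.obj G).hom := inferInstanceAs (LocallyOfFiniteType (Limits.pullback.snd G.hom jj))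
  haveI : LocallyOfFiniteType (Φ.obj H).hom := inferInstanceAs (LocallyOfFiniteType (Limits.pullback.snd H.hom jj))
  haveI : QuasiCompact (Φ.map u).left :=
    MorphismProperty.of_isPullback (P := @QuasiCompact) (GrpLoc.isPullback_bc jj u) ‹QuasiCompact u.left›
  let K := Limits.pullback u (η[H] : 𝟙_ (Over B) ⟶ H)
  let ii : K ⟶ G := Limits.pullback.fst u η[H]
  have hsq := (IsPullback.of_hasPullback u (η[H] : 𝟙_ (Over B) ⟶ H)).map Φ
  have hker : AlgGrp.IsKernel (Φ.map ii) (Φ.map u) := by
    have h2 : IsPullback (Φ.map ii) (Φ.map (Limits.pullback.snd u η[H]) ≫ (Functor.Monoidal.εIso Φ).inv) (Φ.map u)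
        η[Φ.obj H] := by
      refine hsq.of_iso (Iso.refl _) (Iso.refl _) (Functor.Monoidal.εIso Φ).symm (Iso.refl _) ?_ ?_ ?_ ?_
      · simp [ii]
      · simp
      · simp
      · rw [Functor.obj.η_def, Iso.refl_hom, Category.comp_id, Iso.symm_hom]
        exact ((Functor.Monoidal.εIso Φ).inv_hom_id_assoc _).symm
    rwa [toUnit_unique (Φ.map (Limits.pullback.snd u η[H]) ≫ (Functor.Monoidal.εIso Φ).inv) (toUnit _)] at h2
  have hd := dim_eq_field (Φ.map u) (Φ.map ii) hker
  have hhomeo : ∀ Y : Over B, IsHomeomorph (Limits.pullback.fst Y.hom jj) := fun Y =>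
    isHomeomorph_iff_isEmbedding_surjective.2
      ⟨(Limits.pullback.fst Y.hom jj).isClosedEmbedding.isEmbedding, (Limits.pullback.fst Y.hom jj).surjective⟩
  let eH : (Φ.obj H).left ≃ₜ H.left := (hhomeo H).homeomorph _
  have hrange : eH '' Set.range (Φ.map u).left.base = Set.range u.left.base := by
    rw [← Set.range_comp, ← (Limits.pullback.fst G.hom jj).surjective.range_comp u.left]
    congr 1
    funext x
    show Limits.pullback.fst H.hom jj ((Φ.map u).left x) = u.left (Limits.pullback.fst G.hom jj x)
    rw [← Scheme.Hom.comp_apply, GrpLoc.bc_fst jj u, Scheme.Hom.comp_apply]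
  have h2 := (IsPullback.of_hasPullback u (η[H] : 𝟙_ (Over B) ⟶ H)).map (Over.forget B)
  have hiso : IsHomeomorph h2.isoPullback.hom.base :=
    (TopCat.homeoOfIso (Scheme.forgetToTop.mapIso h2.isoPullback)).isHomeomorph
  rw [← hrange, ← (eH.image _).isHomeomorph.topologicalKrullDim_eq]
  refine (hhomeo G).topologicalKrullDim_eq.symm.trans (hd.trans (congrArg _ ?_))
  exact (hhomeo K).topologicalKrullDim_eq.trans hiso.topologicalKrullDim_eq

/-- Let A be a local artinian ring and u : G → H a quasi-compact homomorphism between group schemes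
locally of finite type over A. Then the image u(G) is a closed subset of H, and dim G = dim u(G) +
dim Ker u (dimensions of the underlying topological spaces; Ker u is the fibre of u over the unit
section). -/
theorem result (A : Type u) [CommRing A] [IsArtinianRing A] [IsLocalRing A]
    (G H : Over (Spec (CommRingCat.of A))) [GrpObj G] [GrpObj H] [LocallyOfFiniteType G.hom] [LocallyOfFiniteType H.hom]
    (u : G ⟶ H) [IsMonHom u] [QuasiCompact u.left] :
    IsClosed (Set.range u.left.base) ∧
    topologicalKrullDim G.left =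
      topologicalKrullDim (Set.range u.left.base) +
        topologicalKrullDim ↥(Limits.pullback u.left (η[H] : 𝟙_ (Over (Spec (CommRingCat.of A))) ⟶ H).left) := by
  haveI : Subsingleton (Spec (CommRingCat.of A)) := GrpField.subsingleton_spec_local_artin A
  haveI : IsLocallyNoetherian H.left := LocallyOfFiniteType.isLocallyNoetherian H.hom
  haveI : LocallyOfFiniteType (u.left ≫ H.hom) := by rw [Over.w u]; infer_instance
  haveI : LocallyOfFiniteType u.left := locallyOfFiniteType_of_comp u.left H.hom
  haveI : LocallyOfFinitePresentation u.left := inferInstance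
  exact ⟨GrpField.isClosed_range u, dim_eq (IsLocalRing.residue A) IsLocalRing.residue_surjective u⟩

end Groth.Agent.S3016
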