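import Groth.Statements.S16130
import Groth.Agent.GrpAct.Stabilizer
import Groth.Agent.GrpAct.OrbitDim
import Groth.Agent.MonoFactor.HomogDim
import Groth.Agent.TopDim.Basic
import Groth.Agent.S3016

set_option autoImplicit false
universe u
open CategoryTheory MonoidalCategory CartesianMonoidalCategory MonObj GrpObj AlgebraicGeometry CategoryTheory.Limits
open AlgGrp

namespace Groth.Agent.S16130

open Limits in
set_option backward.isDefEq.respectTransparency false in
theorem main {k : Type u} [Field k] [IsAlgClosed k]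
    {G X : Over (Spec (CommRingCat.of k))} [GrpObj G] [Smooth G.hom] [QuasiCompact G.hom]
    [IsSeparated X.hom] [LocallyOfFiniteType X.hom]
    (a : AlgGrp.Action G X) (x : 𝟙_ (Over (Spec (CommRingCat.of k))) ⟶ X) :
    topologicalKrullDim G.left =
      topologicalKrullDim (Set.range (a.orbitMap x).left.base) +
        topologicalKrullDim ↥(Limits.pullback (a.orbitMap x).left x.left) := by
  have : Subsingleton (Spec (CommRingCat.of k)) := inferInstanceAs (Subsingleton (PrimeSpectrum k))
  have : QuasiSeparatedSpace X.left := quasiSeparatedSpace_of_quasiSeparated X.hom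
  obtain ⟨O₀, j, hj, hred, hr⟩ :=
    Groth.Agent.GrpAct.exists_reduced_subscheme (Groth.Agent.GrpAct.isLocallyClosed_orbit' a x)
  let O : Over (Spec (CommRingCat.of k)) := Over.mk (j ≫ X.hom)
  let jO : O ⟶ X := Over.homMk j
  have : IsImmersion jO.left := hj
  have : IsReduced O.left := hred
  have : LocallyOfFiniteType O.hom := inferInstanceAs (LocallyOfFiniteType (j ≫ X.hom))
  have : IsLocallyNoetherian O.left := LocallyOfFiniteType.isLocallyNoetherian O.hom
  have : IsLocallyNoetherian G.left := LocallyOfFiniteType.isLocallyNoetherian G.hom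
  obtain ⟨φ, hφ, hflat, hsurj, hfp, -⟩ := Groth.Agent.GrpAct.exists_flat_orbitMap a x jO hr
  have : Mono jO := (Over.forget _).mono_of_mono_map (inferInstanceAs (Mono jO.left))
  -- the stabiliser
  let H : Over (Spec (CommRingCat.of k)) := pullback (a.orbitMap x) x
  let i : H ⟶ G := pullback.fst _ _
  have hH : IsPullback i (toUnit H) (a.orbitMap x) x := by
    have := IsPullback.of_hasPullback (a.orbitMap x) x
    rwa [toUnit_unique (pullback.snd (a.orbitMap x) x) (toUnit H)] at this
  let eH : H.left ≅ Limits.pullback (a.orbitMap x).left x.left :=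
    ((IsPullback.of_hasPullback (a.orbitMap x) x).map (Over.forget _)).isoPullback
  rw [← eH.hom.homeomorph.isHomeomorph.topologicalKrullDim_eq]
  have hO' : topologicalKrullDim (Set.range (a.orbitMap x).left.base) = topologicalKrullDim O.left := by
    rw [show Set.range (a.orbitMap x).left.base = Set.range j from hr.symm]
    exact j.isEmbedding.toHomeomorph.symm.isHomeomorph.topologicalKrullDim_eq
  rw [hO']
  have : IsClosedImmersion x.left := by
    have : IsClosedImmersion (x.left ≫ X.hom) := by
      rw [Over.w]; exact inferInstanceAs (IsClosedImmersion (𝟙 (Spec (CommRingCat.of k))))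
    exact IsClosedImmersion.of_comp _ X.hom
  have : IsClosedImmersion i.left :=
    MorphismProperty.of_isPullback (P := @IsClosedImmersion) (hH.map (Over.forget _)).flip ‹_›
  have : Mono i := (Over.forget _).mono_of_mono_map (inferInstanceAs (Mono i.left))
  have : LocallyOfFiniteType H.hom := by
    rw [← Over.w i]
    infer_instance
  let e₀ : 𝟙_ (Over (Spec (CommRingCat.of k))) ⟶ H := hH.lift η[G] (toUnit _) (by
    rw [Groth.Agent.GrpAct.comp_orbitMap, ← Category.id_comp η[G],
      show (𝟙 _ : 𝟙_ (Over (Spec (CommRingCat.of k))) ⟶ _) = toUnit _ from toUnit_unique _ _,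
      Groth.Agent.GrpAct.one_smul])
  obtain ⟨hHg, -⟩ := Groth.Agent.GrpField.SchImg.exists_grpObj_of_div i
    ⟨e₀, hH.lift_fst _ _ _⟩
    (fun T h₁ h₂ => ⟨hH.lift ((h₁ ≫ i)⁻¹ * (h₂ ≫ i)) (toUnit T) (by
      have hs : ∀ h : T ⟶ H, lift (h ≫ i) (toUnit T ≫ x) ≫ a.act = toUnit T ≫ x := fun h => by
        rw [← Groth.Agent.GrpAct.comp_orbitMap, Category.assoc, hH.w, comp_toUnit_assoc]
      rw [Groth.Agent.GrpAct.comp_orbitMap, Groth.Agent.GrpAct.mul_smul, hs h₂]
      conv_lhs => rw [← hs h₁]
      rw [← Groth.Agent.GrpAct.mul_smul, inv_mul_cancel, Groth.Agent.GrpAct.one_smul']),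
      hH.lift_fst _ _ _⟩)
  let := hHg
  have hdim : ∀ {Y : Over (Spec (CommRingCat.of k))} [GrpObj Y] [LocallyOfFiniteType Y.hom] (y : Y.left),
      FlatMor.localDim Y.left y = topologicalKrullDim Y.left := by
    intro Y _ _ y
    unfold FlatMor.localDim
    refine le_antisymm ?_ (le_iInf fun U => ?_)
    · exact (iInf_le _ (⟨⊤, trivial⟩ : {U : TopologicalSpace.Opens Y.left // y ∈ U})).trans_eq
        ((Groth.Agent.GrpField.equidimensional Y).2 y _ isOpen_univ trivial)
    · exact ((Groth.Agent.GrpField.equidimensional Y).2 y _ U.1.2 U.2).ge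
  let g₀ : G.left := η[G].left (IsLocalRing.closedPoint k)
  let x₀ : H.left := e₀.left (IsLocalRing.closedPoint k)
  obtain ⟨b, δ, -, hbd, -⟩ := Groth.Agent.CMChart.localDim_field_eq H.hom x₀
  obtain ⟨b', δ', -, hbd', -⟩ := Groth.Agent.CMChart.localDim_field_eq G.hom g₀
  let d := b + δ
  have hHd : topologicalKrullDim H.left = (d : WithBot ℕ∞) := (hdim x₀).symm.trans hbd
  have hGd : topologicalKrullDim G.left = ((b' + δ' : ℕ) : WithBot ℕ∞) := (hdim g₀).symm.trans hbd'
  have : LocallyOfFiniteType φ.left := inferInstance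
  have hfib : ∀ g, FlatMor.fibreDimAt φ.left g = d := fun g => by
    have hsq0 := Groth.Agent.GrpAct.isPullback_of_stabilizer a x i hH
    have hsqφ : IsPullback ((G ◁ i) ≫ μ[G]) (fst G H) φ φ := by
      refine IsPullback.of_isLimit' ⟨by rw [← cancel_mono jO, Category.assoc, Category.assoc (fst G H), hφ, hsq0.w]⟩
        (PullbackCone.IsLimit.mk _ (fun s => hsq0.lift s.snd s.fst ?_) (fun s => hsq0.lift_snd _ _ _)
          (fun s => hsq0.lift_fst _ _ _) fun s m h1 h2 => hsq0.hom_ext ?_ ?_)
      · rw [← hφ, ← Category.assoc, ← Category.assoc, s.condition]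
      · rw [hsq0.lift_fst]; exact h2
      · rw [hsq0.lift_snd]; exact h1
    have hsq' : IsPullback ((G ◁ i) ≫ μ[G]).left (fst G H).left φ.left φ.left := hsqφ.map (Over.forget _)
    let e : G ⟶ G ⊗ H := lift (𝟙 G) (toUnit G ≫ e₀)
    have he : ((G ◁ i) ≫ μ[G]).left (e.left g) = g := by
      rw [← Scheme.Hom.comp_apply, ← Over.comp_left]
      have : e ≫ (G ◁ i) ≫ μ[G] = 𝟙 G := by
        rw [← Category.assoc, show e ≫ G ◁ i = lift (𝟙 G) (1 : G ⟶ G) by
          apply CartesianMonoidalCategory.hom_ext
          · simp [e]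
          · simp only [e, Category.assoc, whiskerLeft_snd, lift_snd_assoc, lift_snd]
            rw [show e₀ ≫ i = η[G] from hH.lift_fst _ _ _, Hom.one_def], ← Hom.mul_def, _root_.mul_one]
      rw [this]
      rfl
    rw [← he, ← Groth.Agent.LocalDimBC.fibreDimAt_of_isPullback φ.left φ.left _ _ hsq' (e.left g)]
    rw [Groth.Agent.LocalDimBC.fibreDimAt_of_isPullback H.hom G.hom (snd G H).left (fst G H).left
      (IsPullback.of_hasPullback G.hom H.hom).flip]
    rw [Groth.Agent.CMChart.fibreDimAt_eq_localDim H.hom, hdim, hHd]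
  have hloc : ∀ w : O.left, FlatMor.localDim O.left w + (d : WithBot ℕ∞) = ((b' + δ' : ℕ) : WithBot ℕ∞) := fun w => by
    obtain ⟨g, rfl⟩ := hsurj.surj w
    rw [← Groth.Agent.SpRelDim.localDim_eq_of_fibreDimAt φ.left hfib g, hdim, hGd]
  have hnat : ∀ w : O.left, ∃ e : ℕ, FlatMor.localDim O.left w = (e : WithBot ℕ∞) ∧ e + d = b' + δ' := fun w => by
    obtain ⟨bw, δw, -, hw, -⟩ := Groth.Agent.CMChart.localDim_field_eq O.hom w
    refine ⟨_, hw, ?_⟩
    have := hloc w
    rw [hw, ← Nat.cast_add] at this
    exact_mod_cast this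
  have : Nonempty O.left := ⟨φ.left g₀⟩
  obtain ⟨e, -, he⟩ := hnat (Classical.arbitrary _)
  have hOd : topologicalKrullDim O.left = (e : WithBot ℕ∞) := by
    rw [Groth.Agent.TopDim.dim_eq_iSup_localDim]
    refine le_antisymm (iSup_le fun w => ?_) ?_
    · obtain ⟨e', h1, h2⟩ := hnat w
      rw [h1, show e' = e by omega]
    · obtain ⟨e', h1, h2⟩ := hnat (Classical.arbitrary _)
      refine le_trans ?_ (le_iSup _ (Classical.arbitrary _))
      rw [h1, show e' = e by omega]
  rw [hOd, hHd, hGd, ← Nat.cast_add, he]

/-- Over an algebraically closed field k, let G be an algebraic group (a smooth k-group scheme of finite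
type, not necessarily connected) acting on a variety X (a reduced separated k-scheme of finite
type), and let x be a k-point of X with orbit map α_x : G → X. Then dim G = dim(G · x) + dim(G_x),
where G · x is the image of α_x with its subspace topology and G_x is the stabilizer, the fibre of
α_x over x; all dimensions are Krull dimensions of topological spaces. (The published statement also
asserts that the irreducible components of G · x are precisely the G⁰-orbits it contains, all of
that dimension; that clause is not stated here.) -/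
theorem result (k : Type u) [Field k] [IsAlgClosed k]
    (G X : Over (Spec (CommRingCat.of k))) [GrpObj G] [Smooth G.hom] [QuasiCompact G.hom]
    [IsReduced X.left] [IsSeparated X.hom] [LocallyOfFiniteType X.hom] [QuasiCompact X.hom]
    (a : AlgGrp.Action G X) (x : 𝟙_ (Over (Spec (CommRingCat.of k))) ⟶ X) :
    topologicalKrullDim ↥G.left =
      topologicalKrullDim ↥(Set.range (a.orbitMap x).left.base) +
        topologicalKrullDim ↥(Limits.pullback (a.orbitMap x).left x.left) := by
  exact main a x

end Groth.Agent.S16130
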