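import Groth.Statements.S1677
import Groth.Agent.SyntLib.SmoothReg
import Groth.Agent.SyntLib.CIMor

set_option autoImplicit false
universe u
open CategoryTheory CategoryTheory.Limits AlgebraicGeometry TopologicalSpace
open SDiv

namespace Groth.Agent.S1677

/-- Let X ⟶ S be smooth, Y ⟶ S flat, locally of finite presentation with complete-intersection fibre
local rings (syntomic), and i : Y ⟶ X a closed immersion over S. Then i is a regular closed
immersion. -/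
theorem result {X Y S : Scheme.{u}} (p : X ⟶ S) [Smooth p] (i : Y ⟶ X)
    [IsClosedImmersion i] (hY : CInt.IsCIMorphism (i ≫ p)) : Mor2.IsRegularClosedImmersion i := by
  refine ⟨inferInstance, fun z => ?_⟩
  have hsyn := (SyntLib.synMor_iff_isCIMorphism (i ≫ p)).mpr hY
  rw [SyntLib.SynMor, affineLocally_iff_affineOpens_le] at hsyn
  obtain ⟨_, ⟨V, hV, rfl⟩, hzV, -⟩ :=
    S.isBasis_affineOpens.exists_subset_of_mem_open (Set.mem_univ (p (i z))) isOpen_univ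
  obtain ⟨_, ⟨U₀, hU₀, rfl⟩, hzU, hUV⟩ :=
    X.isBasis_affineOpens.exists_subset_of_mem_open (show i z ∈ ((p ⁻¹ᵁ V : X.Opens) : Set X) from hzV) (p ⁻¹ᵁ V).2
  have hW : IsAffineOpen (i ⁻¹ᵁ U₀) := hU₀.preimage i
  have eW : i ⁻¹ᵁ U₀ ≤ (i ≫ p) ⁻¹ᵁ V := fun w hw => hUV hw
  have hs := hsyn ⟨V, hV⟩ ⟨i ⁻¹ᵁ U₀, hW⟩ eW
  have hsm : (p.appLE V U₀ hUV).hom.Smooth :=
    HasRingHomProperty.appLE @Smooth p inferInstance ⟨V, hV⟩ ⟨U₀, hU₀⟩ hUV
  have hfac : (i ≫ p).appLE V (i ⁻¹ᵁ U₀) eW = p.appLE V U₀ hUV ≫ i.app U₀ := by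
    rw [Scheme.Hom.app_eq_appLE]
    exact (Scheme.Hom.appLE_comp_appLE i p V U₀ (i ⁻¹ᵁ U₀) hUV le_rfl).symm
  rw [hfac] at hs
  letI : Algebra Γ(S, V) Γ(X, U₀) := (p.appLE V U₀ hUV).hom.toAlgebra
  letI : Algebra Γ(S, V) Γ(Y, i ⁻¹ᵁ U₀) := (p.appLE V U₀ hUV ≫ i.app U₀).hom.toAlgebra
  haveI : Algebra.Smooth Γ(S, V) Γ(X, U₀) := hsm
  let φ : Γ(X, U₀) →ₐ[Γ(S, V)] Γ(Y, i ⁻¹ᵁ U₀) := ⟨(i.app U₀).hom, fun _ => rfl⟩
  have hφ : Function.Surjective φ := Scheme.Hom.app_surjective i U₀ hU₀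
  obtain ⟨g, c, f, hgq, hker, hreg⟩ := SyntLib.exists_regular_smooth φ hφ hs (hW.primeIdealOf ⟨z, hzU⟩).asIdeal
  have hzg : i z ∈ X.basicOpen g := by
    have h2 : hW.primeIdealOf ⟨z, hzU⟩ ∈ hW.fromSpec ⁻¹ᵁ Y.basicOpen (i.app U₀ g) := by
      rw [hW.fromSpec_preimage_basicOpen]
      exact hgq
    have h3 : hW.fromSpec (hW.primeIdealOf ⟨z, hzU⟩) ∈ Y.basicOpen (i.app U₀ g) := h2
    rw [hW.fromSpec_primeIdealOf ⟨z, hzU⟩] at h3
    have h4 : z ∈ i ⁻¹ᵁ X.basicOpen g := by rw [Scheme.preimage_basicOpen]; exact h3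
    exact h4
  refine ⟨X.basicOpen g, hU₀.basicOpen g, hzg, ?_⟩
  letI : Algebra Γ(X, U₀) Γ(X, X.basicOpen g) := (X.presheaf.map (homOfLE (X.basicOpen_le g)).op).hom.toAlgebra
  haveI : IsLocalization.Away g Γ(X, X.basicOpen g) := hU₀.isLocalization_basicOpen g
  let e : Localization.Away g ≃ₐ[Γ(X, U₀)] Γ(X, X.basicOpen g) :=
    IsLocalization.algEquiv (Submonoid.powers g) _ _
  let rs : List Γ(X, X.basicOpen g) := List.ofFn (algebraMap Γ(X, U₀) Γ(X, X.basicOpen g) ∘ f)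
  have hw : RingTheory.Sequence.IsWeaklyRegular Γ(X, X.basicOpen g) rs := by
    have h1 : RingTheory.Sequence.IsWeaklyRegular (Localization.Away g) (List.ofFn f) := by
      rw [← RingTheory.Sequence.isWeaklyRegular_map_algebraMap_iff (Localization.Away g) (Localization.Away g),
        List.map_ofFn]
      exact hreg
    have h2 := (e.toLinearEquiv.isWeaklyRegular_congr (List.ofFn f)).mp h1
    rw [← RingTheory.Sequence.isWeaklyRegular_map_algebraMap_iff Γ(X, X.basicOpen g) Γ(X, X.basicOpen g),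
      List.map_ofFn] at h2
    exact h2
  have hideal : i.ker.ideal ⟨X.basicOpen g, hU₀.basicOpen g⟩ = Ideal.ofList rs := by
    rw [← Scheme.IdealSheafData.map_ideal i.ker (U := ⟨X.basicOpen g, hU₀.basicOpen g⟩) (V := ⟨U₀, hU₀⟩)
      (X.basicOpen_le g), Scheme.Hom.ker_apply]
    show (RingHom.ker φ.toRingHom).map (algebraMap Γ(X, U₀) Γ(X, X.basicOpen g)) = _
    have h := congrArg (Ideal.map e.toRingEquiv.toRingHom) hker
    rw [Ideal.map_map, Ideal.map_span, ← Set.range_comp] at h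
    rw [show e.toRingEquiv.toRingHom.comp (algebraMap Γ(X, U₀) (Localization.Away g)) =
      algebraMap Γ(X, U₀) Γ(X, X.basicOpen g) from RingHom.ext e.commutes] at h
    refine h.trans ?_
    rw [SyntLib.ofList_ofFn]
    congr 2
    exact funext fun j => e.commutes (f j)
  refine ⟨rs, ⟨hw, fun htop => ?_⟩, hideal⟩
  rw [smul_eq_mul, Ideal.mul_top, ← hideal, Scheme.Hom.ker_apply] at htop
  haveI : Subsingleton Γ(Y, i ⁻¹ᵁ X.basicOpen g) := by
    refine subsingleton_iff_zero_eq_one.mp ?_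
    have h1 : (1 : Γ(X, X.basicOpen g)) ∈ RingHom.ker (i.app (X.basicOpen g)).hom := htop ▸ Submodule.mem_top
    rw [RingHom.mem_ker, map_one] at h1
    exact h1.symm
  have hemp : i ⁻¹ᵁ X.basicOpen g = ⊥ := by
    by_contra hne
    haveI : Nonempty (i ⁻¹ᵁ X.basicOpen g) := by
      obtain ⟨w, hw⟩ := Set.nonempty_iff_ne_empty.mpr fun h0 => hne (SetLike.coe_injective h0)
      exact ⟨⟨w, hw⟩⟩
    exact not_subsingleton Γ(Y, i ⁻¹ᵁ X.basicOpen g) inferInstance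
  have : z ∈ i ⁻¹ᵁ X.basicOpen g := hzg
  rw [hemp] at this
  exact this

end Groth.Agent.S1677
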