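import Groth.Statements.S19416
import Groth.Agent.SectRank.Main
import Groth.Agent.SectRank.Bound
import Groth.Agent.BMCoh.Height

set_option autoImplicit false
universe u
open CategoryTheory AlgebraicGeometry
open IntMult

namespace Groth.Agent.S19416

/-- Let k be a field and X a smooth variety over k (the structure morphism X → Spec k smooth, separated
and quasi-compact, X integral) of dimension n, and let V, W ⊆ X be closed irreducible subsets of
dimensions r and s. Then every irreducible component Z of V ∩ W has dimension at least r + s − n,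
stated as r + s ≤ dim Z + n with Krull dimensions of the subspaces; equivalently the codimension of
Z is at most the sum of the codimensions of V and W. The base field is arbitrary here; the same
statement over an algebraically closed field is the classical dimension count for intersections on a
nonsingular variety. -/
theorem result (k : Type u) [Field k] (X : Scheme.{u})
    (f : X ⟶ Spec (CommRingCat.of k)) [Smooth f] [IsSeparated f] [QuasiCompact f] [IsIntegral X]
    (n r s : ℕ) (hn : topologicalKrullDim X = n) (V W : Set X) (hVc : IsClosed V)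
    (hVi : IsIrreducible V) (hWc : IsClosed W) (hWi : IsIrreducible W)
    (hr : topologicalKrullDim ↥V = r) (hs : topologicalKrullDim ↥W = s) (Z : Set ↥(V ∩ W))
    (hZ : Z ∈ irreducibleComponents ↥(V ∩ W)) :
    ((r + s : ℕ) : WithBot ℕ∞) ≤ topologicalKrullDim ↥Z + n := by
  open CategoryTheory CategoryTheory.Limits in
  haveI : SmoothOfRelativeDimension n f := Groth.Agent.SectRank.smoothOfRelativeDimension_of_dim f hn
  haveI : SmoothOfRelativeDimension n (pullback.fst f f) :=
    (smoothOfRelativeDimension_isStableUnderBaseChange n).of_isPullback (IsPullback.of_hasPullback f f).flip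
      inferInstance
  have hΔ : RegImm.IsRegularImmersionOfCodim RegImm.Kind.regular n (pullback.diagonal f) :=
    Groth.Agent.SectRank.isRegularImmersionOfCodim_of_section n (pullback.fst f f) (pullback.diagonal f)
      (pullback.diagonal_fst f)
  let IV := Scheme.IdealSheafData.vanishingIdeal (⟨V, hVc⟩ : TopologicalSpace.Closeds X)
  let IW := Scheme.IdealSheafData.vanishingIdeal (⟨W, hWc⟩ : TopologicalSpace.Closeds X)
  let iV := IV.subschemeι
  let iW := IW.subschemeι
  have hrV : Set.range iV = V := by
    rw [Scheme.IdealSheafData.range_subschemeι, Scheme.IdealSheafData.coe_support_vanishingIdeal]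
    rfl
  have hrW : Set.range iW = W := by
    rw [Scheme.IdealSheafData.range_subschemeι, Scheme.IdealSheafData.coe_support_vanishingIdeal]
    rfl
  have gen : ∀ (A : Scheme.{u}) (i : A ⟶ X) [IsClosedImmersion i] (S : Set X) (r : ℕ), Set.range i = S →
      IsIrreducible S → topologicalKrullDim ↥S = r →
      ∀ a : A, Groth.Agent.Unibranch.IsMaxPt a → WeilCoh.pdim A a = r := by
    intro A i _ S r hi hS hr a ha
    have e : A ≃ₜ ↥S := i.isClosedEmbedding.isEmbedding.toHomeomorph.trans (Homeomorph.setCongr hi)
    haveI : IrreducibleSpace ↥S := Subtype.irreducibleSpace hS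
    haveI : IrreducibleSpace A := e.symm.surjective.irreducibleSpace e.symm.continuous
    obtain ⟨d, hd, h⟩ := Groth.Agent.FlatDim.exists_pdim_irreducible (i ≫ f)
    rw [IsHomeomorph.topologicalKrullDim_eq _ e.isHomeomorph, hr, Nat.cast_inj] at hd
    exact (h a ha).trans hd.symm
  let qa := iV ≫ f
  let qb := iW ≫ f
  let π : pullback qa qb ⟶ pullback f f :=
    pullback.map qa qb f f iV iW (𝟙 _) (Category.comp_id _) (Category.comp_id _)
  have hπ : Set.range π = pullback.fst f f ⁻¹' V ∩ pullback.snd f f ⁻¹' W := by
    rw [Scheme.Pullback.range_map, hrV, hrW]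
  obtain ⟨z, hzR, hdim, hmax⟩ :=
    Groth.Agent.SectRank.exists_generic_component f (hVc.inter hWc).isLocallyClosed hZ
  obtain ⟨g, hg⟩ : pullback.diagonal f z ∈ Set.range π := by
    rw [hπ]
    refine ⟨?_, ?_⟩
    · show pullback.fst f f (pullback.diagonal f z) ∈ V
      rw [← Scheme.Hom.comp_apply, pullback.diagonal_fst]
      exact hzR.1
    · show pullback.snd f f (pullback.diagonal f z) ∈ W
      rw [← Scheme.Hom.comp_apply, pullback.diagonal_snd]
      exact hzR.2
  obtain ⟨ζ, hζ, hζg⟩ := Groth.Agent.Unibranch.exists_isMaxPt_specializes g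
  obtain ⟨hζ1, hζ2, hζp⟩ := Groth.Agent.SectRank.pdim_prod qa qb hζ
  rw [gen _ iV V r hrV hVi hr _ hζ1, gen _ iW W s hrW hWi hs _ hζ2] at hζp
  haveI : IsClosedImmersion π :=
    MorphismProperty.pullbackMap (P := @IsClosedImmersion) (i₁ := iV) (i₂ := iW) (f := qa) (g := qb) inferInstance inferInstance rfl rfl
  have hpd : WeilCoh.pdim (pullback qa qb) g = WeilCoh.pdim X z := by
    rw [← Groth.Agent.BMCoh.pdim_eq_of_isClosedEmbedding π π.isClosedEmbedding g, hg,
      Groth.Agent.BMCoh.pdim_eq_of_isClosedEmbedding _ (pullback.diagonal f).isClosedEmbedding z]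
  rw [← hζp]
  refine Groth.Agent.SectRank.pdim_le_add_dim_of_component (pullback.fst qa qb ≫ qa) π (pullback.diagonal f) hΔ
    hζg ⟨z, hg.symm⟩ ?_ (by rw [hdim, hpd])
  rintro y hy ⟨y', hy'⟩
  have h1 : π y ∈ Set.range π := ⟨y, rfl⟩
  rw [hπ, ← hy', Set.mem_inter_iff, Set.mem_preimage, Set.mem_preimage, ← Scheme.Hom.comp_apply,
    ← Scheme.Hom.comp_apply, pullback.diagonal_fst, pullback.diagonal_snd] at h1
  have h2 : y' ⤳ z := by
    rw [← (pullback.diagonal f).isEmbedding.isInducing.specializes_iff, hy', ← hg]
    exact hy.map π.continuous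
  have h3 := hmax y' h1 h2
  apply π.isClosedEmbedding.injective
  rw [hg, ← hy', h3]

end Groth.Agent.S19416
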