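import Groth.Statements.S10830
import Groth.Agent.TopDim.Basic

set_option autoImplicit false
universe u
open Topology TopologicalSpace
open TopDim

namespace Groth.Agent.S10830

/-- In an irreducible topological space X of finite Krull dimension, every proper closed subset Y has
strictly smaller Krull dimension than X. -/
theorem result (X : Type u) [TopologicalSpace X]
    [IrreducibleSpace X] (hfin : topologicalKrullDim X ≠ ⊤) (Y : Set X) (hY : IsClosed Y) (hYX : Y ≠ Set.univ) :
    topologicalKrullDim ↥Y < topologicalKrullDim X := by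
  have hle : topologicalKrullDim Y ≤ topologicalKrullDim X := Topology.IsInducing.subtypeVal.topologicalKrullDim_le
  rcases eq_or_ne (topologicalKrullDim Y) ⊥ with hb | hb
  · rw [hb]
    exact lt_of_lt_of_le (WithBot.bot_lt_coe 0) (Order.krullDim_nonneg_iff.mpr
      ⟨⟨Set.univ, IrreducibleSpace.isIrreducible_univ X, isClosed_univ⟩⟩)
  obtain ⟨m, hm⟩ := WithBot.ne_bot_iff_exists.mp hb
  obtain ⟨n, rfl⟩ : ∃ n : ℕ, (n : ℕ∞) = m := ENat.ne_top_iff_exists.mp fun h => hfin (top_le_iff.mp (by rw [← hm, h] at hle; exact hle))
  obtain ⟨l, hl⟩ := Order.le_krullDim_iff.mp hm.le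
  let g : TopologicalSpace.IrreducibleCloseds Y → TopologicalSpace.IrreducibleCloseds X := fun T =>
    ⟨Subtype.val '' (T : Set Y), T.isIrreducible.image _ continuous_subtype_val.continuousOn,
      hY.isClosedEmbedding_subtypeVal.isClosedMap _ T.isClosed⟩
  have hg : StrictMono g := fun a b hab => lt_of_le_of_ne (Set.image_mono hab.le) fun e => hab.ne
    (TopologicalSpace.IrreducibleCloseds.ext (Set.image_injective.mpr Subtype.val_injective (congrArg (fun T : TopologicalSpace.IrreducibleCloseds X => (T : Set X)) e)))
  let top : TopologicalSpace.IrreducibleCloseds X := ⟨Set.univ, IrreducibleSpace.isIrreducible_univ X, isClosed_univ⟩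
  have hlt : (l.map g hg).last < top := lt_of_le_of_ne (fun _ _ => trivial) fun e => by
    have h2 : Subtype.val '' (l.last : Set Y) = Set.univ := congrArg (fun T : TopologicalSpace.IrreducibleCloseds X => (T : Set X)) e
    exact hYX (Set.eq_univ_of_univ_subset (h2.ge.trans (by simp)))
  have h3 : (((l.map g hg).snoc top hlt).length : WithBot ℕ∞) ≤ topologicalKrullDim X :=
    Order.LTSeries.length_le_krullDim _
  rw [← hm]
  refine lt_of_lt_of_le ?_ h3
  simp [hl]
  exact_mod_cast Nat.lt_succ_self n

end Groth.Agent.S10830
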