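import Groth.Statements.S10279
import Groth.Agent.AlgSpLib.Graph

set_option autoImplicit false
universe u
open CategoryTheory CategoryTheory.Limits AlgebraicGeometry
open AlgSp

set_option backward.isDefEq.respectTransparency false

namespace Groth.Agent.S10279

/-- The target of a surjective morphism over B from a space universally closed over B is universally
closed over B (hence proper over B as soon as it is also separated and of finite type over B, by
definition). -/
theorem result {S : Scheme.{u}} {X Y B : AlgSp.Space S} (f : X ⟶ Y) (p : X ⟶ B)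
    (q : Y ⟶ B) (comm : f ≫ q = p) (hp : AlgSp.IsUnivClosedMor p.hom) (hf : AlgSp.IsSurjectiveMor f.hom) :
    AlgSp.IsUnivClosedMor q.hom := by
  intro W W' hW a fst snd sq C hC
  have sqX := IsPullback.of_hasPullback f.hom fst
  have e : f.hom ≫ q.hom = p.hom := congrArg (fun m => m.hom) comm
  have big := (e ▸ sqX.paste_vert sq :)
  have h := hp hW a _ _ big _ (hC.preimage (AlgSp.Points.continuous_map (pullback.snd f.hom fst)))
  convert h using 1
  ext w
  constructor
  · rintro ⟨y, hy, rfl⟩
    obtain ⟨x, rfl⟩ := Groth.Agent.AlgSpLib.isSurjectiveMor_baseChange sqX hf y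
    exact ⟨x, hy, AlgSp.Points.map_comp _ _ _⟩
  · rintro ⟨x, hx, rfl⟩
    exact ⟨_, hx, (AlgSp.Points.map_comp _ _ _).symm⟩

end Groth.Agent.S10279
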