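import Groth.Statements.S9722
import Mathlib
import Groth.Agent.LocStd.Basic

set_option autoImplicit false
universe u
open CategoryTheory AlgebraicGeometry
open Mor

namespace Groth.Agent.S9722

/-- Let f : X ⟶ S be a morphism, x a point of X and V an affine open neighbourhood of f(x) in S. Then f
is étale on some open neighbourhood of x if and only if there is an affine open neighbourhood U of x
with f(U) ⊆ V such that Γ(X, U) is a standard étale algebra over Γ(S, V) through the induced ring
map. -/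
theorem result {X S : Scheme.{u}} (f : X ⟶ S) (x : X)
    (V : S.Opens) (hV : IsAffineOpen V) (hxV : f x ∈ V) :
    (∃ W : X.Opens, x ∈ W ∧ Etale (W.ι ≫ f)) ↔
      ∃ (U : X.Opens) (_ : IsAffineOpen U) (_ : x ∈ U) (e : U ≤ f ⁻¹ᵁ V),
        letI := (f.appLE V U e).hom.toAlgebra
        Algebra.IsStandardEtale Γ(S, V) Γ(X, U) := by
  set_option backward.isDefEq.respectTransparency false in
  let T : ∀ {R A : Type u} [CommRing R] [CommRing A], (R →+* A) → Prop := fun {R A} _ _ φ =>
    letI := φ.toAlgebra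
    Algebra.IsStandardEtale R A
  constructor
  · rintro ⟨W, hxW, hW⟩
    obtain ⟨U₀, hU₀, hx, hsub⟩ := exists_isAffineOpen_mem_and_subset
      (show x ∈ W ⊓ f ⁻¹ᵁ V from ⟨hxW, hxV⟩)
    have e₀ : U₀ ≤ f ⁻¹ᵁ V := fun z hz => (hsub hz).2
    have hs : (f.appLE V U₀ e₀).hom.Etale := Groth.Agent.LocStd.appLE_of_nhd (P := @Etale)
      (fun j _ => inferInstance) f hW hV hU₀ (fun z hz => (hsub hz).1) e₀
    algebraize [(f.appLE V U₀ e₀).hom]
    obtain ⟨t, ht, hstd⟩ := Algebra.IsEtaleAt.exists_isStandardEtale (R := Γ(S, V))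
      (hU₀.primeIdealOf ⟨x, hx⟩).asIdeal
    refine Groth.Agent.LocStd.exists_chart (T := T) (fun φ e h => ?_) f hU₀ e₀ hx t ht ?_
    · simp only [T] at h ⊢
      letI := φ.toAlgebra
      letI := (e.toRingHom.comp φ).toAlgebra
      haveI := h
      exact Algebra.IsStandardEtale.of_equiv (AlgEquiv.ofRingEquiv (f := e) fun r => rfl)
    · simp only [T]
      convert! hstd using 1
      exact (Algebra.algebra_ext _ _ fun r => rfl)
  · rintro ⟨U, hU, hx, e, h⟩
    refine ⟨U, hx, Groth.Agent.LocStd.nhd_of_appLE (P := @Etale) (fun j _ => inferInstance) f hV hU e ?_⟩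
    algebraize [(f.appLE V U e).hom]
    haveI : Algebra.IsStandardEtale Γ(S, V) Γ(X, U) := h
    exact RingHom.etale_algebraMap.2 (inferInstance : Algebra.Etale Γ(S, V) Γ(X, U))

end Groth.Agent.S9722
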