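import Groth.Statements.S2121
import Mathlib.AlgebraicGeometry.ValuativeCriterion


set_option autoImplicit false
universe u
open CategoryTheory AlgebraicGeometry
open Mor

namespace Groth.Agent.S2121

open CategoryTheory AlgebraicGeometry

/-- Let `f : X → Y` be quasi-compact and `z` a point in the closure of `f(X)` (the underlying set of the
scheme theoretic image). Then there are a valuation ring `A` with fraction field `K` and morphisms
`Spec K → X`, `Spec A → Y` forming a commutative square with `f` and `Spec K → Spec A`, such that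
the closed point of `Spec A` maps to `z`. -/
theorem result {X Y : Scheme.{u}} (f : X ⟶ Y) [QuasiCompact f] (z : Y)
    (hz : z ∈ closure (Set.range f.base)) :
    ∃ (A : Type u) (_ : CommRing A) (_ : IsDomain A) (_ : ValuationRing A)
      (x : Spec (CommRingCat.of (FractionRing A)) ⟶ X) (y : Spec (CommRingCat.of A) ⟶ Y),
      x ≫ f = Spec.map (CommRingCat.ofHom (algebraMap A (FractionRing A))) ≫ y ∧
      y.base (IsLocalRing.closedPoint A) = z := by
  classical
  obtain ⟨_, ⟨V : Y.Opens, hV : IsAffineOpen V, rfl⟩, hzV, -⟩ :=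
    Y.isBasis_affineOpens.exists_subset_of_mem_open (Set.mem_univ z) isOpen_univ
  obtain ⟨x, hxz⟩ : ∃ x, f.base x ⤳ z := by
    have hW : IsCompact ((f ⁻¹ᵁ V : X.Opens) : Set X) :=
      f.isCompact_preimage hV.isCompact
    obtain ⟨R, g, hg⟩ := isCompact_iff_exists.mp hW
    have hgV : Set.range (g ≫ f) ⊆ Set.range hV.fromSpec := by
      rw [hV.range_fromSpec]
      rintro _ ⟨r, rfl⟩
      exact (hg.le ⟨r, rfl⟩ : g r ∈ f ⁻¹ᵁ V)
    obtain ⟨φ, hφ⟩ : ∃ φ, Spec.map φ = IsOpenImmersion.lift hV.fromSpec (g ≫ f) hgV :=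
      Spec.map_surjective _
    obtain ⟨p, hp⟩ : z ∈ Set.range hV.fromSpec := by rwa [hV.range_fromSpec]
    have hpc : p ∈ closure (Set.range (Spec.map φ)) := by
      have hsub : hV.fromSpec ⁻¹' Set.range f.base ⊆ Set.range (Spec.map φ) := by
        rintro q ⟨x', hx'⟩
        have : x' ∈ f ⁻¹ᵁ V := by
          change f.base x' ∈ (V : Set Y)
          rw [hx', ← hV.range_fromSpec]
          exact ⟨q, rfl⟩
        obtain ⟨r, rfl⟩ := hg.ge this
        refine ⟨r, hV.fromSpec.isOpenEmbedding.injective ?_⟩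
        rw [← Scheme.Hom.comp_apply, hφ, IsOpenImmersion.lift_fac]
        exact hx'
      refine closure_mono hsub ?_
      rw [← hV.fromSpec.isOpenEmbedding.isOpenMap.preimage_closure_eq_closure_preimage
        hV.fromSpec.continuous, Set.mem_preimage, hp]
      exact hz
    have hker : (⊥ : Ideal R).comap φ.hom ≤ p.asIdeal := by
      change p ∈ closure (Set.range (PrimeSpectrum.comap φ.hom)) at hpc
      rw [PrimeSpectrum.closure_range_comap] at hpc
      exact hpc
    obtain ⟨q, -, hq, hqp⟩ := p.asIdeal.exists_ideal_comap_le_prime _ hker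
    refine ⟨g ⟨q, hq⟩, ?_⟩
    rw [← hp, ← Scheme.Hom.comp_apply, ← IsOpenImmersion.lift_fac hV.fromSpec (g ≫ f) hgV, ← hφ,
      Scheme.Hom.comp_apply]
    exact ((PrimeSpectrum.le_iff_specializes
      (Spec.map φ ⟨q, hq⟩ : PrimeSpectrum Γ(Y, V)) p).mp hqp).map hV.fromSpec.continuous
  let ψ : Y.presheaf.stalk z ⟶ X.residueField x :=
    Y.presheaf.stalkSpecializes hxz ≫ f.stalkMap x ≫ X.residue x
  obtain ⟨A, hA, hA_local⟩ := IsLocalRing.exists_factor_valuationRing ψ.hom
  let ψA : Y.presheaf.stalk z ⟶ .of A := CommRingCat.ofHom (ψ.hom.codRestrict _ hA)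
  have w : X.fromSpecResidueField x ≫ f =
      Spec.map (CommRingCat.ofHom (algebraMap A (X.residueField x))) ≫
        Spec.map ψA ≫ Y.fromSpecStalk z := by
    rw [Scheme.fromSpecResidueField, Category.assoc, ← Scheme.SpecMap_stalkMap_fromSpecStalk,
      ← Scheme.SpecMap_stalkSpecializes_fromSpecStalk hxz]
    simp_rw [← Spec.map_comp_assoc]
    rfl
  let e : FractionRing A ≃ₐ[A] X.residueField x := FractionRing.algEquiv A (X.residueField x)
  refine ⟨A, inferInstance, inferInstance, inferInstance,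
    Spec.map (CommRingCat.ofHom e.symm.toAlgHom.toRingHom) ≫ X.fromSpecResidueField x,
    Spec.map ψA ≫ Y.fromSpecStalk z, ?_, ?_⟩
  · rw [Category.assoc, w, ← Spec.map_comp_assoc]
    congr 2
    ext a
    exact e.symm.commutes a
  · change (Spec.map ψA ≫ Y.fromSpecStalk z) (IsLocalRing.closedPoint A) = z
    rw [Scheme.Hom.comp_apply]
    have h1 : Spec.map ψA (IsLocalRing.closedPoint A) =
        IsLocalRing.closedPoint (Y.presheaf.stalk z) :=
      IsLocalRing.comap_closedPoint (S := A) (ψ.hom.codRestrict A.toSubring hA)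
    rw [h1]
    exact Scheme.fromSpecStalk_closedPoint

end Groth.Agent.S2121
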