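import Groth.Agent.AlgStLib.LocQResults
import Groth.Agent.AlgStLib.QC2
import Groth.Agent.AlgSpLib.MulFlat
import Groth.Prelude.Def_StGerb
import Mathlib.AlgebraicGeometry.Noetherian

set_option autoImplicit false
universe u
open CategoryTheory AlgebraicGeometry
open Gerb

set_option backward.isDefEq.respectTransparency false

namespace Groth.Agent.S16804

open Groth.Agent Groth.Agent.AlgStLib Groth.Agent.FibCat2Misc Groth.Agent.FibCatRep

/-- If an algebraic stack 𝒵 admits a surjective flat morphism from the spectrum of a field, then every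
morphism from the spectrum of a field to 𝒵 is surjective and flat (surjective and flat in the sense
of morphisms representable by algebraic spaces, i.e. after every base change to a scheme). -/
theorem result
    (S : Scheme.{u}) (𝒵 : AlgSt.Cat S) (h𝒵 : AlgSt.IsAlgStack Scheme.fppfPrecoverage 𝒵)
    (k : Type u) [Field k] (a : Spec (CommRingCat.of k) ⟶ S)
    (z : FibCat.overCat (Over.mk a) ⥤ᵇ 𝒵)
    (hzs : AlgSt.RepByAlgSpWith AlgSp.IsSurjectiveMor z) (hzf : AlgSt.RepByAlgSpWith (AlgSp.LocP @Flat) z)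
    (k' : Type u) [Field k'] (a' : Spec (CommRingCat.of k') ⟶ S)
    (z' : FibCat.overCat (Over.mk a') ⥤ᵇ 𝒵) :
    AlgSt.RepByAlgSpWith AlgSp.IsSurjectiveMor z' ∧ AlgSt.RepByAlgSpWith (AlgSp.LocP @Flat) z' := by
  let Y := Over.mk a
  let Y' := Over.mk a'
  let z₀ : AlgSt.ofSp (spOf Y).obj ⥤ᵇ 𝒵 := BasedFunctor.comp (AlgSt.toOverCat Y) z
  let z₀' : AlgSt.ofSp (spOf Y').obj ⥤ᵇ 𝒵 := BasedFunctor.comp (AlgSt.toOverCat Y') z'
  have hY := isAlgStack_spOf Y
  have hY' := isAlgStack_spOf Y'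
  have hz₀s := (repWith_overCat_iff _ Y z).1 hzs
  have hz₀f := (repWith_overCat_iff _ Y z).1 hzf
  have h₁ : AlgSt.RepByAlgSp1 z₀' := repByAlgSp1_point h𝒵.isStack.1 h𝒵.diag (AlgSpLib.isAlgSpaceP_yon Y') z₀'
  haveI : Subsingleton ↥Y.left := inferInstanceAs (Subsingleton (PrimeSpectrum k))
  obtain ⟨t'⟩ : Nonempty ↥Y'.left := inferInstanceAs (Nonempty (PrimeSpectrum k'))
  have hs : AlgSt.IsSurjective z₀' := fun p => by
    refine ⟨stPts _ (AlgSp.Points.ofScheme Y' t'), ?_⟩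
    obtain ⟨q, rfl⟩ := isSurjective_of_repWith hY.isStack.1 h𝒵.isStack.1 hz₀s p
    obtain ⟨q', hq'⟩ := isSurjective_of_repWith hY.isStack.1 h𝒵.isStack.1 hz₀s
      (AlgSt.Points.map z₀' (stPts _ (AlgSp.Points.ofScheme Y' t')))
    rw [← hq']
    obtain ⟨r, rfl⟩ := (bijective_stPts _).2 q
    obtain ⟨r', rfl⟩ := (bijective_stPts _).2 q'
    rw [← AlgSp.Points.ofScheme_toScheme Y r, ← AlgSp.Points.ofScheme_toScheme Y r',
      Subsingleton.elim (AlgSp.Points.toScheme Y r) (AlgSp.Points.toScheme Y r')]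
  have hF : AlgSt.LocQ (AlgSp.LocP @Flat) (FibCat.fpFst z₀ z₀') := by
    have hA := algFp h𝒵 hY hY' z₀ z₀'
    obtain ⟨W, w, hw, hws⟩ := exists_atlas_sp hA
    let Φ := BasedFunctor.comp w (FibCat.fpFst z₀ z₀')
    let A : spOf W ⟶ spOf Y := ObjectProperty.homMk (ObjectProperty.homMk (mapOf Φ))
    have i : BasedFunctor.comp w (FibCat.fpFst z₀ z₀') ≅
        BasedFunctor.comp (AlgSt.ofSpMap A.hom) (BasedFunctor.id (AlgSt.ofSp (spOf Y).obj)) := (mapOfIso Φ).symm
    obtain ⟨e₁, -⟩ := repWith_smooth_of_equiv_space (W := spOf Y)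
      (FibCat2Misc.isEquivOver_id (𝒳 := AlgSt.ofSp (spOf Y).obj))
    exact locQ_of_spSq st_flat hA.isStack.1 hY.isStack.1 ⟨spOf W, spOf Y, w, BasedFunctor.id _, A, i, hw, hws,
      e₁, AlgSpLib.locP_flat_to_field _⟩
  exact ⟨(repWith_overCat_iff _ Y' z').2 (repWith_surjective_of_isSurjective hY'.isStack.1 h𝒵.isStack.1 h₁ hs),
    (repWith_overCat_iff _ Y' z').2 (repWith_of_locQ st_flat cls_flat.bc cls_flat.loc hY' h𝒵 h₁
      (locQ_flat_of_fpFst hY' h𝒵 hY (locQ_of_repWith st_flat cls_flat.bc cls_flat.loc hY h𝒵 hz₀f)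
        (isSurjective_of_repWith hY.isStack.1 h𝒵.isStack.1 hz₀s) hF))⟩

end Groth.Agent.S16804
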