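import Groth.Statements.S10547
import Groth.Agent.AlgSpLib.FppfBase

set_option autoImplicit false
universe u
open CategoryTheory CategoryTheory.Limits AlgebraicGeometry
open AlgSp

set_option backward.isDefEq.respectTransparency false

namespace Groth.Agent.S10547

/-- The property of morphisms of algebraic spaces over S given by immersions (representable by
immersions of schemes) is fppf local on the base: for an fppf covering of an algebraic space Y by
algebraic spaces Y_i (each Y_i ⟶ Y flat and locally of finite presentation, jointly surjective on
points), a morphism f : X ⟶ Y of algebraic spaces and cartesian squares X_i = Y_i ×_Y X, f is an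
immersion if and only if every X_i ⟶ Y_i is. -/
theorem result (S : Scheme.{u}) :
    AlgSp.IsLocalOnBase (AlgSp.IsFppfCover (S := S)) (AlgSp.RepWith @IsImmersion) := by
  intro ι Y Yi g hY hYi hg X f hX Xi p q hXi sq
  exact ⟨fun h i => Groth.Agent.AlgSpLib.repWith_baseChange (sq i) h, fun h =>
    Groth.Agent.AlgSpLib.repWith_of_fppfCover @IsImmersion (fun _ _ r hr => by
      have : IsImmersion r := hr
      exact Groth.Agent.QA.IndQA.of_isImmersion r) hY hYi hg f Xi p q sq h⟩

end Groth.Agent.S10547
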