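import Groth.Statements.S10138
-- import your own Groth.Agent.* helpers here
import Groth.Agent.Bootstrap.CoprodAlg

set_option autoImplicit false
universe u
open CategoryTheory CategoryTheory.Limits AlgebraicGeometry
open AlgSp

namespace Groth.Agent.S10138

/-- Let `{X_i ⟶ X}` be an fppf covering of algebraic spaces over `S`. Then every descent datum for
algebraic spaces relative to it is effective; concretely, an fppf sheaf `F ⟶ X` all of whose base
changes `F ×_X X_i` are algebraic spaces is an algebraic space. (The published statement asks the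
index set to be countable, which is only a size condition and may be ignored; this row allows any
index type in the universe of `S`. The published part (2), which asks the `Y_i ⟶ X_i` to be of
finite type instead, is then a special case of this row.) -/
theorem result (S : Scheme.{u}) (X : AlgSp.Space S) {ι : Type u}
    (Xi : ι → AlgSp.Space S) (g : ∀ i, (Xi i).obj ⟶ X.obj) (hcov : AlgSp.IsFppfCover (fun i => (Xi i).obj) g)
    (F : AlgSp.Sp S) (p : F ⟶ X.obj)
    (h : ∀ (i : ι) (P : AlgSp.Sp S) (fst : P ⟶ F) (snd : P ⟶ (Xi i).obj), IsPullback fst snd p (g i) → AlgSp.IsAlgSpace P) :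
    AlgSp.IsAlgSpace F := by
  let P : ι → AlgSp.Sp S := fun i => pullback p (g i)
  have hP : ∀ i, AlgSp.IsAlgSpace (P i) := fun i => h i _ _ _ (IsPullback.of_hasPullback p (g i))
  let hc := coproductIsCoproduct P
  refine (Bootstrap.isFppfRep_desc hc (fun i => pullback.fst p (g i)) (fun T ξ i => ?_) (fun T ξ y => ?_)).isAlgSpace
    (Bootstrap.isAlgSpace_cofan hc hP)
  · have sq : IsPullback (pullback.fst (pullback.fst p (g i)) ξ ≫ pullback.snd p (g i))
        (pullback.snd (pullback.fst p (g i)) ξ) (g i) (ξ ≫ p) :=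
      (IsPullback.of_hasPullback (pullback.fst p (g i)) ξ).paste_horiz (IsPullback.of_hasPullback p (g i)).flip
    have hA : AlgSp.IsAlgSpace (pullback (pullback.fst p (g i)) ξ) :=
      AlgSpLib.isAlgSpace_of_isPullback_space X.property (Xi i).property (AlgSp.IsAlgSpace.yon_obj T) sq
    refine ⟨hA, fun W a k ha hk => ?_⟩
    have e : a ≫ pullback.snd (pullback.fst p (g i)) ξ = (AlgSp.yon S).map k ≫ 𝟙 _ := by
      rw [hk, Category.comp_id]
    exact ⟨AlgSpLib.locP_baseChange AlgSpLib.etST_flat (Xi i).property X.property hA (AlgSp.IsAlgSpace.yon_obj T) sq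
        (hcov.1 i).1 a (𝟙 _) k ha AlgSpLib.repWith_id' e,
      AlgSpLib.locP_baseChange AlgSpLib.etST_lfp (Xi i).property X.property hA (AlgSp.IsAlgSpace.yon_obj T) sq
        (hcov.1 i).2 a (𝟙 _) k ha AlgSpLib.repWith_id' e⟩
  · obtain ⟨i, x, hx⟩ := hcov.2 (Points.map (ξ ≫ p) y)
    have sq : IsPullback (pullback.fst (pullback.fst p (g i)) ξ ≫ pullback.snd p (g i))
        (pullback.snd (pullback.fst p (g i)) ξ) (g i) (ξ ≫ p) :=
      (IsPullback.of_hasPullback (pullback.fst p (g i)) ξ).paste_horiz (IsPullback.of_hasPullback p (g i)).flip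
    obtain ⟨q, -, hq⟩ := AlgSpLib.exists_point_of_isPullback sq x y hx
    exact ⟨i, q, hq⟩

end Groth.Agent.S10138
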