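import Groth.Statements.S12801
import Groth.Agent.FibCatRep.Basic
import Mathlib.CategoryTheory.Sites.InducedTopology

set_option autoImplicit false
set_option linter.style.haveILetI false
open CategoryTheory Groth.Agent.FibCatRep

open CategoryTheory
universe v₂ u₂ v u
open Stk

namespace Groth.Agent.S12801

/-- Let `p : 𝒳 ⥤ C` make `𝒳` fibred in groupoids over `C` and let `J` be a Grothendieck topology on `C`.
A sieve `S` on an object `x` of `𝒳` belongs to the topology on `𝒳` generated by the sieves whose
image under `p` generates a covering sieve if and only if the image of `S` under `p` generates a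
covering sieve of `p x`: the sieves whose image covers already satisfy the axioms of a topology (the
topology on `𝒳` inherited from `C`). (The published statement is for a fibred category, with
coverings the families of strongly cartesian morphisms `{x_i ⟶ x}` such that `{p x_i ⟶ p x}` is a
covering; this row is the case of a category fibred in groupoids, where every morphism is strongly
cartesian, in sieve form.) -/
theorem result {C : Type u} [Category.{v} C] {𝒳 : Type u₂} [Category.{v₂} 𝒳] (p : 𝒳 ⥤ C)
    (hp : FibCat.IsFibGrpd p) (J : GrothendieckTopology C) {x : 𝒳} (S : Sieve x) :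
    S ∈ p.restrictedTopology J x ↔ S.functorPushforward p ∈ J (p.obj x) := by
  refine ⟨fun hS => ?_, fun hS => Functor.mem_restrictedTopology_of_functorPushforward_mem hS⟩
  let T : GrothendieckTopology 𝒳 :=
    { sieves := fun x => {S | S.functorPushforward p ∈ J (p.obj x)}
      top_mem' := fun x => by simp [Sieve.functorPushforward_top]
      pullback_stable' := fun {a b} S f hS => by
        refine J.superset_covering ?_ (J.pullback_stable (p.map f) hS)
        rintro V g ⟨Z, h, k, hh, hk⟩
        obtain ⟨b', φ, hb, hφ⟩ := exists_lift hp (x := b) g
        obtain ⟨χ, ⟨hχ, hc⟩, -⟩ := existsUnique_cart hp h (φ ≫ f) (eqToHom hb ≫ k) (by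
          rw [Category.assoc, ← hk, Functor.map_comp, hφ, Category.assoc])
        refine ⟨b', φ, eqToHom hb.symm, ?_, by simp [hφ]⟩
        change S.arrows (φ ≫ f)
        rw [← hc]
        exact S.downward_closed hh χ
      transitive' := fun {a} S hS R hR => by
        refine J.transitive hS _ ?_
        rintro V g ⟨Z, h, k, hh, rfl⟩
        rw [Sieve.pullback_comp]
        refine J.pullback_stable k (J.superset_covering ?_ (hR hh))
        rintro W l ⟨Z', h', k', hh', rfl⟩
        exact ⟨Z', h' ≫ h, k', hh', by simp⟩ }
  suffices h : (Precoverage.comap p J.toPrecoverage).toGrothendieck ≤ T from h x hS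
  rw [Precoverage.toGrothendieck_le_iff_le_toPrecoverage]
  intro X R hR
  change (Sieve.generate R).functorPushforward p ∈ J (p.obj X)
  rw [← Sieve.generate_map_eq_functorPushforward]
  exact hR

end Groth.Agent.S12801
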