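import Groth.Statements.S0356
import Groth.Agent.CechX.BasicOpens
import Groth.Agent.S5173
import Mathlib
-- import your own Groth.Agent.* helpers here

set_option autoImplicit false
universe u v
open CategoryTheory AlgebraicGeometry
open LocCoh

namespace Groth.Agent.S0356

/-- Let R be a Noetherian ring, I an ideal, M an R-module and U = Spec R ∖ V(I) the punctured open. For
every p ≥ 1, the cohomology group H^p(U, M̃|_U) of the restriction to U of the quasi-coherent sheaf
associated with M is isomorphic to the local cohomology H^(p+1)_I(M). (The published statement also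
gives a four-term exact sequence in low degrees, which is not stated here; here R is Noetherian.) -/
theorem result (R : Type u) [CommRing R] [IsNoetherianRing R] (I : Ideal R) (M : Type u) [AddCommGroup M] [Module R M] (p : ℕ) (hp : 1 ≤ p) : Nonempty (Coh.HH (↑(LocCoh.puncturedOpen R I)) ((AlgebraicGeometry.tilde (R := CommRingCat.of R) (ModuleCat.of R M)).restrict (LocCoh.puncturedOpen R I).ι) p ≃+ LocCoh.H I (p + 1) M) := by
  obtain ⟨G, hG⟩ := (IsNoetherian.noetherian I : I.FG)
  have hI : Ideal.span {a | a ∈ G.toList} = I := by rw [← hG]; simp [Ideal.span]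
  obtain ⟨e₁⟩ := Groth.Agent.CechX.nonempty_HZM_equiv (ModuleCat.of R M) G.toList (p + 1)
  obtain ⟨e₂⟩ := Groth.Agent.S5173.result R G.toList M (p + 1)
  rw [hI] at e₁ e₂
  obtain ⟨e₃⟩ := Groth.Agent.CohQC.hu_restrict (AlgebraicGeometry.tilde (R := CommRingCat.of R) (ModuleCat.of R M))
    (LocCoh.puncturedOpen R I) p
  obtain ⟨q, rfl⟩ := Nat.exists_eq_add_of_le' hp
  exact ⟨((e₃.symm.trans (AddEquiv.ofBijective _ (Groth.Agent.CechX.delta_bijective
    (le_top : LocCoh.puncturedOpen R I ≤ ⊤) (q + 1)
    (Groth.Agent.CechX.subsingleton_HU_top (ModuleCat.of R M) q)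
    (Groth.Agent.CechX.subsingleton_HU_top (ModuleCat.of R M) (q + 1))))).trans e₁.symm).trans e₂.toAddEquiv.symm⟩

end Groth.Agent.S0356
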