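import Groth.Statements.S0544
import Mathlib.RingTheory.AdicCompletion.Functoriality
import Mathlib.RingTheory.Finiteness.Cardinality

set_option autoImplicit false
universe u
open CAlg

namespace Groth.Agent.S0544

/-- A finite power of a precomplete ring is precomplete. -/
theorem isPrecomplete_pi {R : Type u} [CommRing R] (I : Ideal R) [IsPrecomplete I R] (n : ℕ) :
    IsPrecomplete I (Fin n → R) := by
  refine ⟨fun f hf => ?_⟩
  have hco : ∀ (k : ℕ) (v : Fin n → R), v ∈ (I ^ k • ⊤ : Submodule R (Fin n → R)) →
      ∀ i, v i ∈ (I ^ k • ⊤ : Submodule R R) := fun k v hv i => by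
    have := Submodule.mem_map_of_mem (f := (LinearMap.proj i : (Fin n → R) →ₗ[R] R)) hv
    rw [Submodule.map_smul''] at this
    exact Submodule.smul_mono le_rfl le_top this
  choose L hL using fun i => IsPrecomplete.prec (inferInstance : IsPrecomplete I R)
    (f := fun k => f k i) fun {a b} hab => by
      rw [SModEq.sub_mem]
      exact hco a _ (SModEq.sub_mem.1 (hf hab)) i
  refine ⟨L, fun k => ?_⟩
  rw [SModEq.sub_mem, pi_eq_sum_univ' (f k - L)]
  refine Submodule.sum_mem _ fun i _ => Submodule.smul_mem_smul ?_ Submodule.mem_top
  have := SModEq.sub_mem.1 (hL i k)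
  simpa using this

/-- Let `R` be complete with respect to an ideal `I` and `M` an `R`-module which is `I`-adically
separated and such that `M/IM` is finitely generated. Then `M` is a finitely generated `R`-module. -/
theorem result (R : Type u) [CommRing R]
    (I : Ideal R) [IsAdicComplete I R] (M : Type u) [AddCommGroup M] [Module R M] [IsHausdorff I M]
    (h : Module.Finite R (M ⧸ (I • ⊤ : Submodule R M))) : Module.Finite R M := by
  obtain ⟨n, s, hs⟩ := Module.Finite.exists_fin (R := R) (M := M ⧸ (I • ⊤ : Submodule R M))
  choose t ht using fun i => Submodule.mkQ_surjective (I • ⊤ : Submodule R M) (s i)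
  haveI := isPrecomplete_pi I n
  let f : (Fin n → R) →ₗ[R] M := Fintype.linearCombination R t
  refine Module.Finite.of_surjective f (surjective_of_mkQ_comp_surjective (I := I) fun y => ?_)
  obtain ⟨c, hc⟩ := (Submodule.mem_span_range_iff_exists_fun R).1 (hs.ge (Submodule.mem_top (x := y)))
  refine ⟨c, ?_⟩
  rw [← hc, LinearMap.comp_apply, Fintype.linearCombination_apply, map_sum]
  simp only [map_smul, ht]

end Groth.Agent.S0544
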