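import Groth.Statements.S0581
import Groth.Agent.Cohen.Structure
import Groth.Agent.AdicBasics.LocalMap
import Groth.Agent.S0544

set_option autoImplicit false
universe u
open CAlg

namespace Groth.Agent.S0581

open IsLocalRing

theorem dim_mvPowerSeries_le (T : Type u) [CommRing T] [IsRegularLocalRing T] :
    ∀ m, ringKrullDim (MvPowerSeries (Fin m) T) ≤ ringKrullDim T + (m : WithBot ℕ∞) := by
  intro m
  induction m with
  | zero =>
    rw [ringKrullDim_eq_of_ringEquiv (MvPowerSeries.isEmptyEquiv (Fin 0) T).toRingEquiv, Nat.cast_zero, add_zero]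
  | succ m ih =>
    haveI := Cohen.isRegularLocalRing_mvPowerSeries T m
    haveI := Cohen.isRegularLocalRing_powerSeries (MvPowerSeries (Fin m) T)
    rw [ringKrullDim_eq_of_ringEquiv (MvPowerSeries.finSuccEquiv T m).toRingEquiv]
    let P := MvPowerSeries (Fin m) T
    refine (ringKrullDim_le_ringKrullDim_quotient_add_card ({PowerSeries.X} : Finset (PowerSeries P)) ?_).trans ?_
    · simp only [Finset.coe_singleton, Set.singleton_subset_iff, SetLike.mem_coe, Ring.jacobson_eq_nilradical_of_krullDimLE_zero,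
        IsLocalRing.ringJacobson_eq_maximalIdeal]
      intro hu
      have := PowerSeries.isUnit_iff_constantCoeff.mp hu
      rw [PowerSeries.constantCoeff_X] at this
      exact not_isUnit_zero this
    · have hk : RingHom.ker (PowerSeries.constantCoeff (R := P)) = Ideal.span (({PowerSeries.X} : Finset (PowerSeries P)) : Set (PowerSeries P)) := by
        ext f
        rw [RingHom.mem_ker, Finset.coe_singleton, Ideal.mem_span_singleton, PowerSeries.X_dvd_iff]
      rw [← hk, ringKrullDim_eq_of_ringEquiv (RingHom.quotientKerEquivOfSurjective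
        (f := PowerSeries.constantCoeff (R := P)) fun a => ⟨PowerSeries.C a, PowerSeries.constantCoeff_C a⟩),
        Finset.card_singleton, Nat.cast_one, Nat.cast_add, Nat.cast_one, ← add_assoc]
      gcongr

/-- A quotient by an open ideal is finite over a ring with the same residue field. -/
theorem finite_quotient {P R : Type u} [CommRing P] [CommRing R] [IsLocalRing R] [IsNoetherianRing R] [Algebra P R]
    (hres : Function.Surjective ((residue R).comp (algebraMap P R))) (J : Ideal R) (N : ℕ)
    (hJ : maximalIdeal R ^ N ≤ J) : Module.Finite P (R ⧸ J) := by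
  classical
  have key : ∀ i, ∃ G : Finset R, ∀ x : R, ∃ y ∈ Submodule.span P (G : Set R), x - y ∈ maximalIdeal R ^ i := by
    intro i
    induction i with
    | zero => exact ⟨∅, fun x => ⟨0, zero_mem _, by simp⟩⟩
    | succ i ih =>
      obtain ⟨G, hG⟩ := ih
      obtain ⟨H, hH⟩ := (IsNoetherian.noetherian (maximalIdeal R ^ i) : (maximalIdeal R ^ i).FG)
      have hstep : ∀ z ∈ maximalIdeal R ^ i, ∃ y ∈ Submodule.span P (H : Set R), z - y ∈ maximalIdeal R ^ (i + 1) := by
        intro z hz
        rw [← hH] at hz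
        obtain ⟨c, -, hc⟩ := Submodule.mem_span_finset.mp hz
        choose p hp using fun h : R => hres (residue R (c h))
        refine ⟨∑ h ∈ H, p h • h, sum_mem fun h hh => Submodule.smul_mem _ _ (Submodule.subset_span hh), ?_⟩
        rw [← hc, ← Finset.sum_sub_distrib]
        refine sum_mem fun h hh => ?_
        rw [smul_eq_mul, Algebra.smul_def, ← sub_mul, pow_succ']
        exact Ideal.mul_mem_mul (Ideal.Quotient.eq.mp (hp h).symm) (hH ▸ Submodule.subset_span hh)
      refine ⟨G ∪ H, fun x => ?_⟩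
      obtain ⟨y, hy, hxy⟩ := hG x
      obtain ⟨y', hy', hxy'⟩ := hstep _ hxy
      refine ⟨y + y', add_mem (Submodule.span_mono (by simp) hy) (Submodule.span_mono (by simp) hy'), ?_⟩
      rwa [← sub_sub]
  obtain ⟨G, hG⟩ := key N
  refine ⟨⟨G.image (Ideal.Quotient.mk J), ?_⟩⟩
  rw [eq_top_iff]
  intro z _
  obtain ⟨x, rfl⟩ := Ideal.Quotient.mk_surjective z
  obtain ⟨y, hy, hxy⟩ := hG x
  rw [Ideal.Quotient.eq.mpr (hJ hxy), Finset.coe_image]
  exact (Submodule.span_image (Ideal.Quotient.mkₐ P J).toLinearMap).ge (Submodule.mem_map_of_mem hy)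

theorem of_data (R : Type u) [CommRing R] [IsDomain R] [IsLocalRing R] [IsNoetherianRing R] [IsAdicComplete (maximalIdeal R) R]
    (Λ : Type u) [CommRing Λ] (hΛ : IsField Λ ∨ CAlg.IsCohenRing Λ) (g : Λ →+* R)
    (hg : Function.Surjective ((residue R).comp g)) (m : ℕ) (a : Fin m → R) (ha : ∀ i, a i ∈ maximalIdeal R)
    (hrad : ∀ Q : Ideal R, Q.IsPrime → (∀ i, a i ∈ Q) → (∀ l : Λ, ¬ IsUnit l → g l ∈ Q) → Q = maximalIdeal R)
    (hdim : ringKrullDim Λ + (m : WithBot ℕ∞) ≤ ringKrullDim R) :
    ∃ (Λ : Type u) (_ : CommRing Λ) (n : ℕ) (f : MvPowerSeries (Fin n) Λ →+* R),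
      (IsField Λ ∨ CAlg.IsCohenRing Λ) ∧ Function.Injective f ∧ f.Finite ∧
      Function.Surjective ((residue R).comp f) := by
  haveI := Cohen.isRegularLocalRing_coeff hΛ
  haveI hcΛ : IsAdicComplete (maximalIdeal Λ) Λ := by
    rcases hΛ with hf | ⟨_, _, hc, -⟩
    · rw [IsLocalRing.isField_iff_maximalIdeal_eq.mp hf]
      infer_instance
    · exact hc
  haveI : IsDomain Λ := by
    rcases hΛ with hf | ⟨hd', -, -⟩
    · exact hf.isDomain
    · exact hd'
  haveI : IsDomain (MvPowerSeries (Fin m) Λ) := NoZeroDivisors.to_isDomain _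
  let P := MvPowerSeries (Fin m) Λ
  haveI := Cohen.isRegularLocalRing_mvPowerSeries Λ m
  haveI : IsAdicComplete (maximalIdeal P) P := ArtKit.isAdicComplete_mvPowerSeries
  letI := g.toAlgebra
  obtain ⟨ψ, hψ⟩ := ArtKit.exists_evalAdic (R := Λ) (maximalIdeal R) a ha
  letI algP : Algebra P R := ψ.toRingHom.toAlgebra
  have hres : Function.Surjective ((residue R).comp (algebraMap P R)) := fun z => by
    obtain ⟨c, hc⟩ := hg z
    refine ⟨algebraMap Λ P c, ?_⟩
    show residue R (ψ (algebraMap Λ P c)) = z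
    rw [ψ.commutes]
    exact hc
  let J := (maximalIdeal P).map (algebraMap P R)
  have hJm : J ≤ maximalIdeal R := Ideal.map_le_iff_le_comap.mpr fun f hf => by
    by_contra hfR
    obtain ⟨w, hw⟩ := hres (residue R ((IsLocalRing.notMem_maximalIdeal.mp hfR).unit⁻¹ : Rˣ))
    have h1 : residue R (algebraMap P R (f * w - 1)) = 0 := by
      rw [map_sub, map_mul, map_one, map_sub, map_mul, map_one]
      have hw' : residue R (algebraMap P R w) = _ := hw
      rw [hw', ← map_mul, ← map_one (residue R), ← map_sub, IsUnit.mul_val_inv, sub_self, map_zero]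
    have h2 : IsUnit (f * w - 1) := by
      by_contra h
      have h3 := add_mem (Ideal.mul_mem_right w _ hf) (neg_mem (h : f * w - 1 ∈ maximalIdeal P))
      rw [neg_sub, add_sub_cancel] at h3
      exact h3 isUnit_one
    exact (h2.map (algebraMap P R)) |> fun h => Ideal.Quotient.eq_zero_iff_mem.mp h1 h
  obtain ⟨N, hN⟩ : ∃ N, maximalIdeal R ^ N ≤ J := by
    refine Ideal.exists_pow_le_of_le_radical_of_fg ?_ (IsNoetherian.noetherian _)
    rw [Ideal.radical_eq_sInf]
    refine le_sInf fun Q hQ => (hrad Q hQ.2 (fun i => ?_) fun l hl => ?_).ge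
    · rw [← hψ i]
      refine hQ.1 (Ideal.mem_map_of_mem (algebraMap P R) fun hu => ?_)
      have := MvPowerSeries.isUnit_iff_constantCoeff.mp hu
      rw [MvPowerSeries.constantCoeff_X] at this
      exact not_isUnit_zero this
    · have h1 : algebraMap Λ P l ∈ maximalIdeal P := fun hu => hl (by
        have := MvPowerSeries.isUnit_iff_constantCoeff.mp hu
        rwa [MvPowerSeries.algebraMap_apply, MvPowerSeries.constantCoeff_C] at this)
      have h2 : algebraMap P R (algebraMap Λ P l) = g l := ψ.commutes l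
      exact h2 ▸ hQ.1 (Ideal.mem_map_of_mem (algebraMap P R) h1)
  haveI : IsHausdorff (maximalIdeal P) R := ⟨fun x hx => IsHausdorff.haus' (I := maximalIdeal R) x fun k => by
    have h := hx k
    rw [SModEq.sub_mem, sub_zero] at h ⊢
    rw [Ideal.smul_top_eq_map, Submodule.restrictScalars_mem, Ideal.map_pow] at h
    rw [smul_eq_mul, Ideal.mul_top]
    exact Ideal.pow_right_mono hJm k h⟩
  haveI := finite_quotient hres J N hN
  haveI : Module.Finite P (R ⧸ (maximalIdeal P • ⊤ : Submodule P R)) :=
    Module.Finite.equiv ((Submodule.Quotient.restrictScalarsEquiv P J).symm ≪≫ₗ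
      Submodule.quotEquivOfEq _ _ (Ideal.smul_top_eq_map (maximalIdeal P)).symm)
  haveI hfin : Module.Finite P R := S0544.result P (maximalIdeal P) R inferInstance
  haveI : Algebra.IsIntegral P R := Algebra.IsIntegral.of_finite P R
  have hd : ringKrullDim R ≤ ringKrullDim (P ⧸ RingHom.ker (algebraMap P R)) := by
    rw [ringKrullDim_quotient]
    exact Order.krullDim_le_of_strictMono
      (fun q : PrimeSpectrum R => (⟨PrimeSpectrum.comap (algebraMap P R) q,
        fun f hf => by
          show algebraMap P R f ∈ q.asIdeal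
          rw [RingHom.mem_ker.mp hf]
          exact zero_mem _⟩ : PrimeSpectrum.zeroLocus (R := P) (RingHom.ker (algebraMap P R) : Set P)))
      fun a b hab => (Ideal.IsIntegral.comap_lt_comap (R := P) hab : _)
  have hdim' : ringKrullDim P ≤ ringKrullDim (P ⧸ RingHom.ker (algebraMap P R)) :=
    ((dim_mvPowerSeries_le Λ m).trans hdim).trans hd
  have hinj := AdicBasics.injective_of_surjective_of_dim
    (Ideal.Quotient.mk (RingHom.ker (algebraMap P R))) Ideal.Quotient.mk_surjective hdim'
  refine ⟨Λ, inferInstance, m, algebraMap P R, hΛ, ?_, hfin, hres⟩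
  rw [RingHom.injective_iff_ker_eq_bot, ← Ideal.mk_ker (I := RingHom.ker (algebraMap P R))]
  exact (RingHom.injective_iff_ker_eq_bot _).mp hinj


/-- A complete Noetherian local domain `R` contains a subring `R₀` over which it is module-finite with
the same residue field, where `R₀` is a power series ring in finitely many variables over a field or
over a Cohen ring. Stated with `R₀` given as the image of an injective ring map. -/
theorem result (R : Type u) [CommRing R]
    [IsDomain R] [IsLocalRing R] [IsNoetherianRing R] [IsAdicComplete (IsLocalRing.maximalIdeal R) R] :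
    ∃ (Λ : Type u) (_ : CommRing Λ) (n : ℕ) (f : MvPowerSeries (Fin n) Λ →+* R),
      (IsField Λ ∨ CAlg.IsCohenRing Λ) ∧ Function.Injective f ∧ f.Finite ∧
      Function.Surjective ((IsLocalRing.residue R).comp f) := by
  obtain ⟨Λ, _, hΛ, g, hg⟩ := Cohen.exists_coefficients R
  haveI := Cohen.isRegularLocalRing_coeff hΛ
  obtain ⟨d, hd⟩ := SerreReg.exists_dim_nat R
  have hgloc : ∀ l, g l ∈ IsLocalRing.maximalIdeal R → ¬ IsUnit l := fun l hl hu => hl (hu.map g)
  have hfield : ∀ (K : Type u) [Field K] (g' : K →+* R),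
      Function.Surjective ((IsLocalRing.residue R).comp g') → ∃ (Λ : Type u) (_ : CommRing Λ) (n : ℕ)
        (f : MvPowerSeries (Fin n) Λ →+* R), (IsField Λ ∨ CAlg.IsCohenRing Λ) ∧ Function.Injective f ∧ f.Finite ∧
        Function.Surjective ((IsLocalRing.residue R).comp f) := by
    intro K _ g' hg'
    obtain ⟨a, ha⟩ := SerreReg.exists_sop R d hd
    refine of_data R K (Or.inl (Field.toIsField K)) g' hg' d a
      (fun i => ha ▸ Ideal.le_radical (Ideal.subset_span (Set.mem_range_self i))) (fun Q hQ hQa _ => ?_) ?_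
    · refine le_antisymm (IsLocalRing.le_maximalIdeal hQ.ne_top) ?_
      rw [← ha]
      exact hQ.radical_le_iff.mpr (Ideal.span_le.mpr (Set.range_subset_iff.mpr hQa))
    · rw [ringKrullDim_eq_zero_of_field, zero_add, hd]
  rcases hΛ with hf | ⟨_, _, hc, p, hp, hmax⟩
  · letI := hf.toField
    exact hfield Λ g hg
  by_cases hp0 : g (p : Λ) = 0
  · letI := Ideal.Quotient.field (IsLocalRing.maximalIdeal Λ)
    refine hfield (Λ ⧸ IsLocalRing.maximalIdeal Λ) (Ideal.Quotient.lift _ g fun l hl => ?_) fun z => ?_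
    · rw [hmax] at hl
      obtain ⟨u, rfl⟩ := Ideal.mem_span_singleton'.mp hl
      rw [map_mul, hp0, mul_zero]
    · obtain ⟨l, hl⟩ := hg z
      exact ⟨Ideal.Quotient.mk _ l, hl⟩
  let π := g (p : Λ)
  have hπ : π ∈ IsLocalRing.maximalIdeal R := fun hu => by
    have h1 : IsLocalRing.residue R π ≠ 0 := (hu.map _).ne_zero
    refine h1 ?_
    obtain ⟨w, hw⟩ := hg (IsLocalRing.residue R (hu.unit⁻¹ : Rˣ))
    have h2 : IsUnit (1 - (p : Λ) * w) := by
      refine (IsLocalRing.isUnit_or_isUnit_one_sub_self ((p : Λ) * w)).resolve_left fun h => ?_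
      have hpm : (p : Λ) ∈ IsLocalRing.maximalIdeal Λ := hmax ▸ Ideal.mem_span_singleton_self _
      exact Ideal.mul_mem_right w _ hpm h
    have h3 := (h2.map g).map (IsLocalRing.residue R)
    rw [map_sub, map_mul, map_one, map_sub, map_mul, map_one] at h3
    rw [RingHom.comp_apply] at hw
    rw [hw, ← map_mul, ← map_one (IsLocalRing.residue R), IsUnit.mul_val_inv, sub_self] at h3
    exact absurd h3 not_isUnit_zero
  haveI : Nontrivial (R ⧸ Ideal.span {π}) := Ideal.Quotient.nontrivial_iff.mpr fun h =>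
    hπ (Ideal.span_singleton_eq_top.mp h)
  obtain ⟨m, hm⟩ := SerreReg.exists_dim_nat (R ⧸ Ideal.span {π})
  obtain ⟨b, hb⟩ := SerreReg.exists_sop (R ⧸ Ideal.span {π}) m hm
  choose a ha using fun i => Ideal.Quotient.mk_surjective (b i)
  have hbm : ∀ i, b i ∈ IsLocalRing.maximalIdeal (R ⧸ Ideal.span {π}) :=
    fun i => hb ▸ Ideal.le_radical (Ideal.subset_span (Set.mem_range_self i))
  refine of_data R Λ (Or.inr ⟨inferInstance, inferInstance, hc, p, hp, hmax⟩) g hg m a
    (fun i hu => hbm i (ha i ▸ hu.map (Ideal.Quotient.mk _))) (fun Q hQ hQa hQg => ?_) ?_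
  · have hQπ : Ideal.span {π} ≤ Q := (Ideal.span_singleton_le_iff_mem _).mpr
      (hQg _ (hgloc _ hπ))
    refine le_antisymm (IsLocalRing.le_maximalIdeal hQ.ne_top) fun x hx => ?_
    have hx' : Ideal.Quotient.mk (Ideal.span {π}) x ∈ IsLocalRing.maximalIdeal (R ⧸ Ideal.span {π}) := fun hu => by
      haveI : IsLocalHom (Ideal.Quotient.mk (Ideal.span {π})) :=
        IsLocalHom.of_surjective _ Ideal.Quotient.mk_surjective
      exact hx (isUnit_of_map_unit _ x hu)
    rw [← hb, show Set.range b = Ideal.Quotient.mk (Ideal.span {π}) '' Set.range a from by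
      rw [← Set.range_comp]; exact congrArg Set.range (funext fun i => (ha i).symm), ← Ideal.map_span] at hx'
    obtain ⟨k, hk⟩ := hx'
    rw [← map_pow, ← Ideal.mem_comap, Ideal.comap_map_of_surjective _ Ideal.Quotient.mk_surjective,
      ← RingHom.ker_eq_comap_bot, Ideal.mk_ker] at hk
    exact hQ.mem_of_pow_mem k (sup_le (Ideal.span_le.mpr (Set.range_subset_iff.mpr hQa)) hQπ hk)
  · have h1 := ringKrullDim_succ_le_of_surjective (Ideal.Quotient.mk (Ideal.span {π})) Ideal.Quotient.mk_surjective
      (mem_nonZeroDivisors_of_ne_zero hp0) (Ideal.Quotient.eq_zero_iff_mem.mpr (Ideal.mem_span_singleton_self _))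
    have hdvr : ringKrullDim Λ = 1 := IsDiscreteValuationRing.ringKrullDim_eq_one Λ
    rw [hm] at h1
    rw [hdvr, add_comm]
    exact h1

end Groth.Agent.S0581
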