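import Groth.Statements.S5165
import Groth.Agent.LocH.SpreadPd
import Groth.Agent.SerreReg.Regular
import Mathlib
-- import your own Groth.Agent.* helpers here

set_option autoImplicit false
universe u
open CategoryTheory
open LocCoh

namespace Groth.Agent.S5165

/-- Suppose A is a regular Noetherian ring and consider a finitely generated A-module M. Then some
natural number d bounds the projective dimension of M (equivalently, p ↦ proj.dim M_p stays bounded
as p ranges over Spec A, and this holds even if the Krull dimension of A is infinite). -/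
theorem result (A : Type u) [CommRing A] [IsRegularRing A] (M : Type u) [AddCommGroup M] [Module A M] [Module.Finite A M] : ∃ d : ℕ, HasProjectiveDimensionLE (ModuleCat.of A M) d := by
  classical
  have hloc : ∀ p : PrimeSpectrum A, ∃ (k : ℕ) (s : A), s ∉ p.asIdeal ∧ LocH.pdLT (Submonoid.powers s) M k := fun p => by
    have := IsRegularRing.isRegularLocalRing_localization (R := A) p.asIdeal
    obtain ⟨d, hd⟩ : ∃ d : ℕ, ringKrullDim (Localization.AtPrime p.asIdeal) = d := by
      rw [IsLocalization.AtPrime.ringKrullDim_eq_height p.asIdeal]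
      obtain ⟨d, hd⟩ := ENat.ne_top_iff_exists.1 p.asIdeal.height_ne_top_of_isPrime
      exact ⟨d, by rw [← hd]; rfl⟩
    obtain ⟨s, hs, hk⟩ := LocH.pdLT_exists (d + 1) M
      (SerreReg.pdLE_of_isRegularLocalRing (Localization.AtPrime p.asIdeal) d hd (LocalizedModule p.asIdeal.primeCompl M))
    exact ⟨d + 1, s, hs, hk⟩
  choose k s hs hk using hloc
  have htop : Ideal.span (Set.range s) = ⊤ := by
    by_contra h
    obtain ⟨m, hm, hle⟩ := Ideal.exists_le_maximal _ h
    exact hs ⟨m, hm.isPrime⟩ (hle (Ideal.subset_span ⟨_, rfl⟩))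
  obtain ⟨T, hT, h1⟩ := Submodule.mem_span_finite_of_mem_span (htop ▸ Submodule.mem_top (x := (1 : A)))
  choose g hg using fun x : T => hT x.2
  refine ⟨Finset.univ.sup (fun x : T => k (g x)), ?_⟩
  rw [ModuleCat.hasProjectiveDimensionLE_iff_forall_primeSpectrum]
  intro p
  obtain ⟨x, hx⟩ : ∃ x : T, (x : A) ∉ p.asIdeal := by
    by_contra! h
    exact p.isPrime.ne_top ((Ideal.eq_top_iff_one _).2 (Submodule.span_le.2 (fun y hy => h ⟨y, hy⟩) h1))
  have h2 : LocH.pdLT p.asIdeal.primeCompl M (k (g x)) :=
    LocH.pdLT_mono (Submonoid.powers_le.2 (by rw [hg x]; exact hx)) _ M (hk (g x))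
  have h3 : LocH.pdLT p.asIdeal.primeCompl M (Finset.univ.sup (fun x : T => k (g x)) + 1) :=
    hasProjectiveDimensionLT_of_ge _ _ _ ((Finset.le_sup (f := fun x : T => k (g x)) (Finset.mem_univ x)).trans (Nat.le_succ _))
  exact hasProjectiveDimensionLT_of_iso (Shrink.linearEquiv (Localization p.asIdeal.primeCompl) _).symm.toModuleIso _

end Groth.Agent.S5165
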