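import Groth.Statements.S2929
import Mathlib
import Groth.Agent.SGA2Fin.Main
import Groth.Agent.LocH.Grothendieck
import Groth.Agent.Catenary.Ring
-- import your own Groth.Agent.* helpers here

set_option autoImplicit false
universe u
open LocCoh

namespace Groth.Agent.S2929

open IsLocalRing

theorem relCodim_eq_one {A : Type u} [CommRing A] {I : Ideal A} {x q : PrimeSpectrum A} (hxq : x ⋖ q)
    (hIx : ¬ I ≤ x.asIdeal) (hIq : I ≤ q.asIdeal) : SGA2.relCodim I x = 1 := by
  refine le_antisymm ?_ (le_iInf fun q' => ?_)
  · refine le_trans (iInf_le _ ⟨q, hxq.le, hIq⟩) (Order.height_le fun s hs => ?_)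
    by_contra hcon
    have hlen : 2 ≤ s.length := by
      rcases Nat.lt_or_ge s.length 2 with h | h
      · exact absurd (by exact_mod_cast (show s.length ≤ 1 by omega)) hcon
      · exact h
    have h1 : s ⟨0, by omega⟩ < s ⟨1, by omega⟩ := s.strictMono (by simp [Fin.lt_def])
    have h2 : s ⟨1, by omega⟩ < s ⟨s.length, by omega⟩ := s.strictMono (by simp [Fin.lt_def]; omega)
    have h2' : s ⟨1, by omega⟩ < (⟨q, hxq.le⟩ : Set.Ici x) := h2.trans_eq hs
    exact hxq.2 ((s ⟨0, by omega⟩).2.trans_lt h1) h2'
  · rw [ENat.one_le_iff_ne_zero, Ne, Order.height_eq_zero]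
    intro hmin
    exact hIx (q'.2.2.trans (hmin (show (⟨x, Set.self_mem_Ici⟩ : Set.Ici x) ≤ ⟨q'.1, q'.2.1⟩ from q'.2.1) :
      (⟨q'.1, q'.2.1⟩ : Set.Ici x) ≤ ⟨x, Set.self_mem_Ici⟩))

/-- Let A be a Noetherian ring which is a quotient of a regular ring, I an ideal, M a finite A-module
and i ≥ 0. For a prime p write c(p) for the codimension of V(p) ∩ V(I) in V(p). Suppose that for
every prime p not containing I with c(p) finite, the local cohomology H^{i−c(p)} of M_p with support
in the maximal ideal of A_p vanishes (no condition when c(p) > i). Then the local cohomology module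
H^i_I(M) is a finite A-module. -/
theorem result (R : Type u) [CommRing R] [IsRegularRing R] (A : Type u) [CommRing A] [IsNoetherianRing A] (π : R →+* A) (hπ : Function.Surjective π) (I : Ideal A) (M : Type u) [AddCommGroup M] [Module A M] [Module.Finite A M] (i : ℕ) (h : ∀ p : PrimeSpectrum A, ¬ I ≤ p.asIdeal → ∀ (c j : ℕ), SGA2.relCodim I p = c → j + c = i → Subsingleton (LocCoh.H (IsLocalRing.maximalIdeal (Localization.AtPrime p.asIdeal)) j (LocalizedModule p.asIdeal.primeCompl M))) : Module.Finite A (LocCoh.H I i M) := by
  match i with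
  | 0 =>
    have : Module.Finite A ↑((DRing.gammaI I).obj (ModuleCat.of A M)) :=
      Module.Finite.iff_fg.2 (IsNoetherian.noetherian (DRing.torsionSub I M))
    exact Module.Finite.equiv (((LocH.zeroIso I).app (ModuleCat.of A M)).toLinearEquiv).symm
  | m + 1 =>
    letI : Algebra R A := π.toAlgebra
    letI : Module R M := Module.compHom M π
    have : IsScalarTower R A M := ⟨fun a b c => mul_smul (π a) b c⟩
    have : Module.Finite R A := Module.Finite.of_surjective (Algebra.linearMap R A) hπ
    have : Module.Finite R M := Module.Finite.trans A M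
    have hfin : Module.Finite R (LocCoh.H (I.comap π) (m + 1) M) := by
      refine SGA2Fin.finite_succ M (I.comap π) m fun x y hIx hxy hIy => ?_
      by_cases hker : RingHom.ker π ≤ x.asIdeal
      · obtain ⟨P, rfl⟩ : x ∈ Set.range (Catenary.surjectiveEmbedding π hπ) := by
          rw [Catenary.range_surjectiveEmbedding]; exact hker
        obtain ⟨Q, rfl⟩ : y ∈ Set.range (Catenary.surjectiveEmbedding π hπ) := by
          rw [Catenary.range_surjectiveEmbedding]; exact hker.trans hxy.le
        have hPQ : P ⋖ Q := hxy.of_image _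
        have hIP : ¬ I ≤ P.asIdeal := fun hle => hIx (Ideal.comap_mono hle)
        have hIQ : I ≤ Q.asIdeal := by
          rw [← Ideal.map_comap_of_surjective π hπ I, Ideal.map_le_iff_le_comap]; exact hIy
        exact (SGA2Fin.subsingleton_H_comap (A := A) hπ M P.asIdeal m).1
          (h P hIP 1 m (relCodim_eq_one hPQ hIP hIQ) rfl)
      · obtain ⟨r, hr, hrx⟩ := SetLike.not_le_iff_exists.1 hker
        have : Subsingleton (LocalizedModule x.asIdeal.primeCompl M) := LocalizedModule.subsingleton_iff.2
          fun v => ⟨r, hrx, (algebraMap_smul A r v).symm.trans (by rw [show algebraMap R A r = 0 from hr, zero_smul])⟩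
        exact LocH.subsingleton_of_subsingleton (ModuleCat.of (Localization.AtPrime x.asIdeal)
          (LocalizedModule x.asIdeal.primeCompl M)) m
    obtain ⟨φ, hφ⟩ := LocH.exists_semilinearEquiv (R' := A) (I := I.comap π) (m + 1) M
    have hI : (I.comap π).map (algebraMap R A) = I := Ideal.map_comap_of_surjective π hπ I
    obtain ⟨G, hG⟩ := hfin.fg_top
    classical
    have hA : Module.Finite A (LocCoh.H ((I.comap π).map (algebraMap R A)) (m + 1) M) := by
      refine ⟨G.image φ.symm, eq_top_iff.2 fun v _ => ?_⟩
      have hv : φ v ∈ Submodule.span R (G : Set _) := hG.symm ▸ Submodule.mem_top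
      rw [← φ.symm_apply_apply v]
      generalize φ v = w at hv
      induction hv using Submodule.span_induction with
      | mem g hg => exact Submodule.subset_span (Finset.mem_coe.2 (Finset.mem_image_of_mem _ hg))
      | zero => rw [map_zero]; exact Submodule.zero_mem _
      | add a b _ _ ha hb => rw [map_add]; exact Submodule.add_mem _ ha hb
      | smul c a _ ha =>
        have e : φ.symm (c • a) = algebraMap R A c • φ.symm a := φ.injective (by rw [φ.apply_symm_apply, hφ, φ.apply_symm_apply])
        rw [e]; exact Submodule.smul_mem _ _ ha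
    exact hI ▸ hA

end Groth.Agent.S2929
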