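import Groth.Statements.S14594
import Groth.Agent.Chev.SemiAbelian
import Groth.Agent.Chev.FiniteQuot
import Groth.Agent.FinHopf.GrpScheme

set_option autoImplicit false
universe u
open CategoryTheory MonoidalCategory CartesianMonoidalCategory MonObj GrpObj AlgebraicGeometry CategoryTheory.Limits
open AlgGrp

namespace Groth.Agent.S14594
open Groth.Agent

/-- Let k be a field, G a smooth connected k-group scheme of finite type and f : G → H an isogeny onto a
k-group scheme of finite type H, i.e. a surjective homomorphism whose kernel N is finite. If H is a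
semi-abelian variety (an extension of a proper smooth connected k-group scheme by a torus), then G
is a semi-abelian variety. -/
theorem result (k : Type u) [Field k]
    (G H : Over (Spec (CommRingCat.of k))) [GrpObj G] [GrpObj H] [Smooth G.hom] [QuasiCompact G.hom] [ConnectedSpace ↥G.left]
    [LocallyOfFiniteType H.hom] [QuasiCompact H.hom] (f : G ⟶ H) [IsMonHom f] [Surjective f.left]
    (N : Over (Spec (CommRingCat.of k))) [GrpObj N] (n : N ⟶ G) [IsMonHom n] [IsClosedImmersion n.left] [IsFinite N.hom]
    (hker : AlgGrp.IsKernel n f) (hH : (∃ (T : Over (Spec (CommRingCat.of k))) (_ : GrpObj T) (i : T ⟶ H) (A : Over (Spec (CommRingCat.of k))) (_ : GrpObj A) (q : H ⟶ A),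
        IsMonHom i ∧ IsClosedImmersion i.left ∧ Red.IsTorus T ∧ IsMonHom q ∧ Surjective q.left ∧ Flat q.left ∧
        AlgGrp.IsKernel i q ∧ IsProper A.hom ∧ Smooth A.hom ∧ ConnectedSpace ↥A.left)) :
    (∃ (T : Over (Spec (CommRingCat.of k))) (_ : GrpObj T) (i : T ⟶ G) (A : Over (Spec (CommRingCat.of k))) (_ : GrpObj A) (q : G ⟶ A),
        IsMonHom i ∧ IsClosedImmersion i.left ∧ Red.IsTorus T ∧ IsMonHom q ∧ Surjective q.left ∧ Flat q.left ∧
        AlgGrp.IsKernel i q ∧ IsProper A.hom ∧ Smooth A.hom ∧ ConnectedSpace ↥A.left) := by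
  haveI : LocallyOfFiniteType G.hom := inferInstance
  have hH' : Chev.IsSA H := hH
  obtain ⟨hHs, hHc⟩ := hH'.smooth_connected
  haveI := hHs; haveI := hHc
  haveI := hH'.isCommMonObj
  haveI : IsSeparated G.hom := GrpField.isSeparated_hom G
  haveI : IsSeparated H.hom := GrpField.isSeparated_hom H
  haveI : IsReduced H.left := Chev.isReduced_of_smooth' H
  haveI : Mono n := GrpField.SchImg.mono_of_isClosedImmersion n
  -- the group is commutative
  haveI hG : IsCommMonObj G := by
    haveI : GeometricallyConnected G.hom :=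
      Groth.Agent.Rigid.geometricallyConnected_of_section G.hom η[G].left (Over.w η[G])
    haveI : ConnectedSpace (G ⊗ G).left := by
      let p := Limits.pullback.snd G.hom G.hom
      haveI : GeometricallyConnected p := inferInstanceAs (GeometricallyConnected (Limits.pullback.snd G.hom G.hom))
      haveI : UniversallyOpen p := inferInstanceAs (UniversallyOpen (Limits.pullback.snd G.hom G.hom))
      exact GeometricallyConnected.connectedSpace (f := p) p.isOpenMap
    haveI : Smooth (G ⊗ G).hom := inferInstanceAs (Smooth (Limits.pullback.fst G.hom G.hom ≫ G.hom))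
    haveI : IsReduced (G ⊗ G).left := Chev.isReduced_of_smooth' _
    let c : G ⊗ G ⟶ G := (fst G G * snd G G) * (snd G G * fst G G)⁻¹
    have hc : c ≫ f = toUnit _ ≫ η[H] := by
      simp only [c, MonObj.mul_comp, GrpObj.inv_comp]
      rw [_root_.mul_comm (snd G G ≫ f), mul_inv_cancel, Hom.one_def]
    let w : G ⊗ G ⟶ N := hker.lift c _ hc
    have hw : w ≫ n = c := hker.lift_fst _ _ _
    have hw1 : lift (1 : 𝟙_ _ ⟶ G) 1 ≫ w = η[N] := by
      rw [← cancel_mono n, Category.assoc, hw, IsMonHom.one_hom]
      simp only [c, MonObj.comp_mul, GrpObj.comp_inv, lift_fst, lift_snd, _root_.mul_one, inv_one]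
      rw [Hom.one_def, toUnit_unit, Category.id_comp]
    haveI : DiscreteTopology N.left := SpQS.discrete_of_isFinite N.hom
    have hw' : w = toUnit _ ≫ η[N] := by
      refine Chev.eq_toUnit_comp_of_point η[N] w (IsLocalRing.closedPoint k) fun t => ?_
      rw [← hw1, Over.comp_left, Scheme.Hom.comp_apply]
      exact (isPreconnected_range w.left.continuous).subsingleton ⟨t, rfl⟩ ⟨_, rfl⟩
    have h1 : fst G G * snd G G = snd G G * fst G G := by
      rw [← mul_inv_eq_one]
      show c = 1
      rw [← hw, hw', Category.assoc, IsMonHom.one_hom, Hom.one_def]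
    exact ⟨by
      rw [show μ[G] = fst G G * snd G G from Eq.symm (by rw [Hom.mul_def, lift_fst_snd, Category.id_comp]),
        MonObj.comp_mul, braiding_hom_fst, braiding_hom_snd, h1]⟩
  haveI : IsCommMonObj N := ⟨by
    rw [← cancel_mono n, Category.assoc, IsMonHom.mul_hom (f := n), ← Category.assoc,
      ← BraidedCategory.braiding_naturality, Category.assoc, IsCommMonObj.mul_comm]⟩
  -- a positive integer kills the kernel
  haveI : Surjective N.hom := ⟨fun y => ⟨η[N].left y, Subsingleton.elim (α := PrimeSpectrum k) _ _⟩⟩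
  let r : ℕ := Scheme.Hom.finrank N.hom (IsLocalRing.closedPoint k)
  have hr : 0 < r := (Scheme.Hom.one_le_finrank_iff_surjective N.hom).2 inferInstance (IsLocalRing.closedPoint k)
  have hN : (𝟙 N : N ⟶ N) ^ r = 1 := FinHopf.pow_rank_eq_one N r fun s => by
    rw [Subsingleton.elim (α := PrimeSpectrum k) s (IsLocalRing.closedPoint k)]
  have hnr : n ≫ (𝟙 G ^ r) = 1 := by
    rw [MonObj.comp_pow, Category.comp_id]
    calc n ^ r = (𝟙 N ^ r) ≫ n := by rw [MonObj.pow_comp, Category.id_comp]
      _ = 1 := by rw [hN, MonObj.one_comp]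
  haveI := Chev.isMonHom_pow G r
  haveI : QuasiCompact f.left := by
    haveI : QuasiCompact (f.left ≫ H.hom) := by rw [Over.w]; infer_instance
    exact QuasiCompact.of_comp _ H.hom
  haveI : Flat f.left := GrpField.flat_of_surjective_reduced f
  obtain ⟨ψ, hψ⟩ := AdjRep.exists_desc n f hker (𝟙 G ^ r) hnr
  haveI : IsLocallyNoetherian H.left := LocallyOfFiniteType.isLocallyNoetherian H.hom
  haveI : LocallyOfFinitePresentation f.left := by
    haveI : LocallyOfFiniteType (f.left ≫ H.hom) := by rw [Over.w]; infer_instance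
    haveI : LocallyOfFiniteType f.left := locallyOfFiniteType_of_comp f.left H.hom
    infer_instance
  haveI : IsMonHom (f ≫ ψ) := by rw [hψ]; infer_instance
  haveI := Chev.isMonHom_desc f ψ
  haveI : Epi f := AVQuot.epi_of_covering f
  have hψf : ψ ≫ f = 𝟙 H ^ r := by
    rw [← cancel_epi f, ← Category.assoc, hψ, MonObj.pow_comp, Category.id_comp, MonObj.comp_pow, Category.comp_id]
  -- the map back is surjective
  haveI : QuasiCompact ψ.left := by
    haveI : QuasiCompact (ψ.left ≫ G.hom) := by rw [Over.w]; infer_instance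
    exact QuasiCompact.of_comp _ G.hom
  obtain ⟨C, hC, iC, g, hiC, hgm, hgi, hicl, -, -, hgs⟩ := GrpField.SchImg.exists_image ψ
  haveI := hiC; haveI := hicl; haveI := hgs
  haveI : Surjective (iC ≫ f).left := by
    haveI := hH'.surjective_pow hr
    haveI : Surjective (g.left ≫ (iC ≫ f).left) := by
      rw [← Over.comp_left, ← Category.assoc, hgi, hψf]; infer_instance
    exact Surjective.of_comp g.left _
  haveI := Chev.surjective_mul_of_surjective_comp n f hker iC
  obtain ⟨R, hR, q, hqm, hqf, hqs, hqk, hqsep, hRsm, hRq, hRc, -⟩ := Chev.exists_quotient_group' iC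
    (fun T a x => ⟨x, by rw [_root_.mul_comm a, _root_.mul_assoc, mul_inv_cancel, _root_.mul_one]⟩)
  haveI := hqm; haveI := hqs; haveI := hqsep; haveI := hRsm; haveI := hRc
  haveI : Surjective (n ≫ q).left := by
    have e : ((n ⊗ₘ iC) ≫ μ[G]) ≫ q = fst N C ≫ n ≫ q := by
      rw [← Category.id_comp ((n ⊗ₘ iC) ≫ μ[G]), Chev.comp_tensor_mul, MonObj.mul_comp, Category.id_comp,
        Category.id_comp, Category.assoc, Category.assoc, hqk.w, comp_toUnit_assoc, ← Hom.one_def, _root_.mul_one]
    haveI : Surjective ((fst N C).left ≫ (n ≫ q).left) := by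
      rw [← Over.comp_left, ← e, Over.comp_left]; infer_instance
    exact Surjective.of_comp (fst N C).left _
  haveI : DiscreteTopology N.left := SpQS.discrete_of_isFinite N.hom
  haveI : CompactSpace N.left := QuasiCompact.compactSpace_of_compactSpace N.hom
  haveI : Finite N.left := finite_of_compact_of_discrete
  haveI : Finite R.left := Finite.of_surjective _ (n ≫ q).left.surjective
  haveI : JacobsonSpace R.left := LocallyOfFiniteType.jacobsonSpace R.hom
  haveI : Subsingleton R.left := PreconnectedSpace.trivial_of_discrete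
  haveI : IsReduced G.left := Chev.isReduced_of_smooth' G
  have hq1 : q = toUnit G ≫ η[R] :=
    Chev.eq_toUnit_comp_of_point η[R] q (IsLocalRing.closedPoint k) fun t => Subsingleton.elim _ _
  let s : G ⟶ C := hqk.lift (𝟙 G) (toUnit G) (by rw [Category.id_comp]; exact hq1)
  have hs : s ≫ iC = 𝟙 G := hqk.lift_fst _ _ _
  haveI : Surjective iC.left := by
    haveI : Surjective (s.left ≫ iC.left) := by rw [← Over.comp_left, hs]; exact inferInstanceAs (Surjective (𝟙 G.left))
    exact Surjective.of_comp s.left iC.left
  haveI : Surjective ψ.left := by rw [← hgi, Over.comp_left]; infer_instance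
  exact Chev.isSA_of_surjective hH' ψ


end Groth.Agent.S14594
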