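import Groth.Statements.S19702
import Groth.Agent.AffHull.Basic

set_option autoImplicit false
universe u
open CategoryTheory MonoidalCategory CartesianMonoidalCategory MonObj GrpObj AlgebraicGeometry CategoryTheory.Limits
open AlgGrp

namespace Groth.Agent.S19702

/-- bijectivity descends along a nonzero algebra over a field -/
theorem descend {R A K B : CommRingCat.{u}} {f : R ⟶ A} {h : R ⟶ K} {p : A ⟶ B} {q : K ⟶ B}
    [Nontrivial K] (hR : IsField R) (H : IsPushout f h p q) (hq : IsIso q) : IsIso f := by
  letI := hR.toField
  algebraize [f.hom, h.hom, p.hom, q.hom, p.hom.comp f.hom]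
  have : IsScalarTower R K B := .of_algebraMap_eq' (congrArg (·.hom) H.w)
  have hP : Algebra.IsPushout R A K B :=
    (CommRingCat.isPushout_iff_isPushout (R := R) (S := K) (R' := A) (S' := B)).1 H
  have := hP.symm
  have hqb : Function.Bijective (algebraMap K B) := ConcreteCategory.bijective_of_isIso q
  have hl : Function.Bijective
      ((Algebra.linearMap R A).lTensor K) := by
    have e1 : ⇑((Algebra.linearMap R A).lTensor K) = (Algebra.IsPushout.equiv R K A B).symm ∘
        algebraMap K B ∘ TensorProduct.rid R K := by
      ext x
      obtain ⟨x, rfl⟩ := (TensorProduct.rid R K).symm.surjective x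
      simp
    rw [e1]
    exact (Algebra.IsPushout.equiv R K A B).symm.bijective.comp
      (hqb.comp (TensorProduct.rid R K).bijective)
  rw [ConcreteCategory.isIso_iff_bijective]
  exact (Module.FaithfullyFlat.lTensor_bijective_iff_bijective R K (Algebra.linearMap R A)).1 hl

/-- Let k be a field, K a field extension of k and G a k-group scheme of finite type. Then G is
anti-affine, i.e. O(G) = k, if and only if the base change G_K is anti-affine, i.e. O(G_K) = K. -/
theorem result (k : Type u) [Field k] (K : Type u) [Field K] [Algebra k K]
    (G : Over (Spec (CommRingCat.of k))) [GrpObj G] [LocallyOfFiniteType G.hom] [QuasiCompact G.hom] :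
    Function.Bijective ((Scheme.ΓSpecIso (CommRingCat.of k)).inv ≫ G.hom.appTop).hom ↔
      Function.Bijective ((Scheme.ΓSpecIso (CommRingCat.of K)).inv ≫ (Red.bc (Spec.map (CommRingCat.ofHom (algebraMap k K))) G).hom.appTop).hom := by
  have hsep : IsSeparated G.hom := GrpField.isSeparated_hom G
  have hGs : G.left.IsSeparated := ⟨by
    rw [Subsingleton.elim (terminal.from G.left) (G.hom ≫ terminal.from _)]; infer_instance⟩
  have hGc : CompactSpace G.left := QuasiCompact.compactSpace_of_compactSpace G.hom
  let j := Spec.map (CommRingCat.ofHom (algebraMap k K))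
  have hflat : Flat G.hom := inferInstance
  have HP := GammaProd.isPushout_appTop (GammaProd.flat_appTop_field j)
    (IsPullback.of_hasPullback G.hom j)
  rw [← ConcreteCategory.isIso_iff_bijective, ← ConcreteCategory.isIso_iff_bijective,
    isIso_comp_left_iff, isIso_comp_left_iff]
  show IsIso G.hom.appTop ↔ IsIso (pullback.snd G.hom j).appTop
  refine ⟨fun h => HP.isIso_inr_of_isIso h, fun h => ?_⟩
  exact descend ((Scheme.ΓSpecIso (CommRingCat.of k)).commRingCatIsoToRingEquiv.toMulEquiv.isField
    (Field.toIsField k)) HP h

end Groth.Agent.S19702
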