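import Groth.Statements.S5351
import Groth.Agent.MonoFactor.HomogDim
import Groth.Agent.FppfSource.Scheme

import Mathlib

set_option autoImplicit false
universe u
open CategoryTheory CategoryTheory.Limits MonoidalCategory CartesianMonoidalCategory MonObj GrpObj AlgebraicGeometry
open SGA3

namespace Groth.Agent.S5351

/-- Let A be a local artinian ring, G an A-group scheme locally of finite type, and u : F → G a
homomorphism which is a closed immersion, with F flat and quasi-compact (hence of finite type) over
A (G is not assumed flat). Then there are an A-scheme X and a morphism p : G → X over A (the
quotient of G by F acting by left translations) such that: X is separated and locally of finite type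
over A; p is surjective, flat and locally of finite presentation; the square formed by (f, g) ↦
u(f)·g, the second projection F ×_A G → G and p (twice) is cartesian; X is flat (resp.
quasi-compact, resp. smooth) over A when G is; and every connected component of X is irreducible and
quasi-compact, of dimension d with d + dim F = dim G. (The published statement asks only that F be a
closed subgroup scheme flat over A, hence locally of finite type; this row also assumes F
quasi-compact over A, the case in which the second projection F ×_A G → G is of finite presentation,
as the reduction to the residue field used in the proof requires. The published statement also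
asserts exactness of F ×_A G ⇉ G → X in the category of all ringed spaces and a right action of G on
X; these are not part of this row.) -/
theorem result (A : Type u) [CommRing A] [IsArtinianRing A] [IsLocalRing A] (F G : Over (Spec (CommRingCat.of A))) [GrpObj F] [GrpObj G]
    [LocallyOfFiniteType G.hom] [Flat F.hom] [QuasiCompact F.hom] (u : F ⟶ G) [IsMonHom u] [IsClosedImmersion u.left] :
    ∃ (X : Over (Spec (CommRingCat.of A))) (p : G ⟶ X),
      IsSeparated X.hom ∧ LocallyOfFiniteType X.hom ∧
      Surjective p.left ∧ Flat p.left ∧ LocallyOfFinitePresentation p.left ∧
      IsPullback ((u ▷ G) ≫ μ[G]) (snd F G) p p ∧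
      (Flat G.hom → Flat X.hom) ∧ (QuasiCompact G.hom → QuasiCompact X.hom) ∧ (Smooth G.hom → Smooth X.hom) ∧
      ∀ x : X.left, IsIrreducible (connectedComponent x) ∧ IsCompact (connectedComponent x) ∧
        topologicalKrullDim ↥(connectedComponent x) + topologicalKrullDim ↥F.left = topologicalKrullDim ↥G.left := by
  let B := Spec (CommRingCat.of A)
  haveI : Subsingleton B := GrpField.subsingleton_spec_local_artin A
  haveI : LocallyOfFiniteType F.hom := by
    rw [← Over.w u]
    infer_instance
  obtain ⟨X, p, hs, hf, hp, hsq, hsep, hlft⟩ :=
    MonoFactor.exists_quotient_point (IsLocalRing.residue A) IsLocalRing.residue_surjective u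
  haveI := hs; haveI := hf; haveI := hp; haveI := hsep; haveI := hlft
  refine ⟨X, p, hsep, hlft, hs, hf, hp, hsq, fun hG => ?_, fun hG => ?_, fun hG => ?_, fun x =>
    MonoFactor.components_of_quotient_point (IsLocalRing.residue A) IsLocalRing.residue_surjective u p hsq x⟩
  · haveI : Flat (p.left ≫ X.hom) := by rw [Over.w p]; exact hG
    exact GrpdLib.flat_of_flat_comp p.left X.hom
  · haveI : QuasiCompact (p.left ≫ X.hom) := by rw [Over.w p]; exact hG
    exact ThickLib.quasiCompact_of_comp_surjective p.left X.hom
  · haveI : Smooth (p.left ≫ X.hom) := by rw [Over.w p]; exact hG
    exact FppfSource.smooth p.left X.hom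

end Groth.Agent.S5351
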