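import Groth.Statements.S6084
import Groth.Agent.MonoFactor.HomogDim
import Groth.Agent.DimZeroFT.Basic

import Mathlib

set_option autoImplicit false
universe u
open CategoryTheory CategoryTheory.Limits MonoidalCategory CartesianMonoidalCategory MonObj GrpObj AlgebraicGeometry
open SGA3

namespace Groth.Agent.S6084

/-- Let k be a perfect field, G a group scheme locally of finite type over k and u : F → G a
homomorphism of k-group schemes which is a closed immersion and surjective on underlying spaces,
with F reduced (so F is G_red with its group structure). Let p : G → X be a k-morphism which is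
flat, surjective and locally of finite presentation and makes the square formed by (f, g) ↦ u(f) ·
g, the second projection F ×_k G → G and p (twice) cartesian (X is the quotient of G by F acting by
left translations). Then X is the spectrum of a finite local k-algebra with residue field k: X is
affine, its underlying space is a single point at which the structure morphism induces an
isomorphism of residue fields, and the ring of global sections of X is finite over k. -/
theorem result (k : Type u) [Field k] [PerfectField k]
    (F G : Over (Spec (CommRingCat.of k))) [GrpObj F] [GrpObj G] [LocallyOfFiniteType G.hom] [IsReduced F.left]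
    (u : F ⟶ G) [IsMonHom u] [IsClosedImmersion u.left] [Surjective u.left]
    (X : Over (Spec (CommRingCat.of k))) (p : G ⟶ X) [Flat p.left] [Surjective p.left] [LocallyOfFinitePresentation p.left]
    (hp : IsPullback ((u ▷ G) ≫ μ[G]) (snd F G) p p) :
    IsAffine X.left ∧ (∃ x : X.left, (Set.univ : Set X.left) = {x} ∧ IsIso (X.hom.residueFieldMap x)) ∧
      ((Scheme.ΓSpecIso (CommRingCat.of k)).inv ≫ X.hom.appTop).hom.Finite := by
  let B := Spec (CommRingCat.of k)
  have hfix : ∀ {T : Over B} (f : T ⟶ F), (f ≫ u) ≫ p = (1 : T ⟶ G) ≫ p := by
    intro T f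
    have h2 : lift f (1 : T ⟶ G) ≫ (MonoFactor.translation u).act = f ≫ u := by
      rw [MonoFactor.translation_apply, _root_.mul_one]
    rw [← h2]
    show (lift f (1 : T ⟶ G) ≫ (u ▷ G) ≫ μ[G]) ≫ p = _
    rw [Category.assoc, hp.w, ← Category.assoc, lift_snd]
  let z₀ : (𝟙_ (Over B)).left := IsLocalRing.closedPoint k
  let σ : 𝟙_ (Over B) ⟶ X := η[G] ≫ p
  have hall : ∀ x : X.left, x = σ.left z₀ := by
    intro x
    obtain ⟨g, rfl⟩ := p.left.surjective x
    obtain ⟨f, rfl⟩ := u.left.surjective g
    let T : Over B := Over.mk (F.left.fromSpecResidueField f ≫ F.hom)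
    let fp : T ⟶ F := Over.homMk (F.left.fromSpecResidueField f) rfl
    have h := congrArg (fun m : T ⟶ X => m.left (IsLocalRing.closedPoint (F.left.residueField f))) (hfix fp)
    simp only [Over.comp_left, Scheme.Hom.comp_apply, Hom.one_def] at h
    have e : fp.left (IsLocalRing.closedPoint (F.left.residueField f)) = f :=
      Scheme.fromSpecResidueField_apply f _
    rw [e] at h
    refine h.trans ?_
    show p.left (η[G].left _) = p.left (η[G].left z₀)
    exact congrArg (fun z => p.left (η[G].left z)) (Subsingleton.elim (α := PrimeSpectrum k) _ _)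
  haveI : Subsingleton X.left := ⟨fun x y => (hall x).trans (hall y).symm⟩
  haveI : LocallyOfFiniteType (p.left ≫ X.hom) := by rw [Over.w p]; infer_instance
  haveI : LocallyOfFiniteType X.hom := FppfSource.lft p.left X.hom
  haveI : DiscreteTopology X.left := Subsingleton.discreteTopology
  haveI : Finite X.left := inferInstance
  haveI : CompactSpace X.left := Finite.compactSpace
  haveI : QuasiCompact X.hom := inferInstance
  obtain ⟨haff, hfin⟩ := DimZeroFT.isAffine_and_finite X.hom
  refine ⟨haff, ⟨σ.left z₀, Set.eq_singleton_iff_unique_mem.2 ⟨trivial, fun y _ => hall y⟩, ?_⟩, ?_⟩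
  · let σl : B ⟶ X.left := σ.left
    let z₁ : B := IsLocalRing.closedPoint k
    have hσ : σl ≫ X.hom = 𝟙 B := Over.w σ
    have hiso : IsIso ((σl ≫ X.hom).residueFieldMap z₁) := by
      rw [hσ, Scheme.residueFieldMap_id]
      exact IsIso.id _
    rw [Scheme.residueFieldMap_comp] at hiso
    have hb := (@asIso _ _ _ _ _ hiso).commRingCatIsoToRingEquiv.bijective
    show IsIso (X.hom.residueFieldMap (σl z₁))
    rw [ConcreteCategory.isIso_iff_bijective]
    refine ⟨(X.hom.residueFieldMap (σl z₁)).hom.injective, fun y => ?_⟩
    obtain ⟨c, hc⟩ := hb.2 (σl.residueFieldMap z₁ y)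
    exact ⟨c, (σl.residueFieldMap z₁).hom.injective hc⟩
  · have hb := ConcreteCategory.bijective_of_isIso (Scheme.ΓSpecIso (CommRingCat.of k)).inv
    rw [CommRingCat.hom_comp]
    exact hfin.comp (RingHom.Finite.of_surjective _ hb.2)

end Groth.Agent.S6084
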