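import Groth.Statements.S3026
import Groth.Agent.SubGen.Spread
import Groth.Agent.GrpBasic.Perfect
import Groth.Agent.S5351
import Groth.Agent.S6084
import Groth.Agent.S19702

set_option autoImplicit false
universe u
open CategoryTheory MonoidalCategory CartesianMonoidalCategory MonObj GrpObj AlgebraicGeometry TensorProduct
open SGA3

namespace Groth.Agent.S3026

open Groth.Agent.SubGen Groth.Agent.SubGen.Spread
set_option backward.isDefEq.respectTransparency false

/-- Over an algebraically closed field an anti-affine group is reduced, hence smooth. -/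
theorem smooth_algClosed {k : Type u} [Field k] [IsAlgClosed k] (G : Over (Spec (CommRingCat.of k))) [GrpObj G]
    [LocallyOfFiniteType G.hom] [QuasiCompact G.hom]
    (hO : Function.Bijective ((Scheme.ΓSpecIso (CommRingCat.of k)).inv ≫ G.hom.appTop).hom) : Smooth G.hom := by
  let J := Scheme.IdealSheafData.vanishingIdeal (⟨Set.univ, isClosed_univ⟩ : TopologicalSpace.Closeds G.left)
  let F : Over (Spec (CommRingCat.of k)) := Over.mk (J.subschemeι ≫ G.hom)
  let i : F ⟶ G := Over.homMk J.subschemeι rfl
  haveI : IsReduced F.left := GrpField.isReduced_vanishingIdeal (H := G) _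
  haveI : IsClosedImmersion i.left := inferInstanceAs (IsClosedImmersion J.subschemeι)
  have hr : Set.range i.left = Set.univ := by
    show Set.range J.subschemeι = _
    rw [Scheme.IdealSheafData.range_subschemeι]
    rfl
  haveI : Surjective i.left := ⟨Set.range_eq_univ.1 hr⟩
  haveI : LocallyOfFiniteType F.hom := inferInstanceAs (LocallyOfFiniteType (J.subschemeι ≫ G.hom))
  haveI : QuasiCompact F.hom := inferInstanceAs (QuasiCompact (J.subschemeι ≫ G.hom))
  haveI : GeometricallyReduced F.hom := Rigid.geometricallyReduced_of_perfect F.hom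
  haveI : IsReduced (F ⊗ F).left := by
    haveI : GeometricallyReduced (F ⊗ F).hom := GeomRedPull.geometricallyReduced_pullback F.hom F.hom
    exact isReduced_left (F ⊗ F)
  haveI : Mono i := Over.mono_of_mono_left i
  obtain ⟨hF, hi⟩ := exists_grpObj_of_div i
    (by
      haveI : IsReduced (𝟙_ (Over (Spec (CommRingCat.of k)))).left := inferInstanceAs (IsReduced (Spec (CommRingCat.of k)))
      exact exists_lift_reduced η[G] i (by rw [hr]; exact Set.subset_univ _))
    (exists_lift_reduced _ i (by rw [hr]; exact Set.subset_univ _))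
  letI := hF
  haveI := hi
  obtain ⟨X, p, -, -, hps, hpf, hpl, hsq, -⟩ := Groth.Agent.S5351.result k F G i
  haveI := hps
  haveI := hpf
  haveI := hpl
  obtain ⟨hXa, -⟩ := Groth.Agent.S6084.result k F G i X p hsq
  haveI := hXa
  haveI : IsIso (toUnit G).left.appTop := by
    rw [show (toUnit G).left = G.hom from rfl]
    haveI : IsIso ((Scheme.ΓSpecIso (CommRingCat.of k)).inv ≫ G.hom.appTop) :=
      (ConcreteCategory.isIso_iff_bijective _).2 hO
    exact IsIso.of_isIso_comp_left (Scheme.ΓSpecIso (CommRingCat.of k)).inv _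
  obtain ⟨o, ho⟩ := AffHull.exists_factor (toUnit G) p
  have hp : lift (𝟙 G) (1 : G ⟶ G) ≫ fst G G ≫ p = lift (𝟙 G) (1 : G ⟶ G) ≫ snd G G ≫ p := by
    rw [lift_fst_assoc, lift_snd_assoc, ← ho, Category.id_comp, comp_toUnit_assoc]
  obtain ⟨c, hc1, hc2⟩ := hsq.exists_lift (𝟙 G) (1 : G ⟶ G) (by simpa using hp)
  have key : (c ≫ fst F G) ≫ i = 𝟙 G := by
    have e1 : (i ▷ G) ≫ μ[G] = (fst F G ≫ i) * snd F G := by
      rw [Hom.mul_def]
      congr 1
    rw [e1, MonObj.comp_mul, hc2, _root_.mul_one] at hc1
    rw [Category.assoc]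
    exact hc1
  haveI : IsSplitEpi i := ⟨⟨c ≫ fst F G, key⟩⟩
  haveI : IsIso i := isIso_of_mono_of_isSplitEpi i
  haveI : IsIso i.left := inferInstanceAs (IsIso ((Over.forget _).map i))
  haveI : IsReduced G.left := isReduced_of_isOpenImmersion (inv i.left)
  letI : GrpObj (Over.mk G.hom) := inferInstanceAs (GrpObj G)
  exact GrpBasic.smooth_of_grpObj_algClosed G.hom


/-- Let N be a group scheme of finite type over a field k such that the structure map identifies k with
the ring of global functions of N. Then N is smooth over k. (The same lemma also gives connectedness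
and commutativity.) -/
theorem result (k : Type u) [Field k] (N : Over (Spec (CommRingCat.of k))) [GrpObj N]
    [LocallyOfFiniteType N.hom] [QuasiCompact N.hom]
    (hO : Function.Bijective ((Scheme.ΓSpecIso (CommRingCat.of k)).inv ≫ N.hom.appTop).hom) :
    Smooth N.hom := by
  let K := AlgebraicClosure k
  let j : Spec (CommRingCat.of K) ⟶ Spec (CommRingCat.of k) := Spec.map (CommRingCat.ofHom (algebraMap k K))
  haveI : LocallyOfFiniteType (Red.bc j N).hom := MorphismProperty.pullback_snd _ _ ‹LocallyOfFiniteType N.hom›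
  haveI : QuasiCompact (Red.bc j N).hom := MorphismProperty.pullback_snd _ _ ‹QuasiCompact N.hom›
  refine MorphismProperty.of_pullback_snd_of_descendsAlong (P := @Smooth) (Q := @Surjective ⊓ @Flat ⊓ @QuasiCompact) (g := j)
    ⟨⟨inferInstance, inferInstance⟩, inferInstance⟩ ?_
  exact smooth_algClosed (Red.bc j N) ((Groth.Agent.S19702.result k K N).1 hO)

end Groth.Agent.S3026
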