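import Groth.Statements.S11412
import Groth.Agent.S3026
import Groth.Agent.AlgSpLib.PureMono
import Mathlib

set_option autoImplicit false
universe u
open CategoryTheory MonoidalCategory CartesianMonoidalCategory MonObj GrpObj AlgebraicGeometry CategoryTheory.Limits
open AlgGrp

namespace Groth.Agent.S11412

set_option backward.isDefEq.respectTransparency false

/-- Over an algebraically closed field k, let G be a k-group scheme of finite type whose only global
functions are the constants. Then G is reduced, i.e. smooth over k, and for every closed subgroup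
scheme H of G and every quotient G/H (a k-scheme X of locally finite type with a G-action and a
rational point o whose orbit map is flat and surjective and identifies G × H with G ×_X G), the only
global functions on X are the constants. (The published statement also records that G is connected
and commutative.) -/
theorem result (k : Type u) [Field k] [IsAlgClosed k]
    (G : Over (Spec (CommRingCat.of k))) [GrpObj G] [LocallyOfFiniteType G.hom] [QuasiCompact G.hom]
    (hG : Function.Bijective ((Scheme.ΓSpecIso (CommRingCat.of k)).inv ≫ G.hom.appTop).hom) :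
    Smooth G.hom ∧
      ∀ (H : Over (Spec (CommRingCat.of k))) [GrpObj H] (h : H ⟶ G) [IsMonHom h] [IsClosedImmersion h.left]
        (X : Over (Spec (CommRingCat.of k))) (a : AlgGrp.Action G X) (o : 𝟙_ (Over (Spec (CommRingCat.of k))) ⟶ X), AGF.IsQuotient h X a o →
        Function.Bijective ((Scheme.ΓSpecIso (CommRingCat.of k)).inv ≫ X.hom.appTop).hom := by
  refine ⟨Groth.Agent.S3026.result k G hG, fun H _ h _ _ X a o hq => ?_⟩
  obtain ⟨hXl, hρf, hρs, -⟩ := hq
  let ρ := a.orbitMap o
  haveI := hρf
  haveI := hρs
  haveI := hXl
  haveI : CompactSpace G.left := QuasiCompact.compactSpace_of_compactSpace (Y := Spec (CommRingCat.of k)) G.hom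
  haveI : QuasiCompact ρ.left := by
    haveI : IsLocallyNoetherian G.left := LocallyOfFiniteType.isLocallyNoetherian G.hom
    haveI : AlgebraicGeometry.IsNoetherian G.left := {}
    infer_instance
  have hcomp : (Scheme.ΓSpecIso (CommRingCat.of k)).inv ≫ G.hom.appTop =
      ((Scheme.ΓSpecIso (CommRingCat.of k)).inv ≫ X.hom.appTop) ≫ ρ.left.appTop := by
    rw [Category.assoc, ← Scheme.Hom.comp_appTop, Over.w]
  have hinj : Function.Injective ρ.left.appTop.hom := AlgSpLib.appTop_injective_of_flat_surjective ρ.left
  refine ⟨fun x y hxy => hG.1 ?_, fun y => ?_⟩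
  · rw [hcomp, CommRingCat.comp_apply, CommRingCat.comp_apply _ ρ.left.appTop]
    exact congrArg ρ.left.appTop.hom hxy
  · obtain ⟨c, hc⟩ := hG.2 (ρ.left.appTop.hom y)
    rw [hcomp, CommRingCat.comp_apply] at hc
    exact ⟨c, hinj hc⟩

end Groth.Agent.S11412
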