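import Groth.Statements.S14578
import Mathlib
import Groth.Agent.AntiAffRig.Basic
import Groth.Agent.ClosedRep.Over

set_option autoImplicit false
universe u
open CategoryTheory MonoidalCategory CartesianMonoidalCategory MonObj GrpObj AlgebraicGeometry CategoryTheory.Limits
open AlgGrp

namespace Groth.Agent.S14578

/-- Let k be a field, H an anti-affine k-group scheme of finite type (its only global functions are the
constants), G a k-group scheme of finite type and f : H → G a morphism of k-schemes with f(e_H) =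
e_G. Then f is a homomorphism. (The second assertion, that f factors through the centre of the
neutral component of G, is not restated here.) -/
theorem result (k : Type u) [Field k]
    (H G : Over (Spec (CommRingCat.of k))) [GrpObj H] [GrpObj G] [LocallyOfFiniteType H.hom] [QuasiCompact H.hom]
    [LocallyOfFiniteType G.hom] [QuasiCompact G.hom]
    (hH : Function.Bijective ((Scheme.ΓSpecIso (CommRingCat.of k)).inv ≫ H.hom.appTop).hom) (f : H ⟶ G) (hf : η[H] ≫ f = η[G]) : IsMonHom f := by
  haveI : IsSeparated G.hom := Groth.Agent.ClosedRep.isSeparated_of_field k G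
  haveI : IsSeparated H.hom := Groth.Agent.ClosedRep.isSeparated_of_field k H
  haveI : IsLocallyNoetherian H.left := LocallyOfFiniteType.isLocallyNoetherian H.hom
  haveI : ConnectedSpace H.left := Groth.Agent.AntiAffRig.OnlyConst.connectedSpace hH η[H]
  have h1 : ∀ T : Over (Spec (CommRingCat.of k)), (1 : T ⟶ H) ≫ f = 1 := fun T => by
    rw [Hom.one_def, Category.assoc, hf]; rfl
  let F : H ⊗ H ⟶ G := ((fst H H * snd H H) ≫ f) * ((fst H H ≫ f) * (snd H H ≫ f))⁻¹
  have hF : ∀ (T : Over (Spec (CommRingCat.of k))) (a b : T ⟶ H),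
      lift a b ≫ F = ((a * b) ≫ f) * ((a ≫ f) * (b ≫ f))⁻¹ := by
    intro T a b
    simp only [F, MonObj.comp_mul, GrpObj.comp_inv, ← Category.assoc, lift_fst, lift_snd]
  have hg1 : lift (toUnit H ≫ η[H]) (𝟙 H) ≫ F = 1 := by
    rw [hF, ← Hom.one_def, h1, _root_.one_mul, _root_.one_mul]
    exact mul_inv_cancel _
  have hf0 : (H ◁ η[H]) ≫ F = toUnit _ ≫ (1 : 𝟙_ _ ⟶ G) := by
    have : H ◁ η[H] = lift (fst H (𝟙_ _)) 1 := by
      ext1
      · simp
      · rw [whiskerLeft_snd, lift_snd, Hom.one_def, toUnit_unique (toUnit (H ⊗ 𝟙_ _)) (snd _ _)]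
    rw [this, hF, h1, _root_.mul_one, _root_.mul_one, MonObj.comp_one]
    exact mul_inv_cancel _
  obtain ⟨W, j, hj, hW, U, i, hi, hUa, hUe, hUw⟩ :=
    Groth.Agent.AntiAffRig.exists_nhd hH η[H] η[H] 1 F hf0
  rw [hg1] at hW
  simp only [MonObj.comp_one, hF, mul_inv_eq_one] at hW
  have hmul : ∀ (T : Over (Spec (CommRingCat.of k))) (a b : T ⟶ H), (∃ w, w ≫ j = a) → (∃ w, w ≫ j = b) →
      ∃ w, w ≫ j = a * b := by
    intro T a b ha hb
    rw [hW] at ha hb ⊢
    intro T' t y
    have hab : (t ≫ (a * b)) ≫ f = ((t ≫ a) ≫ f) * ((t ≫ b) ≫ f) := by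
      rw [MonObj.comp_mul, hb T' t (t ≫ a)]
    rw [hab, MonObj.comp_mul, ← _root_.mul_assoc, hb T' t, ha T' t, _root_.mul_assoc]
  haveI := Groth.Agent.AntiAffRig.isIso_of_mul_stable j hmul U i hUe hUw
  have hall := (hW H (𝟙 H)).1 ⟨inv j, IsIso.inv_hom_id j⟩
  refine { one_hom := hf, mul_hom := ?_ }
  have h := hall (H ⊗ H) (snd H H) (fst H H)
  rw [Category.comp_id] at h
  have e1 : μ[H] = fst H H * snd H H := by
    rw [Hom.mul_def, lift_fst_snd, Category.id_comp]
  rw [e1, h, Hom.mul_def]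
  congr 1

end Groth.Agent.S14578
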