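import Groth.Statements.S4107
import Groth.Agent.S4106
import Groth.Agent.S3026
import Groth.Agent.S3293
import Groth.Agent.S5351
import Groth.Agent.AffHull.Basic
import Groth.Agent.AdjRep.KerObj
import Groth.Agent.AVQuot.Basic
import Groth.Agent.SchDescent.AffineDesc

set_option autoImplicit false
universe u
open CategoryTheory MonoidalCategory CartesianMonoidalCategory MonObj GrpObj AlgebraicGeometry CategoryTheory.Limits
open SGA3

namespace Groth.Agent.S4107

set_option backward.isDefEq.respectTransparency false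

variable {k : Type u} [Field k]

/-- The affine hull map of an algebraic group is a covering homomorphism. -/
theorem hull_cover (G : Over (Spec (CommRingCat.of k))) [GrpObj G] [LocallyOfFiniteType G.hom] [QuasiCompact G.hom] :
    ∃ _ : GrpObj (AffHull.hull G), IsMonHom (AffHull.toHull G) ∧ Flat (AffHull.toHull G).left ∧
      Surjective (AffHull.toHull G).left ∧ LocallyOfFinitePresentation (AffHull.toHull G).left ∧
      LocallyOfFiniteType (AffHull.hull G).hom ∧ IsIso (AffHull.toHull G).left.appTop := by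
  obtain ⟨h1, h2, h3⟩ := Groth.Agent.S4106.result k G
  haveI : IsSeparated G.hom := GrpField.isSeparated_hom G
  haveI : CompactSpace G.left := QuasiCompact.compactSpace_of_compactSpace G.hom
  haveI : G.left.IsSeparated := ⟨by
    have : IsSeparated (G.hom ≫ terminal.from _) := inferInstance
    rwa [terminal.comp_from] at this⟩
  obtain ⟨hC, hmon⟩ := AffHull.exists_grpObj G
  haveI h3' : LocallyOfFiniteType (AffHull.hull G).hom := h3
  haveI : LocallyOfFiniteType ((AffHull.toHull G).left ≫ (AffHull.hull G).hom) := by rw [Over.w]; infer_instance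
  haveI : LocallyOfFiniteType (AffHull.toHull G).left := locallyOfFiniteType_of_comp _ (AffHull.hull G).hom
  haveI : IsLocallyNoetherian (AffHull.hull G).left := LocallyOfFiniteType.isLocallyNoetherian (AffHull.hull G).hom
  exact ⟨hC, hmon, h2, h1, inferInstance, h3', inferInstance⟩

/-- The kernel of the affine hull map has constant functions only. -/
theorem isIso_appTop_kernel (G : Over (Spec (CommRingCat.of k))) [GrpObj G] [LocallyOfFiniteType G.hom]
    [QuasiCompact G.hom] [GrpObj (AffHull.hull G)] [IsMonHom (AffHull.toHull G)]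
    [Flat (AffHull.toHull G).left] [Surjective (AffHull.toHull G).left]
    [LocallyOfFinitePresentation (AffHull.toHull G).left] [IsIso (AffHull.toHull G).left.appTop]
    {N : Over (Spec (CommRingCat.of k))} [GrpObj N] (i : N ⟶ G) [IsMonHom i] [IsClosedImmersion i.left]
    (hi : AlgGrp.IsKernel i (AffHull.toHull G)) : IsIso N.hom.appTop := by
  let H := AffHull.hull G
  let ρ : G ⟶ H := AffHull.toHull G
  haveI : LocallyOfFiniteType N.hom := by rw [← Over.w i]; infer_instance
  haveI : QuasiCompact N.hom := by rw [← Over.w i]; infer_instance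
  obtain ⟨hCN, hNm, hNf, hNs, hNl, hNlft, hNiso⟩ := hull_cover N
  letI := hCN
  haveI := hNm
  haveI := hNf
  haveI := hNs
  haveI := hNl
  haveI := hNlft
  haveI := hNiso
  let HN := AffHull.hull N
  let hN : N ⟶ HN := AffHull.toHull N
  obtain ⟨N', hN', i', hi'm, hi'c, -, hi'⟩ := AdjRep.exists_kernel hN
  haveI := hi'm
  haveI := hi'c
  haveI : Mono i := Over.mono_of_mono_left i
  haveI : Mono i' := Over.mono_of_mono_left i'
  have hker : ∀ {T : Over (Spec (CommRingCat.of k))} (x : T ⟶ G), x ≫ ρ = 1 → ∃ n, n ≫ i = x := fun x hx =>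
    ⟨hi.lift x (toUnit _) (by rw [hx]; rfl), hi.lift_fst _ _ _⟩
  have hker' : ∀ {T : Over (Spec (CommRingCat.of k))} (x : T ⟶ N), x ≫ hN = 1 → ∃ n, n ≫ i' = x := fun x hx =>
    ⟨hi'.lift x (toUnit _) (by rw [hx]; rfl), hi'.lift_fst _ _ _⟩
  have hiρ : i ≫ ρ = 1 := hi.w.trans rfl
  have hi'N : i' ≫ hN = 1 := hi'.w.trans rfl
  let u : N' ⟶ G := i' ≫ i
  haveI : IsClosedImmersion u.left := by
    show IsClosedImmersion (i'.left ≫ i.left)
    infer_instance
  haveI : LocallyOfFiniteType N'.hom := by rw [← Over.w u]; infer_instance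
  haveI : QuasiCompact N'.hom := by rw [← Over.w u]; infer_instance
  obtain ⟨Q, p, -, hQlft, hps, hpf, hpl, hsq, -⟩ := Groth.Agent.S5351.result k N' G u
  haveI := hps
  haveI := hpf
  haveI := hpl
  have hmul : (u ▷ G) ≫ μ[G] = (fst N' G ≫ u) * snd N' G := by
    rw [Hom.mul_def]
    congr 1
  rw [hmul] at hsq
  have hp1 : ∀ {T : Over (Spec (CommRingCat.of k))} (f : T ⟶ N') (y : T ⟶ G), ((f ≫ u) * y) ≫ p = y ≫ p :=
    fun f y => by
    have e1 : lift f y ≫ ((fst N' G ≫ u) * snd N' G) = (f ≫ u) * y := by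
      rw [MonObj.comp_mul, lift_fst_assoc, lift_snd]
    rw [← e1, Category.assoc, hsq.w, ← Category.assoc, lift_snd]
  have hp2 : ∀ {T : Over (Spec (CommRingCat.of k))} (x y : T ⟶ G), x ≫ p = y ≫ p → ∃ f : T ⟶ N', (f ≫ u) * y = x :=
    fun x y h => by
    obtain ⟨c, hc1, hc2⟩ := hsq.exists_lift x y h
    refine ⟨c ≫ fst N' G, ?_⟩
    rw [MonObj.comp_mul, hc2] at hc1
    rw [Category.assoc]
    exact hc1
  have hN1 : ∀ {T : Over (Spec (CommRingCat.of k))} (n m : T ⟶ N), n ≫ hN = m ≫ hN → ∃ f : T ⟶ N', f ≫ i' * m = n :=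
    fun n m h => by
    obtain ⟨f, hf⟩ := hker' (n * m⁻¹) (by rw [MonObj.mul_comp, GrpObj.inv_comp, h, _root_.mul_inv_cancel])
    exact ⟨f, by rw [hf, _root_.inv_mul_cancel_right]⟩
  obtain ⟨g₀, hg₀⟩ := AVQuot.exists_desc p ρ fun a b h => by
    obtain ⟨f, rfl⟩ := hp2 a b h
    rw [MonObj.mul_comp, Category.assoc, Category.assoc i', hiρ, MonObj.comp_one, MonObj.comp_one, _root_.one_mul]
  let β : N ⊗ G ⟶ HN ⊗ G := hN ⊗ₘ 𝟙 G
  haveI : Flat (𝟙 G : G ⟶ G).left := inferInstanceAs (Flat (𝟙 G.left))
  haveI : Surjective (𝟙 G : G ⟶ G).left := inferInstanceAs (Surjective (𝟙 G.left))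
  haveI : LocallyOfFinitePresentation (𝟙 G : G ⟶ G).left := inferInstanceAs (LocallyOfFinitePresentation (𝟙 G.left))
  obtain ⟨hβf, hβs, hβl⟩ := AVQuot.covering_tensor hN (𝟙 G)
  haveI : Flat β.left := hβf
  haveI : Surjective β.left := hβs
  haveI : LocallyOfFinitePresentation β.left := hβl
  let act : N ⊗ G ⟶ G := (fst N G ≫ i) * snd N G
  obtain ⟨gam, hgam⟩ := AVQuot.exists_desc β (act ≫ p) fun {V} a b h => by
    have h1 : (a ≫ fst N G) ≫ hN = (b ≫ fst N G) ≫ hN := by simpa [β] using h =≫ fst HN G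
    have h2 : a ≫ snd N G = b ≫ snd N G := by simpa [β] using h =≫ snd HN G
    obtain ⟨f, hf⟩ := hN1 _ _ h1
    have key : a ≫ act = (f ≫ u) * (b ≫ act) := by
      rw [MonObj.comp_mul, MonObj.comp_mul, h2, ← Category.assoc a, ← Category.assoc b, ← hf, MonObj.mul_comp,
        Category.assoc f, _root_.mul_assoc]
    rw [← Category.assoc, ← Category.assoc, key]
    exact hp1 f _
  let P := pullback g₀ ρ
  let cmp : HN ⊗ G ⟶ P := pullback.lift gam (snd HN G) (by
    haveI := AVQuot.epi_of_covering β
    rw [← cancel_epi β, ← Category.assoc, hgam, Category.assoc, hg₀, tensorHom_snd_assoc, Category.id_comp,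
      MonObj.mul_comp, Category.assoc, hiρ, MonObj.comp_one, _root_.one_mul])
  let α : N ⊗ G ⟶ P := β ≫ cmp
  have hα1 : α ≫ pullback.fst g₀ ρ = act ≫ p := by rw [Category.assoc, pullback.lift_fst, hgam]
  have hα2 : α ≫ pullback.snd g₀ ρ = snd N G := by
    rw [Category.assoc, pullback.lift_snd, tensorHom_snd, Category.comp_id]
  have hpbα : IsPullback act α p (pullback.fst g₀ ρ) := by
    have hex : ∀ s : PullbackCone p (pullback.fst g₀ ρ), ∃ n : s.pt ⟶ N, n ≫ i = s.fst * (s.snd ≫ pullback.snd g₀ ρ)⁻¹ :=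
      fun s => hker _ (by
        rw [MonObj.mul_comp, GrpObj.inv_comp, Category.assoc, ← pullback.condition, ← Category.assoc, ← s.condition,
          Category.assoc, hg₀, _root_.mul_inv_cancel])
    choose n hn using hex
    refine IsPullback.of_isLimit (PullbackCone.IsLimit.mk hα1.symm (fun s => lift (n s) (s.snd ≫ pullback.snd g₀ ρ))
      (fun s => ?_) (fun s => ?_) fun s m hm1 hm2 => ?_)
    · show lift (n s) _ ≫ act = s.fst
      rw [MonObj.comp_mul, lift_fst_assoc, lift_snd, hn, _root_.inv_mul_cancel_right]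
    · apply pullback.hom_ext
      · rw [Category.assoc, hα1, ← Category.assoc, MonObj.comp_mul, lift_fst_assoc, lift_snd, hn,
          _root_.inv_mul_cancel_right]
        exact s.condition
      · rw [Category.assoc, hα2, lift_snd]
    · have e2 : m ≫ snd N G = s.snd ≫ pullback.snd g₀ ρ := by rw [← hα2, ← Category.assoc, hm2]
      apply CartesianMonoidalCategory.hom_ext
      · rw [lift_fst, ← cancel_mono i, hn, eq_mul_inv_iff_mul_eq, Category.assoc, ← e2, ← MonObj.comp_mul]
        exact hm1
      · rw [lift_snd, e2]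
  have hpbα' := hpbα.map (Over.forget _)
  haveI : Flat α.left := MorphismProperty.of_isPullback (P := @Flat) hpbα' hpf
  haveI : Surjective α.left := MorphismProperty.of_isPullback (P := @Surjective) hpbα' hps
  haveI : LocallyOfFinitePresentation α.left := MorphismProperty.of_isPullback (P := @LocallyOfFinitePresentation) hpbα' hpl
  obtain ⟨δ, hδ⟩ := AVQuot.exists_desc α β fun {V} a b h => by
    have h1 : a ≫ act ≫ p = b ≫ act ≫ p := by rw [← hα1, reassoc_of% h]
    have h2 : a ≫ snd N G = b ≫ snd N G := by rw [← hα2, reassoc_of% h]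
    rw [← Category.assoc, ← Category.assoc] at h1
    obtain ⟨f, hf⟩ := hp2 _ _ h1
    rw [MonObj.comp_mul, MonObj.comp_mul, h2, ← _root_.mul_assoc, mul_left_inj, ← Category.assoc a, ← Category.assoc b,
      show f ≫ u = (f ≫ i') ≫ i from (Category.assoc _ _ _).symm, ← MonObj.mul_comp, cancel_mono] at hf
    apply CartesianMonoidalCategory.hom_ext
    · simp only [β, Category.assoc, tensorHom_fst]
      rw [← Category.assoc a, ← Category.assoc b, ← hf, MonObj.mul_comp, Category.assoc f, hi'N, MonObj.comp_one,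
        _root_.one_mul]
    · simp only [β, Category.assoc, tensorHom_snd, Category.comp_id]
      exact h2
  haveI := AVQuot.epi_of_covering α
  haveI := AVQuot.epi_of_covering β
  haveI : IsIso cmp := ⟨δ, by rw [← cancel_epi β, ← Category.assoc, Category.comp_id]; exact hδ,
    by rw [← cancel_epi α, ← Category.assoc, hδ, Category.comp_id]⟩
  have hsnd : IsAffineHom (pullback.snd g₀ ρ).left := by
    have e : pullback.snd g₀ ρ = inv cmp ≫ snd HN G := by rw [IsIso.eq_inv_comp, pullback.lift_snd]
    rw [e, Over.comp_left]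
    haveI : IsIso (inv cmp).left := inferInstanceAs (IsIso ((Over.forget _).map (inv cmp)))
    haveI : IsAffineHom HN.hom := isAffineHom_of_isAffine _
    haveI : IsAffineHom (snd HN G).left := by
      change IsAffineHom (Limits.pullback.snd HN.hom G.hom)
      exact MorphismProperty.pullback_snd (P := @IsAffineHom) _ _ ‹_›
    exact (MorphismProperty.cancel_left_of_respectsIso (@IsAffineHom : MorphismProperty Scheme.{u}) _ _).2 ‹_›
  haveI : IsAffineHom g₀.left := MorphismProperty.of_isPullback_of_descendsAlong (P := @IsAffineHom)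
    (Q := @Surjective ⊓ @Flat ⊓ @LocallyOfFinitePresentation)
    ((IsPullback.of_hasPullback g₀ ρ).map (Over.forget _)).flip ⟨⟨‹_›, ‹_›⟩, ‹_›⟩ hsnd
  haveI : IsAffine Q.left := isAffine_of_isAffineHom g₀.left
  obtain ⟨g₁, hg₁⟩ := AffHull.exists_factor ρ p
  obtain ⟨f, hf⟩ := hp2 i (1 : N ⟶ G) (by
    have e : (1 : N ⟶ G) ≫ ρ = 1 := MonObj.one_comp ρ
    rw [← hg₁, ← Category.assoc, hiρ, ← Category.assoc (1 : N ⟶ G), e])
  rw [_root_.mul_one, ← Category.assoc] at hf
  have hf' : f ≫ i' = 𝟙 N := by rw [← cancel_mono i, hf, Category.id_comp]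
  have hN0 : hN = 1 := by
    rw [← Category.id_comp hN, ← hf', Category.assoc, hi'N, MonObj.comp_one]
  haveI := AVQuot.epi_of_covering hN
  haveI : IsIso (toUnit HN) := ⟨η[HN], by
    rw [← cancel_epi hN, Category.comp_id, comp_toUnit_assoc, hN0, Hom.one_def], toUnit_unique _ _⟩
  haveI : IsIso HN.hom := inferInstanceAs (IsIso ((Over.forget _).map (toUnit HN)))
  have e : N.hom.appTop = HN.hom.appTop ≫ hN.left.appTop := by rw [← Scheme.Hom.comp_appTop, Over.w]
  rw [e]
  infer_instance


/-- Let G be an algebraic group over a field k, ρ : G → Spec O(G) the canonical morphism and N = Ker ρ,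
the fibre of ρ over the image of the unit section. Then O(N) = k (the structure morphism N → Spec k
induces an isomorphism on global sections), and N is smooth over k and connected. (The source adds
that N is commutative and characteristic in G.) -/
theorem result (k : Type u) [Field k] (G : Over (Spec (CommRingCat.of k))) [GrpObj G]
    [LocallyOfFiniteType G.hom] [QuasiCompact G.hom] :
    IsIso (pullback.snd G.left.toSpecΓ (η[G].left ≫ G.left.toSpecΓ) ≫ (𝟙_ (Over (Spec (CommRingCat.of k)))).hom).appTop ∧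
    Smooth (pullback.snd G.left.toSpecΓ (η[G].left ≫ G.left.toSpecΓ) ≫ (𝟙_ (Over (Spec (CommRingCat.of k)))).hom) ∧
    ConnectedSpace ↥(pullback G.left.toSpecΓ (η[G].left ≫ G.left.toSpecΓ)) := by
  obtain ⟨hC, hm, hf, hs, hl, hlft, hiso⟩ := hull_cover G
  letI := hC
  haveI := hm
  haveI := hf
  haveI := hs
  haveI := hl
  haveI := hlft
  haveI := hiso
  obtain ⟨N, hN, i, him, hic, -, hi⟩ := AdjRep.exists_kernel (AffHull.toHull G)
  haveI := him
  haveI := hic
  haveI : IsIso N.hom.appTop := isIso_appTop_kernel G i hi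
  haveI : LocallyOfFiniteType N.hom := by rw [← Over.w i]; infer_instance
  haveI : QuasiCompact N.hom := by rw [← Over.w i]; infer_instance
  have hpb : IsPullback i.left (toUnit N).left G.left.toSpecΓ (η[G].left ≫ G.left.toSpecΓ) := by
    have h := hi.map (Over.forget _)
    rw [show η[AffHull.hull G] = η[G] ≫ AffHull.toHull G from (IsMonHom.one_hom (AffHull.toHull G)).symm] at h
    exact h
  have hO : Function.Bijective ((Scheme.ΓSpecIso (CommRingCat.of k)).inv ≫ N.hom.appTop).hom :=
    (ConcreteCategory.isIso_iff_bijective ((Scheme.ΓSpecIso (CommRingCat.of k)).inv ≫ N.hom.appTop)).1 inferInstance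
  have e : pullback.snd G.left.toSpecΓ (η[G].left ≫ G.left.toSpecΓ) ≫ (𝟙_ (Over (Spec (CommRingCat.of k)))).hom =
      hpb.isoPullback.inv ≫ N.hom := by
    rw [← Over.w (toUnit N), ← Category.assoc, hpb.isoPullback_inv_snd]
  haveI := Groth.Agent.S3026.result k N hO
  haveI := (Groth.Agent.S3293.result k N hO).1
  refine ⟨?_, ?_, hpb.isoPullback.hom.homeomorph.connectedSpace_iff.mp inferInstance⟩
  · rw [e, Scheme.Hom.comp_appTop]
    infer_instance
  · rw [e]
    infer_instance

end Groth.Agent.S4107
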