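import Groth.Statements.S8406
import Groth.Agent.Chev.NonAffTori
import Groth.Agent.S3901
-- import your own Groth.Agent.* helpers here

set_option autoImplicit false
set_option backward.isDefEq.respectTransparency false
universe u
open CategoryTheory MonoidalCategory CartesianMonoidalCategory MonObj GrpObj AlgebraicGeometry
open SGA3x

open Groth.Agent.Chev Groth.Agent.Chev.Borel

namespace Groth.Agent.S8406

/-- Let G be a smooth connected algebraic group (not necessarily affine) over an algebraically closed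
field k. Then any two maximal tori of G are conjugate by an element of G(k). -/
theorem result (k : Type u) [Field k] [IsAlgClosed k]
    (G : Over (Spec (CommRingCat.of k))) [GrpObj G] [Smooth G.hom] [QuasiCompact G.hom] [ConnectedSpace ↥G.left]
    (T₁ T₂ : Over (Spec (CommRingCat.of k))) [GrpObj T₁] [GrpObj T₂] (i₁ : T₁ ⟶ G) (i₂ : T₂ ⟶ G)
    (h₁ : Red.IsMaximalTorus i₁) (h₂ : Red.IsMaximalTorus i₂) :
    ∃ g : 𝟙_ (Over (Spec (CommRingCat.of k))) ⟶ G, SGA3x.ConjBy i₁ i₂ g := by
  obtain ⟨L, D, Q, hL, hD, hQ, l, d, q, R⟩ := exists_affReduction G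
  obtain ⟨t₁, ht₁, hm₁⟩ := exists_factor_maxTorus R i₁ (isMaxTorus_of_isMaximalTorus i₁ h₁)
  obtain ⟨t₂, ht₂, hm₂⟩ := exists_factor_maxTorus R i₂ (isMaxTorus_of_isMaximalTorus i₂ h₂)
  haveI := R.l_affine; haveI := R.l_smooth; haveI := R.l_connected; haveI := R.l_hom
  obtain ⟨g, f, hf⟩ := Groth.Agent.S3901.result k L T₁ T₂ t₁ t₂ hm₁ hm₂
  refine ⟨g ≫ l, f, ?_⟩
  show AGF.conjBy (g ≫ l) i₁ = f.hom ≫ i₂
  rw [← ht₂, ← Category.assoc, hf, conjBy_comp, ht₁]

end Groth.Agent.S8406
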