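import Groth.Statements.S3006
import Groth.Agent.SubLocus.TorusCentralizer
-- import your own Groth.Agent.* helpers here

set_option autoImplicit false
universe u
open CategoryTheory MonoidalCategory CartesianMonoidalCategory MonObj GrpObj AlgebraicGeometry
open Red

namespace Groth.Agent.S3006

/-- Let S be a scheme, G an S-group scheme smooth and of finite presentation over S, and q : Q → G a
closed subgroup scheme which is a torus. Then the centralizer and the normalizer of Q in G exist as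
closed subgroup schemes of G (characterized on points as in `Red.IsCentralizerOf` /
`Red.IsNormalizerOf`) and are smooth over S. -/
theorem result (S : Scheme.{u}) (G Q : Over S) [GrpObj G] [GrpObj Q] [Smooth G.hom] [LocallyOfFinitePresentation G.hom] [QuasiCompact G.hom] [QuasiSeparated G.hom] (q : Q ⟶ G) [IsMonHom q] (hq : IsClosedImmersion q.left) (hQ : Red.IsTorus Q) : (∃ (Z : Over S) (_ : GrpObj Z) (z : Z ⟶ G), Red.IsCentralizerOf q z ∧ IsClosedImmersion z.left ∧ Smooth Z.hom) ∧ ∃ (N : Over S) (_ : GrpObj N) (n : N ⟶ G), Red.IsNormalizerOf q n ∧ IsClosedImmersion n.left ∧ Smooth N.hom := by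
  haveI := hq
  obtain ⟨⟨Z, z, hz, hzs, hZ⟩, N, n, hn, hns, hN⟩ :=
    Groth.Agent.SubLocus.exists_centralizer_normalizer_multType G Q q (Groth.Agent.MTBridge.isMultTypeFT_of_isTorus Q hQ)
  have : Mono z := Over.mono_of_mono_left z
  have : Mono n := Over.mono_of_mono_left n
  refine ⟨?_, ?_⟩
  · obtain ⟨hg, hm⟩ := Groth.Agent.MTBridge.exists_grpObj_of_div z ((hZ _ _).2 fun X' x h => by
      rw [show x ≫ η[G] = (1 : X' ⟶ G) by rw [Hom.one_def, toUnit_unique (toUnit X') x]]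
      simp) (fun T k₁ k₂ => (hZ _ _).2 fun X' x h => by
      have e₁ : Commute (x ≫ k₁ ≫ z) (h ≫ q) := (hZ _ _).1 ⟨k₁, rfl⟩ X' x h
      have e₂ : Commute (x ≫ k₂ ≫ z) (h ≫ q) := (hZ _ _).1 ⟨k₂, rfl⟩ X' x h
      simp only [MonObj.comp_mul, GrpObj.comp_inv]
      exact e₁.inv_left.mul_left e₂)
    exact ⟨Z, hg, z, ⟨hm, inferInstance, hZ⟩, hz, hzs⟩
  · obtain ⟨hg, hm⟩ := Groth.Agent.MTBridge.exists_grpObj_of_div n ((hN _ _).2 fun X' x a => by
      rw [show x ≫ η[G] = (1 : X' ⟶ G) by rw [Hom.one_def, toUnit_unique (toUnit X') x]]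
      exact ⟨⟨a, by simp⟩, ⟨a, by simp⟩⟩) (fun T k₁ k₂ => (hN _ _).2 fun X' x a => by
      have p₁ := (hN _ _).1 ⟨k₁, rfl⟩ X' x
      have p₂ := (hN _ _).1 ⟨k₂, rfl⟩ X' x
      simp only [MonObj.comp_mul, GrpObj.comp_inv, _root_.mul_inv_rev, _root_.inv_inv]
      constructor
      · obtain ⟨a', ha'⟩ := (p₂ a).1
        obtain ⟨a'', ha''⟩ := (p₁ a').2
        exact ⟨a'', by rw [← ha'', ← ha']; simp only [_root_.mul_assoc]⟩
      · obtain ⟨a', ha'⟩ := (p₁ a).1
        obtain ⟨a'', ha''⟩ := (p₂ a').2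
        exact ⟨a'', by rw [← ha'', ← ha']; simp only [_root_.mul_assoc]⟩)
    exact ⟨N, hg, n, ⟨hm, inferInstance, hN⟩, hn, hns⟩

end Groth.Agent.S3006
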