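import Groth.Statements.S8407
import Groth.Agent.Chev.NonAffTori
import Groth.Agent.S3006
import Groth.Agent.S3036
-- import your own Groth.Agent.* helpers here

set_option autoImplicit false
set_option backward.isDefEq.respectTransparency false
universe u
open CategoryTheory MonoidalCategory CartesianMonoidalCategory MonObj GrpObj AlgebraicGeometry
open SGA3x

open Groth.Agent.Chev Groth.Agent.Chev.Borel

namespace Groth.Agent.S8407

/-- Let G be a smooth connected algebraic group (not necessarily affine) over an algebraically closed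
field k, T a torus in G and C its centralizer. Then C is smooth and connected. -/
theorem result (k : Type u) [Field k] [IsAlgClosed k]
    (G : Over (Spec (CommRingCat.of k))) [GrpObj G] [Smooth G.hom] [QuasiCompact G.hom] [ConnectedSpace ↥G.left]
    (T : Over (Spec (CommRingCat.of k))) [GrpObj T] (j : T ⟶ G) [IsMonHom j] [Mono j] (hT : Red.IsTorus T)
    (C : Over (Spec (CommRingCat.of k))) [GrpObj C] (c : C ⟶ G) (hC : Red.IsCentralizerOf j c) :
    Smooth C.hom ∧ ConnectedSpace ↥C.left := by
  obtain ⟨L, D, Q, hL, hD, hQ, l, d, q, R⟩ := exists_affReduction G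
  haveI := R.l_affine; haveI := R.l_smooth; haveI := R.l_closed
  obtain ⟨t, ht, htm, htmono⟩ := exists_factor_torus R j hT
  haveI := htm; haveI := htmono
  haveI := isAffine_of_isTorus hT
  haveI := locallyOfFiniteType_of_isTorus hT
  haveI : IsClosedImmersion t.left := Groth.Agent.S3036.result k T L t
  haveI : IsClosedImmersion j.left := by rw [← ht]; exact inferInstanceAs (IsClosedImmersion (t.left ≫ l.left))
  haveI : IsSeparated G.hom := Groth.Agent.GrpField.isSeparated_hom G
  obtain ⟨⟨C', hC'g, c', hc', -, hC's⟩, -⟩ := Groth.Agent.S3006.result _ G T j inferInstance hT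
  obtain ⟨hcm, hcmono, hcu⟩ := id hC
  obtain ⟨hcm', hcmono', hcu'⟩ := hc'
  haveI := hcm; haveI := hcmono; haveI := hcmono'
  obtain ⟨u, hu⟩ := (hcu' C c).2 ((hcu C c).1 ⟨𝟙 C, Category.id_comp c⟩)
  obtain ⟨v, hv⟩ := (hcu C' c').2 ((hcu' C' c').1 ⟨𝟙 C', Category.id_comp c'⟩)
  haveI : IsIso u := ⟨v, (cancel_mono c).1 (by rw [Category.assoc, hv, hu, Category.id_comp]),
    (cancel_mono c').1 (by rw [Category.assoc, hu, hv, Category.id_comp])⟩
  haveI : IsIso u.left := inferInstanceAs (IsIso ((Over.forget _).map u))
  haveI : Smooth C.hom := by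
    rw [← Over.w u]
    haveI := hC's
    infer_instance
  exact ⟨inferInstance, connectedSpace_centralizer R j hT c hC⟩

end Groth.Agent.S8407
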