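import Groth.Statements.S3003
import Groth.Agent.RedCartan.EtaleTorus
import Groth.Agent.MTImage.CartanField
-- import your own Groth.Agent.* helpers here

set_option autoImplicit false
universe u
open CategoryTheory CategoryTheory.Limits MonoidalCategory CartesianMonoidalCategory MonObj GrpObj AlgebraicGeometry
open Red

set_option backward.isDefEq.respectTransparency false

namespace Groth.Agent.S3003
open Groth.Agent Groth.Agent.MTBridge Groth.Agent.MTImage Groth.Agent.Chev

/-- Let S be a scheme, G an S-group scheme which is smooth and affine over S with connected fibres, and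
s₀ ∈ S such that every maximal torus of the geometric fibre G_{s̄₀} is its own centralizer (every
point of G_{s̄₀} commuting with all points of the torus lies in it). Then there exist an étale
morphism v : Spec B → S whose image contains s₀ and a maximal torus of the base change of G to Spec
B which is split. -/
theorem result (S : Scheme.{u}) (G : Over S) [GrpObj G] [IsAffineHom G.hom] [Smooth G.hom] (hconn : ∀ s : S, _root_.IsConnected (G.hom.base ⁻¹' {s})) (s₀ : S) (hc : ∀ (T : Over (Spec (CommRingCat.of (AlgebraicClosure (S.residueField s₀))))) [GrpObj T] (i : T ⟶ Red.geomFibre s₀ G), Red.IsMaximalTorus i → ∀ (X : Over _) (g : X ⟶ Red.geomFibre s₀ G), (∀ (X' : Over _) (x : X' ⟶ X) (t : X' ⟶ T), (x ≫ g) * (t ≫ i) = (t ≫ i) * (x ≫ g)) → ∃ t : X ⟶ T, g = t ≫ i) : ∃ (B : Type u) (_ : CommRing B) (v : Spec (CommRingCat.of B) ⟶ S), Etale v ∧ s₀ ∈ Set.range v.base ∧ ∃ (T : Over (Spec (CommRingCat.of B))) (_ : GrpObj T) (i : T ⟶ Red.bc v G), Red.IsMaximalTorus i ∧ ∃ r : ℕ, Red.IsSplitTorusWith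 (Fin r → ℤ) T := by
  haveI : Smooth (Red.geomFibre s₀ G).hom := inferInstanceAs (Smooth (pullback.snd _ _))
  haveI : QuasiCompact (Red.geomFibre s₀ G).hom := inferInstanceAs (QuasiCompact (pullback.snd _ _))
  haveI : ConnectedSpace ↥(Red.geomFibre s₀ G).left := TorusLift.connectedSpace_bc_geom hconn (Red.geomPt s₀)
  obtain ⟨T₀, _, i₀, hi₀⟩ := MTImage.exists_maxTorus_general (Red.geomFibre s₀ G)
  haveI := hi₀.1; haveI := hi₀.2.1
  have hC : Red.IsCentralizerOf i₀ i₀ := ⟨hi₀.1, hi₀.2.1, fun X g => ⟨fun ⟨z, hz⟩ X' x h => by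
    rw [← hz, ← Category.assoc, ← MonObj.mul_comp, ← MonObj.mul_comp,
      comm_points_scheme T₀ (locally_of_isMultTypeFT' T₀ (isMultTypeFT_of_isTorus T₀ hi₀.2.2.1))], fun hg => by
    obtain ⟨t, ht⟩ := hc T₀ i₀ hi₀ X g hg
    exact ⟨t, ht.symm⟩⟩⟩
  obtain ⟨U, hsU, hU⟩ := MTImage.exists_nhd_rank (Red.geomPt s₀) i₀ hi₀.2.2.1 i₀ hC
  rw [MTImage.geomPt_closedPoint] at hsU
  have hrk : ∀ t : S, t ∈ U → SGA3x.HasRedRank G t (topologicalKrullDim ↥T₀.left) := fun t ht => by
    obtain ⟨T', _, i', C', _, c', hi', hc', h1, h2⟩ := hU _ (Red.geomPt t) (by rw [MTImage.geomPt_closedPoint]; exact ht)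
    refine ⟨T', inferInstance, i', hi', le_antisymm ?_ h1⟩
    obtain ⟨hcm, hcmono, T'', _, i'', hi'', hC'⟩ := hc'
    haveI := hi''.1; haveI := hi''.2.1; haveI := hcm; haveI := hcmono
    haveI : Smooth (Red.geomFibre t G).hom := inferInstanceAs (Smooth (pullback.snd _ _))
    haveI : QuasiCompact (Red.geomFibre t G).hom := inferInstanceAs (QuasiCompact (pullback.snd _ _))
    haveI : IsAffineHom (Red.geomFibre t G).hom := inferInstanceAs (IsAffineHom (pullback.snd G.hom (Red.geomPt t)))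
    obtain ⟨k, hk⟩ := MTCentre.exists_to_centralizer i'' hi''.2.2.1 c' hC'
    haveI : IsClosedImmersion i''.left := MTBridge.isClosedImmersion_of_mono
      (MTBridge.locally_of_isMultTypeFT' T'' (MTBridge.isMultTypeFT_of_isTorus T'' hi''.2.2.1)) inferInstance i''
    have hind : Topology.IsInducing (c'.left ∘ k.left) := by
      have := i''.left.isClosedEmbedding.isInducing
      rw [← hk] at this
      exact this
    have h3 : topologicalKrullDim ↥T''.left ≤ topologicalKrullDim ↥C'.left :=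
      (Topology.IsInducing.of_comp k.left.continuous c'.left.continuous hind).topologicalKrullDim_le
    rw [TorusLift.dim_maxTori_eq i' hi' i'' hi'']
    exact h3.trans h2
  obtain ⟨S', e, r, j, he, ⟨w, hw⟩, hj⟩ := TorusLift.exists_etale_maxTorus_at s₀ U hsU _ hrk
  obtain ⟨_, ⟨W, hW', rfl⟩, hwW, -⟩ := S'.isBasis_affineOpens.exists_subset_of_mem_open (Set.mem_univ w) isOpen_univ
  have hW : IsAffineOpen W := hW'
  obtain ⟨b, hb⟩ : w ∈ Set.range hW.fromSpec.base := by rw [hW.range_fromSpec]; exact hwW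
  haveI := he; haveI := hj.1; haveI := hj.2.1
  refine ⟨Γ(S', W), inferInstance, hW.fromSpec ≫ e, inferInstance, ⟨b, ?_⟩,
    Red.bc hW.fromSpec (Red.DS S' (Fin r → ℤ)), inferInstance,
    (Over.pullback hW.fromSpec).map j ≫ (MTBridge.bcComp e hW.fromSpec G).inv.hom.hom, ?_, r,
    ⟨MTBridge.bcDS _ _⟩⟩
  · exact (congrArg e.base hb).trans hw
  · let eG : Red.bc hW.fromSpec (Red.bc e G) ≅ Red.bc (hW.fromSpec ≫ e) G := ((Grp.forget _).mapIso (MTBridge.bcComp e hW.fromSpec G)).symm
    haveI : IsMonHom eG.hom := (MTBridge.bcComp e hW.fromSpec G).inv.hom.isMonHom_hom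
    haveI : Smooth (Red.bc e G).hom := inferInstanceAs (Smooth (pullback.snd G.hom e))
    haveI : QuasiCompact (Red.bc e G).hom := inferInstanceAs (QuasiCompact (pullback.snd G.hom e))
    haveI : IsMonHom (Iso.refl (Red.bc hW.fromSpec (Red.DS S' (Fin r → ℤ)))).hom := inferInstanceAs (IsMonHom (𝟙 _))
    exact MTImage.isMaximalTorus_iso (Iso.refl _) eG _ _ (by rw [Iso.refl_hom, Category.id_comp]; rfl)
      (Chev.Borel.isTorus_bc_scheme _ _ hj.2.2.1) (Chev.MaxTorusBC.isMaximalTorus_bc j hj hW.fromSpec)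

end Groth.Agent.S3003
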