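import Groth.Statements.S3002
import Groth.Agent.RedOpen.Near
-- import your own Groth.Agent.* helpers here

set_option autoImplicit false
universe u
open CategoryTheory CategoryTheory.Limits MonoidalCategory CartesianMonoidalCategory MonObj GrpObj AlgebraicGeometry
open Red

set_option backward.isDefEq.respectTransparency false

namespace Groth.Agent.S3002
open Groth.Agent

/-- The reductivity assertion of (i) and the split maximal torus of (ii): Let S be a scheme, G an
S-group scheme which is affine, of finite presentation and flat over S (the source assumes flatness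
only at the unit section over s₀), with connected fibres, and let s₀ ∈ S be a point whose geometric
fibre G_{s̄₀} is reductive. Then there are an affine open neighbourhood u : Spec A → S of s₀ over
which G is reductive, and an étale surjective morphism v : Spec B → Spec A such that the base change
of G to Spec B has a maximal torus which is split (isomorphic to D(ℤ^r) for some r). (The source
also gives constancy of the reductive and semisimple ranks over U and finiteness of the Weyl group
over S'.) -/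
theorem result (S : Scheme.{u}) (G : Over S) [GrpObj G] [IsAffineHom G.hom] [LocallyOfFinitePresentation G.hom] [Flat G.hom] (hconn : ∀ s : S, _root_.IsConnected (G.hom.base ⁻¹' {s})) (s₀ : S) (h₀ : Red.IsReductiveOver (AlgebraicClosure (S.residueField s₀)) (Red.geomFibre s₀ G)) : ∃ (A : Type u) (_ : CommRing A) (u : Spec (CommRingCat.of A) ⟶ S), IsOpenImmersion u ∧ s₀ ∈ Set.range u.base ∧ Red.IsReductive (Red.bc u G) ∧ ∃ (B : Type u) (_ : CommRing B) (v : Spec (CommRingCat.of B) ⟶ Spec (CommRingCat.of A)), Etale v ∧ Surjective v ∧ ∃ (T : Over (Spec (CommRingCat.of B))) (_ : GrpObj T) (i : T ⟶ Red.bc (v ≫ u) G), Red.IsMaximalTorus i ∧ ∃ r : ℕ, Red.IsSplitTorusWith (Fin r → ℤ) T := by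
  obtain ⟨V, hV, v₀, hv₀, hsm, haff, W, hWo, hv₀W, hred⟩ := RedOpen.exists_reductive_chart G hconn s₀ h₀
  haveI := hsm; haveI := haff
  let GV := Red.bc hV.fromSpec G
  have hconnV : ∀ a, _root_.IsConnected (GV.hom.base ⁻¹' {a}) := MTImage.isConnected_fibre_bc G hconn hV.fromSpec
  obtain ⟨B, _, v, hv, hv₀r, T, _, i, hi, r, ⟨eT⟩⟩ := S3003.result (Spec Γ(S, V)) GV hconnV v₀
    (fun T _ i hi X g hg => by
      obtain ⟨t, ht⟩ := ((RedCartan.isCentralizerOf_self_algClosed (hred v₀ hv₀W) i
        (Chev.Borel.isMaxTorus_of_isMaximalTorus i hi)).2.2 X g).2 hg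
      exact ⟨t, ht.symm⟩)
  haveI := hv; haveI := hi.1; haveI := hi.2.1
  have hopen : IsOpen (W ∩ Set.range v) := hWo.inter v.isOpenMap.isOpen_range
  obtain ⟨_, ⟨f, rfl⟩, hf₀, hfW⟩ :=
    PrimeSpectrum.isTopologicalBasis_basic_opens.exists_subset_of_mem_open (show v₀ ∈ W ∩ Set.range v from ⟨hv₀W, hv₀r⟩) hopen
  let A' := Localization.Away f
  let j : Spec (CommRingCat.of A') ⟶ Spec Γ(S, V) := Spec.map (CommRingCat.ofHom (algebraMap Γ(S, V) A'))
  have hjr : Set.range j = (PrimeSpectrum.basicOpen f : Set (PrimeSpectrum Γ(S, V))) :=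
    PrimeSpectrum.localization_away_comap_range A' f
  haveI : IsOpenImmersion j := IsOpenImmersion.of_isLocalization f
  refine ⟨A', inferInstance, j ≫ hV.fromSpec, inferInstance, ?_, ?_, ?_⟩
  · obtain ⟨a, ha⟩ := hjr.ge hf₀
    exact ⟨a, (congrArg hV.fromSpec ha).trans hv₀⟩
  · let GA := Red.bc (j ≫ hV.fromSpec) G
    haveI : Smooth GA.hom := by
      show Smooth (pullback.snd G.hom (j ≫ hV.fromSpec))
      haveI : Smooth (pullback.snd G.hom hV.fromSpec) := hsm
      exact RedOpen.smooth_snd_comp _ _ _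
    haveI : IsAffineHom GA.hom := inferInstanceAs (IsAffineHom (pullback.snd G.hom _))
    refine ⟨inferInstance, inferInstance, fun a => ?_⟩
    haveI : IsAffineHom (Red.geomFibre a GA).hom := inferInstanceAs (IsAffineHom (pullback.snd GA.hom _))
    refine ⟨isAffine_of_isAffineHom (Red.geomFibre a GA).hom, inferInstanceAs (Smooth (pullback.snd GA.hom _)),
      TorusLift.connectedSpace_bc_geom (MTImage.isConnected_fibre_bc G hconn (j ≫ hV.fromSpec)) _, ?_⟩
    refine (RedOpen.noUni_iso_iff (MTBridge.bcMapIso (Red.geomPt a) (MTBridge.bcComp hV.fromSpec j G) ≪≫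
      (MTBridge.bcComp j (Red.geomPt a) GV).symm)).2 ?_
    refine (RedOpen.noUni_bc_iff GV (Red.geomPt (j a)) (Red.geomPt a ≫ j) ?_).1
      (hred (j a) (hfW (hjr.le ⟨a, rfl⟩)).1).2.2.2
    rw [MTImage.geomPt_closedPoint, Scheme.Hom.comp_apply, MTImage.geomPt_closedPoint]
  · let φ := (Spec.preimage v).hom
    let B' := Localization.Away (φ f)
    let w : Spec (CommRingCat.of B') ⟶ Spec (CommRingCat.of B) := Spec.map (CommRingCat.ofHom (algebraMap B B'))
    haveI : IsOpenImmersion w := IsOpenImmersion.of_isLocalization (φ f)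
    let v' : Spec (CommRingCat.of B') ⟶ Spec (CommRingCat.of A') :=
      Spec.map (CommRingCat.ofHom (IsLocalization.Away.map A' B' φ f))
    have hvv : v' ≫ j = w ≫ v := by
      rw [← Spec.map_preimage v, ← Spec.map_comp, ← Spec.map_comp]
      congr 1
      ext x
      simp [IsLocalization.Away.map, A', B', φ]
    haveI : Etale (v' ≫ j) := hvv ▸ inferInstanceAs (Etale (w ≫ v))
    haveI : Etale v' := Etale.of_comp v' j
    refine ⟨B', inferInstance, v', inferInstance, ⟨fun a => ?_⟩, ?_⟩
    · obtain ⟨q, hq⟩ := (hfW (hjr.le ⟨a, rfl⟩)).2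
      have hqf : q ∈ Set.range w := by
        rw [show Set.range w = (PrimeSpectrum.basicOpen (φ f) : Set (PrimeSpectrum B)) from
          PrimeSpectrum.localization_away_comap_range B' (φ f)]
        have h1 : v q ∈ (PrimeSpectrum.basicOpen f : Set (PrimeSpectrum Γ(S, V))) := hq ▸ hjr.le ⟨a, rfl⟩
        rw [← Spec.map_preimage v] at h1
        exact h1
      obtain ⟨b, hb⟩ := hqf
      refine ⟨b, j.isOpenEmbedding.injective ?_⟩
      rw [← Scheme.Hom.comp_apply, hvv, Scheme.Hom.comp_apply, hb, hq]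
    · let u := j ≫ hV.fromSpec
      have huw : (w ≫ v) ≫ hV.fromSpec = v' ≫ u := by rw [← hvv, Category.assoc]
      let εG : Grp.mk (Red.bc w (Red.bc v GV)) ≅ Grp.mk (Red.bc (v' ≫ u) G) :=
        (MTBridge.bcComp v w GV).symm ≪≫ (MTBridge.bcComp hV.fromSpec (w ≫ v) G).symm ≪≫ MTBridge.bcCongr huw G
      let eG : Red.bc w (Red.bc v GV) ≅ Red.bc (v' ≫ u) G := (Grp.forget _).mapIso εG
      haveI : IsMonHom eG.hom := εG.hom.hom.isMonHom_hom
      haveI : Smooth (Red.bc v GV).hom := inferInstanceAs (Smooth (pullback.snd GV.hom v))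
      haveI : QuasiCompact (Red.bc v GV).hom := inferInstanceAs (QuasiCompact (pullback.snd GV.hom v))
      haveI : IsMonHom (Iso.refl (Red.bc w T)).hom := inferInstanceAs (IsMonHom (𝟙 _))
      exact ⟨Red.bc w T, inferInstance, (Over.pullback w).map i ≫ eG.hom,
        MTImage.isMaximalTorus_iso (Iso.refl _) eG _ _ (by rw [Iso.refl_hom, Category.id_comp])
          (Chev.Borel.isTorus_bc_scheme _ _ hi.2.2.1) (Chev.MaxTorusBC.isMaximalTorus_bc i hi w),
        r, ⟨(Over.pullback w).mapGrp.mapIso eT ≪≫ MTBridge.bcDS w _⟩⟩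

end Groth.Agent.S3002
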