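import Groth.Statements.S7623
import Mathlib
import Groth.Agent.GeomProp.SmoothRegular
import Groth.Agent.HopfSmDim.Local
import Groth.Agent.FSField.Basic
import Groth.Agent.CartierEq.Basic
import Groth.Agent.GLinFree.Dim
import Groth.Agent.DimFormula.Field
-- import your own Groth.Agent.* helpers here

set_option autoImplicit false
universe u
open CategoryTheory CategoryTheory.Limits AlgebraicGeometry
open Variety

namespace Groth.Agent.S7623

open TensorProduct IsLocalRing
open Groth.Agent

/-- If the residue field is formally smooth, then `m/m² → κ ⊗ Ω` is injective. -/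
lemma finrank_cotangentSpace_le {k P : Type u} [Field k] [CommRing P] [IsLocalRing P] [Algebra k P]
    [Algebra.FormallySmooth k (ResidueField P)] [Module.Free P (Ω[P⁄k])] [Module.Finite P (Ω[P⁄k])] :
    Module.finrank (ResidueField P) (CotangentSpace P) ≤ Module.finrank P (Ω[P⁄k]) := by
  let f : maximalIdeal P →ₗ[P] ResidueField P ⊗[P] Ω[P⁄k] :=
    { toFun := fun x => 1 ⊗ₜ KaehlerDifferential.D k P x
      map_add' := fun x y => by simp [tmul_add]
      map_smul' := fun p x => by
        show (1 : ResidueField P) ⊗ₜ[P] KaehlerDifferential.D k P (p * x.1) = p • _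
        rw [Derivation.leibniz, tmul_add]
        have h0 : (1 : ResidueField P) ⊗ₜ[P] ((x : P) • KaehlerDifferential.D k P p) = 0 := by
          rw [← smul_tmul, Algebra.smul_def, mul_one, ResidueField.algebraMap_eq,
            (residue_eq_zero_iff _).2 x.2, zero_tmul]
        rw [h0, add_zero, tmul_smul] }
  have hf : ∀ x y : maximalIdeal P, f (x * y) = 0 := fun x y => by
    show (1 : ResidueField P) ⊗ₜ[P] KaehlerDifferential.D k P ((x : P) * y) = 0
    rw [Groth.Agent.CotT.one_tmul_zero_iff residue_surjective, ResidueField.algebraMap_eq, ker_residue]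
    exact Groth.Agent.CotT.D_mem_of_sq (by rw [pow_two]; exact Ideal.mul_mem_mul x.2 y.2)
  let g := LinearMap.extendScalarsOfSurjective (S := ResidueField P)
    (show Function.Surjective (algebraMap P (ResidueField P)) from residue_surjective)
    (Ideal.Cotangent.lift f hf : CotangentSpace P →ₗ[P] _)
  have hinj : Function.Injective g := by
    rw [injective_iff_map_eq_zero]
    intro z hz
    obtain ⟨x, rfl⟩ := Ideal.toCotangent_surjective _ z
    have hz' : f x = 0 := by rw [← Ideal.Cotangent.lift_toCotangent f hf x]; exact hz
    have hs : Function.Surjective (algebraMap P (ResidueField P)) := residue_surjective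
    let φ := IsScalarTower.toAlgHom k P (ResidueField P)
    have hnil : IsNilpotent (RingHom.ker φ.kerSquareLift.toRingHom) :=
      ⟨2, (AlgHom.ker_kerSquareLift φ).symm ▸ Ideal.cotangentIdeal_square _⟩
    have hsl : Function.Surjective φ.kerSquareLift := fun y => by
      obtain ⟨p, hp⟩ := hs y
      exact ⟨Ideal.Quotient.mk _ p, hp⟩
    obtain ⟨l, hl⟩ := (retractionKerCotangentToTensorEquivSection (R := k) hs).symm
      ⟨Algebra.FormallySmooth.liftOfSurjective (AlgHom.id k (ResidueField P)) φ.kerSquareLift hsl hnil,
        Algebra.FormallySmooth.comp_liftOfSurjective _ _ hsl hnil⟩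
    have hk : RingHom.ker (algebraMap P (ResidueField P)) = maximalIdeal P := by
      rw [ResidueField.algebraMap_eq, ker_residue]
    have hxk : (x : P) ∈ RingHom.ker (algebraMap P (ResidueField P)) := hk.symm ▸ x.2
    have h0 := LinearMap.congr_fun hl (Ideal.toCotangent _ ⟨x, hxk⟩)
    rw [LinearMap.comp_apply, KaehlerDifferential.kerCotangentToTensor_toCotangent] at h0
    have h1 : Ideal.toCotangent _ ⟨(x : P), hxk⟩ = 0 := h0.symm.trans
      ((congrArg l (show (1 : ResidueField P) ⊗ₜ[P] KaehlerDifferential.D k P (x : P) = 0 from hz')).trans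
        (map_zero l))
    rw [Ideal.toCotangent_eq_zero] at h1 ⊢
    have h2 : (x : P) ∈ RingHom.ker (algebraMap P (ResidueField P)) ^ 2 := h1
    rw [hk] at h2
    exact h2
  exact (LinearMap.finrank_le_finrank_of_injective hinj).trans_eq Module.finrank_baseChange

/-- Let k be a perfect field and A a reduced finite type k-algebra such that Ω_{A/k} is a projective
A-module (locally free, as it is finitely presented). Then A is smooth over k. The scheme statement,
X reduced and locally of finite type over k with Ω_{X/k} locally free is smooth over k, is this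
assertion on affine opens. -/
theorem result (k A : Type u) [Field k] [PerfectField k] [CommRing A] [Algebra k A]
    [Algebra.FiniteType k A] [_root_.IsReduced A] [Module.Projective A Ω[A⁄k]] : Algebra.Smooth k A := by
  classical
  haveI : Algebra.FinitePresentation k A := Algebra.FinitePresentation.of_finiteType.1 inferInstance
  haveI : IsNoetherianRing A := Algebra.FiniteType.isNoetherianRing k A
  have key : ∀ (m : Ideal A), m.IsMaximal → ∀ (_ : m.IsPrime), Algebra.IsSmoothAt k m := by
    intro m hm _
    haveI := hm
    haveI := GeomProp.geomReduced_of_perfectField k m.ResidueField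
    refine GeomProp.isSmoothAt_of_regular k A m ?_
    let P := Localization.AtPrime m
    haveI : Algebra.FormallyEtale A P := .of_isLocalization m.primeCompl
    let e := KaehlerDifferential.tensorKaehlerEquivOfFormallyEtale k A P
    haveI : Module.Free P (P ⊗[A] Ω[A⁄k]) := Module.free_of_flat_of_isLocalRing
    haveI : Module.Free P (Ω[P⁄k]) := .of_equiv e
    haveI : Module.Finite P (Ω[P⁄k]) := .equiv e
    haveI : Algebra.FormallySmooth k (ResidueField P) := FSField.formallySmooth_of_perfectField k _
    let pm : PrimeSpectrum A := ⟨m, inferInstance⟩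
    have hspan : (maximalIdeal P).spanFinrank ≤ Module.rankAtStalk (Ω[A⁄k]) pm := by
      rw [spanFinrank_maximalIdeal_eq_finrank_cotangentSpace]
      refine (finrank_cotangentSpace_le (k := k)).trans_eq ?_
      rw [← e.finrank_eq, Module.rankAtStalk_eq pm]
      exact ((Module.rankAtStalk_eq_finrank_tensorProduct (M := Ω[A⁄k]) pm).symm).trans
        (Module.rankAtStalk_eq pm)
    obtain ⟨q, hq, hqm⟩ := Ideal.exists_minimalPrimes_le (I := (⊥ : Ideal A)) (J := m) bot_le
    haveI : q.IsPrime := hq.1.1
    let pq : PrimeSpectrum A := ⟨q, inferInstance⟩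
    rw [← Module.rankAtStalk_eq_of_le_of_finite_of_flat (Ω[A⁄k]) (p := pq) (q := pm) hqm] at hspan
    let L := q.ResidueField
    let Aq := Localization.AtPrime q
    haveI : Subsingleton (PrimeSpectrum Aq) :=
      IsLocalization.subsingleton_primeSpectrum_of_mem_minimalPrimes q hq Aq
    haveI : _root_.IsReduced Aq := isReduced_localizationPreserves q.primeCompl Aq inferInstance
    have hmax : maximalIdeal Aq = ⊥ := by
      rw [eq_bot_iff]
      intro x hx
      rw [Ideal.mem_bot]
      refine IsNilpotent.eq_zero ((nilpotent_iff_mem_prime).2 fun J hJ => ?_)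
      have : (⟨J, hJ⟩ : PrimeSpectrum Aq) = ⟨maximalIdeal Aq, inferInstance⟩ := Subsingleton.elim _ _
      rwa [show J = maximalIdeal Aq from congrArg PrimeSpectrum.asIdeal this]
    have hbij : Function.Bijective (algebraMap Aq L) := by
      refine ⟨?_, residue_surjective⟩
      rw [RingHom.injective_iff_ker_eq_bot]
      show RingHom.ker (residue Aq) = ⊥
      rw [ker_residue, hmax]
    haveI : Algebra.FormallyEtale A L :=
      haveI : Algebra.FormallyEtale A Aq := .of_isLocalization q.primeCompl
      .of_equiv (AlgEquiv.ofBijective (IsScalarTower.toAlgHom A Aq L) hbij)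
    haveI : Algebra.EssFiniteType k L := Algebra.EssFiniteType.comp k A L
    haveI : Algebra.FormallySmooth k L := FSField.formallySmooth_of_perfectField k L
    haveI : Subsingleton (Algebra.H1Cotangent k L) := Algebra.FormallySmooth.subsingleton_h1Cotangent
    have hrank : Module.rankAtStalk (Ω[A⁄k]) pq = Cardinal.toNat (Algebra.trdeg k L) := by
      rw [Module.rankAtStalk_eq pq]
      refine ((KaehlerDifferential.tensorKaehlerEquivOfFormallyEtale k A L).finrank_eq).trans ?_
      rw [(CartierEq.cartier_equality k L).2.2, Module.finrank_zero_of_subsingleton, add_zero]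
    haveI : Algebra.FiniteType k (A ⧸ q) :=
      Algebra.FiniteType.of_surjective (Ideal.Quotient.mkₐ k q) Ideal.Quotient.mk_surjective
    obtain ⟨s, hs, hs'⟩ := DimFormula.exists_trdeg_eq_ringKrullDim k (A ⧸ q)
    have htr : Algebra.trdeg k L = s := by
      haveI : FaithfulSMul k (A ⧸ q) :=
        (faithfulSMul_iff_algebraMap_injective _ _).2 (algebraMap k (A ⧸ q)).injective
      haveI : Algebra.IsAlgebraic (A ⧸ q) L := IsLocalization.isAlgebraic L (nonZeroDivisors (A ⧸ q))
      have h := trdeg_add_eq k (A ⧸ q) (A := L)
      rw [trdeg_eq_zero (R := A ⧸ q) (A := L), add_zero, hs] at h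
      exact h.symm
    rw [hrank, htr, Cardinal.toNat_natCast] at hspan
    refine IsRegularLocalRing.of_spanFinrank_maximalIdeal_le P (le_trans (Nat.cast_le.2 hspan) ?_)
    rw [← hs', IsLocalization.AtPrime.ringKrullDim_eq_height m P]
    have hker : RingHom.ker (Ideal.Quotient.mk q) ≤ m := by rw [Ideal.mk_ker]; exact hqm
    haveI : (m.map (Ideal.Quotient.mk q)).IsMaximal :=
      (Ideal.map_eq_top_or_isMaximal_of_surjective _ Ideal.Quotient.mk_surjective hm).resolve_left fun h => by
        have h2 := congrArg (Ideal.comap (Ideal.Quotient.mk q)) h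
        rw [Ideal.comap_map_of_surjective _ Ideal.Quotient.mk_surjective, Ideal.comap_top,
          ← RingHom.ker_eq_comap_bot, sup_eq_left.2 hker] at h2
        exact hm.ne_top h2
    rw [← GLinFree.height_eq_ringKrullDim (K := k) (m.map (Ideal.Quotient.mk q)), WithBot.coe_le_coe]
    refine le_trans ?_ (le_refl m.height)
    rw [PrimeSpectrum.height_eq_orderHeight (p := (⟨m, inferInstance⟩ : PrimeSpectrum A)),
      PrimeSpectrum.height_eq_orderHeight
        (p := (⟨m.map (Ideal.Quotient.mk q), inferInstance⟩ : PrimeSpectrum (A ⧸ q)))]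
    have hcm : PrimeSpectrum.comap (Ideal.Quotient.mk q)
        ⟨m.map (Ideal.Quotient.mk q), inferInstance⟩ = ⟨m, inferInstance⟩ := PrimeSpectrum.ext (by
      show (m.map _).comap _ = m
      rw [Ideal.comap_map_of_surjective _ Ideal.Quotient.mk_surjective, ← RingHom.ker_eq_comap_bot,
        sup_eq_left.2 hker])
    rw [← hcm]
    exact Order.height_le_height_apply_of_strictMono _
      ((OrderEmbedding.ofMapLEIff (PrimeSpectrum.comap (Ideal.Quotient.mk q))
        fun _ _ => Ideal.comap_le_comap_iff_of_surjective _ Ideal.Quotient.mk_surjective _ _).strictMono) _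
  haveI : Algebra.FormallySmooth k A := by
    rw [← Algebra.smoothLocus_eq_univ_iff, Set.eq_univ_iff_forall]
    intro x
    obtain ⟨m, hm, hxm⟩ := Ideal.exists_le_maximal x.asIdeal x.isPrime.ne_top
    haveI := hm.isPrime
    exact ((PrimeSpectrum.le_iff_specializes x ⟨m, hm.isPrime⟩).1 hxm).mem_open
      Algebra.isOpen_smoothLocus (key m hm inferInstance)
  exact ⟨inferInstance, inferInstance⟩

end Groth.Agent.S7623
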