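import Groth.Statements.S16113
import Groth.Agent.UnitsFG.Global

set_option autoImplicit false
universe u
open CategoryTheory MonoidalCategory CartesianMonoidalCategory MonObj GrpObj AlgebraicGeometry CategoryTheory.Limits
open AlgGrp

namespace Groth.Agent.S16113

set_option backward.isDefEq.respectTransparency false

theorem mem_range_of_isIntegralElem {k A : Type*} [Field k] [IsAlgClosed k] [CommRing A] [IsDomain A]
    (f : k →+* A) {x : A} (hx : f.IsIntegralElem x) : x ∈ Set.range f := by
  let := f.toAlgebra
  have hx' : IsIntegral k x := hx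
  exact minpoly.mem_range_of_degree_eq_one k x
    (IsAlgClosed.degree_eq_one_of_irreducible k (minpoly.irreducible hx'))

theorem exists_valuation {k A : Type*} [Field k] [IsAlgClosed k] [CommRing A] [IsDomain A] (c : k →+* A)
    (hFG : Group.FG (Aˣ ⧸ (Units.map (c : k →* A)).range)) :
    ∃ (n : ℕ) (v : Aˣ →* Multiplicative (Fin n → ℤ)),
      Function.Surjective v ∧ v.ker = (Units.map (c : k →* A)).range := by
  set N := (Units.map (c : k →* A)).range
  let : Module ℤ (Additive (Aˣ ⧸ N)) := AddCommGroup.toIntModule (Additive (Aˣ ⧸ N))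
  have : Module.Finite ℤ (Additive (Aˣ ⧸ N)) := (Module.Finite.iff_addGroup_fg (G := Additive (Aˣ ⧸ N))).2 (GroupFG.iff_add_fg.1 hFG)
  have key : ∀ (q : Aˣ ⧸ N) (m : ℕ), m ≠ 0 → q ^ m = 1 → q = 1 := by
    intro q m hm hq
    obtain ⟨u, rfl⟩ := QuotientGroup.mk_surjective q
    rw [← QuotientGroup.mk_pow, QuotientGroup.eq_one_iff] at hq
    obtain ⟨a, ha⟩ := hq
    have ha' : c (a : k) = (u : A) ^ m := congrArg Units.val ha |>.trans (Units.val_pow_eq_pow_val u m)
    obtain ⟨b, hb⟩ := mem_range_of_isIntegralElem c (x := (u : A))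
      ⟨Polynomial.X ^ m - Polynomial.C (a : k), Polynomial.monic_X_pow_sub_C _ hm, by simp [ha']⟩
    have hb0 : b ≠ 0 := fun h => u.ne_zero (by rw [← hb, h, map_zero])
    exact (QuotientGroup.eq_one_iff u).2 ⟨Units.mk0 b hb0, Units.ext hb⟩
  have : Module.IsTorsionFree ℤ (Additive (Aˣ ⧸ N)) := by
    refine Module.isTorsionFree_iff_smul_eq_zero.2 fun r q h => ?_
    by_contra hne
    push Not at hne
    apply hne.2
    have h' : (r.natAbs : ℤ) • q = 0 := by
      rcases Int.natAbs_eq r with e | e <;> rw [e] at h
      · exact h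
      · rwa [neg_smul, neg_eq_zero] at h
    rw [natCast_zsmul] at h'
    exact key q.toMul r.natAbs (Int.natAbs_ne_zero.2 hne.1) h'
  have : Module.Free ℤ (Additive (Aˣ ⧸ N)) := Module.free_of_finite_type_torsion_free'
  let e := (Module.finBasis ℤ (Additive (Aˣ ⧸ N))).equivFun
  refine ⟨Module.finrank ℤ (Additive (Aˣ ⧸ N)),
    MonoidHom.mk' (fun u : Aˣ => Multiplicative.ofAdd (e (Additive.ofMul (u : Aˣ ⧸ N))))
      (fun a b => by rw [QuotientGroup.mk_mul, ofMul_mul, map_add, ofAdd_add]), ?_, ?_⟩
  · intro y
    obtain ⟨u, hu⟩ := QuotientGroup.mk_surjective (e.symm y.toAdd).toMul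
    exact ⟨u, by simp [hu]⟩
  · ext u
    rw [MonoidHom.mem_ker]
    simp [QuotientGroup.eq_one_iff]

/-- Over an algebraically closed field k, let X be an irreducible variety (an integral separated
k-scheme of finite type) and R = Γ(X, O_X). Then the quotient of the unit group R^× by the subgroup
k^× of nonzero constants is a free abelian group of finite rank: for some n there is a surjective
group homomorphism from R^× onto ℤⁿ (written multiplicatively) whose kernel is exactly the image of
k^× under the structure map k → R. -/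
theorem result (k : Type u) [Field k] [IsAlgClosed k]
    (X : Over (Spec (CommRingCat.of k))) [IsIntegral X.left] [IsSeparated X.hom] [LocallyOfFiniteType X.hom] [QuasiCompact X.hom] :
    ∃ (n : ℕ) (v : (Γ(X.left, ⊤))ˣ →* Multiplicative (Fin n → ℤ)), Function.Surjective v ∧
      v.ker = (Units.map (((Scheme.ΓSpecIso (CommRingCat.of k)).inv ≫ X.hom.appTop).hom : k →* Γ(X.left, ⊤))).range := by
  haveI : IrreducibleSpace ↥X.left := inferInstance
  have hfin : (irreducibleComponents (X.left : Type u)).Finite := by
    rw [irreducibleComponents_eq_singleton]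
    exact Set.finite_singleton _
  exact exists_valuation (X.hom.appTop.hom.comp (Scheme.ΓSpecIso (CommRingCat.of k)).inv.hom)
    (Groth.Agent.UnitsFG.units_fg k X.left X.hom hfin fun x hx => mem_range_of_isIntegralElem _ hx)

end Groth.Agent.S16113
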