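import Groth.Statements.S16114
import Groth.Agent.HopfDomain.Basic
import Groth.Agent.GrpField.Irreducible
import Groth.Agent.SmoothRed.Scheme
import Mathlib.AlgebraicGeometry.Geometrically.Irreducible
import Mathlib.AlgebraicGeometry.PullbackCarrier

set_option autoImplicit false
universe u
open CategoryTheory MonoidalCategory CartesianMonoidalCategory MonObj GrpObj AlgebraicGeometry CategoryTheory.Limits
open AlgGrp

namespace Groth.Agent.S16114

/-- Over an algebraically closed field k, let G be a connected algebraic group (a smooth connected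
k-group scheme of finite type, not necessarily affine) and f ∈ Γ(G, O_G) a unit whose pullback along
the unit section e : Spec k → G equals 1. Then f is a character of G: m^*(f) = p₁^*(f) · p₂^*(f) in
Γ(G × G, O), where m is the multiplication and p₁, p₂ are the projections. -/
theorem result (k : Type u) [Field k] [IsAlgClosed k]
    (G : Over (Spec (CommRingCat.of k))) [GrpObj G] [Smooth G.hom] [QuasiCompact G.hom] [ConnectedSpace ↥G.left]
    (f : Γ(G.left, ⊤)) (hf : IsUnit f) (he : η[G].left.appTop f = 1) :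
    μ[G].left.appTop f = (fst G G).left.appTop f * (snd G G).left.appTop f := by
  haveI : IrreducibleSpace ↥(Spec (CommRingCat.of k)) := inferInstanceAs (IrreducibleSpace (PrimeSpectrum k))
  haveI hgi := Groth.Agent.GrpField.geometricallyIrreducible_of_connected G
  haveI : UniversallyOpen G.hom := inferInstance
  haveI : IrreducibleSpace ↥G.left := GeometricallyIrreducible.irreducibleSpace G.hom G.hom.isOpenMap
  haveI : AlgebraicGeometry.IsReduced G.left := Groth.Agent.SmoothRed.isReduced_of_smooth_scheme G.hom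
  haveI : IsIntegral G.left := isIntegral_of_irreducibleSpace_of_isReduced _
  haveI : Smooth (G ⊗ G).hom := inferInstanceAs (Smooth (pullback.fst G.hom G.hom ≫ G.hom))
  haveI : AlgebraicGeometry.IsReduced (G ⊗ G).left := Groth.Agent.SmoothRed.isReduced_of_smooth_scheme (G ⊗ G).hom
  haveI : IrreducibleSpace ↥(G ⊗ G).left := inferInstanceAs (IrreducibleSpace ↥(pullback G.hom G.hom))
  haveI : IsIntegral (G ⊗ G).left := isIntegral_of_irreducibleSpace_of_isReduced _
  let s0 : ↥(Spec (CommRingCat.of k)) := IsLocalRing.closedPoint k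
  obtain ⟨U, hU, heU, -⟩ := exists_isAffineOpen_mem_and_subset (x := η[G].left.base s0) (U := (⊤ : G.left.Opens)) trivial
  haveI : Nonempty ↥U := ⟨⟨_, heU⟩⟩
  obtain ⟨s, hs⟩ := Spec.map_surjective (hU.fromSpec ≫ G.hom)
  let A := Γ(G.left, U)
  algebraize [s.hom]
  have hs' : Spec.map (CommRingCat.ofHom (algebraMap k A)) = hU.fromSpec ≫ G.hom := hs
  haveI : Algebra.FiniteType k A := (HasRingHomProperty.Spec_iff (P := @LocallyOfFiniteType)).mp
    (show LocallyOfFiniteType (Spec.map (CommRingCat.ofHom (algebraMap k A))) from hs' ▸ inferInstance)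
  let U' : Over (Spec (CommRingCat.of k)) := Over.mk (Spec.map (CommRingCat.ofHom (algebraMap k A)))
  let j : U' ⟶ G := Over.homMk hU.fromSpec hs'.symm
  have hηr : Set.range η[G].left.base ⊆ Set.range hU.fromSpec.base := by
    rintro _ ⟨z, rfl⟩
    rw [hU.range_fromSpec]
    have hsub : ∀ y : ↥(Spec (CommRingCat.of k)), y = s0 := fun y => Subsingleton.elim (α := PrimeSpectrum k) y s0
    rw [hsub z]
    exact heU
  obtain ⟨e0, he0⟩ := Spec.map_surjective (IsOpenImmersion.lift hU.fromSpec η[G].left hηr)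
  have he1 : Spec.map e0 ≫ hU.fromSpec = η[G].left := by rw [he0, IsOpenImmersion.lift_fac]
  let ε : A →ₐ[k] k := AlgHom.mk e0.hom (fun c => by
    have h : Spec.map (CommRingCat.ofHom (algebraMap k A) ≫ e0) = Spec.map (𝟙 (CommRingCat.of k)) := by
      rw [Spec.map_comp, hs', ← Category.assoc, he1, Spec.map_id]
      exact Over.w η[G]
    exact RingHom.congr_fun (congrArg CommRingCat.Hom.hom (Spec.map_injective h)) c)
  open TensorProduct in
  let AA := A ⊗[k] A
  let W : Over (Spec (CommRingCat.of k)) := Over.mk (Spec.map (CommRingCat.ofHom (algebraMap k AA)))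
  let mk {B : Type u} [CommRing B] [Algebra k B] {C : Type u} [CommRing C] [Algebra k C] (φ : B →ₐ[k] C) :
      Over.mk (Spec.map (CommRingCat.ofHom (algebraMap k C))) ⟶ Over.mk (Spec.map (CommRingCat.ofHom (algebraMap k B))) :=
    Over.homMk (Spec.map (CommRingCat.ofHom φ.toRingHom)) (by
      show Spec.map _ ≫ Spec.map _ = Spec.map _
      rw [← Spec.map_comp]
      congr 1
      ext : 1
      exact φ.comp_algebraMap)
  let iL : A →ₐ[k] AA := Algebra.TensorProduct.includeLeft
  let iR : A →ₐ[k] AA := Algebra.TensorProduct.includeRight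
  let i : W ⟶ G ⊗ G := lift (mk iL ≫ j) (mk iR ≫ j)
  haveI hi : IsOpenImmersion i.left := by
    have e : i.left = (pullbackSpecIso k A A).inv ≫ pullback.map _ _ G.hom G.hom hU.fromSpec hU.fromSpec (𝟙 _)
        (by rw [Category.comp_id]; exact hs') (by rw [Category.comp_id]; exact hs') := by
      apply pullback.hom_ext
      · rw [Category.assoc, pullback.map, pullback.lift_fst, pullbackSpecIso_inv_fst_assoc]
        exact congrArg CommaMorphism.left (lift_fst (mk iL ≫ j) (mk iR ≫ j))
      · rw [Category.assoc, pullback.map, pullback.lift_snd, pullbackSpecIso_inv_snd_assoc]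
        exact congrArg CommaMorphism.left (lift_snd (mk iL ≫ j) (mk iR ≫ j))
    rw [e]; infer_instance
  let val {B : CommRingCat.{u}} (q : Spec B ⟶ G.left) : B := (Scheme.ΓSpecIso B).hom (q.appTop f)
  have hval : ∀ {B C : CommRingCat.{u}} (φ : B ⟶ C) (q : Spec B ⟶ G.left), val (Spec.map φ ≫ q) = φ (val q) := by
    intro B C φ q
    show (Scheme.ΓSpecIso C).hom ((Spec.map φ).appTop (q.appTop f)) = φ ((Scheme.ΓSpecIso B).hom (q.appTop f))
    rw [← CommRingCat.comp_apply, Scheme.ΓSpecIso_naturality, CommRingCat.comp_apply]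
  let F : A := val (B := CommRingCat.of A) j.left
  have hεF : ε F = 1 := by
    refine (hval e0 hU.fromSpec).symm.trans ?_
    show (Scheme.ΓSpecIso (CommRingCat.of k)).hom ((Spec.map e0 ≫ hU.fromSpec).appTop f) = 1
    rw [he1, he, map_one]
  let X : AA := val (B := CommRingCat.of AA) (i ≫ μ).left
  have hX : IsUnit X := (hf.map (i ≫ μ).left.appTop.hom).map (Scheme.ΓSpecIso (CommRingCat.of AA)).hom.hom
  let eU : U' ⟶ G := toUnit U' ≫ η
  have heU' : mk ((Algebra.ofId k A).comp ε) ≫ j = eU := by
    ext : 1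
    show Spec.map (e0 ≫ CommRingCat.ofHom (algebraMap k A)) ≫ hU.fromSpec = U'.hom ≫ η[G].left
    rw [Spec.map_comp, Category.assoc, he1]
    rfl
  let φL : AA →ₐ[k] A := Algebra.TensorProduct.lift (AlgHom.id k A) ((Algebra.ofId k A).comp ε) fun _ _ => .all _ _
  let φR : AA →ₐ[k] A := Algebra.TensorProduct.lift ((Algebra.ofId k A).comp ε) (AlgHom.id k A) fun _ _ => .all _ _
  have hmk : ∀ (φ : AA →ₐ[k] A) (g : A →ₐ[k] AA), mk φ ≫ mk g = mk (φ.comp g) := by
    intro φ g
    ext : 1
    show Spec.map _ ≫ Spec.map _ = Spec.map _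
    rw [← Spec.map_comp]
    rfl
  have hid : mk (AlgHom.id k A) ≫ j = j := by
    ext : 1
    show Spec.map (𝟙 (CommRingCat.of A)) ≫ hU.fromSpec = hU.fromSpec
    rw [Spec.map_id, Category.id_comp]
  have hφX : ∀ φ : AA →ₐ[k] A, mk φ ≫ i ≫ μ = j → φ X = F := fun φ h => by
    refine (hval (CommRingCat.ofHom φ.toRingHom) (i ≫ μ).left).symm.trans ?_
    show val ((mk φ ≫ i ≫ μ).left) = F
    rw [h]
  haveI : Nonempty U.toScheme := ⟨⟨_, heU⟩⟩
  haveI : IsDomain A := IsIntegral.component_integral U
  have hXF := Groth.Agent.HopfDomain.eq_tmul_of_isUnit ε hεF hX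
    (hφX φL (by
      rw [← Category.assoc, comp_lift, ← Category.assoc, ← Category.assoc, hmk, hmk, ← Hom.mul_def,
        show φL.comp iL = AlgHom.id k A from Algebra.TensorProduct.lift_comp_includeLeft _ _ (fun _ _ => .all _ _),
        show φL.comp iR = (Algebra.ofId k A).comp ε from Algebra.TensorProduct.lift_comp_includeRight _ _ (fun _ _ => .all _ _), hid, heU',
        show eU = 1 from (Hom.one_def).symm, _root_.mul_one]))
    (hφX φR (by
      rw [← Category.assoc, comp_lift, ← Category.assoc, ← Category.assoc, hmk, hmk, ← Hom.mul_def,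
        show φR.comp iR = AlgHom.id k A from Algebra.TensorProduct.lift_comp_includeRight _ _ (fun _ _ => .all _ _),
        show φR.comp iL = (Algebra.ofId k A).comp ε from Algebra.TensorProduct.lift_comp_includeLeft _ _ (fun _ _ => .all _ _), hid, heU',
        show eU = 1 from (Hom.one_def).symm, _root_.one_mul]))
  have hinj : Function.Injective i.left.appTop := by
    haveI : Nonempty ↥(⊤ : W.left.Opens) := by
      haveI : Nontrivial AA :=
        ((Algebra.TensorProduct.lift ε ε fun _ _ => .all _ _) : AA →ₐ[k] k).toRingHom.domain_nontrivial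
      exact ⟨⟨Classical.arbitrary (PrimeSpectrum AA), trivial⟩⟩
    haveI : Nonempty (i.left ''ᵁ ⊤).toScheme := ⟨⟨i.left.base (Classical.arbitrary ↥(⊤ : W.left.Opens)).1,
      ⟨_, trivial, rfl⟩⟩⟩
    intro p q h
    apply map_injective_of_isIntegral (G ⊗ G).left (homOfLE (le_top : i.left ''ᵁ ⊤ ≤ ⊤))
    apply (i.left.appIso ⊤).commRingCatIsoToRingEquiv.injective
    have e : (G ⊗ G).left.presheaf.map (homOfLE (le_top : i.left ''ᵁ ⊤ ≤ ⊤)).op ≫ (i.left.appIso ⊤).hom = i.left.appTop := by
      rw [Scheme.Hom.appIso_hom', Scheme.Hom.map_appLE]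
      exact Scheme.Hom.appLE_eq_app _
    exact (RingHom.congr_fun (congrArg CommRingCat.Hom.hom e) p).trans
      (h.trans (RingHom.congr_fun (congrArg CommRingCat.Hom.hom e) q).symm)
  apply hinj
  apply (Scheme.ΓSpecIso (CommRingCat.of AA)).commRingCatIsoToRingEquiv.injective
  show X = (Scheme.ΓSpecIso (CommRingCat.of AA)).hom (i.left.appTop
    ((fst G G).left.appTop f * (snd G G).left.appTop f))
  rw [hXF, map_mul, map_mul]
  have h1 : val (B := CommRingCat.of AA) (i ≫ fst G G).left = iL F := by
    rw [lift_fst]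
    exact hval (CommRingCat.ofHom iL.toRingHom) j.left
  have h2 : val (B := CommRingCat.of AA) (i ≫ snd G G).left = iR F := by
    rw [lift_snd]
    exact hval (CommRingCat.ofHom iR.toRingHom) j.left
  show _ = val (B := CommRingCat.of AA) (i ≫ fst G G).left * val (B := CommRingCat.of AA) (i ≫ snd G G).left
  rw [h1, h2]
  open TensorProduct in
  show F ⊗ₜ[k] F = (F ⊗ₜ[k] (1 : A)) * ((1 : A) ⊗ₜ[k] F)
  rw [Algebra.TensorProduct.tmul_mul_tmul, _root_.mul_one, _root_.one_mul]

end Groth.Agent.S16114
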