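import Groth.Statements.S8433
import Groth.Agent.Chev.MaxTorusBC
import Groth.Agent.MTDescent.AffineMono
import Groth.Agent.MTDescent.SubgroupDescent
-- import your own Groth.Agent.* helpers here

set_option autoImplicit false
universe u
open CategoryTheory MonoidalCategory CartesianMonoidalCategory MonObj GrpObj AlgebraicGeometry
open SGA3x

set_option backward.isDefEq.respectTransparency false

namespace Groth.Agent.S8433
open Limits in
/-- Maximality passes along isomorphisms of the torus. -/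
theorem isMaximalTorus_of_iso_left {S : Scheme.{u}} {G T T' : Over S} [GrpObj G] [GrpObj T] [GrpObj T'] (e : T' ≅ T)
    [IsMonHom e.hom] (i : T ⟶ G) (hT' : Red.IsTorus T') (h : Red.IsMaximalTorus i) :
    Red.IsMaximalTorus (e.hom ≫ i) := by
  obtain ⟨him, himono, -, hmax⟩ := h
  haveI := him; haveI := himono
  refine ⟨inferInstance, mono_comp _ _, hT', fun s X _ j _ _ f hX hf => ?_⟩
  let F := Over.pullback (Red.geomPt s)
  haveI := hmax s X j (F.map e.inv ≫ f) hX (by
    rw [Category.assoc, hf, ← F.map_comp, e.inv_hom_id_assoc])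
  exact @IsIso.of_isIso_comp_left _ _ _ _ _ (F.map e.inv) f (F.mapIso e.symm).isIso_hom this

open Limits Groth.Agent.MTBridge in
/-- The kernel-pair criterion for a central maximal torus on a cover. -/
theorem kernelPair {S S' : Scheme.{u}} {π : S' ⟶ S} {G : Over S} [GrpObj G] [LocallyOfFiniteType G.hom]
    [QuasiCompact G.hom] {T : Over S'} [GrpObj T] (i : T ⟶ Red.bc π G) (hT : Red.IsMaximalTorus i)
    (hc : ∀ (X : Over S') (t : X ⟶ T) (g : X ⟶ Red.bc π G), (t ≫ i) * g = g * (t ≫ i)) {W : Scheme.{u}}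
    (w₁ w₂ : W ⟶ pullback G.hom π) (hw : w₁ ≫ pullback.fst G.hom π = w₂ ≫ pullback.fst G.hom π)
    (h₁ : ∃ l, l ≫ i.left = w₁) : ∃ l, l ≫ i.left = w₂ := by
  obtain ⟨l, hl⟩ := h₁
  haveI := hT.1
  let x₁ := w₁ ≫ pullback.snd G.hom π
  let x₂ := w₂ ≫ pullback.snd G.hom π
  have h : x₁ ≫ π = x₂ ≫ π := by
    simp only [x₁, x₂, Category.assoc, ← pullback.condition]
    rw [reassoc_of% hw]
  let c := x₁ ≫ π
  have e₁c : x₁ ≫ π = c := rfl
  have e₂c : x₂ ≫ π = c := h.symm
  obtain ⟨e₁, he₁, he₁'⟩ := Chev.MaxTorusBC.exists_trIso e₁c G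
  obtain ⟨e₂, he₂, he₂'⟩ := Chev.MaxTorusBC.exists_trIso e₂c G
  haveI : IsMonHom e₁.hom := he₁'
  haveI : IsMonHom e₂.hom := he₂'
  haveI : IsMonHom e₁.inv := inferInstance
  haveI : LocallyOfFiniteType (Red.bc π G).hom := inferInstanceAs (LocallyOfFiniteType (pullback.snd G.hom π))
  haveI : QuasiCompact (Red.bc π G).hom := inferInstanceAs (QuasiCompact (pullback.snd G.hom π))
  haveI : LocallyOfFiniteType (Red.bc x₂ (Red.bc π G)).hom :=
    inferInstanceAs (LocallyOfFiniteType (pullback.snd (Red.bc π G).hom x₂))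
  haveI : QuasiCompact (Red.bc x₂ (Red.bc π G)).hom :=
    inferInstanceAs (QuasiCompact (pullback.snd (Red.bc π G).hom x₂))
  obtain ⟨y, hy⟩ := MTTorus.exists_factor_maximalTorus ((Over.pullback x₂).map i)
    (Chev.MaxTorusBC.isMaximalTorus_bc i hT x₂) (Chev.Borel.isTorus_bc_scheme T x₁ hT.2.2.1)
    ((Over.pullback x₁).map i ≫ e₁.inv ≫ e₂.hom) fun X t _ => Groth.Agent.S8398.central_bc x₂ i hc X t _
  let I : Over W := Over.mk (𝟙 W)
  let a₁ : (Over.map x₁).obj I ⟶ T := Over.homMk l (by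
    show l ≫ T.hom = 𝟙 W ≫ x₁
    rw [Category.id_comp, ← Over.w i, reassoc_of% hl]
    rfl)
  obtain ⟨a₂, ha₂⟩ := exists_toBC' x₂ (toBC x₁ a₁ ≫ y)
  let b₁ : (Over.map x₁).obj I ⟶ Red.bc π G := Over.homMk w₁ (by
    show w₁ ≫ pullback.snd G.hom π = 𝟙 W ≫ x₁
    rw [Category.id_comp])
  let b₂ : (Over.map x₂).obj I ⟶ Red.bc π G := Over.homMk w₂ (by
    show w₂ ≫ pullback.snd G.hom π = 𝟙 W ≫ x₂
    rw [Category.id_comp])
  let z : (Over.map c).obj I ⟶ G := Over.homMk (w₁ ≫ pullback.fst G.hom π) (by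
    show (w₁ ≫ pullback.fst G.hom π) ≫ G.hom = 𝟙 W ≫ c
    rw [Category.id_comp, Category.assoc, pullback.condition]
    exact (Category.assoc _ _ _).symm)
  have hb₁ : toBC x₁ b₁ = toBC c z ≫ e₁.hom := by
    rw [he₁, ← Chev.MaxTorusExt.tr_naturality, Category.comp_id, Chev.MaxTorusExt.tr_toBC]
    congr 1
    apply Over.OverMorphism.ext
    apply pullback.hom_ext
    · rw [MTDescent.left_toBC_fst_eq]
      show w₁ ≫ pullback.fst G.hom π = 𝟙 W ≫ w₁ ≫ pullback.fst G.hom π
      rw [Category.id_comp]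
    · exact (Over.w b₁).trans (Over.w (toBC π _)).symm
  have hb₂ : toBC x₂ b₂ = toBC c z ≫ e₂.hom := by
    rw [he₂, ← Chev.MaxTorusExt.tr_naturality, Category.comp_id, Chev.MaxTorusExt.tr_toBC]
    congr 1
    apply Over.OverMorphism.ext
    apply pullback.hom_ext
    · rw [MTDescent.left_toBC_fst_eq]
      show w₂ ≫ pullback.fst G.hom π = 𝟙 W ≫ w₁ ≫ pullback.fst G.hom π
      rw [Category.id_comp, hw]
    · exact (Over.w b₂).trans (Over.w (toBC π _)).symm
  have hab : a₁ ≫ i = b₁ := Over.OverMorphism.ext hl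
  have hfin : a₂ ≫ i = b₂ := MTBridge.toBC_inj x₂ (by
    rw [toBC_comp, ha₂, Category.assoc, hy, ← Category.assoc, ← toBC_comp, hab, hb₁, hb₂, Category.assoc,
      e₁.hom_inv_id_assoc])
  exact ⟨a₂.left, congrArg (fun m => m.left) hfin⟩


/-- Let G be an S-group scheme of finite presentation over S which admits, locally for the fpqc
topology, a central maximal torus. Then G admits globally a unique maximal torus T, which is the
largest subtorus of G (every subtorus factors through T), and T is central. -/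
theorem result (S : Scheme.{u}) (G : Over S) [GrpObj G]
    [QuasiCompact G.hom] [QuasiSeparated G.hom] [LocallyOfFinitePresentation G.hom]
    (h : ∃ (S' : Scheme.{u}) (f : S' ⟶ S), Flat f ∧ Surjective f ∧
      (∀ V : S.Opens, IsAffineOpen V → ∃ W : S'.Opens, IsCompact (W : Set ↥S') ∧ f.base '' (W : Set ↥S') = (V : Set ↥S)) ∧
      ∃ (T' : Over S') (_ : GrpObj T') (i' : T' ⟶ Red.bc f G), Red.IsMaximalTorus i' ∧
        ∀ (X : Over S') (t : X ⟶ T') (g : X ⟶ Red.bc f G), (t ≫ i') * g = g * (t ≫ i')) :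
    ∃ (T : Over S) (_ : GrpObj T) (i : T ⟶ G), Red.IsMaximalTorus i ∧
      (∀ (X : Over S) (t : X ⟶ T) (g : X ⟶ G), (t ≫ i) * g = g * (t ≫ i)) ∧
      ∀ (R : Over S) [GrpObj R] (j : R ⟶ G) [IsMonHom j] [Mono j], Red.IsTorus R → ∃ f : R ⟶ T, f ≫ i = j := by
  obtain ⟨S', f, hf, hfs, hcov, T', hT'g, i', hmax, hc⟩ := h
  haveI := hf; haveI := hfs
  haveI := hmax.1; haveI := hmax.2.1
  haveI : LocallyOfFiniteType G.hom := inferInstance
  haveI : Mono i'.left := inferInstanceAs (Mono ((Over.forget _).map i'))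
  have hTm := MTBridge.isMultTypeFT_of_isTorus T' hmax.2.2.1
  haveI : IsAffineHom (i'.left ≫ Limits.pullback.snd G.hom f) := by
    rw [show i'.left ≫ Limits.pullback.snd G.hom f = T'.hom from Over.w i']
    exact MTBridge.isAffineHom T' hTm
  obtain ⟨Y, m, hm, e, he⟩ := MTDescent.exists_descend_affine_mono f hcov G i'.left
    (fun w₁ w₂ hw h₁ => kernelPair i' hmax hc w₁ w₂ hw h₁)
  haveI : Flat (Over.mk f).hom := hf
  haveI : Surjective (Over.mk f).hom := hfs
  obtain ⟨hg, i, hi, hil, hHm, φ, hφ⟩ := MTDescent.exists_subgroup_of_descended (B := Over.mk f) hcov hTm i' m hm e he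
  haveI := hi
  replace hφ : φ.hom ≫ i' = (Over.pullback f).map i := hφ
  let T := Over.mk (m ≫ G.hom)
  haveI : Mono i.left := by rw [hil]; exact hm
  haveI : Mono i := Over.mono_of_mono_left i
  haveI : Limits.PreservesLimitsOfShape Limits.WalkingCospan (Over.pullback f) :=
    (Adjunction.rightAdjoint_preservesLimits (Over.mapPullbackAdj f)).preservesLimitsOfShape
  haveI : IsMonHom φ.hom := MTSplit.isMonHom_of_comp_mono φ.hom i' ((Over.pullback f).map i) hφ
  have hTt : Red.IsTorus T := by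
    obtain ⟨S'', g', hf', hs', hlift, hloc⟩ := hmax.2.2.1
    haveI := hf'
    haveI := hs'
    refine ⟨S'', g' ≫ f, inferInstance, inferInstance, MTDescent.cov_comp g' f hlift hcov, fun s => ?_⟩
    obtain ⟨V, hV, r, ⟨eM⟩⟩ := hloc s
    exact ⟨V, hV, r, ⟨MTBridge.bcCongr (Category.assoc V.ι g' f).symm T ≪≫
      MTBridge.bcComp f (V.ι ≫ g') T ≪≫ MTBridge.bcMapIso (V.ι ≫ g') (Grp.mkIso' φ) ≪≫ eM⟩⟩
  have hT : Red.IsMaximalTorus i := Chev.MaxTorusBC.isMaximalTorus_descend f i hTt (by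
    rw [← hφ]
    exact isMaximalTorus_of_iso_left φ i' (Chev.Borel.isTorus_bc_scheme T f hTt) hmax)
  have hcen : ∀ (X : Over S) (t : X ⟶ T) (g : X ⟶ G), (t ≫ i) * g = g * (t ≫ i) := by
    intro X t g
    let P : Over S := Over.mk (Limits.pullback.fst X.hom f ≫ X.hom)
    let p : P ⟶ X := Over.homMk (Limits.pullback.fst X.hom f) rfl
    have hp : CoverMap.Covers p.left := (CoverMap.covers_of_hcov ⟨S', f, 𝟙 _, Category.id_comp _, hfs, hf, hcov⟩).of_isPullback
      (IsPullback.of_hasPullback X.hom f)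
    haveI := CoverMap.epi_over hp
    rw [← cancel_epi p]
    let l : (Over.map f).obj (Over.mk (Limits.pullback.snd X.hom f)) ≅ P := Over.isoMk (Iso.refl _) (by
      show 𝟙 _ ≫ Limits.pullback.fst X.hom f ≫ X.hom = Limits.pullback.snd X.hom f ≫ f
      rw [Category.id_comp, Limits.pullback.condition])
    rw [← cancel_epi l.hom]
    refine MTBridge.toBC_inj f ?_
    simp only [MonObj.comp_mul]
    rw [MTBridge.toBC_mul, MTBridge.toBC_mul, ← Category.assoc p t i, ← Category.assoc l.hom (p ≫ t) i,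
      MTBridge.toBC_comp, ← hφ, ← Category.assoc, hc]
  exact ⟨T, hg, i, hT, hcen, fun R _ j _ _ hR =>
    MTTorus.exists_factor_maximalTorus i hT hR j fun X t x => hcen X t (x ≫ j)⟩

end Groth.Agent.S8433
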