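import Groth.Statements.S2958
import Groth.Agent.RootBase.Main
import Groth.Agent.S3002
import Groth.Agent.RedCartan.Global
-- import your own Groth.Agent.* helpers here

set_option autoImplicit false
open CategoryTheory MonoidalCategory CartesianMonoidalCategory MonObj GrpObj AlgebraicGeometry
universe u
open RedX

set_option backward.isDefEq.respectTransparency false

namespace Groth.Agent.S2958

/-- Let G be a reductive group scheme over S. Then G is splittable locally for the etale topology on S:
every point of S is in the image of an etale morphism U -> S over which G acquires a splitting (here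
a splitting is the prelude's group-level structure Red.SplitRed, which packages a split maximal
torus, the root datum and the root homomorphisms). -/
theorem result {S : Scheme.{u}} (G : Over S) [GrpObj G] (hG : Red.IsReductive G)
    (s : S) : ∃ (U : Scheme.{u}) (f : U ⟶ S) (_ : Etale f), s ∈ Set.range f.base ∧
      Nonempty (Red.SplitRed ((Over.pullback f).obj G)) := by
  haveI := hG.1
  haveI := hG.2.1
  obtain ⟨A, _, u, hu, ⟨a, ha⟩, -, B, _, v, hv, hvs, T, _, i, hT, r, ⟨E⟩⟩ :=
    S3002.result S G (fun t => RedCartan.isConnected_fibre_of_isReductive hG t) s (hG.2.2 s)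
  haveI := hu
  haveI := hv
  obtain ⟨b, hb⟩ := hvs.surj a
  obtain ⟨U, hsU, hU⟩ := RootBase.exists_split_nhd (DynPar.isReductive_bc (v ≫ u) hG) (RootBase.isMaximalTorus_DS hT E) b
  refine ⟨_, U.ι ≫ v ≫ u, inferInstance, ⟨⟨b, hsU⟩, ?_⟩, ?_⟩
  · show u (v b) = s
    rw [hb]
    exact ha
  · exact RootBase.nonempty_splitRed_comp (v ≫ u) U.ι hG hT E (hU U.ι (by rw [U.range_ι]))

end Groth.Agent.S2958
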