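import Groth.Statements.S3420
import Groth.Agent.GeomFib.OpenCriterion
import Groth.Agent.Unibranch.DvrConn

set_option autoImplicit false
open CategoryTheory AlgebraicGeometry
universe u
open EGA43

namespace Groth.Agent.S3420

/-- Let Y be locally Noetherian, f : X ⟶ Y locally of finite type, g a section of f, X⁰_y the connected
component of f⁻¹(y) containing g(y) and X⁰ the union of the X⁰_y. If y is a point such that the
fibre over y is geometrically reduced at every point of X⁰_y and f is universally open at every
point of X⁰_y, then X⁰ is a neighbourhood of X⁰_y in X. In particular, if f is universally open and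
every fibre is geometrically reduced at the points of X⁰, then X⁰ is open in X. -/
theorem result {X Y : Scheme.{u}} [IsLocallyNoetherian Y] (f : X ⟶ Y)
    [LocallyOfFiniteType f] (g : Y ⟶ X) (hg : g ≫ f = 𝟙 Y) :
    (∀ y : Y, (∀ x ∈ connectedComponentIn (f.base ⁻¹' {y}) (g.base y), EGA43.IsUnivOpenAt f x ∧
        FBase.IsGeomReducedAt (f.fiberToSpecResidueField (f.base x)) (f.asFiber x)) →
      connectedComponentIn (f.base ⁻¹' {y}) (g.base y) ⊆ interior (MoreMor.sectionComponents f g)) ∧
    (UniversallyOpen f → (∀ x ∈ MoreMor.sectionComponents f g,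
        FBase.IsGeomReducedAt (f.fiberToSpecResidueField (f.base x)) (f.asFiber x)) →
      IsOpen (MoreMor.sectionComponents f g)) := by
  have := LocallyOfFiniteType.isLocallyNoetherian f
  have key : ∀ y : Y, (∀ x ∈ connectedComponentIn (f.base ⁻¹' {y}) (g.base y), EGA43.IsUnivOpenAt f x ∧
        FBase.IsGeomReducedAt (f.fiberToSpecResidueField (f.base x)) (f.asFiber x)) →
      connectedComponentIn (f.base ⁻¹' {y}) (g.base y) ⊆ interior (MoreMor.sectionComponents f g) := by
    intro y hyp x hx
    refine mem_interior_iff_mem_nhds.mpr (Groth.Agent.GeomFib.mem_nhds_of_forall_generization fun η hη => ?_)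
    obtain ⟨O, hηO, hO⟩ := Groth.Agent.GeomFib.exists_open_mem_sectionComponents f g hg
      (Groth.Agent.Unibranch.mem_sectionComponents_of_generization' f g hg y hyp
        (connectedComponentIn_subset (f.base ⁻¹' {y}) _ hx) hx hη)
    exact ⟨O, hηO, fun z hz hηz => hO z hz (hηz.map f.continuous)⟩
  refine ⟨key, fun hu hred => isOpen_iff_mem_nhds.mpr fun x hx => mem_interior_iff_mem_nhds.mp
    (key (f.base x) (fun z hz => ⟨fun Y' g' z' _ U hU => ?_, hred z ?_⟩) hx)⟩
  · exact (Limits.pullback.snd f g').isOpenMap.image_mem_nhds hU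
  · have hzx : f.base z = f.base x := connectedComponentIn_subset (f.base ⁻¹' {f.base x}) _ hz
    show z ∈ connectedComponentIn (f.base ⁻¹' {f.base z}) (g.base (f.base z))
    rw [hzx]; exact hz

end Groth.Agent.S3420
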