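import Groth.Statements.S1327
import Groth.Agent.GeomFib.SectionConn
import Groth.Agent.S3420
import Groth.Agent.FlatSpread.LimScheme
import Groth.Agent.FlatMor.ReducedDescent

set_option autoImplicit false
universe u
open FlatMor

namespace Groth.Agent.S1327

open AlgebraicGeometry CategoryTheory Limits in
/-- Let f be flat and of finite presentation with a section s, and let y be a point of the target whose
fibre is geometrically reduced. Then the section components of (f, s) contain an open neighbourhood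
of the connected component of s y in the fibre over y. -/
theorem result {X Y : Scheme.{u}} (f : X ⟶ Y) (s : Y ⟶ X) (hs : s ≫ f = 𝟙 Y)
    [LocallyOfFinitePresentation f] [QuasiCompact f] [QuasiSeparated f] [Flat f] (y : Y)
    (hy : GeometricallyReduced (f.fiberToSpecResidueField y)) :
    connectedComponentIn (f ⁻¹' {y}) (s y) ⊆ interior (MoreMor.sectionComponents f s) := by
  intro x hx
  have hxy : f x = y := connectedComponentIn_subset (f ⁻¹' {y}) _ hx
  obtain ⟨V, hV, hyV, -⟩ := exists_isAffineOpen_mem_and_subset (X := Y) (U := ⊤) (x := y) trivial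
  have hsq : IsPullback (f ⁻¹ᵁ V).ι (f ∣_ V ≫ hV.isoSpec.hom) f hV.fromSpec :=
    (isPullback_morphismRestrict f V).flip.of_iso (Iso.refl _) (Iso.refl _) hV.isoSpec (Iso.refl _)
      (by simp) (by simp) (by simp) (by simp [hV.isoSpec_hom_fromSpec])
  -- the data over the affine base
  let A := Γ(Y, V)
  let f' : (f ⁻¹ᵁ V).toScheme ⟶ Spec A := f ∣_ V ≫ hV.isoSpec.hom
  let g' : Spec A ⟶ (f ⁻¹ᵁ V).toScheme :=
    hsq.lift (hV.fromSpec ≫ s) (𝟙 _) (by rw [Category.assoc, hs, Category.comp_id, Category.id_comp])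
  have hg' : g' ≫ f' = 𝟙 _ := hsq.lift_snd _ _ _
  have hLfp : LocallyOfFinitePresentation f' := MorphismProperty.of_isPullback hsq ‹_›
  have hQc : QuasiCompact f' := MorphismProperty.of_isPullback hsq ‹_›
  have hQs : QuasiSeparated f' := MorphismProperty.of_isPullback hsq ‹_›
  have hFl : Flat f' := MorphismProperty.of_isPullback hsq ‹_›
  have : LocallyOfFinitePresentation (g' ≫ f') := by rw [hg']; infer_instance
  have : QuasiCompact (g' ≫ f') := by rw [hg']; infer_instance
  have : QuasiSeparated (g' ≫ f') := by rw [hg']; infer_instance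
  -- a flat model over a noetherian base
  open Groth.Agent.ConsEngine Groth.Agent.LimModel in
  have : IsCofiltered (FgSub A)ᵒᵖ := isCofiltered_op_of_isFiltered _
  open Groth.Agent.ConsEngine Groth.Agent.LimModel in
  have : ∀ i : (FgSub A)ᵒᵖ, CompactSpace ((fgDiagram A).obj i) := fun i => inferInstance
  open Groth.Agent.ConsEngine Groth.Agent.LimModel in
  have : ∀ i : (FgSub A)ᵒᵖ, QuasiSeparatedSpace ((fgDiagram A).obj i) := fun i => inferInstance
  open Groth.Agent.ConsEngine Groth.Agent.LimModel in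
  have : @LocallyOfFinitePresentation _ (fgCone A).pt f' := hLfp
  open Groth.Agent.ConsEngine Groth.Agent.LimModel in
  have : @QuasiCompact _ (fgCone A).pt f' := hQc
  open Groth.Agent.ConsEngine Groth.Agent.LimModel in
  have : @QuasiSeparated _ (fgCone A).pt f' := hQs
  open Groth.Agent.ConsEngine Groth.Agent.LimModel in
  have : @LocallyOfFinitePresentation _ (fgCone A).pt (g' ≫ f') := ‹LocallyOfFinitePresentation (g' ≫ f')›
  open Groth.Agent.ConsEngine Groth.Agent.LimModel in
  have : @QuasiCompact _ (fgCone A).pt (g' ≫ f') := ‹QuasiCompact (g' ≫ f')›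
  open Groth.Agent.ConsEngine Groth.Agent.LimModel in
  have : @QuasiSeparated _ (fgCone A).pt (g' ≫ f') := ‹QuasiSeparated (g' ≫ f')›
  open Groth.Agent.ConsEngine Groth.Agent.LimModel in
  obtain ⟨j, T₀, X₀, g₀, f₀, qX, qT, _, _, _, _, _, _, hX, hT⟩ :=
    exists_model_mor_cone (fgDiagram A) (fgCone A) (fgIsLimit A) g' (f' : _ ⟶ (fgCone A).pt)
  have : CompactSpace X₀ := QuasiCompact.compactSpace_of_compactSpace f₀
  have hid : IsPullback ((Groth.Agent.LimModel.fgCone A).π.app j) (𝟙 (Groth.Agent.LimModel.fgCone A).pt)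
      (𝟙 ((Groth.Agent.LimModel.fgDiagram A).obj j)) ((Groth.Agent.LimModel.fgCone A).π.app j) :=
    IsPullback.of_id_snd
  have : @Flat _ (Groth.Agent.LimModel.fgCone A).pt f' := hFl
  obtain ⟨k, hk⟩ := Groth.Agent.FlatSpread.exists_flat (Groth.Agent.LimModel.fgDiagram A) (Groth.Agent.LimModel.fgCone A)
    (Groth.Agent.LimModel.fgIsLimit A) f₀ (𝟙 _) (X := (f ⁻¹ᵁ V).toScheme) (Y := (Groth.Agent.LimModel.fgCone A).pt) (f := f')
    hid hX
  obtain ⟨i, φ, Xi, Yi, fi, gi, pY, pX, hpY, hpX, _⟩ :=
    Groth.Agent.LimDesc.exists_descend (Groth.Agent.LimModel.fgDiagram A) (𝟙 _) f₀ @Flat k hk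
  have : IsIso gi := hpY.isIso_snd_of_isIso
  have hpY' : pY = gi ≫ (Groth.Agent.LimModel.fgDiagram A).map φ := by rw [← hpY.w, Category.comp_id]
  have : AlgebraicGeometry.IsNoetherian ((Groth.Agent.LimModel.fgDiagram A).obj i) := by
    have : Algebra.FiniteType ℤ ↥(i.unop.1 : Subalgebra ℤ A) := (Subalgebra.fg_iff_finiteType _).mp i.unop.2
    have : IsNoetherianRing ↥(i.unop.1 : Subalgebra ℤ A) := Algebra.FiniteType.isNoetherianRing ℤ _
    exact inferInstanceAs (AlgebraicGeometry.IsNoetherian (Spec (CommRingCat.of ↥(i.unop.1 : Subalgebra ℤ A))))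
  let τ := g₀ ≫ f₀
  -- the base of the section
  let T := pullback τ pY
  have : IsLocallyNoetherian Yi := LocallyOfFiniteType.isLocallyNoetherian gi
  have : IsLocallyNoetherian T := LocallyOfFiniteType.isLocallyNoetherian (pullback.snd τ pY)
  have : LocallyOfFinitePresentation fi := MorphismProperty.of_isPullback hpX ‹LocallyOfFinitePresentation f₀›
  have : QuasiCompact fi := MorphismProperty.of_isPullback hpX ‹QuasiCompact f₀›
  have : QuasiSeparated fi := MorphismProperty.of_isPullback hpX ‹QuasiSeparated f₀›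
  let f₁ := pullback.snd fi (pullback.snd τ pY)
  let l : T ⟶ Xi := hpX.lift (pullback.fst τ pY ≫ g₀) (pullback.snd τ pY) (by rw [Category.assoc]; exact pullback.condition)
  have hl : l ≫ fi = pullback.snd τ pY := hpX.lift_snd _ _ _
  let g₁ : T ⟶ pullback fi (pullback.snd τ pY) := pullback.lift l (𝟙 _) (by rw [hl, Category.id_comp])
  have hg₁ : g₁ ≫ f₁ = 𝟙 _ := pullback.lift_snd _ _ _
  let σi : Spec A ⟶ Yi := (Groth.Agent.LimModel.fgCone A).π.app i ≫ inv gi
  have hσi : σi ≫ pY = (Groth.Agent.LimModel.fgCone A).π.app j := by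
    rw [hpY', Category.assoc, IsIso.inv_hom_id_assoc]
    exact (Groth.Agent.LimModel.fgCone A).w φ
  have hτ : qT ≫ τ = (Groth.Agent.LimModel.fgCone A).π.app j := by
    rw [← Category.assoc, hT.w, Category.assoc, hX.w, ← Category.assoc]
    exact (congrArg (fun t => t ≫ (Groth.Agent.LimModel.fgCone A).π.app j) hg').trans (Category.id_comp _)
  let qTi : Spec A ⟶ T := pullback.lift qT σi (by rw [hτ, hσi])
  let qXi : (f ⁻¹ᵁ V).toScheme ⟶ Xi := hpX.lift qX (f' ≫ σi) (by rw [Category.assoc, hσi]; exact hX.w)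
  have hXi : IsPullback qXi f' fi σi := IsPullback.of_right (by
    rw [hσi, show qXi ≫ pX = qX from hpX.lift_fst _ _ _]; exact hX) (hpX.lift_snd _ _ _) hpX
  let e : (f ⁻¹ᵁ V).toScheme ⟶ pullback fi (pullback.snd τ pY) :=
    pullback.lift qXi (f' ≫ qTi) (by
      rw [Category.assoc, show qTi ≫ pullback.snd τ pY = σi from pullback.lift_snd _ _ _]; exact hXi.w)
  have hsq₁ : IsPullback e f' f₁ qTi := IsPullback.of_right (by
    rw [show e ≫ pullback.fst fi (pullback.snd τ pY) = qXi from pullback.lift_fst _ _ _,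
      show qTi ≫ pullback.snd τ pY = σi from pullback.lift_snd _ _ _]; exact hXi)
    (pullback.lift_snd _ _ _) (IsPullback.of_hasPullback _ _)
  have hge : g' ≫ e = qTi ≫ g₁ := by
    apply pullback.hom_ext
    · simp only [e, g₁, Category.assoc, pullback.lift_fst]
      apply hpX.hom_ext
      · rw [Category.assoc, Category.assoc, show qXi ≫ pX = qX from hpX.lift_fst _ _ _,
          show l ≫ pX = pullback.fst τ pY ≫ g₀ from hpX.lift_fst _ _ _, pullback.lift_fst_assoc]
        exact hT.w.symm
      · rw [Category.assoc, Category.assoc, show qXi ≫ fi = f' ≫ σi from hpX.lift_snd _ _ _, hl,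
          pullback.lift_snd, ← Category.assoc, hg', Category.id_comp]
    · simp only [e, g₁, Category.assoc, pullback.lift_snd, Category.comp_id]
      rw [← Category.assoc, hg', Category.id_comp]
  -- the point and its fibre
  obtain ⟨y', hy'⟩ : ∃ y' : Spec A, hV.fromSpec y' = y := ⟨hV.primeIdealOf ⟨y, hyV⟩, hV.fromSpec_primeIdealOf ⟨y, hyV⟩⟩
  have hred₀ : GeometricallyReduced (f₁.fiberToSpecResidueField (qTi y')) := by
    have h1 : GeometricallyReduced (f'.fiberToSpecResidueField y') :=
      MorphismProperty.of_isPullback (Groth.Agent.ConsEngine.isPullback_fiberBC hsq y') (hy' ▸ hy)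
    exact Groth.Agent.FlatMor.geometricallyReduced_of_baseChange (qTi.residueFieldMap y').hom
      (Groth.Agent.ConsEngine.isPullback_fiberBC hsq₁ y')
  have hint := (Groth.Agent.S3420.result f₁ g₁ hg₁).1 (qTi y') fun z hz => by
    refine ⟨fun Y'' g'' z' _ U hU => (Limits.pullback.snd f₁ g'').isOpenMap.image_mem_nhds hU, ?_⟩
    have key : ∀ (a : ↥T) (q : ↥(f₁.fiber a)), GeometricallyReduced (f₁.fiberToSpecResidueField a) →
        FBase.IsGeomReducedAt (k := T.residueField a) (f₁.fiberToSpecResidueField a) q := fun a q h K iK iA x' _ => by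
      have : AlgebraicGeometry.IsReduced (@FBase.bc _ _ _ (f₁.fiberToSpecResidueField a) K iK iA) :=
        h.geometrically_isReduced _ (pullback.fst _ _) (pullback.snd _ _) (.of_hasPullback _ _)
      exact @AlgebraicGeometry.isReduced_stalk_of_isReduced _ this x'
    exact key _ _ ((show f₁.base z = qTi y' from connectedComponentIn_subset (f₁.base ⁻¹' {qTi y'}) _ hz).symm ▸ hred₀)
  have hbc₁ := Groth.Agent.GeomFib.sectionComponents_baseChange f₁ g₁ hg₁ hsq₁ hg' hge
  have hbc := Groth.Agent.GeomFib.sectionComponents_baseChange f s hs hsq hg' (hsq.lift_fst _ _ _)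
  let x' : (f ⁻¹ᵁ V).toScheme := ⟨x, show f x ∈ V from hxy ▸ hyV⟩
  have hx'y : f' x' = y' := hV.fromSpec.isOpenEmbedding.injective (by
    rw [← Scheme.Hom.comp_apply, ← hsq.w, Scheme.Hom.comp_apply, hy']; exact hxy)
  have hx' : x' ∈ MoreMor.sectionComponents f' g' := by
    rw [hbc]
    show x ∈ connectedComponentIn (f ⁻¹' {f x}) (s (f x))
    rw [hxy]; exact hx
  have hex : e x' ∈ connectedComponentIn (f₁.base ⁻¹' {qTi y'}) (g₁.base (qTi y')) := by
    have h1 : e x' ∈ MoreMor.sectionComponents f₁ g₁ := hbc₁.le hx'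
    have h2 : f₁ (e x') = qTi y' := by rw [← Scheme.Hom.comp_apply, hsq₁.w, Scheme.Hom.comp_apply, hx'y]
    rw [← h2]; exact h1
  have h3 : x' ∈ interior (MoreMor.sectionComponents f' g') := by
    rw [hbc₁]; exact preimage_interior_subset_interior_preimage e.continuous (hint hex)
  obtain ⟨O, hOsub, hO, hxO⟩ := mem_interior.mp h3
  refine mem_interior.mpr ⟨(f ⁻¹ᵁ V).ι '' O, ?_, (f ⁻¹ᵁ V).ι.isOpenEmbedding.isOpenMap _ hO, x', hxO, rfl⟩
  rintro _ ⟨z, hz, rfl⟩
  exact hbc.le (hOsub hz)

end Groth.Agent.S1327
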