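import Groth.Statements.S15351
import Groth.Agent.S1327
import Groth.Agent.Rigid.Smooth

set_option autoImplicit false
open Groth.Agent
universe u
open CategoryTheory CategoryTheory.Limits AlgebraicGeometry
open MoreMor

namespace Groth.Agent.S15351

/-- Let f : X ⟶ S be a smooth morphism of schemes, X quasi-separated, with a section e : S ⟶ X, and let
X⁰ ⊆ X be the union over the points s of S of the connected component of e(s) in the fibre f⁻¹(s)
with its subspace topology. Then X⁰ is open in X; no quasi-compactness is assumed. (The published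
statement is for an algebraic space X smooth over S; this row is the case of a scheme.) -/
theorem result {S X : Scheme.{u}} [QuasiSeparatedSpace ↥X] (f : X ⟶ S) [Smooth f]
    (e : S ⟶ X) (he : e ≫ f = 𝟙 S) :
    IsOpen (MoreMor.sectionComponents f e) := by
  refine isOpen_iff_forall_mem_open.2 fun x hx ↦ ?_
  have he' : ∀ t, f (e t) = t := fun t ↦ GeomFib.section_apply f e he t
  obtain ⟨V, hV, hsV, -⟩ := exists_isAffineOpen_mem_and_subset (X := S) (U := ⊤) (x := f x) trivial
  obtain ⟨U, hUc, hUV, heU, hxU, hconn⟩ := GeomFib.exists_qc_open_connected f (f ⁻¹ᵁ V)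
    (fun z (hz : f z = f x) ↦ show f z ∈ V from hz ▸ hsV) (he' (f x)) hx
  obtain ⟨V', hV', hsV', hV'sub⟩ := exists_isAffineOpen_mem_and_subset (X := S) (U := V ⊓ e ⁻¹ᵁ U) (x := f x) ⟨hsV, heU⟩
  let U' : X.Opens := U ⊓ f ⁻¹ᵁ V'
  let h : U'.toScheme ⟶ V'.toScheme := X.homOfLE inf_le_right ≫ f ∣_ V'
  have hh : h ≫ V'.ι = U'.ι ≫ f := by
    rw [Category.assoc, morphismRestrict_ι, Scheme.homOfLE_ι_assoc]
  have hU'c : IsCompact (U' : Set X) := by
    have : CompactSpace U.toScheme := isCompact_iff_compactSpace.mp hUc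
    have : IsAffine V.toScheme := hV
    let k : U.toScheme ⟶ V.toScheme := X.homOfLE hUV ≫ f ∣_ V
    have hk : k ≫ V.ι = U.ι ≫ f := by rw [Category.assoc, morphismRestrict_ι, Scheme.homOfLE_ι_assoc]
    have : QuasiCompact k := (quasiCompact_iff_compactSpace k).mpr inferInstance
    have h1 := (QuasiCompact.isCompact_preimage (f := k) _ (V.ι ⁻¹ᵁ V').2
      (hV'.preimage_of_isOpenImmersion V.ι (fun a ha ↦ by rw [V.opensRange_ι]; exact (hV'sub ha).1)).isCompact).image U.ι.continuous
    convert h1 using 1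
    ext a
    constructor
    · intro ha
      refine ⟨⟨a, ha.1⟩, ?_, rfl⟩
      show V.ι (k ⟨a, ha.1⟩) ∈ V'
      rw [← Scheme.Hom.comp_apply, hk]; exact ha.2
    · rintro ⟨b, hb, rfl⟩
      refine ⟨b.2, ?_⟩
      show f (U.ι b) ∈ V'
      rw [← Scheme.Hom.comp_apply, ← hk]; exact hb
  have : CompactSpace U'.toScheme := isCompact_iff_compactSpace.mp hU'c
  have : IsAffine V'.toScheme := hV'
  have : QuasiCompact h := (quasiCompact_iff_compactSpace h).mpr inferInstance
  have : QuasiSeparatedSpace U'.toScheme := QuasiSeparatedSpace.of_isOpenEmbedding U'.ι.isOpenEmbedding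
  have : QuasiSeparated h := (quasiSeparated_iff_quasiSeparatedSpace h).mpr inferInstance
  have hfac : Set.range (V'.ι ≫ e) ⊆ Set.range U'.ι := by
    rintro _ ⟨a, rfl⟩
    rw [U'.range_ι]
    exact ⟨(hV'sub a.2).2, show f (e a.1) ∈ V' by rw [he']; exact a.2⟩
  let l : V'.toScheme ⟶ U'.toScheme := IsOpenImmersion.lift U'.ι (V'.ι ≫ e) hfac
  have hl : l ≫ U'.ι = V'.ι ≫ e := IsOpenImmersion.lift_fac _ _ _
  have hlh : l ≫ h = 𝟙 _ := by
    rw [← cancel_mono V'.ι, Category.assoc, hh, reassoc_of% hl, he, Category.id_comp, Category.comp_id]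
  have hfib : ∀ a : U'.toScheme, f a.1 = (h a).1 := fun a ↦ by
    show (U'.ι ≫ f) a = (h ≫ V'.ι) a
    rw [hh]
  have hle : ∀ b : V'.toScheme, (l b).1 = e b.1 := fun b ↦ congrArg (fun t ↦ (ConcreteCategory.hom t.base) b) hl
  let x' : U'.toScheme := ⟨x, hxU, hsV'⟩
  have hx' : x' ∈ connectedComponentIn (h ⁻¹' {h x'}) (l (h x')) := by
    have hin : U'.ι '' (h ⁻¹' {h x'}) = (U : Set X) ∩ f ⁻¹' {f x} := by
      ext a
      constructor
      · rintro ⟨b, hb, rfl⟩
        refine ⟨b.2.1, ?_⟩
        show f b.1 = f x'.1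
        rw [hfib, hfib, show h b = h x' from hb]
      · intro ha
        refine ⟨⟨a, ha.1, show f a ∈ V' by rw [show f a = f x from ha.2]; exact hsV'⟩, Subtype.ext ?_, rfl⟩
        rw [← hfib, ← hfib]; exact ha.2
    have hpre : _root_.IsPreconnected (h ⁻¹' {h x'}) := by
      rw [← U'.ι.isEmbedding.isInducing.isPreconnected_image, hin]; exact hconn
    exact hpre.subset_connectedComponentIn (GeomFib.section_apply h l hlh _) subset_rfl rfl
  have : Flat h := inferInstance
  have : LocallyOfFinitePresentation h := inferInstance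
  have : Smooth h := inferInstance
  have : Smooth (h.fiberToSpecResidueField (h x')) := MorphismProperty.pullback_snd _ _ ‹_›
  have := Rigid.geometricallyReduced_of_smooth (h.fiberToSpecResidueField (h x'))
  have hint : x' ∈ interior (MoreMor.sectionComponents h l) :=
    S1327.result h l hlh (h x') inferInstance hx'
  obtain ⟨O, hOsub, hO, hxO⟩ := mem_interior.1 hint
  refine ⟨U'.ι '' O, ?_, U'.ι.isOpenEmbedding.isOpenMap _ hO, x', hxO, rfl⟩
  rintro _ ⟨a, ha, rfl⟩
  show a.1 ∈ connectedComponentIn (f ⁻¹' {f a.1}) (e (f a.1))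
  rw [hfib, ← hle]
  have h2 := (isPreconnected_connectedComponentIn (F := h ⁻¹' {h a}) (x := l (h a))).image U'.ι U'.ι.continuous.continuousOn
  refine h2.subset_connectedComponentIn ⟨l (h a), mem_connectedComponentIn (GeomFib.section_apply h l hlh _), rfl⟩ ?_
    ⟨a, hOsub ha, rfl⟩
  rintro _ ⟨b, hb, rfl⟩
  show f b.1 = (h a).1
  rw [hfib, show h b = h a from connectedComponentIn_subset (h ⁻¹' {h a}) _ hb]

end Groth.Agent.S15351
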