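import Groth.Statements.S5326
import Groth.Agent.GrpDim.Construct
import Groth.Agent.GrpDim.Represent
import Groth.Agent.ConsTop.Maps

set_option autoImplicit false
universe u
open CategoryTheory CategoryTheory.Limits MonoidalCategory CartesianMonoidalCategory MonObj GrpObj AlgebraicGeometry
open SGA3

namespace Groth.Agent.S5326

/-- Let G be an S-group scheme locally of finite presentation over S, and suppose the neutral component
subfunctor of G is representable: there is a monomorphism i : G⁰ → G of S-schemes such that a point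
g : T → G factors through i exactly when the image of the underlying map of g lies in the union of
the neutral components of the fibres G_s. Then i is an open immersion and G⁰ is quasi-compact over
S. -/
theorem result (S : Scheme.{u}) (G : Over S) [GrpObj G]
    [LocallyOfFinitePresentation G.hom] (G0 : Over S) (i : G0 ⟶ G) [Mono i]
    (hrep : ∀ (T : Over S) (g : T ⟶ G), (∃ z : T ⟶ G0, z ≫ i = g) ↔ Set.range g.left.base ⊆ SGA3x.neutralSet G) :
    IsOpenImmersion i.left ∧ QuasiCompact G0.hom := by
  obtain ⟨hi, hrange⟩ := GrpDim.Represents.isOpenImmersion (i := i) hrep (GrpDim.isIndConstructible_neutralSet G)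
  refine ⟨hi, ?_⟩
  choose V P hP ψ E hV hsV hψ hE hqc him using GrpDim.exists_image_eq G
  have hVtop : ⨆ s, V s = ⊤ := top_unique fun x _ => TopologicalSpace.Opens.mem_iSup.2 ⟨x, hsV x⟩
  refine (IsZariskiLocalAtTarget.iff_of_iSup_eq_top (P := @QuasiCompact) V hVtop).2 fun s => ?_
  have : IsAffine (V s : Scheme.{u}) := hV s
  refine (HasAffineProperty.iff_of_isAffine (P := @QuasiCompact)).2 ?_
  have := hP s
  have hc : IsCompact (E s) := by
    obtain ⟨X', f, hX', hf⟩ := Groth.Agent.ConsTop.exists_affine_range_eq (E := E s)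
      (Groth.Agent.ConsTop.isOpen_cons_of_indCons
        (Groth.Agent.ConsEngine.indCons_of_isLocallyConstructible (hE s)).2)
    rw [← hf]
    exact isCompact_range f.continuous
  have hc' : IsCompact ((G.hom ⁻¹ᵁ V s).ι '' (ψ s '' E s)) :=
    (hc.image (ψ s).continuous).image (G.hom ⁻¹ᵁ V s).ι.continuous
  rw [him s, Set.image_preimage_eq_inter_range, Scheme.Opens.range_ι] at hc'
  have hc'' : IsCompact ((G0.hom ⁻¹ᵁ V s : Set G0.left)) := by
    rw [i.left.isOpenEmbedding.isEmbedding.isInducing.isCompact_iff]
    convert hc' using 1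
    rw [← hrange]
    ext x
    constructor
    · rintro ⟨w, hw, rfl⟩
      refine ⟨⟨w, rfl⟩, ?_⟩
      show G.hom (i.left w) ∈ V s
      rw [← Scheme.Hom.comp_apply, Over.w i]
      exact hw
    · rintro ⟨⟨w, rfl⟩, hw⟩
      refine ⟨w, ?_, rfl⟩
      show G0.hom w ∈ V s
      rw [← Over.w i, Scheme.Hom.comp_apply]
      exact hw
  exact isCompact_iff_compactSpace.1 hc''

end Groth.Agent.S5326
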