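import Groth.Statements.S5327
import Groth.Agent.GrpDim.FibreDiv

set_option autoImplicit false
universe u
open CategoryTheory CategoryTheory.Limits MonoidalCategory CartesianMonoidalCategory MonObj GrpObj AlgebraicGeometry
open SGA3

namespace Groth.Agent.S5327

/-- Let G be an S-group scheme whose fibres are locally of finite type over κ(s), and let i : H → G be a
homomorphism of S-group schemes which is an open immersion (an open subgroup scheme). Then the union
G⁰ of the neutral components of the fibres of G is contained in the image of i, and G⁰ is the image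
under i of the union H⁰ of the neutral components of the fibres of H. -/
theorem result (S : Scheme.{u}) (G H : Over S) [GrpObj G] [GrpObj H]
    (hG : ∀ s : S, LocallyOfFiniteType (G.hom.fiberToSpecResidueField s)) (i : H ⟶ G) [IsMonHom i]
    [IsOpenImmersion i.left] :
    SGA3x.neutralSet G ⊆ Set.range i.left.base ∧ i.left.base '' SGA3x.neutralSet H = SGA3x.neutralSet G := by
  have he : ∀ s : S, i.left (η[H].left s) = η[G].left s := fun s =>
    congrArg (fun k : 𝟙_ (Over S) ⟶ G => k.left s) (IsMonHom.one_hom (f := i))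
  have hsub : SGA3x.neutralSet G ⊆ Set.range i.left.base := by
    intro x hx
    obtain ⟨w, hwx, hw1, hw2⟩ := GrpDim.exists_div_of_fibre G hG i.left.opensRange
      ⟨η[H].left (G.hom x), he _⟩ ((GrpDim.neutralSet_iff G x).1 hx)
    let T' : Over S := Over.mk ((G ⊗ G).left.fromSpecResidueField w ≫ (G ⊗ G).hom)
    let c : T' ⟶ G ⊗ G := Over.homMk ((G ⊗ G).left.fromSpecResidueField w)
    let t : T'.left := IsLocalRing.closedPoint ((G ⊗ G).left.residueField w)
    have hct : ∀ t', c.left t' = w := fun t' => Scheme.fromSpecResidueField_apply w t'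
    have hl : ∀ q : G ⊗ G ⟶ G, q.left w ∈ Set.range i.left → ∃ a : T' ⟶ H, a ≫ i = c ≫ q := by
      intro q hq
      have hr : Set.range (c ≫ q).left ⊆ Set.range i.left := by
        rintro _ ⟨t', rfl⟩
        rw [Over.comp_left, Scheme.Hom.comp_apply, hct]
        exact hq
      have hfac := IsOpenImmersion.lift_fac i.left (c ≫ q).left hr
      refine ⟨Over.homMk (IsOpenImmersion.lift i.left (c ≫ q).left hr) ?_, by ext1; exact hfac⟩
      rw [← Over.w i, reassoc_of% hfac]
      exact Over.w (c ≫ q)
    obtain ⟨a₁, ha₁⟩ := hl (fst G G) hw1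
    obtain ⟨a₂, ha₂⟩ := hl μ[G] hw2
    have ha : (a₁⁻¹ * a₂) ≫ i = c ≫ snd G G := by
      rw [MonObj.mul_comp, GrpObj.inv_comp, ha₁, ha₂,
        show c ≫ μ[G] = (c ≫ fst G G) * (c ≫ snd G G) by
          rw [Hom.mul_def, ← comp_lift_assoc, lift_fst_snd, Category.id_comp],
        inv_mul_cancel_left]
    refine ⟨(a₁⁻¹ * a₂).left t, ?_⟩
    refine (congrArg (fun k : T' ⟶ G => k.left t) ha).trans ?_
    show (c ≫ snd G G).left t = x
    rw [Over.comp_left, Scheme.Hom.comp_apply, hct, hwx]
  refine ⟨hsub, subset_antisymm ?_ ?_⟩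
  · rintro _ ⟨h, hh, rfl⟩
    rw [GrpDim.neutralSet_iff] at hh ⊢
    have hG' : G.hom (i.left h) = H.hom h := by rw [← Scheme.Hom.comp_apply, Over.w i]
    rw [hG']
    refine (isPreconnected_connectedComponentIn.image _
      i.left.continuous.continuousOn).subset_connectedComponentIn
      ⟨_, mem_connectedComponentIn (GrpDim.hom_section H _), he _⟩ ?_ ⟨h, hh, rfl⟩
    rintro _ ⟨v, hv, rfl⟩
    have hv' : v ∈ H.hom.base ⁻¹' {H.hom h} := connectedComponentIn_subset _ _ hv
    show G.hom (i.left v) = H.hom h
    rw [← Scheme.Hom.comp_apply, Over.w i]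
    exact hv'
  · intro x hx
    obtain ⟨h, rfl⟩ := hsub hx
    refine ⟨h, ?_, rfl⟩
    rw [GrpDim.neutralSet_iff] at hx ⊢
    have hG' : G.hom (i.left h) = H.hom h := by rw [← Scheme.Hom.comp_apply, Over.w i]
    rw [hG'] at hx
    have hC : GrpDim.comp0 G (H.hom h) ⊆ Set.range i.left := fun v hv => by
      refine hsub ?_
      rw [← GrpDim.neutralSet_inter G] at hv
      exact hv.1
    have hpre : _root_.IsPreconnected (i.left ⁻¹' GrpDim.comp0 G (H.hom h)) :=
      isPreconnected_connectedComponentIn.preimage_of_isOpenMap i.left.isOpenEmbedding.injective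
        i.left.isOpenEmbedding.isOpenMap hC
    refine hpre.subset_connectedComponentIn ?_ ?_ hx
    · show i.left (η[H].left (H.hom h)) ∈ GrpDim.comp0 G (H.hom h)
      rw [he]
      exact mem_connectedComponentIn (GrpDim.hom_section G _)
    · intro v hv
      have hv' : i.left v ∈ G.hom.base ⁻¹' {H.hom h} := connectedComponentIn_subset _ _ hv
      refine Eq.trans ?_ hv'
      show H.hom v = G.hom (i.left v)
      rw [← Scheme.Hom.comp_apply, Over.w i] 

end Groth.Agent.S5327
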