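import Groth.Statements.S5334
import Groth.Agent.GrpDim.Translate
import Groth.Agent.GrpAct.SeparatedAt

set_option autoImplicit false
universe u
open CategoryTheory CategoryTheory.Limits MonoidalCategory CartesianMonoidalCategory MonObj GrpObj AlgebraicGeometry
open SGA3

namespace Groth.Agent.S5334

/-- Let G be an S-group scheme locally of finite presentation over S such that s ↦ dim G_s is locally
constant on S, acting on an S-scheme X, and let U be an open subscheme of X separated over S. Let
G⁰·U be the image under the action G ×_S X → X of the set of points whose projection to G lies in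
the union G⁰ of the neutral components of the fibres and whose projection to X lies in U. Then G⁰·U
is open in X and the open subscheme it carries is separated over S. -/
theorem result (S : Scheme.{u}) (G X : Over S) [GrpObj G]
    [LocallyOfFinitePresentation G.hom]
    (hdim : IsLocallyConstant (fun s : S => topologicalKrullDim ↥(G.hom.base ⁻¹' {s})))
    (a : AlgGrp.Action G X) (U : X.left.Opens) (hU : IsSeparated (U.ι ≫ X.hom)) :
    ∃ V : X.left.Opens, (V : Set X.left) =
        a.act.left.base '' {z : ↥(G ⊗ X).left | (fst G X).left.base z ∈ SGA3x.neutralSet G ∧ (snd G X).left.base z ∈ U} ∧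
      IsSeparated (V.ι ≫ X.hom) := by
  open Groth.Agent.GrpDim in
  refine ⟨⟨translates G a U, isOpen_translates G a U hdim⟩, translates_eq G a U,
    Groth.Agent.GrpAct.isSeparated_opens X _ fun z hz h1 h2 => ?_⟩
  obtain ⟨w₁, ⟨hw1U, hw1N⟩, hw1z⟩ := h1
  obtain ⟨w₂, ⟨hw2U, hw2N⟩, hw2z⟩ := h2
  let Z := X ⊗ X
  let G'' := (Over.pullback Z.hom).obj G
  have : LocallyOfFinitePresentation G''.hom :=
    inferInstanceAs (LocallyOfFinitePresentation (pullback.snd G.hom Z.hom))
  obtain ⟨n, hn, -⟩ := exists_dim_le G'' z
  obtain ⟨o, ho, hoz, hC, -, -⟩ := exists_generic G'' z hn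
  have hspec : ∀ p ∈ comp0 G'' z, o ⤳ p := fun p hp => specializes_iff_mem_closure.2 (hC.le hp).1
  have key : ∀ (p : Z ⟶ X) (w : (G ⊗ X).left), a.act.left w ∈ U → w ∈ neutralOver G X →
      (snd G X).left w = p.left z → (lift (fst G Z) (snd G Z ≫ p) ≫ a.act).left o ∈ U := by
    intro p w hwU hwN hwz
    obtain ⟨w', hw', hw''⟩ := Scheme.exists_preimage_of_isPullback
      (Groth.Agent.Assoc.isPullback_whiskerLeft (Z := G) p) z w hwz.symm
    have hc : lift (fst G Z) (snd G Z ≫ p) = G ◁ p := by
      apply CartesianMonoidalCategory.hom_ext <;> simp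
    have hfw : (fst G X).left w = (fst G Z).left w' := by
      rw [← hw'', ← Scheme.Hom.comp_apply, ← Over.comp_left, whiskerLeft_fst]
    have hN : w' ∈ neutralOver G Z := by
      show (fst G Z).left w' ∈ comp0 G (G.hom ((fst G Z).left w'))
      rw [← hfw]
      exact hwN
    have hw0 : w' ∈ comp0 G'' z := by
      have h := (neutralOver_eq G w').1 hN
      rwa [show G''.hom w' = z from hw'] at h
    have hmU : (lift (fst G Z) (snd G Z ≫ p) ≫ a.act).left w' ∈ U := by
      rw [hc, Over.comp_left, Scheme.Hom.comp_apply, hw'']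
      exact hwU
    exact ((hspec w' hw0).map (Scheme.Hom.continuous _)).mem_open U.2 hmU
  refine Groth.Agent.GrpAct.mem_diagonal_of_translate a hz U hU (o := o) hoz
    (key (fst X X) w₁ hw1U hw1N hw1z) (key (snd X X) w₂ hw2U hw2N hw2z) fun E hE hoE => ?_
  have hx0 : o ∈ comp0 G'' (G''.hom o) := by rw [hoz]; exact ho
  have h := isOpenAt_of_lifts G''.hom (x := o)
    (fun b hb => exists_lift G'' hx0 hb (by
      rw [bc_dim, bc_dim]
      exact eq_of_specializes hdim (hb.map Z.hom.continuous))) E (hE.mem_nhds hoE)
  rwa [hoz] at h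

end Groth.Agent.S5334
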