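import Groth.Statements.S3030
import Groth.Agent.MonoFactor.HomQuot
import Groth.Agent.FppfSource.Scheme
import Groth.Agent.S5372

import Mathlib

set_option autoImplicit false
universe u
open CategoryTheory MonoidalCategory CartesianMonoidalCategory MonObj GrpObj AlgebraicGeometry TensorProduct
open SGA3

namespace Groth.Agent.S3030

open MonObj CartesianMonoidalCategory in
theorem right_square {B : Scheme.{u}} {F G X : Over B} [GrpObj F] [GrpObj G] (u : F ⟶ G) [IsMonHom u] [Mono u]
    (p : G ⟶ X) (h : IsPullback ((u ▷ G) ≫ μ[G]) (snd F G) p p) (hN : AlgGrp.IsNormalHom u) :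
    IsPullback ((G ◁ u) ≫ μ[G]) (fst G F) p p := by
  have hl : ∀ {T : Over B} (f : T ⟶ F) (g : T ⟶ G), lift f g ≫ (u ▷ G) ≫ μ[G] = (f ≫ u) * g :=
    fun f g => MonoFactor.translation_apply u f g
  have hr : ∀ {T : Over B} (g : T ⟶ G) (f : T ⟶ F), lift g f ≫ (G ◁ u) ≫ μ[G] = g * (f ≫ u) := by
    intro T g f
    rw [Hom.mul_def, ← Category.assoc]
    congr 1
    ext <;> simp
  have hw : ∀ {T : Over B} (g : T ⟶ G) (f : T ⟶ F), (g * (f ≫ u)) ≫ p = g ≫ p := by
    intro T g f
    obtain ⟨f', hf'⟩ := hN T g f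
    rw [show g * (f ≫ u) = (f' ≫ u) * g by rw [← hf', inv_mul_cancel_right], ← hl, Category.assoc, h.w,
      ← Category.assoc, lift_snd]
  have hex : ∀ {T : Over B} (a b : T ⟶ G), a ≫ p = b ≫ p → ∃ f : T ⟶ F, b * (f ≫ u) = a := by
    intro T a b e
    let f := h.lift a b e ≫ fst F G
    have e1 : (f ≫ u) * b = a := by
      rw [← hl, show lift f b = h.lift a b e by
        apply CartesianMonoidalCategory.hom_ext
        · rw [lift_fst]
        · rw [lift_snd, h.lift_snd], h.lift_fst]
    obtain ⟨f', hf'⟩ := hN T b⁻¹ f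
    refine ⟨f', ?_⟩
    rw [← hf', _root_.inv_inv, ← e1, _root_.mul_assoc, mul_inv_cancel_left]
  refine IsPullback.of_isLimit' ⟨?_⟩ (Limits.PullbackCone.IsLimit.mk _
    (fun c => lift c.snd (hex c.fst c.snd c.condition).choose) (fun c => ?_) (fun c => lift_fst _ _)
    (fun c m h₁ h₂ => ?_))
  · rw [← Category.id_comp (((G ◁ u) ≫ μ[G]) ≫ p), ← lift_fst_snd, ← Category.assoc, hr, hw]
  · rw [hr, (hex c.fst c.snd c.condition).choose_spec]
  · apply CartesianMonoidalCategory.hom_ext
    · rw [lift_fst]; exact h₂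
    · rw [lift_snd, ← cancel_mono u]
      apply mul_left_cancel (a := c.snd)
      rw [(hex c.fst c.snd c.condition).choose_spec, ← h₁, ← h₂, ← hr, ← comp_lift_assoc, lift_fst_snd,
        Category.id_comp]

open MonObj CartesianMonoidalCategory in
theorem kernel_of_right {B : Scheme.{u}} {F G X : Over B} [GrpObj F] [GrpObj G] [GrpObj X] (u : F ⟶ G)
    [IsMonHom u] [Mono u] (p : G ⟶ X) (h : IsPullback ((G ◁ u) ≫ μ[G]) (fst G F) p p) (hp : IsMonHom p) :
    AlgGrp.IsKernel u p := by
  haveI := hp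
  have hr : ∀ {T : Over B} (g : T ⟶ G) (f : T ⟶ F), lift g f ≫ (G ◁ u) ≫ μ[G] = g * (f ≫ u) := by
    intro T g f
    rw [Hom.mul_def, ← Category.assoc]
    congr 1
    ext <;> simp
  have hsplit : ∀ {T : Over B} (z : T ⟶ G ⊗ F), z ≫ (G ◁ u) ≫ μ[G] = (z ≫ fst G F) * ((z ≫ snd G F) ≫ u) := by
    intro T z
    rw [← hr]
    congr 1
    ext <;> simp
  have h1 : ∀ {T : Over B}, toUnit T ≫ η[X] = (1 : T ⟶ G) ≫ p := by
    intro T
    rw [MonObj.one_comp, Hom.one_def]
  have hu : u ≫ p = toUnit F ≫ η[X] := by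
    rw [h1, ← one_mul u, ← Category.id_comp u, ← hr, Category.assoc, h.w, ← Category.assoc, lift_fst,
      MonObj.one_comp]
  refine IsPullback.of_isLimit' ⟨hu⟩ (Limits.PullbackCone.IsLimit.mk _
    (fun c => h.lift c.fst 1 (by rw [c.condition, ← h1, toUnit_unique c.snd (toUnit _)]) ≫ snd G F)
    (fun c => ?_) (fun c => toUnit_unique _ _) (fun c m h₁ _ => ?_))
  · have e : c.fst ≫ p = (1 : c.pt ⟶ G) ≫ p := by rw [c.condition, ← h1, toUnit_unique c.snd (toUnit _)]
    have l1 := h.lift_fst c.fst 1 e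
    have l2 := h.lift_snd c.fst 1 e
    rw [hsplit, l2, _root_.one_mul] at l1
    exact l1
  · rw [← cancel_mono u, h₁]
    have e : c.fst ≫ p = (1 : c.pt ⟶ G) ≫ p := by rw [c.condition, ← h1, toUnit_unique c.snd (toUnit _)]
    have l1 := h.lift_fst c.fst 1 e
    have l2 := h.lift_snd c.fst 1 e
    rw [hsplit, l2, _root_.one_mul] at l1
    exact l1.symm


/-- Let A be a local artinian ring, F and G group schemes flat and locally of finite type over A, and u
: F → G a homomorphism which is a quasi-compact monomorphism with F normal in G. Then there are a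
group scheme Q over A and a homomorphism p : G → Q which is faithfully flat and locally of finite
presentation, with kernel F (the square u, p, unit is cartesian); Q is separated and flat over A,
and smooth over A when G is. -/
theorem result (A : Type u) [CommRing A] [IsArtinianRing A] [IsLocalRing A]
    (F G : Over (Spec (CommRingCat.of A))) [GrpObj F] [GrpObj G] [Flat F.hom] [LocallyOfFiniteType F.hom]
    [Flat G.hom] [LocallyOfFiniteType G.hom] (u : F ⟶ G) [IsMonHom u] [Mono u] [QuasiCompact u.left]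
    (hN : AlgGrp.IsNormalHom u) :
    ∃ (Q : Over (Spec (CommRingCat.of A))) (_ : GrpObj Q) (p : G ⟶ Q), IsMonHom p ∧
      Flat p.left ∧ Surjective p.left ∧ LocallyOfFinitePresentation p.left ∧ AlgGrp.IsKernel u p ∧
      IsSeparated Q.hom ∧ Flat Q.hom ∧ (Smooth G.hom → Smooth Q.hom) := by
  let B := Spec (CommRingCat.of A)
  haveI : Subsingleton B := GrpField.subsingleton_spec_local_artin A
  haveI : IsLocallyNoetherian B := inferInstance
  haveI : IsClosedImmersion u.left := GrpField.isClosedImmersion_of_mono u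
  obtain ⟨X, p, hs, hf, hp, hsq, hsep, -⟩ :=
    MonoFactor.exists_quotient_point (IsLocalRing.residue A) IsLocalRing.residue_surjective u
  haveI := hs; haveI := hf; haveI := hp
  have hr := right_square u p hsq hN
  have hcov : ∃ (Z : Scheme.{u}) (q : Z ⟶ X.left) (r : Z ⟶ G.left), r ≫ p.left = q ∧ Surjective q ∧ Flat q ∧
      ∀ V : X.left.Opens, IsAffineOpen V → ∃ W : Z.Opens, IsCompact (W : Set Z) ∧
        q.base '' (W : Set Z) = (V : Set X.left) := by
    refine ⟨G.left, p.left, 𝟙 _, Category.id_comp _, hs, hf, fun V hV => ?_⟩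
    exact p.left.isOpenMap.exists_opens_image_eq_of_prespectralSpace p.left.continuous
      (by rw [p.left.surjective.range_eq]; exact Set.subset_univ _) V.2 hV.isCompact
  obtain ⟨str, hom, -⟩ := S5372.result B G F X u p hcov hr hN
  haveI : Flat (p.left ≫ X.hom) := by rw [Over.w p]; infer_instance
  refine ⟨X, str, p, hom, hf, hs, hp, ?_, hsep, GrpdLib.flat_of_flat_comp p.left X.hom, fun hG => ?_⟩
  · exact kernel_of_right u p hr hom
  haveI : Smooth (p.left ≫ X.hom) := by rw [Over.w p]; exact hG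
  exact FppfSource.smooth p.left X.hom

end Groth.Agent.S3030
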