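import Groth.Statements.S8425
import Groth.Agent.Chev.BorelPre
import Groth.Agent.Chev.NormBC
import Groth.Agent.FibCrit.Props
-- import your own Groth.Agent.* helpers here

set_option autoImplicit false
set_option backward.isDefEq.respectTransparency false
universe u
open CategoryTheory MonoidalCategory CartesianMonoidalCategory MonObj GrpObj AlgebraicGeometry
open SGA3x

open CategoryTheory.Limits Groth.Agent.Chev Groth.Agent.Chev.Borel

namespace Groth.Agent.S8425

/-- Fibres connected as subsets give connected geometric fibres, in the presence of a section. -/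
theorem connectedSpace_geomFibre {S : Scheme.{u}} (G : Over S) [GrpObj G] (s : S)
    (h : _root_.IsConnected (G.hom.base ⁻¹' {s})) : ConnectedSpace (Red.geomFibre s G).left := by
  haveI : ConnectedSpace (G.hom.fiber s) := by
    rw [← G.hom.range_fiberι s] at h
    exact connectedSpace_iff_univ.2 ⟨by
      obtain ⟨x, hx⟩ := h.1
      obtain ⟨y, -⟩ := hx
      exact ⟨y, trivial⟩, ((G.hom.fiberι s).isEmbedding.toIsInducing.isPreconnected_image).1
        (by rw [Set.image_univ]; exact h.2)⟩
  haveI : GeometricallyConnected (G.hom.fiberToSpecResidueField s) :=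
    Groth.Agent.Rigid.geometricallyConnected_of_section (k := S.residueField s) (G.hom.fiberToSpecResidueField s)
      (pullback.lift (S.fromSpecResidueField s ≫ (η[G] : 𝟙_ _ ⟶ G).left) (𝟙 _) (by
        rw [Category.assoc, Over.w (η[G] : 𝟙_ _ ⟶ G)]
        exact (Category.comp_id _).trans (Category.id_comp _).symm))
      (pullback.lift_snd _ _ _)
  let φ := Spec.map (CommRingCat.ofHom (algebraMap (S.residueField s) (AlgebraicClosure (S.residueField s))))
  haveI : Subsingleton (Spec (CommRingCat.of (AlgebraicClosure (S.residueField s)))) :=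
    inferInstanceAs (Subsingleton (PrimeSpectrum _))
  haveI : ConnectedSpace (pullback (pullback.snd G.hom (S.fromSpecResidueField s)) φ :) :=
    GeometricallyConnected.connectedSpace_of_subsingleton (pullback.snd (G.hom.fiberToSpecResidueField s) φ)
  let i := pullbackLeftPullbackSndIso G.hom (S.fromSpecResidueField s) φ
  exact i.hom.surjective.connectedSpace i.hom.continuous

/-- Let G be an S-group scheme, smooth and of finite presentation over S with connected fibres, and b :
B → G a Borel subgroup: a subgroup scheme (a homomorphism which is an immersion), smooth and of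
finite presentation over S, every geometric fibre of which is a Borel subgroup of the corresponding
geometric fibre of G. Then B is its own normalizer, and B is a closed subscheme of G. -/
theorem result (S : Scheme.{u}) (G : Over S) [GrpObj G]
    [Smooth G.hom] [QuasiCompact G.hom] [QuasiSeparated G.hom] (hconn : ∀ s : S, _root_.IsConnected (G.hom.base ⁻¹' {s}))
    (B : Over S) [GrpObj B] (b : B ⟶ G) (hB : (IsMonHom b ∧ IsImmersion b.left ∧ Smooth B.hom ∧ QuasiCompact B.hom ∧
      ∀ s : S, Red.IsBorelOver (AlgebraicClosure (S.residueField s)) ((Over.pullback (Red.geomPt s)).map b))) :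
    Red.IsNormalizerOf b b ∧ IsClosedImmersion b.left := by
  obtain ⟨hbm, hbi, hBs, hBq, hfib⟩ := hB
  haveI := hbm; haveI := hbi; haveI := hBs; haveI := hBq
  haveI : Mono b := Over.mono_of_mono_left b
  haveI : QuasiSeparated B.hom := by rw [← Over.w b]; infer_instance
  have hconnB : ∀ s : S, ConnectedSpace ↥(pullback B.hom (S.fromSpecResidueField s)) := fun s => by
    let φ := Spec.map (CommRingCat.ofHom (algebraMap (S.residueField s) (AlgebraicClosure (S.residueField s))))
    haveI : ConnectedSpace (pullback B.hom (Red.geomPt s) :) := (hfib s).2.2.2.1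
    haveI : Subsingleton (Spec (S.residueField s)) := inferInstanceAs (Subsingleton (PrimeSpectrum _))
    haveI : Surjective φ := ⟨fun x => ⟨IsLocalRing.closedPoint _, Subsingleton.elim _ _⟩⟩
    let i := pullbackLeftPullbackSndIso B.hom (S.fromSpecResidueField s) φ
    let f := i.inv ≫ pullback.fst (pullback.snd B.hom (S.fromSpecResidueField s)) φ
    haveI : Surjective (pullback.fst (pullback.snd B.hom (S.fromSpecResidueField s)) φ) :=
      MorphismProperty.pullback_fst _ _ ‹Surjective φ›
    exact f.surjective.connectedSpace f.continuous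
  obtain ⟨N, hNg, j, hN, hjc, hjl⟩ := Groth.Agent.S5260.result G B hconnB b
  haveI := hN.1; haveI := hN.2.1; haveI := hjc; haveI := hjl
  obtain ⟨z, hz⟩ := (hN.2.2 B b).2 fun X' x h =>
    ⟨⟨x * h * x⁻¹, by rw [MonObj.mul_comp, MonObj.mul_comp, GrpObj.inv_comp]⟩,
      ⟨x⁻¹ * h * x, by rw [MonObj.mul_comp, MonObj.mul_comp, GrpObj.inv_comp]⟩⟩
  -- fibrewise isomorphism
  have hgeo : ∀ s : S, IsIso ((Over.pullback (Red.geomPt s)).map z) := fun s => by
    let F := Over.pullback (Red.geomPt s)
    haveI : Limits.PreservesLimitsOfShape Limits.WalkingCospan F :=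
      (Adjunction.rightAdjoint_preservesLimits (Over.mapPullbackAdj (Red.geomPt s))).preservesLimitsOfShape
    haveI : Smooth (F.obj G).hom := MorphismProperty.pullback_snd _ _ ‹Smooth G.hom›
    haveI : QuasiCompact (F.obj G).hom := MorphismProperty.pullback_snd _ _ ‹QuasiCompact G.hom›
    haveI : ConnectedSpace (F.obj G).left := connectedSpace_geomFibre G s (hconn s)
    have hN' := Groth.Agent.Chev.CentBC.isNormalizerOf_bc (Red.geomPt s) b j hN
    haveI := hN'.2.1
    haveI := (hfib s).2.1
    haveI : Mono (F.map b) := Groth.Agent.GrpField.SchImg.mono_of_isClosedImmersion (F.map b)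
    have hzb : F.map z ≫ F.map j = F.map b := by rw [← F.map_comp, hz]
    obtain ⟨w, hw⟩ := exists_factor_of_normalizes_borel (F.map b) (hfib s) (F.map j)
      ((hN'.2.2 _ (F.map j)).1 ⟨𝟙 _, Category.id_comp _⟩)
    exact ⟨w, (cancel_mono (F.map b)).1 (by rw [Category.assoc, hw, hzb, Category.id_comp]),
      (cancel_mono (F.map j)).1 (by rw [Category.assoc, hzb, hw, Category.id_comp])⟩
  haveI : IsIso z := by
    have hiso : ∀ s : S, IsIso (pullback.snd z.left (N.hom.fiberι s)) := fun s => by
      let φ := Spec.map (CommRingCat.ofHom (algebraMap (S.residueField s) (AlgebraicClosure (S.residueField s))))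
      haveI : Subsingleton (Spec (S.residueField s)) := inferInstanceAs (Subsingleton (PrimeSpectrum _))
      haveI : Surjective φ := ⟨fun x => ⟨IsLocalRing.closedPoint _, Subsingleton.elim _ _⟩⟩
      haveI : Flat φ := inferInstance
      haveI : QuasiCompact φ := inferInstance
      haveI := hgeo s
      haveI : IsIso ((Over.pullback φ).map ((Over.pullback (S.fromSpecResidueField s)).map z)) :=
        (NatIso.isIso_map_iff (Over.pullbackComp φ (S.fromSpecResidueField s)) z).1 inferInstance
      haveI := isIso_of_isIso_pullback φ ((Over.pullback (S.fromSpecResidueField s)).map z)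
      haveI : IsIso ((Over.pullback (S.fromSpecResidueField s)).map z).left :=
        inferInstanceAs (IsIso ((Over.forget _).map ((Over.pullback (S.fromSpecResidueField s)).map z)))
      have hsq : IsPullback (pullback.fst B.hom (S.fromSpecResidueField s))
          ((Over.pullback (S.fromSpecResidueField s)).map z).left z.left (pullback.fst N.hom (S.fromSpecResidueField s)) := by
        refine IsPullback.of_bot ?_ ?_ (IsPullback.of_hasPullback N.hom (S.fromSpecResidueField s))
        · have e1 : ((Over.pullback (S.fromSpecResidueField s)).map z).left ≫ pullback.snd N.hom (S.fromSpecResidueField s) =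
              pullback.snd B.hom (S.fromSpecResidueField s) := Over.w ((Over.pullback (S.fromSpecResidueField s)).map z)
          rw [e1, Over.w z]
          exact IsPullback.of_hasPullback B.hom _
        · simp only [Over.pullback_map_left]; exact (pullback.lift_fst _ _ _).symm
      have e := hsq.isoPullback_hom_snd
      exact IsIso.of_isIso_fac_left (f := hsq.isoPullback.hom)
        (g := pullback.snd z.left (pullback.fst N.hom (S.fromSpecResidueField s))) e
    haveI : LocallyOfFinitePresentation N.hom := by rw [← Over.w j]; infer_instance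
    haveI : IsIso z.left := Groth.Agent.FibCrit.isIso_of_fibres (g := N.hom) (h := B.hom) (Over.w z) hiso
    haveI : IsIso ((Over.forget _).map z) := ‹IsIso z.left›
    exact isIso_of_reflects_iso z (Over.forget _)
  haveI : IsIso z.left := inferInstanceAs (IsIso ((Over.forget _).map z))
  refine ⟨⟨inferInstance, inferInstance, fun X g => ⟨?_, fun hg => ?_⟩⟩, by rw [← hz, Over.comp_left]; infer_instance⟩
  · rintro ⟨w, rfl⟩
    exact (hN.2.2 X _).1 ⟨w ≫ z, by rw [Category.assoc, hz]⟩
  · obtain ⟨w, hw⟩ := (hN.2.2 X g).2 hg
    exact ⟨w ≫ inv z, by rw [← hw, Category.assoc, ← hz, IsIso.inv_hom_id_assoc]⟩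

end Groth.Agent.S8425
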