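import Groth.Statements.S8398
import Groth.Agent.Chev.CentralMT
import Groth.Agent.Chev.NonAffTori
import Groth.Agent.MTBridge.Subgroups
import Groth.Agent.MTBridge.ExtCentral
import Groth.Agent.S8425
import Groth.Agent.MTBridge.MonoClosed
-- import your own Groth.Agent.* helpers here

set_option autoImplicit false
set_option backward.isDefEq.respectTransparency false
universe u
open CategoryTheory MonoidalCategory CartesianMonoidalCategory MonObj GrpObj AlgebraicGeometry
open SGA3x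

open CategoryTheory.Limits
open Groth.Agent.MTBridge (toBC toBC_mul toBC_comp toBC_inj toBC_naturality exists_toBC')
open Groth.Agent.Chev Groth.Agent.Chev.Borel

namespace Groth.Agent.S8398

theorem central_bc {S T : Scheme.{u}} (φ : T ⟶ S) {H G : Over S} [GrpObj G] (u : H ⟶ G)
    (hc : ∀ (X : Over S) (x : X ⟶ H) (g : X ⟶ G), (x ≫ u) * g = g * (x ≫ u))
    (X : Over T) (x : X ⟶ Red.bc φ H) (g : X ⟶ Red.bc φ G) :
    (x ≫ (Over.pullback φ).map u) * g = g * (x ≫ (Over.pullback φ).map u) := by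
  obtain ⟨a, rfl⟩ := exists_toBC' φ x
  obtain ⟨b, rfl⟩ := exists_toBC' φ g
  rw [← toBC_comp, ← toBC_mul, ← toBC_mul, hc]

theorem exists_factor_of_bc {S S₀ S' : Scheme.{u}} (j : S₀ ⟶ S) (τ : S' ⟶ S₀) [Surjective τ] [Flat τ] [QuasiCompact τ]
    {H G T : Over S} (u : H ⟶ G) (i : T ⟶ G) [Mono i] (w : Red.bc (τ ≫ j) H ⟶ Red.bc (τ ≫ j) T)
    (hw : w ≫ (Over.pullback (τ ≫ j)).map i = (Over.pullback (τ ≫ j)).map u) :
    ∃ ψ : Red.bc j H ⟶ Red.bc j T, ψ ≫ (Over.pullback j).map i = (Over.pullback j).map u := by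
  let c : pullback u i ⟶ H := pullback.fst u i
  haveI : PreservesLimitsOfShape WalkingCospan (Over.pullback j) :=
    (Adjunction.rightAdjoint_preservesLimits (Over.mapPullbackAdj j)).preservesLimitsOfShape
  haveI : PreservesLimitsOfShape WalkingCospan (Over.pullback τ) :=
    (Adjunction.rightAdjoint_preservesLimits (Over.mapPullbackAdj τ)).preservesLimitsOfShape
  haveI : Mono c := inferInstanceAs (Mono (pullback.fst u i))
  let X := (Over.pullback τ).obj ((Over.pullback j).obj H)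
  obtain ⟨p₁, hp₁⟩ := exists_toBC' τ (𝟙 X)
  obtain ⟨p₀, hp₀⟩ := exists_toBC' j p₁
  let e : (Over.map j).obj ((Over.map τ).obj X) ≅ (Over.map (τ ≫ j)).obj X := Over.isoMk (Iso.refl _) (by
    show 𝟙 _ ≫ X.hom ≫ τ ≫ j = (X.hom ≫ τ) ≫ j
    rw [Category.id_comp, Category.assoc])
  obtain ⟨q, hq⟩ := exists_toBC' (τ ≫ j) (toBC (τ ≫ j) (e.inv ≫ p₀) ≫ w)
  have hqu : (e.hom ≫ q) ≫ i = p₀ ≫ u := by
    have h : q ≫ i = (e.inv ≫ p₀) ≫ u := toBC_inj (τ ≫ j) (by rw [toBC_comp, hq, Category.assoc, hw, ← toBC_comp])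
    rw [Category.assoc, h, Category.assoc, e.hom_inv_id_assoc]
  let z : (Over.map j).obj ((Over.map τ).obj X) ⟶ pullback u i := pullback.lift p₀ (e.hom ≫ q) hqu.symm
  haveI : Mono ((Over.pullback τ).map ((Over.pullback j).map c)) := inferInstance
  haveI : IsSplitEpi ((Over.pullback τ).map ((Over.pullback j).map c)) := ⟨⟨⟨toBC τ (toBC j z), by
    rw [← toBC_comp, ← toBC_comp, pullback.lift_fst, hp₀]
    exact hp₁⟩⟩⟩
  haveI : IsIso ((Over.pullback τ).map ((Over.pullback j).map c)) := isIso_of_mono_of_isSplitEpi _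
  haveI : IsIso ((Over.pullback j).map c) := isIso_of_isIso_pullback τ _
  refine ⟨CategoryTheory.inv ((Over.pullback j).map c) ≫ (Over.pullback j).map (pullback.snd u i), ?_⟩
  rw [Category.assoc, ← Functor.map_comp, ← pullback.condition, Functor.map_comp, IsIso.inv_hom_id_assoc]

/-- Gluing factorisations through a monomorphism. -/
theorem exists_factor_of_locally {S : Scheme.{u}} {H G T : Over S} (u : H ⟶ G) (i : T ⟶ G) [Mono i]
    (h : ∀ s : S, ∃ U : S.Opens, s ∈ U ∧ ∀ (Y : Over S), Set.range Y.hom ⊆ (U : Set S) → ∀ q : Y ⟶ H,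
      ∃ z : Y ⟶ T, z ≫ i = q ≫ u) : ∃ w : H ⟶ T, w ≫ i = u := by
  let c : pullback u i ⟶ H := pullback.fst u i
  haveI : Mono c := inferInstanceAs (Mono (pullback.fst u i))
  choose U hU hz using h
  haveI : Mono c.left := inferInstanceAs (Mono ((Over.forget S).map c))
  haveI : IsIso c.left := by
    have hcov : iSup (fun s : S => H.hom ⁻¹ᵁ U s) = ⊤ := eq_top_iff.2 fun x _ =>
      TopologicalSpace.Opens.mem_iSup.2 ⟨H.hom x, hU (H.hom x)⟩
    refine IsZariskiLocalAtTarget.of_iSup_eq_top (P := MorphismProperty.isomorphisms Scheme) _ hcov fun s => ?_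
    let Y : Over S := Over.mk ((H.hom ⁻¹ᵁ U s).ι ≫ H.hom)
    let q : Y ⟶ H := Over.homMk (H.hom ⁻¹ᵁ U s).ι rfl
    obtain ⟨z, hz'⟩ := hz s Y (by rintro _ ⟨y, rfl⟩; exact y.2) q
    let σ := pullback.lift q z hz'.symm
    have hσ : σ.left ≫ c.left = (H.hom ⁻¹ᵁ U s).ι := congrArg (fun f : Y ⟶ H => f.left) (pullback.lift_fst q z hz'.symm)
    have hr : Set.range σ.left ⊆ Set.range (c.left ⁻¹ᵁ (H.hom ⁻¹ᵁ U s)).ι := by
      rw [Scheme.Opens.range_ι]
      rintro _ ⟨y, rfl⟩
      show c.left (σ.left y) ∈ (H.hom ⁻¹ᵁ U s : Set H.left)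
      rw [← Scheme.Hom.comp_apply, hσ]
      exact y.2
    let s' := IsOpenImmersion.lift (c.left ⁻¹ᵁ (H.hom ⁻¹ᵁ U s)).ι σ.left hr
    haveI : IsSplitEpi (c.left ∣_ (H.hom ⁻¹ᵁ U s)) := ⟨⟨⟨s', by
      rw [← cancel_mono (H.hom ⁻¹ᵁ U s).ι, Category.assoc, morphismRestrict_ι, IsOpenImmersion.lift_fac_assoc, hσ]
      exact (Category.id_comp _).symm⟩⟩⟩
    haveI : Mono (c.left ∣_ (H.hom ⁻¹ᵁ U s) ≫ (H.hom ⁻¹ᵁ U s).ι) := by rw [morphismRestrict_ι]; infer_instance
    haveI : Mono (c.left ∣_ (H.hom ⁻¹ᵁ U s)) := mono_of_mono _ (H.hom ⁻¹ᵁ U s).ι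
    exact isIso_of_mono_of_isSplitEpi _
  haveI : IsIso ((Over.forget S).map c) := ‹IsIso c.left›
  haveI : IsIso c := isIso_of_reflects_iso c (Over.forget S)
  exact ⟨CategoryTheory.inv c ≫ pullback.snd u i, by
    rw [Category.assoc, ← pullback.condition]; exact IsIso.inv_hom_id_assoc c u⟩


/-- Let G be an S-group scheme which is smooth and affine over S with connected fibres, T a maximal
torus of G, and u : H → G a central homomorphism from an S-group scheme H of multiplicative type and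
of finite type. Then u factors through T. -/
theorem result (S : Scheme.{u}) (G : Over S) [GrpObj G]
    [Smooth G.hom] [IsAffineHom G.hom] (hconn : ∀ s : S, _root_.IsConnected (G.hom.base ⁻¹' {s}))
    (T : Over S) [GrpObj T] (i : T ⟶ G) (hT : Red.IsMaximalTorus i)
    (H : Over S) [GrpObj H] (hH : SGA3x.IsMultTypeFT H) (u : H ⟶ G) [IsMonHom u]
    (hc : ∀ (X : Over S) (x : X ⟶ H) (g : X ⟶ G), (x ≫ u) * g = g * (x ≫ u)) :
    ∃ w : H ⟶ T, w ≫ i = u := by
  obtain ⟨him, himono, hTt, hmax⟩ := hT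
  haveI := him; haveI := himono
  have hTm := MTBridge.isMultTypeFT_of_isTorus T hTt
  haveI : IsClosedImmersion i.left :=
    MTBridge.isClosedImmersion_of_mono (MTBridge.locally_of_isMultTypeFT' T hTm) inferInstance i
  haveI : IsImmersion i.left := inferInstance
  refine exists_factor_of_locally u i fun s => ?_
  let φ := Red.geomPt s
  haveI : ConnectedSpace (Red.bc φ G).left := Groth.Agent.S8425.connectedSpace_geomFibre G s (hconn s)
  haveI : IsAffineHom (Red.bc φ G).hom := inferInstanceAs (IsAffineHom (pullback.snd G.hom φ))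
  haveI : Smooth (Red.bc φ G).hom := inferInstanceAs (Smooth (pullback.snd G.hom φ))
  haveI : IsAffine (Red.bc φ G).left := isAffine_of_isAffineHom (Red.bc φ G).hom
  haveI : PreservesLimitsOfShape WalkingCospan (Over.pullback φ) :=
    (Adjunction.rightAdjoint_preservesLimits (Over.mapPullbackAdj φ)).preservesLimitsOfShape
  have hM : AGF.IsMaxTorus ((Over.pullback φ).map i) :=
    ⟨inferInstance, inferInstance, isTorus_bc_scheme T φ hTt, hmax s⟩
  obtain ⟨w, hw⟩ := central_factor_maxTorus ((Over.pullback φ).map i) hM (MTBridge.isMultTypeFT_bc H φ hH)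
    ((Over.pullback φ).map u) (central_bc φ u hc)
  let τ := Spec.map (CommRingCat.ofHom (algebraMap (S.residueField s) (AlgebraicClosure (S.residueField s))))
  haveI : Subsingleton (Spec (S.residueField s)) := inferInstanceAs (Subsingleton (PrimeSpectrum _))
  haveI : Surjective τ := ⟨fun x => ⟨IsLocalRing.closedPoint _, Subsingleton.elim _ _⟩⟩
  obtain ⟨ψ, hψ⟩ := exists_factor_of_bc (S.fromSpecResidueField s) τ u i w hw
  exact MTBridge.exists_incl_nhd (Or.inr inferInstance) hH hTm u i s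
    (fun X g h => (central_bc _ u hc X h g).symm) ψ hψ

end Groth.Agent.S8398
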