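import Groth.Statements.S5442
import Groth.Agent.MTBridge.FixedLocus
-- import your own Groth.Agent.* helpers here

set_option autoImplicit false
universe u
open CategoryTheory MonoidalCategory CartesianMonoidalCategory MonObj GrpObj AlgebraicGeometry CategoryTheory.Limits
open SGA3x

namespace Groth.Agent.S5442

/-- Let S be a scheme, G an S-group scheme separated and smooth over S, and H an S-group of
multiplicative type and of finite type acting on G by group automorphisms (on points, h · (g g′) =
(h · g)(h · g′)). Then the functor Z = G^H of invariants (points of G fixed by all points of H after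
any base change) is representable by a closed subgroup scheme of G which is smooth over S: there are
an S-group Z and a homomorphism Z → G which is a closed immersion, with Z smooth over S, whose
points are exactly the invariant points. (The published statement allows any S-group of
multiplicative type; this row assumes it moreover of finite type.) -/
theorem result (S : Scheme.{u}) (H G : Over S) [GrpObj H] [GrpObj G] (hH : SGA3x.IsMultTypeFT H)
    [IsSeparated G.hom] [Smooth G.hom] (a : AlgGrp.Action H G)
    (hmul : ∀ (X : Over S) (h : X ⟶ H) (g g' : X ⟶ G),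
      lift h (g * g') ≫ a.act = (lift h g ≫ a.act) * (lift h g' ≫ a.act)) :
    ∃ (Z : Over S) (_ : GrpObj Z) (z : Z ⟶ G) (_ : IsMonHom z), IsClosedImmersion z.left ∧ Smooth Z.hom ∧
      ∀ (X : Over S) (g : X ⟶ G), (∃ x : X ⟶ Z, x ≫ z = g) ↔
        ∀ (X' : Over S) (f : X' ⟶ X) (h : X' ⟶ H), lift h (f ≫ g) ≫ a.act = f ≫ g := by
  obtain ⟨Z, z, hz, hsm, hZ⟩ := Groth.Agent.MTBridge.exists_fixed_locus H G hH a
  haveI := hz
  haveI : Mono z := (Over.forget S).mono_of_mono_map (inferInstanceAs (Mono z.left))
  have h1 : ∀ (X : Over S) (h : X ⟶ H), lift h (1 : X ⟶ G) ≫ a.act = 1 := fun X h => by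
    have := hmul X h 1 1
    rw [_root_.mul_one] at this
    exact mul_eq_left.1 this.symm
  have hinv : ∀ (X : Over S) (h : X ⟶ H) (g : X ⟶ G), lift h g⁻¹ ≫ a.act = (lift h g ≫ a.act)⁻¹ := fun X h g => by
    refine eq_inv_of_mul_eq_one_left ?_
    rw [← hmul, inv_mul_cancel, h1]
  obtain ⟨hZg, hzm⟩ := Groth.Agent.MTBridge.exists_grpObj_of_div z ((hZ _ _).2 fun X' f h => by
      rw [show f ≫ η[G] = (1 : X' ⟶ G) by rw [Hom.one_def, toUnit_unique (toUnit X') f]]
      exact h1 X' h) (fun T k₁ k₂ => (hZ _ _).2 fun X' f h => by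
    rw [MonObj.comp_mul, GrpObj.comp_inv, hmul, hinv, (hZ _ (k₁ ≫ z)).1 ⟨k₁, rfl⟩ X' f h,
      (hZ _ (k₂ ≫ z)).1 ⟨k₂, rfl⟩ X' f h])
  exact ⟨Z, hZg, z, hzm, hz, hsm, hZ⟩

end Groth.Agent.S5442
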