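import Groth.Statements.S4118
import Groth.Agent.Chev.TorusCommMax
import Groth.Agent.Chev.GeomPtIso
import Groth.Agent.Chev.CentBC
import Groth.Agent.S5442
import Groth.Agent.RedR1.Gen
-- import your own Groth.Agent.* helpers here

set_option autoImplicit false
universe u
open CategoryTheory MonoidalCategory CartesianMonoidalCategory MonObj GrpObj AlgebraicGeometry CategoryTheory.Limits
open SGA3x

set_option backward.isDefEq.respectTransparency false

namespace Groth.Agent.S4118
/-- Conjugation by a subgroup, as an action. -/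
theorem exists_conjAction {S : Scheme.{u}} {G T : Over S} [GrpObj G] [GrpObj T] (i : T ⟶ G) [IsMonHom i] :
    ∃ a : AlgGrp.Action T G, ∀ (X : Over S) (t : X ⟶ T) (g : X ⟶ G),
      lift t g ≫ a.act = (t ≫ i) * g * (t ≫ i)⁻¹ := by
  let act : T ⊗ G ⟶ G := (fst T G ≫ i) * snd T G * (fst T G ≫ i)⁻¹
  have h : ∀ (X : Over S) (t : X ⟶ T) (g : X ⟶ G), lift t g ≫ act = (t ≫ i) * g * (t ≫ i)⁻¹ := fun X t g => by
    simp [act, MonObj.comp_mul, GrpObj.comp_inv]
  refine ⟨{ act := act, one_act := ?_, mul_act := ?_ }, h⟩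
  · have e : (η[T] ▷ G) = lift (1 : 𝟙_ (Over S) ⊗ G ⟶ T) (snd _ _) := by
      apply CartesianMonoidalCategory.hom_ext
      · rw [whiskerRight_fst, lift_fst, Hom.one_def]
        congr 1
      · simp
    rw [e, h, MonObj.one_comp, _root_.one_mul, inv_one, _root_.mul_one, leftUnitor_hom]
  · have e1 : (μ[T] ▷ G) = lift ((fst _ _ ≫ fst T T) * (fst _ _ ≫ snd T T)) (snd (T ⊗ T) G) := by
      apply CartesianMonoidalCategory.hom_ext
      · rw [whiskerRight_fst, lift_fst, ← MonObj.comp_mul, Hom.mul_def, lift_fst_snd, Category.id_comp]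
      · simp
    have e2 : (α_ T T G).hom ≫ (T ◁ act) =
        lift (fst _ _ ≫ fst T T) (lift (fst _ _ ≫ snd T T) (snd (T ⊗ T) G) ≫ act) := by
      apply CartesianMonoidalCategory.hom_ext
      · simp
      · rw [Category.assoc, whiskerLeft_snd, lift_snd, ← Category.assoc]
        congr 1
        apply CartesianMonoidalCategory.hom_ext <;> simp
    rw [e1, h, ← Category.assoc, e2, h, h, MonObj.mul_comp, _root_.mul_inv_rev]
    simp only [_root_.mul_assoc]



/-- Let G be an S-group scheme, smooth, separated and of finite type over S, and i : T → G a maximal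
torus. Then the centralizer of T is represented by a closed subgroup scheme c : C → G which is a
Cartan subgroup of G (smooth over S with Cartan geometric fibres); T factors through C as a maximal
torus of C, and every maximal torus of C coincides with T (as a subgroup of C). -/
theorem result (S : Scheme.{u}) (G : Over S) [GrpObj G]
    [Smooth G.hom] [IsSeparated G.hom] [QuasiCompact G.hom]
    (T : Over S) [GrpObj T] (i : T ⟶ G) (hT : Red.IsMaximalTorus i) :
    ∃ (C : Over S) (_ : GrpObj C) (c : C ⟶ G), Red.IsCentralizerOf i c ∧ IsClosedImmersion c.left ∧ SGA3x.IsCartan c ∧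
      ∃ i' : T ⟶ C, i' ≫ c = i ∧ Red.IsMaximalTorus i' ∧
        ∀ (T' : Over S) [GrpObj T'] (j : T' ⟶ C), Red.IsMaximalTorus j → ∃ φ : T' ≅ T, φ.hom ≫ i' = j := by
  obtain ⟨him, himono, hTt, hmax⟩ := id hT
  haveI := him; haveI := himono
  have hTm := MTBridge.isMultTypeFT_of_isTorus T hTt
  obtain ⟨a, ha⟩ := exists_conjAction i
  obtain ⟨C, hCg, c, hcm, hcc, hCs, hC⟩ := Groth.Agent.S5442.result S T G hTm a (fun X t g g' => by
    rw [ha, ha, ha]
    group)
  haveI := hcm; haveI := hcc; haveI := hCs
  haveI : Mono c.left := inferInstance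
  haveI : Mono c := Over.mono_of_mono_left c
  have hcent : Red.IsCentralizerOf i c := ⟨hcm, inferInstance, fun X g => (hC X g).trans
    (forall_congr' fun X' => forall_congr' fun x => forall_congr' fun h => by
      rw [ha, mul_inv_eq_iff_eq_mul]
      exact ⟨fun e => e.symm, fun e => e.symm⟩)⟩
  have hfib : ∀ s : S, SGA3x.IsCartanOver (AlgebraicClosure (S.residueField s))
      ((Over.pullback (Red.geomPt s)).map c) := fun s => by
    let φ := Red.geomPt s
    haveI : PreservesLimitsOfShape WalkingCospan (Over.pullback φ) :=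
      (Adjunction.rightAdjoint_preservesLimits (Over.mapPullbackAdj φ)).preservesLimitsOfShape
    exact ⟨inferInstance, inferInstance, _, inferInstance, (Over.pullback φ).map i,
      Chev.Borel.isMaximalTorus_of_isMaxTorus _
        ⟨inferInstance, inferInstance, Chev.Borel.isTorus_bc_scheme T φ hTt, hmax s⟩,
      Chev.CentBC.isCentralizerOf_bc φ i c hcent⟩
  obtain ⟨i', hi'⟩ : ∃ i' : T ⟶ C, i' ≫ c = i := (hcent.2.2 T i).2 fun X' x h => by
    rw [← MonObj.mul_comp, ← MonObj.mul_comp, RedR1.mul_comm_torus hTt]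
  haveI : IsMonHom i' := MTSplit.isMonHom_of_comp_mono i' c i hi'
  haveI : Mono (i' ≫ c) := by rw [hi']; infer_instance
  haveI : Mono i' := mono_of_mono i' c
  have hi'max : Red.IsMaximalTorus i' := ⟨inferInstance, inferInstance, hTt, fun s T' _ j _ _ f hT' hf => by
    let φ := Red.geomPt s
    haveI : PreservesLimitsOfShape WalkingCospan (Over.pullback φ) :=
      (Adjunction.rightAdjoint_preservesLimits (Over.mapPullbackAdj φ)).preservesLimitsOfShape
    exact hmax s T' (j ≫ (Over.pullback φ).map c) f hT' (by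
      rw [← Category.assoc, hf, ← Functor.map_comp, hi'])⟩
  refine ⟨C, hCg, c, hcent, hcc, ⟨hcm, inferInstance, hCs, hfib⟩, i', hi', hi'max, fun T' _ j hj => ?_⟩
  haveI := hj.1; haveI := hj.2.1
  haveI : LocallyOfFiniteType C.hom := inferInstance
  haveI : QuasiCompact C.hom := by rw [← Over.w c]; infer_instance
  have hcomm : ∀ (X : Over S) (t : X ⟶ T) (x : X ⟶ C), (t ≫ i') * x = x * (t ≫ i') := fun X t x => by
    rw [← cancel_mono c, MonObj.mul_comp, MonObj.mul_comp, Category.assoc, hi']
    have h := (hcent.2.2 X (x ≫ c)).1 ⟨x, rfl⟩ X (𝟙 X) t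
    rw [Category.id_comp] at h
    exact h.symm
  obtain ⟨y, hy⟩ := MTTorus.exists_factor_maximalTorus i' hi'max hj.2.2.1 j fun X t x => hcomm X t (x ≫ j)
  obtain ⟨z, hz⟩ := MTTorus.exists_factor_maximalTorus j hj hTt i' fun X t x => (hcomm X x (t ≫ j)).symm
  exact ⟨⟨y, z, by rw [← cancel_mono j, Category.assoc, hz, hy, Category.id_comp],
    by rw [← cancel_mono i', Category.assoc, hy, hz, Category.id_comp]⟩, hy⟩

end Groth.Agent.S4118
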