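import Groth.Statements.S5516
import Groth.Agent.RootSys.Datum
import Groth.Agent.S3002
import Groth.Agent.Chev.MaxTorusBC
import Groth.Agent.MTImage.Cartan
import Groth.Agent.DynPar.EtaleBorel
import Groth.Agent.MTBridge.Charts
import Mathlib.RingTheory.Unramified.Field
-- import your own Groth.Agent.* helpers here

set_option autoImplicit false
open CategoryTheory MonoidalCategory CartesianMonoidalCategory MonObj GrpObj AlgebraicGeometry
universe u
open RedSub

set_option backward.isDefEq.respectTransparency false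

namespace Groth.Agent.S5516

/-- Let k be a field and G a reductive k-group. Then there is a finite separable extension K of k over
which G_K is split: G_K admits a splitting in the sense of the prelude (split maximal torus, root
datum, root homomorphisms). -/
theorem result (k : Type u) [Field k] (G : Over (Spec (CommRingCat.of k))) [GrpObj G]
    (hG : Red.IsReductive G) :
    ∃ (K : Type u) (_ : Field K) (_ : Algebra k K), FiniteDimensional k K ∧ Algebra.IsSeparable k K ∧
      Nonempty (Red.SplitRed (Red.bc (Spec.map (CommRingCat.ofHom (algebraMap k K))) G)) := by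
  classical
  obtain ⟨i1, i2, i3⟩ := RootSys.red_inst hG
  haveI := hG.1
  let S := Spec (CommRingCat.of k)
  haveI : Subsingleton ↥S := inferInstanceAs (Subsingleton (PrimeSpectrum k))
  haveI : Flat G.hom := inferInstance
  haveI : LocallyOfFinitePresentation G.hom := inferInstance
  let s₀ : S := IsLocalRing.closedPoint k
  have hconn : ∀ s : S, _root_.IsConnected (G.hom.base ⁻¹' {s}) := fun s => by
    rw [show G.hom.base ⁻¹' {s} = Set.univ from Set.eq_univ_of_forall fun x => Subsingleton.elim _ _]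
    exact isConnected_univ
  obtain ⟨A, _, u, hu, hs₀, -, B, _, v, hv, hvs, T₀, _, i₀, hT₀, r, hsplit⟩ :=
    S3002.result S G hconn s₀ (hG.2.2 s₀)
  haveI := hu; haveI := hv; haveI := hvs
  let w : Spec (CommRingCat.of B) ⟶ S := v ≫ u
  obtain ⟨ψ, hψ⟩ := Spec.map_surjective w
  haveI : Etale w := inferInstanceAs (Etale (v ≫ u))
  have het : RingHom.Etale ψ.hom := (HasRingHomProperty.Spec_iff (P := @Etale)).1 (hψ ▸ inferInstance)
  obtain ⟨x, -⟩ := hs₀
  obtain ⟨p, -⟩ := v.surjective x
  haveI : Nontrivial B := PrimeSpectrum.nontrivial (R := B) p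
  obtain ⟨m, hm⟩ := Ideal.exists_maximal B
  haveI := hm
  letI : Field (B ⧸ m) := Ideal.Quotient.field m
  letI : Algebra k B := ψ.hom.toAlgebra
  haveI : Algebra.Etale k B := het
  haveI : Algebra.FormallyUnramified k (B ⧸ m) := Algebra.FormallyUnramified.comp k B (B ⧸ m)
  haveI : Algebra.FiniteType k (B ⧸ m) :=
    Algebra.FiniteType.trans (inferInstance : Algebra.FiniteType k B) inferInstance
  haveI : Module.Finite k (B ⧸ m) := Algebra.FormallyUnramified.finite_of_free k (B ⧸ m)
  refine ⟨B ⧸ m, inferInstance, inferInstance, inferInstance, Algebra.FormallyUnramified.isSeparable k (B ⧸ m), ?_⟩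
  let c : Spec (CommRingCat.of (B ⧸ m)) ⟶ Spec (CommRingCat.of B) :=
    Spec.map (CommRingCat.ofHom (Ideal.Quotient.mk m))
  have hcw : Spec.map (CommRingCat.ofHom (algebraMap k (B ⧸ m))) = c ≫ w := by
    rw [← hψ, ← Spec.map_comp]
    congr 1
  have hGK : Red.IsReductive (Red.bc (c ≫ w) G) := DynPar.isReductive_bc _ hG
  haveI : LocallyOfFiniteType (Red.bc w G).hom := inferInstanceAs (LocallyOfFiniteType (Limits.pullback.snd G.hom w))
  haveI : QuasiCompact (Red.bc w G).hom := inferInstanceAs (QuasiCompact (Limits.pullback.snd G.hom w))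
  have hTc := Chev.MaxTorusBC.isMaximalTorus_bc i₀ hT₀ c
  let e := MTBridge.bcComp w c G
  let b : Red.bc c (Red.bc w G) ≅ Red.bc (c ≫ w) G := (Grp.forget _).mapIso e.symm
  haveI : IsMonHom b.hom := e.inv.hom.isMonHom_hom
  haveI : IsMonHom (Iso.refl (Red.bc c T₀)).hom := inferInstanceAs (IsMonHom (𝟙 _))
  have hT := MTImage.isMaximalTorus_iso (Iso.refl (Red.bc c T₀)) b _ ((Over.pullback c).map i₀ ≫ b.hom)
    (Category.id_comp _).symm hTc.2.2.1 hTc
  obtain ⟨E⟩ := hsplit
  let E' : Grp.mk (Red.bc c T₀) ≅ Grp.mk (Red.DS (Spec (CommRingCat.of (B ⧸ m))) (Fin r → ℤ)) :=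
    MTBridge.bcMapIso c E ≪≫ MTBridge.bcDS c (Fin r → ℤ)
  suffices h : ∀ z, z = c ≫ w → Nonempty (Red.SplitRed (Red.bc z G)) from h _ hcw
  rintro z rfl
  obtain ⟨j1, j2, j3⟩ := RootSys.red_inst hGK
  obtain ⟨D, -, -⟩ := RootSys.exists_splitRed hGK hT E'
  exact ⟨D⟩

end Groth.Agent.S5516
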