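import Groth.Statements.S13206
import Groth.Agent.ClosedRep.Over

set_option autoImplicit false
universe u
open CategoryTheory AlgebraicGeometry
open AlgGrp

namespace Groth.Agent.S13206

/-- Let X → S be a separated morphism of schemes and let a finite group G act on X through
S-automorphisms. Then the functor of G-fixed points is represented by a closed subscheme of X: there
are a scheme Z and a closed immersion i : Z → X with i ∘ g = i for all g ∈ G such that every
morphism x : T → X with g ∘ x = x for all g ∈ G factors uniquely through i. (The published statement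
is for an algebraic space X over S, also treats the locally separated case and notes compatibility
with base change; this row is the separated case for schemes.) -/
theorem result
    {X S : Scheme.{u}} (p : X ⟶ S) [IsSeparated p]
    (G : Type u) [Group G] [Finite G] (ρ : G →* Aut X) (hρ : ∀ g : G, (ρ g).hom ≫ p = p) :
    ∃ (Z : Scheme.{u}) (i : Z ⟶ X), IsClosedImmersion i ∧ (∀ g : G, i ≫ (ρ g).hom = i) ∧
      ∀ (T : Scheme.{u}) (x : T ⟶ X), (∀ g : G, x ≫ (ρ g).hom = x) → ∃! z : T ⟶ Z, z ≫ i = x := by
  let Y : Over S := Over.mk p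
  let r : G → (Y ⟶ Y) := fun g ↦ Over.homMk (ρ g).hom (hρ g)
  have : IsSeparated Y.hom := ‹IsSeparated p›
  let ι := fun g ↦ (Limits.equalizer.ι (r g) (𝟙 Y)).left
  let J : X.IdealSheafData := ⨆ g, (ι g).ker
  refine ⟨J.subscheme, J.subschemeι, inferInstance, fun g ↦ ?_, fun T x hx ↦ ?_⟩
  · obtain ⟨m, hm⟩ : ∃ m, m ≫ ι g = J.subschemeι :=
      ⟨IsClosedImmersion.lift (ι g) J.subschemeι ((le_iSup (fun g ↦ (ι g).ker) g).trans_eq
        J.ker_subschemeι.symm), IsClosedImmersion.lift_fac _ _ _⟩
    have h : ι g ≫ (ρ g).hom = ι g ≫ 𝟙 X :=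
      congr(($(Limits.equalizer.condition (r g) (𝟙 Y))).left)
    rw [← hm, Category.assoc, h]; exact congrArg (m ≫ ·) (Category.comp_id _)
  · have le : J ≤ x.ker := iSup_le fun g ↦ by
      let x' : Over.mk (x ≫ p) ⟶ Y := Over.homMk x rfl
      have h : x' ≫ r g = x' ≫ 𝟙 Y := by
        rw [Category.comp_id]; exact Over.OverMorphism.ext (hx g)
      rw [show x = (Limits.equalizer.lift x' h).left ≫ ι g from
        congr(($(Limits.equalizer.lift_ι x' h)).left).symm]
      exact Scheme.Hom.le_ker_comp _ _
    exact ⟨IsClosedImmersion.lift J.subschemeι x (J.ker_subschemeι.trans_le le),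
      IsClosedImmersion.lift_fac _ _ _,
      fun z hz ↦ (cancel_mono J.subschemeι).mp (hz.trans (IsClosedImmersion.lift_fac _ _ _).symm)⟩

end Groth.Agent.S13206
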