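import Groth.Statements.S7131
import Groth.Agent.DRingKP.ResAmp
import Groth.Agent.WeakEt.Module

set_option autoImplicit false
universe u
open EtAlg

namespace Groth.Agent.S7131

open CategoryTheory Limits DerivedCategory HomologicalComplex
attribute [local instance] HasDerivedCategory.standard

open Groth.Agent.DRingKP in
theorem key {A B : Type u} [CommRing A] [CommRing B] [Algebra A B]
    (hl : (Algebra.TensorProduct.lmul' A (S := B)).toRingHom.Flat) [Module.Flat A B]
    (d : ℕ) (N : ModuleCat.{u} B)
    (hN : DRing.HasTorDimLE A d ((ModuleCat.restrictScalars.{u} (algebraMap A B)).obj N)) :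
    DRing.HasTorAmplitudeIn B (-(d : ℤ)) 0 (Dual.inD B N) := by
  let res := ModuleCat.restrictScalars.{u} (algebraMap A B)
  let R := projectiveResolution N
  let P := R.cochainComplex
  have hb : DRing.VanishesAbove P 0 := (CochainComplex.isStrictlyLE_iff _ 0).1 inferInstance
  have hP : ∀ i, Projective (P.X i) := fun i => inferInstance
  have hPf : DRing.TermwiseFlat P := flat_of_projective hP
  let eN : DRing.toD P ≅ Dual.inD B N :=
    asIso (DerivedCategory.Q.map (resToSingle R)) ≪≫
      ((DerivedCategory.singleFunctorIsoCompQ (ModuleCat.{u} B) 0).app N).symm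
  let Q : DRing.Cx A := (res.mapHomologicalComplex (ComplexShape.up ℤ)).obj P
  have hQb : DRing.VanishesAbove Q 0 := fun i hi => res.map_isZero (hb i hi)
  have hQf : DRing.TermwiseFlat Q := fun i => by
    letI : Module A (P.X i) := Module.compHom _ (algebraMap A B)
    haveI : IsScalarTower A B (P.X i) :=
      ⟨fun a b x => by rw [Algebra.smul_def, mul_smul]; rfl⟩
    haveI := hPf i
    have : Module.Flat A (P.X i) := Module.Flat.trans A B (P.X i)
    exact this
  let eQ : DRing.toD Q ≅ Dual.inD A (res.obj N) :=
    asIso (DerivedCategory.Q.map ((res.mapHomologicalComplex (ComplexShape.up ℤ)).map (resToSingle R))) ≪≫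
      DerivedCategory.Q.mapIso
        ((HomologicalComplex.singleMapHomologicalComplex res (ComplexShape.up ℤ) 0).app N) ≪≫
      ((DerivedCategory.singleFunctorIsoCompQ (ModuleCat.{u} A) 0).app (res.obj N)).symm
  have hflatA := flat_coker_of_amp hQb hQf
    (amp_of_iso eQ.symm ((hasTorDimLE_iff (A := A) _ d).1 hN))
  let a : ℤ := -(d : ℤ)
  have hflatQ : Module.Flat B (P.X a ⧸ LinearMap.range (P.d (a - 1) a).hom) := by
    letI : Module A (P.X a) := Module.compHom _ (algebraMap A B)
    haveI : IsScalarTower A B (P.X a) := ⟨fun x b y => by rw [Algebra.smul_def, mul_smul]; rfl⟩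
    haveI : Module.Flat A (P.X a ⧸ LinearMap.range (P.d (a - 1) a).hom) := by
      haveI := hflatA
      exact Module.Flat.of_linearEquiv (M := Q.X a ⧸ LinearMap.range (Q.d (a - 1) a).hom)
        { toFun := fun x => x
          map_add' := fun _ _ => rfl
          map_smul' := fun r x => by
            obtain ⟨y, rfl⟩ := Submodule.Quotient.mk_surjective _ x
            rfl
          invFun := fun x => x
          left_inv := fun _ => rfl
          right_inv := fun _ => rfl }
    exact Groth.Agent.WeakEt.flat_of_flat_lmul hl _
  haveI : P.IsGE a := (CochainComplex.isGE_iff P a).2 fun i hi => by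
    have hi0 : i ≠ 0 := by
      have : a ≤ 0 := by simp [a]
      lia
    rw [HomologicalComplex.exactAt_iff_isZero_homology]
    exact (HomologicalComplex.isZero_single_obj_homology (ComplexShape.up ℤ) 0 N i hi0).of_iso
      (isoOfQuasiIsoAt (resToSingle R) i)
  haveI : QuasiIso (P.πTruncGE a) := (CochainComplex.quasiIso_πTruncGE_iff P a).2 inferInstance
  let E := P.truncGE a
  let T := P.sc' (a - 1) a (a + 1)
  let eop : E.X a ≅ ModuleCat.of B (P.X a ⧸ LinearMap.range (P.d (a - 1) a).hom) :=
    P.truncGEXIsoOpcycles a ≪≫ P.opcyclesIsoSc' (a - 1) a (a + 1) (by simp) (by simp) ≪≫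
      T.moduleCatOpcyclesIso
  haveI : P.IsStrictlyLE 0 := (CochainComplex.isStrictlyLE_iff P 0).2 hb
  have hE : DRing.VanishesOutside E a 0 := fun i hi => by
    rcases hi with hi | hi
    · exact E.isZero_of_isStrictlyGE a i hi
    · exact E.isZero_of_isStrictlyLE 0 i hi
  refine ⟨E, hE, fun i => ?_, ⟨(asIso (DerivedCategory.Q.map (P.πTruncGE a))).symm ≪≫ eN⟩⟩
  rcases lt_trichotomy i a with hi | rfl | hi
  · haveI := ModuleCat.subsingleton_of_isZero (hE i (Or.inl hi))
    infer_instance
  · haveI := hflatQ
    exact Module.Flat.of_linearEquiv eop.toLinearEquiv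
  · haveI := hPf i
    exact Module.Flat.of_linearEquiv (P.truncGEXIso a i hi).toLinearEquiv


/-- Suppose A → B is weakly étale and every A-module has tor dimension at most d. Then every B-module
has tor dimension at most d over B (weak dimension at most d ascends along weakly étale maps). -/
theorem result (A B : Type u) [CommRing A] [CommRing B] [Algebra A B]
    [Algebra.WeaklyEtale A B] (d : ℕ)
    (hA : ∀ (M : Type u) [AddCommGroup M] [Module A M], DRing.HasTorDimLE A d M)
    (N : Type u) [AddCommGroup N] [Module B N] : DRing.HasTorDimLE B d N := by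
  exact (Groth.Agent.DRingKP.hasTorDimLE_iff N d).2
    (key (Algebra.WeaklyEtale.flat_lmul' A B) d (ModuleCat.of B N) (hA _))

end Groth.Agent.S7131
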