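import Groth.Statements.S7068
import Groth.Agent.DRingKP.Tor
import Groth.Agent.DRingKP.Coherent
import Groth.Agent.FlatSpread.Model

set_option autoImplicit false
universe u
attribute [local instance] HasDerivedCategory.standard
open MoreMor

namespace Groth.Agent.S7068

open CategoryTheory Limits DerivedCategory
open scoped TensorProduct
attribute [local instance] HasDerivedCategory.standard
open Groth.Agent.DRingKP

theorem flat_ker {R M F : Type u} [CommRing R] [AddCommGroup M] [Module R M] [AddCommGroup F] [Module R F]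
    [Module.Flat R F] [Module.Flat R M] (p : F →ₗ[R] M) (hp : Function.Surjective p) :
    Module.Flat R (LinearMap.ker p) := by
  rw [Module.Flat.iff_rTensor_injective]
  intro I hI
  have h1 : Function.Injective ((LinearMap.ker p).subtype.lTensor I) :=
    LinearMap.lTensor_injective_of_exact_of_flat p hp _ (Submodule.injective_subtype _)
      (LinearMap.exact_subtype_ker_map p) I
  have h2 : Function.Injective (LinearMap.rTensor F I.subtype) := Module.Flat.rTensor_preserves_injective_linearMap _ I.injective_subtype
  have h3 := h2.comp h1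
  rw [← LinearMap.coe_comp, LinearMap.rTensor_comp_lTensor, ← LinearMap.lTensor_comp_rTensor] at h3
  exact Function.Injective.of_comp h3

section
theorem pc_tensor {R₀ R A B : Type u} [CommRing R₀] [CommRing R] [CommRing A] [CommRing B] [Algebra R₀ R]
  [Algebra R₀ A] [Algebra R₀ B] [Algebra A B] [Algebra R B] [IsScalarTower R₀ A B] [IsScalarTower R₀ R B]
  [Algebra.IsPushout R₀ R A B] [IsNoetherianRing A] [Module.Flat R₀ A] : ∀ (k : ℕ) (M : Type u) [AddCommGroup M] [Module A M] [Module R₀ M]
    [IsScalarTower R₀ A M] [Module.Finite A M] [Module.Flat R₀ M],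
    DRing.IsPseudoCoherentModule B (-(k : ℤ)) (B ⊗[A] M) := by
  intro k
  induction k with
  | zero =>
    intro M _ _ _ _ _ _
    exact (pcModule_zero_iff (ModuleCat.of B (B ⊗[A] M))).2 (inferInstanceAs (Module.Finite B (B ⊗[A] M)))
  | succ k ih =>
    intro M _ _ _ _ _ _
    obtain ⟨r, p, hp⟩ := Module.Finite.exists_fin' A M
    haveI : Module.Flat R₀ (Fin r → A) :=
      Module.Flat.trans R₀ A (Fin r → A)
    haveI : Module.Flat R₀ (LinearMap.ker p) :=
      haveI : Module.Flat R₀ (LinearMap.ker (p.restrictScalars R₀)) := flat_ker (p.restrictScalars R₀) hp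
      Module.Flat.of_linearEquiv
        ({ toFun := fun x => x, map_add' := fun _ _ => rfl, map_smul' := fun _ _ => rfl, invFun := fun x => x
           left_inv := fun _ => rfl, right_inv := fun _ => rfl } :
          LinearMap.ker p ≃ₗ[R₀] LinearMap.ker (p.restrictScalars R₀))
    haveI : Module.Finite A (LinearMap.ker p) := inferInstance
    let ι := (LinearMap.ker p).subtype
    have hex : Function.Exact (ι.baseChange B) (p.baseChange B) :=
      lTensor_exact B (LinearMap.exact_subtype_ker_map p) hp
    have hsurj : Function.Surjective (p.baseChange B) := LinearMap.lTensor_surjective B hp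
    have hinj : Function.Injective (ι.baseChange B) := by
      have h : Function.Injective ((ι.restrictScalars R₀).lTensor R) :=
        LinearMap.lTensor_injective_of_exact_of_flat (p.restrictScalars R₀) hp (ι.restrictScalars R₀)
          (Submodule.injective_subtype _) (LinearMap.exact_subtype_ker_map p) R
      let eK := Algebra.IsPushout.cancelBaseChange R₀ R A B (LinearMap.ker p)
      let eF := Algebra.IsPushout.cancelBaseChange R₀ R A B (Fin r → A)
      have comm : ∀ x, ι.baseChange B (eK.symm x) = eF.symm ((ι.restrictScalars R₀).lTensor R x) := by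
        intro x
        induction x using TensorProduct.induction_on with
        | zero => simp
        | tmul s m => simp [eK, eF]
        | add x y hx hy => simp only [map_add, hx, hy]
      intro a b hab
      obtain ⟨a, rfl⟩ := eK.symm.surjective a
      obtain ⟨b, rfl⟩ := eK.symm.surjective b
      rw [comm, comm] at hab
      rw [h (eF.symm.injective hab)]
    let S : ShortComplex (ModuleCat.{u} B) :=
      ShortComplex.mk (ModuleCat.ofHom (ι.baseChange B)) (ModuleCat.ofHom (p.baseChange B))
        (ModuleCat.hom_ext (hex.linearMap_comp_eq_zero))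
    have hS : S.ShortExact :=
      { exact := (ShortComplex.moduleCat_exact_iff_range_eq_ker _).2 hex.linearMap_ker_eq.symm
        mono_f := (ModuleCat.mono_iff_injective _).2 hinj
        epi_g := (ModuleCat.epi_iff_surjective _).2 hsurj }
    refine pcModule_quotient hS _ ?_ ?_
    · rw [show -((k + 1 : ℕ) : ℤ) + 1 = -(k : ℤ) by lia]
      exact ih (LinearMap.ker p)
    · exact pcModule_of_free (ModuleCat.of B (B ⊗[A] (Fin r → A))) _

end


/-- If A → B is a flat homomorphism of commutative rings of finite presentation, then A → B is a perfect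
ring map: pseudo-coherent, with B of finite tor dimension as an A-module. -/
theorem result (A B : Type u) [CommRing A] [CommRing B] [Algebra A B]
    [Module.Flat A B] [Algebra.FinitePresentation A B] : MoreMor.IsPerfectHom A B := by
  refine ⟨?_, ⟨0, (hasTorDimLE_iff B 0).2 (by simpa using (amp_zero_iff_flat B).2 inferInstance)⟩⟩
  obtain ⟨R₀, _, _, S₀, _, _, _, _, _, _, hft, hft', hfl, hpo⟩ :=
    Groth.Agent.FlatSpread.exists_model_algebra A B
  haveI := hft; haveI := hft'; haveI := hfl; haveI := hpo
  haveI : IsNoetherianRing R₀ := Algebra.FiniteType.isNoetherianRing ℤ R₀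
  obtain ⟨n, ψ, hψ⟩ := Algebra.FiniteType.iff_quotient_mvPolynomial''.1 hft'
  letI : Algebra (MvPolynomial (Fin n) R₀) S₀ := ψ.toRingHom.toAlgebra
  haveI : IsScalarTower R₀ (MvPolynomial (Fin n) R₀) S₀ := IsScalarTower.of_algebraMap_eq fun x => (ψ.commutes x).symm
  let φ : MvPolynomial (Fin n) A →ₐ[A] B := MvPolynomial.aeval fun i => algebraMap S₀ B (ψ (MvPolynomial.X i))
  letI : Algebra (MvPolynomial (Fin n) A) B := φ.toRingHom.toAlgebra
  haveI : IsScalarTower A (MvPolynomial (Fin n) A) B := IsScalarTower.of_algebraMap_eq fun x => (φ.commutes x).symm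
  letI : Algebra (MvPolynomial (Fin n) R₀) (MvPolynomial (Fin n) A) := MvPolynomial.algebraMvPolynomial
  letI : Algebra (MvPolynomial (Fin n) R₀) B := ((algebraMap S₀ B).comp ψ.toRingHom).toAlgebra
  haveI : IsScalarTower (MvPolynomial (Fin n) R₀) S₀ B := IsScalarTower.of_algebraMap_eq fun _ => rfl
  haveI : IsScalarTower (MvPolynomial (Fin n) R₀) (MvPolynomial (Fin n) A) B := by
    refine IsScalarTower.of_algebraMap_eq' (MvPolynomial.ringHom_ext (fun r => ?_) fun i => ?_)
    · change algebraMap S₀ B (ψ (MvPolynomial.C r)) = φ (MvPolynomial.map (algebraMap R₀ A) (MvPolynomial.C r))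
      rw [MvPolynomial.map_C, ← MvPolynomial.algebraMap_eq, ← MvPolynomial.algebraMap_eq, ψ.commutes, φ.commutes,
        ← IsScalarTower.algebraMap_apply, ← IsScalarTower.algebraMap_apply]
    · change algebraMap S₀ B (ψ (MvPolynomial.X i)) = φ (MvPolynomial.map (algebraMap R₀ A) (MvPolynomial.X i))
      simp [φ]
  haveI : IsScalarTower R₀ (MvPolynomial (Fin n) A) B := IsScalarTower.of_algebraMap_eq fun r => by
    rw [IsScalarTower.algebraMap_apply R₀ A B, IsScalarTower.algebraMap_apply R₀ A (MvPolynomial (Fin n) A),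
      ← IsScalarTower.algebraMap_apply A (MvPolynomial (Fin n) A) B]
  haveI : Algebra.IsPushout (MvPolynomial (Fin n) R₀) (MvPolynomial (Fin n) A) S₀ B := by
    haveI : Algebra.IsPushout R₀ S₀ A B := Algebra.IsPushout.symm ‹_›
    exact Algebra.IsPushout.symm ((Algebra.IsPushout.comp_iff (R := R₀) (S := MvPolynomial (Fin n) R₀) (R' := A)
      (S' := MvPolynomial (Fin n) A) (T := S₀) (T' := B)).1 ‹_›)
  haveI : Module.Finite (MvPolynomial (Fin n) R₀) S₀ :=
    Module.Finite.of_surjective (Algebra.linearMap (MvPolynomial (Fin n) R₀) S₀) hψ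
  let e : MvPolynomial (Fin n) A ⊗[MvPolynomial (Fin n) R₀] S₀ ≃ₗ[MvPolynomial (Fin n) A] B :=
    (Algebra.IsPushout.equiv (MvPolynomial (Fin n) R₀) (MvPolynomial (Fin n) A) S₀ B).toLinearEquiv
  refine ⟨n, φ, ?_, ?_⟩
  · intro b
    obtain ⟨x, rfl⟩ := e.surjective b
    induction x using TensorProduct.induction_on with
    | zero => exact ⟨0, by simp⟩
    | tmul p s =>
      obtain ⟨q, rfl⟩ := hψ s
      refine ⟨p * MvPolynomial.map (algebraMap R₀ A) q, ?_⟩
      simp only [e, AlgEquiv.toLinearEquiv_apply, Algebra.IsPushout.equiv_tmul, map_mul]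
      exact congrArg _ (IsScalarTower.algebraMap_apply (MvPolynomial (Fin n) R₀) (MvPolynomial (Fin n) A) B q).symm
    | add x y hx hy =>
      obtain ⟨a, ha⟩ := hx
      obtain ⟨b, hb⟩ := hy
      exact ⟨a + b, by rw [map_add, map_add, ha, hb]⟩
  refine pc'_of_forall fun m => ?_
  refine pc_mono (m := -(((-m).toNat : ℕ) : ℤ)) (by lia) ?_
  exact pcModule_of_iso e.toModuleIso (pc_tensor (R₀ := R₀) (R := A) (-m).toNat S₀)

end Groth.Agent.S7068
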