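import Groth.Statements.S18195
import Groth.Agent.LocImmB.More

set_option autoImplicit false
universe u
open LocImm

namespace Groth.Agent.S18195

open CategoryTheory AlgebraicGeometry in
/-- Let `f : X ⟶ Y` and `g : Y ⟶ Z` be morphisms of Noetherian schemes with `g` separated and `f ≫ g` a
localizing immersion (localizing and injective on points). If `f` has schematically dense image,
i.e. each ring map `Γ(Y, U) → Γ(X, f⁻¹U)` is injective, then `f` is a localizing immersion. -/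
theorem result {X Y Z : Scheme.{u}} [IsNoetherian X] [IsNoetherian Y] [IsNoetherian Z]
    (f : X ⟶ Y) (g : Y ⟶ Z) (hfg : LocImm.IsLocImmersion (f ≫ g)) [IsSeparated g]
    (hd : ∀ U : Y.Opens, Function.Injective (f.app U).hom) : LocImm.IsLocImmersion f := by
  set_option backward.isDefEq.respectTransparency false in
  haveI := Groth.Agent.LocImmB.mono hfg
  haveI := mono_of_mono f g
  refine ⟨fun x => ?_, Groth.Agent.LocImmB.injective_of_mono f⟩
  obtain ⟨V, hxV, -, hV, hP, hloc⟩ := Groth.Agent.LocImmB.exists_affine_nhd hfg x ⊤ trivial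
  obtain ⟨W, hW, hxW, hWV⟩ := exists_isAffineOpen_mem_and_subset
    (show f x ∈ g ⁻¹ᵁ V by change g (f x) ∈ V; rw [← Scheme.Hom.comp_apply]; exact hxV)
  have hWV' : W ≤ g ⁻¹ᵁ V := hWV
  obtain ⟨b, hb, hxb⟩ := hP.exists_basicOpen_le (V := f ⁻¹ᵁ W) ⟨x, hxW⟩
    (show x ∈ (f ≫ g) ⁻¹ᵁ V from hxV)
  letI := ((f ≫ g).app V).hom.toAlgebra
  obtain ⟨S, hS⟩ := hloc
  obtain ⟨⟨a, s⟩, has⟩ := IsLocalization.surj S b
  have hXa : X.basicOpen b = X.basicOpen (((f ≫ g).app V).hom a) := by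
    change _ = X.basicOpen (algebraMap Γ(Z, V) Γ(X, (f ≫ g) ⁻¹ᵁ V) a)
    rw [← has, Scheme.basicOpen_mul, X.basicOpen_of_isUnit (IsLocalization.map_units _ s)]
    exact (inf_eq_left.2 (X.basicOpen_le b)).symm
  let aW : Γ(Y, W) := (g.appLE V W hWV').hom a
  have hW'eq : f ⁻¹ᵁ Y.basicOpen aW = X.basicOpen b := by
    simp only [aW, Scheme.Hom.appLE, CommRingCat.hom_comp, RingHom.comp_apply, Scheme.basicOpen_res,
      ← Scheme.preimage_basicOpen]
    rw [hXa, ← Scheme.preimage_basicOpen, Scheme.Hom.comp_preimage]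
    refine le_antisymm (fun z hz => hz.2) (fun z hz => ⟨?_, hz⟩)
    refine hb ?_
    rw [hXa, ← Scheme.preimage_basicOpen]
    exact hz
  have haff : IsAffineOpen (f ⁻¹ᵁ Y.basicOpen aW) := hW'eq ▸ hP.basicOpen b
  have hxmem : x ∈ f ⁻¹ᵁ Y.basicOpen aW := by rw [hW'eq]; exact hxb
  refine ⟨⟨Y.basicOpen aW, hW.basicOpen aW⟩, ⟨_, haff⟩, hxmem, le_rfl, ?_⟩
  rw [← Scheme.Hom.app_eq_appLE]
  have hle1 : Y.basicOpen aW ≤ g ⁻¹ᵁ V := (Y.basicOpen_le aW).trans hWV'
  have hle2 : f ⁻¹ᵁ Y.basicOpen aW ≤ (f ≫ g) ⁻¹ᵁ V := hW'eq ▸ X.basicOpen_le b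
  refine Groth.Agent.LocImmB.isLocHom_of_injective (g.appLE V (Y.basicOpen aW) hle1).hom _ (hd _) ?_
  have he : (f.app (Y.basicOpen aW)).hom.comp (g.appLE V (Y.basicOpen aW) hle1).hom =
      (X.presheaf.map (homOfLE hle2).op).hom.comp ((f ≫ g).app V).hom := by
    rw [← CommRingCat.hom_comp, ← CommRingCat.hom_comp, Scheme.Hom.app_eq_appLE, Scheme.Hom.app_eq_appLE,
      Scheme.Hom.appLE_map, Scheme.Hom.appLE_comp_appLE]
  rw [he]
  exact Groth.Agent.LocImmB.isLocHom_comp_away _ _ b ⟨S, hS⟩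
    (hP.isLocalization_of_eq_basicOpen b (homOfLE hle2) hW'eq)

end Groth.Agent.S18195
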