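import Groth.Statements.S17886
import Groth.Agent.PiSmooth.Main
import Groth.Agent.TMul.AmpleBasis
-- import your own Groth.Agent.* helpers here

set_option autoImplicit false
universe u
open CategoryTheory AlgebraicGeometry
open FlatMor

namespace Groth.Agent.S17886

/-- Let S be a Noetherian scheme and f : X → S separated and of finite type. Then X is covered by
finitely many affine opens U_1, …, U_n each of which is dense in X and quasi-projective over S (of
finite type with a relatively ample invertible module). -/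
theorem result {S X : Scheme.{u}} (f : X ⟶ S)
    [IsNoetherian S] [IsSeparated f] [QuasiCompact f] [LocallyOfFiniteType f] :
    ∃ (n : ℕ) (U : Fin n → X.Opens), (⨆ i, U i) = ⊤ ∧
      ∀ i, IsAffineOpen (U i) ∧ Dense ((U i : Set X)) ∧ RelProj.IsQuasiProjective ((U i).ι ≫ f) := by
  classical
  haveI := LocallyOfFiniteType.isLocallyNoetherian f
  haveI : CompactSpace X := QuasiCompact.compactSpace_of_compactSpace f
  haveI : IsNoetherian X := {}
  have key : ∀ x : X, ∃ U : X.Opens, x ∈ U ∧ IsAffineOpen U ∧ Dense (U : Set X) := by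
    intro x
    obtain ⟨_, ⟨A, hA, rfl⟩, hxA, -⟩ := X.isBasis_affineOpens.exists_subset_of_mem_open (Set.mem_univ x) isOpen_univ
    let R : X.Opens := ⟨(closure (A : Set X))ᶜ, isClosed_closure.isOpen_compl⟩
    haveI : TopologicalSpace.NoetherianSpace R.toScheme := R.ι.isOpenEmbedding.isInducing.noetherianSpace
    obtain ⟨V, hV, hVd⟩ := Groth.Agent.PiSmooth.exists_dense_isAffineOpen R.toScheme
    have hd : A ⊓ R.ι ''ᵁ V = ⊥ := le_bot_iff.1 fun y hy => by
      obtain ⟨z, -, rfl⟩ := hy.2
      exact (z.2 (subset_closure hy.1)).elim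
    refine ⟨A ⊔ R.ι ''ᵁ V, Or.inl hxA, hA.sup_of_disjoint (hV.image_of_isOpenImmersion R.ι) (disjoint_iff.2 hd),
      fun y => ?_⟩
    by_cases hy : y ∈ closure (A : Set X)
    · exact closure_mono (fun z hz => Or.inl hz) hy
    · refine closure_mono (s := R.ι '' (V : Set R.toScheme)) (fun z hz => Or.inr hz) ?_
      exact image_closure_subset_closure_image R.ι.continuous ⟨⟨y, hy⟩, hVd _, rfl⟩
  choose U hxU hUa hUd using key
  obtain ⟨t, ht⟩ := isCompact_univ.elim_finite_subcover (fun x => (U x : Set X)) (fun x => (U x).2)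
    (fun x _ => Set.mem_iUnion.2 ⟨x, hxU x⟩)
  refine ⟨t.card, fun i => U (t.equivFin.symm i).1, top_le_iff.1 fun y _ => ?_, fun i => ⟨hUa _, hUd _, ?_⟩⟩
  · obtain ⟨x, hx, hyx⟩ := Set.mem_iUnion₂.1 (ht (Set.mem_univ y))
    exact TopologicalSpace.Opens.mem_iSup.2 ⟨t.equivFin ⟨x, hx⟩, by simpa using hyx⟩
  · let W := U (t.equivFin.symm i).1
    haveI : IsAffine W.toScheme := hUa _
    haveI : CompactSpace W.toScheme := inferInstance
    haveI : QuasiCompact W.ι := quasiCompact_of_compactSpace _
    refine ⟨inferInstance, inferInstance, Coh.structureModule W.toScheme, inferInstance, fun V => ?_⟩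
    haveI : CompactSpace ((W.ι ≫ f) ⁻¹ᵁ V.1 : W.toScheme.Opens).toScheme :=
      isCompact_iff_compactSpace.1 ((W.ι ≫ f).isCompact_preimage V.2.isCompact)
    haveI : ((W.ι ≫ f) ⁻¹ᵁ V.1 : W.toScheme.Opens).toScheme.IsQuasiAffine :=
      Scheme.IsQuasiAffine.of_isImmersion ((W.ι ≫ f) ⁻¹ᵁ V.1 : W.toScheme.Opens).ι
    exact TMul.isAmple_of_isQuasiAffine (TMul.isInvertible_restrict _ TMul.isInvertible_structureModule)

end Groth.Agent.S17886
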