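import Groth.Statements.S17381
import Groth.Agent.RZExt.Consequences
-- import your own Groth.Agent.* helpers here

set_option autoImplicit false
universe u
open FlatMor

namespace Groth.Agent.S17381

open AlgebraicGeometry CategoryTheory Limits in
/-- Let f : X' → X be a proper morphism with X quasi-compact and quasi-separated (so X' is too), and let
U ⊆ X be a quasi-compact dense open subscheme such that f restricts to an isomorphism over U and the
preimage of U is dense in X'. Then X' and X admit a common blow-up over f: there are a scheme X̃, a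
morphism c' : X̃ → X' which is a blowing up of X' in a quasi-coherent ideal of finite type with
support disjoint from the preimage of U, and a quasi-coherent ideal of finite type on X with support
disjoint from U in which the composite c' ≫ f is a blowing up of X. (A proper morphism is birational
in this sense exactly when source and target have a common admissible blow-up.) -/
theorem result
    {X X' : Scheme.{u}} [CompactSpace X] [QuasiSeparatedSpace X]
    (f : X' ⟶ X) [IsProper f] (U : X.Opens) (hU : IsCompact (U : Set X)) (hUd : Dense (U : Set X))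
    [IsIso (f ∣_ U)] (hU' : Dense ((f ⁻¹ᵁ U : X'.Opens) : Set X')) :
    ∃ (𝓘' : X'.IdealSheafData) (𝓘 : X.IdealSheafData) (Y : Scheme.{u}) (c' : Y ⟶ X'),
      BlowUp.IsBlowUp c' 𝓘' ∧ BlowUp.IsAdmissibleFor (f ⁻¹ᵁ U) 𝓘' ∧
      BlowUp.IsBlowUp (c' ≫ f) 𝓘 ∧ BlowUp.IsAdmissibleFor U 𝓘 := by
  obtain ⟨I, D, h, hf, -, hblow, hadm, htop⟩ := Groth.Agent.RZExt.exists_openImmersion hU f
  obtain rfl := htop inferInstance
  refine ⟨I.ideal.comap f, I.ideal, I.T, I.T.topIso.inv ≫ h, Groth.Agent.RZExt.isBlowUp_iso_comp hblow _, hadm, ?_,
    ⟨I.ft, by rw [I.supp]; exact disjoint_compl_left⟩⟩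
  have e : (I.T.topIso.inv ≫ h) ≫ f = I.b :=
    (Category.assoc _ _ _).trans ((congrArg (I.T.topIso.inv ≫ ·) hf).trans (I.T.topIso.inv_hom_id_assoc _))
  rw [e]
  exact I.isBlowUp

end Groth.Agent.S17381
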