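import Groth.Statements.S0404
import Groth.Agent.GeomFib.GenericDim
import Groth.Agent.GeomFib.OpenCriterion
import Groth.Agent.Unibranch.FibreDims
import Groth.Agent.FlatSpread.Model

set_option autoImplicit false
universe u
open FlatMor

namespace Groth.Agent.S0404

open AlgebraicGeometry CategoryTheory Limits in
/-- For a flat morphism of finite presentation (here: flat, quasi-compact, quasi-separated and locally
of finite presentation) the dimension of the fibre is a lower semicontinuous function on the target. -/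
theorem result {X S : Scheme.{u}} (f : X ⟶ S) [Flat f] [LocallyOfFinitePresentation f] [QuasiCompact f] [QuasiSeparated f] (c : WithBot ℕ∞) :
    IsOpen {s : S | c < topologicalKrullDim (f.fiber s)} := by
  open TopologicalSpace in
  have hn : ∀ n : ℕ, IsOpen {s : S | (n : WithBot ℕ∞) ≤ topologicalKrullDim (f.fiber s)} := by
    intro n
    refine isOpen_iff_mem_nhds.mpr fun y hy ↦ ?_
    obtain ⟨x, hx, rfl⟩ := (DimField.dim_fiber_le_iff f y).mp hy
    obtain ⟨V, W, hV, hW, hxW, hWV, -⟩ := Unibranch.exists_chart_le f (U := ⊤) (x := x) trivial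
    let φ := f.appLE V W hWV
    have hcomp : Spec.map φ ≫ hV.fromSpec = hW.fromSpec ≫ f := hV.SpecMap_appLE_fromSpec f hW hWV
    letI : Algebra Γ(S, V) Γ(X, W) := φ.hom.toAlgebra
    have : Module.Flat Γ(S, V) Γ(X, W) := Flat.flat_appLE f hV hW hWV
    have : Algebra.FinitePresentation Γ(S, V) Γ(X, W) :=
      HasRingHomProperty.appLE @LocallyOfFinitePresentation f ‹_› ⟨V, hV⟩ ⟨W, hW⟩ hWV
    obtain ⟨R₀, _, _, S₀, _, _, _, _, _, _, hR₀, hS₀, hflat, hpo⟩ :=
      FlatSpread.exists_model_algebra Γ(S, V) Γ(X, W)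
    have : IsNoetherianRing R₀ := Algebra.FiniteType.isNoetherianRing ℤ R₀
    let g₀ := Spec.map (CommRingCat.ofHom (algebraMap R₀ S₀))
    have : Flat g₀ := (HasRingHomProperty.Spec_iff (P := @Flat)).mpr (RingHom.flat_algebraMap_iff.mpr hflat)
    have : LocallyOfFiniteType g₀ :=
      (HasRingHomProperty.Spec_iff (P := @LocallyOfFiniteType)).mpr (RingHom.finiteType_algebraMap.mpr hS₀)
    have : LocallyOfFinitePresentation g₀ := ConsEngine.lfp_of_lft g₀
    let σ := Spec.map (CommRingCat.ofHom (algebraMap R₀ Γ(S, V)))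
    have hsq : IsPullback (Spec.map (CommRingCat.ofHom (algebraMap S₀ Γ(X, W)))) (Spec.map φ) g₀ σ :=
      (isPullback_SpecMap_of_isPushout _ _ _ _ (CommRingCat.isPushout_of_isPushout R₀ Γ(S, V) S₀ Γ(X, W))).flip
    have : IsLocallyNoetherian (Spec (CommRingCat.of S₀)) := LocallyOfFiniteType.isLocallyNoetherian g₀
    -- the open set downstairs
    have h₀ : IsOpen {t | (n : WithBot ℕ∞) ≤ topologicalKrullDim ↥(g₀.fiber t)} := by
      refine isOpen_iff_mem_nhds.mpr fun t ht ↦ GeomFib.mem_nhds_of_forall_generization fun η hη ↦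
        GeomFib.exists_open_natCast_le_dim g₀ η n ?_
      exact le_trans ht (Unibranch.dim_le_of_isOpenAt g₀ hη fun z _ U hU ↦ g₀.isOpenMap.image_mem_nhds hU)
    -- the restricted morphism
    let g := hW.fromSpec ≫ f
    have hbc : ∀ t, topologicalKrullDim ↥((Spec.map φ).fiber t) = topologicalKrullDim ↥(g.fiber (hV.fromSpec t)) :=
      DimField.dim_fiber_eq_of_isPullback (g := g) (eX := 𝟙 _)
        (⟨⟨by rw [Category.id_comp]; exact hcomp.symm⟩,
          ⟨PullbackCone.IsLimit.mk _ (fun s ↦ s.fst) (fun s ↦ Category.comp_id _) (fun s ↦ by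
            rw [← cancel_mono hV.fromSpec, Category.assoc, hcomp]; exact s.condition) (fun s m h₁ _ ↦ by simpa using h₁)⟩⟩)
    have hW' : ∀ (y : S) (k : ℕ), (k : WithBot ℕ∞) ≤ topologicalKrullDim ↥(g.fiber y) ↔
        Unibranch.HasChain f (W : Set X) y k := fun y k ↦ by
      refine Unibranch.natCast_le_topologicalKrullDim_iff f (j := hW.fromSpec ∘ g.fiberι y)
        (hW.fromSpec.isEmbedding.comp (g.fiberι y).isEmbedding) ?_
      rw [Set.range_comp, Scheme.Hom.range_fiberι, ← hW.range_fromSpec]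
      ext z
      constructor
      · rintro ⟨q, hq, rfl⟩
        exact ⟨⟨q, rfl⟩, hq⟩
      · rintro ⟨⟨q, rfl⟩, hq⟩
        exact ⟨q, hq, rfl⟩
    refine Filter.mem_of_superset ((hV.fromSpec.isOpenEmbedding.isOpenMap _
      (h₀.preimage σ.continuous)).mem_nhds ?_) ?_
    · refine ⟨hV.primeIdealOf ⟨f x, hWV hxW⟩, ?_, hV.fromSpec_primeIdealOf _⟩
      show (n : WithBot ℕ∞) ≤ topologicalKrullDim ↥(g₀.fiber (σ _))
      rw [← DimField.dim_fiber_eq_of_isPullback hsq, hbc, hW', hV.fromSpec_primeIdealOf]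
      exact (Unibranch.natCast_le_fibreDimAt_iff f x).mp hx W hxW
    · rintro _ ⟨t, ht, rfl⟩
      have h1 : (n : WithBot ℕ∞) ≤ topologicalKrullDim ↥(g.fiber (hV.fromSpec t)) := by
        rw [← hbc, DimField.dim_fiber_eq_of_isPullback hsq]; exact ht
      exact (Unibranch.natCast_le_topologicalKrullDim_iff f (f.fiberι _).isEmbedding
        (by rw [Scheme.Hom.range_fiberι, Set.univ_inter])).mpr (((hW' _ n).mp h1).mono (Set.subset_univ _))
  cases c with
  | bot =>
    convert hn 0 using 1
    ext s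
    simp only [Set.mem_setOf_eq]
    cases h : topologicalKrullDim (f.fiber s) with
    | bot => simp
    | coe a => simp
  | coe a =>
    cases a with
    | top =>
      convert isOpen_empty using 1
      exact Set.eq_empty_of_forall_notMem fun s (hs : (⊤ : WithBot ℕ∞) < topologicalKrullDim (f.fiber s)) ↦ not_top_lt hs
    | coe n =>
      convert hn (n + 1) using 1
      ext s
      simp only [Set.mem_setOf_eq]
      refine ⟨fun h ↦ Classical.byContradiction fun h' ↦ h.not_ge ?_, fun h ↦ lt_of_lt_of_le ?_ h⟩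
      · exact Unibranch.natCast_le_iff_of_le_iff.mpr fun k hk ↦ Classical.byContradiction fun hkn ↦
          h' (le_trans (by exact_mod_cast not_le.mp hkn) hk)
      · exact_mod_cast Nat.lt_succ_self n

end Groth.Agent.S0404
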