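import Groth.Statements.S1662
import Mathlib
import Groth.Agent.BlowUpLib.Cartier
-- import your own Groth.Agent.* helpers here

set_option autoImplicit false
universe u
open CategoryTheory CategoryTheory.Limits AlgebraicGeometry
open Divisors

namespace Groth.Agent.S1662

open TensorProduct in
/-- If `f` is regular on `A` and `A/f` is flat over `R`, then `f` stays regular after any base change. -/
lemma nonZeroDivisor_pushout {R A T B : CommRingCat.{u}} {a : R ⟶ A} {r : R ⟶ T} {ia : A ⟶ B} {it : T ⟶ B}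
    (h : IsPushout a r ia it) {f : A} (hf : f ∈ nonZeroDivisors A)
    (hflat : ((Ideal.Quotient.mk (Ideal.span {f})).comp a.hom).Flat) : ia.hom f ∈ nonZeroDivisors B := by
  algebraize [a.hom, r.hom, ia.hom, it.hom]
  letI : Algebra R B := (ia.hom.comp a.hom).toAlgebra
  haveI : IsScalarTower R A B := IsScalarTower.of_algebraMap_eq' rfl
  haveI : IsScalarTower R T B := IsScalarTower.of_algebraMap_eq' congr(($h.w).hom)
  haveI : Algebra.IsPushout R T A B := CommRingCat.isPushout_iff_isPushout.mp h.flip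
  haveI : Module.Flat R (A ⧸ Ideal.span {f}) := RingHom.flat_algebraMap_iff.1 hflat
  let μ : A →ₗ[R] A := (LinearMap.mul R A f)
  let π : A →ₗ[R] A ⧸ Ideal.span {f} := (Ideal.Quotient.mkₐ R (Ideal.span {f})).toLinearMap
  have hex : Function.Exact μ π := fun x => by
    show Ideal.Quotient.mk (Ideal.span {f}) x = 0 ↔ _
    rw [Ideal.Quotient.eq_zero_iff_mem, Ideal.mem_span_singleton]
    exact ⟨fun ⟨c, hc⟩ => ⟨c, hc.symm⟩, fun ⟨c, hc⟩ => ⟨c, hc.symm⟩⟩
  have hinj : Function.Injective μ := fun x y hxy => by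
    rw [← sub_eq_zero]
    refine hf.1 _ ?_
    rw [mul_sub, sub_eq_zero]
    exact hxy
  have key := LinearMap.lTensor_injective_of_exact_of_flat π Ideal.Quotient.mk_surjective μ hinj hex T
  let e := Algebra.IsPushout.equiv R T A B
  have he : ∀ z : T ⊗[R] A, e (μ.lTensor T z) = ia.hom f * e z := by
    intro z
    induction z with
    | zero => simp
    | add z w hz hw => rw [map_add, map_add, map_add, hz, hw, mul_add]
    | tmul t x =>
      rw [LinearMap.lTensor_tmul, Algebra.IsPushout.equiv_tmul, Algebra.IsPushout.equiv_tmul]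
      show algebraMap T B t * algebraMap A B (f * x) = _
      rw [map_mul, mul_left_comm]
      rfl
  rw [mem_nonZeroDivisors_iff_left]
  intro b hb
  obtain ⟨z, rfl⟩ := e.surjective b
  have : e (μ.lTensor T z) = e (μ.lTensor T 0) := by rw [he, hb, map_zero, map_zero]
  rw [key (e.injective this), map_zero]

/-- Let f : X → S, D an effective Cartier divisor on X such that D → S is flat, and g : S' → S any
morphism. Then the inverse image of D in X ×_S S' is an effective Cartier divisor. -/
theorem result {X S S' : Scheme.{u}} (f : X ⟶ S) (D : X.IdealSheafData) (hD : BlowUp.IsEffCartierIdeal D)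
    [Flat (D.subschemeι ≫ f)] (g : S' ⟶ S) :
    BlowUp.IsEffCartierIdeal (D.comap (pullback.fst f g)) := by
  intro p
  let x := pullback.fst f g p
  obtain ⟨V, hV, hxV, -⟩ := exists_isAffineOpen_mem_and_subset (X := S) (U := ⊤)
    (trivial : f x ∈ (⊤ : S.Opens))
  obtain ⟨U, hxU, hUV, a, ha, he⟩ := BlowUpLib.exists_small_generator hD (O := f ⁻¹ᵁ V) (x := x) hxV
  have hpV : g (pullback.snd f g p) ∈ V := by
    have : g (pullback.snd f g p) = f x := congrArg (fun φ : pullback f g ⟶ S => φ p) pullback.condition.symm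
    rw [this]
    exact hxV
  obtain ⟨W, hW, hpW, hWV⟩ := exists_isAffineOpen_mem_and_subset (X := S') (U := g ⁻¹ᵁ V) hpV
  let H := IsPullback.of_hasPullback f g
  let P : (pullback f g).Opens := pullback.fst f g ⁻¹ᵁ U.1 ⊓ pullback.snd f g ⁻¹ᵁ W
  have hP : IsAffineOpen P := by
    have : IsAffine _ := U.2
    have : IsAffine _ := hW
    have : IsAffine _ := hV
    exact .of_isIso (Scheme.Hom.isPullback_resLE H hWV hUV (UY := P) rfl).isoPullback.hom
  have hpo := (isIso_pushoutSection_iff H hWV hUV (UY := P) rfl).1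
    (isIso_pushoutSection_of_isAffineOpen H hWV hUV rfl hV hW U.2)
  refine ⟨⟨P, hP⟩, ⟨hxU, hpW⟩, ((pullback.fst f g).appLE U.1 P inf_le_left).hom a,
    nonZeroDivisor_pushout hpo ha ?_, ?_⟩
  · let ι := D.subschemeι
    have hsurj : Function.Surjective (ι.app U.1).hom := D.subschemeι_app_surjective U
    have hker : RingHom.ker (ι.app U.1).hom = Ideal.span {a} := (D.ker_subschemeι_app U).trans he
    let e := (Ideal.quotEquivOfEq hker.symm).trans (RingHom.quotientKerEquivOfSurjective hsurj)
    have h2 := (ι ≫ f).flat_appLE hV (U.2.preimage ι) (show ι ⁻¹ᵁ U.1 ≤ (ι ≫ f) ⁻¹ᵁ V from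
      fun z hz => hUV hz)
    have h3 : ((ι ≫ f).appLE V (ι ⁻¹ᵁ U.1) (fun z hz => hUV hz)).hom =
        e.toRingHom.comp ((Ideal.Quotient.mk (Ideal.span {a})).comp (f.appLE V U.1 hUV).hom) := by
      rw [← Scheme.Hom.appLE_comp_appLE ι f V U.1 (ι ⁻¹ᵁ U.1) hUV le_rfl, ← Scheme.Hom.app_eq_appLE]
      rfl
    rw [h3] at h2
    have h4 := RingHom.Flat.comp h2 (.of_bijective (f := e.symm.toRingHom) e.symm.bijective)
    convert h4 using 1
    ext z
    exact (e.symm_apply_apply _).symm
  · rw [FpqcDescent.ideal_comap_appLE D _ U ⟨P, hP⟩ inf_le_left, he, Ideal.map_span, Set.image_singleton]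

end Groth.Agent.S1662
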