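import Groth.Statements.S1702
import Groth.Agent.FlatCartier.Basic

set_option autoImplicit false
universe u
open CategoryTheory CategoryTheory.Limits AlgebraicGeometry TopologicalSpace
open SDiv

namespace Groth.Agent.S1702

/-- Let f : X ⟶ S be a morphism and 𝓘₁, 𝓘₂ ideal sheaves of effective Cartier divisors on X whose closed
subschemes are flat over S. Then the product ideal 𝓘₁𝓘₂ (the sum of the divisors) is again the ideal
of an effective Cartier divisor flat over S. -/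
theorem result {X S : Scheme.{u}} (f : X ⟶ S) (𝓘₁ 𝓘₂ : X.IdealSheafData)
    (h₁ : (BlowUp.IsEffCartierIdeal 𝓘₁ ∧ Flat (𝓘₁.subschemeι ≫ f))) (h₂ : (BlowUp.IsEffCartierIdeal 𝓘₂ ∧ Flat (𝓘₂.subschemeι ≫ f))) : (BlowUp.IsEffCartierIdeal (𝓘₁ * 𝓘₂) ∧ Flat ((𝓘₁ * 𝓘₂).subschemeι ≫ f)) := by
  refine ⟨Groth.Agent.BlowUpLib.cartier_mul h₁.1 h₂.1, Groth.Agent.FlatCartier.flat_subscheme fun x _ => ?_⟩
  obtain ⟨V, U, hxU, e, a, b, ha, hb, hea, heb⟩ := Groth.Agent.FlatCartier.exists_common h₁.1 h₂.1 f x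
  have hI : Module.Flat Γ(S, V.1) Γ(S, V.1) := inferInstance
  have hfa := Groth.Agent.FlatCartier.flat_quotient h₁.2 V.2 U e
  have hfb := Groth.Agent.FlatCartier.flat_quotient h₂.2 V.2 U e
  rw [hea] at hfa
  rw [heb] at hfb
  refine ⟨V, U, hxU, e, ?_⟩
  rw [Scheme.IdealSheafData.ideal_mul, Pi.mul_apply, hea, heb, Ideal.span_singleton_mul_span_singleton]
  letI := (f.appLE V.1 U.1 e).hom.toAlgebra
  obtain ⟨i, q, hi, hex, hq⟩ := Groth.Agent.FlatCartier.exists_mul_sequence (R := Γ(S, V.1)) a b ha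
  have : Module.Flat Γ(S, V.1) (Γ(X, U.1) ⧸ Ideal.span {a}) := RingHom.flat_algebraMap_iff.1 hfa
  have : Module.Flat Γ(S, V.1) (Γ(X, U.1) ⧸ Ideal.span {b}) := RingHom.flat_algebraMap_iff.1 hfb
  exact RingHom.flat_algebraMap_iff.2 (Groth.Agent.FlatCartier.flat_mid i q hi hex hq)

end Groth.Agent.S1702
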