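import Groth.Statements.S2461
-- import your own Groth.Agent.* helpers here
import Mathlib

set_option autoImplicit false
universe u
open EGA41

namespace Groth.Agent.S2461

/-- Let A carry the 𝔞-adic topology and let B be a Noetherian A-algebra with the 𝔟-adic topology. Then B
is formally smooth over A if and only if the 𝔟-adic completion of B, with the adic topology of the
extended ideal, is formally smooth over A. -/
theorem result {A B : Type u} [CommRing A] (𝔞 : Ideal A) [CommRing B] [IsNoetherianRing B] [Algebra A B] (𝔟 : Ideal B) :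
    EGA41.IsFormallySmoothAdic A 𝔞 B 𝔟 ↔
      EGA41.IsFormallySmoothAdic A 𝔞 (AdicCompletion 𝔟 B) (𝔟.map (algebraMap B (AdicCompletion 𝔟 B))) := by
  constructor
  · intro hB E _ _ J hJ hE u hu
    obtain ⟨m, hm⟩ := hu
    let ι : B →ₐ[A] AdicCompletion 𝔟 B := IsScalarTower.toAlgHom A B (AdicCompletion 𝔟 B)
    obtain ⟨v, hv⟩ := hB E J hJ hE (u.comp ι) ⟨m, fun x hx => hm _ (by
      rw [← Ideal.map_pow]; exact Ideal.mem_map_of_mem _ hx)⟩
    obtain ⟨N, hN⟩ := hJ
    have hv' : ∀ x, Ideal.Quotient.mk J (v x) = u (algebraMap B _ x) := fun x =>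
      congrArg (fun g : B →ₐ[A] E ⧸ J => g x) hv
    have hkill : ∀ x ∈ 𝔟 ^ (m * (N + 1)), v x = 0 := by
      intro x hx
      have h := Ideal.mem_map_of_mem v.toRingHom hx
      rw [pow_mul, Ideal.map_pow] at h
      have hle : (𝔟 ^ m).map v.toRingHom ≤ J := by
        rw [Ideal.map_le_iff_le_comap]
        intro y hy
        refine Ideal.mem_comap.mpr <| Ideal.Quotient.eq_zero_iff_mem.mp ((hv' y).trans (hm _ ?_))
        rw [← Ideal.map_pow]; exact Ideal.mem_map_of_mem _ hy
      have := (Ideal.pow_right_mono hle (N + 1)) h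
      rw [pow_succ, hN, zero_mul] at this
      exact this
    refine ⟨(Ideal.Quotient.liftₐ _ v hkill).comp
      ((AdicCompletion.evalₐ 𝔟 (m * (N + 1))).restrictScalars A), AlgHom.ext fun y => ?_⟩
    obtain ⟨b, hb⟩ := Ideal.Quotient.mk_surjective (AdicCompletion.evalₐ 𝔟 (m * (N + 1)) y)
    change Ideal.Quotient.mk J
      (Ideal.Quotient.liftₐ _ v hkill (AdicCompletion.evalₐ 𝔟 (m * (N + 1)) y)) = u y
    rw [← hb]
    change Ideal.Quotient.mk J (v b) = u y
    rw [hv', ← sub_eq_zero, ← map_sub]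
    refine hm _ (Ideal.pow_le_pow_right (Nat.le_mul_of_pos_right m N.succ_pos) ?_)
    have hmem : algebraMap B (AdicCompletion 𝔟 B) b - y ∈
        LinearMap.ker (AdicCompletion.eval 𝔟 B (m * (N + 1))) := by
      rw [LinearMap.mem_ker, map_sub, sub_eq_zero,
        ← AdicCompletion.factor_evalₐ_eq_eval _ _ (le_of_eq (Ideal.mul_top _).symm),
        ← AdicCompletion.factor_evalₐ_eq_eval _ _ (le_of_eq (Ideal.mul_top _).symm),
        show algebraMap B (AdicCompletion 𝔟 B) b = AdicCompletion.of 𝔟 B b from rfl,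
        AdicCompletion.evalₐ_of, hb]
    rw [← AdicCompletion.pow_smul_top_eq_ker_eval (IsNoetherian.noetherian 𝔟)] at hmem
    rw [Ideal.smul_top_eq_map, Submodule.restrictScalars_mem, Ideal.map_pow] at hmem
    exact hmem
  · intro hB E _ _ J hJ hE u hu
    obtain ⟨m, hm⟩ := hu
    let u' : AdicCompletion 𝔟 B →ₐ[A] E ⧸ J :=
      (Ideal.Quotient.liftₐ _ u hm).comp ((AdicCompletion.evalₐ 𝔟 m).restrictScalars A)
    have hu'of : ∀ b, u' (algebraMap B _ b) = u b := by
      intro b
      change Ideal.Quotient.liftₐ _ u hm (AdicCompletion.evalₐ 𝔟 m (algebraMap B _ b)) = u b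
      rw [AlgHom.commutes]
      rfl
    obtain ⟨v, hv⟩ := hB E J hJ hE u' ⟨m, fun y hy => by
      rw [← Ideal.map_pow] at hy
      have := Ideal.mem_map_of_mem u'.toRingHom hy
      rw [Ideal.map_map, show (𝔟 ^ m).map (u'.toRingHom.comp (algebraMap B _)) = ⊥ from by
        rw [eq_bot_iff, Ideal.map_le_iff_le_comap]
        intro x hx
        exact (hu'of x).trans (hm x hx)] at this
      exact this⟩
    exact ⟨v.comp (IsScalarTower.toAlgHom A B _), AlgHom.ext fun b =>
      (congrArg (fun g : AdicCompletion 𝔟 B →ₐ[A] E ⧸ J => g (algebraMap B _ b)) hv).trans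
        (hu'of b)⟩

end Groth.Agent.S2461
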