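import Groth.Statements.S4537
import Mathlib

set_option autoImplicit false
universe u
open EGA41

namespace Groth.Agent.S4537

/-- For a discrete base and an adic algebra: let A be a discrete ring and B an A-algebra with the 𝔫-adic
topology. If every continuous A-algebra map from B to a quotient C/J with J² = 0 lifts to C, then
the same holds for every nilpotent J; hence the square-zero and the nilpotent forms of adic formal
smoothness agree. -/
theorem result {A B : Type u} [CommRing A] [CommRing B] [Algebra A B]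
    (𝔫 : Ideal B) :
    CAlgX.IsAdicFormallySmooth A B 𝔫 ↔ EGA41.IsFormallySmoothAdic A ⊥ B 𝔫 := by
  constructor
  · intro h
    have key : ∀ (n : ℕ) (C : Type u) [CommRing C] [Algebra A C] (J : Ideal C), J ^ (2 ^ n) = ⊥ →
        ∀ u : B →ₐ[A] C ⧸ J, (∃ k : ℕ, ∀ x ∈ 𝔫 ^ k, u x = 0) →
          ∃ v : B →ₐ[A] C, (Ideal.Quotient.mkₐ A J).comp v = u := by
      intro n
      induction n with
      | zero =>
        intro C _ _ J hJ u _
        rw [pow_zero, pow_one] at hJ
        subst hJ
        exact ⟨(AlgEquiv.quotientBot A C).toAlgHom.comp u, AlgHom.ext fun x => by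
          obtain ⟨c, hc⟩ := Ideal.Quotient.mk_surjective (u x)
          simp [← hc]⟩
      | succ n ih =>
        intro C _ _ J hJ u ⟨k, hk⟩
        let J' := J ^ (2 ^ n)
        have hsq : J' ^ 2 = ⊥ := by rw [← pow_mul, ← pow_succ, hJ]
        have hle : J' ≤ J := Ideal.pow_le_self (by positivity)
        let J₁ : Ideal (C ⧸ J') := J.map (Ideal.Quotient.mkₐ A J')
        let e : ((C ⧸ J') ⧸ J₁) ≃ₐ[A] C ⧸ J := DoubleQuot.quotQuotEquivQuotOfLEₐ A hle
        have hJ₁ : J₁ ^ (2 ^ n) = ⊥ := by
          rw [← Ideal.map_pow]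
          exact Ideal.map_quotient_self _
        obtain ⟨v₁, hv₁⟩ := ih (C ⧸ J') J₁ hJ₁ (e.symm.toAlgHom.comp u)
          ⟨k, fun x hx => by simp [hk x hx]⟩
        have hker : ∀ x ∈ 𝔫 ^ (k * 2 ^ n), v₁ x = 0 := by
          have hle1 : (𝔫 ^ k).map v₁ ≤ J₁ := Ideal.map_le_iff_le_comap.mpr fun x hx => by
            show v₁ x ∈ J₁
            refine (Ideal.Quotient.eq_zero_iff_mem (I := J₁)).mp ((AlgHom.congr_fun hv₁ x).trans ?_)
            simp [hk x hx]
          intro x hx
          have := Ideal.mem_map_of_mem v₁ hx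
          rw [pow_mul, Ideal.map_pow] at this
          exact Ideal.mem_bot.mp (hJ₁.le (Ideal.pow_right_mono hle1 _ this))
        obtain ⟨v, hv⟩ := h C J' hsq v₁ ⟨_, hker⟩
        refine ⟨v, AlgHom.ext fun x => ?_⟩
        have h1 := congrArg e (AlgHom.congr_fun hv₁ x)
        have h2 := AlgHom.congr_fun hv x
        simp only [AlgHom.comp_apply, AlgEquiv.toAlgHom_apply, AlgEquiv.apply_symm_apply] at h1 h2
        rw [← h2] at h1
        exact h1
    intro C _ _ J ⟨n, hn⟩ _ u hu
    exact key n C J (le_bot_iff.mp ((Ideal.pow_le_pow_right Nat.lt_two_pow_self.le).trans hn.le)) u hu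
  · intro h C _ _ J hJ ψ hψ
    exact h C J ⟨2, hJ⟩ ⟨1, by simp⟩ ψ hψ

end Groth.Agent.S4537
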