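import Groth.Statements.S2453
-- import your own Groth.Agent.* helpers here
import Groth.Agent.EGA41Adic.SepField
import Groth.Agent.Cohen.Structure
import Groth.Agent.S2451
import Groth.Agent.S2452
import Groth.Agent.S0543
import Groth.Agent.S0548

set_option autoImplicit false
universe u
open EGA41

namespace Groth.Agent.S2453

open IsLocalRing in
/-- Let k be a field and A a Noetherian local k-algebra with maximal ideal 𝔪 and residue field K
separable over k; give A the 𝔪-adic topology (k discrete). The following are equivalent: (a) A is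
formally smooth over k; (b) the 𝔪-adic completion of A is isomorphic to some K[[T_1, …, T_n]] by an
isomorphism carrying the image of k in A to the image of k under k → K → K[[T]]; (b') the completion
is isomorphic as a ring to some K[[T_1, …, T_n]]; (c) A is a regular local ring. -/
theorem result {k A : Type u} [Field k] [CommRing A] [IsLocalRing A] [IsNoetherianRing A] [Algebra k A]
    [Algebra.IsGeometricallyReduced k (ResidueField A)] :
    [CAlgX.IsAdicFormallySmooth k A (maximalIdeal A),
     ∃ (n : ℕ) (e : AdicCompletion (maximalIdeal A) A ≃+* MvPowerSeries (Fin n) (ResidueField A)),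
       ∀ x : k, e (algebraMap A (AdicCompletion (maximalIdeal A) A) (algebraMap k A x)) =
         algebraMap (ResidueField A) (MvPowerSeries (Fin n) (ResidueField A)) (algebraMap k (ResidueField A) x),
     ∃ n : ℕ, Nonempty (AdicCompletion (maximalIdeal A) A ≃+* MvPowerSeries (Fin n) (ResidueField A)),
     IsRegularLocalRing A].TFAE := by
  haveI : Algebra.FormallySmooth k (ResidueField A) := Groth.Agent.S2451.result.mpr inferInstance
  let Â := AdicCompletion (maximalIdeal A) A
  haveI : IsNoetherianRing Â := Groth.Agent.S0543.result A (maximalIdeal A)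
  let r : ResidueField A ≃+* ResidueField Â :=
    RingEquiv.ofBijective _ (AdicCompletion.residueField_map_bijective_of_fg (IsNoetherian.noetherian _))
  let rA : ResidueField A ≃ₐ[k] ResidueField Â := AlgEquiv.ofRingEquiv (f := r) fun x => by
    show residue Â (algebraMap A Â (algebraMap k A x)) = residue Â (algebraMap k Â x)
    rw [← IsScalarTower.algebraMap_apply]
  haveI : Algebra.IsGeometricallyReduced k (ResidueField Â) :=
    Algebra.IsGeometricallyReduced.of_injective rA.symm.toAlgHom rA.symm.injective
  obtain ⟨σ', hσ'⟩ := Groth.Agent.S2452.result (k := k) (A := Â)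
  let σ : ResidueField A →ₐ[k] Â := σ'.comp rA.toAlgHom
  have hσ : Function.Surjective ((residue Â).comp σ.toRingHom) := fun x =>
    ⟨rA.symm x, (hσ' _).trans (rA.apply_symm_apply x)⟩
  obtain ⟨d, ψ, hsurj, hC, -, hiff⟩ := Groth.Agent.EGA41Adic.exists_presentation σ hσ
  tfae_have 1 → 4 := fun h => (Groth.Agent.S0548.result A).mpr
    (Groth.Agent.EGA41Adic.isRegularLocalRing_of_formallySmooth σ hσ
      (Groth.Agent.EGA41Adic.isAdicFormallySmooth_completion_iff.mp h))
  tfae_have 4 → 2 := fun h => by
    let e := AlgEquiv.ofBijective ψ (hiff.mp ((Groth.Agent.S0548.result A).mp h))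
    refine ⟨d, e.symm.toRingEquiv, fun x => ?_⟩
    rw [← IsScalarTower.algebraMap_apply k A (AdicCompletion (maximalIdeal A) A),
      ← IsScalarTower.algebraMap_apply k (ResidueField A) (MvPowerSeries (Fin d) (ResidueField A))]
    exact e.symm.commutes x
  tfae_have 2 → 3 := fun ⟨n, e, _⟩ => ⟨n, ⟨e⟩⟩
  tfae_have 3 → 4 := fun ⟨n, ⟨e⟩⟩ => by
    haveI := Groth.Agent.Cohen.isRegularLocalRing_mvPowerSeries (ResidueField A) n
    exact (Groth.Agent.S0548.result A).mpr (IsRegularLocalRing.of_ringEquiv e.symm)
  tfae_have 4 → 1 := fun h => by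
    let e := AlgEquiv.ofBijective ψ (hiff.mp ((Groth.Agent.S0548.result A).mp h))
    refine Groth.Agent.EGA41Adic.isAdicFormallySmooth_completion_iff.mpr
      (Groth.Agent.EGA41Adic.isAdicFormallySmooth_of_algEquiv e ?_
        (Groth.Agent.EGA41Adic.isAdicFormallySmooth_mvPowerSeries k (ResidueField A) d))
    haveI : IsLocalHom e.toAlgHom.toRingHom := IsLocalHom.of_surjective e.toAlgHom.toRingHom e.surjective
    exact IsLocalRing.map_maximalIdeal_of_surjective e.toAlgHom.toRingHom e.surjective
  tfae_finish

end Groth.Agent.S2453
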