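import Groth.Statements.S4535
-- import your own Groth.Agent.* helpers here
import Mathlib

set_option autoImplicit false
universe u
open EGA41

namespace Groth.Agent.S4535

open TensorProduct in
/-- Let B (𝔟-adic) be formally smooth over A (𝔞-adic) and let A' (𝔞'-adic) be a topological A-algebra (a
power of 𝔞 maps into 𝔞'). Then the A'-algebra A' ⊗_A B, with the tensor product topology, i.e. the
adic topology of the ideal generated by the images of 𝔞' and 𝔟, is formally smooth over A'. -/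
theorem result {A B A' : Type u} [CommRing A] [CommRing B] [CommRing A'] [Algebra A B] [Algebra A A']
    (𝔞 : Ideal A) (𝔟 : Ideal B) (𝔞' : Ideal A') (hAA' : ∃ k : ℕ, (𝔞 ^ k).map (algebraMap A A') ≤ 𝔞')
    (hB : EGA41.IsFormallySmoothAdic A 𝔞 B 𝔟) :
    EGA41.IsFormallySmoothAdic A' 𝔞' (A' ⊗[A] B)
      (𝔞'.map (algebraMap A' (A' ⊗[A] B)) ⊔
        𝔟.map (Algebra.TensorProduct.includeRight : B →ₐ[A] A' ⊗[A] B).toRingHom) := by
  intro E _ _ J hJ hE u hu
  obtain ⟨m, hm⟩ := hu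
  obtain ⟨k₀, hk₀⟩ := hAA'
  obtain ⟨k, hk⟩ := hE
  letI : Algebra A E := ((algebraMap A' E).comp (algebraMap A A')).toAlgebra
  haveI : IsScalarTower A A' E := IsScalarTower.of_algebraMap_eq fun _ => rfl
  have hEA : ∃ k : ℕ, (𝔞 ^ k).map (algebraMap A E) = ⊥ := by
    refine ⟨k₀ * k, le_bot_iff.mp ?_⟩
    rw [IsScalarTower.algebraMap_eq A A' E, ← Ideal.map_map, pow_mul]
    refine le_trans ?_ hk.le
    refine Ideal.map_mono ?_
    rw [Ideal.map_pow]
    exact Ideal.pow_right_mono hk₀ k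
  let iR : B →ₐ[A] A' ⊗[A] B := Algebra.TensorProduct.includeRight
  let uB : B →ₐ[A] E ⧸ J := (u.restrictScalars A).comp iR
  have huB : ∃ n : ℕ, ∀ x ∈ 𝔟 ^ n, uB x = 0 := by
    refine ⟨m, fun x hx => hm _ (Ideal.pow_right_mono le_sup_right m ?_)⟩
    rw [← Ideal.map_pow]
    exact Ideal.mem_map_of_mem iR.toRingHom hx
  obtain ⟨v, hv⟩ := hB E J hJ hEA uB huB
  refine ⟨Algebra.TensorProduct.lift (Algebra.ofId A' E) v (fun _ _ => Commute.all _ _), ?_⟩
  refine Algebra.TensorProduct.ext' fun a b => ?_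
  have h1 : Ideal.Quotient.mk J (v b) = u (1 ⊗ₜ b) :=
    congrArg (fun g : B →ₐ[A] E ⧸ J => g b) hv
  have h2 : u (a ⊗ₜ b) = algebraMap A' (E ⧸ J) a * u (1 ⊗ₜ b) := by
    rw [← Algebra.smul_def, ← map_smul, TensorProduct.smul_tmul', smul_eq_mul, mul_one]
  rw [h2, ← h1]
  simp [Algebra.ofId_apply]

end Groth.Agent.S4535
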