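import Groth.Statements.S4512
-- import your own Groth.Agent.* helpers here
import Groth.Agent.EGA41Adic.Field
import Groth.Agent.EGA41Adic.Localize
import Groth.Agent.RegTrans.Basic
import Groth.Agent.S4535

set_option autoImplicit false
universe u
open EGA41

namespace Groth.Agent.S4512

open IsLocalRing in
/-- Let k be a field and A a Noetherian local k-algebra with residue field K, and suppose A is formally
smooth over k for the adic topology of its maximal ideal (k discrete). Then A is geometrically
regular over k, i.e. A ⊗_k k' is a regular ring for every finite extension k' of k; and the adic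
completion of A is isomorphic, as a ring, to a power series ring K[[T_1, …, T_n]] (existence of a
ring isomorphism; no compatibility with k is asserted, and none holds in general when K is
inseparable over k). -/
theorem result {k A : Type u} [Field k] [CommRing A]
    [IsLocalRing A] [IsNoetherianRing A] [Algebra k A] (h : CAlgX.IsAdicFormallySmooth k A (maximalIdeal A)) :
    CAlg.IsGeometricallyRegular k A ∧
      ∃ n : ℕ, Nonempty (AdicCompletion (maximalIdeal A) A ≃+* MvPowerSeries (Fin n) (ResidueField A)) := by
  have hreg := Groth.Agent.EGA41Adic.isRegularLocalRing_of_isAdicFormallySmooth h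
  refine ⟨fun k' _ _ hfin => ?_, ?_⟩
  · haveI := hfin
    have hfs := Groth.Agent.S4535.result (A' := k') (⊥ : Ideal k) (maximalIdeal A) (⊥ : Ideal k') ⟨1, by simp⟩
      ((Groth.Agent.S4537.result _).mp h)
    rw [← Groth.Agent.S4537.result] at hfs
    let inc : A →ₐ[k] TensorProduct k k' A := Algebra.TensorProduct.includeRight
    letI : Algebra A (TensorProduct k k' A) := inc.toRingHom.toAlgebra
    haveI : Module.Finite A (TensorProduct k k' A) :=
      Module.Finite.of_surjective
        ({ (Algebra.TensorProduct.comm k A k').toRingEquiv.toRingHom with
            commutes' := fun a => by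
              show Algebra.TensorProduct.comm k A k' (a ⊗ₜ[k] (1 : k')) = _
              rw [Algebra.TensorProduct.comm_tmul]
              rfl } : TensorProduct k A k' →ₐ[A] TensorProduct k k' A).toLinearMap
        (Algebra.TensorProduct.comm k A k').surjective
    haveI : IsNoetherianRing (TensorProduct k k' A) := IsNoetherianRing.of_finite A _
    refine Groth.Agent.RegTrans.isRegularRing_of_maximal fun M hM => ?_
    haveI := hM
    have hc : (M.comap (algebraMap A (TensorProduct k k' A))).IsMaximal :=
      Ideal.isMaximal_comap_of_isIntegral_of_isMaximal M
    have hle : (⊥ : Ideal k').map (algebraMap k' (TensorProduct k k' A)) ⊔ (maximalIdeal A).map inc.toRingHom ≤ M := by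
      rw [Ideal.map_bot, bot_sup_eq, Ideal.map_le_iff_le_comap]
      exact (eq_maximalIdeal hc).ge
    haveI : IsNoetherianRing (Localization.AtPrime M) := IsLocalization.isNoetherianRing M.primeCompl _ inferInstance
    exact Groth.Agent.EGA41Adic.isRegularLocalRing_of_isAdicFormallySmooth
      (Groth.Agent.EGA41Adic.isAdicFormallySmooth_localization _ hfs M hle)
  · haveI : Algebra.FormallySmooth (⊥ : Subfield k) (ResidueField A) :=
      Groth.Agent.FSField.formallySmooth_of_perfectField _ _
    haveI : Algebra.IsGeometricallyReduced (⊥ : Subfield k) (ResidueField A) :=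
      Groth.Agent.S2451.result.mp inferInstance
    exact ((Groth.Agent.S2453.result (k := (⊥ : Subfield k)) (A := A)).out 3 2).mp hreg

end Groth.Agent.S4512
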