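import Groth.Statements.S4595
import Mathlib
import Groth.Agent.FSField.Basic
import Groth.Agent.S2469
import Groth.Agent.CartierEq.Basic

set_option autoImplicit false
set_option linter.style.haveILetI false
universe u
open TensorProduct IsLocalRing
open EGA41

namespace Groth.Agent.S4595
/-- Index bookkeeping for a map respecting finite dimensional subspaces. -/
theorem index_eq {L : Type u} [Field L] {V V' W W' : Type u} [AddCommGroup V] [Module L V]
    [AddCommGroup V'] [Module L V'] [AddCommGroup W] [Module L W] [AddCommGroup W'] [Module L W']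
    (π : V →ₗ[L] W) (π' : V' →ₗ[L] W') (φ : V →ₗ[L] V') (β : W →ₗ[L] W')
    (hπ : Function.Surjective π) (hπ' : Function.Surjective π') (hc : π' ∘ₗ φ = β ∘ₗ π)
    [Module.Finite L (LinearMap.ker π)] [Module.Finite L (LinearMap.ker π')]
    [Module.Finite L (LinearMap.ker φ)] [Module.Finite L (V' ⧸ LinearMap.range φ)]
    [Module.Finite L (LinearMap.ker β)] [Module.Finite L (W' ⧸ LinearMap.range β)]
    (hβ : Module.finrank L (LinearMap.ker β) = Module.finrank L (W' ⧸ LinearMap.range β)) :
    Module.finrank L (LinearMap.ker π') + Module.finrank L (LinearMap.ker φ) =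
      Module.finrank L (LinearMap.ker π) + Module.finrank L (V' ⧸ LinearMap.range φ) := by
  have hc' : ∀ v, π' (φ v) = β (π v) := fun v => LinearMap.congr_fun hc v
  let N := (LinearMap.ker π').comap φ
  let πN : N →ₗ[L] LinearMap.ker β := π.restrict fun v hv => by
    rw [LinearMap.mem_ker, ← hc']; exact hv
  have hπN : Function.Surjective πN := by
    rintro ⟨w, hw⟩
    obtain ⟨v, rfl⟩ := hπ w
    exact ⟨⟨v, by change π' (φ v) = 0; rw [hc']; exact hw⟩, rfl⟩
  let kN : LinearMap.ker π ≃ₗ[L] LinearMap.ker πN :=
    { toFun := fun v => ⟨⟨v, by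
        change π' (φ v) = 0
        rw [hc', LinearMap.mem_ker.mp v.2, map_zero]⟩, LinearMap.mem_ker.mpr (Subtype.ext v.2)⟩
      invFun := fun v => ⟨v.1.1, congrArg Subtype.val (LinearMap.mem_ker.mp v.2)⟩
      map_add' := fun _ _ => rfl
      map_smul' := fun _ _ => rfl }
  haveI : Module.Finite L (LinearMap.ker πN) := Module.Finite.equiv kN
  haveI : Module.Finite L N :=
    ⟨Submodule.fg_of_fg_map_of_fg_inf_ker πN (IsNoetherian.noetherian _)
      (by simpa using Module.Finite.iff_fg.mp ‹Module.Finite L (LinearMap.ker πN)›)⟩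
  have e1 := πN.finrank_range_add_finrank_ker
  rw [LinearMap.range_eq_top.mpr hπN, finrank_top, ← kN.finrank_eq] at e1
  -- the same space, mapped into `ker π'`
  let φN : N →ₗ[L] LinearMap.ker π' := φ.restrict fun v hv => hv
  let kφ : LinearMap.ker φ ≃ₗ[L] LinearMap.ker φN :=
    { toFun := fun v => ⟨⟨v, by
        change π' (φ v) = 0
        rw [LinearMap.mem_ker.mp v.2, map_zero]⟩, LinearMap.mem_ker.mpr (Subtype.ext v.2)⟩
      invFun := fun v => ⟨v.1.1, congrArg Subtype.val (LinearMap.mem_ker.mp v.2)⟩
      map_add' := fun _ _ => rfl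
      map_smul' := fun _ _ => rfl }
  have e2 := φN.finrank_range_add_finrank_ker
  rw [← kφ.finrank_eq] at e2
  -- cokernels
  let θ : (V' ⧸ LinearMap.range φ) →ₗ[L] (W' ⧸ LinearMap.range β) :=
    Submodule.mapQ _ _ π' (by rintro _ ⟨v, rfl⟩; exact ⟨π v, (hc' v).symm⟩)
  have hθ : Function.Surjective θ := by
    intro w
    obtain ⟨w, rfl⟩ := Submodule.mkQ_surjective _ w
    obtain ⟨v, rfl⟩ := hπ' w
    exact ⟨Submodule.mkQ _ v, rfl⟩
  let γ : LinearMap.ker π' →ₗ[L] LinearMap.ker θ :=
    ((LinearMap.range φ).mkQ.restrict fun v hv => by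
      change Submodule.Quotient.mk (π' v) = 0
      rw [LinearMap.mem_ker.mp hv]; rfl)
  have hγ : Function.Surjective γ := by
    rintro ⟨x, hx⟩
    obtain ⟨v, rfl⟩ := Submodule.mkQ_surjective _ x
    obtain ⟨w, hw⟩ := (Submodule.Quotient.mk_eq_zero (LinearMap.range β)).mp (hx : Submodule.Quotient.mk (π' v) = 0)
    obtain ⟨a, rfl⟩ := hπ w
    refine ⟨⟨v - φ a, by rw [LinearMap.mem_ker, map_sub, hc', hw, sub_self]⟩, Subtype.ext ?_⟩
    change Submodule.Quotient.mk (v - φ a) = Submodule.Quotient.mk v
    rw [Submodule.Quotient.eq]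
    exact ⟨-a, by rw [map_neg]; abel⟩
  have hγk : LinearMap.ker γ = LinearMap.range φN := by
    ext ⟨v, hv⟩
    simp only [LinearMap.mem_ker, LinearMap.mem_range, γ, Subtype.ext_iff]
    change Submodule.Quotient.mk v = 0 ↔ _
    rw [Submodule.Quotient.mk_eq_zero]
    refine ⟨?_, fun ⟨a, ha⟩ => ⟨a.1, ha⟩⟩
    rintro ⟨a, rfl⟩
    exact ⟨⟨a, hv⟩, rfl⟩
  have e3 := γ.finrank_range_add_finrank_ker
  rw [LinearMap.range_eq_top.mpr hγ, finrank_top, hγk] at e3
  have e4 := θ.finrank_range_add_finrank_ker
  rw [LinearMap.range_eq_top.mpr hθ, finrank_top] at e4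
  omega

/-- The conormal map of the residue field is injective in equal characteristic. -/
theorem cotangent_injective (C : Type u) [CommRing C] [IsLocalRing C] (p : ℕ) [Fact p.Prime] [CharP C p] :
    Function.Injective (KaehlerDifferential.kerCotangentToTensor ℤ C (ResidueField C)) := by
  let K := ResidueField C
  let P' := C ⧸ (RingHom.ker (algebraMap C K) ^ 2)
  let π : P' →+* K := ((IsScalarTower.toAlgHom ℤ C K).kerSquareLift).toRingHom
  haveI : CharP K p := by
    refine (CharP.charP_iff_prime_eq_zero (Fact.out : p.Prime)).mpr ?_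
    rw [← map_natCast (algebraMap C K), CharP.cast_eq_zero, map_zero]
  letI := ZMod.algebra K p
  letI : Algebra (ZMod p) P' := ((Ideal.Quotient.mk _).comp (ZMod.castHom (dvd_refl p) C)).toAlgebra
  haveI : Algebra.FormallySmooth (ZMod p) K := FSField.formallySmooth_of_perfectField (ZMod p) K
  let f : P' →ₐ[ZMod p] K := AlgHom.mk π fun a => RingHom.congr_fun (Subsingleton.elim (π.comp (algebraMap (ZMod p) P')) (algebraMap (ZMod p) K)) a
  have hf : Function.Surjective f := fun x => by
    obtain ⟨c, rfl⟩ := IsLocalRing.residue_surjective x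
    exact ⟨Ideal.Quotient.mk _ c, rfl⟩
  have hnil : IsNilpotent (RingHom.ker (f : P' →+* K)) := by
    refine ⟨2, ?_⟩
    have : RingHom.ker (f : P' →+* K) = (RingHom.ker (algebraMap C K)).cotangentIdeal :=
      (IsScalarTower.toAlgHom ℤ C K).ker_kerSquareLift
    rw [this, Ideal.cotangentIdeal_square]
    rfl
  let g := Algebra.FormallySmooth.liftOfSurjective (AlgHom.id (ZMod p) K) f hf hnil
  have hg : ∀ x, π (g x) = x := fun x =>
    AlgHom.congr_fun (Algebra.FormallySmooth.comp_liftOfSurjective (AlgHom.id (ZMod p) K) f hf hnil) x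
  let l := (retractionKerCotangentToTensorEquivSection (R := ℤ) (P := C) (S := K) IsLocalRing.residue_surjective).symm
    ⟨g.toRingHom.toIntAlgHom, AlgHom.ext hg⟩
  exact Function.LeftInverse.injective (g := l.1) fun x => LinearMap.congr_fun l.2 x

/-- `dim ker (K ⊗ Ω[C] → Ω[K]) = dim 𝔪/𝔪²` in equal characteristic. -/
theorem finrank_ker_eq_cotangent (C : Type u) [CommRing C] [IsLocalRing C] [IsNoetherianRing C] (p : ℕ)
    [Fact p.Prime] [CharP C p] :
    Module.Finite (ResidueField C) (LinearMap.ker (KaehlerDifferential.mapBaseChange ℤ C (ResidueField C))) ∧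
      Module.finrank (ResidueField C) (LinearMap.ker (KaehlerDifferential.mapBaseChange ℤ C (ResidueField C))) =
        Module.finrank (ResidueField C) (CotangentSpace C) := by
  let K := ResidueField C
  have hk : RingHom.ker (algebraMap C K) = maximalIdeal C := Ideal.mk_ker
  have hrange := KaehlerDifferential.range_kerCotangentToTensor ℤ C K IsLocalRing.residue_surjective
  let e₀ : (RingHom.ker (algebraMap C K)).Cotangent ≃ₗ[C]
      (LinearMap.ker (KaehlerDifferential.mapBaseChange ℤ C K)).restrictScalars C :=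
    (LinearEquiv.ofInjective _ (cotangent_injective C p)).trans (LinearEquiv.ofEq _ _ hrange)
  have key : ∀ (I : Ideal C) (hI : I = maximalIdeal C),
      (I.Cotangent ≃ₗ[C] (LinearMap.ker (KaehlerDifferential.mapBaseChange ℤ C K)).restrictScalars C) →
      Module.Finite K (LinearMap.ker (KaehlerDifferential.mapBaseChange ℤ C K)) ∧
        Module.finrank K (LinearMap.ker (KaehlerDifferential.mapBaseChange ℤ C K)) =
          Module.finrank K (CotangentSpace C) := by
    intro I hI e
    subst hI
    let eK : CotangentSpace C ≃ₗ[K] LinearMap.ker (KaehlerDifferential.mapBaseChange ℤ C K) :=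
      { toFun := fun x => ⟨(e x).1, (e x).2⟩
        invFun := fun x => e.symm ⟨x.1, x.2⟩
        left_inv := fun x => e.symm_apply_apply x
        right_inv := fun x => Subtype.ext (congrArg Subtype.val (e.apply_symm_apply ⟨x.1, x.2⟩))
        map_add' := fun x y => Subtype.ext (congrArg Subtype.val (map_add e x y))
        map_smul' := fun c x => by
          obtain ⟨c, rfl⟩ := IsLocalRing.residue_surjective c
          apply Subtype.ext
          have h1 := congrArg Subtype.val (map_smul e c x)
          rw [show IsLocalRing.residue C c = algebraMap C K c from rfl, algebraMap_smul]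
          refine h1.trans ?_
          rw [RingHom.id_apply]
          exact (algebraMap_smul K c (e x).1).symm }
    exact ⟨Module.Finite.equiv eK, eK.finrank_eq.symm⟩
  exact key _ hk e₀


/-- `L ⊗_A Ω[A] → L ⊗_B Ω[B]`. -/
noncomputable def omegaMap (A B L : Type u) [CommRing A] [CommRing B] [CommRing L] [Algebra A B] [Algebra B L]
    [Algebra A L] [IsScalarTower A B L] : L ⊗[A] Ω[A⁄ℤ] →ₗ[L] L ⊗[B] Ω[B⁄ℤ] :=
  LinearMap.liftBaseChange L
    ((TensorProduct.mk B L (Ω[B⁄ℤ]) 1).restrictScalars A ∘ₗ KaehlerDifferential.map ℤ ℤ A B)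

theorem omegaMap_tmul_D (A B L : Type u) [CommRing A] [CommRing B] [CommRing L] [Algebra A B] [Algebra B L]
    [Algebra A L] [IsScalarTower A B L] (l : L) (a : A) :
    omegaMap A B L (l ⊗ₜ KaehlerDifferential.D ℤ A a) = l ⊗ₜ KaehlerDifferential.D ℤ B (algebraMap A B a) := by
  simp [omegaMap, TensorProduct.smul_tmul']

theorem omega_ext {A L N : Type u} [CommRing A] [CommRing L] [Algebra A L] [AddCommGroup N] [Module L N]
    {φ ψ : L ⊗[A] Ω[A⁄ℤ] →ₗ[L] N}
    (h : ∀ a, φ (1 ⊗ₜ KaehlerDifferential.D ℤ A a) = ψ (1 ⊗ₜ KaehlerDifferential.D ℤ A a)) : φ = ψ := by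
  refine LinearMap.ext fun z => ?_
  induction z with
  | zero => simp
  | add a b ha hb => rw [map_add, map_add, ha, hb]
  | tmul l w =>
    rw [show l ⊗ₜ[A] w = l • ((1 : L) ⊗ₜ[A] w) by rw [TensorProduct.smul_tmul', smul_eq_mul, mul_one],
      map_smul, map_smul]
    congr 1
    have hw : w ∈ Submodule.span A (Set.range (KaehlerDifferential.D ℤ A)) := by
      rw [KaehlerDifferential.span_range_derivation]; trivial
    induction hw using Submodule.span_induction with
    | mem w hw => obtain ⟨a, rfl⟩ := hw; exact h a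
    | zero => simp
    | add x y _ _ hx hy => rw [tmul_add, map_add, map_add, hx, hy]
    | smul c x _ hx => rw [tmul_smul, ← algebraMap_smul L c, map_smul, map_smul, hx]

/-- Kernel and cokernel of `omegaMap` for a complete intersection presentation with vanishing relative
differentials of the relations. -/
theorem omegaMap_ker_coker {A P B L : Type u} [CommRing A] [CommRing P] [CommRing B] [Field L]
    [Algebra A P] [Algebra P B] [Algebra A B] [IsScalarTower A P B] [Algebra P L] [Algebra B L] [Algebra A L]
    [IsScalarTower A P L] [IsScalarTower P B L] [IsScalarTower A B L] [Algebra.FormallySmooth A P] {r : ℕ}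
    (b : Module.Basis (Fin r) P (Ω[P⁄A])) (g : Fin r → P) (f : Fin r → A)
    (hsurj : Function.Surjective (algebraMap P B)) (hker : RingHom.ker (algebraMap P B) = Ideal.span (Set.range g))
    (hD : ∀ i, (1 : L) ⊗ₜ[P] KaehlerDifferential.D ℤ P (g i) =
      - ((1 : L) ⊗ₜ[P] KaehlerDifferential.D ℤ P (algebraMap A P (f i)))) :
    LinearMap.ker (omegaMap A B L) =
        Submodule.span L (Set.range fun i => (1 : L) ⊗ₜ[A] KaehlerDifferential.D ℤ A (f i)) ∧
      Module.Finite L ((L ⊗[B] Ω[B⁄ℤ]) ⧸ LinearMap.range (omegaMap A B L)) ∧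
      Module.finrank L ((L ⊗[B] Ω[B⁄ℤ]) ⧸ LinearMap.range (omegaMap A B L)) = r := by
  have hcomp : omegaMap A B L = omegaMap P B L ∘ₗ omegaMap A P L := omega_ext fun a => by
    rw [LinearMap.comp_apply, omegaMap_tmul_D, omegaMap_tmul_D, omegaMap_tmul_D, ← IsScalarTower.algebraMap_apply]
  -- A → P
  let i := KaehlerDifferential.mapBaseChange ℤ A P
  let q := KaehlerDifferential.map ℤ A P P
  have hi : Function.Injective i := by
    haveI := Algebra.FormallySmooth.subsingleton_h1Cotangent (R := A) (A := P)
    rw [← LinearMap.ker_eq_bot, LinearMap.exact_iff.mp (Algebra.H1Cotangent.exact_δ_mapBaseChange ℤ A P),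
      LinearMap.range_eq_bot]
    exact LinearMap.ext fun x => by rw [Subsingleton.elim x 0, map_zero, map_zero]
  haveI : Module.Free P (Ω[P⁄A]) := Module.Free.of_basis b
  have hex := KaehlerDifferential.exact_mapBaseChange_map ℤ A P
  have hq := KaehlerDifferential.map_surjective ℤ A P
  have hiL : Function.Injective (i.lTensor L) :=
    LinearMap.lTensor_injective_of_exact_of_flat q hq i hi hex L
  let cA := AlgebraTensorModule.cancelBaseChange A P L L (Ω[A⁄ℤ])
  have hAP : omegaMap A P L = i.baseChange L ∘ₗ cA.symm.toLinearMap := omega_ext fun a => by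
    rw [LinearMap.comp_apply, omegaMap_tmul_D]
    simp [cA, i]
  have hAPinj : Function.Injective (omegaMap A P L) := by
    rw [hAP]; exact hiL.comp cA.symm.injective
  have hAPrange : LinearMap.range (omegaMap A P L) = LinearMap.ker (q.baseChange L) := by
    rw [hAP, LinearMap.range_comp_of_range_eq_top _ (LinearMap.range_eq_top.mpr cA.symm.surjective)]
    ext x
    exact ((lTensor_exact L hex hq) x).symm
  -- P → B
  let j := KaehlerDifferential.mapBaseChange ℤ P B
  let cP := AlgebraTensorModule.cancelBaseChange P B L L (Ω[P⁄ℤ])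
  have hPB : omegaMap P B L = j.baseChange L ∘ₗ cP.symm.toLinearMap := omega_ext fun a => by
    rw [LinearMap.comp_apply, omegaMap_tmul_D]
    simp [cP, j]
  have hj : Function.Surjective j := KaehlerDifferential.mapBaseChange_surjective ℤ P B hsurj
  have hPBsurj : Function.Surjective (omegaMap P B L) := by
    rw [hPB]; exact (LinearMap.lTensor_surjective L hj).comp cP.symm.surjective
  let G := Submodule.span L (Set.range fun i => (1 : L) ⊗ₜ[P] KaehlerDifferential.D ℤ P (g i))
  have hg0 : ∀ i, algebraMap P B (g i) = 0 := fun i => RingHom.mem_ker.mp (hker ▸ Ideal.subset_span ⟨i, rfl⟩)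
  have hG : LinearMap.ker (omegaMap P B L) = G := by
    refine le_antisymm (fun z hz => ?_) (Submodule.span_le.mpr ?_)
    · have hz' : j.lTensor L (cP.symm z) = 0 := by
        rw [LinearMap.mem_ker, hPB] at hz
        exact hz
      have hexj : Function.Exact (LinearMap.ker j).subtype j := LinearMap.exact_subtype_ker_map j
      obtain ⟨y, hy⟩ := (lTensor_exact (R := B) (M := LinearMap.ker j) (f := (LinearMap.ker j).subtype) (g := j) L hexj hj (cP.symm z)).mp hz'
      have hz2 : z = cP ((LinearMap.ker j).subtype.lTensor L y) := by rw [hy, LinearEquiv.apply_symm_apply]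
      rw [hz2]
      clear hz hz' hy hz2
      induction y with
      | zero => rw [map_zero, map_zero]; exact Submodule.zero_mem _
      | add a b ha hb => rw [map_add, map_add]; exact Submodule.add_mem _ ha hb
      | tmul l w =>
        obtain ⟨w, hw⟩ := w
        obtain ⟨x, hx⟩ := (KaehlerDifferential.exact_kerCotangentToTensor_mapBaseChange ℤ P B hsurj w).mp hw
        obtain ⟨⟨x, hxm⟩, rfl⟩ := Ideal.toCotangent_surjective _ x
        obtain ⟨c, hc⟩ := Ideal.mem_span_range_iff_exists_fun.mp (hker ▸ hxm)
        rw [LinearMap.lTensor_tmul]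
        change cP (l ⊗ₜ w) ∈ G
        rw [← hx, KaehlerDifferential.kerCotangentToTensor_toCotangent,
          AlgebraTensorModule.cancelBaseChange_tmul, one_smul]
        simp only at hc ⊢
        rw [← hc, map_sum, tmul_sum]
        refine Submodule.sum_mem _ fun k _ => ?_
        have hgk : algebraMap P L (g k) = 0 := by
          rw [IsScalarTower.algebraMap_apply P B L, hg0, map_zero]
        rw [Derivation.leibniz, tmul_add, tmul_smul, tmul_smul, ← algebraMap_smul L (g k), hgk, zero_smul,
          add_zero, ← algebraMap_smul L (c k),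
          show l ⊗ₜ[P] KaehlerDifferential.D ℤ P (g k) =
            l • ((1 : L) ⊗ₜ[P] KaehlerDifferential.D ℤ P (g k)) by
              rw [TensorProduct.smul_tmul', smul_eq_mul, mul_one]]
        exact Submodule.smul_mem _ _ (Submodule.smul_mem _ _ (Submodule.subset_span ⟨k, rfl⟩))
    · rintro _ ⟨k, rfl⟩
      rw [SetLike.mem_coe, LinearMap.mem_ker, omegaMap_tmul_D, hg0, map_zero, tmul_zero]
  have hGeq : G = (Submodule.span L (Set.range fun i => (1 : L) ⊗ₜ[A] KaehlerDifferential.D ℤ A (f i))).map
      (omegaMap A P L) := by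
    rw [Submodule.map_span, ← Set.range_comp, ← Submodule.span_neg]
    refine congrArg (Submodule.span L) ?_
    rw [← Set.image_neg_eq_neg, ← Set.range_comp]
    refine congrArg Set.range (funext fun k => ?_)
    simp only [Function.comp_apply, omegaMap_tmul_D, hD]
  refine ⟨?_, ?_⟩
  · rw [hcomp, LinearMap.ker_comp, hG, hGeq, Submodule.comap_map_eq_of_injective hAPinj]
  · let Ψ := (LinearMap.range (omegaMap A B L)).mkQ ∘ₗ omegaMap P B L
    have hΨ : Function.Surjective Ψ := (Submodule.mkQ_surjective _).comp hPBsurj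
    have hΨk : LinearMap.ker Ψ = LinearMap.ker (q.baseChange L) := by
      rw [LinearMap.ker_comp, Submodule.ker_mkQ, hcomp, LinearMap.range_comp, Submodule.comap_map_eq,
        ← hAPrange, hG, sup_eq_left, hGeq]
      exact LinearMap.map_le_range
    have hqs : Function.Surjective (q.baseChange L) := LinearMap.lTensor_surjective L hq
    let e := (Ψ.quotKerEquivOfSurjective hΨ).symm.trans
      ((Submodule.quotEquivOfEq _ _ hΨk).trans ((q.baseChange L).quotKerEquivOfSurjective hqs))
    let bL := Module.Basis.baseChange L b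
    haveI : Module.Finite L (L ⊗[P] Ω[P⁄A]) := Module.Finite.of_basis bL
    exact ⟨Module.Finite.equiv e.symm, by rw [e.finrank_eq, Module.finrank_eq_card_basis bL, Fintype.card_fin]⟩

/-- Linear independence is insensitive to field extension. -/
theorem linearIndependent_one_tmul_iff {K L V : Type u} [Field K] [Field L] [Algebra K L] [AddCommGroup V]
    [Module K V] {ι : Type} [Fintype ι] (v : ι → V) :
    LinearIndependent L (fun i => (1 : L) ⊗ₜ[K] v i) ↔ LinearIndependent K v := by
  classical
  constructor
  · intro h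
    rw [Fintype.linearIndependent_iff] at h ⊢
    intro c hc i
    have := h (fun i => algebraMap K L (c i)) (by
      simp only [algebraMap_smul, ← tmul_smul, ← tmul_sum, hc, tmul_zero]) i
    exact (algebraMap K L).injective (this.trans (map_zero _).symm)
  · intro h
    obtain ⟨l, hl⟩ := LinearMap.exists_leftInverse_of_injective (Fintype.linearCombination K v)
      (LinearMap.ker_eq_bot.mpr h.fintypeLinearCombination_injective)
    rw [Fintype.linearIndependent_iff]
    intro c hc i
    have h1 : ∀ j, l (v j) i = if j = i then 1 else 0 := fun j => by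
      have := congrFun (LinearMap.congr_fun hl (Pi.single j 1)) i
      simp only [LinearMap.comp_apply, Fintype.linearCombination_apply_single, one_smul, LinearMap.id_apply] at this
      rw [this, Pi.single_apply]
      simp [eq_comm]
    have := congrArg (((LinearMap.proj i).comp l).baseChange L) hc
    rw [map_zero, map_sum] at this
    simp only [map_smul, LinearMap.baseChange_tmul, LinearMap.comp_apply, LinearMap.proj_apply, h1] at this
    have h2 := congrArg (TensorProduct.AlgebraTensorModule.rid K L L) this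
    simp [Finset.sum_ite_eq', apply_ite] at h2
    exact h2

/-- Base change commutes with kernels over a field. -/
noncomputable def kerBaseChangeEquiv {K L V W : Type u} [Field K] [Field L] [Algebra K L] [AddCommGroup V] [Module K V]
    [AddCommGroup W] [Module K W] (h : V →ₗ[K] W) (hh : Function.Surjective h) :
    L ⊗[K] LinearMap.ker h ≃ₗ[L] LinearMap.ker (h.baseChange L) :=
  (LinearEquiv.ofInjective ((LinearMap.ker h).subtype.baseChange L)
    (Module.Flat.lTensor_preserves_injective_linearMap (M := L) (LinearMap.ker h).subtype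
      (Submodule.injective_subtype _))).trans (LinearEquiv.ofEq _ _ (by
    ext x
    exact ((lTensor_exact L (LinearMap.exact_subtype_ker_map h) hh) x).symm))

theorem finrank_tensor_field {K L : Type u} [Field K] [Field L] [Algebra K L] (V : Type u) [AddCommGroup V]
    [Module K V] : Module.finrank L (L ⊗[K] V) = Module.finrank K V :=
  Module.finrank_baseChange

/-- The comparison of embedding dimensions for an abstract radicial extension. -/
theorem main_index {A B : Type u} [CommRing A] [CommRing B] [IsLocalRing A] [IsLocalRing B] [IsNoetherianRing A]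
    [IsNoetherianRing B] [Algebra A B] [IsLocalHom (algebraMap A B)] (p : ℕ) [Fact p.Prime] [CharP A p]
    [CharP B p] [Algebra.EssFiniteType A B] {r : ℕ} (f : Fin r → A) (hpow : ∀ b : B, ∃ a : A, b ^ p = algebraMap A B a)
    (hkφ : LinearMap.ker (omegaMap A B (ResidueField B)) = Submodule.span (ResidueField B)
      (Set.range fun i => (1 : ResidueField B) ⊗ₜ[A] KaehlerDifferential.D ℤ A (f i)))
    [hcφfin : Module.Finite (ResidueField B) ((ResidueField B ⊗[B] Ω[B⁄ℤ]) ⧸ LinearMap.range (omegaMap A B (ResidueField B)))]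
    (hcφ : Module.finrank (ResidueField B) ((ResidueField B ⊗[B] Ω[B⁄ℤ]) ⧸ LinearMap.range (omegaMap A B (ResidueField B))) = r) :
    Module.finrank (ResidueField A) (CotangentSpace A) = Module.finrank (ResidueField B) (CotangentSpace B) ↔
      LinearIndependent (ResidueField A) (fun i => (1 : ResidueField A) ⊗ₜ[A] KaehlerDifferential.D ℤ A (f i)) := by
  classical
  let K := ResidueField A
  let L := ResidueField B
  haveI : CharP K p := by
    refine (CharP.charP_iff_prime_eq_zero (Fact.out : p.Prime)).mpr ?_
    rw [← map_natCast (algebraMap A K), CharP.cast_eq_zero, map_zero]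
  haveI : CharP L p := charP_of_injective_algebraMap (algebraMap K L).injective p
  -- `L` is algebraic and finitely generated over `K`
  haveI : Algebra.EssFiniteType K L := by
    haveI : Algebra.EssFiniteType A B := inferInstance
    haveI : Algebra.EssFiniteType A L := Algebra.EssFiniteType.comp A B L
    exact Algebra.EssFiniteType.of_comp A K L
  haveI : Algebra.IsAlgebraic K L := ⟨fun x => by
    obtain ⟨b, rfl⟩ := IsLocalRing.residue_surjective x
    obtain ⟨a, ha⟩ := hpow b
    refine IsAlgebraic.of_pow (Fact.out : p.Prime).pos ?_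
    rw [← map_pow, ha, show IsLocalRing.residue B (algebraMap A B a) = algebraMap K L (algebraMap A K a) from
      (IsScalarTower.algebraMap_apply A B L a).symm.trans (IsScalarTower.algebraMap_apply A K L a)]
    exact isAlgebraic_algebraMap _⟩
  obtain ⟨hΥfin', hΥfin, hΥ⟩ := S2469.result (K := K) (L := L)
  rw [trdeg_eq_zero, map_zero] at hΥ
  -- the two surjections onto differentials of the residue fields
  let h := KaehlerDifferential.mapBaseChange ℤ A K
  let cK := AlgebraTensorModule.cancelBaseChange A K L L (Ω[A⁄ℤ])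
  let π : L ⊗[A] Ω[A⁄ℤ] →ₗ[L] L ⊗[K] Ω[K⁄ℤ] := h.baseChange L ∘ₗ cK.symm.toLinearMap
  let π' := KaehlerDifferential.mapBaseChange ℤ B L
  let β := KaehlerDifferential.mapBaseChange ℤ K L
  have hh : Function.Surjective h :=
    KaehlerDifferential.mapBaseChange_surjective ℤ A K IsLocalRing.residue_surjective
  have hπ : Function.Surjective π := (LinearMap.lTensor_surjective L hh).comp cK.symm.surjective
  have hπ' : Function.Surjective π' :=
    KaehlerDifferential.mapBaseChange_surjective ℤ B L IsLocalRing.residue_surjective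
  have hc : π' ∘ₗ omegaMap A B L = β ∘ₗ π := omega_ext fun a => by
    rw [LinearMap.comp_apply]
    refine (congrArg π' (omegaMap_tmul_D A B L 1 a)).trans ?_
    refine Eq.trans ((KaehlerDifferential.mapBaseChange_tmul ℤ B L _ _).trans (one_smul _ _)) ?_
    rw [KaehlerDifferential.map_D, ← IsScalarTower.algebraMap_apply A B L]
    simp [π, β, h, cK, ← IsScalarTower.algebraMap_apply]
  obtain ⟨hfinA, hA⟩ := finrank_ker_eq_cotangent A p
  obtain ⟨hfinB, hB⟩ := finrank_ker_eq_cotangent B p
  let eπ : LinearMap.ker π ≃ₗ[L] LinearMap.ker (h.baseChange L) :=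
    (cK.symm.submoduleMap (LinearMap.ker π)).trans (LinearEquiv.ofEq _ _ (by
      ext x
      simp [π, Submodule.map_equiv_eq_comap_symm]))
  let eh := kerBaseChangeEquiv (L := L) h hh
  haveI := hfinA
  haveI : Module.Finite L (LinearMap.ker π) := Module.Finite.equiv (eh.trans eπ.symm)
  have hkπ : Module.finrank L (LinearMap.ker π) = Module.finrank K (CotangentSpace A) := by
    rw [(eπ.trans eh.symm).finrank_eq]
    exact (finrank_tensor_field (K := K) (L := L) (LinearMap.ker h)).trans hA
  haveI : Module.Finite L (LinearMap.ker π') := hfinB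
  haveI : Module.Finite L (LinearMap.ker β) := hΥfin
  let eβ : (Ω[L⁄ℤ] ⧸ LinearMap.range β) ≃ₗ[L] Ω[L⁄K] :=
    (Submodule.quotEquivOfEq _ _ (LinearMap.exact_iff.mp (KaehlerDifferential.exact_mapBaseChange_map ℤ K L)).symm).trans
      ((KaehlerDifferential.map ℤ K L L).quotKerEquivOfSurjective (KaehlerDifferential.map_surjective ℤ K L))
  haveI := hΥfin'
  haveI : Module.Finite L (Ω[L⁄ℤ] ⧸ LinearMap.range β) := Module.Finite.equiv eβ.symm
  let v : Fin r → L ⊗[A] Ω[A⁄ℤ] := fun i => (1 : L) ⊗ₜ[A] KaehlerDifferential.D ℤ A (f i)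
  haveI : Module.Finite L (LinearMap.ker (omegaMap A B L)) := by
    rw [hkφ]; exact Module.Finite.span_of_finite L (Set.finite_range _)
  have hmain := index_eq π π' (omegaMap A B L) β hπ hπ' hc (by
    rw [eβ.finrank_eq]
    exact Int.ofNat.inj (sub_eq_zero.mp (hΥ.trans Nat.cast_zero)).symm)
  rw [hkπ, hcφ, hkφ, show Module.finrank L (LinearMap.ker π') = _ from hB] at hmain
  have hli : LinearIndependent L v ↔
      LinearIndependent K (fun i => (1 : K) ⊗ₜ[A] KaehlerDifferential.D ℤ A (f i)) := by
    rw [← linearIndependent_one_tmul_iff (K := K) (L := L)]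
    rw [← cK.toLinearMap.linearIndependent_iff (LinearEquiv.ker cK)]
    have : (⇑cK.toLinearMap ∘ fun i => (1 : L) ⊗ₜ[K] ((1 : K) ⊗ₜ[A] KaehlerDifferential.D ℤ A (f i))) = v := by
      funext i; simp [cK, v]
    rw [this]
  rw [← hli, linearIndependent_iff_card_eq_finrank_span, Fintype.card_fin]
  change _ ↔ r = Module.finrank L (Submodule.span L (Set.range v))
  change Module.finrank L (CotangentSpace B) + Module.finrank L (Submodule.span L (Set.range v)) =
    Module.finrank K (CotangentSpace A) + r at hmain
  change Module.finrank K (CotangentSpace A) = Module.finrank L (CotangentSpace B) ↔ _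
  omega


/-- Let A be an Artinian local ring of characteristic p > 0 with maximal ideal m of square zero and
residue field K, f_1, …, f_r ∈ A, and B = A[T_1, …, T_r]/(T_1^p − f_1, …, T_r^p − f_r). Then B is
local, and dim_K m = dim_{K'}(m'/m'²) (m', K' the maximal ideal and residue field of B) if and only
if the d f_i ⊗ 1 are linearly independent in Ω_A ⊗_A K. -/
theorem result {A : Type u} [CommRing A]
    [IsArtinianRing A] [IsLocalRing A] (hm : maximalIdeal A ^ 2 = ⊥) (p : ℕ) [Fact p.Prime] [CharP A p]
    {r : ℕ} (f : Fin r → A) :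
    let B := MvPolynomial (Fin r) A ⧸ Ideal.span (Set.range fun i => MvPolynomial.X i ^ p - MvPolynomial.C (f i))
    ∃ _ : IsLocalRing B,
      (Module.finrank (ResidueField A) (CotangentSpace A) = Module.finrank (ResidueField B) (CotangentSpace B) ↔
        LinearIndependent (ResidueField A) (fun i => (1 : ResidueField A) ⊗ₜ[A] KaehlerDifferential.D ℤ A (f i))) := by
  classical
  intro B
  let P := MvPolynomial (Fin r) A
  let g : Fin r → P := fun i => MvPolynomial.X i ^ p - MvPolynomial.C (f i)
  let mk : P →+* B := Ideal.Quotient.mk _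
  have hXp : ∀ i, mk (MvPolynomial.X i) ^ p = algebraMap A B (f i) := fun i => by
    rw [← map_pow]
    exact Ideal.Quotient.eq.mpr (Ideal.subset_span ⟨i, rfl⟩)
  have hp0 : (p : B) = 0 := by rw [← map_natCast (algebraMap A B), CharP.cast_eq_zero, map_zero]
  -- every p-th power lies in `A`
  haveI hne : Nontrivial B := by
    let Kb := AlgebraicClosure (ResidueField A)
    choose t ht using fun i => IsAlgClosed.exists_pow_nat_eq (algebraMap A Kb (f i)) (Fact.out : p.Prime).pos
    refine Ideal.Quotient.nontrivial_iff.mpr fun htop => ?_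
    have hle : Ideal.span (Set.range g) ≤ RingHom.ker (MvPolynomial.aeval t : P →ₐ[A] Kb) :=
      Ideal.span_le.mpr (by rintro _ ⟨i, rfl⟩; simp only [SetLike.mem_coe, RingHom.mem_ker, g, map_sub, map_pow, sub_eq_zero]; erw [MvPolynomial.aeval_X, MvPolynomial.aeval_C]; exact ht i)
    have : (1 : P) ∈ RingHom.ker (MvPolynomial.aeval t : P →ₐ[A] Kb) := hle (htop ▸ trivial)
    simp at this
  haveI : CharP B p := (CharP.charP_iff_prime_eq_zero (Fact.out : p.Prime)).mpr hp0
  have hpow : ∀ b : B, ∃ a : A, b ^ p = algebraMap A B a := by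
    intro b
    obtain ⟨b, rfl⟩ := Ideal.Quotient.mk_surjective b
    induction b using MvPolynomial.induction_on with
    | C a => exact ⟨a ^ p, by rw [map_pow]; rfl⟩
    | add u v hu hv =>
      obtain ⟨a, ha⟩ := hu
      obtain ⟨c, hc⟩ := hv
      exact ⟨a + c, by rw [map_add, add_pow_char, ha, hc, map_add]⟩
    | mul_X u i hu =>
      obtain ⟨a, ha⟩ := hu
      exact ⟨a * f i, by rw [map_mul, mul_pow, ha, map_mul]; congr 1; exact hXp i⟩
  have hmnil : ∀ a ∈ maximalIdeal A, IsNilpotent a := fun a ha =>
    ⟨2, by rw [← Ideal.mem_bot, ← hm]; exact Ideal.pow_mem_pow ha 2⟩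
  haveI hloc : IsLocalRing B := by
    obtain ⟨M, hM⟩ := Ideal.exists_maximal B
    refine IsLocalRing.of_unique_max_ideal ⟨M, hM, fun Q hQ => ?_⟩
    refine hQ.eq_of_le hM.ne_top fun b hb => ?_
    obtain ⟨a, ha⟩ := hpow b
    have haQ : algebraMap A B a ∈ Q := ha ▸ Q.pow_mem_of_mem hb p (Fact.out : p.Prime).pos
    have ham : a ∈ maximalIdeal A := fun hu => hQ.ne_top (Ideal.eq_top_of_isUnit_mem _ haQ (hu.map _))
    obtain ⟨n, hn⟩ := (hmnil a ham).map (algebraMap A B)
    exact hM.isPrime.mem_of_pow_mem p (ha ▸ hM.isPrime.mem_of_pow_mem n (hn ▸ M.zero_mem))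
  refine ⟨hloc, ?_⟩
  haveI : IsLocalHom (algebraMap A B) := ⟨fun a ha => by
    by_contra hu
    exact not_isUnit_zero (M₀ := B) (by
      obtain ⟨n, hn⟩ := (hmnil a hu).map (algebraMap A B)
      exact hn ▸ ha.pow n)⟩
  haveI : IsNoetherianRing B := Ideal.Quotient.isNoetherianRing _
  let L := ResidueField B
  letI : Algebra P L := ((IsLocalRing.residue B).comp mk).toAlgebra
  haveI : IsScalarTower P B L := @IsScalarTower.of_algebraMap_eq P B L _ _ _ _ _ _ fun _ => rfl
  haveI : IsScalarTower A P L := IsScalarTower.of_algebraMap_eq fun _ => rfl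
  -- kernel and cokernel of `L ⊗ Ω[A] → L ⊗ Ω[B]`
  have hD : ∀ i, (1 : L) ⊗ₜ[P] KaehlerDifferential.D ℤ P (g i) =
      - ((1 : L) ⊗ₜ[P] KaehlerDifferential.D ℤ P (algebraMap A P (f i))) := fun i => by
    haveI : CharP P p := inferInstanceAs (CharP (MvPolynomial (Fin r) A) p)
    simp only [g, map_sub, Derivation.leibniz_pow, tmul_sub]
    rw [← Nat.cast_smul_eq_nsmul P, CharP.cast_eq_zero, zero_smul, tmul_zero, zero_sub]; rfl
  obtain ⟨hkφ, hcφfin, hcφ⟩ := omegaMap_ker_coker (A := A) (P := P) (B := B) (L := L)
    (KaehlerDifferential.mvPolynomialBasis A (Fin r)) g f Ideal.Quotient.mk_surjective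
    (Ideal.mk_ker) hD
  haveI := hcφfin
  exact main_index p f hpow hkφ hcφ

end Groth.Agent.S4595
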