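import Groth.Statements.S4573
-- import your own Groth.Agent.* helpers here
import Groth.Agent.EGA41Adic.Radical
import Groth.Agent.S4512

set_option autoImplicit false
universe u
open TensorProduct IsLocalRing
open EGA41

namespace Groth.Agent.S4573

/-- Let k be a field of characteristic exponent p and A a Noetherian local k-algebra. Then A is formally
smooth over k for the adic topology of its maximal ideal if and only if, for every finite extension
k' of k with k'^p ⊆ k, the ring k' ⊗_k A is regular. -/
theorem result {k A : Type u} [Field k] (p : ℕ)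
    [ExpChar k p] [CommRing A] [IsLocalRing A] [IsNoetherianRing A] [Algebra k A] :
    CAlgX.IsAdicFormallySmooth k A (maximalIdeal A) ↔
      ∀ (k' : Type u) [Field k'] [Algebra k k'], Module.Finite k k' →
        (∀ x : k', x ^ p ∈ (algebraMap k k').range) → IsRegularRing (k' ⊗[k] A) := by
  refine ⟨fun h k' _ _ hfin _ => ((Groth.Agent.S4512.result h).1 k' hfin), fun hreg => ?_⟩
  classical
  haveI hreg0 : IsRegularRing (k ⊗[k] A) := hreg k (Module.Finite.self k) fun x => ⟨x ^ p, rfl⟩
  haveI : IsRegularRing A := IsRegularRing.of_ringEquiv (R := k ⊗[k] A) (Algebra.TensorProduct.lid k A).toRingEquiv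
  haveI : IsRegularLocalRing A := IsRegularLocalRing.of_isRegularRing_of_isLocalRing A
  cases ‹ExpChar k p› with
  | zero =>
    haveI : Algebra.FormallySmooth k (ResidueField A) := Groth.Agent.FSField.formallySmooth_of_perfectField _ _
    haveI : Algebra.IsGeometricallyReduced k (ResidueField A) := Groth.Agent.S2451.result.mp inferInstance
    refine ((Groth.Agent.S2453.result (k := k) (A := A)).out 0 3).mpr ?_
    infer_instance
  | prime hprime =>
    haveI := Fact.mk hprime
    refine Groth.Agent.EGA41Adic.isAdicFormallySmooth_of_regular_indep ?_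
    let K := ResidueField A
    let φ : Ω[k⁄ℤ] →ₗ[k] K ⊗[A] Ω[A⁄ℤ] :=
      ((TensorProduct.mk A K (Ω[A⁄ℤ]) 1).restrictScalars k) ∘ₗ KaehlerDifferential.map ℤ ℤ k A
    let g : K ⊗[k] Ω[k⁄ℤ] →ₗ[K] K ⊗[A] Ω[A⁄ℤ] := φ.liftBaseChange K
    have hg : Function.Injective g := by
      rw [injective_iff_map_eq_zero]
      intro x hx
      have htop : ∀ z : K ⊗[k] Ω[k⁄ℤ],
          z ∈ Submodule.span K ((fun ω => (1 : K) ⊗ₜ[k] ω) '' Set.range (KaehlerDifferential.D ℤ k)) := by
        intro z
        induction z using TensorProduct.induction_on with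
        | zero => exact zero_mem _
        | add x y hx hy => exact add_mem hx hy
        | tmul c ω =>
          rw [show c ⊗ₜ[k] ω = c • ((1 : K) ⊗ₜ[k] ω) by rw [TensorProduct.smul_tmul', smul_eq_mul, mul_one]]
          refine Submodule.smul_mem _ c ?_
          have hω : ω ∈ Submodule.span k (Set.range (KaehlerDifferential.D ℤ k)) := by
            rw [KaehlerDifferential.span_range_derivation]; trivial
          have := Submodule.mem_map_of_mem (f := TensorProduct.mk k K (Ω[k⁄ℤ]) 1) hω
          rw [Submodule.map_span] at this
          exact Submodule.span_le_restrictScalars k K _ this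
      obtain ⟨T, hT, hxT⟩ := Submodule.mem_span_finite_of_mem_span (htop x)
      obtain ⟨S, hS, hST⟩ := Finset.subset_set_image_iff.mp hT
      obtain ⟨b, hbS, hbspan, hbind⟩ := exists_linearIndependent k (S : Set (Ω[k⁄ℤ]))
      have hbfin : b.Finite := S.finite_toSet.subset hbS
      haveI := hbfin.fintype
      let e := (Fintype.equivFin b).symm
      choose a ha using fun i => hS (hbS (e i).2)
      have hind : LinearIndependent k fun i => KaehlerDifferential.D ℤ k (a i) := by
        rw [show (fun i => KaehlerDifferential.D ℤ k (a i)) = Subtype.val ∘ e from funext ha]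
        exact hbind.comp e e.injective
      letI : Field (MvPolynomial (Fin (Fintype.card b)) k ⧸ Groth.Agent.EGA41Adic.relIdeal k p a) :=
        (Groth.Agent.EGA41Adic.isField_radical p a hind).toField
      let Bk := MvPolynomial (Fin (Fintype.card b)) k ⧸ Groth.Agent.EGA41Adic.relIdeal k p a
      haveI : CharP Bk p := charP_of_injective_algebraMap (RingHom.injective (algebraMap k Bk)) p
      have hX : ∀ i, Ideal.Quotient.mk (Groth.Agent.EGA41Adic.relIdeal k p a) (MvPolynomial.X i) ^ p =
          algebraMap k Bk (a i) := fun i => by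
        rw [← map_pow]
        exact Ideal.Quotient.eq.mpr (Ideal.subset_span ⟨i, rfl⟩)
      have hfin : Module.Finite k Bk := by
        haveI : Algebra.IsIntegral k Bk := by
          refine ⟨fun z => ?_⟩
          obtain ⟨P, rfl⟩ := Ideal.Quotient.mk_surjective z
          induction P using MvPolynomial.induction_on with
          | C c => exact isIntegral_algebraMap
          | add x y hx hy => rw [map_add]; exact hx.add hy
          | mul_X x i hx =>
            rw [map_mul]
            exact hx.mul (IsIntegral.of_pow hprime.pos ((hX i).symm ▸ isIntegral_algebraMap))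
        exact Algebra.IsIntegral.finite
      have hrad : ∀ z : Bk, z ^ p ∈ (algebraMap k Bk).range := fun z => by
        obtain ⟨P, rfl⟩ := Ideal.Quotient.mk_surjective z
        induction P using MvPolynomial.induction_on with
        | C c => exact ⟨c ^ p, map_pow _ _ _⟩
        | add x y hx hy =>
          rw [map_add, add_pow_char]
          exact add_mem hx hy
        | mul_X x i hx =>
          rw [map_mul, mul_pow, hX]
          exact mul_mem hx ⟨a i, rfl⟩
      have hA := Groth.Agent.EGA41Adic.indep_of_regular_radical p a (hreg Bk hfin hrad)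
      have hle : Submodule.span K (T : Set (K ⊗[k] Ω[k⁄ℤ])) ≤
          Submodule.span K (Set.range fun i => (1 : K) ⊗ₜ[k] KaehlerDifferential.D ℤ k (a i)) := by
        refine Submodule.span_le.mpr fun t ht => ?_
        rw [← hST] at ht
        obtain ⟨ω, hω, rfl⟩ := Finset.mem_image.mp ht
        have h1 : ω ∈ Submodule.span k b := hbspan ▸ Submodule.subset_span (Finset.mem_coe.mpr hω)
        have h2 := Submodule.mem_map_of_mem (f := TensorProduct.mk k K (Ω[k⁄ℤ]) 1) h1
        rw [Submodule.map_span] at h2
        refine Submodule.span_le_restrictScalars k K _ (Submodule.span_mono ?_ h2)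
        rintro _ ⟨y, hy, rfl⟩
        refine ⟨e.symm ⟨y, hy⟩, ?_⟩
        show (1 : K) ⊗ₜ[k] KaehlerDifferential.D ℤ k (a (e.symm ⟨y, hy⟩)) = (1 : K) ⊗ₜ[k] y
        rw [ha, Equiv.apply_symm_apply]
      obtain ⟨c, hc⟩ := (Submodule.mem_span_range_iff_exists_fun K).mp (hle hxT)
      have h0 : ∑ i, c i • ((1 : K) ⊗ₜ[A] KaehlerDifferential.D ℤ A (algebraMap k A (a i))) = 0 := by
        rw [← hx, ← hc, map_sum]
        refine Finset.sum_congr rfl fun i _ => ?_
        simp [g, φ, TensorProduct.smul_tmul']
      have hc0 := Fintype.linearIndependent_iff.mp hA c h0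
      rw [← hc]
      simp [hc0]
    have hb := ((Module.Free.chooseBasis k (Ω[k⁄ℤ])).baseChange K).linearIndependent.map' g (LinearMap.ker_eq_bot.mpr hg)
    convert hb using 1
    all_goals first
      | rfl
      | exact funext fun i => (by simp [g, φ, Groth.Agent.EGA41Adic.fam] <;> rfl)

end Groth.Agent.S4573
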