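import Groth.Statements.S4606
-- import your own Groth.Agent.* helpers here
import Groth.Agent.S2463
import Groth.Agent.EGA41SymGr.Quotient

set_option autoImplicit false
universe u
open TensorProduct KaehlerDifferential IsLocalRing
open EGA41

namespace Groth.Agent.S4606

open IsLocalRing TensorProduct KaehlerDifferential

/-- Adic formal smoothness is transported along isomorphisms. -/
theorem of_algEquiv {R S S' : Type u} [CommRing R] [CommRing S] [CommRing S'] [Algebra R S] [Algebra R S']
    (e : S ≃ₐ[R] S') {I : Ideal S} {I' : Ideal S'} (hI : I.map e.toRingEquiv.toRingHom = I')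
    (h : CAlgX.IsAdicFormallySmooth R S' I') : CAlgX.IsAdicFormallySmooth R S I := by
  subst hI
  intro E _ _ K hK ψ ⟨n, hn⟩
  obtain ⟨χ, hχ⟩ := h E K hK (ψ.comp e.symm.toAlgHom) ⟨n, fun x hx => by
    rw [← Ideal.map_pow] at hx
    obtain ⟨y, hy, rfl⟩ := (Ideal.mem_map_iff_of_surjective _ e.toRingEquiv.surjective).mp hx
    show ψ (e.symm (e y)) = 0
    rw [e.symm_apply_apply]
    exact hn y hy⟩
  exact ⟨χ.comp e.toAlgHom, AlgHom.ext fun x => (DFunLike.congr_fun hχ (e x)).trans (congrArg ψ (e.symm_apply_apply x))⟩

/-- Formal smoothness over a localisation of the base is formal smoothness over the base. -/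
theorem over_base {A Aq T : Type u} [CommRing A] [CommRing Aq] [CommRing T] [Algebra A Aq] [Algebra Aq T] [Algebra A T]
    [IsScalarTower A Aq T] (M : Submonoid A) [IsLocalization M Aq] {I : Ideal T}
    (h : CAlgX.IsAdicFormallySmooth Aq T I) : CAlgX.IsAdicFormallySmooth A T I := by
  intro E _ _ K hK ψ hψ
  have hu : ∀ m : M, IsUnit (algebraMap A E m) := fun m => by
    have h1 : IsUnit (Ideal.Quotient.mk K (algebraMap A E m)) := by
      rw [show Ideal.Quotient.mk K (algebraMap A E m) = algebraMap A (E ⧸ K) m from rfl, ← ψ.commutes,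
        IsScalarTower.algebraMap_apply A Aq T]
      exact ((IsLocalization.map_units Aq m).map _).map ψ
    exact (IsNilpotent.isUnit_quotient_mk_iff ⟨2, hK⟩).mp h1
  let g : Aq →+* E := IsLocalization.lift hu
  letI : Algebra Aq E := g.toAlgebra
  haveI : IsScalarTower A Aq E := IsScalarTower.of_algebraMap_eq fun a => (IsLocalization.lift_eq hu a).symm
  let ψ' : T →ₐ[Aq] E ⧸ K :=
    { ψ.toRingHom with
      commutes' := fun a => by
        refine RingHom.congr_fun (IsLocalization.ringHom_ext M (j := ψ.toRingHom.comp (algebraMap Aq T))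
          (k := (Ideal.Quotient.mk K).comp g) (RingHom.ext fun b => ?_)) a
        show ψ (algebraMap Aq T (algebraMap A Aq b)) = Ideal.Quotient.mk K (g (algebraMap A Aq b))
        rw [← IsScalarTower.algebraMap_apply, ψ.commutes, IsLocalization.lift_eq]
        rfl }
  obtain ⟨χ, hχ⟩ := h E K hK ψ' hψ
  exact ⟨χ.restrictScalars A, AlgHom.ext fun x => DFunLike.congr_fun hχ x⟩

/-- Formal smoothness over the base gives adic formal smoothness over a localisation of the base. -/
theorem over_localization {A Aq T : Type u} [CommRing A] [CommRing Aq] [CommRing T] [Algebra A Aq] [Algebra Aq T]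
    [Algebra A T] [IsScalarTower A Aq T] (M : Submonoid A) [IsLocalization M Aq] [Algebra.FormallySmooth A T]
    (I : Ideal T) : CAlgX.IsAdicFormallySmooth Aq T I := by
  intro E _ _ K hK ψ _
  letI : Algebra A E := ((algebraMap Aq E).comp (algebraMap A Aq)).toAlgebra
  haveI : IsScalarTower A Aq E := IsScalarTower.of_algebraMap_eq fun _ => rfl
  let χ := Algebra.FormallySmooth.lift K ⟨2, hK⟩ (ψ.restrictScalars A)
  have hχ : ∀ x, Ideal.Quotient.mk K (χ x) = ψ x := fun x =>
    Algebra.FormallySmooth.mk_lift K ⟨2, hK⟩ (ψ.restrictScalars A) x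
  refine ⟨{ χ.toRingHom with
      commutes' := fun a => RingHom.congr_fun (IsLocalization.ringHom_ext M (j := χ.toRingHom.comp (algebraMap Aq T))
          (k := algebraMap Aq E) (RingHom.ext fun b => by
            show χ (algebraMap Aq T (algebraMap A Aq b)) = _
            rw [← IsScalarTower.algebraMap_apply, χ.commutes]
            rfl)) a }, AlgHom.ext hχ⟩

/-- Adic formal smoothness makes the conormal map universally injective at the prime. -/
theorem injective_of_isAdicFormallySmooth {A B C : Type u} [CommRing A] [CommRing B] [CommRing C] [Algebra A B]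
    [Algebra B C] [Algebra A C] [IsScalarTower A B C] [IsNoetherianRing B]
    (hsurj : Function.Surjective (algebraMap B C)) (p : Ideal C) [p.IsPrime]
    (h : CAlgX.IsAdicFormallySmooth A (Localization.AtPrime p) (maximalIdeal (Localization.AtPrime p))) :
    Function.Injective ((KaehlerDifferential.kerCotangentToTensor A B C).lTensor p.ResidueField) := by
  classical
  let J := RingHom.ker (algebraMap B C)
  let P := p.comap (algebraMap B C)
  let B' := Localization.AtPrime P
  let φ : B' →+* Localization.AtPrime p := Localization.localRingHom P p (algebraMap B C) rfl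
  have hφa : ∀ b, φ (algebraMap B B' b) = algebraMap C _ (algebraMap B C b) := fun b =>
    Localization.localRingHom_to_map _ _ _ _ b
  have hφs : Function.Surjective φ := RingHom.surjective_localRingHom_of_surjective _ hsurj p
  have hJP : J ≤ P := fun b hb => by
    show algebraMap B C b ∈ p
    rw [RingHom.mem_ker.mp hb]; exact p.zero_mem
  let J' : Ideal B' := J.map (algebraMap B B')
  have hker : RingHom.ker φ = J' := by
    refine le_antisymm (fun z hz => ?_) (Ideal.map_le_iff_le_comap.mpr fun b hb => ?_)
    · obtain ⟨a, t, rfl⟩ := IsLocalization.exists_mk'_eq P.primeCompl z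
      have h0 : φ (algebraMap B B' a) = 0 := by
        rw [← IsLocalization.mk'_spec B' a t, map_mul, RingHom.mem_ker.mp hz, zero_mul]
      rw [hφa, IsLocalization.map_eq_zero_iff p.primeCompl] at h0
      obtain ⟨⟨u, hu⟩, hua⟩ := h0
      obtain ⟨u0, rfl⟩ := hsurj u
      have hu0 : IsUnit (algebraMap B B' u0) := IsLocalization.map_units B' (⟨u0, hu⟩ : P.primeCompl)
      have h1 : algebraMap B B' a ∈ J' := by
        refine (Ideal.unit_mul_mem_iff_mem J' hu0).mp ?_
        rw [← map_mul]
        exact Ideal.mem_map_of_mem _ (by rw [RingHom.mem_ker, map_mul]; exact hua)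
      rw [← IsLocalization.mk'_spec B' a t] at h1
      exact (Ideal.mul_unit_mem_iff_mem _ (IsLocalization.map_units B' t)).mp h1
    · show φ (algebraMap B B' b) = 0
      rw [hφa, RingHom.mem_ker.mp hb, map_zero]
  let φA : B' →ₐ[A] Localization.AtPrime p :=
    { φ with
      commutes' := fun a => by
        show φ (algebraMap A B' a) = _
        rw [IsScalarTower.algebraMap_apply A B B', hφa, ← IsScalarTower.algebraMap_apply,
          ← IsScalarTower.algebraMap_apply] }
  let e : (B' ⧸ J') ≃ₐ[A] Localization.AtPrime p :=
    (Ideal.quotientEquivAlgOfEq A (show J' = RingHom.ker φA from hker.symm)).trans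
      (Ideal.quotientKerAlgEquivOfSurjective (f := φA) hφs)
  haveI : IsLocalHom φ := IsLocalHom.of_surjective φ hφs
  have hmax : ((maximalIdeal B').map (Ideal.Quotient.mk J')).map e.toRingEquiv.toRingHom =
      maximalIdeal (Localization.AtPrime p) := by
    rw [Ideal.map_map, show e.toRingEquiv.toRingHom.comp (Ideal.Quotient.mk J') = φ from RingHom.ext fun x => rfl]
    refine le_antisymm (Ideal.map_le_iff_le_comap.mpr fun b hb => map_nonunit φ b hb) fun y hy => ?_
    obtain ⟨b, rfl⟩ := hφs y
    exact Ideal.mem_map_of_mem _ fun hb => hy (hb.map φ)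
  have hJm : J' ≤ maximalIdeal B' := by
    rw [← Localization.AtPrime.map_eq_maximalIdeal]; exact Ideal.map_mono hJP
  have hext := EGA41SymGr.extendsIdeal_of_isAdicFormallySmooth (A := A) (J := J') (𝔔 := maximalIdeal B') hJm
    (n := 1) (by rw [pow_one]) (of_algEquiv e hmax h)
  let K := p.ResidueField
  letI : Algebra B' K := ((algebraMap (Localization.AtPrime p) K).comp φ).toAlgebra
  haveI : IsScalarTower B B' K := IsScalarTower.of_algebraMap_eq fun b => by
    show _ = algebraMap (Localization.AtPrime p) K (φ (algebraMap B B' b))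
    rw [hφa, ← IsScalarTower.algebraMap_apply, ← IsScalarTower.algebraMap_apply]
  haveI : IsScalarTower A B' K := IsScalarTower.of_algebraMap_eq fun a => by
    show _ = algebraMap (Localization.AtPrime p) K (φA (algebraMap A B' a))
    rw [φA.commutes, ← IsScalarTower.algebraMap_apply]
  have hkill : ∀ b ∈ maximalIdeal B', ∀ x : K, b • x = 0 := fun b hb x => by
    rw [Algebra.smul_def, show algebraMap B' K b = residue _ (φ b) from rfl,
      (residue_eq_zero_iff _).mpr (map_nonunit φ b hb), zero_mul]
  refine (injective_iff_map_eq_zero _).mpr fun z hz => (Module.forall_dual_apply_eq_zero_iff K z).mp fun χ => ?_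
  let ψ : J →ₗ[B] K := (χ.restrictScalars B ∘ₗ TensorProduct.mk B K J.Cotangent 1) ∘ₗ J.toCotangent
  have hlift : ∃ h' : J' →ₗ[B'] K, ∀ j : J, h' (Algebra.idealMap J (S := B') j) = ψ j := by
    have hu : ∀ s : P.primeCompl, IsUnit (algebraMap B (Module.End B K) s) := fun s => by
      have hs : IsUnit (algebraMap B K s) := by
        rw [IsScalarTower.algebraMap_apply B B' K]
        exact (IsLocalization.map_units B' s).map _
      rw [Module.End.isUnit_iff]
      refine ⟨fun x y hxy => hs.mul_left_cancel ?_, fun y => ⟨(algebraMap B K s)⁻¹ * y, ?_⟩⟩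
      · simpa [Algebra.smul_def] using hxy
      · simp [Module.algebraMap_end_apply, Algebra.smul_def, mul_inv_cancel_left₀ hs.ne_zero]
    let l : J' →ₗ[B] K := IsLocalizedModule.lift P.primeCompl (Algebra.idealMap J (S := B')) ψ hu
    exact ⟨LinearMap.extendScalarsOfIsLocalization P.primeCompl B' l,
      fun j => IsLocalizedModule.lift_apply P.primeCompl (Algebra.idealMap J (S := B')) ψ hu j⟩
  obtain ⟨h', hh'⟩ := hlift
  obtain ⟨D, hD⟩ := hext K hkill h'
  let DB : Derivation A B K := D.compAlgebraMap B
  let Φ : K ⊗[B] (C ⊗[B] Ω[B⁄A]) →ₗ[K] K :=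
    ((DB.liftKaehlerDifferential.liftBaseChange C).restrictScalars B).liftBaseChange K
  have hχ : χ = Φ ∘ₗ (KaehlerDifferential.kerCotangentToTensor A B C).baseChange K := by
    refine TensorProduct.AlgebraTensorModule.curry_injective (LinearMap.ext_ring (LinearMap.ext fun w => ?_))
    obtain ⟨j, rfl⟩ := J.toCotangent_surjective w
    show χ (1 ⊗ₜ[B] J.toCotangent j) = Φ ((KaehlerDifferential.kerCotangentToTensor A B C).baseChange K (1 ⊗ₜ[B] J.toCotangent j))
    rw [LinearMap.baseChange_tmul, KaehlerDifferential.kerCotangentToTensor_toCotangent]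
    simp only [Φ, LinearMap.liftBaseChange_tmul, one_smul, LinearMap.coe_restrictScalars]
    show χ (1 ⊗ₜ[B] J.toCotangent j) = DB.liftKaehlerDifferential (KaehlerDifferential.D A B j)
    rw [Derivation.liftKaehlerDifferential_comp_D]
    exact ((hD (Algebra.idealMap J (S := B') j)).trans (hh' j)).symm
  rw [hχ, LinearMap.comp_apply]
  show Φ ((KaehlerDifferential.kerCotangentToTensor A B C).lTensor K z) = 0
  rw [hz, map_zero]


/-- Let B be a Noetherian A-algebra formally smooth for the discrete topologies, B → C a surjection with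
kernel J, p a prime of C and q its contraction to A. Then C_p is formally smooth over A_q (A_q
discrete, C_p with the adic topology of its maximal ideal) if and only if κ(p) ⊗ J/J² → κ(p) ⊗ (C
⊗_B Ω_{B/A}) is injective. (The equivalent variant with the q-adic topology on A_q is not stated.) -/
theorem result {A B C : Type u} [CommRing A]
    [CommRing B] [CommRing C] [Algebra A B] [Algebra B C] [Algebra A C] [IsScalarTower A B C] [IsNoetherianRing B]
    [Algebra.FormallySmooth A B] (hsurj : Function.Surjective (algebraMap B C)) (p : Ideal C) [p.IsPrime]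
    [Algebra (Localization.AtPrime (p.comap (algebraMap A C))) (Localization.AtPrime p)]
    [IsScalarTower A (Localization.AtPrime (p.comap (algebraMap A C))) (Localization.AtPrime p)] :
    CAlgX.IsAdicFormallySmooth (Localization.AtPrime (p.comap (algebraMap A C))) (Localization.AtPrime p)
        (maximalIdeal (Localization.AtPrime p)) ↔
      Function.Injective ((kerCotangentToTensor A B C).lTensor p.ResidueField) := by
  refine ⟨fun h => injective_of_isAdicFormallySmooth hsurj p (over_base (p.comap (algebraMap A C)).primeCompl h),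
    fun h => ?_⟩
  haveI : Module.Finite B (RingHom.ker (algebraMap B C)).Cotangent :=
    Module.Finite.of_surjective _ (RingHom.ker (algebraMap B C)).toCotangent_surjective
  haveI : Algebra.FormallySmooth A (Localization.AtPrime p) :=
    ((Groth.Agent.S2463.result (A := A) hsurj p).out 1 0).mp h
  exact over_localization (p.comap (algebraMap A C)).primeCompl _

end Groth.Agent.S4606
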