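import Groth.Statements.S4578
-- import your own Groth.Agent.* helpers here
import Groth.Agent.S4606
import Groth.Agent.S4512
import Groth.Agent.S4573

set_option autoImplicit false
universe u
open IsLocalRing
open EGA41

namespace Groth.Agent.S4578

open IsLocalRing

/-- The conormal criterion, adic smoothness and discrete smoothness at a prime of a finitely generated algebra. -/
theorem formallySmooth_iff_adic {k₀ k C : Type u} [Field k₀] [Field k] [Algebra k₀ k] [Algebra.FormallySmooth k₀ k]
    [CommRing C] [Algebra k C] [Algebra k₀ C] [IsScalarTower k₀ k C] [Algebra.FiniteType k C]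
    (p : Ideal C) [p.IsPrime] :
    (Algebra.FormallySmooth k₀ (Localization.AtPrime p) ↔
      CAlgX.IsAdicFormallySmooth k₀ (Localization.AtPrime p) (maximalIdeal (Localization.AtPrime p))) ∧
    (Algebra.FormallySmooth k₀ (Localization.AtPrime p) ↔
      ∃ f : C, f ∉ p ∧ Algebra.FormallySmooth k₀ (Localization.Away f)) := by
  obtain ⟨n, f, hf⟩ := Algebra.FiniteType.iff_quotient_mvPolynomial''.mp ‹Algebra.FiniteType k C›
  let B := MvPolynomial (Fin n) k
  letI : Algebra B C := f.toRingHom.toAlgebra
  haveI : IsScalarTower k₀ B C := IsScalarTower.of_algebraMap_eq fun a => by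
    show algebraMap k₀ C a = f (algebraMap k₀ B a)
    rw [IsScalarTower.algebraMap_apply k₀ k B, f.commutes, ← IsScalarTower.algebraMap_apply]
  haveI : Algebra.FormallySmooth k₀ B := Algebra.FormallySmooth.comp k₀ k B
  haveI : Module.Finite B (RingHom.ker (algebraMap B C)).Cotangent :=
    Module.Finite.of_surjective _ (RingHom.ker (algebraMap B C)).toCotangent_surjective
  have hinj := Groth.Agent.LeftInv.formallySmooth_atPrime_iff_injective (A := k₀) (B := B) (C := C) hf p
  refine ⟨⟨fun h E _ _ K hK ψ _ => ?_, fun h => hinj.mpr (Groth.Agent.S4606.injective_of_isAdicFormallySmooth hf p h)⟩,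
    Groth.Agent.LeftInv.formallySmooth_atPrime_iff_away (A := k₀) (B := B) (C := C) hf p⟩
  haveI := h
  exact ⟨Algebra.FormallySmooth.lift K ⟨2, hK⟩ ψ, Algebra.FormallySmooth.comp_lift K ⟨2, hK⟩ ψ⟩

/-- Formal smoothness is local at maximal ideals. -/
theorem formallySmooth_of_forall_maximal {k₀ k C : Type u} [Field k₀] [Field k] [Algebra k₀ k]
    [Algebra.FormallySmooth k₀ k] [CommRing C] [Algebra k C] [Algebra k₀ C] [IsScalarTower k₀ k C]
    [Algebra.FiniteType k C] (h : ∀ (m : Ideal C) [m.IsMaximal], Algebra.FormallySmooth k₀ (Localization.AtPrime m)) :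
    Algebra.FormallySmooth k₀ C := by
  obtain ⟨n, f, hf⟩ := Algebra.FiniteType.iff_quotient_mvPolynomial''.mp ‹Algebra.FiniteType k C›
  let B := MvPolynomial (Fin n) k
  letI : Algebra B C := f.toRingHom.toAlgebra
  haveI : IsScalarTower k₀ B C := IsScalarTower.of_algebraMap_eq fun a => by
    show algebraMap k₀ C a = f (algebraMap k₀ B a)
    rw [IsScalarTower.algebraMap_apply k₀ k B, f.commutes, ← IsScalarTower.algebraMap_apply]
  haveI : Algebra.FormallySmooth k₀ B := Algebra.FormallySmooth.comp k₀ k B
  haveI : Module.Finite B (RingHom.ker (algebraMap B C)).Cotangent :=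
    Module.Finite.of_surjective _ (RingHom.ker (algebraMap B C)).toCotangent_surjective
  exact (Groth.Agent.LeftInv.formallySmooth_iff_forall_maximal (A := k₀) (B := B) (C := C) hf).mpr h

/-- Adic smoothness and geometric regularity of a Noetherian local algebra. -/
theorem adic_iff_geomRegular {k A : Type u} [Field k] [CommRing A] [IsLocalRing A] [IsNoetherianRing A] [Algebra k A] :
    CAlgX.IsAdicFormallySmooth k A (maximalIdeal A) ↔ CAlg.IsGeometricallyRegular k A := by
  refine ⟨fun h => (Groth.Agent.S4512.result h).1, fun h => ?_⟩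
  obtain ⟨q, hq⟩ := ExpChar.exists k
  exact (Groth.Agent.S4573.result q).mpr fun k' _ _ hfin _ => h k' hfin


/-- Let k₀ be a field, k an extension field of k₀ which is separable (formally smooth) over k₀, C a
k-algebra of finite type and p a prime ideal of C. The following are equivalent: C_p is formally
smooth over k₀ (discrete topologies); C_p is formally smooth over k₀ for the adic topology of its
maximal ideal; C_f is formally smooth over k₀ for some f ∉ p; C_p is geometrically regular over k₀.
(The published statement adds that the set of primes p having these properties is open in Spec C;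
that openness is not stated here.) -/
theorem result {k₀ k C : Type u} [Field k₀] [Field k] [Algebra k₀ k]
    [Algebra.FormallySmooth k₀ k] [CommRing C] [Algebra k C] [Algebra k₀ C] [IsScalarTower k₀ k C]
    [Algebra.FiniteType k C]
    (p : Ideal C) [p.IsPrime] :
    [Algebra.FormallySmooth k₀ (Localization.AtPrime p),
     CAlgX.IsAdicFormallySmooth k₀ (Localization.AtPrime p) (maximalIdeal (Localization.AtPrime p)),
     ∃ f : C, f ∉ p ∧ Algebra.FormallySmooth k₀ (Localization.Away f),
     CAlg.IsGeometricallyRegular k₀ (Localization.AtPrime p)].TFAE := by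
  obtain ⟨h12, h13⟩ := formallySmooth_iff_adic (k₀ := k₀) (k := k) p
  haveI : IsNoetherianRing C := Algebra.FiniteType.isNoetherianRing k C
  haveI : IsNoetherianRing (Localization.AtPrime p) := IsLocalization.isNoetherianRing p.primeCompl _ inferInstance
  tfae_have 1 ↔ 2 := h12
  tfae_have 1 ↔ 3 := h13
  tfae_have 2 ↔ 4 := adic_iff_geomRegular
  tfae_finish

end Groth.Agent.S4578
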