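import Groth.Statements.S4514
-- import your own Groth.Agent.* helpers here
import Groth.Agent.EGA41FS.FlatLiftRegular

set_option autoImplicit false
universe u
open EGA41

namespace Groth.Agent.S4514

open IsLocalRing TensorProduct in
/-- Let A be a Noetherian local ring with residue field k, and let B₀ be a k-algebra which is a complete
regular local ring. Then there exist a complete Noetherian local ring B and a local homomorphism A →
B making B a flat A-module, such that B₀ is k-isomorphic to k ⊗_A B = B/𝔪B. -/
theorem result {A : Type u} [CommRing A] [IsLocalRing A] [IsNoetherianRing A]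
    (B₀ : Type u) [CommRing B₀] [IsRegularLocalRing B₀] [IsAdicComplete (maximalIdeal B₀) B₀]
    [Algebra (ResidueField A) B₀] :
    ∃ (B : Type u) (_ : CommRing B) (_ : IsLocalRing B) (_ : IsNoetherianRing B) (_ : Algebra A B)
      (_ : IsLocalHom (algebraMap A B)),
      IsAdicComplete (maximalIdeal B) B ∧ Module.Flat A B ∧
        Nonempty (ResidueField A ⊗[A] B ≃ₐ[ResidueField A] B₀) := by
  open TensorProduct in
  classical
  let Ah := AdicCompletion (maximalIdeal A) A
  let e := RingEquiv.ofBijective (ResidueField.map (algebraMap A Ah)) (AdicCompletion.residueField_map_bijective A)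
  let α : ResidueField Ah →+* B₀ := (algebraMap (ResidueField A) B₀).comp e.symm.toRingHom
  obtain ⟨B, _, _, _, ι, ρ, _, hcomp, hflat, hρs, hker, hρι⟩ :=
    Groth.Agent.EGA41FS.exists_flat_lift_regular Ah B₀ α
  letI : Algebra A B := (ι.comp (algebraMap A Ah)).toAlgebra
  haveI : IsLocalHom (algebraMap A B) := RingHom.isLocalHom_comp ι (algebraMap A Ah)
  haveI : Module.Flat A B := RingHom.Flat.comp (RingHom.flat_algebraMap_iff.mpr inferInstance) hflat
  letI : Algebra A B₀ := ((algebraMap (ResidueField A) B₀).comp (residue A)).toAlgebra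
  haveI : IsScalarTower A (ResidueField A) B₀ := IsScalarTower.of_algebraMap_eq' rfl
  have hρA : ∀ a, ρ (algebraMap A B a) = algebraMap A B₀ a := fun a => by
    show (ρ.comp ι) (algebraMap A Ah a) = algebraMap (ResidueField A) B₀ (residue A a)
    rw [hρι]
    show algebraMap (ResidueField A) B₀ (e.symm (residue Ah (algebraMap A Ah a))) = _
    rw [show residue Ah (algebraMap A Ah a) = e (residue A a) from (ResidueField.map_residue _ _).symm,
      RingEquiv.symm_apply_apply]
  let ρA : B →ₐ[A] B₀ := { ρ with commutes' := hρA }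
  let f : ResidueField A ⊗[A] B →ₐ[ResidueField A] B₀ :=
    Algebra.TensorProduct.lift (Algebra.ofId (ResidueField A) B₀) ρA fun a b => Commute.all _ _
  have hf1 : ∀ b, f ((1 : ResidueField A) ⊗ₜ[A] b) = ρ b := fun b => by
    show Algebra.TensorProduct.lift _ _ _ _ = _
    rw [Algebra.TensorProduct.lift_tmul, map_one, one_mul]
    rfl
  have hrep : ∀ z : ResidueField A ⊗[A] B, ∃ b, z = (1 : ResidueField A) ⊗ₜ[A] b := fun z => by
    induction z using TensorProduct.induction_on with
    | zero => exact ⟨0, by rw [TensorProduct.tmul_zero]⟩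
    | add a b ha hb =>
      obtain ⟨a', rfl⟩ := ha; obtain ⟨b', rfl⟩ := hb
      exact ⟨a' + b', by rw [TensorProduct.tmul_add]⟩
    | tmul c b =>
      obtain ⟨a, rfl⟩ := residue_surjective c
      exact ⟨a • b, by rw [← TensorProduct.smul_tmul, Algebra.smul_def, mul_one]; rfl⟩
  have hbij : Function.Bijective f := by
    refine ⟨(injective_iff_map_eq_zero f).mpr fun z hz => ?_, fun y => ?_⟩
    · obtain ⟨b, rfl⟩ := hrep z
      have hb : b ∈ (maximalIdeal A).map (algebraMap A B) := by
        rw [show algebraMap A B = ι.comp (algebraMap A Ah) from rfl, ← Ideal.map_map,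
          ← AdicCompletion.maximalIdeal_eq_map, ← hker, RingHom.mem_ker, ← hf1, hz]
      have hle : (maximalIdeal A).map (algebraMap A B) ≤
          RingHom.ker (Algebra.TensorProduct.includeRight : B →ₐ[A] ResidueField A ⊗[A] B).toRingHom := by
        refine Ideal.map_le_iff_le_comap.mpr fun a ha => ?_
        rw [Ideal.mem_comap, RingHom.mem_ker]
        show (1 : ResidueField A) ⊗ₜ[A] algebraMap A B a = 0
        rw [Algebra.algebraMap_eq_smul_one a, ← TensorProduct.smul_tmul, Algebra.smul_def, mul_one,
          show algebraMap A (ResidueField A) a = 0 from (residue_eq_zero_iff a).mpr ha, TensorProduct.zero_tmul]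
      exact hle hb
    · obtain ⟨b, rfl⟩ := hρs y
      exact ⟨1 ⊗ₜ b, hf1 b⟩
  exact ⟨B, inferInstance, inferInstance, inferInstance, inferInstance, inferInstance, hcomp, inferInstance,
    ⟨AlgEquiv.ofBijective f hbij⟩⟩

end Groth.Agent.S4514
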