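import Groth.Statements.S2487
-- import your own Groth.Agent.* helpers here
import Groth.Agent.S4514
import Groth.Agent.EGA41FS.FlatFibreAdic
import Groth.Agent.EGA41FS.LiftUnique
import Groth.Agent.EGA41FS.SmallStep

set_option autoImplicit false
universe u
open EGA41

namespace Groth.Agent.S2487

open IsLocalRing TensorProduct in
/-- Let A be a Noetherian local ring, J an ideal contained in the maximal ideal, A₀ = A/J, and B₀ a
complete Noetherian local ring with a local homomorphism A₀ → B₀ making B₀ formally smooth over A₀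
(adic topologies). Then (existence) there are a complete Noetherian local ring B, a local
homomorphism A → B making B a flat A-module, and an A₀-algebra isomorphism u : A₀ ⊗_A B ≅ B₀;
(uniqueness) if (B', u') is another such pair, there is an A-algebra isomorphism v : B ≅ B' with u'
∘ (1 ⊗ v) = u. -/
theorem result {A : Type u} [CommRing A] [IsLocalRing A] [IsNoetherianRing A]
    (J : Ideal A) (hJ : J ≤ maximalIdeal A) [IsLocalRing (A ⧸ J)]
    (B₀ : Type u) [CommRing B₀] [IsLocalRing B₀] [IsNoetherianRing B₀] [IsAdicComplete (maximalIdeal B₀) B₀]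
    [Algebra (A ⧸ J) B₀] [IsLocalHom (algebraMap (A ⧸ J) B₀)]
    (hfs : EGA41.IsFormallySmoothAdic (A ⧸ J) (maximalIdeal (A ⧸ J)) B₀ (maximalIdeal B₀)) :
    (∃ (B : Type u) (_ : CommRing B) (_ : IsLocalRing B) (_ : IsNoetherianRing B) (_ : Algebra A B) (_ : IsLocalHom (algebraMap A B)),
      IsAdicComplete (maximalIdeal B) B ∧ Module.Flat A B ∧ Nonempty ((A ⧸ J) ⊗[A] B ≃ₐ[A ⧸ J] B₀)) ∧
    ∀ (B B' : Type u) [CommRing B] [IsLocalRing B] [IsNoetherianRing B] [Algebra A B] [IsLocalHom (algebraMap A B)]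
      [CommRing B'] [IsLocalRing B'] [IsNoetherianRing B'] [Algebra A B'] [IsLocalHom (algebraMap A B')],
      IsAdicComplete (maximalIdeal B) B → Module.Flat A B → IsAdicComplete (maximalIdeal B') B' → Module.Flat A B' →
      ∀ (u : (A ⧸ J) ⊗[A] B ≃ₐ[A ⧸ J] B₀) (u' : (A ⧸ J) ⊗[A] B' ≃ₐ[A ⧸ J] B₀),
      ∃ v : B ≃ₐ[A] B', (u' : (A ⧸ J) ⊗[A] B' →ₐ[A ⧸ J] B₀).comp
          (Algebra.TensorProduct.map (AlgHom.id (A ⧸ J) (A ⧸ J)) (v : B →ₐ[A] B')) = (u : (A ⧸ J) ⊗[A] B →ₐ[A ⧸ J] B₀) := by
  open TensorProduct in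
  classical
  let 𝔪 := maximalIdeal A
  let A₀ := A ⧸ J
  let q₀ := Ideal.Quotient.mk J
  letI : Algebra A B₀ := ((algebraMap A₀ B₀).comp q₀).toAlgebra
  haveI : IsScalarTower A A₀ B₀ := IsScalarTower.of_algebraMap_eq' rfl
  haveI : IsLocalHom q₀ := IsLocalHom.of_surjective q₀ Ideal.Quotient.mk_surjective
  haveI : IsLocalHom (algebraMap A B₀) := RingHom.isLocalHom_comp (algebraMap A₀ B₀) q₀
  have hmA₀ : 𝔪.map q₀ = maximalIdeal A₀ := IsLocalRing.map_maximalIdeal_of_surjective q₀ Ideal.Quotient.mk_surjective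
  have hlocmap : ∀ (R X : Type u) [CommRing R] [IsLocalRing R] [CommRing X] [IsLocalRing X] [Algebra R X]
      [IsLocalHom (algebraMap R X)], (maximalIdeal R).map (algebraMap R X) ≤ maximalIdeal X := fun R X => by
    intros
    exact ((local_hom_TFAE (algebraMap R X)).out 0 2).mp ‹IsLocalHom (algebraMap R X)›
  -- flat algebras with fibre `B₀` are formally smooth
  have hfsflat : ∀ (B : Type u) [CommRing B] [IsLocalRing B] [IsNoetherianRing B] [Algebra A B]
      [IsLocalHom (algebraMap A B)], Module.Flat A B → ∀ (φ : B →ₐ[A] B₀), Function.Surjective φ →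
      RingHom.ker φ.toRingHom = J.map (algebraMap A B) →
      EGA41.IsFormallySmoothAdic A 𝔪 B (maximalIdeal B) := fun B => by
    intro _ _ _ _ _ hflat φ hφ hkφ
    haveI := hflat
    have hI : J.map (algebraMap A B) ≤ maximalIdeal B := (Ideal.map_mono hJ).trans (hlocmap A B)
    let q := Ideal.Quotient.mk (J.map (algebraMap A B))
    haveI : IsLocalHom φ.toRingHom := IsLocalHom.of_surjective _ hφ
    let e : (B ⧸ J.map (algebraMap A B)) ≃ₐ[A] B₀ :=
      (Ideal.quotientEquivAlgOfEq A hkφ.symm).trans (Ideal.quotientKerAlgEquivOfSurjective hφ)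
    let e₀ : B₀ ≃ₐ[A₀] B ⧸ J.map (algebraMap A B) :=
      { e.symm with
        commutes' := fun r => by
          obtain ⟨r, rfl⟩ := Ideal.Quotient.mk_surjective r
          exact e.symm.commutes r }
    refine Groth.Agent.EGA41FS.isFormallySmoothAdic_of_flat_fibre 𝔪 J (maximalIdeal B) (hlocmap A B) hI ?_
    have key : (maximalIdeal B₀).map e₀.toAlgHom.toRingHom = (maximalIdeal B).map q := by
      rw [← IsLocalRing.map_maximalIdeal_of_surjective φ.toRingHom hφ, Ideal.map_map]
      refine congrArg (Ideal.map · (maximalIdeal B)) (RingHom.ext fun b => ?_)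
      show e.symm (φ b) = q b
      exact e.symm_apply_apply (q b)
    show EGA41.IsFormallySmoothAdic A₀ (𝔪.map q₀) _ _
    rw [hmA₀]
    exact Groth.Agent.EGA41FS.isFormallySmoothAdic_of_algEquiv _ e₀ key.ge key.le hfs
  refine ⟨?_, ?_⟩
  · -- existence
    let K := 𝔪.map (algebraMap A B₀)
    let T := B₀ ⧸ K
    have hKm : K ≤ maximalIdeal B₀ := hlocmap A B₀
    haveI : Nontrivial T := Ideal.Quotient.nontrivial_iff.mpr fun h =>
      (maximalIdeal.isMaximal B₀).ne_top (top_le_iff.mp (h ▸ hKm))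
    haveI : IsLocalRing T := IsLocalRing.of_surjective' (Ideal.Quotient.mk K) Ideal.Quotient.mk_surjective
    haveI : IsAdicComplete (maximalIdeal T) T := Groth.Agent.EGA41FS.isAdicComplete_quotient K
    letI : Algebra (ResidueField A) T := (Ideal.Quotient.lift 𝔪 (algebraMap A T) fun r hr =>
      Ideal.Quotient.eq_zero_iff_mem.mpr (Ideal.mem_map_of_mem _ hr)).toAlgebra
    haveI : IsScalarTower A (ResidueField A) T := IsScalarTower.of_algebraMap_eq fun r => rfl
    letI : Algebra (A ⧸ 𝔪) (B₀ ⧸ 𝔪.map (algebraMap A B₀)) := inferInstanceAs (Algebra (ResidueField A) T)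
    haveI : IsScalarTower A (A ⧸ 𝔪) (B₀ ⧸ 𝔪.map (algebraMap A B₀)) := inferInstanceAs (IsScalarTower A (ResidueField A) T)
    have hfs₀ : EGA41.IsFormallySmoothAdic A₀ (maximalIdeal A₀) B₀ (maximalIdeal B₀) := hfs
    have hT : CAlgX.IsAdicFormallySmooth (ResidueField A) T (maximalIdeal T) := by
      intro C _ _ I hI ψ hψ
      letI : Algebra A₀ C := (Ideal.Quotient.lift J ((algebraMap (ResidueField A) C).comp (residue A)) fun r hr => by
        rw [RingHom.comp_apply, (residue_eq_zero_iff r).mpr (hJ hr), map_zero]).toAlgebra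
      let w : B₀ →ₐ[A₀] C ⧸ I :=
        { ψ.toRingHom.comp (Ideal.Quotient.mk K) with
          commutes' := fun r => by
            obtain ⟨r, rfl⟩ := Ideal.Quotient.mk_surjective r
            exact ψ.commutes (residue A r) }
      obtain ⟨l, hl⟩ := hψ
      obtain ⟨v, hv⟩ := hfs₀ C I ⟨2, hI⟩ ⟨1, by
          rw [pow_one, ← hmA₀, Ideal.map_map, eq_bot_iff, Ideal.map_le_iff_le_comap]
          intro r hr
          show algebraMap (ResidueField A) C (residue A r) = 0
          rw [(residue_eq_zero_iff r).mpr hr, map_zero]⟩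
        w ⟨l, fun x hx => hl _ (by
          rw [← IsLocalRing.map_maximalIdeal_of_surjective (Ideal.Quotient.mk K) Ideal.Quotient.mk_surjective, ← Ideal.map_pow]
          exact Ideal.mem_map_of_mem _ hx)⟩
      have hvK : ∀ x ∈ K, v x = 0 := fun x hx => by
        have hle : K ≤ RingHom.ker v.toRingHom := Ideal.map_le_iff_le_comap.mpr fun r hr => by
          rw [Ideal.mem_comap, RingHom.mem_ker]
          show v (algebraMap A₀ B₀ (q₀ r)) = 0
          rw [AlgHom.commutes]
          show algebraMap (ResidueField A) C (residue A r) = 0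
          rw [(residue_eq_zero_iff r).mpr hr, map_zero]
        exact hle hx
      refine ⟨{ Ideal.Quotient.lift K v.toRingHom hvK with
        commutes' := fun r => by
          obtain ⟨r, rfl⟩ := residue_surjective r
          exact v.commutes (q₀ r) }, AlgHom.ext fun x => ?_⟩
      obtain ⟨x, rfl⟩ := Ideal.Quotient.mk_surjective x
      exact DFunLike.congr_fun hv x
    haveI : IsRegularLocalRing T := Groth.Agent.EGA41Adic.isRegularLocalRing_of_isAdicFormallySmooth hT
    obtain ⟨B, _, _, _, _, _, hcomp, hflat, ⟨iT⟩⟩ := Groth.Agent.S4514.result (A := A) T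
    haveI := hflat; haveI := hcomp
    let ρ : B →ₐ[A] T := (iT.toAlgHom.restrictScalars A).comp Algebra.TensorProduct.includeRight
    have hρs : Function.Surjective ρ := iT.surjective.comp (Groth.Agent.EGA41FS.surjective_includeRight_quot 𝔪)
    have hρk : RingHom.ker ρ.toRingHom = 𝔪.map (algebraMap A B) := by
      rw [← Groth.Agent.EGA41FS.ker_includeRight_quot 𝔪]
      ext b
      rw [RingHom.mem_ker, RingHom.mem_ker]
      exact map_eq_zero_iff iT.toAlgHom iT.injective
    haveI : IsLocalHom ρ.toRingHom := IsLocalHom.of_surjective _ hρs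
    have hfsB : EGA41.IsFormallySmoothAdic A 𝔪 B (maximalIdeal B) := by
      let e : (B ⧸ 𝔪.map (algebraMap A B)) ≃ₐ[A] T :=
        (Ideal.quotientEquivAlgOfEq A hρk.symm).trans (Ideal.quotientKerAlgEquivOfSurjective hρs)
      let q := Ideal.Quotient.mk (𝔪.map (algebraMap A B))
      refine Groth.Agent.EGA41FS.isFormallySmoothAdic_of_flat_fibre 𝔪 𝔪 (maximalIdeal B) (hlocmap A B) (hlocmap A B) ?_
      let e₀ : (B₀ ⧸ 𝔪.map (algebraMap A B₀)) ≃ₐ[A ⧸ 𝔪] B ⧸ 𝔪.map (algebraMap A B) :=
        { e.symm with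
          commutes' := fun r => by
            obtain ⟨r, rfl⟩ := Ideal.Quotient.mk_surjective r
            exact e.symm.commutes r }
      have key : (maximalIdeal T).map e₀.toAlgHom.toRingHom = (maximalIdeal B).map q := by
        rw [← IsLocalRing.map_maximalIdeal_of_surjective ρ.toRingHom hρs, Ideal.map_map]
        refine congrArg (Ideal.map · (maximalIdeal B)) (RingHom.ext fun b => ?_)
        show e.symm (ρ b) = q b
        exact e.symm_apply_apply (q b)
      intro C _ _ I hI hC u hu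
      -- the field is discrete, so square-zero tests suffice
      have hsq : EGA41.IsFormallySmoothAdic (A ⧸ 𝔪) (⊥ : Ideal (A ⧸ 𝔪)) (B₀ ⧸ 𝔪.map (algebraMap A B₀)) (maximalIdeal T) := by
        refine Groth.Agent.EGA41FS.isFormallySmoothAdic_of_small _ _ fun D _ aD I' hI' _ _ w hw => ?_
        letI : Algebra (ResidueField A) D := aD
        exact hT D I' hI' w hw
      exact Groth.Agent.EGA41FS.isFormallySmoothAdic_of_algEquiv _ e₀ key.ge key.le hsq C I hI
        ⟨1, by rw [pow_one, Ideal.map_bot]⟩ u hu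
    let I := J.map (algebraMap A B)
    have hI : I ≤ maximalIdeal B := (Ideal.map_mono hJ).trans (hlocmap A B)
    haveI : Nontrivial (B ⧸ I) := Ideal.Quotient.nontrivial_iff.mpr fun h =>
      (maximalIdeal.isMaximal B).ne_top (top_le_iff.mp (h ▸ hI))
    haveI : IsLocalRing (B ⧸ I) := IsLocalRing.of_surjective' (Ideal.Quotient.mk I) Ideal.Quotient.mk_surjective
    haveI : IsAdicComplete (maximalIdeal (B ⧸ I)) (B ⧸ I) := Groth.Agent.EGA41FS.isAdicComplete_quotient I
    have hX : EGA41.IsFormallySmoothAdic A₀ (maximalIdeal A₀) (B ⧸ I) (maximalIdeal (B ⧸ I)) := by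
      rw [← hmA₀, ← IsLocalRing.map_maximalIdeal_of_surjective (Ideal.Quotient.mk I) Ideal.Quotient.mk_surjective]
      exact Groth.Agent.EGA41FS.isFormallySmoothAdic_quotient 𝔪 J (maximalIdeal B) hfsB
    have hρI : ∀ b ∈ I, ρ b = 0 := fun b hb =>
      RingHom.mem_ker.mp (show b ∈ RingHom.ker ρ.toRingHom by rw [hρk]; exact Ideal.map_mono hJ hb)
    let ρX : B ⧸ I →ₐ[A₀] T := (Ideal.Quotient.liftₐ I ρ hρI).extendScalarsOfSurjective Ideal.Quotient.mk_surjective
    let ρY : B₀ →ₐ[A₀] T := Ideal.Quotient.mkₐ A₀ K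
    have hcomp' : ∀ (X : Type u) [CommRing X] [Algebra A₀ X] [Algebra A X] [IsScalarTower A A₀ X],
        (maximalIdeal A₀).map (algebraMap A₀ X) = 𝔪.map (algebraMap A X) := fun X => by
      intros
      rw [← hmA₀, Ideal.map_map, IsScalarTower.algebraMap_eq A A₀ X]
      rfl
    have hQX : (maximalIdeal A₀).map (algebraMap A₀ (B ⧸ I)) ≤ maximalIdeal (B ⧸ I) := by
      rw [hcomp', IsScalarTower.algebraMap_eq A B (B ⧸ I), ← Ideal.map_map,
        ← IsLocalRing.map_maximalIdeal_of_surjective (Ideal.Quotient.mk I) Ideal.Quotient.mk_surjective]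
      exact Ideal.map_mono (hlocmap A B)
    obtain ⟨e, -⟩ := Groth.Agent.EGA41FS.exists_algEquiv_of_fibre (maximalIdeal A₀) (maximalIdeal A₀) hX hfs₀ hQX hQX
      (hlocmap A₀ B₀) (hlocmap A₀ B₀) ρX
      (fun y => by obtain ⟨b, rfl⟩ := hρs y; exact ⟨Ideal.Quotient.mk I b, rfl⟩)
      (by
        rw [hcomp', IsScalarTower.algebraMap_eq A B (B ⧸ I), ← Ideal.map_map, ← hρk]
        ext x
        obtain ⟨b, rfl⟩ := Ideal.Quotient.mk_surjective x
        rw [RingHom.mem_ker]
        refine ⟨fun h => Ideal.mem_map_of_mem _ (RingHom.mem_ker.mpr h), fun h => ?_⟩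
        obtain ⟨c, hc, hcb⟩ := (Ideal.mem_map_iff_of_surjective _ Ideal.Quotient.mk_surjective).mp h
        show ρX (Ideal.Quotient.mk I b) = 0
        have hcb' : Ideal.Quotient.mk I c = Ideal.Quotient.mk I b := hcb
        rw [← hcb']
        exact RingHom.mem_ker.mp hc)
      ρY Ideal.Quotient.mk_surjective (by rw [hcomp']; exact Ideal.mk_ker)
    let eI : ((A₀) ⊗[A] B) ≃ₐ[A] B ⧸ I :=
      (Algebra.TensorProduct.comm A A₀ B).trans
        ((Algebra.TensorProduct.quotIdealMapEquivTensorQuot B J).restrictScalars A).symm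
    let eI₀ : ((A₀) ⊗[A] B) ≃ₐ[A₀] B ⧸ I :=
      { eI with
        commutes' := fun r => by
          obtain ⟨r, rfl⟩ := Ideal.Quotient.mk_surjective r
          exact eI.commutes r }
    exact ⟨B, inferInstance, inferInstance, inferInstance, inferInstance, inferInstance, hcomp, hflat, ⟨eI₀.trans e⟩⟩
  · -- uniqueness
    intro B B' _ _ _ _ _ _ _ _ _ _ hB hBf hB' hBf' u u'
    haveI := hB; haveI := hB'
    let φ : B →ₐ[A] B₀ := (u.toAlgHom.restrictScalars A).comp Algebra.TensorProduct.includeRight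
    let φ' : B' →ₐ[A] B₀ := (u'.toAlgHom.restrictScalars A).comp Algebra.TensorProduct.includeRight
    have hφs : Function.Surjective φ := u.surjective.comp (Groth.Agent.EGA41FS.surjective_includeRight_quot J)
    have hφ's : Function.Surjective φ' := u'.surjective.comp (Groth.Agent.EGA41FS.surjective_includeRight_quot J)
    have hφk : RingHom.ker φ.toRingHom = J.map (algebraMap A B) := by
      rw [← Groth.Agent.EGA41FS.ker_includeRight_quot J]
      ext b
      rw [RingHom.mem_ker, RingHom.mem_ker]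
      exact map_eq_zero_iff u.toAlgHom u.injective
    have hφ'k : RingHom.ker φ'.toRingHom = J.map (algebraMap A B') := by
      rw [← Groth.Agent.EGA41FS.ker_includeRight_quot J]
      ext b
      rw [RingHom.mem_ker, RingHom.mem_ker]
      exact map_eq_zero_iff u'.toAlgHom u'.injective
    obtain ⟨v, hv⟩ := Groth.Agent.EGA41FS.exists_algEquiv_of_fibre 𝔪 J (hfsflat B hBf φ hφs hφk) (hfsflat B' hBf' φ' hφ's hφ'k)
      (hlocmap A B) ((Ideal.map_mono hJ).trans (hlocmap A B)) (hlocmap A B') ((Ideal.map_mono hJ).trans (hlocmap A B'))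
      φ hφs hφk φ' hφ's hφ'k
    refine ⟨v, ?_⟩
    refine Algebra.TensorProduct.ext (Subsingleton.elim _ _) (AlgHom.ext fun b => ?_)
    exact hv b

end Groth.Agent.S2487
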