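import Groth.Statements.S0600
import Mathlib
import Groth.Agent.AdicFibres.Completion
import Groth.Agent.GeomProp.RegLocal
import Groth.Agent.FlatDepth.Regular
-- import your own Groth.Agent.* helpers here

set_option autoImplicit false
universe u
open CAlg

namespace Groth.Agent.S0600

/-- If `A` is a G-ring and `I` any ideal, then the map from `A` to its `I`-adic completion is regular. -/
theorem result (A : Type u) [CommRing A] (hA : CAlg.IsGRing A)
    (I : Ideal A) : CAlg.IsRegularHom A (AdicCompletion I A) := by
  obtain ⟨_, hA⟩ := hA
  haveI : IsNoetherianRing (AdicCompletion I A) :=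
    Groth.Agent.ResExt.isNoetherianRing_adicCompletion I (IsNoetherian.noetherian I)
  refine (GeomProp.regular_iff_localRingHom A (AdicCompletion I A)).2.2 fun n _ => ?_
  obtain ⟨_, _, _, _, _⟩ := AdicFibres.exists_completion_map A I n (n.comap (algebraMap A (AdicCompletion I A))) rfl
  letI := (Localization.localRingHom (n.comap (algebraMap A (AdicCompletion I A))) n (algebraMap A (AdicCompletion I A)) rfl).toAlgebra
  haveI : IsScalarTower A (Localization.AtPrime (n.comap (algebraMap A (AdicCompletion I A)))) (Localization.AtPrime n) :=
    IsScalarTower.of_algebraMap_eq fun a => by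
      rw [RingHom.algebraMap_toAlgebra, Localization.localRingHom_to_map, ← IsScalarTower.algebraMap_apply]
  haveI : IsScalarTower (Localization.AtPrime (n.comap (algebraMap A (AdicCompletion I A)))) (Localization.AtPrime n)
      (EGA4.Cpl (Localization.AtPrime (n.comap (algebraMap A (AdicCompletion I A))))) :=
    IsScalarTower.of_algebraMap_eq' (IsLocalization.ringHom_ext (n.comap (algebraMap A (AdicCompletion I A))).primeCompl
      (by rw [RingHom.comp_assoc, ← IsScalarTower.algebraMap_eq A _ (Localization.AtPrime n),
        ← IsScalarTower.algebraMap_eq, ← IsScalarTower.algebraMap_eq]))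
  exact FlatDepth.isRegularHom_descent (C := EGA4.Cpl (Localization.AtPrime (n.comap (algebraMap A (AdicCompletion I A)))))
    (hA _)

end Groth.Agent.S0600
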