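import Groth.Statements.S9249
import Groth.Agent.CMFlat.Scheme
import Groth.Agent.AdicBasics.Dimension

set_option autoImplicit false
universe u
open CAlg

namespace Groth.Agent.S9249

/-- A Noetherian local ring is Cohen-Macaulay if and only if its completion is. -/
theorem result (A : Type u) [CommRing A] [IsLocalRing A]
    [IsNoetherianRing A] :
    LocCoh.IsCohenMacaulayLocalRing A ↔
      LocCoh.IsCohenMacaulayLocalRing (AdicCompletion (IsLocalRing.maximalIdeal A) A) := by
  let Â := AdicCompletion (IsLocalRing.maximalIdeal A) A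
  have hm : IsLocalRing.maximalIdeal Â = (IsLocalRing.maximalIdeal A).map (algebraMap A Â) :=
    AdicCompletion.maximalIdeal_eq_map_of_fg (IsLocalRing.maximalIdeal A).fg_of_isNoetherianRing
  haveI : IsNoetherianRing Â := AdicBasics.isNoetherianRing_completion A
  haveI : IsLocalHom (algebraMap A Â) := ((IsLocalRing.local_hom_TFAE (algebraMap A Â)).out 0 2).mpr hm.ge
  haveI : Module.Flat A Â := AdicCompletion.flat_of_isNoetherian _
  have h0 : ringKrullDim (Â ⧸ (IsLocalRing.maximalIdeal A).map (algebraMap A Â)) = 0 := by
    haveI : ((IsLocalRing.maximalIdeal A).map (algebraMap A Â)).IsMaximal := hm ▸ inferInstance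
    letI := Ideal.Quotient.field ((IsLocalRing.maximalIdeal A).map (algebraMap A Â))
    exact ringKrullDim_eq_zero_of_field _
  exact (CMFlat.isCohenMacaulayLocalRing_iff_of_dim_zero h0).1.symm

end Groth.Agent.S9249
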