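import Groth.Statements.S14020
import Mathlib.RingTheory.Noetherian.OfPrime
import Mathlib.RingTheory.Ideal.Quotient.PowTransition
import Mathlib.RingTheory.Artinian.Ring
import Mathlib.RingTheory.HopkinsLevitzki

set_option autoImplicit false
universe u
open CAlg TensorProduct

namespace Groth.Agent.S14020

/-- Let R be a commutative ring and I a finitely generated ideal such that the quotient ring R/I is
artinian. Then R/I^n is artinian for every n. -/
theorem result
    (R : Type u) [CommRing R] (I : Ideal R) (hI : I.FG) [IsArtinianRing (R ⧸ I)] (n : ℕ) :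
    IsArtinianRing (R ⧸ I ^ n) := by
  rcases Nat.eq_zero_or_pos n with rfl | hn
  · haveI : Subsingleton (R ⧸ I ^ 0) := Ideal.Quotient.subsingleton_iff.2 (by simp)
    infer_instance
  let π : R ⧸ I ^ n →+* R ⧸ I := Ideal.Quotient.factor (Ideal.pow_le_self hn.ne')
  have hker : RingHom.ker π = I.map (Ideal.Quotient.mk (I ^ n)) := Ideal.Quotient.factor_ker _
  have hsurj : Function.Surjective π := Ideal.Quotient.factor_surjective _
  have hle : ∀ P : Ideal (R ⧸ I ^ n), P.IsPrime → RingHom.ker π ≤ P := fun P hP => by
    rw [hker, Ideal.map_le_iff_le_comap]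
    refine ((Ideal.comap_isPrime (Ideal.Quotient.mk (I ^ n)) P).pow_le_iff hn.ne').1 fun x hx => ?_
    rw [Ideal.mem_comap, Ideal.Quotient.eq_zero_iff_mem.2 hx]
    exact P.zero_mem
  haveI : IsNoetherianRing (R ⧸ I ^ n) := IsNoetherianRing.of_prime fun P hP => by
    classical
    obtain ⟨T, hT⟩ := (IsNoetherian.noetherian (P.map π) : (P.map π).FG)
    choose lift hlift using hsurj
    have hPeq : P = Ideal.span (lift '' (T : Set (R ⧸ I))) ⊔ RingHom.ker π := by
      have h1 : (Ideal.span (lift '' (T : Set (R ⧸ I)))).map π = P.map π := by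
        rw [Ideal.map_span, ← Set.image_comp, show π ∘ lift = id from funext hlift, Set.image_id]; exact hT
      have h2 := congrArg (Ideal.comap π) h1
      rw [Ideal.comap_map_of_surjective π (fun x => ⟨lift x, hlift x⟩), Ideal.comap_map_of_surjective π (fun x => ⟨lift x, hlift x⟩),
        ← RingHom.ker_eq_comap_bot, sup_eq_left.2 (hle P hP)] at h2
      exact h2.symm
    rw [hPeq, ← Finset.coe_image, hker]
    exact Submodule.FG.sup ⟨_, rfl⟩ (hI.map _)
  refine isArtinianRing_iff_isNoetherianRing_krullDimLE_zero.2 ⟨inferInstance, Ring.KrullDimLE.mk₀ fun P hP => ?_⟩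
  have := hle P hP
  haveI : (P.map π).IsPrime := Ideal.map_isPrime_of_surjective hsurj this
  haveI : (P.map π).IsMaximal := IsArtinianRing.isMaximal_of_isPrime _
  rw [show P = (P.map π).comap π by rw [Ideal.comap_map_of_surjective π hsurj, ← RingHom.ker_eq_comap_bot, sup_eq_left.2 (hle P hP)]]
  exact Ideal.comap_isMaximal_of_surjective π hsurj

end Groth.Agent.S14020
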