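import Groth.Statements.S6292
import Groth.Agent.S14020
import Mathlib.RingTheory.FiniteLength
import Mathlib.RingTheory.Artinian.Ring
import Mathlib.RingTheory.HopkinsLevitzki

set_option autoImplicit false
universe u
open CAlg
open Groth.Agent

namespace Groth.Agent.S6292

/-- Let R be a ring and m ⊆ R a finitely generated maximal ideal (for instance R Noetherian). If M is a
finite R-module with mⁿM = 0 for some n, then M has finite length. -/
theorem result {R : Type u} [CommRing R] (m : Ideal R) [m.IsMaximal] (hm : m.FG) (M : Type u) [AddCommGroup M] [Module R M] [Module.Finite R M] (n : ℕ) (hn : m ^ n • (⊤ : Submodule R M) = ⊥) : IsFiniteLength R M := by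
  haveI : IsArtinianRing (R ⧸ m) := letI := Ideal.Quotient.field m; inferInstance
  haveI : IsArtinianRing (R ⧸ m ^ n) := S14020.result R m hm n
  haveI : IsNoetherianRing (R ⧸ m ^ n) := inferInstance
  have hk : Module.IsTorsionBySet R M (m ^ n : Ideal R) := fun x a => by
    have h : (a : R) • x ∈ m ^ n • (⊤ : Submodule R M) := Submodule.smul_mem_smul a.2 Submodule.mem_top
    rw [hn] at h
    exact (Submodule.mem_bot R).1 h
  letI : Module (R ⧸ m ^ n) M := Module.IsTorsionBySet.module hk
  haveI : IsScalarTower R (R ⧸ m ^ n) M := Module.IsTorsionBySet.isScalarTower _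
  haveI : Module.Finite (R ⧸ m ^ n) M := Module.Finite.of_restrictScalars_finite R _ _
  let φ : Submodule R M → Submodule (R ⧸ m ^ n) M := fun N =>
    { N.toAddSubmonoid with
      smul_mem' := fun c x hx => by
        obtain ⟨c, rfl⟩ := Ideal.Quotient.mk_surjective c
        exact N.smul_mem c hx }
  have hφ : StrictMono φ := fun _ _ h => h
  haveI hA : IsArtinian (R ⧸ m ^ n) M := isArtinian_of_fg_of_artinian'
  haveI hN : IsNoetherian (R ⧸ m ^ n) M := isNoetherian_of_isNoetherianRing_of_finite _ _
  exact isFiniteLength_iff_isNoetherian_isArtinian.2 ⟨isNoetherian_iff.2 hφ.wellFoundedGT.wf, ⟨hφ.wellFoundedLT.wf⟩⟩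

end Groth.Agent.S6292
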