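import Groth.Statements.S0376
import Groth.Agent.DualCx.EssFin
import Groth.Agent.DualCx.Self
import Groth.Agent.Cohen.Structure
import Groth.Agent.Goren.Basic
-- import your own Groth.Agent.* helpers here

set_option autoImplicit false
universe u v
open CategoryTheory
attribute [local instance] HasDerivedCategory.standard
open Dual

namespace Groth.Agent.S0376

/-- A complete Noetherian local ring has a dualizing complex. -/
theorem result (A : Type u) [CommRing A] [IsLocalRing A] [IsNoetherianRing A] [IsAdicComplete (IsLocalRing.maximalIdeal A) A] : ∃ ω : Dual.D A, Dual.IsDualizing A ω := by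
  obtain ⟨Λ, _, n, f, hΛ, hf⟩ := Groth.Agent.Cohen.exists_presentation A (IsNoetherian.noetherian _)
  haveI := Groth.Agent.Cohen.isRegularLocalRing_coeff hΛ
  haveI := Groth.Agent.Cohen.isRegularLocalRing_mvPowerSeries Λ n
  let P := MvPowerSeries (Fin n) Λ
  obtain ⟨m, hm⟩ := (Groth.Agent.Goren.isGorenstein_of_regular P).exists_hasInjectiveDimensionLT
  haveI := hm
  exact Groth.Agent.DualCx.EssFin.of_surjective ⟨_, Groth.Agent.DualCx.isDualizing_self m⟩ f hf

end Groth.Agent.S0376
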