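import Groth.Statements.S12711
import Groth.Prelude.Def_ArtFun

set_option autoImplicit false
universe u v
open CategoryTheory
open ArtFun ArtFun.Art

namespace Groth.Agent.S12711

/-- If B together with p₁ : B → A₁ and p₂ : B → A₂ is the fibre product A₁ ×_A A₂ in the category of
Artinian local Λ-algebras with residue field k, and f₂ : A₂ → A is a small extension, then the
projection p₁ : B → A₁ is a small extension. -/
theorem result {Λ : Type u} {k : Type u} [CommRing Λ] [Field k] [Algebra Λ k]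
    [IsNoetherianRing Λ] [Module.Finite Λ k]
    {B A A₁ A₂ : ArtFun.Art Λ k} {p₁ : B ⟶ A₁} {p₂ : B ⟶ A₂} {f₁ : A₁ ⟶ A} {f₂ : A₂ ⟶ A}
    (h : ArtFun.Art.IsFibreProd p₁ p₂ f₁ f₂) (hf₂ : ArtFun.Art.IsSmallExt f₂) :
    ArtFun.Art.IsSmallExt p₁ := by
  obtain ⟨hs, hne, ⟨⟨g, hg⟩⟩, hm⟩ := hf₂
  have hker : ∀ x : B, p₁ x = 0 → f₂ (p₂ x) = 0 := fun x hx => by
    rw [← h.w_apply x]; exact (congrArg f₁.toAlgHom hx).trans (map_zero _)
  have hlift : ∀ z : A₂, f₂ z = 0 → ∃ x : B, p₁ x = 0 ∧ p₂ x = z := fun z hz =>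
    h.surj 0 z ((map_zero f₁.toAlgHom).trans hz.symm)
  have hgmem : g ∈ RingHom.ker f₂.toAlgHom := hg ▸ Submodule.mem_span_singleton_self g
  obtain ⟨b, hb₁, hb₂⟩ := hlift g (RingHom.mem_ker.1 hgmem)
  refine ⟨fun a => ?_, fun hbot => hne ((Submodule.eq_bot_iff _).2 fun z hz => ?_), ⟨⟨b, ?_⟩⟩,
    le_bot_iff.1 (Ideal.mul_le.2 fun m hmm x hx => ?_)⟩
  · obtain ⟨c, hc⟩ := hs (f₁ a)
    obtain ⟨x, hx, -⟩ := h.surj a c hc.symm
    exact ⟨x, hx⟩
  · obtain ⟨x, hx₁, hx₂⟩ := hlift z (RingHom.mem_ker.1 hz)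
    have hx0 : x = 0 := Ideal.mem_bot.1 (hbot ▸ RingHom.mem_ker.2 hx₁)
    rw [← hx₂, hx0]
    exact map_zero p₂.toAlgHom
  · refine le_antisymm (fun x hx => ?_) ((Submodule.span_singleton_le_iff_mem _ _).2 (RingHom.mem_ker.2 hb₁))
    have hx' : p₂ x ∈ RingHom.ker f₂.toAlgHom := RingHom.mem_ker.2 (hker x (RingHom.mem_ker.1 hx))
    rw [hg] at hx'
    obtain ⟨c, hc⟩ := Submodule.mem_span_singleton.1 hx'
    obtain ⟨y, hy⟩ := B.res_surjective (A₂.res c)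
    refine Submodule.mem_span_singleton.2 ⟨y, h.inj _ _ ?_ ?_⟩
    · exact ((congrArg p₁.toAlgHom (smul_eq_mul y b)).trans (map_mul _ _ _)).trans
        ((by rw [hb₁, mul_zero] : p₁ y * p₁ b = 0).trans (RingHom.mem_ker.1 hx).symm)
    · refine ((congrArg p₂.toAlgHom (smul_eq_mul y b)).trans (map_mul _ _ _)).trans ?_
      have h0 : (p₂ y - c) * g ∈ (⊥ : Ideal A₂) := hm ▸ Ideal.mul_mem_mul
        ((A₂.mem_maximalIdeal_iff _).2 (by rw [map_sub, ArtFun.Art.res_app, hy, sub_self])) hgmem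
      rw [hb₂, ← hc, smul_eq_mul, ← sub_eq_zero, ← sub_mul]
      exact Ideal.mem_bot.1 h0
  · refine Ideal.mem_bot.2 (h.inj _ _ ?_ ?_)
    · rw [map_mul, map_zero, RingHom.mem_ker.1 hx, mul_zero]
    · rw [map_mul, map_zero, ← Ideal.mem_bot, ← hm]
      refine Ideal.mul_mem_mul ((A₂.mem_maximalIdeal_iff _).2 ?_) (RingHom.mem_ker.2 (hker x (RingHom.mem_ker.1 hx)))
      rw [ArtFun.Art.res_app]
      exact (B.mem_maximalIdeal_iff m).1 hmm

end Groth.Agent.S12711
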