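import Groth.Statements.S2456
-- import your own Groth.Agent.* helpers here
import Groth.Agent.EGA41Cohen.Basic

set_option autoImplicit false
universe u
open EGA41

namespace Groth.Agent.S2456

open IsLocalRing in
/-- Let W be a Cohen ring (a field of characteristic zero, or a complete discrete valuation ring with
maximal ideal generated by the residue characteristic), C a complete Noetherian local ring and J ≠ C
an ideal of C. Then every local homomorphism u : W → C/J is induced by a local homomorphism v : W →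
C. -/
theorem result {W C : Type u} [CommRing W] [IsLocalRing W] (hW : EGA41.IsCohenRingEGA W)
    [CommRing C] [IsLocalRing C] [IsNoetherianRing C] [IsAdicComplete (maximalIdeal C) C]
    (J : Ideal C) (hJ : J ≠ ⊤) [IsLocalRing (C ⧸ J)] (u : W →+* C ⧸ J) [IsLocalHom u] :
    ∃ v : W →+* C, IsLocalHom v ∧ (Ideal.Quotient.mk J).comp v = u := by
  have hlocal : ∀ (v : W →+* C), (Ideal.Quotient.mk J).comp v = u → IsLocalHom v := fun v hv =>
    ⟨fun a ha => IsUnit.of_map u a (by rw [← hv]; exact ha.map (Ideal.Quotient.mk J))⟩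
  suffices h : ∃ v : W →+* C, (Ideal.Quotient.mk J).comp v = u by
    obtain ⟨v, hv⟩ := h
    exact ⟨v, hlocal v hv, hv⟩
  rcases hW with ⟨hf, h0⟩ | hW
  · letI := hf.toField
    haveI := h0
    haveI : Algebra.FormallySmooth ℚ W := Groth.Agent.FSField.formallySmooth_of_perfectField ℚ W
    haveI := Groth.Agent.EGA41Cohen.isAdicComplete_ideal J hJ
    letI : Algebra ℤ C := Ring.toIntAlgebra C
    have hq : ∀ n : ℕ, n ≠ 0 → IsUnit (n : C) := fun n hn => by
      rw [← not_not (a := IsUnit (n : C)), ← mem_nonunits_iff, ← mem_maximalIdeal]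
      intro hm
      haveI : IsLocalHom (Ideal.Quotient.mk J) := IsLocalHom.of_surjective _ Ideal.Quotient.mk_surjective
      have : IsUnit (Ideal.Quotient.mk J (n : C)) := by
        rw [map_natCast, ← map_natCast u]; exact (isUnit_iff_ne_zero.mpr (Nat.cast_ne_zero.mpr hn)).map u
      exact hm (isUnit_of_map_unit _ _ this)
    letI : Algebra ℚ C := (IsLocalization.lift (M := nonZeroDivisors ℤ) (g := Int.castRingHom C) fun n => by
      have := hq n.1.natAbs (Int.natAbs_ne_zero.mpr (nonZeroDivisors.coe_ne_zero n))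
      rcases Int.natAbs_eq n.1 with h | h
      · rw [h, map_natCast]; exact this
      · rw [h, map_neg, map_natCast]; exact this.neg).toAlgebra
    obtain ⟨v, hv⟩ := Groth.Agent.EGA41Cohen.exists_lift_formallySmooth J
      ({ u with
          commutes' := fun q => DFunLike.congr_fun
            (RingHom.ext_rat (u.comp (algebraMap ℚ W)) (algebraMap ℚ (C ⧸ J))) q } : W →ₐ[ℚ] C ⧸ J)
    exact ⟨v.toRingHom, RingHom.ext fun x => DFunLike.congr_fun hv x⟩
  · obtain ⟨p, _, hp, hch, hmax, hp0, hcW, -⟩ := Groth.Agent.EGA41Cohen.cohen_spec hW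
    haveI := hcW
    haveI : IsLocalHom (Ideal.Quotient.mk J) := IsLocalHom.of_surjective _ Ideal.Quotient.mk_surjective
    let P : Subring (C × W) := ((Ideal.Quotient.mk J).comp (RingHom.fst C W)).eqLocus (u.comp (RingHom.snd C W))
    let π : P →+* ResidueField W := ((residue W).comp (RingHom.snd C W)).comp P.subtype
    have hπ : Function.Surjective π := fun a => by
      obtain ⟨w, rfl⟩ := residue_surjective a
      obtain ⟨c, hc⟩ := Ideal.Quotient.mk_surjective (u w)
      exact ⟨⟨(c, w), hc⟩, rfl⟩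
    obtain ⟨θ, hθ, hres⟩ := Groth.Agent.EGA41Cohen.exists_lift_family hW π hπ
    let f1 : P →+* C := (RingHom.fst C W).comp P.subtype
    let f2 : P →+* W := (RingHom.snd C W).comp P.subtype
    have hf2 : RingHom.ker π ≤ (maximalIdeal W).comap f2 := fun x hx =>
      (residue_eq_zero_iff _).mp (RingHom.mem_ker.mp hx)
    have hf1 : RingHom.ker π ≤ (maximalIdeal C).comap f1 := fun x hx => by
      intro hu
      have h : u (f2 x) = Ideal.Quotient.mk J (f1 x) := x.2.symm
      exact hf2 hx (IsUnit.of_map u _ (h ▸ hu.map (Ideal.Quotient.mk J)))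
    have hpow : ∀ {S : Type u} [CommRing S] (I : Ideal S) (f : P →+* S), RingHom.ker π ≤ I.comap f →
        ∀ n, RingHom.ker π ^ n ≤ (I ^ n).comap f := fun {S} _ I f h n =>
      (Ideal.pow_right_mono h n).trans (Ideal.le_comap_pow f n)
    let ψ1 : ∀ n, W →+* C ⧸ maximalIdeal C ^ (n + 1) := fun n =>
      (Ideal.quotientMap _ f1 (hpow _ f1 hf1 (n + 1))).comp (θ n)
    let ψ2 : ∀ n, W →+* W ⧸ maximalIdeal W ^ (n + 1) := fun n =>
      (Ideal.quotientMap _ f2 (hpow _ f2 hf2 (n + 1))).comp (θ n)
    have hc : ∀ {S : Type u} [CommRing S] (I : Ideal S) (f : P →+* S) (h : RingHom.ker π ≤ I.comap f) {j : ℕ},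
        (Ideal.Quotient.factorPow I (Nat.succ_le_succ j.le_succ)).comp
          ((Ideal.quotientMap _ f (hpow I f h (j + 1 + 1))).comp (θ (j + 1))) =
          (Ideal.quotientMap _ f (hpow I f h (j + 1))).comp (θ j) := fun {S} _ I f h {j} => RingHom.ext fun x => by
      obtain ⟨r, hr⟩ := Ideal.Quotient.mk_surjective (θ (j + 1) x)
      have hj : θ j x = Ideal.Quotient.mk _ r := by
        rw [← hθ, RingHom.comp_apply, ← hr]; exact Ideal.Quotient.factor_mk _ _
      simp only [RingHom.comp_apply, hj, ← hr, Ideal.quotientMap_mk]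
      exact Ideal.Quotient.factor_mk _ _
    have hmono : StrictMono (fun n : ℕ => n + 1) := fun a b h => Nat.succ_lt_succ h
    let v := IsAdicComplete.StrictMono.liftRingHom (maximalIdeal C) hmono ψ1 (hc _ f1 hf1)
    let ρ := IsAdicComplete.StrictMono.liftRingHom (maximalIdeal W) hmono ψ2 (hc _ f2 hf2)
    have hv := fun n => IsAdicComplete.StrictMono.mk_liftRingHom (maximalIdeal C) hmono ψ1 (hc _ f1 hf1) (n := n)
    have hρ := fun n => IsAdicComplete.StrictMono.mk_liftRingHom (maximalIdeal W) hmono ψ2 (hc _ f2 hf2) (n := n)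
    have hρres : ∀ x, residue W (ρ x) = residue W x := fun x => by
      obtain ⟨r, hr⟩ := Ideal.Quotient.mk_surjective (θ 0 x)
      rw [← hres x r hr]
      have h := hρ 0 x
      simp only [ψ2, RingHom.comp_apply, ← hr, Ideal.quotientMap_mk, Ideal.Quotient.eq, zero_add, pow_one] at h
      exact Ideal.Quotient.eq.mpr h
    have key : ∀ x, Ideal.Quotient.mk J (v x) = u (ρ x) := fun x => by
      refine eq_of_sub_eq_zero ?_
      haveI : IsNoetherianRing (C ⧸ J) := inferInstance
      rw [← Submodule.mem_bot (R := C ⧸ J),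
        ← Ideal.iInf_pow_eq_bot_of_isLocalRing _ (maximalIdeal.isMaximal (C ⧸ J)).ne_top, Ideal.mem_iInf]
      intro n
      obtain ⟨r, hr⟩ := Ideal.Quotient.mk_surjective (θ n x)
      have h1 := hv n x
      have h2 := hρ n x
      simp only [ψ1, ψ2, RingHom.comp_apply, ← hr, Ideal.quotientMap_mk, Ideal.Quotient.eq] at h1 h2
      have h : Ideal.Quotient.mk J (f1 r) = u (f2 r) := r.2
      have e : Ideal.Quotient.mk J (v x) - u (ρ x) =
          Ideal.Quotient.mk J (v x - f1 r) - u (ρ x - f2 r) := by rw [map_sub, map_sub, h]; ring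
      rw [e]
      refine sub_mem (Ideal.pow_le_pow_right n.le_succ ?_) (Ideal.pow_le_pow_right n.le_succ ?_)
      · rw [← IsLocalRing.map_maximalIdeal_of_surjective _ Ideal.Quotient.mk_surjective, ← Ideal.map_pow]
        exact Ideal.mem_map_of_mem _ h1
      · exact Ideal.pow_right_mono (IsLocalRing.map_maximalIdeal_le u) (n + 1)
          (Ideal.map_pow u _ (n + 1) ▸ Ideal.mem_map_of_mem u h2)
    have hb := Groth.Agent.EGA41Cohen.hom_bijective hW hW ρ fun a => by
      obtain ⟨x, rfl⟩ := residue_surjective a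
      exact ⟨x, hρres x⟩
    refine ⟨v.comp (RingEquiv.ofBijective ρ hb).symm.toRingHom, RingHom.ext fun x => ?_⟩
    exact (key _).trans (congrArg u ((RingEquiv.ofBijective ρ hb).apply_symm_apply x))

end Groth.Agent.S2456
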