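import Groth.Statements.S12713
import Groth.Agent.ArtKit.Basic

set_option autoImplicit false
universe u v
open CategoryTheory
open ArtFun ArtFun.Art

namespace Groth.Agent.S12713

/-- A small extension f : B → A in the category of Artinian local Λ-algebras with residue field k is not
an essential surjection (some morphism g : C → B is non-surjective although the composite C → A is
surjective) if and only if f has a section A → B in the category. -/
theorem result {Λ : Type u} {k : Type u} [CommRing Λ] [Field k] [Algebra Λ k]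
    [IsNoetherianRing Λ] [Module.Finite Λ k]
    {A B : ArtFun.Art Λ k} (f : B ⟶ A) (hf : ArtFun.Art.IsSmallExt f) :
    (∃ (C : ArtFun.Art Λ k) (g : C ⟶ B), Function.Surjective (g ≫ f) ∧ ¬ Function.Surjective g) ↔
      ∃ s : A ⟶ B, s ≫ f = 𝟙 A := by
  obtain ⟨hs, hne, ⟨⟨t, ht⟩⟩, hm⟩ := hf
  constructor
  · rintro ⟨C, g, hgf, hg⟩
    have key : ∀ c : C, f (g c) = 0 → g c = 0 := fun c hc => by
      by_contra h0
      refine hg fun b => ?_
      have hmk : ∀ x : B, x ∈ RingHom.ker f.toAlgHom → x ∈ g.toAlgHom.range := fun x hx => by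
        have hgc : g c ∈ Submodule.span B {t} := ht ▸ RingHom.mem_ker.2 hc
        obtain ⟨u, hu⟩ := Submodule.mem_span_singleton.1 hgc
        have huu : IsUnit u := by
          by_contra hn
          have hz : u * t ∈ IsLocalRing.maximalIdeal B * RingHom.ker f.toAlgHom :=
            Ideal.mul_mem_mul ((IsLocalRing.mem_maximalIdeal u).2 hn) (ht ▸ Submodule.mem_span_singleton_self t)
          rw [hm, Ideal.mem_bot, ← smul_eq_mul, hu] at hz
          exact h0 hz
        have hxt : x ∈ Submodule.span B {t} := ht ▸ hx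
        obtain ⟨v, hv⟩ := Submodule.mem_span_singleton.1 hxt
        obtain ⟨w, hw⟩ := hgf (f (v * ↑huu.unit⁻¹))
        refine ⟨w * c, ?_⟩
        have hd : (g w - v * ↑huu.unit⁻¹) * g c ∈ IsLocalRing.maximalIdeal B * RingHom.ker f.toAlgHom :=
          Ideal.mul_mem_mul ((IsLocalRing.mem_maximalIdeal _).2 fun hun => by
            have h2 : f (g w - v * ↑huu.unit⁻¹) = 0 := by rw [map_sub, sub_eq_zero]; exact hw
            exact not_isUnit_zero (h2 ▸ hun.map f.toAlgHom)) (RingHom.mem_ker.2 hc)
        rw [hm, Ideal.mem_bot, sub_mul, sub_eq_zero] at hd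
        show g (w * c) = x
        rw [map_mul, hd, ← hv, ← hu, smul_eq_mul, smul_eq_mul, mul_assoc v, ← mul_assoc _ u t,
          IsUnit.val_inv_mul, one_mul]
      obtain ⟨c', hc'⟩ := hgf (f b)
      obtain ⟨d, hd⟩ := hmk (b - g c') (RingHom.mem_ker.2 (by rw [map_sub, sub_eq_zero]; exact hc'.symm))
      refine ⟨c' + d, ?_⟩
      rw [map_add]
      exact (congrArg (g c' + ·) hd).trans (add_sub_cancel _ _)
    let s := AlgHom.liftOfSurjective (g ≫ f).toAlgHom hgf g.toAlgHom fun c hc => RingHom.mem_ker.2 (key c hc)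
    have hsg : ∀ c, s (f (g c)) = g c := fun c => AlgHom.liftOfSurjective_apply _ _ _ _ c
    refine ⟨ArtFun.Art.homMk s (AlgHom.ext fun a => ?_), ArtFun.Art.hom_ext (AlgHom.ext fun a => ?_)⟩
    · obtain ⟨c, rfl⟩ := hgf a
      exact (congrArg B.res (hsg c)).trans (ArtFun.Art.res_app f (g c)).symm
    · obtain ⟨c, rfl⟩ := hgf a
      exact congrArg f.toAlgHom (hsg c)
  · rintro ⟨s, hsf⟩
    refine ⟨A, s, fun a => ⟨a, congrArg (fun e : A ⟶ A => e a) hsf⟩, fun hsur => hne ?_⟩
    rw [Submodule.eq_bot_iff]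
    intro x hx
    obtain ⟨a, rfl⟩ := hsur x
    have : a = 0 := ((congrArg (fun e : A ⟶ A => e a) hsf).symm.trans (RingHom.mem_ker.1 hx))
    rw [this, map_zero]

end Groth.Agent.S12713
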