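import Groth.Statements.S1201
import Groth.Agent.RG.AssPts
import Groth.Agent.InjFibre.Loc

set_option autoImplicit false
open Groth.Agent
universe u
open FlatMor

namespace Groth.Agent.S1201

/-- Ring form: X = Spec S, S = Spec R: for a finite type R-algebra S, a finite S-module N and a prime q
of S lying over p, the localization N_q is flat over R if and only if N_{q'} is flat over R for
every prime q' ⊆ q lying over p whose extension to the fibre ring over p is an associated prime of
the fibre module of N (the associated points of the fibre which specialize to q). -/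
theorem result {R S : Type u} [CommRing R] [CommRing S] [Algebra R S] [Algebra.FiniteType R S]
    (N : Type u) [AddCommGroup N] [Module S N] [Module R N] [IsScalarTower R S N] [Module.Finite S N]
    (p : Ideal R) [p.IsPrime] (q : Ideal S) [q.IsPrime] [q.LiesOver p] :
    FlatCA.FlatAt R q N ↔ ∀ (q' : Ideal S) [q'.IsPrime], q' ≤ q → q'.LiesOver p →
      FlatCA.fiberIdeal p q' ∈ associatedPrimes (p.Fiber S) (FlatCA.fiberMod p S N) → FlatCA.FlatAt R q' N := by
  have hqp : q.comap (algebraMap R S) = p := (Ideal.LiesOver.over (P := q) (p := p)).symm
  refine ⟨fun h q' _ hle _ _ => ?_, fun h => ?_⟩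
  · haveI : Module.Flat R (LocalizedModule q.primeCompl N) := h
    exact InjFibre.flat_localized (R := R) q'.primeCompl
      (IsLocalizedModule.liftOfLE q.primeCompl q'.primeCompl (fun t ht => fun htq => ht (hle htq))
        (LocalizedModule.mkLinearMap q.primeCompl N) (LocalizedModule.mkLinearMap q'.primeCompl N))
  · refine (RG.local_embedding R S p q hqp fun σ _ hσ hσq => ?_).1
    have hσp : σ.comap (algebraMap R S) = p := (RG.isPrime_of_mem_assPts R S N hσ).2
    haveI : σ.LiesOver p := ⟨hσp.symm⟩
    exact h σ hσq inferInstance ((RG.mem_assPts_iff R S p σ hσp).1 hσ)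

end Groth.Agent.S1201
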