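import Groth.Statements.S0233
import Groth.Agent.UfdExtend.Trivial
import Groth.Agent.S0234

set_option autoImplicit false
universe u
open CategoryTheory CategoryTheory.Limits AlgebraicGeometry
open Curves

set_option backward.isDefEq.respectTransparency false

namespace Groth.Agent.S0233

open Groth.Agent.UfdExtend

/-- Every invertible module on an open subscheme of the spectrum of a unique factorisation domain is
trivial. -/
theorem result (R : Type u) [CommRing R] [IsDomain R] [UniqueFactorizationMonoid R]
    (U : (Spec (CommRingCat.of R)).Opens) (L : (U : Scheme.{u}).Modules) (hL : PicF.IsInvertible L) :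
    Nonempty (L ≅ Coh.structureModule (U : Scheme.{u})) := by
  let c := (Scheme.Modules.restrictFunctorAdjCounitIso U.ι).app L
  by_cases hne : ∃ u₀, u₀ ∈ U
  · obtain ⟨u₀, hu₀⟩ := hne
    haveI : Nonempty (⊤ : (Spec (CommRingCat.of R)).Opens).toScheme := ⟨⟨u₀, trivial⟩⟩
    haveI : IsIntegral (⊤ : (Spec (CommRingCat.of R)).Opens).toScheme :=
      isIntegral_of_isOpenImmersion (⊤ : (Spec (CommRingCat.of R)).Opens).ι
    haveI : UniqueFactorizationMonoid Γ(Spec (CommRingCat.of R), ⊤) :=
      MulEquiv.uniqueFactorizationMonoid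
        (Scheme.ΓSpecIso (CommRingCat.of R)).symm.commRingCatIsoToRingEquiv.toMulEquiv ‹_›
    obtain ⟨e, he⟩ := exists_gen_of_ufd (Groth.Agent.S0234.rankOne_pushforward U hL)
      (isAffineOpen_top _) (intOpen_of_isIntegral ⊤) le_top hu₀
    obtain ⟨i⟩ := InvGen.nonempty_iso U.ι _ U.opensRange_ι.le e he
    exact ⟨c.symm ≪≫ i⟩
  · have h0 : ∀ (M : (U : Scheme.{u}).Modules), IsZero M := fun M =>
      Groth.Agent.S0234.isZero_of_sections M fun V s =>
        Groth.Agent.QC.section_eq_of_locally fun y _ => absurd ⟨y.1, y.2⟩ hne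
    exact ⟨(h0 _).iso (h0 _)⟩

end Groth.Agent.S0233
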