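import Groth.Statements.S6004
import Groth.Agent.FpqcDescent.Affine

set_option autoImplicit false
universe u
open CategoryTheory AlgebraicGeometry
open SGA1

namespace Groth.Agent.S6004

set_option backward.isDefEq.respectTransparency.types false in
/-- Let G be an S-group scheme which is affine and flat over S. Then every principal homogeneous bundle
under G (a pseudo-torsor which acquires sections on the members of some fpqc covering family of S)
is affine and flat over S. -/
theorem result {S : Scheme.{u}}
    (G X : Over S) [GrpObj G] [IsAffineHom G.hom] [Flat G.hom] (a : AlgGrp.Action G X)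
    (h : NonAbH1.IsTorsorFor Scheme.fpqcPrecoverage a) :
    IsAffineHom X.hom ∧ Flat X.hom := by
  obtain ⟨hiso, R, hR, hs⟩ := h
  have key : ∀ (P : MorphismProperty Scheme.{u}) [P.IsStableUnderBaseChange]
      [IsZariskiLocalAtTarget P]
      [P.DescendsAlong (@Surjective ⊓ @Flat ⊓ @QuasiCompact)], P G.hom → P X.hom := by
    intro P _ _ _ hG
    refine Groth.Agent.FpqcDescent.of_fpqcPrecoverage P X.hom hR fun S' f hf ↦ ?_
    obtain ⟨s, rfl⟩ := hs f hf
    have h1 : P (Limits.pullback.snd G.hom X.hom) := P.pullback_snd _ _ hG
    have : IsIso (CartesianMonoidalCategory.lift a.act (CartesianMonoidalCategory.snd G X)) := hiso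
    let e := (CartesianMonoidalCategory.lift a.act (CartesianMonoidalCategory.snd G X)).left
    have he : e ≫ Limits.pullback.snd X.hom X.hom = Limits.pullback.snd G.hom X.hom := by
      have := congrArg CommaMorphism.left
        (CartesianMonoidalCategory.lift_snd a.act (CartesianMonoidalCategory.snd G X))
      exact this
    have h2 : P (Limits.pullback.snd X.hom X.hom) := by
      have : IsIso e := Functor.map_isIso (Over.forget S) (CartesianMonoidalCategory.lift a.act (CartesianMonoidalCategory.snd G X))
      rw [← he, P.cancel_left_of_respectsIso] at h1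
      exact h1
    refine (P.cancel_left_of_respectsIso (Limits.pullbackLeftPullbackSndIso X.hom X.hom s).hom _).mp ?_
    rw [Limits.pullbackLeftPullbackSndIso_hom_snd]
    exact P.pullback_snd _ _ h2
  exact ⟨key (@IsAffineHom : MorphismProperty Scheme.{u}) ‹_›,
    key (@Flat : MorphismProperty Scheme.{u}) ‹_›⟩

end Groth.Agent.S6004
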