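import Groth.Statements.S5093
-- import your own Groth.Agent.* helpers here

set_option autoImplicit false
universe u
open CategoryTheory CategoryTheory.Limits AlgebraicGeometry TopologicalSpace
open Mero

namespace Groth.Agent.S5093


theorem eq_of_fromSpecStalk_specializes {X : Scheme.{u}} (x : ↥X) (q : PrimeSpectrum ↑(X.presheaf.stalk x))
    (hq : ∀ q' : PrimeSpectrum ↑(X.presheaf.stalk x), q'.asIdeal ≤ q.asIdeal → q' = q) (z : ↥X)
    (hz : z ⤳ (X.fromSpecStalk x) q) : z = (X.fromSpecStalk x) q := by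
  obtain ⟨q', rfl⟩ : z ∈ Set.range (X.fromSpecStalk x) := by
    rw [Scheme.range_fromSpecStalk]
    refine hz.trans ?_
    have h : (X.fromSpecStalk x) q ∈ Set.range (X.fromSpecStalk x) := ⟨q, rfl⟩
    rw [Scheme.range_fromSpecStalk] at h
    exact h
  exact congrArg _ (hq q' ((PrimeSpectrum.le_iff_specializes q' q).mpr
    ((X.fromSpecStalk x).isEmbedding.isInducing.specializes_iff.mp hz)))

theorem fromSpecStalk_mem_basicOpen_iff {X : Scheme.{u}} (x : ↥X) (U : X.Opens) (hx : x ∈ U) (s : Γ(X, U))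
    (q : PrimeSpectrum ↑(X.presheaf.stalk x)) :
    (X.fromSpecStalk x) q ∈ X.basicOpen s ↔ (X.presheaf.germ U x hx).hom s ∉ q.asIdeal := by
  change q ∈ (X.fromSpecStalk x) ⁻¹ᵁ X.basicOpen s ↔ _
  rw [Scheme.preimage_basicOpen, Scheme.fromSpecStalk_app hx, CommRingCat.comp_apply,
    CommRingCat.comp_apply, Scheme.basicOpen_res, basicOpen_eq_of_affine]
  refine ⟨fun h => h.2, fun h => ⟨?_, h⟩⟩
  change (X.fromSpecStalk x) q ∈ U
  have h' : (X.fromSpecStalk x) q ∈ Set.range (X.fromSpecStalk x) := ⟨q, rfl⟩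
  rw [Scheme.range_fromSpecStalk] at h'
  exact h'.mem_open U.2 hx

/-- At a maximal point, a non-zero-divisor is a unit. -/
theorem isUnit_of_nonZeroDivisor_of_maximal {Y : Scheme.{u}} (η : ↥Y) (hη : ∀ z : ↥Y, z ⤳ η → z = η)
    {a : ↑(Y.presheaf.stalk η)} (ha : a ∈ nonZeroDivisors ↑(Y.presheaf.stalk η)) : IsUnit a := by
  by_contra h
  have hnil : a ∈ nilradical ↑(Y.presheaf.stalk η) := by
    rw [nilradical_eq_sInf, Submodule.mem_sInf]
    intro p hp
    have h1 : (Y.fromSpecStalk η) ⟨p, hp⟩ ∈ Set.range (Y.fromSpecStalk η) := ⟨_, rfl⟩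
    rw [Scheme.range_fromSpecStalk] at h1
    have h2 := (hη _ h1).trans Scheme.fromSpecStalk_closedPoint.symm
    have h3 := congrArg PrimeSpectrum.asIdeal ((Y.fromSpecStalk η).isEmbedding.injective h2)
    change p = IsLocalRing.maximalIdeal _ at h3
    rw [h3]; exact h
  obtain ⟨n, hn⟩ := hnil
  exact zero_notMem_nonZeroDivisors (hn ▸ pow_mem ha n)

theorem mem_regSub_of_maximal {X : Scheme.{u}} [IsReduced X] (V : X.Opens) (s : Γ(X, V))
    (h : ∀ (x : ↥X) (_ : x ∈ V), (∀ z : ↥X, z ⤳ x → z = x) → x ∈ X.basicOpen s) :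
    s ∈ Mero.regSub X V := by
  intro x
  rw [mem_nonZeroDivisors_iff_right]
  intro a ha
  by_contra hne
  have hnot : a ∉ sInf (⊥ : Ideal ↑(X.presheaf.stalk x.1)).minimalPrimes := by
    rw [Ideal.sInf_minimalPrimes]
    intro hc
    obtain ⟨n, hn⟩ := hc
    exact hne (IsNilpotent.eq_zero (R := ↑(X.presheaf.stalk x.1)) ⟨n, hn⟩)
  rw [Submodule.mem_sInf] at hnot
  push Not at hnot
  obtain ⟨q, hq, haq⟩ := hnot
  have hmax := eq_of_fromSpecStalk_specializes x.1 ⟨q, hq.1.1⟩ fun q' hq' =>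
    PrimeSpectrum.ext (le_antisymm hq' (hq.2 ⟨q'.2, bot_le⟩ hq'))
  have hz : (X.fromSpecStalk x.1) ⟨q, hq.1.1⟩ ∈ V := by
    have h1 : (X.fromSpecStalk x.1) ⟨q, hq.1.1⟩ ∈ Set.range (X.fromSpecStalk x.1) := ⟨_, rfl⟩
    rw [Scheme.range_fromSpecStalk] at h1
    exact h1.mem_open V.2 x.2
  have hu := (fromSpecStalk_mem_basicOpen_iff x.1 V x.2 s ⟨q, hq.1.1⟩).mp (h _ hz hmax)
  rcases (hq.1.1.mem_or_mem (show a * _ ∈ q by rw [ha]; exact q.zero_mem)) with h1 | h1
  · exact haq h1
  · exact hu h1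

/-- Let f : X → Y be a morphism of schemes such that the set of irreducible components of Y is locally
finite, X is reduced, and every irreducible component of X dominates an irreducible component of Y
(f sends every maximal point of X, i.e. every point with no proper generization, to a maximal point
of Y). Then for every open subset U of Y and every regular function s on U (germ a non-zero-divisor
at every point of U), the pulled-back function on f⁻¹(U) is regular; consequently the pullback along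
f of every meromorphic function and of every divisor on Y is defined. -/
theorem result {X Y : Scheme.{u}} [IsReduced X] (f : X ⟶ Y)
    (hY : ∀ y : ↥Y, ∃ W : Y.Opens, y ∈ W ∧
      {Z : Set ↥Y | Z ∈ irreducibleComponents ↥Y ∧ (Z ∩ (W : Set ↥Y)).Nonempty}.Finite)
    (hf : ∀ ξ : ↥X, (∀ z : ↥X, z ⤳ ξ → z = ξ) → ∀ z : ↥Y, z ⤳ f ξ → z = f ξ) :
    ∀ (U : Y.Opens) (s : Γ(Y, U)), s ∈ Mero.regSub Y U → f.app U s ∈ Mero.regSub X (f ⁻¹ᵁ U) := by
  intro U s hs
  refine mem_regSub_of_maximal _ _ fun x hx hm => ?_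
  rw [← Scheme.preimage_basicOpen]
  exact (Y.mem_basicOpen s (f x) hx).mpr (isUnit_of_nonZeroDivisor_of_maximal _ (hf x hm) (hs ⟨f x, hx⟩))

end Groth.Agent.S5093
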