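import Groth.Statements.S1529
import Groth.Agent.DimZeroFT.Basic


set_option autoImplicit false
universe u
open CategoryTheory CategoryTheory.Limits AlgebraicGeometry
open Variety

set_option backward.isDefEq.respectTransparency false
namespace Groth.Agent.S1529

/-- A scheme of finite type over a field whose underlying topological space has Krull dimension at most
zero is affine, and its structure morphism is finite. -/
theorem result (k : Type u) [Field k] (X : Scheme.{u}) [X.Over (Spec (CommRingCat.of k))]
    [LocallyOfFiniteType (X ↘ (Spec (CommRingCat.of k)))] [QuasiCompact (X ↘ (Spec (CommRingCat.of k)))]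
    (hdim : topologicalKrullDim X ≤ 0) :
    IsAffine X ∧ IsFinite (X ↘ (Spec (CommRingCat.of k))) := by
  let f := X ↘ Spec (CommRingCat.of k)
  haveI := Groth.Agent.DimZeroFT.discrete_of_dim_le_zero f hdim
  obtain ⟨hA, hfin⟩ := Groth.Agent.DimZeroFT.isAffine_and_finite f
  exact ⟨hA, (HasAffineProperty.iff_of_isAffine (P := @IsFinite) (f := f)).2 ⟨hA, hfin⟩⟩

end Groth.Agent.S1529
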