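import Groth.Statements.S4386
import Groth.Agent.ProjMor.VAmpleApply

set_option autoImplicit false
universe u
open CategoryTheory CategoryTheory.Limits AlgebraicGeometry
open EGA2

namespace Groth.Agent.S4386

/-- Let Y be an affine scheme, q : X → Y a separated morphism of finite type, L an ample O_X-module and
L' an invertible O_X-module. Then there is n₀ such that for every n ≥ n₀ the module L^{⊗n} ⊗ L' is
very ample relative to q: it is isomorphic to the inverse image of O(1) along some immersion of X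
into a projective space P^m_Y over Y. (The published statement means very ample through the
projective bundle P(E) of a quasi-coherent module E on Y; for a morphism of finite type to an affine
base this is equivalent to the form with an immersion into P^m_Y used in this row.) -/
theorem result {X Y : Scheme.{u}} [IsAffine Y] (q : X ⟶ Y) [IsSeparated q]
    [QuasiCompact q] [LocallyOfFiniteType q] (L L' : X.Modules) (hL : CohB1.IsAmple L) (hL' : PicF.IsInvertible L') :
    ∃ n₀ : ℕ, ∀ n : ℕ, n₀ ≤ n → RelAmple.IsRelVeryAmplePn q (CohB1.tensorMod (CohB1.tensorPow L n) L') := by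
  have := hL.2.1
  have : L'.IsQuasicoherent := TMul.isQCoh_of_isInvertible hL'
  obtain ⟨d₀, -, hd₀⟩ := ProjMor.eventually_isRelVeryAmplePn q hL
  obtain ⟨n₀, hn₀⟩ := TMul.exists_forall_genOn hL (F := L') (TMul.isFT_of_isInvertible hL')
  refine ⟨d₀ + n₀, fun n hn => ?_⟩
  obtain ⟨a, rfl⟩ := Nat.exists_eq_add_of_le (show d₀ ≤ n by omega)
  let G := CohB1.tensorMod (CohB1.tensorPow L a) L'
  have hG : PicF.IsInvertible G := TMul.isInvertible_tensorMod (TMul.isInvertible_tensorPow hL.1 a) hL'
  have hcov : ∀ x : X, ∃ t : Coh.structureModule X ⟶ G, x ∈ CohB1.genLocus _ t := by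
    intro x
    obtain ⟨D, hD, hxD, hgen⟩ := hn₀ a (by omega) x
    exact TMul.exists_mem_genLocus_of_genOn hG hD (hgen.congr (TMul.commIso _ _)) hxD
  choose t ht using hcov
  obtain ⟨T, hT⟩ := isCompact_univ.elim_finite_subcover
    (fun x : X => ((CohB1.genLocus _ (t x) : X.Opens) : Set X)) (fun x => (CohB1.genLocus _ (t x)).2)
    (fun x _ => Set.mem_iUnion.mpr ⟨x, ht x⟩)
  obtain ⟨e⟩ := TMul.nonempty_powAddIso L d₀ a
  refine ProjMor.isRelVeryAmplePn_congr
    ((TMul.assocIso _ _ _).symm ≪≫ PicGrp.tensorModIso e (Iso.refl L'))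
    (ProjMor.isRelVeryAmplePn_tensor q (TMul.isInvertible_tensorPow hL.1 d₀) (hd₀ d₀ le_rfl) hG
      (fun k : Fin T.card => TMul.val (t (T.equivFin.symm k)) ⊤) fun x => ?_)
  obtain ⟨y, hy, hxy⟩ := Set.mem_iUnion₂.mp (hT (Set.mem_univ x))
  refine ⟨T.equivFin ⟨y, hy⟩, ?_⟩
  have e1 : TMul.homOf (TMul.val (t y) ⊤) = t y :=
    TMul.hom_ext_val ((TMul.val_homOf _ _).trans (Groth.Agent.QC.res_self _ _ _))
  rw [Equiv.symm_apply_apply, e1]
  exact hxy

end Groth.Agent.S4386
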