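import Groth.Statements.S2329
import Groth.Agent.TMul.GlobGen

set_option autoImplicit false
universe u
open CategoryTheory CategoryTheory.Limits AlgebraicGeometry
open EGA2

namespace Groth.Agent.S2329

/-- Let X be a quasi-compact separated scheme, L an ample invertible module and L' an invertible module.
Then there is n₀ > 0 such that L^{⊗n} ⊗ L' is ample and globally generated for every n ≥ n₀. -/
theorem result (X : Scheme.{u}) [CompactSpace X] [X.IsSeparated] (L L' : X.Modules) (hL : CohB1.IsAmple L) (hL' : PicF.IsInvertible L') :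
    ∃ n₀ : ℕ, 0 < n₀ ∧ ∀ n, n₀ ≤ n →
      CohB1.IsAmple (CohB1.tensorMod (CohB1.tensorPow L n) L') ∧ Curv2.IsGloballyGenerated (CohB1.tensorMod (CohB1.tensorPow L n) L') := by
  have hq : Coh.IsQCoh L' := TMul.isQCoh_of_isInvertible hL'
  obtain ⟨n₀, h⟩ := TMul.exists_forall_genOn hL (hF := hq) (F := L')
    (TMul.isFT_of_isInvertible hL')
  refine ⟨n₀ + 1, Nat.succ_pos _, fun n hn => ⟨?_, ?_⟩⟩
  · obtain ⟨m, rfl⟩ : ∃ m, n = m + 1 := ⟨n - 1, by omega⟩
    have hM : PicF.IsInvertible (CohB1.tensorMod L' (CohB1.tensorPow L m)) :=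
      TMul.isInvertible_tensorMod hL' (TMul.isInvertible_tensorPow hL.1 m)
    refine TMul.isAmple_congr ?_ (TMul.isAmple_tensorMod hL hM fun x => ?_)
    · exact (PicGrp.tensorModIso (CategoryTheory.Iso.refl L) (TMul.commIso _ _)) ≪≫
        (TMul.assocIso L (CohB1.tensorPow L m) L').symm ≪≫
        PicGrp.tensorModIso (TMul.commIso L (CohB1.tensorPow L m)) (CategoryTheory.Iso.refl L')
    · obtain ⟨D, hD, hxD, hgen⟩ := h m (by omega) x
      obtain ⟨t, ht⟩ := TMul.exists_mem_genLocus_of_genOn hM hD hgen hxD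
      obtain ⟨e⟩ := TMul.nonempty_powOneIso (CohB1.tensorMod L' (CohB1.tensorPow L m))
      exact ⟨0, t ≫ e.inv, by rw [TMul.genLocus_comp]; exact ht⟩
  · refine TMul.isGloballyGenerated_of_genOn
      (hG := TMul.isQCoh_of_isInvertible
        (TMul.isInvertible_tensorMod (TMul.isInvertible_tensorPow hL.1 n) hL')) fun x => ?_
    obtain ⟨D, hD, hxD, hgen⟩ := h n (by omega) x
    exact ⟨D, hD, hxD, hgen.congr (TMul.commIso _ _)⟩

end Groth.Agent.S2329
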