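import Mathlib
/-!
Scheme-theoretic images of schemes flat over a Dedekind domain are flat.
-/
set_option autoImplicit false
set_option linter.style.haveILetI false
set_option backward.isDefEq.respectTransparency false
universe u
open AlgebraicGeometry CategoryTheory TopologicalSpace Opposite
open scoped nonZeroDivisors

namespace Groth.Agent.ImageFlat

variable {R : CommRingCat.{u}} [IsDomain R] {X Y : Scheme.{u}}

/-- The structure map from the base ring to sections over `U`. -/
noncomputable def res (q : Y ⟶ Spec R) (U : Y.Opens) : R →+* Γ(Y, U) :=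
  ((Scheme.ΓSpecIso R).inv ≫ q.appLE ⊤ U le_top).hom

theorem map_res (q : Y ⟶ Spec R) {U V : Y.Opens} (h : V ≤ U) (r : R) :
    (Y.presheaf.map (homOfLE h).op).hom (res q U r) = res q V r := by
  show ((q.appLE ⊤ U le_top ≫ Y.presheaf.map (homOfLE h).op).hom) _ = _
  rw [Scheme.Hom.appLE_map]
  rfl

theorem app_res (f : X ⟶ Y) (q : Y ⟶ Spec R) (U : Y.Opens) (r : R) :
    (f.app U).hom (res q U r) = res (f ≫ q) (f ⁻¹ᵁ U) r := by
  show ((q.appLE ⊤ U le_top ≫ f.app U).hom) _ = _
  rw [Scheme.Hom.app_eq_appLE, Scheme.Hom.appLE_comp_appLE]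
  rfl

theorem eq_zero_of_mul_eq_zero (p : X ⟶ Spec R) [Flat p] (W : X.Opens) {r : R} (hr : r ≠ 0) (b : Γ(X, W))
    (h : res p W r * b = 0) : b = 0 := by
  have hcov : ∀ x : W, ∃ U : X.Opens, IsAffineOpen U ∧ x.1 ∈ U ∧ U ≤ W := fun x => by
    obtain ⟨U, hU, hxU, hUW⟩ := exists_isAffineOpen_mem_and_subset x.2
    exact ⟨U, hU, hxU, hUW⟩
  choose U hU hxU hUW using hcov
  refine X.sheaf.eq_of_locally_eq' U W (fun x => homOfLE (hUW x))
    (fun x hx => Opens.mem_iSup.2 ⟨⟨x, hx⟩, hxU ⟨x, hx⟩⟩) b 0 fun x => ?_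
  show (X.presheaf.map (homOfLE (hUW x)).op).hom b = (X.presheaf.map (homOfLE (hUW x)).op).hom 0
  rw [map_zero]
  have h1 := congrArg (X.presheaf.map (homOfLE (hUW x)).op).hom h
  rw [map_mul, map_res, map_zero] at h1
  have hflat : RingHom.Flat (res p (U x)) := by
    rw [res, CommRingCat.hom_comp]
    exact RingHom.Flat.comp (RingHom.Flat.of_bijective (ConcreteCategory.bijective_of_isIso (Scheme.ΓSpecIso R).inv))
      (Flat.flat_appLE p (isAffineOpen_top _) (hU x) le_top)
  letI : Algebra R Γ(X, U x) := (res p (U x)).toAlgebra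
  haveI : Module.Flat R Γ(X, U x) := hflat
  exact Module.Flat.isSMulRegular_of_nonZeroDivisors (mem_nonZeroDivisors_of_ne_zero hr)
    (show r • (X.presheaf.map (homOfLE (hUW x)).op).hom b = r • 0 by
      rw [smul_zero, Algebra.smul_def]; exact h1)

/-- The colon ideal sheaf of the kernel by an element of the base. -/
theorem mem_ker_of_mul_mem (f : X ⟶ Y) (q : Y ⟶ Spec R) [Flat (f ≫ q)] (U : Y.affineOpens) {r : R} (hr : r ≠ 0)
    (b : Γ(Y, U)) (h : res q U r * b ∈ f.ker.ideal U) : b ∈ f.ker.ideal U := by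
  let I := f.ker
  let J : Y.IdealSheafData :=
    { ideal := fun V => Submodule.comap (LinearMap.mulLeft Γ(Y, V.1) (res q V r)) (I.ideal V)
      map_ideal_basicOpen := by
        intro V g
        have inst := V.2.isLocalization_basicOpen g
        have hI := I.map_ideal_basicOpen V g
        refine le_antisymm (Ideal.map_le_iff_le_comap.2 fun a ha => ?_) fun a ha => ?_
        · change res q (Y.basicOpen g) r * (Y.presheaf.map (homOfLE (Y.basicOpen_le g)).op).hom a ∈
            I.ideal (Y.affineBasicOpen g)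
          change res q V.1 r * a ∈ I.ideal V at ha
          rw [← hI, ← map_res q (Y.basicOpen_le g), ← map_mul]
          exact Ideal.mem_map_of_mem _ ha
        · change res q (Y.basicOpen g) r * a ∈ I.ideal (Y.affineBasicOpen g) at ha
          rw [← hI, ← map_res q (Y.basicOpen_le g)] at ha
          obtain ⟨a, s, rfl⟩ := IsLocalization.exists_mk'_eq (M := Submonoid.powers g) (S := Γ(Y, Y.basicOpen g)) a
          change algebraMap Γ(Y, V.1) Γ(Y, Y.basicOpen g) (res q V.1 r) * IsLocalization.mk' _ a s ∈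
            (I.ideal V).map (algebraMap Γ(Y, V.1) Γ(Y, Y.basicOpen g)) at ha
          rw [IsLocalization.mul_mk'_eq_mk'_of_mul, IsLocalization.mk'_mem_map_algebraMap_iff] at ha
          obtain ⟨m, hm, hm'⟩ := ha
          refine (IsLocalization.mk'_mem_map_algebraMap_iff (Submonoid.powers g) _ _ _ _).2 ⟨m, hm, ?_⟩
          change res q V.1 r * (m * a) ∈ I.ideal V
          rw [mul_left_comm]
          exact hm' }
  have hle : J ≤ I := by
    refine Scheme.IdealSheafData.le_ofIdeals_iff.2 fun V c hc => ?_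
    change res q V.1 r * c ∈ I.ideal V at hc
    have h4 := f.ideal_ker_le V hc
    rw [RingHom.mem_ker, map_mul, app_res] at h4
    exact eq_zero_of_mul_eq_zero (f ≫ q) _ hr _ h4
  exact hle U (show res q U.1 r * b ∈ I.ideal U from h)

theorem flat_quot [IsDedekindDomain R] (f : X ⟶ Y) (q : Y ⟶ Spec R) [Flat (f ≫ q)] (U : Y.affineOpens) :
    RingHom.Flat ((Ideal.Quotient.mk (f.ker.ideal U)).comp (res q U)) := by
  letI : Algebra R (Γ(Y, U) ⧸ f.ker.ideal U) := ((Ideal.Quotient.mk (f.ker.ideal U)).comp (res q U)).toAlgebra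
  haveI : Module.IsTorsionFree R (Γ(Y, U) ⧸ f.ker.ideal U) := by
    refine Module.isTorsionFree_iff_smul_eq_zero.2 fun r x => ?_
    intro h
    by_contra hc
    push_neg at hc
    obtain ⟨b, rfl⟩ := Ideal.Quotient.mk_surjective x
    rw [Algebra.smul_def] at h
    refine hc.2 (Ideal.Quotient.eq_zero_iff_mem.2 (mem_ker_of_mul_mem f q U hc.1 b ?_))
    rw [← Ideal.Quotient.eq_zero_iff_mem, map_mul]
    exact h
  exact (inferInstance : Module.Flat R (Γ(Y, U) ⧸ f.ker.ideal U))

theorem flat_imageι [IsDedekindDomain R] (f : X ⟶ Y) (q : Y ⟶ Spec R) [Flat (f ≫ q)] :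
    Flat (f.imageι ≫ q) := by
  refine (IsZariskiLocalAtSource.iff_of_openCover (P := @Flat) f.ker.subschemeCover.openCover).2 fun (U : Y.affineOpens) => ?_
  show Flat (f.ker.subschemeCover.f U ≫ f.ker.subschemeι ≫ q)
  rw [← Category.assoc, Scheme.IdealSheafData.subschemeCover_map_subschemeι, Scheme.IdealSheafData.glueDataObjι_ι,
    Category.assoc]
  have h1 : U.2.fromSpec ≫ q = Spec.map (CommRingCat.ofHom (res q U)) := by
    have h2 := (isAffineOpen_top (Spec R)).SpecMap_appLE_fromSpec q U.2 le_top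
    rw [IsAffineOpen.fromSpec_top, Scheme.isoSpec_Spec_inv, ← Spec.map_comp] at h2
    exact h2.symm
  rw [h1, ← Spec.map_comp]
  exact (HasRingHomProperty.Spec_iff (P := @Flat)).2 (flat_quot f q U)

end Groth.Agent.ImageFlat
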