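import Groth.Statements.S5711
import Groth.Agent.AzEtale.Free
import Groth.Agent.Azumaya.Fibre
import Mathlib

set_option autoImplicit false
universe u v
open TensorProduct
open Dix Groth.Agent

namespace Groth.Agent.S5711

/-- Over a local base. Let R be a local ring with residue field k, A an Azumaya algebra over R of rank
r², E a commutative R-algebra which is finite étale and free of rank r over R, and u : E → A an
R-algebra homomorphism injective on the special fibre. For the right E-module structure on A given
by e • a = a·u(e) (supplied as a module structure together with that compatibility), A is a free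
E-module of rank r, and E ⊗_R A is isomorphic as an E-algebra to the endomorphism algebra End_E(A).
(Only the existence of an isomorphism is stated; the canonical map sends e ⊗ a to y ↦ a·y·u(e).) -/
theorem result (R : Type u) [CommRing R] [IsLocalRing R] (A : Type u) [Ring A] [Algebra R A] [IsAzumaya R A] (r : ℕ) (hA : Module.finrank R A = r ^ 2) (E : Type u) [CommRing E] [Algebra R E] [Algebra.Etale R E] [Module.Finite R E] [Module.Free R E] (hE : Module.finrank R E = r) (u : E →ₐ[R] A) (hu : Function.Injective (u.toLinearMap.lTensor (IsLocalRing.ResidueField R))) [Module E A] (hmod : ∀ (e : E) (a : A), e • a = a * u e) : Module.Free E A ∧ Module.finrank E A = r ∧ Nonempty ((E ⊗[R] A) ≃ₐ[E] Module.End E A) := by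
  classical
  have : Module.Free R A := Module.free_of_flat_of_isLocalRing
  obtain ⟨hcen, hsim⟩ := (Azumaya.isAzumaya_iff_closed_fibre (R := R) A).1 inferInstance
  have := hcen; have := hsim
  let k := IsLocalRing.ResidueField R
  have hdimk : Module.finrank k (k ⊗[R] A) = r ^ 2 := by rw [Module.finrank_baseChange, hA]
  have hdimL : Module.finrank k (k ⊗[R] E) = r := by rw [Module.finrank_baseChange, hE]
  have : IsScalarTower R E A := ⟨fun c e a => by rw [hmod, hmod, map_smul, mul_smul_comm]⟩
  have : SMulCommClass R E A := IsScalarTower.to_smulCommClass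
  have : SMulCommClass E R A := SMulCommClass.symm R E A
  -- the special fibre
  let ub : k ⊗[R] E →ₐ[k] k ⊗[R] A := Algebra.TensorProduct.map (AlgHom.id k k) u
  have hub : ∀ z, ub z = u.toLinearMap.lTensor k z := fun z => by
    induction z using TensorProduct.induction_on with
    | zero => simp
    | tmul a b => rfl
    | add a b ha hb => rw [map_add, map_add, ha, hb]
  let : Module (k ⊗[R] E) (k ⊗[R] A) :=
    { smul := fun l b => b * ub l
      one_smul := fun b => by change b * ub 1 = b; rw [map_one, mul_one]
      mul_smul := fun l m b => by change b * ub (l * m) = b * ub m * ub l; rw [mul_comm l m, map_mul, mul_assoc]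
      smul_zero := fun l => zero_mul _
      smul_add := fun l a b => add_mul _ _ _
      add_smul := fun l m b => by change b * ub (l + m) = b * ub l + b * ub m; rw [map_add, mul_add]
      zero_smul := fun b => by change b * ub 0 = 0; rw [map_zero, mul_zero] }
  have hsm : ∀ (l : k ⊗[R] E) (b : k ⊗[R] A), l • b = b * ub l := fun _ _ => rfl
  have : IsScalarTower k (k ⊗[R] E) (k ⊗[R] A) := ⟨fun c l b => by rw [hsm, hsm, map_smul, mul_smul_comm]⟩
  have : SMulCommClass (k ⊗[R] A) (k ⊗[R] E) (k ⊗[R] A) := ⟨fun a l b => by
    rw [smul_eq_mul, hsm, hsm, smul_eq_mul, mul_assoc]⟩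
  have : IsReduced (k ⊗[R] E) := Algebra.FormallyUnramified.isReduced_of_field k _
  obtain ⟨v, hv⟩ := AzEtale.exists_gens (k := k) (B := k ⊗[R] A) r hdimk (L := k ⊗[R] E) hdimL (fun l hl => by
    rw [hsm, one_mul, hub] at hl
    exact hu (hl.trans (map_zero _).symm))
  choose ξ hξ using fun j => TensorProduct.mk_surjective R A k IsLocalRing.residue_surjective (v j)
  let g : (Fin r → E) →ₗ[E] A := Fintype.linearCombination E ξ
  let gR : (Fin r → E) →ₗ[R] A := g.restrictScalars R
  have hg : Function.Surjective g := by
    suffices LinearMap.range gR = ⊤ by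
      intro a
      exact this.ge (Submodule.mem_top : a ∈ ⊤)
    rw [← IsLocalRing.map_tensorProduct_mk_eq_top, eq_top_iff]
    intro z _
    obtain ⟨c, rfl⟩ := (Submodule.mem_span_range_iff_exists_fun _).1 (hv.ge (Submodule.mem_top : z ∈ ⊤))
    refine Submodule.sum_mem _ fun j _ => ?_
    obtain ⟨e, he⟩ := TensorProduct.mk_surjective R E k IsLocalRing.residue_surjective (c j)
    refine ⟨g (Pi.single j e), ⟨_, rfl⟩, ?_⟩
    rw [← he, ← hξ j]
    change (1 : k) ⊗ₜ[R] (g (Pi.single j e)) = _
    rw [Fintype.linearCombination_apply_single, hmod, hsm]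
    simp [ub]
  have hrk : Module.finrank R (Fin r → E) = Module.finrank R A := by
    rw [Module.finrank_pi_fintype, hA, sq]; simp [hE]
  have hginj : Function.Injective g := by
    let eq' : (Fin r → E) ≃ₗ[R] A := LinearEquiv.ofFinrankEq _ _ hrk
    have h := OrzechProperty.injective_of_surjective_endomorphism (eq'.symm.toLinearMap ∘ₗ gR)
      (eq'.symm.surjective.comp hg)
    exact fun a b hab => h (congrArg eq'.symm hab)
  let bE : Module.Basis (Fin r) E A := Module.Basis.ofEquivFun (LinearEquiv.ofBijective g ⟨hginj, hg⟩).symm
  have hfree : Module.Free E A := .of_basis bE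
  have hfinE : Module.Finite E A := .of_basis bE
  have : Nontrivial E := by
    rw [← not_subsingleton_iff_nontrivial]
    intro h
    have h0 : Module.finrank k (k ⊗[R] A) ≠ 0 := Module.finrank_pos.ne'
    have hr0 : r = 0 := by rw [← hE]; exact Module.finrank_zero_of_subsingleton
    exact h0 (by rw [hdimk, hr0]; norm_num)
  refine ⟨hfree, (Module.finrank_eq_card_basis bE).trans (Fintype.card_fin r), ?_⟩
  -- the comparison map
  let L : A →ₐ[R] Module.End E A :=
    { toFun := fun a =>
        { toFun := fun y => a * y
          map_add' := mul_add a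
          map_smul' := fun e y => by simp only [RingHom.id_apply, hmod, mul_assoc] }
      map_one' := LinearMap.ext one_mul
      map_mul' := fun a b => LinearMap.ext (mul_assoc a b)
      map_zero' := LinearMap.ext zero_mul
      map_add' := fun a b => LinearMap.ext (add_mul a b)
      commutes' := fun c => LinearMap.ext fun y => (Algebra.smul_def c y).symm }
  let Φ : E ⊗[R] A →ₐ[E] Module.End E A := Algebra.TensorProduct.lift (Algebra.ofId E _) L
    fun e a => Algebra.commutes e (L a)
  obtain ⟨lu, hlu⟩ := (IsLocalRing.split_injective_iff_lTensor_residueField_injective u.toLinearMap).2 hu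
  let μ : (A ⊗[R] Aᵐᵒᵖ) ≃ₗ[R] Module.End R A :=
    LinearEquiv.ofBijective (AlgHom.mulLeftRight R A).toLinearMap IsAzumaya.bij
  let ι : Module.End E A →ₗ[R] Module.End R A :=
    { toFun := fun f => f.restrictScalars R, map_add' := fun _ _ => rfl, map_smul' := fun _ _ => rfl }
  let ψl : (A ⊗[R] Aᵐᵒᵖ) →ₗ[R] E ⊗[R] A := (TensorProduct.comm R A E).toLinearMap ∘ₗ
    TensorProduct.map LinearMap.id (lu ∘ₗ (MulOpposite.opLinearEquiv R).symm.toLinearMap)
  let l : Module.End E A →ₗ[R] E ⊗[R] A := ψl ∘ₗ μ.symm.toLinearMap ∘ₗ ι
  have hl : ∀ z, l (Φ z) = z := fun z => by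
    induction z using TensorProduct.induction_on with
    | zero => simp
    | add a b ha hb => rw [map_add, map_add, ha, hb]
    | tmul e a =>
      have h : ι (Φ (e ⊗ₜ[R] a)) = μ (a ⊗ₜ MulOpposite.op (u e)) := LinearMap.ext fun y => by
        change (algebraMap E (Module.End E A) e * L a) y = AlgHom.mulLeftRight R A (a ⊗ₜ MulOpposite.op (u e)) y
        rw [AlgHom.mulLeftRight_apply, Module.End.mul_apply, Module.algebraMap_end_apply, hmod]
        rfl
      change ψl (μ.symm (ι (Φ (e ⊗ₜ[R] a)))) = _
      rw [h, LinearEquiv.symm_apply_apply]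
      have := LinearMap.congr_fun hlu e
      simp only [LinearMap.comp_apply, AlgHom.toLinearMap_apply, LinearMap.id_apply] at this
      simp [ψl, this]
  have : Module.Free R (Module.End E A) := Module.Free.trans (R := R) (S := E)
  have : Module.Finite R (Module.End E A) := Module.Finite.trans (R := R) E _
  have hrk2 : Module.finrank R (Module.End E A) = Module.finrank R (E ⊗[R] A) := by
    rw [← Module.finrank_mul_finrank R E (Module.End E A), Module.finrank_linearMap, Module.finrank_tensorProduct,
      Module.finrank_eq_card_basis bE, Fintype.card_fin, hA, sq]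
  have hlinj : Function.Injective l := by
    let eq' : (Module.End E A) ≃ₗ[R] E ⊗[R] A := LinearEquiv.ofFinrankEq _ _ hrk2
    have h := OrzechProperty.injective_of_surjective_endomorphism (eq'.symm.toLinearMap ∘ₗ l)
      (eq'.symm.surjective.comp (fun z => ⟨Φ z, hl z⟩))
    exact fun a b hab => h (congrArg eq'.symm hab)
  exact ⟨AlgEquiv.ofBijective Φ ⟨Function.LeftInverse.injective hl, fun f => ⟨l f, hlinj (hl (l f))⟩⟩⟩

end Groth.Agent.S5711
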