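import Groth.Statements.S5713
import Groth.Agent.CSALib.Separable
import Groth.Agent.Azumaya.Fibre
import Mathlib.RingTheory.SimpleModule.IsAlgClosed
import Mathlib.LinearAlgebra.Eigenspace.Minpoly
import Mathlib.FieldTheory.IsAlgClosed.AlgebraicClosure
import Mathlib.RingTheory.LocalRing.Module
import Mathlib.FieldTheory.Separable

set_option autoImplicit false
universe u v
open TensorProduct
open Dix Groth.Agent

namespace Groth.Agent.S5713

theorem commutant_dim {Ω : Type u} [Field Ω] [IsAlgClosed Ω] {r : ℕ} (X : Matrix (Fin r) (Fin r) Ω)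
    (q : Polynomial Ω) (hq : q.Separable) (hqd : q.natDegree = r) (hqX : minpoly Ω X = q)
    (V : Submodule Ω (Matrix (Fin r) (Fin r) Ω)) (hV : ∀ Y ∈ V, X * Y = Y * X) : Module.finrank Ω V ≤ r := by
  classical
  let f : Module.End Ω (Fin r → Ω) := Matrix.toLinAlgEquiv' X
  have hf : minpoly Ω f = q := by rw [← hqX]; exact minpoly.algEquiv_eq _ X
  have hcard : Fintype.card q.roots.toFinset = r := by
    rw [Fintype.card_coe, Multiset.toFinset_card_of_nodup (Polynomial.nodup_roots hq),
      Polynomial.splits_iff_card_roots.1 (IsAlgClosed.splits q), hqd]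
  have hev : ∀ μ : q.roots.toFinset, ∃ v, f.HasEigenvector (μ : Ω) v := fun μ => by
    refine (Module.End.hasEigenvalue_of_isRoot ?_).exists_hasEigenvector
    rw [hf]; exact (Polynomial.mem_roots'.1 (Multiset.mem_toFinset.1 μ.2)).2
  choose v hv using hev
  have hli := Module.End.eigenvectors_linearIndependent' f (fun μ : q.roots.toFinset => (μ : Ω)) Subtype.coe_injective v hv
  let b := Module.Basis.mk hli (hli.span_eq_top_of_card_eq_finrank' (by rw [hcard, Module.finrank_fin_fun])).ge
  have hb : ∀ μ, b μ = v μ := fun μ => Module.Basis.mk_apply _ _ μ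
  let L : V →ₗ[Ω] (q.roots.toFinset → Ω) :=
    LinearMap.pi fun μ => (b.coord μ).comp (((Matrix.toLinAlgEquiv' (n := Fin r) (R := Ω)).toLinearMap.flip (v μ)).comp V.subtype)
  have hL : Function.Injective L := by
    refine (injective_iff_map_eq_zero L).2 fun Y hY => Subtype.ext ?_
    apply (Matrix.toLinAlgEquiv' (n := Fin r) (R := Ω)).injective
    rw [Submodule.coe_zero, map_zero]
    refine b.ext fun μ => ?_
    rw [hb, LinearMap.zero_apply]
    apply b.repr.injective
    ext ν
    rw [map_zero, Finsupp.zero_apply]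
    by_cases h : ν = μ
    · subst h; exact congrFun hY ν
    · have hc : f (Matrix.toLinAlgEquiv' (Y : Matrix _ _ Ω) (v μ)) =
          (μ : Ω) • Matrix.toLinAlgEquiv' (Y : Matrix _ _ Ω) (v μ) := by
        have h1 := LinearMap.congr_fun (congrArg (Matrix.toLinAlgEquiv' (n := Fin r) (R := Ω)) (hV _ Y.2)) (v μ)
        rw [map_mul, map_mul, Module.End.mul_apply, Module.End.mul_apply] at h1
        rw [show f = Matrix.toLinAlgEquiv' X from rfl, h1, ← map_smul]
        exact congrArg _ (hv μ).apply_eq_smul
      have h2 : b.coord ν ∘ₗ f = (ν : Ω) • b.coord ν := b.ext fun i => by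
        rw [LinearMap.comp_apply, hb, (hv i).apply_eq_smul, ← hb, map_smul, LinearMap.smul_apply,
          Module.Basis.coord_apply, Module.Basis.repr_self, Finsupp.single_apply]
        split_ifs with hi
        · subst hi; rfl
        · simp
      have h3 := LinearMap.congr_fun h2 (Matrix.toLinAlgEquiv' (Y : Matrix _ _ Ω) (v μ))
      rw [LinearMap.comp_apply, hc, map_smul, LinearMap.smul_apply, smul_eq_mul, smul_eq_mul, Module.Basis.coord_apply] at h3
      by_contra h0
      exact h (Subtype.ext (mul_right_cancel₀ h0 h3).symm)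
  calc Module.finrank Ω V ≤ Module.finrank Ω (q.roots.toFinset → Ω) := LinearMap.finrank_le_finrank_of_injective hL
    _ = r := by rw [Module.finrank_fintype_fun_eq_card, hcard]

theorem minpoly_baseChange {k : Type u} [Field k] {Ω : Type u} [Field Ω] [Algebra k Ω] {B : Type u} [Ring B]
    [Algebra k B] [FiniteDimensional k B] (x : B) :
    minpoly Ω ((1 : Ω) ⊗ₜ[k] x) = (minpoly k x).map (algebraMap k Ω) := by
  classical
  have hint : IsIntegral k x := IsIntegral.of_finite k x
  have hintΩ : IsIntegral Ω ((1 : Ω) ⊗ₜ[k] x) := IsIntegral.of_finite Ω _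
  set q := (minpoly k x).map (algebraMap k Ω)
  have hq : Polynomial.aeval ((1 : Ω) ⊗ₜ[k] x) q = 0 := by
    rw [Polynomial.aeval_map_algebraMap, show ((1 : Ω) ⊗ₜ[k] x) = (Algebra.TensorProduct.includeRight : B →ₐ[k] Ω ⊗[k] B) x from rfl,
      Polynomial.aeval_algHom_apply, minpoly.aeval, map_zero]
  have hdvd := minpoly.dvd Ω _ hq
  refine (Polynomial.eq_of_monic_of_dvd_of_natDegree_le (minpoly.monic hintΩ) ((minpoly.monic hint).map _) hdvd ?_).symm
  rw [Polynomial.natDegree_map]
  by_contra! hlt
  -- the smaller powers stay independent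
  have hli := linearIndependent_pow (K := k) x
  have hinjl : Function.Injective ((Fintype.linearCombination k fun i : Fin (minpoly k x).natDegree => x ^ (i : ℕ)).baseChange Ω) :=
    Module.Flat.lTensor_preserves_injective_linearMap _ hli.fintypeLinearCombination_injective
  set p := minpoly Ω ((1 : Ω) ⊗ₜ[k] x)
  let z : Ω ⊗[k] (Fin (minpoly k x).natDegree → k) := ∑ i : Fin (minpoly k x).natDegree, p.coeff i ⊗ₜ[k] Pi.single i 1
  have hz : ((Fintype.linearCombination k fun i : Fin (minpoly k x).natDegree => x ^ (i : ℕ)).baseChange Ω) z = 0 := by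
    conv_rhs => rw [← minpoly.aeval Ω ((1 : Ω) ⊗ₜ[k] x)]
    rw [Polynomial.aeval_eq_sum_range' hlt, map_sum, ← Fin.sum_univ_eq_sum_range]
    refine Finset.sum_congr rfl fun i _ => ?_
    rw [LinearMap.baseChange_tmul, Fintype.linearCombination_apply_single, one_smul, Algebra.TensorProduct.tmul_pow,
      one_pow, TensorProduct.smul_tmul', smul_eq_mul, mul_one]
  have hz0 : z = 0 := hinjl (by rw [hz, map_zero])
  have h := congrArg (TensorProduct.piScalarRight k Ω Ω (Fin (minpoly k x).natDegree)) hz0
  have h1 := congrFun h ⟨p.natDegree, hlt⟩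
  simp [z, Pi.single_apply] at h1
  exact minpoly.ne_zero hintΩ h1

theorem centralizer_dim {k : Type u} [Field k] {B : Type u} [Ring B] [Algebra k B] [Algebra.IsCentral k B]
    [IsSimpleRing B] [FiniteDimensional k B] (r : ℕ) (x : B) (hsep : (minpoly k x).Separable)
    (hdeg : (minpoly k x).natDegree = r) (hdim : Module.finrank k B = r ^ 2) :
    Module.finrank k (LinearMap.ker (LinearMap.mulLeft k x - LinearMap.mulRight k x)) ≤ r := by
  classical
  let Ω := AlgebraicClosure k
  have hcsa : Brauer.IsCSA Ω (Ω ⊗[k] B) := Brauer.IsCSA.baseChange ⟨inferInstance, inferInstance, inferInstance⟩ Ω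
  haveI := hcsa.simple; haveI := hcsa.finite
  obtain ⟨N, hN, ⟨e⟩⟩ := IsSimpleRing.exists_algEquiv_matrix_of_isAlgClosed Ω (Ω ⊗[k] B)
  obtain rfl : N = r := by
    have h := e.toLinearEquiv.finrank_eq
    rw [Module.finrank_baseChange, hdim, Module.finrank_matrix, Fintype.card_fin, Module.finrank_self, mul_one, sq] at h
    exact (Nat.mul_self_inj.1 h).symm
  set C := LinearMap.ker (LinearMap.mulLeft k x - LinearMap.mulRight k x)
  set X := e ((1 : Ω) ⊗ₜ[k] x) with hX
  let J : Ω ⊗[k] C →ₗ[Ω] Matrix (Fin N) (Fin N) Ω := e.toLinearMap ∘ₗ C.subtype.baseChange Ω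
  have hJ : Function.Injective J := e.injective.comp (Module.Flat.lTensor_preserves_injective_linearMap C.subtype Subtype.val_injective)
  have hcomm : ∀ Y ∈ LinearMap.range J, X * Y = Y * X := by
    rintro _ ⟨z, rfl⟩
    induction z using TensorProduct.induction_on with
    | zero => simp
    | add a b ha hb => rw [map_add, mul_add, add_mul, ha, hb]
    | tmul c y =>
      show e _ * e (c ⊗ₜ[k] (y : B)) = e (c ⊗ₜ[k] (y : B)) * e _
      rw [← map_mul, ← map_mul, Algebra.TensorProduct.tmul_mul_tmul, Algebra.TensorProduct.tmul_mul_tmul, one_mul, mul_one]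
      congr 2
      exact sub_eq_zero.1 (LinearMap.mem_ker.1 y.2)
  have hq : minpoly Ω X = (minpoly k x).map (algebraMap k Ω) := by
    rw [hX, minpoly.algEquiv_eq e]
    exact minpoly_baseChange x
  have := commutant_dim X _ ((Polynomial.separable_map _).2 hsep) (by rw [Polynomial.natDegree_map, hdeg]) hq (LinearMap.range J) hcomm
  rwa [LinearMap.finrank_range_of_inj hJ, Module.finrank_baseChange] at this

theorem centralizer_mem (R : Type u) [CommRing R] [IsLocalRing R] (A : Type u) [Ring A] [Algebra R A]
    [Module.Finite R A] [Module.Free R A] (ξ : A) {n : ℕ} (v : Fin n → A) (hv : LinearIndependent R v)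
    (hcomm : ∀ i, ξ * v i = v i * ξ)
    (hres : ∀ z : IsLocalRing.ResidueField R ⊗[R] A,
      ((1 : IsLocalRing.ResidueField R) ⊗ₜ[R] ξ) * z = z * ((1 : IsLocalRing.ResidueField R) ⊗ₜ[R] ξ) →
      z ∈ Submodule.span (IsLocalRing.ResidueField R) (Set.range fun i => (1 : IsLocalRing.ResidueField R) ⊗ₜ[R] v i))
    (y : A) (hy : ξ * y = y * ξ) : y ∈ Submodule.span R (Set.range v) := by
  set S := Submodule.span R (Set.range v)
  let D : A →ₗ[R] A := LinearMap.mulLeft R ξ - LinearMap.mulRight R ξ
  have hS : S ≤ LinearMap.ker D := Submodule.span_le.2 (by rintro _ ⟨i, rfl⟩; simp [D, sub_eq_zero, hcomm i])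
  let D' : (A ⧸ S) →ₗ[R] A := S.liftQ D hS
  have hinj : Function.Injective (D'.lTensor (IsLocalRing.ResidueField R)) := by
    refine (injective_iff_map_eq_zero _).2 fun w hw => ?_
    obtain ⟨z, rfl⟩ := LinearMap.lTensor_surjective (IsLocalRing.ResidueField R) S.mkQ_surjective w
    rw [← LinearMap.comp_apply, ← LinearMap.lTensor_comp, show D' ∘ₗ S.mkQ = D from S.liftQ_mkQ D hS] at hw
    have hz : ∀ z : IsLocalRing.ResidueField R ⊗[R] A, D.lTensor _ z =
        ((1 : IsLocalRing.ResidueField R) ⊗ₜ[R] ξ) * z - z * ((1 : IsLocalRing.ResidueField R) ⊗ₜ[R] ξ) := fun z => by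
      induction z using TensorProduct.induction_on with
      | zero => simp
      | tmul c a => simp [D, TensorProduct.tmul_sub]
      | add a b ha hb => rw [map_add, ha, hb, mul_add, add_mul]; abel
    rw [hz, sub_eq_zero] at hw
    have hmem := hres z hw
    clear hw
    induction hmem using Submodule.span_induction with
    | mem u hu =>
      obtain ⟨i, rfl⟩ := hu
      rw [LinearMap.lTensor_tmul, Submodule.mkQ_apply, (Submodule.Quotient.mk_eq_zero S).2 (Submodule.subset_span ⟨i, rfl⟩),
        TensorProduct.tmul_zero]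
    | zero => exact map_zero _
    | add a b _ _ ha hb => rw [map_add, ha, hb, add_zero]
    | smul c a _ ha =>
      show (LinearMap.baseChange (IsLocalRing.ResidueField R) S.mkQ) (c • a) = 0
      rw [map_smul]
      exact (congrArg (c • ·) ha).trans (smul_zero c)
  obtain ⟨l, hl⟩ := (IsLocalRing.split_injective_iff_lTensor_residueField_injective D').2 hinj
  have h0 : D' (Submodule.Quotient.mk y) = 0 := by
    show D y = 0
    simp [D, hy]
  have := congrArg l h0
  rw [map_zero, ← LinearMap.comp_apply, hl, LinearMap.id_apply] at this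
  exact (Submodule.Quotient.mk_eq_zero S).1 this

/-- Over a local base. Let R be a local ring with residue field k, A an Azumaya algebra over R of rank
r², and ξ ∈ A an element whose image ξ̄ = 1 ⊗ ξ in k ⊗_R A is regular, i.e. generates a commutative
subalgebra k[ξ̄] which is étale over k (all elements separable) of dimension r. Then the powers 1,
ξ, …, ξ^{r-1} are linearly independent over R and ξ^r lies in their R-linear span; thus R[ξ] is a
free R-module of rank r closed under multiplication, and ξ is a regular section over all of Spec R. -/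
theorem result (R : Type u) [CommRing R] [IsLocalRing R] (A : Type u) [Ring A] [Algebra R A] [IsAzumaya R A] (r : ℕ) (hA : Module.finrank R A = r ^ 2) (ξ : A) (hsep : Algebra.IsSeparable (IsLocalRing.ResidueField R) (Algebra.adjoin (IsLocalRing.ResidueField R) ({(1 : IsLocalRing.ResidueField R) ⊗ₜ[R] ξ} : Set (IsLocalRing.ResidueField R ⊗[R] A)))) (hrk : Module.finrank (IsLocalRing.ResidueField R) (Algebra.adjoin (IsLocalRing.ResidueField R) ({(1 : IsLocalRing.ResidueField R) ⊗ₜ[R] ξ} : Set (IsLocalRing.ResidueField R ⊗[R] A))) = r) : LinearIndependent R (fun i : Fin r => ξ ^ (i : ℕ)) ∧ ξ ^ r ∈ Submodule.span R (Set.range (fun i : Fin r => ξ ^ (i : ℕ))) := by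
  classical
  haveI : Module.Free R A := Module.free_of_flat_of_isLocalRing
  obtain ⟨hcen, hsim⟩ := (Azumaya.isAzumaya_iff_closed_fibre (R := R) A).1 inferInstance
  haveI := hcen; haveI := hsim
  set k := IsLocalRing.ResidueField R
  set x : k ⊗[R] A := (1 : k) ⊗ₜ[R] ξ with hx
  have hdimk : Module.finrank k (k ⊗[R] A) = r ^ 2 := by rw [Module.finrank_baseChange, hA]
  have hint : IsIntegral k x := IsIntegral.of_finite k x
  have hsepx : (minpoly k x).Separable := by
    have h := Algebra.IsSeparable.isSeparable k (⟨x, Algebra.self_mem_adjoin_singleton k x⟩ : Algebra.adjoin k ({x} : Set _))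
    rw [IsSeparable, ← minpoly.algHom_eq (Algebra.adjoin k ({x} : Set _)).val Subtype.val_injective] at h
    exact h
  have hli : LinearIndependent k (fun i : Fin (minpoly k x).natDegree => x ^ (i : ℕ)) := linearIndependent_pow x
  have hspan : Submodule.span k (Set.range fun i : Fin (minpoly k x).natDegree => x ^ (i : ℕ)) =
      (Algebra.adjoin k ({x} : Set _)).toSubmodule := by
    refine le_antisymm (Submodule.span_le.2 ?_) ?_
    · rintro _ ⟨i, rfl⟩; exact pow_mem (Algebra.self_mem_adjoin_singleton k x) _
    · intro y hy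
      rw [Subalgebra.mem_toSubmodule, Algebra.adjoin_singleton_eq_range_aeval] at hy
      obtain ⟨p, rfl⟩ := hy
      show Polynomial.aeval x p ∈ _
      rw [← Polynomial.modByMonic_add_div p (minpoly k x), map_add, map_mul, minpoly.aeval, zero_mul, add_zero,
        Polynomial.aeval_eq_sum_range' (n := (minpoly k x).natDegree)]
      · exact Submodule.sum_mem _ fun i hi => Submodule.smul_mem _ _ (Submodule.subset_span ⟨⟨i, Finset.mem_range.1 hi⟩, rfl⟩)
      · exact Polynomial.natDegree_modByMonic_lt p (minpoly.monic hint) fun h => by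
          have : Nontrivial (k ⊗[R] A) := inferInstance
          exact (minpoly.natDegree_pos hint).ne' (by rw [h, Polynomial.natDegree_one])
  have hdeg : (minpoly k x).natDegree = r := by
    have h1 := finrank_span_eq_card hli
    rw [hspan, Fintype.card_fin] at h1
    exact h1.symm.trans hrk
  obtain rfl : r = (minpoly k x).natDegree := hdeg.symm
  -- the centraliser over the residue field
  let adk : (k ⊗[R] A) →ₗ[k] (k ⊗[R] A) := LinearMap.mulLeft k x - LinearMap.mulRight k x
  have hker : LinearMap.ker adk = Submodule.span k (Set.range fun i : Fin (minpoly k x).natDegree => x ^ (i : ℕ)) := by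
    refine (Submodule.eq_of_le_of_finrank_le (Submodule.span_le.2 ?_) ?_).symm
    · rintro _ ⟨i, rfl⟩
      simp [adk, sub_eq_zero, ← pow_succ, ← pow_succ']
    · rw [finrank_span_eq_card hli, Fintype.card_fin]
      exact centralizer_dim _ x hsepx rfl hdimk
  let g : (Fin (minpoly k x).natDegree → R) →ₗ[R] A := Fintype.linearCombination R fun i => ξ ^ (i : ℕ)
  have hli' : LinearIndependent R (fun i : Fin (minpoly k x).natDegree => ξ ^ (i : ℕ)) := by
    refine Module.IsLocalRing.linearIndependent_of_flat _ ?_
    convert hli using 1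
    all_goals (funext i; simp [hx, Algebra.TensorProduct.tmul_pow])
  refine ⟨hli', ?_⟩
  exact centralizer_mem R A ξ (fun i => ξ ^ (i : ℕ)) hli' (fun i => by rw [← pow_succ, ← pow_succ'])
    (fun z hz => by
      have : z ∈ LinearMap.ker adk := by simpa [adk, hx, sub_eq_zero] using hz
      rw [hker] at this
      refine Submodule.span_le.2 ?_ this
      rintro _ ⟨i, rfl⟩
      refine Submodule.subset_span ⟨i, ?_⟩
      simp [hx, Algebra.TensorProduct.tmul_pow])
    _ (by rw [← pow_succ, ← pow_succ'])

end Groth.Agent.S5713
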