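import Groth.Statements.S0584
import Groth.Agent.MLMod.Countable
import Groth.Agent.Kaplansky.Summand

set_option autoImplicit false
universe u
open scoped Classical
open CAlg Groth.Agent TensorProduct

namespace Groth.Agent.S0584

/-- Projectivity of a module is equivalent to the conjunction of three conditions — flatness, the
Mittag-Leffler property, and being an internal direct sum of countably generated submodules. -/
theorem result (R : Type u) [CommRing R] (M : Type u)
    [AddCommGroup M] [Module R M] :
    Module.Projective R M ↔ (Module.Flat R M ∧ CAlg.IsMittagLeffler R M ∧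
      ∃ (ι : Type u) (N : ι → Submodule R M), DirectSum.IsInternal N ∧
        ∀ i, CAlg.IsCountablyGenerated R (N i)) := by
  classical
  constructor
  · intro hP
    refine ⟨inferInstance, MLMod.isML_of_projective, ?_⟩
    obtain ⟨s, hs⟩ := Module.projective_def'.1 (inferInstance : Module.Projective R M)
    let π := Finsupp.linearCombination R (id : M → M)
    let N : M → Submodule R (M →₀ R) := fun i => LinearMap.range (Finsupp.lsingle i)
    have hNtop : iSup N = ⊤ := Finsupp.iSup_lsingle_range
    have hNind : iSupIndep N := by
      intro i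
      have h := Finsupp.disjoint_lsingle_lsingle (M := R) (R := R) {i} ({i}ᶜ : Set M) disjoint_compl_right
      simpa [N, Set.mem_compl_iff] using h
    have hc : ∀ i, CAlg.IsCountablyGenerated R (N i) := fun i =>
      ⟨{⟨Finsupp.single i 1, 1, rfl⟩}, Set.countable_singleton _, eq_top_iff.2 fun ⟨z, r, hr⟩ _ =>
        Submodule.mem_span_singleton.2 ⟨r, Subtype.ext (by
          change r • Finsupp.single i (1 : R) = z
          rw [Finsupp.smul_single_one, ← hr]; rfl)⟩⟩
    have hsπ : ∀ p, π (s p) = p := LinearMap.congr_fun hs
    have hcompl : IsCompl (LinearMap.range s) (LinearMap.ker π) := by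
      refine IsCompl.of_eq ((Submodule.eq_bot_iff _).2 fun z hz => ?_) (eq_top_iff.2 fun z _ => ?_)
      · obtain ⟨⟨p, rfl⟩, hp⟩ := hz
        rw [SetLike.mem_coe, LinearMap.mem_ker, hsπ] at hp
        rw [hp, map_zero]
      · rw [show z = s (π z) + (z - s (π z)) by abel]
        exact Submodule.add_mem_sup ⟨_, rfl⟩ (by rw [LinearMap.mem_ker, map_sub, hsπ, sub_self])
    obtain ⟨L, hL, hLs, hLc⟩ := Kaplansky.exists_isInternal_of_isCompl N hNind hNtop hc _ _ hcompl
    have hsinj : Function.Injective s := fun a b h => by rw [← hsπ a, h, hsπ]
    let eP : M ≃ₗ[R] LinearMap.range s := LinearEquiv.ofInjective s hsinj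
    let e : Submodule R (LinearMap.range s) ≃o Submodule R M := Submodule.orderIsoMapComap eP.symm
    refine ⟨L, fun X => e X.1, ?_, fun X => ?_⟩
    · convert! DirectSum.isInternal_submodule_of_iSupIndep_of_iSup_eq_top (hL.map_orderIso e) (by
        show ⨆ X : L, e X.1 = ⊤
        rw [← e.map_iSup, ← sSup_eq_iSup', hLs, e.map_top])
    · obtain ⟨t, ht, htop⟩ := hLc X.1 X.2
      let em := Submodule.equivMapOfInjective eP.symm.toLinearMap eP.symm.injective X.1
      exact ⟨em '' t, ht.image _, by
        show Submodule.span R (em.toLinearMap '' t) = ⊤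
        rw [← Submodule.map_span, htop, Submodule.map_top]
        exact LinearMap.range_eq_top.2 em.surjective⟩
  · rintro ⟨hflat, hM, ι, N, hN, hc⟩
    haveI := hflat
    let e := LinearEquiv.ofBijective (DirectSum.coeLinearMap N) hN
    have hsplit : ∀ i, (DirectSum.component R ι (fun i => N i) i ∘ₗ e.symm.toLinearMap) ∘ₗ (N i).subtype = LinearMap.id := by
      intro i
      apply LinearMap.ext
      intro x
      have hx : e (DirectSum.lof R ι (fun i => N i) i x) = (x : M) := DirectSum.coeLinearMap_lof N i x
      show DirectSum.component R ι (fun i => N i) i (e.symm x) = x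
      rw [← hx, LinearEquiv.symm_apply_apply, DirectSum.component.lof_self]
    haveI hproj : ∀ i, Module.Projective R (N i) := fun i => by
      haveI : Module.Flat R (N i) := Module.Flat.of_retract (N i).subtype _ (hsplit i)
      exact MLMod.projective_of_flat_countable (MLMod.isML_of_retract (N i).subtype _ (hsplit i) hM) (hc i)
    exact Module.Projective.of_equiv e

end Groth.Agent.S0584
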