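import Groth.Statements.S0585
import Groth.Agent.MLMod.Descent
import Groth.Agent.S0584

set_option autoImplicit false
universe u
open CAlg Groth.Agent

namespace Groth.Agent.S0585

/-- Let `R → S` be faithfully flat and `M` an `R`-module. If `S ⊗ M` is a projective `S`-module then `M`
is a projective `R`-module. -/
theorem result (R : Type u) [CommRing R] (S : Type u) [CommRing S]
    [Algebra R S] [Module.FaithfullyFlat R S] (M : Type u) [AddCommGroup M] [Module R M]
    [Module.Projective S (TensorProduct R S M)] : Module.Projective R M := by
  classical
  obtain ⟨-, -, ι, Q, hQ, hQc⟩ := (S0584.result S (TensorProduct R S M)).1 inferInstance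
  refine MLMod.projective_of_adapted Q hQ.submodule_iSupIndep hQ.submodule_iSup_eq_top fun i => ?_
  obtain ⟨t, ht, htop⟩ := hQc i
  exact ⟨(Q i).subtype '' t, ht.image _, by
    rw [← Submodule.map_span, htop, Submodule.map_top, Submodule.range_subtype]⟩

end Groth.Agent.S0585
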