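import Groth.Statements.S3527
import Mathlib
import Groth.Agent.DRingKP.Tor

open CategoryTheory CategoryTheory.Limits
attribute [local instance] HasDerivedCategory.standard

set_option linter.style.haveILetI false
set_option backward.isDefEq.respectTransparency false

set_option autoImplicit false
universe u
open HTor

namespace Groth.Agent.S3527

/-- If A is a commutative ring and M is a flat A-module, then Tor_p^A(M, N) = 0 and Tor_p^A(N, M) = 0
for every A-module N and every p ≥ 1. (The published statement is about local hypertor sheaves over
general S, X, Y; in the affine case these are the sheaves attached to Tor_n^A, and only the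
resulting statement about A-modules is given here. Tor is Mathlib's, left derived in the second
variable; vanishing is stated as Subsingleton, and both orders are stated.) -/
theorem result (A : Type u) [CommRing A] (M N : Type u) [AddCommGroup M] [Module A M]
    [AddCommGroup N] [Module A N] [Module.Flat A M] (p : ℕ) (hp : 0 < p) :
    Subsingleton (DRing.Tor A p M N) ∧ Subsingleton (DRing.Tor A p N M) := by
  obtain ⟨q, rfl⟩ : ∃ q, p = q + 1 := ⟨p - 1, by omega⟩
  have hM : DRing.HasTorDimLE A 0 M :=
    (Groth.Agent.DRingKP.hasTorDimLE_iff M 0).mpr (by
      simpa using (Groth.Agent.DRingKP.amp_zero_iff_flat M).mpr ‹_›)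
  refine ⟨hM N (q + 1) (Nat.succ_pos q), ?_⟩
  refine ModuleCat.subsingleton_of_isZero ?_
  rw [Groth.Agent.DRingKP.isZero_tor_iff (ModuleCat.of A N) (ModuleCat.of A M)
      (projectiveResolution (ModuleCat.of A M)),
    Groth.Agent.DRingKP.isZero_balance _ (projectiveResolution (ModuleCat.of A N)),
    ← Groth.Agent.DRingKP.isZero_tor_iff]
  haveI := hM N (q + 1) (Nat.succ_pos q)
  exact ModuleCat.isZero_of_subsingleton _

end Groth.Agent.S3527
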