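import Groth.Statements.S18366
import Groth.Agent.GeomProp.SmoothPoint
import Groth.Agent.PtsDense.Basic

set_option autoImplicit false
universe u
open CategoryTheory CategoryTheory.Limits AlgebraicGeometry
open Variety

set_option backward.isDefEq.respectTransparency false
set_option backward.isDefEq.respectTransparency.types false

open Groth.Agent Topology

namespace Groth.Agent.S18366

/-- Let k be a separably closed field and X a non-empty k-scheme of finite type which is geometrically
reduced. Then X has a k-rational point, i.e. the structure morphism admits a section. (Non-emptiness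
is part of the hypotheses: the empty scheme is geometrically reduced of finite type and has no
point. The published statement does not assume X non-empty; this row does, since the empty scheme
has no rational point.) -/
theorem result (k : Type u) [Field k] [IsSepClosed k]
    {X : Scheme.{u}} (f : X ⟶ Spec (CommRingCat.of k)) [LocallyOfFiniteType f] [QuasiCompact f] [GeometricallyReduced f]
    [Nonempty X] :
    ∃ s : Spec (CommRingCat.of k) ⟶ X, s ≫ f = 𝟙 (Spec (CommRingCat.of k)) := by
  letI : X.Over (Spec (CommRingCat.of k)) := ⟨f⟩
  haveI : GeometricallyReduced (X ↘ Spec (CommRingCat.of k)) := ‹GeometricallyReduced f›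
  haveI : LocallyOfFiniteType (X ↘ Spec (CommRingCat.of k)) := ‹LocallyOfFiniteType f›
  haveI : IsLocallyNoetherian (Spec (CommRingCat.of k)) := inferInstance
  haveI : LocallyOfFinitePresentation (X ↘ Spec (CommRingCat.of k)) := inferInstance
  haveI : AlgebraicGeometry.IsReduced X :=
    GeometricallyReduced.isReduced_of_flat_of_isLocallyNoetherian (X ↘ Spec (CommRingCat.of k))
  obtain ⟨U, hU, hs⟩ := (GeomProp.geometricallyReduced_iff_dense_smooth k X).1 inferInstance
  haveI : Smooth (U.ι ≫ f) := hs
  obtain ⟨x, hx⟩ := hU.nonempty
  haveI : Nonempty U := ⟨⟨x, hx⟩⟩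
  obtain ⟨u, s, hs', -⟩ := (PtsDense.dense_rational k (U.ι ≫ f)).nonempty
  exact ⟨s ≫ U.ι, by rw [Category.assoc]; exact hs'⟩

end Groth.Agent.S18366
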