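import Groth.Statements.S4466
import Groth.Agent.ProjCech.Main
import Groth.Agent.PlaneForms.Basic

set_option autoImplicit false
universe u
open Coherent

namespace Groth.Agent.S4466

open AlgebraicGeometry CategoryTheory in
/-- Let k be a field, r > 0 and n any integer. Then the Euler characteristic of the twisting sheaf O(n)
on projective r-space over k, namely the alternating sum of the dimensions of H^j(P^r_k, O(n)) for 0
≤ j ≤ r, equals the binomial coefficient C(n+r, r), understood as the binomial polynomial evaluated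
at the integer n+r (so that it makes sense and is correct for negative n too). -/
theorem result (k : Type u) [Field k] (r : ℕ) (hr : 0 < r)
    (n : ℤ) :
    ((Finset.range (r + 1)).sum fun j => (-1 : ℤ) ^ j *
        (Module.finrank k (Coh.HH (CohB1.ProjSpace r k) (Twist.twistProjSpace r k n) j) : ℤ)) =
      Ring.choose (n + r) r := by
  classical
  have hz : ∀ j, ¬ (j = 0 ∧ 0 ≤ n) → ¬ (j = r ∧ n ≤ -((r : ℤ) + 1)) →
      Module.finrank k (Coh.HH (CohB1.ProjSpace r k) (Twist.twistProjSpace r k n) j) = 0 := fun j h0 h1 => by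
    have := Groth.Agent.ProjCech.twist_vanish (R := k) r n j h0 h1
    exact Module.finrank_zero_of_subsingleton
  have hdim : ∀ d : ℕ, Module.finrank k ↥(MvPolynomial.homogeneousSubmodule (Fin (r + 1)) k d) = (r + d).choose d :=
    fun d => by
      rw [(Groth.Agent.PlaneForms.finite_homogeneous_and_finrank (σ := Fin (r + 1)) d).2, Fintype.card_fin,
        show r + 1 + d - 1 = r + d by omega]
  rcases le_or_gt 0 n with hn | hn
  · obtain ⟨d, rfl⟩ := Int.eq_ofNat_of_zero_le hn
    rw [Finset.sum_eq_single 0 (fun j _ hj => by rw [hz j (by omega) (by omega)]; simp) (by simp)]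
    obtain ⟨e⟩ := Groth.Agent.ProjCech.zero_equiv (R := k) r d
    rw [e.finrank_eq, hdim, show ((d : ℤ) + r) = ((d + r : ℕ) : ℤ) by push_cast; ring, Ring.choose_natCast]
    rw [Nat.add_comm r d, ← Nat.choose_symm_add]
    simp
  rcases lt_or_ge n (-(r : ℤ)) with hn' | hn'
  · obtain ⟨a, ha⟩ := Int.eq_ofNat_of_zero_le (show 0 ≤ -((r : ℤ) + 1) - n by omega)
    obtain rfl : n = -((r : ℤ) + 1 + a) := by omega
    rw [Finset.sum_eq_single r (fun j _ hj => by rw [hz j (by omega) (by omega)]; simp) (by simp)]
    obtain ⟨e⟩ := Groth.Agent.ProjCech.top_equiv (R := k) r a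
    rw [e.finrank_eq, hdim, show -((r : ℤ) + 1 + a) + r = -((1 + a : ℕ) : ℤ) by push_cast; ring, Ring.choose_neg,
      show ((1 + a : ℕ) : ℤ) + r - 1 = ((a + r : ℕ) : ℤ) by push_cast; ring, Ring.choose_natCast,
      Units.smul_def, smul_eq_mul, Int.coe_negOnePow_natCast]
    rw [Nat.add_comm r a, ← Nat.choose_symm_add]
  obtain ⟨b, hb⟩ := Int.eq_ofNat_of_zero_le (show 0 ≤ n + r by omega)
  rw [Finset.sum_eq_zero (fun j _ => by rw [hz j (by omega) (by omega)]; simp), hb, Ring.choose_natCast,
    Nat.choose_eq_zero_of_lt (by omega)]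
  simp

end Groth.Agent.S4466
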