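import Groth.Statements.S1627
import Groth.Agent.CurveCompl.AffineOpen
import Groth.Agent.ProjMor.ProjSpaceBase
-- import your own Groth.Agent.* helpers here

set_option autoImplicit false
set_option linter.style.haveILetI false
set_option backward.isDefEq.respectTransparency false
set_option backward.isDefEq.respectTransparency.types false
universe u
open CategoryTheory CategoryTheory.Limits AlgebraicGeometry
open Variety

namespace Groth.Agent.S1627

/-- A curve X over k (integral, separated, of finite type, of dimension one) is either affine or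
H-projective, i.e. admits a closed immersion into some P^d_k over k. -/
theorem result (k : Type u) [Field k] (X : Scheme.{u}) [X.Over (Spec (CommRingCat.of k))] [IsIntegral X] [IsSeparated (X ↘ (Spec (CommRingCat.of k)))] [LocallyOfFiniteType (X ↘ (Spec (CommRingCat.of k)))] [QuasiCompact (X ↘ (Spec (CommRingCat.of k)))] (hdim : topologicalKrullDim X = 1) :
    IsAffine X ∨ ∃ (d : ℕ) (c : X ⟶ CohB1.ProjSpace d k), IsClosedImmersion c ∧ c ≫ CohB1.ProjSpace.toSpec d k = X ↘ (Spec (CommRingCat.of k)) := by
  obtain ⟨d, Y, c, j, hc, hj, hjc, hd, hsd, hfin, hcl, hdimY⟩ :=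
    Groth.Agent.CurveCompl.exists_completion (X ↘ Spec (CommRingCat.of k)) hdim.le
  by_cases hsurj : Function.Surjective j.base
  · haveI := (isIso_iff_isOpenImmersion_and_epi_base j).2 ⟨hj, (TopCat.epi_iff_surjective _).2 hsurj⟩
    exact Or.inr ⟨d, j ≫ c, inferInstance, by rw [Category.assoc, hjc]⟩
  left
  obtain ⟨y, hy⟩ := not_forall.1 hsurj
  letI : Y.Over (Spec (CommRingCat.of k)) := ⟨c ≫ CohB1.ProjSpace.toSpec d k⟩
  haveI := _root_.ProjMor.isProper_toSpec d k
  haveI : IsProper (Y ↘ Spec (CommRingCat.of k)) := inferInstanceAs (IsProper (c ≫ CohB1.ProjSpace.toSpec d k))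
  haveI : QuasiCompact j := haveI := Groth.Agent.CurveRR.isNoetherian_of_proper k Y; inferInstance
  haveI : IsReduced Y := IsSchemeTheoreticallyDominant.isReduced j
  haveI : PreirreducibleSpace Y := by
    have h1 := ((IsIrreducible.closure ((IrreducibleSpace.isIrreducible_univ (X : Type u)).image j.base
      j.base.hom.continuous.continuousOn)))
    rw [Set.image_univ, hd.closure_eq] at h1
    exact ⟨h1.2⟩
  haveI : IrreducibleSpace Y := { toNonempty := ⟨y⟩ }
  haveI : IsIntegral Y := isIntegral_of_irreducibleSpace_of_isReduced Y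
  have hdim1 : topologicalKrullDim Y = 1 :=
    le_antisymm hdimY (hdim ▸ j.isOpenEmbedding.isInducing.topologicalKrullDim_le)
  have hdisc : DiscreteTopology ↥((j.opensRange : Set Y)ᶜ) := by
    haveI : Finite ↥((j.opensRange : Set Y)ᶜ) := hfin.to_subtype
    haveI : T1Space ↥((j.opensRange : Set Y)ᶜ) := ⟨fun z => by
      have := (hcl z.1 z.2).preimage (continuous_subtype_val (p := (· ∈ (j.opensRange : Set Y)ᶜ)))
      convert this using 1
      ext w
      simp [Subtype.ext_iff]⟩
    infer_instance
  obtain ⟨x₀⟩ := (inferInstance : Nonempty X)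
  haveI hA : IsAffine (j.opensRange : Scheme.{u}) := Groth.Agent.CurveCompl.isAffineOpen_of_ne_top k hdim1
    ⟨j x₀, x₀, rfl⟩ (x := y) (fun h => hy h) hdisc
  exact IsAffine.of_isIso j.isoOpensRange.hom

end Groth.Agent.S1627
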