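import Groth.Statements.S1899
import Groth.Agent.KFlat.ClosedImm
import Groth.Agent.RefStalk.Refl

set_option autoImplicit false
universe u
open CategoryTheory AlgebraicGeometry
open Cyc

namespace Groth.Agent.S1899

/-- For a closed immersion i : Z → X with Z of δ-dimension ≤ k, [Z]_k = [O_Z]_k, i.e. the multiplicities
computed from lengths of the local rings O_{Z,z} agree with those computed from the stalks of i_*O_Z
as O_X-modules. A pair (X, δ) with Cyc.IsSetup plays the role of a scheme locally of finite type
over a fixed base with a dimension function (X locally Noetherian with universally catenary local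
rings, δ a dimension function), and Cyc.DeltaCompat records that the dimension function upstairs is
the induced one. -/
theorem result (X Z : Scheme.{u}) (δ : X → ℤ) (hX : Cyc.IsSetup X δ) (i : Z ⟶ X) [IsClosedImmersion i] (k : ℤ) (hdim : ∀ z : Z, δ (i z) ≤ k) : Cyc.subschemeFun δ k i = Cyc.sheafFun δ k ((Coh.push i).obj (Coh.structureModule Z)) := by

  funext x
  simp only [Cyc.subschemeFun, Cyc.sheafFun]
  split
  · by_cases hx : x ∈ Set.range i.base
    · obtain ⟨z, rfl⟩ := hx
      have hset : {w : Z | i w = i.base z} = {z} :=
        Set.ext fun w => ⟨fun h => i.isClosedEmbedding.injective h, fun h => congrArg _ h⟩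
      rw [hset, finsum_mem_singleton]
      obtain ⟨e, -⟩ := Groth.Agent.RefStalk.exists_structStalk (X := Z) z
      let σ : X.presheaf.stalk (i.base z) →+* Z.presheaf.stalk z := (i.stalkMap z).hom
      have hσ : Function.Surjective σ := i.stalkMap_surjective z
      haveI : RingHomSurjective σ := ⟨hσ⟩
      let f : ↥(((Coh.push i).obj (Coh.structureModule Z)).presheaf.stalk (i.base z)) →ₛₗ[σ] Z.presheaf.stalk z :=
        { toFun := fun m => e.symm (Groth.Agent.KFlat.pushStalk i z (Coh.structureModule Z) m)
          map_add' := fun a b => (congrArg e.symm (map_add (Groth.Agent.KFlat.pushStalk i z (Coh.structureModule Z)) a b)).trans (map_add e.symm _ _)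
          map_smul' := fun r m => (congrArg e.symm (Groth.Agent.KFlat.pushStalk_smul i z (Coh.structureModule Z) r m)).trans (map_smul e.symm (σ r) _) }
      have hf : Function.Bijective f :=
        e.symm.bijective.comp (Groth.Agent.KFlat.pushStalk_bijective i z (Coh.structureModule Z))
      have hlen : Module.length (X.presheaf.stalk (i.base z))
          (((Coh.push i).obj (Coh.structureModule Z)).presheaf.stalk (i.base z)) =
          Module.length (Z.presheaf.stalk z) (Z.presheaf.stalk z) := by
        rw [Module.length, Module.length, WithBot.unbot_inj,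
          Order.krullDim_eq_of_orderIso (Submodule.orderIsoMapComapOfBijective f hf)]
      exact congrArg (fun n : ℕ∞ => (n.toNat : ℤ)) hlen.symm
    · haveI h0 : Subsingleton (((Coh.push i).obj (Coh.structureModule Z)).presheaf.stalk x) :=
        Groth.Agent.KFlat.subsingleton_stalk_push i (Coh.structureModule Z) hx
      rw [Module.length_eq_zero]
      refine (finsum_mem_eq_zero_of_forall_eq_zero fun w hw => absurd ⟨w, hw⟩ hx).trans ?_
      rfl
  · rfl

end Groth.Agent.S1899
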