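import Groth.Statements.S3854
import Groth.Agent.ThickSys.Sys

set_option linter.style.haveILetI false

set_option autoImplicit false
universe u
open FCompl CategoryTheory CategoryTheory.Limits AlgebraicGeometry

namespace Groth.Agent.S3854

open AlgebraicGeometry in
/-- The completion along a closed subset, presented as the system of closed subschemes cut out by the
powers of an ideal sheaf: Let X be a locally Noetherian scheme and I an ideal sheaf on X. The closed
subschemes defined by I, I^2, I^3, ... with their inclusions form a locally Noetherian adic formal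
system: each inclusion is a surjective closed immersion, the kernel ideal of the n-th inclusion is
the (n+1)-st power of the kernel ideal of the composite inclusion from level 0, and every level is
locally Noetherian. -/
theorem result (X : Scheme.{u}) [IsLocallyNoetherian X]
    (𝓘 : X.IdealSheafData) : (FSch.completionAlong X 𝓘).IsLocNoethFormal := by
  set_option backward.isDefEq.respectTransparency false in
  have hc : ∀ n, IsClosedImmersion ((FSch.completionAlong X 𝓘).ι n) := fun n => by
    haveI : IsClosedImmersion ((FSch.completionAlong X 𝓘).ι n ≫ FSch.completionToX X 𝓘 (n + 1)) := by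
      rw [show (FSch.completionAlong X 𝓘).ι n ≫ FSch.completionToX X 𝓘 (n + 1) = FSch.completionToX X 𝓘 n from
        Scheme.IdealSheafData.inclusion_subschemeι _]
      infer_instance
    exact IsClosedImmersion.of_comp _ (FSch.completionToX X 𝓘 (n + 1))
  have hι : ∀ n, (FSch.completionAlong X 𝓘).ι n ≫ FSch.completionToX X 𝓘 (n + 1) = FSch.completionToX X 𝓘 n :=
    fun n => Scheme.IdealSheafData.inclusion_subschemeι _
  have hto : ∀ n, (FSch.completionAlong X 𝓘).toX n ≫ FSch.completionToX X 𝓘 n = FSch.completionToX X 𝓘 0 := by
    intro n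
    induction n with
    | zero => exact Category.id_comp _
    | succ n ih => rw [FSch.Sys.toX, Category.assoc, hι n, ih]
  have hF : (FSch.completionAlong X 𝓘).IsFormal := fun n => by
    refine ⟨hc n, fun z => ?_⟩
    have h1 : (FSch.completionToX X 𝓘 (n + 1)) z ∈ Set.range (FSch.completionToX X 𝓘 n) := by
      have : (FSch.completionToX X 𝓘 (n + 1)) z ∈ Set.range (FSch.completionToX X 𝓘 (n + 1)) := ⟨z, rfl⟩
      replace this := (Scheme.IdealSheafData.range_subschemeι (𝓘 ^ (n + 1 + 1))).le this
      rw [Scheme.IdealSheafData.support_pow_succ] at this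
      refine (Scheme.IdealSheafData.range_subschemeι (𝓘 ^ (n + 1))).ge ?_
      rwa [Scheme.IdealSheafData.support_pow_succ]
    obtain ⟨w, hw⟩ := h1
    refine ⟨w, (FSch.completionToX X 𝓘 (n + 1)).isClosedEmbedding.injective ?_⟩
    rw [← Scheme.Hom.comp_apply, hι n, hw]
  refine ⟨hF, fun n => ?_, fun n => LocallyOfFiniteType.isLocallyNoetherian (FSch.completionToX X 𝓘 n)⟩
  haveI := hc n
  haveI := (Groth.Agent.ThickSys.closed_surj_toX hF (n + 1)).1
  rw [Groth.Agent.ThickSys.ker_eq_comap_ker_comp ((FSch.completionAlong X 𝓘).ι n) (FSch.completionToX X 𝓘 (n + 1)),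
    Groth.Agent.ThickSys.ker_eq_comap_ker_comp ((FSch.completionAlong X 𝓘).toX (n + 1)) (FSch.completionToX X 𝓘 (n + 1)),
    hι n, hto (n + 1), Scheme.IdealSheafData.ker_subschemeι, Scheme.IdealSheafData.ker_subschemeι,
    ← Groth.Agent.ThickSys.comap_pow, pow_one]

end Groth.Agent.S3854
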