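import Groth.Statements.S6894
import Groth.Agent.FittLib.BaseChange

set_option autoImplicit false
universe u
open TensorProduct
open Fitt

namespace Groth.Agent.S6894

/-- Let `M` be a finite `R`-module, `k ≥ 0` and `𝔭 ⊆ R` a prime. Then each of the following conditions
implies all the others: the Fitting ideal `Fit_k(M)` is not contained in `𝔭`; the fiber `M ⊗_R κ(𝔭)`
has dimension at most `k` over `κ(𝔭)`; some `k` elements span the localization `M_𝔭` over `R_𝔭`; and
for some `f ∉ 𝔭`, the module `M_f` is spanned over `R_f` by `k` elements. -/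
theorem result {R : Type u} [CommRing R] (M : Type u) [AddCommGroup M] [Module R M]
    [Module.Finite R M] (k : ℕ) (p : Ideal R) [p.IsPrime] :
    (¬ Fitt.ideal R M k ≤ p ↔ Module.finrank p.ResidueField (p.ResidueField ⊗[R] M) ≤ k) ∧
    (¬ Fitt.ideal R M k ≤ p ↔
      ∃ g : Fin k → LocalizedModule p.primeCompl M, Submodule.span (Localization.AtPrime p) (Set.range g) = ⊤) ∧
    (¬ Fitt.ideal R M k ≤ p ↔ ∃ f : R, f ∉ p ∧
      ∃ g : Fin k → LocalizedModule (Submonoid.powers f) M,
        Submodule.span (Localization.Away f) (Set.range g) = ⊤) := by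
  have loc : ∀ T : Submonoid R, T ≤ p.primeCompl →
      (∃ g : Fin k → LocalizedModule T M,
        Submodule.span (Localization T) (Set.range g) = ⊤) → ¬ Fitt.ideal R M k ≤ p := by
    rintro T hT ⟨g, hg⟩
    refine FittLib.not_le_of_map_localization_eq_top hT ?_
    rw [← FittLib.ideal_localizedModule]
    exact FittLib.ideal_eq_top_of_generators g hg (by simp)
  have toLoc : ∀ T : Submonoid R, (∃ g : Fin k → Localization T ⊗[R] M,
      Submodule.span (Localization T) (Set.range g) = ⊤) →
      ∃ g : Fin k → LocalizedModule T M, Submodule.span (Localization T) (Set.range g) = ⊤ := by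
    rintro T ⟨g, hg⟩
    let E := (LocalizedModule.equivTensorProduct T M).symm
    refine ⟨E ∘ g, ?_⟩
    rw [Set.range_comp]
    erw [← Submodule.map_span E.toLinearMap, hg, Submodule.map_top, LinearEquiv.range]
  refine ⟨⟨fun h => ?_, fun h => ?_⟩, ⟨fun h => ?_, loc _ le_rfl⟩, ⟨fun h => ?_, ?_⟩⟩
  · obtain ⟨f, hf, hgen⟩ := FittLib.exists_generators_of_not_le h
    obtain ⟨g, hg⟩ := hgen p.ResidueField
      (isUnit_iff_ne_zero.mpr fun h => hf (Ideal.algebraMap_residueField_eq_zero.mp h))
    have := finrank_range_le_card (R := p.ResidueField) g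
    rw [Set.finrank, hg, finrank_top] at this
    simpa using this
  · refine FittLib.not_le_of_map_eq_top (algebraMap R p.ResidueField) ?_ p.ResidueField
      (algebraMap R p.ResidueField) (fun a ha => Ideal.algebraMap_residueField_eq_zero.mpr ha)
      (RingHom.id _) (RingHom.id_comp _)
    rw [← FittLib.ideal_baseChange]
    let b := Module.finBasis p.ResidueField (p.ResidueField ⊗[R] M)
    exact FittLib.ideal_eq_top_of_generators b b.span_eq (by simpa using h)
  · obtain ⟨f, hf, hgen⟩ := FittLib.exists_generators_of_not_le h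
    exact toLoc _ (hgen _ (IsLocalization.map_units _ (⟨f, hf⟩ : p.primeCompl)))
  · obtain ⟨f, hf, hgen⟩ := FittLib.exists_generators_of_not_le h
    exact ⟨f, hf, toLoc _ (hgen _
      (IsLocalization.map_units _ (⟨f, Submonoid.mem_powers f⟩ : Submonoid.powers f)))⟩
  · rintro ⟨f, hf, hg⟩
    exact loc _ (Submonoid.powers_le.mpr hf) hg

end Groth.Agent.S6894
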