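import Groth.Statements.S0567
import Groth.Agent.Nagata.Japanese

set_option autoImplicit false
universe u
open CAlg

namespace Groth.Agent.S0567

/-- A ring is Nagata exactly when it is Noetherian and universally Japanese. -/
theorem result (R : Type u) [CommRing R] :
    CAlg.IsNagata R ↔ (IsNoetherianRing R ∧ CAlg.IsUniversallyJapanese R) := by
  refine ⟨fun h => ⟨h.1, Nagata.isUniversallyJapanese_of_isNagata h⟩, fun ⟨hN, hJ⟩ => ⟨hN, fun p _ => ?_⟩⟩
  haveI : Algebra.FiniteType R (R ⧸ p) := Algebra.FiniteType.of_surjective (Ideal.Quotient.mkₐ R p) Ideal.Quotient.mk_surjective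
  exact hJ (R ⧸ p) inferInstance

end Groth.Agent.S0567
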