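import Groth.Statements.S2069
import Mathlib.RingTheory.Ideal.AssociatedPrime.Finiteness
import Mathlib.RingTheory.Ideal.AssociatedPrime.Localization
import Mathlib.LinearAlgebra.TensorProduct.Pi
import Mathlib.LinearAlgebra.TensorProduct.Finiteness
import Mathlib.RingTheory.Flat.Basic
import Groth.Agent.FlatCx.ArtinRees

set_option autoImplicit false
universe u
open CAlg Groth.Agent
open scoped TensorProduct

namespace Groth.Agent.S2069

open TensorProduct in
/-- Let `R → S` be a ring map, `M` an `R`-module and `N` an `S`-module flat over `R`. Then a prime of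
`S` is associated to `N ⊗_R M` if and only if it is associated to `N/𝔭N` for some prime `𝔭` of `R`
associated to `M`. -/
theorem result {R S M N : Type u} [CommRing R] [IsNoetherianRing R] [CommRing S]
    [Algebra R S] [AddCommGroup M] [Module R M] [AddCommGroup N] [Module S N] [Module R N]
    [IsScalarTower R S N] [Module.Flat R N] :
    associatedPrimes S (N ⊗[R] M) =
      ⋃ p ∈ associatedPrimes R M, associatedPrimes S (N ⧸ p.map (algebraMap R S) • (⊤ : Submodule S N)) := by
  classical
  have hcol : ∀ {V : Type u} [AddCommGroup V] [Module S V] (s : S) (v : V), s ∈ (⊥ : Submodule S V).colon {v} ↔ s • v = 0 := fun s v => by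
    rw [Submodule.mem_colon_singleton, Submodule.mem_bot]
  have hsub : ∀ {V₁ V₂ V₃ : Type u} [AddCommGroup V₁] [Module S V₁] [AddCommGroup V₂] [Module S V₂] [AddCommGroup V₃] [Module S V₃]
      (f : V₁ →ₗ[S] V₂) (g : V₂ →ₗ[S] V₃), Function.Injective f → Function.Exact f g → ∀ q,
      q ∈ associatedPrimes S V₂ → q ∈ associatedPrimes S V₁ ∨ q ∈ associatedPrimes S V₃ := by
    intro V₁ V₂ V₃ _ _ _ _ _ _ f g hf hex q hq
    obtain ⟨hqp, x, hx⟩ := hq
    by_cases hle : (⊥ : Submodule S V₃).colon {g x} ≤ q
    · refine Or.inr ⟨hqp, g x, le_antisymm ?_ ((Ideal.radical_mono hle).trans hqp.radical.le)⟩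
      rw [hx]
      exact Ideal.radical_mono fun s hs => (hcol s _).2 (by rw [← map_smul, (hcol s x).1 hs, map_zero])
    · obtain ⟨s, hs, hsq⟩ := SetLike.not_le_iff_exists.1 hle
      obtain ⟨y, hy⟩ := (hex (s • x)).1 (by rw [map_smul, (hcol s _).1 hs])
      refine Or.inl ⟨hqp, y, le_antisymm (fun a ha => ?_) (fun a ha => ?_)⟩
      · obtain ⟨k, hk⟩ := (hx ▸ ha : a ∈ ((⊥ : Submodule S V₂).colon {x}).radical)
        refine ⟨k, (hcol _ _).2 (hf ?_)⟩
        rw [map_smul, hy, map_zero, smul_comm, (hcol _ _).1 hk, smul_zero]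
      · obtain ⟨k, hk⟩ := ha
        have h0 : (a ^ k * s) • x = 0 := by
          rw [mul_smul, ← hy, ← map_smul, (hcol _ _).1 hk, map_zero]
        have h1 : a ^ k * s ∈ q := hx ▸ Ideal.le_radical ((hcol _ _).2 h0)
        exact hqp.mem_of_pow_mem k ((hqp.mem_or_mem h1).resolve_right hsq)
  have hquot : ∀ P : Ideal R, Nonempty ((N ⊗[R] (R ⧸ P)) ≃ₗ[S] N ⧸ P.map (algebraMap R S) • (⊤ : Submodule S N)) := fun P => by
    let φ : N →ₗ[S] N ⊗[R] (R ⧸ P) :=
      { toFun := fun n => n ⊗ₜ 1
        map_add' := fun a b => TensorProduct.add_tmul a b _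
        map_smul' := fun s n => (TensorProduct.smul_tmul' s n _).symm }
    have hφ : Function.Surjective φ := fun z => FlatCx.exists_tmul_quot_one P z
    have hker : LinearMap.ker φ = P.map (algebraMap R S) • (⊤ : Submodule S N) := by
      refine le_antisymm (fun n hn => ?_) ?_
      · have hn' : n ∈ P • (⊤ : Submodule R N) := (FlatCx.tmul_quot_one_eq_zero_iff P n).1 (LinearMap.mem_ker.1 hn)
        refine Submodule.smul_induction_on hn' (fun r hr m _ => ?_) fun a b ha hb => add_mem ha hb
        rw [← algebraMap_smul S r m]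
        exact Submodule.smul_mem_smul (Ideal.mem_map_of_mem _ hr) Submodule.mem_top
      · rw [Ideal.map, Submodule.smul_le]
        intro s hs m _
        induction hs using Submodule.span_induction with
        | mem t ht =>
          obtain ⟨r, hr, rfl⟩ := ht
          rw [algebraMap_smul, LinearMap.mem_ker]
          exact (FlatCx.tmul_quot_one_eq_zero_iff P _).2 (Submodule.smul_mem_smul hr Submodule.mem_top)
        | zero => rw [zero_smul]; exact zero_mem _
        | add a b _ _ ha hb => rw [add_smul]; exact add_mem ha hb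
        | smul c a _ ha => rw [smul_eq_mul, mul_smul]; exact Submodule.smul_mem _ c ha
    exact ⟨(φ.quotKerEquivOfSurjective hφ).symm ≪≫ₗ Submodule.quotEquivOfEq _ _ hker⟩
  refine Set.Subset.antisymm (fun q hq => ?_) (fun q hq => ?_)
  swap
  · obtain ⟨p, hp, hq⟩ := Set.mem_iUnion₂.1 hq
    obtain ⟨-, f, hf⟩ := (isAssociatedPrime_iff_exists_injective_linearMap p M).1 hp
    obtain ⟨e⟩ := hquot p
    exact (hq.map_of_injective e.symm.toLinearMap e.symm.injective).map_of_injective
      (TensorProduct.AlgebraTensorModule.lTensor S N f)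
      (Module.Flat.lTensor_preserves_injective_linearMap (M := N) f hf)
  obtain ⟨hqp, x, hx⟩ := hq
  let p : Ideal R := q.comap (algebraMap R S)
  haveI : p.IsPrime := Ideal.IsPrime.comap _
  obtain ⟨n, hn⟩ := Ideal.exists_pow_le_of_le_radical_of_fg (I := p.map (algebraMap R S)) (J := (⊥ : Submodule S (N ⊗[R] M)).colon {x})
    (Ideal.map_comap_le.trans hx.le) (Ideal.FG.map (IsNoetherian.noetherian p) _)
  obtain ⟨M', hM', hxM⟩ := TensorProduct.exists_finite_submodule_right_of_setFinite {x} (Set.finite_singleton x)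
  obtain ⟨x', hx'⟩ := hxM rfl
  haveI := hM'
  let ι : N ⊗[R] M' →ₗ[S] N ⊗[R] M := TensorProduct.AlgebraTensorModule.lTensor S N M'.subtype
  have hι : Function.Injective ι := Module.Flat.lTensor_preserves_injective_linearMap (M := N) M'.subtype M'.injective_subtype
  have hx'' : ι x' = x := hx'
  obtain ⟨t, g, hg⟩ : ∃ (t : ℕ) (g : Fin t → R), Submodule.span R (Set.range g) = p ^ n :=
    Submodule.fg_iff_exists_fin_generating_family.1 (IsNoetherian.noetherian (p ^ n))
  let μ : M' →ₗ[R] (Fin t → M') := LinearMap.pi fun i => g i • LinearMap.id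
  let Γ : Submodule R M' := LinearMap.ker μ
  have hxk : μ.lTensor N x' = 0 := by
    have hz : ∀ i, g i • x' = 0 := fun i => hι (by
      rw [map_zero, ← algebraMap_smul S (g i) x', map_smul, hx'']
      refine (hcol _ _).1 (hn ?_)
      rw [← Ideal.map_pow]
      exact Ideal.mem_map_of_mem _ (hg ▸ Submodule.subset_span ⟨i, rfl⟩))
    refine (TensorProduct.piRight R R N (fun _ : Fin t => M')).injective ?_
    rw [map_zero]
    funext i
    have : (TensorProduct.piRight R R N (fun _ : Fin t => M') (μ.lTensor N x')) i = ((LinearMap.proj i) ∘ₗ μ).lTensor N x' := by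
      generalize x' = w
      induction w using TensorProduct.induction_on with
      | zero => simp
      | tmul a b => simp [μ]
      | add a b ha hb => simp only [map_add, Pi.add_apply, ha, hb]
    rw [this, LinearMap.proj_pi, LinearMap.lTensor_smul, LinearMap.lTensor_id, LinearMap.smul_apply, LinearMap.id_apply, hz i]
    rfl
  obtain ⟨γ, hγ⟩ := (Module.Flat.lTensor_exact N (LinearMap.exact_subtype_ker_map μ) x').1 hxk
  let κ : N ⊗[R] Γ →ₗ[S] N ⊗[R] M := ι ∘ₗ TensorProduct.AlgebraTensorModule.lTensor S N Γ.subtype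
  have hκ : Function.Injective κ := hι.comp (Module.Flat.lTensor_preserves_injective_linearMap (M := N) Γ.subtype Γ.injective_subtype)
  have hκγ : κ γ = x := by
    rw [← hx'', ← hγ]; rfl
  have hqΓ : q ∈ associatedPrimes S (N ⊗[R] Γ) := ⟨hqp, γ, hx.trans (congrArg Ideal.radical (Ideal.ext fun s => by
    rw [hcol, hcol, ← hκγ, ← map_smul, map_eq_zero_iff κ hκ]))⟩
  have hkill : ∀ s : R, s ∈ Module.annihilator R Γ → s ∈ p := fun s hs => by
    show algebraMap R S s ∈ q
    rw [hx]
    refine Ideal.le_radical ((hcol _ _).2 ?_)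
    rw [← hκγ, ← map_smul, algebraMap_smul]
    have : s • γ = 0 := by
      generalize γ = w
      induction w using TensorProduct.induction_on with
      | zero => rw [smul_zero]
      | tmul a b => rw [← TensorProduct.tmul_smul, Module.mem_annihilator.1 hs b, TensorProduct.tmul_zero]
      | add a b ha hb => rw [smul_add, ha, hb, add_zero]
    rw [this, map_zero]
  have hpow : p ^ n ≤ Module.annihilator R Γ := fun s hs => by
    rw [Module.mem_annihilator]
    intro m
    refine Subtype.ext ?_
    rw [← hg] at hs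
    induction hs using Submodule.span_induction with
    | mem t ht =>
      obtain ⟨i, rfl⟩ := ht
      exact congrFun (LinearMap.mem_ker.1 m.2) i
    | zero => simp
    | add a b _ _ ha hb =>
      simp only [Submodule.coe_smul, ZeroMemClass.coe_zero] at ha hb ⊢
      rw [add_smul, ha, hb, add_zero]
    | smul c a _ ha =>
      simp only [Submodule.coe_smul, ZeroMemClass.coe_zero] at ha ⊢
      rw [smul_eq_mul, mul_smul, ha, smul_zero]
  have hmin : p ∈ (Module.annihilator R Γ).minimalPrimes :=
    ⟨⟨inferInstance, hkill⟩, fun P hP hPp s hs => hP.1.mem_of_pow_mem n (hP.2 (hpow (Ideal.pow_mem_pow hs n)))⟩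
  have hpM : p ∈ associatedPrimes R M :=
    (Module.associatedPrimes.minimalPrimes_annihilator_subset_associatedPrimes R Γ hmin).map_of_injective
      (M'.subtype ∘ₗ Γ.subtype) (M'.injective_subtype.comp Γ.injective_subtype)
  refine Set.mem_iUnion₂.2 ⟨p, hpM, ?_⟩
  refine (IsNoetherianRing.induction_on_isQuotientEquivQuotientPrime R (M := Γ) inferInstance
    (motive := fun V _ _ _ => p ^ n ≤ Module.annihilator R V → q ∈ associatedPrimes S (N ⊗[R] V) →
      q ∈ associatedPrimes S (N ⧸ p.map (algebraMap R S) • (⊤ : Submodule S N))) ?_ ?_ ?_) hpow hqΓ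
  · intro V _ _ _ _ _ hV
    obtain ⟨hq', y, hy⟩ := hV
    exfalso
    refine hq'.ne_top ((Ideal.eq_top_iff_one _).2 ?_)
    rw [hy]
    exact Ideal.le_radical ((hcol _ _).2 (Subsingleton.elim _ _))
  · intro V _ _ _ P e hann hV
    haveI := P.isPrime
    have hV' : q ∈ associatedPrimes S (N ⊗[R] (R ⧸ P.asIdeal)) :=
      hV.map_of_injective (TensorProduct.AlgebraTensorModule.lTensor S N e.toLinearMap) (e.lTensor N).injective
    have hPp : P.asIdeal ≤ p := fun s hs => by
      obtain ⟨-, y, hy⟩ := hV'
      show algebraMap R S s ∈ q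
      rw [hy]
      refine Ideal.le_radical ((hcol _ _).2 ?_)
      rw [algebraMap_smul]
      clear hy
      induction y using TensorProduct.induction_on with
      | zero => rw [smul_zero]
      | tmul a b =>
        obtain ⟨b, rfl⟩ := Ideal.Quotient.mk_surjective b
        rw [← TensorProduct.tmul_smul]
        have : s • Ideal.Quotient.mk P.asIdeal b = 0 := Ideal.Quotient.eq_zero_iff_mem.2 (P.asIdeal.mul_mem_right b hs)
        rw [this, TensorProduct.tmul_zero]
      | add a b ha hb => rw [smul_add, ha, hb, add_zero]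
    have hpP : p ≤ P.asIdeal := fun s hs => P.isPrime.mem_of_pow_mem n (by
      have := hann (Ideal.pow_mem_pow hs n)
      rwa [e.annihilator_eq, Ideal.annihilator_quotient] at this)
    obtain ⟨e'⟩ := hquot p
    rw [le_antisymm hPp hpP] at hV'
    exact hV'.map_of_injective e'.toLinearMap e'.injective
  · intro V₁ _ _ _ V₂ _ _ _ V₃ _ _ _ f g hf hg hfg h₁ h₃ hann hV
    rcases hsub (TensorProduct.AlgebraTensorModule.lTensor S N f) (TensorProduct.AlgebraTensorModule.lTensor S N g)
      (Module.Flat.lTensor_preserves_injective_linearMap (M := N) f hf) (Module.Flat.lTensor_exact N hfg) q hV with h | h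
    · exact h₁ (hann.trans (f.annihilator_le_of_injective hf)) h
    · exact h₃ (hann.trans (g.annihilator_le_of_surjective hg)) h

end Groth.Agent.S2069
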