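import Groth.Statements.S0560
import Groth.Agent.SerreReg.Regular

set_option autoImplicit false
universe u
open CAlg Groth.Agent

namespace Groth.Agent.S0560

/-- Regularity of a Noetherian local ring can be checked after dividing out one nonzerodivisor lying in
the maximal ideal: if that quotient is a regular local ring, so is the original ring. -/
theorem result (R : Type u) [CommRing R] [IsLocalRing R]
    [IsNoetherianRing R] (x : R) (hx : x ∈ IsLocalRing.maximalIdeal R) (hreg : x ∈ nonZeroDivisors R)
    [IsRegularLocalRing (R ⧸ Ideal.span ({x} : Set R))] : IsRegularLocalRing R := by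
  exact SerreReg.isRegularLocalRing_of_quot hx ((isSMulRegular_iff_right_eq_zero_of_smul (M := R)).2 fun a ha => mem_nonZeroDivisors_iff_right.1 hreg a (by rw [mul_comm]; exact ha))

end Groth.Agent.S0560
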