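import Groth.Statements.S0602
import Mathlib.RingTheory.Ideal.AssociatedPrime.Basic
import Mathlib.RingTheory.RegularLocalRing.Defs
import Mathlib.RingTheory.LocalProperties.Reduced
import Mathlib.RingTheory.Ideal.AssociatedPrime.Finiteness
import Mathlib.RingTheory.Regular.IsSMulRegular
import Mathlib.RingTheory.Ideal.Height

set_option autoImplicit false
universe u
open CAlg

namespace Groth.Agent.S0602

open IsLocalRing

variable {R : Type u} [CommRing R] (p : Ideal R) [p.IsPrime]

noncomputable def locEquiv : Localization.AtPrime p ≃ₗ[Localization.AtPrime p] LocalizedModule p.primeCompl R :=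
  LinearEquiv.extendScalarsOfIsLocalization p.primeCompl (Localization.AtPrime p)
    (IsLocalizedModule.linearEquiv p.primeCompl (Algebra.linearMap R (Localization.AtPrime p))
      (LocalizedModule.mkLinearMap p.primeCompl R))

lemma supportDim_loc : Module.supportDim (Localization.AtPrime p) (LocalizedModule p.primeCompl R) =
    (p.height : WithBot ℕ∞) := by
  rw [← Module.supportDim_eq_of_equiv (locEquiv p), Module.supportDim_self_eq_ringKrullDim,
    IsLocalization.AtPrime.ringKrullDim_eq_height p (Localization.AtPrime p)]

lemma isSMulRegular_loc_iff (r : Localization.AtPrime p) :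
    IsSMulRegular (LocalizedModule p.primeCompl R) r ↔ IsSMulRegular (Localization.AtPrime p) r :=
  ((locEquiv p).isSMulRegular_congr r).symm

lemma smul_top_ne [Nontrivial R] [IsNoetherianRing R] :
    maximalIdeal (Localization.AtPrime p) • (⊤ : Submodule (Localization.AtPrime p) (LocalizedModule p.primeCompl R)) ≠ ⊤ := by
  intro h
  have : Module.Finite (Localization.AtPrime p) (LocalizedModule p.primeCompl R) := Module.Finite.equiv (locEquiv p)
  have h' : (⊤ : Submodule (Localization.AtPrime p) (LocalizedModule p.primeCompl R)) = ⊥ :=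
    Submodule.eq_bot_of_le_smul_of_le_jacobson_bot _ _ Module.Finite.fg_top h.ge (maximalIdeal_le_jacobson _)
  have h1 : locEquiv p 1 = 0 := (Submodule.eq_bot_iff _).1 h' _ Submodule.mem_top
  exact one_ne_zero ((locEquiv p).map_eq_zero_iff.1 h1)

/-- A Noetherian ring is reduced exactly when it satisfies the conditions R₀ and S₁. -/
theorem result (R : Type u) [CommRing R] [IsNoetherianRing R] :
    IsReduced R ↔ (LocCoh.HasRk 0 R ∧ LocCoh.HasSk 1 R R) := by
  constructor
  · intro hred
    constructor
    · intro p _ hp
      have hdim : ringKrullDim (Localization.AtPrime p) = 0 := by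
        rw [IsLocalization.AtPrime.ringKrullDim_eq_height p (Localization.AtPrime p)]
        exact congrArg _ (nonpos_iff_eq_zero.1 (by simpa using hp))
      have : Ring.KrullDimLE 0 (Localization.AtPrime p) := (Ring.krullDimLE_iff).2 hdim.le
      have hfield : IsField (Localization.AtPrime p) := Ring.KrullDimLE.isField_of_isReduced
      refine IsRegularLocalRing.of_spanFinrank_maximalIdeal_le _ ?_
      rw [IsLocalRing.isField_iff_maximalIdeal_eq.1 hfield, Submodule.spanFinrank_bot, hdim]
      rfl
    · intro p _
      rw [supportDim_loc]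
      rcases eq_or_ne p.height 0 with h0 | h0
      · exact (min_le_right _ _).trans (by rw [h0]; exact WithBot.coe_le_coe.2 zero_le)
      have : Nontrivial R := nontrivial_of_ne 0 1 fun h => (‹p.IsPrime›).ne_top ((Ideal.eq_top_iff_one _).2 (h ▸ p.zero_mem))
      obtain ⟨r, hrm, hr⟩ : ∃ r ∈ maximalIdeal (Localization.AtPrime p), IsSMulRegular (Localization.AtPrime p) r := by
        by_contra! hall
        have hsub : (maximalIdeal (Localization.AtPrime p) : Set (Localization.AtPrime p)) ⊆
            ⋃ q ∈ associatedPrimes (Localization.AtPrime p) (Localization.AtPrime p), (q : Set _) := by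
          intro r hr
          rw [biUnion_associatedPrimes_eq_zero_divisors]
          have h1 := hall r hr
          rw [isSMulRegular_iff_right_eq_zero_of_smul] at h1
          push_neg at h1
          obtain ⟨x, hx, hx0⟩ := h1
          exact ⟨x, hx0, hx⟩
        obtain ⟨q, hq, hle⟩ := (Ideal.subset_union_prime_finite (associatedPrimes.finite _ _) ⊥ ⊥
          fun q hq _ _ => hq.isPrime).1 hsub
        obtain ⟨hqp, x, hx⟩ := isAssociatedPrime_iff.1 hq
        have hmq : maximalIdeal (Localization.AtPrime p) = q := ((maximalIdeal.isMaximal _).eq_of_le hqp.ne_top hle)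
        by_cases hxu : IsUnit x
        · refine h0 ?_
          have hbot : maximalIdeal (Localization.AtPrime p) = ⊥ := by
            rw [hmq, hx]
            refine (Submodule.eq_bot_iff _).2 fun y hy => ?_
            rw [Submodule.mem_colon_singleton, Submodule.mem_bot, smul_eq_mul] at hy
            exact (hxu.mul_left_eq_zero).1 hy
          have := ringKrullDim_eq_zero_of_isField ((IsLocalRing.isField_iff_maximalIdeal_eq).2 hbot)
          rw [IsLocalization.AtPrime.ringKrullDim_eq_height p (Localization.AtPrime p)] at this
          exact_mod_cast this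
        · have hxm : x ∈ maximalIdeal (Localization.AtPrime p) := hxu
          rw [hmq, hx, Submodule.mem_colon_singleton, Submodule.mem_bot, smul_eq_mul] at hxm
          have hx0 : x = 0 := IsReduced.eq_zero _ ⟨2, by rw [pow_two]; exact hxm⟩
          refine hqp.ne_top ?_
          rw [hx, hx0]
          exact (Ideal.eq_top_iff_one _).2 (Submodule.mem_colon_singleton.2 (smul_zero _))
      refine (min_le_left _ _).trans (WithBot.coe_le_coe.2 ?_)
      unfold LocCoh.depth LocCoh.idealDepth
      rw [if_neg (smul_top_ne p)]
      refine le_iSup₂_of_le [r] ⟨?_, by simpa using hrm⟩ (by simp)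
      exact (RingTheory.Sequence.isWeaklyRegular_singleton_iff _ r).2 ((isSMulRegular_loc_iff p r).2 hr)
  · rintro ⟨hR, hS⟩
    refine ⟨fun n hn => ?_⟩
    by_contra hn0
    have : Nontrivial R := nontrivial_of_ne n 0 hn0
    have : Nontrivial (nilradical R) := ⟨⟨⟨n, mem_nilradical.2 hn⟩, 0, fun h => hn0 (congrArg Subtype.val h)⟩⟩
    obtain ⟨p, hp⟩ := associatedPrimes.nonempty R (nilradical R)
    obtain ⟨hpp, y, hy⟩ := isAssociatedPrime_iff.1 hp
    let y' : Localization.AtPrime p := algebraMap R _ (y : R)
    have hy' : y' ≠ 0 := fun h => by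
      obtain ⟨⟨s, hs⟩, hsy⟩ := (IsLocalization.map_eq_zero_iff p.primeCompl _ _).1 h
      refine hs ?_
      rw [hy, SetLike.mem_coe, Submodule.mem_colon_singleton, Submodule.mem_bot]
      exact Subtype.ext hsy
    have hkill : ∀ r ∈ maximalIdeal (Localization.AtPrime p), r * y' = 0 := by
      intro r hr
      rw [← Localization.AtPrime.map_eq_maximalIdeal] at hr
      refine Submodule.span_induction ?_ (zero_mul _) (fun a b _ _ ha hb => by rw [add_mul, ha, hb, add_zero])
        (fun c a _ ha => by rw [smul_eq_mul, mul_assoc, ha, mul_zero]) hr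
      rintro _ ⟨a, ha, rfl⟩
      change a ∈ (p : Set R) at ha
      rw [SetLike.mem_coe, hy, Submodule.mem_colon_singleton, Submodule.mem_bot] at ha
      rw [← map_mul]
      exact (congrArg (fun z : nilradical R => algebraMap R (Localization.AtPrime p) (z : R)) ha).trans (map_zero _)
    have hdepth : LocCoh.depth (Localization.AtPrime p) (LocalizedModule p.primeCompl R) = 0 := by
      unfold LocCoh.depth LocCoh.idealDepth
      rw [if_neg (smul_top_ne p)]
      refine le_antisymm (iSup₂_le fun rs h => ?_) zero_le
      rcases rs with _ | ⟨r, rs⟩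
      · simp
      · exfalso
        have hr := (isSMulRegular_loc_iff p r).1 ((RingTheory.Sequence.isWeaklyRegular_cons_iff _ r rs).1 h.1).1
        exact hy' ((isSMulRegular_iff_right_eq_zero_of_smul.1 hr) _ (hkill r (h.2 r List.mem_cons_self)))
    have hh := hS p
    rw [supportDim_loc, hdepth, min_le_iff] at hh
    have hht : p.height = 0 := by
      rcases hh with h | h
      · exact absurd h (by exact_mod_cast one_ne_zero ∘ le_antisymm_iff.2 ∘ fun h => ⟨h, zero_le⟩)
      · exact nonpos_iff_eq_zero.1 (WithBot.coe_le_coe.1 h)
    have hreg := hR p (by rw [hht]; exact zero_le)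
    have hm0 : maximalIdeal (Localization.AtPrime p) = ⊥ := by
      have h := (isRegularLocalRing_iff _).1 hreg
      rw [IsLocalization.AtPrime.ringKrullDim_eq_height p (Localization.AtPrime p), hht] at h
      exact (Submodule.spanFinrank_eq_zero_iff_eq_bot (IsNoetherian.noetherian _)).1 (by exact_mod_cast h)
    refine hy' ?_
    have hmem : y' ∈ maximalIdeal (Localization.AtPrime p) := fun hu => by
      obtain ⟨k, hk⟩ := (mem_nilradical.1 y.2).map (algebraMap R (Localization.AtPrime p))
      exact not_isUnit_zero (hk ▸ hu.pow k)
    rwa [hm0, Ideal.mem_bot] at hmem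

end Groth.Agent.S0602
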