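import Groth.Statements.S14359
import Mathlib.RingTheory.Ideal.KrullsHeightTheorem
import Mathlib.RingTheory.IntegralClosure.IsIntegral.Basic
import Mathlib.RingTheory.IntegralClosure.IntegrallyClosed
import Mathlib.RingTheory.Ideal.AssociatedPrime.Basic

set_option autoImplicit false
universe u
open CAlg

namespace Groth.Agent.S14359

/-- Let A be a Noetherian integrally closed integral domain and b a nonzero element of A. Then every
associated prime of the A-module A/(b) has height one, so that A/(b) has no embedded associated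
primes. -/
theorem result
    (A : Type u) [CommRing A] [IsDomain A] [IsNoetherianRing A] [IsIntegrallyClosed A]
    (b : A) (hb : b ≠ 0) (p : Ideal A) (hp : p ∈ associatedPrimes A (A ⧸ Ideal.span {b})) :
    p.height = 1 := by
  obtain ⟨hPp, y, hy⟩ := isAssociatedPrime_iff.1 hp
  obtain ⟨d, rfl⟩ := Ideal.Quotient.mk_surjective y
  have hmem : ∀ c, c ∈ p ↔ b ∣ c * d := fun c => by
    rw [hy, Submodule.mem_colon_singleton, Submodule.mem_bot, ← Ideal.mem_span_singleton, ← Ideal.Quotient.eq_zero_iff_mem, map_mul]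
    rfl
  have hbP : b ∈ p := (hmem b).2 (dvd_mul_right b d)
  have hP0 : p ≠ ⊥ := fun e => hb (by rw [e] at hbP; exact hbP)
  obtain ⟨a, ha, c', hc', hac⟩ : ∃ a ∈ p, ∃ c', c' ∉ p ∧ a * d = b * c' := by
    by_contra! hall
    let K := FractionRing A
    let z : K := algebraMap A K d / algebraMap A K b
    have hb0 : algebraMap A K b ≠ 0 := (map_ne_zero_iff _ (IsFractionRing.injective A K)).2 hb
    have hz : IsIntegral A z := by
      refine isIntegral_of_smul_mem_submodule (Submodule.map (Algebra.linearMap A K) p) ?_ ((IsNoetherian.noetherian p).map _) z ?_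
      · rw [ne_eq, ← le_bot_iff, Submodule.map_le_iff_le_comap, Submodule.comap_bot, LinearMap.ker_eq_bot.2 (show Function.Injective (Algebra.linearMap A K) from IsFractionRing.injective A K)]
        exact fun e => hP0 (le_bot_iff.1 e)
      · rintro _ ⟨c, hc, rfl⟩
        obtain ⟨e, he⟩ := (hmem c).1 hc
        refine ⟨e, by_contra fun he' => hall c hc e he' he, ?_⟩
        show algebraMap A K e = z • algebraMap A K c
        rw [smul_eq_mul, div_mul_eq_mul_div, eq_div_iff hb0, ← map_mul, ← map_mul, mul_comm d, he, mul_comm e]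
    obtain ⟨w, hw⟩ := IsIntegrallyClosed.isIntegral_iff.1 hz
    refine hPp.ne_top ((Ideal.eq_top_iff_one p).2 ((hmem 1).2 ⟨w, ?_⟩))
    apply IsFractionRing.injective A K
    rw [one_mul, map_mul, hw, mul_div_cancel₀ _ hb0]
  have hle1 : p.height ≤ 1 := by
    refine Ideal.height_le_one_of_isPrincipal_of_mem_minimalPrimes (Ideal.span {a}) p
      ⟨⟨hPp, (Ideal.span_singleton_le_iff_mem p).2 ha⟩, fun Q hQ hQP c hc => ?_⟩
    obtain ⟨e, he⟩ := (hmem c).1 hc
    have h1 : c * c' = a * e := mul_left_cancel₀ hb (by linear_combination (-c) * hac + a * he)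
    have h2 : c * c' ∈ Q := h1 ▸ Q.mul_mem_right e (hQ.2 (Ideal.mem_span_singleton_self a))
    exact (hQ.1.mem_or_mem h2).resolve_right fun h3 => hc' (hQP h3)
  exact le_antisymm hle1 (Order.one_le_iff_ne_zero.2 fun e => hP0 (by
    have h' := (Ideal.height_le_iff (n := 0)).1 (le_of_eq e)
    by_contra hne
    exact absurd (h' ⊥ Ideal.isPrime_bot (bot_lt_iff_ne_bot.2 hne)) not_lt_zero))

end Groth.Agent.S14359
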