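import Groth.Statements.S0674
import Groth.Agent.EtBCQ.DegZero
import Groth.Agent.S0094
-- import your own Groth.Agent.* helpers here

set_option autoImplicit false
set_option backward.isDefEq.respectTransparency false
set_option backward.isDefEq.respectTransparency.types false
set_option maxHeartbeats 1000000
set_option linter.style.haveILetI false
open CategoryTheory CategoryTheory.Limits AlgebraicGeometry Opposite
universe u
open EtCore

namespace Groth.Agent.S0674

/-- Let f : X -> S be flat and assume that for every point x of X and all strict henselizations R_S of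
the local ring of S at f(x) and R_X of the local ring of X at x, every local homomorphism R_S -> R_X
compatible with the map of local rings induces a morphism Spec R_X -> Spec R_S with connected
geometric fibres. Then for every cartesian square Y = X x_S T with g : T -> S quasi-compact and
quasi-separated and projections h : Y -> X, e : Y -> T, the base change map from f^{-1} g_* F to h_*
e^{-1} F is an isomorphism for every abelian sheaf F on the small etale site of T. -/
theorem result {X S : Scheme.{u}} (f : X ⟶ S) [Flat f]
    (hconn : ∀ (x : X) (RS : Type u) [CommRing RS] [IsLocalRing RS] [Algebra (S.presheaf.stalk (f.base x)) RS]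
      [IsLocalHom (algebraMap (S.presheaf.stalk (f.base x)) RS)]
      [Hensel.IsStrictHenselization (S.presheaf.stalk (f.base x)) RS]
      (RX : Type u) [CommRing RX] [IsLocalRing RX] [Algebra (X.presheaf.stalk x) RX]
      [IsLocalHom (algebraMap (X.presheaf.stalk x) RX)] [Hensel.IsStrictHenselization (X.presheaf.stalk x) RX]
      (ψ : RS →+* RX) [IsLocalHom ψ],
      ψ.comp (algebraMap (S.presheaf.stalk (f.base x)) RS) = (algebraMap (X.presheaf.stalk x) RX).comp (f.stalkMap x).hom →
      ∀ (Ω : Type u) [Field Ω] [IsAlgClosed Ω] (η : Spec (CommRingCat.of Ω) ⟶ Spec (CommRingCat.of RS)),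
        ConnectedSpace ↥(pullback (Spec.map (CommRingCat.ofHom ψ)) η))
    {Y T : Scheme.{u}} (g : T ⟶ S) [QuasiCompact g] [QuasiSeparated g] (h : Y ⟶ X) (e : Y ⟶ T)
    (hsq : IsPullback e h g f) (F : EtCoh.Ab T) :
    IsIso (EtCoh.baseChange0 g f h e hsq.w F) := by
  haveI : PreservesFiniteLimits (EtCoh.pull e) := EtCohDesc.pull_preservesFiniteLimits e
  haveI : IsIso (EtBC.bcQ g f h e hsq.w 0 F) := by
    refine (EtBCQ.isIso_bcQ_iff_restr f g h e hsq F 0).1 ?_
    intro x RS _ _ _ _ _ RX _ _ _ _ _ ψ _ hψ PS PX aS bS HS aX bX HX m w wb _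
    have hflat : ψ.Flat := EtBCQ.flat_of_strict (f.stalkMap x).hom (Flat.stalkMap f x)
      (algebraMap (X.presheaf.stalk x) RX) (RingHom.flat_algebraMap_iff.mpr (Hensel.strictHenselization_flat (X.presheaf.stalk x) RX)) ψ hψ
    haveI hF : Flat (Spec.map (CommRingCat.ofHom ψ)) := Flat.SpecMap_iff.mpr hflat
    have hsq' : IsPullback m bX bS (Spec.map (CommRingCat.ofHom ψ)) := by
      refine IsPullback.of_right ?_ wb HS
      rw [w, ← EtBCQ.specOf_comp f x RS RX ψ hψ]
      exact HX
    haveI : Flat m := MorphismProperty.of_isPullback (P := @Flat) hsq'.flip hF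
    haveI : QuasiCompact m := MorphismProperty.of_isPullback (P := @QuasiCompact) hsq'.flip inferInstance
    refine EtBCQ.bijective_HpullVia_zero m aS aX w F (S0094.result m (fun Ω _ _ s => ?_) _)
    let s' : Spec (CommRingCat.of Ω) ⟶ Spec (CommRingCat.of RS) := s ≫ bS
    haveI := hconn x RS RX ψ hψ Ω s'
    let φh := (Scheme.homeoOfIso (((IsPullback.of_hasPullback m s).paste_horiz hsq'.flip).isoPullback)).symm
    exact φh.surjective.connectedSpace φh.continuous
  exact EtBCQ.isIso_baseChange0_of_bcQ g f h e hsq.w F

end Groth.Agent.S0674
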