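import Groth.Statements.S0164
import Groth.Agent.S0674
import Groth.Agent.GeomConn.Basic
import Groth.Agent.GeomConnSep.Basic
-- import your own Groth.Agent.* helpers here

set_option autoImplicit false
set_option backward.isDefEq.respectTransparency false
set_option backward.isDefEq.respectTransparency.types false
set_option maxHeartbeats 1000000
set_option linter.style.haveILetI false
universe u
open CategoryTheory CategoryTheory.Limits AlgebraicGeometry Opposite
open EtPBC

namespace Groth.Agent.S0164

open IsLocalRing

theorem connected_spec_local (A : Type u) [CommRing A] [IsLocalRing A] : ConnectedSpace (PrimeSpectrum A) := by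
  haveI : Nonempty (PrimeSpectrum A) := ⟨closedPoint A⟩
  haveI : PreconnectedSpace (PrimeSpectrum A) := by
    refine preconnectedSpace_iff_clopen.mpr fun W hW => ?_
    by_cases hc : closedPoint A ∈ W
    · exact Or.inr (Set.eq_univ_of_forall fun p => (IsLocalRing.specializes_closedPoint p).mem_open hW.2 hc)
    · refine Or.inl (Set.eq_empty_of_forall_notMem fun p hp => hc ?_)
      exact (IsLocalRing.specializes_closedPoint p).mem_closed hW.1 hp
  exact ⟨inferInstance⟩

theorem connected_pullback {k : Type u} [Field k] [IsSepClosed k] {Z : Scheme.{u}} (b : Z ⟶ Spec (CommRingCat.of k))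
    [ConnectedSpace Z] (Ω : Type u) [Field Ω] [Algebra k Ω] :
    ConnectedSpace ↥(pullback b (Spec.map (CommRingCat.ofHom (algebraMap k Ω)))) := by
  let g := Spec.map (CommRingCat.ofHom (algebraMap k (AlgebraicClosure k)))
  haveI : IsPurelyInseparable k (AlgebraicClosure k) := inferInstance
  haveI : UniversallyInjective g := GeomConnSep.universallyInjective_spec
  haveI : UniversallyOpen g := Groth.Agent.GrpField.PointBase.uopen _ g
  haveI : Surjective g := Groth.Agent.GrpField.PointBase.surj _ g
  let p := pullback.fst b g
  haveI : UniversallyInjective p := MorphismProperty.pullback_fst (P := @UniversallyInjective) b g inferInstance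
  haveI : UniversallyOpen p := MorphismProperty.pullback_fst (P := @UniversallyOpen) b g inferInstance
  haveI : Surjective p := MorphismProperty.pullback_fst (P := @Surjective) b g inferInstance
  let φh : ↥(pullback b g) ≃ₜ Z :=
    (Equiv.ofBijective _ (show Function.Bijective p from ⟨p.injective, p.surjective⟩)).toHomeomorphOfContinuousOpen
      p.continuous p.isOpenMap
  haveI : ConnectedSpace ↥(pullback b g) := φh.symm.surjective.connectedSpace φh.symm.continuous
  have h := GeomConn.isConnected_preimage_of_algClosure (K := Ω) b (C := Set.univ)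
    (by rw [Set.preimage_univ]; exact isConnected_univ)
  rw [Set.preimage_univ] at h
  exact connectedSpace_iff_univ.mpr h

theorem isIso_spec {k : Type u} [Field k] [IsSepClosed k] {s : Spec (CommRingCat.of k)}
    (P : EtBCQ.SH (Spec (CommRingCat.of k)) s) : IsIso P.spec := by
  haveI : HenselianLocalRing k := inferInstance
  haveI : IsSepClosed (ResidueField k) := Hensel.isSepClosed_of_ringEquiv
    (RingEquiv.ofBijective (residue k) ⟨(residue k).injective, residue_surjective⟩)
  haveI : Subsingleton (Spec (CommRingCat.of k)) := inferInstanceAs (Subsingleton (PrimeSpectrum k))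
  obtain ⟨ψ, hψl, hψ⟩ := EtBCQ.exists_strict_hom P (B := k) (𝟙 _) (Subsingleton.elim _ _)
  obtain ⟨φc, hφ⟩ := Spec.map_surjective P.spec
  let χ : P.R →+* P.R := φc.hom.comp ψ
  have hψφ : ψ.comp φc.hom = RingHom.id k := by
    rw [← hφ, ← Spec.map_comp] at hψ
    exact congrArg CommRingCat.Hom.hom (Spec.map_injective (hψ.trans (Spec.map_id _).symm))
  have hχ : χ = RingHom.id P.R := by
    refine (EtBCQ.existsUnique_strict P (B := P.R) (C := k) P.spec ψ ψ rfl).unique ⟨?_, ?_⟩ ⟨?_, ?_⟩
    · rw [CommRingCat.ofHom_comp, Spec.map_comp, Category.assoc, hψ, Category.comp_id]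
      exact hφ
    · rw [← RingHom.comp_assoc, hψφ, RingHom.id_comp]
    · rw [show CommRingCat.ofHom (RingHom.id P.R) = 𝟙 _ from rfl, Spec.map_id, Category.id_comp]
    · rw [RingHom.comp_id]
  refine ⟨Spec.map (CommRingCat.ofHom ψ), ?_, hψ⟩
  rw [← hφ, ← Spec.map_comp, ← Spec.map_id]
  exact congrArg Spec.map (CommRingCat.hom_ext hχ)

/-- Let k be a separably closed field and S = Spec k. Let f : X → S be any morphism, g : T → S
quasi-compact and quasi-separated, and Y = X ×_S T with projections h : Y → X and e : Y → T. Then
for every abelian sheaf F on T_ét the base change map f^* g_* F → h_* e^* F is an isomorphism. (The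
published statement is for sheaves of sets; it is stated here for abelian sheaves.) -/
theorem result {k : Type u} [Field k] [IsSepClosed k]
    {X Y T : Scheme.{u}} (f : X ⟶ Spec (CommRingCat.of k)) (g : T ⟶ Spec (CommRingCat.of k))
    [QuasiCompact g] [QuasiSeparated g] (h : Y ⟶ X) (e : Y ⟶ T) (hc : IsPullback e h g f)
    [EtCoh.BCCont f] [EtCoh.BCCont g] [EtCoh.BCCont h] [EtCoh.BCCont e] (F : EtCoh.Ab T) :
    IsIso (EtCoh.baseChange0 g f h e hc.w F) := by
  haveI : Subsingleton (Spec (CommRingCat.of k)) := inferInstanceAs (Subsingleton (PrimeSpectrum k))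
  haveI : Flat f := inferInstance
  refine S0674.result f ?_ g h e hc F
  intro x RS _ _ _ _ _ RX _ _ _ _ _ ψ _ hψ Ω _ _ η
  let PSs : EtBCQ.SH (Spec (CommRingCat.of k)) (f.base x) := { R := RS }
  haveI := isIso_spec PSs
  obtain ⟨φ, hφ⟩ := Spec.map_surjective (η ≫ PSs.spec)
  letI : Algebra k Ω := φ.hom.toAlgebra
  haveI : ConnectedSpace ↥(Spec (CommRingCat.of RX)) := connected_spec_local RX
  let b : Spec (CommRingCat.of RX) ⟶ Spec (CommRingCat.of k) := Spec.map (CommRingCat.ofHom ψ) ≫ PSs.spec
  have hP : IsPullback (pullback.fst (Spec.map (CommRingCat.ofHom ψ)) η) (pullback.snd (Spec.map (CommRingCat.ofHom ψ)) η)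
      b (Spec.map (CommRingCat.ofHom (algebraMap k Ω))) := by
    refine IsPullback.of_iso (IsPullback.of_hasPullback (Spec.map (CommRingCat.ofHom ψ)) η)
      (Iso.refl _) (Iso.refl _) (Iso.refl _) (asIso PSs.spec) (by simp) (by simp) (by simp [b]) ?_
    simp only [asIso_hom, Iso.refl_hom, Category.id_comp]
    exact hφ.symm
  haveI := connected_pullback b Ω
  let φh := (Scheme.homeoOfIso hP.isoPullback).symm
  exact φh.surjective.connectedSpace φh.continuous

end Groth.Agent.S0164
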