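import Groth.Statements.S13505
import Groth.Agent.EtCons.FinShriek
import Groth.Agent.EtCons.FinStratum
import Groth.Agent.EtCons.Basic
import Groth.Agent.EtFLC.PushFlc
import Groth.Agent.EtPushStalk.ShriekBC
import Groth.Agent.EtMV.Etale
import Groth.Agent.EtCons.PullFLC
import Groth.Agent.EtCons.Strata
import Groth.Agent.FpqcDescent.Sep
-- import your own Groth.Agent.* helpers here

set_option autoImplicit false
universe u
open CategoryTheory CategoryTheory.Limits AlgebraicGeometry
open EtPBC

namespace Groth.Agent.S13505

/-- Let f : U → X be an étale morphism with U and X quasi-compact and quasi-separated, and F an abelian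
sheaf on the small étale site of U which is finite locally constant (on some étale covering of U it
becomes constant with finite value group). Then the extension by zero f_! F is constructible on X.
(Continuity of the functor V ↦ (V → U → X) between the small étale sites, which always holds, is
carried as an instance hypothesis.) -/
theorem result {U X : Scheme.{u}} [CompactSpace X]
    [QuasiSeparatedSpace X] [CompactSpace U] [QuasiSeparatedSpace U] (f : U ⟶ X) [Etale f]
    [EtShriek.JCont f] (F : EtCoh.Ab U) (hF : EtCoh.IsFiniteLocallyConstant F) :
    EtPBC.IsConstructible ((EtShriek.extZero f).obj F) := by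
  haveI : QuasiCompact f := by
    haveI : QuasiCompact (f ≫ terminal.from X) := by
      rw [Subsingleton.elim (f ≫ terminal.from X) (terminal.from U)]
      exact (quasiCompact_iff_compactSpace _).2 inferInstance
    haveI : QuasiSeparated (terminal.from X) := (quasiSeparatedSpace_iff_quasiSeparated X).1 inferInstance
    exact MorphismProperty.of_postcomp @QuasiCompact f (terminal.from X) ‹_› ‹_›
  haveI : LocallyQuasiFinite f := FpqcDescent.locallyQuasiFinite_of_etale f
  rw [EtCons.isConstructible_iff]
  intro x
  obtain ⟨D, hD, hxD, -⟩ := EtCons.exists_affine_le (V := (⊤ : X.Opens)) (x := x) trivial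
  obtain ⟨T, c, hc, _, hfin, hxc, _, hC⟩ := EtCons.exists_finite_stratum f hD (f.isCompact_preimage hD.isCompact) hxD
  haveI := hfin
  haveI : EtShriek.JCont (pullback.snd f c) := EtMV.jcont_etale _
  refine ⟨D, hD, hxD, T, c, _, hc, hC, ⟨hxD, hxc⟩, Set.image_preimage_subset _ _, ?_⟩
  refine EtCons.isFLC_of_iso ?_ (EtFLC.isFLC_push (pullback.snd f c)
    (EtCons.isFLC_pull (pullback.fst f c) hF))
  exact (EtCons.shriekPushIso (pullback.snd f c) _).symm ≪≫
    (EtPushStalk.shriekPullIso f c (pullback.snd f c) (pullback.fst f c)
      (IsPullback.of_hasPullback f c).flip).app F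

end Groth.Agent.S13505
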