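import Groth.Statements.S0133
import Groth.Agent.EtCons.ExtZeroConst
import Groth.Agent.EtCons.NoethCons
import Groth.Agent.S13505
-- import your own Groth.Agent.* helpers here

set_option autoImplicit false
universe u
open CategoryTheory CategoryTheory.Limits AlgebraicGeometry Opposite
open EtPBC

namespace Groth.Agent.S0133

/-- (2): for j : U -> X etale with U and X quasi-compact and quasi-separated and M a finite abelian
group, j_! M is a constructible abelian sheaf on X_et. -/
theorem result (X : Scheme.{u}) [CompactSpace X] [QuasiSeparatedSpace X]
    (U : X.Etale) [CompactSpace U.left] [QuasiSeparatedSpace U.left]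
    (M : Type) [AddCommGroup M] [Finite M] :
    EtPBC.IsConstructible (EtPBC.extZeroConst U M) := by
  let j : U.left ⟶ X := U.hom
  haveI hj : Etale j := U.prop
  haveI : Etale U.hom := U.prop
  haveI hc : EtShriek.JCont j := EtMV.jcont_etale j
  haveI : EtShriek.JCont U.hom := hc
  exact EtCons.isConstructible_of_iso (EtCons.extZeroConstIso U M)
    (S13505.result j (EtCoh.const U.left M) (EtCons.isFLC_const M))

end Groth.Agent.S0133
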