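import Groth.Statements.S0168
import Groth.Agent.TopPull.Sections
import Groth.Agent.ZarConn.ProperFT

set_option autoImplicit false
universe u
open CategoryTheory CategoryTheory.Limits AlgebraicGeometry Opposite
open EtPBC

namespace Groth.Agent.S0168

/-- (A, I) a henselian pair, f : X -> Spec A proper, Z ⊆ X the closed subset X x_{Spec A} Spec (A/I)
(the image of the first projection). For any sheaf of sets F on the underlying topological space of
X, restriction Gamma(X, F) -> Gamma(Z, F|_Z) is bijective; written as the global-sections component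
of the unit F -> i_* i^* F for the inclusion i : Z -> X of topological spaces. -/
theorem result (A : Type u) [CommRing A] (I : Ideal A) [HenselianRing A I]
    (X : Scheme.{u}) (f : X ⟶ Spec (CommRingCat.of A)) [IsProper f]
    (F : TopCat.Sheaf (Type u) X.carrier) :
    Function.Bijective
      (((TopCat.Sheaf.pullbackPushforwardAdjunction (Type u)
        (TopCat.ofHom ⟨(Subtype.val :
          (Set.range (pullback.fst f (Spec.map (CommRingCat.ofHom (Ideal.Quotient.mk I))))) → X),
          continuous_subtype_val⟩)).unit.app F).hom.app (op ⊤)) := by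
  haveI : CompactSpace X := QuasiCompact.compactSpace_of_compactSpace f
  haveI : QuasiSeparatedSpace X := quasiSeparatedSpace_of_quasiSeparated f
  haveI : SpectralSpace ↥X.carrier := {}
  let ι := pullback.fst f (Spec.map (CommRingCat.ofHom (Ideal.Quotient.mk I)))
  have hrange : Set.range ι = {x : X | I ≤ (f x).asIdeal} := Groth.Agent.ZarConn.range_fst_quotient I f
  haveI : IsClosedImmersion ι := MorphismProperty.pullback_fst _ _ inferInstance
  refine Groth.Agent.TopPull.unit_app_top_bijective F (Set.range ι) ι.isClosedEmbedding.isClosed_range fun x ↦ ?_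
  let q := (Scheme.IdealSheafData.vanishingIdeal (⟨closure {x}, isClosed_closure⟩ : TopologicalSpace.Closeds X)).subschemeι
  have hq : Set.range q = closure {x} := by
    rw [Scheme.IdealSheafData.range_subschemeι, Scheme.IdealSheafData.coe_support_vanishingIdeal]
    rfl
  obtain ⟨x', hx'⟩ := hq.ge (subset_closure rfl)
  have hdense : ∀ W : Set _, IsClopen W → x' ∈ W → W = Set.univ := fun W hW hW' ↦
    Set.eq_univ_of_forall fun y ↦ by
      have : x' ⤳ y := by
        rw [← q.isEmbedding.isInducing.specializes_iff, hx', specializes_iff_mem_closure]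
        exact hq.le ⟨y, rfl⟩
      exact this.mem_closed hW.1 hW'
  let T : Set _ := {y | I ≤ ((q ≫ f) y).asIdeal}
  have hT : IsClosed T := (PrimeSpectrum.isClosed_zeroLocus (I : Set A)).preimage (q ≫ f).continuous
  have hTc : _root_.IsConnected T := by
    obtain ⟨y, -, hy⟩ := Groth.Agent.ZarConn.exists_mem_over_ideal (q ≫ f)
      (HenselianRing.jac : I ≤ Ideal.jacobson ⊥) Set.univ isClosed_univ ⟨x', trivial⟩
    refine ⟨⟨y, hy⟩, isPreconnected_closed_iff.mpr fun C D hC hD hcov hTC hTD ↦ ?_⟩
    by_contra hne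
    obtain ⟨W, hW, h1, h2⟩ := Groth.Agent.ZarConn.exists_clopen_extension_proper I (q ≫ f) (T ∩ C) (T ∩ D)
      (hT.inter hC) (hT.inter hD) (Set.disjoint_left.mpr fun z ⟨hz, hzC⟩ ⟨_, hzD⟩ ↦ hne ⟨z, hz, hzC, hzD⟩)
      (fun z ↦ ⟨fun hz ↦ (hcov hz).imp (fun h ↦ ⟨hz, h⟩) fun h ↦ ⟨hz, h⟩, fun h ↦ h.elim And.left And.left⟩)
    by_cases hxW : x' ∈ W
    · obtain ⟨d, hd⟩ := hTD
      exact h2.notMem_of_mem_left hd ((hdense W hW hxW).ge trivial)
    · obtain ⟨c, hc⟩ := hTC
      exact ((hdense Wᶜ hW.compl hxW).ge trivial : c ∈ Wᶜ) (h1 hc)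
  have himg : q '' T = Set.range ι ∩ closure {x} := by
    refine (Set.image_preimage_eq_inter_range (f := ⇑q) (t := {y : X | I ≤ (f y).asIdeal})).trans ?_
    exact congrArg₂ (· ∩ ·) hrange.symm hq
  rw [← himg]
  exact hTc.image q q.continuous.continuousOn

end Groth.Agent.S0168
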