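import Groth.Statements.S14785
import Groth.Agent.SubtrLib.UltraLim

set_option autoImplicit false
universe u
open CategoryTheory CategoryTheory.Limits AlgebraicGeometry
open Subtr

namespace Groth.Agent.S14785
/-- If `f` is universally S-subtrusive, so is one of the stages. -/
theorem exists_stage {I : Type u} [SmallCategory I] [IsCofiltered I]
    (D : I ⥤ Scheme.{u}) (c : Limits.Cone D) (hc : Limits.IsLimit c)
    [∀ (i j : I) (a : i ⟶ j), IsAffineHom (D.map a)] {i₀ : I}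
    {X₀ Y₀ : Scheme.{u}} (f₀ : X₀ ⟶ Y₀) (g₀ : Y₀ ⟶ D.obj i₀) [CompactSpace Y₀]
    [LocallyOfFinitePresentation f₀]
    {X Y : Scheme.{u}} (f : X ⟶ Y) (g : Y ⟶ c.pt) (qY : Y ⟶ Y₀) (qX : X ⟶ X₀)
    (hY : IsPullback qY g g₀ (c.π.app i₀)) (hX : IsPullback qX f f₀ qY)
    (hf : Subtr.UnivSSubtrusive f) :
    ∃ j : Over i₀, Subtr.UnivSSubtrusive (LimDesc.stageMap D g₀ f₀ j) := by
  classical
  by_contra hno
  push Not at hno
  have hbad : ∀ j : Over i₀, ∃ (W : Type u) (_ : CommRing W) (_ : IsDomain W) (_ : ValuationRing W),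
      SubtrLib.IsAIC W ∧ ∃ h : Spec (CommRingCat.of W) ⟶ LimDesc.stage D g₀ j,
        ¬ ∃ a : Spec (CommRingCat.of W) ⟶ X₀, a ≫ f₀ = h ≫ LimDesc.toBase D g₀ j := by
    intro j
    by_contra hh
    push Not at hh
    refine hno j (SubtrLib.univSSubtrusive_of_sections _ fun W _ _ _ hW h => ?_)
    obtain ⟨a, ha⟩ := hh W inferInstance inferInstance inferInstance hW h
    refine ⟨(LimDesc.isPullback_stageMap D g₀ f₀ j).lift a h ha, ?_⟩
    rw [IsPullback.lift_snd]
  choose W i1 i2 i3 hW h hh using hbad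
  letI := i1
  haveI := i2
  haveI := i3
  obtain ⟨α, U, k, O, hO, ρ, hρ, g', hg'⟩ := SubtrLib.exists_ultra_point D c hc g₀ hY W h
  haveI : LocallyOfFiniteType f₀ := inferInstance
  haveI : LocallyOfFiniteType f := MorphismProperty.of_isPullback (P := @LocallyOfFiniteType) hX ‹_›
  obtain ⟨a, ha⟩ := SubtrLib.exists_section f hf (SubtrLib.isAIC_uprod (U := U) fun a => hW (k a)) g'
  let P := SubtrLib.UProd U fun a => W (k a)
  let ρ' : Γ(Y₀, O) →+* P := (SubtrLib.germ U fun a => W (k a)).comp (Pi.ringHom ρ)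
  have hb : (a ≫ qX) ≫ f₀ = Spec.map (CommRingCat.ofHom ρ') ≫ hO.fromSpec := by
    rw [Category.assoc, hX.w, ← Category.assoc, ha, hg']
  let pt : Spec (CommRingCat.of P) := IsLocalRing.closedPoint P
  have hmem : (a ≫ qX) pt ∈ f₀ ⁻¹ᵁ O := by
    show f₀ ((a ≫ qX) pt) ∈ O
    rw [← Scheme.Hom.comp_apply, hb, Scheme.Hom.comp_apply, ← SetLike.mem_coe, ← hO.range_fromSpec]
    exact ⟨_, rfl⟩
  obtain ⟨M, hM, hMmem, hMle⟩ := exists_isAffineOpen_mem_and_subset (x := (a ≫ qX) pt) (U := f₀ ⁻¹ᵁ O) hmem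
  have e : M ≤ f₀ ⁻¹ᵁ O := hMle
  obtain ⟨σ, hσ⟩ := SubtrLib.exists_ringHom_of_closedPoint_mem (a ≫ qX) hM hMmem
  letI := (f₀.appLE O M e).hom.toAlgebra
  haveI : Algebra.FinitePresentation Γ(Y₀, O) Γ(X₀, M) :=
    HasRingHomProperty.appLE (P := @LocallyOfFinitePresentation) f₀ inferInstance ⟨O, hO⟩ ⟨M, hM⟩ e
  have hσ' : CommRingCat.ofHom ρ' = f₀.appLE O M e ≫ CommRingCat.ofHom σ := by
    apply Spec.map_injective
    rw [← cancel_mono hO.fromSpec, Spec.map_comp, Category.assoc,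
      IsAffineOpen.SpecMap_appLE_fromSpec _ hO hM e, ← Category.assoc, hσ, hb]
  obtain ⟨b, s, hs⟩ := (SubtrLib.exists_algHom_of_uprod (B := Γ(X₀, M)) (fun a => ρ a) σ (fun r => by
    exact (RingHom.congr_fun (congrArg CommRingCat.Hom.hom hσ') r).symm)).exists
  refine hh (k b) ⟨Spec.map (CommRingCat.ofHom s) ≫ hM.fromSpec, ?_⟩
  rw [← hρ b, Category.assoc, ← IsAffineOpen.SpecMap_appLE_fromSpec f₀ hO hM e, ← Category.assoc,
    ← Spec.map_comp]
  congr 2
  exact CommRingCat.hom_ext hs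


/-- Let S = lim S_i be a cofiltered limit of schemes with affine transition morphisms, Y₀ a
quasi-compact scheme over a stage S_{i₀}, f₀ : X₀ ⟶ Y₀ a morphism of finite presentation and f : X ⟶
Y its base change to S (base changes expressed by pullback squares). If every base change of f has
the lifting property for ordered pairs of points, then for some stage S_i over S_{i₀} the base
change f_i : X_i ⟶ Y_i of f₀ already has this property. (The published statement assumes the stage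
over which the system lives quasi-compact and puts no condition on Y₀. For the system ℤ[1/N] with
limit ℚ, Y₀ an infinite disjoint union of copies of Spec ℤ and X₀ the disjoint union over the primes
p of Spec ℤ[1/p] ⊔ Spec 𝔽_p mapping to the copy indexed by p, the limit morphism is an isomorphism
while no stage has the property; so Y₀ is taken quasi-compact here, which is what the reduction to
an affine base uses.) -/
theorem result {I : Type u} [SmallCategory I] [IsCofiltered I]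
    (D : I ⥤ Scheme.{u}) (c : Limits.Cone D) (hc : Limits.IsLimit c)
    [∀ (i j : I) (a : i ⟶ j), IsAffineHom (D.map a)] (i₀ : I)
    {X₀ Y₀ : Scheme.{u}} (f₀ : X₀ ⟶ Y₀) (g₀ : Y₀ ⟶ D.obj i₀) [CompactSpace Y₀]
    [LocallyOfFinitePresentation f₀] [QuasiCompact f₀] [QuasiSeparated f₀]
    {X Y : Scheme.{u}} (f : X ⟶ Y) (g : Y ⟶ c.pt) (qY : Y ⟶ Y₀) (qX : X ⟶ X₀)
    (hY : IsPullback qY g g₀ (c.π.app i₀)) (hX : IsPullback qX f f₀ qY)
    (hf : Subtr.UnivSSubtrusive f) :
    ∃ (i : I) (φ : i ⟶ i₀) (Xi Yi : Scheme.{u}) (fi : Xi ⟶ Yi) (gi : Yi ⟶ D.obj i) (pY : Yi ⟶ Y₀)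
      (pX : Xi ⟶ X₀), IsPullback pY gi g₀ (D.map φ) ∧ IsPullback pX fi f₀ pY ∧ Subtr.UnivSSubtrusive fi := by
  obtain ⟨j, hj⟩ := exists_stage D c hc f₀ g₀ f g qY qX hY hX hf
  exact ⟨j.left, j.hom, LimDesc.stage D (f₀ ≫ g₀) j, LimDesc.stage D g₀ j, LimDesc.stageMap D g₀ f₀ j,
    LimDesc.toStage D g₀ j, LimDesc.toBase D g₀ j, LimDesc.toBase D (f₀ ≫ g₀) j,
    LimDesc.isPullback_stage D g₀ j, LimDesc.isPullback_stageMap D g₀ f₀ j, hj⟩


end Groth.Agent.S14785
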