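import Groth.Statements.S14792
import Groth.Agent.S14785
import Groth.Agent.LimModel.FgSubalgebra

set_option autoImplicit false
universe u
open CategoryTheory CategoryTheory.Limits AlgebraicGeometry
open Subtr

namespace Groth.Agent.S14792
open Groth.Agent.LimModel in
theorem exists_model_subtr {A : Type u} [CommRing A] {X : Scheme.{u}} (f : X ⟶ Spec (CommRingCat.of A))
    [LocallyOfFinitePresentation f] [QuasiCompact f] [QuasiSeparated f] (h : Subtr.UnivSSubtrusive f) :
    ∃ A₀ : Subalgebra ℤ A, A₀.FG ∧ ∃ (X₀ : Scheme.{u}) (f₀ : X₀ ⟶ Spec (CommRingCat.of ↥A₀)) (g : X ⟶ X₀),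
      Subtr.UnivSSubtrusive f₀ ∧ LocallyOfFinitePresentation f₀ ∧ QuasiCompact f₀ ∧ QuasiSeparated f₀ ∧
        IsPullback g f f₀ (Spec.map (CommRingCat.ofHom (algebraMap (↥A₀) A))) := by
  haveI : Subtr.UnivSSubtrusive.{u}.RespectsIso := MorphismProperty.universally_respectsIso _
  haveI : IsCofiltered (FgSub A)ᵒᵖ := isCofiltered_op_of_isFiltered _
  haveI : ∀ i : (FgSub A)ᵒᵖ, CompactSpace ((fgDiagram A).obj i) := fun i => inferInstance
  haveI : ∀ i : (FgSub A)ᵒᵖ, QuasiSeparatedSpace ((fgDiagram A).obj i) := fun i => inferInstance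
  haveI : @LocallyOfFinitePresentation X (fgCone A).pt f := ‹LocallyOfFinitePresentation f›
  haveI : @QuasiCompact X (fgCone A).pt f := ‹QuasiCompact f›
  haveI : @QuasiSeparated X (fgCone A).pt f := ‹QuasiSeparated f›
  obtain ⟨i, Xi, fi, g, h1, h2, h3, h4⟩ := exists_model (fgDiagram A) (fgCone A) (fgIsLimit A) (a := (f : X ⟶ (fgCone A).pt))
  have hY : IsPullback ((fgCone A).π.app i) (𝟙 (fgCone A).pt) (𝟙 ((fgDiagram A).obj i)) ((fgCone A).π.app i) :=
    IsPullback.id_vert _
  have : CompactSpace Xi := QuasiCompact.compactSpace_of_compactSpace fi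
  haveI : ∀ (a b : (FgSub A)ᵒᵖ) (m : a ⟶ b), IsAffineHom ((fgDiagram A).map m) := fun _ _ _ => inferInstance
  obtain ⟨j, hj⟩ := Groth.Agent.S14785.exists_stage (fgDiagram A) (fgCone A) (fgIsLimit A) fi (𝟙 _) _ _ _ _ hY h4 h
  have hT := LimDesc.isPullback_stage (fgDiagram A) (𝟙 ((fgDiagram A).obj i)) j
  have hiso : IsIso (LimDesc.toStage (fgDiagram A) (𝟙 ((fgDiagram A).obj i)) j) := hT.isIso_snd_of_isIso
  have hXT := LimDesc.isPullback_stage (fgDiagram A) (fi ≫ 𝟙 _) j
  have hsq : IsPullback (LimDesc.proj (fgDiagram A) (fi ≫ 𝟙 _) (fgCone A) (LimDesc.isPullback_comp (fgDiagram A) (𝟙 _) (fgCone A) hY fi h4) j)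
      (f ≫ 𝟙 (fgCone A).pt) (LimDesc.toStage (fgDiagram A) (fi ≫ 𝟙 _) j) ((fgCone A).π.app j.left) :=
    LimDesc.isPullback_proj _ _ _ _ _
  have : LocallyOfFinitePresentation (fi ≫ 𝟙 ((fgDiagram A).obj i)) := by rw [Category.comp_id]; exact h1
  have : QuasiCompact (fi ≫ 𝟙 ((fgDiagram A).obj i)) := by rw [Category.comp_id]; exact h2
  have : QuasiSeparated (fi ≫ 𝟙 ((fgDiagram A).obj i)) := by rw [Category.comp_id]; exact h3
  refine ⟨j.left.unop.1, j.left.unop.2, LimDesc.stage (fgDiagram A) (fi ≫ 𝟙 _) j, LimDesc.toStage (fgDiagram A) (fi ≫ 𝟙 _) j,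
    LimDesc.proj (fgDiagram A) (fi ≫ 𝟙 _) (fgCone A) (LimDesc.isPullback_comp (fgDiagram A) (𝟙 _) (fgCone A) hY fi h4) j,
    ?_, MorphismProperty.of_isPullback (P := @LocallyOfFinitePresentation) hXT ‹_›,
    MorphismProperty.of_isPullback (P := @QuasiCompact) hXT ‹_›,
    MorphismProperty.of_isPullback (P := @QuasiSeparated) hXT ‹_›, ?_⟩
  · rw [← LimDesc.stageMap_toStage]
    exact MorphismProperty.RespectsIso.postcomp Subtr.UnivSSubtrusive (LimDesc.toStage (fgDiagram A) (𝟙 ((fgDiagram A).obj i)) j) _ hj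
  · have e : f ≫ 𝟙 (fgCone A).pt = f := Category.comp_id f
    rw [e] at hsq
    exact hsq



/-- (i) ⇔ (iii): let A be a commutative ring and f : X ⟶ Spec A a morphism of finite presentation. Then
every base change of f has the lifting property for ordered pairs of points if and only if there are
a finitely generated subring A₀ ⊆ A, a scheme X₀ and a universally submersive morphism f₀ : X₀ ⟶
Spec A₀ of finite presentation such that f is the base change of f₀ along Spec A ⟶ Spec A₀. -/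
theorem result (A : Type u) [CommRing A]
    {X : Scheme.{u}} (f : X ⟶ Spec (CommRingCat.of A))
    [LocallyOfFinitePresentation f] [QuasiCompact f] [QuasiSeparated f] :
    Subtr.UnivSSubtrusive f ↔
      ∃ (A₀ : Subalgebra ℤ A) (_ : A₀.FG) (X₀ : Scheme.{u}) (f₀ : X₀ ⟶ Spec (CommRingCat.of A₀))
        (q : X ⟶ X₀), IsPullback q f f₀ (Spec.map (CommRingCat.ofHom A₀.val.toRingHom)) ∧
        LocallyOfFinitePresentation f₀ ∧ QuasiCompact f₀ ∧ QuasiSeparated f₀ ∧
        SGA1.UnivSubmersive f₀ := by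
  constructor
  · intro h
    obtain ⟨A₀, hA₀, X₀, f₀, q, hP, h1, h2, h3, hq⟩ := exists_model_subtr f h
    haveI := h2
    haveI : Algebra.FiniteType ℤ A₀ := A₀.fg_iff_finiteType.mp hA₀
    haveI : IsNoetherianRing (CommRingCat.of A₀) := Algebra.FiniteType.isNoetherianRing ℤ A₀
    haveI : IsLocallyNoetherian (Spec (CommRingCat.of A₀)) := inferInstance
    exact ⟨A₀, hA₀, X₀, f₀, q, hq, h1, h2, h3, SubtrLib.univSubmersive_of_univSSubtrusive f₀ hP⟩
  · rintro ⟨A₀, hA₀, X₀, f₀, q, hq, -, h2, -, hs⟩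
    haveI := h2
    haveI : Algebra.FiniteType ℤ A₀ := A₀.fg_iff_finiteType.mp hA₀
    haveI : IsNoetherianRing (CommRingCat.of A₀) := Algebra.FiniteType.isNoetherianRing ℤ A₀
    haveI : IsLocallyNoetherian (Spec (CommRingCat.of A₀)) := inferInstance
    haveI : Subtr.UnivSSubtrusive.{u}.IsStableUnderBaseChange :=
      MorphismProperty.universally_isStableUnderBaseChange _
    exact MorphismProperty.of_isPullback hq (SubtrLib.univSSubtrusive_of_univSubmersive f₀ hs)


end Groth.Agent.S14792
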