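import Groth.Statements.S14768
import Mathlib
import Groth.Agent.SubtrLib.Chain

set_option autoImplicit false
universe u
open CategoryTheory CategoryTheory.Limits AlgebraicGeometry
open Subtr

namespace Groth.Agent.S14768

/-- Let f : X ⟶ Y be any morphism of schemes. Then every base change of f has the lifting property for
ordered pairs of points if and only if this holds for the base changes X ×_Y Spec V ⟶ Spec V along
all morphisms Spec V ⟶ Y with V a valuation ring. (The published statement is about universally
subtrusive morphisms and assumes f universally submersive for the constructible topologies; the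
lifting property alone descends from valuation rings with the same proof, and for quasi-compact f
the two statements agree.) -/
theorem result {X Y : Scheme.{u}} (f : X ⟶ Y) :
    Subtr.UnivSSubtrusive f ↔
      ∀ (V : Type u) [CommRing V] [IsDomain V] [ValuationRing V] (g : Spec (CommRingCat.of V) ⟶ Y),
        Subtr.IsSSubtrusive (pullback.snd f g) := by
  refine ⟨fun hf V _ _ _ g => hf (pullback.fst f g) g (pullback.snd f g) (IsPullback.of_hasPullback f g).flip, ?_⟩
  intro h X' Y' p q f' hP y y' hy
  obtain ⟨V, _, _, _, g, P, hPm, hPi⟩ := Groth.Agent.SubtrLib.exists_chain_map 1 ![y', y] (by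
    intro i j hij
    fin_cases i <;> fin_cases j <;> first | exact specializes_rfl | exact hy | exact absurd hij (by decide))
  have hpb : IsPullback (pullback.fst f' g ≫ p) (pullback.snd f' g) f (g ≫ q) :=
    (IsPullback.of_hasPullback f' g).paste_horiz hP.flip
  obtain ⟨z, z', hzz, hz, hz'⟩ := h V (g ≫ q) ((PrimeSpectrum.le_iff_specializes _ _).mp (hPm 0 1 (by decide)))
  let u := hpb.isoPullback.inv ≫ pullback.fst f' g
  have hu : ∀ w, f' (u w) = g (pullback.snd f (g ≫ q) w) := by
    intro w
    rw [← Scheme.Hom.comp_apply, ← Scheme.Hom.comp_apply]
    simp only [u, Category.assoc, pullback.condition]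
    rw [← Category.assoc, hpb.isoPullback_inv_snd]
  refine ⟨u z, u z', hzz.map u.continuous, ?_, ?_⟩
  · rw [hu, hz]; exact hPi 1
  · rw [hu, hz']; exact hPi 0

end Groth.Agent.S14768
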