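import Groth.Statements.S0582
import Groth.Agent.Kaplansky.Summand
import Groth.Agent.Kaplansky.Local
import Mathlib.LinearAlgebra.Finsupp.Supported

set_option autoImplicit false
universe u
open CAlg

namespace Groth.Agent.S0582

open Groth.Agent

lemma free_of_decomposition {R : Type u} [CommRing R] [IsLocalRing R] {W : Type u} [AddCommGroup W] [Module R W]
    [Module.Projective R W] (L : Set (Submodule R W)) (hL : iSupIndep (Subtype.val : L → Submodule R W))
    (hLs : sSup L = ⊤) (hLc : ∀ X ∈ L, CAlg.IsCountablyGenerated R X) : Module.Free R W := by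
  classical
  have htop : iSup (Subtype.val : L → Submodule R W) = ⊤ := (sSup_eq_iSup' L).symm.trans hLs
  have hint : DirectSum.IsInternal (Subtype.val : L → Submodule R W) := by
    convert! DirectSum.isInternal_submodule_of_iSupIndep_of_iSup_eq_top hL htop
  have hfree : ∀ X : L, Module.Free R (X : Submodule R W) := fun X => by
    have hX : IsCompl (X : Submodule R W) (⨆ Y ∈ {Y : L | Y ≠ X}, (Y : Submodule R _)) := by
      refine IsCompl.of_eq (hL X).eq_bot (top_le_iff.1 ?_)
      rw [← hLs, sSup_eq_iSup']
      refine iSup_le fun Y => ?_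
      rcases eq_or_ne Y X with rfl | hne
      · exact le_sup_left
      · exact le_sup_of_le_right (le_iSup₂_of_le Y hne le_rfl)
    have : Module.Projective R (X : Submodule R W) :=
      Module.Projective.of_split (Submodule.subtype _) (Submodule.projectionOnto (X : Submodule R W) _ hX)
        (LinearMap.ext fun z => by simp)
    exact Kaplansky.free_of_countablyGenerated (hLc X X.2)
  exact Module.Free.of_basis (hint.collectedBasis fun X => Module.Free.chooseBasis R _)

/-- A projective module, not necessarily finitely generated, over a local ring is free. -/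
theorem result (R : Type u) [CommRing R] [IsLocalRing R] (P : Type u)
    [AddCommGroup P] [Module R P] [Module.Projective R P] : Module.Free R P := by
  classical
  obtain ⟨s, hs⟩ := Module.projective_def'.1 (inferInstance : Module.Projective R P)
  let π := Finsupp.linearCombination R (id : P → P)
  let N : P → Submodule R (P →₀ R) := fun i => LinearMap.range (Finsupp.lsingle i)
  have hNtop : iSup N = ⊤ := Finsupp.iSup_lsingle_range
  have hNind : iSupIndep N := by
    intro i
    have h := Finsupp.disjoint_lsingle_lsingle (M := R) (R := R) {i} ({i}ᶜ : Set P) disjoint_compl_right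
    simpa [N, Set.mem_compl_iff] using h
  have hc : ∀ i, CAlg.IsCountablyGenerated R (N i) := fun i =>
    ⟨{⟨Finsupp.single i 1, 1, rfl⟩}, Set.countable_singleton _, eq_top_iff.2 fun ⟨z, r, hr⟩ _ =>
      Submodule.mem_span_singleton.2 ⟨r, Subtype.ext (by
        change r • Finsupp.single i (1 : R) = z
        rw [Finsupp.smul_single_one, ← hr]; rfl)⟩⟩
  have hsπ : ∀ p, π (s p) = p := LinearMap.congr_fun hs
  have hcompl : IsCompl (LinearMap.range s) (LinearMap.ker π) := by
    refine IsCompl.of_eq ((Submodule.eq_bot_iff _).2 fun z hz => ?_) (eq_top_iff.2 fun z _ => ?_)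
    · obtain ⟨⟨p, rfl⟩, hp⟩ := hz
      rw [SetLike.mem_coe, LinearMap.mem_ker, hsπ] at hp
      rw [hp, map_zero]
    · rw [show z = s (π z) + (z - s (π z)) by abel]
      exact Submodule.add_mem_sup ⟨_, rfl⟩ (by rw [LinearMap.mem_ker, map_sub, hsπ, sub_self])
  obtain ⟨L, hL, hLs, hLc⟩ := Kaplansky.exists_isInternal_of_isCompl N hNind hNtop hc _ _ hcompl
  have hsinj : Function.Injective s := fun a b h => by rw [← hsπ a, h, hsπ]
  let eP : P ≃ₗ[R] LinearMap.range s := LinearEquiv.ofInjective s hsinj
  have : Module.Projective R (LinearMap.range s) := Module.Projective.of_equiv eP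
  have : Module.Free R (LinearMap.range s) := free_of_decomposition (R := R) (W := LinearMap.range s) L hL hLs hLc
  exact Module.Free.of_equiv eP.symm

end Groth.Agent.S0582
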