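import Groth.Statements.S9812
-- import your own Groth.Agent.* helpers here
import Groth.Prelude.Def_CAlg2

set_option autoImplicit false
universe u
open CAlg2

namespace Groth.Agent.S9812

/-- At the level of the local ring: an integrally closed local domain is geometrically unibranch.
Consequently a normal scheme is geometrically unibranch. -/
theorem result (A : Type u) [CommRing A] [IsLocalRing A]
    [IsDomain A] [IsIntegrallyClosed A] : CAlg2.IsGeomUnibranch A := by
  have hn : nilradical A = ⊥ := nilradical_eq_zero A
  let e : A ≃+* CAlg2.red A := ((RingEquiv.quotientBot A).symm).trans (Ideal.quotEquivOfEq hn.symm)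
  haveI : IsDomain (CAlg2.red A) := e.symm.toMulEquiv.isDomain
  haveI : IsIntegrallyClosed (CAlg2.red A) := IsIntegrallyClosed.of_equiv e
  have hs : Function.Surjective (algebraMap (CAlg2.red A) (CAlg2.normRed A)) := by
    rintro ⟨x, hx⟩
    obtain ⟨a, ha⟩ := IsIntegrallyClosed.algebraMap_eq_of_integral hx
    exact ⟨a, Subtype.ext ha⟩
  have hs' : Function.Surjective (((algebraMap (CAlg2.red A) (CAlg2.normRed A)).comp e.toRingHom)) :=
    hs.comp e.surjective
  refine ⟨⟨inferInstance, ?_⟩, fun m' _ x => ?_⟩
  · exact IsLocalRing.of_surjective' _ hs'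
  · obtain ⟨z, rfl⟩ := Ideal.Quotient.mk_surjective x
    obtain ⟨r, rfl⟩ := hs z
    obtain ⟨a, rfl⟩ := Ideal.Quotient.mk_surjective r
    exact ⟨0, a, by simp⟩

end Groth.Agent.S9812
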