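import Groth.Statements.S5062
-- import your own Groth.Agent.* helpers here
import Groth.Agent.TwConst.Henselian
import Groth.Agent.Purity.AtInfinity

set_option autoImplicit false
open CategoryTheory AlgebraicGeometry
universe u
open Hensel

namespace Groth.Agent.S5062

/-- a) iff c): a local ring A is henselian with separably closed residue field if and only if, for every
étale morphism f : X ⟶ Spec A and every point x of X lying over the closed point s, there is a
section u of f with u s = x. -/
theorem result (A : Type u) [CommRing A] [IsLocalRing A] :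
    (HenselianLocalRing A ∧ IsSepClosed (IsLocalRing.ResidueField A)) ↔
      ∀ (X : Scheme.{u}) (f : X ⟶ Spec (CommRingCat.of A)), Etale f →
        ∀ x : X, f.base x = IsLocalRing.closedPoint A →
          ∃ u : Spec (CommRingCat.of A) ⟶ X, u ≫ f = 𝟙 _ ∧ u.base (IsLocalRing.closedPoint A) = x := by
  constructor
  · rintro ⟨hA, hk⟩ X f hf x hx
    haveI := hA
    haveI := hk
    haveI := hf
    obtain ⟨V, hV, hxV, -⟩ := exists_isAffineOpen_mem_and_subset (U := ⊤) (x := x) trivial
    haveI : IsAffine V.toScheme := hV
    obtain ⟨-, -, hfin, het, -⟩ := Groth.Agent.TwConst.main_local (V.ι ≫ f) (⟨x, hxV⟩ : V) hx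
    haveI := hfin
    haveI := het
    obtain ⟨s, hs, hsz, -⟩ := Groth.Agent.Purity.exists_lift_section A (V.toScheme.fromSpecStalk (⟨x, hxV⟩ : V) ≫ V.ι ≫ f)
      (𝟙 _) (IsLocalRing.closedPoint (V.toScheme.presheaf.stalk (⟨x, hxV⟩ : V))) (by
        rw [Scheme.Hom.comp_apply, Scheme.fromSpecStalk_closedPoint, Scheme.Hom.comp_apply]
        exact hx)
    refine ⟨s ≫ V.toScheme.fromSpecStalk (⟨x, hxV⟩ : V) ≫ V.ι, by simpa only [Category.assoc] using hs, ?_⟩
    rw [Scheme.Hom.comp_apply, hsz, Scheme.Hom.comp_apply, Scheme.fromSpecStalk_closedPoint]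
    rfl
  · intro h
    have key : ∀ (F : Polynomial A) (hF : F.Monic) (K : Type u) [Field K] [Algebra A K] (β : K),
        RingHom.ker (algebraMap A K) = IsLocalRing.maximalIdeal A → Polynomial.aeval β F = 0 →
        Polynomial.aeval β F.derivative ≠ 0 →
        ∃ a : A, F.IsRoot a ∧ ∀ b : A, algebraMap A K b = β → b - a ∈ IsLocalRing.maximalIdeal A := by
      intro F hF K _ _ β hker h1 h2
      let St : StandardEtalePair A := ⟨F, hF, F.derivative, ⟨1, 0, 1, by simp⟩⟩
      have hβ : St.HasMap β := ⟨h1, Ne.isUnit h2⟩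
      let g : Spec (CommRingCat.of St.Ring) ⟶ Spec (CommRingCat.of A) :=
        Spec.map (CommRingCat.ofHom (algebraMap A St.Ring))
      haveI : Etale g := by
        rw [HasRingHomProperty.Spec_iff (P := @Etale)]
        exact RingHom.etale_algebraMap.2 inferInstance
      let P : PrimeSpectrum St.Ring := ⟨RingHom.ker (St.lift β hβ).toRingHom, RingHom.ker_isPrime _⟩
      have hP : g P = IsLocalRing.closedPoint A := by
        refine PrimeSpectrum.ext ?_
        change (RingHom.ker (St.lift β hβ).toRingHom).comap (algebraMap A St.Ring) = _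
        rw [RingHom.comap_ker, AlgHom.toRingHom_eq_coe, AlgHom.comp_algebraMap, hker]
        rfl
      obtain ⟨u, hu, hu'⟩ := h _ g inferInstance P hP
      obtain ⟨σ, rfl⟩ := Spec.map_surjective u
      rw [← Spec.map_comp, ← Spec.map_id] at hu
      have hσ : ∀ a, σ.hom (algebraMap A St.Ring a) = a := fun a =>
        ConcreteCategory.congr_hom (Spec.map_injective hu) a
      let σ' : St.Ring →ₐ[A] A := { σ.hom with commutes' := hσ }
      refine ⟨σ' St.X, ?_, fun b hb => ?_⟩
      · rw [Polynomial.IsRoot.def, ← Polynomial.coe_aeval_eq_eval]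
        exact (St.hasMap_X.map σ').1
      · have h3 : algebraMap A St.Ring b - St.X ∈ RingHom.ker (St.lift β hβ).toRingHom := by
          rw [RingHom.mem_ker, map_sub, AlgHom.toRingHom_eq_coe, RingHom.coe_coe, AlgHom.commutes,
            StandardEtalePair.lift_X, hb, sub_self]
        have h4 : algebraMap A St.Ring b - St.X ∈ (IsLocalRing.maximalIdeal A).comap σ.hom :=
          (congrArg PrimeSpectrum.asIdeal hu').ge h3
        rw [Ideal.mem_comap, map_sub, hσ] at h4
        exact h4
    refine ⟨((HenselianLocalRing.TFAE A).out 0 1 rfl rfl).2 fun F hF a₀ h1 h2 => ?_, ?_⟩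
    · obtain ⟨a, ha, hab⟩ := key F hF (IsLocalRing.ResidueField A) a₀ (IsLocalRing.ker_residue) h1 h2
      obtain ⟨b, rfl⟩ := IsLocalRing.residue_surjective a₀
      exact ⟨a, ha, ((Ideal.Quotient.eq).2 (hab b rfl)).symm⟩
    · refine IsSepClosed.of_exists_root _ fun p hpm hpi hps => ?_
      haveI := Fact.mk hpi
      obtain ⟨F, hFp, hFdeg, hF⟩ := Polynomial.lifts_and_degree_eq_and_monic
        (show p ∈ Polynomial.lifts (IsLocalRing.residue A) by
          rw [Polynomial.mem_lifts]; exact Polynomial.map_surjective _ IsLocalRing.residue_surjective p) hpm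
      let K := AdjoinRoot p
      letI : Algebra A K := ((algebraMap (IsLocalRing.ResidueField A) K).comp (IsLocalRing.residue A)).toAlgebra
      have hK : ∀ q : Polynomial A, Polynomial.aeval (AdjoinRoot.root p) q =
          Polynomial.aeval (R := IsLocalRing.ResidueField A) (AdjoinRoot.root p) (q.map (IsLocalRing.residue A)) := by
        intro q
        simp only [Polynomial.aeval_def, Polynomial.eval₂_map]
        rfl
      have hr : Polynomial.aeval (R := IsLocalRing.ResidueField A) (AdjoinRoot.root p) p = 0 := by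
        rw [AdjoinRoot.aeval_eq, AdjoinRoot.mk_self]
      obtain ⟨a, ha, -⟩ := key F hF K (AdjoinRoot.root p) (by
          rw [RingHom.algebraMap_toAlgebra, RingHom.ker_comp_of_injective _ (algebraMap (IsLocalRing.ResidueField A) K).injective,
            IsLocalRing.ker_residue]) (by rw [hK, hFp, hr]) (by
          rw [hK, ← Polynomial.derivative_map, hFp]
          exact hps.aeval_derivative_ne_zero hr)
      refine ⟨IsLocalRing.residue A a, ?_⟩
      rw [← hFp, Polynomial.eval_map, Polynomial.eval₂_at_apply, ha.eq_zero, map_zero]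

end Groth.Agent.S5062
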