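import Groth.Statements.S1177
import Groth.Agent.QCDescent.Cover
import Groth.Agent.LocFree.Props
import Groth.Agent.ModDesc.BaseChange

set_option autoImplicit false
open CategoryTheory CategoryTheory.Limits AlgebraicGeometry Opposite
universe u
open Desc

namespace Groth.Agent.S1177

/-- Let g : X' ⟶ X be quasi-compact, flat and surjective and F a quasi-coherent O_X-module. If the
pullback g^*F is a finite locally free O_{X'}-module, then F is finite locally free. -/
theorem result {X X' : Scheme.{u}} (g : X' ⟶ X) [QuasiCompact g] [Flat g] [Surjective g]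
    (F : X.Modules) [F.IsQuasicoherent] (h : FlatMod.IsFinLocFree ((Scheme.Modules.pullback g).obj F)) :
    FlatMod.IsFinLocFree F := by
  have hM : Coh.IsQCoh F := inferInstance
  refine LocFree.isFinLocFree_of_affine_projective hM fun x => ?_
  obtain ⟨U, hU, hxU, -⟩ := exists_isAffineOpen_mem_and_subset (X := X) (x := x) (U := ⊤) trivial
  refine ⟨U, hU, hxU, ?_⟩
  classical
  obtain ⟨ι, _, W, e, hflat, hff⟩ := QCDescent.exists_pieces g ⟨U, hU⟩
  letI : ∀ i, Algebra Γ(X, U) Γ(X', (W i).1) := fun i => (g.appLE U (W i).1 (e i)).hom.toAlgebra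
  haveI := hflat
  haveI := hff
  have hp : ∀ i, Module.FinitePresentation Γ(X', (W i).1) (TensorProduct Γ(X, U) Γ(X', (W i).1) Γ(F, U)) ∧
      Module.Flat Γ(X', (W i).1) (TensorProduct Γ(X, U) Γ(X', (W i).1) Γ(F, U)) := fun i => by
    obtain ⟨Φ, -⟩ := ModDesc.exists_bijective_liftBaseChange g F hU (W i).2 (e i)
    haveI := LocFree.finitePresentation_sections h (W i).2
    haveI := LocFree.projective_sections h (W i).2
    exact ⟨Module.finitePresentation_of_surjective Φ.symm.toLinearMap Φ.symm.surjective (by rw [LinearEquiv.ker]; exact Submodule.fg_bot),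
      Module.Flat.of_linearEquiv Φ⟩
  exact ⟨QCDescent.finitePresentation_of_pi (fun i => Γ(X', (W i).1)) Γ(F, U) (fun i => by haveI := (hp i).1; infer_instance) (fun i => (hp i).1),
    QCDescent.flat_of_pi (fun i => Γ(X', (W i).1)) Γ(F, U) fun i => (hp i).2⟩


end Groth.Agent.S1177
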