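import Groth.Statements.S19887
import Groth.Agent.RZExt.Many
import Groth.Agent.RZExt.ExtendIdeal
import Groth.Agent.RZExt.Consequences
import Groth.Agent.RZUnion.Separate
-- import your own Groth.Agent.* helpers here

set_option autoImplicit false
universe u
open LVCorr

namespace Groth.Agent.S19887

open AlgebraicGeometry CategoryTheory in
theorem isIso_restrict_le {X Y : Scheme.{u}} (f : X ⟶ Y) {V V' : Y.Opens} (h : V' ≤ V) (hV : IsIso (f ∣_ V)) :
    IsIso (f ∣_ V') := by
  have h1 : IsIso ((f ∣_ V) ∣_ (V.ι ⁻¹ᵁ V')) := inferInstance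
  have h2 := ((MorphismProperty.isomorphisms Scheme.{u}).arrow_mk_iso_iff (morphismRestrictRestrict f V _)).1 h1
  have e : V.ι ''ᵁ (V.ι ⁻¹ᵁ V') = V' := by
    rw [Scheme.Hom.image_preimage_eq_opensRange_inf, Scheme.Opens.opensRange_ι, inf_eq_right.2 h]
  rw [e] at h2
  exact h2

open AlgebraicGeometry CategoryTheory in
theorem isIso_ι_restrict {T : Scheme.{u}} {D W : T.Opens} (h : W ≤ D) : IsIso (D.ι ∣_ W) := by
  refine (isIso_iff_isOpenImmersion_and_surjective _).2 ⟨inferInstance, ⟨fun w => ?_⟩⟩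
  refine ⟨⟨⟨w.1, h w.2⟩, w.2⟩, ?_⟩
  rw [morphismRestrict_base]
  rfl

open AlgebraicGeometry CategoryTheory CategoryTheory.Limits in
/-- Let k be a field and R a discrete valuation ring with a k-algebra structure, with generic point η
(an open point of Spec R). Let X be a separated k-scheme of finite type, X_R = X ×_k Spec R, and let
(X̃, φ) be a lift of X over R: X̃ is a separated R-scheme of finite type (locally of finite type and
quasi-compact over R) and φ : X̃ → X_R an R-morphism inducing an isomorphism over η. Then there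
exist a scheme Ỹ and a proper morphism ψ : Ỹ → X̃ such that (1) (Ỹ, ψ ∘ φ) is a lift of X, i.e. ψ ∘
φ is an isomorphism over η, (2) Ỹ is proper over X̃, and (3) for every compactification of X, i.e.
every open immersion of X over k into a proper k-scheme X̄ (with X̄_R = X̄ ×_k Spec R and the
induced morphism X_R → X̄_R), Ỹ embeds by an open immersion into a scheme Ỹ(X̄) proper over R and
lifting X̄ (an R-morphism Ỹ(X̄) → X̄_R that is an isomorphism over η) such that Ỹ → Ỹ(X̄) → X̄_R
equals Ỹ → X̃ → X_R → X̄_R. (The source works over an algebraically closed field k and a discrete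
valuation ring over k with residue field k, and its compactifications are dense open immersions;
none of this is used.) -/
theorem result
    (k : Type u) [Field k] (R : Type u) [CommRing R] [IsDomain R] [IsDiscreteValuationRing R] [Algebra k R]
    (η : (Spec (CommRingCat.of R)).Opens) (hη : (η : Set ↥(Spec (CommRingCat.of R))) = {genericPoint ↥(Spec (CommRingCat.of R))})
    (X : Scheme.{u}) (pX : X ⟶ Spec (CommRingCat.of k)) [IsSeparated pX] [LocallyOfFiniteType pX] [QuasiCompact pX]
    (XR : Scheme.{u}) (a : XR ⟶ X) (b : XR ⟶ Spec (CommRingCat.of R)) (hXR : IsPullback a b pX (Spec.map (CommRingCat.ofHom (algebraMap k R))))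
    (Xt : Scheme.{u}) (q : Xt ⟶ Spec (CommRingCat.of R)) [IsSeparated q] [LocallyOfFiniteType q] [QuasiCompact q]
    (φ : Xt ⟶ XR) (hφ : φ ≫ b = q) (hφη : IsIso (φ ∣_ (b ⁻¹ᵁ η))) :
    ∃ (Y : Scheme.{u}) (ψ : Y ⟶ Xt), IsProper ψ ∧ IsIso ((ψ ≫ φ) ∣_ (b ⁻¹ᵁ η)) ∧
      ∀ (Xb : Scheme.{u}) (pXb : Xb ⟶ Spec (CommRingCat.of k)) [IsProper pXb] (jX : X ⟶ Xb) [IsOpenImmersion jX]
        (hj : jX ≫ pXb = pX)
        (XbR : Scheme.{u}) (ab : XbR ⟶ Xb) (bb : XbR ⟶ Spec (CommRingCat.of R)) (hXbR : IsPullback ab bb pXb (Spec.map (CommRingCat.ofHom (algebraMap k R))))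
        (jR : XR ⟶ XbR) (hjR₁ : jR ≫ ab = a ≫ jX) (hjR₂ : jR ≫ bb = b),
        ∃ (Yb : Scheme.{u}) (qb : Yb ⟶ Spec (CommRingCat.of R)) (_ : IsProper qb) (φb : Yb ⟶ XbR) (_ : φb ≫ bb = qb)
          (_ : IsIso (φb ∣_ (bb ⁻¹ᵁ η))) (e : Y ⟶ Yb) (_ : IsOpenImmersion e),
          e ≫ φb = ψ ≫ φ ≫ jR := by
  let sR := Spec.map (CommRingCat.ofHom (algebraMap k R))
  haveI : IsSeparated b := MorphismProperty.of_isPullback hXR ‹IsSeparated pX›
  haveI : LocallyOfFiniteType b := MorphismProperty.of_isPullback hXR ‹LocallyOfFiniteType pX›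
  haveI : QuasiCompact b := MorphismProperty.of_isPullback hXR ‹QuasiCompact pX›
  haveI : IsNoetherian XR := by
    haveI : CompactSpace XR := QuasiCompact.compactSpace_of_compactSpace b
    haveI := LocallyOfFiniteType.isLocallyNoetherian b
    exact {}
  let U : XR.Opens := b ⁻¹ᵁ η
  haveI : IsSeparated (φ ≫ b) := hφ ▸ inferInstance
  haveI : IsSeparated φ := IsSeparated.of_comp φ b
  haveI : QuasiCompact (φ ≫ b) := hφ ▸ inferInstance
  haveI : QuasiCompact φ := QuasiCompact.of_comp φ b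
  haveI : LocallyOfFiniteType (φ ≫ b) := hφ ▸ inferInstance
  haveI : LocallyOfFiniteType φ := locallyOfFiniteType_of_comp φ b
  haveI : IsIso (φ ∣_ U) := hφη
  obtain ⟨I, D, h, hh, hle, hb, hadm, -⟩ := Groth.Agent.RZExt.exists_openImmersion (U := U)
    (TopologicalSpace.NoetherianSpace.isCompact _) φ
  have hcompl : I.ideal.support.compl = U := TopologicalSpace.Opens.ext (by
    show ((I.ideal.support : Set XR))ᶜ = _
    rw [I.supp, compl_compl])
  have hbU : IsIso (I.b ∣_ U) := isIso_restrict_le _ hcompl.ge (Groth.Agent.BlowUpLib.isIso_restrict I.isBlowUp)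
  haveI : IsIso ((D.ι ≫ I.b) ∣_ U) := by
    haveI := isIso_ι_restrict hle
    haveI := hbU
    rw [morphismRestrict_comp]
    exact IsIso.comp_isIso' (isIso_ι_restrict hle) hbU
  refine ⟨D.toScheme, h, Groth.Agent.BlowUpExist.isProper_of_isFiniteType hb hadm.1, ?_, ?_⟩
  · show IsIso ((h ≫ φ) ∣_ U)
    rw [hh]
    infer_instance
  intro Xb pXb _ jX _ hj XbR ab bb hXbR jR hjR₁ hjR₂
  haveI : IsProper bb := MorphismProperty.of_isPullback hXbR ‹IsProper pXb›
  have hsq : IsPullback jR a ab jX := by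
    refine IsPullback.of_right ?_ hjR₁ hXbR.flip
    rw [hjR₂, hj]
    exact hXR.flip
  haveI : IsOpenImmersion jR := MorphismProperty.of_isPullback hsq.flip ‹IsOpenImmersion jX›
  haveI : IsNoetherian XbR := by
    haveI : CompactSpace XbR := QuasiCompact.compactSpace_of_compactSpace bb
    haveI := LocallyOfFiniteType.isLocallyNoetherian bb
    exact {}
  let e := jR.isoOpensRange
  have he : e.hom ≫ jR.opensRange.ι = jR := jR.isoOpensRange_hom_ι
  have hei : e.inv ≫ jR = jR.opensRange.ι := jR.isoOpensRange_inv_comp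
  obtain ⟨J, hJft, hJd, hJ⟩ := Groth.Agent.RZExt.exists_extend_centre (bb ⁻¹ᵁ η) jR.opensRange
    (TopologicalSpace.NoetherianSpace.isCompact _) (TopologicalSpace.NoetherianSpace.isCompact _) (I.ideal.comap e.inv)
    (Groth.Agent.RZExt.isFiniteType_comap e.inv I.ft) (by
      refine Set.disjoint_left.2 fun x hx hxη => ?_
      rw [Scheme.IdealSheafData.support_comap, TopologicalSpace.Closeds.coe_preimage, I.supp] at hx
      refine hx ?_
      show b (e.inv x) ∈ η
      rw [← hjR₂, Scheme.Hom.comp_apply, ← Scheme.Hom.comp_apply e.inv jR, hei]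
      exact hxη)
  have hJ' : J.comap jR = I.ideal := by
    rw [← he, Scheme.IdealSheafData.comap_comp, hJ, ← Scheme.IdealSheafData.comap_comp, e.hom_inv_id,
      Scheme.IdealSheafData.comap_id]
  obtain ⟨Yb, π, hπ⟩ := Groth.Agent.BlowUpExist.exists_isBlowUp XbR J
  haveI : IsProper π := Groth.Agent.BlowUpExist.isProper_of_isFiniteType hπ hJft
  have hflat := Groth.Agent.BlowUpLib.isBlowUp_flat jR hπ
  rw [hJ'] at hflat
  obtain ⟨θ, hθ, -⟩ := hflat.2 I.T I.b I.isBlowUp.1
  obtain ⟨θ', hθ', -⟩ := I.isBlowUp.2 _ (pullback.fst jR π) hflat.1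
  haveI : IsIso θ := ⟨θ', (I.isBlowUp.2 _ _ I.isBlowUp.1).unique (by rw [Category.assoc, hθ', hθ]) (Category.id_comp _),
    (hflat.2 _ _ hflat.1).unique (by rw [Category.assoc, hθ, hθ']) (Category.id_comp _)⟩
  haveI : IsOpenImmersion (pullback.snd jR π) := MorphismProperty.pullback_snd _ _ ‹IsOpenImmersion jR›
  refine ⟨Yb, π ≫ bb, inferInstance, π, rfl, ?_, D.ι ≫ θ ≫ pullback.snd jR π, inferInstance, ?_⟩
  · have hle' : bb ⁻¹ᵁ η ≤ J.support.compl := fun x hx hx' => Set.disjoint_left.1 hJd hx' hx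
    exact isIso_restrict_le π hle' (Groth.Agent.BlowUpLib.isIso_restrict hπ)
  · rw [Category.assoc, Category.assoc, ← pullback.condition, reassoc_of% hθ, reassoc_of% hh]

end Groth.Agent.S19887
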