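import Mathlib.AlgebraicGeometry.FunctionField
import Mathlib.AlgebraicGeometry.Restrict
import Mathlib.AlgebraicGeometry.OpenImmersion
import Mathlib.AlgebraicGeometry.Morphisms.UnderlyingMap

/-! # Birationality from an isomorphism over a nonempty open -/

set_option autoImplicit false

universe u

open CategoryTheory AlgebraicGeometry TopologicalSpace

namespace Groth.Agent.BiratGen

variable {X Y : Scheme.{u}} [IsIntegral X] [IsIntegral Y] (f : X ⟶ Y) (W : Y.Opens)

theorem map_genericPoint (hW : (W : Set Y).Nonempty) [IsIso (f ∣_ W)] :
    f (genericPoint X) = genericPoint Y := by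
  have hsub : (W : Set Y) ⊆ closure {f (genericPoint X)} := by
    intro y hy
    obtain ⟨x, hx⟩ := (f ∣_ W).surjective ⟨y, hy⟩
    have h1 : f x.1 = y := by
      have := congrArg Subtype.val hx
      rwa [morphismRestrict_base_coe] at this
    rw [← h1, ← specializes_iff_mem_closure]
    exact (genericPoint_specializes x.1).map f.continuous
  have : closure {f (genericPoint X)} = Set.univ := by
    refine Set.eq_univ_of_univ_subset ?_
    rw [← (W.isOpen.dense hW).closure_eq]
    exact closure_minimal hsub isClosed_closure
  exact IsGenericPoint.eq (show IsGenericPoint (f (genericPoint X)) Set.univ from this)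
    (genericPoint_spec Y)

theorem isIso_stalkMap_genericPoint (hW : (W : Set Y).Nonempty) [IsIso (f ∣_ W)] :
    IsIso (f.stalkMap (genericPoint X)) := by
  have h : genericPoint X ∈ f ⁻¹ᵁ W := by
    show f (genericPoint X) ∈ W
    rw [map_genericPoint f W hW]
    exact ((genericPoint_spec Y).mem_open_set_iff W.isOpen).2 (by simpa using hW)
  have e := morphismRestrictStalkMap f W ⟨genericPoint X, h⟩
  exact ((MorphismProperty.isomorphisms CommRingCat).arrow_mk_iso_iff e).1
    (inferInstanceAs (IsIso ((f ∣_ W).stalkMap ⟨genericPoint X, h⟩)))

end Groth.Agent.BiratGen
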