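import Groth.Statements.S2195
import Mathlib

set_option autoImplicit false
universe u v
open Disc TensorProduct

namespace Groth.Agent.S2195

/-- Ring form of the statement: let B be an A-algebra which is finite free as an A-module with basis b.
Then A -> B is etale if and only if the discriminant of b (the determinant of the matrix of traces
Tr(b_i b_j)) is a unit of A, i.e. the discriminant locus is empty. -/
theorem result {A : Type u} {B : Type v} [CommRing A] [CommRing B]
    [Algebra A B] {ι : Type} [Fintype ι] [DecidableEq ι] (b : Module.Basis ι A B) :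
    Algebra.Etale A B ↔ IsUnit (Algebra.discr A b) := by
  classical
  haveI : Module.Free A B := Module.Free.of_basis b
  haveI : Module.Finite A B := Module.Finite.of_basis b
  constructor
  · intro hE
    haveI := hE
    obtain ⟨e, he1, he2⟩ := Algebra.FormallyUnramified.iff_exists_tensorProduct.mp
      (inferInstance : Algebra.FormallyUnramified A B)
    let bB : Module.Basis ι B (B ⊗[A] B) := Algebra.TensorProduct.basis B b
    have hμ : ∀ z : B ⊗[A] B, z * e = (Algebra.TensorProduct.lmul' A z) • e := by
      intro z
      induction z using TensorProduct.induction_on with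
      | zero => simp
      | tmul u v =>
        have h := he1 v
        rw [sub_mul, sub_eq_zero] at h
        rw [Algebra.TensorProduct.lmul'_apply_tmul, mul_smul, ← one_mul (v • e)]
        have h2 : (u ⊗ₜ[A] v : B ⊗[A] B) = (u ⊗ₜ[A] (1 : B)) * ((1 : B) ⊗ₜ[A] v) := by simp
        rw [h2, mul_assoc, h, one_mul]
        simp [Algebra.smul_def, Algebra.TensorProduct.algebraMap_apply, mul_assoc]
      | add x y hx hy => rw [add_mul, hx, hy, map_add, add_smul]
    have htr : Algebra.trace B (B ⊗[A] B) e = 1 := by
      let μ : (B ⊗[A] B) →ₗ[B] B :=
        { toFun := Algebra.TensorProduct.lmul' A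
          map_add' := map_add _
          map_smul' := fun c z => by
            simp [Algebra.smul_def, Algebra.TensorProduct.algebraMap_apply] }
      have hfac : Algebra.lmul B (B ⊗[A] B) e = (LinearMap.toSpanSingleton B _ e) ∘ₗ μ :=
        LinearMap.ext fun z => by
          show e * z = (Algebra.TensorProduct.lmul' A z) • e
          rw [mul_comm, hμ]
      haveI : Module.Free B (B ⊗[A] B) := Module.Free.of_basis bB
      haveI : Module.Finite B (B ⊗[A] B) := Module.Finite.of_basis bB
      rw [Algebra.trace_apply, hfac, LinearMap.trace_comp_comm']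
      have h3 : μ ∘ₗ LinearMap.toSpanSingleton B _ e = LinearMap.id := by
        apply LinearMap.ext_ring
        show Algebra.TensorProduct.lmul' A ((1 : B) • e) = 1
        rw [one_smul, he2]
      rcases subsingleton_or_nontrivial B with _ | _
      · exact Subsingleton.elim _ _
      rw [h3, LinearMap.trace_id, Module.finrank_self, Nat.cast_one]
    have hΨ : ∀ u v : B, Algebra.trace B (B ⊗[A] B) (u ⊗ₜ[A] v) = u * algebraMap A B (Algebra.trace A B v) := by
      intro u v
      have h1 : Algebra.lmul B (B ⊗[A] B) (u ⊗ₜ[A] v) = u • (Algebra.lmul A B v).baseChange B := by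
        refine bB.ext fun i => ?_
        simp [bB, Algebra.TensorProduct.basis_apply, TensorProduct.smul_tmul']
      rw [Algebra.trace_apply, h1, map_smul, LinearMap.trace_baseChange, ← Algebra.trace_apply, smul_eq_mul]
    let u : ι → B := fun i => bB.repr e i
    have hexp : e = ∑ i, u i ⊗ₜ[A] b i := by
      conv_lhs => rw [← bB.sum_repr e]
      refine Finset.sum_congr rfl fun i _ => ?_
      simp [bB, u, Algebra.TensorProduct.basis_apply, TensorProduct.smul_tmul']
    have hkey : ∀ y : B, ∑ i, u i * algebraMap A B (Algebra.trace A B (y * b i)) = y := by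
      intro y
      have h1 : Algebra.trace B (B ⊗[A] B) (((1 : B) ⊗ₜ[A] y) * e) = y := by
        rw [hμ, map_smul, htr, Algebra.TensorProduct.lmul'_apply_tmul, one_mul, smul_eq_mul, mul_one]
      refine Eq.trans ?_ h1
      rw [hexp, Finset.mul_sum, map_sum]
      refine Finset.sum_congr rfl fun i _ => ?_
      rw [Algebra.TensorProduct.tmul_mul_tmul, one_mul, hΨ]
    refine Matrix.isUnit_det_of_right_inverse (B := Matrix.of fun i j => b.repr (u i) j) ?_
    ext k j
    have h1 := congrArg (fun z => b.repr z j) (hkey (b k))
    simp only [map_sum, Finsupp.coe_finsetSum, Finset.sum_apply] at h1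
    rw [Matrix.mul_apply]
    refine Eq.trans (Finset.sum_congr rfl fun i _ => ?_) (h1.trans ?_)
    · rw [mul_comm (u i), ← Algebra.smul_def, map_smul, Finsupp.smul_apply, smul_eq_mul]
      simp [Algebra.traceMatrix_apply, Algebra.traceForm_apply]
    · rw [Module.Basis.repr_self, Finsupp.single_apply, Matrix.one_apply]
  · intro hu
    let T := Algebra.traceMatrix A b
    have hWT : T⁻¹ * T = 1 := Matrix.nonsing_inv_mul T hu
    let u : ι → B := fun i => ∑ j, T⁻¹ i j • b j
    have hdual : ∀ i k, Algebra.trace A B (u i * b k) = if i = k then 1 else 0 := by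
      intro i k
      rw [Finset.sum_mul, map_sum, ← Matrix.one_apply, ← hWT, Matrix.mul_apply]
      refine Finset.sum_congr rfl fun j _ => ?_
      rw [smul_mul_assoc, map_smul, smul_eq_mul]
      rfl
    have hnd : ∀ z w : B, (∀ l, Algebra.trace A B (z * b l) = Algebra.trace A B (w * b l)) → z = w := by
      intro z w hzw
      apply b.repr.injective
      ext m
      have h2 : ∀ x : B, b.repr x m = ∑ l, T⁻¹ m l * Algebra.trace A B (x * b l) := by
        intro x
        have h3 : ∀ l, Algebra.trace A B (x * b l) = ∑ n, T l n * b.repr x n := by
          intro l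
          conv_lhs => rw [← b.sum_repr x, Finset.sum_mul, map_sum]
          refine Finset.sum_congr rfl fun n _ => ?_
          rw [smul_mul_assoc, map_smul, smul_eq_mul, mul_comm (b.repr x n), mul_comm (b n)]
          rfl
        have h4 : ∑ l, T⁻¹ m l * Algebra.trace A B (x * b l) = ((T⁻¹ * T).mulVec (fun n => b.repr x n)) m := by
          simp only [h3, Matrix.mulVec, dotProduct, Matrix.mul_apply, Finset.mul_sum, Finset.sum_mul,
            mul_assoc]
          exact Finset.sum_comm
        rw [h4, hWT, Matrix.one_mulVec]
      rw [h2, h2]
      exact Finset.sum_congr rfl fun l _ => by rw [hzw]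
    haveI : Algebra.FormallyUnramified A B := by
      rw [Algebra.FormallyUnramified.iff_exists_tensorProduct]
      refine ⟨∑ i, u i ⊗ₜ[A] b i, fun x => ?_, ?_⟩
      · rw [sub_mul, sub_eq_zero, Finset.mul_sum, Finset.mul_sum]
        simp only [Algebra.TensorProduct.tmul_mul_tmul, one_mul]
        have hxu : ∀ k, x * u k = ∑ i, b.repr (x * b i) k • u i := by
          intro k
          refine hnd _ _ fun l => ?_
          rw [Finset.sum_mul, map_sum]
          simp only [smul_mul_assoc, map_smul, hdual, smul_eq_mul, mul_ite, mul_one, mul_zero,
            Finset.sum_ite_eq', Finset.mem_univ, if_true]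
          conv_lhs => rw [mul_comm x, mul_assoc, ← b.sum_repr (x * b l), Finset.mul_sum, map_sum]
          simp only [mul_smul_comm, map_smul, hdual, smul_eq_mul, mul_ite, mul_one, mul_zero,
            Finset.sum_ite_eq, Finset.mem_univ, if_true]
        simp only [hxu, TensorProduct.sum_tmul]
        conv_lhs => arg 2; ext i; rw [← b.sum_repr (x * b i)]
        simp only [TensorProduct.tmul_sum, TensorProduct.tmul_smul, ← TensorProduct.smul_tmul']
        exact Finset.sum_comm
      · rw [map_sum]
        simp only [Algebra.TensorProduct.lmul'_apply_tmul]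
        refine hnd _ _ fun l => ?_
        rw [one_mul, Finset.sum_mul, map_sum, Algebra.trace_eq_matrix_trace b (b l), Matrix.trace]
        refine Finset.sum_congr rfl fun i _ => ?_
        rw [Matrix.diag_apply, Algebra.leftMulMatrix_eq_repr_mul, mul_assoc, mul_comm (b i),
          ← b.sum_repr (b l * b i), Finset.mul_sum, map_sum]
        simp only [mul_smul_comm, map_smul, hdual, smul_eq_mul, mul_ite, mul_one, mul_zero,
          Finset.sum_ite_eq, Finset.mem_univ, if_true, Module.Basis.sum_repr]
    haveI : Module.FinitePresentation A B := Module.finitePresentation_of_projective A B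
    haveI : Algebra.FinitePresentation A B := Algebra.FinitePresentation.of_finitePresentation A B
    exact Algebra.Etale.of_formallyUnramified_of_flat

end Groth.Agent.S2195
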