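import Groth.Statements.S5810
import Groth.Agent.QGorD.FlatBase
import Groth.Agent.LocH.DepthMisc
import Groth.Agent.AdicBasics.Dimension

set_option autoImplicit false
universe u
open EGA41

namespace Groth.Agent.S5810

/-- Let A be a Noetherian local ring with maximal ideal m and M a finitely generated A-module; write Â
and M̂ for the m-adic completions. Then prof_A(M) = prof_Â(M̂). -/
theorem result (A : Type u) [CommRing A] [IsLocalRing A] [IsNoetherianRing A] (M : Type u)
    [AddCommGroup M] [Module A M] [Module.Finite A M] :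
    LocCoh.depth (AdicCompletion (IsLocalRing.maximalIdeal A) A) (AdicCompletion (IsLocalRing.maximalIdeal A) M) =
      LocCoh.depth A M := by
  show LocCoh.idealDepth _ _ = LocCoh.idealDepth _ _
  rw [← Groth.Agent.LocH.idealDepth_congr (AdicCompletion.ofTensorProductEquivOfFiniteNoetherian (IsLocalRing.maximalIdeal A) M),
    AdicCompletion.maximalIdeal_eq_map]
  refine Groth.Agent.QGorD.idealDepth_baseChange_eq_of_surj (fun p hp => ?_) M
  refine ⟨⟨IsLocalRing.maximalIdeal (AdicCompletion (IsLocalRing.maximalIdeal A) A), inferInstance⟩, ?_⟩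
  have hpm : p.asIdeal = IsLocalRing.maximalIdeal A :=
    ((IsLocalRing.maximalIdeal.isMaximal A).eq_of_le p.2.ne_top hp).symm
  have h1 : IsLocalRing.maximalIdeal A ≤ (IsLocalRing.maximalIdeal (AdicCompletion (IsLocalRing.maximalIdeal A) A)).comap
      (algebraMap A (AdicCompletion (IsLocalRing.maximalIdeal A) A)) := by
    rw [← Ideal.map_le_iff_le_comap, ← AdicCompletion.maximalIdeal_eq_map]
  rw [hpm]
  exact ((IsLocalRing.maximalIdeal.isMaximal A).eq_of_le (Ideal.IsPrime.ne_top inferInstance) h1).symm

end Groth.Agent.S5810
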