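import Groth.Statements.S9549
import Groth.Agent.S2821
import Groth.Agent.S0233

set_option autoImplicit false
universe u
open CategoryTheory AlgebraicGeometry
open ParaF

namespace Groth.Agent.S9549

/-- For a regular local ring A the Picard group of the punctured spectrum is trivial: every invertible
module on Spec A ∖ {𝔪} is isomorphic to the structure sheaf. -/
theorem result (A : Type u) [CommRing A] [IsRegularLocalRing A] :
    ParaF.PicTrivial (↑(FEt.puncturedSpec A) : Scheme.{u}) := by
  obtain ⟨h1, h2⟩ := Groth.Agent.S2821.result A
  exact fun L hL => Groth.Agent.S0233.result A _ L hL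

end Groth.Agent.S9549
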