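import Groth.Statements.S1918
import Groth.Agent.CycDim.PushVanish
import Groth.Agent.CycDim.Lim

set_option autoImplicit false
universe u
open CategoryTheory AlgebraicGeometry
open CategoryTheory.Limits
open Cyc

namespace Groth.Agent.S1918


/-- The closed immersion weights are one. -/
theorem mapCoeff_closed {X W : Scheme.{u}} (j : W ⟶ X) [IsClosedImmersion j] (δ : X → ℤ) (w : W) :
    (AlgebraicCycle.mapCoeff j (fun x => δ (j x)) δ w : ℤ) = 1 := by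
  unfold AlgebraicCycle.mapCoeff
  rw [if_pos (show δ (j w) = δ (j.base w) from rfl),
    Groth.Agent.CycDeg.residueDegree_eq_one j (Groth.Agent.CycPush.residueFieldMap_surjective_pre j w)]
  rfl

theorem map_closed {X W : Scheme.{u}} (j : W ⟶ X) [IsClosedImmersion j] (δ : X → ℤ) (c : AlgebraicCycle W ℤ)
    (w : W) : AlgebraicCycle.map j (fun x => δ (j x)) δ c (j w) = c w := by
  show (∑ᶠ x ∈ (j ⁻¹' {j w} : Set W), c x * (AlgebraicCycle.mapCoeff j (fun x => δ (j x)) δ x : ℤ)) = c w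
  rw [show (j ⁻¹' {j w} : Set W) = {w} from Set.ext fun x =>
    ⟨fun h => j.isClosedEmbedding.injective h, fun h => congrArg j h⟩, finsum_mem_singleton, mapCoeff_closed, mul_one]

theorem map_closed_of_notMem {X W : Scheme.{u}} (j : W ⟶ X) [IsClosedImmersion j] (δ : X → ℤ)
    (c : AlgebraicCycle W ℤ) {x : X} (hx : x ∉ Set.range ⇑j) :
    AlgebraicCycle.map j (fun x => δ (j x)) δ c x = 0 :=
  finsum_mem_of_eqOn_zero fun w hw => absurd ⟨w, hw⟩ hx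

/-- The part of a family of principal divisors living on a closed subscheme. -/
theorem exists_part {X W : Scheme.{u}} [IsLocallyNoetherian X] (j : W ⟶ X) [IsClosedImmersion j] {δ : X → ℤ}
    (hδ : Cyc.IsDimFun X δ) (k : ℤ) {ι : Type u} (ξ : ι → X) (f : (i : ι) → X.residueField (ξ i))
    (P : ι → Prop) (hP : ∀ i, P i → ξ i ∈ Set.range ⇑j) (hξ : ∀ i, δ (ξ i) = k + 1) (hf : ∀ i, f i ≠ 0)
    (hloc : ∀ x : X, ∃ U : Set X, IsOpen U ∧ x ∈ U ∧ {i | (closure {ξ i} ∩ U).Nonempty}.Finite) :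
    ∃ ρ : AlgebraicCycle W ℤ, Cyc.RatEquivZero (fun w => δ (j w)) k ρ ∧
      (∀ w, ρ w = ∑ᶠ i : {i // P i}, Cyc.divFun δ (ξ i.1) (f i.1) (j w)) ∧
      ρ ∈ Cyc.Zk W (fun w => δ (j w)) k := by
  classical
  haveI : IsLocallyNoetherian W := LocallyOfFiniteType.isLocallyNoetherian j
  have hW := Groth.Agent.CycPush.isDimFun_closedImmersion j hδ
  choose w hw using hP
  let g : (i : {i // P i}) → W.residueField (w i.1 i.2) := fun i =>
    (j.residueFieldMap (w i.1 i.2)).hom ((X.residueFieldCongr (hw i.1 i.2)).inv (f i.1))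
  have hg : ∀ i, g i ≠ 0 := fun i => (map_ne_zero _).2 ((map_ne_zero _).2 (hf i.1))
  have hdiv : ∀ i z, Cyc.divFun (fun w => δ (j w)) (w i.1 i.2) (g i) z = Cyc.divFun δ (ξ i.1) (f i.1) (j z) := by
    intro i z
    have aux : ∀ (x : X) (h : j (w i.1 i.2) = x) (v : X.residueField x),
        Cyc.divFun (fun w => δ (j w)) (w i.1 i.2)
          ((j.residueFieldMap (w i.1 i.2)).hom ((X.residueFieldCongr h).inv v)) z = Cyc.divFun δ x v (j z) := by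
      rintro x rfl v
      rw [Scheme.residueFieldCongr_refl]
      unfold Cyc.divFun
      by_cases h : w i.1 i.2 ⤳ z ∧ δ (j z) + 1 = δ (j (w i.1 i.2))
      · rw [dif_pos h, dif_pos ⟨h.1.map j.continuous, h.2⟩]
        exact Groth.Agent.CycPush.ordAt_closedImmersion j h.1 v
      · rw [dif_neg h, dif_neg fun h' =>
          h ⟨j.isClosedEmbedding.isInducing.specializes_iff.1 h'.1, h'.2⟩]
    exact aux _ (hw i.1 i.2) (f i.1)
  choose U hU hxU hfinU using hloc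
  have hlocW : ∀ z : W, ∃ O : Set W, IsOpen O ∧ z ∈ O ∧
      {i : {i // P i} | (closure {w i.1 i.2} ∩ O).Nonempty}.Finite := fun z =>
    ⟨j ⁻¹' U (j z), (hU _).preimage j.continuous, hxU _,
      ((hfinU (j z)).preimage Subtype.val_injective.injOn).subset fun i ⟨v, hv, hvO⟩ =>
        ⟨j v, specializes_iff_mem_closure.1 (hw i.1 i.2 ▸ (specializes_iff_mem_closure.2 hv).map j.continuous), hvO⟩⟩
  let R : W → ℤ := fun z => ∑ᶠ i : {i // P i}, Cyc.divFun (fun w => δ (j w)) (w i.1 i.2) (g i) z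
  have hfin : ∀ {V : W.Opens}, IsAffineOpen V → {z : W | z ∈ V ∧ R z ≠ 0}.Finite := by
    intro V hV
    choose O hO hzO hfO using hlocW
    obtain ⟨t, ht⟩ := hV.isCompact.elim_finite_subcover O hO fun z _ => Set.mem_iUnion.2 ⟨z, hzO z⟩
    refine (t.finite_toSet.biUnion fun z _ => (hfO z).biUnion fun i _ =>
      Groth.Agent.CycDiv.finite_divFun hW (w i.1 i.2) (hg i) hV).subset fun z hz => ?_
    obtain ⟨i, hi⟩ : ∃ i, Cyc.divFun (fun w => δ (j w)) (w i.1 i.2) (g i) z ≠ 0 := by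
      by_contra h
      push Not at h
      exact hz.2 (finsum_eq_zero_of_forall_eq_zero h)
    obtain ⟨a, ha, hza⟩ := Set.mem_iUnion₂.1 (ht hz.1)
    exact Set.mem_biUnion ha (Set.mem_biUnion
      (show i ∈ {i : {i // P i} | (closure {w i.1 i.2} ∩ O a).Nonempty} from
        ⟨z, specializes_iff_mem_closure.1 (Groth.Agent.CycDeg.divFun_delta hi).1, hza⟩) ⟨hz.1, hi⟩)
  refine ⟨Groth.Agent.CycLim.mkCycle R fun {V} hV => hfin hV, ⟨{i // P i}, fun i => w i.1 i.2, g,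
    fun i => (congrArg δ (hw i.1 i.2)).trans (hξ i.1), hg, hlocW, fun _ => rfl⟩,
    fun z => finsum_congr fun i => hdiv i z, fun z hz => ?_⟩
  refine finsum_eq_zero_of_forall_eq_zero fun i => ?_
  by_contra h
  have h2 := (Groth.Agent.CycDeg.divFun_delta h).2
  rw [congrArg δ (hw i.1 i.2), hξ] at h2
  exact hz (show δ (j z) = k by omega)

theorem ratEquivZero_neg {X : Scheme.{u}} {δ : X → ℤ} {k : ℤ} {α : AlgebraicCycle X ℤ}
    (h : Cyc.RatEquivZero δ k α) : Cyc.RatEquivZero δ k (-α) := by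
  obtain ⟨ι, ξ, f, h1, h2, h3, h4⟩ := h
  refine ⟨ι, ξ, fun i => (f i)⁻¹, h1, fun i => inv_ne_zero (h2 i), h3, fun x => ?_⟩
  show -(α x) = _
  rw [h4 x, ← finsum_neg_distrib]
  refine finsum_congr fun i => ?_
  unfold Cyc.divFun
  split
  · next h => rw [Groth.Agent.C1Cap.ordAt_inv _ (h2 i)]
  · rw [neg_zero]

/-- Mayer–Vietoris for Chow groups, exactness in the middle: let i₁ : X₁ → X, i₂ : X₂ → X be closed
immersions covering X set-theoretically and X₁₂ = X₁ ×_X X₂ their scheme-theoretic intersection. If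
k-cycles α₁ on X₁ and α₂ on X₂ have rationally equivalent pushforwards on X, then there is a k-cycle
β on X₁₂ with α₁ ∼_rat (pr₁)_*β on X₁ and α₂ ∼_rat (pr₂)_*β on X₂. (The published statement also
asserts that CH_k(X₁) ⊕ CH_k(X₂) → CH_k(X) is surjective; that is not asserted here.) Here a pair
(X, δ) with Cyc.IsSetup plays the role of a scheme locally of finite type over a fixed base with a
dimension function (X locally Noetherian with universally catenary local rings, δ a dimension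
function). -/
theorem result (X : Scheme.{u}) (δ : X → ℤ) (hX : Cyc.IsSetup X δ) (X₁ X₂ : Scheme.{u}) (i₁ : X₁ ⟶ X) (i₂ : X₂ ⟶ X) [IsClosedImmersion i₁] [IsClosedImmersion i₂] (hcov : Set.range ⇑i₁ ∪ Set.range ⇑i₂ = Set.univ) (k : ℤ) (α₁ : AlgebraicCycle X₁ ℤ) (α₂ : AlgebraicCycle X₂ ℤ) (h₁ : α₁ ∈ Cyc.Zk X₁ (fun x => δ (i₁ x)) k) (h₂ : α₂ ∈ Cyc.Zk X₂ (fun x => δ (i₂ x)) k) (h : Cyc.RatEquiv δ k (AlgebraicCycle.map i₁ (fun x => δ (i₁ x)) δ α₁) (AlgebraicCycle.map i₂ (fun x => δ (i₂ x)) δ α₂)) : ∃ β : AlgebraicCycle (pullback i₁ i₂) ℤ, β ∈ Cyc.Zk (pullback i₁ i₂) (fun z => δ (i₁ (pullback.fst i₁ i₂ z))) k ∧ Cyc.RatEquiv (fun x => δ (i₁ x)) k α₁ (AlgebraicCycle.map (pullback.fst i₁ i₂) (fun z => δ (i₁ (pullback.fst i₁ i₂ z))) (fun x => δ (i₁ x)) β) ∧ Cyc.RatEquiv (fun x => δ (i₂ x)) k α₂ (AlgebraicCycle.map (pullback.snd i₁ i₂) (fun z => δ (i₁ (pullback.fst i₁ i₂ z))) (fun x => δ (i₂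 x)) β) := by

  classical
  haveI := hX.1
  haveI : IsLocallyNoetherian X₁ := LocallyOfFiniteType.isLocallyNoetherian i₁
  obtain ⟨ι, ξ, f, hξ, hf, hloc, hsum⟩ := h
  obtain ⟨ρ₁, hρ₁, hρ₁v, hρ₁k⟩ := exists_part i₁ hX.2.2 k ξ f (fun i => ξ i ∈ Set.range ⇑i₁) (fun _ h => h) hξ hf hloc
  obtain ⟨ρ₂, hρ₂, hρ₂v, hρ₂k⟩ := exists_part i₂ hX.2.2 k ξ f (fun i => ξ i ∉ Set.range ⇑i₁) (fun i h => by
    have hm : ξ i ∈ Set.range ⇑i₁ ∪ Set.range ⇑i₂ := by rw [hcov]; trivial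
    exact hm.resolve_left h) hξ hf hloc
  let A : X → ℤ := fun x => ∑ᶠ i : {i // ξ i ∈ Set.range ⇑i₁}, Cyc.divFun δ (ξ i.1) (f i.1) x
  let B : X → ℤ := fun x => ∑ᶠ i : {i // ξ i ∉ Set.range ⇑i₁}, Cyc.divFun δ (ξ i.1) (f i.1) x
  have hA0 : ∀ x, x ∉ Set.range ⇑i₁ → A x = 0 := fun x hx => finsum_eq_zero_of_forall_eq_zero fun i => by
    by_contra h
    exact hx ((Groth.Agent.CycDeg.divFun_delta h).1.mem_closed i₁.isClosedEmbedding.isClosed_range i.2)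
  have hB0 : ∀ x, x ∉ Set.range ⇑i₂ → B x = 0 := fun x hx => finsum_eq_zero_of_forall_eq_zero fun i => by
    by_contra h
    have hm : ξ i.1 ∈ Set.range ⇑i₁ ∪ Set.range ⇑i₂ := by rw [hcov]; trivial
    exact hx ((Groth.Agent.CycDeg.divFun_delta h).1.mem_closed i₂.isClosedEmbedding.isClosed_range (hm.resolve_left i.2))
  have hAB : ∀ x, AlgebraicCycle.map i₁ (fun x => δ (i₁ x)) δ α₁ x - AlgebraicCycle.map i₂ (fun x => δ (i₂ x)) δ α₂ x =
      A x + B x := by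
    intro x
    obtain ⟨U, hU, hxU, hfin⟩ := hloc x
    have hsupp : ∀ i, Cyc.divFun δ (ξ i) (f i) x ≠ 0 → i ∈ hfin.toFinset := fun i hi =>
      hfin.mem_toFinset.2 ⟨x, specializes_iff_mem_closure.1 (Groth.Agent.CycDeg.divFun_delta hi).1, hxU⟩
    refine (hsum x).trans ?_
    rw [finsum_eq_sum_of_support_subset _ (s := hfin.toFinset) (fun i hi => hsupp i hi),
      ← Finset.sum_filter_add_sum_filter_not hfin.toFinset (fun i => ξ i ∈ Set.range ⇑i₁)]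
    congr 1
    · rw [show A x = ∑ᶠ i ∈ {i | ξ i ∈ Set.range ⇑i₁}, Cyc.divFun δ (ξ i) (f i) x from
        finsum_set_coe_eq_finsum_mem (f := fun i => Cyc.divFun δ (ξ i) (f i) x) {i | ξ i ∈ Set.range ⇑i₁}]
      exact (finsum_mem_eq_sum_of_subset _
        (fun i hi => Finset.mem_coe.2 (Finset.mem_filter.2 ⟨hsupp i hi.2, hi.1⟩))
        (fun i hi => (Finset.mem_filter.1 (Finset.mem_coe.1 hi)).2)).symm
    · rw [show B x = ∑ᶠ i ∈ {i | ξ i ∉ Set.range ⇑i₁}, Cyc.divFun δ (ξ i) (f i) x from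
        finsum_set_coe_eq_finsum_mem (f := fun i => Cyc.divFun δ (ξ i) (f i) x) {i | ξ i ∉ Set.range ⇑i₁}]
      symm
      refine finsum_mem_eq_sum_of_subset _ (fun i hi => ?_) (fun i hi => ?_)
      · simp only [Finset.coe_filter, Set.mem_setOf_eq]
        exact ⟨hsupp i hi.2, hi.1⟩
      · simp only [Finset.coe_filter, Set.mem_setOf_eq] at hi
        exact hi.2
  let α₁' : AlgebraicCycle X₁ ℤ := α₁ - ρ₁
  let α₂' : AlgebraicCycle X₂ ℤ := α₂ + ρ₂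
  have hboth : ∀ z₁ z₂, i₁ z₁ = i₂ z₂ → α₁' z₁ = α₂' z₂ := by
    intro z₁ z₂ e
    show α₁ z₁ - ρ₁ z₁ = α₂ z₂ + ρ₂ z₂
    have h0 := hAB (i₁ z₁)
    rw [map_closed i₁ δ α₁ z₁, e, map_closed i₂ δ α₂ z₂] at h0
    rw [show ρ₁ z₁ = A (i₁ z₁) from hρ₁v z₁, show ρ₂ z₂ = B (i₂ z₂) from hρ₂v z₂, e]
    omega
  have honly₁ : ∀ z₁, i₁ z₁ ∉ Set.range ⇑i₂ → α₁' z₁ = 0 := by
    intro z₁ hz
    show α₁ z₁ - ρ₁ z₁ = 0
    have h0 := hAB (i₁ z₁)
    rw [map_closed i₁ δ α₁ z₁, map_closed_of_notMem i₂ δ α₂ hz, hB0 _ hz] at h0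
    rw [show ρ₁ z₁ = A (i₁ z₁) from hρ₁v z₁]
    omega
  have honly₂ : ∀ z₂, i₂ z₂ ∉ Set.range ⇑i₁ → α₂' z₂ = 0 := by
    intro z₂ hz
    show α₂ z₂ + ρ₂ z₂ = 0
    have h0 := hAB (i₂ z₂)
    rw [map_closed i₂ δ α₂ z₂, map_closed_of_notMem i₁ δ α₁ hz, hA0 _ hz] at h0
    rw [show ρ₂ z₂ = B (i₂ z₂) from hρ₂v z₂]
    omega
  let p₁ := pullback.fst i₁ i₂
  let p₂ := pullback.snd i₁ i₂
  have hsq : ∀ z, i₁ (p₁ z) = i₂ (p₂ z) := fun z => by
    rw [← Scheme.Hom.comp_apply, ← Scheme.Hom.comp_apply, pullback.condition]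
  let β : AlgebraicCycle (pullback i₁ i₂) ℤ := Groth.Agent.CycLim.mkCycle (fun z => α₁' (p₁ z)) fun {V} hV =>
    ((α₁'.locallyFiniteSupport.finite_inter_support_of_isCompact (hV.isCompact.image p₁.continuous)).preimage
      p₁.isClosedEmbedding.injective.injOn).subset fun z hz => ⟨⟨z, hz.1, rfl⟩, hz.2⟩
  refine ⟨β, fun z hz => ?_, ?_, ?_⟩
  · show α₁ (p₁ z) - ρ₁ (p₁ z) = 0
    rw [h₁ (p₁ z) hz, hρ₁k (p₁ z) hz, sub_zero]
  · have hval : ∀ z₁, AlgebraicCycle.map p₁ (fun z => δ (i₁ (p₁ z))) (fun x => δ (i₁ x)) β z₁ = α₁' z₁ := by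
      intro z₁
      by_cases hz : z₁ ∈ Set.range ⇑p₁
      · obtain ⟨z, rfl⟩ := hz
        exact map_closed p₁ (fun x => δ (i₁ x)) β z
      · rw [map_closed_of_notMem p₁ (fun x => δ (i₁ x)) β hz, honly₁ z₁ fun ⟨z₂, h2⟩ => hz ?_]
        obtain ⟨z, hz1, -⟩ := Scheme.Pullback.exists_preimage_pullback (f := i₁) (g := i₂) z₁ z₂ h2.symm
        exact ⟨z, hz1⟩
    obtain ⟨κ, ζ, g, e1, e2, e3, e4⟩ := hρ₁
    refine ⟨κ, ζ, g, e1, e2, e3, fun z₁ => ?_⟩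
    show α₁ z₁ - AlgebraicCycle.map p₁ (fun z => δ (i₁ (p₁ z))) (fun x => δ (i₁ x)) β z₁ = _
    rw [hval, ← e4 z₁]
    show α₁ z₁ - (α₁ z₁ - ρ₁ z₁) = ρ₁ z₁
    ring
  · have hw : ∀ z, δ (i₁ (p₁ z)) = δ (i₂ (p₂ z)) := fun z => congrArg δ (hsq z)
    have hval : ∀ z₂, AlgebraicCycle.map p₂ (fun z => δ (i₁ (p₁ z))) (fun x => δ (i₂ x)) β z₂ = α₂' z₂ := by
      rw [show (fun z => δ (i₁ (p₁ z))) = fun z => δ (i₂ (p₂ z)) from funext hw]
      intro z₂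
      by_cases hz : z₂ ∈ Set.range ⇑p₂
      · obtain ⟨z, rfl⟩ := hz
        exact (map_closed p₂ (fun x => δ (i₂ x)) β z).trans (hboth _ _ (hsq z))
      · rw [map_closed_of_notMem p₂ (fun x => δ (i₂ x)) β hz, honly₂ z₂ fun ⟨z₁, h1⟩ => hz ?_]
        obtain ⟨z, -, hz2⟩ := Scheme.Pullback.exists_preimage_pullback (f := i₁) (g := i₂) z₁ z₂ h1
        exact ⟨z, hz2⟩
    obtain ⟨κ, ζ, g, e1, e2, e3, e4⟩ := ratEquivZero_neg hρ₂
    refine ⟨κ, ζ, g, e1, e2, e3, fun z₂ => ?_⟩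
    show α₂ z₂ - AlgebraicCycle.map p₂ (fun z => δ (i₁ (p₁ z))) (fun x => δ (i₂ x)) β z₂ = _
    rw [hval, ← e4 z₂]
    show α₂ z₂ - (α₂ z₂ + ρ₂ z₂) = -(ρ₂ z₂)
    ring

end Groth.Agent.S1918
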