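import Groth.Statements.S1863
import Groth.Agent.CycDim.Div

set_option autoImplicit false
universe u
open CategoryTheory AlgebraicGeometry
open Cyc

namespace Groth.Agent.S1863

open CategoryTheory AlgebraicGeometry

/-- Let U ⊆ X be open and α, β k-cycles on X whose restrictions to U are rationally equivalent on U (for
the restricted dimension function). Then there is a k-cycle γ on X vanishing on U with α rationally
equivalent to β + γ. Here a pair (X, δ) with Cyc.IsSetup plays the role of a scheme locally of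
finite type over a fixed base with a dimension function (X locally Noetherian with universally
catenary local rings, δ a dimension function). -/
theorem result (X : Scheme.{u}) (δ : X → ℤ) (hX : Cyc.IsSetup X δ) (U : X.Opens) (k : ℤ) (α β : AlgebraicCycle X ℤ) (hα : α ∈ Cyc.Zk X δ k) (hβ : β ∈ Cyc.Zk X δ k) (αU βU : AlgebraicCycle (↑U : Scheme.{u}) ℤ) (hαU : ∀ u : ↥U, αU u = α (U.ι u)) (hβU : ∀ u : ↥U, βU u = β (U.ι u)) (h : Cyc.RatEquiv (fun u : ↥U => δ (U.ι u)) k αU βU) : ∃ γ : AlgebraicCycle X ℤ, γ ∈ Cyc.Zk X δ k ∧ (∀ x : X, x ∈ U → γ x = 0) ∧ Cyc.RatEquiv δ k α (β + γ) := by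

  classical
  haveI := hX.1
  obtain ⟨ι, ξ, g, hξ, hg, hloc, hsum⟩ := h
  let j := U.ι
  let g' : ∀ i, X.residueField (j (ξ i)) := fun i => (asIso (j.residueFieldMap (ξ i))).commRingCatIsoToRingEquiv.symm (g i)
  have hg' : ∀ i, (j.residueFieldMap (ξ i)).hom (g' i) = g i := fun i =>
    (asIso (j.residueFieldMap (ξ i))).commRingCatIsoToRingEquiv.apply_symm_apply (g i)
  have hg'0 : ∀ i, g' i ≠ 0 := fun i h0 => hg i (by rw [← hg' i, h0, map_zero])
  have hI : ∀ W : X.Opens, IsAffineOpen W → {i | j (ξ i) ∈ W}.Finite := by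
    intro W hW
    have hc : IsCompact (j ⁻¹' (W : Set X)) := by
      haveI : IsNoetherianRing Γ(X, W) := IsLocallyNoetherian.component_noetherian ⟨W, hW⟩
      have hN := noetherianSpace_of_isAffineOpen W hW
      rw [Topology.IsInducing.isCompact_iff j.isOpenEmbedding.isInducing]
      have hsub : j '' (j ⁻¹' (W : Set X)) ⊆ W := Set.image_preimage_subset _ _
      have := (@TopologicalSpace.NoetherianSpace.isCompact _ _ hN
        (Subtype.val ⁻¹' (j '' (j ⁻¹' (W : Set X))))).image continuous_subtype_val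
      have he : (Subtype.val : W → X) '' (Subtype.val ⁻¹' (j '' (j ⁻¹' (W : Set X)))) = j '' (j ⁻¹' (W : Set X)) := by
        ext z
        constructor
        · rintro ⟨w, hw, rfl⟩; exact hw
        · exact fun hz => ⟨⟨z, hsub hz⟩, hz, rfl⟩
      exact Eq.mp (congrArg IsCompact he) this
    choose O hO hxO hOfin using hloc
    obtain ⟨t, ht⟩ := hc.elim_finite_subcover O hO fun x _ => Set.mem_iUnion.2 ⟨x, hxO x⟩
    refine (t.finite_toSet.biUnion fun y _ => hOfin y).subset fun i hi => ?_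
    obtain ⟨y, hy, hiy⟩ := Set.mem_iUnion₂.1 (ht hi)
    exact Set.mem_iUnion₂.2 ⟨y, hy, ξ i, subset_closure rfl, hiy⟩
  let T : X → ℤ := fun x => ∑ᶠ i, Cyc.divFun δ (j (ξ i)) (g' i) x
  have hTzero : ∀ x, δ x ≠ k → T x = 0 := fun x hx =>
    finsum_eq_zero_of_forall_eq_zero fun i => by
      rw [Cyc.divFun, dif_neg]
      rintro ⟨-, h2⟩
      have h3 : δ (j (ξ i)) = k + 1 := hξ i
      omega
  have hTU : ∀ u : ↥U, T (j u) = αU u - βU u := fun u => by
    refine Eq.trans (finsum_congr fun i => ?_) (hsum u).symm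
    unfold Cyc.divFun
    by_cases hc : ξ i ⤳ u ∧ δ (j u) + 1 = δ (j (ξ i))
    · rw [dif_pos ⟨hc.1.map j.continuous, hc.2⟩, dif_pos hc, ← Groth.Agent.CycDiv.ordAt_openImmersion j hc.1, hg']
    · have hn : ¬ (j (ξ i) ⤳ j u ∧ δ (j u) + 1 = δ (j (ξ i))) :=
        fun h => hc ⟨j.isOpenEmbedding.isInducing.specializes_iff.1 h.1, h.2⟩
      rw [dif_neg hn, dif_neg hc]
  have hTfin : LocallyFiniteSupport T := by
    intro x
    obtain ⟨W, hW, hxW, -⟩ := exists_isAffineOpen_mem_and_subset (U := (⊤ : X.Opens)) (x := x) trivial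
    refine ⟨W, W.2.mem_nhds hxW, ((hI W hW).biUnion fun i _ =>
      Groth.Agent.CycDiv.finite_divFun hX.2.2 (j (ξ i)) (hg'0 i) hW).subset ?_⟩
    rintro z ⟨hzW, hz⟩
    obtain ⟨i, hi⟩ : ∃ i, Cyc.divFun δ (j (ξ i)) (g' i) z ≠ 0 := by
      by_contra hn
      push Not at hn
      exact hz (finsum_eq_zero_of_forall_eq_zero hn)
    refine Set.mem_iUnion₂.2 ⟨i, ?_, hzW, hi⟩
    by_contra hni
    exact hi (dif_neg fun h => hni (h.1.mem_open W.2 hzW))
  let Tc : AlgebraicCycle X ℤ :=
    { toFun := T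
      supportWithinDomain' := Set.subset_univ _
      supportLocallyFiniteWithinDomain' := fun x _ => hTfin x }
  refine ⟨α - β - Tc, fun x hx => ?_, fun x hx => ?_, ι, fun i => j (ξ i), g', fun i => hξ i, hg'0, fun x => ?_, fun x => ?_⟩
  · show α x - β x - T x = 0
    rw [hα x hx, hβ x hx, hTzero x hx]
    rfl
  · show α x - β x - T x = 0
    have h1 := hTU ⟨x, hx⟩
    rw [hαU, hβU] at h1
    have h2 : T x = α x - β x := h1
    omega
  · obtain ⟨W, hW, hxW, -⟩ := exists_isAffineOpen_mem_and_subset (U := (⊤ : X.Opens)) (x := x) trivial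
    refine ⟨W, W.2, hxW, (hI W hW).subset ?_⟩
    rintro i ⟨z, hz, hzW⟩
    exact (specializes_iff_mem_closure.2 hz).mem_open W.2 hzW
  · show α x - (β x + (α x - β x - T x)) = T x
    omega

end Groth.Agent.S1863
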