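import Groth.Statements.S8284
import Groth.Agent.RelTilde.Exists
import Groth.Agent.RelTilde.Cast

set_option linter.style.haveILetI false
set_option backward.isDefEq.respectTransparency false

set_option autoImplicit false
universe u
open CategoryTheory CategoryTheory.Limits AlgebraicGeometry Opposite TopologicalSpace
open scoped HomogeneousIdeal
noncomputable section
open EGA2

namespace Groth.Agent.S8284

/-- The case of the graded module 𝒮(n), i.e. existence of the twisting sheaf O_P(n): on the relative
homogeneous spectrum P = Proj(𝒮) there is, for every integer n, an O_P-module glued from the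
twisting sheaves O(n) of the Proj 𝒮(U), U affine open in Y (an O_P-module with chartwise
identifications, bijective on sections and compatible along restrictions to basic opens). -/
theorem result {Y P : Scheme.{u}} (𝒮 : RelProj.QCGrAlg Y) (p : P ⟶ Y)
    (chart : ∀ (U : Y.Opens) (hU : IsAffineOpen U), (((p ⁻¹ᵁ U : P.Opens) : Scheme.{u}) ≅ Proj (𝒮.deg U hU)))
    (hP : RelProj.IsRelProj 𝒮 p chart) (n : ℤ) :
    ∃ (L : P.Modules) (lam : ∀ (U : Y.Opens) (hU : IsAffineOpen U),
      L ⟶ (Scheme.Modules.pushforward (RelProj.emb p chart U hU)).obj (GrTwist.twist (𝒮.deg U hU) n)),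
      RelProj.IsRelTwist 𝒮 p chart n L lam := by
  obtain ⟨L, lam, h⟩ := (RelTilde.Datum.self 𝒮).exists_isTilde hP n
  exact ⟨L, lam, (RelTilde.isRelTwist_iff 𝒮 n L lam).mpr h⟩

end Groth.Agent.S8284
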