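import Groth.Statements.S1481
import Mathlib.AlgebraicGeometry.Fiber
import Groth.Agent.ValLib.FieldPoint

set_option autoImplicit false
universe u
open FlatMor

namespace Groth.Agent.S1481

open AlgebraicGeometry CategoryTheory

/-- Two points specializing to each other are equal (the space of a scheme is T0). -/
lemma specializes_antisymm' {X S : Scheme.{u}} (_f : X ⟶ S) {a b : X} (h : a ⤳ b) (h' : b ⤳ a)
    (_ : _f b = _f a) : a = b :=
  (h.antisymm h').eq

/-- Every point of a closed subset of a fibre is a specialization of a generic point of a component. -/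
lemma exists_generic {X S : Scheme.{u}} (f : X ⟶ S) (A : Set X) (hA : IsClosed A) (s : S) (a : X)
    (haA : a ∈ A) (has : f a = s) :
    ∃ (γ : X) (hγA : γ ∈ A) (hγs : f γ = s), γ ⤳ a ∧ ∃ C ∈ irreducibleComponents ↑(A ∩ f ⁻¹' {s}),
      IsGenericPoint (⟨γ, hγA, hγs⟩ : ↑(A ∩ f ⁻¹' {s})) C := by
  haveI : QuasiSober ↑(f ⁻¹' {s}) := (f.fiberHomeo s).symm.isClosedEmbedding.quasiSober
  haveI : QuasiSober ↑(A ∩ f ⁻¹' {s}) := by
    refine Topology.IsClosedEmbedding.quasiSober (f := Set.inclusion Set.inter_subset_right)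
      ⟨Topology.IsEmbedding.inclusion _, ?_⟩
    have : Set.range (Set.inclusion (Set.inter_subset_right : A ∩ f ⁻¹' {s} ⊆ f ⁻¹' {s})) = Subtype.val ⁻¹' A := by
      ext z
      simp only [Set.range_inclusion, Set.mem_setOf_eq, Set.mem_preimage, Set.mem_inter_iff]
      exact ⟨fun h => h.1, fun h => ⟨h, z.2⟩⟩
    rw [this]
    exact hA.preimage continuous_subtype_val
  let p : ↑(A ∩ f ⁻¹' {s}) := ⟨a, haA, has⟩
  have hC := irreducibleComponent_mem_irreducibleComponents p
  obtain ⟨γ, hγ⟩ := QuasiSober.sober hC.1 isClosed_irreducibleComponent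
  exact ⟨γ.1, γ.2.1, γ.2.2, (subtype_specializes_iff _ _).mp (hγ.specializes mem_irreducibleComponent),
    irreducibleComponent p, hC, hγ⟩


open AlgebraicGeometry CategoryTheory Limits in
/-- Let f : X → S, y a point of X with image t, Y the closure of y, s a point of S and x a point of Y
over s which is generic in an irreducible component of the fibre of Y over s (fibres as subspaces).
Then there are a valuation ring R and a morphism g : Spec R → S sending the generic point to t and
the closed point to s, such that, writing X' for the base change with projections g' : X' → X and f'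
: X' → Spec R, there is a point y' of X' over the generic point with g' y' = y which is generic in
an irreducible component of the generic fibre of g'⁻¹(Y), and a point x' in the closure of y' over
the closed point with g' x' = x which is generic in an irreducible component of the special fibre of
the closure of y'. -/
theorem result {X S : Scheme.{u}} (f : X ⟶ S) (y : X) (s : S) (x : X)
    (hx : x ∈ closure ({y} : Set ↑X)) (hxs : f x = s)
    (hgen : ∃ C ∈ irreducibleComponents ↑(closure ({y} : Set ↑X) ∩ f ⁻¹' {s}), IsGenericPoint (⟨x, hx, hxs⟩ : ↑(closure ({y} : Set ↑X) ∩ f ⁻¹' {s})) C) :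
    ∃ (R : Type u) (_ : CommRing R) (_ : IsDomain R) (_ : ValuationRing R) (g : Spec (CommRingCat.of R) ⟶ S),
      g (⊥ : PrimeSpectrum R) = f y ∧ g (IsLocalRing.closedPoint R) = s ∧
      ∃ (y' : ↑(pullback f g)) (hy't : pullback.snd f g y' = (⊥ : PrimeSpectrum R)) (hy'Y : pullback.fst f g y' ∈ closure ({y} : Set ↑X)),
        pullback.fst f g y' = y ∧
        (∃ C ∈ irreducibleComponents ↑((pullback.fst f g) ⁻¹' closure ({y} : Set ↑X) ∩ (pullback.snd f g) ⁻¹' {(⊥ : PrimeSpectrum R)}),
          IsGenericPoint (⟨y', hy'Y, hy't⟩ : ↑((pullback.fst f g) ⁻¹' closure ({y} : Set ↑X) ∩ (pullback.snd f g) ⁻¹' {(⊥ : PrimeSpectrum R)})) C) ∧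
        ∃ (x' : ↑(pullback f g)) (hx' : x' ∈ closure ({y'} : Set ↑(pullback f g))) (hx's : pullback.snd f g x' = IsLocalRing.closedPoint R),
          pullback.fst f g x' = x ∧
          ∃ C ∈ irreducibleComponents ↑(closure ({y'} : Set ↑(pullback f g)) ∩ (pullback.snd f g) ⁻¹' {IsLocalRing.closedPoint R}),
            IsGenericPoint (⟨x', hx', hx's⟩ : ↑(closure ({y'} : Set ↑(pullback f g)) ∩ (pullback.snd f g) ⁻¹' {IsLocalRing.closedPoint R})) C := by
  subst hxs
  -- a valuation ring centred at `x` with fraction field `κ(y)`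
  have hyx : X.fromSpecResidueField y (IsLocalRing.closedPoint (X.residueField y)) ⤳ x := by
    rw [Scheme.fromSpecResidueField_apply]
    exact specializes_iff_mem_closure.mpr hx
  obtain ⟨B, c, hcx, hc⟩ := Groth.Agent.ValLib.exists_valuation_of_specializes (L := X.residueField y)
    (X.fromSpecResidueField y) hyx
  have hcy : c (⊥ : PrimeSpectrum B) = y := by
    have h := congrArg (fun q : Spec (CommRingCat.of (X.residueField y)) ⟶ X =>
      q (IsLocalRing.closedPoint (X.residueField y))) hc
    simp only [Scheme.Hom.comp_apply] at h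
    rw [Scheme.fromSpecResidueField_apply] at h
    refine (congrArg c ?_).trans h
    refine (PrimeSpectrum.ext ?_).symm
    change Ideal.comap (algebraMap B (X.residueField y)) (IsLocalRing.maximalIdeal (X.residueField y)) = ⊥
    rw [IsLocalRing.maximalIdeal_eq_bot, ← RingHom.ker_eq_comap_bot]
    exact (RingHom.injective_iff_ker_eq_bot _).mp Subtype.val_injective
  let g : Spec (CommRingCat.of B) ⟶ S := c ≫ f
  refine ⟨B, inferInstance, inferInstance, inferInstance, g, ?_, ?_, ?_⟩
  · simp only [g, Scheme.Hom.comp_apply, hcy]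
  · simp only [g, Scheme.Hom.comp_apply, hcx]
  -- the tautological section
  let σ : Spec (CommRingCat.of B) ⟶ pullback f g := pullback.lift c (𝟙 _) (by simp [g])
  have hσ1 : ∀ b, pullback.fst f g (σ b) = c b := fun b => by
    rw [← Scheme.Hom.comp_apply, pullback.lift_fst]
  have hσ2 : ∀ b, pullback.snd f g (σ b) = b := fun b => by
    rw [← Scheme.Hom.comp_apply, pullback.lift_snd]; rfl
  let Y : Set X := closure {y}
  obtain ⟨y', hy'Y, hy't, hy'σ, hy'gen⟩ := exists_generic (pullback.snd f g)
    ((pullback.fst f g) ⁻¹' Y) (isClosed_closure.preimage (pullback.fst f g).continuous) (⊥ : PrimeSpectrum B)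
    (σ (⊥ : PrimeSpectrum B)) (by rw [Set.mem_preimage, hσ1, hcy]; exact subset_closure rfl) (hσ2 _)
  have hy'y : pullback.fst f g y' = y := by
    refine (specializes_antisymm' f ?_ ?_ ?_).symm
    · exact specializes_iff_mem_closure.mpr hy'Y
    · have := hy'σ.map (pullback.fst f g).continuous
      rwa [hσ1, hcy] at this
    · rw [← Scheme.Hom.comp_apply, pullback.condition, Scheme.Hom.comp_apply, hy't]
      simp only [g, Scheme.Hom.comp_apply, hcy]
  refine ⟨y', hy't, hy'Y, hy'y, hy'gen, ?_⟩
  have hσcl : σ (IsLocalRing.closedPoint B) ∈ closure ({y'} : Set ↑(pullback f g)) := by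
    refine specializes_iff_mem_closure.mp (hy'σ.trans ?_)
    exact (IsLocalRing.specializes_closedPoint (⊥ : PrimeSpectrum B)).map σ.continuous
  obtain ⟨x', hx'c, hx's, hx'σ, hx'gen⟩ := exists_generic (pullback.snd f g)
    (closure ({y'} : Set ↑(pullback f g))) isClosed_closure (IsLocalRing.closedPoint B)
    (σ (IsLocalRing.closedPoint B)) hσcl (hσ2 _)
  refine ⟨x', hx'c, hx's, ?_, hx'gen⟩
  -- the image of `x'` generalizes `x` inside `Y ∩ f⁻¹ (f x)`
  have hzY : pullback.fst f g x' ∈ Y := by
    have := (specializes_iff_mem_closure.mpr hx'c).map (pullback.fst f g).continuous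
    rw [hy'y] at this
    exact specializes_iff_mem_closure.mp this
  have hzs : f (pullback.fst f g x') = f x := by
    rw [← Scheme.Hom.comp_apply, pullback.condition, Scheme.Hom.comp_apply, hx's]
    simp only [g, Scheme.Hom.comp_apply, hcx]
  have hzx : pullback.fst f g x' ⤳ x := by
    have := hx'σ.map (pullback.fst f g).continuous
    rwa [hσ1, hcx] at this
  obtain ⟨C, hC, hgp⟩ := hgen
  let a : ↑(Y ∩ f ⁻¹' {f x}) := ⟨pullback.fst f g x', hzY, hzs⟩
  let b : ↑(Y ∩ f ⁻¹' {f x}) := ⟨x, hx, rfl⟩
  have hab : a ⤳ b := (subtype_specializes_iff _ _).mpr hzx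
  have hba : b ⤳ a := by
    rw [hgp.specializes_iff_mem]
    have hirr : IsIrreducible (closure ({a} : Set ↑(Y ∩ f ⁻¹' {f x}))) := isIrreducible_singleton.closure
    exact hC.le_of_ge hirr (by rw [← hgp.def]; exact hab.closure_subset) (subset_closure rfl)
  exact (specializes_antisymm' f ((subtype_specializes_iff _ _).mp hba) hzx hzs).symm

end Groth.Agent.S1481
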