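import Groth.Statements.S6483
import Groth.Agent.CycDim.PushDiv

set_option autoImplicit false
universe u
open CategoryTheory AlgebraicGeometry
open CategoryTheory.Limits
open Cyc

namespace Groth.Agent.S6483

open CategoryTheory AlgebraicGeometry
open CategoryTheory.Limits

/-- A point of a fibre product over a given point and a point with trivial residue field extension. -/
theorem exists_point {X Y : Scheme.{u}} (f : Y ⟶ X) (y s : Y) (h : f y = f s)
    (hs : Function.Surjective (f.residueFieldMap s).hom) :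
    ∃ z : ↥(pullback f f), pullback.fst f f z = y ∧ pullback.snd f f z = s ∧
      Function.Surjective ((pullback.fst f f).residueFieldMap z).hom := by
  have hbij : Function.Bijective (f.residueFieldMap s).hom := ⟨(f.residueFieldMap s).hom.injective, hs⟩
  let e : X.residueField (f s) ≅ Y.residueField s := (RingEquiv.ofBijective _ hbij).toCommRingCatIso
  have he : e.hom = f.residueFieldMap s := rfl
  let φ : Y.residueField s ⟶ Y.residueField y :=
    e.inv ≫ (X.residueFieldCongr h.symm).hom ≫ f.residueFieldMap y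
  have hw : Y.fromSpecResidueField y ≫ f = (Spec.map φ ≫ Y.fromSpecResidueField s) ≫ f := by
    have h1 : f.residueFieldMap s ≫ φ = (X.residueFieldCongr h.symm).hom ≫ f.residueFieldMap y := by
      simp only [φ, ← he, Iso.hom_inv_id_assoc]
    rw [Category.assoc, ← Scheme.Hom.SpecMap_residueFieldMap_fromSpecResidueField f s, ← Category.assoc, ← Spec.map_comp, h1,
      Spec.map_comp, Category.assoc, Scheme.residueFieldCongr_fromSpecResidueField,
      Scheme.Hom.SpecMap_residueFieldMap_fromSpecResidueField]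
  let l : Spec (Y.residueField y) ⟶ pullback f f :=
    pullback.lift (Y.fromSpecResidueField y) (Spec.map φ ≫ Y.fromSpecResidueField s) hw
  let pt : ↥(Spec (Y.residueField y)) := IsLocalRing.closedPoint (Y.residueField y)
  refine ⟨l pt, ?_, ?_, ?_⟩
  · rw [← Scheme.Hom.comp_apply, pullback.lift_fst, Scheme.fromSpecResidueField_apply]
  · rw [← Scheme.Hom.comp_apply, pullback.lift_snd, Scheme.Hom.comp_apply, Scheme.fromSpecResidueField_apply]
  · have h2 : Function.Surjective ((l ≫ pullback.fst f f).residueFieldMap pt).hom := by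
      rw [show l ≫ pullback.fst f f = Y.fromSpecResidueField y from pullback.lift_fst _ _ _]
      intro a
      obtain ⟨a, rfl⟩ : ∃ b, ((Spec (Y.residueField y)).residue pt).hom b = a := Ideal.Quotient.mk_surjective a
      obtain ⟨b, rfl⟩ := (Y.fromSpecResidueField y).stalkMap_surjective pt a
      exact ⟨(Y.residue _).hom b,
        DFunLike.congr_fun (CommRingCat.hom_ext_iff.mp (Scheme.residue_residueFieldMap (Y.fromSpecResidueField y) pt)) b⟩
    rw [Scheme.residueFieldMap_comp] at h2
    intro a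
    obtain ⟨b, hb⟩ := h2 ((l.residueFieldMap pt).hom a)
    exact ⟨b, (l.residueFieldMap pt).hom.injective hb⟩

theorem deg_one {X Y : Scheme.{u}} (f : Y ⟶ X) {δY : Y → ℤ} {δ : X → ℤ} (hδ : Cyc.DeltaCompat f δY δ) {y : Y}
    (hs : Function.Surjective (f.residueFieldMap y).hom) : f.residueDegree y = 1 ∧ δY y = δ (f y) := by
  letI := (f.residueFieldMap y).hom.toAlgebra
  have hb : Function.Bijective (Algebra.linearMap (X.residueField (f y)) (Y.residueField y)) :=
    ⟨RingHom.injective _, hs⟩
  obtain ⟨n, hn, hn'⟩ := hδ y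
  refine ⟨?_, ?_⟩
  · show Module.finrank (X.residueField (f y)) (Y.residueField y) = 1
    rw [← (LinearEquiv.ofBijective _ hb).finrank_eq, Module.finrank_self]
  · haveI : Module.Finite (X.residueField (f y)) (Y.residueField y) :=
      Module.Finite.equiv (LinearEquiv.ofBijective _ hb)
    have h0 : Algebra.trdeg (X.residueField (f y)) (Y.residueField y) = 0 := trdeg_eq_zero_iff.2 inferInstance
    have hn0 : n = 0 := by
      have : (n : Cardinal.{u}) = 0 := hn.symm.trans h0
      exact_mod_cast this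
    rw [hn', hn0]
    simp

theorem residueDegree_comp {X Y Z : Scheme.{u}} (f : X ⟶ Y) (g : Y ⟶ Z) (x : X) :
    (f ≫ g).residueDegree x = g.residueDegree (f x) * f.residueDegree x := by
  show @Module.finrank (Z.residueField (g (f x))) (X.residueField x) _ _
    ((f ≫ g).residueFieldMap x).hom.toAlgebra.toModule = _
  rw [Scheme.residueFieldMap_comp]
  letI := (g.residueFieldMap (f x)).hom.toAlgebra
  letI := (f.residueFieldMap x).hom.toAlgebra
  letI : Algebra (Z.residueField (g (f x))) (X.residueField x) :=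
    (g.residueFieldMap (f x) ≫ f.residueFieldMap x).hom.toAlgebra
  haveI : IsScalarTower (Z.residueField (g (f x))) (Y.residueField (f x)) (X.residueField x) :=
    IsScalarTower.of_algebraMap_eq fun _ => rfl
  exact (Module.finrank_mul_finrank (Z.residueField (g (f x))) (Y.residueField (f x)) (X.residueField x)).symm

/-- The norm along a trivial residue field extension. -/
theorem normGen_of_surjective {X Y : Scheme.{u}} (f : Y ⟶ X) (y : Y) (hs : Function.Surjective (f.residueFieldMap y).hom)
    (g : X.residueField (f y)) : Cyc.normGen f y ((f.residueFieldMap y).hom g) = g := by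
  letI := (f.residueFieldMap y).hom.toAlgebra
  have hb : Function.Bijective (Algebra.linearMap (X.residueField (f y)) (Y.residueField y)) :=
    ⟨RingHom.injective _, hs⟩
  show Algebra.norm (X.residueField (f y)) (algebraMap (X.residueField (f y)) (Y.residueField y) g) = g
  rw [Algebra.norm_algebraMap, ← (LinearEquiv.ofBijective _ hb).finrank_eq, Module.finrank_self, pow_one]


/-- Let f : Y → X be an envelope and p, q : Y ×_X Y → Y the two projections. If a k-cycle β on Y has
f_*β ∼_rat 0 on X, then β ∼_rat p_*γ − q_*γ for some k-cycle γ on Y ×_X Y. Together with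
surjectivity of f_* and f_* p_* = f_* q_*, this is the exact sequence CH_k(Y ×_X Y) → CH_k(Y) →
CH_k(X) → 0. An envelope is a proper, completely decomposed morphism (every point of the target has
a point over it with trivial residue field extension; this prelude's Cyc.IsCompletelyDecomposed).
Here a pair (X, δ) with Cyc.IsSetup plays the role of a scheme locally of finite type over the base
(S, δ) (X locally Noetherian with universally catenary local rings, δ a dimension function), and
Cyc.DeltaCompat records that the dimension function upstairs is the induced one. -/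
theorem result (X Y : Scheme.{u}) (δ : X → ℤ) (δY : Y → ℤ) (hX : Cyc.IsSetup X δ) (hY : Cyc.IsSetup Y δY) (f : Y ⟶ X) [IsProper f] (hcd : Cyc.IsCompletelyDecomposed f) (hδ : Cyc.DeltaCompat f δY δ) (δ2 : ↥(pullback f f) → ℤ) (h2 : Cyc.IsSetup (pullback f f) δ2) (hδ2 : Cyc.DeltaCompat (pullback.fst f f) δ2 δY) (k : ℤ) (β : AlgebraicCycle Y ℤ) (hβ : β ∈ Cyc.Zk Y δY k) (h0 : Cyc.RatEquivZero δ k (AlgebraicCycle.map f δY δ β)) : ∃ γ : AlgebraicCycle (pullback f f) ℤ, γ ∈ Cyc.Zk (pullback f f) δ2 k ∧ Cyc.RatEquiv δY k β (AlgebraicCycle.map (pullback.fst f f) δ2 δY γ - AlgebraicCycle.map (pullback.snd f f) δ2 δY γ) := by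

  classical
  haveI := hX.1; haveI := hY.1
  obtain ⟨ι, ξ, g, hξ, hg, hloc, hsum⟩ := h0
  choose σ hσ hsurj using hcd
  have hσδ : ∀ x, f.residueDegree (σ x) = 1 ∧ δY (σ x) = δ x := fun x => by
    obtain ⟨h1, h2⟩ := deg_one f hδ (hsurj x)
    exact ⟨h1, by rw [h2, hσ]⟩
  let ζ : ι → Y := fun i => σ (ξ i)
  let gi : (i : ι) → X.residueField (f (ζ i)) := fun i => (X.residueFieldCongr (hσ (ξ i)).symm).hom (g i)
  let g' : (i : ι) → Y.residueField (ζ i) := fun i => (f.residueFieldMap (ζ i)).hom (gi i)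
  have hg' : ∀ i, g' i ≠ 0 := fun i => (map_ne_zero _).2 ((map_ne_zero _).2 (hg i))
  have hfs : ∀ y : Y, ∃ O : Y.Opens, y ∈ O ∧ ∃ s : Finset ι, ∀ i, ζ i ∈ O → i ∈ s := by
    intro y
    obtain ⟨U, hU, hyU, hfin⟩ := hloc (f y)
    refine ⟨f ⁻¹ᵁ ⟨U, hU⟩, hyU, hfin.toFinset, fun i hi => hfin.mem_toFinset.2 ⟨ξ i, subset_closure rfl, ?_⟩⟩
    have : f (ζ i) ∈ U := hi
    rwa [hσ] at this
  let T : Y → ℤ := fun y => ∑ᶠ i, Cyc.divFun δY (ζ i) (g' i) y
  have hTne : ∀ i y, Cyc.divFun δY (ζ i) (g' i) y ≠ 0 → ζ i ⤳ y ∧ δY y + 1 = δY (ζ i) := fun i y h => by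
    by_contra hn
    exact h (dif_neg hn)
  have hTzero : ∀ y, δY y ≠ k → T y = 0 := fun y hy => finsum_eq_zero_of_forall_eq_zero fun i => by
    by_contra h
    have h2 := (hTne i y h).2
    have : δY (ζ i) = k + 1 := (hσδ (ξ i)).2.trans (hξ i)
    omega
  let D : AlgebraicCycle Y ℤ :=
    { toFun := T
      supportWithinDomain' := Set.subset_univ _
      supportLocallyFiniteWithinDomain' := fun y _ => by
        obtain ⟨O, hyO, s, hsO⟩ := hfs y
        obtain ⟨W, hW, hyW, hWO⟩ := exists_isAffineOpen_mem_and_subset (x := y) (U := O) hyO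
        refine ⟨W, W.2.mem_nhds hyW, (s.finite_toSet.biUnion fun i _ =>
          Groth.Agent.CycDiv.finite_divFun hY.2.2 (ζ i) (hg' i) hW).subset ?_⟩
        rintro z ⟨hzW, hz⟩
        obtain ⟨i, hi⟩ : ∃ i, Cyc.divFun δY (ζ i) (g' i) z ≠ 0 := by
          by_contra hn
          push Not at hn
          exact hz (finsum_eq_zero_of_forall_eq_zero hn)
        exact Set.mem_biUnion (hsO i ((hTne i z hi).1.mem_open O.2 (hWO hzW))) ⟨hzW, hi⟩ }
  have hD : Cyc.RatEquivZero δY k D := ⟨ι, ζ, g', fun i => (hσδ (ξ i)).2.trans (hξ i), hg', fun y => by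
    obtain ⟨O, hyO, s, hsO⟩ := hfs y
    refine ⟨O, O.2, hyO, s.finite_toSet.subset ?_⟩
    rintro i ⟨z, hz, hzO⟩
    exact hsO i ((specializes_iff_mem_closure.2 hz).mem_open O.2 hzO), fun y => rfl⟩
  let β' : AlgebraicCycle Y ℤ := β - D
  have hβ'k : ∀ y, δY y ≠ k → β' y = 0 := fun y hy => by
    show β y - T y = 0
    rw [hβ y hy, hTzero y hy, sub_zero]
  let w : Y → ℤ := fun y => (AlgebraicCycle.mapCoeff f δY δ y : ℤ)
  have hfib : ∀ (c : AlgebraicCycle Y ℤ) (x : X), ((f ⁻¹' {x} : Set Y) ∩ Function.support fun y => c y * w y).Finite := by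
    intro c x
    obtain ⟨U, hU, hxU, -⟩ := exists_isAffineOpen_mem_and_subset (x := x) (U := (⊤ : X.Opens)) trivial
    refine (c.locallyFiniteSupport.finite_inter_support_of_isCompact
      (QuasiCompact.isCompact_preimage (f := f) U U.2 hU.isCompact)).subset ?_
    rintro y ⟨hy, hne⟩
    exact ⟨show f y ∈ (U : Set X) by rw [show f y = x from hy]; exact hxU, left_ne_zero_of_mul hne⟩
  have hmap0 : ∀ x : X, (∑ᶠ y ∈ (f ⁻¹' {x} : Set Y), β' y * w y) = 0 := by
    intro x
    have h1 : (∑ᶠ y ∈ (f ⁻¹' {x} : Set Y), β y * w y) = ∑ᶠ i, Cyc.divFun δ (ξ i) (g i) x := hsum x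
    have h2 : ∀ i, (∑ᶠ y ∈ (f ⁻¹' {x} : Set Y), Cyc.divFun δY (ζ i) (g' i) y * w y) =
        Cyc.divFun δ (ξ i) (g i) x := by
      intro i
      refine (Groth.Agent.CycPush.pushFun_divFun f hY.2.2 hX.2.2 hδ (ζ i) ((hσδ (ξ i)).2.trans
        (congrArg δ (hσ (ξ i)).symm)) (g' i) (hg' i) x).trans ?_
      rw [normGen_of_surjective f (ζ i) (hsurj (ξ i))]
      have : ∀ (a b : X) (h : a = b) (v : X.residueField b),
          Cyc.divFun δ a ((X.residueFieldCongr h.symm).hom v) x = Cyc.divFun δ b v x := by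
        rintro a b rfl v
        rw [Scheme.residueFieldCongr_refl]
        rfl
      exact this _ _ (hσ (ξ i)) (g i)
    have h3 : (∑ᶠ y ∈ (f ⁻¹' {x} : Set Y), T y * w y) = ∑ᶠ i, Cyc.divFun δ (ξ i) (g i) x := by
      rw [finsum_congr fun i => (h2 i).symm]
      obtain ⟨U, hU, hxU, hfin⟩ := hloc x
      obtain ⟨V, hV, hxV, hVU⟩ := exists_isAffineOpen_mem_and_subset (x := x) (U := ⟨U, hU⟩) hxU
      have hK : IsCompact (f ⁻¹' (V : Set X)) := QuasiCompact.isCompact_preimage (f := f) _ V.2 hV.isCompact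
      choose O hO hyO using fun y : Y => exists_isAffineOpen_mem_and_subset (x := y) (U := (⊤ : Y.Opens)) trivial
      obtain ⟨t, ht⟩ := hK.elim_finite_subcover (fun y => (O y : Set Y)) (fun y => (O y).2)
        fun y _ => Set.mem_iUnion.2 ⟨y, (hyO y).1⟩
      have hI : ∀ i y, f y = x → Cyc.divFun δY (ζ i) (g' i) y ≠ 0 → i ∈ hfin.toFinset := fun i y hy hne =>
        hfin.mem_toFinset.2 ⟨ξ i, subset_closure rfl, by
          have h4 := (hTne i y hne).1.map f.continuous
          rw [hσ, hy] at h4
          exact h4.mem_open hU hxU⟩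
      have hA := (hfin.toFinset.finite_toSet.biUnion fun i _ => t.finite_toSet.biUnion fun v _ =>
        Groth.Agent.CycDiv.finite_divFun hY.2.2 (ζ i) (hg' i) (hO v))
      have hsubA : ∀ i y, f y = x → Cyc.divFun δY (ζ i) (g' i) y ≠ 0 → y ∈ hA.toFinset := by
        intro i y hy hne
        obtain ⟨v, hv, hyv⟩ := Set.mem_iUnion₂.1 (ht (show f y ∈ V by rw [hy]; exact hxV))
        exact hA.mem_toFinset.2 (Set.mem_biUnion (hI i y hy hne) (Set.mem_biUnion hv ⟨hyv, hne⟩))
      let S := hA.toFinset.filter fun y => f y = x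
      have hS : ∀ (F : Y → ℤ), (∀ y, f y = x → F y ≠ 0 → ∃ i, Cyc.divFun δY (ζ i) (g' i) y ≠ 0) →
          (∑ᶠ y ∈ (f ⁻¹' {x} : Set Y), F y * w y) = ∑ y ∈ S, F y * w y := fun F hF =>
        finsum_mem_eq_sum_of_subset _ (fun y hy => by
          obtain ⟨i, hi⟩ := hF y hy.1 (left_ne_zero_of_mul hy.2)
          exact Finset.mem_filter.2 ⟨hsubA i y hy.1 hi, hy.1⟩) (fun y hy => (Finset.mem_filter.1 hy).2)
      rw [hS T fun y _ hy => by
          by_contra hn
          push Not at hn
          exact hy (finsum_eq_zero_of_forall_eq_zero hn),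
        finsum_congr fun i => hS _ fun y _ hy => ⟨i, hy⟩]
      rw [finsum_eq_sum_of_support_subset _ (s := hfin.toFinset) fun i hi => ?_, Finset.sum_comm]
      · refine Finset.sum_congr rfl fun y hy => ?_
        rw [← Finset.sum_mul]
        exact congrArg (· * w y) (finsum_eq_sum_of_support_subset _ fun i hi =>
          hI i y (Finset.mem_filter.1 hy).2 hi)
      · obtain ⟨y, hy, hne⟩ := Finset.exists_ne_zero_of_sum_ne_zero hi
        exact hI i y (Finset.mem_filter.1 hy).2 (left_ne_zero_of_mul hne)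
    calc (∑ᶠ y ∈ (f ⁻¹' {x} : Set Y), β' y * w y)
        = ∑ᶠ y ∈ (f ⁻¹' {x} : Set Y), (β y * w y - T y * w y) :=
          finsum_mem_congr rfl fun y _ => sub_mul (β y) (T y) (w y)
      _ = (∑ᶠ y ∈ (f ⁻¹' {x} : Set Y), β y * w y) - ∑ᶠ y ∈ (f ⁻¹' {x} : Set Y), T y * w y := by
          rw [eq_sub_iff_add_eq, ← finsum_mem_add_distrib' ?_
            (show ((f ⁻¹' {x} : Set Y) ∩ Function.support fun y => T y * w y).Finite from hfib D x)]
          · exact finsum_mem_congr rfl fun y _ => sub_add_cancel _ _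
          · refine ((hfib β x).union (hfib D x)).subset ?_
            rintro y ⟨hy, hne⟩
            by_cases hb : β y * w y = 0
            · exact Or.inr ⟨hy, fun h => hne (show β y * w y - T y * w y = 0 by
                rw [hb, show T y * w y = 0 from h, sub_zero])⟩
            · exact Or.inl ⟨hy, hb⟩
      _ = 0 := by rw [h1, h3, sub_self]
  choose z hz₁ hz₂ hz₃ using fun y : Y => exists_point f y (σ (f y)) (hσ (f y)).symm (hsurj (f y))
  have hzinj : Function.Injective z := fun a b h => by rw [← hz₁ a, ← hz₁ b, h]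
  have hzδ : ∀ y, (pullback.fst f f).residueDegree (z y) = 1 ∧ δ2 (z y) = δY y := fun y => by
    obtain ⟨h1, h2⟩ := deg_one (pullback.fst f f) hδ2 (hz₃ y)
    exact ⟨h1, by rw [h2, hz₁]⟩
  have hzdeg : ∀ y, (pullback.snd f f).residueDegree (z y) = f.residueDegree y := fun y => by
    have h1 := residueDegree_comp (pullback.fst f f) f (z y)
    have h2 := residueDegree_comp (pullback.snd f f) f (z y)
    rw [hz₁, (hzδ y).1, mul_one] at h1
    rw [hz₂, (hσδ (f y)).1, one_mul, ← pullback.condition, h1] at h2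
    exact h2.symm
  let G : ↥(pullback f f) → ℤ := fun v => if z (pullback.fst f f v) = v then β' (pullback.fst f f v) else 0
  let γ : AlgebraicCycle (pullback f f) ℤ :=
    { toFun := G
      supportWithinDomain' := Set.subset_univ _
      supportLocallyFiniteWithinDomain' := fun v _ => by
        obtain ⟨t, ht, hfin⟩ := β'.supportLocallyFiniteWithinDomain' (pullback.fst f f v) trivial
        obtain ⟨O, hOt, hO, hvO⟩ := mem_nhds_iff.1 ht
        refine ⟨(pullback.fst f f) ⁻¹' O, (hO.preimage (pullback.fst f f).continuous).mem_nhds hvO,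
          (hfin.image z).subset ?_⟩
        rintro u ⟨hu, hne⟩
        have h1 : z (pullback.fst f f u) = u := by by_contra h; exact hne (if_neg h)
        refine ⟨pullback.fst f f u, ⟨hOt hu, fun h0 => hne ?_⟩, h1⟩
        show (if z (pullback.fst f f u) = u then β' (pullback.fst f f u) else 0) = 0
        rw [show β' (pullback.fst f f u) = 0 from h0, ite_self] }
  have hGz : ∀ y, G (z y) = β' y := fun y => by
    show (if z (pullback.fst f f (z y)) = z y then β' (pullback.fst f f (z y)) else 0) = β' y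
    rw [hz₁, if_pos rfl]
  have hGne : ∀ v, G v ≠ 0 → z (pullback.fst f f v) = v := fun v h => by by_contra h'; exact h (if_neg h')
  refine ⟨γ, fun v hv => ?_, ?_⟩
  · show G v = 0
    by_contra hne
    have h1 := hGne v hne
    rw [← h1, hGz] at hne
    exact hne (hβ'k _ (by rw [← (hzδ _).2, h1]; exact hv))
  have hp : ∀ y, (∑ᶠ v ∈ (pullback.fst f f ⁻¹' {y} : Set ↥(pullback f f)),
      G v * (AlgebraicCycle.mapCoeff (pullback.fst f f) δ2 δY v : ℤ)) = β' y := by
    intro y
    rw [finsum_mem_eq_sum_of_subset (t := {z y}) _ ?_ ?_, Finset.sum_singleton, hGz]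
    · rw [AlgebraicCycle.mapCoeff, if_pos (show δ2 (z y) = δY (pullback.fst f f (z y)) by rw [hz₁, (hzδ y).2]),
        (hzδ y).1, Nat.cast_one, mul_one]
    · rintro v ⟨hv, hne⟩
      rw [Finset.coe_singleton, Set.mem_singleton_iff, ← hGne v (left_ne_zero_of_mul hne), show pullback.fst f f v = y from hv]
    · rw [Finset.coe_singleton]
      rintro _ rfl
      exact hz₁ y
  have hq : ∀ y, (∑ᶠ v ∈ (pullback.snd f f ⁻¹' {y} : Set ↥(pullback f f)),
      G v * (AlgebraicCycle.mapCoeff (pullback.snd f f) δ2 δY v : ℤ)) = 0 := by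
    intro y
    by_cases hys : σ (f y) = y
    swap
    · refine finsum_mem_eq_zero_of_forall_eq_zero fun v hv => ?_
      by_contra hne
      refine hys ?_
      have h1 := hz₂ (pullback.fst f f v)
      rw [hGne v (left_ne_zero_of_mul hne), show pullback.snd f f v = y from hv] at h1
      rw [h1, hσ]
    · let x := f y
      have hfinx := hfib β' x
      rw [finsum_mem_eq_sum_of_subset (t := hfinx.toFinset.image z) _ ?_ ?_, Finset.sum_image hzinj.injOn]
      · refine Eq.trans ?_ (hmap0 x)
        rw [finsum_mem_eq_sum_of_subset (t := hfinx.toFinset) _ (fun v hv => hfinx.mem_toFinset.2 hv)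
          fun v hv => (hfinx.mem_toFinset.1 hv).1]
        refine Finset.sum_congr rfl fun v hv => ?_
        have hvx : f v = x := (hfinx.mem_toFinset.1 hv).1
        rw [hGz]
        refine congrArg (β' v * ·) (congrArg (Nat.cast : ℕ → ℤ) ?_)
        rw [AlgebraicCycle.mapCoeff, AlgebraicCycle.mapCoeff]
        show (if δ2 (z v) = δY (pullback.snd f f (z v)) then _ else _) = if δY v = δ (f v) then _ else _
        rw [hz₂, (hzδ v).2, (hσδ (f v)).2, hzdeg]
      · rintro v ⟨hv, hne⟩
        have h1 := hGne v (left_ne_zero_of_mul hne)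
        have h2 := hz₂ (pullback.fst f f v)
        rw [h1, show pullback.snd f f v = y from hv] at h2
        have h3 : f (pullback.fst f f v) = x := by rw [← hσ (f (pullback.fst f f v)), ← h2]
        refine Finset.mem_coe.2 (Finset.mem_image.2 ⟨_, hfinx.mem_toFinset.2 ⟨h3, fun h0 => hne ?_⟩, h1⟩)
        show G v * _ = 0
        rcases mul_eq_zero.1 (h0 : β' (pullback.fst f f v) * w (pullback.fst f f v) = 0) with h | h
        · rw [← h1, hGz, h, zero_mul]
        · refine mul_eq_zero_of_right _ ?_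
          rw [← h, ← h1]
          show ((if δ2 (z _) = δY (pullback.snd f f (z _)) then _ else _ : ℕ) : ℤ) = _
          rw [hz₂, (hzδ _).2, (hσδ _).2, hzdeg, h1]
          rfl
      · intro v hv
        obtain ⟨u, hu, rfl⟩ := Finset.mem_image.1 (Finset.mem_coe.1 hv)
        show pullback.snd f f (z u) = y
        rw [hz₂, show f u = x from (hfinx.mem_toFinset.1 hu).1]
        exact hys
  have : β - (AlgebraicCycle.map (pullback.fst f f) δ2 δY γ - AlgebraicCycle.map (pullback.snd f f) δ2 δY γ) = D := by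
    ext y
    show β y - ((∑ᶠ v ∈ (pullback.fst f f ⁻¹' {y} : Set ↥(pullback f f)),
      G v * (AlgebraicCycle.mapCoeff (pullback.fst f f) δ2 δY v : ℤ)) -
      ∑ᶠ v ∈ (pullback.snd f f ⁻¹' {y} : Set ↥(pullback f f)),
        G v * (AlgebraicCycle.mapCoeff (pullback.snd f f) δ2 δY v : ℤ)) = T y
    rw [hp, hq]
    show β y - (β y - T y - 0) = T y
    omega
  unfold Cyc.RatEquiv
  rw [this]
  exact hD

end Groth.Agent.S6483
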