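import Groth.Statements.S1859
-- import your own Groth.Agent.* helpers here

set_option autoImplicit false
universe u
open CategoryTheory AlgebraicGeometry
open Cyc

namespace Groth.Agent.S1859

/-- For proper morphisms f : X → Y and g : Y → Z and a k-cycle α on X, g_*(f_*α) = (g ∘ f)_*α. Here a
pair (X, δ) with Cyc.IsSetup plays the role of a scheme locally of finite type over a fixed base
with a dimension function (X locally Noetherian with universally catenary local rings, δ a dimension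
function), and Cyc.DeltaCompat records that the dimension function upstairs is the induced one. -/
theorem result (X Y Z : Scheme.{u}) (δX : X → ℤ) (δY : Y → ℤ) (δZ : Z → ℤ) (hX : Cyc.IsSetup X δX) (hY : Cyc.IsSetup Y δY) (hZ : Cyc.IsSetup Z δZ) (f : X ⟶ Y) (g : Y ⟶ Z) [IsProper f] [IsProper g] (hf : Cyc.DeltaCompat f δX δY) (hg : Cyc.DeltaCompat g δY δZ) (k : ℤ) (α : AlgebraicCycle X ℤ) (hα : α ∈ Cyc.Zk X δX k) : AlgebraicCycle.map g δY δZ (AlgebraicCycle.map f δX δY α) = AlgebraicCycle.map (f ≫ g) δX δZ α := by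

  classical
  ext z
  change (∑ᶠ y ∈ (g ⁻¹' {z} : Set Y), (∑ᶠ x ∈ (f ⁻¹' {y} : Set X), α x * (AlgebraicCycle.mapCoeff f δX δY x : ℤ)) *
      (AlgebraicCycle.mapCoeff g δY δZ y : ℤ)) =
    ∑ᶠ x ∈ ((f ≫ g) ⁻¹' {z} : Set X), α x * (AlgebraicCycle.mapCoeff (f ≫ g) δX δZ x : ℤ)
  have hdeg : ∀ x : X, (f ≫ g).residueDegree x = g.residueDegree (f x) * f.residueDegree x := by
    intro x
    show @Module.finrank (Z.residueField (g (f x))) (X.residueField x) _ _
      ((f ≫ g).residueFieldMap x).hom.toAlgebra.toModule = _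
    rw [Scheme.residueFieldMap_comp]
    letI := (g.residueFieldMap (f x)).hom.toAlgebra
    letI := (f.residueFieldMap x).hom.toAlgebra
    letI : Algebra (Z.residueField (g (f x))) (X.residueField x) :=
      (g.residueFieldMap (f x) ≫ f.residueFieldMap x).hom.toAlgebra
    haveI : IsScalarTower (Z.residueField (g (f x))) (Y.residueField (f x)) (X.residueField x) :=
      IsScalarTower.of_algebraMap_eq fun _ => rfl
    exact (Module.finrank_mul_finrank (Z.residueField (g (f x))) (Y.residueField (f x)) (X.residueField x)).symm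
  have hw : ∀ x : X, AlgebraicCycle.mapCoeff (f ≫ g) δX δZ x =
      AlgebraicCycle.mapCoeff f δX δY x * AlgebraicCycle.mapCoeff g δY δZ (f x) := by
    intro x
    obtain ⟨n, -, hn⟩ := hf x
    obtain ⟨m, -, hm⟩ := hg (f x)
    unfold AlgebraicCycle.mapCoeff
    change (if δX x = δZ (g (f x)) then _ else _) = _
    by_cases h1 : δX x = δY (f x)
    · by_cases h2 : δY (f x) = δZ (g (f x))
      · rw [if_pos h1, if_pos h2, if_pos (h1.trans h2), hdeg, mul_comm]
      · rw [if_neg h2, mul_zero, if_neg (fun h => h2 (h1.symm.trans h))]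
    · rw [if_neg h1, zero_mul, if_neg (fun h => h1 (by omega))]
  obtain ⟨W, hW, hzW⟩ := exists_isAffineOpen_mem_and_subset (U := (⊤ : Z.Opens)) (x := z) trivial
  have hfin : ((f ≫ g) ⁻¹' (W : Set Z) ∩ Function.support ⇑α).Finite :=
    α.locallyFiniteSupport.finite_inter_support_of_isCompact
      (QuasiCompact.isCompact_preimage (f := f ≫ g) W W.2 hW.isCompact)
  let s := hfin.toFinset.filter (fun x => g (f x) = z)
  have hs : ∀ x, g (f x) = z → α x ≠ 0 → x ∈ s := fun x hx hα =>
    Finset.mem_filter.2 ⟨hfin.mem_toFinset.2 ⟨show g (f x) ∈ W by rw [hx]; exact hzW.1, hα⟩, hx⟩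
  have hRHS : (∑ᶠ x ∈ ((f ≫ g) ⁻¹' {z} : Set X), α x * (AlgebraicCycle.mapCoeff (f ≫ g) δX δZ x : ℤ)) =
      ∑ x ∈ s, α x * (AlgebraicCycle.mapCoeff (f ≫ g) δX δZ x : ℤ) :=
    finsum_mem_eq_sum_of_subset _ (fun x hx => hs x hx.1 fun e => hx.2 (by simp [e]))
      (fun x hx => (Finset.mem_filter.1 hx).2)
  have hin : ∀ y, g y = z → (∑ᶠ x ∈ (f ⁻¹' {y} : Set X), α x * (AlgebraicCycle.mapCoeff f δX δY x : ℤ)) =
      ∑ x ∈ s.filter (fun x => f x = y), α x * (AlgebraicCycle.mapCoeff f δX δY x : ℤ) := by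
    intro y hy
    refine finsum_mem_eq_sum_of_subset _ (fun x hx => Finset.mem_filter.2 ⟨hs x ?_ fun e => hx.2 (by simp [e]), hx.1⟩)
      (fun x hx => (Finset.mem_filter.1 hx).2)
    rw [show f x = y from hx.1, hy]
  rw [hRHS, finsum_mem_eq_sum_of_subset (t := s.image f) _ ?_ ?_]
  · refine (Finset.sum_congr rfl fun y hy => ?_).trans
      (Finset.sum_fiberwise_of_maps_to (fun x hx => Finset.mem_image_of_mem f hx) _)
    obtain ⟨x, hx, rfl⟩ := Finset.mem_image.1 hy
    rw [hin _ (Finset.mem_filter.1 hx).2, Finset.sum_mul]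
    refine Finset.sum_congr rfl fun w hwm => ?_
    rw [hw, (Finset.mem_filter.1 hwm).2, Nat.cast_mul, mul_assoc]
  · intro y hy
    have h2 := hy.2
    rw [Function.mem_support] at h2
    obtain ⟨x, hx, hx'⟩ := exists_ne_zero_of_finsum_mem_ne_zero (left_ne_zero_of_mul h2)
    exact Finset.mem_coe.2 (Finset.mem_image.2
      ⟨x, hs x (by rw [show f x = y from hx]; exact hy.1) fun e => hx' (by simp [e]), hx⟩)
  · intro y hy
    obtain ⟨x, hx, rfl⟩ := Finset.mem_image.1 (Finset.mem_coe.1 hy)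
    exact (Finset.mem_filter.1 hx).2

end Groth.Agent.S1859
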