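import Groth.Statements.S6318
import Mathlib.Algebra.Category.ModuleCat.Projective
import Mathlib.CategoryTheory.Abelian.Projective.Resolution
import Mathlib.RingTheory.Noetherian.Basic
import Mathlib.Algebra.Homology.ShortComplex.ModuleCat

set_option autoImplicit false
universe u
open CategoryTheory
open CAlg

namespace Groth.Agent.S6318

/-- Let R be a Noetherian ring and M a finite R-module. Then M has a resolution … → F₂ → F₁ → F₀ → M → 0
with every Fᵢ finite free; stated as the existence of a projective resolution of M in the category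
of R-modules all of whose terms are finite free. -/
theorem result (R : Type u) [CommRing R] [IsNoetherianRing R] (M : Type u) [AddCommGroup M] [Module R M] [Module.Finite R M] : ∃ F : ProjectiveResolution (ModuleCat.of R M), ∀ n : ℕ, Module.Finite R (F.complex.X n) ∧ Module.Free R (F.complex.X n) := by
  classical
  let FM := {K : ModuleCat.{u} R // Module.Finite R K}
  have hc : ∀ K : FM, ∃ (n : ℕ) (g : (Fin n → R) →ₗ[R] K.1), Function.Surjective g := fun K =>
    haveI := K.2
    Module.Finite.exists_fin' R K.1
  choose r g hg using hc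
  let K : ℕ → FM := fun n => Nat.rec ⟨ModuleCat.of R M, inferInstanceAs (Module.Finite R M)⟩
    (fun _ K => ⟨ModuleCat.of R (LinearMap.ker (g K)), inferInstanceAs (Module.Finite R (LinearMap.ker (g K)))⟩) n
  let d : ∀ n, (Fin (r (K (n + 1))) → R) →ₗ[R] (Fin (r (K n)) → R) :=
    fun n => (LinearMap.ker (g (K n))).subtype ∘ₗ g (K (n + 1))
  have hex : ∀ n, Function.Exact (d n) (g (K n)) := fun n x => by
    constructor
    · intro hx
      obtain ⟨y, hy⟩ := hg (K (n + 1)) ⟨x, hx⟩
      exact ⟨y, congrArg Subtype.val hy⟩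
    · rintro ⟨y, rfl⟩
      exact (g (K (n + 1)) y).2
  have hex' : ∀ n, Function.Exact (d (n + 1)) (d n) := fun n x =>
    (show d n x = 0 ↔ g (K (n + 1)) x = 0 from ⟨fun h => Subtype.ext h, fun h => congrArg Subtype.val h⟩).trans (hex (n + 1) x)
  let P : ChainComplex (ModuleCat.{u} R) ℕ := ChainComplex.of (fun n => ModuleCat.of R (Fin (r (K n)) → R))
    (fun n => ModuleCat.ofHom (d n)) (fun n => ModuleCat.hom_ext (hex' n).linearMap_comp_eq_zero)
  have hd : ∀ n, P.d (n + 1) n = ModuleCat.ofHom (d n) := fun n => by simp [P]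
  let ε : P.X 0 ⟶ ModuleCat.of R M := ModuleCat.ofHom (g (K 0))
  have hε : P.d 1 0 ≫ ε = 0 := by
    rw [hd 0]
    exact ModuleCat.hom_ext (hex 0).linearMap_comp_eq_zero
  let π := (ChainComplex.toSingle₀Equiv P (ModuleCat.of R M)).symm ⟨ε, hε⟩
  have hq : ∀ n, QuasiIsoAt π n := fun n => by
    cases n with
    | zero =>
      rw [ChainComplex.quasiIsoAt₀_iff, ShortComplex.quasiIso_iff_of_zeros']
      · refine (ShortComplex.exact_and_epi_g_iff_of_iso ?_).2
          (⟨(ShortComplex.ShortExact.moduleCat_exact_iff_function_exact _).2 (hex 0), (ModuleCat.epi_iff_surjective _).2 (hg (K 0))⟩ :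
            (ShortComplex.mk (ModuleCat.ofHom (d 0)) ε (ModuleCat.hom_ext (hex 0).linearMap_comp_eq_zero)).Exact ∧ Epi ε)
        exact ShortComplex.isoMk (Iso.refl _) (Iso.refl _) (Iso.refl _) (by simp [hd]; rfl) (by simp [π]; rfl)
      all_goals rfl
    | succ n =>
      rw [quasiIsoAt_iff_exactAt' _ _ (ChainComplex.exactAt_succ_single_obj _ _),
        HomologicalComplex.exactAt_iff' _ (n + 2) (n + 1) n (by simp) (by simp),
        ShortComplex.ShortExact.moduleCat_exact_iff_function_exact]
      show Function.Exact (P.d (n + 2) (n + 1)) (P.d (n + 1) n)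
      rw [hd, hd]
      exact hex' n
  exact ⟨{ complex := P, π := π, quasiIso := ⟨hq⟩,
           projective := fun n => (IsProjective.iff_projective (Fin (r (K n)) → R)).1 inferInstance },
    fun n => ⟨inferInstanceAs (Module.Finite R (Fin (r (K n)) → R)), inferInstanceAs (Module.Free R (Fin (r (K n)) → R))⟩⟩

end Groth.Agent.S6318
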