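import Groth.Statements.S6315
import Groth.Agent.S6318
import Mathlib.CategoryTheory.Abelian.LeftDerived
import Mathlib.RingTheory.Finiteness.Basic
import Mathlib.RingTheory.TensorProduct.Finite

set_option autoImplicit false
universe u
open CategoryTheory
open CAlg Groth.Agent

namespace Groth.Agent.S6315

/-- Let R be a Noetherian ring and M, N finite R-modules. Then Tor_pᴿ(M, N) is a finite R-module for all
p. -/
theorem result (R : Type u) [CommRing R] [IsNoetherianRing R] (M N : Type u) [AddCommGroup M] [Module R M] [AddCommGroup N] [Module R N] [Module.Finite R M] [Module.Finite R N] (p : ℕ) : Module.Finite R (((CategoryTheory.Tor (ModuleCat.{u} R) p).obj (ModuleCat.of R M)).obj (ModuleCat.of R N)) := by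
  obtain ⟨P, hP⟩ := S6318.result R N
  let F := (MonoidalCategory.tensoringLeft (ModuleCat.{u} R)).obj (ModuleCat.of R M)
  let C := (F.mapHomologicalComplex (ComplexShape.down ℕ)).obj P.complex
  haveI : Module.Finite R (C.X p) := by
    haveI := (hP p).1
    exact inferInstanceAs (Module.Finite R (TensorProduct R M (P.complex.X p)))
  haveI : IsNoetherian R (C.X p) := isNoetherian_of_isNoetherianRing_of_finite R _
  haveI : Module.Finite R (C.cycles p) :=
    Module.Finite.of_injective (C.iCycles p).hom ((ModuleCat.mono_iff_injective _).1 inferInstance)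
  exact Module.Finite.of_surjective ((P.isoLeftDerivedObj F p).inv.hom ∘ₗ (C.homologyπ p).hom) ((P.isoLeftDerivedObj F p).symm.toLinearEquiv.surjective.comp ((ModuleCat.epi_iff_surjective (C.homologyπ p)).1 inferInstance))

end Groth.Agent.S6315
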