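import Groth.Statements.S16238
import Mathlib
import Groth.Agent.TorBalance.LESFlip

set_option linter.style.haveILetI false

set_option autoImplicit false
universe u
open CategoryTheory
open CAlg

namespace Groth.Agent.S16238

section Pre
open CategoryTheory CategoryTheory.Limits RingTheory.Sequence
open scoped Pointwise TensorProduct
variable {A : Type u} [CommRing A]

/-- `Tor` at a pair of modules. -/
noncomputable abbrev T (i : ℕ) (X N : ModuleCat.{u} A) : ModuleCat.{u} A := ((Tor (ModuleCat.{u} A) i).obj X).obj N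

/-- `Tor₀` is the tensor product. -/
noncomputable def torZeroEquiv (X N : ModuleCat.{u} A) :
    ((Tor (ModuleCat.{u} A) 0).obj X).obj N ≃ₗ[A] X ⊗[A] N :=
  haveI : PreservesFiniteColimits ((MonoidalCategory.tensoringLeft (ModuleCat.{u} A)).obj X) :=
    inferInstanceAs (PreservesFiniteColimits (MonoidalCategory.tensorLeft X))
  (((MonoidalCategory.tensoringLeft (ModuleCat.{u} A)).obj X).leftDerivedZeroIsoSelf.app N).toLinearEquiv

theorem finite_tor [IsNoetherianRing A] (N : ModuleCat.{u} A) [Module.Finite A N] (i : ℕ) :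
    ∀ (X : ModuleCat.{u} A) [Module.Finite A X], Module.Finite A (((Tor (ModuleCat.{u} A) i).obj X).obj N) := by
  induction i with
  | zero => exact fun X _ => Module.Finite.equiv (torZeroEquiv X N).symm
  | succ i ih =>
    intro X _
    obtain ⟨n, π, hπ⟩ := Module.Finite.exists_fin' A X
    have hS : (ShortComplex.mk (ModuleCat.ofHom (LinearMap.ker π).subtype) (ModuleCat.ofHom π)
        (by ext x; exact x.2)).ShortExact :=
      { exact := (ShortComplex.ShortExact.moduleCat_exact_iff_function_exact _).2 π.exact_subtype_ker_map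
        mono_f := (ModuleCat.mono_iff_injective _).2 Subtype.val_injective
        epi_g := (ModuleCat.epi_iff_surjective _).2 hπ }
    obtain ⟨δ, w₁, w₂, h, -⟩ := (TorBalance.exists_les_flip hS N i).2
    have hz := TorBalance.isZero_flat (ModuleCat.of A (Fin n → A)) N i
    haveI := ih (ModuleCat.of A (LinearMap.ker π))
    haveI : Module.Finite A (((Tor (ModuleCat.{u} A) i).flip.obj N).obj (ModuleCat.of A (LinearMap.ker π))) :=
      ih (ModuleCat.of A (LinearMap.ker π))
    haveI : IsNoetherian A (((Tor (ModuleCat.{u} A) i).flip.obj N).obj (ModuleCat.of A (LinearMap.ker π))) :=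
      inferInstance
    exact Module.Finite.of_injective (N := ((Tor (ModuleCat.{u} A) i).flip.obj N).obj (ModuleCat.of A (LinearMap.ker π))) δ.hom ((ModuleCat.mono_iff_injective _).1 (h.mono_g (hz.eq_of_src _ _)))

theorem shortExact_smul {X : ModuleCat.{u} A} {r : A} (hr : IsSMulRegular X r) :
    (ShortComplex.mk (r • 𝟙 X) (ModuleCat.ofHom (r • (⊤ : Submodule A X)).mkQ)
      (ModuleCat.hom_ext (LinearMap.ext fun x =>
        (Submodule.Quotient.mk_eq_zero _).2 (Submodule.smul_mem_pointwise_smul x r ⊤ trivial)))).ShortExact :=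
  { exact := (ShortComplex.ShortExact.moduleCat_exact_iff_function_exact _).2 fun y => by
      refine (Submodule.Quotient.mk_eq_zero _).trans ?_
      rw [← SetLike.mem_coe, Submodule.coe_pointwise_smul]
      exact ⟨fun ⟨x, _, hx⟩ => ⟨x, hx⟩, fun ⟨x, hx⟩ => ⟨x, trivial, hx⟩⟩
    mono_f := (ModuleCat.mono_iff_injective _).2 fun a b h => hr h
    epi_g := (ModuleCat.epi_iff_surjective _).2 (Submodule.mkQ_surjective _) }

theorem map_smul_id (r : A) (X N : ModuleCat.{u} A) (i : ℕ) :
    ((Tor (ModuleCat.{u} A) i).flip.obj N).map (r • 𝟙 X) = r • 𝟙 _ := by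
  rw [TorBalance.tor_map_smul, CategoryTheory.Functor.map_id]

theorem regular_zero_iff (r : A) (X N : ModuleCat.{u} A) :
    IsSMulRegular (((Tor (ModuleCat.{u} A) 0).obj X).obj N) r ↔ IsSMulRegular (X ⊗[A] N) r :=
  (torZeroEquiv X N).isSMulRegular_congr r

theorem zero_quot_of_regular (N : ModuleCat.{u} A) {X : ModuleCat.{u} A} {r : A} (hr : IsSMulRegular X r)
    (hrN : IsSMulRegular (X ⊗[A] N) r) (hX : ∀ i, IsZero (T (i + 1) X N)) (i : ℕ) :
    IsZero (T (i + 1) (ModuleCat.of A (QuotSMulTop r X)) N) := by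
  obtain ⟨δ, w₁, w₂, h, -⟩ := (TorBalance.exists_les_flip (shortExact_smul hr) N i).2
  refine h.isZero_X₂ ((hX i).eq_of_src _ _) ?_
  have hmono : Mono (((Tor (ModuleCat.{u} A) i).flip.obj N).map (r • 𝟙 X)) := by
    rw [map_smul_id]
    refine (ModuleCat.mono_iff_injective _).2 fun a b hab => ?_
    cases i with
    | zero => exact (regular_zero_iff r X N).2 hrN hab
    | succ i =>
      haveI := ModuleCat.subsingleton_of_isZero (hX i)
      exact @Subsingleton.elim (T (i + 1) X N) _ a b
  exact (cancel_mono _).1 (w₂.trans zero_comp.symm)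

theorem vanish_of_regular (N : ModuleCat.{u} A) (rs : List A) :
    ∀ (X : ModuleCat.{u} A), IsWeaklyRegular X rs → IsWeaklyRegular (X ⊗[A] N) rs →
      (∀ i, IsZero (T (i + 1) X N)) →
      ∀ i, IsZero (T (i + 1) (ModuleCat.of A (X ⧸ (Ideal.ofList rs • ⊤ : Submodule A X))) N) := by
  induction rs with
  | nil =>
    intro X _ _ hX i
    refine (hX i).of_iso (((Tor (ModuleCat.{u} A) (i + 1)).flip.obj N).mapIso
      (Submodule.quotEquivOfEqBot _ (by rw [Ideal.ofList_nil, Submodule.bot_smul])).toModuleIso)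
  | cons r rs ih =>
    intro X h hN hX i
    obtain ⟨hr, hrs⟩ := (isWeaklyRegular_cons_iff _ r rs).1 h
    obtain ⟨hrN, hrsN⟩ := (isWeaklyRegular_cons_iff _ r rs).1 hN
    refine (ih (ModuleCat.of A (QuotSMulTop r X)) hrs
      (((QuotSMulTop.quotSMulTopTensorEquivQuotSMulTop r N X).isWeaklyRegular_congr rs).2 hrsN)
      (zero_quot_of_regular N hr hrN hX) i).of_iso
      (((Tor (ModuleCat.{u} A) (i + 1)).flip.obj N).mapIso
        (Submodule.quotOfListConsSMulTopEquivQuotSMulTopInner X r rs).toModuleIso)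

theorem regular_of_vanish [IsNoetherianRing A] [IsLocalRing A] (N : ModuleCat.{u} A) [Module.Finite A N]
    (rs : List A) (hrsm : ∀ r ∈ rs, r ∈ IsLocalRing.maximalIdeal A) :
    ∀ (X : ModuleCat.{u} A) [Module.Finite A X], IsWeaklyRegular X rs →
      (∀ i, IsZero (T (i + 1) (ModuleCat.of A (X ⧸ (Ideal.ofList rs • ⊤ : Submodule A X))) N)) →
      (∀ i, IsZero (T (i + 1) X N)) ∧ IsWeaklyRegular (X ⊗[A] N) rs := by
  induction rs with
  | nil =>
    intro X _ _ hX
    exact ⟨fun i => (hX i).of_iso (((Tor (ModuleCat.{u} A) (i + 1)).flip.obj N).mapIso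
      (Submodule.quotEquivOfEqBot _ (by rw [Ideal.ofList_nil, Submodule.bot_smul])).toModuleIso.symm), IsWeaklyRegular.nil A _⟩
  | cons r rs ih =>
    intro X _ h hX
    obtain ⟨hr, hrs⟩ := (isWeaklyRegular_cons_iff _ r rs).1 h
    haveI : Module.Finite A (ModuleCat.of A (QuotSMulTop r X)) := inferInstanceAs (Module.Finite A (QuotSMulTop r X))
    obtain ⟨hX', hreg⟩ := ih (fun x hx => hrsm x (List.mem_cons_of_mem r hx)) (ModuleCat.of A (QuotSMulTop r X)) hrs
      (fun i => (hX i).of_iso (((Tor (ModuleCat.{u} A) (i + 1)).flip.obj N).mapIso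
        (Submodule.quotOfListConsSMulTopEquivQuotSMulTopInner X r rs).toModuleIso.symm))
    refine ⟨fun i => ?_, (isWeaklyRegular_cons_iff _ r rs).2 ⟨(regular_zero_iff r X N).1 ?_,
      ((QuotSMulTop.quotSMulTopTensorEquivQuotSMulTop r N X).isWeaklyRegular_congr rs).1 hreg⟩⟩
    · obtain ⟨_, h'⟩ := (TorBalance.exists_les_flip (shortExact_smul hr) N (i + 1)).1
      have hepi : Epi (((Tor (ModuleCat.{u} A) (i + 1)).flip.obj N).map (r • 𝟙 X)) :=
        h'.epi_f ((hX' i).eq_of_tgt _ _)
      rw [map_smul_id] at hepi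
      haveI := finite_tor N (i + 1) X
      have hs := (ModuleCat.epi_iff_surjective _).1 hepi
      have htop : (⊤ : Submodule A (T (i + 1) X N)) ≤ IsLocalRing.maximalIdeal A • ⊤ := fun y _ => by
        obtain ⟨x, rfl⟩ := hs y
        exact Submodule.smul_mem_smul (hrsm r (List.mem_cons_self ..)) trivial
      have hbot := Submodule.eq_bot_of_le_smul_of_le_jacobson_bot (IsLocalRing.maximalIdeal A) _ Module.Finite.fg_top htop
        (le_of_eq (IsLocalRing.jacobson_eq_maximalIdeal ⊥ bot_ne_top).symm)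
      haveI : Subsingleton (T (i + 1) X N) :=
        Submodule.subsingleton_iff A |>.1 (subsingleton_iff_bot_eq_top.1 hbot.symm)
      exact ModuleCat.isZero_of_subsingleton _
    · obtain ⟨δ, w₁, w₂, -, h'⟩ := (TorBalance.exists_les_flip (shortExact_smul hr) N 0).2
      have hmono : Mono (((Tor (ModuleCat.{u} A) 0).flip.obj N).map (r • 𝟙 X)) :=
        h'.mono_g ((hX' 0).eq_of_src _ _)
      rw [map_smul_id] at hmono
      exact fun a b hab => (ModuleCat.mono_iff_injective _).1 hmono hab

end Pre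


/-- Let A be a Noetherian local ring, x_1, …, x_n a regular sequence on A (each x_i a non-zero-divisor
on A/(x_1, …, x_{i-1})) generating the ideal I, and J an ideal with I + J ≠ A. Then the images of
x_1, …, x_n form a regular sequence on A/J if and only if Tor_i^A(A/I, A/J) = 0 for all i ≥ 1 (in
degree 0 the Tor is A/(I + J) in any case). (The published statement does not ask the x_i to form a
regular sequence on A itself; without this the equivalence fails, for instance for A = k[e]/(e²), n
= 1, x_1 = e and J = 0, where every higher Tor of A/(e) against the free module A vanishes although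
e is a zero-divisor.) -/
theorem result (A : Type u) [CommRing A] [IsNoetherianRing A] [IsLocalRing A]
    (n : ℕ) (x : Fin n → A) (hx : RingTheory.Sequence.IsWeaklyRegular A (List.ofFn x))
    (J : Ideal A) (hIJ : Ideal.span (Set.range x) ⊔ J ≠ ⊤) :
    RingTheory.Sequence.IsWeaklyRegular (A ⧸ J) (List.ofFn (fun i : Fin n => Ideal.Quotient.mk J (x i))) ↔
      ∀ i : ℕ, 1 ≤ i → Limits.IsZero (((Tor (ModuleCat.{u} A) i).obj
        (ModuleCat.of A (A ⧸ Ideal.span (Set.range x)))).obj (ModuleCat.of A (A ⧸ J))) := by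
  open RingTheory.Sequence in
  have hof : Ideal.ofList (List.ofFn x) = Ideal.span (Set.range x) := by
    rw [Ideal.ofList]
    congr 1
    ext a
    simp [List.mem_ofFn, Set.mem_range]
  have hm : ∀ r ∈ List.ofFn x, r ∈ IsLocalRing.maximalIdeal A := fun r hr =>
    IsLocalRing.le_maximalIdeal hIJ (Ideal.mem_sup_left (Ideal.subset_span (by simpa [List.mem_ofFn] using hr)))
  have hmap : List.ofFn (fun i : Fin n => Ideal.Quotient.mk J (x i)) =
      (List.ofFn x).map (algebraMap A (A ⧸ J)) := by rw [List.map_ofFn]; rfl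
  rw [hmap, RingTheory.Sequence.isWeaklyRegular_map_algebraMap_iff,
    ← (TensorProduct.lid A (A ⧸ J)).isWeaklyRegular_congr]
  let e : (A ⧸ (Ideal.ofList (List.ofFn x) • ⊤ : Submodule A A)) ≃ₗ[A] A ⧸ Ideal.span (Set.range x) :=
    Submodule.quotEquivOfEq _ _ (by simp [hof])
  have key : (∀ i : ℕ, 1 ≤ i → Limits.IsZero (((Tor (ModuleCat.{u} A) i).obj
        (ModuleCat.of A (A ⧸ Ideal.span (Set.range x)))).obj (ModuleCat.of A (A ⧸ J)))) ↔
      ∀ i : ℕ, Limits.IsZero (((Tor (ModuleCat.{u} A) (i + 1)).obj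
        (ModuleCat.of A (A ⧸ (Ideal.ofList (List.ofFn x) • ⊤ : Submodule A A)))).obj (ModuleCat.of A (A ⧸ J))) := by
    refine ⟨fun h i => (h (i + 1) (Nat.le_add_left 1 i)).of_iso
      (((Tor (ModuleCat.{u} A) (i + 1)).flip.obj _).mapIso e.toModuleIso), fun h i hi => ?_⟩
    obtain ⟨j, rfl⟩ := Nat.exists_eq_add_of_le' hi
    exact (h j).of_iso (((Tor (ModuleCat.{u} A) (j + 1)).flip.obj _).mapIso e.toModuleIso.symm)
  rw [key]
  exact ⟨fun h => vanish_of_regular (ModuleCat.of A (A ⧸ J)) _ (ModuleCat.of A A) hx h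
      (fun i => TorBalance.isZero_flat (ModuleCat.of A A) _ i),
    fun h => (regular_of_vanish (ModuleCat.of A (A ⧸ J)) _ hm (ModuleCat.of A A) hx h).2⟩

end Groth.Agent.S16238
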