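import Groth.Statements.S15821
import Groth.Agent.KoszulLib.Iff

set_option autoImplicit false
universe u
open CategoryTheory
open Koszul

namespace Groth.Agent.S15821

/-- Let A be a commutative ring and f = (f_1, …, f_r) a sequence in A which is regular in the weak sense
(f_1 is a non-zero-divisor of A and each f_i is a non-zero-divisor of A/(f_1, …, f_{i-1}); no
condition A/(f) ≠ 0). Then the Koszul complex K(f) (iterated mapping-cone model, degrees -r, …, 0)
has vanishing cohomology in all nonzero degrees, i.e. f is Koszul-regular, and its cohomology in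
degree 0 is isomorphic as an A-module to A/(f_1, …, f_r) (existence of an A-linear isomorphism):
K(f) is a free resolution of A/(f). -/
theorem result (A : Type u) [CommRing A] (l : List A)
    (hl : RingTheory.Sequence.IsWeaklyRegular A l) :
    LCI.IsKoszulRegularSeq A l ∧
      Nonempty ((Koszul.koszul A l).homology 0 ≅ ModuleCat.of A (A ⧸ Ideal.ofList l)) := by
  have hac : Wiebe.Acyclic l.get := KoszulLib.acyclic_of_isWeaklyRegular' (by rw [List.ofFn_get]; exact hl)
  have hk := KoszulLib.isKoszulRegularSeq_of_acyclic hac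
  rw [List.ofFn_get] at hk
  refine ⟨hk, ?_⟩
  obtain ⟨S, hS, hS'⟩ := KoszulLib.exists_split_retract l.get
  have hl' : Koszul.koszul A (List.ofFn l.get) = Koszul.koszul A l := by rw [List.ofFn_get]
  rw [← hl']
  clear hl' hk
  let K := Koszul.koszul A (List.ofFn l.get)
  let e : K.X 0 →ₗ[A] A := Wiebe.eps ∘ₗ S.σ 0
  have he1 : ∀ r : A, e (S.ρ 0 (r • Wiebe.bot A _)) = r := fun r => by
    simp only [e, LinearMap.comp_apply, map_smul]
    rw [S.zero_deg, map_smul, Wiebe.eps_bot]
    simp
  have he2 : ∀ u : K.X 0, S.ρ 0 (e u • Wiebe.bot A _) = u := fun u => by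
    have h1 : S.σ 0 u = e u • Wiebe.bot A _ := by
      conv_lhs => rw [← hS 0 u]
      rw [S.zero_deg]
      rfl
    rw [← h1, hS]
  have hd : ∀ u : K.X 0, (K.d 0 1).hom u = 0 := fun u => by
    rw [← hS 1 ((K.d 0 1).hom u)]
    exact S.vanish 1 (Or.inl one_pos) _
  have hI : Ideal.ofList l = Ideal.span (Set.range l.get) := by
    rw [Ideal.ofList]
    congr 1
    ext x
    simp [List.mem_iff_get]
  have hrange : ∀ u : K.X 0, e u ∈ Ideal.ofList l ↔ u ∈ LinearMap.range (K.d (-1) 0).hom := by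
    intro u
    rw [hI]
    constructor
    · intro h
      obtain ⟨a, ha⟩ := Ideal.mem_span_range_iff_exists_fun.mp h
      refine ⟨S.ρ (-1) (Wiebe.w a (Wiebe.bot A _)), ?_⟩
      rw [S.d_ρ (-1) 0 (by omega)]
      have h1 := Wiebe.d_w l.get a (Wiebe.bot A _)
      simp only [Wiebe.d_bot, map_zero, sub_zero, add_zero] at h1
      rw [h1]
      conv_rhs => rw [← he2 u]
      congr 2
    · rintro ⟨v, rfl⟩
      show Wiebe.eps (S.σ 0 ((K.d (-1) 0).hom v)) ∈ _
      rw [← S.d_σ (-1) 0 (by omega)]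
      exact Wiebe.eps_mem _ _ (Wiebe.d_mem _ _)
  let eq : K.X 0 ≃ₗ[A] A :=
    { e with
      invFun := fun r => S.ρ 0 (r • Wiebe.bot A _)
      left_inv := he2
      right_inv := he1 }
  let sc := K.sc' (-1) 0 1
  have hg : LinearMap.ker sc.g.hom = ⊤ := eq_top_iff.mpr fun u _ => hd u
  let e1 : LinearMap.ker sc.g.hom ≃ₗ[A] A := (LinearEquiv.ofTop _ hg).trans eq
  have hmap : (LinearMap.range sc.moduleCatToCycles).map (e1 : LinearMap.ker sc.g.hom →ₗ[A] A) = Ideal.ofList l := by
    refine le_antisymm ?_ fun r hr => ?_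
    · rintro _ ⟨_, ⟨v, rfl⟩, rfl⟩
      exact (hrange ((K.d (-1) 0).hom v)).mpr ⟨v, rfl⟩
    · obtain ⟨v, hv⟩ := (hrange (eq.symm r)).mp (by
        show eq (eq.symm r) ∈ _
        rw [LinearEquiv.apply_symm_apply]; exact hr)
      refine ⟨_, ⟨v, rfl⟩, ?_⟩
      show eq ((K.d (-1) 0).hom v) = r
      rw [hv, LinearEquiv.apply_symm_apply]
  exact ⟨(ShortComplex.homologyMapIso (K.isoSc' (-1) 0 1 (by simp) (by simp))) ≪≫ sc.moduleCatHomologyIso ≪≫
    (Submodule.Quotient.equiv _ _ e1 hmap).toModuleIso⟩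

end Groth.Agent.S15821
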