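import Groth.Statements.S0604
import Groth.Agent.AusBuc.Basic

set_option autoImplicit false
universe u
open CategoryTheory
open CAlg Groth.Agent

namespace Groth.Agent.S0604

/-- Over a Noetherian local ring `R`, a nonzero finitely generated module `M` of finite projective
dimension satisfies depth R = pd M + depth M. -/
theorem result (R : Type u) [CommRing R] [IsLocalRing R] [IsNoetherianRing R]
    (M : Type u) [AddCommGroup M] [Module R M] [Module.Finite R M] [Nontrivial M] (e : ℕ)
    (he : projectiveDimension (ModuleCat.of R M) = e) :
    LocCoh.depth R R = e + LocCoh.depth R M := by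
  classical
  have hsne : LocCoh.depth R R ≠ ⊤ := LocH.idealDepth_ne_top (by
    rw [Ideal.smul_top_eq_map, Algebra.algebraMap_self, Ideal.map_id]
    exact fun h => (IsLocalRing.maximalIdeal.isMaximal R).ne_top
      (Ideal.ext fun x => by simpa using (SetLike.ext_iff.mp h x)))
  obtain ⟨s, hs⟩ := ENat.ne_top_iff_exists.mp hsne
  have hle : SerreReg.PdLE R M e := (projectiveDimension_le_iff _ e).mp he.le
  obtain ⟨t, ht, hdM⟩ := AusBuc.depth_add_pd hs.symm e M hle fun e' he' h => by
    have h2 := (projectiveDimension_le_iff (ModuleCat.of R M) e').mpr h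
    rw [he] at h2
    have : e ≤ e' := by exact_mod_cast h2
    omega
  rw [← hs, hdM, ← ht, Nat.cast_add, add_comm]

end Groth.Agent.S0604
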