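import Groth.Statements.S14434
import Groth.Agent.S14414
import Groth.Agent.EtGlueLib.Tor
import Mathlib.Algebra.Category.ModuleCat.Projective

set_option autoImplicit false
universe u
open CAlg Groth.Agent

namespace Groth.Agent.S14434

section
open TensorProduct
/-- injectivity for one projective presentation gives it for every other one -/
theorem injective_transfer {R T : Type u} [CommRing R] [AddCommGroup T] [Module R T] {N F₀ F : Type u} [AddCommGroup N] [Module R N] [AddCommGroup F₀] [Module R F₀]
    [AddCommGroup F] [Module R F] [Module.Projective R F] [Module.Projective R F₀]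
    (π₀ : F₀ →ₗ[R] N) (h₀ : Function.Surjective π₀)
    (hinj : Function.Injective ((LinearMap.ker π₀).subtype.lTensor T))
    (π : F →ₗ[R] N) (hπ : Function.Surjective π) :
    Function.Injective ((LinearMap.ker π).subtype.lTensor T) := by
  obtain ⟨h, hh⟩ := Module.projective_lifting_property π₀ π h₀
  obtain ⟨l, hl⟩ := Module.projective_lifting_property π π₀ hπ
  let hK : LinearMap.ker π →ₗ[R] LinearMap.ker π₀ := (h ∘ₗ (LinearMap.ker π).subtype).codRestrict _
    fun x => LinearMap.mem_ker.2 ((LinearMap.congr_fun hh x.1).trans x.2)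
  let lK : LinearMap.ker π₀ →ₗ[R] LinearMap.ker π := (l ∘ₗ (LinearMap.ker π₀).subtype).codRestrict _
    fun x => LinearMap.mem_ker.2 ((LinearMap.congr_fun hl x.1).trans x.2)
  let d : F →ₗ[R] LinearMap.ker π := (LinearMap.id - l ∘ₗ h).codRestrict _ fun v => LinearMap.mem_ker.2 (by
    show π (v - l (h v)) = 0
    rw [map_sub, ← LinearMap.comp_apply, hl, ← LinearMap.comp_apply, hh, sub_self])
  have hid : d ∘ₗ (LinearMap.ker π).subtype + lK ∘ₗ hK = LinearMap.id :=
    LinearMap.ext fun x => Subtype.ext (by simp [d, lK, hK])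
  rw [← LinearMap.ker_eq_bot, LinearMap.ker_eq_bot']
  intro x hx
  have h1 : hK.lTensor T x = 0 := by
    refine hinj ?_
    rw [map_zero, ← LinearMap.comp_apply, ← LinearMap.lTensor_comp,
      show (LinearMap.ker π₀).subtype ∘ₗ hK = h ∘ₗ (LinearMap.ker π).subtype from rfl,
      LinearMap.lTensor_comp, LinearMap.comp_apply, hx, map_zero]
  calc x = (d ∘ₗ (LinearMap.ker π).subtype + lK ∘ₗ hK).lTensor T x := by
        rw [hid, LinearMap.lTensor_id]; rfl
    _ = 0 := by simp [LinearMap.lTensor_add, LinearMap.lTensor_comp, hx, h1]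

theorem subsingleton_tor {R T : Type u} [CommRing R] [AddCommGroup T] [Module R T] {N F₀ : Type u} [AddCommGroup N] [Module R N] [AddCommGroup F₀] [Module R F₀]
    [Module.Projective R F₀] (π₀ : F₀ →ₗ[R] N) (h₀ : Function.Surjective π₀)
    (hinj : Function.Injective ((LinearMap.ker π₀).subtype.lTensor T)) :
    Subsingleton (DRing.Tor R 1 T N) := by
  obtain ⟨F, _, _, π, hF, hπ, hiff⟩ := Groth.Agent.S12205.exists_presentation (R := R) (M := N)
  exact ModuleCat.subsingleton_of_isZero ((hiff T).2 (injective_transfer (T := T) π₀ h₀ hinj π hπ))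

end

theorem tor_subsingleton (R : Type u) [CommRing R] (M N : Type u) [AddCommGroup M] [Module R M] [AddCommGroup N]
    [Module R N] (q i : ℕ) (hqi : q < i) [CategoryTheory.HasProjectiveDimensionLE (ModuleCat.of R N) q] :
    Subsingleton (DRing.Tor R i M N) :=
  ModuleCat.subsingleton_of_isZero (S14414.result R (ModuleCat.of R M) (ModuleCat.of R N) q i hqi)

/-- Let R be a commutative ring, M an R-module and x ∈ R a non-zero-divisor on R and on M. Then
Tor_i^R(M, R/(x)) = 0 for all i ≥ 1 (Tor computed as the left derived functors of the tensor product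
on R-modules). -/
theorem result {R : Type u} [CommRing R] (M : Type u) [AddCommGroup M] [Module R M]
    (x : R) (hxR : IsSMulRegular R x) (hxM : IsSMulRegular M x) (i : ℕ) (hi : 1 ≤ i) :
    Subsingleton (DRing.Tor R i M (R ⧸ Ideal.span {x})) := by
  let μ : R →ₗ[R] R := LinearMap.toSpanSingleton R R x
  let π₀ : R →ₗ[R] R ⧸ Ideal.span {x} := (Ideal.span {x} : Submodule R R).mkQ
  have hker : LinearMap.ker π₀ = Ideal.span {x} := Submodule.ker_mkQ _
  have hex : Function.Exact μ π₀ := fun r => by
    rw [← LinearMap.mem_ker, hker, Ideal.mem_span_singleton']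
    rfl
  have hμ : Function.Injective μ := fun a b hab => hxR (by simpa [μ, mul_comm] using hab)
  let S : CategoryTheory.ShortComplex (ModuleCat.{u} R) :=
    CategoryTheory.ShortComplex.mk (ModuleCat.ofHom μ) (ModuleCat.ofHom π₀) (ModuleCat.hom_ext hex.linearMap_comp_eq_zero)
  have hS : S.ShortExact :=
    { exact := (CategoryTheory.ShortComplex.ShortExact.moduleCat_exact_iff_function_exact S).2 hex
      mono_f := (ModuleCat.mono_iff_injective _).2 hμ
      epi_g := (ModuleCat.epi_iff_surjective _).2 (Submodule.mkQ_surjective _) }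
  have hproj : CategoryTheory.Projective (ModuleCat.of R R) := (IsProjective.iff_projective R).1 inferInstance
  haveI hpd : CategoryTheory.HasProjectiveDimensionLE (ModuleCat.of R (R ⧸ Ideal.span {x})) 1 :=
    (hS.hasProjectiveDimensionLT_X₃_iff 0 hproj).2
      (CategoryTheory.projective_iff_hasProjectiveDimensionLT_one.1 hproj)
  rcases Nat.lt_or_ge 1 i with h | h
  · exact tor_subsingleton R M _ 1 i h
  · obtain rfl : i = 1 := by omega
    refine subsingleton_tor π₀ (Submodule.mkQ_surjective _) ?_
    let e : R →ₗ[R] LinearMap.ker π₀ := μ.codRestrict _ fun r => LinearMap.mem_ker.2 (hex.apply_apply_eq_zero r)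
    have he : Function.Surjective (e.lTensor M) := LinearMap.lTensor_surjective M fun y => by
      obtain ⟨r, hr⟩ := (hex y.1).1 y.2
      exact ⟨r, Subtype.ext hr⟩
    intro a b hab
    obtain ⟨a, rfl⟩ := he a
    obtain ⟨b, rfl⟩ := he b
    rw [← LinearMap.comp_apply, ← LinearMap.comp_apply, ← LinearMap.lTensor_comp,
      show (LinearMap.ker π₀).subtype ∘ₗ e = μ from rfl] at hab
    obtain ⟨a, rfl⟩ := (TensorProduct.rid R M).symm.surjective a
    obtain ⟨b, rfl⟩ := (TensorProduct.rid R M).symm.surjective b
    congr 1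
    congr 1
    refine hxM ?_
    have := congrArg (TensorProduct.rid R M) hab
    simpa [μ] using this

end Groth.Agent.S14434
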