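import Groth.Statements.S1872
import Groth.Agent.BivarOps.IntMultVanish
import Groth.Agent.SmLocalST.SmoothField
import Groth.Agent.CMFlat.Quotient
import Groth.Agent.LocH.AdjDepthChange
import Groth.Agent.LocH.Annihilator
-- import your own Groth.Agent.* helpers here

set_option autoImplicit false
set_option backward.isDefEq.respectTransparency false
universe u
open CategoryTheory AlgebraicGeometry
attribute [local instance] HasDerivedCategory.standard
open IntMult

namespace Groth.Agent.S1872

/-- First statement; the cycle-level consequence V·W = [V ∩ W] is not stated: when both local rings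
O_{V,ξ} and O_{W,ξ} are Cohen–Macaulay, the intersection multiplicity e(X, V·W, Z) is the length
over O_{X,ξ} of the local ring at ξ of the scheme-theoretic intersection V ∩ W. Here X is a
nonsingular variety over an algebraically closed field K (smooth, separated, of finite type,
integral), V and W are closed subvarieties given by quasi-coherent ideal sheaves with integral
subschemes, of dimensions r and s with dim X = n, intersecting properly, and ξ is the generic point
of an irreducible component Z of V ∩ W; e(X, V·W, Z) is the alternating sum of lengths of Tor over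
O_{X,ξ}. -/
theorem result (K : Type u) [Field K] [IsAlgClosed K] (X : Scheme.{u}) (f : X ⟶ Spec (CommRingCat.of K)) [Smooth f] [IsSeparated f] [QuasiCompact f] [IsIntegral X] (IV IW : X.IdealSheafData) [IsIntegral IV.subscheme] [IsIntegral IW.subscheme] (n r s : ℕ) (hn : topologicalKrullDim X = n) (hr : topologicalKrullDim IV.support = r) (hs : topologicalKrullDim IW.support = s) (hprop : IntMult.ProperInt (IV.support : Set X) (IW.support : Set X) n r s) (ξ : X) (hξV : ξ ∈ IV.support) (hξW : ξ ∈ IW.support) (hmax : ∀ ξ' : X, ξ' ∈ IV.support → ξ' ∈ IW.support → ξ' ⤳ ξ → ξ' = ξ) (hV : LocCoh.IsCohenMacaulayLocalRing (↑(X.presheaf.stalk ξ) ⧸ IntMult.stalkIdeal IV ξ)) (hW : LocCoh.IsCohenMacaulayLocalRing (↑(X.presheaf.stalk ξ) ⧸ IntMult.stalkIdeal IW ξ)) : (IntMult.mult IV IW ξ : ℤ) = (Module.length (X.presheaf.stalk ξ) (↑(X.presheaf.stalk ξ) ⧸ (IntMult.stalkIdeal IV ξ ⊔ IntMult.stalkIdeal IW ξ))).toNat := by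
  haveI : IsLocallyNoetherian X := LocallyOfFiniteType.isLocallyNoetherian f
  haveI := SmLocalST.isRegularLocalRing_stalk_of_smooth_field f ξ
  haveI := CMFlat.isCohenMacaulayLocalRing_of_isRegularLocalRing (X.presheaf.stalk ξ)
  haveI := hV
  haveI := hW
  obtain ⟨hA, hdn⟩ := BivarOps.ringKrullDim_stalk_eq f n hn ξ
  obtain ⟨hdV, hdr⟩ := BivarOps.stalk_quot_dim f IV r hr hξV
  obtain ⟨hdW, hds⟩ := BivarOps.stalk_quot_dim f IW s hs hξW
  obtain ⟨hle, hd⟩ := hprop ⟨ξ, hξV, hξW⟩
  have hpd := BivarOps.pdim_le_of_proper IV.support.isClosed IW.support.isClosed hξV hξW hd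
  have hrad := BivarOps.radical_sup_stalkIdeal IV IW hξV hξW hmax
  set A := X.presheaf.stalk ξ with hAdef
  set P := IntMult.stalkIdeal IW ξ with hP
  set Q := IntMult.stalkIdeal IV ξ with hQ
  have depth_of : ∀ (T : Type u) [CommRing T] [LocCoh.IsCohenMacaulayLocalRing T] (m : ℕ),
      ringKrullDim T = (m : WithBot ℕ∞) → LocCoh.depth T T = (m : ℕ∞) := fun T _ _ m h => by
    have h1 := LocCoh.IsCohenMacaulayLocalRing.supportDim_eq_depth (R := T)
    rw [Module.supportDim_self_eq_ringKrullDim, h] at h1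
    exact (WithBot.coe_inj.1 h1).symm
  have dP : LocCoh.depth A (A ⧸ P) = ((s - WeilCoh.pdim X ξ : ℕ) : ℕ∞) :=
    (LocH.depth_eq_of_surjective (A := A) (B := A ⧸ P) Ideal.Quotient.mk_surjective (A ⧸ P)).trans
      (depth_of _ _ hdW)
  have dQ : LocCoh.depth A (A ⧸ Q) = ((r - WeilCoh.pdim X ξ : ℕ) : ℕ∞) :=
    (LocH.depth_eq_of_surjective (A := A) (B := A ⧸ Q) Ideal.Quotient.mk_surjective (A ⧸ Q)).trans
      (depth_of _ _ hdV)
  obtain ⟨rs, hlen, hrs, hmem⟩ := LocH.exists_isWeaklyRegular (IsLocalRing.maximalIdeal A)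
    (s - WeilCoh.pdim X ξ) (A ⧸ P) ((LocH.le_idealDepth_iff _ _ _).1 dP.ge)
  classical
  have hex : ∃ e : ℕ, SerreReg.PdLE A (A ⧸ Q) e :=
    ⟨n - WeilCoh.pdim X ξ, SerreReg.pdLE_of_isRegularLocalRing A _ hA _⟩
  obtain ⟨t, ht, htd⟩ := AusBuc.depth_add_pd (depth_of A _ hA) (Nat.find hex) (A ⧸ Q) (Nat.find_spec hex)
    fun e' he' => Nat.find_min hex he'
  rw [dQ, Nat.cast_inj] at htd
  haveI : CategoryTheory.HasProjectiveDimensionLE (ModuleCat.of A (A ⧸ Q)) (Nat.find hex) := Nat.find_spec hex
  rw [IntMult.mult, ← hP, ← hQ, sup_comm Q P]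
  refine BivarOps.chi_eq_length P Q fun i hi => BivarOps.tor_vanish (Nat.find hex) rs (A ⧸ P) hrs (fun x hx => ?_) i hi ?_
  · rw [Ideal.annihilator_quotient, Ideal.annihilator_quotient, sup_comm, hrad]
    exact hmem x hx
  · rw [hlen]
    omega

end Groth.Agent.S1872
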