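import Groth.Statements.S1582
import Mathlib
import Groth.Agent.GeomRedPull.Field
import Groth.Agent.GrpField.Irreducible

set_option autoImplicit false
universe u
open CategoryTheory CategoryTheory.Limits AlgebraicGeometry
open Variety

namespace Groth.Agent.S1582

/-- Let k be algebraically closed and X, Y varieties over k (integral, separated, of finite type). Then
the fibre product X ×_k Y is integral (and so again a variety over k). -/
theorem result (k : Type u) [Field k] [IsAlgClosed k] (X Y : Scheme.{u})
    (f : X ⟶ Spec (CommRingCat.of k)) (g : Y ⟶ Spec (CommRingCat.of k))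
    [IsIntegral X] [IsIntegral Y] [IsSeparated f] [IsSeparated g]
    [LocallyOfFiniteType f] [LocallyOfFiniteType g] [QuasiCompact f] [QuasiCompact g] :
    IsIntegral (pullback f g) := by
  haveI : GeometricallyReduced f := by
    refine ⟨geometrically_iff_of_commRing.2 fun K _ _ Z fst snd hZ => ?_⟩
    let y := Spec.map (CommRingCat.ofHom (algebraMap k K))
    haveI : GeometricallyReduced y :=
      Groth.Agent.GeomRedPull.geometricallyReduced_Spec fun L _ _ =>
        Groth.Agent.FinHopf.isReduced_tensor_of_perfect k _ _
    haveI := Groth.Agent.GeomRedPull.isReduced_pullback y f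
    exact isReduced_of_isOpenImmersion (hZ.isoPullback.hom ≫ (pullbackSymmetry f y).hom)
  haveI : GeometricallyIrreducible f := by
    refine ⟨geometrically_iff_of_commRing.2 fun K _ _ Z fst snd hZ => ?_⟩
    haveI := Groth.Agent.GrpField.irreducibleSpace_pullback f (Spec.map (CommRingCat.ofHom (algebraMap k K)))
    exact hZ.isoPullback.hom.homeomorph.irreducibleSpace_iff.2 ‹_›
  haveI := GeometricallyIntegral.of_geometricallyReduced_of_geometricallyIrreducible f
  haveI : IsLocallyNoetherian Y := LocallyOfFiniteType.isLocallyNoetherian g
  haveI : Flat f := inferInstance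
  haveI : IsLocallyNoetherian (Spec (CommRingCat.of k)) := inferInstance
  haveI : LocallyOfFinitePresentation f := inferInstance
  infer_instance

end Groth.Agent.S1582
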