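import Groth.Statements.S1897
import Groth.Agent.CycDim.RelDim
import Groth.Agent.KFlat.Pullback

set_option autoImplicit false
universe u
open CategoryTheory AlgebraicGeometry
open Cyc

namespace Groth.Agent.S1897

/-- Let f : X → Y be flat, locally of finite type, of relative dimension r, and F a coherent O_Y-module
whose support has δ-dimension ≤ k. Then the support of f^*F has δ-dimension ≤ k + r and f^*[F]_k =
[f^*F]_{k+r} (coefficientwise). A pair (X, δ) with Cyc.IsSetup plays the role of a scheme locally of
finite type over a fixed base with a dimension function (X locally Noetherian with universally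
catenary local rings, δ a dimension function), and Cyc.DeltaCompat records that the dimension
function upstairs is the induced one. -/
theorem result (X Y : Scheme.{u}) (δX : X → ℤ) (δY : Y → ℤ) (hX : Cyc.IsSetup X δX) (hY : Cyc.IsSetup Y δY) (f : X ⟶ Y) [Flat f] [LocallyOfFiniteType f] (r : ℕ) (hr : Cyc.HasRelDim f r) (hδ : Cyc.DeltaCompat f δX δY) (k : ℤ) (F : Y.Modules) (hF : Coh.IsCoh F) (hdim : ∀ y : Y, Nontrivial (F.presheaf.stalk y) → δY y ≤ k) : (∀ x : X, Nontrivial (((Scheme.Modules.pullback f).obj F).presheaf.stalk x) → δX x ≤ k + r) ∧ Cyc.pullFun f δX δY r (Cyc.sheafFun δY k F) = Cyc.sheafFun δX (k + r) ((Scheme.Modules.pullback f).obj F) := by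

  haveI := hX.1; haveI := hY.1; haveI := hF.1
  letI alg := fun x : X => (f.stalkMap x).hom.toAlgebra
  have hlen : ∀ x : X, Module.length (X.presheaf.stalk x) (((Scheme.Modules.pullback f).obj F).presheaf.stalk x) =
      Module.length (Y.presheaf.stalk (f x)) (F.presheaf.stalk (f x)) * Module.length (X.presheaf.stalk x)
        (X.presheaf.stalk x ⧸ (IsLocalRing.maximalIdeal (Y.presheaf.stalk (f x))).map (f.stalkMap x).hom) := by
    intro x
    letI := (f.stalkMap x).hom.toAlgebra
    haveI : Module.Flat (Y.presheaf.stalk (f x)) (X.presheaf.stalk x) := Flat.stalkMap f x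
    haveI : IsLocalHom (algebraMap (Y.presheaf.stalk (f x)) (X.presheaf.stalk x)) :=
      inferInstanceAs (IsLocalHom (f.stalkMap x).hom)
    exact ((Groth.Agent.KFlat.pullStalkIso f x).app F).toLinearEquiv.length_eq.trans
      (IsLocalRing.length_baseChange (Y.presheaf.stalk (f x)) (X.presheaf.stalk x) (F.presheaf.stalk (f x)))
  have hz : ∀ x : X, Subsingleton (F.presheaf.stalk (f x)) →
      Subsingleton (((Scheme.Modules.pullback f).obj F).presheaf.stalk x) := by
    intro x hs
    rw [← Module.length_eq_zero_iff (R := X.presheaf.stalk x), hlen, Module.length_eq_zero, zero_mul]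
  have hF0 : ∀ x : X, k < δY (f x) → Subsingleton (F.presheaf.stalk (f x)) := fun x h =>
    not_nontrivial_iff_subsingleton.1 fun hn => absurd (hdim _ hn) (by omega)
  refine ⟨fun x hx => ?_, ?_⟩
  · obtain ⟨h1, -⟩ := Groth.Agent.CycDim.delta_le f hδ hr x
    have := hdim (f x) (not_subsingleton_iff_nontrivial.1 fun hs => not_subsingleton_iff_nontrivial.2 hx (hz x hs))
    omega
  · funext x
    obtain ⟨h1, -⟩ := Groth.Agent.CycDim.delta_le f hδ hr x
    unfold Cyc.pullFun Cyc.sheafFun
    by_cases hc : δX x = k + (r : ℤ)
    · rw [if_pos hc]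
      by_cases hk : δY (f x) = k
      · rw [if_pos (by omega), if_pos hk, hlen, ENat.toNat_mul, Nat.cast_mul]
      · haveI := hz x (hF0 x (by omega))
        rw [Module.length_eq_zero (M := ((Scheme.Modules.pullback f).obj F).presheaf.stalk x), if_neg (by omega)]
        rfl
    · rw [if_neg hc]
      by_cases hk : δY (f x) = k
      · rw [if_neg (by omega)]
      · rw [if_neg hk]; split <;> simp

end Groth.Agent.S1897
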