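import Groth.Statements.S6470
import Groth.Agent.BivarOps.InterStalk
-- import your own Groth.Agent.* helpers here

set_option autoImplicit false
set_option linter.style.haveILetI false
set_option backward.isDefEq.respectTransparency false
set_option maxHeartbeats 2000000
universe u
open CategoryTheory CategoryTheory.Limits AlgebraicGeometry
attribute [local instance] HasDerivedCategory.standard
open IntMult
open Groth.Agent

namespace Groth.Agent.S6470

/-- Let X be a nonsingular variety of dimension n and F, G coherent O_X-modules. Suppose the support of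
F has dimension at most r, the support of G has dimension at most s, and the two supports meet in a
set whose dimension does not exceed r + s − n. Then [F]_r and [G]_s intersect properly and [F]_r ·
[G]_s = Σ_p (−1)^p [Tor_p^{O_X}(F, G)]_{r+s−n}; the right side is written through stalks: its
coefficient at ζ with δ(ζ) = r + s − n is Σ_p (−1)^p length_{O_{X,ζ}} Tor_p^{O_{X,ζ}}(F_ζ, G_ζ)
(IntMult.chi), the stalk of the Tor sheaf being the Tor of the stalks. Support bounds are phrased
through nontrivial stalks. Here X is a nonsingular variety over the algebraically closed field K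
(smooth, separated, quasi-compact, integral) with dimension function δ (transcendence degree over K,
recorded by Cyc.DeltaCompat to Spec K with value 0, together with Cyc.IsSetup) and n = dim X = δ of
the generic point; cycles are coefficient functions X → ℤ, proper intersection is
IntMult.IntersectProperly and α · β is the Tor-formula intersection product on coefficient functions
(IntMult.interProd). -/
theorem result (K : Type u) [Field K] [IsAlgClosed K] (X : Scheme.{u}) (f : X ⟶ Spec (CommRingCat.of K)) [Smooth f] [IsSeparated f] [QuasiCompact f] [IsIntegral X] (δ : X → ℤ) (hX : Cyc.IsSetup X δ) (hδ : Cyc.DeltaCompat f δ (fun _ => 0)) (n : ℤ) (hn : δ (genericPoint X) = n) (F G : X.Modules) (hF : Coh.IsCoh F) (hG : Coh.IsCoh G) (r s : ℤ) (hr : ∀ x : X, Nontrivial (F.presheaf.stalk x) → δ x ≤ r) (hs : ∀ x : X, Nontrivial (G.presheaf.stalk x) → δ x ≤ s) (hrs : ∀ x : X, Nontrivial (F.presheaf.stalk x) → Nontrivial (G.presheaf.stalk x) → δ x ≤ r + s - n) : IntMult.IntersectProperly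 δ n (Cyc.sheafFun δ r F) (Cyc.sheafFun δ s G) ∧ ∀ ζ : X, IntMult.interProd δ n (Cyc.sheafFun δ r F) (Cyc.sheafFun δ s G) ζ = if δ ζ = r + s - n then IntMult.chi ↑(X.presheaf.stalk ζ) ↑(F.presheaf.stalk ζ) ↑(G.presheaf.stalk ζ) else 0 := by
  classical
  obtain ⟨hLN, -, hdim⟩ := hX
  haveI := hLN
  have hspec : ∀ {H : X.Modules}, Coh.IsCoh H → ∀ {ξ x : X}, ξ ⤳ x → Nontrivial (H.presheaf.stalk ξ) →
      Nontrivial (H.presheaf.stalk x) := fun hH _ _ h hn => BivarOps.nontrivial_of_specializes hH h hn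
  have hfun : ∀ (k : ℤ) (H : X.Modules) (x : X), Cyc.sheafFun δ k H x ≠ 0 →
      δ x = k ∧ Nontrivial (H.presheaf.stalk x) := by
    intro k H x hne
    rw [Cyc.sheafFun] at hne
    split_ifs at hne with hk
    · refine ⟨hk, not_subsingleton_iff_nontrivial.1 fun hs => hne ?_⟩
      rw [Module.length_eq_zero, ENat.toNat_zero, Nat.cast_zero]
    · exact absurd rfl hne
  constructor
  · intro ξ η ζ hξ hη hξζ hηζ
    obtain ⟨hξr, hξn⟩ := hfun _ _ _ hξ
    obtain ⟨hηs, hηn⟩ := hfun _ _ _ hη
    have := hrs ζ (hspec hF hξζ hξn) (hspec hG hηζ hηn)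
    omega
  intro ζ
  rw [IntMult.interProd]
  split_ifs with hζ
  swap
  · refine finsum_eq_zero_of_forall_eq_zero fun p => ?_
    by_contra hne
    obtain ⟨h1, -⟩ := hfun _ _ _ (left_ne_zero_of_mul (left_ne_zero_of_mul hne))
    obtain ⟨h2, -⟩ := hfun _ _ _ (right_ne_zero_of_mul (left_ne_zero_of_mul hne))
    have := p.2.2.2
    omega
  haveI := SmLocalST.isRegularLocalRing_stalk_of_smooth_field f ζ
  haveI := BivarOps.finite_stalk hF ζ
  haveI := BivarOps.finite_stalk hG ζ
  obtain ⟨hA, hζn⟩ := BivarOps.dim_stalk hdim ζ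
  rw [hn] at hA hζn
  obtain ⟨SM, hSM, hminM⟩ := BivarOps.exists_top_primes hdim hF r hr ζ
  obtain ⟨SG, hSG, hminG⟩ := BivarOps.exists_top_primes hdim hG s hs ζ
  have hdisj : BivarOps.SuppDisj (X.presheaf.stalk ζ) (F.presheaf.stalk ζ) (G.presheaf.stalk ζ) := by
    refine BivarOps.suppDisj_of_support fun P hPF hPG => ?_
    obtain ⟨P, hP⟩ := P
    obtain ⟨ξ, h, rfl⟩ := CDivNormal.exists_genPrime_eq ζ P
    have h1 := hrs ξ ((BivarOps.genPrime_mem_support hF.1 h).1 hPF) ((BivarOps.genPrime_mem_support hG.1 h).1 hPG)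
    obtain rfl := CycDim.eq_of_delta_le hdim h (by omega)
    exact CycDim.genPrime_rfl _
  -- the annihilators of the pieces
  have hannF : ∀ P ∈ Module.support (X.presheaf.stalk ζ) (F.presheaf.stalk ζ),
      Module.annihilator (X.presheaf.stalk ζ) (F.presheaf.stalk ζ) ≤
        Module.annihilator (X.presheaf.stalk ζ) (X.presheaf.stalk ζ ⧸ P.asIdeal) := fun P hP => by
    rw [Ideal.annihilator_quotient]; exact Module.mem_support_iff_of_finite.1 hP
  have hannG : ∀ P ∈ Module.support (X.presheaf.stalk ζ) (G.presheaf.stalk ζ),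
      Module.annihilator (X.presheaf.stalk ζ) (G.presheaf.stalk ζ) ≤
        Module.annihilator (X.presheaf.stalk ζ) (X.presheaf.stalk ζ ⧸ P.asIdeal) := fun P hP => by
    rw [Ideal.annihilator_quotient]; exact Module.mem_support_iff_of_finite.1 hP
  -- vanishing for the smaller primes
  have key : ∀ P ∈ Module.support (X.presheaf.stalk ζ) (F.presheaf.stalk ζ),
      ∀ Q ∈ Module.support (X.presheaf.stalk ζ) (G.presheaf.stalk ζ), (P ∉ SM ∨ Q ∉ SG) →
      IntMult.chi (X.presheaf.stalk ζ) (X.presheaf.stalk ζ ⧸ P.asIdeal) (X.presheaf.stalk ζ ⧸ Q.asIdeal) = 0 := by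
    intro P hPs Q hQs hne
    have hd0 := (hdisj.mono (hannF P hPs) (hannG Q hQs)).symm
    rw [BivarOps.SuppDisj, Ideal.annihilator_quotient, Ideal.annihilator_quotient] at hd0
    obtain ⟨P, hP⟩ := P
    obtain ⟨Q, hQ⟩ := Q
    obtain ⟨ξ, h, rfl⟩ := CDivNormal.exists_genPrime_eq ζ P
    obtain ⟨η, h', rfl⟩ := CDivNormal.exists_genPrime_eq ζ Q
    have hnF := (BivarOps.genPrime_mem_support hF.1 h).1 hPs
    have hnG := (BivarOps.genPrime_mem_support hG.1 h').1 hQs
    have hξ := hr ξ hnF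
    have hη := hs η hnG
    have hlt : δ ξ + δ η < r + s := by
      rcases hne with hne | hne
      · have : δ ξ ≠ r := fun e => hne ((hSM ξ h).2 ⟨hnF, e⟩)
        omega
      · have : δ η ≠ s := fun e => hne ((hSG η h').2 ⟨hnG, e⟩)
        omega
    obtain ⟨ha, hξζ⟩ := BivarOps.dim_quot_genPrime hdim h
    obtain ⟨hb, hηζ⟩ := BivarOps.dim_quot_genPrime hdim h'
    exact DiagTor.chi_zero_stalk K f ζ _ _ _ _ _ hA ha hb hd0 (by omega)
  -- dévissage in both variables
  have e1 := BivarOps.chi_double (F.presheaf.stalk ζ) (G.presheaf.stalk ζ) SM SG hdisj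
    (fun P hP => BivarOps.mem_support_of_mem_top hSM P hP (fun h => BivarOps.genPrime_mem_support hF.1 h))
    (fun P hP => BivarOps.mem_support_of_mem_top hSG P hP (fun h => BivarOps.genPrime_mem_support hG.1 h))
    hminM hminG key
  -- the intersection product as the same double sum
  let pt : PrimeSpectrum (X.presheaf.stalk ζ) → X := fun P => X.fromSpecStalk ζ P
  have hpt : Function.Injective pt := (X.fromSpecStalk ζ).isEmbedding.injective
  rw [finsum_subtype_eq_finsum_cond (f := fun p : X × X => Cyc.sheafFun δ r F p.1 * Cyc.sheafFun δ s G p.2 *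
      IntMult.mult (IntMult.ptIdeal p.1) (IntMult.ptIdeal p.2) ζ)
      (fun p : X × X => p.1 ⤳ ζ ∧ p.2 ⤳ ζ ∧ δ p.1 + δ p.2 - n = δ ζ),
    finsum_cond_eq_sum_of_cond_iff _ (t := (SM ×ˢ SG).image fun PQ => (pt PQ.1, pt PQ.2)) ?_,
    Finset.sum_image (fun x _ y _ hxy => Prod.ext (hpt (congrArg Prod.fst hxy)) (hpt (congrArg Prod.snd hxy))), Finset.sum_product, e1]
  · refine Finset.sum_congr rfl fun P hP => ?_
    obtain ⟨P, hPp⟩ := P
    obtain ⟨ξ, h, rfl⟩ := CDivNormal.exists_genPrime_eq ζ P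
    obtain ⟨hnF, hξr⟩ := (hSM ξ h).1 hP
    refine Finset.sum_congr rfl fun Q hQ => ?_
    obtain ⟨Q, hQp⟩ := Q
    obtain ⟨η, h', rfl⟩ := CDivNormal.exists_genPrime_eq ζ Q
    obtain ⟨hnG, hηs⟩ := (hSG η h').1 hQ
    have eξ : pt ⟨_, hPp⟩ = ξ := BivarOps.fromSpecStalk_genPrime h
    have eη : pt ⟨_, hQp⟩ = η := BivarOps.fromSpecStalk_genPrime h'
    dsimp only
    rw [eξ, eη]
    simp only [Cyc.sheafFun,
      if_pos hξr, if_pos hηs, BivarOps.lenAt_genPrime_stalk hF h, BivarOps.lenAt_genPrime_stalk hG h',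
      IntMult.mult]
    rw [BivarOps.stalkIdeal_ptIdeal h, BivarOps.stalkIdeal_ptIdeal h']
    rw [BivarOps.chi_flip]
    ring
  · rintro ⟨ξ, η⟩ hne
    simp only [Finset.mem_image, Finset.mem_product, Prod.mk.injEq, Prod.exists]
    obtain ⟨hξr, hnF⟩ := hfun _ _ _ (left_ne_zero_of_mul (left_ne_zero_of_mul hne))
    obtain ⟨hηs, hnG⟩ := hfun _ _ _ (right_ne_zero_of_mul (left_ne_zero_of_mul hne))
    constructor
    · rintro ⟨h, h', -⟩
      exact ⟨⟨_, inferInstance⟩, ⟨_, inferInstance⟩, ⟨(hSM ξ h).2 ⟨hnF, hξr⟩, (hSG η h').2 ⟨hnG, hηs⟩⟩,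
        BivarOps.fromSpecStalk_genPrime h, BivarOps.fromSpecStalk_genPrime h'⟩
    · rintro ⟨P, Q, -, rfl, rfl⟩
      dsimp only at hξr hηs ⊢
      have hsp : ∀ P, pt P ⤳ ζ := fun P => by
        have : pt P ∈ Set.range (X.fromSpecStalk ζ) := ⟨P, rfl⟩
        rwa [Scheme.range_fromSpecStalk] at this
      exact ⟨hsp P, hsp Q, by omega⟩

end Groth.Agent.S6470
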