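import Groth.Statements.S17385
import Groth.Agent.BlowUpLib.Basic
import Mathlib.AlgebraicGeometry.Morphisms.ClosedImmersion
import Mathlib.AlgebraicGeometry.Morphisms.Affine

set_option autoImplicit false
set_option backward.isDefEq.respectTransparency false
set_option linter.style.haveILetI false
universe u
open BlowUp

namespace Groth.Agent.S17385

open AlgebraicGeometry CategoryTheory Limits TopologicalSpace
open Groth.Agent

variable {P : Scheme.{u}} (J : P.IdealSheafData)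

abbrev cpl : P.Opens := J.support.compl

theorem image_preimage {V : P.affineOpens} {f : Γ(P, V.1)} (he : J.ideal V = Ideal.span {f}) :
    (cpl J).ι ''ᵁ ((cpl J).ι ⁻¹ᵁ V.1) = P.basicOpen f := by
  rw [Scheme.Hom.image_preimage_eq_opensRange_inf, Scheme.Opens.opensRange_ι]
  refine Opens.ext (Set.ext fun x => ⟨fun hx => (BlowUpLib.mem_basicOpen_of_notMem_support he hx.2).mp hx.1, fun hx => ⟨?_, P.basicOpen_le f hx⟩⟩)
  exact (BlowUpLib.mem_basicOpen_of_notMem_support he (P.basicOpen_le f hx)).mpr hx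

theorem isAffineHom_compl (hJ : ∀ x : P, ∃ V : P.affineOpens, x ∈ V.1 ∧ ∃ f : Γ(P, V.1), J.ideal V = Ideal.span {f}) :
    IsAffineHom (cpl J).ι := by
  refine isAffineHom_of_forall_exists_isAffineOpen _ fun x => ?_
  obtain ⟨V, hxV, f, he⟩ := hJ x
  refine ⟨V.1, hxV, V.2, ?_⟩
  rw [← Scheme.Hom.isAffineOpen_iff_of_isOpenImmersion (cpl J).ι, image_preimage J he]
  exact V.2.basicOpen f

theorem mem_ker_compl {V : P.affineOpens} {f : Γ(P, V.1)} [QuasiCompact (cpl J).ι]
    (he : J.ideal V = Ideal.span {f}) (a : Γ(P, V.1)) :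
    a ∈ (cpl J).ι.ker.ideal V ↔ ∃ n : ℕ, f ^ n * a = 0 := by
  rw [Scheme.Hom.ker_apply, RingHom.mem_ker, Scheme.Opens.ι_app]
  have e := image_preimage J he
  have key : ∀ (O : P.Opens) (hO : O = P.basicOpen f) (h : O ≤ V.1),
      (P.presheaf.map (homOfLE h).op).hom a = 0 ↔ ∃ n : ℕ, f ^ n * a = 0 := by
    rintro O rfl h
    have := V.2.isLocalization_basicOpen f
    show algebraMap Γ(P, V.1) Γ(P, P.basicOpen f) a = 0 ↔ _
    rw [IsLocalization.map_eq_zero_iff (Submonoid.powers f)]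
    exact ⟨fun ⟨⟨_, n, rfl⟩, hn⟩ => ⟨n, hn⟩, fun ⟨n, hn⟩ => ⟨⟨_, n, rfl⟩, hn⟩⟩
  exact key _ e _

theorem ker_compl_eq_bot (hJ : BlowUp.IsEffCartierIdeal J) : (cpl J).ι.ker = ⊥ := by
  haveI := isAffineHom_compl J (fun x => by
    obtain ⟨V, h1, f, -, h2⟩ := hJ x
    exact ⟨V, h1, f, h2⟩)
  choose V hV f hf he using hJ
  refine Scheme.IdealSheafData.ext_of_iSup_eq_top V (top_le_iff.mp fun x _ => Opens.mem_iSup.mpr ⟨x, hV x⟩) fun x => ?_
  rw [Scheme.IdealSheafData.ideal_bot, Pi.bot_apply, eq_bot_iff]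
  intro a ha
  obtain ⟨n, hn⟩ := (mem_ker_compl J (he x) a).mp ha
  exact (mul_left_mem_nonZeroDivisors_eq_zero_iff (pow_mem (hf x) n)).1 hn

theorem cartier_strict (hJ : ∀ x : P, ∃ V : P.affineOpens, x ∈ V.1 ∧ ∃ f : Γ(P, V.1), J.ideal V = Ideal.span {f}) :
    BlowUp.IsEffCartierIdeal (J.comap (cpl J).ι.ker.subschemeι) := by
  haveI := isAffineHom_compl J hJ
  let K := (cpl J).ι.ker
  intro y
  obtain ⟨V, hyV, f, he⟩ := hJ (K.subschemeι y)
  refine ⟨⟨K.subschemeι ⁻¹ᵁ V.1, V.2.preimage _⟩, hyV, (K.subschemeι.appLE V.1 _ le_rfl).hom f, ?_, ?_⟩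
  · rw [mem_nonZeroDivisors_iff_right]
    intro c hc
    obtain ⟨a, rfl⟩ := K.subschemeι_app_surjective V c
    have hker : RingHom.ker (K.subschemeι.app V.1).hom = K.ideal V := by
      rw [← Scheme.Hom.ker_apply, K.ker_subschemeι]
    rw [← Scheme.Hom.app_eq_appLE, ← map_mul] at hc
    have h1 : a * f ∈ K.ideal V := by rw [← hker]; exact hc
    obtain ⟨n, hn⟩ := (mem_ker_compl J he _).mp h1
    have h2 : a ∈ K.ideal V := (mem_ker_compl J he _).mpr ⟨n + 1, by rw [pow_succ, mul_assoc, mul_comm f a]; exact hn⟩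
    rw [← hker] at h2
    exact h2
  · rw [FpqcDescent.ideal_comap_appLE J K.subschemeι V ⟨_, V.2.preimage _⟩ le_rfl, he, Ideal.map_span, Set.image_singleton]

open AlgebraicGeometry CategoryTheory Limits TopologicalSpace in
/-- Let X be any scheme, I and J quasi-coherent ideals on X, b : X' → X a blowing up of X in I, Z ⊆ X
the closed subscheme of J, b' : Z' → Z a blowing up of Z in the inverse image ideal I·O_Z, and k :
Z' → X' the morphism with k ≫ b = b' ≫ (Z → X) (it exists and is unique by the universal property).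
Then k is a closed immersion (its image is the strict transform of Z); writing U for the open
complement of the support of I and W ⊆ Z' for the preimage of U, the restriction W → X' of k is an
affine morphism, and its scheme-theoretic image is the whole image of k: the kernel ideal sheaf of W
→ X' equals that of k. No Noetherian or finite-type hypothesis is needed. -/
theorem result
    {X X' Z' : Scheme.{u}} (𝓘 𝓙 : X.IdealSheafData) (b : X' ⟶ X) (hb : BlowUp.IsBlowUp b 𝓘)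
    (b' : Z' ⟶ 𝓙.subscheme) (hb' : BlowUp.IsBlowUp b' (𝓘.comap 𝓙.subschemeι))
    (k : Z' ⟶ X') (hk : k ≫ b = b' ≫ 𝓙.subschemeι) :
    IsClosedImmersion k ∧
      IsAffineHom ((k ⁻¹ᵁ (b ⁻¹ᵁ 𝓘.support.compl)).ι ≫ k) ∧
      ((k ⁻¹ᵁ (b ⁻¹ᵁ 𝓘.support.compl)).ι ≫ k).ker = k.ker := by
  let i := 𝓙.subschemeι
  let U := 𝓘.support.compl
  let J₀ := 𝓘.comap b
  let P := pullback b i
  let p := pullback.fst b i
  let J := J₀.comap p
  haveI : IsClosedImmersion p := MorphismProperty.of_isPullback (IsPullback.of_hasPullback b i).flip inferInstance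
  have hJp : ∀ x : P, ∃ V : P.affineOpens, x ∈ V.1 ∧ ∃ f : Γ(P, V.1), J.ideal V = Ideal.span {f} := by
    intro x
    obtain ⟨V₀, hx₀, f, -, he⟩ := hb.1 (p x)
    obtain ⟨V, hV, hxV, hVle⟩ := exists_isAffineOpen_mem_and_subset (X := P) (U := p ⁻¹ᵁ V₀.1) hx₀
    refine ⟨⟨V, hV⟩, hxV, (p.appLE V₀.1 V hVle).hom f, ?_⟩
    rw [FpqcDescent.ideal_comap_appLE J₀ p V₀ ⟨V, hV⟩ hVle, he, Ideal.map_span, Set.image_singleton]
  let O : P.Opens := cpl J
  haveI := isAffineHom_compl J hJp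
  let z : Z' ⟶ P := pullback.lift k b' hk
  have hzp : z ≫ p = k := pullback.lift_fst _ _ _
  have hC : BlowUp.IsEffCartierIdeal (J₀.comap k) := by
    rw [← Scheme.IdealSheafData.comap_comp, hk, Scheme.IdealSheafData.comap_comp]
    exact hb'.1
  let Jk := J₀.comap k
  have hJk : ∀ x : Z', ∃ V : Z'.affineOpens, x ∈ V.1 ∧ ∃ f : Γ(Z', V.1), Jk.ideal V = Ideal.span {f} :=
    fun x => by
      obtain ⟨V, h1, f, -, h2⟩ := hC x
      exact ⟨V, h1, f, h2⟩
  haveI := isAffineHom_compl Jk hJk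
  have hW : ∀ x, x ∈ k ⁻¹ᵁ (b ⁻¹ᵁ U) ↔ x ∈ (cpl Jk) := fun x => by
    show b (k x) ∉ 𝓘.support ↔ x ∉ Jk.support
    rw [show Jk = (𝓘.comap b).comap k from rfl, Scheme.IdealSheafData.support_comap, Scheme.IdealSheafData.support_comap]
    rfl
  have hW' : k ⁻¹ᵁ (b ⁻¹ᵁ U) = (cpl Jk) := Opens.ext (Set.ext hW)
  have hbot := ker_compl_eq_bot Jk hC
  have hkerW : ((k ⁻¹ᵁ (b ⁻¹ᵁ U)).ι ≫ k).ker = k.ker := by
    rw [hW', Scheme.Hom.ker_comp, hbot, Scheme.IdealSheafData.map_bot]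
  let K := O.ι.ker
  have hrange : Set.range ((cpl Jk).ι ≫ z) ⊆ Set.range O.ι := by
    rw [Scheme.Opens.range_ι]
    rintro _ ⟨w, rfl⟩
    have hw : (cpl Jk).ι w ∈ cpl Jk := w.2
    show ((cpl Jk).ι ≫ z) w ∉ J.support
    rw [show J = J₀.comap p from rfl, Scheme.IdealSheafData.support_comap]
    show p (((cpl Jk).ι ≫ z) w) ∉ J₀.support
    rw [← Scheme.Hom.comp_apply, Category.assoc, hzp]
    intro hh
    exact hw (by
      show (cpl Jk).ι w ∈ (J₀.comap k).support
      rw [Scheme.IdealSheafData.support_comap]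
      exact hh)
  have hKz : K ≤ z.ker := by
    have e : ((cpl Jk).ι ≫ z).ker = z.ker := by rw [Scheme.Hom.ker_comp, hbot, Scheme.IdealSheafData.map_bot]
    rw [← e, ← IsOpenImmersion.lift_fac O.ι ((cpl Jk).ι ≫ z) hrange]
    exact Scheme.Hom.le_ker_comp _ _
  let ι := K.subschemeι
  let m : Z' ⟶ K.subscheme := IsClosedImmersion.lift ι z (by rw [K.ker_subschemeι]; exact hKz)
  have hm : m ≫ ι = z := IsClosedImmersion.lift_fac _ _ _
  have hCι : BlowUp.IsEffCartierIdeal (J.comap ι) := cartier_strict J hJp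
  have hwι : ι ≫ p ≫ b = ι ≫ pullback.snd b i ≫ i := congrArg (ι ≫ ·) pullback.condition
  obtain ⟨h, hh, -⟩ := hb'.2 K.subscheme (ι ≫ pullback.snd b i) (by
    rw [← Scheme.IdealSheafData.comap_comp, Category.assoc, ← hwι, Scheme.IdealSheafData.comap_comp, Scheme.IdealSheafData.comap_comp]
    exact hCι)
  have hmh : m ≫ h = 𝟙 Z' := (hb'.2 Z' b' hb'.1).unique
    (by rw [Category.assoc, hh, reassoc_of% hm, pullback.lift_snd]) (Category.id_comp _)
  have hz : h ≫ z = ι := by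
    apply pullback.hom_ext
    · rw [Category.assoc, pullback.lift_fst]
      refine (hb.2 K.subscheme (ι ≫ p ≫ b) ?_).unique ?_ (Category.assoc _ _ _)
      · rw [Scheme.IdealSheafData.comap_comp, Scheme.IdealSheafData.comap_comp]
        exact hCι
      · rw [Category.assoc, hk, reassoc_of% hh, hwι]
    · rw [Category.assoc, pullback.lift_snd, hh]
  haveI : IsIso m := ⟨h, hmh, by rw [← cancel_mono ι, Category.assoc, hm, hz, Category.id_comp]⟩
  have hk' : k = (m ≫ ι) ≫ p := by rw [hm, hzp]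
  haveI : IsClosedImmersion k := by rw [hk']; infer_instance
  refine ⟨inferInstance, ?_, hkerW⟩
  rw [show 𝓘.support.compl = U from rfl, hW']
  infer_instance

end Groth.Agent.S17385
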