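import Groth.Prelude.Def_BlowUp2
import Mathlib.AlgebraicGeometry.Morphisms.ClosedImmersion
import Mathlib.AlgebraicGeometry.Noetherian
import Groth.Agent.S17385

set_option backward.isDefEq.respectTransparency false
set_option backward.isDefEq.respectTransparency.types false
-- import your own Groth.Agent.* helpers here

set_option autoImplicit false
universe u
open CategoryTheory AlgebraicGeometry
namespace SDiv
end SDiv
open SDiv

namespace Groth.Agent.S10920

/-- Let X be a Noetherian scheme, I a quasi-coherent ideal sheaf on X, f : Y → X a closed immersion, b :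
X' → X a blowing up of X in I and b' : Y' → Y a blowing up of Y in the inverse image ideal sheaf
I·O_Y (blow-ups in the sense of the universal property: the inverse image ideal becomes effective
Cartier, universally). If f' : Y' → X' is the morphism compatible with the blow-ups, b ∘ f' = f ∘ b'
(it exists and is unique by the universal property), then f' is a closed immersion; Y' is the strict
transform of Y. -/
theorem result {X Y X' Y' : Scheme.{u}} [IsNoetherian X]
    (𝓘 : X.IdealSheafData) (f : Y ⟶ X) [IsClosedImmersion f]
    (b : X' ⟶ X) (hb : BlowUp.IsBlowUp b 𝓘) (b' : Y' ⟶ Y) (hb' : BlowUp.IsBlowUp b' (𝓘.comap f))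
    (f' : Y' ⟶ X') (hf' : f' ≫ b = b' ≫ f) : IsClosedImmersion f' := by
  let e := f.toImage
  haveI : IsIso e := inferInstance
  have he : e ≫ f.ker.subschemeι = f := Scheme.Hom.toImage_imageι f
  have hb'' : BlowUp.IsBlowUp (b' ≫ e) (𝓘.comap f.ker.subschemeι) := by
    refine ⟨?_, fun W g hg => ?_⟩
    · rw [← Scheme.IdealSheafData.comap_comp, Category.assoc, he, Scheme.IdealSheafData.comap_comp]
      exact hb'.1
    · obtain ⟨k, hk, huniq⟩ := hb'.2 W (g ≫ inv e) (by
        rw [← Scheme.IdealSheafData.comap_comp, Category.assoc,
          show inv e ≫ f = f.ker.subschemeι from by rw [IsIso.inv_comp_eq, he], Scheme.IdealSheafData.comap_comp]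
        exact hg)
      refine ⟨k, (by simp [reassoc_of% hk] : k ≫ b' ≫ e = g), fun l hl => huniq l ?_⟩
      change l ≫ b' = g ≫ inv e
      rw [← (show l ≫ b' ≫ e = g from hl)]
      simp
  exact (Groth.Agent.S17385.result 𝓘 f.ker b hb (b' ≫ e) hb'' f'
    (by rw [Category.assoc, he, hf'])).1

end Groth.Agent.S10920
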