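import Groth.Statements.S10867
import Mathlib


set_option linter.style.haveILetI false

set_option autoImplicit false
universe u
open Mor

namespace Groth.Agent.S10867

open CategoryTheory AlgebraicGeometry in
/-- In the case of an algebraically closed base field k and K = k: let X, Y be k-schemes of finite type
and f : X → Y a proper k-morphism which is injective on closed points and such that for every closed
point x of X the ideal generated by the image of the maximal ideal of the local ring at f(x),
together with the square of the maximal ideal at x, is the whole maximal ideal at x (the cotangent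
map is surjective, i.e. the tangent map at x is injective). Then f is a closed immersion. (The
published statement allows any field k and tests points and tangent spaces with values in an
algebraically closed extension K of k; this row is the case K = k.) -/
theorem result (k : Type u) [Field k] [IsAlgClosed k]
    {X Y : Scheme.{u}} (f : X ⟶ Y) (q : Y ⟶ Spec (CommRingCat.of k)) [LocallyOfFiniteType q] [QuasiCompact q]
    [LocallyOfFiniteType (f ≫ q)] [IsProper f]
    (hinj : Set.InjOn f.base {x : X | IsClosed ({x} : Set X)})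
    (hT : ∀ x : X, IsClosed ({x} : Set X) →
      Ideal.map (f.stalkMap x).hom (IsLocalRing.maximalIdeal (Y.presheaf.stalk (f.base x))) ⊔
        IsLocalRing.maximalIdeal (X.presheaf.stalk x) ^ 2 = IsLocalRing.maximalIdeal (X.presheaf.stalk x)) :
    IsClosedImmersion f := by
  haveI : JacobsonSpace Y := LocallyOfFiniteType.jacobsonSpace q
  haveI : JacobsonSpace X := LocallyOfFiniteType.jacobsonSpace (f ≫ q)
  -- fibres over closed points are finite
  have hfin : IsFinite f := by
    refine @IsFinite.of_isProper_of_locallyQuasiFinite _ _ f _ ?_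
    rw [← Scheme.Hom.quasiFiniteLocus_eq_top_iff]
    by_contra hne
    have hC : IsClosed ((f.quasiFiniteLocus : Set X)ᶜ) := f.quasiFiniteLocus.isOpen.isClosed_compl
    have hne' : ((f.quasiFiniteLocus : Set X)ᶜ).Nonempty :=
      Set.nonempty_compl.2 fun h => hne (SetLike.coe_injective h)
    obtain ⟨x, hxC, hx⟩ := nonempty_inter_closedPoints hne' hC.isLocallyClosed
    have hy : IsClosed ({f x} : Set Y) := by
      simpa using f.isClosedMap _ hx
    have hF : IsClosed (f.base ⁻¹' {f x}) := hy.preimage f.continuous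
    have h1 : f.base ⁻¹' {f x} ∩ closedPoints X ⊆ {x} := fun z hz => hinj hz.2 hx hz.1
    have h2 : f.base ⁻¹' {f x} ⊆ {x} := by
      rw [← closure_inter_closedPoints hF]
      exact hx.closure_subset_iff.2 h1
    apply hxC
    have : Finite (f.fiber (f x)) :=
      (f.fiberHomeo (f x)).finite_iff.mpr ((Set.finite_singleton x).subset h2).to_subtype
    exact Scheme.Hom.quasiFiniteAt_iff_isOpen_singleton_asFiber.mpr (isOpen_discrete _)
  refine IsZariskiLocalAtTarget.of_iSup_eq_top (fun V : Y.affineOpens => V.1) (iSup_affineOpens_eq_top Y) ?_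
  rintro ⟨V, hV⟩
  have hU : IsAffineOpen (f ⁻¹ᵁ V) := hV.preimage f
  haveI : IsAffine V.toScheme := hV
  haveI : IsAffine (f ⁻¹ᵁ V).toScheme := hU
  suffices hs : Function.Surjective (f.app V) by
    refine IsClosedImmersion.of_surjective_of_isAffine _ ?_
    rw [morphismRestrict_appTop]
    have hbot : V.ι ''ᵁ ⊤ = V := by simp
    have hs' : ∀ (W : Y.Opens), W = V → Function.Surjective (f.app W) := fun W hW => hW ▸ hs
    exact (ConcreteCategory.bijective_of_isIso
      (X.presheaf.map (eqToHom (image_morphismRestrict_preimage f V ⊤)).op)).2.comp (hs' _ hbot)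
  algebraize [(f.app V).hom]
  haveI : Module.Finite Γ(Y, V) Γ(X, f ⁻¹ᵁ V) := f.finite_app V hV
  -- the ground field
  have hqk : ((q.appLE ⊤ V le_top).hom.comp (Scheme.ΓSpecIso (CommRingCat.of k)).inv.hom).FiniteType :=
    (q.finiteType_appLE (isAffineOpen_top _) hV le_top).comp
      (RingHom.FiniteType.of_surjective _ (Scheme.ΓSpecIso _).commRingCatIsoToRingEquiv.symm.surjective)
  letI : Algebra k Γ(Y, V) :=
    ((q.appLE ⊤ V le_top).hom.comp (Scheme.ΓSpecIso (CommRingCat.of k)).inv.hom).toAlgebra
  haveI : Algebra.FiniteType k Γ(Y, V) := hqk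
  -- reduce to the maximal ideals of the base
  let A := Γ(Y, V)
  let B := Γ(X, f ⁻¹ᵁ V)
  let C := B ⧸ LinearMap.range (Algebra.linearMap A B)
  haveI : Module.Finite A C := inferInstance
  suffices hC : ∀ (p : Ideal A), p.IsMaximal → (⊤ : Submodule A C) ≤ p • ⊤ by
    have hann : Module.annihilator A C = ⊤ := by
      by_contra hne
      obtain ⟨p, hp, hle⟩ := Ideal.exists_le_maximal _ hne
      obtain ⟨r, hr, hr'⟩ := Submodule.exists_sub_one_mem_and_smul_eq_zero_of_fg_of_le_smul p ⊤
        Module.Finite.fg_top (hC p hp)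
      have hrp : r ∈ p := hle (Module.mem_annihilator.2 fun c => hr' c trivial)
      exact hp.ne_top ((Ideal.eq_top_iff_one p).2 (by simpa using p.sub_mem hrp hr))
    intro b
    have h1 := Module.mem_annihilator.1 (hann.symm ▸ (Submodule.mem_top : (1 : A) ∈ ⊤))
      (Submodule.Quotient.mk b)
    rw [one_smul] at h1
    obtain ⟨a, ha⟩ := (Submodule.Quotient.mk_eq_zero _).1 h1
    exact ⟨a, ha⟩
  intro p hp
  -- every element of `B` is congruent to a scalar modulo `pB`
  suffices hB : ∀ b : B, ∃ a : A, b - algebraMap A B a ∈ p.map (algebraMap A B) by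
    rintro c -
    obtain ⟨b, rfl⟩ := Submodule.Quotient.mk_surjective _ c
    obtain ⟨a, ha⟩ := hB b
    have hmk : Submodule.Quotient.mk b =
        (Submodule.Quotient.mk (b - algebraMap A B a) : C) := by
      rw [Submodule.Quotient.eq, sub_sub_cancel]
      exact ⟨a, rfl⟩
    rw [hmk]
    have : (b - algebraMap A B a : B) ∈ (p • ⊤ : Submodule A B) := by
      rw [Ideal.smul_top_eq_map]; exact ha
    have h2 := Submodule.mem_map_of_mem (f := (LinearMap.range (Algebra.linearMap A B)).mkQ) this
    rw [Submodule.map_smul''] at h2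
    exact Submodule.smul_mono le_rfl le_top h2
  let J := p.map (algebraMap A B)
  haveI : IsJacobsonRing k := inferInstance
  by_cases hJ : J = ⊤
  · intro b
    refine ⟨0, ?_⟩
    change _ ∈ J
    rw [hJ]; exact Submodule.mem_top
  obtain ⟨m, hm, hJm⟩ := Ideal.exists_le_maximal J hJ
  haveI := hm
  have hover : ∀ n : Ideal B, n.IsMaximal → J ≤ n → n.comap (algebraMap A B) = p := fun n hn hJn =>
    (hp.eq_of_le (Ideal.IsPrime.comap _).ne_top (Ideal.map_le_iff_le_comap.1 hJn)).symm
  -- points of X
  have hclosed : ∀ (n : Ideal B) (hn : n.IsMaximal), IsClosed ({hU.fromSpec ⟨n, hn.isPrime⟩} : Set X) := by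
    intro n hn
    have h : (⟨n, hn.isPrime⟩ : PrimeSpectrum B) ∈ closedPoints (PrimeSpectrum B) :=
      (PrimeSpectrum.isClosed_singleton_iff_isMaximal _).2 hn
    have h3 := (hU.fromSpec.isOpenEmbedding.preimage_closedPoints).ge h
    exact h3
  have hcomm : ∀ (n : Ideal B) (hn : n.IsPrime),
      f (hU.fromSpec ⟨n, hn⟩) = hV.fromSpec ⟨n.comap (algebraMap A B), inferInstance⟩ := by
    intro n hn
    have h := hV.SpecMap_appLE_fromSpec f hU le_rfl
    rw [← Scheme.Hom.comp_apply, ← h, Scheme.Hom.comp_apply, Scheme.Hom.appLE_eq_app]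
    rfl
  have huniq : ∀ n : Ideal B, n.IsMaximal → J ≤ n → n = m := by
    intro n hn hJn
    have h4 : f (hU.fromSpec ⟨n, hn.isPrime⟩) = f (hU.fromSpec ⟨m, hm.isPrime⟩) := by
      rw [hcomm, hcomm]
      congr 1
      exact PrimeSpectrum.ext ((hover n hn hJn).trans (hover m hm hJm).symm)
    exact congrArg PrimeSpectrum.asIdeal
      (hU.fromSpec.isOpenEmbedding.injective (hinj (hclosed n hn) (hclosed m hm) h4))
  -- the stalk at the point
  let x := hU.fromSpec ⟨m, hm.isPrime⟩
  have hxU : x ∈ f ⁻¹ᵁ V := by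
    rw [← hU.opensRange_fromSpec]; exact ⟨_, rfl⟩
  have hxV : f x ∈ V := hxU
  letI algX : Algebra B (X.presheaf.stalk x) := (X.presheaf.germ (f ⁻¹ᵁ V) x hxU).hom.toAlgebra
  letI algY : Algebra A (Y.presheaf.stalk (f x)) := (Y.presheaf.germ V (f x) hxV).hom.toAlgebra
  haveI : IsLocalization.AtPrime (X.presheaf.stalk x) m := by
    have h := hU.isLocalization_stalk' ⟨m, hm.isPrime⟩ hxU
    exact h
  have hyloc : IsLocalization.AtPrime (Y.presheaf.stalk (f x)) p := by
    have hp' : hV.fromSpec ⟨p, hp.isPrime⟩ = f x := by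
      rw [hcomm]; congr 1; exact PrimeSpectrum.ext (hover m hm hJm).symm
    have key : ∀ (y : Y) (hy : y ∈ V), hV.fromSpec ⟨p, hp.isPrime⟩ = y →
        @IsLocalization.AtPrime A _ (Y.presheaf.stalk y) _
          (Y.presheaf.germ V y hy).hom.toAlgebra p _ := by
      rintro _ hy rfl
      exact hV.isLocalization_stalk' ⟨p, hp.isPrime⟩ hy
    exact key (f x) hxV hp'
  let K := J ⊔ m ^ 2
  have hKm : K ≤ m := sup_le hJm (Ideal.pow_le_self two_ne_zero)
  have hmapK : K.map (algebraMap B (X.presheaf.stalk x)) =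
      IsLocalRing.maximalIdeal (X.presheaf.stalk x) := by
    have h5 := hT x (hclosed m hm)
    rw [← IsLocalization.AtPrime.map_eq_maximalIdeal p (Y.presheaf.stalk (f x)),
      ← IsLocalization.AtPrime.map_eq_maximalIdeal m (X.presheaf.stalk x), Ideal.map_map,
      ← Ideal.map_pow] at h5
    rw [← IsLocalization.AtPrime.map_eq_maximalIdeal m (X.presheaf.stalk x), Ideal.map_sup]
    refine Eq.trans ?_ h5
    congr 1
    rw [Ideal.map_map]
    congr 1
    exact congrArg CommRingCat.Hom.hom (f.germ_stalkMap V x hxV).symm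
  have hmK : m ≤ K := by
    intro b hb
    have h6 : algebraMap B (X.presheaf.stalk x) b ∈ K.map (algebraMap B (X.presheaf.stalk x)) := by
      rw [hmapK, ← IsLocalization.AtPrime.map_eq_maximalIdeal m (X.presheaf.stalk x)]
      exact Ideal.mem_map_of_mem _ hb
    obtain ⟨s, hs, hsb⟩ :=
      (IsLocalization.algebraMap_mem_map_algebraMap_iff m.primeCompl _ K b).1 h6
    have h7 : K ⊔ Ideal.span {s} = ⊤ := by
      by_contra hne
      obtain ⟨n, hn, hle⟩ := Ideal.exists_le_maximal _ hne
      have h8 : m ≤ n := by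
        intro c hc
        exact hn.isPrime.mem_of_pow_mem 2 (hle (Ideal.mem_sup_left
          (Ideal.mem_sup_right (Ideal.pow_mem_pow hc 2))))
      exact hs ((hm.eq_of_le hn.ne_top h8) ▸ hle (Ideal.mem_sup_right (Ideal.mem_span_singleton_self s)))
    obtain ⟨c, hc, d, hd, hcd⟩ := Submodule.mem_sup.1 ((Ideal.eq_top_iff_one _).1 h7)
    obtain ⟨e, rfl⟩ := Ideal.mem_span_singleton'.1 hd
    have : b = c * b + e * (s * b) := by rw [← mul_assoc, ← add_mul, hcd, one_mul]
    rw [this]
    exact K.add_mem (K.mul_mem_right _ hc) (K.mul_mem_left _ hsb)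
  haveI : Algebra.FiniteType k A := ‹_›
  letI : Field (A ⧸ p) := Ideal.Quotient.field p
  haveI : Module.Finite k (A ⧸ p) := finite_of_finite_type_of_isJacobsonRing k _
  haveI : Module.Finite (A ⧸ p) (B ⧸ J) := by
    haveI : Module.Finite A (B ⧸ J) := Module.Finite.of_surjective (Ideal.Quotient.mkₐ A J).toLinearMap
      Ideal.Quotient.mk_surjective
    exact Module.Finite.of_restrictScalars_finite A _ _
  haveI : IsArtinianRing (B ⧸ J) := isArtinian_of_tower (A ⧸ p) inferInstance
  have hmJ : m ≤ J := by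
    let mb := m.map (Ideal.Quotient.mk J)
    have hjac : mb ≤ Ideal.jacobson ⊥ := by
      refine le_sInf fun n ⟨_, hn⟩ => ?_
      have h9 : (n.comap (Ideal.Quotient.mk J)).IsMaximal :=
        Ideal.comap_isMaximal_of_surjective _ Ideal.Quotient.mk_surjective
      rw [Ideal.map_le_iff_le_comap, huniq _ h9 (fun j hj => by
        rw [Ideal.mem_comap, Ideal.Quotient.eq_zero_iff_mem.2 hj]; exact n.zero_mem)]
    have hmb : mb = mb ^ 2 := by
      refine le_antisymm ?_ (Ideal.pow_le_self two_ne_zero)
      calc mb ≤ K.map (Ideal.Quotient.mk J) := Ideal.map_mono hmK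
        _ = mb ^ 2 := by rw [Ideal.map_sup, Ideal.map_quotient_self, bot_sup_eq, Ideal.map_pow]
    have hzero : mb = ⊥ := by
      refine Submodule.eq_bot_of_le_smul_of_le_jacobson_bot mb mb (IsNoetherian.noetherian _) ?_ hjac
      rw [smul_eq_mul, ← pow_two, ← hmb]
    intro b hb
    have := Ideal.mem_map_of_mem (Ideal.Quotient.mk J) hb
    change Ideal.Quotient.mk J b ∈ mb at this
    rw [hzero, Ideal.mem_bot] at this
    exact Ideal.Quotient.eq_zero_iff_mem.1 this
  have hJeq : J = m := le_antisymm hJm hmJ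
  haveI : J.IsMaximal := hJeq ▸ hm
  letI : Field (B ⧸ J) := Ideal.Quotient.field J
  letI : Algebra k B := ((algebraMap A B).comp (algebraMap k A)).toAlgebra
  haveI : IsScalarTower k A B := .of_algebraMap_eq fun _ => rfl
  haveI : IsScalarTower k (A ⧸ p) (B ⧸ J) := .of_algebraMap_eq fun _ => rfl
  haveI : Module.Finite k (B ⧸ J) := Module.Finite.trans (A ⧸ p) _
  intro b
  obtain ⟨c, hc⟩ := (IsAlgClosed.algebraMap_bijective_of_isIntegral (k := k) (K := B ⧸ J)).2
    (Ideal.Quotient.mk J b)
  refine ⟨algebraMap k A c, Ideal.Quotient.eq.1 ?_⟩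
  rw [← hc]
  rfl

end Groth.Agent.S10867
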