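import Groth.Statements.S7066
import Groth.Agent.DRingKP.ResAmp
import Groth.Agent.DRingKP.FlatBC
import Mathlib.RingTheory.MvPolynomial.Basic
import Mathlib

set_option autoImplicit false
universe u
attribute [local instance] HasDerivedCategory.standard
open MoreMor

namespace Groth.Agent.S7066

open CategoryTheory Limits DerivedCategory
open scoped TensorProduct
attribute [local instance] HasDerivedCategory.standard
open Groth.Agent.DRingKP

section
variable {A P : Type u} [CommRing A] [CommRing P] [Algebra A P]

/-- flat base change of tor amplitude -/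
theorem amp_baseChange [Module.Flat A P] (a b : ℤ) (M : Type u) [AddCommGroup M] [Module A M]
    (h : DRing.HasTorAmplitudeIn A a b (Dual.inD A M)) :
    DRing.HasTorAmplitudeIn P a b (Dual.inD P (P ⊗[A] M)) := by
  let φ := algebraMap A P
  let F := ModuleCat.extendScalars.{u, u, u} φ
  haveI : PreservesFiniteLimits F :=
    ModuleCat.preservesFiniteLimits_extendScalars_of_flat (RingHom.flat_algebraMap_iff.mpr ‹_›)
  haveI : PreservesFiniteColimits F := inferInstance
  let e₁ : (ModuleCat.restrictScalars.{u} φ).obj (ModuleCat.of P P) ≃ₗ[A] P :=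
    { toFun := fun x => x
      map_add' := fun _ _ => rfl
      map_smul' := fun a x => (Algebra.smul_def a (show P from x)).symm
      invFun := fun x => x
      left_inv := fun _ => rfl
      right_inv := fun _ => rfl }
  let e₀ : ((ModuleCat.restrictScalars.{u} φ).obj (ModuleCat.of P P)) ⊗[A] M ≃ₗ[A] P ⊗[A] M :=
    TensorProduct.congr e₁ (LinearEquiv.refl A M)
  let el : F.obj (ModuleCat.of A M) ≃ₗ[P] P ⊗[A] M :=
    { toFun := fun x => e₀ x
      map_add' := fun x y => e₀.map_add x y
      map_smul' := fun c x => by
        induction x using TensorProduct.induction_on with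
        | zero =>
          exact (congrArg e₀ (smul_zero (A := F.obj (ModuleCat.of A M)) c)).trans (e₀.map_zero.trans
              ((congrArg (c • ·) e₀.map_zero).trans (smul_zero c)).symm)
        | tmul b y => rfl
        | add x y hx hy =>
          exact (congrArg e₀ (smul_add (A := F.obj (ModuleCat.of A M)) c x y)).trans ((e₀.map_add _ _).trans
            ((congrArg₂ (· + ·) hx hy).trans
            ((smul_add _ _ _).symm.trans (congrArg (c • ·) (e₀.map_add x y).symm))))
      invFun := fun x => e₀.symm x
      left_inv := fun x => e₀.symm_apply_apply x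
      right_inv := fun x => e₀.apply_symm_apply x }
  obtain ⟨E, hE, hEf, ⟨e⟩⟩ := h
  exact ⟨(bc φ).obj E, fun i hi => F.map_isZero (hE i hi), fun i => extendScalars_flat φ (hEf i),
    ⟨(F.mapDerivedCategoryFactors.app E).symm ≪≫ F.mapDerivedCategory.mapIso e ≪≫
      (F.mapDerivedCategorySingleFunctor 0).app (ModuleCat.of A M) ≪≫
      (DerivedCategory.singleFunctor (ModuleCat.{u} P) 0).mapIso el.toModuleIso⟩⟩

/-- one variable -/
theorem amp_adjoin (x : P) (hx : Function.Bijective (Polynomial.aeval (R := A) x)) (d : ℕ)
    (M : Type u) [AddCommGroup M] [Module P M] [Module A M] [IsScalarTower A P M]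
    (h : DRing.HasTorAmplitudeIn A (-(d : ℤ)) 0 (Dual.inD A M)) :
    DRing.HasTorAmplitudeIn P (-((d + 1 : ℕ) : ℤ)) 0 (Dual.inD P M) := by
  classical
  let e := AlgEquiv.ofBijective _ hx
  let bas : Module.Basis ℕ A P := (Polynomial.basisMonomials A).map e.toLinearEquiv
  haveI : Module.Free A P := Module.Free.of_basis bas
  let μx : M →ₗ[A] M := (LinearMap.lsmul P M x).restrictScalars A
  let φ : P ⊗[A] M →ₗ[P] P ⊗[A] M := x • LinearMap.id - μx.baseChange P
  let ψ : P ⊗[A] M →ₗ[P] M := LinearMap.liftBaseChange P (LinearMap.id : M →ₗ[A] M)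
  have hφ : ∀ (p : P) (m : M), φ (p ⊗ₜ m) = (x * p) ⊗ₜ m - p ⊗ₜ (x • m) := fun p m => by
    simp [φ, μx, TensorProduct.smul_tmul']
  have hψ : ∀ (p : P) (m : M), ψ (p ⊗ₜ m) = p • m := fun p m => by simp [ψ]
  have hcomp : ψ ∘ₗ φ = 0 := by
    refine TensorProduct.AlgebraTensorModule.ext fun p m => ?_
    simp only [LinearMap.comp_apply, hφ, map_sub, hψ, LinearMap.zero_apply, smul_smul, mul_comm, sub_self]
  have hsurj : Function.Surjective ψ := fun m => ⟨1 ⊗ₜ m, by simp [hψ]⟩
  have hmod : ∀ (q : Polynomial A) (m : M),
      (e q) ⊗ₜ[A] m - 1 ⊗ₜ[A] (e q • m) ∈ LinearMap.range φ := by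
    intro q
    induction q using Polynomial.induction_on with
    | C a =>
      intro m
      rw [show e (Polynomial.C a) = algebraMap A P a from e.commutes a, Algebra.algebraMap_eq_smul_one,
        TensorProduct.smul_tmul, smul_assoc, one_smul, sub_self]
      exact zero_mem _
    | add p q hp hq =>
      intro m
      rw [map_add, TensorProduct.add_tmul, add_smul, TensorProduct.tmul_add, add_sub_add_comm]
      exact add_mem (hp m) (hq m)
    | monomial n a ih =>
      intro m
      have he : e (Polynomial.C a * Polynomial.X ^ (n + 1)) = x * e (Polynomial.C a * Polynomial.X ^ n) := by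
        rw [pow_succ', mul_left_comm, map_mul]
        congr 1
        exact Polynomial.aeval_X x
      rw [he]
      generalize e (Polynomial.C a * Polynomial.X ^ n) = p at ih ⊢
      have : (x * p) ⊗ₜ[A] m - 1 ⊗ₜ[A] ((x * p) • m) = φ (p ⊗ₜ m) + (p ⊗ₜ (x • m) - 1 ⊗ₜ (p • x • m)) := by
        rw [hφ, mul_comm x p, mul_smul]
        abel
      rw [this]
      exact add_mem (LinearMap.mem_range_self _ _) (ih _)
  have hker : LinearMap.ker ψ ≤ LinearMap.range φ := by
    intro t ht
    have key : ∀ t, t - 1 ⊗ₜ[A] (ψ t) ∈ LinearMap.range φ := by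
      intro t
      induction t using TensorProduct.induction_on with
      | zero => simp
      | tmul p m =>
        obtain ⟨q, rfl⟩ := e.surjective p
        rw [hψ]; exact hmod q m
      | add s t hs ht =>
        rw [map_add, TensorProduct.tmul_add, add_sub_add_comm]
        exact add_mem hs ht
    simpa [LinearMap.mem_ker.1 ht] using key t
  have hinj : Function.Injective φ := by
    let ε := TensorProduct.equivFinsuppOfBasisLeft (N := M) bas
    have hrec : ∀ t i, ε (φ t) (i + 1) = ε t i - x • ε t (i + 1) := by
      intro t i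
      induction t using TensorProduct.induction_on with
      | zero => simp
      | tmul p m =>
        rw [hφ, map_sub]
        simp only [Finsupp.sub_apply, ε, TensorProduct.equivFinsuppOfBasisLeft_apply_tmul_apply]
        have hr : bas.repr (x * p) (i + 1) = bas.repr p i := by
          obtain ⟨q, rfl⟩ := e.surjective p
          have hxq : x * e q = e (Polynomial.X * q) := by
            rw [map_mul]; congr 1; exact (Polynomial.aeval_X x).symm
          have hco : ∀ (r : Polynomial A) (j : ℕ), bas.repr (e r) j = r.coeff j := fun r j => by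
            simp [bas, Polynomial.basisMonomials]
            rfl
          rw [hxq, hco, hco, Polynomial.coeff_X_mul]
        rw [hr, smul_comm]
      | add s t hs ht => simp only [map_add, Finsupp.add_apply, hs, ht, smul_add]; abel
    rw [injective_iff_map_eq_zero]
    intro t ht
    have h0 : ∀ i, ε t i = x • ε t (i + 1) := fun i => by
      have h := hrec t i
      rw [ht, map_zero, Finsupp.zero_apply] at h
      exact sub_eq_zero.1 h.symm
    have hiter : ∀ k i, ε t i = x ^ k • ε t (i + k) := by
      intro k
      induction k with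
      | zero => simp
      | succ k ih => intro i; rw [ih i, h0 (i + k), smul_smul, ← pow_succ, add_assoc]
    apply ε.injective
    rw [map_zero]
    ext i
    obtain ⟨N, hN⟩ := (ε t).support.bddAbove
    have hz : ε t (i + (N + 1)) = 0 := by
      rw [← Finsupp.notMem_support_iff]
      exact fun h => absurd (hN h) (by lia)
    rw [hiter (N + 1) i, hz, smul_zero]
    rfl
  let S : ShortComplex (ModuleCat.{u} P) :=
    ShortComplex.mk (ModuleCat.ofHom φ) (ModuleCat.ofHom ψ) (ModuleCat.hom_ext hcomp)
  have hS : S.ShortExact :=
    { exact := (ShortComplex.moduleCat_exact_iff_range_eq_ker _).2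
        (le_antisymm (LinearMap.range_le_ker_iff.2 hcomp) hker)
      mono_f := (ModuleCat.mono_iff_injective _).2 hinj
      epi_g := (ModuleCat.epi_iff_surjective _).2 hsurj }
  have hbc := amp_baseChange (P := P) (-(d : ℤ)) 0 M h
  exact amp_shrink (amp_obj₃ (a := -((d + 1 : ℕ) : ℤ)) (b := 1) _ hS.singleTriangle_distinguished
    (amp_widen (by lia) (by lia) hbc) (amp_widen (by lia) (by lia) hbc)) (isAbove_single _ 0)

end

theorem amp_mvPolynomial {A : Type u} [CommRing A] : ∀ (n : ℕ) (d : ℕ) (M : Type u) [AddCommGroup M]
    [Module (MvPolynomial (Fin n) A) M] [Module A M] [IsScalarTower A (MvPolynomial (Fin n) A) M],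
    DRing.HasTorAmplitudeIn A (-(d : ℤ)) 0 (Dual.inD A M) →
      DRing.HasTorAmplitudeIn (MvPolynomial (Fin n) A) (-((d + n : ℕ) : ℤ)) 0
        (Dual.inD (MvPolynomial (Fin n) A) M) := by
  intro n
  induction n with
  | zero =>
    intro d M _ _ _ _ h
    let e : MvPolynomial (Fin 0) A ≃ₐ[A] A := MvPolynomial.isEmptyAlgEquiv A (Fin 0)
    haveI : Module.Flat A (MvPolynomial (Fin 0) A) := inferInstance
    have hs : Function.Surjective (algebraMap A (MvPolynomial (Fin 0) A)) := fun p =>
      ⟨e p, e.injective (by rw [e.commutes]; rfl)⟩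
    have hbij : Function.Bijective
        (LinearMap.liftBaseChange (MvPolynomial (Fin 0) A) (LinearMap.id : M →ₗ[A] M)) := by
      have hl : ∀ t : MvPolynomial (Fin 0) A ⊗[A] M, 1 ⊗ₜ[A]
          (LinearMap.liftBaseChange (MvPolynomial (Fin 0) A) (LinearMap.id : M →ₗ[A] M) t) = t := by
        intro t
        induction t using TensorProduct.induction_on with
        | zero => simp
        | tmul p m =>
          obtain ⟨a, rfl⟩ := hs p
          rw [LinearMap.liftBaseChange_tmul, LinearMap.id_apply, algebraMap_smul, TensorProduct.tmul_smul,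
            TensorProduct.smul_tmul', Algebra.algebraMap_eq_smul_one]
        | add s t hs ht => rw [map_add, TensorProduct.tmul_add, hs, ht]
      exact ⟨fun a b hab => by rw [← hl a, ← hl b, hab], fun m => ⟨1 ⊗ₜ m, by simp⟩⟩
    simpa using amp_of_iso ((DerivedCategory.singleFunctor (ModuleCat.{u} (MvPolynomial (Fin 0) A)) 0).mapIso
      (LinearEquiv.ofBijective _ hbij).toModuleIso) (amp_baseChange _ _ M h)
  | succ n ih =>
    intro d M _ _ _ _ h
    letI : Algebra (MvPolynomial (Fin n) A) (MvPolynomial (Fin (n + 1)) A) :=
      (MvPolynomial.rename (R := A) Fin.succ).toRingHom.toAlgebra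
    letI : Module (MvPolynomial (Fin n) A) M :=
      Module.compHom M (MvPolynomial.rename (R := A) (Fin.succ : Fin n → Fin (n + 1))).toRingHom
    haveI : IsScalarTower (MvPolynomial (Fin n) A) (MvPolynomial (Fin (n + 1)) A) M :=
      ⟨fun p q m => by rw [Algebra.smul_def, mul_smul]; rfl⟩
    haveI : IsScalarTower A (MvPolynomial (Fin n) A) M := by
      refine IsScalarTower.of_algebraMap_smul fun a m => ?_
      change (MvPolynomial.rename Fin.succ (algebraMap A (MvPolynomial (Fin n) A) a)) • m = a • m
      rw [AlgHom.commutes, algebraMap_smul]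
    have hbij : Function.Bijective (Polynomial.aeval (R := MvPolynomial (Fin n) A)
        (MvPolynomial.X 0 : MvPolynomial (Fin (n + 1)) A)) := by
      have : (Polynomial.aeval (R := MvPolynomial (Fin n) A)
          (MvPolynomial.X 0 : MvPolynomial (Fin (n + 1)) A)).toRingHom =
          ((MvPolynomial.finSuccEquiv A n).symm : Polynomial (MvPolynomial (Fin n) A) →+* _) := by
        refine Polynomial.ringHom_ext (fun p => ?_) ?_
        · refine Eq.trans (Polynomial.aeval_C _ p) ?_
          induction p using MvPolynomial.induction_on with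
          | C a =>
            change MvPolynomial.rename Fin.succ (MvPolynomial.C a) = (MvPolynomial.finSuccEquiv A n).symm _
            rw [MvPolynomial.rename_C, AlgEquiv.eq_symm_apply]
            simp [MvPolynomial.finSuccEquiv_apply]
          | add p q hp hq =>
            rw [map_add, hp, hq, map_add Polynomial.C]
            exact (map_add _ _ _).symm
          | mul_X p i hp =>
            rw [map_mul, hp, map_mul Polynomial.C]
            refine Eq.trans ?_ (map_mul _ _ _).symm
            congr 1
            change MvPolynomial.rename Fin.succ (MvPolynomial.X i) = (MvPolynomial.finSuccEquiv A n).symm _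
            rw [MvPolynomial.rename_X, AlgEquiv.eq_symm_apply, MvPolynomial.finSuccEquiv_X_succ]
        · refine Eq.trans (Polynomial.aeval_X _) ?_
          change MvPolynomial.X 0 = (MvPolynomial.finSuccEquiv A n).symm _
          rw [AlgEquiv.eq_symm_apply, MvPolynomial.finSuccEquiv_X_zero]
      have h' : ⇑(Polynomial.aeval (R := MvPolynomial (Fin n) A)
          (MvPolynomial.X 0 : MvPolynomial (Fin (n + 1)) A)) = ⇑(MvPolynomial.finSuccEquiv A n).symm :=
        funext fun q => RingHom.congr_fun this q
      rw [h']
      exact (MvPolynomial.finSuccEquiv A n).symm.bijective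
    exact amp_adjoin (MvPolynomial.X 0) hbij (d + n) M (ih d M h)


/-- A homomorphism of commutative rings A → B is perfect, i.e. pseudo-coherent with B of finite tor
dimension as an A-module, if and only if B is a quotient of a polynomial ring A[x_1, …, x_n] over
which B is a perfect module, i.e. B placed in degree 0 is isomorphic in the derived category of the
polynomial ring to a bounded complex of finite projective modules. -/
theorem result (A B : Type u) [CommRing A] [CommRing B] [Algebra A B] :
    MoreMor.IsPerfectHom A B ↔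
      ∃ (n : ℕ) (φ : MvPolynomial (Fin n) A →ₐ[A] B), Function.Surjective φ ∧
        letI := φ.toRingHom.toAlgebra
        DRing.IsPerfectModule (MvPolynomial (Fin n) A) B := by
  constructor
  · rintro ⟨⟨n, φ, hφ, hpc⟩, d, hd⟩
    refine ⟨n, φ, hφ, ?_⟩
    letI := φ.toRingHom.toAlgebra
    haveI : IsScalarTower A (MvPolynomial (Fin n) A) B :=
      IsScalarTower.of_algebraMap_eq fun a => (φ.commutes a).symm
    exact (isPerfect_iff _).2 ⟨hpc, _, _, amp_mvPolynomial n d B ((hasTorDimLE_iff B d).1 hd)⟩
  · rintro ⟨n, φ, hφ, hperf⟩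
    refine ⟨⟨n, φ, hφ, by letI := φ.toRingHom.toAlgebra; exact pc'_of_isPerfect hperf⟩, ?_⟩
    letI := φ.toRingHom.toAlgebra
    haveI : IsScalarTower A (MvPolynomial (Fin n) A) B :=
      IsScalarTower.of_algebraMap_eq fun a => (φ.commutes a).symm
    obtain ⟨a, b, hab⟩ := finiteTor_of_isPerfect hperf
    have hflat : DRing.HasTorAmplitudeIn A (-((0 : ℕ) : ℤ)) 0 (Dual.inD A (MvPolynomial (Fin n) A)) := by
      simpa using (amp_zero_iff_flat (A := A) (MvPolynomial (Fin n) A)).2 inferInstance
    have h := amp_res 0 hflat _ a b hab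
    obtain ⟨d, hd⟩ : ∃ d : ℕ, -(d : ℤ) ≤ a - ((0 : ℕ) : ℤ) := ⟨(-a).toNat, by lia⟩
    let res := ModuleCat.restrictScalars.{u} (algebraMap A (MvPolynomial (Fin n) A))
    let eB : res.obj (ModuleCat.of (MvPolynomial (Fin n) A) B) ≅ ModuleCat.of A B :=
      ({ toFun := fun x => x
         map_add' := fun _ _ => rfl
         map_smul' := fun c x => algebraMap_smul (M := B) (MvPolynomial (Fin n) A) c x
         invFun := fun x => x
         left_inv := fun _ => rfl
         right_inv := fun _ => rfl } : res.obj (ModuleCat.of (MvPolynomial (Fin n) A) B) ≃ₗ[A] B).toModuleIso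
    refine ⟨d, (hasTorDimLE_iff B d).2 ?_⟩
    refine amp_shrink (amp_widen hd le_rfl (amp_of_iso ?_ h)) (isAbove_single _ 0)
    exact (res.mapDerivedCategorySingleFunctor 0).app _ ≪≫
      (DerivedCategory.singleFunctor (ModuleCat.{u} A) 0).mapIso eB

end Groth.Agent.S7066
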