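import Groth.Statements.S7070
import Groth.Agent.PerfLocal.Koszul
import Groth.Agent.DRingKP.PerfDesc
import Groth.Agent.DRingKP.Tor
import Groth.Agent.S6960
import Groth.Agent.S7066
import Mathlib

set_option autoImplicit false
universe u
attribute [local instance] HasDerivedCategory.standard
open MoreMor

namespace Groth.Agent.S7070

open CategoryTheory Limits DerivedCategory Pretriangulated
open scoped TensorProduct
attribute [local instance] HasDerivedCategory.standard
open Groth.Agent.DRingKP

section
variable {R : Type u} [CommRing R]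

variable (R) in
noncomputable abbrev HR := DerivedCategory.homologyFunctor (ModuleCat.{u} R)

theorem koszul_top (l : List R) :
    (∀ i : ℤ, 0 < i → IsZero ((HR R i).obj (DRing.toD (Koszul.koszul R l)))) ∧
      Nonempty ((HR R 0).obj (DRing.toD (Koszul.koszul R l)) ≅ ModuleCat.of R (R ⧸ Ideal.ofList l)) := by
  induction l with
  | nil =>
    let e : DRing.toD (Koszul.koszul R []) ≅
        (DerivedCategory.singleFunctor (ModuleCat.{u} R) 0).obj (ModuleCat.of R R) :=
      ((DerivedCategory.singleFunctorIsoCompQ (ModuleCat.{u} R) 0).app _).symm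
    exact ⟨fun i hi => (DerivedCategory.isZero_of_isLE _ 0 i hi).of_iso ((HR R i).mapIso e),
      ⟨(HR R 0).mapIso e ≪≫ hdInD (ModuleCat.of R R) ≪≫
        (Submodule.quotEquivOfEqBot _ Ideal.ofList_nil).symm.toModuleIso⟩⟩
  | cons f l ih =>
    obtain ⟨hz, ⟨e⟩⟩ := ih
    let K := Koszul.koszul R l
    let T := DerivedCategory.Q.mapTriangle.obj (CochainComplex.mappingCone.triangle (f • 𝟙 K))
    have hT : T ∈ distTriang (Dual.D R) := mappingCone_triangle_distinguished (f • 𝟙 K)
    let M := ModuleCat.of R (R ⧸ Ideal.ofList l)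
    have hle : Ideal.ofList l ≤ Ideal.ofList (f :: l) := by
      rw [Ideal.ofList_cons]; exact le_sup_right
    let g : (R ⧸ Ideal.ofList l) →ₗ[R] (R ⧸ Ideal.ofList (f :: l)) := Submodule.factor hle
    let S : ShortComplex (ModuleCat.{u} R) :=
      ShortComplex.mk (f • 𝟙 M) (ModuleCat.ofHom g) (ModuleCat.hom_ext (LinearMap.ext fun x => by
        obtain ⟨y, rfl⟩ := Submodule.mkQ_surjective _ x
        show g (f • (Submodule.Quotient.mk y : R ⧸ Ideal.ofList l)) = 0
        rw [← Submodule.Quotient.mk_smul]
        show Submodule.Quotient.mk (f • y) = 0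
        rw [Submodule.Quotient.mk_eq_zero, smul_eq_mul]
        exact Ideal.mul_mem_right _ _ (by simp [Ideal.ofList_cons, Ideal.mem_sup_left,
          Ideal.mem_span_singleton_self])))
    have hSex : S.Exact := by
      rw [ShortComplex.ShortExact.moduleCat_exact_iff_function_exact]
      intro x
      constructor
      · intro hx
        obtain ⟨y, rfl⟩ := Submodule.mkQ_surjective _ x
        have hy : y ∈ Ideal.ofList (f :: l) := (Submodule.Quotient.mk_eq_zero _).1 hx
        rw [Ideal.ofList_cons, Submodule.mem_sup] at hy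
        obtain ⟨a, ha, b, hb, rfl⟩ := hy
        obtain ⟨c, rfl⟩ := Ideal.mem_span_singleton'.1 ha
        refine ⟨Submodule.Quotient.mk c, ?_⟩
        show f • (Submodule.Quotient.mk c : R ⧸ Ideal.ofList l) = Submodule.Quotient.mk (c * f + b)
        rw [← Submodule.Quotient.mk_smul, Submodule.Quotient.eq, smul_eq_mul]
        simpa [mul_comm] using hb
      · rintro ⟨y, rfl⟩
        exact ConcreteCategory.congr_hom S.zero y
    haveI : Epi S.g := (ModuleCat.epi_iff_surjective _).2 (Submodule.factor_surjective hle)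
    refine ⟨fun i hi => ?_, ?_⟩
    · exact (DerivedCategory.HomologySequence.exact₃ T hT i (i + 1)).isZero_X₂
        ((hz i hi).eq_of_src _ _) ((hz (i + 1) (by lia)).eq_of_tgt _ _)
    · haveI he : Epi ((HR R 0).map T.mor₂) :=
        (DerivedCategory.HomologySequence.epi_homologyMap_mor₂_iff T hT 0 1).2
          ((hz 1 one_pos).eq_of_tgt _ _)
      have hex := DerivedCategory.HomologySequence.exact₂ T hT 0
      haveI : Epi (ShortComplex.mk ((HR R 0).map T.mor₁) ((HR R 0).map T.mor₂)
        (by rw [← Functor.map_comp, comp_distTriang_mor_zero₁₂ T hT, Functor.map_zero])).g := he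
      have hcomm : (HR R 0).map T.mor₁ ≫ e.hom = e.hom ≫ S.f := by
        change (HR R 0).map T.mor₁ ≫ e.hom = e.hom ≫ (f • 𝟙 M)
        have h1 : HomologicalComplex.homologyMap (f • 𝟙 K) 0 = f • 𝟙 (K.homology 0) := by
          have : (HomologicalComplex.shortComplexFunctor (ModuleCat.{u} R) (ComplexShape.up ℤ) 0).map (f • 𝟙 K) =
              f • 𝟙 (K.sc 0) := by
            ext <;> rfl
          change ShortComplex.homologyMap _ = _
          rw [this, ShortComplex.homologyMap_smul, ShortComplex.homologyMap_id]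
          rfl
        have hn := (homologyFunctorFactors (ModuleCat.{u} R) 0).hom.naturality (f • 𝟙 K)
        have h2 : (HR R 0).map T.mor₁ = f • 𝟙 ((HR R 0).obj T.obj₁) := by
          change (HR R 0).map (DerivedCategory.Q.map (f • 𝟙 K)) = _
          refine ((Iso.eq_comp_inv ((homologyFunctorFactors (ModuleCat.{u} R) 0).app K)).2 hn).trans ?_
          change ((homologyFunctorFactors (ModuleCat.{u} R) 0).app K).hom ≫ HomologicalComplex.homologyMap (f • 𝟙 K) 0 ≫
            ((homologyFunctorFactors (ModuleCat.{u} R) 0).app K).inv = _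
          rw [h1]
          refine ((congrArg (_ ≫ ·) (Linear.smul_comp _ _ _ _ _ _)).trans (Linear.comp_smul _ _ _ _ _ _)).trans ?_
          exact congrArg (f • ·) ((congrArg (_ ≫ ·) (Category.id_comp _)).trans (Iso.hom_inv_id _))
        rw [h2]
        exact ((Linear.smul_comp _ _ _ _ _ _).trans (congrArg (f • ·) (Category.id_comp _))).trans
          ((congrArg (f • ·) (Category.comp_id _).symm).trans (Linear.comp_smul _ _ _ _ _ _).symm)
      exact ⟨hex.gIsCokernel.coconePointUniqueUpToIso (cokernelIsCokernel _) ≪≫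
        cokernel.mapIso ((HR R 0).map T.mor₁) S.f e e hcomm ≪≫
        (cokernelIsCokernel _).coconePointUniqueUpToIso hSex.gIsCokernel⟩

theorem isPerfectModule_of_koszul (l : List R) (h : LCI.IsKoszulRegularSeq R l) :
    DRing.IsPerfectModule R (R ⧸ Ideal.ofList l) := by
  let K := DRing.toD (Koszul.koszul R l)
  have hz : ∀ i : ℤ, i ≠ 0 → IsZero ((HR R i).obj K) := fun i hi =>
    (h i hi).of_iso ((homologyFunctorFactors (ModuleCat.{u} R) i).app _)
  haveI : K.IsLE 0 := (DerivedCategory.isLE_iff K 0).2 fun i hi => hz i (by lia)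
  haveI : K.IsGE 0 := (DerivedCategory.isGE_iff K 0).2 fun i hi => hz i (by lia)
  obtain ⟨Y, ⟨eY⟩⟩ := DerivedCategory.exists_iso_singleFunctor_obj_of_isGE_of_isLE K 0
  obtain ⟨e⟩ := (koszul_top l).2
  exact PerfLocal.isPerfect_of_iso (eY ≪≫ (DerivedCategory.singleFunctor (ModuleCat.{u} R) 0).mapIso
    (((hdInD Y).symm ≪≫ (HR R 0).mapIso eY.symm) ≪≫ e)) (PerfLocal.isPerfect_koszul l)

theorem isPerfectModule_quotient {I : Ideal R} (hI : LCI.IsKoszulRegularIdeal I) :
    DRing.IsPerfectModule R (R ⧸ I) := by
  classical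
  have hloc : ∀ p : PrimeSpectrum R, ∃ g : R, g ∉ p.asIdeal ∧
      DRing.IsPerfectModule (Localization.Away g) (Localization.Away g ⧸ I.map (algebraMap R (Localization.Away g))) := by
    intro p
    by_cases hp : I ≤ p.asIdeal
    · obtain ⟨g, hg, l, hl, hIl⟩ := hI p hp
      refine ⟨g, hg, ?_⟩
      rw [hIl]
      exact isPerfectModule_of_koszul l hl
    · obtain ⟨g, hgI, hg⟩ := SetLike.not_le_iff_exists.1 hp
      refine ⟨g, hg, PerfLocal.isPerfect_of_isZero
        ((DerivedCategory.singleFunctor _ 0).map_isZero ?_)⟩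
      haveI : Subsingleton (Localization.Away g ⧸ I.map (algebraMap R (Localization.Away g))) :=
        Ideal.Quotient.subsingleton_iff.2 (Ideal.eq_top_of_isUnit_mem _ (Ideal.mem_map_of_mem _ hgI)
          (IsLocalization.Away.algebraMap_isUnit g))
      exact ModuleCat.isZero_of_subsingleton _
  choose g hg hperf using hloc
  have htop : Ideal.span (Set.range g) = ⊤ := by
    by_contra h
    obtain ⟨m, hm, hle⟩ := Ideal.exists_le_maximal _ h
    exact hg ⟨m, hm.isPrime⟩ (hle (Ideal.subset_span ⟨⟨m, hm.isPrime⟩, rfl⟩))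
  obtain ⟨T, hT, hT1⟩ := Submodule.mem_span_finite_of_mem_span ((Ideal.eq_top_iff_one _).1 htop)
  choose pt hpt using fun t : (T : Set R) => hT t.2
  let r := Fintype.card (T : Set R)
  let q : Fin r → PrimeSpectrum R := fun i => pt ((Fintype.equivFin (T : Set R)).symm i)
  let F : Fin r → R := fun i => g (q i)
  have hspan : Ideal.span (Set.range F) = ⊤ := by
    rw [Ideal.eq_top_iff_one]
    refine Ideal.span_mono ?_ hT1
    intro t ht
    exact ⟨Fintype.equivFin _ ⟨t, ht⟩, by simp [F, q, hpt]⟩
  let K : DRing.Cx R :=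
    (HomologicalComplex.single (ModuleCat.{u} R) (ComplexShape.up ℤ) 0).obj (ModuleCat.of R (R ⧸ I))
  refine PerfLocal.isPerfect_of_iso ((DerivedCategory.singleFunctorIsoCompQ (ModuleCat.{u} R) 0).app
    (ModuleCat.of R (R ⧸ I))).symm (Groth.Agent.S6960.result F hspan K fun i => ?_)
  let L := Localization.Away (F i)
  let φ := algebraMap R L
  let X := (ModuleCat.extendScalars.{u, u, u} φ).obj (ModuleCat.of R (R ⧸ I))
  let e₁ : (ModuleCat.restrictScalars.{u} φ).obj (ModuleCat.of L L) ≃ₗ[R] L :=
    { toFun := fun x => x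
      map_add' := fun _ _ => rfl
      map_smul' := fun a x => (Algebra.smul_def a (show L from x)).symm
      invFun := fun x => x
      left_inv := fun _ => rfl
      right_inv := fun _ => rfl }
  let e₀ : ((ModuleCat.restrictScalars.{u} φ).obj (ModuleCat.of L L)) ⊗[R] (R ⧸ I) ≃ₗ[R] L ⊗[R] (R ⧸ I) :=
    TensorProduct.congr e₁ (LinearEquiv.refl R _)
  let el : X ≃ₗ[L] L ⊗[R] (R ⧸ I) :=
    { toFun := fun x => e₀ x
      map_add' := fun x y => e₀.map_add x y
      map_smul' := fun c x => by
        induction x using TensorProduct.induction_on with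
        | zero =>
          exact (congrArg e₀ (smul_zero (A := X) c)).trans (e₀.map_zero.trans
              ((congrArg (c • ·) e₀.map_zero).trans (smul_zero c)).symm)
        | tmul b y => rfl
        | add x y hx hy =>
          exact (congrArg e₀ (smul_add (A := X) c x y)).trans ((e₀.map_add _ _).trans
            ((congrArg₂ (· + ·) hx hy).trans
            ((smul_add _ _ _).symm.trans (congrArg (c • ·) (e₀.map_add x y).symm))))
      invFun := fun x => e₀.symm x
      left_inv := fun x => e₀.symm_apply_apply x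
      right_inv := fun x => e₀.apply_symm_apply x }
  have hsm : I • (⊤ : Submodule R L) = (I.map φ).restrictScalars R := Ideal.smul_top_eq_map I
  let e2 : L ⊗[R] (R ⧸ I) ≃ₗ[L] L ⧸ I.map φ :=
    LinearEquiv.extendScalarsOfIsLocalization (Submonoid.powers (F i)) L
      ((TensorProduct.tensorQuotEquivQuotSMul L I).trans
        ((Submodule.quotEquivOfEq _ _ hsm).trans (Submodule.Quotient.restrictScalarsEquiv R (I.map φ))))
  exact PerfLocal.isPerfect_of_iso
    ((DerivedCategory.singleFunctor (ModuleCat.{u} L) 0).mapIso (el.trans e2).toModuleIso.symm ≪≫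
      (DerivedCategory.singleFunctorIsoCompQ (ModuleCat.{u} L) 0).app X ≪≫
      DerivedCategory.Q.mapIso ((HomologicalComplex.singleMapHomologicalComplex
        (ModuleCat.extendScalars.{u, u, u} φ) (ComplexShape.up ℤ) 0).app (ModuleCat.of R (R ⧸ I))).symm)
    (hperf (q i))

end


/-- A local complete intersection homomorphism of commutative rings A → B (finite type, with some
polynomial presentation whose kernel is a Koszul-regular ideal) is perfect: pseudo-coherent with B
of finite tor dimension over A. -/
theorem result (A B : Type u) [CommRing A] [CommRing B] [Algebra A B]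
    (h : LCI.IsLCI A B) : MoreMor.IsPerfectHom A B := by
  obtain ⟨hft, n, φ, hφ, hI⟩ := h
  refine (Groth.Agent.S7066.result A B).2 ⟨n, φ, hφ, ?_⟩
  letI := φ.toRingHom.toAlgebra
  let e : (MvPolynomial (Fin n) A ⧸ RingHom.ker φ.toRingHom) ≃ₗ[MvPolynomial (Fin n) A] B :=
    { (RingHom.quotientKerEquivOfSurjective hφ) with
      map_smul' := fun c x => by
        obtain ⟨y, rfl⟩ := Ideal.Quotient.mk_surjective x
        exact map_mul φ c y }
  exact PerfLocal.isPerfect_of_iso ((DerivedCategory.singleFunctor _ 0).mapIso e.toModuleIso)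
    (isPerfectModule_quotient hI)

end Groth.Agent.S7070
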