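import Groth.Statements.S0024
import Groth.Agent.ProjMor.ProjSpaceBase
import Groth.Agent.GrT.Dehom

set_option autoImplicit false
universe u
open Coherent

namespace Groth.Agent.S0024

open AlgebraicGeometry CategoryTheory in
/-- Special case d = 0, q = 0: the map R → Γ(P^n_R, O) induced by the structure morphism P^n_R → Spec R
is an isomorphism (global functions on projective space are the degree-zero part R of the polynomial
ring). -/
theorem result (n : ℕ) (R : Type u) [CommRing R] :
    IsIso (CohB1.ProjSpace.toSpec n R).appTop := by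
  classical
  rcases Nat.eq_zero_or_pos n with rfl | hn
  · have := ProjMor.isIso_toSpec_zero R
    exact inferInstanceAs (IsIso (Scheme.Γ.map (CohB1.ProjSpace.toSpec 0 R).op))
  let 𝒜 := CohB1.polyGrading n R
  have hX : ∀ i, (MvPolynomial.X i : MvPolynomial (Fin (n + 1)) R) ∈ 𝒜 1 :=
    fun i => MvPolynomial.isHomogeneous_X R i
  have : Nontrivial (Fin (n + 1)) := Fin.nontrivial_iff_two_le.mpr (by omega)
  rw [ConcreteCategory.isIso_iff_bijective]
  have hb : Function.Bijective (Scheme.ΓSpecIso (CommRingCat.of R)).inv :=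
    ConcreteCategory.bijective_of_isIso _
  refine (Function.Bijective.of_comp_iff _ hb).mp ⟨?_, fun c => ?_⟩
  · obtain ⟨r, hr⟩ := ProjMor.exists_lift n R (𝟙 (Spec (CommRingCat.of R)))
    intro a b h
    change ProjUP.toGlobal (ProjMor.base 𝒜) a = ProjUP.toGlobal (ProjMor.base 𝒜) b at h
    have h' : ProjUP.toGlobal (r ≫ ProjMor.base 𝒜) a = ProjUP.toGlobal (r ≫ ProjMor.base 𝒜) b :=
      (ProjMor.toGlobal_comp 𝒜 r a).trans
        ((congrArg r.appTop h).trans (ProjMor.toGlobal_comp 𝒜 r b).symm)
    rw [show r ≫ ProjMor.base 𝒜 = _ from hr] at h'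
    simp only [ProjUP.toGlobal, Scheme.Hom.id_appTop] at h'
    exact hb.1 h'
  · suffices h : ∃ r : R, ProjUP.toGlobal (ProjMor.base 𝒜) r = c from h
    choose k a ha _ heq using fun i =>
      GrT.exists_away 𝒜 (hX i) one_pos (Groth.Agent.QC.resO _ le_top c)
    have ha' : ∀ i, a i ∈ 𝒜 (k i) := fun i => by simpa using ha i
    have hcross : ∀ i j, a i * MvPolynomial.X j ^ k j = a j * MvPolynomial.X i ^ k i := fun i j => by
      have hq : a i * MvPolynomial.X j ^ k j - a j * MvPolynomial.X i ^ k i ∈ 𝒜 (k i + k j) :=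
        Submodule.sub_mem _ (SetLike.mul_mem_graded (ha' i) (GrT.pow_mem_one 𝒜 (hX j) _))
          (add_comm (k j) (k i) ▸ SetLike.mul_mem_graded (ha' j) (GrT.pow_mem_one 𝒜 (hX i) _))
      obtain ⟨N, hN⟩ := GrT.exists_pow_smul_eq_zero 𝒜 𝒜 hq two_pos
        (SetLike.mul_mem_graded (hX i) (hX j)) fun x hx => by
          have hi := GrT.left_not_mem 𝒜 hx
          have hj := GrT.right_not_mem 𝒜 hx
          let V := Proj.basicOpen 𝒜 (MvPolynomial.X i) ⊓ Proj.basicOpen 𝒜 (MvPolynomial.X j)
          let y : V := ⟨x, (ProjectiveSpectrum.mem_basicOpen 𝒜 _ x).mpr hi,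
            (ProjectiveSpectrum.mem_basicOpen 𝒜 _ x).mpr hj⟩
          have e : GrT.pO 𝒜 (Groth.Agent.QC.resO (Proj 𝒜) (inf_le_left (b := Proj.basicOpen 𝒜 (MvPolynomial.X j)))
                (GrT.away 𝒜 (hX i) (k i) (ha i))) y =
              GrT.pO 𝒜 (Groth.Agent.QC.resO (Proj 𝒜) (inf_le_right (a := Proj.basicOpen 𝒜 (MvPolynomial.X i)))
                (GrT.away 𝒜 (hX j) (k j) (ha j))) y := by
            rw [← heq, ← heq, Groth.Agent.QC.resO_resO, Groth.Agent.QC.resO_resO]
          have e' : (Localization.mk (a i) ⟨_, GrT.not_mem_pow 𝒜 hi (k i)⟩ : Twist.Loc 𝒜 x) =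
              Localization.mk (a j) ⟨_, GrT.not_mem_pow 𝒜 hj (k j)⟩ :=
            (GrT.pO_away 𝒜 (hX i) (ha i) inf_le_left y (GrT.not_mem_pow 𝒜 hi (k i))).symm.trans
              (e.trans (GrT.pO_away 𝒜 (hX j) (ha j) inf_le_right y (GrT.not_mem_pow 𝒜 hj (k j))))
          rw [Localization.mk_eq_mk_iff, Localization.r_iff_exists] at e'
          obtain ⟨w, hw⟩ := e'
          exact ⟨w, w.2, by
            rw [smul_eq_mul, mul_sub, sub_eq_zero]
            linear_combination (norm := ring_nf) hw⟩
      have hreg : IsLeftRegular ((MvPolynomial.X i * MvPolynomial.X j : MvPolynomial (Fin (n + 1)) R) ^ N) :=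
        ((MvPolynomial.isRegular_X.mul MvPolynomial.isRegular_X).pow N).left
      exact sub_eq_zero.mp (hreg (by simpa [smul_eq_mul] using hN))
    have hform : ∀ i, a i = MvPolynomial.C ((a i).coeff (Finsupp.single i (k i))) * MvPolynomial.X i ^ k i :=
      fun i => by
        obtain ⟨j, hj⟩ := exists_ne i
        rw [MvPolynomial.C_mul_X_pow_eq_monomial]
        ext e
        rw [MvPolynomial.coeff_monomial]
        split_ifs with h
        · rw [h]
        · by_contra h0
          have hai : (a i).IsHomogeneous (k i) := ha' i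
          have h1 := congrArg (MvPolynomial.coeff (e + Finsupp.single j (k j))) (hcross i j)
          rw [MvPolynomial.X_pow_eq_monomial, MvPolynomial.coeff_mul_monomial, mul_one,
            MvPolynomial.X_pow_eq_monomial, MvPolynomial.coeff_mul_monomial', mul_one] at h1
          split_ifs at h1 with hle
          · have hi2 := hle i
            simp [hj] at hi2
            have hdeg : k i = ∑ l ∈ e.support, e l :=
              hai.degree_eq_sum_deg_support (MvPolynomial.mem_support_iff.mpr h0)
            refine h (Finsupp.ext fun l => ?_)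
            have hsum : e i + ∑ l ∈ e.support.erase i, e l = ∑ l ∈ e.support, e l := by
              by_cases hie : i ∈ e.support
              · exact Finset.add_sum_erase _ _ hie
              · rw [Finsupp.notMem_support_iff.mp hie, zero_add, Finset.erase_eq_of_notMem hie]
            by_cases hli : l = i
            · subst hli; rw [Finsupp.single_eq_same]; omega
            · rw [Finsupp.single_eq_of_ne hli]
              by_contra hne
              have := Finset.single_le_sum (f := fun l => e l) (fun _ _ => Nat.zero_le _)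
                (Finset.mem_erase.mpr ⟨hli, Finsupp.mem_support_iff.mpr fun h' => hne h'.symm⟩)
              omega
          · exact h0 h1
    set r := fun i => (a i).coeff (Finsupp.single i (k i)) with hr
    have hrr : ∀ i j, r i = r j := fun i j => by
      have h := hcross i j
      rw [hform i, hform j] at h
      have hreg : IsLeftRegular ((MvPolynomial.X i ^ k i * MvPolynomial.X j ^ k j :
          MvPolynomial (Fin (n + 1)) R)) :=
        ((MvPolynomial.isRegular_X.pow _).mul (MvPolynomial.isRegular_X.pow _)).left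
      exact MvPolynomial.C_injective _ R (hreg (by linear_combination h))
    refine ⟨r 0, ProjMor.funcs_eq_of_locally fun x => ?_⟩
    obtain ⟨g, hg, hgx⟩ := ProjMor.exists_notMem (ProjMor.genDegOne_projSpace n R) x
    have hx : ∃ i, (MvPolynomial.X i : MvPolynomial (Fin (n + 1)) R) ∉ x.asHomogeneousIdeal := by
      by_contra hall
      push Not at hall
      refine hgx ?_
      have hg1 : g.IsHomogeneous 1 := hg
      rw [MvPolynomial.as_sum g]
      refine x.asHomogeneousIdeal.toIdeal.sum_mem fun e he => ?_
      obtain ⟨l, hl⟩ : ∃ l, e l ≠ 0 := by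
        by_contra h; push Not at h
        have h1 := hg1.degree_eq_sum_deg_support he
        simp [h] at h1
      rw [MvPolynomial.monomial_eq, Finsupp.prod]
      refine Ideal.mul_mem_left _ _ ?_
      rw [← Finset.mul_prod_erase _ _ (Finsupp.mem_support_iff.mpr hl)]
      exact Ideal.mul_mem_right _ _ (Ideal.pow_mem_of_mem _ (hall l) _ (Nat.pos_of_ne_zero hl))
    obtain ⟨i, hi⟩ := hx
    refine ⟨Proj.basicOpen 𝒜 (MvPolynomial.X i), (ProjectiveSpectrum.mem_basicOpen 𝒜 _ x).mpr hi, ?_⟩
    rw [ProjMor.res_toGlobal_base 𝒜 (hX i), heq i, ← GrT.deh_of_mem 𝒜 (hX i) (ha' i), hrr 0 i,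
      hform i, map_mul, map_pow, GrT.deh_self, one_pow, mul_one, MvPolynomial.algebraMap_eq]

end Groth.Agent.S0024
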