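import Groth.Statements.S4637
import Groth.Agent.CycDim.Basic
import Groth.Agent.WeakAssLib.Basic
import Groth.Agent.ZCl.DepthAt

set_option backward.isDefEq.respectTransparency false
open Groth.Agent.WeakAssLib

set_option autoImplicit false
open CategoryTheory AlgebraicGeometry
universe u
open AssSch

namespace Groth.Agent.S4637

/-- Let X be a locally Noetherian scheme, F a coherent O_X-module and x a point of X. Then x is the
generic point of an irreducible component of Supp F (F_x ≠ 0 and every point y with F_y ≠ 0 that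
specialises to x equals x) if and only if F_x is a nonzero module of finite length over the local
ring O_{X,x}. -/
theorem result {X : Scheme.{u}} [IsLocallyNoetherian X] (F : X.Modules)
    (hF : Coh.IsCoh F) (x : X) :
    (Nontrivial ↑(F.presheaf.stalk x) ∧ ∀ y : X, Nontrivial ↑(F.presheaf.stalk y) → y ⤳ x → y = x) ↔
      (Nontrivial ↑(F.presheaf.stalk x) ∧ IsFiniteLength ↑(X.presheaf.stalk x) ↑(F.presheaf.stalk x)) := by
  refine ⟨fun ⟨hn, h⟩ => ⟨hn, ?_⟩, fun ⟨hn, hfl⟩ => ⟨hn, fun y hy hyx => ?_⟩⟩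
  · rw [← Module.length_ne_top_iff]
    exact (Groth.Agent.CycDim.length_stalk_module_lt_top F hF.1 hF.2 h).ne
  obtain ⟨A, hA, hxA, -⟩ := exists_isAffineOpen_mem_and_subset (show x ∈ (⊤ : X.Opens) from trivial)
  have hyA : y ∈ A := hyx.mem_open A.2 hxA
  have hL : Groth.Agent.QC.IsLoc F A := Groth.Agent.QC.isLoc_of_isQCoh hA (hM := hF.1)
  by_contra hne
  let p := (hA.primeIdealOf ⟨y, hyA⟩).asIdeal
  let q := (hA.primeIdealOf ⟨x, hxA⟩).asIdeal
  obtain ⟨a, haq, hap⟩ : ∃ a, a ∈ q ∧ a ∉ p := by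
    by_contra hc
    push Not at hc
    refine hne ?_
    rw [← Groth.Agent.ZCl.fromSpec_primeIdealOf' hA hxA, ← Groth.Agent.ZCl.fromSpec_primeIdealOf' hA hyA]
    exact congrArg _ (PrimeSpectrum.ext (le_antisymm (Groth.Agent.ZCl.le_of_specializes hA hxA hyA hyx) hc))
  obtain ⟨τ, hτ⟩ := exists_ne (0 : F.presheaf.stalk y)
  obtain ⟨c, m, hc, hcm⟩ := exists_germ hA hL hyA τ
  let R := X.presheaf.stalk x
  let t := mgerm F hxA m
  let α := (X.presheaf.germ A x hxA).hom a
  haveI : IsArtinian R (F.presheaf.stalk x) := (isFiniteLength_iff_isNoetherian_isArtinian.1 hfl).2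
  let chain : ℕ →o (Submodule R (F.presheaf.stalk x))ᵒᵈ :=
    { toFun := fun n => OrderDual.toDual (Submodule.span R {α ^ n • t})
      monotone' := monotone_nat_of_le_succ fun n => by
        change Submodule.span R {α ^ (n + 1) • t} ≤ Submodule.span R {α ^ n • t}
        rw [Submodule.span_singleton_le_iff_mem, Submodule.mem_span_singleton]
        exact ⟨α, by rw [pow_succ, mul_comm, mul_smul]⟩ }
  obtain ⟨n, hn⟩ := IsArtinian.monotone_stabilizes chain
  have hspan : α ^ n • t ∈ Submodule.span R {α ^ (n + 1) • t} := by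
    have := hn (n + 1) (Nat.le_succ n)
    change Submodule.span R {α ^ n • t} = Submodule.span R {α ^ (n + 1) • t} at this
    exact this.le (Submodule.mem_span_singleton_self _)
  obtain ⟨u, hu⟩ := Submodule.mem_span_singleton.1 hspan
  have hunit : IsUnit (1 - u * α) := by
    refine IsLocalRing.isUnit_one_sub_self_of_mem_nonunits _ (mt (fun h => isUnit_of_mul_isUnit_right h) ?_)
    intro h
    exact ((mem_primeIdealOf hA hxA a).1 ((X.mem_basicOpen a x hxA).2 h)) haq
  have hz : mgerm F hxA (a ^ n • m) = 0 := by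
    rw [mgerm_smul, map_pow]
    refine hunit.smul_eq_zero.1 ?_
    rw [sub_smul, one_smul, mul_smul, ← mul_smul α, ← pow_succ', hu, sub_self]
  obtain ⟨b, hb, hbz⟩ := (germ_eq_zero_iff hA hL hxA _).1 hz
  rw [← mul_smul] at hbz
  have hbp : b * a ^ n ∉ p := fun h => ((hA.primeIdealOf ⟨y, hyA⟩).isPrime.mem_or_mem h).elim
    (fun h' => hb ((Groth.Agent.ZCl.le_of_specializes hA hxA hyA hyx) h'))
    (fun h' => hap ((hA.primeIdealOf ⟨y, hyA⟩).isPrime.mem_of_pow_mem n h'))
  have h0 : mgerm F hyA m = 0 := (germ_eq_zero_iff hA hL hyA m).2 ⟨_, hbp, hbz⟩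
  rw [← hcm] at h0
  exact hτ ((isUnit_germ hA hyA hc).smul_eq_zero.1 h0)

end Groth.Agent.S4637
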