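import Groth.Statements.S10139
-- import your own Groth.Agent.* helpers here
import Groth.Agent.SliceEqv.Slices
import Groth.Agent.SliceEqv.Quot

set_option autoImplicit false
universe u
open CategoryTheory CategoryTheory.Limits AlgebraicGeometry
open AlgSp

namespace Groth.Agent.S10139

/-- Take an equivalence relation `j : R ⟶ U ×_S U` of schemes over `S`, with `s, t` flat and locally of
finite presentation. Then there exist an equivalence relation `j' : R' ⟶ U' ×_S U'` on schemes over
`S` with `s', t'` flat, locally of finite presentation and locally quasi-finite, and a morphism `U'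
⟶ U` mapping `R'` into `R` which induces an isomorphism of fppf quotient sheaves `U'/R' ⟶ U/R`. -/
theorem result (S : Scheme.{u}) {R U : Over S} (s t : R ⟶ U)
    (h : AlgSp.IsEqvRel s t) [Flat s.left] [LocallyOfFinitePresentation s.left]
    [Flat t.left] [LocallyOfFinitePresentation t.left] :
    ∃ (R' U' : Over S) (s' t' : R' ⟶ U') (g : U' ⟶ U) (r : R' ⟶ R)
      (ψ : QuotSh.quot Scheme.fppfPrecoverage s' t' ⟶ QuotSh.quot Scheme.fppfPrecoverage s t),
      AlgSp.IsEqvRel s' t' ∧ r ≫ s = s' ≫ g ∧ r ≫ t = t' ≫ g ∧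
      Flat s'.left ∧ LocallyOfFinitePresentation s'.left ∧ LocallyQuasiFinite s'.left ∧
      Flat t'.left ∧ LocallyOfFinitePresentation t'.left ∧ LocallyQuasiFinite t'.left ∧
      QuotSh.quotπ Scheme.fppfPrecoverage s' t' ≫ ψ = QuotSh.repMap Scheme.fppfPrecoverage g ≫ QuotSh.quotπ Scheme.fppfPrecoverage s t ∧ IsIso ψ := by
  let G := SliceEqv.eqvGrpd h
  haveI : Flat G.s := ‹Flat s.left›
  haveI : LocallyOfFinitePresentation G.s := ‹LocallyOfFinitePresentation s.left›
  haveI : Flat G.t := ‹Flat t.left›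
  haveI : LocallyOfFinitePresentation G.t := ‹LocallyOfFinitePresentation t.left›
  haveI : Mono G.j := SliceEqv.mono_j h
  obtain ⟨U', g, hfl, hlfp, hqf, hsur⟩ := SliceEqv.exists_qf_slices G
  obtain ⟨σ, hσ⟩ := GrpdSlice.exists_swap G g
  haveI : Flat (pullback.snd g t.left ≫ s.left) := hfl
  haveI : LocallyOfFinitePresentation (pullback.snd g t.left ≫ s.left) := hlfp
  haveI : Surjective (pullback.snd g t.left ≫ s.left) := hsur
  haveI hq : LocallyQuasiFinite (pullback.snd g t.left ≫ s.left) := hqf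
  obtain ⟨R₁, U₁, s₁, t₁, g₁, r₁, ψ, h₁, hrs, hrt, ⟨eU, eR, hs₁, ht₁⟩, hψ, hiso⟩ :=
    @SliceEqv.exists_restricted S R U s t h U' g hfl hlfp hsur
  subst eU
  have key : ∀ (P : MorphismProperty Scheme.{u}) [P.RespectsIso] [P.IsStableUnderBaseChange],
      P (GrpdSlice.hMap G g) → P s₁.left ∧ P t₁.left := by
    intro P _ _ hP
    have h1 : P (pullback.snd (GrpdSlice.hMap G g) g) := MorphismProperty.pullback_snd _ _ hP
    have h2 : P (pullback.fst (GrpdSlice.hMap G g) g ≫ pullback.fst g G.t) :=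
      hσ ▸ (MorphismProperty.cancel_left_of_respectsIso P σ.hom _).2 h1
    rw [hs₁, ht₁]
    exact ⟨(MorphismProperty.cancel_left_of_respectsIso P _ _).2 ((MorphismProperty.cancel_right_of_respectsIso P _ _).2 h1),
      (MorphismProperty.cancel_left_of_respectsIso P _ _).2 ((MorphismProperty.cancel_right_of_respectsIso P _ _).2 h2)⟩
  exact ⟨R₁, U₁, s₁, t₁, g₁, r₁, ψ, h₁, hrs, hrt, (key @Flat hfl).1, (key @LocallyOfFinitePresentation hlfp).1,
    (key @LocallyQuasiFinite hqf).1, (key @Flat hfl).2, (key @LocallyOfFinitePresentation hlfp).2,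
    (key @LocallyQuasiFinite hqf).2, hψ, hiso⟩

end Groth.Agent.S10139
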