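import Groth.Statements.S10140
import Groth.Agent.Grpd.SubQuot.Quotient
import Groth.Agent.S1402
import Groth.Agent.QuotShLib.Fppf

set_option autoImplicit false
universe u
open CategoryTheory CategoryTheory.Limits AlgebraicGeometry
open Grpd

namespace Groth.Agent.S10140

/-- Let `(U, R, s, t, c)` be a groupoid scheme over `S` with `U` affine and `j : R ⟶ U ×_S U` separated
and locally quasi-finite, and let `P ⟶ R` be a monomorphism such that `(U, P, s|_P, t|_P, c|_P)` is
a groupoid scheme, `s|_P, t|_P` are finite locally free and `j|_P` is a monomorphism. Then `U/P` is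
represented by an affine scheme `Ū`, the quotient map `U ⟶ Ū` is finite locally free with `P = U ×_Ū
U`, and `R` is the restriction along `U ⟶ Ū` of a groupoid scheme `(Ū, R̄, s̄, t̄, c̄)`. -/
theorem result (S : Scheme.{u}) (G : Grpd.GroupoidScheme S) [IsAffine G.U]
    [IsSeparated G.j] [LocallyQuasiFinite G.j] [LocallyOfFiniteType G.j]
    (P : Scheme.{u}) (ιP : P ⟶ G.R) [Mono ιP]
    (he : ∃ eP : G.U ⟶ P, eP ≫ ιP = G.e) (hi : ∃ iP : P ⟶ P, iP ≫ ιP = ιP ≫ G.i)
    (hc : ∃ cP : pullback (ιP ≫ G.s) (ιP ≫ G.t) ⟶ P,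
      cP ≫ ιP = pullback.map (ιP ≫ G.s) (ιP ≫ G.t) G.s G.t ιP ιP (𝟙 G.U) (Category.comp_id _) (Category.comp_id _) ≫ G.c)
    [IsFinite (ιP ≫ G.s)] [Flat (ιP ≫ G.s)] [LocallyOfFinitePresentation (ιP ≫ G.s)]
    [IsFinite (ιP ≫ G.t)] [Flat (ιP ≫ G.t)] [LocallyOfFinitePresentation (ιP ≫ G.t)] [Mono (ιP ≫ G.j)] :
    ∃ (H : Grpd.GroupoidScheme S) (φ : Grpd.GroupoidScheme.Hom G H),
      IsAffine H.U ∧
      QuotSh.IsQuotient Scheme.fppfPrecoverage
        (Over.homMk (ιP ≫ G.s) ((Category.assoc _ _ _).trans (congrArg (ιP ≫ ·) G.s_over)) :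
          (Over.mk (ιP ≫ G.pR) : Over S) ⟶ Over.mk G.pU)
        (Over.homMk (ιP ≫ G.t) ((Category.assoc _ _ _).trans (congrArg (ιP ≫ ·) G.t_over)) :
          (Over.mk (ιP ≫ G.pR) : Over S) ⟶ Over.mk G.pU)
        (Over.homMk φ.fU φ.fU_over : Over.mk G.pU ⟶ Over.mk H.pU) ∧
      IsFinite φ.fU ∧ Flat φ.fU ∧ LocallyOfFinitePresentation φ.fU ∧
      IsPullback (ιP ≫ G.t) (ιP ≫ G.s) φ.fU φ.fU ∧
      IsPullback φ.fR G.j H.j
        (pullback.map G.pU G.pU H.pU H.pU φ.fU φ.fU (𝟙 S)
          ((Category.comp_id _).trans φ.fU_over.symm) ((Category.comp_id _).trans φ.fU_over.symm)) := by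
  obtain ⟨eP, heP⟩ := he
  obtain ⟨iP, hiP⟩ := hi
  obtain ⟨cP, hcP⟩ := hc
  have hlift : ∀ {T : Scheme.{u}} (α β : T ⟶ P) (h : α ≫ ιP ≫ G.s = β ≫ ιP ≫ G.t),
      (pullback.lift α β h ≫ cP) ≫ ιP = pullback.lift (α ≫ ιP) (β ≫ ιP)
        (by rw [Category.assoc, Category.assoc, h]) ≫ G.c := fun α β h => by
    rw [Category.assoc, hcP, ← Category.assoc]
    congr 1
    apply pullback.hom_ext
    · erw [Category.assoc, pullback.lift_fst, pullback.lift_fst_assoc, pullback.lift_fst]
    · erw [Category.assoc, pullback.lift_snd, pullback.lift_snd_assoc, pullback.lift_snd]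
  let GP : Grpd.GroupoidScheme S :=
    { U := G.U
      R := P
      pU := G.pU
      pR := ιP ≫ G.pR
      s := ιP ≫ G.s
      t := ιP ≫ G.t
      e := eP
      i := iP
      c := cP
      s_over := by rw [Category.assoc, G.s_over]
      t_over := by rw [Category.assoc, G.t_over]
      comp_s := fun α β h => by
        rw [← Category.assoc, hlift, G.comp_s, Category.assoc]
      comp_t := fun α β h => by
        rw [← Category.assoc, hlift, G.comp_t, Category.assoc]
      assoc := fun α β γ h₁ h₂ => by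
        apply (cancel_mono ιP).1
        refine (hlift _ _ _).trans (Eq.trans ?_ (hlift _ _ _).symm)
        exact (Groth.Agent.GrpdLib.comp_congr G (hlift _ _ h₁) rfl _ ((G.comp_s _ _ _).trans
            ((Category.assoc _ _ _).trans (h₂.trans (Category.assoc _ _ _).symm)))).trans
          ((G.assoc _ _ _ _ ((Category.assoc _ _ _).trans (h₂.trans (Category.assoc _ _ _).symm))).trans
            (Groth.Agent.GrpdLib.comp_congr G rfl (hlift _ _ h₂).symm _ _))
      e_s := by rw [← Category.assoc, heP, G.e_s]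
      e_t := by rw [← Category.assoc, heP, G.e_t]
      comp_e := fun α => by
        rw [← cancel_mono ιP, hlift]
        refine (Groth.Agent.GrpdLib.comp_congr G rfl ?_ _ ?_).trans (G.comp_e (α ≫ ιP))
        · simp only [Category.assoc, heP]
        · simp [G.e_t]
      e_comp := fun α => by
        rw [← cancel_mono ιP, hlift]
        refine (Groth.Agent.GrpdLib.comp_congr G ?_ rfl _ ?_).trans (G.e_comp (α ≫ ιP))
        · simp only [Category.assoc, heP]
        · simp [G.e_s]
      i_s := by rw [← Category.assoc, hiP, Category.assoc, G.i_s]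
      i_t := by rw [← Category.assoc, hiP, Category.assoc, G.i_t]
      comp_i := fun α => by
        rw [← cancel_mono ιP, hlift]
        refine (Groth.Agent.GrpdLib.comp_congr G rfl ?_ _ ?_).trans ((G.comp_i (α ≫ ιP)).trans ?_)
        · simp only [Category.assoc, hiP]
        · simp [G.i_t]
        · simp only [Category.assoc, heP]
      i_comp := fun α => by
        rw [← cancel_mono ιP, hlift]
        refine (Groth.Agent.GrpdLib.comp_congr G ?_ rfl _ ?_).trans ((G.i_comp (α ≫ ιP)).trans ?_)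
        · simp only [Category.assoc, hiP]
        · simp [G.i_s]
        · simp only [Category.assoc, heP] }
  have : IsAffine GP.U := ‹IsAffine G.U›
  have : IsFinite GP.s := ‹IsFinite (ιP ≫ G.s)›
  have : Flat GP.s := ‹Flat (ιP ≫ G.s)›
  have : LocallyOfFinitePresentation GP.s := ‹LocallyOfFinitePresentation (ιP ≫ G.s)›
  have : IsAffine GP.R := isAffine_of_isAffineHom GP.s
  have hjP : GP.j = ιP ≫ G.j := by
    apply pullback.hom_ext
    · exact (pullback.lift_fst _ _ _).trans (by
        rw [Category.assoc, Grpd.GroupoidScheme.j, pullback.lift_fst])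
    · exact (pullback.lift_snd _ _ _).trans (by
        rw [Category.assoc, Grpd.GroupoidScheme.j, pullback.lift_snd])
  have : Mono GP.j := hjP ▸ ‹Mono (ιP ≫ G.j)›
  obtain ⟨⟨hfin, hfl, hfp⟩, hker⟩ := Groth.Agent.GrpdLib.quotient_spec GP
  have : Surjective GP.toQuot := ⟨(Groth.Agent.GrpdLib.toQuot_surjective_orbits GP).1⟩
  obtain ⟨m, hm, -⟩ := Groth.Agent.GrpdLib.existsUnique_desc GP GP.toQuot hker GP.pU
    (by rw [GP.t_over, GP.s_over])
  let D : Groth.Agent.SubQuot.Sub G :=
    { P := P
      ι := ιP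
      M := Spec (CommRingCat.of GP.invariants)
      q := GP.toQuot
      m := m
      hm := hm
      hker := hker
      eP := eP
      he := heP
      cP := cP
      hc := hcP }
  have : Flat D.q := hfl
  have : Surjective D.q := ‹Surjective GP.toQuot›
  have : LocallyOfFinitePresentation D.q := hfp
  have : IsFinite D.q := hfin
  obtain ⟨W, g, π, hpb, hinv⟩ := D.exists_arrows (Groth.Agent.S1402.result G.j)
  obtain ⟨H, φ, eU, hfU, hpU, hsq⟩ :=
    (Groth.Agent.SubQuot.Arrows.mk W g π hpb hinv).exists_groupoid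
  obtain ⟨U', R', pU', pR', s', t', e', i', c', _, _, _, _, _, _, _, _, _, _, _, _, _⟩ := H
  dsimp only at eU
  subst eU
  simp only [eqToHom_refl, Category.comp_id, Category.id_comp] at hfU hpU
  refine ⟨_, φ, (inferInstance : IsAffine (Spec (CommRingCat.of GP.invariants))), ?_, ?_, ?_, ?_, ?_, hsq⟩
  · have : Flat (Over.homMk φ.fU φ.fU_over : Over.mk G.pU ⟶ Over.mk pU').left := by
      change Flat φ.fU; rw [hfU]; exact hfl
    have : Surjective (Over.homMk φ.fU φ.fU_over : Over.mk G.pU ⟶ Over.mk pU').left := by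
      change Surjective φ.fU; rw [hfU]; exact ‹Surjective GP.toQuot›
    have : LocallyOfFinitePresentation (Over.homMk φ.fU φ.fU_over : Over.mk G.pU ⟶ Over.mk pU').left := by
      change LocallyOfFinitePresentation φ.fU; rw [hfU]; exact hfp
    refine Groth.Agent.QuotShLib.isQuotient_fppf (Groth.Agent.QuotShLib.isKernelPair_of_left ?_)
    change IsPullback (ιP ≫ G.s) (ιP ≫ G.t) φ.fU φ.fU
    rw [hfU]
    exact hker.flip
  · rw [hfU]; exact hfin
  · rw [hfU]; exact hfl
  · rw [hfU]; exact hfp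
  · rw [hfU]; exact hker

end Groth.Agent.S10140
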