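import Groth.Statements.S19957
-- import your own Groth.Agent.* helpers here
import Groth.Agent.GrpdSplit.Main

set_option autoImplicit false
universe u
open CategoryTheory CategoryTheory.Limits AlgebraicGeometry
open Grpd

namespace Groth.Agent.S19957

/-- Let (U, R, s, t, c) be a groupoid scheme over S with U affine and s, t separated, flat and locally
of finite presentation, and let u ∈ U be a point such that the set of points of the stabilizer G → U
(the base change of j = (t, s) : R → U ×_S U along the diagonal of U) lying over u is finite and s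
is quasi-finite at the image in R of each of these points. Then there exist an etale morphism U' → U
with U' affine and a point u' of U' lying over u with trivial residue field extension κ(u) = κ(u'),
such that the restriction R' of R to U' (the groupoid scheme on U' whose arrows form the base change
of j along U' ×_S U' → U ×_S U) is split over u': there is an open subscheme P ⊂ R' which is a
subgroupoid (the identity of U', the inverse of P and the composition of composable pairs of P land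
in P), with s'|_P and t'|_P finite, and containing the image in R' of every point of the stabilizer
G' → U' of R' lying over u'. -/
theorem result (S : Scheme.{u}) (G : Grpd.GroupoidScheme S) [IsAffine G.U]
    [IsSeparated G.s] [IsSeparated G.t] [Flat G.s] [Flat G.t]
    [LocallyOfFinitePresentation G.s] [LocallyOfFinitePresentation G.t]
    (u : ↥G.U) (hfin : Set.Finite {g : ↥G.stabilizer | G.stabilizerToU g = u})
    (hqf : ∀ g : ↥G.stabilizer, G.stabilizerToU g = u →
      Dual3.QuasiFiniteAt G.s ((pullback.fst G.j G.diag : G.stabilizer ⟶ G.R) g)) :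
    ∃ (G' : Grpd.GroupoidScheme S) (φ : Grpd.GroupoidScheme.Hom G' G) (u' : ↥G'.U),
      IsAffine G'.U ∧ Etale φ.fU ∧ φ.fU u' = u ∧ IsIso (φ.fU.residueFieldMap u') ∧
      IsPullback φ.fR G'.j G.j
        (pullback.map G'.pU G'.pU G.pU G.pU φ.fU φ.fU (𝟙 S)
          ((Category.comp_id _).trans φ.fU_over.symm) ((Category.comp_id _).trans φ.fU_over.symm)) ∧
      ∃ (P : Scheme.{u}) (ιP : P ⟶ G'.R), IsOpenImmersion ιP ∧
        (∃ eP : G'.U ⟶ P, eP ≫ ιP = G'.e) ∧ (∃ iP : P ⟶ P, iP ≫ ιP = ιP ≫ G'.i) ∧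
        (∃ cP : pullback (ιP ≫ G'.s) (ιP ≫ G'.t) ⟶ P,
          cP ≫ ιP = pullback.map (ιP ≫ G'.s) (ιP ≫ G'.t) G'.s G'.t ιP ιP (𝟙 G'.U)
            (Category.comp_id _) (Category.comp_id _) ≫ G'.c) ∧
        IsFinite (ιP ≫ G'.s) ∧ IsFinite (ιP ≫ G'.t) ∧
        ∀ g' : ↥G'.stabilizer, G'.stabilizerToU g' = u' →
          ∃ p : ↥P, ιP p = (pullback.fst G'.j G'.diag : G'.stabilizer ⟶ G'.R) g' := by
  let L : Set ↥G.R := (pullback.fst G.j G.diag : G.stabilizer ⟶ G.R) '' {g : ↥G.stabilizer | G.stabilizerToU g = u}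
  have hL : ∀ (K : Type u) [Field K] (g : Spec (CommRingCat.of K) ⟶ G.R) (p : ↥(Spec (CommRingCat.of K))),
      g p ∈ L ↔ g ≫ G.t = g ≫ G.s ∧ (g ≫ G.s) p = u := by
    intro K _ g p
    obtain rfl : p = IsLocalRing.closedPoint K := Subsingleton.elim _ _
    constructor
    · rintro ⟨z, hz, hzg⟩
      obtain ⟨M, _, ψ, y, hy, hyz⟩ :=
        GrpdSplit.exists_lift_field (X := G.stabilizer) (pullback.fst G.j G.diag : G.stabilizer ⟶ G.R) g z hzg
      obtain ⟨h1, h2⟩ := GrpdInv.stab_cond G y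
      refine ⟨GrpdSplit.hom_ext_field ψ ?_, ?_⟩
      · rw [← Category.assoc, ← Category.assoc]
        exact ((congrArg (· ≫ G.t) hy.symm).trans (h1.trans h2.symm)).trans (congrArg (· ≫ G.s) hy)
      · rw [← GrpdSplit.apply_field ψ (g ≫ G.s) (IsLocalRing.closedPoint M) (IsLocalRing.closedPoint K),
          ← Category.assoc, ← hy, h2, Scheme.Hom.comp_apply, hyz]
        exact hz
    · rintro ⟨h1, h2⟩
      refine ⟨GrpdInv.stabMk G g (g ≫ G.s) h1 rfl (IsLocalRing.closedPoint K), ?_, ?_⟩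
      · exact (congr($(GrpdInv.stabMk_toU G g (g ≫ G.s) h1 rfl) (IsLocalRing.closedPoint K))).trans h2
      · exact congr($(GrpdInv.stabMk_fst G g (g ≫ G.s) h1 rfl) (IsLocalRing.closedPoint K))
  have hpt : ∀ r ∈ L, G.s r = u ∧ G.t r = u := by
    intro r hr
    have hr' : G.R.fromSpecResidueField r (IsLocalRing.closedPoint _) = r := G.R.fromSpecResidueField_apply r _
    obtain ⟨h1, h2⟩ := (hL _ (G.R.fromSpecResidueField r) (IsLocalRing.closedPoint _)).1 (hr'.symm ▸ hr)
    refine ⟨(congrArg G.s hr').symm.trans h2, ?_⟩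
    exact (congrArg G.t hr').symm.trans ((congr($h1 (IsLocalRing.closedPoint _))).trans h2)
  obtain ⟨G', φ, u', h₁, h₂, h₃, h₄, h₅, P, ιP, h₆, he, hi, hc, hfs, hft, hr⟩ :=
    GrpdSplit.exists_split G u L (hfin.image _) (fun r hr => (hpt r hr).1) (fun r hr => (hpt r hr).2)
      (fun r hr => by
        obtain ⟨z, hz, rfl⟩ := hr
        rw [Scheme.Hom.quasiFiniteAt_iff_isOpen_singleton_asFiber]; exact hqf z hz)
      ⟨G.eStab u, congr($(pullback.lift_snd G.e (𝟙 G.U) _) u), congr($(pullback.lift_fst G.e (𝟙 G.U) _) u)⟩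
      (fun K _ g h hgh p hg hh => by
        obtain ⟨g1, g2⟩ := (hL K g p).1 hg
        obtain ⟨h1, -⟩ := (hL K h p).1 hh
        refine (hL K _ p).2 ⟨?_, ?_⟩
        · rw [GrpdLib.gmul_t, GrpdLib.gmul_s, Category.assoc, G.i_s, g1, h1, hgh]
        · rw [GrpdLib.gmul_s, Category.assoc, G.i_s, g1]; exact g2)
  refine ⟨G', φ, u', h₁, h₂, h₃, h₄, h₅, P, ιP, h₆, he, hi, hc, hfs, hft, fun g' hg' => ?_⟩
  let l := G'.stabilizer.fromSpecResidueField g'
  let p := IsLocalRing.closedPoint (G'.stabilizer.residueField g')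
  have hlp : l p = g' := G'.stabilizer.fromSpecResidueField_apply g' p
  let δ := l ≫ (pullback.fst G'.j G'.diag : G'.stabilizer ⟶ G'.R)
  obtain ⟨c1, c2⟩ := GrpdInv.stab_cond G' l
  have hδ : δ p = (pullback.fst G'.j G'.diag : G'.stabilizer ⟶ G'.R) g' := congrArg _ hlp
  refine hr _ ?_ ?_ ?_
  · rw [← hδ, ← Scheme.Hom.comp_apply, c2, Scheme.Hom.comp_apply, hlp, hg']
  · rw [← hδ, ← Scheme.Hom.comp_apply, c1, Scheme.Hom.comp_apply, hlp, hg']
  · rw [← hδ, ← Scheme.Hom.comp_apply]
    have e1 : (δ ≫ φ.fR) ≫ G.t = (l ≫ G'.stabilizerToU) ≫ φ.fU := by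
      refine (Category.assoc _ _ _).trans ((congrArg (δ ≫ ·) φ.comm_t).trans ?_)
      exact (Category.assoc _ _ _).symm.trans (congrArg (· ≫ φ.fU) c1)
    have e2 : (δ ≫ φ.fR) ≫ G.s = (l ≫ G'.stabilizerToU) ≫ φ.fU := by
      refine (Category.assoc _ _ _).trans ((congrArg (δ ≫ ·) φ.comm_s).trans ?_)
      exact (Category.assoc _ _ _).symm.trans (congrArg (· ≫ φ.fU) c2)
    refine (hL _ _ p).2 ⟨e1.trans e2.symm, ?_⟩
    refine (congr($e2 p)).trans ?_
    rw [Scheme.Hom.comp_apply, Scheme.Hom.comp_apply, hlp, hg', h₃]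

end Groth.Agent.S19957
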