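import Groth.Statements.S3962
import Groth.Agent.BorelSub.Closed
-- import your own Groth.Agent.* helpers here

set_option autoImplicit false
open CategoryTheory MonoidalCategory CartesianMonoidalCategory MonObj GrpObj AlgebraicGeometry
universe u
open RedSub

set_option backward.isDefEq.respectTransparency false

namespace Groth.Agent.S3962
open Groth.Agent

/-- Let G be a reductive S-group and B ⟶ G a Borel subgroup in the following sense: a sub-group-scheme
of type (R) whose geometric fibres are Borel subgroups (closedness is not assumed). Then B is closed
in G and B is its own normaliser: a point of G normalises B (after every base change) if and only if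
it lies in B. -/
theorem result {S : Scheme.{u}} {G B : Over S} [GrpObj G] [GrpObj B]
    (hG : Red.IsReductive G) (i : B ⟶ G) (hB : RedSub.IsBorelSub i) :
    IsClosedImmersion i.left ∧ Red.IsNormalizerOf i i := by
  haveI := hG.1; haveI := hG.2.1
  obtain ⟨⟨hsub, hsm, hqc, hconn, -⟩, hbor⟩ := hB
  haveI := hsub.1; haveI := hsub.2; haveI := hsm; haveI := hqc
  have hfib : ∀ s : S, ConnectedSpace (Red.geomFibre s G).left := fun s => (hG.2.2 s).2.2.1
  have hP : ∀ s : S, Red.IsParabolicOver (AlgebraicClosure (S.residueField s))
      ((Over.pullback (Red.geomPt s)).map i) := fun s =>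
    ⟨(hbor s).1, (hbor s).2.1, (hbor s).2.2.1, _, inferInstance, 𝟙 _, by rw [Category.id_comp]; exact hbor s⟩
  haveI : GeometricallyIrreducible B.hom := GrpField.geometricallyIrreducible_of_connected_fibres B hconn
  haveI := BorelSub.isClosedImmersion i hfib hP
  exact ⟨inferInstance, ParNorm.isNormalizerOf_self hfib i ⟨inferInstance, inferInstance, hsm, hP⟩⟩

end Groth.Agent.S3962
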