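import Groth.Statements.S8420
import Groth.Agent.MTImage.ConjNeutral
import Groth.Agent.S4098
-- import your own Groth.Agent.* helpers here

set_option autoImplicit false
universe u
open CategoryTheory MonoidalCategory CartesianMonoidalCategory MonObj GrpObj AlgebraicGeometry
open SGA3x

set_option backward.isDefEq.respectTransparency false

namespace Groth.Agent.S8420

/-- Let G be an S-group scheme, smooth and of finite presentation over S with connected fibres, i : H →
G a monomorphism of S-groups with H smooth over S, and C a Cartan subgroup of G. Then the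
transporter Transp_G(C, H), the subfunctor of G of points g with int(g)(C) ⊂ H, is represented by a
closed subscheme of G which is smooth over S. -/
theorem result (S : Scheme.{u}) (G : Over S) [GrpObj G]
    [Smooth G.hom] [QuasiCompact G.hom] [QuasiSeparated G.hom] (hconn : ∀ s : S, _root_.IsConnected (G.hom.base ⁻¹' {s}))
    (H : Over S) [GrpObj H] [Smooth H.hom] (i : H ⟶ G) [IsMonHom i] [Mono i]
    (C : Over S) [GrpObj C] (c : C ⟶ G) (hC : SGA3x.IsCartan c) :
    ∃ (M : Over S) (m : M ⟶ G), IsClosedImmersion m.left ∧ Smooth M.hom ∧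
      ∀ (X : Over S) (g : X ⟶ G), (∃ z : X ⟶ M, z ≫ m = g) ↔
        ∀ (X' : Over S) (x : X' ⟶ X) (y : X' ⟶ C), ∃ h : X' ⟶ H, (x ≫ g) * (y ≫ c) * (x ≫ g)⁻¹ = h ≫ i := by
  haveI hcm := hC.1; haveI hcmono := hC.2.1; haveI : Smooth C.hom := hC.2.2.1
  haveI : IsSeparated G.hom := (Groth.Agent.S3025.result S G hconn).1
  have hCc : ∀ s : S, _root_.IsConnected (C.hom.base ⁻¹' {s}) := MTImage.isConnected_fibre_cartan hconn c hC
  haveI : QuasiCompact C.hom := Groth.Agent.S5324.result S C (fun _ =>
    MorphismProperty.pullback_snd _ _ (inferInstanceAs (LocallyOfFiniteType C.hom))) hCc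
  haveI : Mono c.left := inferInstance
  haveI : IsSeparated C.hom := by rw [← Over.w c]; infer_instance
  obtain ⟨-, H₀, hH₀g, i₀, hi₀m, hi₀o, -, hH₀s, hH₀q⟩ :=
    Groth.Agent.S4098.result S H ⟨⊤, inferInstance, fun _ => trivial⟩
  haveI := hi₀m; haveI := hi₀o; haveI := hH₀s; haveI := hH₀q
  haveI : Mono i₀.left := inferInstance
  haveI : Mono i₀ := Over.mono_of_mono_left i₀
  haveI : Mono (i₀ ≫ i) := mono_comp _ _
  haveI : Mono (i₀ ≫ i).left := inferInstance
  haveI : IsSeparated H₀.hom := by rw [← Over.w (i₀ ≫ i)]; infer_instance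
  obtain ⟨M, m, hmc, hms, hM⟩ := MTImage.exists_transporter_cartan c hC hCc (i₀ ≫ i)
  refine ⟨M, m, hmc, hms, fun X g => (hM X g).trans ⟨fun h X' x y => ?_, fun h X' x y => ?_⟩⟩
  · obtain ⟨h₀, hh⟩ := h X' x y
    exact ⟨h₀ ≫ i₀, by rw [Category.assoc]; exact hh⟩
  · exact MTImage.conj_factor_open hCc c i i₀ g h X' x y

end Groth.Agent.S8420
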