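import Groth.Statements.S8442
import Groth.Agent.MTImage.CartanInSub
-- import your own Groth.Agent.* helpers here

set_option autoImplicit false
universe u
open CategoryTheory MonoidalCategory CartesianMonoidalCategory MonObj GrpObj AlgebraicGeometry
open SGA3x CategoryTheory.Limits

set_option backward.isDefEq.respectTransparency false

namespace Groth.Agent.S8442

/-- Let G be an S-group scheme, smooth and of finite presentation over S with connected fibres, and i :
H → G a monomorphism of S-groups with H smooth over S whose geometric fibres are connected and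
contain a Cartan subgroup of the corresponding geometric fibre of G. Then for every Cartan subgroup
C of G, Transp_G(C, H) is represented by a closed subscheme of G, smooth over S, whose structure
morphism to S is surjective; and if C is the centralizer of a maximal torus T of G, then Transp_G(T,
H) = Transp_G(C, H). -/
theorem result (S : Scheme.{u}) (G : Over S) [GrpObj G]
    [Smooth G.hom] [QuasiCompact G.hom] [QuasiSeparated G.hom] (hconn : ∀ s : S, _root_.IsConnected (G.hom.base ⁻¹' {s}))
    (H : Over S) [GrpObj H] [Smooth H.hom] (i : H ⟶ G) [IsMonHom i] [Mono i]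
    (hHconn : ∀ s : S, ConnectedSpace ↥(Red.geomFibre s H).left)
    (hHC : ∀ s : S, ∃ (C' : Over (Spec (CommRingCat.of (AlgebraicClosure (S.residueField s))))) (_ : GrpObj C')
      (c' : C' ⟶ Red.geomFibre s H), SGA3x.IsCartanOver _ (c' ≫ (Over.pullback (Red.geomPt s)).map i))
    (C : Over S) [GrpObj C] (c : C ⟶ G) (hC : SGA3x.IsCartan c) :
    (∃ (M : Over S) (m : M ⟶ G), IsClosedImmersion m.left ∧ Smooth M.hom ∧ Surjective M.hom ∧
      ∀ (X : Over S) (g : X ⟶ G), (∃ z : X ⟶ M, z ≫ m = g) ↔
        ∀ (X' : Over S) (x : X' ⟶ X) (y : X' ⟶ C), ∃ h : X' ⟶ H, (x ≫ g) * (y ≫ c) * (x ≫ g)⁻¹ = h ≫ i) ∧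
    (∀ (T : Over S) [GrpObj T] (t : T ⟶ G), Red.IsMaximalTorus t → Red.IsCentralizerOf t c →
      ∀ (X : Over S) (g : X ⟶ G),
        (∀ (X' : Over S) (x : X' ⟶ X) (y : X' ⟶ T), ∃ h : X' ⟶ H, (x ≫ g) * (y ≫ t) * (x ≫ g)⁻¹ = h ≫ i) ↔
        (∀ (X' : Over S) (x : X' ⟶ X) (y : X' ⟶ C), ∃ h : X' ⟶ H, (x ≫ g) * (y ≫ c) * (x ≫ g)⁻¹ = h ≫ i)) := by
  haveI := (Groth.Agent.S3025.result S G hconn).1
  have hHf := MTImage.isConnected_fibre_of_geom hHconn
  haveI : QuasiCompact H.hom := Groth.Agent.S5324.result S H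
    (fun s => inferInstanceAs (LocallyOfFiniteType (pullback.snd H.hom (S.fromSpecResidueField s)))) hHf
  haveI : Mono i.left := inferInstance
  haveI : IsSeparated H.hom := by rw [← Over.w i]; infer_instance
  refine ⟨?_, fun T _ t ht htc X g => MTImage.transporter_torus_eq i hHC t ht c htc X g⟩
  haveI := hC.1; haveI := hC.2.1; haveI : Smooth C.hom := hC.2.2.1
  have hCc : ∀ s : S, _root_.IsConnected (C.hom.base ⁻¹' {s}) := MTImage.isConnected_fibre_cartan hconn c hC
  haveI : QuasiCompact C.hom := Groth.Agent.S5324.result S C (fun _ =>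
    MorphismProperty.pullback_snd _ _ (inferInstanceAs (LocallyOfFiniteType C.hom))) hCc
  haveI : Mono c.left := inferInstance
  haveI : IsSeparated C.hom := by rw [← Over.w c]; infer_instance
  obtain ⟨M, m, hmc, hms, hM⟩ := MTImage.exists_transporter_cartan c hC hCc i
  refine ⟨M, m, hmc, hms, ⟨fun s => ?_⟩, hM⟩
  let a := Red.geomPt s
  haveI : Smooth (Red.bc a G).hom := inferInstanceAs (Smooth (pullback.snd G.hom a))
  haveI : QuasiCompact (Red.bc a G).hom := inferInstanceAs (QuasiCompact (pullback.snd G.hom a))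
  obtain ⟨C', hC'g, c', hc'⟩ := hHC s
  obtain ⟨g', φ, hφ⟩ := MTImage.exists_conj_cartan _ (hC.2.2.2 s) _ hc'
  obtain ⟨g₁, hg₁⟩ := MTImage.exists_geom_conj a c i g' (φ.hom ≫ c') (by rw [Category.assoc]; exact hφ)
  obtain ⟨p, -⟩ := (hM _ g₁).2 fun X x y => hg₁ X x y
  refine ⟨p.left (IsLocalRing.closedPoint (AlgebraicClosure (S.residueField s))), ?_⟩
  rw [← Scheme.Hom.comp_apply, Over.w p]
  show (Spec.map _ ≫ S.fromSpecResidueField s) _ = s
  rw [Scheme.Hom.comp_apply]
  exact S.fromSpecResidueField_apply _ _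

end Groth.Agent.S8442
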