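import Groth.Statements.S5458
import Groth.Agent.RootSys.Partition

set_option autoImplicit false
open RootD

namespace Groth.Agent.S5458

open Groth.Agent.RootSys

/-- Let S be a system of positive roots with simple system Δ ⊆ S and let P' ⊇ S be a closed set of
roots; with Δ' the set of simple roots whose opposite lies in P', the set P' is the union of S and
of the roots that are non-positive integer combinations of Δ'. -/
theorem result {ι M N : Type*} [AddCommGroup M] [AddCommGroup N]
    (P : RootPairing ι ℤ M N) [Finite ι] (S : Set ι) (hS : RootD.IsPosSys P S) (Δ : Set ι)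
    (hΔ : RootD.IsSimpleSys P Δ) (hΔS : Δ ⊆ S) (P' : Set ι) (hcl : RootD.IsClosedSub P P')
    (hSP : S ⊆ P') :
    P' = S ∪ {k : ι | -P.root k ∈ RootD.natSpan P {i : ι | i ∈ Δ ∧ P.reflectionPerm i i ∈ P'}} := by
  rename' P' => T
  obtain rfl : S = RootD.posOf P Δ := (subset_iff_eq_posOf hΔ hS).mp hΔS
  let Δ' : Set ι := {i : ι | i ∈ Δ ∧ P.reflectionPerm i i ∈ T}
  refine Set.Subset.antisymm (fun k hk => ?_) (Set.union_subset hSP fun k hk => ?_)
  · by_cases hkS : k ∈ RootD.posOf P Δ
    · exact Or.inl hkS
    refine Or.inr ?_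
    have key : ∀ m, m ∈ RootD.posOf P Δ → opp P m ∈ T → P.root m ∈ RootD.natSpan P Δ' := by
      intro m
      induction hn : (ht hΔ m).toNat using Nat.strong_induction_on generalizing m with
      | h n ih =>
        intro hm hmT
        by_cases hmΔ : m ∈ Δ
        · exact root_mem_natSpan ⟨hmΔ, hmT⟩
        obtain ⟨a, b, ha, hb, he⟩ := not_not.mp fun h => hmΔ ((mem_simple_iff hΔ hm).mpr h)
        have hta := (mem_posOf_iff_ht hΔ a).mp ha
        have htb := (mem_posOf_iff_ht hΔ b).mp hb
        have hte := ht_of_eq_add hΔ he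
        rw [he]
        refine add_mem (ih _ (by omega) a rfl ha (hcl hmT (hSP hb) ?_)) (ih _ (by omega) b rfl hb (hcl hmT (hSP ha) ?_)) <;>
          simp only [root_opp, he] <;> abel
    have h := key (opp P k) ((opp_mem_posOf_iff hΔ k).mpr hkS) (by rwa [opp_opp])
    rw [root_opp] at h
    exact h
  · obtain ⟨s, hs, hsum⟩ := natSpan_iff.mp hk
    refine mem_of_sum hcl (s := s.map (opp P)) (fun a ha => ?_) ?_
    · obtain ⟨b, hb, rfl⟩ := Multiset.mem_map.mp ha
      exact (hs b hb).2
    · show ((s.map (opp P)).map P.root).sum = _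
      rw [Multiset.map_map]
      simp only [Function.comp_def, root_opp]
      rw [Multiset.sum_map_neg, show (s.map P.root).sum = -P.root k from hsum, neg_neg]

end Groth.Agent.S5458
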