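import Groth.Statements.S5459
import Groth.Agent.RootSys.Partition
import Groth.Agent.S5458

set_option autoImplicit false
open RootD

namespace Groth.Agent.S5459

open Groth.Agent.RootSys

/-- A closed set of roots containing each root or its opposite is, for a suitable system of simple roots
Δ and a subset Δ' ⊆ Δ, the set of roots lying in ℕΔ ∪ (-ℕΔ'). -/
theorem result {ι M N : Type*} [AddCommGroup M] [AddCommGroup N]
    (P : RootPairing ι ℤ M N) [Finite ι] (P' : Set ι)
    (hP2 : ∀ i : ι, i ∈ P' ∨ P.reflectionPerm i i ∈ P') (hcl : RootD.IsClosedSub P P') :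
    ∃ Δ Δ' : Set ι, RootD.IsSimpleSys P Δ ∧ Δ' ⊆ Δ ∧
      P' = RootD.posOf P Δ ∪ {k : ι | -P.root k ∈ RootD.natSpan P Δ'} := by
  obtain ⟨S₀, hS₀⟩ := exists_posSys (P := P)
  obtain ⟨g, hg, hsub⟩ := exists_image_subset hP2 hcl hS₀
  have hS := isPosSys_image g hS₀
  have hΔ := isSimpleSys_simpleOf hS
  refine ⟨_, {i | i ∈ simpleOf P ((fun i => g • i) '' S₀) ∧ P.reflectionPerm i i ∈ P'}, hΔ, fun i hi => hi.1, ?_⟩
  have h := Groth.Agent.S5458.result P _ hS _ hΔ (fun i hi => hi.1) P' hcl hsub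
  rw [posOf_simpleOf hS]
  exact h

end Groth.Agent.S5459
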