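import Groth.Statements.S5446
import Groth.Agent.RootSys.Partition

set_option autoImplicit false
open RootD

namespace Groth.Agent.S5446

open Groth.Agent.RootSys

/-- If the roots indexed by Δ are indivisible and linearly independent and every root is, up to sign, a
non-negative rational combination of them (some positive multiple is a non-negative integer
combination), then Δ is a system of simple roots: every root is, up to sign, a non-negative integer
combination of Δ. -/
theorem result {ι M N : Type*} [AddCommGroup M] [AddCommGroup N]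
    (P : RootPairing ι ℤ M N) [Finite ι] (Δ : Set ι)
    (hind : ∀ i ∈ Δ, RootD.IsIndiv P i) (hli : LinearIndepOn ℤ P.root Δ)
    (hcone : ∀ k : ι, ∃ n : ℕ, 0 < n ∧
      (n • P.root k ∈ RootD.natSpan P Δ ∨ n • (-P.root k) ∈ RootD.natSpan P Δ)) :
    RootD.IsSimpleSys P Δ := by
  classical
  let S : Set ι := {k | ∃ n : ℕ, 0 < n ∧ n • P.root k ∈ RootD.natSpan P Δ}
  have hcomb : ∀ k ∈ S, ∃ (n : ℤ) (c : ι →₀ ℤ), 0 < n ∧ ↑c.support ⊆ Δ ∧ (∀ a, 0 ≤ c a) ∧ lc P c = n • P.root k := by
    rintro k ⟨n, hn, h⟩
    obtain ⟨c, hc, hnn, he⟩ := exists_nonneg_coef h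
    exact ⟨n, c, by omega, hc, hnn, by rw [natCast_zsmul, he]⟩
  have hS : RootD.IsPosSys P S := by
    refine (isPosSys_iff _).mpr ⟨fun k hk hk' => ?_, fun k => ?_, ?_⟩
    · obtain ⟨n, c, hn, hc, hnn, he⟩ := hcomb k hk
      obtain ⟨m, d, hm, hd, hnn', he'⟩ := hcomb _ hk'
      have h0 : lc P (m • c + n • d) = 0 := by
        rw [lc, map_add, map_zsmul, map_zsmul, ← lc, ← lc, he, he', root_opp, smul_smul, smul_smul, mul_comm m n]
        simp
      have e := linearIndepOn_iff.mp hli _ (fun a ha => by
        rcases Finset.mem_union.mp (Finsupp.support_add ha) with h' | h'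
        · exact hc (Finsupp.support_smul h')
        · exact hd (Finsupp.support_smul h')) h0
      have hc0 : c = 0 := Finsupp.ext fun a => by
        have e1 := DFunLike.congr_fun e a
        simp only [Finsupp.add_apply, Finsupp.smul_apply, smul_eq_mul, Finsupp.zero_apply] at e1
        have h1 := mul_nonneg hm.le (hnn a)
        have h2 := mul_nonneg hn.le (hnn' a)
        have h3 : m * c a = 0 := by omega
        exact (mul_eq_zero.mp h3).resolve_left hm.ne'
      rw [hc0, lc, map_zero] at he
      exact P.ne_zero k (torsionFree_root hn.ne' (by rw [← he, smul_zero]) P)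
    · obtain ⟨n, hn, h | h⟩ := hcone k
      · exact Or.inl ⟨n, hn, h⟩
      · exact Or.inr ⟨n, hn, by rw [root_opp]; exact h⟩
    · rintro a b k ⟨n, hn, ha⟩ ⟨m, hm, hb⟩ hk
      refine ⟨n * m, Nat.mul_pos hn hm, ?_⟩
      rw [hk, smul_add]
      refine add_mem ?_ ?_
      · rw [mul_comm, mul_smul]; exact nsmul_mem ha m
      · rw [mul_smul]; exact nsmul_mem hb n
  have hΔ0 := isSimpleSys_simpleOf hS
  have hsub : Δ ⊆ simpleOf P S := by
    intro i hi
    refine ⟨⟨1, one_pos, by rw [one_smul]; exact root_mem_natSpan hi⟩, ?_⟩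
    rintro ⟨a, b, ha, hb, he⟩
    obtain ⟨n, c, hn, hc, hnn, hec⟩ := hcomb a ha
    obtain ⟨m, d, hm, hd, hnn', hed⟩ := hcomb b hb
    have e := linearIndepOn_iffₛ.mp hli (m • c + n • d) (fun x hx => by
        rcases Finset.mem_union.mp (Finsupp.support_add hx) with h' | h'
        · exact hc (Finsupp.support_smul h')
        · exact hd (Finsupp.support_smul h')) (Finsupp.single i (n * m))
      (fun x hx => Finset.mem_singleton.mp (Finsupp.support_single_subset hx) ▸ hi) (by
        rw [map_add, map_zsmul, map_zsmul, show Finsupp.linearCombination ℤ P.root c = _ from hec,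
          show Finsupp.linearCombination ℤ P.root d = _ from hed, Finsupp.linearCombination_single, he]
        module)
    have hsingle : ∀ (q : ℤ) (f g : ι →₀ ℤ) (p : ℤ) (x : ι), 0 < q → (∀ z, 0 ≤ f z) → (∀ z, 0 ≤ g z) →
        q • f + p • g = Finsupp.single i (n * m) → 0 ≤ p → x ≠ i → f x = 0 := by
      intro q f g p x hq hf hg e' hp hx
      have e1 := DFunLike.congr_fun e' x
      simp only [Finsupp.add_apply, Finsupp.smul_apply, smul_eq_mul, Finsupp.single_eq_of_ne hx] at e1
      have h1 := mul_nonneg hq.le (hf x)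
      have h2 := mul_nonneg hp (hg x)
      exact (mul_eq_zero.mp (show q * f x = 0 by omega)).resolve_left hq.ne'
    have hprop : ∀ (a : ι) (n : ℤ) (c : ι →₀ ℤ), 0 < n → (∀ z, 0 ≤ c z) → lc P c = n • P.root a →
        (∀ x, x ≠ i → c x = 0) → a = i ∨ P.root a = (2 : ℤ) • P.root i := by
      intro a n c hn hnn hec hz
      have hci : c = Finsupp.single i (c i) := Finsupp.ext fun x => by
        rcases eq_or_ne x i with rfl | hx
        · rw [Finsupp.single_eq_same]
        · rw [Finsupp.single_eq_of_ne hx, hz x hx]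
      rw [hci, lc, Finsupp.linearCombination_single] at hec
      refine proportional_cases hn (lt_of_le_of_ne (hnn i) fun h0 => ?_) hec.symm (hind i hi)
      rw [← h0, zero_smul] at hec
      exact P.ne_zero a (torsionFree_root hn.ne' (by rw [← hec, smul_zero]) P)
    have e1 := hprop a n c hn hnn hec fun x hx => hsingle m c d n x hm hnn hnn' e hn.le hx
    have e2 := hprop b m d hm hnn' hed fun x hx => hsingle n d c m x hn hnn' hnn (by rw [add_comm]; exact e) hm.le hx
    have ei := congr_arg (P.coroot' i) he
    rw [map_add, P.root_coroot'_eq_pairing, P.pairing_same] at ei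
    have hval : ∀ z, z = i ∨ P.root z = (2 : ℤ) • P.root i → 2 ≤ P.pairing z i := fun z hz => by
      rcases hz with hz | hz
      · rw [hz, P.pairing_same]
      · rw [← P.root_coroot'_eq_pairing, hz, map_zsmul, P.root_coroot'_eq_pairing, P.pairing_same]; norm_num
    rw [P.root_coroot'_eq_pairing, P.root_coroot'_eq_pairing] at ei
    have := hval a e1
    have := hval b e2
    omega
  suffices Δ = simpleOf P S by rw [this]; exact hΔ0
  refine Set.Subset.antisymm hsub fun j hj => by_contra fun hjΔ => ?_
  obtain ⟨n, c, hn, hc, -, hec⟩ := hcomb j hj.1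
  have e := lc_injective hΔ0 (c := c) (d := Finsupp.single j n) (fun x hx => hsub (hc hx))
    (fun x hx => Finset.mem_singleton.mp (Finsupp.support_single_subset hx) ▸ hj) (by simp [lc] at hec ⊢; exact hec)
  refine hjΔ (hc ?_)
  rw [e]
  simp [Finsupp.support_single_ne_zero _ hn.ne']

end Groth.Agent.S5446
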