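import Groth.Statements.S5485
import Groth.Agent.RootSys.Irreducible
import Groth.Agent.S5446

set_option autoImplicit false
open RootD

namespace Groth.Agent.S5485

open Groth.Agent.RootSys

/-- If Δ is a system of simple roots then ind(Δ^v), the set of coroots of Δ with each divisible coroot
replaced by its half, is a system of simple coroots (a system of simple roots of the dual datum). -/
theorem result {ι M N : Type*} [AddCommGroup M] [AddCommGroup N]
    (P : RootPairing ι ℤ M N) [Finite ι] (Δ : Set ι) (hΔ : RootD.IsSimpleSys P Δ) :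
    RootD.IsSimpleSys P.flip {j : ι | ∃ i ∈ Δ, (j = i ∧ RootD.IsIndiv P.flip i) ∨ (2 : ℤ) • P.coroot j = P.coroot i} := by
  classical
  haveI := Fintype.ofFinite ι
  haveI : Module.IsReflexive ℤ N := .of_isPerfPair P.flip.toLinearMap
  haveI : IsAddTorsionFree N := .of_isTorsionFree ℤ N
  let D : Set ι := {j : ι | ∃ i ∈ Δ, (j = i ∧ RootD.IsIndiv P.flip i) ∨ (2 : ℤ) • P.coroot j = P.coroot i}
  have hdd : ∀ a b, (2 : ℤ) • P.coroot a = P.coroot b → RootD.IsIndiv P.flip a := by
    intro a b hab c hc
    change (2 : ℤ) • P.coroot c = P.coroot a at hc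
    have h1 : P.pairing c b = 8 := by
      show P.toLinearMap (P.root c) (P.coroot b) = 8
      rw [← hab, ← hc, map_zsmul, map_zsmul, show P.toLinearMap (P.root c) (P.coroot c) = 2 from P.pairing_same c]
      rfl
    have h2 := P.pairing_same b
    have h3 : 4 * P.pairing b c = 2 := by
      rw [← h2]
      show 4 * P.toLinearMap (P.root b) (P.coroot c) = P.toLinearMap (P.root b) (P.coroot b)
      conv_rhs => rw [← hab, ← hc, map_zsmul, map_zsmul]
      simp [mul_comm]
      ring
    omega
  have hmult : ∀ i ∈ Δ, ∃ j ∈ D, ∃ e : ℕ, 0 < e ∧ P.coroot i = e • P.coroot j := by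
    intro i hi
    by_cases hind : RootD.IsIndiv P.flip i
    · exact ⟨i, ⟨i, hi, Or.inl ⟨rfl, hind⟩⟩, 1, one_pos, (one_smul _ _).symm⟩
    · simp only [RootD.IsIndiv, not_forall, not_not] at hind
      obtain ⟨j, hj⟩ := hind
      change (2 : ℤ) • P.coroot j = P.coroot i at hj
      exact ⟨j, ⟨i, hi, Or.inr hj⟩, 2, two_pos, by rw [← hj, two_zsmul, two_nsmul]⟩
  refine Groth.Agent.S5446.result P.flip D ?_ ?_ fun k => ?_
  · rintro j ⟨i, hi, ⟨rfl, h⟩ | h⟩
    · exact h
    · exact hdd j i h
  · have hi : ∀ j : D, ∃ i : Δ, ∃ e : ℤ, (e = 1 ∨ e = 2) ∧ e • P.coroot (j : ι) = P.coroot (i : ι) := by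
      rintro ⟨j, i, hi, ⟨rfl, h⟩ | h⟩
      · exact ⟨⟨j, hi⟩, 1, Or.inl rfl, one_smul _ _⟩
      · exact ⟨⟨i, hi⟩, 2, Or.inr rfl, h⟩
    choose σ e he hσ using hi
    show LinearIndependent ℤ fun j : D => P.coroot (j : ι)
    have hinj : Function.Injective σ := by
      intro a b hab
      have h1 := hσ a
      rw [hab, ← hσ b] at h1
      refine Subtype.ext (P.coroot.injective ?_)
      rcases he a with ha | ha <;> rcases he b with hb | hb <;> rw [ha, hb] at h1
      · simpa using h1
      · obtain ⟨i, hi, ⟨hai, hind⟩ | hd⟩ := a.2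
        · exact absurd (show P.flip.root i = P.coroot i from rfl) (fun _ => hind b (by rw [← hai]; simpa using h1.symm))
        · exact absurd (show (2 : ℤ) • P.flip.root (b : ι) = P.flip.root (a : ι) by simpa using h1.symm) (hdd _ _ hd b)
      · obtain ⟨i, hi, ⟨hbi, hind⟩ | hd⟩ := b.2
        · exact absurd (show P.flip.root i = P.coroot i from rfl) (fun _ => hind a (by rw [← hbi]; simpa using h1))
        · exact absurd (show (2 : ℤ) • P.flip.root (a : ι) = P.flip.root (b : ι) by simpa using h1) (hdd _ _ hd a)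
      · exact smul_right_injective N two_ne_zero h1
    refine linearIndependent_iff'.mpr fun s c hc j hj => ?_
    have h2 := linearIndependent_iff'.mp ((linIndepOn_coroot hΔ.linInd).linearIndependent.comp σ hinj) s
      (fun j => if e j = 1 then 2 * c j else c j) ?_ j hj
    · split_ifs at h2 with h
      · omega
      · exact h2
    · rw [← smul_zero (2 : ℤ), ← hc, Finset.smul_sum]
      refine Finset.sum_congr rfl fun j _ => ?_
      simp only [Function.comp_apply]
      rw [← hσ j, smul_smul, smul_smul]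
      congr 1
      rcases he j with h | h <;> rw [h] <;> simp [mul_comm]
  · refine ⟨(P.RootForm (P.root k) (P.root k)).toNat, Int.lt_toNat.mpr (by simpa using rootForm_pos k), ?_⟩
    have hmem : ∀ a, a ∈ RootD.posOf P Δ →
        (P.RootForm (P.root a) (P.root a)).toNat • P.coroot a ∈ RootD.natSpan P.flip D := by
      intro a ha
      have hB : ((P.RootForm (P.root a) (P.root a)).toNat : ℤ) = P.RootForm (P.root a) (P.root a) :=
        Int.toNat_of_nonneg (rootForm_pos a).le
      rw [← natCast_zsmul, hB, P.rootForm_self_smul_coroot, ← lc_coef hΔ a, lc, Finsupp.linearCombination_apply,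
        map_finsuppSum, Finsupp.smul_sum]
      refine AddSubmonoid.sum_mem _ fun i hi => ?_
      show (2 : ℕ) • P.Polarization (coef hΔ a i • P.root i) ∈ _
      rw [map_zsmul, smul_comm, ← P.rootForm_self_smul_coroot, smul_smul]
      obtain ⟨j, hj, e, -, he⟩ := hmult i (coef_support hΔ a hi)
      obtain ⟨n, hn⟩ := Int.eq_ofNat_of_zero_le (mul_nonneg ((mem_posOf_iff hΔ a).mp ha i) (rootForm_pos (P := P) i).le)
      rw [hn, natCast_zsmul, he, ← mul_smul]
      exact AddSubmonoid.nsmul_mem _ (root_mem_natSpan (P := P.flip) hj) _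
    by_cases hk : k ∈ RootD.posOf P Δ
    · exact Or.inl (hmem k hk)
    · refine Or.inr ?_
      have h := hmem (opp P k) ((opp_mem_posOf_iff hΔ k).mpr hk)
      have e1 : P.RootForm (P.root (opp P k)) (P.root (opp P k)) = P.RootForm (P.root k) (P.root k) := by
        rw [root_opp]; simp
      have e2 : P.coroot (opp P k) = -P.coroot k := root_opp (P := P.flip) k
      rw [e1, e2] at h
      exact h

end Groth.Agent.S5485
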