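import Groth.Statements.S0642
import Groth.Agent.EtInvariance.Site
import Mathlib.Algebra.Homology.DerivedCategory.Ext.MapBijective

set_option autoImplicit false
open CategoryTheory CategoryTheory.Limits AlgebraicGeometry Opposite
universe u
open EtCore

set_option backward.isDefEq.respectTransparency false

namespace Groth.Agent.S0642

/-- Let X_0 -> X be integral, universally injective and surjective (a universal homeomorphism). Then for
every abelian sheaf F on the small etale site of X and every q the pullback map from H^q(X, F) to
H^q(X_0, F|_{X_0}) is bijective. (Exactness of pullback of abelian sheaves, which always holds, is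
carried as an instance hypothesis.) -/
theorem result {X₀ X : Scheme.{u}} (i : X₀ ⟶ X) [IsIntegralHom i]
    [UniversallyInjective i] [Surjective i] [PreservesFiniteLimits (EtCoh.pull i)] (F : EtCoh.Ab X) (q : ℕ) :
    Function.Bijective (EtCore.Hpull i F q) := by
    have := EtInvariance.pull_isEquivalence i
    have hA := Functor.mapExt_bijective_of_preservesInjectiveObjects (EtCoh.pull i) (EtCoh.const X ℤ) F q
    let e := EtCore.pullConst i ℤ
    refine Function.Bijective.comp (g := fun x => (Abelian.Ext.mk₀ e.inv).comp x (zero_add q))
      (Function.bijective_iff_has_inverse.2 ⟨fun x => (Abelian.Ext.mk₀ e.hom).comp x (zero_add q), fun x => ?_, fun x => ?_⟩) hA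
    · show (Abelian.Ext.mk₀ e.hom).comp ((Abelian.Ext.mk₀ e.inv).comp x (zero_add q)) (zero_add q) = x
      rw [Abelian.Ext.mk₀_comp_mk₀_assoc, Iso.hom_inv_id, Abelian.Ext.mk₀_id_comp]
    · show (Abelian.Ext.mk₀ e.inv).comp ((Abelian.Ext.mk₀ e.hom).comp x (zero_add q)) (zero_add q) = x
      rw [Abelian.Ext.mk₀_comp_mk₀_assoc, Iso.inv_hom_id, Abelian.Ext.mk₀_id_comp]

end Groth.Agent.S0642
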