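import Groth.Agent.EtStalk.Sheaf
import Groth.Prelude.Def_EtBase
import Groth.Prelude.Def_EtGm
import Groth.Prelude.Def_W4c5etcohweilstudentAS
import Mathlib
set_option autoImplicit false
set_option backward.isDefEq.respectTransparency false
universe u
open CategoryTheory AlgebraicGeometry
namespace EtCoh
end EtCoh
open EtCoh
open Opposite

namespace Groth.Agent.S18415

theorem epi_as (S : Scheme.{u}) (p : ℕ) (hp : p.Prime) (h0 : (p : Γ(S, ⊤)) = 0) :
    Epi (W4c5etcohweilstudent.artinSchreierEndo S p hp h0) := by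
  refine (Groth.Agent.EtStalk.epi_iff _).mpr fun Ω _ _ ξ q => ?_
  obtain ⟨U, x, s, rfl⟩ :=
    (Scheme.pointSmallEtale ξ).toPresheafFiber_jointly_surjective (P := (EtCoh.Ga S).obj) q
  let x' : Over.mk ξ ⟶ (Scheme.Etale.forget S).obj U := x
  let U₀ : Scheme.{u} := U.left
  let φU : U₀ ⟶ S := U.hom
  let l : Spec (CommRingCat.of Ω) ⟶ U₀ := x'.left
  have hl : l ≫ φU = ξ := Over.w x'
  haveI hφU : Etale φU := U.prop
  obtain ⟨W, hW, hmem, -⟩ := exists_isAffineOpen_mem_and_subset (X := U₀) (x := l default) (U := ⊤) trivial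
  let A : CommRingCat.{u} := Γ(U₀, W)
  have hr : Set.range l ⊆ Set.range hW.fromSpec := by
    rintro - ⟨p, rfl⟩
    rw [hW.range_fromSpec, Subsingleton.elim (α := Spec (CommRingCat.of Ω)) p default]
    exact hmem
  let l' : Spec (CommRingCat.of Ω) ⟶ Spec A := IsOpenImmersion.lift hW.fromSpec l hr
  let χ : A ⟶ CommRingCat.of Ω := Spec.preimage l'
  have hχ : Spec.map χ ≫ hW.fromSpec = l := by
    rw [Spec.map_preimage]; exact IsOpenImmersion.lift_fac _ _ _
  -- the section
  let σ : Γ(U₀, ⊤) := ULift.down s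
  let a : A := (hW.fromSpec.appTop ≫ (Scheme.ΓSpecIso A).hom).hom σ
  have hp' : (p : A) = 0 := by
    have := congrArg ((φU.appTop ≫ hW.fromSpec.appTop ≫ (Scheme.ΓSpecIso A).hom).hom) h0
    rwa [map_natCast, map_zero] at this
  -- the standard étale algebra
  let P : StandardEtalePair A :=
    { f := Polynomial.X ^ p - Polynomial.X - Polynomial.C a
      monic_f := by
        rw [sub_sub]
        refine Polynomial.monic_X_pow_sub ?_
        refine lt_of_le_of_lt (Polynomial.degree_add_le _ _) (max_lt ?_ ?_)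
        · exact lt_of_le_of_lt Polynomial.degree_X_le (by exact_mod_cast hp.one_lt)
        · exact lt_of_le_of_lt Polynomial.degree_C_le (by exact_mod_cast hp.pos)
      g := 1
      cond := ⟨-1, 0, 1, by
        rw [map_sub, map_sub, Polynomial.derivative_X_pow, Polynomial.derivative_X, Polynomial.derivative_C,
          hp', map_zero, zero_mul]
        simp⟩ }
  let B : CommRingCat.{u} := CommRingCat.of P.Ring
  let ι : A ⟶ B := CommRingCat.ofHom (algebraMap A P.Ring)
  haveI : Etale (Spec.map ι) := by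
    rw [HasRingHomProperty.Spec_iff (P := @Etale)]
    exact RingHom.etale_algebraMap.mpr inferInstance
  letI : Algebra A Ω := χ.hom.toAlgebra
  have hΩ : (p : Ω) = 0 := by
    have := congrArg χ.hom hp'
    rwa [map_natCast, map_zero] at this
  obtain ⟨z, hz⟩ := IsSepClosed.exists_root (Polynomial.X ^ p - Polynomial.X - Polynomial.C (χ.hom a)) (by
    rw [sub_sub, Polynomial.degree_sub_eq_left_of_degree_lt]
    · simp [hp.ne_zero]
    · rw [Polynomial.degree_X_pow]
      refine lt_of_le_of_lt (Polynomial.degree_add_le _ _) (max_lt ?_ ?_)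
      · exact lt_of_le_of_lt Polynomial.degree_X_le (by exact_mod_cast hp.one_lt)
      · exact lt_of_le_of_lt Polynomial.degree_C_le (by exact_mod_cast hp.pos)) (by
    rw [Polynomial.separable_def, map_sub, map_sub, Polynomial.derivative_X_pow, Polynomial.derivative_X,
      Polynomial.derivative_C, hΩ, map_zero, zero_mul, zero_sub, sub_zero]
    exact (isCoprime_one_right).neg_right)
  have hmap : P.HasMap z := by
    refine ⟨?_, by simp [P]⟩
    simp only [P, map_sub, map_pow, Polynomial.aeval_X, Polynomial.aeval_C]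
    rw [Polynomial.IsRoot, Polynomial.eval_sub, Polynomial.eval_sub, Polynomial.eval_pow, Polynomial.eval_X,
      Polynomial.eval_C] at hz
    exact hz
  let ψ : B ⟶ CommRingCat.of Ω := CommRingCat.ofHom (P.lift z hmap).toRingHom
  have hψ : ι ≫ ψ = χ := CommRingCat.hom_ext (RingHom.ext fun r => (P.lift z hmap).commutes r)
  -- the étale neighbourhood
  let h : Spec B ⟶ U₀ := Spec.map ι ≫ hW.fromSpec
  haveI hh : Etale (h ≫ φU) := inferInstance
  let V : S.Etale := MorphismProperty.Over.mk ⊤ (h ≫ φU) hh
  let g : V ⟶ U := MorphismProperty.Over.homMk h rfl trivial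
  have hm : Spec.map ψ ≫ h = l := by
    rw [show Spec.map ψ ≫ h = Spec.map (ι ≫ ψ) ≫ hW.fromSpec by
      rw [Spec.map_comp, Category.assoc], hψ, hχ]
  let y : (Scheme.pointSmallEtale ξ).fiber.obj V :=
    (Over.homMk (Spec.map ψ) (by
      show Spec.map ψ ≫ h ≫ φU = ξ
      rw [← Category.assoc, hm, hl]) : Over.mk ξ ⟶ (Scheme.Etale.forget S).obj V)
  have hy : (Scheme.pointSmallEtale ξ).fiber.map g y = x := Over.OverMorphism.ext hm
  have hX : P.X ^ p - P.X = algebraMap A P.Ring a := by
    have := P.hasMap_X.1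
    simp only [P, map_sub, map_pow, Polynomial.aeval_X, Polynomial.aeval_C, sub_eq_zero] at this
    exact this
  let τ : Γ(Spec B, ⊤) := (Scheme.ΓSpecIso B).inv.hom P.X
  have hτ : τ ^ p - τ = h.appTop.hom σ := by
    have e := ConcreteCategory.congr_hom (Scheme.ΓSpecIso_inv_naturality ι) a
    simp only [τ]
    rw [← map_pow, ← map_sub, hX]
    refine e.trans ?_
    show (Spec.map ι).appTop.hom ((Scheme.ΓSpecIso A).inv.hom ((Scheme.ΓSpecIso A).hom.hom
      (hW.fromSpec.appTop.hom σ))) = _
    rw [Iso.hom_inv_id_apply]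
    rfl
  let t : (EtCoh.Ga S).obj.obj (op V) := ULift.up τ
  refine ⟨(Scheme.pointSmallEtale ξ).toPresheafFiber V y (EtCoh.Ga S).obj t, ?_⟩
  refine (ConcreteCategory.congr_hom ((Scheme.pointSmallEtale ξ).toPresheafFiber_naturality
    (W4c5etcohweilstudent.artinSchreierEndo S p hp h0).hom V y) t).trans ?_
  have ht : (W4c5etcohweilstudent.artinSchreierEndo S p hp h0).hom.app (op V) t = (EtCoh.Ga S).obj.map g.op s :=
    ULift.ext _ _ hτ
  refine (congrArg _ ht).trans ((ConcreteCategory.congr_hom ((Scheme.pointSmallEtale ξ).toPresheafFiber_w g y _) s).trans ?_)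
  rw [hy]

/-- Let p be a prime and X a scheme with p = 0 in Γ(X, O_X). Then the Artin–Schreier endomorphism x ↦
x^p − x of the additive group sheaf G_a on the small étale site of X is an epimorphism of abelian
étale sheaves (the right-hand exactness of 0 → Z/p → G_a → G_a → 0 on X_et). (The published example
takes X a variety over a field of characteristic p; this row assumes only that p = 0 in Γ(X, O_X).) -/
theorem result
    (p : ℕ) (hp : p.Prime) {X : Scheme.{u}} (h0 : (p : Γ(X, ⊤)) = 0) :
    Epi (W4c5etcohweilstudent.artinSchreierEndo X p hp h0) := by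
  exact epi_as X p hp h0

end Groth.Agent.S18415
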