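import Groth.Agent.REqP1.Chart

/-! Clopen subsets of the projective line over a scheme and of its finite flat covers. -/

set_option autoImplicit false
universe u

open CategoryTheory CategoryTheory.Limits AlgebraicGeometry

namespace Groth.Agent.P1FinClopen

variable {S X : Scheme.{u}}

theorem toP1_pullbackSquare {R T : Scheme.{u}} (g : R ⟶ T) :
    IsPullback (P1.toP1 g) (CohB1.ProjSpaceOver.toBase 1 R) (CohB1.ProjSpaceOver.toBase 1 T) g := by
  have hfst : P1.toP1 g ≫ pullback.fst _ _ = pullback.fst _ _ :=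
    (pullback.lift_fst _ _ _).trans (Category.comp_id _)
  have h : IsPullback (P1.toP1 g ≫ pullback.fst (CohB1.ProjSpace.toSpec 1 (ULift.{u} ℤ))
      (specULiftZIsTerminal.from T)) (CohB1.ProjSpaceOver.toBase 1 R)
      (CohB1.ProjSpace.toSpec 1 (ULift.{u} ℤ)) (g ≫ specULiftZIsTerminal.from T) := by
    rw [hfst, show g ≫ specULiftZIsTerminal.from T = specULiftZIsTerminal.from R from
      specULiftZIsTerminal.hom_ext _ _]
    exact IsPullback.of_hasPullback _ _
  exact IsPullback.of_right h (pullback.lift_snd _ _ _) (IsPullback.of_hasPullback _ _)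

theorem fibre_isPreconnected (s : S) :
    _root_.IsPreconnected ((CohB1.ProjSpaceOver.toBase 1 S) ⁻¹' {s}) := by
  let g := S.fromSpecResidueField s
  have hsq : IsPullback (P1.toP1 g) (CohB1.ProjSpaceOver.toBase 1 _)
      (CohB1.ProjSpaceOver.toBase 1 S) g := toP1_pullbackSquare g
  let : Algebra P1.R0.{u} (S.residueField s) :=
    ((Int.castRingHom (S.residueField s)).comp ULift.ringEquiv.toRingHom).toAlgebra
  have := REqP1.isIntegral_over (S.residueField s)
  have h : Set.range (P1.toP1 g) = (CohB1.ProjSpaceOver.toBase 1 S) ⁻¹' {s} := by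
    ext y
    constructor
    · rintro ⟨z, rfl⟩
      change (P1.toP1 g ≫ CohB1.ProjSpaceOver.toBase 1 S) z = s
      rw [hsq.w, Scheme.Hom.comp_apply]
      exact S.range_fromSpecResidueField s |>.le ⟨_, rfl⟩
    · intro hy
      obtain ⟨q, hq, -⟩ := Scheme.exists_preimage_of_isPullback hsq y
        (IsLocalRing.closedPoint (S.residueField s))
        ((hy : CohB1.ProjSpaceOver.toBase 1 S y = s).trans
          (S.range_fromSpecResidueField s |>.le ⟨_, rfl⟩).symm)
      exact ⟨q, hq⟩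
  rw [← h, ← Set.image_univ]
  exact isPreconnected_univ.image _ (P1.toP1 g).continuous.continuousOn

theorem mem_iff_sect_mem {C : Set ↥(CohB1.ProjSpaceOver 1 S)} (hC : IsClopen C)
    (y : ↥(CohB1.ProjSpaceOver 1 S)) :
    y ∈ C ↔ P1.sect S 0 (CohB1.ProjSpaceOver.toBase 1 S y) ∈ C := by
  set s := CohB1.ProjSpaceOver.toBase 1 S y with hs
  have h0 : P1.sect S 0 s ∈ (CohB1.ProjSpaceOver.toBase 1 S) ⁻¹' {s} := by
    change (P1.sect S 0 ≫ CohB1.ProjSpaceOver.toBase 1 S) s = s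
    rw [show P1.sect S 0 ≫ CohB1.ProjSpaceOver.toBase 1 S = 𝟙 S from pullback.lift_snd _ _ _]
    rfl
  exact ⟨fun h => (fibre_isPreconnected s).subset_isClopen hC ⟨y, hs.symm, h⟩ h0,
    fun h => (fibre_isPreconnected s).subset_isClopen hC ⟨_, h0, h⟩ hs.symm⟩

variable (g : X ⟶ CohB1.ProjSpaceOver 1 S) [IsFinite g] [Flat g] [LocallyOfFinitePresentation g]

theorem isClopen_image {W : Set X} (hW : IsClopen W) : IsClopen (g '' W) :=
  ⟨g.isClosedMap _ hW.1, g.isOpenMap _ hW.2⟩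

theorem eq_univ {W : Set X} (hW : IsClopen W)
    (h0 : ∀ x : X, g x ∈ Set.range (P1.sect S 0) → x ∈ W) : W = Set.univ := by
  refine Set.eq_univ_of_forall fun x => by_contra fun hx => ?_
  obtain ⟨z, hz, hzx⟩ := (mem_iff_sect_mem (isClopen_image g hW.compl) (g x)).mp ⟨x, hx, rfl⟩
  exact hz (h0 z ⟨_, hzx.symm⟩)

theorem exists_mem_connectedComponent [PreconnectedSpace S] (x : X)
    (p : ↥(CohB1.ProjSpaceOver 1 S)) : ∃ y ∈ connectedComponent x, g y = p := by
  have : PreconnectedSpace ↥(CohB1.ProjSpaceOver 1 S) := by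
    refine preconnectedSpace_iff_clopen.mpr fun C hC => ?_
    rcases isClopen_iff.mp (hC.preimage (P1.sect S 0).continuous) with h | h
    · exact Or.inl (Set.eq_empty_of_forall_notMem fun y hy =>
        (Set.eq_empty_iff_forall_notMem.mp h) _ ((mem_iff_sect_mem hC y).mp hy))
    · exact Or.inr (Set.eq_univ_of_forall fun y => (mem_iff_sect_mem hC y).mpr
        (Set.eq_univ_iff_forall.mp h _))
  have hfin : (g ⁻¹' {p}).Finite := g.finite_preimage_singleton p
  have hmeet : ∀ U : Set X, IsClopen U → U.Nonempty → (U ∩ g ⁻¹' {p}).Nonempty := fun U hU hne => by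
    obtain ⟨y, hy, hyp⟩ := ((isClopen_iff.mp (isClopen_image g hU)).resolve_left
      (hne.image g).ne_empty).symm.le (Set.mem_univ p)
    exact ⟨y, hy, hyp⟩
  let P : ℕ → Prop := fun n => ∃ U : Set X, IsClopen U ∧ x ∈ U ∧ (U ∩ g ⁻¹' {p}).ncard = n
  have hP : ∃ n, P n := ⟨_, Set.univ, isClopen_univ, trivial, rfl⟩
  classical
  obtain ⟨U, hU, hxU, hn⟩ := Nat.find_spec hP
  have hpre : _root_.IsPreconnected U := by
    rw [isPreconnected_iff_preconnectedSpace, preconnectedSpace_iff_clopen]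
    intro C hC
    by_contra! hne
    have hCX : ∀ D : Set U, IsClopen D → IsClopen (Subtype.val '' D) := fun D hD =>
      ⟨hU.1.isClosedEmbedding_subtypeVal.isClosedMap _ hD.1,
        hU.2.isOpenEmbedding_subtypeVal.isOpenMap _ hD.2⟩
    have key : ∀ D : Set U, IsClopen D → D ≠ Set.univ → ⟨x, hxU⟩ ∈ D → False := by
      intro D hD hne' hxD
      obtain ⟨⟨z, hz⟩, hzD⟩ := (Set.ne_univ_iff_exists_notMem D).mp hne'
      obtain ⟨w, ⟨⟨w', hw', rfl⟩, hwp⟩⟩ :=
        hmeet _ (hCX Dᶜ hD.compl) ⟨z, ⟨z, hz⟩, hzD, rfl⟩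
      refine (Set.ncard_lt_ncard (s := Subtype.val '' D ∩ g ⁻¹' {p}) ?_
        (hfin.subset Set.inter_subset_right)).not_ge (hn.le.trans (Nat.find_min' hP
          ⟨_, hCX D hD, ⟨⟨x, hxU⟩, hxD, rfl⟩, rfl⟩))
      refine ⟨fun y hy => ⟨by obtain ⟨y', -, rfl⟩ := hy.1; exact y'.2, hy.2⟩, fun h => ?_⟩
      obtain ⟨w'', hw'', e⟩ := (h ⟨w'.2, hwp⟩).1
      exact hw' (Subtype.ext e ▸ hw'')
    by_cases hx : (⟨x, hxU⟩ : U) ∈ C
    · exact key C hC hne.2 hx
    · exact key Cᶜ hC.compl (fun h => hne.1.ne_empty (Set.compl_univ_iff.mp h)) hx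
  obtain ⟨y, hy, hyp⟩ := hmeet U hU ⟨x, hxU⟩
  exact ⟨y, hpre.subset_connectedComponent hxU hy, hyp⟩

end Groth.Agent.P1FinClopen
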