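import Groth.Statements.S0426
import Mathlib

set_option autoImplicit false
universe u
open FlatMor TensorProduct

namespace Groth.Agent.S0426

theorem isIdempotentElem_comap {A B : Type u} [CommRing A] [CommRing B] [Algebra A B]
    [Module.Flat A B] (I : Ideal A) [I.IsMaximal] (J : Ideal B) [J.Pure] (hJ : J ≠ ⊤)
    (hIJ : J.comap (algebraMap A B) = I) : IsIdempotentElem I := by
  refine le_antisymm Ideal.mul_le_left fun x hx => ?_
  obtain ⟨y, hy, hxy⟩ := Ideal.exists_eq_mul_of_pure (I := J) (x := algebraMap A B x)
    (Ideal.mem_comap.mp (hIJ.ge hx))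
  have h1 : (1 - y) * algebraMap A B x = 0 := by
    rw [sub_mul, one_mul, mul_comm y, ← hxy, sub_self]
  obtain ⟨z, hz, hzI⟩ : ∃ z : A, z * x = 0 ∧ z ∉ I := by
    by_contra! hc
    let m : A →ₗ[A] A := LinearMap.mulLeft A x
    have hex : Function.Exact (LinearMap.ker m).subtype m := LinearMap.exact_subtype_ker_map m
    have hex' := Module.Flat.lTensor_exact B hex
    obtain ⟨w, hw⟩ := (hex' ((1 - y) ⊗ₜ 1)).mp (by
      apply (TensorProduct.rid A B).injective
      simp only [LinearMap.lTensor_tmul, map_zero, TensorProduct.rid_tmul, m,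
        LinearMap.mulLeft_apply, mul_one]
      rw [Algebra.smul_def, mul_comm]; exact h1)
    have hw' : TensorProduct.rid A B ((LinearMap.ker m).subtype.lTensor B w) ∈ J := by
      clear hw
      induction w using TensorProduct.induction_on with
      | zero => simp
      | tmul b a =>
        simp only [LinearMap.lTensor_tmul, TensorProduct.rid_tmul, Submodule.subtype_apply]
        rw [Algebra.smul_def]
        refine Ideal.mul_mem_right _ _ (Ideal.mem_comap.mp (hIJ.ge (hc a ?_)))
        rw [mul_comm]; exact a.2
      | add a b ha hb => simp only [map_add]; exact add_mem ha hb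
    rw [hw, TensorProduct.rid_tmul, one_smul] at hw'
    exact hJ ((Ideal.eq_top_iff_one _).mpr (by simpa using add_mem hw' hy))
  obtain ⟨a, i, hi, hai⟩ := Ideal.IsMaximal.exists_inv (I := I) inferInstance hzI
  have : x = i * x := by
    calc x = (a * z + i) * x := by rw [hai, one_mul]
    _ = i * x := by rw [add_mul, mul_assoc, hz, mul_zero, zero_add]
  rw [this]
  exact Ideal.mul_mem_mul hi hx

theorem formallyUnramified_of_algHom {K M L : Type u} [CommRing K] [Field M] [CommRing L]
    [Nontrivial L] [Algebra K M] [Algebra K L] [Algebra.WeaklyEtale K L] (f : M →ₐ[K] L)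
    (hf : f.Flat) : Algebra.FormallyUnramified K M := by
  constructor
  show Subsingleton (KaehlerDifferential.ideal K M).Cotangent
  rw [Ideal.cotangent_subsingleton_iff]
  have hφ := RingHom.Flat.tensorProductMap hf hf
  let φ : M ⊗[K] M →+* L ⊗[K] L := (Algebra.TensorProduct.map f f).toRingHom
  letI := φ.toAlgebra
  haveI : Module.Flat (M ⊗[K] M) (L ⊗[K] L) := hφ
  let q : L ⊗[K] L →+* L := (Algebra.TensorProduct.lmul' K (S := L)).toRingHom
  have hq : Function.Surjective q := fun x => ⟨x ⊗ₜ 1, by simp [q]⟩
  haveI : (RingHom.ker q).Pure := by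
    letI := q.toAlgebra
    haveI : Module.Flat (L ⊗[K] L) L := Algebra.WeaklyEtale.flat_lmul' K L
    exact Module.Flat.of_linearEquiv
      ((Ideal.quotientKerAlgEquivOfSurjective (f := Algebra.ofId (L ⊗[K] L) L) hq).toLinearEquiv)
  haveI : (KaehlerDifferential.ideal K M).IsMaximal :=
    RingHom.ker_isMaximal_of_surjective _ (fun x => ⟨x ⊗ₜ 1, by simp⟩)
  refine isIdempotentElem_comap _ (RingHom.ker q) (RingHom.ker_ne_top q) ?_
  ext y
  have hcomm : Algebra.TensorProduct.lmul' K (S := L) (Algebra.TensorProduct.map f f y) =
      f (Algebra.TensorProduct.lmul' K (S := M) y) := by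
    induction y using TensorProduct.induction_on with
    | zero => simp
    | tmul a b => simp
    | add a b ha hb => simp [ha, hb]
  show Algebra.TensorProduct.lmul' K (S := L) (Algebra.TensorProduct.map f f y) = 0 ↔
    Algebra.TensorProduct.lmul' K (S := M) y = 0
  rw [hcomm]
  exact map_eq_zero_iff f f.toRingHom.injective

/-- A field extension L/K such that L is weakly étale over K (equivalently the multiplication map of L
⊗_K L is flat) is algebraic and separable. -/
theorem result {K L : Type u} [Field K] [Field L] [Algebra K L] [Algebra.WeaklyEtale K L] : Algebra.IsSeparable K L := by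
  refine ⟨fun t => ?_⟩
  let M := IntermediateField.adjoin K ({t} : Set L)
  have : Algebra.EssFiniteType K M :=
    IntermediateField.essFiniteType_iff.mpr
      (by simpa [M] using IntermediateField.fg_adjoin_finset (F := K) ({t} : Finset L))
  haveI : Algebra.FormallyUnramified K M :=
    formallyUnramified_of_algHom M.val (inferInstance : Module.Flat M L)
  have : Algebra.IsSeparable K M := Algebra.FormallyUnramified.isSeparable K M
  have ht : t ∈ M := IntermediateField.mem_adjoin_simple_self K t
  have h := Algebra.IsSeparable.isSeparable K (⟨t, ht⟩ : M)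
  rw [IsSeparable, ← minpoly.algHom_eq M.val M.val.injective] at h
  exact h

end Groth.Agent.S0426
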