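import Groth.Statements.S7618
import Mathlib

set_option autoImplicit false
universe u
open CategoryTheory CategoryTheory.Limits AlgebraicGeometry
open Variety

set_option backward.isDefEq.respectTransparency false
namespace Groth.Agent.S7618

section
open CategoryTheory AlgebraicGeometry

theorem idem_trivial {X : Scheme.{u}} [ConnectedSpace X] (e : Γ(X, ⊤)) (he : IsIdempotentElem e) : e = 0 ∨ e = 1 := by
  have hcov : (X.basicOpen e : Set X) ∪ (X.basicOpen (1 - e) : Set X) = Set.univ := Set.eq_univ_of_forall fun x => by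
    rcases IsLocalRing.isUnit_or_isUnit_of_add_one (add_sub_cancel (X.presheaf.germ ⊤ x trivial e) 1) with h | h
    · exact Or.inl ((Scheme.mem_basicOpen_top X e x).2 h)
    · refine Or.inr ((Scheme.mem_basicOpen_top X (1 - e) x).2 ?_)
      rwa [map_sub, map_one]
  have hdis : (X.basicOpen e : Set X) ∩ (X.basicOpen (1 - e) : Set X) = ∅ := by
    rw [← TopologicalSpace.Opens.coe_inf, ← Scheme.basicOpen_mul, mul_sub, mul_one, he.eq, sub_self, Scheme.basicOpen_zero]
    rfl
  have hclopen : IsClopen (X.basicOpen e : Set X) := ⟨by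
    rw [← isOpen_compl_iff, show (X.basicOpen e : Set X)ᶜ = (X.basicOpen (1 - e) : Set X) from Set.ext fun x =>
      ⟨fun h => ((Set.eq_univ_iff_forall.1 hcov x).resolve_left h), fun h h' => (Set.eq_empty_iff_forall_notMem.1 hdis x) ⟨h', h⟩⟩]
    exact (X.basicOpen (1 - e)).2, (X.basicOpen e).2⟩
  have hunit : ∀ a : Γ(X, ⊤), (X.basicOpen a : Set X) = Set.univ → IsUnit a := fun a ha =>
    X.toRingedSpace.isUnit_of_isUnit_germ ⊤ a fun x hx => (Scheme.mem_basicOpen_top X a x).1 (Set.eq_univ_iff_forall.1 ha x)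
  rcases isClopen_iff.1 hclopen with h | h
  · left
    rw [h, Set.empty_union] at hcov
    exact (IsUnit.mul_left_eq_zero (hunit _ hcov)).1 (by rw [mul_sub, mul_one, he.eq, sub_self])
  · right
    exact (hunit _ h).mul_left_cancel (by rw [he.eq, mul_one])

theorem isField_integralClosure {k R : Type*} [Field k] [CommRing R] [Nontrivial R] [IsReduced R] [Algebra k R]
    (hR : ∀ e : R, IsIdempotentElem e → e = 0 ∨ e = 1) : IsField (integralClosure k R) := by
  refine { exists_pair_ne := exists_pair_ne _, mul_comm := mul_comm, mul_inv_cancel := ?_ }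
  rintro ⟨x, hx⟩ hne
  let A := Algebra.adjoin k ({x} : Set R)
  haveI : Module.Finite k A := Module.Finite.iff_fg.2 hx.fg_adjoin_singleton
  haveI : IsArtinianRing A := IsArtinianRing.of_finite k A
  let xA : A := ⟨x, Algebra.self_mem_adjoin_singleton k x⟩
  obtain ⟨n, hn⟩ := IsArtinian.exists_pow_succ_smul_dvd xA (1 : A)
  obtain ⟨y, hy⟩ := hn
  simp only [smul_eq_mul, mul_one] at hy
  have hstep : ∀ j : ℕ, xA ^ n = xA ^ (n + j) * y ^ j := by
    intro j
    induction j with
    | zero => simp
    | succ j ih =>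
      calc xA ^ n = xA ^ (n + 1) * y := hy.symm
        _ = xA ^ n * (xA * y) := by ring
        _ = xA ^ (n + j) * y ^ j * (xA * y) := by rw [← ih]
        _ = _ := by ring
  have he : IsIdempotentElem ((xA ^ n * y ^ n : A) : R) := by
    refine congrArg Subtype.val (show xA ^ n * y ^ n * (xA ^ n * y ^ n) = xA ^ n * y ^ n from ?_)
    calc _ = xA ^ (n + n) * y ^ n * y ^ n := by ring
      _ = _ := by rw [← hstep n]
  rcases hR _ he with h | h
  · have h0 : xA ^ n * y ^ n = 0 := Subtype.ext h
    have : xA ^ n = 0 := by rw [hstep n, pow_add, mul_assoc, h0, mul_zero]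
    exact absurd (Subtype.ext (IsNilpotent.eq_zero ⟨n, by simpa [xA] using congrArg Subtype.val this⟩ : x = 0)) hne
  · rcases Nat.eq_zero_or_pos n with rfl | hpos
    · refine ⟨⟨(y : R), ?_⟩, Subtype.ext ?_⟩
      · exact adjoin_le_integralClosure hx y.2
      · simpa [xA] using congrArg Subtype.val hy
    · refine ⟨⟨((xA ^ (n - 1) * y ^ n : A) : R), adjoin_le_integralClosure hx (xA ^ (n - 1) * y ^ n).2⟩, Subtype.ext ?_⟩
      show x * ((xA ^ (n - 1) * y ^ n : A) : R) = 1
      rw [← h]
      show ((xA * (xA ^ (n - 1) * y ^ n) : A) : R) = _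
      rw [← mul_assoc, ← pow_succ', Nat.sub_add_cancel hpos]

end


/-- Let X be a connected reduced scheme over a field k. Then the global functions on X that are integral
over k form a field. -/
theorem result (k : Type u) [Field k] (X : Scheme.{u}) [X.Over (Spec (CommRingCat.of k))] [ConnectedSpace ↥X] [IsReduced X] :
    letI := ((X ↘ (Spec (CommRingCat.of k))).appTop.hom.comp (Scheme.ΓSpecIso (CommRingCat.of k)).inv.hom : k →+* Γ(X, ⊤)).toAlgebra
    IsField ↥(integralClosure k ↑Γ(X, ⊤)) := by
  letI := ((X ↘ (Spec (CommRingCat.of k))).appTop.hom.comp (Scheme.ΓSpecIso (CommRingCat.of k)).inv.hom : k →+* Γ(X, ⊤)).toAlgebra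
  haveI : Nonempty X := ConnectedSpace.toNonempty
  haveI : Nontrivial Γ(X, ⊤) := (X.presheaf.germ ⊤ (Classical.arbitrary X) trivial).hom.domain_nontrivial
  exact isField_integralClosure (fun e he => idem_trivial e he)

end Groth.Agent.S7618
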