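import Groth.Statements.S14401
import Groth.Agent.CompLib.Basic

set_option autoImplicit false
universe u
open CategoryTheory AlgebraicGeometry
open Props

namespace Groth.Agent.S14401

/-- Let X be a Noetherian scheme all of whose local rings are integral domains. Then each irreducible
component of X is an open subset of X, and each point of X lies on exactly one irreducible component
(so the irreducible components of X are pairwise disjoint, open and closed, and coincide with the
connected components). (The published statement assumes X regular and Noetherian; its argument uses
only that the local rings of X are domains, which is the hypothesis taken here.) -/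
theorem result (X : Scheme.{u}) [AlgebraicGeometry.IsNoetherian X]
    (hX : ∀ x : X, IsDomain (X.presheaf.stalk x)) :
    (∀ Z ∈ irreducibleComponents (X : Type u), IsOpen Z) ∧
      ∀ x : X, ∃! Z, Z ∈ irreducibleComponents (X : Type u) ∧ x ∈ Z := by
  have hdisj := (Groth.Agent.CompLib.pairwiseDisjoint_iff X).2 fun x => by
    haveI := hX x
    rw [nilradical_eq_zero]; exact Ideal.isPrime_bot
  have hfin : (irreducibleComponents (X : Type u)).Finite := TopologicalSpace.NoetherianSpace.finite_irreducibleComponents
  refine ⟨fun Z hZ => ?_, fun x => ?_⟩
  · have hcl : IsClosed (⋃₀ (irreducibleComponents (X : Type u) \ {Z})) := by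
      rw [Set.sUnion_eq_biUnion]
      exact (hfin.subset Set.sdiff_subset).isClosed_biUnion fun W hW =>
        isClosed_of_mem_irreducibleComponents _ hW.1
    have : Z = (⋃₀ (irreducibleComponents (X : Type u) \ {Z}))ᶜ := by
      ext p
      constructor
      · rintro hp ⟨W, ⟨hW, hne⟩, hpW⟩
        exact Set.disjoint_left.1 (hdisj hZ hW (Ne.symm hne)) hp hpW
      · intro hp
        have hcov : p ∈ ⋃₀ irreducibleComponents (X : Type u) := by
          rw [sUnion_irreducibleComponents]; trivial
        obtain ⟨W, hW, hpW⟩ := hcov
        by_cases h : W = Z
        · exact h ▸ hpW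
        · exact absurd ⟨W, ⟨hW, h⟩, hpW⟩ hp
    rw [this]
    exact hcl.isOpen_compl
  · refine ⟨irreducibleComponent x, ⟨irreducibleComponent_mem_irreducibleComponents x, mem_irreducibleComponent⟩, ?_⟩
    rintro W ⟨hW, hxW⟩
    by_contra h
    exact Set.disjoint_left.1 (hdisj hW (irreducibleComponent_mem_irreducibleComponents x) h) hxW mem_irreducibleComponent

end Groth.Agent.S14401
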