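import Groth.Statements.S5163
import Mathlib
-- import your own Groth.Agent.* helpers here

set_option autoImplicit false
universe u
open LocCoh

namespace Groth.Agent.S5163

/-- For modules over a Noetherian ring. Let P be a finite A-module and H any A-module with Supp H ⊆ Supp
P. If Hom_A(P, H) = 0 then H = 0. (The published lemma is stated over an arbitrary prescheme; its
proof uses that a nonzero module has an associated prime, so the ring is taken Noetherian here.) -/
theorem result (A : Type u) [CommRing A] [IsNoetherianRing A] (P H : Type u) [AddCommGroup P] [Module A P] [Module.Finite A P] [AddCommGroup H] [Module A H] (hsupp : Module.support A H ⊆ Module.support A P) (hhom : Subsingleton (P →ₗ[A] H)) : Subsingleton H := by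
  by_contra hne
  rw [not_subsingleton_iff_nontrivial] at hne
  obtain ⟨p, hp⟩ := associatedPrimes.nonempty A H
  have hpi : p.IsPrime := IsAssociatedPrime.isPrime hp
  obtain ⟨-, x, hx⟩ := isAssociatedPrime_iff.1 (AssociatedPrimes.mem_iff.1 hp)
  have hsupp' : (⟨p, hpi⟩ : PrimeSpectrum A) ∈ Module.support A H := by
    rw [Module.mem_support_iff_exists_annihilator]
    refine ⟨x, fun r hr => ?_⟩
    rw [Submodule.mem_annihilator_span_singleton] at hr
    show r ∈ p
    rw [hx, Submodule.mem_colon_singleton, Submodule.mem_bot]
    exact hr
  have hle : Module.annihilator A P ≤ p := Module.annihilator_le_of_mem_support (hsupp hsupp')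
  let Q := Submodule.span A ({x} : Set H)
  have hQ : Subsingleton (P →ₗ[A] Q) := by
    refine ⟨fun f g => LinearMap.ext fun z => Subtype.ext ?_⟩
    exact LinearMap.congr_fun (Subsingleton.elim (Q.subtype ∘ₗ f) (Q.subtype ∘ₗ g)) z
  obtain ⟨r, hr, hreg⟩ := IsSMulRegular.subsingleton_linearMap_iff.1 hQ
  have hrx : r • x = 0 := by
    have := hle hr
    rw [hx, Submodule.mem_colon_singleton, Submodule.mem_bot] at this
    exact this
  have hx0 : x = 0 :=
    congrArg Subtype.val (hreg.right_eq_zero_of_smul
      (x := (⟨x, Submodule.mem_span_singleton_self x⟩ : Q)) (Subtype.ext hrx))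
  apply hpi.ne_top
  rw [hx, hx0, Ideal.eq_top_iff_one, Submodule.mem_colon_singleton, smul_zero]
  exact zero_mem _

end Groth.Agent.S5163
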