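import Groth.Statements.S1440
import Mathlib.Topology.Spectral.ConstructibleTopology
import Mathlib.RingTheory.Spectrum.Prime.Chevalley


set_option autoImplicit false
set_option backward.isDefEq.respectTransparency false
universe u
open FlatMor

namespace Groth.Agent.S1440

open AlgebraicGeometry CategoryTheory CategoryTheory.Limits TopologicalSpace

open MvPolynomial in
/-- a point with trivial residue extension extends to a section over a finitely presented stratum -/
theorem exists_alg {A B : Type u} [CommRing A] [CommRing B] [Algebra A B] [Algebra.FinitePresentation A B]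
    (q : Ideal B) [q.IsPrime]
    (h : ∀ b : B, ∃ a s : A, s ∉ q.comap (algebraMap A B) ∧ algebraMap A B s * b - algebraMap A B a ∈ q) :
    ∃ (f : A) (I : Ideal A), f ∉ q.comap (algebraMap A B) ∧ I.FG ∧ I ≤ q.comap (algebraMap A B) ∧
      Nonempty (B →ₐ[A] Localization.Away (Ideal.Quotient.mk I f)) := by
  classical
  obtain ⟨n, φ, hφ, hker⟩ := Algebra.FinitePresentation.out (R := A) (A := B)
  obtain ⟨rs, hrs⟩ := hker
  let p := q.comap (algebraMap A B)
  choose a s hs hq using fun i => h (φ (X i))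
  let f : A := ∏ i, s i
  have hf : f ∉ p := fun hh => by
    obtain ⟨i, _, hi⟩ := Ideal.IsPrime.prod_mem_iff.mp hh
    exact hs i hi
  let Af := Localization.Away f
  have hu : ∀ i, IsUnit (algebraMap A Af (s i)) := fun i =>
    isUnit_of_dvd_unit (map_dvd _ (Finset.dvd_prod_of_mem s (Finset.mem_univ i)))
      (IsLocalization.Away.algebraMap_isUnit f)
  let c : Fin n → Af := fun i => algebraMap A Af (a i) * ↑(hu i).unit⁻¹
  -- evaluation at `c` lands in `p` on relations
  haveI : q.IsPrime := inferInstance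
  have hres : ∀ r : MvPolynomial (Fin n) A, φ r = 0 →
      ∀ (m : ℕ) (d : A), aeval c r * algebraMap A Af (f ^ m) = algebraMap A Af d → d ∈ p := by
    intro r hr m d hd
    let κ := q.ResidueField
    have hfu : IsUnit (algebraMap A κ f) := by
      refine Ne.isUnit fun h0 => hf ?_
      rw [IsScalarTower.algebraMap_apply A B κ, Ideal.algebraMap_residueField_eq_zero] at h0
      exact h0
    let ψ : Af →ₐ[A] κ := IsLocalization.Away.liftAlgHom f (f := Algebra.ofId A κ) hfu
    have hψc : ∀ i, ψ (c i) = algebraMap B κ (φ (X i)) := by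
      intro i
      apply ((hu i).map ψ).mul_left_cancel
      rw [← map_mul, mul_left_comm, IsUnit.mul_val_inv, mul_one, AlgHom.commutes, AlgHom.commutes,
        IsScalarTower.algebraMap_apply A B κ (s i), IsScalarTower.algebraMap_apply A B κ (a i), ← map_mul,
        eq_comm, ← sub_eq_zero, ← map_sub, Ideal.algebraMap_residueField_eq_zero]
      exact hq i
    have hcomp : ψ.comp (aeval c) = (IsScalarTower.toAlgHom A B κ).comp φ :=
      MvPolynomial.algHom_ext fun i => by simpa using hψc i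
    have h1 := congrArg ψ hd
    have h2 : ψ (aeval c r) = 0 := by
      rw [← AlgHom.comp_apply, hcomp, AlgHom.comp_apply, hr, map_zero]
    rw [map_mul, h2, zero_mul, AlgHom.commutes, IsScalarTower.algebraMap_apply A B κ] at h1
    exact (Ideal.algebraMap_residueField_eq_zero (I := q)).mp h1.symm
  choose md hd using fun r : MvPolynomial (Fin n) A => IsLocalization.Away.surj f (aeval c r)
  choose d hd using hd
  let I : Ideal A := Ideal.span ((rs.image d : Finset A) : Set A)
  refine ⟨f, I, hf, ⟨_, rfl⟩, Ideal.span_le.mpr fun x hx => ?_, ⟨?_⟩⟩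
  · obtain ⟨r, hr, rfl⟩ := Finset.mem_image.mp hx
    have hr0 : r ∈ RingHom.ker φ.toRingHom := hrs ▸ Ideal.subset_span hr
    exact hres r hr0 (md r) (d r) (by rw [map_pow]; exact hd r)
  let R := Localization.Away (Ideal.Quotient.mk I f)
  have hfR : IsUnit (algebraMap A R f) := by
    rw [IsScalarTower.algebraMap_apply A (A ⧸ I) R]
    exact IsLocalization.Away.algebraMap_isUnit (Ideal.Quotient.mk I f)
  let π : Af →ₐ[A] R := IsLocalization.Away.liftAlgHom f (f := Algebra.ofId A R) hfR
  refine AlgHom.liftOfSurjective φ hφ (π.comp (aeval c)) ?_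
  intro r hr
  rw [RingHom.mem_ker] at hr ⊢
  have hle : RingHom.ker φ.toRingHom ≤ RingHom.ker (π.comp (aeval c)).toRingHom := by
    rw [← hrs, Ideal.span_le]
    intro r hr
    show π (aeval c r) = 0
    apply ((hfR.pow (md r))).mul_left_injective
    simp only [zero_mul]
    have h1 := congrArg π (hd r)
    rw [map_mul, map_pow, AlgHom.commutes, AlgHom.commutes] at h1
    rw [h1, IsScalarTower.algebraMap_apply A (A ⧸ I) R, Ideal.Quotient.algebraMap_eq,
      Ideal.Quotient.eq_zero_iff_mem.mpr (Ideal.subset_span (Finset.mem_image.mpr ⟨r, hr, rfl⟩)), map_zero]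
  exact hle hr

theorem exists_piece {X Y : Scheme.{u}} (f : X ⟶ Y) [LocallyOfFinitePresentation f] [QuasiSeparatedSpace Y]
    (hcd : ∀ y : Y, ∃ x : X, f x = y ∧ Function.Bijective (f.residueFieldMap x))
    (U : Y.affineOpens) (p : PrimeSpectrum Γ(Y, U.1)) :
    ∃ (Z : Scheme.{u}) (z : Z ⟶ Y) (C : Set (PrimeSpectrum Γ(Y, U.1))), IsImmersion z ∧
      LocallyOfFinitePresentation z ∧ QuasiCompact z ∧ (∃ s : Z ⟶ pullback f z, s ≫ pullback.snd f z = 𝟙 Z) ∧
      Topology.IsConstructible C ∧ p ∈ C ∧ ∀ q ∈ C, U.2.fromSpec q ∈ Set.range z := by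
  obtain ⟨x, hx, hbij⟩ := hcd (U.2.fromSpec p)
  have hxU : f x ∈ U.1 := by
    show f x ∈ (U.1 : Set Y)
    rw [hx, ← U.2.range_fromSpec]
    exact Set.mem_range_self p
  obtain ⟨V, hV, hxV, hVU⟩ := exists_isAffineOpen_mem_and_subset (x := x) (U := f ⁻¹ᵁ U.1) hxU
  letI := (f.appLE U.1 V hVU).hom.toAlgebra
  haveI : Algebra.FinitePresentation Γ(Y, U.1) Γ(X, V) := f.finitePresentation_appLE U.2 hV hVU
  let q : Ideal Γ(X, V) := RingHom.ker (X.evaluation V x hxV).hom
  haveI : q.IsPrime := RingHom.ker_isPrime _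
  have hev : ∀ a, X.evaluation V x hxV (f.appLE U.1 V hVU a) =
      f.residueFieldMap x (Y.evaluation U.1 (f x) hxU a) := by
    intro a
    rw [Scheme.evaluation_naturality_apply]
    show X.residue x (X.presheaf.germ V x hxV ((f.app U.1 ≫ X.presheaf.map (homOfLE hVU).op) a)) =
      X.residue x (X.presheaf.germ (f ⁻¹ᵁ U.1) x hxU (f.app U.1 a))
    rw [CommRingCat.comp_apply]
    exact congrArg (X.residue x) (TopCat.Presheaf.germ_res_apply X.presheaf (homOfLE hVU) x hxV _)
  have hinj : Function.Injective (f.residueFieldMap x) := hbij.1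
  have hp : q.comap (algebraMap Γ(Y, U.1) Γ(X, V)) = p.asIdeal := by
    have hpe : p = U.2.primeIdealOf ⟨f x, hxU⟩ := by
      apply U.2.fromSpec.isOpenEmbedding.injective
      rw [U.2.fromSpec_primeIdealOf]
      exact hx.symm
    rw [hpe, IsAffineOpen.primeIdealOf_eq_map_closedPoint]
    ext a
    change X.evaluation V x hxV (f.appLE U.1 V hVU a) = 0 ↔ _
    rw [hev, map_eq_zero_iff _ hinj]
    show Y.residue (f x) (Y.presheaf.germ U.1 (f x) hxU a) = 0 ↔ _
    exact IsLocalRing.residue_eq_zero_iff _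
  obtain ⟨f₀, I, hf₀, hI, hIp, ⟨σ⟩⟩ := exists_alg (A := Γ(Y, U.1)) q fun b => by
    obtain ⟨w, hw⟩ := hbij.2 (X.evaluation V x hxV b)
    obtain ⟨w, rfl⟩ := Y.residue_surjective (f x) w
    letI := TopCat.Presheaf.algebra_section_stalk Y.presheaf (⟨f x, hxU⟩ : U.1)
    haveI := U.2.isLocalization_stalk ⟨f x, hxU⟩
    obtain ⟨⟨a, s⟩, has⟩ := IsLocalization.surj (U.2.primeIdealOf ⟨f x, hxU⟩).asIdeal.primeCompl w
    refine ⟨a, s, fun hs => s.2 ?_, ?_⟩
    · rw [hp] at hs
      have hpe : p = U.2.primeIdealOf ⟨f x, hxU⟩ := by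
        apply U.2.fromSpec.isOpenEmbedding.injective
        rw [U.2.fromSpec_primeIdealOf]
        exact hx.symm
      exact hpe ▸ hs
    · show X.evaluation V x hxV (f.appLE U.1 V hVU s * b - f.appLE U.1 V hVU a) = 0
      rw [map_sub, map_mul, hev, hev, ← hw, ← map_mul, sub_eq_zero]
      congr 1
      show Y.residue (f x) (Y.presheaf.germ U.1 (f x) hxU s) * Y.residue (f x) w =
        Y.residue (f x) (Y.presheaf.germ U.1 (f x) hxU a)
      rw [← map_mul, mul_comm]
      exact congrArg (Y.residue (f x)) has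
  let R := Localization.Away (Ideal.Quotient.mk I f₀)
  let ρ : Γ(Y, U.1) ⟶ CommRingCat.of R := CommRingCat.ofHom (algebraMap Γ(Y, U.1) R)
  have hρ : algebraMap Γ(Y, U.1) R = (algebraMap (Γ(Y, U.1) ⧸ I) R).comp (Ideal.Quotient.mk I) :=
    IsScalarTower.algebraMap_eq Γ(Y, U.1) (Γ(Y, U.1) ⧸ I) R
  have hρfp : ρ.hom.FinitePresentation := by
    show (algebraMap Γ(Y, U.1) R).FinitePresentation
    rw [hρ]
    refine RingHom.FinitePresentation.comp
      (RingHom.finitePresentation_algebraMap.mpr (IsLocalization.Away.finitePresentation (Ideal.Quotient.mk I f₀)))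
      (RingHom.FinitePresentation.of_surjective (Ideal.Quotient.mk I) Ideal.Quotient.mk_surjective
        (by rw [Ideal.mk_ker]; exact hI))
  haveI : LocallyOfFinitePresentation (Spec.map ρ) :=
    (HasRingHomProperty.Spec_iff (P := @LocallyOfFinitePresentation)).mpr hρfp
  haveI : IsImmersion (Spec.map ρ) := by
    have e : Spec.map ρ = Spec.map (CommRingCat.ofHom (algebraMap (Γ(Y, U.1) ⧸ I) R)) ≫
        Spec.map (CommRingCat.ofHom (Ideal.Quotient.mk I)) := by
      rw [← Spec.map_comp, ← CommRingCat.ofHom_comp, ← hρ]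
    haveI : IsOpenImmersion (Spec.map (CommRingCat.ofHom (algebraMap (Γ(Y, U.1) ⧸ I) R))) :=
      IsOpenImmersion.of_isLocalization (Ideal.Quotient.mk I f₀)
    haveI : IsClosedImmersion (Spec.map (CommRingCat.ofHom (Ideal.Quotient.mk I))) :=
      IsClosedImmersion.spec_of_surjective _ Ideal.Quotient.mk_surjective
    rw [e]
    infer_instance
  let zz := Spec.map ρ ≫ U.2.fromSpec
  have hqc : QuasiCompact U.2.fromSpec := inferInstance
  let τ : Spec (CommRingCat.of R) ⟶ X := Spec.map (CommRingCat.ofHom σ.toRingHom) ≫ hV.fromSpec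
  have hτ : τ ≫ f = 𝟙 _ ≫ zz := by
    rw [Category.id_comp, Category.assoc, ← IsAffineOpen.SpecMap_appLE_fromSpec f U.2 hV hVU,
      ← Spec.map_comp_assoc]
    congr 2
    ext a
    exact σ.commutes a
  refine ⟨Spec (CommRingCat.of R), zz, Set.range (PrimeSpectrum.comap ρ.hom), inferInstance, inferInstance,
    inferInstance, ⟨pullback.lift τ (𝟙 _) hτ, pullback.lift_snd _ _ _⟩,
    PrimeSpectrum.isConstructible_range_comap hρfp, ?_, ?_⟩
  · let p' : PrimeSpectrum (Γ(Y, U.1) ⧸ I) := ⟨p.asIdeal.map (Ideal.Quotient.mk I),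
      Ideal.map_isPrime_of_surjective Ideal.Quotient.mk_surjective (by rw [Ideal.mk_ker, ← hp]; exact hIp)⟩
    have hp' : p'.asIdeal.comap (Ideal.Quotient.mk I) = p.asIdeal := by
      rw [Ideal.comap_map_of_surjective' _ Ideal.Quotient.mk_surjective, Ideal.mk_ker, sup_eq_left, ← hp]
      exact hIp
    obtain ⟨r, hr⟩ : p' ∈ Set.range (PrimeSpectrum.comap (algebraMap (Γ(Y, U.1) ⧸ I) R)) := by
      rw [PrimeSpectrum.localization_away_comap_range R (Ideal.Quotient.mk I f₀)]
      intro h
      apply hf₀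
      rw [hp, ← hp']
      exact h
    exact ⟨r, by
      show PrimeSpectrum.comap (algebraMap Γ(Y, U.1) R) r = p
      rw [hρ, PrimeSpectrum.comap_comp_apply, hr]; exact PrimeSpectrum.ext hp'⟩
  · rintro _ ⟨r, rfl⟩
    exact ⟨r, rfl⟩

theorem finite_cover_constructible {R : Type u} [CommRing R] (C : PrimeSpectrum R → Set (PrimeSpectrum R))
    (hC : ∀ p, Topology.IsConstructible (C p)) (hp : ∀ p, p ∈ C p) :
    ∃ P : Finset (PrimeSpectrum R), ∀ q, ∃ p ∈ P, q ∈ C p := by
  have hclopen : ∀ s : Set (PrimeSpectrum R), Topology.IsConstructible s →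
      @IsOpen _ (constructibleTopology (PrimeSpectrum R)) s ∧
        @IsOpen _ (constructibleTopology (PrimeSpectrum R)) sᶜ := by
    intro s hs
    induction hs using Topology.IsConstructible.empty_union_induction with
    | open_retrocompact W hW hWc =>
      have hWk : IsCompact W := hWc.isCompact
      exact ⟨hWk.isOpen_constructibleTopology_of_isOpen hW,
        IsCompact.isOpen_constructibleTopology_of_isClosed (by rwa [compl_compl]) hW.isClosed_compl⟩
    | union s _ t _ hs ht =>
      refine ⟨@IsOpen.union _ s t (constructibleTopology _) hs.1 ht.1, ?_⟩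
      rw [Set.compl_union]
      exact @IsOpen.inter _ (constructibleTopology _) sᶜ tᶜ hs.2 ht.2
    | compl s _ hs => exact ⟨hs.2, by rw [compl_compl]; exact hs.1⟩
  haveI : CompactSpace (WithConstructibleTopology (PrimeSpectrum R)) := inferInstance
  let σ : PrimeSpectrum R → Set (WithConstructibleTopology (PrimeSpectrum R)) :=
    fun p => WithTopology.ofTopology ⁻¹' C p
  obtain ⟨P, hP⟩ := isCompact_univ.elim_finite_subcover σ
    (fun p => WithConstructibleTopology.isOpen_iff.mpr (hclopen _ (hC p)).1)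
    (fun q _ => Set.mem_iUnion.mpr ⟨WithTopology.ofTopology q, hp _⟩)
  refine ⟨P, fun q => ?_⟩
  obtain ⟨p, hp', hq⟩ := Set.mem_iUnion₂.mp (hP (Set.mem_univ (WithTopology.toTopology _ q)))
  exact ⟨p, hp', hq⟩

open AlgebraicGeometry CategoryTheory Limits in
/-- Let f : X → Y be locally of finite presentation with Y quasi-compact and quasi-separated, and assume
f is completely decomposed: every point y of Y is the image of a point x at which the residue field
extension is trivial. Then there are finitely many immersions Z_i → Y of finite presentation,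
jointly surjective, such that each base change X ×_Y Z_i → Z_i admits a section. -/
theorem result {X Y : Scheme.{u}} (f : X ⟶ Y) [LocallyOfFinitePresentation f] [CompactSpace ↑Y] [QuasiSeparatedSpace ↑Y]
    (hcd : ∀ y : Y, ∃ x : X, f x = y ∧ Function.Bijective (f.residueFieldMap x)) :
    ∃ (n : ℕ) (Z : Fin n → Scheme.{u}) (z : ∀ i, Z i ⟶ Y), (∀ y : Y, ∃ i, y ∈ Set.range ⇑(z i)) ∧
      ∀ i, IsImmersion (z i) ∧ LocallyOfFinitePresentation (z i) ∧ QuasiCompact (z i) ∧ QuasiSeparated (z i) ∧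
        ∃ s : Z i ⟶ pullback f (z i), s ≫ pullback.snd f (z i) = 𝟙 (Z i) := by
  classical
  have H : ∀ (U : Y.affineOpens) (p : PrimeSpectrum Γ(Y, U.1)), ∃ (Z : Scheme.{u}) (z : Z ⟶ Y)
      (C : Set (PrimeSpectrum Γ(Y, U.1))), IsImmersion z ∧ LocallyOfFinitePresentation z ∧ QuasiCompact z ∧
      (∃ s : Z ⟶ pullback f z, s ≫ pullback.snd f z = 𝟙 Z) ∧ Topology.IsConstructible C ∧ p ∈ C ∧
      ∀ q ∈ C, U.2.fromSpec q ∈ Set.range z := fun U p => exists_piece f hcd U p
  choose Z z C himm hfp hqc hsec hC hpC hrange using H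
  obtain ⟨t, ht⟩ := (CompactSpace.isCompact_univ (X := Y)).elim_finite_subcover
    (fun U : Y.affineOpens => (U.1 : Set Y)) (fun U => U.1.isOpen) (fun s _ => by
      obtain ⟨U, hU, hs, -⟩ := exists_isAffineOpen_mem_and_subset (x := s) (U := (⊤ : Y.Opens)) trivial
      exact Set.mem_iUnion.mpr ⟨⟨U, hU⟩, hs⟩)
  have hfin : ∀ U : Y.affineOpens, ∃ P : Finset (PrimeSpectrum Γ(Y, U.1)),
      ∀ q, ∃ p ∈ P, q ∈ C U p := fun U => finite_cover_constructible (C U) (hC U) (hpC U)
  choose P hP using hfin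
  let J : Finset (Σ U : Y.affineOpens, PrimeSpectrum Γ(Y, U.1)) := t.sigma P
  let e : Fin J.card ≃ J := J.equivFin.symm
  refine ⟨J.card, fun i => Z (e i).1.1 (e i).1.2, fun i => z (e i).1.1 (e i).1.2, fun y => ?_, fun i => ?_⟩
  · obtain ⟨U, hU, hy⟩ := Set.mem_iUnion₂.mp (ht (Set.mem_univ y))
    obtain ⟨p, hp, hq⟩ := hP U (U.2.primeIdealOf ⟨y, hy⟩)
    obtain ⟨i, hi⟩ := e.surjective ⟨⟨U, p⟩, Finset.mem_sigma.mpr ⟨hU, hp⟩⟩
    refine ⟨i, ?_⟩
    have := hrange U p _ hq
    rw [IsAffineOpen.fromSpec_primeIdealOf] at this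
    show y ∈ Set.range (z (e i).1.1 (e i).1.2)
    rw [hi]
    exact this
  · haveI := himm (e i).1.1 (e i).1.2
    exact ⟨himm _ _, hfp _ _, hqc _ _, inferInstance, hsec _ _⟩

end Groth.Agent.S1440
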