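import Groth.Statements.S5929
import Mathlib
import Groth.Agent.FlatRes.Basic
import Groth.Agent.K0Res.Chain

set_option autoImplicit false
set_option linter.style.haveILetI false
universe u
open TensorProduct CategoryTheory
open EGA43

namespace Groth.Agent.S5929
variable (A : Type u) {B : Type u} [CommRing A] [CommRing B] [Algebra A B]

/-- The kernel of a surjection of flat modules is flat. -/
theorem flat_ker' {R M N P : Type u} [CommRing R] [AddCommGroup M] [Module R M] [AddCommGroup N] [Module R N]
    [AddCommGroup P] [Module R P] [Module.Flat R N] [Module.Flat R P] (f : M →ₗ[R] N) (g : N →ₗ[R] P)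
    (hf : Function.Injective f) (hg : Function.Surjective g) (hfg : Function.Exact f g) : Module.Flat R M := by
  rw [Module.Flat.iff_rTensor_injective']
  intro I
  have h1 := LinearMap.lTensor_injective_of_exact_of_flat g hg f hf hfg I
  have h2 := Module.Flat.rTensor_preserves_injective_linearMap (M := N) (I.subtype) (Submodule.injective_subtype I)
  refine Function.Injective.of_comp (f := f.lTensor R) ?_
  have he : f.lTensor R ∘ₗ I.subtype.rTensor M = I.subtype.rTensor N ∘ₗ f.lTensor I := by
    rw [LinearMap.lTensor_comp_rTensor, LinearMap.rTensor_comp_lTensor]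
  rw [← LinearMap.coe_comp, he, LinearMap.coe_comp]
  exact h2.comp h1

def Good (X : ModuleCat.{u} B) : Prop :=
  Module.FinitePresentation B X ∧
    ∃ (_ : Module A X) (_ : IsScalarTower A B X), Module.Flat A X

theorem exists_step [Algebra.FinitePresentation A B] [Module.Flat A B] (X : ModuleCat.{u} B) (hX : Good A X) :
    ∃ (T : ShortComplex (ModuleCat.{u} B)), T.ShortExact ∧ T.X₃ = X ∧
      (Module.Finite B T.X₂ ∧ Module.Free B T.X₂) ∧ Good A T.X₁ := by
  obtain ⟨h1, _, _, h2⟩ := hX
  obtain ⟨n, g, hg⟩ := Module.Finite.exists_fin' B X
  haveI := FlatRes.finitePresentation_ker (A := A) g hg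
  haveI : Module.Flat A (Fin n → B) := Module.Flat.trans A B _
  haveI : Module.Flat A (LinearMap.ker g) :=
    flat_ker' ((LinearMap.ker g).subtype.restrictScalars A) (g.restrictScalars A)
      (Submodule.injective_subtype _) hg (LinearMap.exact_subtype_ker_map g)
  have hT : (ModuleCat.ofHom (LinearMap.ker g).subtype) ≫
      (ModuleCat.ofHom g : ModuleCat.of B (Fin n → B) ⟶ X) = 0 := by ext x; exact x.2
  let T : ShortComplex (ModuleCat.{u} B) := ShortComplex.mk _ _ hT
  refine ⟨T, ?_, rfl, ⟨(inferInstance : Module.Finite B (Fin n → B)), (inferInstance : Module.Free B (Fin n → B))⟩,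
    ⟨(inferInstance : Module.FinitePresentation B (LinearMap.ker g)),
      (inferInstance : Module A (LinearMap.ker g)), (inferInstance : IsScalarTower A B (LinearMap.ker g)),
      (inferInstance : Module.Flat A (LinearMap.ker g))⟩⟩
  refine { exact := ?_
           mono_f := (ModuleCat.mono_iff_injective _).2 (Submodule.injective_subtype _)
           epi_g := (ModuleCat.epi_iff_surjective _).2 hg }
  exact (ShortComplex.moduleCat_exact_iff T).2 fun x hx => ⟨⟨x, hx⟩, rfl⟩

/-- Let A be a commutative ring, B a finitely presented A-algebra which is flat as an A-module, and M a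
finitely presented B-module which is flat as an A-module. Then M admits a left resolution by free
B-modules of finite type: there is a projective resolution of M in the category of B-modules (a
chain complex of projective modules with a quasi-isomorphism to M in degree 0) every term of which
is a finitely generated free B-module. -/
theorem result (A B M : Type u) [CommRing A] [CommRing B] [Algebra A B]
    [Algebra.FinitePresentation A B] [Module.Flat A B] [AddCommGroup M] [Module B M] [Module A M]
    [IsScalarTower A B M] [Module.FinitePresentation B M] [Module.Flat A M] :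
    ∃ P : ProjectiveResolution (ModuleCat.of B M),
      ∀ n : ℕ, Module.Finite B (P.complex.X n) ∧ Module.Free B (P.complex.X n) := by
  classical
  let step : {X : ModuleCat.{u} B // Good A X} → {X : ModuleCat.{u} B // Good A X} := fun X =>
    ⟨(exists_step A X.1 X.2).choose.X₁, (exists_step A X.1 X.2).choose_spec.2.2.2⟩
  let S : ℕ → {X : ModuleCat.{u} B // Good A X} :=
    fun i => step^[i] ⟨ModuleCat.of B M, inferInstanceAs (Module.FinitePresentation B M),
      inferInstanceAs (Module A M), inferInstanceAs (IsScalarTower A B M), inferInstanceAs (Module.Flat A M)⟩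
  let T : ℕ → ShortComplex (ModuleCat.{u} B) := fun i => (exists_step A (S i).1 (S i).2).choose
  have hT : ∀ i, (T i).ShortExact := fun i => (exists_step A (S i).1 (S i).2).choose_spec.1
  have hX₃ : ∀ i, (T i).X₃ = (S i).1 := fun i => (exists_step A (S i).1 (S i).2).choose_spec.2.1
  have hfree : ∀ i, Module.Finite B (T i).X₂ ∧ Module.Free B (T i).X₂ := fun i =>
    (exists_step A (S i).1 (S i).2).choose_spec.2.2.1
  have hlink : ∀ i, (T (i + 1)).X₃ = (T i).X₁ := fun i => by
    rw [hX₃]
    simp only [S, Function.iterate_succ_apply']
    rfl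
  let C := K0Res.complex T hlink
  have hd : C.d 1 0 = K0Res.dT T hlink 0 := K0Res.complex_d T hlink 0
  have h0 : (T 0).X₃ = ModuleCat.of B M := hX₃ 0
  let ε : C.X 0 ⟶ ModuleCat.of B M := (T 0).g ≫ eqToHom h0
  have hε : C.d 1 0 ≫ ε = 0 := by
    rw [hd]
    change ((T 1).g ≫ eqToHom (hlink 0) ≫ (T 0).f) ≫ (T 0).g ≫ eqToHom h0 = 0
    simp only [Category.assoc]
    erw [reassoc_of% (T 0).zero]
    simp
  let π := (ChainComplex.toSingle₀Equiv C (ModuleCat.of B M)).symm ⟨ε, hε⟩
  haveI : QuasiIso π := by
    refine ⟨fun n => ?_⟩
    cases n with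
    | zero =>
      rw [ChainComplex.quasiIsoAt₀_iff, ShortComplex.quasiIso_iff_of_zeros']
      · haveI : Epi ε := by
          haveI : Epi (T 0).g := (hT 0).epi_g
          exact (epi_comp (T 0).g (eqToHom h0) :)
        haveI : Epi (T 1).g := (hT 1).epi_g
        refine ⟨?_, ?_⟩
        · let S' : ShortComplex (ModuleCat.{u} B) := ShortComplex.mk (C.d 1 0) ε hε
          have h' : S'.Exact := by
            let φ : S' ⟶ T 0 :=
              { τ₁ := (T 1).g ≫ eqToHom (hlink 0)
                τ₂ := 𝟙 _
                τ₃ := eqToHom h0.symm
                comm₁₂ := by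
                  dsimp [S']
                  rw [hd]
                  simp [K0Res.dT]
                  exact (Category.comp_id _).symm
                comm₂₃ := by simp [S', ε]; exact Category.id_comp _ }
            haveI : Epi φ.τ₁ := by
              haveI : Epi (T 1).g := (hT 1).epi_g
              exact (epi_comp (T 1).g (eqToHom (hlink 0)) :)
            haveI : IsIso φ.τ₂ := inferInstanceAs (IsIso (𝟙 _))
            haveI : Mono φ.τ₃ := inferInstanceAs (Mono (eqToHom h0.symm))
            exact (ShortComplex.exact_iff_of_epi_of_isIso_of_mono φ).2 (hT 0).exact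
          exact ShortComplex.exact_of_iso (ShortComplex.isoMk (Iso.refl _) (Iso.refl _) (Iso.refl _)
            (by simp) (by simp)) h'
        · simp [π]
          exact ‹Epi ε›
      all_goals rfl
    | succ n =>
      rw [quasiIsoAt_iff_exactAt']
      · exact K0Res.complex_exactAt T hT hlink (n + 1) (by omega)
      · exact ChainComplex.exactAt_succ_single_obj (ModuleCat.of B M) n
  refine ⟨{ complex := C, projective := fun n => ?_, π := π }, hfree⟩
  haveI := (hfree n).2
  exact inferInstanceAs (Projective (T n).X₂)

end Groth.Agent.S5929
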