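import Groth.Statements.S5930
import Mathlib
import Groth.Agent.S5929
import Groth.Agent.FlatRes.FibreFree

set_option autoImplicit false
set_option linter.style.haveILetI false
universe u
open TensorProduct CategoryTheory
open EGA43

namespace Groth.Agent.S5930
variable {A B : Type u} [CommRing A] [CommRing B] [Algebra A B]

/-- Base change of a short exact sequence with flat quotient stays injective on the left. -/
theorem baseChange_injective {K N X : Type u} [AddCommGroup K] [Module B K] [AddCommGroup N] [Module B N]
    [AddCommGroup X] [Module B X] [Module A X] [IsScalarTower A B X] [Module.Flat A X]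
    [Module A K] [IsScalarTower A B K] [Module A N] [IsScalarTower A B N]
    (κ : Type u) [CommRing κ] [Algebra A κ] (f : K →ₗ[B] N) (g : N →ₗ[B] X) (hf : Function.Injective f)
    (hg : Function.Surjective g) (hfg : Function.Exact f g) :
    Function.Injective (f.baseChange (B ⊗[A] κ)) := by
  have h1 : Function.Injective ((f.restrictScalars A).rTensor κ) := by
    rw [← LinearMap.lTensor_inj_iff_rTensor_inj]
    exact LinearMap.lTensor_injective_of_exact_of_flat (g.restrictScalars A) hg (f.restrictScalars A) hf hfg κ
  let e : ∀ (Z : Type u) [AddCommGroup Z] [Module B Z] [Module A Z] [IsScalarTower A B Z],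
      (B ⊗[A] κ) ⊗[B] Z ≃ₗ[B] Z ⊗[A] κ := fun Z _ _ _ _ =>
    (TensorProduct.comm B _ Z).trans (AlgebraTensorModule.cancelBaseChange A B B Z κ)
  have hc : ∀ z, e N (f.baseChange (B ⊗[A] κ) z) = (f.restrictScalars A).rTensor κ (e K z) := by
    intro z
    induction z with
    | zero => simp
    | tmul a x =>
      induction a with
      | zero => simp
      | tmul b c => simp [e]
      | add a b ha hb => simp only [add_tmul, map_add, ha, hb]
    | add a b ha hb => simp only [map_add, ha, hb]
  intro a b hab
  exact (e K).injective (h1 (by rw [← hc, ← hc, hab]))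

/-- A finite module with vanishing fibres vanishes. -/
theorem subsingleton_of_fibres {M : Type u} [AddCommGroup M] [Module B M] [Module.Finite B M]
    (h : ∀ p : PrimeSpectrum A, Subsingleton ((B ⊗[A] p.asIdeal.ResidueField) ⊗[B] M)) : Subsingleton M := by
  rw [← Module.support_eq_empty_iff (R := B)]
  refine Set.eq_empty_iff_forall_notMem.mpr fun q hq => ?_
  rw [Module.mem_support_iff_nontrivial_residueField_tensorProduct] at hq
  let p := PrimeSpectrum.comap (algebraMap A B) q
  haveI := h p
  let κ : p.asIdeal.ResidueField →ₐ[A] q.asIdeal.ResidueField :=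
    Ideal.ResidueField.mapₐ p.asIdeal q.asIdeal (Algebra.ofId A B) rfl
  let φ : B ⊗[A] p.asIdeal.ResidueField →ₐ[B] q.asIdeal.ResidueField :=
    Algebra.TensorProduct.lift (Algebra.ofId B _) κ (fun _ _ => Commute.all _ _)
  letI := φ.toRingHom.toAlgebra
  haveI : IsScalarTower B (B ⊗[A] p.asIdeal.ResidueField) q.asIdeal.ResidueField :=
    IsScalarTower.of_algebraMap_eq fun b => (φ.commutes b).symm
  exact not_subsingleton _ (AlgebraTensorModule.cancelBaseChange B (B ⊗[A] p.asIdeal.ResidueField)
    (B ⊗[A] p.asIdeal.ResidueField) q.asIdeal.ResidueField M).symm.toEquiv.subsingleton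

/-- The fibre of a module. -/
noncomputable abbrev fib (p : PrimeSpectrum A) (X : ModuleCat.{u} B) : ModuleCat.{u} (B ⊗[A] p.asIdeal.ResidueField) :=
  ModuleCat.of _ ((B ⊗[A] p.asIdeal.ResidueField) ⊗[B] X)

theorem hasProjectiveDimensionLT_iff_fibres [Algebra.FinitePresentation A B] [Module.Flat A B] :
    ∀ (n : ℕ) (X : ModuleCat.{u} B), S5929.Good A X →
      (HasProjectiveDimensionLT X n ↔ ∀ p : PrimeSpectrum A, HasProjectiveDimensionLT (fib p X) n) := by
  intro n
  induction n with
  | zero =>
    intro X hX
    obtain ⟨hfp, _, _, hfl⟩ := hX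
    simp only [hasProjectiveDimensionLT_zero_iff_isZero, ModuleCat.isZero_iff_subsingleton]
    refine ⟨fun h p => ?_, fun h => subsingleton_of_fibres h⟩
    refine subsingleton_of_forall_eq 0 fun z => ?_
    induction z with
    | zero => rfl
    | tmul a x => rw [Subsingleton.elim x 0, tmul_zero]
    | add a b ha hb => rw [ha, hb, add_zero]
  | succ n ih =>
    intro X hX
    cases n with
    | zero =>
      obtain ⟨hfp, _, _, hfl⟩ := hX
      rw [← projective_iff_hasProjectiveDimensionLT_one, forall_congr' fun p => (projective_iff_hasProjectiveDimensionLT_one (X := fib p X)).symm]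
      constructor
      · intro h p
        haveI : Module.Projective B X := (IsProjective.iff_projective X).mpr h
        exact (IsProjective.iff_projective _).mp inferInstance
      · intro h
        haveI : Module.Flat B X := FlatRes.flat_of_fibre_projective (A := A) fun p hp =>
          (IsProjective.iff_projective _).mpr (h ⟨p, hp⟩)
        exact (IsProjective.iff_projective X).mp Module.Flat.projective_of_finitePresentation
    | succ n =>
      obtain ⟨T, hT, hT3, ⟨hfin, hfree⟩, hX1⟩ := S5929.exists_step A X hX
      subst hT3
      haveI := hfree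
      haveI : Projective T.X₂ := (IsProjective.iff_projective _).mp inferInstance
      rw [hT.hasProjectiveDimensionLT_X₃_iff n inferInstance, ih T.X₁ hX1]
      obtain ⟨hfp, _, _, hfl⟩ := hX
      obtain ⟨-, _, _, -⟩ := hX1
      letI : Module A T.X₂ := Module.compHom T.X₂ (algebraMap A B)
      haveI : IsScalarTower A B T.X₂ := IsScalarTower.of_algebraMap_smul fun _ _ => rfl
      refine forall_congr' fun p => ?_
      let F := B ⊗[A] p.asIdeal.ResidueField
      have hex : Function.Exact T.f.hom T.g.hom := (ShortComplex.ShortExact.moduleCat_exact_iff_function_exact T).mp hT.exact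
      have hsurj : Function.Surjective T.g.hom := hT.moduleCat_surjective_g
      let T' : ShortComplex (ModuleCat.{u} F) := ShortComplex.mk
        (ModuleCat.ofHom (T.f.hom.baseChange F)) (ModuleCat.ofHom (T.g.hom.baseChange F)) (by
          ext1
          rw [ModuleCat.hom_comp, ModuleCat.hom_ofHom, ModuleCat.hom_ofHom, ← LinearMap.baseChange_comp,
            ← ModuleCat.hom_comp, T.zero, ModuleCat.hom_zero, LinearMap.baseChange_zero]
          rfl)
      have hT' : T'.ShortExact :=
        { exact := (ShortComplex.moduleCat_exact_iff T').2 fun x hx =>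
            ((lTensor_exact F hex hsurj) x).mp hx
          mono_f := (ModuleCat.mono_iff_injective _).2
            (baseChange_injective p.asIdeal.ResidueField T.f.hom T.g.hom hT.moduleCat_injective_f hsurj hex)
          epi_g := (ModuleCat.epi_iff_surjective _).2 (LinearMap.lTensor_surjective F hsurj) }
      haveI : Projective T'.X₂ := (IsProjective.iff_projective _).mp inferInstance
      exact (hT'.hasProjectiveDimensionLT_X₃_iff n inferInstance).symm

theorem eq_of_le_nat_iff {a b : WithBot ℕ∞} (h0 : a = ⊥ ↔ b = ⊥) (h : ∀ n : ℕ, a ≤ n ↔ b ≤ n) : a = b := by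
  by_cases ha : a = ⊥
  · rw [ha, h0.mp ha]
  obtain ⟨a, rfl⟩ := WithBot.ne_bot_iff_exists.mp ha
  obtain ⟨b, rfl⟩ := WithBot.ne_bot_iff_exists.mp (fun hb => ha (h0.mpr hb))
  have h' : ∀ n : ℕ, a ≤ n ↔ b ≤ n := fun n => by
    have := h n
    rwa [show ((n : ℕ) : WithBot ℕ∞) = ((n : ℕ∞) : WithBot ℕ∞) from rfl, WithBot.coe_le_coe, WithBot.coe_le_coe] at this
  exact congrArg _ (ENat.eq_of_forall_natCast_le_iff fun n => by
    cases n with
    | zero => simp
    | succ n =>
      rw [Nat.cast_succ, ENat.add_one_le_iff (ENat.natCast_ne_top n), ENat.add_one_le_iff (ENat.natCast_ne_top n),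
        ← not_le, ← not_le, h'])


/-- Let A be a commutative ring, B a finitely presented A-algebra which is flat as an A-module, and M a
finitely presented B-module which is flat as an A-module. Then the projective dimension of M as a
B-module equals the supremum, over the prime ideals p of A with residue fields κ(p), of the
projective dimensions of the modules (B ⊗_A κ(p)) ⊗_B M over the rings B ⊗_A κ(p). (Projective
dimensions are taken in the respective module categories, with values in WithBot ℕ∞ and the zero
module of dimension ⊥. The published formula also equates these with the Tor-dimension of M over B;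
that equality is not stated here.) -/
theorem result (A B M : Type u) [CommRing A] [CommRing B] [Algebra A B]
    [Algebra.FinitePresentation A B] [Module.Flat A B] [AddCommGroup M] [Module B M] [Module A M]
    [IsScalarTower A B M] [Module.FinitePresentation B M] [Module.Flat A M] :
    projectiveDimension (ModuleCat.of B M) =
      ⨆ p : PrimeSpectrum A, projectiveDimension
        (ModuleCat.of (B ⊗[A] p.asIdeal.ResidueField) ((B ⊗[A] p.asIdeal.ResidueField) ⊗[B] M)) := by
  have hG : S5929.Good A (ModuleCat.of B M) :=
    ⟨inferInstanceAs (Module.FinitePresentation B M), inferInstanceAs (Module A M),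
      inferInstanceAs (IsScalarTower A B M), inferInstanceAs (Module.Flat A M)⟩
  refine eq_of_le_nat_iff ?_ fun n => ?_
  · rw [iSup_eq_bot]
    simp only [projectiveDimension_eq_bot_iff, ← hasProjectiveDimensionLT_zero_iff_isZero]
    exact hasProjectiveDimensionLT_iff_fibres 0 _ hG
  · rw [iSup_le_iff]
    simp only [projectiveDimension_le_iff]
    exact hasProjectiveDimensionLT_iff_fibres (n + 1) _ hG

end Groth.Agent.S5930
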