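import Groth.Statements.S2156
import Groth.Agent.LimMore.Smooth
import Groth.Agent.FibCrit.Scheme

set_option autoImplicit false
universe u
open CategoryTheory AlgebraicGeometry
open Mor

namespace Groth.Agent.S2156

/-- Let `f : X → S` be locally of finite presentation and `x ∈ X` with image `s`. Then `f` is smooth at
`x` if and only if `O_{S,s} → O_{X,x}` is flat and the fibre `X_s → Spec κ(s)` is smooth at the
point corresponding to `x`. -/
theorem result {X S : Scheme.{u}} (f : X ⟶ S) [LocallyOfFinitePresentation f] (x : X)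
    [LocallyOfFinitePresentation (f.fiberToSpecResidueField (f.base x))] :
    x ∈ f.smoothLocus ↔
      (f.stalkMap x).hom.Flat ∧ f.asFiber x ∈ (f.fiberToSpecResidueField (f.base x)).smoothLocus := by
  set_option backward.isDefEq.respectTransparency false in
  let s := f x
  let φ := f.fiberToSpecResidueField s
  have hfst : f.fiberι s (f.asFiber x) = x := Scheme.Hom.fiberι_asFiber f x
  -- restriction to an open and its fibre
  have key : ∀ U : X.Opens, x ∈ U →
      (Smooth ((U.ι ≫ f).fiberToSpecResidueField s) ↔ f.fiberι s ⁻¹ᵁ U ≤ φ.smoothLocus) := by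
    intro U hxU
    let j : (U.ι ≫ f).fiber s ⟶ f.fiber s :=
      (Limits.pullbackRightPullbackFstIso f (S.fromSpecResidueField s) U.ι).inv ≫
        Limits.pullback.snd U.ι (Limits.pullback.fst f (S.fromSpecResidueField s))
    have hj : j ≫ φ = (U.ι ≫ f).fiberToSpecResidueField s := by
      simp only [j, φ, Scheme.Hom.fiberToSpecResidueField, Category.assoc,
        Limits.pullbackRightPullbackFstIso_inv_snd_snd]
    haveI : IsOpenImmersion j := inferInstanceAs (IsOpenImmersion (_ ≫ _))
    have hrange : Set.range j = (f.fiberι s ⁻¹ᵁ U : Set (f.fiber s)) := by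
      have hs : Function.Surjective (Limits.pullbackRightPullbackFstIso f (S.fromSpecResidueField s) U.ι).inv :=
        (Limits.pullbackRightPullbackFstIso f (S.fromSpecResidueField s) U.ι).inv.homeomorph.surjective
      simp only [j]
      rw [Scheme.Hom.comp_base, TopCat.coe_comp]
      erw [hs.range_comp]
      rw [IsOpenImmersion.range_pullbackSnd, Scheme.Opens.opensRange_ι]
      rfl
    haveI : LocallyOfFinitePresentation ((U.ι ≫ f).fiberToSpecResidueField s) := by
      rw [← hj]; infer_instance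
    rw [← Scheme.Hom.smoothLocus_eq_top_iff]
    have e : ((U.ι ≫ f).fiberToSpecResidueField s).smoothLocus = j ⁻¹ᵁ φ.smoothLocus := by
      rw [Scheme.Hom.preimage_smoothLocus_eq]
      congr 1
      exact hj.symm
    rw [e]
    refine ⟨fun h z hz => ?_, fun h => eq_top_iff.2 fun w _ => h ?_⟩
    · obtain ⟨w, rfl⟩ : z ∈ Set.range j := hrange ▸ hz
      exact h.ge (show w ∈ (⊤ : ((U.ι ≫ f).fiber s).Opens) from trivial)
    · exact SetLike.mem_coe.1 (hrange ▸ Set.mem_range_self w)
  constructor
  · intro hx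
    let U := f.smoothLocus
    haveI hsm : Smooth (U.ι ≫ f) := by
      rw [← Scheme.Hom.smoothLocus_eq_top_iff, ← Scheme.Hom.preimage_smoothLocus_eq]
      exact eq_top_iff.2 fun z _ => z.2
    refine ⟨?_, (key U hx).1 (MorphismProperty.pullback_snd _ _ hsm)
      (show f.fiberι s (f.asFiber x) ∈ U by rw [hfst]; exact hx)⟩
    have h : ((U.ι ≫ f).stalkMap ⟨x, hx⟩).hom.Flat := Flat.stalkMap _ _
    rw [Scheme.Hom.stalkMap_comp, CommRingCat.hom_comp] at h
    haveI : IsIso (U.ι.stalkMap ⟨x, hx⟩) := inferInstance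
    exact (RingHom.Flat.respectsIso.cancel_right_isIso (f.stalkMap (U.ι ⟨x, hx⟩)) (U.ι.stalkMap ⟨x, hx⟩)).1 h
  · rintro ⟨hflat, hfib⟩
    haveI : LocallyOfFinitePresentation (f ≫ 𝟙 S) := by rwa [Category.comp_id]
    let F : X.Opens := ⟨_, Groth.Agent.FibCrit.isOpen f (𝟙 S)⟩
    have hxF : x ∈ F := ⟨Flat.stalkMap (𝟙 S) (f x), hflat⟩
    obtain ⟨O, hO, hOeq⟩ := (f.fiberι s).isEmbedding.isInducing.isOpen_iff.1 φ.smoothLocus.isOpen
    have hxO : x ∈ O := by
      have h : f.asFiber x ∈ (f.fiberι s) ⁻¹' O := by rw [hOeq]; exact hfib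
      rwa [Set.mem_preimage, hfst] at h
    let U : X.Opens := F ⊓ ⟨O, hO⟩
    have hxU : x ∈ U := ⟨hxF, hxO⟩
    haveI : Flat (U.ι ≫ f) := Flat.of_stalkMap _ fun z => by
      rw [Scheme.Hom.stalkMap_comp, CommRingCat.hom_comp]
      exact RingHom.Flat.comp z.2.1.2 (Flat.stalkMap U.ι z)
    have hle : f.fiberι s ⁻¹ᵁ U ≤ φ.smoothLocus := fun z hz => by
      have hz' : z ∈ (f.fiberι s) ⁻¹' O := hz.2
      rw [hOeq] at hz'
      exact hz'
    have := Groth.Agent.LimMore.mem_smoothLocus_of_smooth_fiber (U.ι ≫ f) ⟨x, hxU⟩ ((key U hxU).2 hle)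
    rw [← Scheme.Hom.preimage_smoothLocus_eq] at this
    exact this

end Groth.Agent.S2156
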