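import Groth.Statements.S4991
import Mathlib
import Groth.Agent.GeomProp.SmoothLocal
import Groth.Agent.FlatDepth.CompDescent
-- import your own Groth.Agent.* helpers here

set_option autoImplicit false
universe u
open CategoryTheory CategoryTheory.Limits AlgebraicGeometry TopologicalSpace
open Unram17

namespace Groth.Agent.S4991

/-- Let Y be locally Noetherian and f : X ⟶ Y locally of finite type, smooth on an open neighbourhood of
a point x with image y. Then the local ring of X at x is regular if and only if the local ring of Y
at y is regular. -/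
theorem result {X Y : Scheme.{u}} (f : X ⟶ Y)
    [IsLocallyNoetherian Y] [LocallyOfFiniteType f] (x : ↥X)
    (hx : ∃ U : X.Opens, x ∈ U ∧ Smooth (U.ι ≫ f)) :
    IsRegularLocalRing ↑(X.presheaf.stalk x) ↔ IsRegularLocalRing ↑(Y.presheaf.stalk (f.base x)) := by
  haveI : LocallyOfFinitePresentation f := LocallyOfFinitePresentation.iff_locallyOfFiniteType.2 inferInstance
  obtain ⟨A, B, _, _, _, _, hA, q, _, eY, eX, -⟩ := GeomProp.exists_local_model f x (GeomProp.mem_smoothLocus_of_nhd f x hx)
  haveI := hA inferInstance
  exact ⟨fun h => by
      haveI := (GeomProp.isRegular_iff_of_smooth (A := A) q).1 (IsRegularLocalRing.of_ringEquiv eX)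
      exact IsRegularLocalRing.of_ringEquiv eY.symm,
    fun h => by
      haveI := (GeomProp.isRegular_iff_of_smooth (A := A) q).2 (IsRegularLocalRing.of_ringEquiv eY)
      exact IsRegularLocalRing.of_ringEquiv eX.symm⟩

end Groth.Agent.S4991
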