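import Groth.Statements.S15826
import Groth.Agent.ExtFund.CanonIndep
import Groth.Agent.SGA6Ext.Basis
import Groth.Agent.Nagata.Bundles
import Groth.Agent.LocFree.SemiLocal
import Groth.Agent.QC.IdealMod
-- import your own Groth.Agent.* helpers here

set_option autoImplicit false
universe u
open CategoryTheory AlgebraicGeometry Opposite
open RegImm

set_option linter.style.haveILetI false
namespace Groth.Agent.S15826

/-- An epimorphism of locally free modules of the same rank is an isomorphism. -/
theorem isIso_of_epi_rank {X : Scheme.{u}} {n : ℕ} {M N : X.Modules} (φ : M ⟶ N) [Epi φ]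
    (hM : FlatMod.IsFinLocFreeOfRank n M) (hN : FlatMod.IsFinLocFreeOfRank n N) : IsIso φ := by
  have hMq := LocFree.isQCoh_of_isFinLocFree (fun x => (hM x).imp fun U h => ⟨n, h⟩)
  have hNq := LocFree.isQCoh_of_isFinLocFree (fun x => (hN x).imp fun U h => ⟨n, h⟩)
  let G : X.Opens → Prop := fun V => IsAffineOpen V ∧
    Nonempty (Module.Basis (ULift.{u} (Fin n)) Γ(X, V) Γ(M, V)) ∧ Nonempty (Module.Basis (ULift.{u} (Fin n)) Γ(X, V) Γ(N, V))
  have hG : SGA6Ext.IsBase G := fun O x hx => by
    obtain ⟨U, hxU, ⟨e⟩⟩ := hM x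
    obtain ⟨W, hxW, ⟨e'⟩⟩ := hN x
    obtain ⟨D, hD, hxD, hle⟩ := exists_isAffineOpen_mem_and_subset (x := x) (U := O ⊓ (U ⊓ W)) ⟨hx, hxU, hxW⟩
    exact ⟨D, ⟨hD, LocFree.exists_basis_sections_of_le e hD fun z hz => (hle hz).2.1,
      LocFree.exists_basis_sections_of_le e' hD fun z hz => (hle hz).2.2⟩, hxD, fun z hz => (hle hz).1⟩
  haveI : Mono φ := SGA6Ext.mono_of_base hG φ fun V hV => by
    obtain ⟨hA, ⟨b⟩, ⟨b'⟩⟩ := hV
    haveI : Module.Finite Γ(X, V) Γ(M, V) := Module.Finite.of_basis b
    have hsurj : Function.Surjective ((b'.equiv b (Equiv.refl _)).toLinearMap ∘ₗ QC.appₗ φ V) :=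
      (b'.equiv b (Equiv.refl _)).surjective.comp (QC.app_surjective_of_epi hA hMq hNq φ)
    exact fun x y h => OrzechProperty.injective_of_surjective_endomorphism _ hsurj (congrArg (b'.equiv b (Equiv.refl _)) h)
  exact isIso_of_mono_of_epi φ

/-- Let X be a scheme, E a finite locally free O_X-module of rank n and s : E → O_X a regular section,
meaning that around every point of X there is an affine open U and a basis e_1, …, e_n of E(U) over
Γ(X, U) such that s(e_1), …, s(e_n) is a weakly regular sequence in Γ(X, U) (each a non-zero-divisor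
modulo the previous ones). Let i : Y → X be a closed immersion whose ideal sheaf I_Y is the image of
s: t : E → I_Y is an epimorphism of O_X-modules with t followed by the inclusion I_Y → O_X equal to
s. Then the pulled-back map i^*t : i^*E → i^*I_Y is an isomorphism of O_Y-modules; its target is the
conormal sheaf C_{Y/X} = I_Y/I_Y², so E|_Y ≅ C_{Y/X} via s and, dually, N_{Y/X} ≅ E^∨|_Y. (The
published statement calls s regular when its image is a regular ideal sheaf locally generated by
rank-many sections; the local bases mapping to regular sequences used here are how the published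
proofs read that condition.) -/
theorem result {X Y : Scheme.{u}} (n : ℕ) (E : X.Modules)
    (hE : FlatMod.IsFinLocFreeOfRank n E) (s : E ⟶ Coh.structureModule X)
    (hs : ∀ x : X, ∃ U : X.affineOpens, x ∈ U.1 ∧
      ∃ b : Module.Basis (Fin n) Γ(X, U.1) (E.val.obj (op U.1)),
        @RingTheory.Sequence.IsWeaklyRegular Γ(X, U.1) Γ(X, U.1) _ _ _ (List.ofFn fun k => (s.val.app (op U.1)).hom (b k)))
    (i : Y ⟶ X) [IsClosedImmersion i] (t : E ⟶ ClSub.idealMod i.ker) [Epi t]
    (hts : t ≫ ClSub.idealModι i.ker = s) :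
    IsIso ((Scheme.Modules.pullback i).map t) := by
  haveI : Epi ((Scheme.Modules.pullback i).map t) := inferInstance
  refine isIso_of_epi_rank _ (Nagata.isFinLocFreeOfRank_pullback i hE)
    (ExtFund.isFinLocFreeOfRank_conormal_reg i ⟨inferInstance, fun z => ?_⟩)
  obtain ⟨U, hxU, b, hb⟩ := hs (i z)
  let f : Fin n → Γ(X, U.1) := fun k => (s.val.app (op U.1)).hom (b k)
  replace hb : RingTheory.Sequence.IsWeaklyRegular Γ(X, U.1) (List.ofFn f) := hb
  refine ⟨U, hxU, inferInstance, List.ofFn f, List.length_ofFn, ?_, ?_⟩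
  all_goals
    have hker : RingHom.ker (i.app U.1).hom = Ideal.ofList (List.ofFn f) := by
      rw [← Scheme.Hom.ker_apply]
      refine le_antisymm (fun a ha => ?_) (Ideal.span_le.2 ?_)
      · obtain ⟨m, hm⟩ := (QC.mem_range_idealModι_affine i.ker U a).2 ha
        have hEq := LocFree.isQCoh_of_isFinLocFree (fun x => (hE x).imp fun V h => ⟨n, h⟩)
        obtain ⟨e, he⟩ := QC.app_surjective_of_epi U.2 hEq (QC.isQCoh_idealMod _) t m
        have ha' : (s.val.app (op U.1)).hom e = a := by
          rw [← hts]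
          exact (congrArg ((ClSub.idealModι i.ker).app U.1) he).trans hm
        rw [← ha', ← b.sum_repr e, map_sum]
        refine Ideal.sum_mem _ fun k _ => ?_
        rw [map_smul]
        exact Ideal.mul_mem_left _ _ (Ideal.subset_span (List.mem_ofFn.2 ⟨k, rfl⟩))
      · intro a ha
        obtain ⟨k, rfl⟩ := List.mem_ofFn.1 ha
        refine (QC.mem_range_idealModι_affine i.ker U _).1 ⟨t.app U.1 (b k), ?_⟩
        exact congrArg (fun ψ : E ⟶ Coh.structureModule X => ψ.app U.1 (b k)) hts
  · refine ⟨hb, fun htop => ?_⟩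
    rw [smul_eq_mul, Ideal.mul_top, ← hker] at htop
    have h1 : IsUnit ((i.app U.1).hom 1) := by rw [map_one]; exact isUnit_one
    rw [show (i.app U.1).hom 1 = 0 from RingHom.mem_ker.1 ((htop ▸ Submodule.mem_top : (1 : Γ(X, U.1)) ∈ RingHom.ker (i.app U.1).hom))] at h1
    have h2 := Y.basicOpen_of_isUnit h1
    rw [Scheme.basicOpen_zero] at h2
    exact h2.ge hxU
  · exact hker

end Groth.Agent.S15826
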