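import Groth.Statements.S9773
import Groth.Agent.KoszulLib.Iff

set_option autoImplicit false
universe u
open FlatMor

namespace Groth.Agent.S9773

open AlgebraicGeometry CategoryTheory Limits in
/-- A regular immersion of schemes, and likewise a Koszul-regular immersion, is a local complete
intersection morphism (Koszul at every point). -/
theorem result {Z X : Scheme.{u}} (i : Z ⟶ X) (k : RegImm.Kind)
    (hk : k = RegImm.Kind.regular ∨ k = RegImm.Kind.koszul) (hi : RegImm.IsRegularImmersion k i) (z : Z) :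
    Synt.IsKoszulAt i z := by
  obtain ⟨hi1, hi2⟩ := hi
  have key : RegImm.IsRegularImmersion .koszul i := by
    refine ⟨hi1, fun z => ?_⟩
    obtain ⟨U, hz, hc, rs, hs, hker⟩ := hi2 z
    refine ⟨U, hz, hc, rs, ?_, hker⟩
    rcases hk with rfl | rfl
    · have h1 : RingTheory.Sequence.IsWeaklyRegular Γ(X, U.1) rs :=
        (show RingTheory.Sequence.IsRegular Γ(X, U.1) rs from hs).toIsWeaklyRegular
      show LCI.IsKoszulRegularSeq Γ(X, U.1) rs
      rw [← List.ofFn_getElem (xs := rs)] at h1 ⊢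
      exact KoszulLib.isKoszulRegularSeq_of_acyclic (KoszulLib.acyclic_of_isWeaklyRegular' h1)
    · exact hs
  haveI : IsImmersion i := hi1
  refine ⟨⊤, X, (⊤ : Z.Opens).ι ≫ i, 𝟙 X, trivial, inferInstance, ⟨inferInstance, fun w => ?_⟩, inferInstance,
    Category.comp_id _⟩
  obtain ⟨U, hz, hc, rs, hs, hker⟩ := key.2 ((⊤ : Z.Opens).ι w)
  refine ⟨U, hz, ?_, rs, hs, ?_⟩
  · haveI := hc
    haveI : IsIso (⊤ : Z.Opens).ι := (Scheme.topIso Z).isIso_hom
    rw [morphismRestrict_comp]
    have h1 : IsClosedImmersion ((⊤ : Z.Opens).ι ∣_ i ⁻¹ᵁ U.1) := IsZariskiLocalAtTarget.restrict (P := @IsClosedImmersion) (inferInstanceAs (IsClosedImmersion (⊤ : Z.Opens).ι)) _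
    exact (inferInstance : MorphismProperty.IsStableUnderComposition @IsClosedImmersion).comp_mem _ _ h1 hc
  · haveI : IsIso (⊤ : Z.Opens).ι := (Scheme.topIso Z).isIso_hom
    rw [← hker]
    exact RingHom.ker_comp_of_injective (i.app U.1).hom (f := ((⊤ : Z.Opens).ι.app (i ⁻¹ᵁ U.1)).hom)
      ((ConcreteCategory.isIso_iff_bijective ((⊤ : Z.Opens).ι.app (i ⁻¹ᵁ U.1))).mp inferInstance).1

end Groth.Agent.S9773
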