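import Groth.Statements.S1896
import Groth.Agent.CycDim.Basic
import Groth.Agent.KFlat.Pullback

set_option autoImplicit false
universe u
open CategoryTheory AlgebraicGeometry
open Cyc

namespace Groth.Agent.S1896

/-- For a short exact sequence 0 → F → G → H → 0 of coherent O_X-modules (X locally Noetherian with
dimension function δ) whose supports have δ-dimension at most k, one has [G]_k = [F]_k + [H]_k
coefficientwise. Here (X, δ) satisfies Cyc.IsSetup (X locally Noetherian with universally catenary
local rings, δ a dimension function). -/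
theorem result (X : Scheme.{u}) (δ : X → ℤ) (hX : Cyc.IsSetup X δ) (k : ℤ) (T : ShortComplex X.Modules) (hT : T.ShortExact) (h₁ : Coh.IsCoh T.X₁) (h₂ : Coh.IsCoh T.X₂) (h₃ : Coh.IsCoh T.X₃) (hdim : ∀ x : X, Nontrivial (T.X₂.presheaf.stalk x) → δ x ≤ k) : Cyc.sheafFun δ k T.X₂ = Cyc.sheafFun δ k T.X₁ + Cyc.sheafFun δ k T.X₃ := by

  haveI := hX.1
  funext x
  simp only [Cyc.sheafFun, Pi.add_apply]
  split
  · next hk =>
    have hlen : Module.length (X.presheaf.stalk x) (T.X₂.presheaf.stalk x) < ⊤ :=
      Groth.Agent.CycDim.length_stalk_module_lt_top T.X₂ h₂.1 h₂.2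
        fun z hz hzx => Groth.Agent.CycDim.eq_of_delta_le hX.2.2 hzx (hk ▸ hdim z hz)
    have h := hT.map_of_exact (DerSch.stalkFunctor X x)
    have hadd : Module.length (X.presheaf.stalk x) (T.X₂.presheaf.stalk x) =
        Module.length (X.presheaf.stalk x) (T.X₁.presheaf.stalk x) + Module.length (X.presheaf.stalk x) (T.X₃.presheaf.stalk x) :=
      Module.length_eq_add_of_exact (Algz.stalkMapₗ T.f x) (Algz.stalkMapₗ T.g x)
        ((ModuleCat.mono_iff_injective _).1 h.mono_f) ((ModuleCat.epi_iff_surjective _).1 h.epi_g)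
        ((ShortComplex.ShortExact.moduleCat_exact_iff_function_exact (T.map (DerSch.stalkFunctor X x))).1 h.exact)
    rw [hadd] at hlen ⊢
    rw [ENat.toNat_add]
    · push_cast
      rfl
    · exact ne_top_of_le_ne_top hlen.ne le_self_add
    · exact ne_top_of_le_ne_top hlen.ne le_add_self
  · rfl

end Groth.Agent.S1896
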