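import Groth.Statements.S1052
import Groth.Agent.K0Coh.Basic

set_option autoImplicit false
universe u
open CategoryTheory CategoryTheory.Limits AlgebraicGeometry
attribute [local instance] HasDerivedCategory.standard
open KZero

namespace Groth.Agent.S1052

/-- Let X be a Noetherian scheme. There is an isomorphism between K₀(Coh(O_X)) (free abelian group on
coherent O_X-modules modulo short exact sequences of coherent modules) and K₀(D^b_Coh(O_X)) (free
abelian group on bounded objects of D(O_X) with coherent cohomology modulo distinguished triangles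
among them) which sends the class of a coherent module F to the class of F placed in degree 0. -/
theorem result (X : Scheme.{u}) [IsNoetherian X] :
    ∃ φ : KZero.K0sub (fun M : X.Modules => Coh.IsCoh M) ≃+
        KZero.K0tr (fun K : DCoh.D X => DCoh.IsCohD K ∧ ∃ a b : ℤ, K.IsGE a ∧ K.IsLE b),
      ∀ F : X.Modules, Coh.IsCoh F →
        φ (KZero.clSub (fun M : X.Modules => Coh.IsCoh M) F) =
          KZero.clTr (fun K : DCoh.D X => DCoh.IsCohD K ∧ ∃ a b : ℤ, K.IsGE a ∧ K.IsLE b) (DCoh.inD X F) := by
  haveI : ObjectProperty.IsClosedUnderIsomorphisms (fun M : X.Modules => Coh.IsCoh M) :=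
    ⟨fun e h => K0Coh.isCoh_of_iso e h⟩
  haveI : ObjectProperty.ContainsZero (fun M : X.Modules => Coh.IsCoh M) :=
    ⟨_, isZero_zero _, K0Coh.isCoh_of_isZero (isZero_zero _)⟩
  haveI : ObjectProperty.IsClosedUnderKernels (fun M : X.Modules => Coh.IsCoh M) := ⟨by
    rintro _ ⟨f, k, hk, hX, hY⟩
    exact K0Coh.isCoh_of_iso ((kernelIsKernel f).conePointUniqueUpToIso hk) (QC.isCoh_kernel hX hY.1 f)⟩
  haveI : ObjectProperty.IsClosedUnderCokernels (fun M : X.Modules => Coh.IsCoh M) := ⟨by
    rintro _ ⟨f, k, hk, hX, hY⟩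
    exact K0Coh.isCoh_of_iso ((cokernelIsCokernel f).coconePointUniqueUpToIso hk) (QC.isCoh_cokernel hX.1 hY f)⟩
  exact K0DerSub.exists_equiv (P := fun M : X.Modules => Coh.IsCoh M) _ fun K => Iff.rfl

end Groth.Agent.S1052
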