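import Groth.Statements.S18352
import Groth.Agent.NormalScheme.Flat
import Groth.Agent.SmLocalST.SmoothField
import Mathlib

set_option autoImplicit false
universe u
open Curv2

namespace Groth.Agent.S18352

open CategoryTheory AlgebraicGeometry in
/-- Let S be an integral Noetherian scheme all of whose local rings are integrally closed domains, and
let f : C → S be a flat, proper, locally finitely presented morphism of schemes whose fibres are
geometrically reduced and geometrically connected, all of Krull dimension one, and whose fibre over
the generic point of S is smooth over the residue field there. Then every local ring of C is an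
integrally closed domain. The total space C is a scheme here; the source also allows an algebraic
space. -/
theorem result (S C : Scheme.{u}) [IsIntegral S] [IsNoetherian S]
    (hS : Pi1.IsNormalScheme S) (f : C ⟶ S) [Flat f] [IsProper f] [LocallyOfFinitePresentation f]
    [GeometricallyReduced f] [GeometricallyConnected f]
    (hdim : ∀ s : ↥S, topologicalKrullDim ↥(f.fiber s) = 1)
    (hsm : Smooth (f.fiberToSpecResidueField (genericPoint ↥S))) :
    Pi1.IsNormalScheme C := by
  haveI : IsLocallyNoetherian C := LocallyOfFiniteType.isLocallyNoetherian f
  refine NormalScheme.isNormalScheme_of_flat f hS (fun x => inferInstance) fun x h0 => ?_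
  have hmax : IsMax (f x) := by
    rw [← Order.coheight_eq_zero]
    rw [ringKrullDim_stalk_eq_coheight] at h0
    exact_mod_cast h0
  have hx : f x = genericPoint S := by
    have h1 : genericPoint S ⤳ f x := genericPoint_specializes _
    have h2 : f x ⤳ genericPoint S := hmax h1
    exact (h2.antisymm h1).eq
  haveI : Smooth (f.fiberToSpecResidueField (f x)) := by rw [hx]; exact hsm
  exact SmLocalST.isRegularLocalRing_stalk_of_smooth_field (k := S.residueField (f x))
    (f.fiberToSpecResidueField (f x)) (f.asFiber x)

end Groth.Agent.S18352
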