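import Groth.Statements.S18353
import Groth.Agent.S18352
import Groth.Agent.S14401
import Groth.Agent.S2422
import Mathlib

set_option autoImplicit false
universe u
open Curv2

namespace Groth.Agent.S18353

open CategoryTheory AlgebraicGeometry

/-- A normal Noetherian connected scheme is integral. -/
theorem isIntegral_of_connected (C : Scheme.{u}) [IsNoetherian C] [ConnectedSpace C] (hC : Pi1.IsNormalScheme C) :
    IsIntegral C := by
  haveI : IsReduced C := by
    haveI : ∀ x : C, _root_.IsReduced (C.presheaf.stalk x) := fun x => haveI := (hC x).1; inferInstance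
    exact isReduced_of_isReduced_stalk C
  obtain ⟨x⟩ := (inferInstance : Nonempty C)
  have hopen := (S14401.result C fun z => (hC z).1).1 _ (irreducibleComponent_mem_irreducibleComponents x)
  have hirr : IsIrreducible (Set.univ : Set C) := by
    rw [← IsClopen.eq_univ ⟨isClosed_irreducibleComponent, hopen⟩ ⟨x, mem_irreducibleComponent⟩]
    exact isIrreducible_irreducibleComponent
  haveI : IrreducibleSpace C :=
    { toPreirreducibleSpace := ⟨hirr.2⟩, toNonempty := ⟨x⟩ }
  exact isIntegral_of_irreducibleSpace_of_isReduced C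

open CategoryTheory AlgebraicGeometry in
/-- Let S be an integral Noetherian scheme all of whose local rings are integrally closed domains, and
let f₁ : C₁ → S and f₂ : C₂ → S be flat, proper, locally finitely presented morphisms of schemes
whose fibres are geometrically reduced and geometrically connected, all of Krull dimension one, and
whose fibres over the generic point of S are smooth. Let φ : C₁ → C₂ be a morphism over S which is
birational, in the sense that it restricts to an isomorphism over some dense open subset of C₂. Then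
the canonical map O_{C₂} → φ_* O_{C₁} is an isomorphism: for every open V of C₂ the pull-back map
from sections over V to sections over φ⁻¹(V) is an isomorphism of rings. The total spaces are
schemes here; the source also allows algebraic spaces. -/
theorem result (S C₁ C₂ : Scheme.{u}) [IsIntegral S]
    [IsNoetherian S] (hS : Pi1.IsNormalScheme S) (f₁ : C₁ ⟶ S) (f₂ : C₂ ⟶ S)
    [Flat f₁] [IsProper f₁] [LocallyOfFinitePresentation f₁] [GeometricallyReduced f₁] [GeometricallyConnected f₁]
    [Flat f₂] [IsProper f₂] [LocallyOfFinitePresentation f₂] [GeometricallyReduced f₂] [GeometricallyConnected f₂]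
    (hdim₁ : ∀ s : ↥S, topologicalKrullDim ↥(f₁.fiber s) = 1) (hdim₂ : ∀ s : ↥S, topologicalKrullDim ↥(f₂.fiber s) = 1)
    (hsm₁ : Smooth (f₁.fiberToSpecResidueField (genericPoint ↥S)))
    (hsm₂ : Smooth (f₂.fiberToSpecResidueField (genericPoint ↥S)))
    (φ : C₁ ⟶ C₂) (hφ : φ ≫ f₂ = f₁) (hbir : ∃ U : C₂.Opens, Dense (U : Set ↥C₂) ∧ IsIso (φ ∣_ U)) :
    ∀ V : C₂.Opens, IsIso (φ.app V) := by
  have hN₁ := S18352.result S C₁ hS f₁ hdim₁ hsm₁
  have hN₂ := S18352.result S C₂ hS f₂ hdim₂ hsm₂
  haveI : IsLocallyNoetherian C₁ := LocallyOfFiniteType.isLocallyNoetherian f₁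
  haveI : IsLocallyNoetherian C₂ := LocallyOfFiniteType.isLocallyNoetherian f₂
  haveI : CompactSpace C₁ := QuasiCompact.compactSpace_of_compactSpace f₁
  haveI : CompactSpace C₂ := QuasiCompact.compactSpace_of_compactSpace f₂
  haveI : IsNoetherian C₁ := ⟨⟩
  haveI : IsNoetherian C₂ := ⟨⟩
  haveI : ConnectedSpace C₁ := GeometricallyConnected.connectedSpace f₁ f₁.isOpenMap
  haveI : ConnectedSpace C₂ := GeometricallyConnected.connectedSpace f₂ f₂.isOpenMap
  haveI := isIntegral_of_connected C₁ hN₁
  haveI := isIntegral_of_connected C₂ hN₂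
  haveI : IsProper φ := by
    haveI : IsProper (φ ≫ f₂) := by rw [hφ]; infer_instance
    exact IsProper.of_comp φ f₂
  obtain ⟨U, hUd, hUi⟩ := hbir
  haveI := hUi
  have hUne : (U : Set C₂).Nonempty := hUd.nonempty
  obtain ⟨u, hu⟩ := hUne
  obtain ⟨⟨c, hc⟩, -⟩ := (φ ∣_ U).surjective ⟨u, hu⟩
  have hη₁ : genericPoint C₁ ∈ φ ⁻¹ᵁ U :=
    ((genericPoint_spec C₁).specializes (Set.mem_univ c)).mem_open (φ ⁻¹ᵁ U).2 hc
  have hrange : closure (Set.range φ) = Set.univ := by
    refine Set.univ_subset_iff.1 ?_
    rw [← hUd.closure_eq]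
    refine closure_mono fun v hv => ?_
    obtain ⟨w, hw⟩ := (φ ∣_ U).surjective ⟨v, hv⟩
    exact ⟨w.1, by rw [← morphismRestrict_base_coe φ U w, hw]⟩
  have hφη : φ (genericPoint C₁) = genericPoint C₂ := by
    have h := (genericPoint_spec C₁).image φ.continuous
    rw [Set.image_univ, hrange] at h
    exact h.eq (genericPoint_spec C₂)
  have hdom : φ.base (genericPoint C₁) ⤳ genericPoint C₂ := specializes_of_eq hφη
  haveI : IsIso (φ.stalkMap (genericPoint C₁)) :=
    ((MorphismProperty.isomorphisms CommRingCat).arrow_mk_iso_iff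
      (morphismRestrictStalkMap φ U ⟨genericPoint C₁, hη₁⟩)).1
      (show IsIso ((φ ∣_ U).stalkMap ⟨genericPoint C₁, hη₁⟩) from inferInstance)
  haveI : IsIso (C₂.presheaf.stalkSpecializes hdom) := by
    refine ⟨C₂.presheaf.stalkSpecializes (specializes_of_eq hφη.symm), ?_, ?_⟩ <;>
      rw [TopCat.Presheaf.stalkSpecializes_comp, TopCat.Presheaf.stalkSpecializes_refl]
  refine S2422.result hN₂ φ hdom fun x _ => ?_
  exact ((ConcreteCategory.isIso_iff_bijective
    (C₂.presheaf.stalkSpecializes hdom ≫ φ.stalkMap (genericPoint C₁))).1 inferInstance).2 x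

end Groth.Agent.S18353
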