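import Groth.Statements.S1535
import Mathlib
import Groth.Agent.GeomProp.SmoothReg
-- import your own Groth.Agent.* helpers here

set_option autoImplicit false
universe u
open CategoryTheory CategoryTheory.Limits AlgebraicGeometry
open Variety

namespace Groth.Agent.S1535

/-- If X is smooth over a field then every local ring of X is a regular local ring. -/
theorem result (k : Type u) [Field k] (X : Scheme.{u}) [X.Over (Spec (CommRingCat.of k))] [Smooth (X ↘ (Spec (CommRingCat.of k)))] (x : X) :
    IsRegularLocalRing (X.presheaf.stalk x) := by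
  let f := X ↘ Spec (CommRingCat.of k)
  obtain ⟨U, hU, hxU, -⟩ := exists_isAffineOpen_mem_and_subset (X := X) (x := x) (U := ⊤) trivial
  let φ : k →+* Γ(X, U) := ((Scheme.ΓSpecIso (CommRingCat.of k)).inv ≫ f.appLE ⊤ U (by simp)).hom
  have hφ : φ.Smooth := by
    have h1 : (f.appLE ⊤ U (by simp)).hom.Smooth :=
      HasRingHomProperty.appLE @Smooth f inferInstance ⟨⊤, isAffineOpen_top _⟩ ⟨U, hU⟩ (by simp)
    exact RingHom.Smooth.respectsIso.cancel_left_isIso (Scheme.ΓSpecIso (CommRingCat.of k)).inv _ |>.2 h1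
  letI : Algebra k Γ(X, U) := φ.toAlgebra
  haveI : Algebra.Smooth k Γ(X, U) := hφ
  haveI := GeomProp.isRegularRing_of_smooth k Γ(X, U)
  letI := TopCat.Presheaf.algebra_section_stalk X.presheaf ⟨x, hxU⟩
  haveI := hU.isLocalization_stalk ⟨x, hxU⟩
  exact IsRegularLocalRing.of_ringEquiv (R := Localization.AtPrime (hU.primeIdealOf ⟨x, hxU⟩).asIdeal)
    (IsLocalization.algEquiv (hU.primeIdealOf ⟨x, hxU⟩).asIdeal.primeCompl _ (X.presheaf.stalk x)).toRingEquiv

end Groth.Agent.S1535
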