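import Groth.Statements.S4407
import Groth.Agent.TMul.GlobGen

set_option autoImplicit false
universe u
open CategoryTheory CategoryTheory.Limits AlgebraicGeometry
open EGA2

namespace Groth.Agent.S4407

/-- (a) ⇒ (e): let X be a quasi-affine scheme. Then every quasi-coherent O_X-module is generated by its
global sections (it is a quotient of a free O_X-module on some index set). -/
theorem result (X : Scheme.{u}) [X.IsQuasiAffine] (F : X.Modules)
    (hF : Coh.IsQCoh F) : Curv2.IsGloballyGenerated F := by
  have : F.IsQuasicoherent := hF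
  refine TMul.isGloballyGenerated_of_genOn fun x => ?_
  obtain ⟨W, ⟨r, hr, rfl⟩, hxr, -⟩ :=
    TopologicalSpace.Opens.isBasis_iff_nbhd.mp (Scheme.IsQuasiAffine.isBasis_basicOpen X) (show x ∈ (⊤ : X.Opens) from trivial)
  refine ⟨X.basicOpen r, hr, hxr, eq_top_iff.mpr fun y _ => ?_⟩
  obtain ⟨n, s, hs⟩ := Groth.Agent.QC.exists_pow_smul_extends_of_isCompact (M := F)
    (W := (⊤ : X.Opens)) isCompact_univ isQuasiSeparated_univ r y
  have hu : IsUnit (Groth.Agent.QC.resO X (X.basicOpen_le r) r) := X.toRingedSpace.isUnit_res_basicOpen r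
  obtain ⟨v, hv⟩ := (hu.pow n).exists_left_inv
  have hmem : v • Groth.Agent.QC.res F (X.basicOpen_le r) s ∈
      Submodule.span Γ(X, X.basicOpen r) (Set.range (Groth.Agent.QC.res F (le_top : X.basicOpen r ≤ ⊤))) :=
    Submodule.smul_mem _ _ (Submodule.subset_span ⟨s, rfl⟩)
  rw [hs, smul_smul] at hmem
  erw [hv, one_smul] at hmem
  exact hmem

end Groth.Agent.S4407
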