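import Groth.Statements.S1297
import Groth.Agent.CohFinite.Proper
import Groth.Agent.Devissage.Piece
import Mathlib.AlgebraicGeometry.Normalization

set_option autoImplicit false
set_option linter.style.haveILetI false
set_option backward.isDefEq.respectTransparency false
universe u
open FlatMor

namespace Groth.Agent.S1297

open AlgebraicGeometry CategoryTheory Limits in
/-- Stein factorization, Noetherian case: let f : X → S be a proper morphism with S locally Noetherian.
Then the normalization of S in X is finite over S (so that the Stein factorization of f is a proper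
morphism with geometrically connected fibres followed by a finite morphism). -/
theorem result {X S : Scheme.{u}} (f : X ⟶ S) [IsProper f] [IsLocallyNoetherian S] :
    IsFinite f.fromNormalization := by
  refine { finite_app := fun U hU => ?_ }
  letI := (f.app U).hom.toAlgebra
  rw [f.fromNormalization_app hU, CommRingCat.hom_comp, CommRingCat.hom_ofHom]
  refine RingHom.Finite.comp (RingHom.Finite.of_surjective _
    (f.normalizationObjIso hU).symm.commRingCatIsoToRingEquiv.surjective) ?_
  rw [RingHom.finite_algebraMap]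
  haveI : IsNoetherianRing Γ(S, U) := IsLocallyNoetherian.component_noetherian ⟨U, hU⟩
  suffices h : Module.Finite Γ(S, U) Γ(X, f ⁻¹ᵁ U) by
    haveI := isNoetherian_of_isNoetherianRing_of_finite Γ(S, U) Γ(X, f ⁻¹ᵁ U)
    exact Module.Finite.of_injective (integralClosure Γ(S, U) Γ(X, f ⁻¹ᵁ U)).val.toLinearMap Subtype.val_injective
  let Y := (f ⁻¹ᵁ U).toScheme
  letI : Y.Over (Spec (CommRingCat.of Γ(S, U))) := ⟨(f ∣_ U) ≫ hU.isoSpec.hom⟩
  haveI : IsProper (f ∣_ U) := IsZariskiLocalAtTarget.restrict (P := @IsProper) ‹_› U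
  haveI : IsProper (Y ↘ Spec (CommRingCat.of Γ(S, U))) := by
    change IsProper ((f ∣_ U) ≫ hU.isoSpec.hom)
    infer_instance
  haveI : IsLocallyNoetherian Y :=
    LocallyOfFiniteType.isLocallyNoetherian (Y ↘ Spec (CommRingCat.of Γ(S, U)))
  haveI := CohFinite.finite_proper Γ(S, U) Y (Coh.structureModule Y) (Devissage.isCoh_unit Y) 0
  obtain ⟨e, he⟩ := CohFinite.exists_zero_equiv Γ(S, U) (Coh.structureModule Y)
  have htg : ∀ a : Γ(S, U), (f ⁻¹ᵁ U).topIso.hom (Coh.toGlobal (Y ↘ Spec (CommRingCat.of Γ(S, U))) a) =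
      algebraMap Γ(S, U) Γ(X, f ⁻¹ᵁ U) a := fun a => by
    change ((Scheme.ΓSpecIso (CommRingCat.of Γ(S, U))).inv ≫ ((f ∣_ U) ≫ hU.isoSpec.hom).appTop ≫
      (f ⁻¹ᵁ U).topIso.hom).hom a = (f.app U).hom a
    congr 2
    rw [Scheme.Hom.comp_appTop, IsAffineOpen.isoSpec_hom, Scheme.Opens.toSpecΓ_appTop, morphismRestrict_appTop]
    simp [Scheme.Opens.topIso, Scheme.Hom.app_eq_appLE]
    exact Iso.inv_hom_id_assoc (Scheme.ΓSpecIso Γ(S, U)) _
  let l : Coh.HH Y (Coh.structureModule Y) 0 →ₗ[Γ(S, U)] Γ(X, f ⁻¹ᵁ U) :=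
    { toFun := fun x => (f ⁻¹ᵁ U).topIso.hom (show Γ(Y, ⊤) from e x)
      map_add' := fun x y => by rw [map_add e]; exact map_add (f ⁻¹ᵁ U).topIso.hom.hom _ _
      map_smul' := fun a x => by
        rw [he, RingHom.id_apply, Algebra.smul_def, ← htg a]
        exact map_mul (f ⁻¹ᵁ U).topIso.hom.hom _ _ }
  refine Module.Finite.of_surjective l fun z => ?_
  obtain ⟨w, hw⟩ := (ConcreteCategory.bijective_of_isIso (f ⁻¹ᵁ U).topIso.hom).2 z
  obtain ⟨x, hx⟩ := e.surjective w
  exact ⟨x, (congrArg (fun w => (f ⁻¹ᵁ U).topIso.hom w) hx).trans hw⟩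

end Groth.Agent.S1297
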