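import Groth.Statements.S0532
import Mathlib
import Groth.Agent.Hensel.SmoothQuotientLift
import Groth.Agent.Hensel.SpreadModel
import Groth.Agent.Hensel.FiniteModel
-- import your own Groth.Agent.* helpers here

set_option autoImplicit false
universe u
open Hensel

open scoped TensorProduct

namespace Groth.Agent.S0532

/-- If `A` is Henselian at `I`, every finite étale `A/I`-algebra is the base change of a finite étale
`A`-algebra. -/
theorem result (A : Type u) [CommRing A] (I : Ideal A) [HenselianRing A I]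
    (C : Type u) [CommRing C] [Algebra (A ⧸ I) C] [Module.Finite (A ⧸ I) C] [Algebra.Etale (A ⧸ I) C] :
    ∃ (B : Type u) (_ : CommRing B) (_ : Algebra A B), Module.Finite A B ∧ Algebra.Etale A B ∧
      Nonempty (TensorProduct A (A ⧸ I) B ≃ₐ[A ⧸ I] C) := by
  classical
  obtain ⟨R, _, _, hR, ⟨e⟩⟩ := Groth.Agent.Hensel.exists_smooth_lift_quotient A I C
  haveI : Algebra.Etale (A ⧸ I) (R ⧸ I.map (algebraMap A R)) := Algebra.Etale.of_equiv e.symm
  haveI : Module.Finite (A ⧸ I) (R ⧸ I.map (algebraMap A R)) := Module.Finite.equiv e.symm.toLinearEquiv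
  obtain ⟨f, hf, hfin⟩ := Groth.Agent.Hensel.exists_finite_nhd I (R := R)
  obtain ⟨g, hg, hgU⟩ := Groth.Agent.Hensel.exists_sub_one_mem_basicOpen_subset (I.map (algebraMap A R))
    (Algebra.isOpen_etaleLocus (R := A) (A := R)) fun p hp => by
      rw [Algebra.etaleLocus_eq_unramfiedLocus_inter_smoothLocus, Algebra.smoothLocus_eq_univ, Set.inter_univ]
      exact Groth.Agent.Hensel.isUnramifiedAt_of_quotient I p.asIdeal hp
  let T := Localization.Away f
  haveI : Module.Finite A T := hfin
  haveI : Algebra.IsIntegral A T := Algebra.IsIntegral.of_finite A T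
  have hjac : I.map (algebraMap A T) ≤ Ideal.jacobson ⊥ :=
    Groth.Agent.Hensel.map_le_jacobson (HenselianRing.jac (I := I))
  have hgu : IsUnit (algebraMap R T g) := by
    have hmem : algebraMap R T g - 1 ∈ I.map (algebraMap A T) := by
      rw [IsScalarTower.algebraMap_eq A R T, ← Ideal.map_map, ← map_one (algebraMap R T), ← map_sub]
      exact Ideal.mem_map_of_mem _ hg
    simpa using Ideal.mem_jacobson_bot.1 (hjac hmem) 1
  haveI : Algebra.Smooth A T := Algebra.Smooth.comp A R T
  have hfT : (Localization.Away f) = T := rfl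
  have hsub : (PrimeSpectrum.basicOpen f : Set (PrimeSpectrum R)) ⊆ Algebra.etaleLocus A R := fun p hp => by
    refine hgU p fun hgp => ?_
    obtain ⟨q, rfl⟩ := (PrimeSpectrum.localization_away_comap_range T f).ge hp
    exact q.isPrime.ne_top (q.asIdeal.eq_top_of_isUnit_mem hgp hgu)
  haveI : Algebra.Etale A T := Algebra.basicOpen_subset_etaleLocus_iff_etale.1 hsub
  haveI : Algebra.IsPushout A (A ⧸ I) T (T ⧸ I.map (algebraMap A T)) := Groth.Agent.FibCrit.isPushout_quot I rfl
  let e₁ : ((A ⧸ I) ⊗[A] T) ≃ₐ[A ⧸ I] T ⧸ I.map (algebraMap A T) :=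
    Algebra.IsPushout.equiv A (A ⧸ I) T (T ⧸ I.map (algebraMap A T))
  have hle : I.map (algebraMap A R) ≤ (I.map (algebraMap A T)).comap (IsScalarTower.toAlgHom A R T) :=
    Ideal.map_le_iff_le_comap.2 fun a ha => by
      rw [Ideal.mem_comap, Ideal.mem_comap, AlgHom.commutes]
      exact Ideal.mem_map_of_mem _ ha
  let ψ₀ : (R ⧸ I.map (algebraMap A R)) →ₐ[A] T ⧸ I.map (algebraMap A T) :=
    Ideal.quotientMapₐ _ (IsScalarTower.toAlgHom A R T) hle
  let ψ : (R ⧸ I.map (algebraMap A R)) →ₐ[A ⧸ I] T ⧸ I.map (algebraMap A T) := { ψ₀ with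
    commutes' := fun r => by
      obtain ⟨a, rfl⟩ := Ideal.Quotient.mk_surjective r
      exact ψ₀.commutes a }
  have hψ : Function.Bijective ψ := by
    have hb := Groth.Agent.Hensel.bijective_quotientMap_away (I.map (algebraMap A R)) hf
    have heq : (I.map (algebraMap A R)).map (algebraMap R T) = I.map (algebraMap A T) := by
      rw [Ideal.map_map, ← IsScalarTower.algebraMap_eq]
    refine ⟨fun x y hxy => hb.1 ?_, fun y => ?_⟩
    · obtain ⟨x, rfl⟩ := Ideal.Quotient.mk_surjective x
      obtain ⟨y, rfl⟩ := Ideal.Quotient.mk_surjective y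
      rw [Ideal.quotientMap_mk, Ideal.quotientMap_mk, Ideal.Quotient.eq, heq]
      exact Ideal.Quotient.eq.1 hxy
    · obtain ⟨z, rfl⟩ := Ideal.Quotient.mk_surjective y
      obtain ⟨x, hx⟩ := hb.2 (Ideal.Quotient.mk _ z)
      obtain ⟨x, rfl⟩ := Ideal.Quotient.mk_surjective x
      rw [Ideal.quotientMap_mk, Ideal.Quotient.eq, heq] at hx
      exact ⟨Ideal.Quotient.mk _ x, Ideal.Quotient.eq.2 hx⟩
  exact ⟨T, inferInstance, inferInstance, inferInstance, inferInstance,
    ⟨e₁.trans ((AlgEquiv.ofBijective ψ hψ).symm.trans e)⟩⟩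

end Groth.Agent.S0532
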