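import Groth.Statements.S2979
import Groth.Agent.MultT.QuasiLift
import Groth.Agent.MultT.ZariskiIso
import Groth.Agent.MultT.PiChart
import Groth.Agent.MultT.OpenSub
import Mathlib

set_option autoImplicit false
set_option synthInstance.maxHeartbeats 400000
universe u
open TensorProduct SGA3b
open SGA3b

namespace Groth.Agent.S2979

open Groth.Agent.MultT

variable {B : Type u} [CommRing B] {A₀ : Type u} [CommRing A₀] [HopfAlgebra B A₀]

/-- Two diagonalisations over algebras covering a common point have the same type. -/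
theorem type_unique (f g : B) (p : PrimeSpectrum B) (hg : g ∉ p.asIdeal)
    (T T' : Type u) [CommRing T] [CommRing T'] [Algebra B T] [Algebra B T'] [Algebra (Localization.Away g) T']
    [IsScalarTower B (Localization.Away g) T'] [Module.FaithfullyFlat (Localization.Away g) T']
    (P : PrimeSpectrum T) (hP : PrimeSpectrum.comap (algebraMap B T) P = p)
    {M N : Type u} [CommGroup M] [CommGroup N]
    (e : (T ⊗[B] A₀) ≃ₐc[T] MonoidAlgebra T M) (e' : (T' ⊗[B] A₀) ≃ₐc[T'] MonoidAlgebra T' N) :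
    Nonempty (M ≃* N) := by
  let k := P.asIdeal.ResidueField
  have hgk : IsUnit (algebraMap B k g) := by
    rw [isUnit_iff_ne_zero, IsScalarTower.algebraMap_apply B T k, Ne, Ideal.algebraMap_residueField_eq_zero]
    intro h
    exact hg (by rw [← hP]; exact h)
  letI : Algebra (Localization.Away g) k := (IsLocalization.Away.lift (S := Localization.Away g) g hgk).toAlgebra
  haveI : IsScalarTower B (Localization.Away g) k :=
    .of_algebraMap_eq fun b => (IsLocalization.Away.lift_eq (S := Localization.Away g) g hgk b).symm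
  let X := k ⊗[Localization.Away g] T'
  obtain ⟨m, hm⟩ := Ideal.exists_maximal X
  let K := X ⧸ m
  letI : Field K := Ideal.Quotient.field m
  let q : X →ₐ[B] K := Ideal.Quotient.mkₐ B m
  let φ : T →ₐ[B] K := q.comp (((Algebra.TensorProduct.includeLeft : k →ₐ[Localization.Away g] X).restrictScalars B).comp
    (IsScalarTower.toAlgHom B T k))
  let ψ : T' →ₐ[B] K := q.comp ((Algebra.TensorProduct.includeRight : T' →ₐ[Localization.Away g] X).restrictScalars B)
  obtain ⟨eK, -⟩ := exists_baseEquiv e φ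
  obtain ⟨eK', -⟩ := exists_baseEquiv e' ψ
  exact nonempty_mulEquiv (eK.symm.trans eK')

/-- A quasi-isotrivial group decomposes along finitely many idempotents into groups of constant type. -/
theorem exists_decomp (h0 : IsQuasiIsotrivial B A₀) :
    ∃ (ι : Type u) (_ : Fintype ι) (ē : ι → B) (_ : CompleteOrthogonalIdempotents ē),
      ∀ i, ∃ (S : Type u) (_ : CommRing S) (_ : Algebra B S), Algebra.Etale B S ∧ IsUnit (algebraMap B S (ē i)) ∧
        (∀ p : PrimeSpectrum B, ē i ∉ p.asIdeal → p ∈ Set.range (PrimeSpectrum.comap (algebraMap B S))) ∧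
        IsDiag S (S ⊗[B] A₀) := by
  classical
  obtain ⟨s, hs, h⟩ := h0
  obtain ⟨s', hs's, hs'⟩ := (Ideal.span_eq_top_iff_finite s).1 hs
  have hd : ∀ f : s', ∃ (T : Type u) (_ : CommRing T) (_ : Algebra B T) (_ : Algebra (Localization.Away (f : B)) T)
      (_ : IsScalarTower B (Localization.Away (f : B)) T), Algebra.Etale B T ∧
      Module.FaithfullyFlat (Localization.Away (f : B)) T ∧
      ∃ (M : Type u) (_ : CommGroup M), Nonempty ((T ⊗[B] A₀) ≃ₐc[T] MonoidAlgebra T M) := by
    intro f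
    obtain ⟨T, _, _, het, hff, hd⟩ := h f (hs's f.2)
    letI : Algebra B T := Algebra.compHom T (algebraMap B (Localization.Away (f : B)))
    haveI : IsScalarTower B (Localization.Away (f : B)) T := .of_algebraMap_eq fun _ => rfl
    haveI := het
    haveI : Algebra.Etale B (Localization.Away (f : B)) := Algebra.Etale.of_isLocalizationAway (f : B)
    exact ⟨T, inferInstance, inferInstance, inferInstance, inferInstance,
      Algebra.Etale.comp B (Localization.Away (f : B)) T, hff,
      isDiag_of_equiv (bcTrans B (Localization.Away (f : B)) T A₀).symm hd⟩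
  choose T iT iA iL iTow hTet hTff M iM e using hd
  have hrange : ∀ (f : s') (p : PrimeSpectrum B), (f : B) ∉ p.asIdeal →
      p ∈ Set.range (PrimeSpectrum.comap (algebraMap B (T f))) := by
    intro f p hp
    haveI := hTff f
    obtain ⟨P, hP⟩ : p ∈ Set.range (PrimeSpectrum.comap (algebraMap B (Localization.Away (f : B)))) := by
      rw [PrimeSpectrum.localization_away_comap_range (Localization.Away (f : B)) (f : B)]; exact hp
    obtain ⟨Q, hQ⟩ := PrimeSpectrum.comap_surjective_of_faithfullyFlat (B := T f) P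
    exact ⟨Q, by rw [IsScalarTower.algebraMap_eq B (Localization.Away (f : B)) (T f),
      PrimeSpectrum.comap_comp_apply, hQ, hP]⟩
  have hunit : ∀ f : s', IsUnit (algebraMap B (T f) (f : B)) := fun f => by
    rw [IsScalarTower.algebraMap_apply B (Localization.Away (f : B)) (T f)]
    exact (IsLocalization.Away.algebraMap_isUnit (f : B)).map _
  let r : Setoid s' := ⟨fun f g => Nonempty (M f ≃* M g),
    fun f => ⟨MulEquiv.refl _⟩, fun ⟨a⟩ => ⟨a.symm⟩, fun ⟨a⟩ ⟨b⟩ => ⟨a.trans b⟩⟩
  let ι := Quotient r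
  let U : ι → Set (PrimeSpectrum B) := fun i =>
    ⋃ f ∈ {f : s' | Quotient.mk r f = i}, (PrimeSpectrum.basicOpen (f : B) : Set (PrimeSpectrum B))
  have hUmem : ∀ i p, p ∈ U i ↔ ∃ f : s', Quotient.mk r f = i ∧ (f : B) ∉ p.asIdeal := fun i p => by
    simp [U]
  have hcov : ∀ p : PrimeSpectrum B, ∃ i, p ∈ U i := by
    intro p
    by_contra hc
    push Not at hc
    apply p.2.ne_top
    rw [eq_top_iff, ← hs', Ideal.span_le]
    intro x hx
    by_contra hxp
    exact hc (Quotient.mk r ⟨x, hx⟩) ((hUmem _ p).2 ⟨⟨x, hx⟩, rfl, hxp⟩)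
  have hdisj : ∀ i j p, p ∈ U i → p ∈ U j → i = j := by
    intro i j p hi hj
    obtain ⟨f, rfl, hf⟩ := (hUmem i p).1 hi
    obtain ⟨g, rfl, hg⟩ := (hUmem j p).1 hj
    obtain ⟨P, hP⟩ := hrange f p hf
    haveI := hTff g
    exact Quotient.sound (type_unique (f : B) (g : B) p hg (T f) (T g) P hP (e f).some (e g).some)
  have hopen : ∀ i, IsOpen (U i) := fun i => isOpen_biUnion fun f _ => PrimeSpectrum.isOpen_basicOpen
  have hclopen : ∀ i, IsClopen (U i) := fun i => ⟨⟨by
    rw [show (U i)ᶜ = ⋃ j ∈ {j | j ≠ i}, U j from Set.ext fun p => by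
      simp only [Set.mem_compl_iff, Set.mem_iUnion, Set.mem_setOf_eq, exists_prop]
      refine ⟨fun h => ?_, fun ⟨j, hj, hpj⟩ hpi => hj (hdisj j i p hpj hpi)⟩
      obtain ⟨j, hj⟩ := hcov p
      exact ⟨j, fun hji => h (hji ▸ hj), hj⟩]
    exact isOpen_biUnion fun j _ => hopen j⟩, hopen i⟩
  choose ē hē hU using fun i => PrimeSpectrum.exists_idempotent_basicOpen_eq_of_isClopen (hclopen i)
  have hmem : ∀ i p, p ∈ U i ↔ ē i ∉ p.asIdeal := fun i p => by rw [hU i]; rfl
  have horth : OrthogonalIdempotents ē := by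
    refine ⟨hē, fun i j hij => ?_⟩
    refine ((hē i).mul (hē j)).eq_zero_of_isNilpotent (mem_nilradical.1 ?_)
    rw [nilradical_eq_sInf, Ideal.mem_sInf]
    intro P hP
    by_contra hc
    exact hij (hdisj i j ⟨P, hP⟩ ((hmem i _).2 fun h => hc (P.mul_mem_right _ h))
      ((hmem j _).2 fun h => hc (P.mul_mem_left _ h)))
  haveI : Fintype ι := Quotient.fintype r
  refine ⟨ι, inferInstance, ē, ⟨horth, ?_⟩, fun i => ?_⟩
  · refine (IsIdempotentElem.iff_eq_one_of_isUnit ?_).1 (horth.isIdempotentElem_sum (s := Finset.univ))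
    by_contra hnu
    obtain ⟨m, hm, hle⟩ := exists_max_ideal_of_mem_nonunits hnu
    obtain ⟨i, hi⟩ := hcov ⟨m, hm.isPrime⟩
    refine (hmem i _).1 hi ?_
    have h1 : ē i * ∑ j, ē j ∈ m := m.mul_mem_left _ hle
    rwa [horth.mul_sum_of_mem (Finset.mem_univ i)] at h1
  let J := {f : s' // Quotient.mk r f = i}
  have hiso : ∀ f : J, Nonempty (M f.1 ≃* M i.out) := fun f => Quotient.exact (f.2.trans (Quotient.out_eq i).symm)
  haveI : ∀ f : J, Algebra.Etale B (T f.1) := fun f => hTet f.1
  refine ⟨∀ f : J, T f.1, inferInstance, inferInstance, inferInstance, ?_, fun p hp => ?_, ?_⟩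
  · refine Pi.isUnit_iff.2 fun f => ?_
    by_contra hnu
    obtain ⟨m, hm, hle⟩ := exists_max_ideal_of_mem_nonunits hnu
    refine (hmem i (PrimeSpectrum.comap (algebraMap B (T f.1)) ⟨m, hm.isPrime⟩)).1
      ((hUmem _ _).2 ⟨f.1, f.2, fun h => hm.ne_top (Ideal.eq_top_of_isUnit_mem _ h (hunit f.1))⟩) ?_
    exact hle
  · obtain ⟨f, hf, hfp⟩ := (hUmem i p).1 ((hmem i p).2 hp)
    obtain ⟨Q, hQ⟩ := hrange f p hfp
    exact ⟨PrimeSpectrum.comap (Pi.evalRingHom (fun f : J => T f.1) ⟨f, hf⟩) Q,
      (PrimeSpectrum.comap_comp_apply _ _ Q).symm.trans hQ⟩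
  · exact isDiag_pi (fun f : J => T f.1) (M i.out) fun f =>
      (e f.1).some.trans (MonoidAlgebra.domCongrBialgEquiv (T f.1) (T f.1) (hiso f).some)

/-- Quasi-isotriviality with constant type passes to algebras. -/
theorem quasiConst_baseChange {R : Type u} [CommRing R] {A : Type u} [CommRing A] [HopfAlgebra R A]
    (h : IsQuasiIsotrivialConst R A) (L : Type u) [CommRing L] [Algebra R L] :
    IsQuasiIsotrivialConst L (L ⊗[R] A) := by
  obtain ⟨S, _, _, het, hff, hd⟩ := h
  haveI := het; haveI := hff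
  letI : Algebra S (L ⊗[R] S) := Algebra.TensorProduct.rightAlgebra
  exact ⟨L ⊗[R] S, inferInstance, inferInstance, inferInstance, inferInstance,
    isDiag_of_equiv (bcTrans R L (L ⊗[R] S) A) (isDiag_baseChange hd (L ⊗[R] S))⟩

theorem quasiConst_of_equiv {R : Type u} [CommRing R] {A A' : Type u} [CommRing A] [HopfAlgebra R A] [CommRing A']
    [HopfAlgebra R A'] (θ : A ≃ₐc[R] A') (h : IsQuasiIsotrivialConst R A) : IsQuasiIsotrivialConst R A' := by
  obtain ⟨S, iS, iA, het, hff, hd⟩ := h
  exact ⟨S, iS, iA, het, hff, isDiag_of_equiv (exists_bcCongr θ.symm S).some hd⟩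


/-- Let R be a ring and I an ideal consisting of nilpotent elements. Every quasi-isotrivial (R/I)-group
of multiplicative type Spec A₀ is the base change of some quasi-isotrivial R-group of multiplicative
type Spec A. (Affine group schemes over an affine base are taken in Hopf-algebra form; base change
is the tensor product.) -/
theorem result (R : Type u) [CommRing R] (I : Ideal R) (hI : ∀ x ∈ I, IsNilpotent x)
    (A₀ : Type u) [CommRing A₀] [HopfAlgebra (R ⧸ I) A₀] (h0 : IsQuasiIsotrivial (R ⧸ I) A₀) :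
    ∃ (A : Type u) (_ : CommRing A) (_ : HopfAlgebra R A), IsQuasiIsotrivial R A ∧ Nonempty (((R ⧸ I) ⊗[R] A) ≃ₐc[R ⧸ I] A₀) := by
  classical
  obtain ⟨ι, _, ē, hē, hS⟩ := exists_decomp h0
  obtain ⟨e, he, hee⟩ := hē.lift_of_isNilpotent_ker (Ideal.Quotient.mk I)
    (fun x hx => hI x (Ideal.mk_ker (I := I) ▸ hx)) fun i => Ideal.Quotient.mk_surjective (ē i)
  have hee' : ∀ i, Ideal.Quotient.mk I (e i) = ē i := fun i => congrFun hee i
  let K : ι → Type u := fun i => R ⧸ Ideal.span {1 - e i}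
  have hs : ∀ i, Function.Surjective (algebraMap R (K i)) := fun i => Ideal.Quotient.mk_surjective
  have hk : ∀ i r, algebraMap R (K i) r = 0 ↔ e i * r = 0 := by
    intro i r
    refine (Ideal.Quotient.eq_zero_iff_mem.trans Ideal.mem_span_singleton).trans ⟨?_, fun h => ?_⟩
    · rintro ⟨c, rfl⟩
      rw [← mul_assoc, mul_sub, mul_one, (he.idem i).eq, sub_self, zero_mul]
    · exact ⟨r, by rw [sub_mul, one_mul, h, sub_zero]⟩
  have hA : ∀ i, ∃ (B : Type u) (_ : CommRing B) (_ : Algebra (R ⧸ I) B) (_ : Algebra R B)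
      (_ : IsScalarTower R (R ⧸ I) B) (_ : Algebra (K i) B) (_ : IsScalarTower R (K i) B),
      Function.Surjective (algebraMap (R ⧸ I) B) ∧ (∀ c, algebraMap (R ⧸ I) B c = 0 ↔ ē i * c = 0) ∧
      ∃ (A : Type u) (_ : CommRing A) (_ : HopfAlgebra (K i) A), IsQuasiIsotrivialConst (K i) A ∧
        Nonempty ((B ⊗[K i] A) ≃ₐc[B] (B ⊗[R ⧸ I] A₀)) := by
    intro i
    let J := I.map (algebraMap R (K i))
    let B := K i ⧸ J
    letI : Algebra (R ⧸ I) B := quotAlgebra I B (quot_kills I (K i))
    haveI : IsScalarTower R (R ⧸ I) B := .of_algebraMap_eq fun _ => rfl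
    have hBs : Function.Surjective (algebraMap (R ⧸ I) B) := fun b => by
      obtain ⟨k, rfl⟩ := Ideal.Quotient.mk_surjective b
      obtain ⟨r, rfl⟩ := hs i k
      exact ⟨Ideal.Quotient.mk I r, rfl⟩
    have hBk : ∀ c, algebraMap (R ⧸ I) B c = 0 ↔ ē i * c = 0 := by
      intro c
      obtain ⟨r, rfl⟩ := Ideal.Quotient.mk_surjective c
      rw [← hee', ← map_mul, Ideal.Quotient.eq_zero_iff_mem,
        show algebraMap (R ⧸ I) B (Ideal.Quotient.mk I r) = Ideal.Quotient.mk J (algebraMap R (K i) r) from rfl,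
        Ideal.Quotient.eq_zero_iff_mem, Ideal.mem_map_iff_of_surjective _ (hs i)]
      refine ⟨fun ⟨x, hx, hxr⟩ => ?_, fun h => ⟨e i * r, h, ?_⟩⟩
      · have h1 : e i * (r - x) = 0 := (hk i _).1 (by rw [map_sub, hxr, sub_self])
        rw [mul_sub, sub_eq_zero] at h1
        rw [h1]; exact I.mul_mem_left _ hx
      · rw [map_mul, Groth.Agent.MultT.PiHopf.algebraMap_idem he hk, one_mul]
    obtain ⟨S, _, _, het, hu, hcov, hd⟩ := hS i
    haveI := het
    have hkill : RingHom.ker (algebraMap (R ⧸ I) B) ≤ RingHom.ker (algebraMap (R ⧸ I) S) := fun c hc => by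
      have h1 := congrArg (algebraMap (R ⧸ I) S) ((hBk c).1 hc)
      rw [map_mul, map_zero] at h1
      exact hu.mul_right_eq_zero.1 h1
    letI : Algebra B S := (RingHom.liftOfSurjective (algebraMap (R ⧸ I) B) hBs ⟨algebraMap (R ⧸ I) S, hkill⟩).toAlgebra
    haveI : IsScalarTower (R ⧸ I) B S := .of_algebraMap_eq fun c =>
      (RingHom.liftOfRightInverse_comp_apply (algebraMap (R ⧸ I) B) _ (Function.rightInverse_surjInv hBs)
        ⟨algebraMap (R ⧸ I) S, hkill⟩ c).symm
    haveI : IsLocalization.Away (ē i) B := IsLocalization.away_of_isIdempotentElem_of_mul (hē.idem i)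
      (fun x y => by rw [← sub_eq_zero, ← map_sub, hBk, mul_sub, sub_eq_zero]) hBs
    haveI : Algebra.Etale (R ⧸ I) B := Algebra.Etale.of_isLocalizationAway (ē i)
    haveI : Algebra.Etale B S := Algebra.Etale.of_restrictScalars (R ⧸ I) B S
    haveI : Module.Flat B S := Algebra.Smooth.flat B S
    haveI : Module.FaithfullyFlat B S := Module.FaithfullyFlat.of_comap_surjective fun P => by
      have hp : ē i ∉ (PrimeSpectrum.comap (algebraMap (R ⧸ I) B) P).asIdeal := fun h =>
        P.2.ne_top (Ideal.eq_top_of_isUnit_mem _ h (IsLocalization.Away.algebraMap_isUnit (ē i)))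
      obtain ⟨Q, hQ⟩ := hcov _ hp
      refine ⟨Q, PrimeSpectrum.comap_injective_of_surjective _ hBs ?_⟩
      rw [← PrimeSpectrum.comap_comp_apply, ← IsScalarTower.algebraMap_eq, hQ]
    have hJ : ∀ x ∈ J, IsNilpotent x := fun x hx => mem_nilradical.1 (map_le_nil hI (K i) hx)
    obtain ⟨M, _, ⟨e₀⟩⟩ := isDiag_of_equiv (bcTrans (R ⧸ I) B S A₀) hd
    letI : Algebra (K i) S := Algebra.compHom S (Ideal.Quotient.mk J)
    haveI : IsScalarTower (K i) B S := IsScalarTower.of_algebraMap_eq (R := K i) (S := B) (A := S) fun _ => rfl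
    obtain ⟨A, iA, iH, hq, hα⟩ := exists_quasiConst_lift hJ e₀
    exact ⟨B, inferInstance, inferInstance, inferInstance, inferInstance, inferInstance, inferInstance, hBs, hBk,
      A, iA, iH, hq, hα⟩
  choose B iB iBA iBR iBT iBK iBT' hBs hBk A iA iH hq hα using hA
  letI : ∀ i, Algebra R (A i) := fun i => Algebra.compHom (A i) (algebraMap R (K i))
  haveI : ∀ i, IsScalarTower R (K i) (A i) := fun i => .of_algebraMap_eq fun _ => rfl
  obtain ⟨G, _, _, hβ⟩ := Groth.Agent.MultT.PiHopf.exists_hopf he hs hk (A := A)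
  refine ⟨G, inferInstance, inferInstance, ⟨Set.range e, ?_, ?_⟩,
    Groth.Agent.MultT.PiHopf.exists_equiv hē hBs hBk fun i => ?_⟩
  · rw [Ideal.eq_top_iff_one, ← he.complete]
    exact Ideal.sum_mem _ fun i _ => Ideal.subset_span ⟨i, rfl⟩
  · rintro _ ⟨i, rfl⟩
    let L := Localization.Away (e i)
    have hle : Ideal.span {1 - e i} ≤ RingHom.ker (algebraMap R L) := by
      rw [Ideal.span_singleton_le_iff_mem, RingHom.mem_ker]
      refine (IsLocalization.Away.algebraMap_isUnit (e i)).mul_right_eq_zero.1 ?_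
      rw [← map_mul, mul_sub, mul_one, (he.idem i).eq, sub_self, map_zero]
    letI : Algebra (K i) L := (Ideal.Quotient.lift _ (algebraMap R L) hle).toAlgebra
    haveI : IsScalarTower R (K i) L := .of_algebraMap_eq fun _ => rfl
    exact quasiConst_of_equiv (bcTrans R (K i) L G)
      (quasiConst_of_equiv (exists_bcCongr (hβ i).some.symm L).some (quasiConst_baseChange (hq i) L))
  · exact (((bcTrans R (R ⧸ I) (B i) G).trans (bcTrans R (K i) (B i) G).symm).trans
      (exists_bcCongr (hβ i).some (B i)).some).trans (hα i).some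

end Groth.Agent.S2979
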