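import Groth.Statements.S0353
import Groth.Agent.GrpBasic.Cartier

set_option autoImplicit false
universe u v
open CategoryTheory MonoidalCategory CartesianMonoidalCategory MonObj GrpObj AlgebraicGeometry
open GrpSch

namespace Groth.Agent.S0353

/-- A group scheme locally of finite type over a field of characteristic zero is smooth over the field. -/
theorem result (K : Type u) [Field K] (G : Over (Spec (CommRingCat.of K))) [GrpObj G] [CharZero K] [LocallyOfFiniteType G.hom] : Smooth G.hom := by
  let : GrpObj (Over.mk G.hom) := ‹GrpObj G›
  exact Groth.Agent.Cartier.smooth_of_charZero G.hom

end Groth.Agent.S0353
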