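import Groth.Statements.S5260
import Groth.Agent.SubLocus.Transporter
-- import your own Groth.Agent.* helpers here

set_option autoImplicit false
open CategoryTheory MonoidalCategory CartesianMonoidalCategory MonObj GrpObj AlgebraicGeometry
universe u
open SGA3x

namespace Groth.Agent.S5260

/-- Normalizer: Let G be an S-group locally of finite type and quasi-separated over S, H an S-group
which is smooth and of finite presentation over S with connected fibres, and i : H ⟶ G a
homomorphism which is a monomorphism. Then the normalizer of H in G is representable by a closed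
subgroup scheme of G whose immersion into G is of finite presentation. -/
theorem result {S : Scheme.{u}} (G H : Over S) [GrpObj G] [GrpObj H]
    [LocallyOfFiniteType G.hom] [QuasiSeparated G.hom] [Smooth H.hom] [QuasiCompact H.hom] [QuasiSeparated H.hom]
    (hconn : ∀ s : S, ConnectedSpace ↥(Limits.pullback H.hom (S.fromSpecResidueField s)))
    (i : H ⟶ G) [IsMonHom i] [Mono i] :
    ∃ (N : Over S) (_ : GrpObj N) (j : N ⟶ G), Red.IsNormalizerOf i j ∧ IsClosedImmersion j.left ∧
      LocallyOfFinitePresentation j.left := by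
  have : GeometricallyIrreducible H.hom :=
    Groth.Agent.GrpField.geometricallyIrreducible_of_connected_fibres H fun s => by
      have : ConnectedSpace (H.hom.fiber s) := hconn s
      exact isConnected_iff_connectedSpace.mpr ((H.hom.fiberHomeo s).surjective.connectedSpace (H.hom.fiberHomeo s).continuous)
  obtain ⟨N, n, hn, hnf, hN⟩ := Groth.Agent.SubLocus.exists_normalizer i
  have : Mono n.left := inferInstance
  have : Mono n := Over.mono_of_mono_left n
  have hdiv : ∀ (T : Over S) (k₁ k₂ : T ⟶ N), ∃ k₃ : T ⟶ N, k₃ ≫ n = (k₁ ≫ n)⁻¹ * (k₂ ≫ n) := by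
    intro T k₁ k₂
    rw [hN]
    intro X' x a
    have p₁ := (hN (_) (k₁ ≫ n)).1 ⟨k₁, rfl⟩ X' x
    have p₂ := (hN (_) (k₂ ≫ n)).1 ⟨k₂, rfl⟩ X' x
    simp only [MonObj.comp_mul, GrpObj.comp_inv, _root_.mul_inv_rev, _root_.inv_inv]
    constructor
    · obtain ⟨a', ha'⟩ := (p₂ a).1
      obtain ⟨a'', ha''⟩ := (p₁ a').2
      exact ⟨a'', by rw [← ha'', ← ha']; simp only [_root_.mul_assoc]⟩
    · obtain ⟨a', ha'⟩ := (p₁ a).1
      obtain ⟨a'', ha''⟩ := (p₂ a').2
      exact ⟨a'', by rw [← ha'', ← ha']; simp only [_root_.mul_assoc]⟩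
  have he : ∃ e : 𝟙_ (Over S) ⟶ N, e ≫ n = η[G] := by
    rw [hN]
    intro X' x a
    rw [show x ≫ η[G] = (1 : X' ⟶ G) by rw [Hom.one_def, toUnit_unique (toUnit X') x]]
    exact ⟨⟨a, by simp⟩, ⟨a, by simp⟩⟩
  obtain ⟨hg, hm⟩ := Groth.Agent.MTBridge.exists_grpObj_of_div n he hdiv
  exact ⟨N, hg, n, ⟨hm, inferInstance, hN⟩, hn, hnf⟩

end Groth.Agent.S5260
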