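import Groth.Statements.S14586
import Groth.Agent.GrpAct.OrbitDim

set_option autoImplicit false
universe u
open CategoryTheory MonoidalCategory CartesianMonoidalCategory MonObj GrpObj AlgebraicGeometry CategoryTheory.Limits
open AlgGrp

namespace Groth.Agent.S14586

/-- Let k be an algebraically closed field, G a smooth k-group scheme of finite type and X a non-empty
separated k-scheme of finite type with an action of G. Then there is a rational point x of X whose
orbit, the image of the orbit map g ↦ g · x, is closed in X. -/
theorem result (k : Type u) [Field k] [IsAlgClosed k]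
    (G X : Over (Spec (CommRingCat.of k))) [GrpObj G] [Smooth G.hom] [QuasiCompact G.hom]
    [LocallyOfFiniteType X.hom] [QuasiCompact X.hom] [IsSeparated X.hom] [Nonempty ↥X.left]
    (a : AlgGrp.Action G X) :
    ∃ x : 𝟙_ (Over (Spec (CommRingCat.of k))) ⟶ X, IsClosed (Set.range ⇑(a.orbitMap x).left.base) := by
  have : IsLocallyNoetherian X.left := LocallyOfFiniteType.isLocallyNoetherian X.hom
  have : JacobsonSpace X.left := LocallyOfFiniteType.jacobsonSpace X.hom
  obtain ⟨y, -, hy⟩ := nonempty_inter_closedPoints (Z := (Set.univ : Set X.left)) Set.univ_nonempty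
    isOpen_univ.isLocallyClosed
  have : Nonempty (𝟙_ (Over (Spec (CommRingCat.of k))) ⟶ X) :=
    ⟨Over.homMk (pointOfClosedPoint X.hom y hy) (pointOfClosedPoint_comp X.hom y hy)⟩
  let d : (𝟙_ (Over (Spec (CommRingCat.of k))) ⟶ X) → WithBot ℕ∞ :=
    fun z => topologicalKrullDim ↥(Groth.Agent.GrpAct.orbit a z)
  exact ⟨Function.argmin d, Groth.Agent.GrpAct.isClosed_orbit_of_minimal a _ fun z =>
    not_lt.1 (Function.not_lt_argmin d z)⟩

end Groth.Agent.S14586
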