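import Groth.Statements.S5355
import Groth.Agent.GrpField.FlatPoint

set_option autoImplicit false
universe u
open CategoryTheory CategoryTheory.Limits MonoidalCategory CartesianMonoidalCategory MonObj GrpObj AlgebraicGeometry
open SGA3

namespace Groth.Agent.S5355

open Groth.Agent.GrpField

/-- Let f : G → H be a homomorphism of group schemes over a field k (not assumed of finite type) which
is quasi-compact and dominant. Then (i) f is surjective; (ii) if H is reduced, f is flat (hence
faithfully flat). -/
theorem result (k : Type u) [Field k] (G H : Over (Spec (CommRingCat.of k))) [GrpObj G] [GrpObj H]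
    (f : G ⟶ H) [IsMonHom f] [QuasiCompact f.left] (hf : DenseRange f.left.base) :
    Surjective f.left ∧ (IsReduced H.left → Flat f.left) := by
  haveI : Subsingleton (Spec (CommRingCat.of k)) := inferInstanceAs (Subsingleton (PrimeSpectrum k))
  haveI hs := surjective_of_denseRange f hf
  refine ⟨hs, fun hred => ?_⟩
  obtain ⟨y₀⟩ : Nonempty H.left := ⟨η[H].left (IsLocalRing.closedPoint k)⟩
  let hI := isIrreducible_irreducibleComponent (x := y₀)
  have hgen := hI.isGenericPoint_genericPoint isClosed_irreducibleComponent
  obtain ⟨x, hx⟩ := f.left.surjective hI.genericPoint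
  have hfld : IsField (H.left.presheaf.stalk (f.left x)) := by
    refine isField_stalk_of_closure_mem_irreducibleComponents _ _ ?_
    rw [hx, show closure {hI.genericPoint} = irreducibleComponent y₀ from hgen]
    exact irreducibleComponent_mem_irreducibleComponents y₀
  refine flat_of_flat_stalkMap f (x := x) ?_
  letI := hfld.toField
  letI := (f.left.stalkMap x).hom.toAlgebra
  exact Module.Flat.of_free

end Groth.Agent.S5355
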