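import Groth.Statements.S3388
import Groth.Agent.Unibranch.FibreChains

set_option autoImplicit false
open CategoryTheory AlgebraicGeometry
universe u
open EGA43

namespace Groth.Agent.S3388

/-- Let X and Y be irreducible schemes and f : X ⟶ Y a dominant morphism locally of finite type; let e
be the dimension of the fibre over the generic point of Y. Then for every point x of X the local
dimension at x of the fibre through x is at least e. -/
theorem result {X Y : Scheme.{u}} [IrreducibleSpace X] [IrreducibleSpace Y]
    (f : X ⟶ Y) [LocallyOfFiniteType f] [IsDominant f] (x : X) :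
    topologicalKrullDim ↥(f.fiber (genericPoint Y)) ≤ FlatMor.fibreDimAt f x := by
  obtain ⟨d, hd⟩ := Unibranch.exists_fibreDimAt_eq f x
  rw [hd]
  obtain ⟨U, hxU, hU⟩ := (Unibranch.fibreDimAt_le_iff f x).mp hd.le
  have hη : f (genericPoint X) = genericPoint Y := by
    have h1 : IsGenericPoint (f (genericPoint X)) (Set.univ : Set Y) := by
      have := (genericPoint_spec X).image f.continuous
      rwa [Set.image_univ, f.denseRange.closure_range] at this
    exact h1.eq (genericPoint_spec Y)
  have h2 := Unibranch.chainsLE_of_specializes f (genericPoint_specializes x) hxU (hU.mono Set.inter_subset_left)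
  rw [hη, show closure ({genericPoint X} : Set X) = Set.univ from genericPoint_spec X] at h2
  refine (Unibranch.topologicalKrullDim_le_iff f (f.fiberι (genericPoint Y)).isEmbedding ?_).mpr h2
  rw [Scheme.Hom.range_fiberι, Set.univ_inter]

end Groth.Agent.S3388
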