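import Groth.Statements.S5254
import Groth.Agent.MultT.Basic2
import Groth.Agent.MultT.Diag

set_option autoImplicit false
universe u
open TensorProduct SGA3b
open SGA3b

open Groth.Agent

namespace Groth.Agent.S5254

open TensorProduct in
theorem powConv_single {F : Type u} [CommRing F] {M : Type u} [CommGroup M] (n : ℕ) (l : M) :
    SGA3b.powConv F (MonoidAlgebra F M) n (MonoidAlgebra.single l 1) = MonoidAlgebra.single (l ^ n) 1 := by
  induction n with
  | zero =>
    simp [SGA3b.powConv, AlgHom.convOne_apply, MonoidAlgebra.one_def,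
      (MonoidAlgebra.isGroupLikeElem_single_one (R := F) (A := F) l).counit_eq_one]
  | succ n ih =>
    simp only [SGA3b.powConv, pow_succ, AlgHom.convMul_apply] at ih ⊢
    rw [(MonoidAlgebra.isGroupLikeElem_single_one (R := F) (A := F) l).comul_eq_tmul_self,
      Algebra.TensorProduct.lift_tmul, ih, AlgHom.id_apply, MonoidAlgebra.single_mul_single, one_mul]

open TensorProduct in
/-- In a Hopf algebra over a field which is diagonalisable of finite type, an element of all torsion
ideals is zero. -/
theorem eq_zero_of_mem_torsion {F : Type u} [Field F] {W : Type u} [CommRing W] [HopfAlgebra F W]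
    [Algebra.FiniteType F W] (h : Submodule.span F {g : W | IsGroupLikeElem F g} = ⊤) (w : W)
    (hw : ∀ n : ℕ, 0 < n → w ∈ SGA3b.torsionIdeal F W n) : w = 0 := by
  obtain ⟨M, _, ⟨e⟩⟩ := Groth.Agent.MultT.isDiag_of_span h
  haveI : Algebra.FiniteType F (MonoidAlgebra F M) :=
    Algebra.FiniteType.of_surjective (e : W →ₐ[F] MonoidAlgebra F M) (EquivLike.surjective e)
  haveI : Group.FG M := Group.fg_iff_monoid_fg.2 (MonoidAlgebra.finiteType_iff_fg.1 (‹_› : Algebra.FiniteType F (MonoidAlgebra F M)))
  have h0 : ∀ n : ℕ, 0 < n → Groth.Agent.MultT.modPow F M n (e w) = 0 := by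
    intro n hn
    have hle : SGA3b.torsionIdeal F W n ≤
        RingHom.ker ((Groth.Agent.MultT.modPow F M n).comp (e : W →ₐ[F] MonoidAlgebra F M)) := by
      refine Ideal.map_le_iff_le_comap.2 fun v hv => ?_
      rw [RingHom.mem_ker, Bialgebra.counitAlgHom_apply] at hv
      rw [Ideal.mem_comap, RingHom.mem_ker, AlgHom.comp_apply]
      have hc := Groth.Agent.MultT.powConv_comp (e : W →ₐc[F] MonoidAlgebra F M) n v
      have key : (Groth.Agent.MultT.modPow F M n).comp (SGA3b.powConv F (MonoidAlgebra F M) n) =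
          (Algebra.ofId F _).comp (Bialgebra.counitAlgHom F (MonoidAlgebra F M)) := by
        refine MonoidAlgebra.algHom_ext (fun l => ?_) (by ext)
        rw [AlgHom.comp_apply, AlgHom.comp_apply, powConv_single, Bialgebra.counitAlgHom_apply,
          (MonoidAlgebra.isGroupLikeElem_single_one (R := F) (A := F) l).counit_eq_one, map_one]
        simp [Groth.Agent.MultT.modPow, MonoidAlgebra.one_def]
        congr 1
        rw [← QuotientGroup.mk_pow, QuotientGroup.eq_one_iff]
        exact ⟨l, rfl⟩
      show Groth.Agent.MultT.modPow F M n ((e : W →ₐc[F] MonoidAlgebra F M) (SGA3b.powConv F W n v)) = 0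
      rw [hc, show Groth.Agent.MultT.modPow F M n (SGA3b.powConv F (MonoidAlgebra F M) n _) = _ from
        AlgHom.congr_fun key _, AlgHom.comp_apply, Bialgebra.counitAlgHom_apply,
        CoalgHomClass.counit_comp_apply, hv, map_zero]
    exact hle (hw n hn)
  obtain ⟨k, hk⟩ := Groth.Agent.MultT.dense_group (1 : MonoidAlgebra F M) (e w)
    fun n hn => ⟨0, by simpa using h0 n hn⟩
  exact (EquivLike.injective e) (by simpa using hk.trans (map_zero (e : W →ₐ[F] MonoidAlgebra F M)).symm)

open TensorProduct in
/-- Vanishing in the fibre at a prime. -/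
theorem exists_smul_mem_smul_top {R : Type u} [CommRing R] {V : Type u} [AddCommGroup V] [Module R V]
    {p : Ideal R} [p.IsPrime] {b : V} (hb : (1 : p.ResidueField) ⊗ₜ[R] b = 0) :
    ∃ r : R, r ∉ p ∧ r • b ∈ p • (⊤ : Submodule R V) := by
  let K := p.ResidueField
  haveI : Module.Flat (R ⧸ p) K := IsLocalization.flat K (nonZeroDivisors (R ⧸ p))
  have h1 : (1 : K) ⊗ₜ[R ⧸ p] ((1 : R ⧸ p) ⊗ₜ[R] b) = 0 := by
    apply (TensorProduct.AlgebraTensorModule.cancelBaseChange R (R ⧸ p) K K V).injective
    rw [TensorProduct.AlgebraTensorModule.cancelBaseChange_tmul, one_smul, map_zero]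
    exact hb
  obtain ⟨r', hr', hr0⟩ := Groth.Agent.MultT.exists_smul_eq_zero_of_tmul h1 (⊥ : Ideal K)
  obtain ⟨r, rfl⟩ := Ideal.Quotient.mk_surjective r'
  refine ⟨r, fun hr => hr' ?_, ?_⟩
  · rw [Ideal.Quotient.eq_zero_iff_mem.2 hr]
    exact zero_mem _
  · rw [← Submodule.Quotient.mk_eq_zero, ← TensorProduct.quotTensorEquivQuotSMul_mk_one_tmul,
      TensorProduct.tmul_smul, TensorProduct.smul_tmul']
    rw [TensorProduct.smul_tmul'] at hr0
    rw [show (r • (1 : R ⧸ p)) = Ideal.Quotient.mk p r • (1 : R ⧸ p) from by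
      rw [Algebra.smul_def, smul_eq_mul, mul_one, mul_one]; rfl, hr0, map_zero]

/-- Over a local base, where an open neighbourhood of the closed point is the whole base: Let R be a
local ring with maximal ideal 𝔪, H = Spec A an R-group of multiplicative type and of finite type,
and K = Spec (A/J) a closed subgroup scheme of H (J a Hopf ideal) with A/J of finite presentation
over R. If the closed fibre of K is the unit group, i.e. J + 𝔪A = Ker ε + 𝔪A with ε the counit, then
K is the unit group: J = Ker ε. (Affine group schemes over an affine base are taken in Hopf-algebra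
form; base change is the tensor product; a homomorphism of groups Spec A ⟶ Spec C is a bialgebra map
C → A.) -/
theorem result (R : Type u) [CommRing R] [IsLocalRing R]
    (A : Type u) [CommRing A] [HopfAlgebra R A] (hft : Algebra.FiniteType R A) (hH : IsMultType R A)
    (J : Ideal A) [J.IsHopfIdeal R] (hK : Algebra.FinitePresentation R (A ⧸ J))
    (hs : J ⊔ Ideal.map (algebraMap R A) (IsLocalRing.maximalIdeal R) =
      RingHom.ker (Bialgebra.counitAlgHom R A) ⊔ Ideal.map (algebraMap R A) (IsLocalRing.maximalIdeal R)) :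
    J = RingHom.ker (Bialgebra.counitAlgHom R A) := by
  haveI := hft
  haveI := MultT.isCocomm hH
  let π : A →ₐ[R] A ⧸ J := Ideal.Quotient.mkₐ R J
  let q₀ := Bialgebra.Quotient.mkBialgHom (R := R) J
  have hq₀ : ∀ x, q₀ x = π x := fun _ => rfl
  have hJε : ∀ x ∈ J, Coalgebra.counit (R := R) x = 0 := by
    intro x hx
    rw [← CoalgHomClass.counit_comp_apply q₀ x, hq₀,
      show π x = 0 from Ideal.Quotient.eq_zero_iff_mem.2 hx, map_zero]
  let fB : (A ⧸ J) →ₗ[R] (A ⧸ J) :=
    LinearMap.id - Algebra.linearMap R (A ⧸ J) ∘ₗ Coalgebra.counit (R := R) (A := A ⧸ J)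
  have hfB : ∀ x : A, Coalgebra.counit (R := R) x = 0 → fB (π x) = π x := by
    intro x hx
    simp only [fB, LinearMap.sub_apply, LinearMap.comp_apply, LinearMap.id_apply, Algebra.linearMap_apply]
    rw [← hq₀, CoalgHomClass.counit_comp_apply, hx, map_zero, sub_zero]
  have hcB : ∀ x : A ⧸ J, Coalgebra.counit (R := R) (fB x) = 0 := by
    intro x; simp [fB]
  -- step 1: the finite subgroups
  have hG1 : ∀ (n : ℕ), 0 < n → ∀ x : A, Coalgebra.counit (R := R) x = 0 →
      x ∈ J ⊔ SGA3b.torsionIdeal R A n := by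
    intro n hn x hx
    set I := SGA3b.torsionIdeal R A n with hI
    haveI : I.IsHopfIdeal R := MultT.isHopfIdeal_torsion n
    haveI : Algebra.FiniteType R (A ⧸ I) :=
      Algebra.FiniteType.of_surjective (Ideal.Quotient.mkₐ R I) (Ideal.Quotient.mkₐ_surjective R I)
    haveI : Module.Finite R (A ⧸ I) := MultT.finite_of_torsion (MultT.isMultType_torsion hH n I hI)
      hn (MultT.torsionIdeal_quotient n I hI)
    haveI : Module.Finite R (A ⧸ J ⊔ I) := Module.Finite.of_surjective
      (Ideal.Quotient.factorₐ R (le_sup_right : I ≤ J ⊔ I)).toLinearMap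
      (Ideal.Quotient.factor_surjective (le_sup_right : I ≤ J ⊔ I))
    have hIε : ∀ y ∈ J ⊔ I, Coalgebra.counit (R := R) y = 0 := by
      have : J ⊔ I ≤ RingHom.ker (Bialgebra.counitAlgHom R A) := sup_le (fun y hy => hJε y hy)
        (Ideal.map_le_iff_le_comap.2 fun v hv => by
          rw [RingHom.mem_ker, Bialgebra.counitAlgHom_apply] at hv
          rw [Ideal.mem_comap, RingHom.mem_ker, Bialgebra.counitAlgHom_apply]
          exact (MultT.counit_powConv n v).trans hv)
      exact fun y hy => this hy
    let εC : (A ⧸ J ⊔ I) →ₐ[R] R := Ideal.Quotient.liftₐ (J ⊔ I) (Bialgebra.counitAlgHom R A) hIε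
    let f : (A ⧸ J ⊔ I) →ₗ[R] (A ⧸ J ⊔ I) := LinearMap.id - Algebra.linearMap R _ ∘ₗ εC.toLinearMap
    let mk : A →ₐ[R] A ⧸ J ⊔ I := Ideal.Quotient.mkₐ R _
    have hf : ∀ y : A, f (mk y) = mk (y - algebraMap R A (Coalgebra.counit (R := R) y)) := by
      intro y; rw [map_sub, AlgHom.commutes]; rfl
    let m := IsLocalRing.maximalIdeal R
    have hle : LinearMap.range f ≤ m • LinearMap.range f := by
      rintro _ ⟨z, rfl⟩
      obtain ⟨a, rfl⟩ := Ideal.Quotient.mkₐ_surjective R (J ⊔ I) z
      show f (mk a) ∈ _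
      rw [hf]
      set x := a - algebraMap R A (Coalgebra.counit (R := R) a) with hxdef
      have hx : x ∈ RingHom.ker (Bialgebra.counitAlgHom R A) := by simp [hxdef, RingHom.mem_ker]
      have h2 : x ∈ J ⊔ Ideal.map (algebraMap R A) m := hs.symm ▸ Ideal.mem_sup_left hx
      obtain ⟨j, hj, y, hy, hjy⟩ := Submodule.mem_sup.1 h2
      have hmk : mk x = mk y := by
        rw [← hjy, map_add, show mk j = 0 from Ideal.Quotient.eq_zero_iff_mem.2 (Ideal.mem_sup_left hj), zero_add]
      have hy0 : Coalgebra.counit (R := R) y = 0 := by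
        have h3 : Coalgebra.counit (R := R) (j + y) = 0 := by rw [hjy]; exact hx
        rwa [map_add, hJε j hj, zero_add] at h3
      rw [hmk, show mk y = f (mk y) by rw [hf, hy0, map_zero, sub_zero]]
      have hy' : y ∈ m • (⊤ : Submodule R A) := by rwa [Ideal.smul_top_eq_map]
      have hle' : (m • (⊤ : Submodule R A)).map (f ∘ₗ mk.toLinearMap) ≤ m • LinearMap.range f := by
        rw [Submodule.map_smul'']
        exact Submodule.smul_mono le_rfl (by
          rintro _ ⟨w, -, rfl⟩; exact LinearMap.mem_range_self f _)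
      exact hle' ⟨y, hy', rfl⟩
    have hbot : LinearMap.range f = ⊥ := Submodule.eq_bot_of_le_smul_of_le_jacobson_bot m (LinearMap.range f)
      (by rw [LinearMap.range_eq_map]; exact Submodule.FG.map f Module.Finite.fg_top) hle
      (IsLocalRing.maximalIdeal_le_jacobson _)
    have h3 : f (mk x) = 0 := (Submodule.mem_bot R).1 (hbot ▸ LinearMap.mem_range_self f (mk x))
    rw [hf, hx, map_zero, sub_zero] at h3
    exact Ideal.Quotient.eq_zero_iff_mem.1 h3
  -- step 2: the fibres
  have hG2 : ∀ (p : Ideal R) [p.IsPrime] (x : A), Coalgebra.counit (R := R) x = 0 →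
      ∃ r : R, r ∉ p ∧ r • π x ∈ p • LinearMap.range fB := by
    intro p hp x hx
    obtain ⟨c, hflat, q, hq, hqp⟩ := MultT.exists_charts hH p hp
    let F := q.ResidueField
    obtain ⟨e⟩ := c.exists_bialgEquiv F
    let Φ : F ⊗[R] A →ₐc[F] F ⊗[R] (A ⧸ J) := Bialgebra.TensorProduct.map (BialgHom.id F F) q₀
    have hΦ : ∀ (s : F) (a : A), Φ (s ⊗ₜ a) = s ⊗ₜ π a := fun _ _ => rfl
    have hsurj : Function.Surjective Φ := by
      intro w
      induction w using TensorProduct.induction_on with
      | zero => exact ⟨0, map_zero Φ⟩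
      | tmul s b => obtain ⟨a, rfl⟩ := Ideal.Quotient.mk_surjective b; exact ⟨s ⊗ₜ a, hΦ s a⟩
      | add u v hu hv =>
        obtain ⟨u', rfl⟩ := hu
        obtain ⟨v', rfl⟩ := hv
        exact ⟨u' + v', map_add Φ u' v'⟩
    have hspan : Submodule.span F {g : F ⊗[R] (A ⧸ J) | IsGroupLikeElem F g} = ⊤ := by
      refine eq_top_iff.2 fun w htriv => ?_
      clear htriv
      obtain ⟨u, rfl⟩ := hsurj w
      obtain ⟨z, rfl⟩ : ∃ z, e.symm z = u := ⟨e u, e.symm_apply_apply u⟩
      induction z using MonoidAlgebra.induction_linear with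
      | zero => simp
      | add a b ha hb => rw [map_add, map_add]; exact add_mem ha hb
      | single l r =>
        rw [show MonoidAlgebra.single l r = r • MonoidAlgebra.single l (1 : F) by
          rw [MonoidAlgebra.smul_single, smul_eq_mul, mul_one], map_smul, map_smul]
        exact Submodule.smul_mem _ r (Submodule.subset_span
          (((MonoidAlgebra.isGroupLikeElem_single_one l).map e.symm).map Φ))
    haveI : Algebra.FiniteType R (A ⧸ J) :=
      Algebra.FiniteType.of_surjective π (Ideal.Quotient.mkₐ_surjective R J)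
    have hz : (1 : F) ⊗ₜ[R] π x = 0 := by
      refine eq_zero_of_mem_torsion hspan _ fun n hn => ?_
      let inc : A →ₐ[R] F ⊗[R] (A ⧸ J) :=
        (Algebra.TensorProduct.includeRight : A ⧸ J →ₐ[R] F ⊗[R] (A ⧸ J)).comp π
      have hle : J ⊔ SGA3b.torsionIdeal R A n ≤
          (SGA3b.torsionIdeal F (F ⊗[R] (A ⧸ J)) n).comap inc := by
        refine sup_le (fun j hj => ?_) (Ideal.map_le_iff_le_comap.2 fun v hv => ?_)
        · rw [Ideal.mem_comap, show inc j = (1 : F) ⊗ₜ[R] π j from rfl]
          rw [show π j = 0 from Ideal.Quotient.eq_zero_iff_mem.2 hj, TensorProduct.tmul_zero]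
          exact zero_mem _
        · rw [RingHom.mem_ker, Bialgebra.counitAlgHom_apply] at hv
          rw [Ideal.mem_comap, Ideal.mem_comap, show inc (SGA3b.powConv R A n v) = (1 : F) ⊗ₜ[R] π (SGA3b.powConv R A n v) from rfl]
          rw [← hq₀, MultT.powConv_comp, ← VerschComp.powConv_one_tmul]
          refine Ideal.mem_map_of_mem _ ?_
          rw [RingHom.mem_ker, Bialgebra.counitAlgHom_apply, TensorProduct.counit_tmul,
            CoalgHomClass.counit_comp_apply, hv, zero_smul]
      exact hle (hG1 n hn x hx)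
    let φ : p.ResidueField →+* F := Ideal.ResidueField.map p q (algebraMap R c.S) hqp.symm
    letI : Algebra p.ResidueField F := φ.toAlgebra
    haveI : IsScalarTower R p.ResidueField F := IsScalarTower.of_algebraMap_eq fun r => by
      show _ = φ (algebraMap R p.ResidueField r)
      rw [Ideal.ResidueField.map_algebraMap, ← IsScalarTower.algebraMap_apply]
    have hz' : (1 : p.ResidueField) ⊗ₜ[R] π x = 0 := by
      apply Algebra.TensorProduct.includeRight_injective (R := p.ResidueField) (A := F)
        (B := p.ResidueField ⊗[R] (A ⧸ J)) φ.injective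
      rw [map_zero, Algebra.TensorProduct.includeRight_apply]
      apply (TensorProduct.AlgebraTensorModule.cancelBaseChange R p.ResidueField F F (A ⧸ J)).injective
      rw [TensorProduct.AlgebraTensorModule.cancelBaseChange_tmul, one_smul, map_zero]
      exact hz
    obtain ⟨r, hr, hrb⟩ := exists_smul_mem_smul_top hz'
    refine ⟨r, hr, ?_⟩
    have h4 : fB (r • π x) ∈ (p • (⊤ : Submodule R (A ⧸ J))).map fB := ⟨_, hrb, rfl⟩
    rw [Submodule.map_smul'', Submodule.map_top, map_smul, hfB x hx] at h4
    exact h4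
  -- step 3: Nakayama
  obtain ⟨s, hsgen⟩ : ∃ s : Finset A, Algebra.adjoin R (s : Set A) = ⊤ := Algebra.FiniteType.out
  classical
  let N : Ideal (A ⧸ J) := Ideal.span
    (((s.image fun g => π (g - algebraMap R A (Coalgebra.counit (R := R) g))) : Finset (A ⧸ J)) : Set (A ⧸ J))
  have hmemN : ∀ a : A, π (a - algebraMap R A (Coalgebra.counit (R := R) a)) ∈ N := by
    intro a
    have ha : a ∈ Algebra.adjoin R (s : Set A) := hsgen ▸ Algebra.mem_top
    induction ha using Algebra.adjoin_induction with
    | mem g hg => exact Ideal.subset_span (Finset.mem_image_of_mem _ hg)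
    | algebraMap r => simp
    | add u v _ _ hu hv =>
      rw [show π (u + v - algebraMap R A (Coalgebra.counit (R := R) (u + v))) =
        π (u - algebraMap R A (Coalgebra.counit (R := R) u)) +
          π (v - algebraMap R A (Coalgebra.counit (R := R) v)) by
          rw [← map_add, map_add (Coalgebra.counit (R := R)), map_add (algebraMap R A)]; congr 1; ring]
      exact add_mem hu hv
    | mul u v _ _ hu hv =>
      rw [show π (u * v - algebraMap R A (Coalgebra.counit (R := R) (u * v))) =
        π (u - algebraMap R A (Coalgebra.counit (R := R) u)) * π v +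
          π (algebraMap R A (Coalgebra.counit (R := R) u)) *
            π (v - algebraMap R A (Coalgebra.counit (R := R) v)) by
          rw [← map_mul, ← map_mul, ← map_add, Bialgebra.counit_mul, map_mul (algebraMap R A)]; congr 1; ring]
      exact add_mem (N.mul_mem_right _ hu) (N.mul_mem_left _ hv)
  have hN : N = ⊥ := by
    by_contra hne
    have hann : Submodule.annihilator (N : Submodule (A ⧸ J) (A ⧸ J)) ≠ ⊤ := fun h =>
      hne (Submodule.annihilator_eq_top_iff.1 h)
    obtain ⟨P, hP, hPle⟩ := Ideal.exists_le_maximal _ hann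
    haveI := hP
    let p := P.comap (algebraMap R (A ⧸ J))
    have hNP : (N : Submodule (A ⧸ J) (A ⧸ J)) ≤ P • (N : Submodule (A ⧸ J) (A ⧸ J)) := by
      refine Submodule.span_le.2 fun y hy => ?_
      obtain ⟨g, -, rfl⟩ := Finset.mem_image.1 (Finset.mem_coe.1 hy)
      set x := g - algebraMap R A (Coalgebra.counit (R := R) g) with hxdef
      have hx : Coalgebra.counit (R := R) x = 0 := by simp [hxdef]
      obtain ⟨r, hr, hrx⟩ := hG2 p x hx
      have h5 : r • π x ∈ P • (N : Submodule (A ⧸ J) (A ⧸ J)) := by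
        refine Submodule.smul_induction_on hrx (fun t ht w hw => ?_) (fun u v hu hv => add_mem hu hv)
        obtain ⟨b, rfl⟩ := hw
        obtain ⟨a, rfl⟩ := Ideal.Quotient.mk_surjective b
        have hfa : fB (π a) ∈ N := by
          have h6 : fB (π a) = π (a - algebraMap R A (Coalgebra.counit (R := R) a)) := by
            simp only [fB, LinearMap.sub_apply, LinearMap.comp_apply, LinearMap.id_apply, Algebra.linearMap_apply]
            rw [← hq₀, CoalgHomClass.counit_comp_apply, map_sub, AlgHom.commutes]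
            rfl
          rw [h6]; exact hmemN a
        rw [Algebra.smul_def]
        exact Submodule.smul_mem_smul (show algebraMap R (A ⧸ J) t ∈ P from ht) hfa
      have hru : algebraMap R (A ⧸ J) r ∉ P := hr
      obtain ⟨u, v, huv⟩ : ∃ u, ∃ v ∈ P, u * algebraMap R (A ⧸ J) r + v = 1 := hP.exists_inv hru
      have hsplit : π x = u * (algebraMap R (A ⧸ J) r * π x) + v * π x := by
        rw [← mul_assoc, ← add_mul, huv.2, one_mul]
      show π x ∈ P • (N : Submodule (A ⧸ J) (A ⧸ J))
      rw [hsplit]
      refine add_mem ?_ (Submodule.smul_mem_smul huv.1 (hmemN g))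
      rw [← Algebra.smul_def]
      exact Submodule.smul_mem _ u h5
    obtain ⟨t, ht1, ht2⟩ := Submodule.exists_sub_one_mem_and_smul_eq_zero_of_fg_of_le_smul P N ⟨_, rfl⟩ hNP
    have ht : t ∈ P := hPle (Submodule.mem_annihilator.2 ht2)
    exact hP.ne_top ((Ideal.eq_top_iff_one P).2 (by simpa using sub_mem ht ht1))
  refine le_antisymm (fun x hx => hJε x hx) (fun x hx => ?_)
  have h := hmemN x
  rw [RingHom.mem_ker, Bialgebra.counitAlgHom_apply] at hx
  rw [hN, Ideal.mem_bot, hx, map_zero, sub_zero] at h
  exact Ideal.Quotient.eq_zero_iff_mem.1 h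

end Groth.Agent.S5254
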