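import Groth.Statements.S16117
import Groth.Agent.Rosenlicht.Product

set_option autoImplicit false
universe u
open CategoryTheory MonoidalCategory CartesianMonoidalCategory MonObj GrpObj AlgebraicGeometry CategoryTheory.Limits
open AlgGrp

namespace Groth.Agent.S16117

/-- Over an algebraically closed field k, let X and Y be irreducible varieties (integral separated
k-schemes of finite type). Then the product map on units is surjective: every unit of Γ(X × Y, O)
equals p₁^*(g) · p₂^*(h) for some units g of Γ(X, O_X) and h of Γ(Y, O_Y). -/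
theorem result (k : Type u) [Field k] [IsAlgClosed k]
    (X Y : Over (Spec (CommRingCat.of k))) [IsIntegral X.left] [IsSeparated X.hom] [LocallyOfFiniteType X.hom] [QuasiCompact X.hom]
    [IsIntegral Y.left] [IsSeparated Y.hom] [LocallyOfFiniteType Y.hom] [QuasiCompact Y.hom]
    (f : Γ((X ⊗ Y).left, ⊤)) (hf : IsUnit f) :
    ∃ (g : Γ(X.left, ⊤)) (h : Γ(Y.left, ⊤)), IsUnit g ∧ IsUnit h ∧
      f = (fst X Y).left.appTop g * (snd X Y).left.appTop h := by
  obtain ⟨x0⟩ := Groth.Agent.Rosenlicht.exists_point X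
  obtain ⟨y0⟩ := Groth.Agent.Rosenlicht.exists_point Y
  have h := Groth.Agent.Rosenlicht.unit_mul_const x0 y0 f hf
  obtain ⟨u, hu⟩ := hf
  refine ⟨(lift (𝟙 X) (toUnit X ≫ y0)).left.appTop f,
    (lift (toUnit Y ≫ x0) (𝟙 Y)).left.appTop f *
      (toUnit Y ≫ lift x0 y0).left.appTop (↑u⁻¹ : Γ((X ⊗ Y).left, ⊤)),
    (u.isUnit.map _ : _) |> (hu ▸ ·), ?_, ?_⟩
  · exact ((hu ▸ u.isUnit).map _).mul (u⁻¹.isUnit.map _)
  · have hc : ∀ {Z W : Over (Spec (CommRingCat.of k))} (p : Z ⟶ W) (q : W ⟶ X ⊗ Y) (g : Γ((X ⊗ Y).left, ⊤)),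
        p.left.appTop (q.left.appTop g) = (p ≫ q).left.appTop g := fun p q g => rfl
    rw [map_mul, hc, hc, hc, comp_lift, Category.comp_id, comp_toUnit_assoc,
      comp_lift, comp_toUnit_assoc, Category.comp_id, comp_toUnit_assoc,
      ← _root_.mul_assoc, ← h, _root_.mul_assoc, ← map_mul, ← hu, u.mul_inv, map_one, _root_.mul_one]

end Groth.Agent.S16117
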