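import Groth.Statements.S7283
-- import your own Groth.Agent.* helpers here
import Groth.Agent.Purity.AtInfinity

set_option autoImplicit false
universe u
open Pi1

namespace Groth.Agent.S7283

open AlgebraicGeometry CategoryTheory CategoryTheory.Limits in
/-- Let X be a scheme and U a dense open subscheme such that every quasi-compact open subset of X has
finitely many irreducible components and, for every point x of the complement of U and every strict
henselization R of the local ring at x, the punctured spectrum of R is connected. Then restriction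
of finite etale covers from X to U is fully faithful. -/
theorem result {X : Scheme.{u}} (U : X.Opens)
    (hU : Dense (U : Set X))
    (hirr : ∀ V : X.Opens, IsCompact (V : Set X) → (irreducibleComponents ↥V).Finite)
    (hsh : ∀ x : X, x ∉ U → ∀ (R : Type u) [CommRing R] [IsLocalRing R] [Algebra (X.presheaf.stalk x) R]
      [IsLocalHom (algebraMap (X.presheaf.stalk x) R)] [Hensel.IsStrictHenselization (X.presheaf.stalk x) R],
      ConnectedSpace (FEt.puncturedSpec R : Scheme.{u})) :
    (FEt.restrict U.ι).Full ∧ (FEt.restrict U.ι).Faithful := by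
  refine Groth.Agent.Purity.restrict_full_faithful_of_clopen U.ι fun Z π hf he C hC => ?_
  haveI : IsFinite π := hf
  haveI : Etale π := he
  refine Groth.Agent.Purity.existsUnique_clopen_of_punctured U hU hsh π (fun D hD z hz => ?_) hC
  set fst := pullback.fst π U.ι
  obtain ⟨V, hV, hzV, -⟩ := exists_isAffineOpen_mem_and_subset (show π z ∈ (⊤ : X.Opens) from trivial)
  -- generic points of the components of `V`
  haveI : QuasiSober ↥V := V.2.isOpenEmbedding_subtypeVal.quasiSober
  let G : Set X := (fun T : irreducibleComponents ↥V => V.ι T.2.1.genericPoint) '' Set.univ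
  haveI := (hirr V hV.isCompact).to_subtype
  have hG : G.Finite := Set.finite_univ.image _
  have hgenV : ∀ v : ↥V, ∃ g ∈ G, g ⤳ V.ι v := fun v => by
    refine ⟨_, ⟨⟨irreducibleComponent v, irreducibleComponent_mem_irreducibleComponents v⟩, trivial, rfl⟩, ?_⟩
    exact (((irreducibleComponent_mem_irreducibleComponents v).1.isGenericPoint_genericPoint
      isClosed_irreducibleComponent).specializes mem_irreducibleComponent).map V.ι.continuous
  let H : Set Z := fst '' D ∩ π ⁻¹' G
  have hH : H.Finite := ((hG.biUnion fun g _ => Scheme.Hom.finite_preimage_singleton π g).subset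
    fun w hw => Set.mem_iUnion₂.2 ⟨π w, hw.2, rfl⟩)
  have hsub : fst '' D ∩ π ⁻¹' (V : Set X) ⊆ ⋃ g ∈ H, closure {g} := by
    rintro w ⟨⟨d, hd, rfl⟩, hwV⟩
    obtain ⟨g, hg, hgv⟩ := hgenV ⟨π (fst d), hwV⟩
    obtain ⟨w, hw, hwg⟩ := AlgebraicGeometry.Flat.generalizingMap π (show g ⤳ π (fst d) from hgv)
    exact Set.mem_iUnion₂.2 ⟨w, ⟨hw.mem_open (fst.isOpenEmbedding.isOpenMap _ hD.2) ⟨d, hd, rfl⟩,
      show π w ∈ G by rw [hwg]; exact hg⟩, specializes_iff_mem_closure.1 hw⟩
  have hzc : z ∈ closure (fst '' D ∩ π ⁻¹' (V : Set X)) := by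
    rw [Set.inter_comm]
    exact (V.2.preimage π.continuous).inter_closure ⟨hzV, hz⟩
  obtain ⟨g, hg, hgz⟩ := Set.mem_iUnion₂.1 (closure_minimal hsub (hH.isClosed_biUnion fun _ _ => isClosed_closure) hzc)
  obtain ⟨⟨d, hd, rfl⟩, -⟩ := hg
  exact ⟨d, hd, specializes_iff_mem_closure.2 hgz⟩

end Groth.Agent.S7283
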