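import Groth.Statements.S4853
import Mathlib
-- import your own Groth.Agent.* helpers here

set_option autoImplicit false
universe u
open TensorProduct
open EGA43

namespace Groth.Agent.S4853
open scoped TensorProduct

theorem ker_eq_bot_of_flat {R : Type u} [CommRing R] {ι : Type u} {M : Type u} [AddCommGroup M] [Module R M]
    [Module.Flat R M] (π : (ι →₀ R) →ₗ[R] M) (hπ : Function.Surjective π) (J : Ideal R) (hJ : IsNilpotent J)
    (hker : ∀ z, π z = 0 → ∀ i, z i ∈ J) : ∀ z, π z = 0 → z = 0 := by
  classical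
  intro z hz
  let s := z.support
  let incl : (s →₀ R) →ₗ[R] (ι →₀ R) := Finsupp.lmapDomain R R Subtype.val
  let z₀ : s →₀ R := Finsupp.equivFunOnFinite.symm fun i => z i
  have hincl : ∀ (w : s →₀ R) (i : s), incl w i = w i := fun w i => Finsupp.mapDomain_apply Subtype.val_injective w i
  have hz₀ : incl z₀ = z := by
    ext i
    by_cases hi : i ∈ s
    · exact hincl z₀ ⟨i, hi⟩
    · rw [Finsupp.notMem_support_iff.mp hi]
      exact Finsupp.mapDomain_notin_range _ _ (by simpa using hi)
  obtain ⟨k, a, y, hy, ha⟩ := Module.Flat.exists_factorization_of_apply_eq_zero_of_free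
    (f := z₀) (x := π.comp incl) (by show π (incl z₀) = 0; rw [hz₀, hz])
  obtain ⟨g, hg⟩ := Module.projective_lifting_property π y hπ
  let d : (s →₀ R) →ₗ[R] (ι →₀ R) := incl - g.comp a
  have hd : ∀ w, π (d w) = 0 := fun w => by
    have h1 := congr($hy w)
    have h2 := congr($hg (a w))
    simp only [LinearMap.comp_apply] at h1 h2
    simp [d, h2, ← h1]
  have hdz : d z₀ = z := by simp [d, ha, hz₀]
  have hmem : ∀ n : ℕ, ∀ i, z i ∈ J ^ n := by
    intro n
    induction n with
    | zero => simp
    | succ n ih =>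
      intro i
      have h3 : d z₀ i = ∑ j, z₀ j * d (Finsupp.single j 1) i := by
        conv_lhs => rw [← Finsupp.univ_sum_single z₀]
        rw [map_sum, Finsupp.finsetSum_apply]
        refine Finset.sum_congr rfl fun j _ => ?_
        rw [← mul_one (z₀ j), ← smul_eq_mul (z₀ j), ← Finsupp.smul_single, map_smul]
        simp
      rw [← hdz, h3]
      refine sum_mem fun j _ => ?_
      rw [pow_succ]
      exact Ideal.mul_mem_mul (ih j) (hker _ (hd _) i)
  obtain ⟨n, hn⟩ := hJ
  ext i
  have := hmem n i
  rw [hn] at this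
  simpa using this

end Groth.Agent.S4853

namespace Groth.Agent.S4853

/-- Let A be a commutative ring and M an A-module such that (A/J) ⊗_A M is free over A/J for some
nilpotent ideal J of A. Then among the ideals R of A such that (A/R) ⊗_A M is free over A/R there is
a least one, R₀, which is also the least ideal R such that (A/R) ⊗_A M is flat over A/R; and for
every commutative A-algebra A', the module A' ⊗_A M is free over A' if and only if it is flat over
A', if and only if R₀ generates the zero ideal of A'. -/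
theorem result {A : Type u} [CommRing A]
    (M : Type u) [AddCommGroup M] [Module A M]
    (J : Ideal A) (hJ : IsNilpotent J) (hfree : Module.Free (A ⧸ J) ((A ⧸ J) ⊗[A] M)) :
    ∃ R₀ : Ideal A,
      IsLeast {R : Ideal A | Module.Free (A ⧸ R) ((A ⧸ R) ⊗[A] M)} R₀ ∧
      IsLeast {R : Ideal A | Module.Flat (A ⧸ R) ((A ⧸ R) ⊗[A] M)} R₀ ∧
      ∀ (A' : Type u) [CommRing A'] [Algebra A A'],
        (Module.Free A' (A' ⊗[A] M) ↔ Ideal.map (algebraMap A A') R₀ = ⊥) ∧
        (Module.Flat A' (A' ⊗[A] M) ↔ Ideal.map (algebraMap A A') R₀ = ⊥) := by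
  classical
  let ι := Module.Free.ChooseBasisIndex (A ⧸ J) ((A ⧸ J) ⊗[A] M)
  let b := Module.Free.chooseBasis (A ⧸ J) ((A ⧸ J) ⊗[A] M)
  let mkJ : M →ₗ[A] (A ⧸ J) ⊗[A] M := TensorProduct.mk A (A ⧸ J) M 1
  have hmk : Function.Surjective mkJ := TensorProduct.mk_surjective A M (A ⧸ J) Ideal.Quotient.mk_surjective
  choose m hm using fun i => hmk (b i)
  let π : (ι →₀ A) →ₗ[A] M := Finsupp.linearCombination A m
  let R₀ : Ideal A := Ideal.span {a | ∃ z, π z = 0 ∧ ∃ i, z i = a}
  have hπ : Function.Surjective π := by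
    rw [← LinearMap.range_eq_top]
    have h1 : ∀ x : M, x ∈ LinearMap.range π ⊔ J • (⊤ : Submodule A M) := fun x => by
      have hrepr := b.linearCombination_repr (mkJ x)
      choose c hc using fun i => Ideal.Quotient.mk_surjective (b.repr (mkJ x) i)
      let w : ι →₀ A := ∑ i ∈ (b.repr (mkJ x)).support, Finsupp.single i (c i)
      have h2 : mkJ (π w) = mkJ x := by
        rw [map_sum, map_sum]
        conv_rhs => rw [← hrepr, Finsupp.linearCombination_apply, Finsupp.sum]
        refine Finset.sum_congr rfl fun i _ => ?_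
        rw [Finsupp.linearCombination_single, map_smul, hm, ← hc i]
        exact (IsScalarTower.algebraMap_smul (A ⧸ J) (c i) (b i)).symm
      have h3 : x - π w ∈ J • (⊤ : Submodule A M) := by
        have h4 : mkJ (x - π w) = 0 := by rw [map_sub, h2, sub_self]
        have h5 := congrArg (TensorProduct.quotTensorEquivQuotSMul M J) h4
        rw [map_zero] at h5
        exact (Submodule.Quotient.mk_eq_zero _).mp ((TensorProduct.quotTensorEquivQuotSMul_mk_tmul J (1 : A) (x - π w)).symm.trans h5 |> fun h => by simpa using h)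
      have : x = π w + (x - π w) := by abel
      rw [this]
      exact Submodule.add_mem_sup ⟨w, rfl⟩ h3
    obtain ⟨n, hn⟩ := hJ
    have h6 : ∀ k : ℕ, (⊤ : Submodule A M) ≤ LinearMap.range π ⊔ J ^ k • ⊤ := by
      intro k
      induction k with
      | zero => simp
      | succ k ih =>
        refine ih.trans (sup_le le_sup_left ?_)
        refine (Submodule.smul_mono le_rfl (fun x _ => h1 x)).trans ?_
        rw [Submodule.smul_sup, ← mul_smul, ← pow_succ]
        exact sup_le_sup Submodule.smul_le_right le_rfl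
    have := h6 n
    rw [hn] at this
    simpa using this
  have hψ : ∀ (A' : Type u) [CommRing A'] [Algebra A A'], Ideal.map (algebraMap A A') R₀ = ⊥ →
      ∃ ψ : A' ⊗[A] M →ₗ[A'] (ι →₀ A'), ∀ z, ψ (1 ⊗ₜ π z) = z.mapRange (algebraMap A A') (map_zero _) := by
    intro A' _ _ hA'
    let φ : (ι →₀ A) →ₗ[A] (ι →₀ A') := Finsupp.mapRange.linearMap (Algebra.linearMap A A')
    have hker : LinearMap.ker π ≤ LinearMap.ker φ := fun z hz => by
      ext i
      have : algebraMap A A' (z i) ∈ Ideal.map (algebraMap A A') R₀ :=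
        Ideal.mem_map_of_mem _ (Ideal.subset_span ⟨z, hz, i, rfl⟩)
      rw [hA', Ideal.mem_bot] at this
      simpa [φ] using this
    let χ : M →ₗ[A] (ι →₀ A') :=
      ((LinearMap.ker π).liftQ φ hker).comp (π.quotKerEquivOfSurjective hπ).symm.toLinearMap
    refine ⟨χ.liftBaseChange A', fun z => ?_⟩
    rw [LinearMap.liftBaseChange_tmul, one_smul]
    have : (π.quotKerEquivOfSurjective hπ).symm (π z) = Submodule.Quotient.mk z := by
      rw [LinearEquiv.symm_apply_eq]; rfl
    simp only [χ, LinearMap.comp_apply, LinearEquiv.coe_coe, this, Submodule.liftQ_apply]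
    rfl
  have hR₀ : R₀ ≤ J := by
    rw [Ideal.span_le]
    rintro _ ⟨z, hz, i, rfl⟩
    have h0 : ∀ z, b.repr (mkJ (π z)) = z.mapRange (algebraMap A (A ⧸ J)) (map_zero _) := by
      intro z
      induction z using Finsupp.induction_linear with
      | zero => simp
      | add f g hf hg => rw [map_add, map_add, map_add, Finsupp.mapRange_add (map_add _)]; exact congrArg₂ (· + ·) hf hg
      | single j a =>
        simp only [π, Finsupp.linearCombination_single, map_smul, hm, Finsupp.mapRange_single]
        rw [← IsScalarTower.algebraMap_smul (A ⧸ J) a (b j), map_smul, b.repr_self, Finsupp.smul_single, smul_eq_mul, mul_one]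
    have := congr($(h0 z) i)
    rw [hz, map_zero, map_zero] at this
    exact Ideal.Quotient.eq_zero_iff_mem.mp this.symm
  have main : ∀ (A' : Type u) [CommRing A'] [Algebra A A'],
      (Module.Free A' (A' ⊗[A] M) ↔ Ideal.map (algebraMap A A') R₀ = ⊥) ∧
      (Module.Flat A' (A' ⊗[A] M) ↔ Ideal.map (algebraMap A A') R₀ = ⊥) := by
    intro A' _ _
    let π' : (ι →₀ A') →ₗ[A'] A' ⊗[A] M := Finsupp.linearCombination A' fun i => 1 ⊗ₜ m i
    have hπ'z : ∀ z : ι →₀ A, π' (z.mapRange (algebraMap A A') (map_zero _)) = 1 ⊗ₜ π z := by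
      intro z
      induction z using Finsupp.induction_linear with
      | zero => simp
      | add f g hf hg =>
        rw [Finsupp.mapRange_add (map_add (algebraMap A A')), map_add, map_add, hf, hg, TensorProduct.tmul_add]
      | single j a => simp [π', π]
    have hπ' : Function.Surjective π' := by
      intro x
      induction x using TensorProduct.induction_on with
      | zero => exact ⟨0, map_zero _⟩
      | tmul a x =>
        obtain ⟨z, rfl⟩ := hπ x
        exact ⟨a • z.mapRange (algebraMap A A') (map_zero _), by rw [map_smul, hπ'z, TensorProduct.smul_tmul', smul_eq_mul, mul_one]⟩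
      | add x y hx hy =>
        obtain ⟨u, rfl⟩ := hx
        obtain ⟨v, rfl⟩ := hy
        exact ⟨u + v, map_add _ _ _⟩
    have hfree : Ideal.map (algebraMap A A') R₀ = ⊥ → Module.Free A' (A' ⊗[A] M) := fun h => by
      obtain ⟨ψ, hψ'⟩ := hψ A' h
      have hid : ψ.comp π' = LinearMap.id := by
        apply Finsupp.lhom_ext'
        intro j
        apply LinearMap.ext_ring
        have := hψ' (Finsupp.single j 1)
        simp [π, π'] at this ⊢
        exact this
      exact Module.Free.of_equiv (LinearEquiv.ofBijective π' ⟨Function.LeftInverse.injective (fun x => congr($hid x)), hπ'⟩)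
    have hflat : Module.Flat A' (A' ⊗[A] M) → Ideal.map (algebraMap A A') R₀ = ⊥ := fun hfl => by
      let J' := Ideal.map (algebraMap A A') J
      have hJ' : IsNilpotent J' := by
        obtain ⟨n, hn⟩ := hJ
        exact ⟨n, by rw [← Ideal.map_pow, hn]; exact Ideal.map_bot⟩
      have hR' : Ideal.map (algebraMap A (A' ⧸ J')) R₀ = ⊥ := by
        rw [← le_bot_iff, Ideal.map_le_iff_le_comap]
        intro a ha
        show algebraMap A (A' ⧸ J') a ∈ (⊥ : Ideal (A' ⧸ J'))
        rw [Ideal.mem_bot]
        exact Ideal.Quotient.eq_zero_iff_mem.mpr (Ideal.mem_map_of_mem _ (hR₀ ha))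
      obtain ⟨ψ, hψ'⟩ := hψ (A' ⧸ J') hR'
      let q : A' ⊗[A] M →ₗ[A'] (A' ⧸ J') ⊗[A] M :=
        TensorProduct.AlgebraTensorModule.map (Algebra.linearMap A' (A' ⧸ J')) LinearMap.id
      have hq : ∀ w, (ψ.restrictScalars A') (q (π' w)) = w.mapRange (Ideal.Quotient.mk J') (map_zero _) := by
        intro w
        induction w using Finsupp.induction_linear with
        | zero => simp
        | add f g hf hg => rw [map_add, map_add, map_add, hf, hg, Finsupp.mapRange_add (map_add _)]
        | single j a =>
          have := hψ' (Finsupp.single j 1)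
          simp [π] at this
          have h1 : π' (Finsupp.single j a) = a • ((1 : A') ⊗ₜ[A] m j) := by simp [π']
          have h2 : q ((1 : A') ⊗ₜ[A] m j) = (1 : A' ⧸ J') ⊗ₜ[A] m j := by simp [q]
          rw [h1, map_smul, map_smul, h2, LinearMap.restrictScalars_apply, this]
          simp [Algebra.smul_def]
      have hker := ker_eq_bot_of_flat π' hπ' J' hJ' fun w hw i => by
        have := congr($(hq w) i)
        rw [hw, map_zero, map_zero] at this
        exact Ideal.Quotient.eq_zero_iff_mem.mp this.symm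
      rw [← le_bot_iff, Ideal.map_le_iff_le_comap, Ideal.span_le]
      rintro _ ⟨z, hz, i, rfl⟩
      have := congr($(hker _ (by rw [hπ'z, hz, TensorProduct.tmul_zero] : π' (z.mapRange (algebraMap A A') (map_zero _)) = 0)) i)
      simpa using this
    exact ⟨⟨fun h => hflat inferInstance, hfree⟩, ⟨hflat, fun h => by haveI := hfree h; infer_instance⟩⟩
  have hq : ∀ R : Ideal A, Ideal.map (algebraMap A (A ⧸ R)) R₀ = ⊥ ↔ R₀ ≤ R := fun R => by
    rw [Ideal.Quotient.algebraMap_eq, Ideal.map_eq_bot_iff_le_ker, Ideal.mk_ker]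
  refine ⟨R₀, ⟨((main (A ⧸ R₀)).1).mpr ((hq R₀).mpr le_rfl), fun R hR => (hq R).mp ((main (A ⧸ R)).1.mp hR)⟩,
    ⟨((main (A ⧸ R₀)).2).mpr ((hq R₀).mpr le_rfl), fun R hR => (hq R).mp ((main (A ⧸ R)).2.mp hR)⟩, main⟩

end Groth.Agent.S4853
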