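import Groth.Agent.QC.Extend
import Groth.Agent.QC.Closure
import Groth.Agent.QC.FiniteType
import Groth.Agent.RPushQC.SectionsExact
import Groth.Prelude.Def_Coh

/-! The centre of the category of coherent modules. -/

set_option autoImplicit false
set_option backward.isDefEq.respectTransparency false

universe u

open CategoryTheory CategoryTheory.Limits AlgebraicGeometry TopologicalSpace Opposite
open Groth.Agent.QC

noncomputable section

namespace Groth.Agent.CohCentre

variable {X : Scheme.{u}} [IsNoetherian X]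

abbrev Cat (X : Scheme.{u}) := ObjectProperty.FullSubcategory fun M : X.Modules => Coh.IsCoh M

lemma isCoh_unit (X : Scheme.{u}) : Coh.IsCoh (Coh.structureModule X) := by
  have : (Coh.structureModule X).IsQuasicoherent := QC.isQCoh_unit X
  exact ⟨QC.isQCoh_unit X, (QC.isFT_iff_finite_sections (M := Coh.structureModule X)).mpr fun U =>
    inferInstanceAs (Module.Finite Γ(X, U.1) Γ(X, U.1))⟩

theorem exists_unique (φ : 𝟭 (Cat X) ⟶ 𝟭 (Cat X)) :
    ∃! r : Coh.Γtop X, ∀ M : Cat X,
      (SheafOfModules.toSheaf X.ringCatSheaf).map (φ.app M).hom = Coh.smulAb M.obj r := by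
  classical
  let O : Cat X := ⟨Coh.structureModule X, isCoh_unit X⟩
  let ψ : ∀ M : Cat X, M.obj ⟶ M.obj := fun M => (φ.app M).hom
  have hnat : ∀ {M N : Cat X} (b : M.obj ⟶ N.obj), b ≫ ψ N = ψ M ≫ b := fun {M N} b =>
    congrArg (fun f => f.hom) (φ.naturality (ObjectProperty.homMk b : M ⟶ N))
  let r : Γ(X, ⊤) := (ψ O).app ⊤ (1 : Γ(X, ⊤))
  have hO : ∀ W : X.Opens, (ψ O).app W (1 : Γ(X, W)) = resO X (le_top : W ≤ ⊤) r := fun W => by
    have h1 : res (Coh.structureModule X) (le_top : W ≤ ⊤) (1 : Γ(X, ⊤)) = (1 : Γ(X, W)) :=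
      map_one (X.presheaf.map (homOfLE (le_top : W ≤ ⊤)).op).hom
    exact (congrArg ((ψ O).app W) h1.symm).trans (QC.app_res (ψ O) _ _).symm
  have haff : ∀ (M : Cat X) (D : X.Opens), IsAffineOpen D → ∀ m : Γ(M.obj, D),
      (ψ M).app D m = resO X (le_top : D ≤ ⊤) r • m := by
    intro M D hD m
    let F : X.Modules := Coh.structureModule X ⊞ M.obj
    haveI hF : F.IsQuasicoherent := RPushQC.isQCoh_biprod (QC.isQCoh_unit X) M.property.1
    let f : F ⟶ Coh.structureModule X := biprod.fst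
    let s : F ⟶ M.obj := biprod.snd
    let il : Coh.structureModule X ⟶ F := biprod.inl
    let ir : M.obj ⟶ F := biprod.inr
    let t : Γ(F, D) := il.app D (1 : Γ(X, D)) + ir.app D m
    have happ : ∀ {A B C : X.Modules} (a : A ⟶ B) (b : B ⟶ C) (z : Γ(A, D)),
        b.app D (a.app D z) = (a ≫ b).app D z := fun a b z => rfl
    have hft : f.app D t = (1 : Γ(X, D)) := by
      have h1 : (il ≫ f) = 𝟙 _ := biprod.inl_fst
      have h2 : (ir ≫ f) = 0 := biprod.inr_fst
      rw [map_add, happ, happ, h1, h2]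
      exact add_zero _
    have hst : s.app D t = m := by
      have h1 : (il ≫ s) = 0 := biprod.inl_snd
      have h2 : (ir ≫ s) = 𝟙 _ := biprod.inr_snd
      rw [map_add, happ, happ, h1, h2]
      exact zero_add _
    have hgen : LocFinGen (genSub ({t} : Set Γ(F, D))) D := fun x hx =>
      ⟨D, hD, hx, le_rfl, {t}, ⟨fun u hu => mem_genSub_of_mem (by simpa using hu),
        fun O _ => by rw [Finset.coe_singleton]⟩⟩
    obtain ⟨S', hS', heq⟩ := QC.exists_extend (fun _ => ⟨⊤, trivial, inferInstance⟩) _ hgen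
    let G : Cat X := ⟨S'.toModules, Sub.isCoh_toModules hS'⟩
    obtain ⟨t₀, ht₀⟩ : t ∈ Set.range (S'.ι.app D) := (S'.range_ι_app D t).2 (by
      rw [heq D le_rfl]; exact mem_genSub_of_mem (Set.mem_singleton t))
    have hmem : S'.ι.app D ((ψ G).app D t₀) ∈ (genSub ({t} : Set Γ(F, D))).obj D := by
      rw [← heq D le_rfl]
      exact (S'.range_ι_app D _).1 ⟨_, rfl⟩
    rw [mem_genSub_iff hD le_rfl, Set.image_singleton, res_self, Submodule.mem_span_singleton] at hmem
    obtain ⟨c, hc⟩ := hmem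
    have e1 := congrArg (fun g => Scheme.Modules.Hom.app g D t₀)
      (hnat (M := G) (N := O) (S'.ι ≫ f))
    have e2 := congrArg (fun g => Scheme.Modules.Hom.app g D t₀)
      (hnat (M := G) (N := M) (S'.ι ≫ s))
    change (ψ O).app D (f.app D (S'.ι.app D t₀)) = f.app D (S'.ι.app D ((ψ G).app D t₀)) at e1
    change (ψ M).app D (s.app D (S'.ι.app D t₀)) = s.app D (S'.ι.app D ((ψ G).app D t₀)) at e2
    rw [ht₀, hft, hO, ← hc, f.app_smul, hft] at e1
    rw [ht₀, hst, ← hc, s.app_smul, hst] at e2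
    have hc' : c = resO X (le_top : D ≤ ⊤) r := by
      refine Eq.trans ?_ e1.symm
      exact (mul_one (M := Γ(X, D)) c).symm
    rw [e2, hc']
  have hall : ∀ (M : Cat X) (U : X.Opens) (m : Γ(M.obj, U)),
      (ψ M).app U m = resO X (le_top : U ≤ ⊤) r • m := by
    intro M U m
    refine section_eq_of_locally fun x hx => ?_
    obtain ⟨D, hD, hxD, hDU⟩ := exists_isAffineOpen_mem_and_subset (X := X) (U := U) hx
    refine ⟨D, hDU, hxD, ?_⟩
    rw [QC.app_res, res_smul, resO_resO, haff M D hD]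
  refine ⟨r, fun M => ?_, fun r' hr' => ?_⟩
  · ext U m
    exact hall M U.unop m
  · have h1 : (ψ O).app ⊤ (1 : Γ(X, ⊤)) = (Coh.smulAb O.obj r').hom.app (op ⊤) (1 : Γ(X, ⊤)) :=
      congr(($(hr' O)).hom.app (op ⊤) (1 : Γ(X, ⊤)))
    refine (h1.trans ?_).symm
    show Coh.resTop X (op ⊤) r' * 1 = r'
    rw [mul_one]
    show (X.ringCatSheaf.obj.map _).hom r' = r'
    rw [show (homOfLE (le_top (a := (⊤ : X.Opens)))).op = 𝟙 (op (⊤ : X.Opens)) from rfl, X.ringCatSheaf.obj.map_id]
    rfl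

end Groth.Agent.CohCentre
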