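import Groth.Statements.S10630
import Groth.Agent.AlgSpLib.CoverDesc
import Groth.Agent.AlgSpLib.QCompact
import Groth.Agent.InfLift.SpaceThick

set_option autoImplicit false
universe u
open CategoryTheory CategoryTheory.Limits AlgebraicGeometry
open AlgSp

namespace Groth.Agent.S10630

set_option backward.isDefEq.respectTransparency false

open Groth.Agent.AlgSpLib Groth.Agent.InfLift

variable {S : Scheme.{u}}

/-- maps out of an algebraic space are determined on etale affine charts -/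
theorem eq_of_affine {T Z : Sp S} (hT : IsAlgSpace T) {l l' : T ⟶ Z}
    (h : ∀ (V : Over S) (q : (yon S).obj V ⟶ T), IsAffine V.left → RepWith @Etale q → q ≫ l = q ≫ l') : l = l' := by
  obtain ⟨V₀, q₀, hq₀e, hq₀s⟩ := hT.atlas
  have : Sheaf.IsLocallySurjective q₀ := isLocallySurjective_of_atlas hq₀e hq₀s
  refine (cancel_epi q₀).1 (hom_ext_cover (R := Presieve.ofArrows V₀.left.affineCover.X V₀.left.affineCover.f)
    (Scheme.zariskiPrecoverage_le_fppfPrecoverage _ V₀.left.affineCover.mem₀) ?_)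
  rintro _ _ ⟨i⟩
  let c : Over.mk (V₀.left.affineCover.f i ≫ V₀.hom) ⟶ V₀ := Over.homMk (V₀.left.affineCover.f i) rfl
  have : IsAffine (Over.mk (V₀.left.affineCover.f i ≫ V₀.hom)).left :=
    inferInstanceAs (IsAffine (V₀.left.affineCover.X i))
  have := h _ ((yon S).map c ≫ q₀) inferInstance
    (repWith_comp ((repWith_yon_iff c).2 (inferInstanceAs (Etale (V₀.left.affineCover.f i)))) hq₀e)
  simpa only [Category.assoc] using this

/-- universality tested on thickenings of affine schemes -/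
theorem univ_of_affine {Z Z' X : Sp S} (h : Z ⟶ X) (i : Z ⟶ Z') (h' : Z' ⟶ X)
    (H : ∀ (T T' : Over S) (j : T ⟶ T'), IsAffine T'.left → IsFOThickMor ((yon S).map j) →
      ∀ (a : (yon S).obj T ⟶ Z) (b : (yon S).obj T' ⟶ X), (yon S).map j ≫ b = a ≫ h →
        ∃! a' : (yon S).obj T' ⟶ Z', (yon S).map j ≫ a' = a ≫ i ∧ a' ≫ h' = b)
    {T T' : Sp S} (hT' : IsAlgSpace T') (j : T ⟶ T') (a : T ⟶ Z) (b : T' ⟶ X) (hj : IsFOThickMor j)
    (w : j ≫ b = a ≫ h) : ∃! a' : T' ⟶ Z', j ≫ a' = a ≫ i ∧ a' ≫ h' = b := by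
  -- uniqueness over any space above `T'`
  have key : ∀ {P : Sp S} (hP : IsAlgSpace P) (p : P ⟶ T') (_ : LocP @Etale p) (l l' : P ⟶ Z'),
      (∀ (W : Sp S) (s : W ⟶ T) (t : W ⟶ P), s ≫ j = t ≫ p → t ≫ l = s ≫ a ≫ i ∧ t ≫ l' = s ≫ a ≫ i) →
      l ≫ h' = p ≫ b → l' ≫ h' = p ≫ b → l = l' := by
    intro P hP p hp l l' hl h1 h2
    refine eq_of_affine hP fun V q hV hq => ?_
    have hqp : RepWith @Etale (q ≫ p) := ((isEtaleMor_iff_locP hT').2 hp) q hq
    obtain ⟨W, fst, snd, sq, -⟩ := exists_repWith (hj.1 : RepWith thick j) (q ≫ p)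
    refine (H W V snd hV (foThick_baseChange hj hqp sq) (fst ≫ a) (q ≫ p ≫ b) ?_).unique ⟨?_, ?_⟩ ⟨?_, ?_⟩
    · rw [Category.assoc, ← w, sq.w_assoc, Category.assoc]
    · rw [← Category.assoc, (hl _ fst ((yon S).map snd ≫ q) (by rw [Category.assoc]; exact sq.w)).1, Category.assoc]
    · rw [Category.assoc, h1]
    · rw [← Category.assoc, (hl _ fst ((yon S).map snd ≫ q) (by rw [Category.assoc]; exact sq.w)).2, Category.assoc]
    · rw [Category.assoc, h2]
  obtain ⟨ι, V, hV, q₀, p, hpe, hps, -⟩ := exists_affine_sigma_chart hT'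
  obtain ⟨f, rfl⟩ : ∃ f : ∀ k, V k ⟶ S, Sigma.desc f = q₀ :=
    ⟨fun k => Sigma.ι V k ≫ q₀, Sigma.hom_ext _ _ fun k => Sigma.ι_desc _ _⟩
  let c : ∀ k, Over.mk (f k) ⟶ Over.mk (Sigma.desc f) := fun k => Over.homMk (Sigma.ι V k) (Sigma.ι_desc f k)
  have hck : ∀ k, RepWith @Etale ((yon S).map (c k) ≫ p) := fun k =>
    repWith_comp ((repWith_yon_iff (c k)).2 (inferInstanceAs (Etale (Sigma.ι V k)))) hpe
  choose W fst snd sq hsq using fun k => exists_repWith (hj.1 : RepWith thick j) ((yon S).map (c k) ≫ p)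
  choose l hl hlu using fun k => H (W k) (Over.mk (f k)) (snd k) (hV k) (foThick_baseChange hj (hck k) (sq k))
    (fst k ≫ a) ((yon S).map (c k) ≫ p ≫ b) (by rw [Category.assoc, ← w, (sq k).w_assoc, Category.assoc])
  obtain ⟨L, hL⟩ := exists_sigma_hom f l
  have hLb : L ≫ h' = p ≫ b := by
    refine hom_ext_cover (R := Presieve.ofArrows V (Sigma.ι V))
      (Scheme.zariskiPrecoverage_le_fppfPrecoverage _ (sigmaOpenCover V).mem₀) ?_
    rintro _ _ ⟨k⟩
    let e : Over.mk (Sigma.ι V k ≫ Sigma.desc f) ⟶ Over.mk (f k) :=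
      Over.homMk (𝟙 _) ((Category.id_comp _).trans (Sigma.ι_desc f k).symm)
    have he : (Over.homMk (Sigma.ι V k) rfl : Over.mk (Sigma.ι V k ≫ Sigma.desc f) ⟶ Over.mk (Sigma.desc f)) =
        e ≫ c k := Over.OverMorphism.ext (Category.id_comp _).symm
    erw [he]
    rw [Functor.map_comp, Category.assoc, Category.assoc, ← Category.assoc ((yon S).map (c k)) L, hL, (hl k).2]
  -- `L` restricts to `a` over `T`
  obtain ⟨W₀, f₀, s₀, sq₀, -⟩ := exists_repWith (hj.1 : RepWith thick j) p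
  have hLa : ∀ (W' : Sp S) (s : W' ⟶ T) (t : W' ⟶ (yon S).obj (Over.mk (Sigma.desc f))), s ≫ j = t ≫ p →
      t ≫ L = s ≫ a ≫ i := by
    intro W' s t e
    suffices hu : (yon S).map s₀ ≫ L = f₀ ≫ a ≫ i by
      rw [← sq₀.lift_snd s t e, Category.assoc, hu, sq₀.lift_fst_assoc]
    refine eq_of_affine (IsAlgSpace.yon_obj W₀) fun A α _ _ => ?_
    obtain ⟨α, rfl⟩ := exists_map_eq α
    refine hom_ext_cover (R := Presieve.ofArrows _ (fun k => pullback.fst (α ≫ s₀).left (Sigma.ι V k)))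
      (Scheme.zariskiPrecoverage_le_fppfPrecoverage _ ((sigmaOpenCover V).pullback₁ (α ≫ s₀).left).mem₀) ?_
    rintro _ _ ⟨k⟩
    let β : Over.mk (pullback.fst (α ≫ s₀).left (Sigma.ι V k) ≫ A.hom) ⟶ A :=
      Over.homMk (pullback.fst (α ≫ s₀).left (Sigma.ι V k)) rfl
    let γ : Over.mk (pullback.fst (α ≫ s₀).left (Sigma.ι V k) ≫ A.hom) ⟶ Over.mk (f k) :=
      Over.homMk (pullback.snd (α ≫ s₀).left (Sigma.ι V k)) (by
        show pullback.snd _ _ ≫ f k = pullback.fst _ _ ≫ A.hom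
        rw [← Over.w (α ≫ s₀), pullback.condition_assoc]
        congr 1
        exact (Sigma.ι_desc f k).symm)
    have hβ : β ≫ α ≫ s₀ = γ ≫ c k := Over.OverMorphism.ext pullback.condition
    show (yon S).map β ≫ (yon S).map α ≫ (yon S).map s₀ ≫ L = (yon S).map β ≫ (yon S).map α ≫ f₀ ≫ a ≫ i
    have hm : ((yon S).map β ≫ (yon S).map α ≫ f₀) ≫ j = (yon S).map γ ≫ (yon S).map (c k) ≫ p := by
      rw [Category.assoc, Category.assoc, sq₀.w]
      have := congrArg (fun m => (yon S).map m ≫ p) hβ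
      simpa only [Functor.map_comp, Category.assoc] using this
    calc _ = (yon S).map (β ≫ α ≫ s₀) ≫ L := by simp only [Functor.map_comp, Category.assoc]
      _ = (yon S).map γ ≫ l k := by rw [hβ, Functor.map_comp, Category.assoc, hL]
      _ = ((sq k).lift _ _ hm ≫ (yon S).map (snd k)) ≫ l k := by rw [(sq k).lift_snd]
      _ = _ := by
        rw [Category.assoc, (hl k).1, Category.assoc, (sq k).lift_fst_assoc]
        simp only [Category.assoc]
  have hp : LocP @Etale p := (isEtaleMor_iff_locP hT').1 (isEtaleMor_of_repWith' hpe)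
  have hQ : IsAlgSpace (pullback p p) := isAlgSpace_of_isPullback_space hT' (IsAlgSpace.yon_obj _)
    (IsAlgSpace.yon_obj _) (IsPullback.of_hasPullback p p)
  have hcov : IsFppfCover (fun _ : PUnit.{u + 1} => (yon S).obj (Over.mk (Sigma.desc f))) (fun _ => p) := by
    refine ⟨fun _ => ⟨fun A B a b c ha hb e => etST_flat.of_etale _ (hp a b c ha hb e),
      fun A B a b c ha hb e => etST_lfp.of_etale _ (hp a b c ha hb e)⟩, fun x => ⟨⟨⟩, ?_⟩⟩
    obtain ⟨v, rfl⟩ := ofPt_surjective hps x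
    exact ⟨Points.ofScheme _ v, (Points.ofPt_eq_map_ofScheme p v).symm⟩
  obtain ⟨ψ, hψ⟩ := exists_desc_of_fppfCover hT' (fun _ => IsAlgSpace.yon_obj _) hcov (fun _ => L) fun _ _ =>
    key hQ (pullback.fst p p ≫ p) (locP_comp etST_etale (IsAlgSpace.yon_obj _) hT'
      (locP_baseChange etST_etale (IsAlgSpace.yon_obj _) hT' hQ (IsAlgSpace.yon_obj _)
        (IsPullback.of_hasPullback p p).flip hp) hp) _ _
      (fun W' s t e => ⟨by rw [← Category.assoc]; exact hLa W' s _ (e.trans (Category.assoc _ _ _).symm),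
        by rw [← Category.assoc]; exact hLa W' s _ (e.trans (by rw [pullback.condition, Category.assoc]))⟩)
      (by rw [Category.assoc, hLb, Category.assoc]) (by rw [Category.assoc, hLb, ← pullback.condition_assoc, Category.assoc])
  have h1 : j ≫ ψ = a ≫ i := by
    have : Sheaf.IsLocallySurjective p := isLocallySurjective_of_atlas hpe hps
    have sq₁ := IsPullback.of_hasPullback j p
    have hepi : Epi (pullback.fst j p) := by
      have : Sheaf.IsLocallySurjective (pullback.fst j p) := isLocallySurjective_of_repWith _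
        (repWith_mono (fun _ _ g hg => have : Etale g := hg; (inferInstance : Flat g)) (repWith_baseChange sq₁.flip hpe))
        (repWith_mono (fun _ _ g hg => have : Etale g := hg; (inferInstance : LocallyOfFinitePresentation g))
          (repWith_baseChange sq₁.flip hpe)) (repWith_baseChange sq₁.flip hps)
      infer_instance
    refine (cancel_epi (pullback.fst j p)).1 ?_
    rw [sq₁.w_assoc, hψ ⟨⟩, hLa _ _ _ sq₁.w]
  have h2 : ψ ≫ h' = b := by
    have : Sheaf.IsLocallySurjective p := isLocallySurjective_of_atlas hpe hps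
    refine (cancel_epi p).1 ?_
    rw [← Category.assoc, hψ ⟨⟩, hLb]
  refine ⟨ψ, ⟨h1, h2⟩, fun y hy => ?_⟩
  refine key hT' (𝟙 T') ((isEtaleMor_iff_locP hT').1 (isEtaleMor_of_repWith' (repWith_of_isIso _))) _ _
    (fun W' s t e => ?_) (by rw [hy.2, Category.id_comp]) (by rw [h2, Category.id_comp])
  rw [Category.comp_id] at e
  rw [← e, Category.assoc, Category.assoc, hy.1, h1]
  exact ⟨rfl, rfl⟩

end Groth.Agent.S10630

namespace Groth.Agent.S10630

/-- (1) ⇔ (3): let h : Z ⟶ X be a morphism of algebraic spaces over S and let i : Z ⟶ Z', h' : Z' ⟶ X be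
a first order thickening of Z over X (i ≫ h' = h). Then (i, h') is a universal first order
thickening of Z over X if and only if for every first order thickening j : T ⟶ T' of schemes over S
with T' affine, every a : T ⟶ Z and b : T' ⟶ X with j ≫ b = a ≫ h, there is exactly one a' : T' ⟶ Z'
with j ≫ a' = a ≫ i and a' ≫ h' = b. -/
theorem result {S : Scheme.{u}} {Z Z' X : AlgSp.Space S} (h : Z ⟶ X) (i : Z ⟶ Z')
    (h' : Z' ⟶ X) (hi : AlgSp.IsFOThickMor i.hom) (w : i ≫ h' = h) :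
    AlgSp.IsUnivFOThick h.hom i.hom h'.hom ↔
      ∀ (T T' : Over S) (j : T ⟶ T'), IsAffine T'.left → AlgSp.IsFOThickMor ((AlgSp.yon S).map j) →
        ∀ (a : (AlgSp.yon S).obj T ⟶ Z.obj) (b : (AlgSp.yon S).obj T' ⟶ X.obj),
          (AlgSp.yon S).map j ≫ b = a ≫ h.hom →
          ∃! a' : (AlgSp.yon S).obj T' ⟶ Z'.obj, (AlgSp.yon S).map j ≫ a' = a ≫ i.hom ∧ a' ≫ h'.hom = b := by
  refine ⟨fun HU T T' j _ hj a b e => HU.2.2 (IsAlgSpace.yon_obj T) (IsAlgSpace.yon_obj T') _ a b hj e,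
    fun H => ⟨hi, congrArg (fun m => m.hom) w, fun T T' _ hT' j a b hj e => ?_⟩⟩
  exact univ_of_affine h.hom i.hom h'.hom H hT' j a b hj e

end Groth.Agent.S10630
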