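import Groth.Statements.S4116
import Groth.Agent.MTImage.ToriConj
-- import your own Groth.Agent.* helpers here

set_option autoImplicit false
universe u
open CategoryTheory MonoidalCategory CartesianMonoidalCategory MonObj GrpObj AlgebraicGeometry CategoryTheory.Limits
open SGA3x

set_option backward.isDefEq.respectTransparency false

namespace Groth.Agent.S4116

/-- Let G be an S-group scheme which is smooth, separated and of finite type over S, and let T₁, T₂ be
maximal tori of G. Then T₁ and T₂ are conjugate locally for the etale topology: there are an etale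
surjective morphism S' → S and an S'-point g of G_{S'} with int(g)(T₁ ×_S S') = T₂ ×_S S'. -/
theorem result (S : Scheme.{u}) (G : Over S) [GrpObj G]
    [Smooth G.hom] [IsSeparated G.hom] [QuasiCompact G.hom]
    (T₁ T₂ : Over S) [GrpObj T₁] [GrpObj T₂] (i₁ : T₁ ⟶ G) (i₂ : T₂ ⟶ G)
    (h₁ : Red.IsMaximalTorus i₁) (h₂ : Red.IsMaximalTorus i₂) :
    ∃ (S' : Scheme.{u}) (f : S' ⟶ S), Etale f ∧ Surjective f ∧
      ∃ g : 𝟙_ (Over S') ⟶ Red.bc f G, SGA3x.ConjBy ((Over.pullback f).map i₁) ((Over.pullback f).map i₂) g := by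
  haveI := h₁.1; haveI := h₁.2.1; haveI := h₂.1; haveI := h₂.2.1
  obtain ⟨T, j, hj, hsm, hT⟩ := MTImage.exists_transporterEq_tori T₁ T₂ G h₁.2.2.1 h₂.2.2.1 i₁ i₂
  haveI := hsm
  have hpt : ∀ s : S, ∃ (S' : Scheme.{u}) (e : S' ⟶ S), Etale e ∧ s ∈ Set.range e.base ∧
      Nonempty ((Over.map e).obj (𝟙_ (Over S')) ⟶ T) := fun s => by
    obtain ⟨g₀, hg₀⟩ := MTImage.exists_geom_transport i₁ h₁ i₂ h₂ s
    obtain ⟨t, -⟩ := (hT _ g₀).2 fun X x => hg₀ X x
    exact MTBridge.exists_etale_point s t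
  choose P e he hmem hσ using hpt
  haveI := he
  let f : (∐ P) ⟶ S := Sigma.desc e
  have hf : Etale f := IsZariskiLocalAtSource.sigmaDesc (P := @Etale) he
  have hfs : Surjective f := ⟨fun s => by
    obtain ⟨x, hx⟩ := hmem s
    exact ⟨(Sigma.ι P s).base x, by
      rw [← Scheme.Hom.comp_apply, Sigma.ι_desc]
      exact hx⟩⟩
  refine ⟨∐ P, f, hf, hfs, ?_⟩
  let σ : (Over.map f).obj (𝟙_ (Over (∐ P))) ⟶ T :=
    Over.homMk (Sigma.desc fun s => (hσ s).some.left) (by
      refine Sigma.hom_ext _ _ fun s => ?_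
      show Sigma.ι P s ≫ Sigma.desc _ ≫ T.hom = Sigma.ι P s ≫ 𝟙 _ ≫ Sigma.desc e
      rw [Category.id_comp, Sigma.ι_desc_assoc, Sigma.ι_desc]
      exact (Over.w (hσ s).some).trans (Category.id_comp _))
  have hc := (hT _ (σ ≫ j)).1 ⟨σ, rfl⟩
  refine ⟨MTBridge.toBC f (σ ≫ j), MTImage.conjBy_of_transporter _ _ _ (fun X h => ?_) (fun X h => ?_)⟩
  · obtain ⟨a, rfl⟩ := MTBridge.exists_toBC f h
    obtain ⟨b, hb⟩ := (hc _ ((Over.map f).map (toUnit X))).1 a
    refine ⟨MTBridge.toBC f b, ?_⟩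
    rw [← MTBridge.toBC_comp, ← MTBridge.toBC_comp, ← MTBridge.toBC_precomp, ← MTBridge.toBC_inv,
      ← MTBridge.toBC_mul, ← MTBridge.toBC_mul]
    exact congrArg (MTBridge.toBC f) hb
  · obtain ⟨a, rfl⟩ := MTBridge.exists_toBC f h
    obtain ⟨b, hb⟩ := (hc _ ((Over.map f).map (toUnit X))).2 a
    refine ⟨MTBridge.toBC f b, ?_⟩
    rw [← MTBridge.toBC_comp, ← MTBridge.toBC_comp, ← MTBridge.toBC_precomp, ← MTBridge.toBC_inv,
      ← MTBridge.toBC_mul, ← MTBridge.toBC_mul]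
    exact congrArg (MTBridge.toBC f) hb

end Groth.Agent.S4116
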