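import Groth.Statements.S4147
import Groth.Agent.MTImage.Torus
import Groth.Agent.Chev.MaxTorusImage
import Groth.Agent.Chev.MaxTorusBC
import Groth.Agent.Chev.CentralMT
-- import your own Groth.Agent.* helpers here

set_option autoImplicit false
universe u
open CategoryTheory MonoidalCategory CartesianMonoidalCategory MonObj GrpObj AlgebraicGeometry CategoryTheory.Limits
open SGA3x

set_option backward.isDefEq.respectTransparency false

namespace Groth.Agent.S4147

theorem isPullback_map {S U : Scheme.{u}} {A B : Over S} (f : A ⟶ B) (g : U ⟶ S) :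
    IsPullback (pullback.fst A.hom g) ((Over.pullback g).map f).left f.left (pullback.fst B.hom g) := by
  refine IsPullback.of_bot ?_ ?_ (IsPullback.of_hasPullback B.hom g)
  · rw [show ((Over.pullback g).map f).left ≫ pullback.snd B.hom g = pullback.snd A.hom g from
      Over.w ((Over.pullback g).map f), Over.w f]
    exact IsPullback.of_hasPullback A.hom g
  · simp only [Over.pullback_map_left]; exact (pullback.lift_fst _ _ _).symm


/-- Let G and G' be S-group schemes, smooth, separated and of finite type over S, G acquiring a maximal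
torus after an fpqc covering base change, and u : G → G' a homomorphism which is surjective on every
geometric fibre. Then for every maximal torus i : T → G there is a maximal torus i' : T' → G' of G'
and a surjective flat homomorphism v : T → T' with v ≫ i' = i ≫ u (T' is the image u(T)). -/
theorem result (S : Scheme.{u}) (G G' : Over S) [GrpObj G] [GrpObj G']
    [Smooth G.hom] [IsSeparated G.hom] [QuasiCompact G.hom] [Smooth G'.hom] [IsSeparated G'.hom] [QuasiCompact G'.hom]
    (hG : SGA3x.HasMaxTorusFpqcLocally G) (u : G ⟶ G') [IsMonHom u]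
    (hu : ∀ s : S, Surjective ((Over.pullback (Red.geomPt s)).map u).left)
    (T : Over S) [GrpObj T] (i : T ⟶ G) (hT : Red.IsMaximalTorus i) :
    ∃ (T' : Over S) (_ : GrpObj T') (i' : T' ⟶ G') (v : T ⟶ T'), Red.IsMaximalTorus i' ∧ IsMonHom v ∧
      v ≫ i' = i ≫ u ∧ Surjective v.left ∧ Flat v.left := by
  haveI := hT.1
  haveI := hT.2.1
  haveI : LocallyOfFiniteType G'.hom := inferInstance
  haveI : LocallyOfFinitePresentation G'.hom := inferInstance
  obtain ⟨T', hT'g, v, i', hv, hi'm, hi'mono, hT't, hvs, hvf, hvi⟩ :=
    MTImage.exists_image_torus hT.2.2.1 (i ≫ u)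
  haveI := hi'm
  haveI := hi'mono
  refine ⟨T', hT'g, i', v, ⟨hi'm, hi'mono, hT't, fun s R _ j _ _ f hR hf => ?_⟩, hv, hvi, hvs, hvf⟩
  haveI : LocallyOfFiniteType (Red.geomFibre s G).hom :=
    inferInstanceAs (LocallyOfFiniteType (pullback.snd G.hom (Red.geomPt s)))
  haveI : QuasiCompact (Red.geomFibre s G).hom :=
    inferInstanceAs (QuasiCompact (pullback.snd G.hom (Red.geomPt s)))
  haveI : LocallyOfFiniteType (Red.geomFibre s G').hom :=
    inferInstanceAs (LocallyOfFiniteType (pullback.snd G'.hom (Red.geomPt s)))
  haveI : QuasiCompact (Red.geomFibre s G').hom :=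
    inferInstanceAs (QuasiCompact (pullback.snd G'.hom (Red.geomPt s)))
  haveI : PreservesLimitsOfShape WalkingCospan (Over.pullback (Red.geomPt s)) :=
    (Adjunction.rightAdjoint_preservesLimits (Over.mapPullbackAdj (Red.geomPt s))).preservesLimitsOfShape
  haveI := hu s
  haveI : Surjective ((Over.pullback (Red.geomPt s)).map v).left :=
    MorphismProperty.of_isPullback (P := @Surjective) (isPullback_map v (Red.geomPt s)) hvs
  have hsq : (Over.pullback (Red.geomPt s)).map v ≫ (Over.pullback (Red.geomPt s)).map i' =
      (Over.pullback (Red.geomPt s)).map i ≫ (Over.pullback (Red.geomPt s)).map u := by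
    rw [← Functor.map_comp, ← Functor.map_comp, hvi]
  exact (Chev.MaxTorusImage.isMaxTorus_image ((Over.pullback (Red.geomPt s)).map u)
    ((Over.pullback (Red.geomPt s)).map i) (Chev.MaxTorusBC.isMaxTorus_pt i hT (Red.geomPt s))
    ((Over.pullback (Red.geomPt s)).map i') (Chev.Borel.isTorus_bc_scheme T' (Red.geomPt s) hT't)
    ((Over.pullback (Red.geomPt s)).map v) hsq).2.2.2 R j f hR hf

end Groth.Agent.S4147
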