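import Groth.Statements.S4119
import Groth.Agent.MTImage.Cartan
-- import your own Groth.Agent.* helpers here

set_option autoImplicit false
universe u
open CategoryTheory MonoidalCategory CartesianMonoidalCategory MonObj GrpObj AlgebraicGeometry CategoryTheory.Limits
open SGA3x

set_option backward.isDefEq.respectTransparency false

namespace Groth.Agent.S4119

/-- Second half: let G be an S-group scheme, smooth, separated and of finite type over S, which acquires
a maximal torus after some fpqc covering base change, and let c : C → G be a Cartan subgroup. Then
there is a maximal torus i : T → G of G of which C is the centralizer (and T is central in C). -/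
theorem result (S : Scheme.{u}) (G : Over S) [GrpObj G]
    [Smooth G.hom] [IsSeparated G.hom] [QuasiCompact G.hom] (hG : SGA3x.HasMaxTorusFpqcLocally G)
    (C : Over S) [GrpObj C] (c : C ⟶ G) (hc : SGA3x.IsCartan c) :
    ∃ (T : Over S) (_ : GrpObj T) (i : T ⟶ G), Red.IsMaximalTorus i ∧ Red.IsCentralizerOf i c := by
  exact MTImage.exists_torus_of_cartan hG c hc

end Groth.Agent.S4119
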