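import Groth.Statements.S8428
import Groth.Agent.MTImage.EtaleLocal
import Groth.Agent.S4147
-- import your own Groth.Agent.* helpers here

set_option autoImplicit false
universe u
open CategoryTheory MonoidalCategory CartesianMonoidalCategory MonObj GrpObj AlgebraicGeometry
open SGA3x CategoryTheory.Limits

set_option backward.isDefEq.respectTransparency false

namespace Groth.Agent.S8428
/-- Surjectivity of a base changed morphism is unchanged along a comparison of base changes. -/
theorem surjective_iff {S U V : Scheme.{u}} {A B : Over S} (u : A ⟶ B) {g : V ⟶ U} {f : U ⟶ S} {ψ : V ⟶ S}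
    (h : g ≫ f = ψ) : Surjective ((Over.pullback ψ).map u).left ↔
      Surjective ((Over.pullback g).map ((Over.pullback f).map u)).left := by
  obtain ⟨eA, heA, -⟩ := Chev.MaxTorusBC.exists_trIso h A
  obtain ⟨eB, heB, -⟩ := Chev.MaxTorusBC.exists_trIso h B
  have hn : (Over.pullback ψ).map u ≫ eB.hom = eA.hom ≫ (Over.pullback g).map ((Over.pullback f).map u) := by
    rw [heA, heB, MTImage.trIso_natural]
  haveI : IsIso eA.hom.left := ((Over.forget V).mapIso eA).isIso_hom
  haveI : IsIso eB.hom.left := ((Over.forget V).mapIso eB).isIso_hom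
  have h' := congrArg (fun w => w.left) hn
  rw [Over.comp_left, Over.comp_left] at h'
  rw [← MorphismProperty.cancel_right_of_respectsIso (P := @Surjective) _ eB.hom.left, h',
    MorphismProperty.cancel_left_of_respectsIso (P := @Surjective)]


/-- Let G and G′ be S-group schemes, smooth, separated and of finite type over S, G admitting a maximal
torus locally for the fpqc topology, and u : G → G′ a homomorphism which is surjective on every
geometric fibre. Then G′ admits a maximal torus locally for the etale topology. -/
theorem result (S : Scheme.{u}) (G G' : Over S) [GrpObj G] [GrpObj G']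
    [Smooth G.hom] [IsSeparated G.hom] [QuasiCompact G.hom] [Smooth G'.hom] [IsSeparated G'.hom] [QuasiCompact G'.hom]
    (hG : SGA3x.HasMaxTorusFpqcLocally G) (u : G ⟶ G') [IsMonHom u]
    (hu : ∀ s : S, Surjective ((Over.pullback (Red.geomPt s)).map u).left) :
    SGA3x.HasMaxTorusEtaleLocally G' := by
  obtain ⟨S', f, hf, hfs, T, hTg, i, hi⟩ := MTImage.etaleLocally_of_fpqcLocally hG
  haveI : Smooth (Red.bc f G).hom := inferInstanceAs (Smooth (pullback.snd G.hom f))
  haveI : IsSeparated (Red.bc f G).hom := inferInstanceAs (IsSeparated (pullback.snd G.hom f))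
  haveI : QuasiCompact (Red.bc f G).hom := inferInstanceAs (QuasiCompact (pullback.snd G.hom f))
  haveI : Smooth (Red.bc f G').hom := inferInstanceAs (Smooth (pullback.snd G'.hom f))
  haveI : IsSeparated (Red.bc f G').hom := inferInstanceAs (IsSeparated (pullback.snd G'.hom f))
  haveI : QuasiCompact (Red.bc f G').hom := inferInstanceAs (QuasiCompact (pullback.snd G'.hom f))
  obtain ⟨T', hT'g, i', v, hi', -, -, -, -⟩ := Groth.Agent.S4147.result S' (Red.bc f G) (Red.bc f G')
    (MTImage.hasMaxTorusFpqcLocally_bc hG f) ((Over.pullback f).map u) (fun s' => by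
      rw [← surjective_iff u (show Red.geomPt s' ≫ f = Red.geomPt s' ≫ f from rfl)]
      obtain ⟨τ, hτ⟩ := MTImage.exists_lift_geomPt (Red.geomPt s' ≫ f)
      rw [surjective_iff u hτ]
      exact MorphismProperty.of_isPullback (P := @Surjective) (MTImage.isPullback_map _ τ) (hu _))
    T i hi
  exact ⟨S', f, hf, hfs, T', hT'g, i', hi'⟩

end Groth.Agent.S8428
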