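import Groth.Statements.S0107
import Groth.Agent.EtDescRep.Local
import Groth.Agent.EtFLC.Triv

set_option autoImplicit false
open CategoryTheory CategoryTheory.Limits AlgebraicGeometry Opposite
universe u
open EtBase

namespace Groth.Agent.S0107

/-- The underlying sheaf of sets of a finite locally constant abelian sheaf F on the small étale site of
a scheme X is representable by a scheme finite étale over X: there are an étale X-scheme U with U →
X finite and an isomorphism between the sheaf of sets underlying F and the functor of points of U. -/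
theorem result {X : Scheme.{u}} (F : EtCoh.Ab X) (h : EtCoh.IsFiniteLocallyConstant F) :
    ∃ (U : X.Etale) (_ : IsFinite U.hom),
      Nonempty (F.obj ⋙ forget AddCommGrpCat.{u + 1} ≅ yoneda.obj U ⋙ uliftFunctor.{u + 1}) := by
  classical
  let G : EtDesc.Sh X := (sheafCompose X.smallEtaleTopology (forget AddCommGrpCat.{u + 1})).obj F
  obtain ⟨U, hU, ⟨e⟩⟩ := Groth.Agent.EtDescRep.exists_finite_repSh (G := G) fun x => by
    obtain ⟨U, y, M, _, _, σ, hy, hσ⟩ := (Groth.Agent.EtFLC.isFLC_iff F).1 h x
    have h1 : Groth.Agent.EtDescRep.IsTrivSet G U (fun m : M => σ m) := by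
      refine ⟨fun {V} g s v => ?_, fun {V} g m m' hm v => ?_⟩
      · obtain ⟨W, k, w, m, hw, hm⟩ := hσ.surj g s v
        exact ⟨W, k, m, ⟨w, hw⟩, hm⟩
      · refine sub_eq_zero.1 (hσ.inj g (m - m') ?_ v)
        have hm' : Groth.Agent.EtFLC.res F g (σ m) = Groth.Agent.EtFLC.res F g (σ m') := hm
        rw [map_sub, map_sub, hm', sub_self]
    haveI : Fintype M := Fintype.ofFinite M
    exact ⟨U, y, _, _, hy, h1.congr (Fintype.equivFin M).symm⟩
  exact ⟨U, hU, ⟨e.symm⟩⟩

end Groth.Agent.S0107
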