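import Groth.Statements.S0239
import Groth.Agent.Purity.CompFF
import Groth.Agent.ZarConn.Couple
import Groth.Agent.S0532

set_option autoImplicit false
set_option maxHeartbeats 400000
open scoped TensorProduct
universe u
open Pi1

namespace Groth.Agent.S0239

open AlgebraicGeometry CategoryTheory CategoryTheory.Limits in
/-- For a henselian pair (A, I) in Mathlib's sense, restricting finite etale covers from Spec A to the
closed subscheme Spec (A/I) is an equivalence of categories. -/
theorem result (A : Type u) [CommRing A] (I : Ideal A) [HenselianRing A I] :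
    (FEt.restrict (Spec.map (CommRingCat.ofHom (Ideal.Quotient.mk I)))).IsEquivalence := by
  let q := CommRingCat.ofHom (Ideal.Quotient.mk I)
  haveI : IsClosedImmersion (Spec.map q) :=
    IsClosedImmersion.spec_of_surjective _ Ideal.Quotient.mk_surjective
  have hr : Set.range (Spec.map q) = {x | I ≤ ((𝟙 (Spec (CommRingCat.of A)) : _ ⟶ _) x).asIdeal} := by
    ext x
    exact (Set.ext_iff.mp ((range_comap_of_surjective _ _ Ideal.Quotient.mk_surjective).trans
      (by rw [Ideal.mk_ker])) x : x ∈ Set.range (PrimeSpectrum.comap (Ideal.Quotient.mk I)) ↔ x ∈ PrimeSpectrum.zeroLocus I).trans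
      (by simp [PrimeSpectrum.mem_zeroLocus])
  obtain ⟨hfull, hfaith⟩ := Groth.Agent.Purity.restrict_full_faithful_of_clopen (Spec.map q)
    fun Z π hπ _ C hC => Groth.Agent.ZarConn.existsUnique_clopen_lift I (𝟙 _) (Spec.map q) hr π C hC
  haveI : (FEt.restrict (Spec.map q)).EssSurj := by
    refine ⟨fun E => ?_⟩
    haveI : IsFinite E.hom := E.prop.1
    haveI : Etale E.hom := E.prop.2
    haveI : IsAffine E.left := isAffine_of_isAffineHom (Y := Spec (CommRingCat.of (A ⧸ I))) E.hom
    obtain ⟨φ, hφ⟩ := Spec.map_surjective (E.left.isoSpec.inv ≫ E.hom)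
    haveI hfin : IsFinite (Spec.map φ) := hφ ▸ inferInstance
    haveI het : Etale (Spec.map φ) := hφ ▸ inferInstance
    let : Algebra (A ⧸ I) Γ(E.left, ⊤) := φ.hom.toAlgebra
    haveI : Module.Finite (A ⧸ I) Γ(E.left, ⊤) := (IsFinite.SpecMap_iff (f := φ)).mp hfin
    haveI : Algebra.Etale (A ⧸ I) Γ(E.left, ⊤) := (HasRingHomProperty.Spec_iff (P := @Etale)).mp het
    obtain ⟨B, _, _, hB, hBe, ⟨e⟩⟩ := Groth.Agent.S0532.result A I Γ(E.left, ⊤)
    let π := Spec.map (CommRingCat.ofHom (algebraMap A B))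
    have hπ : FEt.prop π :=
      ⟨(IsFinite.SpecMap_iff (f := CommRingCat.ofHom (algebraMap A B))).mpr (RingHom.finite_algebraMap.mpr hB),
        (HasRingHomProperty.Spec_iff (P := @Etale)).mpr (RingHom.etale_algebraMap.mpr hBe)⟩
    let ε : CommRingCat.of Γ(E.left, ⊤) ⟶ CommRingCat.of ((A ⧸ I) ⊗[A] B) :=
      CommRingCat.ofHom e.symm.toAlgHom.toRingHom
    haveI : IsIso ε := (ConcreteCategory.isIso_iff_bijective ε).mpr e.symm.bijective
    let θ₁ : pullback π (Spec.map q) ⟶ Spec (CommRingCat.of ((A ⧸ I) ⊗[A] B)) :=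
      (pullbackSymmetry π (Spec.map q)).hom ≫ (pullbackSpecIso A (A ⧸ I) B).hom
    haveI : IsIso θ₁ := inferInstance
    let θ : pullback π (Spec.map q) ⟶ E.left := θ₁ ≫ Spec.map ε ≫ E.left.isoSpec.inv
    haveI : IsIso θ := by dsimp only [θ, θ₁]; infer_instance
    have h1 : θ₁ ≫ Spec.map (CommRingCat.ofHom Algebra.TensorProduct.includeLeftRingHom) =
        pullback.snd π (Spec.map q) := by
      refine (Category.assoc _ _ _).trans ?_
      rw [show Spec.map (CommRingCat.ofHom (Algebra.TensorProduct.includeLeftRingHom :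
          A ⧸ I →+* (A ⧸ I) ⊗[A] B)) = (pullbackSpecIso A (A ⧸ I) B).inv ≫ pullback.fst _ _ from
        (pullbackSpecIso_inv_fst A (A ⧸ I) B).symm, Iso.hom_inv_id_assoc]
      exact pullbackSymmetry_hom_comp_fst π (Spec.map q)
    have h2 : φ ≫ ε = CommRingCat.ofHom Algebra.TensorProduct.includeLeftRingHom :=
      CommRingCat.hom_ext (RingHom.ext fun a => e.symm.commutes a)
    have key : θ ≫ E.hom = pullback.snd π (Spec.map q) := by
      rw [← h1, ← h2, Spec.map_comp, hφ]
      simp only [θ, Category.assoc]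
    exact ⟨MorphismProperty.Over.mk ⊤ π hπ, ⟨MorphismProperty.Over.isoMk (@asIso _ _ _ _ θ ‹IsIso θ›) key⟩⟩
  exact { full := hfull, faithful := hfaith }

end Groth.Agent.S0239
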