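import Groth.Statements.S12140
import Groth.Agent.RelProjLib.QMapPre

set_option linter.style.haveILetI false
set_option backward.isDefEq.respectTransparency false

set_option autoImplicit false
universe u
open CategoryTheory CategoryTheory.Limits AlgebraicGeometry TopologicalSpace Opposite
open scoped HomogeneousIdeal
noncomputable section
open EGA2

namespace Groth.Agent.S12140

/-- Let φ : 𝒜 → ℬ be a graded homomorphism of quasi-coherent positively graded O_Y-algebras, PA =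
Proj(𝒜), PB = Proj(ℬ) with their charts, G(φ) ⊆ PB the open on which the induced morphism is defined
and Φ = Proj(φ) : G(φ) → PA that morphism (pinned on the standard affine charts of G(φ)). Then Φ is
affine, and for every affine open U of Y the part of G(φ) over U is the image, under the chart of PB
over U, of the open G(φ(U)) of Proj ℬ(U) where the morphism of homogeneous spectra induced by φ(U) :
𝒜(U) → ℬ(U) is defined. -/
theorem result {Y PA PB : Scheme.{u}} (𝒜 ℬ : RelProj.QCGrAlg Y)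
    (φ : 𝒜.toQCAlg ⟶ ℬ.toQCAlg) (hφ : RelProj.IsGradedHom φ)
    (pA : PA ⟶ Y) (chartA : ∀ (U : Y.Opens) (hU : IsAffineOpen U), (((pA ⁻¹ᵁ U : PA.Opens) : Scheme.{u}) ≅ Proj (𝒜.deg U hU)))
    (hA : RelProj.IsRelProj 𝒜 pA chartA)
    (pB : PB ⟶ Y) (chartB : ∀ (U : Y.Opens) (hU : IsAffineOpen U), (((pB ⁻¹ᵁ U : PB.Opens) : Scheme.{u}) ≅ Proj (ℬ.deg U hU)))
    (hB : RelProj.IsRelProj ℬ pB chartB)
    (Φ : ((RelProj.domQ (RelProj.QGrHom.ofHom φ hφ) pB chartB : PB.Opens) : Scheme.{u}) ⟶ PA)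
    (hΦ : RelProj.IsProjQMapOn (RelProj.QGrHom.ofHom φ hφ) pA chartA pB chartB
      (RelProj.domQ (RelProj.QGrHom.ofHom φ hφ) pB chartB) Φ) :
    IsAffineHom Φ ∧
      ∀ (U : Y.Opens) (hU : IsAffineOpen U),
        RelProj.domQ (RelProj.QGrHom.ofHom φ hφ) pB chartB ⊓ pB ⁻¹ᵁ U =
          (RelProj.emb pB chartB U hU) ''ᵁ RelCone.domOpen (RelProj.gradedHomAt φ hφ U hU) := by
  have key : ∀ (U : Y.Opens) (hU : IsAffineOpen U),
      RelProj.domQ (RelProj.QGrHom.ofHom φ hφ) pB chartB ⊓ pB ⁻¹ᵁ U =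
        (RelProj.emb pB chartB U hU) ''ᵁ RelCone.domOpen (RelProj.gradedHomAt φ hφ U hU) := fun U hU => by
    rw [← Groth.Agent.RelProjLib.gradedAt_ofHom φ hφ U hU]
    exact Groth.Agent.RelProjLib.domQ_inf (g := 𝟙 Y) _ hB hU hU (le_refl U)
  refine ⟨isAffineHom_of_forall_exists_isAffineOpen _ fun x => ?_, key⟩
  obtain ⟨U, hxU⟩ := TopologicalSpace.Opens.mem_iSup.mp
    ((Groth.Agent.RelProjLib.iSup_opensRange_emb (𝒮 := 𝒜) (q := pA) (ch := chartA)).ge (Set.mem_univ x))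
  obtain ⟨w, rfl⟩ := hxU
  obtain ⟨s, q, hq⟩ : ∃ (s : Σ i : PNat, 𝒜.deg U.1 U.2 i) (q : _),
      Proj.awayι (𝒜.deg U.1 U.2) (s.2 : 𝒜.presheaf.obj (op U.1)) s.2.2 s.1.2 q = w :=
    ⟨_, ((Proj.affineOpenCover (𝒜.deg U.1 U.2)).openCover.exists_eq w).choose_spec⟩
  refine ⟨RelProj.emb pA chartA U.1 U.2 ''ᵁ Proj.basicOpen (𝒜.deg U.1 U.2) (s.2 : 𝒜.presheaf.obj (op U.1)),
    ⟨w, ?_, rfl⟩, ?_, ?_⟩
  · rw [← Proj.opensRange_awayι (𝒜.deg U.1 U.2) _ s.2.2 s.1.2]; exact ⟨q, hq⟩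
  · exact (Scheme.Hom.isAffineOpen_iff_of_isOpenImmersion _).mpr
      (ProjLib.isAffineOpen_basicOpen _ s.2.2 s.1.2)
  let D := RelProj.domQ (RelProj.QGrHom.ofHom φ hφ) pB chartB
  let O := RelProj.emb pB chartB U.1 U.2 ''ᵁ Proj.basicOpen (ℬ.deg U.1 U.2)
    ((RelProj.QGrHom.ofHom φ hφ).gradedAt U.1 U.2 U.1 U.2 (le_refl U.1) (s.2 : 𝒜.presheaf.obj (op U.1)))
  have hOD : O ≤ D := by
    rintro z ⟨y, hy, rfl⟩
    have : RelProj.emb pB chartB U.1 U.2 y ∈ D ⊓ pB ⁻¹ᵁ U.1 := by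
      rw [Groth.Agent.RelProjLib.domQ_inf (g := 𝟙 Y) (RelProj.QGrHom.ofHom φ hφ) hB U.2 U.2 (le_refl U.1)]
      exact ⟨y, (RelCone.mem_domOpen _ _).mpr
        ⟨_, HomogeneousIdeal.mem_irrelevant_of_mem _ s.1.2 s.2.2, hy⟩, rfl⟩
    exact this.1
  have hOU : O ≤ pB ⁻¹ᵁ U.1 :=
    (Scheme.Hom.image_le_opensRange _ _).trans_eq (Groth.Agent.RelProjLib.opensRange_emb U.1 U.2)
  have hover : Φ ≫ pA = D.ι ≫ pB := by
    have := Groth.Agent.RelProjLib.qmap_over (g := 𝟙 Y) (RelProj.QGrHom.ofHom φ hφ) hA hB hΦ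
    rw [Category.comp_id] at this
    exact this
  have heq : Φ ⁻¹ᵁ (RelProj.emb pA chartA U.1 U.2 ''ᵁ
      Proj.basicOpen (𝒜.deg U.1 U.2) (s.2 : 𝒜.presheaf.obj (op U.1))) = D.ι ⁻¹ᵁ O := by
    ext z
    constructor
    · intro hz
      have hzU : pB (D.ι z) ∈ U.1 := by
        have h1 : Φ z ∈ (RelProj.emb pA chartA U.1 U.2).opensRange :=
          Scheme.Hom.image_le_opensRange _ _ hz
        rw [Groth.Agent.RelProjLib.opensRange_emb] at h1
        rw [← Scheme.Hom.comp_apply, ← hover, Scheme.Hom.comp_apply]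
        exact h1
      exact (Groth.Agent.RelProjLib.mem_preimage_iff _ hB hΦ U.2 U.2 (le_refl U.1) s.1.2 s.2.2 z hzU).mp hz
    · intro hz
      exact (Groth.Agent.RelProjLib.mem_preimage_iff _ hB hΦ U.2 U.2 (le_refl U.1) s.1.2 s.2.2 z (hOU hz)).mpr hz
  rw [heq, ← Scheme.Hom.isAffineOpen_iff_of_isOpenImmersion D.ι,
    Scheme.Hom.image_preimage_eq_opensRange_inf, Scheme.Opens.opensRange_ι, inf_eq_right.mpr hOD,
    Scheme.Hom.isAffineOpen_iff_of_isOpenImmersion]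
  exact ProjLib.isAffineOpen_basicOpen _ (Graded.map_mem _ s.2.2) s.1.2

end Groth.Agent.S12140
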