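import Groth.Statements.S14424
import Mathlib
import Groth.Agent.LocH.Depth
-- import your own Groth.Agent.* helpers here

set_option autoImplicit false
universe u
open LocCoh

namespace Groth.Agent.S14424

/-- Let R be a Noetherian ring. Then R is Cohen–Macaulay (every localization at a prime ideal is a
Cohen–Macaulay local ring) if and only if for every proper ideal a of R the a-depth of R equals the
height (codimension) of a. (The published statement defines a Cohen–Macaulay ring by its
localizations at maximal ideals; this row uses all prime ideals, an equivalent definition because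
Cohen–Macaulayness passes to localizations.) -/
theorem result (R : Type u) [CommRing R] [IsNoetherianRing R] :
    LocCoh.IsCohenMacaulayRing R ↔ ∀ a : Ideal R, a ≠ ⊤ → LocCoh.idealDepth a R = a.height := by
  have hdim : ∀ (p : Ideal R) [p.IsPrime], Module.supportDim (Localization.AtPrime p) (Localization.AtPrime p) = (p.height : WithBot ℕ∞) :=
    fun p _ => by rw [Module.supportDim_self_eq_ringKrullDim, IsLocalization.AtPrime.ringKrullDim_eq_height p _]
  have hdepth : ∀ (p : Ideal R) [p.IsPrime], LocCoh.depth (Localization.AtPrime p) (LocalizedModule p.primeCompl R) =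
      LocCoh.depth (Localization.AtPrime p) (Localization.AtPrime p) := fun p _ => by
    refine ENat.eq_of_forall_natCast_le_iff fun n => ?_
    unfold LocCoh.depth
    exact (Groth.Agent.LocH.le_idealDepth_iff _ _ n).trans ((forall₂_congr fun i _ => Groth.Agent.LocH.subsingleton_iff_of_iso _ i
      (Groth.Agent.LocH.localizedSelf p.primeCompl).toModuleIso).trans (Groth.Agent.LocH.le_idealDepth_iff _ _ n).symm)
  constructor
  · intro hCM a ha
    rw [Groth.Agent.LocH.idealDepth_eq_iInf, a.height_eq_inf_minimalPrimes]
    refine le_antisymm (le_iInf₂ fun p hp => ?_) (le_iInf₂ fun p hp => ?_)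
    · have := hp.1.1
      refine iInf₂_le_of_le ⟨p, hp.1.1⟩ hp.1.2 ?_
      have h1 := (hCM.isCohenMacaulayLocalRing_localization p).supportDim_eq_depth
      rw [hdim p, WithBot.coe_inj] at h1
      exact ((hdepth p).trans h1.symm).le
    · have h1 := (hCM.isCohenMacaulayLocalRing_localization p.asIdeal).supportDim_eq_depth
      rw [hdim p.asIdeal, WithBot.coe_inj] at h1
      obtain ⟨q, hq, hqp⟩ := Ideal.exists_minimalPrimes_le hp
      exact (iInf₂_le q hq).trans ((Ideal.height_mono hqp).trans (h1.trans (hdepth p.asIdeal).symm).le)
  · intro h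
    refine { isCohenMacaulayLocalRing_localization := fun p _ => ⟨?_⟩ }
    rw [hdim p, WithBot.coe_inj]
    refine le_antisymm ?_ ?_
    · rw [← hdepth p]
      refine (h p (Ideal.IsPrime.ne_top inferInstance)).ge.trans ?_
      rw [Groth.Agent.LocH.idealDepth_eq_iInf]
      exact iInf₂_le (⟨p, inferInstance⟩ : PrimeSpectrum R) le_rfl
    · obtain ⟨n, hn⟩ := ENat.ne_top_iff_exists.1 (p.height_ne_top (Ideal.IsPrime.ne_top inferInstance))
      rw [← hn]
      refine ENat.forall_natCast_le_iff_le.1 fun k hk => ?_
      rw [Nat.cast_le]
      by_contra hlt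
      unfold LocCoh.depth at hk
      rw [Groth.Agent.LocH.le_idealDepth_iff] at hk
      exact not_subsingleton_iff_nontrivial.2
        (Groth.Agent.LocH.nontrivial_at_supportDim (R := Localization.AtPrime p) (Localization.AtPrime p) n
          (by rw [hdim p, ← hn]; rfl)) (hk n (by omega))

end Groth.Agent.S14424
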