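import Groth.Statements.S9287
import Groth.Agent.SyntLib.Koszul
import Groth.Agent.SyntLib.Regular

set_option autoImplicit false
universe u
attribute [local instance] HasDerivedCategory.standard
open CategoryTheory
open Synt

namespace Groth.Agent.S9287

/-- A ring map R → S is syntomic if and only if it is flat and a local complete intersection
homomorphism. -/
theorem result (R S : Type u) [CommRing R] [CommRing S] [Algebra R S] :
    Synt.IsSyntomic R S ↔ Module.Flat R S ∧ LCI.IsLCI R S := by
  constructor
  · intro h
    haveI := h.2.1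
    refine ⟨h.1, inferInstance, ?_⟩
    obtain ⟨n, φ, hφ, -⟩ := (Algebra.FinitePresentation.out (R := R) (A := S))
    refine ⟨n, φ, hφ, fun 𝔭 h𝔭 => ?_⟩
    haveI : (𝔭.asIdeal.map φ.toRingHom).IsPrime := Ideal.map_isPrime_of_surjective hφ h𝔭
    obtain ⟨c, F, a, hcn, haq, hI, hreg, -, -, -⟩ := SyntLib.exists_regular_away φ hφ h (𝔭.asIdeal.map φ.toRingHom)
    refine ⟨a, fun ha => haq (Ideal.mem_map_of_mem φ.toRingHom ha), List.ofFn _,
      KoszulLib.isKoszulRegularSeq_of_acyclic (KoszulLib.acyclic_of_isWeaklyRegular' hreg), ?_⟩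
    rw [hI]
    congr 1
    ext y
    simp [List.mem_ofFn]
  · rintro ⟨hflat, -, n, φ, hφ, hk⟩
    haveI := hflat
    let P := MvPolynomial (Fin n) R
    have hloc : ∀ q : PrimeSpectrum S, ∃ g : S, g ∉ q.asIdeal ∧ Synt.IsSyntomic R (Localization.Away g) := by
      intro q
      have hle : RingHom.ker φ.toRingHom ≤ q.asIdeal.comap φ.toRingHom := fun x hx => by
        rw [Ideal.mem_comap, RingHom.mem_ker.mp hx]; exact zero_mem _
      obtain ⟨g, hg, l, hl, hlI⟩ := hk ⟨q.asIdeal.comap φ.toRingHom, inferInstance⟩ hle
      refine ⟨φ g, fun hm => hg hm, ?_⟩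
      have hM : Submonoid.map φ.toRingHom (Submonoid.powers g) = Submonoid.powers (φ g) := Submonoid.map_powers _ g
      let ψ₀ : Localization.Away g →+* Localization.Away (φ g) :=
        IsLocalization.map (M := Submonoid.powers g) (S := Localization.Away g)
          (T := Submonoid.powers (φ g)) _ φ.toRingHom (hM ▸ Submonoid.le_comap_map _)
      let ψ : Localization.Away g →ₐ[R] Localization.Away (φ g) :=
        { ψ₀ with
          commutes' := fun r => by
            show ψ₀ (algebraMap R _ r) = _
            rw [IsScalarTower.algebraMap_apply R P (Localization.Away g), IsLocalization.map_eq,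
              IsScalarTower.algebraMap_apply R S (Localization.Away (φ g))]
            exact congrArg _ (φ.commutes r) }
      have hψ : Function.Surjective ψ := fun y => by
        obtain ⟨b, ⟨_, k, rfl⟩, rfl⟩ := IsLocalization.exists_mk'_eq (Submonoid.powers (φ g)) y
        obtain ⟨a, rfl⟩ := hφ b
        refine ⟨IsLocalization.mk' (Localization.Away g) a (⟨g ^ k, k, rfl⟩ : Submonoid.powers g), ?_⟩
        refine (IsLocalization.map_mk' (hM ▸ Submonoid.le_comap_map _) a _).trans ?_
        congr 1
        exact Subtype.ext (map_pow φ g k)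
      haveI : Algebra.Smooth R P := ⟨inferInstance, inferInstance⟩
      haveI : Algebra.Smooth P (Localization.Away g) := Algebra.Smooth.of_isLocalization_Away g
      haveI : Algebra.Smooth R (Localization.Away g) := Algebra.Smooth.comp R P _
      haveI : Module.Flat S (Localization.Away (φ g)) := IsLocalization.flat _ (Submonoid.powers (φ g))
      haveI : Module.Flat R (Localization.Away (φ g)) := Module.Flat.trans R S _
      refine SyntLib.isSyntomic_of_h1 ψ hψ l.get ?_ (SyntLib.h1_of_koszul hl)
      show RingHom.ker ψ₀ = _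
      rw [show ψ₀ = IsLocalization.map _ φ.toRingHom _ from rfl,
        IsLocalization.ker_map (S := Localization.Away g) (Localization.Away (φ g)) φ.toRingHom hM, hlI]
      congr 1
      ext y
      simp [List.mem_iff_getElem, Fin.exists_iff]
    choose g hg hsyn using hloc
    refine SyntLib.isSyntomic_of_cover (Set.range g) ?_ (by rintro _ ⟨q, rfl⟩; exact hsyn q)
    by_contra h
    obtain ⟨m, hm, hle⟩ := Ideal.exists_le_maximal _ h
    exact hg ⟨m, hm.isPrime⟩ (hle (Ideal.subset_span ⟨⟨m, hm.isPrime⟩, rfl⟩))

end Groth.Agent.S9287
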