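import Groth.Statements.S6942
import Groth.Agent.DRingKP.Coherent

set_option autoImplicit false
universe u
open CategoryTheory CategoryTheory.Limits
attribute [local instance] HasDerivedCategory.standard
open DRing

namespace Groth.Agent.S6942

/-- Let R be a Noetherian commutative ring and m an integer. An object K of D(R) is m-pseudo-coherent
exactly when H^i(K) = 0 for all large i and H^i(K) is a finitely generated R-module for each i ≥ m.
Every finitely generated R-module M is pseudo-coherent, and conversely. -/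
theorem result (R : Type u) [CommRing R]
    [IsNoetherianRing R] (m : ℤ) (K : Dual.D R) (M : Type u) [AddCommGroup M] [Module R M] :
    (DRing.IsPseudoCoherent R m K ↔
      (∃ b : ℤ, ∀ i : ℤ, b < i → Subsingleton (Dual.HD R K i)) ∧ ∀ i : ℤ, m ≤ i → Module.Finite R (Dual.HD R K i)) ∧
      (DRing.IsPseudoCoherentModule' R M ↔ Module.Finite R M) := by
  have hA : Groth.Agent.DRingKP.IsCoh R := Groth.Agent.DRingKP.isCoh_of_noetherian
  have key : ∀ {L : Dual.D R}, (∃ b : ℤ, ∀ i : ℤ, b < i → Subsingleton (Dual.HD R L i)) →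
      ∃ n, Groth.Agent.DRingKP.IsAbove n L := fun {L} ⟨b, hb⟩ => ⟨b + 1, fun i hi =>
    haveI := hb i (by lia)
    ModuleCat.isZero_of_subsingleton _⟩
  refine ⟨⟨fun h => ?_, fun h => ?_⟩, ⟨fun h => ?_, fun h => ?_⟩⟩
  · obtain ⟨n, hn⟩ := Groth.Agent.DRingKP.pc_bounded h
    refine ⟨⟨n, fun i hi => ModuleCat.subsingleton_of_isZero (hn i hi.le)⟩, fun i hi => ?_⟩
    exact (Groth.Agent.DRingKP.pc_finite_fp hA (Groth.Agent.DRingKP.pc_mono hi h)).1
  · refine (Groth.Agent.DRingKP.pc_iff_coherent hA (key h.1)).2 ⟨h.2 m le_rfl, fun i hi => ?_⟩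
    haveI := h.2 i hi.le
    exact Module.finitePresentation_of_finite R _
  · exact (Groth.Agent.DRingKP.pcModule_zero_iff (ModuleCat.of R M)).1
      (Groth.Agent.DRingKP.pc_of_pc' h 0)
  · exact Groth.Agent.DRingKP.pc'_of_forall fun n => Groth.Agent.DRingKP.pcModule_of_fp hA (ModuleCat.of R M)
      (haveI := h; Module.finitePresentation_of_finite R M) n

end Groth.Agent.S6942
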