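import Groth.Statements.S4847
import Groth.Agent.LocalCrit.Fibre
import Groth.Agent.RegDual.Scheme
import Groth.Agent.PushoutRing.Basic

set_option autoImplicit false
universe u
open EGA43

namespace Groth.Agent.S4847

open TensorProduct IsLocalRing in
theorem main (A B C M : Type u) [CommRing A] [CommRing B] [CommRing C] [IsLocalRing A] [IsLocalRing B]
    [IsLocalRing C] [IsNoetherianRing B] [IsNoetherianRing C] [Algebra A B] [Algebra B C]
    [IsLocalHom (algebraMap A B)] [IsLocalHom (algebraMap B C)] [AddCommGroup M] [Module A M] [Module B M]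
    [Module C M] [IsScalarTower A B M] [IsScalarTower B C M] [Module.Finite C M] [Nontrivial M] :
    (Module.Flat A M ∧ Module.Flat (B ⧸ Ideal.map (algebraMap A B) (maximalIdeal A))
      (M ⧸ (Ideal.map (algebraMap A B) (maximalIdeal A) • (⊤ : Submodule B M)))) ↔
    ((algebraMap A B).Flat ∧ Module.Flat B M) := by
  let I := Ideal.map (algebraMap A B) (maximalIdeal A)
  let e : ((B ⧸ I) ⊗[B] M) ≃ₗ[B ⧸ I] (M ⧸ I • (⊤ : Submodule B M)) :=
    LinearEquiv.extendScalarsOfSurjective Ideal.Quotient.mk_surjective (TensorProduct.quotTensorEquivQuotSMul M I)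
  constructor
  · rintro ⟨hA, hI⟩
    haveI : Module.Flat B M := LocalCrit.flat_of_quotient_flat C I
      (fun e => (maximalIdeal.isMaximal B).ne_top
        (top_le_iff.1 (e ▸ LocalCrit.map_maximalIdeal_le)))
      (LocalCrit.mulMap_map_injective (LocalCrit.mulMap_injective _))
      (Module.Flat.of_linearEquiv e)
    haveI : Module.FaithfullyFlat B M := by
      refine ⟨fun {m} hm htop => ?_⟩
      obtain rfl := IsLocalRing.eq_maximalIdeal hm
      have hle : (⊤ : Submodule C M) ≤ maximalIdeal C • (⊤ : Submodule C M) := by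
        intro v _
        have hv : v ∈ maximalIdeal B • (⊤ : Submodule B M) := by rw [htop]; exact Submodule.mem_top
        refine Submodule.smul_induction_on hv (fun b hb w _ => ?_) fun _ _ => add_mem
        rw [← algebraMap_smul C b w]
        exact Submodule.smul_mem_smul (map_nonunit (algebraMap B C) b hb) Submodule.mem_top
      exact top_ne_bot (Submodule.eq_bot_of_le_smul_of_le_jacobson_bot (maximalIdeal C) _ Module.Finite.fg_top hle
        (maximalIdeal_le_jacobson _))
    exact ⟨RingHom.flat_algebraMap_iff.2 (LocalCrit.flat_of_faithfullyFlat (M := M)), inferInstance⟩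
  · rintro ⟨hB, hM⟩
    haveI := RingHom.flat_algebraMap_iff.1 hB
    exact ⟨Module.Flat.trans A B M, Module.Flat.of_linearEquiv e.symm⟩

open AlgebraicGeometry CategoryTheory Limits in
/-- Case 1° (fibrewise flatness criterion for locally Noetherian schemes): let S, X and Y be locally
Noetherian schemes, f : X ⟶ Y and h : Y ⟶ S arbitrary morphisms, F a coherent O_X-module and x a
point of X with images y in Y and s in S, such that the stalk F_x is nonzero. Then F is flat over S
at x and F_x / m_s F_x is flat over O_{Y,y} / m_s O_{Y,y} (that is, the fibre module F_s is flat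
over the fibre Y_s at x) if and only if h is flat at y and F is flat over Y at x. No finiteness
hypothesis on f or h is required in this case. -/
theorem result {X Y S : Scheme.{u}}
    [IsLocallyNoetherian X] [IsLocallyNoetherian Y] [IsLocallyNoetherian S]
    (f : X ⟶ Y) (h : Y ⟶ S) (F : X.Modules) (hF : Coh.IsCoh F) (x : X)
    (hx : Nontrivial ↑(F.presheaf.stalk x)) :
    letI := FlatMod.moduleStalkOver f F x
    (FlatMod.IsFlatOverAt (f ≫ h) F x ∧
      Module.Flat (↑(Y.presheaf.stalk (f x)) ⧸ Ideal.map (h.stalkMap (f x)).hom (IsLocalRing.maximalIdeal ↑(S.presheaf.stalk (h (f x)))))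
        (↑(F.presheaf.stalk x) ⧸ (Ideal.map (h.stalkMap (f x)).hom (IsLocalRing.maximalIdeal ↑(S.presheaf.stalk (h (f x)))) •
          (⊤ : Submodule ↑(Y.presheaf.stalk (f x)) ↑(F.presheaf.stalk x))))) ↔
    ((h.stalkMap (f x)).hom.Flat ∧ FlatMod.IsFlatOverAt f F x) := by
  letI := FlatMod.moduleStalkOver f F x
  haveI := Groth.Agent.RegDual.finite_stalk hF x
  letI : Algebra (S.presheaf.stalk (h (f x))) (Y.presheaf.stalk (f x)) := (h.stalkMap (f x)).hom.toAlgebra
  letI : Algebra (Y.presheaf.stalk (f x)) (X.presheaf.stalk x) := (f.stalkMap x).hom.toAlgebra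
  letI m1 : Module (S.presheaf.stalk (h (f x))) (F.presheaf.stalk x) :=
    Module.compHom (F.presheaf.stalk x) ((f.stalkMap x).hom.comp (h.stalkMap (f x)).hom)
  haveI : IsScalarTower (S.presheaf.stalk (h (f x))) (Y.presheaf.stalk (f x)) (F.presheaf.stalk x) :=
    IsScalarTower.of_algebraMap_smul fun a m => rfl
  haveI : IsScalarTower (Y.presheaf.stalk (f x)) (X.presheaf.stalk x) (F.presheaf.stalk x) :=
    IsScalarTower.of_algebraMap_smul fun a m => rfl
  haveI : IsLocalHom (algebraMap (S.presheaf.stalk (h (f x))) (Y.presheaf.stalk (f x))) :=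
    inferInstanceAs (IsLocalHom (h.stalkMap (f x)).hom)
  haveI : IsLocalHom (algebraMap (Y.presheaf.stalk (f x)) (X.presheaf.stalk x)) :=
    inferInstanceAs (IsLocalHom (f.stalkMap x).hom)
  have hcomp : FlatMod.IsFlatOverAt (f ≫ h) F x ↔ Module.Flat (S.presheaf.stalk (h (f x))) (F.presheaf.stalk x) := by
    have e : ((f ≫ h).stalkMap x).hom = (f.stalkMap x).hom.comp (h.stalkMap (f x)).hom := by
      rw [Scheme.Hom.stalkMap_comp]; rfl
    have key : ∀ φ ψ : S.presheaf.stalk (h (f x)) →+* X.presheaf.stalk x, φ = ψ →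
        (@Module.Flat (S.presheaf.stalk (h (f x))) (F.presheaf.stalk x) _ _ (Module.compHom _ φ) ↔
          @Module.Flat (S.presheaf.stalk (h (f x))) (F.presheaf.stalk x) _ _ (Module.compHom _ ψ)) := by
      rintro φ ψ rfl; rfl
    exact key ((f ≫ h).stalkMap x).hom _ e
  rw [hcomp]
  exact Groth.Agent.S4847.main (S.presheaf.stalk (h (f x))) (Y.presheaf.stalk (f x)) (X.presheaf.stalk x)
    (F.presheaf.stalk x)

end Groth.Agent.S4847
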