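import Groth.Statements.S5543
import Groth.Agent.RootBase.Main
-- import your own Groth.Agent.* helpers here

set_option autoImplicit false
open CategoryTheory MonoidalCategory CartesianMonoidalCategory MonObj GrpObj AlgebraicGeometry
universe u
open RedSub

set_option backward.isDefEq.respectTransparency false

namespace Groth.Agent.S5543

/-- The version relative to a given maximal torus. Let G be a reductive S-group and i : T ⟶ G a maximal
torus. Then locally for the etale topology on S, G is splittable relative to T: every point of S is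
in the image of an etale morphism f : U ⟶ S such that G_U has a splitting whose maximal torus is T_U
with inclusion i_U. -/
theorem result {S : Scheme.{u}} {G T : Over S} [GrpObj G] [GrpObj T]
    (hG : Red.IsReductive G) (i : T ⟶ G) (hT : Red.IsMaximalTorus i) (s : S) :
    ∃ (U : Scheme.{u}) (f : U ⟶ S) (_ : Etale f), s ∈ Set.range f.base ∧
      ∃ (D : Red.SplitRed (Red.bc f G)) (e : D.T ≅ Red.bc f T), D.i = e.hom ≫ (Over.pullback f).map i := by
  obtain ⟨S₁, e, r, he, ⟨s₁, hs₁⟩, ⟨E⟩⟩ := RootBase.exists_etale_split hT.2.2.1 s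
  haveI := he
  haveI := hG.1
  haveI := hG.2.1
  have hT₁ := Chev.MaxTorusBC.isMaximalTorus_bc i hT e
  obtain ⟨U, hsU, hU⟩ := RootBase.exists_split_nhd (DynPar.isReductive_bc e hG) (RootBase.isMaximalTorus_DS hT₁ E) s₁
  obtain ⟨D, hD, hi⟩ := RootBase.exists_splitRed_comp e U.ι hG hT E (hU U.ι (by rw [U.range_ι]))
  exact ⟨_, U.ι ≫ e, inferInstance, ⟨⟨s₁, hsU⟩, hs₁⟩, D, eqToIso hD, RootBase.eq_eqToHom_comp hD hi⟩

end Groth.Agent.S5543
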