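import Groth.Statements.S4100
import Groth.Agent.GrpAct.Separated
import Mathlib.AlgebraicGeometry.Fiber

set_option autoImplicit false
universe u
open CategoryTheory MonoidalCategory CartesianMonoidalCategory MonObj GrpObj AlgebraicGeometry CategoryTheory.Limits
open SGA3

namespace Groth.Agent.S4100

/-- Let G be an S-group scheme locally of finite presentation and universally open over S with connected
fibres, acting on an S-scheme X locally of finite presentation over S in such a way that the
morphism G ×_S X → X ×_S X, (g, x) ↦ (g·x, x), is surjective. Then X is separated over S. -/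
theorem result (S : Scheme.{u}) (G X : Over S) [GrpObj G]
    [LocallyOfFinitePresentation G.hom] [UniversallyOpen G.hom]
    (hconn : ∀ s : S, _root_.IsConnected (G.hom.base ⁻¹' {s}))
    [LocallyOfFinitePresentation X.hom] (a : AlgGrp.Action G X)
    (hΦ : Surjective (lift a.act (snd G X)).left) : IsSeparated X.hom := by
  classical
  -- the fibres of `G` are geometrically irreducible
  haveI hirr : GeometricallyIrreducible G.hom := by
    rw [GeometricallyIrreducible.iff_geometricallyIrreducible_fiber]
    intro s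
    letI : GrpObj (Over.mk G.hom) := inferInstanceAs (GrpObj G)
    let Gs : Over (Spec (CommRingCat.of (S.residueField s))) := Over.mk (G.hom.fiberToSpecResidueField s)
    letI : GrpObj Gs := Over.grpObjMkPullbackSnd (f := G.hom) (g := S.fromSpecResidueField s)
    haveI : LocallyOfFiniteType Gs.hom :=
      inferInstanceAs (LocallyOfFiniteType (pullback.snd G.hom (S.fromSpecResidueField s)))
    haveI : ConnectedSpace Gs.left := by
      haveI : ConnectedSpace ↥(G.hom ⁻¹' {s}) := isConnected_iff_connectedSpace.1 (hconn s)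
      exact (G.hom.fiberHomeo s).symm.surjective.connectedSpace (G.hom.fiberHomeo s).symm.continuous
    exact Groth.Agent.GrpField.geometricallyIrreducible_of_connected Gs
  haveI : UniversallyOpen ((⊤ : G.left.Opens).ι ≫ G.hom) := inferInstance
  refine Groth.Agent.GrpAct.isSeparated_of_translate a ⊤ fun z => ?_
  obtain ⟨U, hU, hxU, -⟩ := exists_isAffineOpen_mem_and_subset (X := X.left) (x := (fst X X).left z) (U := ⊤) trivial
  haveI : IsAffine U.toScheme := hU
  refine ⟨U, ?_, ?_⟩
  · haveI : IsSeparated ((U.ι ≫ X.hom) ≫ terminal.from S) := by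
      rw [terminal.comp_from]; exact (inferInstance : U.toScheme.IsSeparated).1
    exact IsSeparated.of_comp (U.ι ≫ X.hom) (terminal.from S)
  let K : Type u := (X ⊗ X).left.residueField z
  let T : Over S := Over.mk ((X ⊗ X).left.fromSpecResidueField z ≫ (X ⊗ X).hom)
  let w : T ⟶ X ⊗ X := Over.homMk ((X ⊗ X).left.fromSpecResidueField z)
  have hw : ∀ t, w.left t = z := fun t => Scheme.fromSpecResidueField_apply z t
  let t₀ : T.left := IsLocalRing.closedPoint ((X ⊗ X).left.residueField z)
  let x := w ≫ fst X X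
  let y := w ≫ snd X X
  haveI : IrreducibleSpace (G ⊗ T).left :=
    GeometricallyIrreducible.geometrically_irreducibleSpace (f := G.hom)
      ((X ⊗ X).left.fromSpecResidueField z ≫ (X ⊗ X).hom) _ _ (IsPullback.of_hasPullback G.hom T.hom)
  let ox : G ⊗ T ⟶ X := lift (fst G T) (snd G T ≫ x) ≫ a.act
  let oy : G ⊗ T ⟶ X := lift (fst G T) (snd G T ≫ y) ≫ a.act
  have h1 : ((ox.left ⁻¹' U) : Set (G ⊗ T).left).Nonempty := by
    refine ⟨(lift (toUnit T ≫ η[G]) (𝟙 T)).left t₀, ?_⟩
    rw [Set.mem_preimage, ← Scheme.Hom.comp_apply, ← Over.comp_left,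
      show lift (toUnit T ≫ η[G]) (𝟙 T) ≫ ox = x by simp [ox, Groth.Agent.GrpAct.comp_smul, Groth.Agent.GrpAct.one_smul],
      Over.comp_left, Scheme.Hom.comp_apply, hw]
    exact hxU
  have h2 : ((oy.left ⁻¹' U) : Set (G ⊗ T).left).Nonempty := by
    haveI := hΦ
    let Φ := lift a.act (snd G X)
    obtain ⟨c, hc⟩ := Φ.left.surjective z
    obtain ⟨q, -, -⟩ := Scheme.Pullback.exists_preimage_pullback (f := Φ.left) (g := w.left) c t₀ (hc.trans (hw _).symm)
    let T' : Over S := Over.mk (pullback.snd Φ.left w.left ≫ T.hom)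
    let v : T' ⟶ T := Over.homMk (pullback.snd Φ.left w.left)
    let u : T' ⟶ G ⊗ X := Over.homMk (pullback.fst Φ.left w.left) (by
      change _ ≫ (G ⊗ X).hom = _ ≫ T.hom
      rw [← Over.w Φ, ← Over.w w, pullback.condition_assoc])
    have hu : u ≫ Φ = v ≫ w := by apply Over.OverMorphism.ext; exact (pullback.condition : pullback.fst Φ.left w.left ≫ Φ.left = pullback.snd Φ.left w.left ≫ w.left)
    refine ⟨(lift (u ≫ fst G X) v).left q, ?_⟩
    have e : lift (u ≫ fst G X) v ≫ oy = v ≫ x := by
      have e1 : u ≫ snd G X = v ≫ y := by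
        have := congrArg (fun k => k ≫ snd X X) hu
        simpa [Φ, y] using this
      have e2 : u ≫ a.act = v ≫ x := by
        have := congrArg (fun k => k ≫ fst X X) hu
        simpa [Φ, x] using this
      rw [← e2]
      simp only [oy, Groth.Agent.GrpAct.comp_smul, lift_fst, lift_snd_assoc, ← e1]
      rw [← comp_lift_assoc, lift_fst_snd, Category.id_comp]
    rw [Set.mem_preimage, ← Scheme.Hom.comp_apply, ← Over.comp_left, e, Over.comp_left,
      Over.comp_left, Scheme.Hom.comp_apply, Scheme.Hom.comp_apply, hw]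
    exact hxU
  obtain ⟨g, hg1, hg2⟩ := nonempty_preirreducible_inter (U.2.preimage ox.left.continuous)
    (U.2.preimage oy.left.continuous) h1 h2
  let o : G ⊗ T ⟶ G ⊗ (X ⊗ X) := G ◁ w
  refine ⟨o.left g, ?_, trivial, ?_, ?_⟩
  · rw [← Scheme.Hom.comp_apply, ← Over.comp_left, show o ≫ snd G (X ⊗ X) = snd G T ≫ w by simp [o],
      Over.comp_left, Scheme.Hom.comp_apply, hw]
  · rw [← Scheme.Hom.comp_apply, ← Over.comp_left,
      show o ≫ lift (fst G (X ⊗ X)) (snd G (X ⊗ X) ≫ fst X X) ≫ a.act = ox by
        simp [o, ox, x, Groth.Agent.GrpAct.comp_smul]]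
    exact hg1
  · rw [← Scheme.Hom.comp_apply, ← Over.comp_left,
      show o ≫ lift (fst G (X ⊗ X)) (snd G (X ⊗ X) ≫ snd X X) ≫ a.act = oy by
        simp [o, oy, y, Groth.Agent.GrpAct.comp_smul]]
    exact hg2

end Groth.Agent.S4100
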