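import Groth.Statements.S3025
import Groth.Agent.GrpField.Fibres
import Groth.Agent.S4100

set_option autoImplicit false
universe u
open CategoryTheory MonoidalCategory CartesianMonoidalCategory MonObj GrpObj AlgebraicGeometry TensorProduct
open SGA3

namespace Groth.Agent.S3025

/-- Let S be a scheme and G a group scheme over S which is locally of finite presentation and
universally open over S and whose fibres are connected. Then G is separated and quasi-compact (hence
of finite presentation) over S. -/
theorem result (S : Scheme.{u}) (G : Over S) [GrpObj G]
    [LocallyOfFinitePresentation G.hom] [UniversallyOpen G.hom]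
    (hconn : ∀ s : S, _root_.IsConnected (G.hom.base ⁻¹' {s})) :
    IsSeparated G.hom ∧ QuasiCompact G.hom := by
  haveI : GeometricallyIrreducible G.hom :=
    Groth.Agent.GrpField.geometricallyIrreducible_of_connected_fibres G hconn
  refine ⟨?_, Groth.Agent.GrpField.quasiCompact_of_irreducible G⟩
  let a : AlgGrp.Action G G :=
    { act := μ[G]
      one_act := MonObj.one_mul G
      mul_act := MonObj.mul_assoc G }
  refine Groth.Agent.S4100.result S G G hconn a ?_
  haveI : IsSplitEpi (lift a.act (snd G G)) :=
    ⟨⟨⟨lift (fst G G * (snd G G)⁻¹) (snd G G), by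
      apply CartesianMonoidalCategory.hom_ext
      · rw [Category.assoc, lift_fst, Category.id_comp]
        change CartesianMonoidalCategory.lift _ _ ≫ MonObj.mul (X := G) = _
        rw [← Hom.mul_def, inv_mul_cancel_right]
      · simp⟩⟩⟩
  refine ⟨fun z => ⟨(section_ (lift a.act (snd G G))).left z, ?_⟩⟩
  rw [← Scheme.Hom.comp_apply, ← Over.comp_left, IsSplitEpi.id]
  rfl

end Groth.Agent.S3025
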