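import Groth.Statements.S2962
import Groth.Agent.RootIntrinsic.CentreRoots
import Groth.Agent.RedCartan.Global
import Groth.Prelude.Def_GmPts
-- import your own Groth.Agent.* helpers here

set_option autoImplicit false
open CategoryTheory MonoidalCategory CartesianMonoidalCategory MonObj GrpObj AlgebraicGeometry
universe u
open RedX

set_option backward.isDefEq.respectTransparency false

namespace Groth.Agent.S2962

/-- Let G be a split reductive group scheme over S with splitting D (maximal torus T = D(M), roots in
M). A point g of G with values in X is central (commutes with every point of G after every base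
change X' -> X) if and only if it factors through T and every root, viewed as a character T -> G_m,
is trivial on it; i.e. the centre of G is the intersection of the kernels of the roots. -/
theorem result {S : Scheme.{u}} {G : Over S} [GrpObj G] (D : Red.SplitRed G)
    (X : Over S) (g : X ⟶ G) :
    (∀ (X' : Over S) (x : X' ⟶ X) (h : X' ⟶ G), (x ≫ g) * h = h * (x ≫ g)) ↔
      ∃ t : X ⟶ D.T, t ≫ D.i = g ∧ ∀ a : D.idx, t ≫ D.split.hom.hom.hom ≫ Red.chi S (D.P.root a) = 1 := by
  haveI := D.maximalTorus.1
  haveI := D.maximalTorus.2.1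
  constructor
  · intro h
    obtain ⟨t, ht⟩ := ((Groth.Agent.RedCartan.centralizer_self_of_isReductive D.reductive D.i D.maximalTorus).2.2 X g).2
      fun X' x s => h X' x (s ≫ D.i)
    refine ⟨t, ht, fun a => ?_⟩
    haveI := (D.rootHom a).1
    haveI := (D.rootHom a).2.1
    haveI : Mono (D.u a) := (Over.forget _).mono_of_mono_map (show Mono (D.u a).left from inferInstance)
    obtain ⟨y, hy, hy'⟩ := (D.rootHom a).2.2 X t (Groth.Agent.BGaNotS.gaPt (1 : Γ(X.left, ⊤)))
    have h1 := h X (𝟙 X) ((Groth.Agent.BGaNotS.gaPt (1 : Γ(X.left, ⊤)) : X ⟶ Red.Ga S) ≫ D.u a)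
    rw [Category.id_comp, ← ht] at h1
    rw [h1, mul_inv_cancel_right] at hy
    rw [(cancel_mono (D.u a)).1 hy, Groth.Agent.BGaNotS.gaFn_gaPt, _root_.mul_one] at hy'
    exact GmPts.gmFn_injective (hy'.symm.trans Groth.Agent.RootIntrinsic.gmFn_one_eq.symm)
  · rintro ⟨t, rfl, hroots⟩ X' x h
    obtain ⟨c, hc⟩ := Groth.Agent.RootIntrinsic.exists_factor_kerRoots D t hroots
    rw [← hc, ← Category.assoc]
    exact Groth.Agent.RootIntrinsic.kerRoots_central D (x ≫ c) h

end Groth.Agent.S2962
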