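import Groth.Statements.S15180
import Groth.Agent.LineIsog.Ga
import Groth.Agent.LineIsog.Gm

set_option autoImplicit false
set_option backward.isDefEq.respectTransparency false
set_option linter.style.haveILetI false
universe u
open CategoryTheory MonoidalCategory CartesianMonoidalCategory MonObj GrpObj AlgebraicGeometry
open BddFin

namespace Groth.Agent.S15180

open Groth.Agent CategoryTheory AlgebraicGeometry MonObj

theorem transport {S : Scheme.{u}} (G₀ G H : Over S) [GrpObj G₀] [GrpObj G] [GrpObj H]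
    (e : G ≅ G₀) [IsMonHom e.hom] (i : H ⟶ G) [IsMonHom i] [Mono i]
    (h : ∀ (j : H ⟶ G₀) [IsMonHom j] [Mono j],
      ∃ φ : G₀ ⟶ G₀, IsMonHom φ ∧ AlgGrp.IsKernel j φ ∧ Flat φ.left ∧ Surjective φ.left) :
    ∃ φ : G ⟶ G, IsMonHom φ ∧ AlgGrp.IsKernel i φ ∧ Flat φ.left ∧ Surjective φ.left := by
  obtain ⟨φ, hφ, hk, hf, hs⟩ := h (i ≫ e.hom)
  refine ⟨e.hom ≫ φ ≫ e.inv, inferInstance, ?_, ?_, ?_⟩
  · refine hk.of_iso (Iso.refl _) e.symm (Iso.refl _) e.symm ?_ ?_ ?_ ?_
    · simp
    · simp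
    · simp
    · simp
  · show Flat (e.hom.left ≫ φ.left ≫ e.inv.left)
    infer_instance
  · show Surjective (e.hom.left ≫ φ.left ≫ e.inv.left)
    infer_instance
/-- Let K be an arbitrary field, G a K-group scheme isomorphic (as a group scheme) to 𝔾_a (additive) or
to 𝔾_m (multiplicative), and H a finite subgroup scheme of G (a monomorphic homomorphism H → G with
H finite over K). Then the quotient G/H is isomorphic to G; equivalently, there is a homomorphism of
K-group schemes G → G which is flat and surjective and whose kernel is H. -/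
theorem result
    (K : Type u) [Field K] (G H : Over (Spec (CommRingCat.of K))) [GrpObj G] [GrpObj H]
    (hG : Nonempty (Grp.mk G ≅ Grp.mk (Red.Ga (Spec (CommRingCat.of K)))) ∨
      Nonempty (Grp.mk G ≅ Grp.mk (Red.Gm (Spec (CommRingCat.of K)))))
    (i : H ⟶ G) [IsMonHom i] [Mono i] [IsFinite H.hom] :
    ∃ φ : G ⟶ G, IsMonHom φ ∧ AlgGrp.IsKernel i φ ∧ Flat φ.left ∧ Surjective φ.left := by
  rcases hG with ⟨⟨e⟩⟩ | ⟨⟨e⟩⟩
  · letI : GrpObj (LineGrp.rep K LineGrp.Sym.{u}) := inferInstanceAs (GrpObj (Red.Ga (Spec (CommRingCat.of K))))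
    exact transport (LineGrp.rep K LineGrp.Sym.{u}) G H ⟨e.hom.hom.hom, e.inv.hom.hom,
      congrArg (fun f => f.hom.hom) e.hom_inv_id, congrArg (fun f => f.hom.hom) e.inv_hom_id⟩ i
      (fun j _ _ => LineIsog.exists_isog_Ga j)
  · letI : GrpObj (LineGrp.rep K LineGrp.Lau.{u}) := inferInstanceAs (GrpObj (Red.Gm (Spec (CommRingCat.of K))))
    exact transport (LineGrp.rep K LineGrp.Lau.{u}) G H ⟨e.hom.hom.hom, e.inv.hom.hom,
      congrArg (fun f => f.hom.hom) e.hom_inv_id, congrArg (fun f => f.hom.hom) e.inv_hom_id⟩ i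
      (fun j _ _ => LineIsog.exists_isog_Gm j)

end Groth.Agent.S15180
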