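import Groth.Statements.S15607
import Groth.Agent.Chev.BackIsogeny
import Groth.Agent.Chev.SemiAbelian
import Groth.Agent.Chev.TorusImage
import Groth.Agent.Chev.TorsorNorm
import Groth.Agent.Chev.CharQuot
import Groth.Agent.S15180
import Groth.Agent.S4628
import Groth.Agent.Rigid.Smooth
import Groth.Agent.Rigid.FibreTranslate
import Mathlib.RingTheory.HopkinsLevitzki

set_option autoImplicit false
universe u
open CategoryTheory MonoidalCategory CartesianMonoidalCategory MonObj GrpObj AlgebraicGeometry
open AlgGrp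

namespace Groth.Agent.S15607

open CategoryTheory.Limits
open scoped CategoryTheory.Obj

set_option backward.isDefEq.respectTransparency false

theorem isTorus_Gm {k : Type u} [Field k] : Red.IsTorus (Red.Gm (Spec (CommRingCat.of k))) := by
  let f : Red.DS (Spec (CommRingCat.of k)) (Fin 1 → ℤ) ⟶ Red.Gm (Spec (CommRingCat.of k)) :=
    Red.DSmap _ (AddMonoidHom.mk' (fun a _ => a) (fun _ _ => rfl))
  let f' : Red.Gm (Spec (CommRingCat.of k)) ⟶ Red.DS (Spec (CommRingCat.of k)) (Fin 1 → ℤ) :=
    Red.DSmap _ (Pi.evalAddMonoidHom (fun _ => ℤ) 0)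
  haveI : IsMonHom f' := Chev.isMonHom_of_map_mul f' fun {_} a b => HomDiag.ch_ext fun m => by
    rw [HomDiag.ch_DSmap, HomDiag.ch_mul, HomDiag.ch_mul, HomDiag.ch_DSmap, HomDiag.ch_DSmap]
  let ei : Red.Gm (Spec (CommRingCat.of k)) ≅ Red.DS (Spec (CommRingCat.of k)) (Fin 1 → ℤ) :=
    { hom := f'
      inv := f
      hom_inv_id := by
        apply HomDiag.ch_ext; intro m
        rw [← Category.id_comp (f' ≫ f), ← Category.assoc, HomDiag.ch_DSmap, HomDiag.ch_DSmap]
        rfl
      inv_hom_id := by
        apply HomDiag.ch_ext; intro m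
        rw [← Category.id_comp (f ≫ f'), ← Category.assoc, HomDiag.ch_DSmap, HomDiag.ch_DSmap]
        refine congrArg (fun a => HomDiag.ch (𝟙 _) (Multiplicative.ofAdd a)) (funext fun i => ?_)
        exact congrArg m.toAdd (Subsingleton.elim 0 i) }
  haveI : IsMonHom ei.hom := ‹IsMonHom f'›
  exact Chev.isTorus_of_isSplit (𝟙 _) (r := 1) ⟨Chev.bcIdIso _ ≪≫ Grp.mkIso' ei⟩

theorem exists_coord (k : Type u) [Field k] :
    Nonempty (Spec (CommRingCat.of (LaurentPolynomial k)) ≅ (Red.Gm (Spec (CommRingCat.of k))).left) ∧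
      ∃ q : Spec (CommRingCat.of (LaurentPolynomial k)) ≅ (Red.Gm (Spec (CommRingCat.of k))).left,
        q.hom ≫ (Red.Gm (Spec (CommRingCat.of k))).hom =
          Spec.map (CommRingCat.ofHom (algebraMap k (LaurentPolynomial k))) := by
  letI : GrpObj (LineGrp.rep k LineGrp.Lau.{u}) := inferInstanceAs (GrpObj (Red.Gm (Spec (CommRingCat.of k))))
  obtain ⟨q, -⟩ := LineIsog.exists_coordM (k := k)
  exact ⟨⟨(Over.forget _).mapIso q⟩, (Over.forget _).mapIso q, Over.w q.hom⟩

theorem not_subsingleton_Gm (k : Type u) [Field k] :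
    ¬ Subsingleton (Red.Gm (Spec (CommRingCat.of k))).left := by
  intro hs
  obtain ⟨⟨q⟩, -⟩ := exists_coord k
  haveI : Subsingleton (PrimeSpectrum (LaurentPolynomial k)) :=
    q.hom.homeomorph.injective.subsingleton
  let ε : LaurentPolynomial k →ₐ[k] k := LineIsog.lauLift 1
  have hker : (⟨RingHom.ker ε, RingHom.ker_isPrime _⟩ : PrimeSpectrum (LaurentPolynomial k)) =
      ⟨⊥, Ideal.isPrime_bot⟩ := Subsingleton.elim _ _
  have h1 : (LaurentPolynomial.T 1 - 1 : LaurentPolynomial k) ∈ RingHom.ker ε := by
    rw [RingHom.mem_ker, map_sub, map_one, ← LineGrp.Tu_zpow (R := k) 1, zpow_one]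
    rw [show ε (LineGrp.Tu (R := k) : LaurentPolynomial k) = 1 from congrArg Units.val (LineIsog.lauLift_Tu (k := k) (1 : kˣ))]
    exact sub_self _
  have hker' : RingHom.ker ε = ⊥ := congrArg PrimeSpectrum.asIdeal hker
  rw [hker', Ideal.mem_bot, sub_eq_zero, ← LaurentPolynomial.T_zero] at h1
  have := (LineGrp.C_mul_T_inj (R := k) (c := 1) (n := 0) (by simpa using h1.symm))
  simp at this

/-- A closed subscheme of the multiplicative group is finite or everything. -/
theorem isFinite_or_isIso_of_closed {k : Type u} [Field k] {N : Over (Spec (CommRingCat.of k))}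
    (n : N ⟶ Red.Gm (Spec (CommRingCat.of k))) [IsClosedImmersion n.left] : IsFinite N.hom ∨ IsIso n := by
  obtain ⟨-, q, hq⟩ := exists_coord k
  obtain ⟨I, e, he⟩ := IsClosedImmersion.Spec_iff.1 (inferInstance : IsClosedImmersion (n.left ≫ q.inv))
  by_cases hI : I = ⊥
  · right
    subst hI
    haveI : IsIso (CommRingCat.ofHom (Ideal.Quotient.mk (⊥ : Ideal (LaurentPolynomial k)))) :=
      (RingEquiv.quotientBot (LaurentPolynomial k)).symm.toCommRingCatIso.isIso_hom
    haveI : IsIso (n.left ≫ q.inv) := by rw [he]; infer_instance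
    haveI : IsIso n.left := IsIso.of_isIso_comp_right n.left q.inv
    haveI : IsIso ((Over.forget _).map n) := ‹IsIso n.left›
    exact isIso_of_reflects_iso n (Over.forget _)
  · left
    let B := LaurentPolynomial k ⧸ I
    haveI : Algebra.FiniteType k (LaurentPolynomial k) := by
      unfold LaurentPolynomial; infer_instance
    haveI : Algebra.FiniteType k B :=
      Algebra.FiniteType.of_surjective (Ideal.Quotient.mkₐ k I) Ideal.Quotient.mk_surjective
    haveI : IsDedekindDomain (LaurentPolynomial k) := IsLocalization.isDedekindDomain (Polynomial k)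
      (M := Submonoid.powers (Polynomial.X : Polynomial k)) (powers_le_nonZeroDivisors_of_noZeroDivisors Polynomial.X_ne_zero) _
    haveI : Ring.KrullDimLE 0 B := Ring.krullDimLE_zero_iff.2 fun P hP => by
      have hp : P.comap (Ideal.Quotient.mk I) ≠ ⊥ := fun h => hI (le_bot_iff.1 (h ▸ fun x hx => by
        rw [Ideal.mem_comap, Ideal.Quotient.eq_zero_iff_mem.2 hx]; exact zero_mem _))
      haveI := (Ideal.IsPrime.isMaximal (inferInstance : (P.comap (Ideal.Quotient.mk I)).IsPrime) hp)
      rw [← Ideal.map_comap_of_surjective _ Ideal.Quotient.mk_surjective P]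
      exact (Ideal.map_eq_top_or_isMaximal_of_surjective _ Ideal.Quotient.mk_surjective ‹_›).resolve_left
        (by rw [Ideal.map_comap_of_surjective _ Ideal.Quotient.mk_surjective P]; exact hP.ne_top)
    haveI : IsNoetherianRing B := Algebra.FiniteType.isNoetherianRing k B
    haveI : IsArtinianRing B := isArtinianRing_iff_krullDimLE_zero.2 inferInstance
    haveI : Module.Finite k B := (Module.finite_iff_isArtinianRing k B).2 inferInstance
    haveI : IsFinite (Spec.map (CommRingCat.ofHom (algebraMap k B))) :=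
      (IsFinite.SpecMap_iff _).2 (RingHom.finite_algebraMap.2 inferInstance)
    have hw : N.hom = e.hom ≫ Spec.map (CommRingCat.ofHom (algebraMap k B)) := by
      rw [show CommRingCat.ofHom (algebraMap k B) = CommRingCat.ofHom (algebraMap k (LaurentPolynomial k)) ≫
        CommRingCat.ofHom (Ideal.Quotient.mk I) from rfl, Spec.map_comp, ← hq, ← Category.assoc e.hom, ← he,
        Category.assoc, Iso.inv_hom_id_assoc, Over.w]
    rw [hw]
    infer_instance

theorem isCommMonObj_of_finite_kernel {k : Type u} [Field k] {H G : Over (Spec (CommRingCat.of k))} [GrpObj H]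
    [Smooth H.hom] [QuasiCompact H.hom] [ConnectedSpace H.left] [GrpObj G] [IsCommMonObj G] (f : H ⟶ G) [IsMonHom f]
    {N : Over (Spec (CommRingCat.of k))} [IsFinite N.hom] (n : N ⟶ H) (hnk : AlgGrp.IsKernel n f) :
    IsCommMonObj H := by
  let c : H ⊗ H ⟶ H := (fst H H * snd H H) * (snd H H * fst H H)⁻¹
  have hc : c ≫ f = toUnit _ ≫ η[G] := by
    rw [← Hom.one_def]
    simp only [c, MonObj.mul_comp, GrpObj.inv_comp]
    rw [_root_.mul_comm (fst H H ≫ f), mul_inv_cancel]
  let s : H ⊗ H ⟶ N := hnk.lift c (toUnit _) hc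
  have hs : s ≫ n = c := hnk.lift_fst _ _ _
  haveI := Groth.Agent.Rigid.geometricallyReduced_of_smooth H.hom
  haveI : IsReduced H.left := Chev.isReduced_of_smooth' H
  haveI : IsReduced (H ⊗ H).left := Groth.Agent.S4628.result H.hom H.hom
  haveI := Groth.Agent.Rigid.geometricallyConnected_of_section H.hom η[H].left (Over.w η[H])
  haveI : ConnectedSpace (H ⊗ H).left := by
    haveI : GeometricallyConnected (pullback.fst H.hom H.hom) :=
      MorphismProperty.pullback_fst (P := @GeometricallyConnected) _ _ ‹_›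
    haveI : UniversallyOpen H.hom := inferInstance
    haveI : UniversallyOpen (pullback.fst H.hom H.hom) := MorphismProperty.pullback_fst _ _ ‹_›
    exact GeometricallyConnected.connectedSpace (pullback.fst H.hom H.hom)
      (pullback.fst H.hom H.hom).isOpenMap
  haveI : DiscreteTopology N.left := SpQS.discrete_of_isFinite N.hom
  let e : 𝟙_ _ ⟶ H ⊗ H := lift η[H] η[H]
  have hconst : ∀ t, s.left t = (e ≫ s).left (IsLocalRing.closedPoint k) := fun t => by
    rw [Over.comp_left, Scheme.Hom.comp_apply]
    exact PreconnectedSpace.constant ‹ConnectedSpace (H ⊗ H).left›.toPreconnectedSpace s.left.continuous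
  have h1 := Chev.eq_toUnit_comp_of_point (e ≫ s) s (IsLocalRing.closedPoint k) hconst
  have hc1 : c = 1 := by
    rw [← hs, h1, Category.assoc, Category.assoc, hs]
    simp only [c, e, MonObj.comp_mul, GrpObj.comp_inv, lift_fst, lift_snd, mul_inv_cancel, MonObj.comp_one]
  have hc2 : fst H H * snd H H = snd H H * fst H H := mul_inv_eq_one.1 hc1
  constructor
  rw [Hom.mul_def, Hom.mul_def] at hc2
  rw [lift_fst_snd, Category.id_comp, lift_snd_fst] at hc2
  exact hc2.symm


set_option maxHeartbeats 1000000 in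
/-- A group isogenous onto a one-dimensional group all whose finite quotients are isomorphic to itself. -/
theorem iso_of_isogeny {k : Type u} [Field k] {Gm : Over (Spec (CommRingCat.of k))} [GrpObj Gm]
    (hGmT : Red.IsTorus Gm) (hne : ¬ Subsingleton Gm.left)
    (hcl : ∀ (N : Over (Spec (CommRingCat.of k))) (n : N ⟶ Gm), IsClosedImmersion n.left → IsFinite N.hom ∨ IsIso n)
    (hQ : ∀ (N : Over (Spec (CommRingCat.of k))) [GrpObj N] (n : N ⟶ Gm) [IsMonHom n] [Mono n] [IsFinite N.hom],
      ∃ φ : Gm ⟶ Gm, IsMonHom φ ∧ AlgGrp.IsKernel n φ ∧ Flat φ.left ∧ Surjective φ.left)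
    (H : Over (Spec (CommRingCat.of k))) [GrpObj H] [Smooth H.hom] [ConnectedSpace ↥H.left]
    (f : H ⟶ Gm) [IsMonHom f] [IsFinite f.left] [Surjective f.left] :
    Nonempty (Grp.mk H ≅ Grp.mk Gm) := by
  classical
  haveI := Chev.smooth_of_isTorus hGmT
  haveI := Chev.connectedSpace_of_isTorus hGmT
  haveI := Chev.isAffine_of_isTorus hGmT
  haveI : IsCommMonObj Gm := Chev.isCommMonObj_of_isTorus hGmT
  haveI : LocallyOfFiniteType Gm.hom := inferInstance
  haveI : QuasiCompact Gm.hom := inferInstance
  haveI : IsAffine H.left := isAffine_of_isAffineHom f.left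
  haveI : QuasiCompact H.hom := inferInstance
  haveI : LocallyOfFiniteType H.hom := inferInstance
  obtain ⟨N, hN, n, hnm, hnc, -, hnk⟩ := Groth.Agent.AdjRep.exists_kernel f
  haveI := hnm; haveI := hnc
  haveI : IsFinite N.hom := by
    have h : IsPullback n.left (toUnit N).left f.left η[Gm].left := hnk.map (Over.forget _)
    haveI : IsFinite (toUnit N).left := MorphismProperty.of_isPullback (P := @IsFinite) h inferInstance
    rw [← Over.w (toUnit N)]
    haveI : IsIso (𝟙_ (Over (Spec (CommRingCat.of k)))).hom := inferInstanceAs (IsIso (𝟙 _))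
    infer_instance
  -- commutativity
  haveI : IsCommMonObj H := isCommMonObj_of_finite_kernel f n hnk
  obtain ⟨ψ, hψm, hψs⟩ := Chev.exists_back H Gm f N n hnk fun r hr => Chev.surjective_pow_torus hGmT hr
  haveI := hψm; haveI := hψs
  obtain ⟨N', hN', n', hn'm, hn'c, -, hn'k⟩ := Groth.Agent.AdjRep.exists_kernel ψ
  haveI := hn'm; haveI := hn'c
  haveI : Mono n' := GrpField.SchImg.mono_of_isClosedImmersion n'
  haveI : IsFinite N'.hom := by
    rcases hcl N' n' inferInstance with h | h
    · exact h
    · exfalso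
      haveI := h
      have h1 : ψ = 1 := by
        rw [← cancel_epi n', hn'k.w, MonObj.comp_one, ← Hom.one_def]
      haveI : Surjective (1 : Gm ⟶ H).left := h1 ▸ hψs
      haveI : Subsingleton H.left := ⟨fun a b => by
        obtain ⟨a', rfl⟩ := (1 : Gm ⟶ H).left.surjective a
        obtain ⟨b', rfl⟩ := (1 : Gm ⟶ H).left.surjective b
        rw [Hom.one_def, Over.comp_left, Scheme.Hom.comp_apply, Scheme.Hom.comp_apply]
        exact congrArg _ (@Subsingleton.elim _ (inferInstanceAs (Subsingleton (PrimeSpectrum k))) _ _)⟩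
      exact hne f.left.surjective.subsingleton
  obtain ⟨φ, hφm, hφk, hφf, hφs⟩ := hQ N' n'
  haveI := hφm; haveI := hφf; haveI := hφs
  haveI : IsReduced H.left := Chev.isReduced_of_smooth' H
  haveI : QuasiCompact ψ.left := by
    haveI : QuasiCompact (ψ.left ≫ H.hom) := by rw [Over.w]; infer_instance
    exact QuasiCompact.of_comp _ H.hom
  haveI : IsSeparated Gm.hom := GrpField.isSeparated_hom Gm
  haveI : IsSeparated H.hom := GrpField.isSeparated_hom H
  haveI : Flat ψ.left := GrpField.flat_of_surjective_reduced ψ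
  haveI : IsLocallyNoetherian Gm.left := LocallyOfFiniteType.isLocallyNoetherian Gm.hom
  haveI : IsLocallyNoetherian H.left := LocallyOfFiniteType.isLocallyNoetherian H.hom
  haveI : LocallyOfFinitePresentation ψ.left := by
    haveI : LocallyOfFiniteType (ψ.left ≫ H.hom) := by rw [Over.w]; infer_instance
    haveI : LocallyOfFiniteType ψ.left := locallyOfFiniteType_of_comp ψ.left H.hom
    infer_instance
  haveI : QuasiCompact φ.left := by
    haveI : QuasiCompact (φ.left ≫ Gm.hom) := by rw [Over.w]; infer_instance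
    exact QuasiCompact.of_comp _ Gm.hom
  haveI : LocallyOfFinitePresentation φ.left := by
    haveI : LocallyOfFiniteType (φ.left ≫ Gm.hom) := by rw [Over.w]; infer_instance
    haveI : LocallyOfFiniteType φ.left := locallyOfFiniteType_of_comp φ.left Gm.hom
    infer_instance
  obtain ⟨d, hd⟩ := Groth.Agent.AdjRep.exists_desc n' ψ hn'k φ (by rw [hφk.w, ← Hom.one_def])
  obtain ⟨e, he⟩ := Groth.Agent.AdjRep.exists_desc n' φ hφk ψ (by rw [hn'k.w, ← Hom.one_def])
  haveI : Epi ψ := AVQuot.epi_of_covering ψ
  haveI : Epi φ := AVQuot.epi_of_covering φ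
  haveI : IsMonHom (ψ ≫ d) := by rw [hd]; infer_instance
  haveI := Chev.isMonHom_desc ψ d
  let E : H ≅ Gm :=
    { hom := d, inv := e
      hom_inv_id := by rw [← cancel_epi ψ, ← Category.assoc, hd, he, Category.comp_id]
      inv_hom_id := by rw [← cancel_epi φ, ← Category.assoc, he, hd, Category.comp_id] }
  haveI : IsMonHom E.hom := ‹IsMonHom d›
  exact ⟨Grp.mkIso' E⟩


/-- Multiplicative case. Let k be a field, H a smooth connected k-group scheme, and f a homomorphism
from H to the multiplicative group over k which is finite and surjective (an isogeny). Then H is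
isomorphic, as a k-group scheme, to the multiplicative group: a smooth connected k-group isogenous
to the multiplicative group over k is the split one-dimensional torus. -/
theorem result (k : Type u) [Field k]
    (H : Over (Spec (CommRingCat.of k))) [GrpObj H] [Smooth H.hom] [ConnectedSpace ↥H.left]
    (f : H ⟶ Red.Gm (Spec (CommRingCat.of k))) [IsMonHom f] [IsFinite f.left] [Surjective f.left] :
    Nonempty (Grp.mk H ≅ Grp.mk (Red.Gm (Spec (CommRingCat.of k)))) := by
  exact iso_of_isogeny isTorus_Gm (not_subsingleton_Gm k) (fun N n hn => isFinite_or_isIso_of_closed n)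
    (fun N _ n _ _ _ => Groth.Agent.S15180.result k _ N (Or.inr ⟨Iso.refl _⟩) n) H f

end Groth.Agent.S15607
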