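import Groth.Statements.S0348
import Groth.Agent.GrpComp.Field

set_option autoImplicit false
universe u v
open CategoryTheory MonoidalCategory CartesianMonoidalCategory MonObj GrpObj AlgebraicGeometry
open GrpSch

namespace Groth.Agent.S0348

/-- A connected group scheme over a field is irreducible. -/
theorem result (K : Type u) [Field K] (G : Over (Spec (CommRingCat.of K))) [GrpObj G] [ConnectedSpace G.left] : IrreducibleSpace G.left := by

  have h1 := (Groth.Agent.GrpComp.connectedComponent_ept G).1
  rw [PreconnectedSpace.connectedComponent_eq_univ] at h1
  refine (irreducibleSpace_def _).2 ?_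
  rw [Set.top_eq_univ, h1]
  exact isIrreducible_irreducibleComponent

end Groth.Agent.S0348
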