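import Groth.Statements.S19022
import Groth.Agent.LocFree.SemiLocal
import Groth.Agent.CurveRR.Curve
import Groth.Agent.Grpd.InvAffine
import Groth.Agent.ParaFLib.Unit

set_option autoImplicit false
universe u
open CategoryTheory AlgebraicGeometry
open PicF

set_option backward.isDefEq.respectTransparency false
set_option backward.isDefEq.respectTransparency.types false

namespace Groth.Agent.S19022

/-- Let X be a scheme, L an invertible O_X-module and T a finite set of closed points of X that lies in
some affine open of X. Then T lies in an affine open U of X on which L is trivial (L restricted to U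
is isomorphic to the structure sheaf). (The source states this for a smooth quasi-projective complex
surface, where every finite set of points lies in an affine open, and phrases it as: X^n and the
symmetric product S^n X are covered by the opens U^n and S^n U with U affine and L trivial on U; the
printed argument uses only that the finitely many points lie in one affine open, which is taken as
the hypothesis here.) -/
theorem result
    (X : Scheme.{u}) (L : X.Modules) (hL : PicF.IsInvertible L)
    (T : Finset X) (hT : ∀ x ∈ T, IsClosed ({x} : Set X))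
    (hU : ∃ U : X.Opens, IsAffineOpen U ∧ ∀ x ∈ T, x ∈ U) :
    ∃ U : X.Opens, IsAffineOpen U ∧ (∀ x ∈ T, x ∈ U) ∧
      Nonempty (L.restrict U.ι ≅ Coh.structureModule (↑U : Scheme.{u})) := by
  obtain ⟨V, hV, hTV⟩ := hU
  obtain ⟨U, hZU, hUV, ⟨e⟩⟩ := LocFree.exists_free_nhd (CurveRR.isFinLocFreeOfRank_one hL) T.finite_toSet hV
    (fun x hx => hTV x hx)
  haveI : IsAffine (V : Scheme.{u}) := hV
  obtain ⟨f, hf, hfE⟩ := GrpdLib.exists_basicOpen_of_finite (V.ι ⁻¹ᵁ U) (E := V.ι ⁻¹' (T : Set X))
    (T.finite_toSet.preimage V.ι.isOpenEmbedding.injective.injOn) (fun y hy => hZU hy)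
  let D : X.Opens := V.ι ''ᵁ ((V : Scheme.{u}).basicOpen f)
  have hDU : D ≤ U := by
    rintro x ⟨y, hy, rfl⟩
    exact hf hy
  refine ⟨D, ((isAffineOpen_top (V : Scheme.{u})).basicOpen f).image_of_isOpenImmersion V.ι,
    fun x hx => ⟨⟨x, hTV x hx⟩, hfE hx, rfl⟩, ?_⟩
  let j : (D : Scheme.{u}) ⟶ U := X.homOfLE hDU
  obtain ⟨c⟩ := ParaFLib.nonempty_restrictUnitIso j
  exact ⟨(Scheme.Modules.restrictFunctorCongr (X.homOfLE_ι hDU).symm).app L ≪≫
    (Scheme.Modules.restrictFunctorComp j U.ι).app L ≪≫
    (Scheme.Modules.restrictFunctor j).mapIso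
      (e ≪≫ CategoryTheory.Limits.coproductUniqueIso (fun _ : Fin 1 => Coh.structureModule (U : Scheme.{u}))) ≪≫ c⟩

end Groth.Agent.S19022
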