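import Groth.Statements.S10824
import Mathlib
import Groth.Agent.PlaneForms.Basic
open MvPolynomial

set_option autoImplicit false
universe u
open Variety

set_option maxHeartbeats 1000000
namespace Groth.Agent.S10824


variable {k : Type u} [Field k]

theorem comp_mul {σ : Type} (A f : MvPolynomial σ k) {n d : ℕ} (hf : f.IsHomogeneous n) (hd : n ≤ d) :
    homogeneousComponent d (A * f) = homogeneousComponent (d - n) A * f := by
  classical
  conv_lhs => rw [← sum_homogeneousComponent A, Finset.sum_mul, map_sum]
  rw [Finset.sum_eq_single (d - n)]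
  · rw [homogeneousComponent_of_mem (show homogeneousComponent (d - n) A * f ∈ homogeneousSubmodule σ k (d - n + n) from
      (homogeneousComponent_isHomogeneous _ A).mul hf), if_pos (by omega)]
  · intro i _ hi
    rw [homogeneousComponent_of_mem (show homogeneousComponent i A * f ∈ homogeneousSubmodule σ k (i + n) from
      (homogeneousComponent_isHomogeneous _ A).mul hf), if_neg (by omega)]
  · intro hi
    rw [homogeneousComponent_eq_zero (d - n) A (by simp at hi; omega), zero_mul, map_zero]

theorem two_mul_finrank (e : ℕ) :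
    2 * Module.finrank k (homogeneousSubmodule (Fin 3) k e) = (e + 2) * (e + 1) := by
  rw [(Groth.Agent.PlaneForms.finite_homogeneous_and_finrank (k := k) (σ := Fin 3) e).2, Fintype.card_fin,
    show 3 + e - 1 = e + 2 by omega, Nat.choose_symm_add, Nat.choose_two_right]
  rw [Nat.mul_div_cancel' (Nat.even_mul_pred_self (e + 2)).two_dvd]
  rfl

/-- Let k be a field, S the polynomial ring in three variables over k with degree-d part S_d, and f, g
nonzero homogeneous polynomials of positive degrees n and m with no common non-unit factor. Then for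
every d ≥ n + m the degree-d part of S/(f, g), namely S_d modulo its intersection with the ideal (f,
g), has dimension n·m over k. -/
theorem result (k : Type u) [Field k] (n m d : ℕ)
    (f g : MvPolynomial (Fin 3) k) (hf : f.IsHomogeneous n) (hg : g.IsHomogeneous m)
    (hn : 0 < n) (hm : 0 < m) (hf0 : f ≠ 0) (hg0 : g ≠ 0) (hfg : IsRelPrime f g) (hd : n + m ≤ d) :
    Module.finrank k
        (↥(MvPolynomial.homogeneousSubmodule (Fin 3) k d) ⧸
          Submodule.comap (MvPolynomial.homogeneousSubmodule (Fin 3) k d).subtype
            ((Ideal.span ({f, g} : Set (MvPolynomial (Fin 3) k))).restrictScalars k)) = n * m := by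
  classical
  haveI : ∀ e, Module.Finite k (homogeneousSubmodule (Fin 3) k e) := fun e =>
    (Groth.Agent.PlaneForms.finite_homogeneous_and_finrank e).1
  let W : ℕ → Submodule k (MvPolynomial (Fin 3) k) := fun e => homogeneousSubmodule (Fin 3) k e
  let Φ : (↥(W (d - n)) × ↥(W (d - m))) →ₗ[k] ↥(W d) :=
    LinearMap.codRestrict (W d) ((LinearMap.mulRight k f ∘ₗ (W (d - n)).subtype).coprod (LinearMap.mulRight k g ∘ₗ (W (d - m)).subtype))
      fun p => by
        have h1 : p.1.1 * f ∈ W d := by
          have := (show IsHomogeneous p.1.1 (d - n) from p.1.2).mul hf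
          rwa [Nat.sub_add_cancel (by omega)] at this
        have h2 : p.2.1 * g ∈ W d := by
          have := (show IsHomogeneous p.2.1 (d - m) from p.2.2).mul hg
          rwa [Nat.sub_add_cancel (by omega)] at this
        exact (W d).add_mem h1 h2
  have hrange : LinearMap.range Φ = Submodule.comap (homogeneousSubmodule (Fin 3) k d).subtype
      ((Ideal.span ({f, g} : Set (MvPolynomial (Fin 3) k))).restrictScalars k) := by
    apply le_antisymm
    · rintro _ ⟨p, rfl⟩
      show (p.1.1 * f + p.2.1 * g) ∈ Ideal.span ({f, g} : Set (MvPolynomial (Fin 3) k))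
      exact Ideal.mem_span_pair.2 ⟨_, _, rfl⟩
    · rintro ⟨h, hh⟩ hmem
      obtain ⟨A, B, hAB⟩ := Ideal.mem_span_pair.1 hmem
      refine ⟨(⟨homogeneousComponent (d - n) A, homogeneousComponent_isHomogeneous _ _⟩,
        ⟨homogeneousComponent (d - m) B, homogeneousComponent_isHomogeneous _ _⟩), Subtype.ext ?_⟩
      show homogeneousComponent (d - n) A * f + homogeneousComponent (d - m) B * g = h
      rw [← comp_mul A f hf (by omega), ← comp_mul B g hg (by omega), ← map_add, hAB]
      exact (homogeneousComponent_of_mem hh).trans (if_pos rfl)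
  let ψ : ↥(W (d - n - m)) →ₗ[k] (↥(W (d - n)) × ↥(W (d - m))) :=
    LinearMap.prod ((LinearMap.mulRight k g ∘ₗ (W (d - n - m)).subtype).codRestrict (W (d - n)) fun c => by
        have := (show IsHomogeneous c.1 (d - n - m) from c.2).mul hg
        rwa [Nat.sub_add_cancel (by omega)] at this)
      (-((LinearMap.mulRight k f ∘ₗ (W (d - n - m)).subtype).codRestrict (W (d - m)) fun c => by
        have := (show IsHomogeneous c.1 (d - n - m) from c.2).mul hf
        rwa [show d - n - m + n = d - m by omega] at this))
  have hψ : Function.Injective ψ := fun a b h => Subtype.ext (mul_right_cancel₀ hg0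
    (show a.1 * g = b.1 * g from congrArg Subtype.val (congrArg Prod.fst h)))
  have hker : LinearMap.ker Φ = LinearMap.range ψ := by
    apply le_antisymm
    · rintro ⟨⟨a, ha⟩, ⟨b, hb⟩⟩ hab
      have h0 : a * f + b * g = 0 := congrArg Subtype.val hab
      obtain ⟨c, hc⟩ : g ∣ a := hfg.symm.dvd_of_dvd_mul_right ⟨-b, by rw [eq_neg_of_add_eq_zero_left h0]; ring⟩
      have hcc : homogeneousComponent (d - n - m) c = c := by
        refine mul_right_cancel₀ hg0 ?_
        rw [← comp_mul c g hg (show m ≤ d - n by omega), mul_comm c g, ← hc]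
        exact (homogeneousComponent_of_mem ha).trans (if_pos rfl)
      refine ⟨⟨c, hcc ▸ homogeneousComponent_isHomogeneous _ c⟩, Prod.ext (Subtype.ext ?_) (Subtype.ext ?_)⟩
      · show c * g = a
        rw [hc, mul_comm]
      · show -(c * f) = b
        refine mul_right_cancel₀ hg0 ?_
        rw [eq_neg_of_add_eq_zero_right h0, hc]
        ring
    · rintro _ ⟨c, rfl⟩
      refine LinearMap.mem_ker.2 (Subtype.ext ?_)
      show c.1 * g * f + (-(c.1 * f)) * g = 0
      ring
  have h1 := LinearMap.finrank_range_add_finrank_ker Φ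
  have h2 := Submodule.finrank_quotient_add_finrank (LinearMap.range Φ)
  rw [hker, LinearMap.finrank_range_of_inj hψ, Module.finrank_prod] at h1
  rw [← hrange]
  have e0 : 2 * Module.finrank k ↥(W d) = (d + 2) * (d + 1) := two_mul_finrank d
  have e1 : 2 * Module.finrank k ↥(W (d - n)) = (d - n + 2) * (d - n + 1) := two_mul_finrank _
  have e2 : 2 * Module.finrank k ↥(W (d - m)) = (d - m + 2) * (d - m + 1) := two_mul_finrank _
  have e3 : 2 * Module.finrank k ↥(W (d - n - m)) = (d - n - m + 2) * (d - n - m + 1) := two_mul_finrank _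
  show Module.finrank k (↥(W d) ⧸ LinearMap.range Φ) = n * m
  generalize Module.finrank k (↥(W d) ⧸ LinearMap.range Φ) = Q at h2 ⊢
  generalize Module.finrank k ↥(LinearMap.range Φ) = R at h1 h2
  generalize Module.finrank k ↥(W d) = a0 at e0 h2
  generalize Module.finrank k ↥(W (d - n)) = a1 at e1 h1
  generalize Module.finrank k ↥(W (d - m)) = a2 at e2 h1
  generalize Module.finrank k ↥(W (d - n - m)) = a3 at e3 h1
  obtain ⟨j, rfl⟩ := Nat.exists_eq_add_of_le hd
  rw [show n + m + j - n = m + j by omega] at e1 e3
  rw [show m + j - m = j by omega] at e3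
  rw [show n + m + j - m = n + j by omega] at e2
  nlinarith

end Groth.Agent.S10824
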