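import Groth.Statements.S9840
import Mathlib
import Groth.Agent.DescMisc.Basic
import Groth.Agent.FppfSource.Scheme
import Groth.Agent.SmoothRed.Scheme
import Groth.Agent.FlatMor.ReducedDescent

set_option autoImplicit false
open CategoryTheory CategoryTheory.Limits AlgebraicGeometry Opposite
universe u
open Desc

namespace Groth.Agent.S9840

/-- For a flat, surjective morphism of schemes f : X ⟶ Y, reducedness of X forces Y to be reduced. -/
theorem result {X Y : Scheme.{u}} (f : X ⟶ Y) [Flat f] [Surjective f] [IsReduced X] :
    IsReduced Y := by
  exact Groth.Agent.FlatMor.isReduced_of_flat_surjective f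

end Groth.Agent.S9840
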