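import Groth.Statements.S18251
import Mathlib

set_option autoImplicit false
universe u
open W4c5m1nsnscurves
open Curves

set_option maxHeartbeats 800000
set_option backward.isDefEq.respectTransparency false
namespace Groth.Agent.S18251

section
open MvPolynomial W4c5m1nsnscurves

variable (R : Type u) [CommRing R] (a b c d : R)

private noncomputable def ex (i j : ℕ) : Fin 2 →₀ ℕ := Finsupp.single 0 i + Finsupp.single 1 j

private lemma ex0 (i j : ℕ) : ex i j 0 = i := by simp [ex]
private lemma ex1 (i j : ℕ) : ex i j 1 = j := by simp [ex]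

private lemma ex_inj {i j i' j' : ℕ} : ex i j = ex i' j' ↔ i = i' ∧ j = j' :=
  ⟨fun h => ⟨by simpa [ex0] using DFunLike.congr_fun h 0, by simpa [ex1] using DFunLike.congr_fun h 1⟩,
    fun h => by rw [h.1, h.2]⟩

private lemma mon (r : R) (i j : ℕ) : monomial (ex i j) r = C r * X 0 ^ i * X 1 ^ j := by
  rw [X_pow_eq_monomial, X_pow_eq_monomial, C_mul_monomial, monomial_mul, mul_one, mul_one]
  rfl

/-- the exponents of the normal monomials, coordinates exchanged -/
private noncomputable def E : Option (ℕ ⊕ (Fin 2 × ℕ)) → (Fin 2 →₀ ℕ)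
  | none => ex 0 0
  | some (Sum.inl k) => ex 1 (k + 1)
  | some (Sum.inr (0, k)) => ex 0 (k + 1)
  | some (Sum.inr (1, k)) => ex (k + 1) 0

theorem basis3 [Nontrivial R] :
    LinearIndependent R (cmon3 R a b c d) ∧ Submodule.span R (Set.range (cmon3 R a b c d)) = ⊤ := by
  classical
  set f : MvPolynomial (Fin 2) R := X 0 * X 1 ^ 2 - X 0 ^ 2 * X 1 - (C a * X 0 * X 1 + C b * X 0 + C c * X 1 + C d)
    with hf
  let σ : MvPolynomial (Fin 2) R ≃ₐ[R] MvPolynomial (Fin 2) R := renameEquiv R (Equiv.swap 0 1)
  let mk := Ideal.Quotient.mkₐ R (Ideal.span {f})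
  have hσX0 : σ (X 0) = X 1 := (rename_X _ _).trans (by rw [Equiv.swap_apply_left])
  have hσX1 : σ (X 1) = X 0 := (rename_X _ _).trans (by rw [Equiv.swap_apply_right])
  have hσC : ∀ r : R, σ (C r) = C r := fun r => σ.commutes r
  have hmon : ∀ t, ∃ q, σ q = monomial (E t) 1 ∧ mk q = cmon3 R a b c d t := by
    rintro (_ | k | ⟨y, k⟩)
    · exact ⟨1, by simp [E, ex], rfl⟩
    · exact ⟨X 0 ^ (k + 1) * X 1, by rw [map_mul, map_pow, hσX0, hσX1, E, mon]; simp [mul_comm], rfl⟩
    · fin_cases y
      · exact ⟨X 0 ^ (k + 1), by rw [map_pow, hσX0]; simp only [E, Fin.zero_eta, mon]; simp, rfl⟩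
      · exact ⟨X 1 ^ (k + 1), by rw [map_pow, hσX1]; simp only [E, Fin.mk_one, mon]; simp, rfl⟩
  choose Q hQ1 hQ2 using hmon
  let m := MonomialOrder.lex (σ := Fin 2)
  have hσf : σ f = monomial (ex 2 1) 1 + monomial (ex 1 2) (-1) + monomial (ex 1 1) (-a) + monomial (ex 0 1) (-b)
      + monomial (ex 1 0) (-c) + monomial (ex 0 0) (-d) := by
    simp only [hf, map_sub, map_add, map_mul, map_pow, hσX0, hσX1, hσC, mon, map_neg, map_one]
    ring
  have hcoef : coeff (ex 2 1) (σ f) = 1 := by
    rw [hσf]
    simp [coeff_monomial, ex_inj]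
  have hdeg : m.degree (σ f) = ex 2 1 := by
    refine m.toSyn.injective (le_antisymm (MonomialOrder.degree_le_iff.2 fun e he => ?_)
      (MonomialOrder.le_degree (by rw [mem_support_iff, hcoef]; exact one_ne_zero)))
    rcases eq_or_ne e (ex 2 1) with rfl | hne
    · exact le_rfl
    refine le_of_lt (show m.toSyn e < m.toSyn (ex 2 1) from MonomialOrder.lex_lt_iff.2
      (Finsupp.Lex.lt_iff.2 ⟨0, fun j hj => absurd hj (Fin.not_lt_zero j), ?_⟩))
    show e 0 < ex 2 1 0
    rw [ex0]
    by_contra h
    apply mem_support_iff.1 he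
    rw [hσf]
    have : ∀ i j, i < 2 → ∀ r : R, coeff e (monomial (ex i j) r) = 0 := fun i j hi r => by
      rw [coeff_monomial, if_neg]
      intro he
      exact h (by rw [← he, ex0]; exact hi)
    simp [coeff_add, this, coeff_monomial, Ne.symm hne]
  have hlc : m.leadingCoeff (σ f) = 1 := by rw [MonomialOrder.leadingCoeff, hdeg, hcoef]
  have hnot : ∀ t, ¬ ex 2 1 ≤ E t := by
    intro t h
    have h0 := h 0
    have h1 := h 1
    rcases t with _ | k | ⟨y, k⟩ <;> try fin_cases y
    all_goals simp [E, ex0, ex1] at h0 h1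
  have hEinj : Function.Injective E := by
    intro t t' h
    rcases t with _ | k | ⟨y, k⟩ <;> rcases t' with _ | k' | ⟨y', k'⟩ <;>
      (try fin_cases y) <;> (try fin_cases y') <;> simp [E, ex_inj] at h <;> simp [h]
  constructor
  · rw [linearIndependent_iff']
    intro s g hg t ht
    have h1 : mk (∑ i ∈ s, C (g i) * Q i) = 0 := by
      rw [map_sum, ← hg]
      refine Finset.sum_congr rfl fun i _ => ?_
      exact (congrArg mk (C_mul'.trans rfl)).trans ((map_smul mk (g i) (Q i)).trans (congrArg (g i • ·) (hQ2 i)))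
    obtain ⟨h, hh⟩ := Ideal.mem_span_singleton'.1 (Ideal.Quotient.eq_zero_iff_mem.1 h1)
    have h2 : σ h * σ f = ∑ i ∈ s, monomial (E i) (g i) := by
      rw [← map_mul, hh, map_sum]
      refine Finset.sum_congr rfl fun i _ => ?_
      rw [map_mul, hσC, hQ1, C_mul_monomial, mul_one]
    rcases eq_or_ne (σ h) 0 with h0 | h0
    · rw [h0, zero_mul] at h2
      have := congrArg (coeff (E t)) h2.symm
      rw [coeff_zero, coeff_sum, Finset.sum_eq_single t, coeff_monomial, if_pos rfl] at this
      · exact this
      · intro i _ hi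
        rw [coeff_monomial, if_neg (fun e => hi (hEinj e))]
      · exact fun h => absurd ht h
    · exfalso
      have hd := MonomialOrder.degree_mul_of_isRegular_right (m := m) h0 (g := σ f) (by rw [hlc]; exact isRegular_one)
      have hne : σ h * σ f ≠ 0 := fun e => h0 (by
        have := MonomialOrder.leadingCoeff_mul_of_isRegular_right (m := m) (f := σ h) (g := σ f)
          (by rw [hlc]; exact isRegular_one)
        rw [e, hlc, mul_one, MonomialOrder.leadingCoeff_zero] at this
        exact MonomialOrder.leadingCoeff_eq_zero_iff.1 this.symm)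
      have hmem := (MonomialOrder.degree_mem_support_iff (m := m) _).2 hne
      rw [h2] at hmem hd
      obtain ⟨i, -, hi⟩ := Finset.mem_biUnion.1 (support_sum hmem)
      have := Finset.mem_singleton.1 (support_monomial_subset hi)
      refine hnot i ?_
      rw [← this, hd, hdeg]
      exact le_add_self
  · refine top_unique fun x _ => ?_
    obtain ⟨p, rfl⟩ := Ideal.Quotient.mk_surjective x
    obtain ⟨q, r, hqr, -, hr⟩ := MonomialOrder.div_single (m := m) (b := σ f) (by rw [hlc]; exact isUnit_one) (σ p)
    have hp : p = σ.symm q * f + σ.symm r := σ.injective (by simpa using hqr)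
    show mk p ∈ _
    rw [hp, map_add, map_mul, show mk f = 0 from Ideal.Quotient.eq_zero_iff_mem.2 (Ideal.subset_span rfl),
      mul_zero, zero_add, r.as_sum, map_sum, map_sum]
    refine Submodule.sum_mem _ fun e he => ?_
    obtain ⟨t, rfl⟩ : ∃ t, E t = e := by
      have hne := hr e he
      rw [hdeg] at hne
      have hcase : e 0 < 2 ∨ e 1 = 0 := by
        by_contra hh
        apply hne
        intro i
        fin_cases i <;> simp [ex0, ex1] <;> omega
      have hee : e = ex (e 0) (e 1) := by
        ext i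
        fin_cases i <;> simp [ex0, ex1]
      rw [hee]
      match h0 : e 0, h1 : e 1 with
      | 0, 0 => exact ⟨none, rfl⟩
      | 0, k + 1 => exact ⟨some (Sum.inr (0, k)), rfl⟩
      | k + 1, 0 => exact ⟨some (Sum.inr (1, k)), rfl⟩
      | 1, k + 1 => exact ⟨some (Sum.inl k), rfl⟩
      | k + 2, l + 1 => omega
    have he' : σ.symm (monomial (E t) (coeff (E t) r)) = coeff (E t) r • Q t := by
      refine σ.injective ?_
      rw [AlgEquiv.apply_symm_apply, map_smul, hQ1, smul_monomial, smul_eq_mul, mul_one]
    rw [he', map_smul, hQ2]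
    exact Submodule.smul_mem _ _ (Submodule.subset_span ⟨t, rfl⟩)

end


/-- Case n = 3: let R be a commutative ring and a, b, c, d elements of R (a point of U_3, which is
affine 4-space, so no condition is imposed). Then in the R-algebra R[x_2, x_3]/(x_2 x_3² − x_2² x_3
− a x_2 x_3 − b x_2 − c x_3 − d) the classes of the monomials 1, x_2^k x_3, x_2^k and x_3^k (k ≥ 1)
are linearly independent over R and span, i.e. form an R-basis. -/
theorem result (R : Type u) [CommRing R] (a b c d : R) :
    LinearIndependent R (cmon3 R a b c d) ∧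
      Submodule.span R (Set.range (cmon3 R a b c d)) = ⊤ := by
  rcases subsingleton_or_nontrivial R with hR | hR
  · haveI : Subsingleton (CurveAlg3 R a b c d) := Module.subsingleton R _
    exact ⟨linearIndependent_of_subsingleton, Subsingleton.elim _ _⟩
  exact basis3 R a b c d

end Groth.Agent.S18251
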