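import Groth.Statements.S18247
import Mathlib

set_option autoImplicit false
universe u
open W4c5m1nsnscurves
open Curves

namespace Groth.Agent.S18247

section
open MvPolynomial W4c5m1nsnscurves

/-- the six coordinates -/
private noncomputable def six : Fin 6 → URing ℤ 2 :=
  ![ugen ℤ 2 .a, ugen ℤ 2 (.ci 0), ugen ℤ 2 (.cbi 0), ugen ℤ 2 (.ci 1), ugen ℤ 2 (.cbi 1), ugen ℤ 2 (.cij 0 1 Fin.zero_ne_one)]

/-- the values of the generators -/
private noncomputable def val6 : UGen 2 → MvPolynomial (Fin 6) ℤ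
  | .a => X 0
  | .ci i => if i = 0 then X 1 else X 3
  | .cbi i => if i = 0 then X 2 else X 4
  | .cij i _ _ => if i = 0 then X 5 else X 0 + X 1 + X 2 + X 3 + X 4 - X 5
  | .c => (X 0 + X 1 + X 2 + X 3 + X 4 - X 5) * X 3 + X 5 * X 1 - X 1 * X 3
  | .cb => (X 0 + X 1 + X 2 + X 3 + X 4 - X 5) * X 2 + X 5 * X 4 - X 2 * X 4

private noncomputable def inv6 : URing ℤ 2 →ₐ[ℤ] MvPolynomial (Fin 6) ℤ :=
  Ideal.Quotient.liftₐ _ (aeval val6) (fun p hp => by
    refine RingHom.mem_ker.1 ((Ideal.span_le.2 ?_ : Ideal.span (URel ℤ 2) ≤ RingHom.ker (aeval val6).toRingHom) hp)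
    intro r hr
    simp only [SetLike.mem_coe, RingHom.mem_ker]
    show aeval val6 r = 0
    rcases hr with ((hr | hr) | hr) | hr <;> obtain ⟨⟨q, hq⟩, rfl⟩ := hr
    · obtain ⟨i, j⟩ := q
      fin_cases i <;> fin_cases j <;> first | exact absurd rfl hq | (simp [val6]; try ring)
    · obtain ⟨i, j⟩ := q
      fin_cases i <;> fin_cases j <;> first | exact absurd rfl hq | (simp [val6]; try ring)
    · obtain ⟨i, j⟩ := q
      fin_cases i <;> fin_cases j <;> first | exact absurd rfl hq | (simp [val6]; try ring)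
    · obtain ⟨i, j, l⟩ := q
      obtain ⟨h1, h2, h3⟩ := hq
      fin_cases i <;> fin_cases j <;> fin_cases l <;> simp at h1 h2 h3)

private lemma inv6_ugen (g : UGen 2) : inv6 (ugen ℤ 2 g) = val6 g := aeval_X _ g

private lemma rel0 {r : MvPolynomial (UGen 2) ℤ} (h : r ∈ URel ℤ 2) :
    Ideal.Quotient.mk (Ideal.span (URel ℤ 2)) r = 0 :=
  Ideal.Quotient.eq_zero_iff_mem.2 (Ideal.subset_span h)

theorem bij_five : Function.Bijective (aeval (R := ℤ) (S₁ := URing ℤ 2) six) := by
  have hL : ∀ p, inv6 (aeval six p) = p := by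
    intro p
    have : inv6.comp (aeval six) = AlgHom.id ℤ _ := by
      refine algHom_ext fun n => ?_
      fin_cases n <;> simp [six, inv6_ugen, val6]
    exact DFunLike.congr_fun this p
  have h10 := rel0 (Or.inl (Or.inl (Or.inl ⟨⟨(0, 1), Fin.zero_ne_one⟩, rfl⟩)))
  have hc := rel0 (Or.inl (Or.inl (Or.inr ⟨⟨(0, 1), Fin.zero_ne_one⟩, rfl⟩)))
  have hcb := rel0 (Or.inl (Or.inr ⟨⟨(0, 1), Fin.zero_ne_one⟩, rfl⟩))
  simp only [map_sub, map_add, map_mul] at h10 hc hcb
  have hgen : ∀ g, aeval six (val6 g) = ugen ℤ 2 g := by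
    intro g
    cases g with
    | a => simp [val6, six]
    | ci i => fin_cases i <;> simp [val6, six]
    | cbi i => fin_cases i <;> simp [val6, six]
    | cij i j h =>
      fin_cases i <;> fin_cases j <;> first | exact absurd rfl h | skip
      · simp [val6, six]
      · simp [val6, six, ugen]
        linear_combination -h10
    | c =>
      simp [val6, six, ugen]
      linear_combination hc + (Ideal.Quotient.mk (Ideal.span (URel ℤ 2)) (X (UGen.ci 1))) * (-h10)
    | cb =>
      simp [val6, six, ugen]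
      linear_combination hcb + (Ideal.Quotient.mk (Ideal.span (URel ℤ 2)) (X (UGen.cbi 0))) * (-h10)
  refine ⟨Function.LeftInverse.injective hL, fun x => ?_⟩
  obtain ⟨p, rfl⟩ := Ideal.Quotient.mk_surjective x
  refine ⟨aeval val6 p, ?_⟩
  have : (aeval six).comp (aeval val6) = Ideal.Quotient.mkₐ ℤ (Ideal.span (URel ℤ 2)) :=
    algHom_ext fun g => (congrArg (aeval six) (aeval_X _ g)).trans (hgen g)
  exact DFunLike.congr_fun this p

end


/-- Case n = 5: the coordinate ring of U_5 over ℤ (m = 2 indices, standing for the points 4 and 5;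
generators a, c, c̄, c_4, c̄_4, c_5, c̄_5, c_{45}, c_{54} with the linear and the two quadratic
relations for the one pair of indices, and no triple) is the polynomial ring on a, c_4, c̄_4, c_5,
c̄_5, c_{45}: the ℤ-algebra map from the polynomial ring in six variables sending the variables to
these six classes, in this order, is bijective. -/
theorem result :
    Function.Bijective (MvPolynomial.aeval (R := ℤ) (S₁ := URing ℤ 2)
      ![ugen ℤ 2 .a, ugen ℤ 2 (.ci 0), ugen ℤ 2 (.cbi 0), ugen ℤ 2 (.ci 1), ugen ℤ 2 (.cbi 1),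
        ugen ℤ 2 (.cij 0 1 Fin.zero_ne_one)]) := by
  exact bij_five

end Groth.Agent.S18247
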