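import Groth.Statements.S18252
import Mathlib

set_option autoImplicit false
universe u
open W4c5m1nsnscurves
open Curves

namespace Groth.Agent.S18252


section helpers
open MvPolynomial

/-- The defining relations of `U_n`, for values in any ring. -/
structure Sat {S : Type u} [CommRing S] {m : ℕ} (v : UGen m → S) : Prop where
  lin : ∀ i j (h : i ≠ j), v (.cij i j h) + v (.cij j i h.symm) =
    v .a + v (.ci i) + v (.cbi i) + v (.ci j) + v (.cbi j)
  qc : ∀ i j (h : i ≠ j), v (.cij j i h.symm) * v (.ci j) + v (.cij i j h) * v (.ci i) -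
    v (.ci i) * v (.ci j) = v .c
  qcb : ∀ i j (h : i ≠ j), v (.cij j i h.symm) * v (.cbi i) + v (.cij i j h) * v (.cbi j) -
    v (.cbi i) * v (.cbi j) = v .cb
  tri : ∀ i j k (h₁ : i ≠ j) (h₂ : j ≠ k) (h₃ : i ≠ k),
    v (.cij i j h₁) * v (.cij j k h₂) + v (.cij j i h₁.symm) * v (.cij i k h₃) -
      v (.cij i k h₃) * v (.cij j k h₂) + (v .a + v (.ci k) + v (.cbi k)) * v (.ci k) = v .c

/-- The relations of the affine curve, for values in any ring. -/
structure CSat {S : Type u} [CommRing S] {m : ℕ} (v : UGen m → S) (X2 X3 : S) (Xi : Fin m → S) :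
    Prop where
  r1 : ∀ i, X2 * Xi i = X2 * X3 + v (.ci i) * Xi i + v (.cbi i) * X2 - v .c
  r2 : ∀ i, X3 * Xi i = X2 * X3 +
    (v .a + v (.ci i) + v (.cbi i)) * (Xi i - v (.cbi i)) + v .cb - v .c
  r3 : ∀ i j (h : i ≠ j), Xi i * Xi j = X2 * X3 + v (.cij i j h) * Xi j +
    v (.cij j i h.symm) * Xi i - v .c

variable {S : Type u} [CommRing S] {m : ℕ}

lemma Sat.toCSat {w : UGen (m + 1) → S} (H : Sat w) :
    CSat (fun g => w g.castSucc) (w (.ci (Fin.last m)))
      (w .a + w (.ci (Fin.last m)) + w (.cbi (Fin.last m)))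
      (fun i => w (.cij i.castSucc (Fin.last m) (Fin.castSucc_lt_last i).ne)) := by
  refine ⟨fun i => ?_, fun i => ?_, fun i j h => ?_⟩
  · have h1 := H.lin i.castSucc (Fin.last m) (Fin.castSucc_lt_last i).ne
    have h2 := H.qc i.castSucc (Fin.last m) (Fin.castSucc_lt_last i).ne
    simp only [UGen.castSucc]
    linear_combination w (.ci (Fin.last m)) * h1 - h2
  · have h1 := H.lin i.castSucc (Fin.last m) (Fin.castSucc_lt_last i).ne
    have h2 := H.qc i.castSucc (Fin.last m) (Fin.castSucc_lt_last i).ne
    have h3 := H.qcb i.castSucc (Fin.last m) (Fin.castSucc_lt_last i).ne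
    simp only [UGen.castSucc]
    linear_combination h3 - h2 + (w (.ci (Fin.last m)) - w (.cbi i.castSucc)) * h1
  · have h1 := H.tri i.castSucc j.castSucc (Fin.last m)
      (fun e => h (Fin.castSucc_injective _ e)) (Fin.castSucc_lt_last j).ne
      (Fin.castSucc_lt_last i).ne
    simp only [UGen.castSucc]
    linear_combination -h1

/-- Extend an assignment for `U_n` by a point of the curve. -/
def ext' (v : UGen m → S) (X2 X3 : S) (Xi : Fin m → S) : UGen (m + 1) → S
  | .a => v .a
  | .c => v .c
  | .cb => v .cb
  | .ci i => Fin.lastCases X2 (fun a => v (.ci a)) i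
  | .cbi i => Fin.lastCases (X3 - v .a - X2) (fun a => v (.cbi a)) i
  | .cij i j _ => Fin.lastCases
      (Fin.lastCases 0 (fun b => v (.ci b) + v (.cbi b) + X3 - Xi b) j)
      (fun a => Fin.lastCases (Xi a) (fun b => if h : a ≠ b then v (.cij a b h) else 0) j) i

lemma ext'_castSucc (v : UGen m → S) (X2 X3 : S) (Xi : Fin m → S) (g : UGen m) :
    ext' v X2 X3 Xi g.castSucc = v g := by
  cases g with
  | cij i j h => simp [ext', UGen.castSucc, h]
  | _ => simp [ext', UGen.castSucc]

lemma tri_first {v : UGen m → S} {X2 X3 : S} {Xi : Fin m → S} (H : Sat v)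
    (HC : CSat v X2 X3 Xi) (b c : Fin m) (h : b ≠ c) :
    (v (.ci b) + v (.cbi b) + X3 - Xi b) * v (.cij b c h) +
        Xi b * (v (.ci c) + v (.cbi c) + X3 - Xi c) -
        (v (.ci c) + v (.cbi c) + X3 - Xi c) * v (.cij b c h) +
        (v .a + v (.ci c) + v (.cbi c)) * v (.ci c) = v .c := by
  linear_combination HC.r2 b - HC.r3 b c h - Xi b * H.lin b c h +
    (v (.cbi b) - v (.ci c)) * H.lin b c h - H.qcb b c h + H.qc b c h

lemma Sat.ext {v : UGen m → S} {X2 X3 : S} {Xi : Fin m → S} (H : Sat v)
    (HC : CSat v X2 X3 Xi) : Sat (ext' v X2 X3 Xi) := by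
  constructor
  · intro i j h
    induction i using Fin.lastCases with
    | last =>
      induction j using Fin.lastCases with
      | last => exact absurd rfl h
      | cast b => simp [ext']; ring
    | cast a =>
      induction j using Fin.lastCases with
      | last => simp [ext']; ring
      | cast b =>
        have hab : a ≠ b := fun e => h (by rw [e])
        simp [ext', hab, hab.symm]
        exact H.lin a b hab
  · intro i j h
    induction i using Fin.lastCases with
    | last =>
      induction j using Fin.lastCases with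
      | last => exact absurd rfl h
      | cast b => simp [ext']; linear_combination -HC.r1 b
    | cast a =>
      induction j using Fin.lastCases with
      | last => simp [ext']; linear_combination -HC.r1 a
      | cast b =>
        have hab : a ≠ b := fun e => h (by rw [e])
        simp [ext', hab, hab.symm]
        exact H.qc a b hab
  · intro i j h
    induction i using Fin.lastCases with
    | last =>
      induction j using Fin.lastCases with
      | last => exact absurd rfl h
      | cast b => simp [ext']; linear_combination HC.r2 b - HC.r1 b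
    | cast a =>
      induction j using Fin.lastCases with
      | last => simp [ext']; linear_combination HC.r2 a - HC.r1 a
      | cast b =>
        have hab : a ≠ b := fun e => h (by rw [e])
        simp [ext', hab, hab.symm]
        exact H.qcb a b hab
  · intro i j k h₁ h₂ h₃
    induction i using Fin.lastCases with
    | last =>
      induction j using Fin.lastCases with
      | last => exact absurd rfl h₁
      | cast b =>
        induction k using Fin.lastCases with
        | last => exact absurd rfl h₃
        | cast c =>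
          have hbc : b ≠ c := fun e => h₂ (by rw [e])
          simp [ext', hbc]
          linear_combination tri_first H HC b c hbc
    | cast a =>
      induction j using Fin.lastCases with
      | last =>
        induction k using Fin.lastCases with
        | last => exact absurd rfl h₂
        | cast c =>
          have hac : a ≠ c := fun e => h₃ (by rw [e])
          simp [ext', hac]
          linear_combination tri_first H HC a c hac
      | cast b =>
        have hab : a ≠ b := fun e => h₁ (by rw [e])
        induction k using Fin.lastCases with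
        | last => simp [ext', hab, hab.symm]; linear_combination -HC.r3 a b hab
        | cast c =>
          have hbc : b ≠ c := fun e => h₂ (by rw [e])
          have hac : a ≠ c := fun e => h₃ (by rw [e])
          simp [ext', hab, hab.symm, hbc, hac]
          exact H.tri a b c hab hbc hac

lemma sat_ugen (R : Type u) [CommRing R] (m : ℕ) : Sat (ugen R m) := by
  constructor
  · intro i j h
    rw [← sub_eq_zero]
    simpa [ugen] using (Ideal.Quotient.eq_zero_iff_mem.2 (Ideal.subset_span
      (Or.inl (Or.inl (Or.inl ⟨⟨(i, j), h⟩, rfl⟩)))) :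
        Ideal.Quotient.mk (Ideal.span (URel R m)) _ = 0)
  · intro i j h
    rw [← sub_eq_zero]
    simpa [ugen] using (Ideal.Quotient.eq_zero_iff_mem.2 (Ideal.subset_span
      (Or.inl (Or.inl (Or.inr ⟨⟨(i, j), h⟩, rfl⟩)))) :
        Ideal.Quotient.mk (Ideal.span (URel R m)) _ = 0)
  · intro i j h
    rw [← sub_eq_zero]
    simpa [ugen] using (Ideal.Quotient.eq_zero_iff_mem.2 (Ideal.subset_span
      (Or.inl (Or.inr ⟨⟨(i, j), h⟩, rfl⟩))) :
        Ideal.Quotient.mk (Ideal.span (URel R m)) _ = 0)
  · intro i j k h₁ h₂ h₃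
    rw [← sub_eq_zero]
    simpa [ugen] using (Ideal.Quotient.eq_zero_iff_mem.2 (Ideal.subset_span
      (Or.inr ⟨⟨(i, j, k), ⟨h₁, h₂, h₃⟩⟩, rfl⟩)) :
        Ideal.Quotient.mk (Ideal.span (URel R m)) _ = 0)

lemma csat_curve (A : Type u) [CommRing A] (m : ℕ) (v : UGen m → A) :
    CSat (fun g => Ideal.Quotient.mk (Ideal.span (CRel A m v)) (C (v g)))
      (Ideal.Quotient.mk (Ideal.span (CRel A m v)) (X CVar.x2))
      (Ideal.Quotient.mk (Ideal.span (CRel A m v)) (X CVar.x3))
      (fun i => Ideal.Quotient.mk (Ideal.span (CRel A m v)) (X (CVar.xi i))) := by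
  refine ⟨fun i => ?_, fun i => ?_, fun i j h => ?_⟩
  · rw [← sub_eq_zero]
    simpa using (Ideal.Quotient.eq_zero_iff_mem.2 (Ideal.subset_span
      (Or.inl (Or.inl ⟨i, rfl⟩))) : Ideal.Quotient.mk (Ideal.span (CRel A m v)) _ = 0)
  · rw [← sub_eq_zero]
    simpa using (Ideal.Quotient.eq_zero_iff_mem.2 (Ideal.subset_span
      (Or.inl (Or.inr ⟨i, rfl⟩))) : Ideal.Quotient.mk (Ideal.span (CRel A m v)) _ = 0)
  · rw [← sub_eq_zero]
    simpa using (Ideal.Quotient.eq_zero_iff_mem.2 (Ideal.subset_span
      (Or.inr ⟨⟨(i, j), h⟩, rfl⟩)) : Ideal.Quotient.mk (Ideal.span (CRel A m v)) _ = 0)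

/-- The map out of `URing` given by values satisfying the relations. -/
noncomputable def liftU {R : Type u} [CommRing R] (f : R →+* S) (v : UGen m → S) (H : Sat v) :
    URing R m →+* S :=
  Ideal.Quotient.lift _ (eval₂Hom f v) (fun p hp => by
    induction hp using Submodule.span_induction with
    | mem q hq =>
      rcases hq with ((⟨⟨⟨i, j⟩, h⟩, rfl⟩ | ⟨⟨⟨i, j⟩, h⟩, rfl⟩) | ⟨⟨⟨i, j⟩, h⟩, rfl⟩) |
        ⟨⟨⟨i, j, k⟩, h₁, h₂, h₃⟩, rfl⟩
      · simp only [map_sub, map_add, eval₂Hom_X']
        exact sub_eq_zero.2 (H.lin i j h)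
      · simp only [map_sub, map_add, map_mul, eval₂Hom_X']
        exact sub_eq_zero.2 (H.qc i j h)
      · simp only [map_sub, map_add, map_mul, eval₂Hom_X']
        exact sub_eq_zero.2 (H.qcb i j h)
      · simp only [map_sub, map_add, map_mul, eval₂Hom_X']
        exact sub_eq_zero.2 (H.tri i j k h₁ h₂ h₃)
    | zero => simp
    | add x y _ _ hx hy => rw [map_add, hx, hy, add_zero]
    | smul r x _ hx => rw [smul_eq_mul, map_mul, hx, mul_zero])

lemma liftU_ugen {R : Type u} [CommRing R] (f : R →+* S) (v : UGen m → S) (H : Sat v)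
    (g : UGen m) : liftU f v H (ugen R m g) = v g := by
  rw [ugen, liftU, Ideal.Quotient.lift_mk, eval₂Hom_X']

lemma liftU_C {R : Type u} [CommRing R] (f : R →+* S) (v : UGen m → S) (H : Sat v)
    (r : R) : liftU f v H (Ideal.Quotient.mk _ (C r)) = f r := by
  rw [liftU, Ideal.Quotient.lift_mk, eval₂Hom_C]

/-- The map out of `CurveAlg` given by a point of the curve. -/
noncomputable def liftC {A : Type u} [CommRing A] (f : A →+* S) (v : UGen m → A) (X2 X3 : S) (Xi : Fin m → S)
    (H : CSat (fun g => f (v g)) X2 X3 Xi) : CurveAlg A m v →+* S :=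
  Ideal.Quotient.lift _ (eval₂Hom f (fun y => match y with
      | .x2 => X2
      | .x3 => X3
      | .xi i => Xi i)) (fun p hp => by
    induction hp using Submodule.span_induction with
    | mem q hq =>
      rcases hq with (⟨i, rfl⟩ | ⟨i, rfl⟩) | ⟨⟨⟨i, j⟩, h⟩, rfl⟩
      · simp only [map_sub, map_add, map_mul, eval₂Hom_X', eval₂Hom_C]
        exact sub_eq_zero.2 (H.r1 i)
      · simp only [map_sub, map_add, map_mul, eval₂Hom_X', eval₂Hom_C]
        exact sub_eq_zero.2 (H.r2 i)
      · simp only [map_sub, map_add, map_mul, eval₂Hom_X', eval₂Hom_C]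
        exact sub_eq_zero.2 (H.r3 i j h)
    | zero => simp
    | add x y _ _ hx hy => rw [map_add, hx, hy, add_zero]
    | smul r x _ hx => rw [smul_eq_mul, map_mul, hx, mul_zero])

lemma curve_hom_ext {A : Type u} [CommRing A] {v : UGen m → A} {f g : CurveAlg A m v →+* S}
    (hC : ∀ a, f (Ideal.Quotient.mk _ (C a)) = g (Ideal.Quotient.mk _ (C a)))
    (hX : ∀ y, f (Ideal.Quotient.mk _ (X y)) = g (Ideal.Quotient.mk _ (X y))) : f = g :=
  Ideal.Quotient.ringHom_ext (MvPolynomial.ringHom_ext hC hX)

lemma uring_hom_ext {R : Type u} [CommRing R] {f g : URing R m →+* S}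
    (hC : ∀ a, f (Ideal.Quotient.mk _ (C a)) = g (Ideal.Quotient.mk _ (C a)))
    (hX : ∀ y, f (ugen R m y) = g (ugen R m y)) : f = g :=
  Ideal.Quotient.ringHom_ext (MvPolynomial.ringHom_ext hC hX)

lemma main {R : Type u} [CommRing R] (m : ℕ) :
    ∃ e : CurveAlg (URing R m) m (ugen R m) ≃+* URing R (m + 1),
      (∀ r : URing R m, e (Ideal.Quotient.mk _ (C r)) = uincl R m r) ∧
      e (Ideal.Quotient.mk (Ideal.span (CRel (URing R m) m (ugen R m))) (X CVar.x2)) =
        ugen R (m + 1) (UGen.ci (Fin.last m)) ∧
      e (Ideal.Quotient.mk (Ideal.span (CRel (URing R m) m (ugen R m))) (X CVar.x3)) =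
        ugen R (m + 1) UGen.a + ugen R (m + 1) (UGen.ci (Fin.last m)) +
          ugen R (m + 1) (UGen.cbi (Fin.last m)) ∧
      ∀ i : Fin m,
        e (Ideal.Quotient.mk (Ideal.span (CRel (URing R m) m (ugen R m))) (X (CVar.xi i))) =
        ugen R (m + 1) (UGen.cij i.castSucc (Fin.last m) (Fin.castSucc_lt_last i).ne) := by
  have hu : ∀ g, (uincl R m).toRingHom (ugen R m g) = ugen R (m + 1) g.castSucc := by
    intro g
    simp [ugen, uincl]
  have hc0 : CSat (fun g => (uincl R m).toRingHom (ugen R m g))
      (ugen R (m + 1) (.ci (Fin.last m)))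
      (ugen R (m + 1) .a + ugen R (m + 1) (.ci (Fin.last m)) + ugen R (m + 1) (.cbi (Fin.last m)))
      (fun i => ugen R (m + 1) (.cij i.castSucc (Fin.last m) (Fin.castSucc_lt_last i).ne)) := by
    simp only [hu]
    exact (sat_ugen R (m + 1)).toCSat
  let φ : CurveAlg (URing R m) m (ugen R m) →+* URing R (m + 1) :=
    liftC (uincl R m).toRingHom (ugen R m) _ _ _ hc0
  let κ : URing R m →+* CurveAlg (URing R m) m (ugen R m) :=
    (Ideal.Quotient.mk _).comp C
  have hv : Sat (fun g => κ (ugen R m g)) := by
    obtain ⟨a, b, c, d⟩ := sat_ugen R m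
    refine ⟨fun i j h => ?_, fun i j h => ?_, fun i j h => ?_, fun i j k h₁ h₂ h₃ => ?_⟩
    · simpa only [map_add] using congrArg κ (a i j h)
    · simpa only [map_add, map_sub, map_mul] using congrArg κ (b i j h)
    · simpa only [map_add, map_sub, map_mul] using congrArg κ (c i j h)
    · simpa only [map_add, map_sub, map_mul] using congrArg κ (d i j k h₁ h₂ h₃)
  let ψ : URing R (m + 1) →+* CurveAlg (URing R m) m (ugen R m) :=
    liftU (κ.comp ((Ideal.Quotient.mk _).comp C)) _
      (hv.ext (csat_curve (URing R m) m (ugen R m)))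
  have hφX : ∀ y, φ (Ideal.Quotient.mk _ (X y)) = _ := fun y => by
    show liftC _ _ _ _ _ _ _ = _
    rw [liftC, Ideal.Quotient.lift_mk, eval₂Hom_X']
  have hφC : ∀ r, φ (Ideal.Quotient.mk _ (C r)) = uincl R m r := fun r => by
    show liftC _ _ _ _ _ _ _ = _
    rw [liftC, Ideal.Quotient.lift_mk, eval₂Hom_C]
    rfl
  have hψ : ∀ g, ψ (ugen R (m + 1) g) = _ := fun g => liftU_ugen _ _ _ g
  have h1 : φ.comp ψ = RingHom.id _ := by
    refine uring_hom_ext (fun a => ?_) (fun g => ?_)
    · show φ (liftU _ _ _ _) = _
      rw [liftU_C]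
      show φ (Ideal.Quotient.mk _ (C (Ideal.Quotient.mk _ (C a)))) = _
      rw [hφC]
      simp [uincl]
      rfl
    · show φ (ψ (ugen R (m + 1) g)) = ugen R (m + 1) g
      rw [hψ g]
      cases g with
      | a => exact (hφC _).trans (hu _)
      | c => exact (hφC _).trans (hu _)
      | cb => exact (hφC _).trans (hu _)
      | ci i =>
        induction i using Fin.lastCases with
        | last => simp [ext', hφX]
        | cast a => simp only [ext', Fin.lastCases_castSucc]; exact (hφC _).trans (hu _)
      | cbi i =>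
        induction i using Fin.lastCases with
        | last =>
          simp only [ext', Fin.lastCases_last, map_sub]
          rw [hφX, hφX, show φ (κ (ugen R m .a)) = ugen R (m + 1) .a from (hφC _).trans (hu _)]
          ring
        | cast a => simp only [ext', Fin.lastCases_castSucc]; exact (hφC _).trans (hu _)
      | cij i j h =>
        induction i using Fin.lastCases with
        | last =>
          induction j using Fin.lastCases with
          | last => exact absurd rfl h
          | cast b =>
            simp only [ext', Fin.lastCases_last, Fin.lastCases_castSucc, map_sub, map_add]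
            rw [hφX, hφX, show φ (κ (ugen R m (.ci b))) = _ from (hφC _).trans (hu _),
              show φ (κ (ugen R m (.cbi b))) = _ from (hφC _).trans (hu _)]
            simp only [UGen.castSucc]
            linear_combination -(sat_ugen R (m + 1)).lin (Fin.last m) b.castSucc h
        | cast a =>
          induction j using Fin.lastCases with
          | last => simp [ext', hφX]
          | cast b =>
            have hab : a ≠ b := fun e => h (by rw [e])
            simp only [ext', Fin.lastCases_castSucc, dif_pos hab]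
            exact (hφC _).trans (hu _)
  have h2 : ψ.comp φ = RingHom.id _ := by
    refine curve_hom_ext (fun r => ?_) (fun y => ?_)
    · show ψ (φ (Ideal.Quotient.mk _ (C r))) = _
      rw [hφC]
      refine RingHom.congr_fun (uring_hom_ext (f := ψ.comp (uincl R m).toRingHom) (g := κ)
        (fun a => ?_) (fun g => ?_)) r
      · show ψ (uincl R m (Ideal.Quotient.mk _ (C a))) = _
        rw [show uincl R m (Ideal.Quotient.mk _ (C a)) = Ideal.Quotient.mk _ (C a) by
          simp [uincl]
          rfl]
        exact liftU_C _ _ _ a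
      · show ψ ((uincl R m).toRingHom (ugen R m g)) = _
        rw [hu, hψ, ext'_castSucc]
    · show ψ (φ (Ideal.Quotient.mk _ (X y))) = _
      rw [hφX]
      cases y with
      | x2 => rw [hψ]; simp [ext']
      | x3 => simp only [map_add, hψ]; simp [ext']
      | xi i => rw [hψ]; simp [ext']
  refine ⟨RingEquiv.ofRingHom φ ψ h1 h2, hφC, hφX _, hφX _, fun i => hφX _⟩

end helpers

/-- Let R be a commutative ring and m ≥ 1, so that n = m + 3 ≥ 4. Consider the projection U_{n+1} → U_n
forgetting the coordinates c_{n+1}, c̄_{n+1}, c_{i,n+1}, c_{n+1,i}, i.e. the ring map O(U_n) →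
O(U_{n+1}) sending each generator to the generator with the same indices, and the affine curve C_n →
U_n, i.e. the curve algebra over O(U_n) whose constants a, c, c̄, c_i, c̄_i, c_{ij} are the
generators of O(U_n) themselves. Then x_2 ↦ c_{n+1}, x_3 ↦ a + c_{n+1} + c̄_{n+1}, x_i ↦ c_{i,n+1}
defines an isomorphism O(C_n) ≅ O(U_{n+1}) over O(U_n): there is a ring isomorphism with these
values on the variables whose composite with the structure map O(U_n) → O(C_n) is the projection's
ring map. -/
theorem result (R : Type u) [CommRing R] (m : ℕ) (hm : 1 ≤ m) :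
    ∃ e : CurveAlg (URing R m) m (ugen R m) ≃+* URing R (m + 1),
      (∀ r : URing R m, e (algebraMap (URing R m) (CurveAlg (URing R m) m (ugen R m)) r) = uincl R m r) ∧
      e (Ideal.Quotient.mk (Ideal.span (CRel (URing R m) m (ugen R m))) (MvPolynomial.X CVar.x2)) =
        ugen R (m + 1) (UGen.ci (Fin.last m)) ∧
      e (Ideal.Quotient.mk (Ideal.span (CRel (URing R m) m (ugen R m))) (MvPolynomial.X CVar.x3)) =
        ugen R (m + 1) UGen.a + ugen R (m + 1) (UGen.ci (Fin.last m)) + ugen R (m + 1) (UGen.cbi (Fin.last m)) ∧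
      ∀ i : Fin m, e (Ideal.Quotient.mk (Ideal.span (CRel (URing R m) m (ugen R m))) (MvPolynomial.X (CVar.xi i))) =
        ugen R (m + 1) (UGen.cij i.castSucc (Fin.last m) (Fin.castSucc_lt_last i).ne) := by
  exact main m

end Groth.Agent.S18252
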