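import Groth.Statements.S1527
import Groth.Agent.SuppZero.Basic
import Groth.Agent.CohFinite.Serre
import Groth.Agent.CohQC.QuasiAffine
import Groth.Agent.TMul.GlobGen


set_option autoImplicit false
universe u
open CategoryTheory CategoryTheory.Limits AlgebraicGeometry
open Variety

set_option backward.isDefEq.respectTransparency false
namespace Groth.Agent.S1527

/-- On a proper scheme over a field, a coherent module whose support has dimension at most zero is
globally generated (a quotient of a free module). -/
theorem result (k : Type u) [Field k] (X : Scheme.{u}) [X.Over (Spec (CommRingCat.of k))] [IsProper (X ↘ (Spec (CommRingCat.of k)))]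
    (F : X.Modules) (hF : Coh.IsCoh F) (hsupp : topologicalKrullDim (CohB1.support F) ≤ 0) :
    Curv2.IsGloballyGenerated F := by
  haveI : IsLocallyNoetherian X := LocallyOfFiniteType.isLocallyNoetherian (X ↘ Spec (CommRingCat.of k))
  haveI : CompactSpace X := QuasiCompact.compactSpace_of_compactSpace (X ↘ Spec (CommRingCat.of k))
  haveI : IsNoetherian X := {}
  refine TMul.isGloballyGenerated_of_genOn (hG := hF.1) fun x => ?_
  obtain ⟨D, hD, hxD⟩ := Groth.Agent.QC.exists_affine_mem x
  refine ⟨D, hD, hxD, eq_top_iff.mpr fun s _ => ?_⟩
  obtain ⟨a, ha⟩ := Groth.Agent.SuppZero.exists_extend_global F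
    (Groth.Agent.SuppZero.isClosed_of_subset (Groth.Agent.QC.isClosed_support hF.2) hsupp) D s
  exact Submodule.subset_span ⟨a, ha⟩

end Groth.Agent.S1527
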