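import Groth.Statements.S15848
import Groth.Agent.ElemMod.Kernel
import Groth.Agent.SmLocalST.SmoothField
import Groth.Agent.K0Coh.Basic

set_option autoImplicit false
universe u
open CategoryTheory CategoryTheory.Limits AlgebraicGeometry
open Surf

set_option backward.isDefEq.respectTransparency false
set_option backward.isDefEq.respectTransparency.types false

set_option backward.isDefEq.respectTransparency false
set_option backward.isDefEq.respectTransparency.types false
open Opposite Groth.Agent

namespace Groth.Agent.S15848

/-- Let k be an algebraically closed field of characteristic zero and S a smooth surface over k (an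
integral k-scheme, smooth over k, of dimension two). Let j : C → S be a closed immersion with C
integral of dimension one, M a coherent O_C-module whose stalks are torsion-free modules over the
local rings of C, F a finite locally free O_S-module and f : F → j_*M an epimorphism of O_S-modules.
Then the kernel of f, the elementary transformation of F along f, is a finite locally free
O_S-module. (The published setting takes S projective; the argument is local on S and projectivity
is not assumed here.) -/
theorem result
    (k : Type u) [Field k] [IsAlgClosed k] [CharZero k]
    (S : Scheme.{u}) [S.Over (Spec (CommRingCat.of k))] [IsIntegral S]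
    [Smooth (S ↘ Spec (CommRingCat.of k))] (hdim : topologicalKrullDim S = 2)
    (C : Scheme.{u}) (j : C ⟶ S) [IsClosedImmersion j] [IsIntegral C]
    (hC : topologicalKrullDim C = 1)
    (M : C.Modules) (hM : Coh.IsCoh M) (hMtf : TorSh.IsTorsionFree M)
    (F : S.Modules) (hF : FlatMod.IsFinLocFree F)
    (f : F ⟶ (Coh.push j).obj M) [Epi f] :
    FlatMod.IsFinLocFree (kernel f) := by
  haveI : IsLocallyNoetherian S := LocallyOfFiniteType.isLocallyNoetherian (S ↘ Spec (CommRingCat.of k))
  haveI : Epi (C := S.Modules) f := inferInstance
  have hFc := K0Coh.isCoh_of_isFinLocFree hF
  have hGc : Coh.IsCoh ((Scheme.Modules.pushforward j).obj M) := SerrePn.isCoh_push j hM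
  refine RegDual.isFinLocFree_of_free_stalk (QC.isCoh_kernel hFc hGc.1 f) fun x => ?_
  haveI := SmLocalST.isRegularLocalRing_stalk_of_smooth_field (S ↘ Spec (CommRingCat.of k)) x
  haveI := LocFree.free_stalk_of_isFinLocFree hF x
  haveI := RegDual.finite_stalk hFc x
  exact ElemMod.free_stalk_kernel f x (ElemMod.pdLE_one_push j hdim.le hC M hM hMtf x)

end Groth.Agent.S15848
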