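import Groth.Statements.S2344
import Groth.Agent.RatExt.Points

set_option autoImplicit false
set_option linter.style.haveILetI false
universe u
open CategoryTheory CategoryTheory.Limits AlgebraicGeometry
open EGA2

namespace Groth.Agent.S2344

/-- Let X be a normal algebraic curve over k (separated, of finite type, nonempty, local rings at closed
points of dimension one, all local rings integrally closed domains), Y proper over k, U a dense open
of X and g : U → Y a k-morphism. Then g extends uniquely to a k-morphism X → Y. -/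
theorem result (k : Type u) [Field k] (X Y : Scheme.{u}) [X.Over (Spec (CommRingCat.of k))] [Y.Over (Spec (CommRingCat.of k))]
    [LocallyOfFiniteType (X ↘ (Spec (CommRingCat.of k)))] [QuasiCompact (X ↘ (Spec (CommRingCat.of k)))] [IsSeparated (X ↘ (Spec (CommRingCat.of k)))] [Nonempty X] (hcurve : (∀ x : X, IsClosed ({x} : Set X) → ringKrullDim (X.presheaf.stalk x) = 1)) (hnorm : Pi1.IsNormalScheme X)
    [IsProper (Y ↘ (Spec (CommRingCat.of k)))] (U : X.Opens) (hU : Dense (U : Set X)) (g : (U : Scheme.{u}) ⟶ Y)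
    (hg : g ≫ (Y ↘ (Spec (CommRingCat.of k))) = U.ι ≫ (X ↘ (Spec (CommRingCat.of k)))) :
    ∃! g' : X ⟶ Y, U.ι ≫ g' = g ∧ g' ≫ (Y ↘ (Spec (CommRingCat.of k))) = X ↘ (Spec (CommRingCat.of k)) := by
  let pX := X ↘ Spec (CommRingCat.of k)
  let pY := Y ↘ Spec (CommRingCat.of k)
  haveI : IsLocallyNoetherian X := LocallyOfFiniteType.isLocallyNoetherian pX
  haveI : IsReduced X :=
    haveI : ∀ x, _root_.IsReduced (X.presheaf.stalk x) := fun x => by
      haveI := (hnorm x).1; infer_instance
    isReduced_of_isReduced_stalk X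
  obtain ⟨U', hUU', g', h1, h2, h3⟩ := Groth.Agent.RatExt.exists_hom_points pY pX U hU g hg
    {x | IsClosed ({x} : Set X)} (fun x hx => ⟨(hnorm x).1, by
      haveI := (hnorm x).1
      haveI := (hnorm x).2
      exact Groth.Agent.RatExt.valuationRing_of_dim_le_one (hcurve x hx).le⟩)
  haveI : JacobsonSpace X := LocallyOfFiniteType.jacobsonSpace pX
  obtain rfl : U' = ⊤ := by
    by_contra hne
    obtain ⟨z, hz⟩ : ((U' : Set X)ᶜ).Nonempty := Set.nonempty_compl.2 fun h => hne (TopologicalSpace.Opens.ext h)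
    obtain ⟨c, hc, hc'⟩ := nonempty_inter_closedPoints ⟨z, hz⟩ U'.isOpen.isClosed_compl.isLocallyClosed
    exact hc (h3 c hc')
  refine ⟨X.topIso.inv ≫ g', ⟨?_, ?_⟩, fun y hy => ?_⟩
  · have : U.ι ≫ X.topIso.inv = X.homOfLE hUU' := by
      rw [← cancel_mono (⊤ : X.Opens).ι, Category.assoc, Scheme.homOfLE_ι]
      simp
    rw [reassoc_of% this]
    exact h2
  · rw [Category.assoc, h1]
    exact X.topIso.inv_hom_id_assoc pX
  · rw [← cancel_epi X.topIso.hom]
    refine Eq.trans ?_ (X.topIso.hom_inv_id_assoc g').symm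
    refine Groth.Agent.RatExt.hom_ext_dense pY hUU' hU _ _ ?_ ?_
    · rw [Category.assoc, hy.2, h1]; rfl
    · rw [h2, Scheme.topIso_hom, Scheme.homOfLE_ι_assoc]; exact hy.1

end Groth.Agent.S2344
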