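import Groth.Statements.S5003
import Groth.Agent.KoszulLib.NoethQuasi
import Groth.Agent.KoszulLib.Kinds
import Groth.Agent.KoszulLib.SchImm

set_option autoImplicit false
universe u
open CategoryTheory CategoryTheory.Limits AlgebraicGeometry TopologicalSpace
open Nrm16

namespace Groth.Agent.S5003

/-- Let X be a locally Noetherian scheme and j : Y ⟶ X a morphism. Then j is a regular immersion if and
only if j is a quasi-regular immersion. -/
theorem result {X Y : Scheme.{u}} [IsLocallyNoetherian X] (j : Y ⟶ X) :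
    RegImm.IsRegularImmersion RegImm.Kind.regular j ↔ RegImm.IsRegularImmersion RegImm.Kind.quasi j := by
  refine ⟨fun h => KoszulLib.isRegularImmersion_mono (fun _ _ _ h => KoszulLib.quasi_seq_of_h1
    (KoszulLib.h1_seq_of_koszul (KoszulLib.koszul_seq_of_regular h))) h, fun h => ⟨h.1, fun z => ?_⟩⟩
  obtain ⟨U, hz, hc, rs, hrs, hker⟩ := h.2 z
  obtain ⟨a, hza, hreg⟩ := KoszulLib.exists_regular_basicOpen U (j z) hz rs hrs (by
    rw [← hker]
    intro b hb
    rw [← KoszulLib.comap_primeIdealOf j U ⟨_, KoszulLib.isAffineOpen_preimage j hc⟩ le_rfl z hz, Ideal.mem_comap,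
      ← Scheme.Hom.app_eq_appLE, show (j.app U.1).hom b = 0 from hb]
    exact zero_mem _)
  obtain ⟨hcg, hkg⟩ := KoszulLib.ker_app_of_le j U hc (X.affineBasicOpen a) (X.basicOpen_le a)
  refine ⟨X.affineBasicOpen a, hza, hcg, _, hreg, hkg.trans ?_⟩
  rw [hker]
  exact Ideal.map_ofList _ _

end Groth.Agent.S5003
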