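import Groth.Statements.S8855
import Groth.Agent.KoszulLib.SchImm
import Groth.Agent.KoszulLib.SchStalk
import Groth.Agent.KoszulLib.NoethQuasi
import Groth.Agent.CotT.RegQuot
import Groth.Agent.S5003
import Groth.Agent.S8905
import Groth.Agent.SerreReg.Descent
-- import your own Groth.Agent.* helpers here

set_option autoImplicit false
set_option backward.isDefEq.respectTransparency false
universe u
open CategoryTheory CategoryTheory.Limits AlgebraicGeometry TopologicalSpace
open SDiv

namespace Groth.Agent.S8855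

open Groth.Agent

open Groth.Agent.KoszulLib in
/-- An ideal generated by a weakly regular sequence at a prime is Koszul-regular near it. -/
lemma kAt_of_local {R : Type u} [CommRing R] [IsNoetherianRing R] (P : Ideal R) [P.IsPrime]
    (L : Type u) [CommRing L] [Algebra R L] [IsLocalization.AtPrime L P] (I : Ideal R) (hIP : I ≤ P)
    {n : ℕ} (b : Fin n → L) (hb : CotT.IsWReg b) (hspan : Ideal.span (Set.range b) = I.map (algebraMap R L)) :
    KAt I P := by
  classical
  haveI := IsLocalization.isNoetherianRing P.primeCompl L inferInstance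
  haveI := IsLocalization.AtPrime.isLocalRing L P
  have hb' : ∀ i, ∃ a ∈ I, ∃ s : P.primeCompl, b i * algebraMap R L s = algebraMap R L a := fun i => by
    have hi : b i ∈ I.map (algebraMap R L) := hspan ▸ Ideal.subset_span ⟨i, rfl⟩
    obtain ⟨⟨⟨a, ha⟩, s⟩, he⟩ := (IsLocalization.mem_map_algebraMap_iff P.primeCompl L).1 hi
    exact ⟨a, ha, s, he⟩
  choose a ha s hs using hb'
  have hspan' : Ideal.span (Set.range (algebraMap R L ∘ a)) = I.map (algebraMap R L) := by
    refine le_antisymm (Ideal.span_le.2 ?_) (hspan ▸ Ideal.span_le.2 ?_)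
    · rintro _ ⟨i, rfl⟩
      exact Ideal.mem_map_of_mem _ (ha i)
    · rintro _ ⟨i, rfl⟩
      refine (Ideal.mul_unit_mem_iff_mem _ (IsLocalization.map_units L (s i))).1 ?_
      rw [hs i]
      exact Ideal.subset_span ⟨i, rfl⟩
  have hw : RingTheory.Sequence.IsWeaklyRegular L (List.ofFn (algebraMap R L ∘ a)) :=
    S5803.result L n _ (fun i => by
      rw [Ring.jacobson_eq_sInf_isMaximal, Submodule.mem_sInf]
      intro m hm
      rw [IsLocalRing.eq_maximalIdeal hm]
      exact (IsLocalization.AtPrime.to_map_mem_maximal_iff L P (a i)).2 (hIP (ha i)))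
      (RegIdeal.isQuasiRegular_of_span_eq b _ (RegIdeal.isQuasiRegular_of_wReg hb) (hspan'.trans hspan.symm))
  have hL := (RegIdeal.wReg_iff _).2 hw
  -- spread out
  let J : Fin n → Ideal R := fun i => Ideal.span (a '' Set.Iio i)
  let M : Fin n → Ideal R := fun i => (J i).colon {a i}
  have hloc : ∀ i, ∀ x ∈ M i, ∃ t ∉ P, t * x ∈ J i := fun i x hx => by
    have h1 : algebraMap R L (a i) * algebraMap R L x ∈ Ideal.span ((algebraMap R L ∘ a) '' Set.Iio i) := by
      rw [← map_mul, Set.image_comp, ← Ideal.map_span, mul_comm]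
      exact Ideal.mem_map_of_mem _ (Submodule.mem_colon_singleton.1 hx)
    have h2 := hL i _ h1
    rw [Set.image_comp, ← Ideal.map_span, IsLocalization.algebraMap_mem_map_algebraMap_iff P.primeCompl] at h2
    obtain ⟨t, ht, htx⟩ := h2
    exact ⟨t, ht, htx⟩
  have hgen : ∀ x ∈ I, ∃ t ∉ P, t * x ∈ Ideal.span (Set.range a) := fun x hx => by
    have h2 : algebraMap R L x ∈ Ideal.span (Set.range (algebraMap R L ∘ a)) :=
      hspan' ▸ Ideal.mem_map_of_mem _ hx
    rw [Set.range_comp, ← Ideal.map_span, IsLocalization.algebraMap_mem_map_algebraMap_iff P.primeCompl] at h2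
    obtain ⟨t, ht, htx⟩ := h2
    exact ⟨t, ht, htx⟩
  -- one element killing finitely many obstructions
  have clear : ∀ (A B : Ideal R), (∀ x ∈ A, ∃ t ∉ P, t * x ∈ B) → ∃ t ∉ P, ∀ x ∈ A, t * x ∈ B := by
    intro A B h
    obtain ⟨T, hT⟩ := (IsNoetherian.noetherian A : A.FG)
    choose t ht htx using fun x : T => h x (hT ▸ Ideal.subset_span x.2)
    refine ⟨∏ x, t x, fun hm => ?_, fun x hx => ?_⟩
    · obtain ⟨x, -, hx⟩ := Ideal.IsPrime.prod_mem_iff.1 hm
      exact ht x hx
    · have : A ≤ B.colon {∏ x, t x} := by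
        rw [← hT]
        refine Submodule.span_le.2 fun z hz => Submodule.mem_colon_singleton.2 ?_
        obtain ⟨e, he⟩ := Finset.dvd_prod_of_mem t (Finset.mem_univ (⟨z, hz⟩ : T))
        rw [he, smul_eq_mul, show z * (t ⟨z, hz⟩ * e) = e * (t ⟨z, hz⟩ * z) by ring]
        exact Ideal.mul_mem_left _ _ (htx ⟨z, hz⟩)
      have h' := Submodule.mem_colon_singleton.1 (this hx)
      rwa [smul_eq_mul, mul_comm] at h'
  choose t ht htM using fun i => clear (M i) (J i) (hloc i)
  obtain ⟨t₀, ht₀, ht₀I⟩ := clear I (Ideal.span (Set.range a)) hgen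
  let g := t₀ * ∏ i, t i
  have hg : g ∉ P := fun hm => by
    rcases Ideal.IsPrime.mem_or_mem inferInstance hm with h | h
    · exact ht₀ h
    · obtain ⟨i, -, hi⟩ := Ideal.IsPrime.prod_mem_iff.1 h
      exact ht i hi
  let S := Localization.Away g
  refine kAt_of_away hg S (f := algebraMap R S ∘ a) (acyclic_of_isWeaklyRegular' ?_) ?_
  · refine (RegIdeal.wReg_iff _).1 fun i y hy => ?_
    obtain ⟨⟨x, u⟩, hu⟩ := IsLocalization.surj (Submonoid.powers g) y
    refine (Ideal.mul_unit_mem_iff_mem _ (IsLocalization.map_units S u)).1 ?_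
    rw [hu, Set.image_comp, ← Ideal.map_span,
      IsLocalization.algebraMap_mem_map_algebraMap_iff (Submonoid.powers g)]
    have h1 := Ideal.mul_mem_right (algebraMap R S (u : R)) _ hy
    rw [mul_assoc, hu, Function.comp_apply, ← map_mul, Set.image_comp, ← Ideal.map_span,
      IsLocalization.algebraMap_mem_map_algebraMap_iff (Submonoid.powers g)] at h1
    obtain ⟨_, ⟨k, rfl⟩, hk⟩ := h1
    have hxM : g ^ k * x ∈ M i := Submodule.mem_colon_singleton.2 (by
      rw [smul_eq_mul, show g ^ k * x * a i = g ^ k * (a i * x) by ring]; exact hk)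
    refine ⟨g * g ^ k, ⟨k + 1, pow_succ' g k⟩, ?_⟩
    obtain ⟨e, he⟩ := Finset.dvd_prod_of_mem t (Finset.mem_univ i)
    have key : ∀ w : R, t i * w ∈ J i → g * w ∈ J i := fun w hw => by
      show t₀ * (∏ i, t i) * w ∈ J i
      rw [he, show t₀ * (t i * e) * w = (t₀ * e) * (t i * w) by ring]
      exact Ideal.mul_mem_left _ _ hw
    rw [mul_assoc]
    exact key _ (htM i _ hxM)
  · refine le_antisymm (Ideal.map_le_iff_le_comap.2 fun x hx => ?_) (Ideal.span_le.2 ?_)
    · rw [Ideal.mem_comap]
      refine (Ideal.mul_unit_mem_iff_mem (Ideal.span (Set.range (algebraMap R S ∘ a)))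
        (x := algebraMap R S x) (IsLocalization.Away.algebraMap_isUnit (S := S) g)).1 ?_
      rw [← map_mul, Set.range_comp, ← Ideal.map_span]
      refine Ideal.mem_map_of_mem _ ?_
      show x * (t₀ * _) ∈ _
      rw [← mul_assoc, mul_comm x t₀]
      exact Ideal.mul_mem_right _ _ (ht₀I x hx)
    · rintro _ ⟨i, rfl⟩
      exact Ideal.mem_map_of_mem _ (ha i)

/-- Let i : Z ⟶ X be an immersion of schemes with Z and X regular (locally Noetherian, all local rings
regular local rings). Then i is a regular immersion. -/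
theorem result {Z X : Scheme.{u}} (i : Z ⟶ X) [IsImmersion i]
    [IsLocallyNoetherian X] [IsLocallyNoetherian Z]
    (hX : ∀ x : ↥X, IsRegularLocalRing ↑(X.presheaf.stalk x)) (hZ : ∀ z : ↥Z, IsRegularLocalRing ↑(Z.presheaf.stalk z)) :
    RegImm.IsRegularImmersion RegImm.Kind.regular i := by
  have hk : RegImm.IsRegularImmersion RegImm.Kind.koszul i := by
    rw [KoszulLib.isRegularImmersion_iff]
    intro U z hz hc
    haveI : IsNoetherianRing Γ(X, U.1) := IsLocallyNoetherian.component_noetherian U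
    let x := i z
    letI := (X.presheaf.germ U.1 x hz).hom.toAlgebra
    haveI := U.2.isLocalization_stalk ⟨x, hz⟩
    haveI := hX x
    haveI := hZ z
    let n := RingHom.ker (i.stalkMap z).hom
    haveI : IsRegularRing (X.presheaf.stalk x ⧸ n) :=
      haveI : IsRegularLocalRing (X.presheaf.stalk x ⧸ n) := IsRegularLocalRing.of_ringEquiv
        (RingHom.quotientKerEquivOfSurjective (i.stalkMap_surjective z)).symm
      SerreReg.isRegularRing_of_isRegularLocalRing _
    obtain ⟨r, b, hb, hw⟩ := CotT.exists_wreg_generators n (RingHom.ker_ne_top _)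
    have hn : n = (RingHom.ker (i.app U.1).hom).map (algebraMap Γ(X, U.1) (X.presheaf.stalk x)) :=
      KoszulLib.ker_stalkMap_eq i z U hc hz
    refine kAt_of_local _ (X.presheaf.stalk x) _ (fun f hf => ?_) b hw (hb.trans hn)
    refine (IsLocalization.AtPrime.to_map_mem_maximal_iff (X.presheaf.stalk x)
      (U.2.primeIdealOf ⟨x, hz⟩).asIdeal f).1 ?_
    exact IsLocalRing.le_maximalIdeal (RingHom.ker_ne_top _) (hn.ge (Ideal.mem_map_of_mem _ hf))
  exact (Groth.Agent.S5003.result i).2 ((Groth.Agent.S8905.result i).2.2 ((Groth.Agent.S8905.result i).2.1 hk))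

end Groth.Agent.S8855
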