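import Groth.Statements.S17180
import Groth.Agent.Nakai.FibreDeg
import Groth.Agent.Nakai.HodgeNum
import Groth.Agent.Nakai.FibreNef
import Groth.Agent.SurfAmple.Curves
import Groth.Agent.Castel.SurfRes
import Groth.Agent.PlaneBlow.CurveUnion
import Groth.Agent.CurveRR.SmoothPt

set_option backward.isDefEq.respectTransparency false
set_option linter.style.haveILetI false
set_option linter.unusedSectionVars false
-- import your own Groth.Agent.* helpers here

set_option autoImplicit false
universe u
open CategoryTheory CategoryTheory.Limits AlgebraicGeometry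
open Surf

namespace Groth.Agent.S17180

section Helpers

variable (k : Type u) [Field k] {X : Scheme.{u}} [X.Over (Spec (CommRingCat.of k))]
  [IsProper (X ↘ Spec (CommRingCat.of k))] [IsIntegral X] (hdim : topologicalKrullDim X = 2)

include hdim in
/-- Pairing with an effective divisor is computed on the divisor. -/
theorem inter_ideal_eq_D {M : X.Modules} (hM : PicF.IsInvertible M) {Y : X.IdealSheafData}
    (hY : BlowUp.IsEffCartierIdeal Y) : Nakai.inter k M (ClSub.idealMod Y) = Nakai.D k [M] (ClSub.quotMod Y) := by
  haveI := CurveRR.isNoetherian_of_proper k X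
  obtain ⟨M', hM', hMM'⟩ := W7Hull.exists_tensor_inverse hM
  letI : Y.subscheme.Over (Spec (CommRingCat.of k)) := ⟨Y.subschemeι ≫ (X ↘ Spec (CommRingCat.of k))⟩
  have hC : topologicalKrullDim Y.subscheme ≤ ((1 : ℕ) : WithBot ℕ∞) := by
    rw [IsHomeomorph.topologicalKrullDim_eq _ Y.subschemeι.isClosedEmbedding.isEmbedding.toHomeomorph.isHomeomorph,
      Y.range_subschemeι]
    exact SurfAmple.dim_support_le k hdim hY
  have h := Intersect.intNum_curve k Y.subschemeι hC hdim.le
    (by rw [Scheme.IdealSheafData.ker_subschemeι]; exact hY) hM hMM'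
  have e1 := Intersect.euler_quot_twist k Y.subschemeι hM
  have e2 := Intersect.euler_quot_twist k Y.subschemeι (A := Coh.structureModule X) TMul.isInvertible_structureModule
  rw [Scheme.IdealSheafData.ker_subschemeι] at e1 e2 h
  rw [CurveRR.euler_eq_of_iso (TMul.commIso (ClSub.quotMod Y) (Coh.structureModule X) ≪≫ TMul.leftUnitIso _),
    CurveRR.euler_eq_of_iso (DerPerf.pullUnitIso Y.subschemeι)] at e2
  have h2 : (FGA.intNum k X 2 ![ClSub.idealMod Y, M'] (Coh.structureModule X) : ℚ) =
      (Curv2.euler k X (CohB1.tensorMod (ClSub.quotMod Y) M) : ℚ) - Curv2.euler k X (ClSub.quotMod Y) := by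
    rw [h, Curv2.deg, e1, e2]
    simp
  rw [Nakai.intNum_eq_inter k hdim.le,
    Nakai.inter_inv_right k hdim.le hM hMM' ((Groth.Agent.S8914.result Y).2 hY), Nakai.inter_comm] at h2
  rw [Nakai.D_one]
  linarith

include hdim in
/-- Pairing with an effective divisor vanishes if it does on each of its curves. -/
theorem inter_ideal_eq_zero {M : X.Modules} (hM : PicF.IsInvertible M) {Y : X.IdealSheafData}
    (hY : BlowUp.IsEffCartierIdeal Y)
    (h : ∀ ξ ∈ (Y.support : Set X), topologicalKrullDim (closure {ξ} : Set X) = ((1 : ℕ) : WithBot ℕ∞) →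
      Nakai.D k [M] (ClSub.quotMod (SurfAmple.curveOf ξ)) = 0) : Nakai.inter k M (ClSub.idealMod Y) = 0 := by
  haveI := CurveRR.isNoetherian_of_proper k X
  have hl : ∀ N ∈ [M], PicF.IsInvertible N := by simpa using hM
  rw [inter_ideal_eq_D k hdim hM hY]
  refine Intersect.eq_zero_of_pieces (fun G => Nakai.D k [M] G) Y.support
    (fun G hG => by rw [Nakai.D_get]; exact Intersect.alt_isZero k (Nakai.forall_get hl) hG)
    (fun S hS h₁ h₂ h₃ _ => ?_) (fun ξ hξ => ?_) (CurveRR.isCoh_idealMod Y).2 ?_
  · rw [Nakai.D_get, Nakai.D_get, Nakai.D_get, Intersect.χt_add k (Nakai.forall_get hl) hS h₁ h₂ h₃, Intersect.alt_add]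
  · have hle : topologicalKrullDim (closure {ξ} : Set X) ≤ ((1 : ℕ) : WithBot ℕ∞) :=
      (Intersect.dim_closure_le Y.support.isClosed hξ).trans (SurfAmple.dim_support_le k hdim hY)
    rcases hle.lt_or_eq with hlt | heq
    · rw [Nakai.D_get]
      exact Intersect.alt_eq_zero_of_dim k (Devissage.isCoh_A ξ) (Nakai.forall_get hl)
        (lt_of_le_of_lt (Intersect.dim_mono (Devissage.support_A_subset ξ)) hlt)
    · exact h ξ hξ heq
  · intro z hz
    by_contra hn
    refine (Groth.Agent.QC.notMem_support_iff z).2 (fun W hzW s => ?_) hz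
    refine ⟨W ⊓ ⟨(Y.support : Set X)ᶜ, Y.support.isClosed.isOpen_compl⟩, inf_le_left, ⟨hzW, hn⟩, ?_⟩
    refine Groth.Agent.QC.section_eq_of_locally (M := Coh.structureModule Y.subscheme) fun w hw => ?_
    have : Y.subschemeι w ∈ (Y.support : Set X) := by rw [← Y.range_subschemeι]; exact ⟨w, rfl⟩
    exact absurd this hw.2

include hdim in
/-- One module against the structure sheaf of a closed subscheme. -/
theorem intNum_push_eq_D {E : Scheme.{u}} (ι : E ⟶ X) [IsClosedImmersion ι] (L : X.Modules) :
    (FGA.intNum k X 2 ![L] ((Coh.push ι).obj (Coh.structureModule E)) : ℚ) =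
      Nakai.D k [L] (ClSub.quotMod ι.ker) := by
  haveI : IsIso ι.toImage := inferInstance
  haveI := CurveRR.unitToPush_isIso ι.toImage
  have hfac : ι.toImage ≫ ι.imageι = ι := ι.toImage_imageι
  let e : ClSub.quotMod ι.ker ≅ (Coh.push ι).obj (Coh.structureModule E) :=
    (Scheme.Modules.pushforward ι.ker.subschemeι).mapIso (asIso (ClSub.unitToPush ι.toImage)) ≪≫
      ((Scheme.Modules.pushforwardComp ι.toImage ι.imageι).app _) ≪≫
      (Scheme.Modules.pushforwardCongr hfac).app _
  rw [Intersect.intNum_eq_alt k 2 hdim.le, ← Nakai.D_ofFn, Nakai.D_iso k _ e]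
  rfl

omit hdim in
/-- The ideal of an integral closed subscheme is that of the closure of its generic point. -/
theorem ker_eq_curveOf {E : Scheme.{u}} (ι : E ⟶ X) [IsClosedImmersion ι] [IsIntegral E] :
    ι.ker = SurfAmple.curveOf (ι (genericPoint E)) := by
  haveI := StabK3.isIntegral_ker ι
  rw [PlaneBlow.eq_vanishingIdeal_support ι.ker]
  refine congrArg _ (TopologicalSpace.Closeds.ext ?_)
  show (ι.ker.support : Set X) = closure {ι (genericPoint E)}
  rw [StabK3.coe_support_ker, ← Set.image_singleton, ι.isClosedEmbedding.closure_image_eq, genericPoint_closure,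
    Set.image_univ]

end Helpers

/-- Let k be a field, X an integral proper k-scheme of dimension 2 with regular local rings which is
geometrically irreducible over k, C an integral proper smooth k-scheme of dimension 1, and f : X → C
a surjective k-morphism. Let L be an invertible O_X-module whose intersection number with every
vertical integral curve (a closed integral one-dimensional E ⊆ X sent by f to a single point) is 0,
and whose intersection number with some horizontal integral curve P (closed, integral,
one-dimensional, with f(P) not a single point) is 0. Then (L·L) ≤ 0, and if (L·L) = 0 then L is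
numerically trivial: its intersection number with every closed integral curve of X is 0. Here (L·L)
= χ(O_X) − 2χ(L) + χ(L ⊗ L) and the number with a curve Y is χ(O_Y) − χ(L ⊗ O_Y), both packaged as
FGA.intNum. (The published assertion is the positive-definiteness of the pairing −(D·D′) on classes
of divisors of degree 0 on the generic fibre modulo classes of fibre components, after tensoring
with the rationals; this row gives that content for divisor classes up to numerical equivalence,
which is what the printed argument establishes, and leaves aside the identification of the pairing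
with a canonical height. The published setting also takes X to be the relatively minimal regular
model, projective over k, of a smooth projective geometrically irreducible curve of positive genus
over the function field of C, with C projective and geometrically irreducible; this row keeps only
the hypotheses the printed argument uses.) -/
theorem result (k : Type u) [Field k]
    (X : Scheme.{u}) [X.Over (Spec (CommRingCat.of k))] [IsProper (X ↘ Spec (CommRingCat.of k))]
    [IsIntegral X] [GeometricallyIrreducible (X ↘ Spec (CommRingCat.of k))]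
    (hreg : ∀ x : X, IsRegularLocalRing (X.presheaf.stalk x)) (hdim : topologicalKrullDim X = 2)
    (C : Scheme.{u}) [C.Over (Spec (CommRingCat.of k))] [IsProper (C ↘ Spec (CommRingCat.of k))]
    [Smooth (C ↘ Spec (CommRingCat.of k))] [IsIntegral C] (hdimC : topologicalKrullDim C = 1)
    (f : X ⟶ C) [f.IsOver (Spec (CommRingCat.of k))] [Surjective f]
    (L : X.Modules) (hL : PicF.IsInvertible L)
    (hvert : ∀ (E : Scheme.{u}) (ι : E ⟶ X) [IsClosedImmersion ι] [IsIntegral E],
      topologicalKrullDim E = 1 → (Set.range (fun e : E => f (ι e))).Subsingleton →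
      FGA.intNum k X 2 ![L] ((Coh.push ι).obj (Coh.structureModule E)) = 0)
    (P : Scheme.{u}) (ιP : P ⟶ X) [IsClosedImmersion ιP] [IsIntegral P] (hP : topologicalKrullDim P = 1)
    (hPh : (Set.range (fun q : P => f (ιP q))).Nontrivial)
    (hLP : FGA.intNum k X 2 ![L] ((Coh.push ιP).obj (Coh.structureModule P)) = 0) :
    FGA.intNum k X 2 ![L, L] (Coh.structureModule X) ≤ 0 ∧
      (FGA.intNum k X 2 ![L, L] (Coh.structureModule X) = 0 →
        ∀ (Y : Scheme.{u}) (ι : Y ⟶ X) [IsClosedImmersion ι] [IsIntegral Y], topologicalKrullDim Y = 1 →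
          FGA.intNum k X 2 ![L] ((Coh.push ι).obj (Coh.structureModule Y)) = 0) := by
  haveI := CurveRR.isNoetherian_of_proper k X
  haveI := CurveRR.isNoetherian_of_proper k C
  obtain ⟨A, hA⟩ := Castel.exists_ample_surface (X ↘ Spec (CommRingCat.of k)) hdim hreg
  have hd := hdim.le
  haveI : IsProper (f ≫ (C ↘ Spec (CommRingCat.of k))) := by rw [comp_over]; infer_instance
  haveI : IsProper f := IsProper.of_comp f (C ↘ Spec (CommRingCat.of k))
  -- a fibre meeting the horizontal curve
  haveI : CompactSpace P := ιP.isClosedEmbedding.compactSpace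
  obtain ⟨q, -, hq⟩ := (isClosed_univ (X := P)).exists_closed_singleton Set.univ_nonempty
  let c : C := f (ιP q)
  have hc0 : IsClosed ({c} : Set C) := by
    have h := f.isClosedMap _ (ιP.isClosedEmbedding.isClosedMap _ hq)
    rwa [Set.image_singleton, Set.image_singleton] at h
  have hne : f (ιP (genericPoint P)) ≠ c := fun h => by
    obtain ⟨a, ⟨a', rfl⟩, b, ⟨b', rfl⟩, hab⟩ := hPh
    have key : ∀ z : P, f (ιP z) = c := fun z => by
      have h2 : f (ιP (genericPoint P)) ⤳ f (ιP z) :=
        ((genericPoint_specializes z).map ιP.continuous).map f.continuous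
      rw [h] at h2
      exact h2.mem_closed hc0 rfl
    exact hab ((key a').trans (key b').symm)
  have hgc : genericPoint C ≠ c := CurveRR.genericPoint_ne_of_closed (k := k) hdimC hc0
  set I := Scheme.IdealSheafData.vanishingIdeal ⟨{c}, hc0⟩ with hIdef
  have hI : BlowUp.IsEffCartierIdeal I := (Groth.Agent.S8914.result I).1
    (CurveRR.isInvertible_pointIdeal hdimC.le hc0 hgc
      (SmLocalST.isRegularLocalRing_stalk_of_smooth_field (C ↘ Spec (CommRingCat.of k)) c))
  have hJ : BlowUp.IsEffCartierIdeal (I.comap f) := Groth.Agent.S8862.result f I hI fun ξ hξ hin => by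
    rw [← hξ _ (genericPoint_specializes ξ)] at hin
    have hin' : f (genericPoint X) ∈ ({c} : Set C) := by
      have h' : f (genericPoint X) ∈ (I.support : Set C) := hin
      rwa [hIdef, Scheme.IdealSheafData.coe_support_vanishingIdeal] at h'
    obtain ⟨y, hy⟩ := f.surjective (genericPoint C)
    have h2 : f (genericPoint X) ⤳ f y := (genericPoint_specializes y).map f.continuous
    rw [hy, show f (genericPoint X) = c from hin'] at h2
    exact hgc (h2.mem_closed hc0 rfl)
  have hJs : ((I.comap f).support : Set X) = f.base ⁻¹' {c} := by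
    rw [Scheme.IdealSheafData.support_comap]
    show f.base ⁻¹' (I.support : Set C) = _
    rw [hIdef, Scheme.IdealSheafData.coe_support_vanishingIdeal]
    rfl
  have hJi := (Groth.Agent.S8914.result (I.comap f)).2 hJ
  -- the fibre is orthogonal to the vertical classes
  have hLJ : Nakai.inter k L (ClSub.idealMod (I.comap f)) = 0 := by
    refine inter_ideal_eq_zero k hdim hL hJ fun ξ hξ h1 => ?_
    rw [hJs] at hξ
    have h := hvert (SurfAmple.curveOf ξ).subscheme (SurfAmple.curveOf ξ).subschemeι (by
      rw [IsHomeomorph.topologicalKrullDim_eq _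
        (SurfAmple.curveOf ξ).subschemeι.isClosedEmbedding.isEmbedding.toHomeomorph.isHomeomorph,
        Scheme.IdealSheafData.range_subschemeι, SurfAmple.support_curveOf, h1]
      rfl) (by
      rintro _ ⟨a, rfl⟩ _ ⟨b, rfl⟩
      have key : ∀ z, f ((SurfAmple.curveOf ξ).subschemeι z) = c := fun z => by
        have h2 := ((genericPoint_specializes z).map (SurfAmple.curveOf ξ).subschemeι.continuous).map f.continuous
        rw [SurfAmple.genericPoint_curveOf, show f ξ = c from hξ] at h2
        exact h2.mem_closed hc0 rfl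
      exact (key a).trans (key b).symm)
    have h' := intNum_push_eq_D k hdim (SurfAmple.curveOf ξ).subschemeι L
    rw [h, Int.cast_zero, Scheme.IdealSheafData.ker_subschemeι] at h'
    exact h'.symm
  have hJJ : Nakai.inter k (ClSub.idealMod (I.comap f)) (ClSub.idealMod (I.comap f)) = 0 := by
    refine inter_ideal_eq_zero k hdim hJi hJ fun ξ hξ h1 => ?_
    rw [hJs] at hξ
    have h := Nakai.deg_fibre_eq_zero k f hc0 hI hJ (SurfAmple.curveOf ξ) (SurfAmple.support_dim_curveOf h1)
      (by rw [SurfAmple.genericPoint_curveOf]; exact hξ)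
    rw [Nakai.D_one]
    rw [sub_eq_zero] at h
    rw [h, sub_self]
  -- the horizontal curve
  let γ := ιP (genericPoint P)
  have hγd : topologicalKrullDim (closure {γ} : Set X) = ((1 : ℕ) : WithBot ℕ∞) := by
    have h := StabK3.dim_support_ker ιP
    rw [ker_eq_curveOf ιP, SurfAmple.support_curveOf, hP] at h
    exact h
  have hΓ := SurfAmple.cartier_curveOf k hdim hreg hγd
  have hΓi := (Groth.Agent.S8914.result _).2 hΓ
  have hJP : 0 < Nakai.inter k (ClSub.idealMod (I.comap f)) (ClSub.idealMod (SurfAmple.curveOf γ)) := by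
    have h := SurfAmple.ν_pos k hγd hJ (fun hin => hne (hJs.le hin))
      ((genericPoint_specializes q).map ιP.continuous) (hJs.ge rfl)
    rw [SurfAmple.ν, Nakai.degOn_eq, neg_neg] at h
    rwa [inter_ideal_eq_D k hdim hJi hΓ]
  have hLP' : Nakai.inter k L (ClSub.idealMod (SurfAmple.curveOf γ)) = 0 := by
    rw [inter_ideal_eq_D k hdim hL hΓ, ← ker_eq_curveOf ιP, ← intNum_push_eq_D k hdim ιP L, hLP, Int.cast_zero]
  -- the combination orthogonal to the ample class
  have hAA : 0 < Nakai.inter k A A := Nakai.inter_self_pos k hd hA hdim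
  obtain ⟨a, ha⟩ := Nakai.exists_int_inter k L A
  obtain ⟨b, hb⟩ := Nakai.exists_int_inter k (ClSub.idealMod (I.comap f)) A
  have hb0 : (b : ℚ) ≠ 0 := fun h0 => hJP.ne'
    (Nakai.inter_eq_zero k hdim hA hA.1 hJi hΓi hAA (by rw [hb, h0]) hJJ.ge)
  obtain ⟨P', hP', hP'C⟩ := Nakai.exists_signed k hd hL b
  obtain ⟨Q', hQ', hQ'C⟩ := Nakai.exists_signed k hd hJi (-a)
  have hM := TMul.isInvertible_tensorMod hP' hQ'
  have hMC : ∀ N : X.Modules, PicF.IsInvertible N → Nakai.inter k (CohB1.tensorMod P' Q') N =
      (b : ℚ) * Nakai.inter k L N - (a : ℚ) * Nakai.inter k (ClSub.idealMod (I.comap f)) N := fun N hN => by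
    rw [Nakai.inter_tensor k hd hP' hQ' hN, hP'C N hN, hQ'C N hN]
    push_cast
    ring
  have hMA : Nakai.inter k (CohB1.tensorMod P' Q') A = 0 := by rw [hMC A hA.1, ha, hb]; ring
  have hMM : Nakai.inter k (CohB1.tensorMod P' Q') (CohB1.tensorMod P' Q') = (b : ℚ) * b * Nakai.inter k L L := by
    rw [hMC _ hM, Nakai.inter_comm k L (CohB1.tensorMod P' Q'),
      Nakai.inter_comm k (ClSub.idealMod (I.comap f)) (CohB1.tensorMod P' Q'), hMC _ hL, hMC _ hJi,
      Nakai.inter_comm k (ClSub.idealMod (I.comap f)) L, hLJ, hJJ]
    ring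
  have hneg := Nakai.self_nonpos k hdim hM hA hMA
  rw [hMM] at hneg
  have hbb : 0 < (b : ℚ) * b := mul_self_pos.2 hb0
  have hLL : Nakai.inter k L L ≤ 0 := nonpos_of_mul_nonpos_right hneg hbb
  refine ⟨?_, fun h0 Y ι _ _ hY => ?_⟩
  · rw [← Nakai.intNum_eq_inter k hd] at hLL
    exact_mod_cast hLL
  · have h0' : Nakai.inter k L L = 0 := by
      rw [← Nakai.intNum_eq_inter k hd, h0, Int.cast_zero]
    have hzero : ∀ N : X.Modules, PicF.IsInvertible N →
        (b : ℚ) * Nakai.inter k L N - (a : ℚ) * Nakai.inter k (ClSub.idealMod (I.comap f)) N = 0 := fun N hN => by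
      rw [← hMC N hN]
      exact Nakai.inter_eq_zero k hdim hA hA.1 hM hN hAA hMA (by rw [hMM, h0', mul_zero])
    have ha0 : (a : ℚ) = 0 := by
      have h := hzero _ hΓi
      rw [hLP', mul_zero, zero_sub, neg_eq_zero] at h
      exact (mul_eq_zero.1 h).resolve_right hJP.ne'
    have hYd : topologicalKrullDim (closure {ι (genericPoint Y)} : Set X) = ((1 : ℕ) : WithBot ℕ∞) := by
      have h := StabK3.dim_support_ker ι
      rw [ker_eq_curveOf ι, SurfAmple.support_curveOf, hY] at h
      exact h
    have hYc := SurfAmple.cartier_curveOf k hdim hreg hYd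
    have h := hzero _ ((Groth.Agent.S8914.result _).2 hYc)
    rw [ha0, zero_mul, sub_zero] at h
    have h2 := (mul_eq_zero.1 h).resolve_left hb0
    rw [inter_ideal_eq_D k hdim hL hYc, ← ker_eq_curveOf ι, ← intNum_push_eq_D k hdim ι L] at h2
    exact_mod_cast h2

end Groth.Agent.S17180
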