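import Groth.Statements.S19175
import Groth.Agent.PlaneBlow.GenericFibre
import Groth.Agent.S17180
import Groth.Agent.S8883
import Groth.Agent.Nakai.NumPull
import Groth.Agent.SurfAdj.Basic
import Groth.Agent.PtPush.Tower

set_option backward.isDefEq.respectTransparency false
set_option linter.style.haveILetI false
set_option linter.unusedSectionVars false
-- import your own Groth.Agent.* helpers here

set_option autoImplicit false
universe u
open CategoryTheory CategoryTheory.Limits AlgebraicGeometry
open Surf

namespace Groth.Agent.S19175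

/-- The structure morphism of a curve may be replaced by an equal one. -/
theorem euler_over_congr (k : Type u) [Field k] {B : Scheme.{u}} [B.Over (Spec (CommRingCat.of k))]
    (h : B ⟶ Spec (CommRingCat.of k)) (e : h = B ↘ Spec (CommRingCat.of k)) (M : B.Modules) :
    @Curv2.euler k _ B ⟨h⟩ M = Curv2.euler k B M := by subst e; rfl

/-- Tensor powers commute with pullbacks. -/
theorem nonempty_pullback_pow {X Y : Scheme.{u}} (f : X ⟶ Y) (M : Y.Modules) : ∀ n : ℕ,
    Nonempty ((Scheme.Modules.pullback f).obj (CohB1.tensorPow M n) ≅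
      CohB1.tensorPow ((Scheme.Modules.pullback f).obj M) n)
  | 0 => ⟨PicLoc.pullbackStructureIso f⟩
  | n + 1 => by
    obtain ⟨e⟩ := nonempty_pullback_pow f M n
    obtain ⟨a⟩ := TMul.nonempty_pullTensorIso f (CohB1.tensorPow M n) M
    exact ⟨a.symm ≪≫ PicGrp.tensorModIso e (Iso.refl _)⟩

/-- On an integral curve invertible modules of equal Euler characteristic are numerically equivalent. -/
theorem numEq_of_euler (k : Type u) [Field k] {B : Scheme.{u}} [B.Over (Spec (CommRingCat.of k))]
    [IsProper (B ↘ Spec (CommRingCat.of k))] [IsIntegral B] (hdim : topologicalKrullDim B = 1) {M N : B.Modules}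
    (hM : PicF.IsInvertible M) (hN : PicF.IsInvertible N) (h : Curv2.euler k B M = Curv2.euler k B N) :
    Intersect.NumEq k M N := by
  intro ξ hξ
  haveI := CurveRR.isNoetherian_of_proper k B
  have hη : genericPoint B = ξ := Intersect.eq_of_dim (d := 1) (genericPoint_specializes ξ) (by
    rw [genericPoint_closure, (Homeomorph.Set.univ B).isHomeomorph.topologicalKrullDim_eq, hdim]
    rfl) hξ
  have hA : ∀ A : B.Modules, PicF.IsInvertible A →
      Curv2.euler k B (CohB1.tensorMod (Devissage.A ξ) A) = Curv2.euler k B A := fun A hA => by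
    have e : (𝟙 B : B ⟶ B).ker = SurfAmple.curveOf ξ := by
      rw [S17180.ker_eq_curveOf (𝟙 B)]
      exact congrArg SurfAmple.curveOf hη
    have h1 := Intersect.euler_quot_twist k (𝟙 B) hA
    rw [e, euler_over_congr k _ (Category.id_comp _),
      CurveRR.euler_eq_of_iso (k := k) ((Scheme.Modules.pullbackId B).app A)] at h1
    exact h1
  rw [hA M hM, hA N hN, h]

/-- Intersection numbers only see numerical classes. -/
theorem inter_numEq (k : Type u) [Field k] {X : Scheme.{u}} [X.Over (Spec (CommRingCat.of k))]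
    [IsProper (X ↘ Spec (CommRingCat.of k))] (hdim : topologicalKrullDim X ≤ ((2 : ℕ) : WithBot ℕ∞))
    {A A' C : X.Modules} (hA : PicF.IsInvertible A) (hA' : PicF.IsInvertible A') (hC : PicF.IsInvertible C)
    (h : Intersect.NumEq k A A') : Nakai.inter k A C = Nakai.inter k A' C := by
  haveI := CurveRR.isNoetherian_of_proper k X
  rw [Nakai.inter_eq_alt, Nakai.inter_eq_alt]
  refine Intersect.alt_numeric k 2 _ _ (Intersect.isInvertible_vec₂ hA hC) (Intersect.isInvertible_vec₂ hA' hC)
    (fun i => ?_) _ (Nakai.isCoh_one k) ((Intersect.dim_support_structure (X := X)).trans_le hdim)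
  fin_cases i
  · exact h
  · exact fun ξ _ => rfl

/-- Let k be an algebraically closed field of characteristic zero, X a smooth proper integral surface
over k and B a smooth proper integral curve over k, and f : X → B a k-morphism each of whose fibres
over a closed point is an integral one-dimensional scheme with at-worst-nodal singularities and
arithmetic genus one (an elliptic fibration all of whose fibres are smooth elliptic or irreducible
nodal). Let s be a section of f and L_S an invertible O_X-module inverse to the ideal of the closed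
immersion s (the class of the curve S = s(B)); let L_F be the pullback along f of an invertible
O_B-module inverse to the ideal of a closed point (the class of a fibre); and let L_C be an
invertible O_X-module whose restriction to the fibre over every closed point of some nonempty open
subset of B is isomorphic to the restriction of L_S (a class agreeing with S on the general fibre).
Then there is an integer m with 2m = (L_S·L_S) − (L_C·L_C) and (L_S·N) = (L_C·N) + m·(L_F·N) for
every invertible O_X-module N: numerically S ≡ C + ((S² − C²)/2)·F. Here (L·N) = χ(O_X) − χ(L) −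
χ(N) + χ(L ⊗ N) is the intersection number of invertible modules on the proper surface X. -/
theorem result (k : Type u) [Field k] [IsAlgClosed k] [CharZero k]
    (X B : Scheme.{u}) [X.Over (Spec (CommRingCat.of k))] [B.Over (Spec (CommRingCat.of k))]
    [IsProper (X ↘ (Spec (CommRingCat.of k)))] [Smooth (X ↘ (Spec (CommRingCat.of k)))] [AlgebraicGeometry.IsIntegral X] (hX2 : topologicalKrullDim X = 2)
    [IsProper (B ↘ (Spec (CommRingCat.of k)))] [Smooth (B ↘ (Spec (CommRingCat.of k)))] [AlgebraicGeometry.IsIntegral B] (hB1 : topologicalKrullDim B = 1)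
    (f : X ⟶ B) (hf : f ≫ (B ↘ (Spec (CommRingCat.of k))) = X ↘ (Spec (CommRingCat.of k)))
    (hfib : ∀ b : B, IsClosed ({b} : Set B) →
      AlgebraicGeometry.IsIntegral (f.fiber b) ∧ topologicalKrullDim (f.fiber b) = 1 ∧
        @Curv2.AtWorstNodal (B.residueField b) _ (f.fiber b) ⟨f.fiberToSpecResidueField b⟩ ∧
        @Curv2.genus (B.residueField b) _ (f.fiber b) ⟨f.fiberToSpecResidueField b⟩ = 1)
    (s : B ⟶ X) (hs : s ≫ f = 𝟙 B)
    (LS : X.Modules) (hLS : PicF.IsInvertible LS) (hLSinv : ClSub.IsInverseOf LS (ClSub.idealMod s.ker))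
    (b₀ : B) (hb₀ : IsClosed ({b₀} : Set B)) (M : B.Modules) (hM : PicF.IsInvertible M)
    (hMinv : ClSub.IsInverseOf M (ClSub.idealMod (Scheme.IdealSheafData.vanishingIdeal ⟨{b₀}, hb₀⟩)))
    (LC : X.Modules) (hLC : PicF.IsInvertible LC)
    (hgen : ∃ U : B.Opens, (U : Set B).Nonempty ∧ ∀ b ∈ U, IsClosed ({b} : Set B) →
      Nonempty ((Scheme.Modules.pullback (f.fiberι b)).obj LC ≅ (Scheme.Modules.pullback (f.fiberι b)).obj LS)) :
    ∃ m : ℤ, 2 * m = FGA.intNum k X 2 ![LS, LS] (Coh.structureModule X) - FGA.intNum k X 2 ![LC, LC] (Coh.structureModule X) ∧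
      ∀ N : X.Modules, PicF.IsInvertible N →
        FGA.intNum k X 2 ![LS, N] (Coh.structureModule X) =
          FGA.intNum k X 2 ![LC, N] (Coh.structureModule X) +
            m * FGA.intNum k X 2 ![(Scheme.Modules.pullback f).obj M, N] (Coh.structureModule X) := by
  haveI := CurveRR.isNoetherian_of_proper k X
  haveI := CurveRR.isNoetherian_of_proper k B
  have hd := hX2.le
  have hd1 : topologicalKrullDim B ≤ ((1 : ℕ) : WithBot ℕ∞) := hB1.le
  haveI : IsProper (f ≫ (B ↘ Spec (CommRingCat.of k))) := by rw [hf]; infer_instance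
  haveI : IsProper f := IsProper.of_comp f (B ↘ Spec (CommRingCat.of k))
  haveI : IsClosedImmersion (s ≫ f) := by rw [hs]; infer_instance
  haveI : IsClosedImmersion s := IsClosedImmersion.of_comp s f
  haveI : Surjective f := ⟨fun b => ⟨s b, by
    have h := congrArg (fun g : B ⟶ B => g b) hs
    simpa using h⟩⟩
  have hregB : ∀ b : B, IsRegularLocalRing (B.presheaf.stalk b) := fun b =>
    SmLocalST.isRegularLocalRing_stalk_of_smooth_field (B ↘ Spec (CommRingCat.of k)) b
  haveI := PlaneBlow.flat_to_curve f hB1.le hregB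
  -- the vertical difference of the two classes
  obtain ⟨LC', hLC', ⟨εC⟩⟩ := W7Hull.exists_tensor_inverse hLC
  have hL := TMul.isInvertible_tensorMod hLS hLC'
  obtain ⟨U, hU, hgenU⟩ := hgen
  have hint : ∀ b : B, IsClosed ({b} : Set B) → IsIntegral (f.fiber b) := fun b hb => (hfib b hb).1
  have hη := PlaneBlow.trivial_on_generic_fiber f k hint hL U hU fun b hbU hb => by
    obtain ⟨i⟩ := hgenU b hbU hb
    obtain ⟨a⟩ := TMul.nonempty_pullTensorIso (f.fiberι b) LS LC'
    obtain ⟨a'⟩ := TMul.nonempty_pullTensorIso (f.fiberι b) LC LC'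
    exact ⟨a.symm ≪≫ PicGrp.tensorModIso i.symm (Iso.refl _) ≪≫ a' ≪≫
      (Scheme.Modules.pullback (f.fiberι b)).mapIso εC ≪≫ PicLoc.pullbackStructureIso (f.fiberι b)⟩
  have hall : ∀ b : B, IsIntegral (f.fiber b) := fun b => by
    by_cases hb : b = genericPoint B
    · subst hb; exact PlaneBlow.isIntegral_fiber_generic f
    · refine hint b (closure_subset_iff_isClosed.1 fun z hz => ?_)
      have hd0 : topologicalKrullDim (closure {b} : Set B) < ((1 : ℕ) : WithBot ℕ∞) :=
        FreeJ.dim_lt_of_proper (n := 1) (by rw [hB1]; norm_cast) _ isClosed_closure fun hu => hb (by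
          have h1 : b ⤳ genericPoint B := specializes_iff_mem_closure.2 (hu ▸ Set.mem_univ _)
          exact (h1.antisymm (genericPoint_specializes b)).eq)
      have hb0 : topologicalKrullDim (closure {b} : Set B) ≤ ((0 : ℕ) : WithBot ℕ∞) :=
        Intersect.le_of_lt_succ' hd0
      have hz0 : topologicalKrullDim (closure {z} : Set B) = ((0 : ℕ) : WithBot ℕ∞) := by
        haveI : IrreducibleSpace (closure {z} : Set B) :=
          isIrreducible_iff_irreducibleSpace.mp isIrreducible_singleton.closure
        refine le_antisymm ((Intersect.dim_mono (closure_minimal (Set.singleton_subset_iff.2 hz) isClosed_closure)).trans hb0) ?_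
        haveI : Nonempty (TopologicalSpace.IrreducibleCloseds (closure {z} : Set B)) :=
          ⟨⟨Set.univ, IrreducibleSpace.isIrreducible_univ _, isClosed_univ⟩⟩
        exact Order.krullDim_nonneg
      exact (Intersect.eq_of_dim (specializes_iff_mem_closure.2 hz) hb0 hz0).symm
  obtain ⟨N0, hN0, ⟨e0⟩⟩ := Groth.Agent.S8883.result f (PtPush.isNormal_of_regular hregB) hall
    (Or.inl inferInstance) _ hL hη
  -- degrees on the base
  set I := Scheme.IdealSheafData.vanishingIdeal ⟨{b₀}, hb₀⟩ with hIdef
  have hgb := CurveRR.genericPoint_ne_of_closed (k := k) hB1 hb₀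
  have hI : BlowUp.IsEffCartierIdeal I := (Groth.Agent.S8914.result I).1
    (CurveRR.isInvertible_pointIdeal hB1.le hb₀ hgb (hregB b₀))
  have hIi := (Groth.Agent.S8914.result I).2 hI
  obtain ⟨εM⟩ := hMinv
  have heM : Curv2.euler k B M = Curv2.euler k B (Coh.structureModule B) + 1 := by
    have h := CurveRR.euler_pointIdeal (k := k) hb₀ hM
    rw [CurveRR.euler_eq_of_iso (TMul.commIso _ _ ≪≫ εM)] at h
    omega
  have heI : Curv2.euler k B (ClSub.idealMod I) = Curv2.euler k B (Coh.structureModule B) - 1 := by
    have h := CurveRR.euler_pointIdeal (k := k) hb₀ (TMul.isInvertible_structureModule (X := B))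
    rwa [CurveRR.euler_eq_of_iso (TMul.commIso _ _ ≪≫ TMul.leftUnitIso _)] at h
  let F := (Scheme.Modules.pullback f).obj M
  have hF : PicF.IsInvertible F := PicLoc.isInvertible_pullback f hM
  have hFI := PicLoc.isInvertible_pullback f hIi
  obtain ⟨aF⟩ := TMul.nonempty_pullTensorIso f (ClSub.idealMod I) M
  have hFinv : Nonempty (CohB1.tensorMod ((Scheme.Modules.pullback f).obj (ClSub.idealMod I)) F ≅ Coh.structureModule X) :=
    ⟨aF ≪≫ (Scheme.Modules.pullback f).mapIso (TMul.commIso _ _ ≪≫ εM) ≪≫ PicLoc.pullbackStructureIso f⟩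
  obtain ⟨m, hm⟩ : ∃ m : ℤ, m = Curv2.euler k B N0 - Curv2.euler k B (Coh.structureModule B) := ⟨_, rfl⟩
  have hpow : ∀ (A : B.Modules) (c : ℤ), PicF.IsInvertible A →
      Curv2.euler k B A = Curv2.euler k B (Coh.structureModule B) + c → ∀ n : ℕ,
      Curv2.euler k B (CohB1.tensorPow A n) = Curv2.euler k B (Coh.structureModule B) + n * c := fun A c hA hc n => by
    have h := CurveRR.deg_tensorPow (k := k) hd1 hA n
    simp only [Curv2.deg, Nat.cast_one, one_mul] at h
    rw [show Curv2.euler k B A - Curv2.euler k B (Coh.structureModule B) = c by omega] at h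
    omega
  have hLN : ∀ C : X.Modules, PicF.IsInvertible C →
      Nakai.inter k (CohB1.tensorMod LS LC') C = (m : ℚ) * Nakai.inter k F C := fun C hC => by
    rw [Nakai.inter_iso k ((PicGrp.cl_eq_cl_iff _ _).2 ⟨e0⟩)]
    obtain ⟨n, rfl | rfl⟩ := Int.eq_nat_or_neg m
    · have hn := Nakai.numEq_pullback k f hf hN0 (TMul.isInvertible_tensorPow hM n)
        (numEq_of_euler k hB1 hN0 (TMul.isInvertible_tensorPow hM n) (by
          rw [hpow M 1 hM heM n]; omega))
      rw [inter_numEq k hd (PicLoc.isInvertible_pullback f hN0)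
        (PicLoc.isInvertible_pullback f (TMul.isInvertible_tensorPow hM n)) hC hn,
        Nakai.inter_iso k ((PicGrp.cl_eq_cl_iff _ _).2 (nonempty_pullback_pow f M n)),
        Nakai.inter_pow k hd hF hC n, Int.cast_natCast]
    · have hn := Nakai.numEq_pullback k f hf hN0 (TMul.isInvertible_tensorPow hIi n)
        (numEq_of_euler k hB1 hN0 (TMul.isInvertible_tensorPow hIi n) (by
          rw [hpow _ (-1) hIi (by omega) n]; omega))
      rw [inter_numEq k hd (PicLoc.isInvertible_pullback f hN0)
        (PicLoc.isInvertible_pullback f (TMul.isInvertible_tensorPow hIi n)) hC hn,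
        Nakai.inter_iso k ((PicGrp.cl_eq_cl_iff _ _).2 (nonempty_pullback_pow f (ClSub.idealMod I) n)),
        Nakai.inter_pow k hd hFI hC n, Nakai.inter_inv k hd hFI hFinv hC, Int.cast_neg, Int.cast_natCast]
      ring
  have hdiff : ∀ C : X.Modules, PicF.IsInvertible C →
      Nakai.inter k LS C = Nakai.inter k LC C + (m : ℚ) * Nakai.inter k F C := fun C hC => by
    have h := hLN C hC
    rw [Nakai.inter_tensor k hd hLS hLC' hC, Nakai.inter_inv k hd hLC ⟨εC⟩ hC] at h
    linarith
  -- the section meets a fibre once and fibres are disjoint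
  have hJ : BlowUp.IsEffCartierIdeal (I.comap f) := Groth.Agent.S8862.result f I hI fun ξ hξ hin => by
    rw [← hξ _ (genericPoint_specializes ξ)] at hin
    have h' : f (genericPoint X) ∈ (I.support : Set B) := hin
    rw [hIdef, Scheme.IdealSheafData.coe_support_vanishingIdeal, PlaneBlow.apply_genericPoint f] at h'
    exact hgb h'
  obtain ⟨eJ⟩ := Nakai.nonempty_pullback_idealMod f hI hJ
  have hJs : ((I.comap f).support : Set X) = f.base ⁻¹' {b₀} := by
    rw [Scheme.IdealSheafData.support_comap]
    show f.base ⁻¹' (I.support : Set B) = _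
    rw [hIdef, Scheme.IdealSheafData.coe_support_vanishingIdeal]
    rfl
  have hFF : Nakai.inter k F F = 0 := by
    have h0 : Nakai.inter k (ClSub.idealMod (I.comap f)) (ClSub.idealMod (I.comap f)) = 0 := by
      refine S17180.inter_ideal_eq_zero k hX2 ((Groth.Agent.S8914.result _).2 hJ) hJ fun ξ hξ h1 => ?_
      rw [hJs] at hξ
      have h := Nakai.deg_fibre_eq_zero k f hb₀ hI hJ (SurfAmple.curveOf ξ) (SurfAmple.support_dim_curveOf h1)
        (by rw [SurfAmple.genericPoint_curveOf]; exact hξ)
      rw [sub_eq_zero] at h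
      rw [Nakai.D_one, h, sub_self]
    rw [Nakai.inter_inv k hd hFI hFinv hF, Nakai.inter_inv_right k hd hFI hFinv hFI,
      Nakai.inter_iso k ((PicGrp.cl_eq_cl_iff _ _).2 ⟨eJ⟩), Nakai.inter_comm,
      Nakai.inter_iso k ((PicGrp.cl_eq_cl_iff _ _).2 ⟨eJ⟩), h0]
    ring
  haveI := StabK3.isIntegral_ker s
  have hC1 : topologicalKrullDim (s.ker.support : Set X) = 1 := by rw [StabK3.dim_support_ker s, hB1]
  have hsi := SurfAdj.inv_ideal k hX2 s.ker hC1
  have hFS : Nakai.inter k LS F = 1 := by
    have h := SurfAdj.deg_eq k hX2 s.ker hC1 hF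
    have hov : s ≫ (X ↘ Spec (CommRingCat.of k)) = B ↘ Spec (CommRingCat.of k) := by
      rw [← hf, ← Category.assoc, hs, Category.id_comp]
    let e1 : (Scheme.Modules.pullback s).obj F ≅ M :=
      (Scheme.Modules.pullbackComp s f).app _ ≪≫ (Scheme.Modules.pullbackCongr hs).app _ ≪≫
        (Scheme.Modules.pullbackId B).app _
    rw [Intersect.euler_quot_twist k s hF,
      ← CurveRR.euler_eq_of_iso (TMul.commIso (ClSub.quotMod s.ker) (Coh.structureModule X) ≪≫ TMul.leftUnitIso _),
      Intersect.euler_quot_twist k s TMul.isInvertible_structureModule, euler_over_congr k _ hov,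
      euler_over_congr k _ hov, CurveRR.euler_eq_of_iso (k := k) e1,
      CurveRR.euler_eq_of_iso (k := k) (DerPerf.pullUnitIso s), heM] at h
    obtain ⟨εS⟩ := hLSinv
    rw [Nakai.inter_inv k hd hsi ⟨TMul.commIso _ _ ≪≫ εS⟩ hF, ← Nakai.intNum_eq_inter k hd,
      show FGA.intNum k X 2 ![ClSub.idealMod s.ker, F] (Coh.structureModule X) = -1 by omega]
    norm_num
  refine ⟨m, ?_, fun N hN => ?_⟩
  · have h1 := hdiff LS hLS
    have h2 := hdiff LC hLC
    have h3 := hdiff F hF
    rw [hFF, mul_zero, add_zero, hFS] at h3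
    rw [Nakai.inter_comm k F LS, hFS, mul_one] at h1
    rw [Nakai.inter_comm k F LC, ← h3, mul_one, Nakai.inter_comm k LS LC] at h2
    have h4 : ((2 * m : ℤ) : ℚ) = ((FGA.intNum k X 2 ![LS, LS] (Coh.structureModule X) -
        FGA.intNum k X 2 ![LC, LC] (Coh.structureModule X) : ℤ) : ℚ) := by
      push_cast
      rw [Nakai.intNum_eq_inter k hd, Nakai.intNum_eq_inter k hd, h1, h2]
      ring
    exact_mod_cast h4
  · have h := hdiff N hN
    rw [← Nakai.intNum_eq_inter k hd, ← Nakai.intNum_eq_inter k hd, ← Nakai.intNum_eq_inter k hd] at h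
    exact_mod_cast h

end Groth.Agent.S19175
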