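import Groth.Statements.S10390
import Groth.Agent.SpQS.FieldImm

set_option autoImplicit false
universe u
open CategoryTheory CategoryTheory.Limits AlgebraicGeometry Topology TopologicalSpace
open AlgSp

set_option backward.isDefEq.respectTransparency false

namespace Groth.Agent.S10390

/-- Let S be a scheme, X and Y algebraic spaces over S, and f : X ⟶ Y a morphism, and let y ∈ |Y| be a
point represented by a monomorphism Spec k ⟶ Y which is representable quasi-compact. Then for the
fibre X_k = Spec k ×_Y X the map |X_k| → |X| is a homeomorphism of |X_k| onto f⁻¹({y}) with its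
induced topology. -/
theorem result {S : Scheme.{u}} {X Y : AlgSp.Space S} (f : X ⟶ Y)
    (r : AlgSp.FieldPt Y.obj) (hm : Mono r.toHom) (hq : AlgSp.RepWith @QuasiCompact r.toHom)
    (Xk : AlgSp.Space S) (fst : Xk ⟶ X) (snd : Xk.obj ⟶ (AlgSp.yon S).obj r.pt) (hsq : IsPullback fst.hom snd f.hom r.toHom) :
    IsEmbedding (AlgSp.Points.map fst.hom) ∧
      Set.range (AlgSp.Points.map fst.hom) = AlgSp.Points.map f.hom ⁻¹' {AlgSp.Points.mk r} := by
  obtain ⟨h'⟩ : Nonempty (AlgSp.IsAlgSpace X.obj → AlgSp.IsAlgSpace Y.obj →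
      IsEmbedding (AlgSp.Points.map fst.hom) ∧
        Set.range (AlgSp.Points.map fst.hom) = AlgSp.Points.map f.hom ⁻¹' {AlgSp.Points.mk r}) := ⟨fun hX hY => by
    have : Mono fst.hom := hsq.mono_fst_of_mono
    have hinj := SpQS.injective_points_of_mono fst.hom
    have hrange : Set.range (AlgSp.Points.map fst.hom) = AlgSp.Points.map f.hom ⁻¹' {AlgSp.Points.mk r} := by
      ext x
      constructor
      · rintro ⟨z, rfl⟩
        show AlgSp.Points.map f.hom (AlgSp.Points.map fst.hom z) = _
        rw [← AlgSp.Points.map_comp, hsq.w, AlgSp.Points.map_comp]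
        obtain ⟨w, hw⟩ := (AlgSp.Points.schemeEquiv r.pt).surjective (AlgSp.Points.map snd z)
        rw [← hw]
        exact (AlgSp.Points.ofPt_eq_map_ofScheme r.toHom w).symm.trans (AlgSp.Points.ofPt_toHom r w)
      · intro hx
        obtain ⟨z, hz, -⟩ := AlgSpLib.exists_point_of_isPullback hsq x
          (AlgSp.Points.ofScheme r.pt (IsLocalRing.closedPoint r.K))
          (by rw [← AlgSp.Points.ofPt_eq_map_ofScheme, AlgSp.Points.ofPt_toHom]; exact hx)
        exact ⟨z, hz⟩
    refine ⟨⟨⟨?_⟩, hinj⟩, hrange⟩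
    obtain ⟨U, a, ha, has⟩ := hX.atlas
    obtain ⟨V, b, hb, hbs⟩ := hY.atlas
    obtain ⟨U', e, h, sqU⟩ := AlgSpLib.exists_pullback hY.diag (a ≫ f.hom) b
    have : Etale e.left := (AlgSpLib.repWith_yon_iff e).1 (AlgSpLib.repWith_baseChange sqU.flip hb)
    have : Surjective e.left := (AlgSpLib.repWith_yon_iff e).1 (AlgSpLib.repWith_baseChange sqU.flip hbs)
    let a' := (AlgSp.yon S).map e ≫ a
    have hae : AlgSp.RepWith @Etale a' := AlgSpLib.repWith_comp ((AlgSpLib.repWith_yon_iff e).2 ‹_›) ha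
    have haes : AlgSp.RepWith @Surjective a' := AlgSpLib.repWith_comp ((AlgSpLib.repWith_yon_iff e).2 ‹_›) has
    obtain ⟨T, c, d, sqT⟩ := AlgSpLib.exists_pullback hY.diag r.toHom b
    obtain ⟨hd, hr⟩ := SpQS.isPreimmersion_of_mono_point hY r hq hb sqT
    let P : Over S := Over.mk (pullback.snd d.left h.left ≫ U'.hom)
    let j : P ⟶ U' := Over.homMk (pullback.snd d.left h.left) rfl
    let t : P ⟶ T := Over.homMk (pullback.fst d.left h.left) (by
      show pullback.fst d.left h.left ≫ T.hom = pullback.snd d.left h.left ≫ U'.hom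
      rw [← Over.w d, ← Over.w h, pullback.condition_assoc])
    have htj : t ≫ d = j ≫ h := Over.OverMorphism.ext pullback.condition
    obtain ⟨φ, hφ⟩ : ∃ φ : (AlgSp.yon S).obj P ⟶ Xk.obj, φ ≫ fst.hom = (AlgSp.yon S).map j ≫ a' :=
      ⟨hsq.lift ((AlgSp.yon S).map j ≫ a') ((AlgSp.yon S).map (t ≫ c)) (by
        rw [Category.assoc, Category.assoc, sqU.w, ← Functor.map_comp_assoc, ← htj, Functor.map_comp,
          Functor.map_comp, Category.assoc, Category.assoc, sqT.w]), hsq.lift_fst _ _ _⟩
    have : IsPreimmersion j.left := inferInstanceAs (IsPreimmersion (pullback.snd d.left h.left))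
    have hlift : ∀ (z : AlgSp.Points Xk.obj) (w : U'.left),
        AlgSp.Points.ofPt a' w = AlgSp.Points.map fst.hom z → ∃ v, j.left v = w ∧ AlgSp.Points.ofPt φ v = z := by
      intro z w hw
      have : h.left w ∈ Set.range d.left := by
        rw [hr]
        show AlgSp.Points.ofPt b (h.left w) = _
        rw [← AlgSpLib.ofPt_comp, ← sqU.w, ← Category.assoc, ← AlgSp.Points.map_ofPt]
        have hz : AlgSp.Points.map fst.hom z ∈ Set.range (AlgSp.Points.map fst.hom) := ⟨z, rfl⟩
        rw [hrange] at hz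
        show AlgSp.Points.map f.hom (AlgSp.Points.ofPt a' w) = _
        rw [hw]
        exact hz
      obtain ⟨t₀, ht₀⟩ := this
      obtain ⟨v, -, hv⟩ := Scheme.Pullback.exists_preimage_pullback (f := d.left) (g := h.left) t₀ w ht₀
      refine ⟨v, hv, hinj ?_⟩
      rw [AlgSp.Points.map_ofPt, hφ, AlgSpLib.ofPt_comp, show j.left v = w from hv, hw]
    rw [TopologicalSpace.ext_iff]
    intro O
    refine ⟨fun hO => ?_, fun hO => ?_⟩
    · obtain ⟨W, hW, hWO⟩ := j.left.isEmbedding.isInducing.isOpen_iff.1 (hO.preimage (AlgSp.Points.continuous_ofPt φ))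
      refine isOpen_induced_iff.2 ⟨AlgSp.Points.ofPt a' '' W,
        AlgSpLib.isOpenMap_ofPt (AlgSpLib.repWith_universallyOpen_of_etale hae) _ hW, ?_⟩
      ext z
      constructor
      · rintro ⟨w, hw, e'⟩
        obtain ⟨v, rfl, rfl⟩ := hlift z w e'
        have : v ∈ j.left ⁻¹' W := hw
        rw [hWO] at this
        exact this
      · intro hz
        obtain ⟨w, hw⟩ := AlgSpLib.ofPt_surjective haes (AlgSp.Points.map fst.hom z)
        obtain ⟨v, rfl, rfl⟩ := hlift z w hw
        have : v ∈ AlgSp.Points.ofPt φ ⁻¹' O := hz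
        rw [← hWO] at this
        exact ⟨_, this, hw⟩
    · obtain ⟨W, hW, rfl⟩ := isOpen_induced_iff.1 hO
      exact hW.preimage (AlgSp.Points.continuous_map fst.hom)⟩
  exact h' X.property Y.property

end Groth.Agent.S10390
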