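import Groth.Statements.S7521
import Groth.Agent.SchDescent.FiniteFlat
import Mathlib.AlgebraicGeometry.Morphisms.QuasiFinite
import Groth.Agent.TMul.AmpleBasis

set_option autoImplicit false
open CategoryTheory CategoryTheory.Limits AlgebraicGeometry
universe u
open Desc

namespace Groth.Agent.S7521

/-- Let p : X -> Y be a surjective finite locally free morphism and V a scheme over X which has an
invertible module ample relative to V -> X. Then every descent datum on V relative to p is
effective. (A quasi-projective morphism V -> X, in particular a projective one, carries such a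
module.) (Descent data are taken in functor-of-points form.) -/
theorem result {X Y : Scheme.{u}} (p : X ⟶ Y) [Surjective p] [IsFinite p] [Flat p] [LocallyOfFinitePresentation p] (D : Desc.SchDD p) (L : D.obj.left.Modules) (hL : RelAmple.IsRelAmple D.obj.hom L) : ∃ W : Over Y, Nonempty ((Desc.toDD p).obj W ≅ D) := by
  refine SchDescent.effective_of_finite_flat fun e ↦ ?_
  obtain ⟨V0, hV0, hy, -⟩ := exists_isAffineOpen_mem_and_subset (U := ⊤)
    (show p (D.obj.hom e) ∈ (⊤ : Y.Opens) from trivial)
  let W : X.affineOpens := ⟨p ⁻¹ᵁ V0, hV0.preimage p⟩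
  let O₀ := D.obj.hom ⁻¹ᵁ W.1
  let σ := SchDescent.tr D (pullback.fst p (D.obj.hom ≫ p)) (pullback.snd p (D.obj.hom ≫ p))
    (by rw [Category.assoc, pullback.condition])
  let Z : Set O₀.toScheme := O₀.ι ⁻¹' (σ '' ((pullback.snd p (D.obj.hom ≫ p)) ⁻¹' {e}))
  have hZ : Z.Finite := (((pullback.snd p (D.obj.hom ≫ p)).finite_preimage_singleton e).image _).preimage
    O₀.ι.injective.injOn
  obtain ⟨n, t, h1, -, h3⟩ := TMul.exists_finite_le (hL.2 W) hZ (U := ⊤) (fun _ _ ↦ trivial)
  refine ⟨O₀.ι ''ᵁ CohB1.genLocus _ t, h3.image_of_isOpenImmersion O₀.ι, fun r hr ↦ ?_⟩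
  have hm : σ r ∈ O₀ := by
    show p (D.obj.hom (σ r)) ∈ V0
    rw [SchDescent.orbit_over D e r hr]
    exact hy
  exact ⟨⟨σ r, hm⟩, h1 ⟨r, hr, rfl⟩, rfl⟩

end Groth.Agent.S7521
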