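import Groth.Statements.S1510
import Groth.Agent.PCMor.Scheme
import Groth.Agent.S7131

set_option autoImplicit false
set_option linter.style.haveILetI false
set_option backward.isDefEq.respectTransparency false
open Groth.Agent
universe u
attribute [local instance] HasDerivedCategory.standard
open FlatMor

namespace Groth.Agent.S1510

open AlgebraicGeometry CategoryTheory Limits in
/-- Let f : X → Y and g : Y → S with g smooth and f ≫ g perfect. Then f is perfect. -/
theorem result {X Y S : Scheme.{u}} (f : X ⟶ Y) (g : Y ⟶ S) [Smooth g] (h : MoreMor.IsPerfectMor (f ≫ g)) :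
    MoreMor.IsPerfectMor f := by
  have hgpc : MoreMor.IsPseudoCoherentMor g := fun U V hU hV hUV =>
    PCMor.pc_of_flat_fp (Flat.flat_appLE g hV hU hUV)
      (HasRingHomProperty.appLE @LocallyOfFinitePresentation g inferInstance ⟨V, hV⟩ ⟨U, hU⟩ hUV)
  have hfpc : MoreMor.IsPseudoCoherentMor f :=
    PCMor.pc_cancel f g (fun U V hU hV hUV => (h U V hU hV hUV).1) hgpc
  refine PCMor.of_forall_exists (P := @MoreMor.IsPerfectMor) f PCMor.pf_locSource fun x => ?_
  obtain ⟨W, hW, V, hV, hxV, hVW, hstd⟩ := Smooth.exists_isStandardSmooth g (f x)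
  obtain ⟨U, hU, hxU, hUV⟩ := exists_isAffineOpen_mem_and_subset (show x ∈ f ⁻¹ᵁ V from hxV)
  refine ⟨U, V, hUV, hU, hV, hxU, PCMor.pf_iff.2 ⟨hfpc U V hU hV hUV, ?_⟩⟩
  obtain ⟨n, γ, hγC, hγ⟩ := hstd.exists_etale_mvPolynomial
  have hUW : U ≤ (f ≫ g) ⁻¹ᵁ W := fun z hz => hVW (hUV hz)
  have hpf : PCMor.Pf ((f ≫ g).appLE W U hUW).hom := h U W hU hW hUW
  have hcomp : ((f ≫ g).appLE W U hUW).hom = (f.appLE V U hUV).hom.comp (g.appLE W V hVW).hom := by
    rw [← CommRingCat.hom_comp, Scheme.Hom.appLE_comp_appLE]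
  obtain ⟨d, hd⟩ := (PCMor.pf_iff.1 hpf).2
  -- the tor dimension over the polynomial ring, then over the étale algebra
  letI := ((f ≫ g).appLE W U hUW).hom.toAlgebra
  let ρ : MvPolynomial (Fin n) Γ(S, W) →+* Γ(X, U) := (f.appLE V U hUV).hom.comp γ
  letI := ρ.toAlgebra
  haveI : IsScalarTower Γ(S, W) (MvPolynomial (Fin n) Γ(S, W)) Γ(X, U) := IsScalarTower.of_algebraMap_eq fun a => by
    show ((f ≫ g).appLE W U hUW).hom a = (f.appLE V U hUV).hom (γ (MvPolynomial.C a))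
    rw [hcomp, ← hγC]
    rfl
  have h1 := Groth.Agent.S7066.amp_mvPolynomial n d Γ(X, U) ((DRingKP.hasTorDimLE_iff _ d).1 hd)
  letI := γ.toAlgebra
  letI := (f.appLE V U hUV).hom.toAlgebra
  haveI : Algebra.Etale (MvPolynomial (Fin n) Γ(S, W)) Γ(Y, V) := hγ
  haveI : Algebra.WeaklyEtale (MvPolynomial (Fin n) Γ(S, W)) Γ(Y, V) := inferInstance
  let res := ModuleCat.restrictScalars.{u} (algebraMap (MvPolynomial (Fin n) Γ(S, W)) Γ(Y, V))
  let e : Γ(X, U) ≃ₗ[MvPolynomial (Fin n) Γ(S, W)] res.obj (ModuleCat.of Γ(Y, V) Γ(X, U)) :=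
    { toFun := fun x => x
      map_add' := fun _ _ => rfl
      map_smul' := fun c x => rfl
      invFun := fun x => x
      left_inv := fun _ => rfl
      right_inv := fun _ => rfl }
  have h2 : DRing.HasTorDimLE (MvPolynomial (Fin n) Γ(S, W)) (d + n) (res.obj (ModuleCat.of Γ(Y, V) Γ(X, U))) :=
    (DRingKP.hasTorDimLE_iff _ _).2 (PCMor.ampModule_of_equiv e h1)
  exact ⟨d + n, (DRingKP.hasTorDimLE_iff _ _).2
    (Groth.Agent.S7131.key (Algebra.WeaklyEtale.flat_lmul' (MvPolynomial (Fin n) Γ(S, W)) Γ(Y, V)) (d + n) _ h2)⟩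

end Groth.Agent.S1510
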