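import Groth.Prelude.Def_DCoh2
import Groth.Prelude.Def_MoreMor
import Mathlib.AlgebraicGeometry.Morphisms.Proper
import Mathlib.AlgebraicGeometry.Noetherian
import Groth.Prelude.Def_KSix
import Groth.Agent.KSixLib.PerfMor

set_option backward.isDefEq.respectTransparency false
set_option backward.isDefEq.respectTransparency.types false
-- import your own Groth.Agent.* helpers here

set_option autoImplicit false
universe u
open CategoryTheory CategoryTheory.Limits AlgebraicGeometry
attribute [local instance] HasDerivedCategory.standard
open KSix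

namespace Groth.Agent.S4267

/-- In the case where the base is locally Noetherian: let f : X ⟶ Y be a proper morphism which is
perfect (affine-locally of finite tor-dimension and pseudo-coherent), with Y locally Noetherian, and
E a bounded below perfect object of D(O_X). Assuming Rf_* exists, Rf_*E is a perfect object of
D(O_Y). -/
theorem result {X Y : Scheme.{u}} [IsLocallyNoetherian Y] (f : X ⟶ Y) [IsProper f]
    (hf : MoreMor.IsPerfectMor f) [DCoh.HasRpush f] (E : DCoh.D X) (b : ℤ) [E.IsGE b] (hE : DCoh.IsPerfect E) :
    DCoh.IsPerfect ((DCoh.Rpush f).obj E) := by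
  have hg : ∀ n, DerSch.IsNPseudoCoherent f n := fun n =>
    KSixLib.nPseudoCoherent_of_pcMor f (fun U V hU hV h => (hf U V hU hV h).1) n
  have hrel : DerSch.IsPseudoCoherentRelAll f E := fun m => by
    have h := (RelPCS.rel_comp_iff (f := 𝟙 X) (g := f) hg m E).1 ((RelPCS.rel_id_iff m E).2 (DQCoh.pc_of_perfect hE m))
    rwa [Category.id_comp] at h
  refine KSixLib.isPerfect_push f hf E hE (KSixLib.isQCohD_of_relAll f hrel) fun m => ?_
  have hrel' : DerSch.IsPseudoCoherentRelAll (f ≫ 𝟙 Y) E := by rwa [Category.comp_id]
  exact (RelPCS.rel_id_iff m _).1 (KSixLib.rel_push_noeth (𝟙 Y) f b hrel' m)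

end Groth.Agent.S4267
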