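import Groth.Statements.S3634
import Groth.Agent.HomODer.Unbounded
-- import your own Groth.Agent.* helpers here

set_option autoImplicit false
set_option linter.style.haveILetI false
set_option backward.isDefEq.respectTransparency false
set_option backward.isDefEq.respectTransparency.types false
set_option maxHeartbeats 1000000
universe u
open CategoryTheory CategoryTheory.Limits AlgebraicGeometry
attribute [local instance] HasDerivedCategory.standard
open Dual3

namespace Groth.Agent.S3634

/-- Let X be a Noetherian scheme and i : Z → X a closed immersion. Assume the derived direct image Ri_*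
exists and preserves quasi-coherence of cohomology sheaves (both known results), so that it
restricts to a functor D_QCoh(O_Z) → D_QCoh(O_X), and let a : D_QCoh(O_X) → D_QCoh(O_Z) be a right
adjoint of this restricted functor. Assume further that i_* on O-modules has a right adjoint
Hom(O_Z, −) (the sections killed by the ideal of Z, viewed as an O_Z-module; this holds for a closed
immersion and is carried as a binder) and that the category of O_X-modules has enough injectives,
and let R Hom(O_Z, −) : D^+(O_X) → D^+(O_Z) be the right derived functor of Hom(O_Z, −). Then a and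
R Hom(O_Z, −) are isomorphic as functors D^+_QCoh(O_X) → D(O_Z). (Stated for X Noetherian; the
published statement is more general.) -/
theorem result (Z X : Scheme.{u}) [IsNoetherian X] (i : Z ⟶ X) [IsClosedImmersion i] [Dual3.HasHomO i] [EnoughInjectives X.Modules] [DCoh.HasRpush i] (hf : DCoh.RpushPreservesQCoh i) (a : DCoh.DQCoh X ⥤ DCoh.DQCoh Z) (adj : DCoh.RpushQ i hf ⊣ a) : Nonempty (Dual3.bddι X ⋙ a ⋙ ObjectProperty.ι _ ≅ Dual3.bddToPlus X ⋙ Dual3.RHomOPlus i ⋙ (DerivedCategory.Plus.ι : DerivedCategory.Plus Z.Modules ⥤ DCoh.D Z)) := by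
  classical
  haveI : EnoughInjectives Z.Modules := inferInstance
  obtain ⟨adjP⟩ := Groth.Agent.RPlusComp.nonempty_adjPlus (Dual3.homOAdj i)
  let G : (Dual3.IsBddBelowQ X).FullSubcategory ⥤ DCoh.D Z :=
    Dual3.bddToPlus X ⋙ Dual3.RHomOPlus i ⋙ DerivedCategory.Plus.ι
  have hG : ∀ K, DCoh.IsQCohD (G.obj K) := fun K n =>
    Groth.Agent.HomODer.prop_RHomO i _ (Groth.Agent.HomODer.five_qcoh Z) (fun M => Coh.IsQCoh M)
      (fun _ _ e h => Groth.Agent.QC.isQCoh_of_iso e h) (fun q N hN => Groth.Agent.HomODer.isQCoh_rightDerived i q hN)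
      ((Dual3.bddToPlus X).obj K) K.obj.property n
  let G' : (Dual3.IsBddBelowQ X).FullSubcategory ⥤ DCoh.DQCoh Z := ObjectProperty.lift _ G hG
  let r := Groth.Agent.HomODer.rpushIso i
  let c : ∀ K, (DCoh.RpushQ i hf).obj (G'.obj K) ⟶ (Dual3.bddι X).obj K := fun K =>
    ObjectProperty.homMk (r.hom.app (G.obj K) ≫ Groth.Agent.HomODer.cou adjP ((Dual3.bddToPlus X).obj K))
  let β : G' ⟶ Dual3.bddι X ⋙ a :=
    { app := fun K => adj.homEquiv _ _ (c K)
      naturality := fun K K' f => by
        rw [Functor.comp_map, ← adj.homEquiv_naturality_left, ← adj.homEquiv_naturality_right]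
        congr 1
        refine ObjectProperty.hom_ext _ ?_
        change (DCoh.Rpush i).map (G.map f) ≫ r.hom.app (G.obj K') ≫ _ = (r.hom.app (G.obj K) ≫ _) ≫ _
        rw [← Category.assoc, r.hom.naturality, Category.assoc, Category.assoc]
        exact congrArg (r.hom.app (G.obj K) ≫ ·)
          (Groth.Agent.HomODer.cou_natural adjP ((Dual3.bddToPlus X).map f)) }
  haveI : ∀ K, IsIso (β.app K) := fun K => by
    suffices hyo : ∀ M, Function.Bijective (fun v : M ⟶ G'.obj K => v ≫ β.app K) by
      obtain ⟨t, ht⟩ := (hyo _).2 (𝟙 _)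
      refine ⟨t, (hyo _).1 ?_, ht⟩
      change (β.app K ≫ t) ≫ β.app K = 𝟙 _ ≫ β.app K
      rw [Category.assoc, show t ≫ β.app K = 𝟙 _ from ht, Category.comp_id, Category.id_comp]
    intro M
    have hb := Groth.Agent.HomODer.bijective_all adjP M.obj ((Dual3.bddToPlus X).obj K)
    let e1 : (M ⟶ G'.obj K) ≃ (M.obj ⟶ G.obj K) :=
      { toFun := fun v => v.hom
        invFun := fun v => ObjectProperty.homMk v
        left_inv := fun _ => rfl
        right_inv := fun _ => rfl }
    let e2 : ((Scheme.Modules.pushforward i).mapDerivedCategory.obj M.obj ⟶ K.obj.obj) ≃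
        ((DCoh.RpushQ i hf).obj M ⟶ (Dual3.bddι X).obj K) :=
      { toFun := fun v => ObjectProperty.homMk (r.hom.app M.obj ≫ v)
        invFun := fun v => r.inv.app M.obj ≫ v.hom
        left_inv := fun v => (Iso.inv_hom_id_app_assoc r M.obj v :)
        right_inv := fun v => ObjectProperty.hom_ext _ (Iso.hom_inv_id_app_assoc r M.obj v.hom) }
    have h : (fun v : M ⟶ G'.obj K => v ≫ β.app K) =
        (adj.homEquiv M _) ∘ e2 ∘ (fun v => (Scheme.Modules.pushforward i).mapDerivedCategory.map v ≫
          Groth.Agent.HomODer.cou adjP ((Dual3.bddToPlus X).obj K)) ∘ e1 := by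
      funext v
      simp only [Function.comp_apply, β]
      rw [← adj.homEquiv_naturality_left]
      congr 1
      refine ObjectProperty.hom_ext _ ?_
      change (DCoh.Rpush i).map v.hom ≫ r.hom.app _ ≫ _ = r.hom.app M.obj ≫ _
      rw [← Category.assoc, r.hom.naturality, Category.assoc]
      rfl
    rw [h]
    exact (adj.homEquiv M _).bijective.comp (e2.bijective.comp (hb.comp e1.bijective))
  haveI := NatIso.isIso_of_isIso_app β
  exact ⟨(Functor.associator _ _ _).symm ≪≫ Functor.isoWhiskerRight (asIso β).symm _ ≪≫ Iso.refl G⟩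

end Groth.Agent.S3634
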