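import Groth.Statements.S0238
import Groth.Agent.S0289

set_option autoImplicit false
universe u
open Pi1

set_option backward.isDefEq.respectTransparency false

namespace Groth.Agent.S0238

open AlgebraicGeometry CategoryTheory CategoryTheory.Limits in
/-- For a thickening, i.e. a closed immersion which is surjective on points, pulling back finite etale
covers is an equivalence of categories. -/
theorem result {X X' : Scheme.{u}} (i : X ⟶ X') [IsClosedImmersion i] [Surjective i] :
    (FEt.restrict i).IsEquivalence := by
  haveI : IsIntegralHom i := inferInstance
  exact Groth.Agent.S0289.result i

end Groth.Agent.S0238
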