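import Groth.Statements.S7181
import Groth.Agent.Pinch.Props
import Groth.Agent.Pinch.Charts

set_option autoImplicit false
universe u
open FlatMor

open CategoryTheory Limits AlgebraicGeometry Groth.Agent
set_option backward.isDefEq.respectTransparency false
namespace Groth.Agent.S7181

open AlgebraicGeometry CategoryTheory Limits in
/-- In the pushout P = Y ⨿_Z X of a closed immersion i : Z → X and an integral morphism j : Z → Y over a
base S (each fibre of j contained in the preimage of an affine open of X), if X and Y are separated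
(resp. quasi-separated) over S then so is P. -/
theorem result {X Y Z P S : Scheme.{u}} (i : Z ⟶ X) (j : Z ⟶ Y) [IsClosedImmersion i] [IsIntegralHom j]
    (haff : ∀ y : Y, ∃ U : X.Opens, IsAffineOpen U ∧ j ⁻¹' {y} ⊆ (i ⁻¹ᵁ U : Set ↑Z))
    (a : X ⟶ P) (b : Y ⟶ P) (hP : IsPushout i j a b) (p : X ⟶ S) (q : Y ⟶ S) (r : P ⟶ S)
    (hp : a ≫ r = p) (hq : b ≫ r = q) :
    ((IsSeparated p ∧ IsSeparated q) → IsSeparated r) ∧ ((QuasiSeparated p ∧ QuasiSeparated q) → QuasiSeparated r) := by
  have hc : Pinch.HasCharts i j := Pinch.hasCharts_of_integral i j fun y => by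
    obtain ⟨U, hU, hyU⟩ := haff y
    exact ⟨U, hU, fun z hz => hyU hz⟩
  have h := Pinch.isPinch_of_isPushout hc hP
  haveI := Pinch.isIntegralHom_a hc h
  haveI := Pinch.isClosedImmersion_b hc h
  subst hp hq
  let ma := pullback.map (a ≫ r) (a ≫ r) r r a a (𝟙 S) (by simp) (by simp)
  let mb := pullback.map (b ≫ r) (b ≫ r) r r b b (𝟙 S) (by simp) (by simp)
  haveI : IsIntegralHom ma := MorphismProperty.pullbackMap (P := @IsIntegralHom) ‹_› ‹_› rfl rfl
  haveI : IsIntegralHom b := inferInstance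
  haveI : IsIntegralHom mb := MorphismProperty.pullbackMap (P := @IsIntegralHom) ‹IsIntegralHom b› ‹IsIntegralHom b› rfl rfl
  have ea : a ≫ pullback.diagonal r = pullback.diagonal (a ≫ r) ≫ ma := by
    apply pullback.hom_ext <;> simp [ma, pullback.map, reassoc_of% pullback.diagonal_fst, reassoc_of% pullback.diagonal_snd]
  have eb : b ≫ pullback.diagonal r = pullback.diagonal (b ≫ r) ≫ mb := by
    apply pullback.hom_ext <;> simp [mb, pullback.map, reassoc_of% pullback.diagonal_fst, reassoc_of% pullback.diagonal_snd]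
  have hsurj := Pinch.surj_of_top (Pinch.top_of_isPinch h)
  refine ⟨fun ⟨h1, h2⟩ => ⟨?_⟩, fun ⟨h1, h2⟩ => ⟨?_⟩⟩
  · refine IsClosedImmersion.of_isPreimmersion _ ?_
    have hr : Set.range (pullback.diagonal r) =
        ma '' Set.range (pullback.diagonal (a ≫ r)) ∪ mb '' Set.range (pullback.diagonal (b ≫ r)) := by
      rw [← Set.range_comp, ← Set.range_comp]
      show _ = Set.range (pullback.diagonal (a ≫ r) ≫ ma) ∪ Set.range (pullback.diagonal (b ≫ r) ≫ mb)
      rw [← ea, ← eb]
      refine Set.Subset.antisymm ?_ (Set.union_subset ?_ ?_)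
      · rintro _ ⟨p, rfl⟩
        rcases hsurj p with ⟨x, rfl⟩ | ⟨y, rfl⟩
        · exact Or.inl ⟨x, rfl⟩
        · exact Or.inr ⟨y, rfl⟩
      · rintro _ ⟨x, rfl⟩; exact ⟨a x, rfl⟩
      · rintro _ ⟨y, rfl⟩; exact ⟨b y, rfl⟩
    rw [hr]
    exact (ma.isClosedMap _ (pullback.diagonal (a ≫ r)).isClosedEmbedding.isClosed_range).union
      (mb.isClosedMap _ (pullback.diagonal (b ≫ r)).isClosedEmbedding.isClosed_range)
  · haveI : QuasiCompact (a ≫ pullback.diagonal r) := by rw [ea]; infer_instance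
    haveI : QuasiCompact (b ≫ pullback.diagonal r) := by rw [eb]; infer_instance
    refine quasiCompact_iff_forall_isAffineOpen.2 fun O hO => ?_
    have e : ((pullback.diagonal r ⁻¹ᵁ O : P.Opens) : Set P) =
        a '' ((a ≫ pullback.diagonal r) ⁻¹ᵁ O : X.Opens) ∪ b '' ((b ≫ pullback.diagonal r) ⁻¹ᵁ O : Y.Opens) := by
      refine Set.Subset.antisymm (fun p hp => ?_) (Set.union_subset ?_ ?_)
      · rcases hsurj p with ⟨x, rfl⟩ | ⟨y, rfl⟩
        · exact Or.inl ⟨x, hp, rfl⟩
        · exact Or.inr ⟨y, hp, rfl⟩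
      · rintro _ ⟨x, hx, rfl⟩; exact hx
      · rintro _ ⟨y, hy, rfl⟩; exact hy
    rw [e]
    refine IsCompact.union ?_ ?_
    · refine IsCompact.image ?_ a.continuous
      exact QuasiCompact.isCompact_preimage (f := a ≫ pullback.diagonal r) _ O.2 hO.isCompact
    · refine IsCompact.image ?_ b.continuous
      exact QuasiCompact.isCompact_preimage (f := b ≫ pullback.diagonal r) _ O.2 hO.isCompact

end Groth.Agent.S7181
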