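import Groth.Statements.S1186
import Groth.Agent.Pinch.Lift
import Groth.Agent.Pinch.FiniteType
import Groth.Agent.S7181

set_option autoImplicit false
universe u
open Pi1

open CategoryTheory Limits AlgebraicGeometry Groth.Agent
set_option backward.isDefEq.respectTransparency false
namespace Groth.Agent.S1186

open AlgebraicGeometry CategoryTheory CategoryTheory.Limits in
/-- Let i : Z ⟶ X be a closed immersion and j : Z ⟶ Y an integral morphism such that every fibre of j
lies in the preimage under i of some affine open of X, and let a : X ⟶ W, b : Y ⟶ W exhibit W as the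
pushout of i and j in the category of schemes. If U is finite étale over X and V is finite étale
over Y with U ×_X Z ≅ V ×_Y Z over Z, then there is a finite étale cover T of W whose restrictions
to X and to Y are isomorphic to U and to V respectively. (This is the essential-surjectivity part of
an equivalence between finite étale covers of W and the 2-fibre product of the categories of finite
étale covers of X and of Y over that of Z; only the gluing of objects is asserted, and the
compatibility of the two identifications over Z is not asserted.) -/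
theorem result {Z X Y W : Scheme.{u}} (i : Z ⟶ X) [IsClosedImmersion i] (j : Z ⟶ Y) [IsIntegralHom j]
    (h3 : ∀ y : Y, ∃ U : X.Opens, IsAffineOpen U ∧ ∀ z : Z, j.base z = y → i.base z ∈ U)
    (a : X ⟶ W) (b : Y ⟶ W) (hpo : IsPushout i j a b)
    (U : FEt.Cat X) (V : FEt.Cat Y) (e : (FEt.restrict i).obj U ≅ (FEt.restrict j).obj V) :
    ∃ T : FEt.Cat W, Nonempty ((FEt.restrict a).obj T ≅ U) ∧ Nonempty ((FEt.restrict b).obj T ≅ V) := by
  have hc : Pinch.HasCharts i j := Pinch.hasCharts_of_integral i j h3
  have hp := Pinch.isPinch_of_isPushout hc hpo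
  haveI : IsFinite U.hom := U.prop.1
  haveI : Etale U.hom := U.prop.2
  haveI : IsFinite V.hom := V.prop.1
  haveI : Etale V.hom := V.prop.2
  let eL : pullback U.hom i ≅ pullback V.hom j := (MorphismProperty.Over.forget FEt.prop.{u} ⊤ Z ⋙ Over.forget Z).mapIso e
  have hW : eL.hom ≫ pullback.snd V.hom j = pullback.snd U.hom i := MorphismProperty.Over.w e.hom
  let i' : pullback U.hom i ⟶ U.left := pullback.fst U.hom i
  let j' : pullback U.hom i ⟶ V.left := eL.hom ≫ pullback.fst V.hom j
  let c : pullback U.hom i ⟶ Z := pullback.snd U.hom i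
  have hX : IsPullback i' c U.hom i := IsPullback.of_hasPullback U.hom i
  have hY : IsPullback j' c V.hom j :=
    (IsPullback.of_hasPullback V.hom j).of_iso eL.symm (Iso.refl _) (Iso.refl _) (Iso.refl _)
      (by simp [j']) (by simp [c, ← hW]) (by simp) (by simp)
  haveI : IsClosedImmersion i' := MorphismProperty.of_isPullback hX.flip ‹IsClosedImmersion i›
  haveI : IsIntegralHom j' := MorphismProperty.of_isPullback hY.flip ‹IsIntegralHom j›
  have hc' : Pinch.HasCharts i' j' := Pinch.hasCharts_lift (f := U.hom) (g := V.hom) (c := c) hc hX.w hY.w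
  obtain ⟨W', a', b', hp'⟩ := Pinch.exists_pinch hc'
  have hP' := Pinch.isPushout_of_isPinch hp'
  let k := hP'.desc (U.hom ≫ a) (V.hom ≫ b) (by
    rw [← Category.assoc, hX.w, Category.assoc, hpo.w, ← Category.assoc, ← hY.w, Category.assoc])
  have ha : a' ≫ k = U.hom ≫ a := hP'.inl_desc _ _ _
  have hb : b' ≫ k = V.hom ≫ b := hP'.inr_desc _ _ _
  haveI := Pinch.isIntegralHom_a hc hp
  haveI := Pinch.isClosedImmersion_b hc hp
  have hket : Etale k := Pinch.of_desc (M := @Etale) Pinch.desc_etale
    (RingHom.Etale.stableUnderComposition.stableUnderCompositionWithLocalizationAway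
      (RingHom.Etale.propertyIsLocal.HoldsForLocalizationAway RingHom.Etale.containsIdentities)).1
    hc hp hc' hp' hX hY ha hb
    (HasRingHomProperty.appLE @Etale U.hom ‹_›) (HasRingHomProperty.appLE @Etale V.hom ‹_›)
  haveI := hket
  haveI : LocallyOfFiniteType k := inferInstance
  haveI : LocallyQuasiFinite k := Pinch.locallyQuasiFinite_of_branches hc hp hc' hp' hX hY ha hb
  haveI : IsSeparated k := (S7181.result i' j' (fun y => by
    obtain ⟨A, B, hAB, hy⟩ := hc' y
    refine ⟨A, hAB.affX, fun z hz => ?_⟩
    have hz' : j' z = y := hz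
    show z ∈ i' ⁻¹ᵁ A
    rw [hAB.sat]
    show j' z ∈ B
    rwa [hz']) a' b' hP' (U.hom ≫ a) (V.hom ≫ b) k ha hb).1 ⟨inferInstance, inferInstance⟩
  haveI : UniversallyClosed (a' ≫ k) := by rw [ha]; infer_instance
  haveI : UniversallyClosed (b' ≫ k) := by rw [hb]; infer_instance
  haveI : UniversallyClosed k := Pinch.universallyClosed_of_jointly_surjective
    (Pinch.surj_of_top (Pinch.top_of_isPinch hp')) k
  haveI : IsProper k := { toIsSeparated := inferInstance, toUniversallyClosed := inferInstance, toLocallyOfFiniteType := inferInstance }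
  have hkf : IsFinite k := IsFinite.of_isProper_of_locallyQuasiFinite k
  obtain ⟨pa, pb⟩ := Pinch.isPullback_branches hc hp hc' hp' hX hY ha hb
  refine ⟨MorphismProperty.Over.mk ⊤ k ⟨hkf, hket⟩, ⟨?_⟩, ⟨?_⟩⟩
  · exact MorphismProperty.Over.isoMk pa.isoPullback.symm (by
      show pa.isoPullback.inv ≫ U.hom = pullback.snd k a
      exact pa.isoPullback_inv_snd)
  · exact MorphismProperty.Over.isoMk pb.isoPullback.symm (by
      show pb.isoPullback.inv ≫ V.hom = pullback.snd k b
      exact pb.isoPullback_inv_snd)

end Groth.Agent.S1186
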