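import Groth.Statements.S1544
import Mathlib
import Groth.Agent.GeomProp.SchemeReduced
import Groth.Agent.SmLocalST.SmoothField
-- import your own Groth.Agent.* helpers here

set_option autoImplicit false
universe u
open CategoryTheory CategoryTheory.Limits AlgebraicGeometry
attribute [local instance] Curv2.resAlgebra Curv2.stalkAlgebra
open Variety

namespace Groth.Agent.S1544

/-- For an integral scheme over k, geometric reducedness of the scheme is equivalent to geometric
reducedness over k of the function field (the local ring at the generic point), i.e. a separable
extension of k in the sense of commutative algebra. The source states this for varieties;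
integrality is what the proof uses. -/
theorem result (k : Type u) [Field k] (X : Scheme.{u}) [X.Over (Spec (CommRingCat.of k))] [IsIntegral X] :
    GeometricallyReduced (X ↘ (Spec (CommRingCat.of k))) ↔ Algebra.IsGeometricallyReduced k X.functionField := by
  refine ⟨fun hX => (Groth.Agent.GeomProp.isGeomReducedAt_iff k X _).1
    ((Groth.Agent.GeomProp.geometricallyReduced_iff_forall k X).1 hX _), fun hK => ?_⟩
  refine Groth.Agent.GeomProp.geometricallyReduced_of_genericPoints k X fun η hη => ?_
  rw [genericPoints_eq_singleton, Set.mem_singleton_iff] at hη
  subst hη
  exact (Groth.Agent.GeomProp.isGeomReducedAt_iff k X _).2 hK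

end Groth.Agent.S1544
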