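import Groth.Statements.S14457
import Mathlib.RingTheory.Etale.StandardEtale
import Mathlib.RingTheory.AdjoinRoot
import Mathlib.Algebra.TrivSqZeroExt.Basic
import Mathlib.RingTheory.Norm.Defs
import Mathlib.RingTheory.Norm.Basic
import Mathlib.RingTheory.Unramified.Basic
import Mathlib.Tactic.LinearCombination
import Mathlib.Tactic.Nontriviality

set_option autoImplicit false
universe u
open CAlg

namespace Groth.Agent.S14457

open Polynomial in
/-- Let A be a commutative ring, a an element of A and n ≥ 1 an integer. The A-algebra A[T]/(T^n − a) is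
etale exactly when either n = 1 or the product n·a is a unit of A. (The exponent n is a positive
integer here; for n = 0 the quotient is (A/(1 − a))[T] and the equivalence fails.) -/
theorem result (A : Type u) [CommRing A] (a : A) (n : ℕ) (hn : 1 ≤ n) :
    Algebra.Etale A (AdjoinRoot ((X : A[X]) ^ n - C a)) ↔ n = 1 ∨ IsUnit ((n : A) * a) := by
  classical
  rcases subsingleton_or_nontrivial A with hA | hA
  · haveI : Subsingleton (AdjoinRoot ((Polynomial.X : A[X]) ^ n - Polynomial.C a)) := Module.subsingleton A _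
    exact iff_of_true (Algebra.Etale.of_equiv (AlgEquiv.ofBijective (Algebra.ofId A (AdjoinRoot ((Polynomial.X : A[X]) ^ n - Polynomial.C a)))
      ⟨fun x y _ => Subsingleton.elim x y, fun y => ⟨0, Subsingleton.elim _ _⟩⟩)) (Or.inr (isUnit_of_subsingleton _))
  set f : A[X] := Polynomial.X ^ n - Polynomial.C a with hf
  have hmon : f.Monic := Polynomial.monic_X_pow_sub_C a (by omega)
  have hdeg : f.natDegree = n := Polynomial.natDegree_X_pow_sub_C
  have hroot : (AdjoinRoot.root f) ^ n = algebraMap A (AdjoinRoot f) a := by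
    have := AdjoinRoot.aeval_eq (f := f) f
    rw [AdjoinRoot.mk_self] at this
    simpa [hf, sub_eq_zero] using this
  have hder : AdjoinRoot.mk f (Polynomial.derivative f) = (n : AdjoinRoot f) * AdjoinRoot.root f ^ (n - 1) := by
    simp [hf, Polynomial.derivative_X_pow]
  constructor
  · intro h
    by_cases hn1 : n = 1
    · exact Or.inl hn1
    right
    have hu : IsUnit (AdjoinRoot.mk f (Polynomial.derivative f)) := by
      by_contra hcon
      obtain ⟨Q, hQ, hQmem⟩ := exists_max_ideal_of_mem_nonunits hcon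
      letI := Ideal.Quotient.field Q
      let K := AdjoinRoot f ⧸ Q
      let t : K := Ideal.Quotient.mk Q (AdjoinRoot.root f)
      have ht : t ^ n = algebraMap A K a := by
        simp only [t, ← map_pow, hroot]; rfl
      have ht' : (n : K) * t ^ (n - 1) = 0 := by
        have := Ideal.Quotient.eq_zero_iff_mem.mpr hQmem
        rw [hder, map_mul, map_natCast, map_pow] at this
        exact this
      let B := TrivSqZeroExt K K
      let s₁ : B := TrivSqZeroExt.inl t
      let s₂ : B := TrivSqZeroExt.inl t + TrivSqZeroExt.inr 1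
      have halg : ∀ x : A, (algebraMap A B x).fst = algebraMap A K x ∧ (algebraMap A B x).snd = 0 := fun x =>
        ⟨rfl, rfl⟩
      have h1 : Polynomial.aeval s₁ f = 0 := by
        simp only [hf, map_sub, map_pow, Polynomial.aeval_X, Polynomial.aeval_C, sub_eq_zero, s₁]
        refine TrivSqZeroExt.ext ?_ ?_
        · rw [TrivSqZeroExt.fst_pow, (halg a).1, TrivSqZeroExt.fst_inl, ht]
        · rw [TrivSqZeroExt.snd_pow, (halg a).2, TrivSqZeroExt.snd_inl, smul_zero, smul_zero]
      have h2 : Polynomial.aeval s₂ f = 0 := by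
        simp only [hf, map_sub, map_pow, Polynomial.aeval_X, Polynomial.aeval_C, sub_eq_zero, s₂]
        refine TrivSqZeroExt.ext ?_ ?_
        · rw [TrivSqZeroExt.fst_pow, (halg a).1, TrivSqZeroExt.fst_add, TrivSqZeroExt.fst_inl, TrivSqZeroExt.fst_inr, add_zero, ht]
        · rw [TrivSqZeroExt.snd_pow, (halg a).2, TrivSqZeroExt.fst_add, TrivSqZeroExt.fst_inl, TrivSqZeroExt.fst_inr,
            TrivSqZeroExt.snd_add, TrivSqZeroExt.snd_inl, TrivSqZeroExt.snd_inr, zero_add, add_zero, smul_eq_mul, mul_one,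
            nsmul_eq_mul, Nat.pred_eq_sub_one, ht']
      let φ₁ : AdjoinRoot f →ₐ[A] B := AdjoinRoot.liftAlgHom f (Algebra.ofId A B) s₁ h1
      let φ₂ : AdjoinRoot f →ₐ[A] B := AdjoinRoot.liftAlgHom f (Algebra.ofId A B) s₂ h2
      let I : Ideal B := RingHom.ker (TrivSqZeroExt.fstHom K K K).toRingHom
      have hI : I ^ 2 = ⊥ := by
        rw [pow_two, eq_bot_iff, Ideal.mul_le]
        intro x hx y hy
        rw [Submodule.mem_bot]
        have hx' : x.fst = 0 := hx
        have hy' : y.fst = 0 := hy
        exact TrivSqZeroExt.ext (by rw [TrivSqZeroExt.fst_mul, hx', zero_mul, TrivSqZeroExt.fst_zero])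
          (by rw [TrivSqZeroExt.snd_mul, hx', hy']; simp)
      have heq : φ₁ = φ₂ := Algebra.FormallyUnramified.comp_injective (R := A) (A := AdjoinRoot f) I hI (AdjoinRoot.algHom_ext (by
        simp only [AlgHom.comp_apply, Ideal.Quotient.mkₐ_eq_mk, φ₁, φ₂, AdjoinRoot.liftAlgHom_root, Ideal.Quotient.eq]
        show TrivSqZeroExt.fst (s₁ - s₂) = 0
        simp [s₁, s₂]; exact neg_eq_zero.mpr (TrivSqZeroExt.fst_inr _ _)))
      have := congrArg (fun φ : AdjoinRoot f →ₐ[A] B => (φ (AdjoinRoot.root f)).snd) heq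
      simp only [φ₁, φ₂, AdjoinRoot.liftAlgHom_root, s₁, s₂, TrivSqZeroExt.snd_add, TrivSqZeroExt.snd_inl, TrivSqZeroExt.snd_inr, zero_add] at this
      exact zero_ne_one (this.trans ((TrivSqZeroExt.snd_add _ _).trans (by rw [TrivSqZeroExt.snd_inl, TrivSqZeroExt.snd_inr, zero_add])))
    rw [hder, IsUnit.mul_iff] at hu
    have hx : IsUnit (AdjoinRoot.root f) := (isUnit_pow_iff (by omega : n - 1 ≠ 0)).mp hu.2
    have hna : IsUnit (algebraMap A (AdjoinRoot f) ((n : A) * a)) := by
      rw [map_mul, map_natCast, ← hroot]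
      exact hu.1.mul (hx.pow n)
    have h' := hna.map (Algebra.norm A)
    rw [Algebra.norm_algebraMap_of_basis (AdjoinRoot.powerBasis' hmon).basis, Fintype.card_fin,
      AdjoinRoot.powerBasis'_dim, hdeg] at h'
    exact (isUnit_pow_iff (by omega : n ≠ 0)).mp h'
  · intro h
    have hu : IsUnit (AdjoinRoot.mk f (Polynomial.derivative f)) := by
      rw [hder]
      rcases h with h | h
      · subst h; simp
      · have hn' : IsUnit (n : A) := isUnit_of_mul_isUnit_left h
        have ha : IsUnit (a : A) := isUnit_of_mul_isUnit_right h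
        have hn'' := hn'.map (algebraMap A (AdjoinRoot f))
        rw [map_natCast] at hn''
        have hx : IsUnit (AdjoinRoot.root f) := (isUnit_pow_iff (by omega : n ≠ 0)).mp (hroot ▸ ha.map _)
        exact hn''.mul (hx.pow _)
    obtain ⟨v, hv⟩ := hu.exists_right_inv
    obtain ⟨p₁, rfl⟩ := AdjoinRoot.mk_surjective v
    rw [← map_mul, ← map_one (AdjoinRoot.mk f), AdjoinRoot.mk_eq_mk] at hv
    obtain ⟨p₂, hp₂⟩ := hv
    let P : StandardEtalePair A := ⟨f, hmon, 1, p₁, -p₂, 1, by linear_combination hp₂⟩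
    have hmap : P.HasMap (AdjoinRoot.root f) := ⟨by rw [AdjoinRoot.aeval_eq]; exact AdjoinRoot.mk_self, by simp [P]⟩
    let e : P.Ring ≃ₐ[A] AdjoinRoot f := AlgEquiv.ofAlgHom (P.lift _ hmap)
      (AdjoinRoot.liftAlgHom f (Algebra.ofId A P.Ring) P.X P.hasMap_X.1)
      (AdjoinRoot.algHom_ext (by simp))
      (StandardEtalePair.hom_ext (by simp))
    exact Algebra.Etale.of_equiv e

end Groth.Agent.S14457
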