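import Groth.Statements.S1928
import Groth.Agent.CycK0.Degree

set_option autoImplicit false
universe u
open CategoryTheory AlgebraicGeometry
open Cyc

set_option backward.isDefEq.respectTransparency false
set_option backward.isDefEq.respectTransparency.types false

namespace Groth.Agent.S1928

/-- Let X be proper over a field k with dim X ≤ 1 and L an invertible O_X-module. Then deg(L) := χ(X, L)
− χ(X, O_X) equals the degree Σ_x [κ(x) : k] · n_x of the 0-cycle c_1(L) ∩ [X]_1 = Σ n_x [x],
computed with any nonzero rational sections (the degree is independent of the choice). Dimension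
function: transcendence degree over k. (The source treats finite locally free modules of any
constant rank via c_1 of a vector bundle; only the invertible case is stated.) Here L(ξ) = L_ξ/𝔪_ξ
L_ξ is the space of rational sections of L on the closure of ξ, div_{L|W}(s) and c_1(L) ∩ α are
computed as coefficient functions from chosen nonzero rational sections (Cyc.secDivFun,
Cyc.c1CapFun), and results are compared up to rational equivalence for any cycles with those
coefficients. -/
theorem result (k : Type u) [Field k] (X : Scheme.{u}) [X.Over (Spec (CommRingCat.of k))] [IsProper (X ↘ Spec (CommRingCat.of k))] (hdim : topologicalKrullDim X ≤ 1) (δ : X → ℤ) (hδ : Cyc.DeltaCompat (X ↘ Spec (CommRingCat.of k)) δ (fun _ => 0)) (L : X.Modules) (hL : PicF.IsInvertible L) (s : (ξ : X) → Cyc.secFibre L ξ) (hs : ∀ ξ, s ξ ≠ 0) : Curv2.deg k X L 1 = ∑ᶠ x : X, ((X ↘ Spec (CommRingCat.of k)).residueDegree x : ℤ) * Cyc.c1CapFun δ L (Cyc.subschemeFun δ 1 (𝟙 X)) s x := by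
  haveI := CurveRR.isNoetherian_of_proper k X
  have hX := CycK0.isSetup_of_deltaCompat k hδ
  let G := (Coh.push (𝟙 X)).obj (Coh.structureModule X)
  have eG : G ≅ Coh.structureModule X := (Scheme.Modules.pushforwardId X).app _
  have hle : ∀ x : X, δ x ≤ ((0 : ℕ) : ℤ) + 1 := fun x => by
    have h1 := CycK0.delta_height k hδ x
    have h2 : topologicalKrullDim (closure ({x} : Set X)) ≤ ((1 : ℕ) : WithBot ℕ∞) :=
      ((topologicalKrullDim_subspace_le X _).trans hdim).trans_eq Nat.cast_one.symm
    rw [h1.2] at h2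
    rw [h1.1]
    have : WeilCoh.pdim X x ≤ 1 := by exact_mod_cast h2
    omega
  have hG : Cyc.CohLe δ (((0 : ℕ) : ℤ) + 1) G :=
    ⟨CohFinite.isCoh_of_iso eG.symm RefStalk.isCoh_structureModule, fun x _ => hle x⟩
  obtain ⟨P, N, hP, hN, hc, hsub⟩ := CycK0.alt_twist_sub k hX hδ (M := (Fin.elim0 : Fin 0 → X.Modules))
    (fun i => i.elim0) hL hG s hs
  rw [Intersect.alt_zero, Intersect.alt_zero, CycK0.alt_zero_eq_deg k hX hδ (by simpa using hP),
    CycK0.alt_zero_eq_deg k hX hδ (by simpa using hN),
    CurveRR.euler_eq_of_iso (PicGrp.tensorModIso eG (Iso.refl L) ≪≫ TMul.leftUnitIso L),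
    CurveRR.euler_eq_of_iso eG] at hsub
  have h1 : Cyc.subschemeFun δ 1 (𝟙 X) = Cyc.sheafFun δ (((0 : ℕ) : ℤ) + 1) G := by
    rw [Nat.cast_zero, zero_add]
    exact S1899.result X X δ hX (𝟙 X) 1 fun z => by simpa using hle z
  show _ = CycK0.degFun k (Cyc.c1CapFun δ L (Cyc.subschemeFun δ 1 (𝟙 X)) s)
  rw [h1, hc, CycK0.degFun_sub k (CycK0.finite_sheaf k hX hP) (CycK0.finite_sheaf k hX hN), Curv2.deg]
  simp only [Nat.cast_zero] at hsub ⊢
  have h : ((Curv2.euler k X L - 1 * Curv2.euler k X (Coh.structureModule X) : ℤ) : ℚ) =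
      ((CycK0.degFun k (Cyc.sheafFun δ 0 P) - CycK0.degFun k (Cyc.sheafFun δ 0 N) : ℤ) : ℚ) := by
    push_cast
    linarith [hsub]
  exact_mod_cast h

end Groth.Agent.S1928
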