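import Groth.Statements.S9800
import Groth.Agent.AmpleDimOne.Top
import Mathlib.RingTheory.DedekindDomain.PID
import Mathlib.RingTheory.RegularLocalRing.Defs

set_option autoImplicit false
universe u
open CategoryTheory AlgebraicGeometry TopologicalSpace
open Props

open Groth.Agent
set_option backward.isDefEq.respectTransparency false
namespace Groth.Agent.S9800

/-- A locally Noetherian normal scheme of dimension at most one is regular, that is, all of its local
rings are regular local rings. -/
theorem result (X : Scheme.{u})
    [IsLocallyNoetherian X] (hN : Pi1.IsNormalScheme X) (hd : topologicalKrullDim X ≤ 1) (x : X) :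
    IsRegularLocalRing (X.presheaf.stalk x) := by
  obtain ⟨hD, hI⟩ := hN x
  haveI := hD
  haveI := hI
  have hdim : ringKrullDim (X.presheaf.stalk x) ≤ 1 := AmpleDimOne.ringKrullDim_stalk_le hd x
  haveI : Ring.KrullDimLE 1 (X.presheaf.stalk x) := Ring.krullDimLE_iff.mpr hdim
  haveI : Ring.DimensionLEOne (X.presheaf.stalk x) := Ring.DimensionLEOne.mk fun hp hpr => by
    exact hpr.isMaximal_of_ne_bot hp
  haveI : IsDedekindDomain (X.presheaf.stalk x) := { }
  haveI : IsPrincipalIdealRing (X.presheaf.stalk x) := IsPrincipalIdealRing.of_finite_primes (by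
    refine ((Set.finite_singleton (IsLocalRing.maximalIdeal _)).insert ⊥).subset fun p hp => ?_
    rcases eq_or_ne p ⊥ with rfl | h
    · exact Or.inl rfl
    · exact Or.inr (IsLocalRing.eq_maximalIdeal (hp.isMaximal h)))
  infer_instance

end Groth.Agent.S9800
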