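import Groth.Statements.S6554
import Groth.Agent.W7Cover.GenEtale
import Groth.Agent.SmLocalST.SmoothField
import Groth.Agent.RegLoc.Normal
import Mathlib.RingTheory.RingHom.EssFiniteType
import Mathlib.RingTheory.Unramified.Field

set_option autoImplicit false
universe u
open CategoryTheory CategoryTheory.Limits AlgebraicGeometry
open Curves

set_option backward.isDefEq.respectTransparency false
set_option backward.isDefEq.respectTransparency.types false

open Groth.Agent

namespace Groth.Agent.S6554

/-- (3) ⇔ (4) ⇔ (5): let k be a field and f : X → Y a morphism over k of smooth curves over k (integral,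
separated, of finite type and smooth over k, of dimension one) which is nonconstant: f(ξ_X) = ξ_Y
for the generic points ξ_X of X and ξ_Y of Y (hypothesis e), so that the function field k(Y) maps
into k(X). Then: some nonempty open U ⊆ X has f|_U unramified if and only if some nonempty open U ⊆
X has f|_U étale; and the latter holds if and only if k(X)/k(Y) is a finite separable extension.
(The published statement also lists two further equivalent conditions, that df : f^*Ω_{Y/k} →
Ω_{X/k} is nonzero and that Ω_{X/Y} is supported on a proper closed subset; this row omits them. For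
a constant f every condition stated here fails, so assuming f nonconstant loses nothing.) -/
theorem result (k : Type u) [Field k]
    (X Y : Scheme.{u}) [X.Over (Spec (CommRingCat.of k))] [Y.Over (Spec (CommRingCat.of k))]
    [IsIntegral X] [IsSeparated (X ↘ (Spec (CommRingCat.of k)))] [LocallyOfFiniteType (X ↘ (Spec (CommRingCat.of k)))] [QuasiCompact (X ↘ (Spec (CommRingCat.of k)))] (hdX : topologicalKrullDim X = 1) [Smooth (X ↘ (Spec (CommRingCat.of k)))]
    [IsIntegral Y] [IsSeparated (Y ↘ (Spec (CommRingCat.of k)))] [LocallyOfFiniteType (Y ↘ (Spec (CommRingCat.of k)))] [QuasiCompact (Y ↘ (Spec (CommRingCat.of k)))] (hdY : topologicalKrullDim Y = 1) [Smooth (Y ↘ (Spec (CommRingCat.of k)))]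
    (f : X ⟶ Y) (hf : f ≫ (Y ↘ (Spec (CommRingCat.of k))) = X ↘ (Spec (CommRingCat.of k))) (e : f (genericPoint X) = genericPoint Y) :
    letI := ((Y.presheaf.stalkSpecializes (specializes_of_eq e) ≫ f.stalkMap (genericPoint X)).hom).toAlgebra
    ((∃ U : X.Opens, (U : Set X).Nonempty ∧ FormallyUnramified (U.ι ≫ f)) ↔
      (∃ U : X.Opens, (U : Set X).Nonempty ∧ Etale (U.ι ≫ f))) ∧
    ((∃ U : X.Opens, (U : Set X).Nonempty ∧ Etale (U.ι ≫ f)) ↔
      (FiniteDimensional Y.functionField X.functionField ∧ Algebra.IsSeparable Y.functionField X.functionField)) := by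
  letI : Algebra Y.functionField X.functionField :=
    ((Y.presheaf.stalkSpecializes (specializes_of_eq e) ≫ f.stalkMap (genericPoint X)).hom).toAlgebra
  haveI : LocallyOfFiniteType (f ≫ (Y ↘ Spec (CommRingCat.of k))) := by rw [hf]; infer_instance
  haveI : LocallyOfFiniteType f := locallyOfFiniteType_of_comp f (Y ↘ Spec (CommRingCat.of k))
  haveI : IsLocallyNoetherian Y := LocallyOfFiniteType.isLocallyNoetherian (Y ↘ Spec (CommRingCat.of k))
  haveI : LocallyOfFinitePresentation f := LocallyOfFinitePresentation.iff_locallyOfFiniteType.mpr inferInstance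
  haveI : Flat f := W7Cover.flat_of_map_genericPoint hdY.le (fun y => by
    haveI := SmLocalST.isRegularLocalRing_stalk_of_smooth_field (Y ↘ Spec (CommRingCat.of k)) y
    exact RegLoc.isIntegrallyClosed) f e
  have hfu : (∃ U : X.Opens, (U : Set X).Nonempty ∧ FormallyUnramified (U.ι ≫ f)) ↔
      (∃ U : X.Opens, (U : Set X).Nonempty ∧ Etale (U.ι ≫ f)) :=
    ⟨fun ⟨U, hU, _⟩ => ⟨U, hU, Etale.of_formallyUnramified_of_flat _⟩, fun ⟨U, hU, _⟩ => ⟨U, hU, inferInstance⟩⟩
  refine ⟨hfu, hfu.symm.trans ?_⟩
  have key : ∀ (a b : Y) (h : a = b), IsIso (Y.presheaf.stalkSpecializes (specializes_of_eq h)) := by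
    rintro a _ rfl
    rw [TopCat.Presheaf.stalkSpecializes_refl]
    infer_instance
  haveI := key _ _ e
  let φ := Y.presheaf.stalkSpecializes (specializes_of_eq e) ≫ f.stalkMap (genericPoint X)
  have hiso : φ.hom.FormallyUnramified ↔ (f.stalkMap (genericPoint X)).hom.FormallyUnramified :=
    RingHom.FormallyUnramified.respectsIso.cancel_left_isIso _ _
  have hess : φ.hom.EssFiniteType :=
    (RingHom.EssFiniteType.respectsIso.cancel_left_isIso _ _).mpr (LocallyOfFiniteType.stalkMap f _)
  haveI : Algebra.EssFiniteType Y.functionField X.functionField := hess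
  constructor
  · rintro ⟨U, hU, hu⟩
    have hη : genericPoint X ∈ U := ((genericPoint_spec X).mem_open_set_iff U.2).mpr (by simpa using hU)
    haveI : Algebra.FormallyUnramified Y.functionField X.functionField :=
      hiso.mpr (UnramPoint.stalkMap_formallyUnramified f U _ hη)
    exact ⟨Algebra.FormallyUnramified.finite_of_free _ _, Algebra.FormallyUnramified.isSeparable _ _⟩
  · rintro ⟨-, hsep⟩
    have hu : φ.hom.FormallyUnramified := Algebra.FormallyUnramified.of_isSeparable Y.functionField X.functionField
    obtain ⟨U, hU, hU'⟩ := UnramPoint.exists_nhd_of_stalkMap f _ (hiso.mp hu)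
    exact ⟨U, ⟨_, hU⟩, hU'⟩

end Groth.Agent.S6554
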