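import Groth.Statements.S6034
import Groth.Agent.LCZ.Scheme
import Mathlib
-- import your own Groth.Agent.* helpers here

set_option autoImplicit false
universe u
open CategoryTheory CategoryTheory.Limits TopologicalSpace AlgebraicGeometry
open LocCohZ

namespace Groth.Agent.S6034

/-- Let X be a locally Noetherian scheme, Y a closed subset with open complement U, M a coherent
O_X-module with underlying abelian sheaf F and n a natural number. Then ℋ^i_Y(F) = 0 for all i < n
if and only if depth M_x ≥ n for every x ∈ Y. -/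
theorem result (X : Scheme.{u}) [IsLocallyNoetherian X] (U : X.Opens)
    (M : X.Modules) (hM : Coh.IsCoh M) (n : ℕ) :
    (∀ i : ℕ, i < n → IsZero ((LocCohZ.HZsh (X := X.carrier) U i).obj (Coh.toAb M))) ↔
      ∀ x : X, x ∉ (U : Set X) →
        (n : ℕ∞) ≤ LocCoh.depth (X.presheaf.stalk x) (M.presheaf.stalk x) := by
  constructor
  · intro h x hx
    obtain ⟨_, ⟨V : X.Opens, hV : IsAffineOpen V, rfl⟩, hxV, -⟩ :=
      X.isBasis_affineOpens.exists_subset_of_mem_open (Set.mem_univ x) isOpen_univ
    exact (Groth.Agent.LCZ.forall_subsingleton_HZ_iff M hM hV U n).1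
      (fun i hi => Groth.Agent.LCZ.subsingleton_HZ_of_isZero (X := X.carrier) U h V hi) x hxV hx
  · intro h i hi
    refine Groth.Agent.LCZ.isZero_HZsh_of_subsingleton (X := X.carrier) U fun V x hx => ?_
    obtain ⟨_, ⟨W : X.Opens, hW : IsAffineOpen W, rfl⟩, hxW, hWV⟩ :=
      X.isBasis_affineOpens.exists_subset_of_mem_open (show x ∈ (V : Set X) from hx) V.isOpen
    exact ⟨W, hxW, hWV, (Groth.Agent.LCZ.forall_subsingleton_HZ_iff M hM hW U n).2 (fun y _ hy => h y hy) i hi⟩

end Groth.Agent.S6034
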