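import Groth.Statements.S0922
import Groth.Agent.DerPush.Basic
import Groth.Agent.KFlat.LpullComp

set_option autoImplicit false
universe u
open CategoryTheory
attribute [local instance] HasDerivedCategory.standard
open DCoh

namespace Groth.Agent.S0922

open AlgebraicGeometry in
/-- For morphisms of schemes f : X → Y and g : Y → Z, the composite Rg_* ∘ Rf_* of total right derived
direct image functors is isomorphic to R(g ∘ f)_* as functors D(O_X) → D(O_Z). Existence of the
three derived functors is assumed (as instance binders) and only the existence of an isomorphism of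
functors is asserted. The published statement is for ringed spaces; stated here for schemes. -/
theorem result {X Y Z : Scheme.{u}} (f : X ⟶ Y) (g : Y ⟶ Z)
    [DCoh.HasRpush f] [DCoh.HasRpush g] [DCoh.HasRpush (f ≫ g)] :
    Nonempty (DCoh.Rpush f ⋙ DCoh.Rpush g ≅ DCoh.Rpush (f ≫ g)) := by
  have := Groth.Agent.KFlat.hasLpull f
  have := Groth.Agent.KFlat.hasLpull g
  have := Groth.Agent.KFlat.hasLpull (f ≫ g)
  obtain ⟨a₁⟩ := Groth.Agent.DerPush.nonempty_lpull_adj_rpush f
  obtain ⟨a₂⟩ := Groth.Agent.DerPush.nonempty_lpull_adj_rpush g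
  obtain ⟨a⟩ := Groth.Agent.DerPush.nonempty_lpull_adj_rpush (f ≫ g)
  obtain ⟨e⟩ := Groth.Agent.KFlat.Lpull_comp_sch f g
  exact ⟨((a₂.comp a₁).ofNatIsoLeft e).rightAdjointUniq a⟩

end Groth.Agent.S0922
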