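import Groth.Statements.S6501
import Mathlib.RingTheory.DividedPowers.Basic
import Mathlib.RingTheory.Ideal.Operations
import Mathlib.Data.Nat.Choose.Sum
-- import your own Groth.Agent.* helpers here

set_option autoImplicit false
universe u
open DPow

namespace Groth.Agent.S6501

/-- Let A be a commutative ring whose additive group is torsion free and I an ideal of A. Then I carries
at most one divided power structure, and it carries one if and only if I is generated by a set S
such that for every x in S and every n ≥ 1 the power x^n lies in the ideal generated by the products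
of n! with elements of I. -/
theorem result {A : Type u} [CommRing A] [IsAddTorsionFree A] (I : Ideal A) :
    Subsingleton (DividedPowers I) ∧
    (Nonempty (DividedPowers I) ↔ ∃ S : Set A, Ideal.span S = I ∧
      ∀ x ∈ S, ∀ n : ℕ, 1 ≤ n → x ^ n ∈ Ideal.span {(Nat.factorial n : A)} * I) := by
  have hcancel : ∀ (n : ℕ) (a b : A), (n.factorial : A) * a = n.factorial * b → a = b := by
    intro n a b h
    rw [← nsmul_eq_mul, ← nsmul_eq_mul] at h
    exact nsmul_right_injective n.factorial_ne_zero h
  refine ⟨⟨fun γ γ' => DividedPowers.ext _ _ fun n x hx => hcancel n _ _ (by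
    rw [γ.factorial_mul_dpow_eq_pow hx, γ'.factorial_mul_dpow_eq_pow hx])⟩, ?_, ?_⟩
  · rintro ⟨γ⟩
    exact ⟨(I : Set A), Ideal.span_eq I, fun x hx n hn => by
      rw [← γ.factorial_mul_dpow_eq_pow hx]
      exact Ideal.mul_mem_mul (Ideal.mem_span_singleton_self _) (γ.dpow_mem (by omega) hx)⟩
  · rintro ⟨S, hS, hpow⟩
    classical
    have hmain : ∀ x ∈ I, ∀ n : ℕ, 1 ≤ n → ∃ c ∈ I, (n.factorial : A) * c = x ^ n := by
      intro x hx
      rw [← hS] at hx
      induction hx using Submodule.span_induction with
      | mem x hx =>
        intro n hn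
        have := hpow x hx n hn
        rw [Ideal.mem_span_singleton_mul] at this
        exact this
      | zero => exact fun n hn => ⟨0, zero_mem _, by rw [mul_zero, zero_pow (by omega)]⟩
      | smul a x _ ih =>
        intro n hn
        obtain ⟨c, hc, e⟩ := ih n hn
        exact ⟨a ^ n * c, I.mul_mem_left _ hc, by rw [smul_eq_mul, mul_pow, ← e]; ring⟩
      | add x y hx' hy' ihx ihy =>
        intro n hn
        have hex : ∀ j ∈ Finset.range (n + 1), ∃ c ∈ I,
            (n.factorial : A) * c = x ^ j * y ^ (n - j) * (n.choose j : A) := by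
          intro j hj
          rw [Finset.mem_range] at hj
          rcases Nat.eq_zero_or_pos j with rfl | hj0
          · obtain ⟨c, hc, e⟩ := ihy n hn
            exact ⟨c, hc, by simp [e]⟩
          rcases Nat.eq_zero_or_pos (n - j) with h0 | h0
          · obtain ⟨c, hc, e⟩ := ihx n hn
            have : j = n := by omega
            subst this
            exact ⟨c, hc, by simp [e]⟩
          obtain ⟨a, ha, ea⟩ := ihx j hj0
          obtain ⟨b, hb, eb⟩ := ihy (n - j) h0
          refine ⟨a * b, I.mul_mem_right _ ha, ?_⟩
          rw [← ea, ← eb, ← Nat.choose_mul_factorial_mul_factorial (show j ≤ n by omega),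
            Nat.cast_mul, Nat.cast_mul]
          ring
        choose! c hc e using hex
        refine ⟨∑ j ∈ Finset.range (n + 1), c j, I.sum_mem hc, ?_⟩
        rw [Finset.mul_sum, add_pow]
        exact Finset.sum_congr rfl e
    choose! g hgI hg using hmain
    let d : ℕ → A → A := fun n x => if x ∈ I then (if n = 0 then 1 else g x n) else 0
    have hd : ∀ n x, x ∈ I → (n.factorial : A) * d n x = x ^ n := by
      intro n x hx
      by_cases hn : n = 0
      · simp [d, hx, hn]
      · simp only [d, if_pos hx, if_neg hn]
        exact hg x hx n (by omega)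
    have hdI : ∀ n x, n ≠ 0 → x ∈ I → d n x ∈ I := by
      intro n x hn hx
      simp only [d, if_pos hx, if_neg hn]
      exact hgI x hx n (by omega)
    refine ⟨{ dpow := d, dpow_null := fun hx => by simp [d, hx], dpow_zero := fun hx => by simp [d, hx],
              dpow_one := fun {x} hx => ?_, dpow_mem := fun hn hx => hdI _ _ hn hx, dpow_add := ?_,
              dpow_mul := ?_, mul_dpow := ?_, dpow_comp := ?_ }⟩
    · simpa using hd 1 x hx
    · intro n x y hx hy
      refine hcancel n _ _ ?_
      rw [hd n _ (I.add_mem hx hy), (Commute.all x y).add_pow', Finset.mul_sum]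
      refine Finset.sum_congr rfl fun k hk => ?_
      rw [Finset.mem_antidiagonal] at hk
      rw [← hd k.1 x hx, ← hd k.2 y hy, nsmul_eq_mul, ← hk,
        ← Nat.add_choose_mul_factorial_mul_factorial k.1 k.2, Nat.cast_mul, Nat.cast_mul, Nat.choose_symm_add]
      ring
    · intro n a x hx
      refine hcancel n _ _ ?_
      rw [hd n _ (I.mul_mem_left a hx), mul_pow, ← hd n x hx]; ring
    · intro m n x hx
      refine hcancel (m + n) _ _ ?_
      rw [mul_left_comm ((m + n).factorial : A) ((m + n).choose m : A), hd _ _ hx, pow_add, ← hd m x hx,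
        ← hd n x hx, ← Nat.add_choose_mul_factorial_mul_factorial m n, Nat.cast_mul, Nat.cast_mul, Nat.choose_symm_add]
      ring
    · intro m n x hn hx
      refine hcancel (m * n) _ _ ?_
      rw [mul_left_comm ((m * n).factorial : A), hd _ _ hx, mul_comm m n, pow_mul, ← hd n x hx,
        mul_pow, ← hd m _ (hdI n x hn hx), mul_comm n m, ← Nat.uniformBell_mul_eq m hn,
        Nat.cast_mul, Nat.cast_mul, Nat.cast_pow]
      ring

end Groth.Agent.S6501
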