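import Groth.Statements.S18420
import Mathlib
import Groth.Agent.S6501
-- import your own Groth.Agent.* helpers here

set_option autoImplicit false
universe u v
open DPow

namespace Groth.Agent.S18420

/-- The divided monomial coefficient ring over `ℚ`. -/
abbrev FQ (R : Type u) (N : ℕ) : Type u := MvPolynomial (Fin N) (MvPolynomial R ℚ)

/-- `X_i^n / n!`. -/
noncomputable def gq (R : Type u) (N : ℕ) (i : Fin N) (n : ℕ) : FQ R N :=
  MvPolynomial.C (MvPolynomial.C ((n.factorial : ℚ)⁻¹)) * MvPolynomial.X i ^ n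

open MvPolynomial

theorem gq_zero (R : Type u) (N : ℕ) (i : Fin N) : gq R N i 0 = 1 := by simp [gq]

theorem gq_mul (R : Type u) (N : ℕ) (i : Fin N) (n m : ℕ) :
    gq R N i n * gq R N i m = ((n + m).choose n : FQ R N) * gq R N i (n + m) := by
  simp only [gq]
  rw [mul_mul_mul_comm, ← map_mul C, ← map_mul C, ← pow_add,
    ← map_natCast (C : MvPolynomial R ℚ →+* FQ R N), ← map_natCast (C : ℚ →+* MvPolynomial R ℚ),
    ← mul_assoc, ← map_mul C, ← map_mul C]
  congr 3
  rw [Nat.cast_add_choose ℚ]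
  have h1 : (n.factorial : ℚ) ≠ 0 := by exact_mod_cast n.factorial_ne_zero
  have h2 : (m.factorial : ℚ) ≠ 0 := by exact_mod_cast m.factorial_ne_zero
  have h3 : ((n + m).factorial : ℚ) ≠ 0 := by exact_mod_cast (n + m).factorial_ne_zero
  field_simp

/-- Powers of divided monomials. -/
theorem pow_rel {T : Type*} [CommRing T] (z : ℕ → T) (h0 : z 0 = 1)
    (hmul : ∀ n m, z n * z m = ((n + m).choose n : T) * z (n + m)) (n k : ℕ) (hn : n ≠ 0) :
    z n ^ k = (k.factorial : T) * ((Nat.uniformBell k n : T) * z (k * n)) := by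
  rw [← mul_assoc, ← Nat.cast_mul]
  induction k with
  | zero => simp [h0, Nat.uniformBell_zero_left]
  | succ k ih =>
    rw [pow_succ, ih, mul_assoc, hmul, ← mul_assoc, ← Nat.cast_mul, show k * n + n = (k + 1) * n by ring]
    congr 2
    rw [Nat.uniformBell_succ_left, show (k + 1) * n = k * n + n by ring, Nat.choose_symm_add, Nat.factorial_succ]
    have h1 : (k * n + n).choose n = (k + 1) * (k * n + n - 1).choose (n - 1) := by
      obtain ⟨n, rfl⟩ : ∃ m, n = m + 1 := ⟨n - 1, by omega⟩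
      simp only [Nat.add_sub_cancel, ← add_assoc]
      have h := Nat.add_one_mul_choose_eq (k * (n + 1) + n) n
      have h' : (k * (n + 1) + n + 1).choose (n + 1) * (n + 1) =
          (k + 1) * (k * (n + 1) + n).choose n * (n + 1) := by
        rw [← h]; ring
      exact Nat.eq_of_mul_eq_mul_right (by omega) h'
    rw [h1]
    ring

theorem prod_mul_rel {T : Type*} [CommRing T] {N : ℕ} (z : Fin N → ℕ → T)
    (hmul : ∀ i n m, z i n * z i m = ((n + m).choose n : T) * z i (n + m))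
    (e : Fin N →₀ ℕ) (i : Fin N) (n : ℕ) :
    (∏ j, z j (e j)) * z i n = ((e i + n).choose (e i) : T) * ∏ j, z j ((e + Finsupp.single i n) j) := by
  classical
  rw [← Finset.mul_prod_erase _ _ (Finset.mem_univ i), ← Finset.mul_prod_erase _ _ (Finset.mem_univ i),
    mul_right_comm, hmul, mul_assoc, Finsupp.add_apply, Finsupp.single_eq_same]
  congr 2
  exact Finset.prod_congr rfl fun j hj => by
    rw [Finsupp.add_apply, Finsupp.single_eq_of_ne (Finset.ne_of_mem_erase hj), add_zero]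

theorem adjoin_le_span {A T : Type*} [CommRing A] [CommRing T] [Algebra A T] {N : ℕ} (z : Fin N → ℕ → T)
    (h0 : ∀ i, z i 0 = 1) (hmul : ∀ i n m, z i n * z i m = ((n + m).choose n : T) * z i (n + m)) {y : T}
    (hy : y ∈ Algebra.adjoin A (Set.range fun p : Fin N × ℕ => z p.1 p.2)) :
    ∃ c : (Fin N →₀ ℕ) →₀ A, y = c.sum fun e r => r • ∏ j, z j (e j) := by
  suffices h : y ∈ Submodule.span A (Set.range fun e : Fin N →₀ ℕ => ∏ j, z j (e j)) by
    obtain ⟨c, hc⟩ := Finsupp.mem_span_range_iff_exists_finsupp.mp h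
    exact ⟨c, hc.symm⟩
  suffices H : ∀ w ∈ Submodule.span A (Set.range fun e : Fin N →₀ ℕ => ∏ j, z j (e j)),
      w * y ∈ Submodule.span A (Set.range fun e : Fin N →₀ ℕ => ∏ j, z j (e j)) by
    have := H 1 (Submodule.subset_span ⟨0, Finset.prod_eq_one fun j _ => h0 j⟩)
    rwa [one_mul] at this
  induction hy using Algebra.adjoin_induction with
  | mem a ha =>
    obtain ⟨⟨i, n⟩, rfl⟩ := ha
    intro w hw
    induction hw using Submodule.span_induction with
    | mem w hw =>
      obtain ⟨e, rfl⟩ := hw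
      rw [prod_mul_rel z hmul, ← nsmul_eq_mul]
      exact nsmul_mem (Submodule.subset_span (Set.mem_range_self _)) _
    | zero => rw [zero_mul]; exact zero_mem _
    | add p q _ _ hp hq => rw [add_mul]; exact add_mem hp hq
    | smul r p _ hp => rw [smul_mul_assoc]; exact Submodule.smul_mem _ r hp
  | algebraMap r =>
    intro w hw
    rw [mul_comm, ← Algebra.smul_def]
    exact Submodule.smul_mem _ r hw
  | add p q _ _ hp hq => intro w hw; rw [mul_add]; exact add_mem (hp w hw) (hq w hw)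
  | mul p q _ _ hp hq => intro w hw; rw [← mul_assoc]; exact hq _ (hp w hw)

theorem prod_gq (R : Type u) (N : ℕ) (e : Fin N →₀ ℕ) :
    ∏ j, gq R N j (e j) = monomial e (C (∏ j, ((e j).factorial : ℚ)⁻¹)) := by
  simp only [gq]
  rw [Finset.prod_mul_distrib, ← map_prod C, ← map_prod C, monomial_eq,
    Finsupp.prod_fintype _ _ (fun i => pow_zero _)]

/-- Descent of divided powers from a torsion free model. -/
theorem exists_dp_of_model {G P : Type*} [CommRing G] [IsAddTorsionFree G] [CommRing P]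
    {N : ℕ} (φ : G →+* P) (hφ : Function.Surjective φ) (z : Fin N → ℕ → G) (hz0 : ∀ i, z i 0 = 1)
    (hzmul : ∀ i n m, z i n * z i m = ((n + m).choose n : G) * z i (n + m))
    (x : Fin N → ℕ → P) (hx : ∀ i n, φ (z i n) = x i n)
    (hker : ∀ y ∈ Ideal.span {w : G | ∃ (i : Fin N) (n : ℕ), 1 ≤ n ∧ w = z i n}, φ y = 0 →
      ∃ (s : Finset (Fin N →₀ ℕ)) (a : (Fin N →₀ ℕ) → G), (∀ e ∈ s, φ (a e) = 0 ∧ e ≠ 0) ∧
        y = ∑ e ∈ s, a e * ∏ j, z j (e j)) :
    ∃ γ : DividedPowers (Ideal.span {y : P | ∃ (i : Fin N) (n : ℕ), 1 ≤ n ∧ y = x i n}),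
      ∀ (i : Fin N) (n : ℕ), γ.dpow n (x i 1) = x i n := by
  classical
  let S₀ : Set G := {w | ∃ (i : Fin N) (n : ℕ), 1 ≤ n ∧ w = z i n}
  let I₀ := Ideal.span S₀
  obtain ⟨γ₀⟩ := ((Groth.Agent.S6501.result I₀).2).mpr ⟨S₀, rfl, by
    rintro _ ⟨i, n, hn, rfl⟩ k hk
    rw [pow_rel (z i) (hz0 i) (hzmul i) n k (by omega)]
    refine Ideal.mul_mem_mul (Ideal.mem_span_singleton_self _) (I₀.mul_mem_left _ ?_)
    exact Ideal.subset_span ⟨i, k * n, Nat.one_le_iff_ne_zero.mpr (Nat.mul_ne_zero (by omega) (by omega)), rfl⟩⟩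
  have hMI : ∀ e : Fin N →₀ ℕ, e ≠ 0 → ∏ j, z j (e j) ∈ I₀ := by
    intro e he
    obtain ⟨j, hj⟩ := Finsupp.ne_iff.mp he
    rw [← Finset.mul_prod_erase _ _ (Finset.mem_univ j)]
    exact I₀.mul_mem_right _ (Ideal.subset_span ⟨j, e j, Nat.one_le_iff_ne_zero.mpr (by simpa using hj), rfl⟩)
  have hsub : γ₀.IsSubDPIdeal (RingHom.ker φ ⊓ I₀) := by
    refine ⟨inf_le_right, fun n hn y hy => ?_⟩
    obtain ⟨hyk, hyI⟩ := hy
    refine ⟨?_, γ₀.dpow_mem hn hyI⟩
    let K : Ideal G :=
      { carrier := {w | w ∈ I₀ ∧ ∀ n, n ≠ 0 → φ (γ₀.dpow n w) = 0}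
        add_mem' := fun {u w} hu hw => ⟨add_mem hu.1 hw.1, fun n hn => by
          rw [γ₀.dpow_add hu.1 hw.1, map_sum]
          refine Finset.sum_eq_zero fun k hk => ?_
          rw [Finset.HasAntidiagonal.mem_antidiagonal] at hk
          rw [map_mul]
          by_cases h1 : k.1 = 0
          · rw [hw.2 k.2 (by omega), mul_zero]
          · rw [hu.2 k.1 h1, zero_mul]⟩
        zero_mem' := ⟨zero_mem _, fun n hn => by rw [γ₀.dpow_eval_zero hn, map_zero]⟩
        smul_mem' := fun a w hw => ⟨I₀.mul_mem_left a hw.1, fun n hn => by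
          rw [smul_eq_mul, γ₀.dpow_mul hw.1, map_mul, hw.2 n hn, mul_zero]⟩ }
    suffices H : y ∈ K from H.2 n hn
    obtain ⟨s, a, ha, rfl⟩ := hker y hyI hyk
    refine K.sum_mem fun e he => ⟨I₀.mul_mem_left _ (hMI e (ha e he).2), fun n hn => ?_⟩
    rw [γ₀.dpow_mul (hMI e (ha e he).2), map_mul, map_pow, (ha e he).1, zero_pow hn, zero_mul]
  have hmap : Ideal.span {y : P | ∃ (i : Fin N) (n : ℕ), 1 ≤ n ∧ y = x i n} = I₀.map φ := by
    rw [Ideal.map_span]
    congr 1
    ext y
    constructor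
    · rintro ⟨i, n, hn, rfl⟩; exact ⟨z i n, ⟨i, n, hn, rfl⟩, hx i n⟩
    · rintro ⟨_, ⟨i, n, hn, rfl⟩, rfl⟩; exact ⟨i, n, hn, hx i n⟩
  refine ⟨DividedPowers.Quotient.OfSurjective.dividedPowers γ₀ hφ hmap hsub, fun i n => ?_⟩
  have h1 : z i 1 ∈ I₀ := Ideal.subset_span ⟨i, 1, le_rfl, rfl⟩
  have key : γ₀.dpow n (z i 1) = z i n := by
    have h := γ₀.factorial_mul_dpow_eq_pow (n := n) h1
    have hp := pow_rel (z i) (hz0 i) (hzmul i) 1 n one_ne_zero
    simp only [Nat.uniformBell_one_right, Nat.cast_one, one_mul, mul_one] at hp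
    rw [hp, ← nsmul_eq_mul, ← nsmul_eq_mul] at h
    exact nsmul_right_injective n.factorial_ne_zero h
  rw [← hx i 1, DividedPowers.Quotient.OfSurjective.dpow_apply γ₀ hφ hmap hsub h1, key, hx]

theorem exists_dp (R : Type u) [CommRing R] (N : ℕ)
    (P : Type v) [CommRing P] [Algebra R P] (x : Fin N → ℕ → P)
    (hx0 : ∀ i, x i 0 = 1)
    (hxmul : ∀ i n m, x i n * x i m = ((n + m).choose n : P) * x i (n + m))
    (b : Module.Basis (Fin N →₀ ℕ) R P) (hb : ∀ e : Fin N →₀ ℕ, b e = e.prod (fun i k => x i k)) :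
    ∃ γ : DividedPowers (Ideal.span {y : P | ∃ (i : Fin N) (n : ℕ), 1 ≤ n ∧ y = x i n}),
      ∀ (i : Fin N) (n : ℕ), γ.dpow n (x i 1) = x i n := by
  classical
  let π : MvPolynomial R ℤ →+* R := (MvPolynomial.aeval (id : R → R)).toRingHom
  letI : Algebra (MvPolynomial R ℤ) (FQ R N) :=
    ((C : MvPolynomial R ℚ →+* FQ R N).comp (MvPolynomial.map (Int.castRingHom ℚ))).toAlgebra
  letI : Algebra (MvPolynomial R ℤ) P := ((algebraMap R P).comp π).toAlgebra
  let z : Fin N → ℕ → FQ R N × P := fun i n => (gq R N i n, x i n)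
  have hz0 : ∀ i, z i 0 = 1 := fun i => Prod.ext (gq_zero R N i) (hx0 i)
  have hzmul : ∀ i n m, z i n * z i m = ((n + m).choose n : FQ R N × P) * z i (n + m) := fun i n m =>
    Prod.ext (gq_mul R N i n m) (hxmul i n m)
  let Γ : Subalgebra (MvPolynomial R ℤ) (FQ R N × P) :=
    Algebra.adjoin (MvPolynomial R ℤ) (Set.range fun p : Fin N × ℕ => z p.1 p.2)
  have hMsnd : ∀ e : Fin N →₀ ℕ, (∏ j, z j (e j)).2 = b e := by
    intro e
    rw [hb, Finsupp.prod_fintype _ _ fun i => hx0 i, Prod.snd_prod]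
  have hfst : ∀ (c : (Fin N →₀ ℕ) →₀ MvPolynomial R ℤ) (e),
      coeff e (c.sum fun e r => r • ∏ j, z j (e j)).1 =
        MvPolynomial.map (Int.castRingHom ℚ) (c e) * C (∏ j, ((e j).factorial : ℚ)⁻¹) := by
    intro c e
    rw [Finsupp.sum, Prod.fst_sum, coeff_sum, Finset.sum_eq_single e]
    · rw [Prod.smul_fst, Prod.fst_prod, prod_gq, Algebra.smul_def, RingHom.algebraMap_toAlgebra,
        RingHom.comp_apply, coeff_C_mul, coeff_monomial, if_pos rfl]
    · intro e' _ hne
      rw [Prod.smul_fst, Prod.fst_prod, prod_gq, Algebra.smul_def, RingHom.algebraMap_toAlgebra,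
        RingHom.comp_apply, coeff_C_mul, coeff_monomial, if_neg hne, mul_zero]
    · intro he
      rw [Finsupp.notMem_support_iff.mp he, zero_smul, Prod.fst_zero, coeff_zero]
  have hzero : ∀ (c : (Fin N →₀ ℕ) →₀ MvPolynomial R ℤ) (e),
      coeff e (c.sum fun e r => r • ∏ j, z j (e j)).1 = 0 → c e = 0 := by
    intro c e h
    rw [hfst] at h
    rcases mul_eq_zero.mp h with h | h
    · exact MvPolynomial.map_injective _ Int.cast_injective (h.trans (map_zero _).symm)
    · exact absurd ((C_eq_zero).mp h) (Finset.prod_ne_zero_iff.mpr fun j _ =>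
        inv_ne_zero (by exact_mod_cast (e j).factorial_ne_zero))
  have hinj : ∀ y ∈ Γ, y.1 = 0 → y = 0 := by
    intro y hy h0
    obtain ⟨c, rfl⟩ := adjoin_le_span z hz0 hzmul hy
    have hc : c = 0 := Finsupp.ext fun e => hzero c e (by rw [h0, coeff_zero])
    rw [hc, Finsupp.sum_zero_index]
  haveI : IsAddTorsionFree ↥Γ := by
    let f : ↥Γ →+ FQ R N := ((RingHom.fst (FQ R N) P).comp Γ.val.toRingHom).toAddMonoidHom
    refine Function.Injective.isAddTorsionFree f fun y w h => ?_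
    have h' := hinj ((y : FQ R N × P) - (w : FQ R N × P)) (sub_mem y.2 w.2)
      ((Prod.fst_sub _ _).trans (sub_eq_zero.mpr h))
    exact Subtype.ext (sub_eq_zero.mp h')
  let zΓ : Fin N → ℕ → ↥Γ := fun i n => ⟨z i n, Algebra.subset_adjoin ⟨(i, n), rfl⟩⟩
  let φ : ↥Γ →+* P := (RingHom.snd (FQ R N) P).comp Γ.val.toRingHom
  have hsmul : ∀ (r : MvPolynomial R ℤ) (p : P), r • p = π r • p := fun r p => by
    rw [Algebra.smul_def, Algebra.smul_def, RingHom.algebraMap_toAlgebra, RingHom.comp_apply]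
  refine exists_dp_of_model φ ?_ zΓ (fun i => Subtype.ext (hz0 i))
    (fun i n m => Subtype.ext (hzmul i n m)) x (fun i n => rfl) ?_
  · intro p
    have hp : p ∈ Submodule.span R (Set.range b) := b.span_eq ▸ Submodule.mem_top
    induction hp using Submodule.span_induction with
    | mem q hq =>
      obtain ⟨e, rfl⟩ := hq
      exact ⟨⟨∏ j, z j (e j), Subalgebra.prod_mem _ fun j _ => (zΓ j (e j)).2⟩, hMsnd e⟩
    | zero => exact ⟨0, map_zero φ⟩
    | add p q _ _ hp hq =>
      obtain ⟨u, rfl⟩ := hp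
      obtain ⟨w, rfl⟩ := hq
      exact ⟨u + w, map_add φ u w⟩
    | smul r q _ hq =>
      obtain ⟨u, rfl⟩ := hq
      refine ⟨(X r : MvPolynomial R ℤ) • u, (show φ ((X r : MvPolynomial R ℤ) • u) = (X r : MvPolynomial R ℤ) • φ u from rfl).trans ?_⟩
      rw [hsmul, show π (X r) = r from MvPolynomial.aeval_X _ r]
  intro y hyI hyk
  obtain ⟨c, hc⟩ := adjoin_le_span z hz0 hzmul y.2
  have hconst : coeff 0 ((y : FQ R N × P).1) = 0 := by
    clear hyk hc
    induction hyI using Submodule.span_induction with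
    | mem w hw =>
      obtain ⟨i, n, hn, rfl⟩ := hw
      change coeff 0 (gq R N i n) = 0
      rw [gq, coeff_C_mul, coeff_X_pow, if_neg ?_, mul_zero]
      intro h
      have := congrArg (fun e : Fin N →₀ ℕ => e i) h
      simp at this
      omega
    | zero => simp
    | add p q _ _ hp hq =>
      rw [AddMemClass.coe_add, Prod.fst_add, coeff_add, hp, hq, add_zero]
    | smul a p _ hp =>
      rw [smul_eq_mul, MulMemClass.coe_mul, Prod.fst_mul, ← constantCoeff_eq, map_mul, constantCoeff_eq, hp,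
        mul_zero]
  have hc0 : c 0 = 0 := hzero c 0 (hc ▸ hconst)
  have hcπ : ∀ e, π (c e) = 0 := by
    intro e
    have h : (c.sum fun e r => r • ∏ j, z j (e j)).2 = 0 := hc ▸ hyk
    have h2 : Finsupp.linearCombination R b (c.mapRange π (map_zero π)) = 0 := by
      rw [Finsupp.linearCombination_apply, Finsupp.sum_mapRange_index (by intro i; exact zero_smul R _)]
      refine Eq.trans ?_ h
      rw [Finsupp.sum, Finsupp.sum, Prod.snd_sum]
      exact Finset.sum_congr rfl fun e _ => by rw [Prod.smul_snd, hMsnd, hsmul]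
    have h3 := DFunLike.congr_fun (linearIndependent_iff.mp b.linearIndependent _ h2) e
    rwa [Finsupp.mapRange_apply] at h3
  refine ⟨c.support, fun e => algebraMap (MvPolynomial R ℤ) ↥Γ (c e), fun e he => ⟨?_, ?_⟩, ?_⟩
  · change algebraMap R P (π (c e)) = 0
    rw [hcπ, map_zero]
  · exact fun h => (Finsupp.mem_support_iff.mp he) (h ▸ hc0)
  · refine Subtype.ext ?_
    rw [AddSubmonoidClass.coe_finsetSum, hc]
    refine Finset.sum_congr rfl fun e _ => ?_
    rw [MulMemClass.coe_mul, SubmonoidClass.coe_finsetProd]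
    exact Algebra.smul_def _ _


/-- Let R be a commutative ring and P = R⟨X_1, …, X_N⟩ the divided power polynomial algebra over R,
presented concretely as an R-algebra P with elements x i n = X_i^[n] (i < N, n ≥ 0) such that
X_i^[0] = 1, X_i^[n] · X_i^[m] = C(n+m, n) X_i^[n+m], and the monomials ∏_i X_i^[e_i] (e ranging
over exponent vectors) form an R-basis of P. Let P_+ be the ideal generated by the X_i^[n] with n ≥
1 (the augmentation ideal). Then there is exactly one divided power structure γ on P_+ with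
γ_n(X_i^[1]) = X_i^[n] for all i and all n. (The universal property that the source states alongside
is not restated here.) -/
theorem result (R : Type u) [CommRing R] (N : ℕ)
    (P : Type v) [CommRing P] [Algebra R P] (x : Fin N → ℕ → P)
    (hx0 : ∀ i, x i 0 = 1)
    (hxmul : ∀ i n m, x i n * x i m = ((n + m).choose n : P) * x i (n + m))
    (b : Module.Basis (Fin N →₀ ℕ) R P) (hb : ∀ e : Fin N →₀ ℕ, b e = e.prod (fun i k => x i k)) :
    ∃! γ : DividedPowers (Ideal.span {y : P | ∃ (i : Fin N) (n : ℕ), 1 ≤ n ∧ y = x i n}),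
      ∀ (i : Fin N) (n : ℕ), γ.dpow n (x i 1) = x i n := by
  classical
  refine existsUnique_of_exists_of_unique (exists_dp R N P x hx0 hxmul b hb) ?_
  intro γ γ' h h'
  refine DividedPowers.ext _ _ fun n y hy => ?_
  induction hy using Submodule.span_induction generalizing n with
  | mem z hz =>
    obtain ⟨i, m, hm, rfl⟩ := hz
    have h1 : x i 1 ∈ Ideal.span {y : P | ∃ (i : Fin N) (n : ℕ), 1 ≤ n ∧ y = x i n} :=
      Ideal.subset_span ⟨i, 1, le_rfl, rfl⟩
    have e1 : γ.dpow n (x i m) = (Nat.uniformBell n m : P) * x i (n * m) := by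
      rw [← h i m, γ.dpow_comp (by omega) h1, h i (n * m)]
    have e2 : γ'.dpow n (x i m) = (Nat.uniformBell n m : P) * x i (n * m) := by
      rw [← h' i m, γ'.dpow_comp (by omega) h1, h' i (n * m)]
    rw [e1, e2]
  | zero =>
    rcases Nat.eq_zero_or_pos n with rfl | hn
    · rw [γ.dpow_zero (zero_mem _), γ'.dpow_zero (zero_mem _)]
    · rw [γ.dpow_eval_zero (by omega), γ'.dpow_eval_zero (by omega)]
  | add a c ha hc iha ihc =>
    rw [γ.dpow_add ha hc, γ'.dpow_add ha hc]
    exact Finset.sum_congr rfl fun k _ => by rw [iha, ihc]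
  | smul a c hc ihc =>
    rw [smul_eq_mul, γ.dpow_mul hc, γ'.dpow_mul hc, ihc]

end Groth.Agent.S18420
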