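import Groth.Statements.S3638
import Groth.Agent.DualGeneric.Basic
import Groth.Agent.DualGeneric.LocalModel
import Groth.Agent.Purity.DepthPair
-- import your own Groth.Agent.* helpers here

set_option autoImplicit false
set_option backward.isDefEq.respectTransparency false
set_option backward.isDefEq.respectTransparency.types false
set_option maxHeartbeats 1000000
universe u
open CategoryTheory CategoryTheory.Limits AlgebraicGeometry
attribute [local instance] HasDerivedCategory.standard
open Dual3

namespace Groth.Agent.S3638

/-- Let k be a field and X a scheme proper over k, with structure morphism f : X → Spec k and dim X = d.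
Assume the derived direct image Rf_* exists and preserves quasi-coherence of cohomology sheaves
(both known results), so that it restricts to a functor D_QCoh(O_X) → D_QCoh(O_{Spec k}), and let a
: D_QCoh(O_{Spec k}) → D_QCoh(O_X) be a right adjoint of this restricted functor. Let O be an object
of D_QCoh(O_{Spec k}) isomorphic to the structure sheaf placed in degree 0, and put ω_X =
H^{−d}(a(O)). Then ω_X is coherent; for every point x of X the stalk ω_{X,x} satisfies Serre's
condition (S_2) as a module over O_{X,x}; the support of ω_X (the set of points with nonzero stalk)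
is the union of those irreducible components of X which have dimension d; and for every closed point
x and every integer i, some H^j(a(O)) with i ≤ j ≤ 0 has nonzero stalk at x if and only if i ≤ 0 and
depth O_{X,x} ≤ −i. (The published statement has further parts, which are not asserted here, and is
phrased with the upper shriek f^!; for the proper morphism f, f^!O is the a(O) used here.) -/
theorem result (k : Type u) [Field k] (X : Scheme.{u}) (f : X ⟶ Spec (CommRingCat.of k)) [IsProper f] (d : ℕ) (hd : topologicalKrullDim X = (d : WithBot ℕ∞)) [DCoh.HasRpush f] (hf : DCoh.RpushPreservesQCoh f) (a : DCoh.DQCoh (Spec (CommRingCat.of k)) ⥤ DCoh.DQCoh X) (adj : DCoh.RpushQ f hf ⊣ a) (O : DCoh.DQCoh (Spec (CommRingCat.of k))) (hO : Nonempty (O.obj ≅ DCoh.inD (Spec (CommRingCat.of k)) (Coh.structureModule (Spec (CommRingCat.of k))))) : (Coh.IsCoh (DCoh.HD (a.obj O).obj (-(d : ℤ))) ∧ (∀ x : X, LocCoh.HasSk 2 (X.presheaf.stalk x) ((DCoh.HD (a.obj O).obj (-(d : ℤ))).presheaf.stalk x)) ∧ {x : X | Nontrivial ((DCoh.HD (a.obj O).obj (-(d : ℤ))).presheaf.stalk x)} = ⋃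 Z ∈ {Z : Set X | Z ∈ irreducibleComponents X ∧ topologicalKrullDim ↥Z = (d : WithBot ℕ∞)}, Z) ∧ ∀ (x : X), IsClosed ({x} : Set X) → ∀ i : ℤ, ((∃ j : ℤ, i ≤ j ∧ j ≤ 0 ∧ Nontrivial ((DCoh.HD (a.obj O).obj j).presheaf.stalk x)) ↔ (LocCoh.depth (X.presheaf.stalk x) (X.presheaf.stalk x) : ℕ∞) ≤ ((-i).toNat : ℕ∞) ∧ i ≤ 0) := by
  obtain ⟨e⟩ := hO
  haveI := Groth.Agent.DCohShriek.isNoetherian_of_proper f
  haveI : ∀ (U V : Scheme.{u}) (j : U ⟶ V) [IsOpenImmersion j],
      PreservesFiniteLimits (Scheme.Modules.restrictFunctor j) := fun U V j _ => inferInstance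
  haveI : ∀ (R : CommRingCat.{u}), PreservesFiniteLimits (tilde.functor R) := fun R => inferInstance
  have hD : Dual2.IsDualizingSch X (a.obj O).obj := Groth.Agent.DCohShriek.isDualizingSch_adjoint f adj O
    (Groth.Agent.DCohShriek.isDualizingSch_point k e)
  obtain ⟨hlow, -⟩ := Groth.Agent.DCohShriek.amplitude k f adj O e d hd.le
  refine ⟨⟨Groth.Agent.DualSch.isCoh_HD hD _, fun x => ?_, ?_⟩, ?_⟩
  · obtain ⟨w, hw, hlt, ⟨g⟩⟩ := Groth.Agent.DualSch.exists_local hD (n := -(d : ℤ)) (fun i hi => hlow i (Or.inl hi)) x
    haveI := hw.isNoetherianRing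
    exact Groth.Agent.FibDepth.hasSk_congr g.symm 2 (Groth.Agent.DualSch.hasSk_two_lowest hw hlt)
  · ext x
    simp only [Set.mem_setOf_eq, Set.mem_iUnion, exists_prop]
    constructor
    · intro hx
      obtain ⟨z, hz, hzc⟩ := (isClosed_closure (s := ({x} : Set X))).exists_closed_singleton ⟨x, subset_closure rfl⟩
      obtain ⟨L, _, _, _, w, π, hw, hn, -, hord, hgen, hsupp, -⟩ := Groth.Agent.DualGeneric.exists_model k f adj O e z hzc
      obtain ⟨p, rfl⟩ := hgen x (specializes_iff_mem_closure.2 hz)
      have hp := (hsupp p _).1 hx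
      have hdim : ringKrullDim L ≤ (d : WithBot ℕ∞) :=
        (Groth.Agent.DualGeneric.krullDim_le_of_points π hord).trans hd.le
      obtain ⟨e', he'⟩ : ∃ e' : ℕ, ringKrullDim L = (e' : WithBot ℕ∞) := by
        generalize hr : ringKrullDim L = r at hdim
        match r with
        | ⊥ => exact absurd hr ringKrullDim_ne_bot
        | (m : ℕ∞) =>
          match m with
          | ⊤ => exact absurd (WithBot.coe_le_coe.1 hdim) (by simp)
          | (n : ℕ) => exact ⟨n, rfl⟩
      have hed : e' = d := by
        refine le_antisymm (by exact_mod_cast he'.symm.le.trans hdim) ?_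
        have hnt : Nontrivial (Groth.Agent.DualCx.T w L (-(d : ℤ))) := by
          haveI : Nontrivial (Dual.HD L w (-(d : ℤ))) := by
            by_contra hh
            haveI := not_nontrivial_iff_subsingleton.1 hh
            rw [Module.support_eq_empty] at hp
            exact hp
          exact (Groth.Agent.DualCx.homEquiv w _).toEquiv.nontrivial
        have := (Groth.Agent.DualCx.mem_bounds hw hn (M := L) e'
          (by rw [Module.supportDim_self_eq_ringKrullDim, he']) hnt).1
        omega
      subst hed
      rw [Groth.Agent.DualCx.support_top hw hn e' he'] at hp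
      obtain ⟨q, hq, hqp, hqd⟩ := hp
      let q' : PrimeSpectrum L := ⟨q, hq.1.1⟩
      have hη : ∀ y, y ⤳ π q' → π q' ⤳ y := fun y hy => by
        obtain ⟨r, rfl⟩ := hgen y (hy.trans (((hord q' p).2 hqp).trans (specializes_iff_mem_closure.2 hz)))
        have hrq : r ≤ q' := (hord r q').1 hy
        exact (hord q' r).2 (fun b hb => hq.2 ⟨r.isPrime, bot_le⟩ hrq hb)
      refine ⟨closure {π q'}, ⟨?_, ?_⟩, ((hord q' p).2 hqp).mem_closure⟩
      · refine irreducibleComponents_eq_maximals_closed X ▸ ⟨⟨isClosed_closure, isIrreducible_singleton.closure⟩, ?_⟩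
        rintro C ⟨hCc, hCi⟩ hle
        have h1 : hCi.genericPoint ⤳ π q' := by
          rw [specializes_iff_mem_closure, hCi.closure_genericPoint hCc]
          exact hle (subset_closure rfl)
        intro c hc
        have h2 : hCi.genericPoint ⤳ c := by
          rw [specializes_iff_mem_closure, hCi.closure_genericPoint hCc]
          exact hc
        exact ((hη _ h1).trans h2).mem_closure
      · refine le_antisymm ((Topology.IsInducing.subtypeVal.topologicalKrullDim_le).trans hd.le) ?_
        rw [← hqd, ringKrullDim_quotient]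
        exact Groth.Agent.DualGeneric.krullDim_le_of_points
          (P := PrimeSpectrum.zeroLocus (R := L) (q : Set L))
          (Y := ↥(closure {π q'} : Set X))
          (fun r => ⟨π r.1, ((hord q' r.1).2 r.2).mem_closure⟩)
          fun r r' => (subtype_specializes_iff _ _).trans (hord r.1 r'.1)
    · rintro ⟨Z, ⟨hZ, hZd⟩, hxZ⟩
      have hZc : IsClosed Z := isClosed_of_mem_irreducibleComponents Z hZ
      haveI : IrreducibleSpace ↥Z := Subtype.irreducibleSpace hZ.1
      haveI : QuasiSober ↥Z := hZc.isClosedEmbedding_subtypeVal.quasiSober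
      obtain ⟨y, hy, hlast⟩ := Groth.Agent.DualGeneric.exists_chain_space hZd
      let η : X := (y (Fin.last d)).val
      have hηZ : closure ({η} : Set X) = Z := by
        refine le_antisymm (closure_minimal (Set.singleton_subset_iff.2 (y (Fin.last d)).2) hZc) fun c hc => ?_
        have : (⟨c, hc⟩ : ↥Z) ∈ closure {y (Fin.last d)} := by rw [hlast]; trivial
        rw [closure_subtype, Set.image_singleton] at this
        exact this
      obtain ⟨z, hz, hzc⟩ := hZc.exists_closed_singleton ⟨x, hxZ⟩
      obtain ⟨L, _, _, _, w, π, hw, hn, -, hord, hgen, hsupp, -⟩ := Groth.Agent.DualGeneric.exists_model k f adj O e z hzc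
      obtain ⟨q, hq⟩ := hgen η (specializes_iff_mem_closure.2 (hηZ.ge hz))
      have hmin : ∀ r ∈ Module.support L L, r ≤ q → r = q := fun r _ hr => by
        refine le_antisymm hr ((hord q r).1 ?_)
        rw [hq, specializes_iff_mem_closure, hηZ]
        refine hZ.2 (y := closure {π r}) isIrreducible_singleton.closure ?_ (subset_closure rfl)
        rw [← hηZ]
        have := (hord r q).2 hr
        rw [hq] at this
        exact this.closure_subset
      have hsq : q ∈ Module.support L L := by
        rw [Module.support_eq_zeroLocus, Module.annihilator_eq_bot.2 inferInstance]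
        exact fun b hb => by rw [(Submodule.mem_bot L).1 hb]; exact q.asIdeal.zero_mem
      have hnv := Groth.Agent.DualCx.not_van_minimal hw hsq hmin
      rw [Groth.Agent.DualCx.van_self_iff, not_subsingleton_iff_nontrivial, ← Module.mem_support_iff,
        ← hsupp, hq] at hnv
      have hb := Groth.Agent.DCohShriek.stalk_amplitude k f adj O e d hd.le _ d (fun t => (y t).val)
        (fun t => ⟨(hy t).1.map continuous_subtype_val, fun h => (hy t).2 (Subtype.ext h)⟩) hnv
      have hdeg : -Groth.Agent.DualCx.del hw q = -(d : ℤ) := by omega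
      rw [hdeg] at hnv
      -- spread from the generic point of the component
      have hcl : IsClosed (CohB1.support (DCoh.HD (a.obj O).obj (-(d : ℤ)))) :=
        Groth.Agent.QC.isClosed_support (Groth.Agent.DualSch.isCoh_HD hD _).2
      refine not_subsingleton_iff_nontrivial.1 ?_
      have hsub := closure_minimal (Set.singleton_subset_iff.2
        (show η ∈ CohB1.support _ from not_subsingleton_iff_nontrivial.2 hnv)) hcl
      exact hsub (hηZ.ge hxZ)
  · intro x hx i
    obtain ⟨L, _, _, _, w, π, hw, hn, hπ, -, -, hsupp, ⟨ε⟩⟩ := Groth.Agent.DualGeneric.exists_model k f adj O e x hx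
    have hiff : ∀ j : ℤ, Nontrivial ((DCoh.HD (a.obj O).obj j).presheaf.stalk x) ↔
        Nontrivial (Groth.Agent.DualCx.T w L j) := fun j => by
      rw [← hπ, hsupp, (Groth.Agent.DualCx.homEquiv w j).toEquiv.nontrivial_congr]
      haveI := hw.finite_cohomology j
      constructor
      · intro hp
        by_contra hh
        haveI := not_nontrivial_iff_subsingleton.1 hh
        rw [Module.support_eq_empty] at hp
        exact hp
      · intro hh
        obtain ⟨p, hp⟩ := Module.nonempty_support_of_nontrivial (R := L) (M := Dual.HD L w j)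
        exact Module.mem_support_mono (show p ≤ IsLocalRing.closedPoint L from IsLocalRing.le_maximalIdeal p.isPrime.ne_top) hp
    obtain ⟨n, hn', -, -⟩ := Groth.Agent.DualCx.exists_depth hw (M := L) (q := IsLocalRing.closedPoint L) (by
      rw [Module.support_eq_zeroLocus, Module.annihilator_eq_bot.2 inferInstance]
      exact fun b hb => by rw [(Submodule.mem_bot L).1 hb]; exact (IsLocalRing.closedPoint L).asIdeal.zero_mem)
    rw [← Groth.Agent.DualCx.depth_eq_localized] at hn'
    obtain ⟨hlt, hnt⟩ := (Groth.Agent.DualCx.depth_eq_iff_local hw hn L n).1 hn'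
    rw [← Groth.Agent.Purity.depth_eq_of_ringEquiv ε, hn']
    constructor
    · rintro ⟨j, hij, hj0, hj⟩
      rw [hiff] at hj
      refine ⟨?_, hij.trans hj0⟩
      have hnj : n ≤ (-j).toNat := by
        by_contra hc
        have := hlt (-j).toNat (by omega)
        rw [show -(((-j).toNat : ℕ) : ℤ) = j by omega] at this
        exact not_subsingleton_iff_nontrivial.2 hj this
      exact_mod_cast (show n ≤ (-i).toNat by omega)
    · rintro ⟨h1, h2⟩
      have h1' : n ≤ (-i).toNat := by exact_mod_cast h1
      exact ⟨-(n : ℤ), by omega, by omega, (hiff _).2 hnt⟩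

end Groth.Agent.S3638
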