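import Groth.Statements.S3637
import Groth.Agent.S3638
import Groth.Agent.DualGeneric.CMModule
import Groth.Agent.DualSch.Chart
import Groth.Agent.CMChart.Scheme
import Groth.Agent.TopDegRep.Basic
-- import your own Groth.Agent.* helpers here

set_option autoImplicit false
set_option backward.isDefEq.respectTransparency false
set_option backward.isDefEq.respectTransparency.types false
set_option maxHeartbeats 1000000
universe u
open CategoryTheory CategoryTheory.Limits AlgebraicGeometry
attribute [local instance] HasDerivedCategory.standard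
open Dual3

namespace Groth.Agent.S3637

/-- Let X be proper over a field k, with all local rings of X Cohen–Macaulay and all irreducible
components of X of dimension d. Assume the derived pushforward Rf_* along the structure morphism f
exists and preserves complexes with quasi-coherent cohomology (carried as hypotheses), let a be a
right adjoint to Rf_* : D_QCoh(O_X) → D_QCoh(Spec k), and let O be an object of D_QCoh(Spec k)
isomorphic to the structure sheaf placed in degree 0. Then H^i(a(O)) = 0 for i ≠ −d, so that a(O) =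
ω_X[d] with ω_X = H^{−d}(a(O)); and ω_X is a coherent O_X-module whose stalk at every point x is a
nonzero Cohen–Macaulay module over O_{X,x} (in particular its support is all of X). -/
theorem result (k : Type u) [Field k] (X : Scheme.{u}) (f : X ⟶ Spec (CommRingCat.of k)) [IsProper f] (hCM : ∀ x : X, LocCoh.IsCohenMacaulayLocalRing (X.presheaf.stalk x)) (d : ℕ) (hd : ∀ Z : Set X, Z ∈ irreducibleComponents X → topologicalKrullDim ↥Z = (d : WithBot ℕ∞)) [DCoh.HasRpush f] (hf : DCoh.RpushPreservesQCoh f) (a : DCoh.DQCoh (Spec (CommRingCat.of k)) ⥤ DCoh.DQCoh X) (adj : DCoh.RpushQ f hf ⊣ a) (O : DCoh.DQCoh (Spec (CommRingCat.of k))) (hO : Nonempty (O.obj ≅ DCoh.inD (Spec (CommRingCat.of k)) (Coh.structureModule (Spec (CommRingCat.of k))))) : (∀ i : ℤ, i ≠ -(d : ℤ) → IsZero (DCoh.HD (a.obj O).obj i)) ∧ Coh.IsCoh (DCoh.HD (a.obj O).obj (-(d : ℤ))) ∧ ∀ x : X, Nontrivial ((DCoh.HD (a.obj O).obj (-(d : ℤ))).presheaf.stalk x) ∧ LocCoh.IsCohenMacaulayModule (X.presheaf.stalk x) ((DCoh.HD (a.obj O).obj (-(d : ℤ))).presheaf.stalk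 x) := by
  obtain ⟨e⟩ := hO
  haveI := Groth.Agent.DCohShriek.isNoetherian_of_proper f
  haveI : ∀ (U V : Scheme.{u}) (j : U ⟶ V) [IsOpenImmersion j],
      PreservesFiniteLimits (Scheme.Modules.restrictFunctor j) := fun U V j _ => inferInstance
  haveI : ∀ (R : CommRingCat.{u}), PreservesFiniteLimits (tilde.functor R) := fun R => inferInstance
  have hD : Dual2.IsDualizingSch X (a.obj O).obj := Groth.Agent.DCohShriek.isDualizingSch_adjoint f adj O
    (Groth.Agent.DCohShriek.isDualizingSch_point k e)
  have hzero : ∀ i : ℤ, i ≠ -(d : ℤ) → IsZero (DCoh.HD (a.obj O).obj i) := by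
    rcases isEmpty_or_nonempty X with hX | hX
    · exact fun i _ => Groth.Agent.KFlat.isZero_of_stalks _ fun x => (IsEmpty.false x).elim
    intro i hi
    refine Groth.Agent.KFlat.isZero_of_stalks _ fun x => ?_
    by_contra hz
    have hx : Nontrivial ((DCoh.HD (a.obj O).obj i).presheaf.stalk x) :=
      not_subsingleton_iff_nontrivial.1 ((Groth.Agent.PerfGen.mem_support_iff _ x).2 hz)
    have hdX : topologicalKrullDim X = (d : WithBot ℕ∞) := by
      refine le_antisymm (Groth.Agent.TopDegRep.topologicalKrullDim_le_of_components X d hd) ?_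
      obtain ⟨Z, hZ, -⟩ := exists_mem_irreducibleComponents_subset_of_isIrreducible _
        (isIrreducible_singleton (x := x))
      rw [← hd Z hZ]
      exact Topology.IsInducing.subtypeVal.topologicalKrullDim_le
    obtain ⟨⟨-, -, hsup⟩, -⟩ := Groth.Agent.S3638.result k X f d hdX hf a adj O ⟨e⟩
    obtain ⟨z, hz', hzc⟩ := (isClosed_closure (s := ({x} : Set X))).exists_closed_singleton ⟨x, subset_closure rfl⟩
    obtain ⟨L, _, _, _, w, π, hw, hn, hπ, -, hgen, hsupp, ⟨ε⟩⟩ :=
      Groth.Agent.DualGeneric.exists_model k f adj O e z hzc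
    obtain ⟨p, rfl⟩ := hgen x (specializes_iff_mem_closure.2 hz')
    have hnt : ∀ j p, p ∈ Module.support L (Dual.HD L w j) → Nontrivial (Groth.Agent.DualCx.T w L j) := fun j p hp => by
      haveI : Nontrivial (Dual.HD L w j) := by
        by_contra hh
        haveI := not_nontrivial_iff_subsingleton.1 hh
        rw [Module.support_eq_empty] at hp
        exact hp
      exact (Groth.Agent.DualCx.homEquiv w _).toEquiv.nontrivial
    have hzd : Nontrivial ((DCoh.HD (a.obj O).obj (-(d : ℤ))).presheaf.stalk z) := by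
      refine hsup.ge (Set.mem_iUnion₂.2 ?_)
      obtain ⟨Z, hZ, hzZ⟩ := exists_mem_irreducibleComponents_subset_of_isIrreducible _
        (isIrreducible_singleton (x := z))
      exact ⟨Z, ⟨hZ, hd Z hZ⟩, hzZ rfl⟩
    have h1 := hnt i p ((hsupp p i).1 hx)
    have h2 := hnt (-(d : ℤ)) (IsLocalRing.closedPoint L) ((hsupp _ _).1 (by rw [hπ]; exact hzd))
    haveI : LocCoh.IsCohenMacaulayLocalRing L := Groth.Agent.CMChart.isCohenMacaulayLocalRing_of_ringEquiv ε (hCM z)
    obtain ⟨δ, hδ, -⟩ := Groth.Agent.DualCx.exists_top hw hn (M := L)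
    have hcm := (Groth.Agent.DualCx.isCohenMacaulay_iff_local hw hn (M := L) δ hδ).1
      (LocCoh.IsCohenMacaulayLocalRing.supportDim_eq_depth)
    have hall : ∀ j, Nontrivial (Groth.Agent.DualCx.T w L j) → j = -(δ : ℤ) := fun j hj => by
      by_contra hne
      have := hcm (-j) (by omega)
      rw [neg_neg] at this
      exact not_subsingleton_iff_nontrivial.2 hj this
    exact hi ((hall i h1).trans (hall _ h2).symm)
  refine ⟨hzero, Groth.Agent.DualSch.isCoh_HD hD _, ?_⟩
  intro x
  have hdX : topologicalKrullDim X = (d : WithBot ℕ∞) := by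
    refine le_antisymm (Groth.Agent.TopDegRep.topologicalKrullDim_le_of_components X d hd) ?_
    obtain ⟨Z, hZ, -⟩ := exists_mem_irreducibleComponents_subset_of_isIrreducible _
      (isIrreducible_singleton (x := x))
    rw [← hd Z hZ]
    exact Topology.IsInducing.subtypeVal.topologicalKrullDim_le
  obtain ⟨⟨-, -, hsup⟩, -⟩ := Groth.Agent.S3638.result k X f d hdX hf a adj O ⟨e⟩
  have hx : Nontrivial ((DCoh.HD (a.obj O).obj (-(d : ℤ))).presheaf.stalk x) := by
    refine hsup.ge (Set.mem_iUnion₂.2 ?_)
    obtain ⟨Z, hZ, hzZ⟩ := exists_mem_irreducibleComponents_subset_of_isIrreducible _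
      (isIrreducible_singleton (x := x))
    exact ⟨Z, ⟨hZ, hd Z hZ⟩, hzZ rfl⟩
  refine ⟨hx, ?_⟩
  obtain ⟨w, hw, hst⟩ := Groth.Agent.DualGeneric.exists_local_all hD x
  haveI := hw.isNoetherianRing
  have hz : ∀ i : ℤ, i ≠ -(d : ℤ) → Subsingleton (Dual.HD (X.presheaf.stalk x) w i) := fun i hi => by
    obtain ⟨g⟩ := hst i
    haveI : Subsingleton ((DCoh.HD (a.obj O).obj i).presheaf.stalk x) :=
      AddCommGrpCat.subsingleton_of_isZero
        (((Scheme.Modules.toPresheaf X) ⋙ TopCat.Presheaf.stalkFunctor AddCommGrpCat.{u} x).map_isZero (hzero i hi))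
    exact g.symm.toEquiv.subsingleton
  obtain ⟨g⟩ := hst (-(d : ℤ))
  haveI : Nontrivial (Dual.HD (X.presheaf.stalk x) w (-(d : ℤ))) := g.symm.toEquiv.nontrivial
  have hM := Groth.Agent.DualGeneric.isCohenMacaulayModule_of_concentrated hw (-(d : ℤ)) hz
  rw [LocCoh.IsCohenMacaulayModule, Module.supportDim_eq_of_equiv g,
    show LocCoh.depth (X.presheaf.stalk x) _ = _ from Groth.Agent.LocH.idealDepth_congr g _]
  exact hM

end Groth.Agent.S3637
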