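import Groth.Statements.S6917
import Groth.Agent.EtMilLib.Basic
import Mathlib.Topology.Category.TopCat.Limits.Basic

set_option autoImplicit false
universe u
open CategoryTheory
open EtAlg Groth.Agent

namespace Groth.Agent.S6917

/-- Let `B' = B ×_A A'` be a fibre square of rings with `A' → A` surjective. Then `Spec(B') = Spec(B)
⨿_{Spec(A)} Spec(A')`: the square of prime spectra is a pushout of topological spaces. -/
theorem result (B' B A' A : Type u) [CommRing B'] [CommRing B] [CommRing A'] [CommRing A]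
    [Algebra B' B] [Algebra B' A'] [Algebra B A] [Algebra A' A] [Algebra B' A] [IsScalarTower B' B A] [IsScalarTower B' A' A]
    (hsq : EtMil.IsFibreSquare B' B A' A) :
    IsPushout (TopCat.ofHom (ContinuousMap.mk (PrimeSpectrum.comap (algebraMap B A)) (PrimeSpectrum.continuous_comap _))) (TopCat.ofHom (ContinuousMap.mk (PrimeSpectrum.comap (algebraMap A' A)) (PrimeSpectrum.continuous_comap _)))
      (TopCat.ofHom (ContinuousMap.mk (PrimeSpectrum.comap (algebraMap B' B)) (PrimeSpectrum.continuous_comap _)))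
      (TopCat.ofHom (ContinuousMap.mk (PrimeSpectrum.comap (algebraMap B' A')) (PrimeSpectrum.continuous_comap _))) := by
  classical
  set sB := PrimeSpectrum.comap (algebraMap B' B) with hsB
  set sA := PrimeSpectrum.comap (algebraMap B' A') with hsA
  have hinjB : Function.Injective sB := PrimeSpectrum.comap_injective_of_surjective _ (EtMilLib.surj hsq)
  -- a point avoiding some kernel element comes from a unique point of `A'`
  have hoff : ∀ (p : PrimeSpectrum B') (j : B'), algebraMap B' B j = 0 → j ∉ p.asIdeal →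
      ∃! Q : PrimeSpectrum A', sA Q = p := by
    intro p j hj hjp
    let act := fun a => EtMilLib.act hsq ⟨j, hj⟩ a
    have hs : ∀ a, algebraMap B' B (act a) = 0 ∧ algebraMap B' A' (act a) = a * algebraMap B' A' j :=
      EtMilLib.act_spec hsq ⟨j, hj⟩
    have hmul : ∀ a b, act a * act b = j * act (a * b) := fun a b => EtMilLib.ext hsq
      (by simp [(hs a).1, (hs (a * b)).1]) (by simp [(hs a).2, (hs b).2, (hs (a * b)).2]; ring)
    have hone : act 1 = j := EtMilLib.ext hsq ((hs 1).1.trans hj.symm) ((hs 1).2.trans (one_mul _))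
    have halg : ∀ x, act (algebraMap B' A' x) = x * j := fun x => EtMilLib.ext hsq
      (by rw [(hs _).1, map_mul, hj, mul_zero]) (by rw [(hs _).2, map_mul])
    let Q : Ideal A' :=
      { carrier := {a | act a ∈ p.asIdeal}
        add_mem' := fun {a b} ha hb => by
          have : act (a + b) = act a + act b := EtMilLib.ext hsq (by simp [(hs a).1, (hs b).1, (hs (a + b)).1])
            (by simp [(hs a).2, (hs b).2, (hs (a + b)).2, add_mul])
          show act (a + b) ∈ p.asIdeal
          rw [this]; exact add_mem ha hb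
        zero_mem' := by
          have : act 0 = 0 := EtMilLib.ext hsq (by simp [(hs 0).1]) (by simp [(hs 0).2])
          show act 0 ∈ p.asIdeal
          rw [this]; exact zero_mem _
        smul_mem' := fun c a ha => by
          refine (p.isPrime.mem_or_mem (x := j) (y := act (c * a)) ?_).resolve_left hjp
          rw [← hmul]; exact Ideal.mul_mem_left _ _ ha }
    have hQ : Q.IsPrime := by
      refine ⟨fun h => hjp ?_, fun {a b} hab => ?_⟩
      · have : (1 : A') ∈ Q := h ▸ Submodule.mem_top
        rwa [← hone]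
      · have h1 : act a * act b ∈ p.asIdeal := by rw [hmul]; exact Ideal.mul_mem_left _ _ hab
        exact p.isPrime.mem_or_mem h1
    refine ⟨⟨Q, hQ⟩, PrimeSpectrum.ext (Ideal.ext fun x => ?_), fun Q' hQ' => PrimeSpectrum.ext (Ideal.ext fun a => ?_)⟩
    · show act (algebraMap B' A' x) ∈ p.asIdeal ↔ _
      rw [halg]
      exact ⟨fun h => (p.isPrime.mem_or_mem h).resolve_right hjp, fun h => Ideal.mul_mem_right _ _ h⟩
    · have hmem : ∀ x, x ∈ p.asIdeal ↔ algebraMap B' A' x ∈ Q'.asIdeal := fun x => by rw [← hQ']; rfl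
      show a ∈ Q'.asIdeal ↔ act a ∈ p.asIdeal
      rw [hmem, (hs a).2]
      exact ⟨fun h => Ideal.mul_mem_right _ _ h,
        fun h => (Q'.isPrime.mem_or_mem h).resolve_right fun h' => hjp ((hmem j).2 h')⟩
  have hcov : ∀ p : PrimeSpectrum B', (∃ q, sB q = p) ∨ (∃ Q, sA Q = p) := fun p => by
    by_cases h : RingHom.ker (algebraMap B' B) ≤ p.asIdeal
    · refine Or.inl ?_
      obtain ⟨q, hq⟩ : p ∈ Set.range sB := by
        rw [hsB, range_comap_of_surjective _ _ (EtMilLib.surj hsq)]; exact h
      exact ⟨q, hq⟩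
    · obtain ⟨j, hj, hjp⟩ := SetLike.not_le_iff_exists.1 h
      exact Or.inr (hoff p j hj hjp).exists
  have hglue : ∀ q Q, sB q = sA Q → ∃ r : PrimeSpectrum A,
      PrimeSpectrum.comap (algebraMap B A) r = q ∧ PrimeSpectrum.comap (algebraMap A' A) r = Q := by
    intro q Q h
    obtain ⟨r, hr⟩ : Q ∈ Set.range (PrimeSpectrum.comap (algebraMap A' A)) := by
      rw [range_comap_of_surjective _ _ hsq.1]
      intro a ha
      obtain ⟨j, hj, rfl⟩ := (EtMilLib.ker_bijOn hsq).surjOn ha
      have : j ∈ (sB q).asIdeal := by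
        show algebraMap B' B j ∈ q.asIdeal
        rw [show algebraMap B' B j = 0 from hj]; exact zero_mem _
      rw [h] at this
      exact this
    refine ⟨r, hinjB ?_, hr⟩
    rw [h, ← hr]
    exact PrimeSpectrum.ext (Ideal.ext fun x => by
      show algebraMap B A (algebraMap B' B x) ∈ r.asIdeal ↔ algebraMap A' A (algebraMap B' A' x) ∈ r.asIdeal
      rw [EtMilLib.comm (B := B) (A' := A') (A := A)])
  have hclosed : ∀ Z : Set (PrimeSpectrum B'), IsClosed (sB ⁻¹' Z) → IsClosed (sA ⁻¹' Z) → IsClosed Z := by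
    intro Z hB hA
    rw [← closure_subset_iff_isClosed]
    intro p hp
    rw [← PrimeSpectrum.zeroLocus_vanishingIdeal_eq_closure] at hp
    by_contra hpZ
    suffices ∃ b' : B', (∀ z ∈ Z, b' ∈ z.asIdeal) ∧ b' ∉ p.asIdeal by
      obtain ⟨b', h1, h2⟩ := this
      exact h2 (hp ((PrimeSpectrum.mem_vanishingIdeal Z b').2 h1))
    have hvan : ∀ b', (∀ q ∈ sB ⁻¹' Z, algebraMap B' B b' ∈ q.asIdeal) →
        (∀ Q ∈ sA ⁻¹' Z, algebraMap B' A' b' ∈ Q.asIdeal) → ∀ z ∈ Z, b' ∈ z.asIdeal := by
      intro b' h1 h2 z hz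
      rcases hcov z with ⟨q, rfl⟩ | ⟨Q, rfl⟩
      · exact h1 q hz
      · exact h2 Q hz
    by_cases hJ : RingHom.ker (algebraMap B' B) ≤ p.asIdeal
    · obtain ⟨q, rfl⟩ : p ∈ Set.range sB := by
        rw [hsB, range_comap_of_surjective _ _ (EtMilLib.surj hsq)]; exact hJ
      obtain ⟨b, hb, hbq⟩ : ∃ b, b ∈ PrimeSpectrum.vanishingIdeal (sB ⁻¹' Z) ∧ b ∉ q.asIdeal := by
        by_contra hcon
        push Not at hcon
        exact hpZ (hB.closure_eq.le (by
          rw [← PrimeSpectrum.zeroLocus_vanishingIdeal_eq_closure]; exact fun x hx => hcon x hx))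
      obtain ⟨a', ha'⟩ := hsq.1 (algebraMap B A b)
      set W := PrimeSpectrum.vanishingIdeal (sA ⁻¹' Z)
      have hrad : a' ∈ (RingHom.ker (algebraMap A' A) ⊔ W).radical := by
        rw [Ideal.radical_eq_sInf, Submodule.mem_sInf]
        rintro Q ⟨hQ, hQp⟩
        let Q' : PrimeSpectrum A' := ⟨Q, hQp⟩
        have hQZ : Q' ∈ sA ⁻¹' Z := hA.closure_eq.le (by
          rw [← PrimeSpectrum.zeroLocus_vanishingIdeal_eq_closure]; exact le_trans le_sup_right hQ)
        obtain ⟨r, hr⟩ : Q' ∈ Set.range (PrimeSpectrum.comap (algebraMap A' A)) := by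
          rw [range_comap_of_surjective _ _ hsq.1]; exact le_trans le_sup_left hQ
        have hrB : sB (PrimeSpectrum.comap (algebraMap B A) r) ∈ Z := by
          rw [show sB (PrimeSpectrum.comap (algebraMap B A) r) = sA Q' by
            rw [← hr]; exact PrimeSpectrum.ext (Ideal.ext fun x => by
              show algebraMap B A (algebraMap B' B x) ∈ r.asIdeal ↔ algebraMap A' A (algebraMap B' A' x) ∈ r.asIdeal
              rw [EtMilLib.comm (B := B) (A' := A') (A := A)])]
          exact hQZ
        have h3 : algebraMap B A b ∈ r.asIdeal :=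
          (PrimeSpectrum.mem_vanishingIdeal _ _).1 hb (PrimeSpectrum.comap (algebraMap B A) r) hrB
        rw [← ha'] at h3
        have : a' ∈ Q'.asIdeal := by rw [← hr]; exact h3
        exact this
      obtain ⟨n, hn⟩ := hrad
      have hn' : a' ^ (n + 1) ∈ RingHom.ker (algebraMap A' A) ⊔ W := by
        rw [pow_succ]; exact Ideal.mul_mem_right _ _ hn
      obtain ⟨i, hi, w, hw, hiw⟩ := Submodule.mem_sup.1 hn'
      obtain ⟨b', ⟨hb1, hb2⟩, -⟩ := hsq.2 (b ^ (n + 1)) w (by
        rw [map_pow, ← ha', ← map_pow, ← hiw, map_add, RingHom.mem_ker.1 hi, zero_add])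
      refine ⟨b', hvan _ (fun q' hq' => ?_) (fun Q hQ => ?_), ?_⟩
      · rw [hb1, pow_succ]
        exact Ideal.mul_mem_left _ _ ((PrimeSpectrum.mem_vanishingIdeal _ _).1 hb q' hq')
      · rw [hb2]; exact (PrimeSpectrum.mem_vanishingIdeal _ _).1 hw Q hQ
      · show algebraMap B' B _ ∉ q.asIdeal
        rw [hb1]
        exact fun h => hbq (q.isPrime.mem_of_pow_mem _ h)
    · obtain ⟨j, hj, hjp⟩ := SetLike.not_le_iff_exists.1 hJ
      obtain ⟨Q, hQ, -⟩ := hoff p j hj hjp
      subst hQ
      obtain ⟨w, hw, hwQ⟩ : ∃ w, w ∈ PrimeSpectrum.vanishingIdeal (sA ⁻¹' Z) ∧ w ∉ Q.asIdeal := by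
        by_contra hcon
        push Not at hcon
        exact hpZ (hA.closure_eq.le (by
          rw [← PrimeSpectrum.zeroLocus_vanishingIdeal_eq_closure]; exact fun x hx => hcon x hx))
      obtain ⟨h1, h2⟩ := EtMilLib.act_spec hsq ⟨j, hj⟩ w
      refine ⟨EtMilLib.act hsq ⟨j, hj⟩ w, hvan _ (fun q _ => by rw [h1]; exact zero_mem _) (fun Q' hQ' => ?_), ?_⟩
      · rw [h2]; exact Ideal.mul_mem_right _ _ ((PrimeSpectrum.mem_vanishingIdeal _ _).1 hw Q' hQ')
      · show algebraMap B' A' _ ∉ Q.asIdeal
        rw [h2]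
        exact fun h => (Q.isPrime.mem_or_mem h).elim hwQ hjp
  have hcomm : ∀ r : PrimeSpectrum A, sB (PrimeSpectrum.comap (algebraMap B A) r) =
      sA (PrimeSpectrum.comap (algebraMap A' A) r) := fun r => PrimeSpectrum.ext (Ideal.ext fun x => by
    show algebraMap B A (algebraMap B' B x) ∈ r.asIdeal ↔ algebraMap A' A (algebraMap B' A' x) ∈ r.asIdeal
    rw [EtMilLib.comm (B := B) (A' := A') (A := A)])
  refine CategoryTheory.IsPushout.of_isColimit' ⟨TopCat.ext hcomm⟩
    (CategoryTheory.Limits.PushoutCocone.IsColimit.mk (TopCat.ext hcomm) (fun s =>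
      TopCat.ofHom ⟨fun p => if h : ∃ q, sB q = p then s.inl h.choose else s.inr ((hcov p).resolve_left h).choose, ?_⟩) ?_ ?_ ?_)
  · -- continuity
    have hfB : ∀ q, (if h : ∃ q', sB q' = sB q then s.inl h.choose else s.inr ((hcov (sB q)).resolve_left h).choose) = s.inl q := by
      intro q
      have h : ∃ q', sB q' = sB q := ⟨q, rfl⟩
      rw [dif_pos h, hinjB h.choose_spec]
    have hfA : ∀ Q, (if h : ∃ q', sB q' = sA Q then s.inl h.choose else s.inr ((hcov (sA Q)).resolve_left h).choose) = s.inr Q := by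
      intro Q
      by_cases h : ∃ q', sB q' = sA Q
      · rw [dif_pos h]
        obtain ⟨r, hr1, hr2⟩ := hglue _ _ h.choose_spec
        rw [← hr1, ← hr2]
        exact congrArg (fun m => m r) s.condition
      · rw [dif_neg h]
        obtain ⟨j, hj, hjp⟩ : ∃ j, algebraMap B' B j = 0 ∧ j ∉ (sA Q).asIdeal := by
          by_contra hcon
          push Not at hcon
          refine h (Set.mem_range.1 ?_)
          rw [hsB, range_comap_of_surjective _ _ (EtMilLib.surj hsq)]
          exact fun j hj => hcon j hj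
        have hch := ((hcov (sA Q)).resolve_left h).choose_spec
        rw [(hoff (sA Q) j hj hjp).unique hch rfl]
    rw [continuous_iff_isClosed]
    intro C hC
    refine hclosed _ ?_ ?_
    · convert hC.preimage s.inl.hom.continuous using 1
      ext q
      exact iff_of_eq (congrArg (· ∈ C) (hfB q))
    · convert hC.preimage s.inr.hom.continuous using 1
      ext Q
      exact iff_of_eq (congrArg (· ∈ C) (hfA Q))
  · intro s
    refine TopCat.ext fun q => ?_
    show (if h : ∃ q', sB q' = sB q then s.inl h.choose else s.inr ((hcov (sB q)).resolve_left h).choose) = s.inl q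
    have h : ∃ q', sB q' = sB q := ⟨q, rfl⟩
    rw [dif_pos h, hinjB h.choose_spec]
  · intro s
    refine TopCat.ext fun Q => ?_
    show (if h : ∃ q', sB q' = sA Q then s.inl h.choose else s.inr ((hcov (sA Q)).resolve_left h).choose) = s.inr Q
    by_cases h : ∃ q', sB q' = sA Q
    · rw [dif_pos h]
      obtain ⟨r, hr1, hr2⟩ := hglue _ _ h.choose_spec
      rw [← hr1, ← hr2]
      exact congrArg (fun m => m r) s.condition
    · rw [dif_neg h]
      obtain ⟨j, hj, hjp⟩ : ∃ j, algebraMap B' B j = 0 ∧ j ∉ (sA Q).asIdeal := by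
        by_contra hcon
        push Not at hcon
        refine h (Set.mem_range.1 ?_)
        rw [hsB, range_comap_of_surjective _ _ (EtMilLib.surj hsq)]
        exact fun j hj => hcon j hj
      have hch := ((hcov (sA Q)).resolve_left h).choose_spec
      rw [(hoff (sA Q) j hj hjp).unique hch rfl]
  · intro s m h1 h2
    refine TopCat.ext fun p => ?_
    show m p = if h : ∃ q, sB q = p then s.inl h.choose else s.inr ((hcov p).resolve_left h).choose
    by_cases h : ∃ q, sB q = p
    · rw [dif_pos h, ← h1]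
      exact congrArg m h.choose_spec.symm
    · rw [dif_neg h, ← h2]
      exact congrArg m ((hcov p).resolve_left h).choose_spec.symm

end Groth.Agent.S6917
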