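import Groth.Statements.S0396
import Mathlib
import Groth.Agent.LocalCrit.Criterion
import Groth.Agent.FibCrit.Nilp

set_option autoImplicit false
universe u
open FlatMor TensorProduct
set_option linter.style.haveILetI false

namespace Groth.Agent.S0396

open TensorProduct in
/-- For a map of Noetherian rings R → S, an ideal I of R and a finite S-module M such that M/IⁿM is flat
over R/Iⁿ for every n ≥ 1, the localization of M at any prime of S containing IS is flat over R. -/
theorem result {R S M : Type u} [CommRing R] [CommRing S] [IsNoetherianRing R] [IsNoetherianRing S] [Algebra R S]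
    [AddCommGroup M] [Module R M] [Module S M] [IsScalarTower R S M] [Module.Finite S M] (I : Ideal R)
    (h : ∀ n : ℕ, 0 < n → Module.Flat (R ⧸ I ^ n) ((R ⧸ I ^ n) ⊗[R] M))
    (q : Ideal S) [q.IsPrime] (hq : I.map (algebraMap R S) ≤ q) :
    Module.Flat R (LocalizedModule q.primeCompl M) := by
  classical
  let S' := Localization.AtPrime q
  let N := S' ⊗[S] M
  haveI : Module.Flat S S' := IsLocalization.flat S' q.primeCompl
  haveI : IsScalarTower R S' N := IsScalarTower.of_algebraMap_smul fun r n => by
    rw [IsScalarTower.algebraMap_apply R S S', algebraMap_smul, algebraMap_smul]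
  suffices Module.Flat R N from Module.Flat.of_linearEquiv
    ((((isLocalizedModule_iff_isBaseChange q.primeCompl S'
      (LocalizedModule.mkLinearMap q.primeCompl M)).mp inferInstance).equiv).restrictScalars R).symm
  rw [Module.Flat.iff_rTensor_injective']
  intro J
  rw [← LinearMap.lTensor_inj_iff_rTensor_inj, injective_iff_map_eq_zero]
  intro z hz
  haveI : Module.Finite R J := Module.Finite.iff_fg.2 (IsNoetherian.noetherian J)
  haveI : Module.Finite S' (N ⊗[R] J) := Module.Finite.equiv
    (AlgebraTensorModule.cancelBaseChange R S' S' N J)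
  let I' := I.map (algebraMap R S')
  have hI' : I' ≠ ⊤ := fun e => by
    have h1 : I' ≤ IsLocalRing.maximalIdeal S' := by
      rw [← IsLocalization.AtPrime.map_eq_maximalIdeal q S',
        show I' = (I.map (algebraMap R S)).map (algebraMap S S') by
          rw [Ideal.map_map, ← IsScalarTower.algebraMap_eq]]
      exact Ideal.map_mono hq
    exact (IsLocalRing.maximalIdeal.isMaximal S').ne_top (top_le_iff.1 (e ▸ h1))
  suffices ∀ m, z ∈ I' ^ m • (⊤ : Submodule S' (N ⊗[R] J)) from (Submodule.mem_bot S').1
    ((Ideal.iInf_pow_smul_eq_bot_of_isLocalRing I' hI' (M := N ⊗[R] J)) ▸ Submodule.mem_iInf _ |>.2 this)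
  intro m
  obtain ⟨k, hk⟩ := I.exists_pow_inf_eq_pow_smul (J : Submodule R R)
  let n := k + m + 1
  let Z := R ⧸ I ^ n
  haveI : Module.Flat Z (Z ⊗[R] M) := h n (Nat.succ_pos _)
  haveI : Module.Flat Z (Z ⊗[R] N) := FibCrit.flat_baseChange_tensor
  let Jb : Ideal Z := J.map (Ideal.Quotient.mk (I ^ n))
  let p : J →ₗ[R] Jb :=
    { toFun := fun j => ⟨Ideal.Quotient.mk (I ^ n) j, Ideal.mem_map_of_mem _ j.2⟩
      map_add' := fun _ _ => Subtype.ext (map_add _ _ _)
      map_smul' := fun r j => Subtype.ext (map_mul (Ideal.Quotient.mk (I ^ n)) r j) }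
  have hp : Function.Surjective p := fun y => by
    obtain ⟨a, ha, e⟩ := (Ideal.mem_map_iff_of_surjective _ Ideal.Quotient.mk_surjective).1 y.2
    exact ⟨⟨a, ha⟩, Subtype.ext e⟩
  have hzero : p.lTensor N z = 0 := by
    have hi : Function.Injective (((Submodule.subtype Jb).restrictScalars R).lTensor N) :=
      (FibCrit.lTensor_baseChange_injective_iff (Submodule.subtype Jb)).1
        (Module.Flat.rTensor_preserves_injective_linearMap _ Jb.injective_subtype)
    refine hi ?_
    rw [map_zero, ← LinearMap.comp_apply, ← LinearMap.lTensor_comp,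
      show ((Submodule.subtype Jb).restrictScalars R) ∘ₗ p = (Algebra.linearMap R Z) ∘ₗ Submodule.subtype J from
        LinearMap.ext fun _ => rfl,
      LinearMap.lTensor_comp, LinearMap.comp_apply, hz, map_zero]
  obtain ⟨w, rfl⟩ := (lTensor_exact N (LinearMap.exact_subtype_ker_map p) hp z).1 hzero
  clear hz hzero
  suffices (Submodule.subtype (LinearMap.ker p)).lTensor N w ∈ I ^ m • (⊤ : Submodule R (N ⊗[R] J)) by
    have := LocalCrit.smul_top_le_restrictScalars (S := S') (N ⊗[R] J) (I ^ m) this
    rwa [Ideal.map_pow, Submodule.restrictScalars_mem] at this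
  induction w with
  | zero => rw [map_zero]; exact Submodule.zero_mem _
  | tmul a v =>
    obtain ⟨⟨v, hvJ⟩, hv⟩ := v
    have hvI : v ∈ I ^ n := Ideal.Quotient.eq_zero_iff_mem.1 (congrArg Subtype.val (LinearMap.mem_ker.1 hv))
    have hv' : v ∈ I ^ n • (⊤ : Submodule R R) ⊓ J := ⟨by simpa using hvI, hvJ⟩
    rw [hk n (by omega)] at hv'
    have hv'' : v ∈ Submodule.map (Submodule.subtype J) (I ^ (n - k) • (⊤ : Submodule R J)) := by
      rw [Submodule.map_smul'', Submodule.map_top, Submodule.range_subtype]
      exact Submodule.smul_mono le_rfl inf_le_right hv'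
    obtain ⟨v', hv'', e⟩ := hv''
    obtain rfl : v' = ⟨v, hvJ⟩ := Subtype.ext e
    have := Submodule.mem_map_of_mem (f := TensorProduct.mk R N J a) hv''
    rw [Submodule.map_smul''] at this
    exact Submodule.smul_mono (Ideal.pow_le_pow_right (show m ≤ n - k by omega)) le_top this
  | add a b ha hb => rw [map_add]; exact Submodule.add_mem _ ha hb

end Groth.Agent.S0396
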