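import Groth.Statements.S1359
import Groth.Agent.ThickFlat.Basic
import Groth.Agent.S2156

set_option autoImplicit false
universe u
open FlatMor

open Groth.Agent CategoryTheory.Limits
set_option backward.isDefEq.respectTransparency false
namespace Groth.Agent.S1359

open AlgebraicGeometry CategoryTheory Limits in
/-- Let S be locally Noetherian, f : X → S of finite type, and Z the closed subscheme of S cut out by an
ideal sheaf I, with infinitesimal neighbourhoods cut out by the powers of I. If the base change of f
to every infinitesimal neighbourhood is smooth, then every point of X lying over Z is in the smooth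
locus of f. -/
theorem result {X S : Scheme.{u}} (f : X ⟶ S) [IsLocallyNoetherian S] [LocallyOfFinitePresentation f] [QuasiCompact f]
    (I : S.IdealSheafData) (h : ∀ n : ℕ, Smooth (pullback.snd f (I ^ (n + 1)).subschemeι)) (x : X) (hx : f x ∈ I.support) :
    x ∈ f.smoothLocus := by
  haveI hflat : ∀ n : ℕ, Flat (pullback.snd f (I ^ (n + 1)).subschemeι) := fun n => by
    haveI := h n
    infer_instance
  obtain ⟨k, hk⟩ := ThickFlat.exists_lift I hx 0 _ (CommRingCat.ofHom (IsLocalRing.residue (S.presheaf.stalk (f x))))
    (by simp [IsLocalRing.ker_residue])
  haveI hsm : Smooth (f.fiberToSpecResidueField (f x)) :=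
    ThickFlat.of_thickening f @Smooth I (h 0) (S.fromSpecResidueField (f x)) k hk
  haveI : LocallyOfFinitePresentation (f.fiberToSpecResidueField (f.base x)) :=
    MorphismProperty.pullback_snd (P := @LocallyOfFinitePresentation) _ _ inferInstance
  refine (S2156.result f x).mpr ⟨ThickFlat.flat_stalkMap f I hflat x hx, ?_⟩
  rw [(Scheme.Hom.smoothLocus_eq_top_iff (f := f.fiberToSpecResidueField (f.base x))).mpr hsm]
  trivial

end Groth.Agent.S1359
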