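import Groth.Statements.S12309
import Groth.Agent.DefFun.AutLift
import Groth.Agent.ArtFib.Basic
import Groth.Agent.ArtCrit.Basic
import Groth.Agent.S12731

set_option autoImplicit false
set_option backward.isDefEq.respectTransparency false
set_option linter.style.haveILetI false
universe u
open CategoryTheory AlgebraicGeometry
open SGA7

namespace Groth.Agent.S12309

/-- Suppose Λ is a Noetherian local ring, complete for its maximal ideal, whose residue field is k (so
that Λ → k is surjective), and work with functors defined on local Artinian Λ-algebras having
residue field k. Take a k-scheme X₀ and assume its deformation functor (sending A to isomorphism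
classes of schemes flat over Spec A whose closed fibre is X₀) admits a hull. The deformation functor
is then pro-representable exactly when the following holds: given any surjective morphism p : A' → A
and any deformation X' of X₀ over A', every automorphism of the base change of X' along p arises by
restricting some automorphism of X' (automorphisms being taken over Spec A' and inducing the
identity on X₀), i.e. the restriction map is surjective. (In the published version the assertion is
stated for X₀ proper over k, or affine of finite type with only finitely many non-smooth points,
cases in which a hull exists; here the existence of a hull is assumed outright, as that is all the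
printed proof relies on.) -/
theorem result (Λ k : Type u) [CommRing Λ] [IsLocalRing Λ] [IsNoetherianRing Λ]
    [IsAdicComplete (IsLocalRing.maximalIdeal Λ) Λ] [Field k] [Algebra Λ k]
    (hk : Function.Surjective (algebraMap Λ k))
    (X : Scheme.{u}) (x : X ⟶ Spec (CommRingCat.of k))
    (hX : ArtFun.HasHull (ArtFun.defFunctor (Λ := Λ) X x)) :
    ArtFun.IsProrepresentable (ArtFun.defFunctor (Λ := Λ) X x) ↔
      ∀ (A' A : ArtFun.Art Λ k) (p : A' ⟶ A), Function.Surjective p →
        ∀ ξ' : ArtFun.DefSch (Λ := Λ) X x A',
          Function.Surjective (fun e : ξ'.Iso ξ' => e.baseChange p) := by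
  classical
  haveI : Module.Finite Λ k := Module.Finite.of_surjective (Algebra.linearMap Λ k) hk
  constructor
  · intro hP A' A p hp ξ'
    obtain ⟨P⟩ := hP
    obtain ⟨B, q₁, q₂, h⟩ := ArtFib.exists_isFibreProd_of_surjective p p hp
    exact DefFun.lift_of_injective h hp (ArtCrit.isLeftExact_of_proRep P q₁ q₂ p p h).1 ξ'
  · intro H
    have h0 := DefFun.h0 (Λ := Λ) X x
    have h2 := DefFun.heps (Λ := Λ) X x
    obtain ⟨T⟩ := ArtKit.nonempty_tangentStr h0 h2
    letI := T
    refine (ArtCrit.isProrepresentable_iff hk h0).2 ⟨fun B A A' A'' a b c d h hs => DefFun.s1 X x a b c d h hs.1,
      h2, (S12731.result _ h0 hX).2.2, fun B A A' a b f h hf => ?_⟩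
    exact ⟨DefFun.injective_cmp_of_lift h hf.1 (H A' A f hf.1), DefFun.s1 X x a b f f h hf.1⟩


end Groth.Agent.S12309
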