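import Groth.Statements.S9515
import Groth.Agent.W7Hull.Avoid
import Groth.Agent.Devissage.Apply2
import Groth.Agent.S2313

set_option autoImplicit false
universe u
open CategoryTheory CategoryTheory.Limits AlgebraicGeometry
attribute [local instance] HasDerivedCategory.standard
open Coherent

set_option backward.isDefEq.respectTransparency false
namespace Groth.Agent.S9515

/-- Let X be a Noetherian scheme, F a quasi-coherent O_X-module, G a coherent O_X-module and I a
quasi-coherent sheaf of ideals, with U the open complement of the closed subset cut out by I. For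
every morphism φ : G|_U → F|_U there are an n ≥ 0 and a morphism ψ : I^n G → F whose restriction to
U is the restriction of the inclusion I^n G → G followed by φ. (Here I^n G ⊆ G is the submodule
sheaf Dual3.idealMul (I^n) G.) -/
theorem result (X : Scheme.{u}) [IsNoetherian X] (F G : X.Modules)
    (hF : Coh.IsQCoh F) (hG : Coh.IsCoh G) (I : X.IdealSheafData)
    (U : X.Opens) (hU : (U : Set X) = (I.support : Set X)ᶜ)
    (φ : (Scheme.Modules.restrictFunctor U.ι).obj G ⟶
      (Scheme.Modules.restrictFunctor U.ι).obj F) :
    ∃ (n : ℕ) (ψ : (Dual3.idealMul (I ^ n)).obj G ⟶ F),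
      (Scheme.Modules.restrictFunctor U.ι).map ψ =
        (Scheme.Modules.restrictFunctor U.ι).map (Dual3.idealMulι (I ^ n) G) ≫ φ := by
  obtain ⟨G', ι, φ', h1, h2, h3, h4⟩ := W7Hull.exists_extend_hom hG.1 hF U φ
  haveI := h1
  have hsupp : CohB1.support (cokernel ι) ⊆ (I.support : Set X) := fun x hx => by
    by_contra hxI
    have hxU : x ∈ U := (hU ▸ hxI : x ∈ (U : Set X))
    haveI := h3
    exact Devissage.notMem_support_of_surjective _ (Devissage.cokSeq_shortExact ι) x
      (W7Hull.bijective_of_isIso_restrict ι U hxU).2 hx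
  have hC : Coh.IsCoh (cokernel ι) :=
    QC.isCoh_cokernel h2 hG ι
  obtain ⟨n, hn⟩ := S2313.result X (cokernel ι) hC I hsupp
  have hk : ClSub.KilledByIdeal (I ^ n) (cokernel ι) := fun V a ha m => by
    rw [Scheme.IdealSheafData.ideal_pow] at ha
    exact hn V a ha m
  have h0 : Dual3.idealMulι (I ^ n) G ≫ cokernel.π ι = 0 := by
    rw [← Dual3.idealMul_map_ι, Devissage.isZero_idealMul _ _ hk, comp_zero]
  let T := ShortComplex.mk ι (cokernel.π ι) (cokernel.condition ι)
  have hT : T.Exact := ShortComplex.exact_of_g_is_cokernel T (cokernelIsCokernel ι)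
  refine ⟨n, hT.lift _ h0 ≫ φ', ?_⟩
  rw [Functor.map_comp, h4, ← Category.assoc, ← Functor.map_comp]
  congr 2
  exact hT.lift_f _ h0

end Groth.Agent.S9515
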