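import Groth.Statements.S9516
import Groth.Agent.W7Hull.Avoid
import Groth.Agent.Devissage.Apply2
import Groth.Agent.KFlat.ClosedImm
import Groth.Agent.S2313

set_option autoImplicit false
universe u
open CategoryTheory CategoryTheory.Limits AlgebraicGeometry
attribute [local instance] HasDerivedCategory.standard
open Coherent

open Groth.Agent
set_option backward.isDefEq.respectTransparency false
namespace Groth.Agent.S9516

/-- Let X be a Noetherian scheme, F a quasi-coherent O_X-module, G a coherent O_X-module and I a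
quasi-coherent sheaf of ideals, with U the open complement of the closed subset cut out by I. If a
morphism ψ : I^n G → F restricts to zero on U, then ψ vanishes on I^N G for some N: there is a
morphism ι : I^N G → I^n G commuting with the inclusions into G and with ι ≫ ψ = 0. (Together with
the surjectivity statement this says that colim_n Hom(I^n G, F) → Hom(G|_U, F|_U) is bijective.) -/
theorem result (X : Scheme.{u}) [IsNoetherian X] (F G : X.Modules)
    (hF : Coh.IsQCoh F) (hG : Coh.IsCoh G) (I : X.IdealSheafData)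
    (U : X.Opens) (hU : (U : Set X) = (I.support : Set X)ᶜ) (n : ℕ)
    (ψ : (Dual3.idealMul (I ^ n)).obj G ⟶ F)
    (hψ : (Scheme.Modules.restrictFunctor U.ι).map ψ = 0) :
    ∃ (N : ℕ) (ι : (Dual3.idealMul (I ^ N)).obj G ⟶ (Dual3.idealMul (I ^ n)).obj G),
      ι ≫ Dual3.idealMulι (I ^ n) G = Dual3.idealMulι (I ^ N) G ∧ ι ≫ ψ = 0 := by
  have hJ : ∀ x ∈ U, x ∉ Set.range (I ^ n).subschemeι.base := by
    intro x hx hx'
    rw [Scheme.IdealSheafData.range_subschemeι] at hx'
    cases n with
    | zero => rw [pow_zero, Scheme.IdealSheafData.one_eq_top, Scheme.IdealSheafData.support_top] at hx'; exact hx'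
    | succ k =>
      rw [Scheme.IdealSheafData.support_pow_succ] at hx'
      exact (hU ▸ hx : x ∈ (I.support : Set X)ᶜ) hx'
  have hGn : Coh.IsQCoh ((Dual3.idealMul (I ^ n)).obj G) :=
    QC.isQCoh_kernel hG.1 (by
      haveI := QC.isQCoh_pullback (I ^ n).subschemeι hG.1
      exact QC.isQCoh_pushforward (I ^ n).subschemeι) _
  have hb : ∀ x ∈ U, Function.Bijective (W7Hull.st (kernel.ι ψ ≫ Dual3.idealMulι (I ^ n) G) x) := by
    intro x hx
    have h1 : Function.Bijective (W7Hull.st (Dual3.idealMulι (I ^ n) G) x) := by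
      haveI : Mono (Dual3.idealMulι (I ^ n) G) := inferInstance
      refine ⟨W7Hull.st_injective _ x, fun z => LinearMap.mem_range.1 (W7Hull.st_exact_kernel _ x z ?_)⟩
      exact @Subsingleton.elim _ (KFlat.subsingleton_stalk_push (f := (I ^ n).subschemeι) _ (hJ x hx)) _ _
    have h2 : Function.Bijective (W7Hull.st (kernel.ι ψ) x) := by
      refine ⟨W7Hull.st_injective _ x, fun z => LinearMap.mem_range.1 (W7Hull.st_exact_kernel ψ x z ?_)⟩
      rw [W7Hull.st_eq_stalkMap]
      have h3 := (NatIso.naturality_1 (Scheme.Modules.restrictStalkNatIso U.ι ⟨x, hx⟩) ψ).symm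
      simp only [Functor.comp_map] at h3
      rw [hψ, Functor.map_zero, Functor.map_zero, zero_comp, comp_zero] at h3
      exact ConcreteCategory.congr_hom h3 z
    have h4 : ⇑(W7Hull.st (kernel.ι ψ ≫ Dual3.idealMulι (I ^ n) G) x) =
        ⇑(W7Hull.st (Dual3.idealMulι (I ^ n) G) x) ∘ ⇑(W7Hull.st (kernel.ι ψ) x) :=
      funext fun z => W7Hull.st_comp _ _ x z
    rw [h4]
    exact h1.comp h2
  set ι0 := kernel.ι ψ ≫ Dual3.idealMulι (I ^ n) G with hι0
  have hsupp : CohB1.support (cokernel ι0) ⊆ (I.support : Set X) := fun x hx => by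
    by_contra hxI
    exact Devissage.notMem_support_of_surjective _ (Devissage.cokSeq_shortExact ι0) x
      (hb x (hU ▸ hxI : x ∈ (U : Set X))).2 hx
  have hC : Coh.IsCoh (cokernel ι0) := QC.isCoh_cokernel (QC.isQCoh_kernel hGn hF ψ) hG ι0
  obtain ⟨N, hN⟩ := S2313.result X (cokernel ι0) hC I hsupp
  have hk : ClSub.KilledByIdeal (I ^ N) (cokernel ι0) := fun V a ha m => by
    rw [Scheme.IdealSheafData.ideal_pow] at ha
    exact hN V a ha m
  have h0 : Dual3.idealMulι (I ^ N) G ≫ cokernel.π ι0 = 0 := by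
    rw [← Dual3.idealMul_map_ι, Devissage.isZero_idealMul _ _ hk, comp_zero]
  let T := ShortComplex.mk ι0 (cokernel.π ι0) (cokernel.condition ι0)
  have hT : T.Exact := ShortComplex.exact_of_g_is_cokernel T (cokernelIsCokernel ι0)
  haveI : Mono T.f := inferInstanceAs (Mono (kernel.ι ψ ≫ Dual3.idealMulι (I ^ n) G))
  refine ⟨N, hT.lift _ h0 ≫ kernel.ι ψ, ?_, ?_⟩
  · exact (Category.assoc _ _ _).trans (hT.lift_f _ h0)
  · rw [Category.assoc, kernel.condition, comp_zero]

end Groth.Agent.S9516
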