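import Groth.Statements.S1651
import Groth.Agent.DeltaBC.Main

set_option autoImplicit false
universe u
open CategoryTheory CategoryTheory.Limits AlgebraicGeometry
open Variety

namespace Groth.Agent.S1651

open scoped TensorProduct

/-- The δ-invariant does not drop along flat local homomorphisms. -/
theorem deltaInv_le (A B : Type u) [CommRing A] [IsLocalRing A] [CommRing B] [IsLocalRing B] [Algebra A B]
    [IsLocalHom (algebraMap A B)] [Module.Flat A B] : Curv2.deltaInv A ≤ Curv2.deltaInv B := by
  classical
  let A' := integralClosure A (FractionRing A)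
  let B' := integralClosure B (FractionRing B)
  let lA : Submodule A A' := LinearMap.range (Algebra.linearMap A A')
  let lB : Submodule B B' := LinearMap.range (Algebra.linearMap B B')
  have hreg : ∀ y : nonZeroDivisors A, algebraMap A B y ∈ nonZeroDivisors B := fun y =>
    DeltaBC.regular_left fun x z h => mul_cancel_left_mem_nonZeroDivisors y.2 |>.mp h
  let g₀ : FractionRing A →ₐ[A] FractionRing B := IsLocalization.liftAlgHom (f := Algebra.ofId A _)
    (fun y : nonZeroDivisors A => by
      show IsUnit (algebraMap A (FractionRing B) y)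
      rw [IsScalarTower.algebraMap_apply A B (FractionRing B)]
      exact IsLocalization.map_units (FractionRing B) ⟨_, hreg y⟩)
  have hint : ∀ a : A', IsIntegral B (g₀ a.1) := fun a => (a.2.map g₀).tower_top
  let j : A' →ₐ[A] B' :=
    { toFun := fun a => ⟨g₀ a.1, hint a⟩
      map_one' := Subtype.ext (map_one g₀)
      map_zero' := Subtype.ext (map_zero g₀)
      map_add' := fun a b => Subtype.ext (map_add g₀ _ _)
      map_mul' := fun a b => Subtype.ext (map_mul g₀ _ _)
      commutes' := fun a => Subtype.ext (g₀.commutes a) }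
  let ψ : A' →ₗ[A] B' ⧸ lB := (lB.mkQ.restrictScalars A).comp j.toLinearMap
  have hψ : lA ≤ LinearMap.ker ψ := by
    rintro _ ⟨a, rfl⟩
    refine (Submodule.Quotient.mk_eq_zero lB).2 ⟨algebraMap A B a, ?_⟩
    exact ((IsScalarTower.algebraMap_apply A B B' a).symm.trans (j.commutes a).symm)
  let χ : A' ⧸ lA →ₗ[A] B' ⧸ lB := lA.liftQ ψ hψ
  let φ : B ⊗[A] (A' ⧸ lA) →ₗ[B] B' ⧸ lB := χ.liftBaseChange B
  let Φ : B ⊗[A] A' →ₐ[B] B' := Algebra.TensorProduct.lift (Algebra.ofId B B') j fun _ _ => Commute.all _ _
  let π : B ⊗[A] A' →ₗ[A] B ⊗[A] (A' ⧸ lA) := lA.mkQ.lTensor B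
  have hπ : Function.Surjective π := LinearMap.lTensor_surjective _ (Submodule.mkQ_surjective _)
  have hφπ : ∀ z, φ (π z) = lB.mkQ (Φ z) := fun z => by
    induction z using TensorProduct.induction_on with
    | zero => simp
    | add a b ha hb => rw [map_add, map_add, ha, hb, map_add, map_add]
    | tmul b a =>
      rw [Algebra.TensorProduct.lift_tmul]
      show φ (b ⊗ₜ lA.mkQ a) = lB.mkQ (algebraMap B B' b * j a)
      rw [LinearMap.liftBaseChange_tmul, ← Algebra.smul_def, map_smul]
      rfl
  have hden : ∀ z : B ⊗[A] A', ∃ (d : nonZeroDivisors A) (c : B),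
      ((1 : B) ⊗ₜ[A] algebraMap A A' d) * z = c ⊗ₜ[A] 1 := fun z => by
    induction z using TensorProduct.induction_on with
    | zero => exact ⟨1, 0, by simp⟩
    | tmul b a =>
      obtain ⟨⟨x, d⟩, hx⟩ := IsLocalization.surj (nonZeroDivisors A) (a : FractionRing A)
      refine ⟨d, algebraMap A B x * b, ?_⟩
      have hx' : algebraMap A A' d * a = algebraMap A A' x :=
        Subtype.ext ((mul_comm _ _).trans hx)
      rw [Algebra.TensorProduct.tmul_mul_tmul, one_mul, hx', Algebra.algebraMap_eq_smul_one,
        TensorProduct.tmul_smul, TensorProduct.smul_tmul', Algebra.smul_def]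
    | add y y' hy hy' =>
      obtain ⟨d, c, hc⟩ := hy
      obtain ⟨d', c', hc'⟩ := hy'
      refine ⟨d * d', algebraMap A B d' * c + algebraMap A B d * c', ?_⟩
      have e : ∀ (r : A) (t : B), ((1 : B) ⊗ₜ[A] algebraMap A A' r) * (t ⊗ₜ[A] (1 : A')) =
          (algebraMap A B r * t) ⊗ₜ[A] 1 := fun r t => by
        rw [Algebra.TensorProduct.tmul_mul_tmul, one_mul, mul_one, Algebra.algebraMap_eq_smul_one,
          TensorProduct.tmul_smul, TensorProduct.smul_tmul', Algebra.smul_def]
      rw [mul_add, TensorProduct.add_tmul, ← e, ← e, ← hc, ← hc', ← mul_assoc, ← mul_assoc,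
        Algebra.TensorProduct.tmul_mul_tmul, Algebra.TensorProduct.tmul_mul_tmul, one_mul, ← map_mul, ← map_mul,
        Submonoid.coe_mul, mul_comm (d' : A) (d : A)]
  have hinj : Function.Injective φ := by
    refine (injective_iff_map_eq_zero φ).2 fun w hw => ?_
    obtain ⟨z, rfl⟩ := hπ w
    rw [hφπ] at hw
    obtain ⟨b, hb⟩ := (Submodule.Quotient.mk_eq_zero lB).1 hw
    obtain ⟨d, c, hc⟩ := hden z
    have hval := congrArg Φ hc
    rw [map_mul, Algebra.TensorProduct.lift_tmul, Algebra.TensorProduct.lift_tmul, map_one, map_one, one_mul, mul_one,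
      ← hb, j.commutes, IsScalarTower.algebraMap_apply A B B'] at hval
    have hcb : algebraMap A B d * b = c := by
      apply IsFractionRing.injective B (FractionRing B)
      have := congrArg (Subtype.val : B' → FractionRing B) hval
      rw [map_mul]
      exact this
    have htreg : IsSMulRegular A' (algebraMap A A' d) := fun x y hxy => Subtype.ext
      ((IsLocalization.map_units (FractionRing A) d).mul_left_cancel (congrArg Subtype.val hxy :))
    have hz0 : z - b ⊗ₜ[A] 1 = 0 := DeltaBC.regular_tensor htreg _ (by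
      rw [mul_sub, hc, Algebra.TensorProduct.tmul_mul_tmul, one_mul, mul_one, ← hcb,
        Algebra.algebraMap_eq_smul_one (A := A'), TensorProduct.tmul_smul, TensorProduct.smul_tmul', Algebra.smul_def,
        sub_self])
    rw [sub_eq_zero] at hz0
    rw [hz0]
    show b ⊗ₜ[A] lA.mkQ (1 : A') = 0
    rw [(Submodule.Quotient.mk_eq_zero lA).2 ⟨1, (algebraMap A A').map_one⟩ |> fun h => (show lA.mkQ (1 : A') = 0 from h),
      TensorProduct.tmul_zero]
  have h1 : Module.length B (B ⊗[A] (A' ⧸ lA)) ≤ Curv2.deltaInv B := Module.length_le_of_injective φ hinj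
  refine le_trans ?_ h1
  rw [IsLocalRing.length_baseChange]
  show Module.length A (A' ⧸ lA) ≤ _
  haveI : Nontrivial (B ⧸ (IsLocalRing.maximalIdeal A).map (algebraMap A B)) :=
    Ideal.Quotient.nontrivial_iff.mpr (IsLocalRing.map_maximalIdeal_lt_top (algebraMap A B)).ne
  conv_lhs => rw [← mul_one (Module.length A (A' ⧸ lA))]
  exact mul_le_mul' le_rfl (Order.one_le_iff_pos.mpr Module.length_pos)

/-- Let X be locally of finite type over k, K a field extension, y a point of X_K with image x. Assume X
is geometrically reduced at x and the local rings at x and at y both have dimension one. Then the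
δ-invariant of X at x is at most the δ-invariant of X_K at y. -/
theorem result (k : Type u) [Field k] (X : Scheme.{u}) [X.Over (Spec (CommRingCat.of k))] [LocallyOfFiniteType (X ↘ (Spec (CommRingCat.of k)))] (K : Type u) [Field K] [Algebra k K]
    (y : Curv2.bc k X K) (hx : Curv2.IsGeomReducedAt k X (Curv2.bcFst k X K y))
    (hdx : ringKrullDim (X.presheaf.stalk (Curv2.bcFst k X K y)) = 1)
    (hdy : ringKrullDim ((Curv2.bc k X K).presheaf.stalk y) = 1) :
    Curv2.deltaInv (X.presheaf.stalk (Curv2.bcFst k X K y)) ≤ Curv2.deltaInv ((Curv2.bc k X K).presheaf.stalk y) := by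
  letI := ((Curv2.bcFst k X K).stalkMap y).hom.toAlgebra
  haveI : IsLocalHom (algebraMap (X.presheaf.stalk (Curv2.bcFst k X K y)) ((Curv2.bc k X K).presheaf.stalk y)) :=
    inferInstanceAs (IsLocalHom ((Curv2.bcFst k X K).stalkMap y).hom)
  haveI : Flat (Spec.map (CommRingCat.ofHom (algebraMap k K))) := by
    rw [HasRingHomProperty.Spec_iff (P := @Flat)]
    exact RingHom.flat_algebraMap_iff.mpr inferInstance
  haveI : Flat (Curv2.bcFst k X K) :=
    MorphismProperty.pullback_fst (P := @Flat) (X ↘ Spec (CommRingCat.of k)) _ inferInstance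
  haveI : Module.Flat (X.presheaf.stalk (Curv2.bcFst k X K y)) ((Curv2.bc k X K).presheaf.stalk y) :=
    Flat.stalkMap (Curv2.bcFst k X K) y
  exact deltaInv_le _ _

end Groth.Agent.S1651
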