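import Groth.Statements.S4709
import Groth.Agent.Nagata.Criterion
import Groth.Agent.Nagata.GeomRed
import Groth.Agent.Nagata.Japanese
import Groth.Agent.S9829

set_option autoImplicit false
universe u
open EGA4

namespace Groth.Agent.S4709

/-- Let A be a Noetherian ring such that (i) for every maximal ideal m the formal fibres of A_m are
geometrically reduced, and (ii) the regular locus of every A-algebra of finite type is open (A is
J-2). Then A is universally Japanese. -/
theorem result (A : Type u) [CommRing A] [IsNoetherianRing A]
    (h1 : ∀ (m : Ideal A) [m.IsMaximal], EGA4.HasGeomReducedFormalFibres (Localization.AtPrime m))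
    (h2 : EGA4.IsJ2 A) : CAlg.IsUniversallyJapanese A := by
  refine Nagata.isUniversallyJapanese_of_isNagata ⟨inferInstance, fun p hp => ?_⟩
  refine Nagata.isN2_of_loc_and_normal (fun n _ => ?_) fun K' _ _ _ _ _ _ B' hfin _ => ?_
  · let m := n.comap (Ideal.Quotient.mk p)
    haveI : m.IsMaximal := Ideal.comap_isMaximal_of_surjective _ Ideal.Quotient.mk_surjective
    have hdisj : Disjoint (m.primeCompl : Set A) (p : Set A) := Set.disjoint_left.mpr fun a ha hap => ha (by
      show Ideal.Quotient.mk p a ∈ n
      rw [Ideal.Quotient.eq_zero_iff_mem.mpr hap]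
      exact zero_mem n)
    let P := p.map (algebraMap A (Localization.AtPrime m))
    haveI : P.IsPrime := IsLocalization.isPrime_of_isPrime_disjoint m.primeCompl _ p hp hdisj
    exact Nagata.isN2_atPrime_quotient m P ((Nagata.isNagata_of_geomReducedFormalFibres (h1 m)).2 P) p
      (IsLocalization.comap_map_of_isPrime_disjoint m.primeCompl _ hp hdisj) n rfl
  haveI := hfin
  letI : Algebra A B' := ((algebraMap (A ⧸ p) B').comp (Ideal.Quotient.mk p)).toAlgebra
  haveI : IsScalarTower A (A ⧸ p) B' := IsScalarTower.of_algebraMap_eq fun _ => rfl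
  haveI : Module.Finite A B' := Module.Finite.trans (A ⧸ p) B'
  have hopen := h2 B' inferInstance
  have hbot : (⟨⊥, Ideal.isPrime_bot⟩ : PrimeSpectrum B') ∈ EGA4.regLocus B' := by
    show IsRegularLocalRing (Localization.AtPrime (⊥ : Ideal B'))
    haveI : IsFractionRing B' (Localization.AtPrime (⊥ : Ideal B')) := by
      have : (⊥ : Ideal B').primeCompl = nonZeroDivisors B' := Submonoid.ext fun a =>
        ⟨fun ha => mem_nonZeroDivisors_of_ne_zero ha, fun ha h0 => nonZeroDivisors.ne_zero ha h0⟩
      show IsLocalization (nonZeroDivisors B') _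
      rw [← this]
      infer_instance
    letI : Field (Localization.AtPrime (⊥ : Ideal B')) := IsFractionRing.toField B'
    infer_instance
  obtain ⟨_, ⟨f, rfl⟩, hf, hsub⟩ := PrimeSpectrum.isTopologicalBasis_basic_opens.exists_subset_of_mem_open hbot hopen
  refine ⟨f, fun h0 => hf (by rw [h0]; exact zero_mem _), ?_⟩
  haveI : IsDomain (Localization.Away f) := IsLocalization.isDomain_localization (by
    rintro _ ⟨k, rfl⟩
    exact mem_nonZeroDivisors_of_ne_zero (pow_ne_zero k fun h0 => hf (by rw [h0]; exact zero_mem _)))
  refine IsIntegrallyClosed.of_localization_maximal fun P _ hP => ?_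
  let q := P.comap (algebraMap B' (Localization.Away f))
  haveI := IsLocalization.isLocalization_isLocalization_atPrime_isLocalization (Submonoid.powers f)
    (Localization.AtPrime P) P
  haveI : IsRegularLocalRing (Localization.AtPrime q) := hsub (show (⟨q, inferInstance⟩ : PrimeSpectrum B') ∈ _ from
    fun hfq => hP.ne_top (Ideal.eq_top_of_isUnit_mem _ hfq
      (IsLocalization.map_units (Localization.Away f) (⟨f, 1, pow_one f⟩ : Submonoid.powers f))))
  haveI := S9829.result (Localization.AtPrime q)
  exact IsIntegrallyClosed.of_equiv (IsLocalization.algEquiv q.primeCompl (Localization.AtPrime q) (Localization.AtPrime P)).toRingEquiv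

end Groth.Agent.S4709
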