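import Groth.Statements.S16431
import Groth.Agent.EssSub.Normal
import Groth.Agent.Hensel.BranchMore
import Groth.Agent.Hensel.BranchSum

set_option autoImplicit false
set_option linter.style.haveILetI false
universe u
open Hensel

namespace Groth.Agent.S16431

open IsLocalRing

/-- The normalisation of a reduced ring is the integral closure in its total fractions. -/
theorem exists_normRed_equiv (A : Type u) [CommRing A] [IsReduced A] :
    ∃ g : CAlg2.normRed A ≃+* integralClosure A (FractionRing A),
      ∀ a : A, g (algebraMap A (CAlg2.normRed A) a) = algebraMap A _ a := by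
  let e : CAlg2.red A ≃+* A := (Ideal.quotEquivOfEq (nilradical_eq_zero A)).trans (RingEquiv.quotientBot A)
  have he : ∀ x : A, e (Ideal.Quotient.mk (nilradical A) x) = x := fun x => rfl
  let eK : FractionRing (CAlg2.red A) ≃+* FractionRing A := IsFractionRing.ringEquivOfRingEquiv e
  have heK : ∀ x, eK (algebraMap (CAlg2.red A) _ x) = algebraMap A _ (e x) := fun x =>
    IsFractionRing.ringEquivOfRingEquiv_algebraMap e x
  have hcomm : (algebraMap A (FractionRing A)).comp e.toRingHom = eK.toRingHom.comp (algebraMap _ _) :=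
    RingHom.ext fun x => (heK x).symm
  have hmap : ∀ z : CAlg2.normRed A, IsIntegral A (eK z.1) := fun z => by
    obtain ⟨f, hf, hfz⟩ := z.2
    refine ⟨f.map e.toRingHom, hf.map _, ?_⟩
    rw [Polynomial.eval₂_map, hcomm]
    exact (Polynomial.hom_eval₂ f _ eK.toRingHom _).symm.trans (by rw [hfz, map_zero])
  let g : CAlg2.normRed A →+* integralClosure A (FractionRing A) :=
    (eK.toRingHom.comp (integralClosure (CAlg2.red A) (FractionRing (CAlg2.red A))).val.toRingHom).codRestrict
      (integralClosure A (FractionRing A)).toSubsemiring hmap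
  have hg : Function.Bijective g := ⟨fun y z h => Subtype.ext (eK.injective (congrArg Subtype.val h)), fun w => by
    obtain ⟨f, hf, hfw⟩ := w.2
    refine ⟨⟨eK.symm w.1, f.map e.symm.toRingHom, hf.map _, eK.injective ?_⟩, Subtype.ext (eK.apply_symm_apply w.1)⟩
    rw [map_zero, Polynomial.eval₂_map]
    show eK.toRingHom (Polynomial.eval₂ _ _ f) = 0
    rw [Polynomial.hom_eval₂, ← RingHom.comp_assoc, ← hcomm, RingHom.comp_assoc,
      show e.toRingHom.comp e.symm.toRingHom = RingHom.id A from RingHom.ext e.apply_symm_apply, RingHom.comp_id,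
      show eK.toRingHom (eK.symm w.1) = w.1 from eK.apply_symm_apply w.1]
    exact hfw⟩
  refine ⟨RingEquiv.ofBijective g hg, fun a => Subtype.ext ?_⟩
  show eK (algebraMap (CAlg2.red A) _ (Ideal.Quotient.mk (nilradical A) a)) = _
  rw [heK, he]
  rfl

/-- Purely inseparable residues transfer along an isomorphism. -/
theorem insep_transfer {A R T : Type u} [CommRing A] [CommRing R] [CommRing T] (a₁ : A →+* R) (a₂ : A →+* T)
    (g : R ≃+* T) (hg : ∀ a, g (a₁ a) = a₂ a) (M : Ideal T) [M.IsMaximal] :
    (∀ x : T ⧸ M, ∃ n : ℕ, x ^ (ringExpChar (T ⧸ M)) ^ n ∈ ((Ideal.Quotient.mk M).comp a₂).range) ↔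
      ∀ x : R ⧸ M.comap g.toRingHom, ∃ n : ℕ, x ^ (ringExpChar (R ⧸ M.comap g.toRingHom)) ^ n ∈
        ((Ideal.Quotient.mk (M.comap g.toRingHom)).comp a₁).range := by
  let e : R ⧸ M.comap g.toRingHom ≃+* T ⧸ M := Ideal.quotientEquiv _ M g
    (Ideal.map_comap_of_surjective g.toRingHom g.surjective M).symm
  have hc : ringChar (R ⧸ M.comap g.toRingHom) = ringChar (T ⧸ M) := by
    haveI := charP_of_injective_ringHom (f := e.toRingHom) e.injective (ringChar (R ⧸ M.comap g.toRingHom))
    exact (ringChar.eq (T ⧸ M) _).symm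
  have hE : ringExpChar (R ⧸ M.comap g.toRingHom) = ringExpChar (T ⧸ M) := by
    rw [ringExpChar, ringExpChar, hc]
  have hmem : ∀ y, e y ∈ ((Ideal.Quotient.mk M).comp a₂).range ↔
      y ∈ ((Ideal.Quotient.mk (M.comap g.toRingHom)).comp a₁).range := fun y => by
    constructor
    · rintro ⟨a, ha⟩
      refine ⟨a, e.injective ?_⟩
      rw [← ha]
      show Ideal.Quotient.mk M (g (a₁ a)) = _
      rw [hg]
      rfl
    · rintro ⟨a, rfl⟩
      refine ⟨a, ?_⟩
      show _ = Ideal.Quotient.mk M (g (a₁ a))
      rw [hg]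
      rfl
  rw [hE]
  constructor
  · intro h x
    obtain ⟨n, hn⟩ := h (e x)
    exact ⟨n, (hmem _).1 (by rwa [map_pow])⟩
  · intro h x
    obtain ⟨y, rfl⟩ := e.surjective x
    obtain ⟨n, hn⟩ := h y
    exact ⟨n, by rw [← map_pow]; exact (hmem _).2 hn⟩

/-- A projection with nonempty fibres between finite types of equal size has subsingleton fibres. -/
theorem card_sigma_eq_iff {ι : Type u} (β : ι → Type u) [Finite ι] [Finite (Σ i, β i)] (hne : ∀ i, Nonempty (β i)) :
    ENat.card (Σ i, β i) = ENat.card ι ↔ ∀ i, Subsingleton (β i) := by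
  constructor
  · intro h i
    have h1 : Nat.card (Σ i, β i) = Nat.card ι := by
      rw [ENat.card_eq_coe_natCard, ENat.card_eq_coe_natCard] at h
      exact_mod_cast h
    have hb : Function.Bijective (fun x : Σ i, β i => x.1) :=
      (Nat.bijective_iff_surjective_and_card _).2 ⟨fun i => ⟨⟨i, (hne i).some⟩, rfl⟩, h1⟩
    exact ⟨fun x y => eq_of_heq (Sigma.mk.inj_iff.1 (@hb.1 ⟨i, x⟩ ⟨i, y⟩ rfl)).2⟩
  · intro h
    refine ENat.card_congr (Equiv.ofBijective (fun x : Σ i, β i => x.1) ⟨?_, fun i => ⟨⟨i, (hne i).some⟩, rfl⟩⟩)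
    rintro ⟨i, x⟩ ⟨j, y⟩ (rfl : i = j)
    haveI := h i
    rw [Subsingleton.elim x y]

/-- Let A be an excellent reduced local ring with residue field k, let A' be the integral closure of A
in its total ring of fractions, let A^h be a henselization and A^hs a strict henselization of A, and
let A^h → A^hs be the A-algebra map between them (it is the unique one). Then the residue field of
A' at every maximal ideal is purely inseparable over k — every element has some p^n-th power in the
image of A, p the characteristic exponent — if and only if every minimal prime ideal of A^hs is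
generated by its contraction to A^h. -/
theorem result
    (A Ah Ash : Type u) [CommRing A] [IsLocalRing A] [IsReduced A] (hA : EGA4.IsExcellent A)
    [CommRing Ah] [IsLocalRing Ah] [Algebra A Ah] [IsLocalHom (algebraMap A Ah)]
    [Hensel.IsHenselization A Ah]
    [CommRing Ash] [IsLocalRing Ash] [Algebra A Ash] [IsLocalHom (algebraMap A Ash)]
    [Hensel.IsStrictHenselization A Ash] [Algebra Ah Ash] [IsScalarTower A Ah Ash] :
    (∀ (M : Ideal (integralClosure A (FractionRing A))) [M.IsMaximal], ∀ x : (integralClosure A (FractionRing A)) ⧸ M, ∃ n : ℕ,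
        x ^ (ringExpChar ((integralClosure A (FractionRing A)) ⧸ M)) ^ n ∈
          ((Ideal.Quotient.mk M).comp (algebraMap A (integralClosure A (FractionRing A)))).range) ↔
      (∀ Q ∈ minimalPrimes Ash, Q = Ideal.map (algebraMap Ah Ash) (Q.comap (algebraMap Ah Ash))) := by
  classical
  haveI : IsNoetherianRing A := hA.1
  have hmin : (minimalPrimes A).Finite := minimalPrimes.finite_of_isNoetherianRing A
  haveI : IsNoetherianRing Ah := (Groth.Agent.Hensel.henselization_isNoetherianRing_iff A Ah).1 ‹_›
  haveI : IsNoetherianRing Ash := (Groth.Agent.Hensel.strictHenselization_isNoetherianRing_iff A Ash).1 ‹_›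
  haveI : IsReduced Ash := (Groth.Agent.Hensel.strictHenselization_isReduced_iff A Ash).2 ‹_›
  haveI : Finite (minimalPrimes Ah) := (minimalPrimes.finite_of_isNoetherianRing Ah).to_subtype
  haveI : Finite (minimalPrimes Ash) := (minimalPrimes.finite_of_isNoetherianRing Ash).to_subtype
  haveI : HenselianLocalRing Ah := (‹Hensel.IsHenselization A Ah›).henselian
  haveI : IsLocalHom (algebraMap Ah Ash) := ((local_hom_TFAE (algebraMap Ah Ash)).out 0 2).2 (by
    rw [← Groth.Agent.Hensel.henselization_map_maximalIdeal A Ah, Ideal.map_map, ← IsScalarTower.algebraMap_eq]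
    exact ((local_hom_TFAE (algebraMap A Ash)).out 0 2).1 ‹_›)
  haveI := EssSub.tower_strict A Ah Ash
  haveI := Groth.Agent.Hensel.strictHenselization_faithfullyFlat Ah Ash
  have hb := Groth.Agent.Hensel.card_minimalPrimes_henselization (A := A) (S := Ah)
  have hg := Groth.Agent.Hensel.card_minimalPrimes_strictHenselization (A := A) (S := Ash)
  rw [Brnch.numBranches, if_pos hmin] at hb
  rw [Brnch.numGeomBranches, if_pos hmin] at hg
  haveI : Finite (MaximalSpectrum (CAlg2.normRed A)) :=
    ENat.card_lt_top.1 (hb ▸ ENat.card_lt_top.2 (inferInstance : Finite (minimalPrimes Ah)))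
  haveI : Finite (Σ m : MaximalSpectrum (CAlg2.normRed A), Brnch.Emb A m) :=
    ENat.card_lt_top.1 (hg ▸ ENat.card_lt_top.2 (inferInstance : Finite (minimalPrimes Ash)))
  have hsub : (∀ m : MaximalSpectrum (CAlg2.normRed A), Subsingleton (Brnch.Emb A m)) ↔
      Nat.card (minimalPrimes Ash) = Nat.card (minimalPrimes Ah) := by
    rw [← card_sigma_eq_iff (fun m => Brnch.Emb A m)
      (fun m => (Groth.Agent.Hensel.emb_nonempty_and_subsingleton_iff A m).1), ← hb, ← hg,
      ENat.card_eq_coe_natCard, ENat.card_eq_coe_natCard, Nat.cast_inj]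
  obtain ⟨g, hgA⟩ := exists_normRed_equiv A
  have hL : (∀ (M : Ideal (integralClosure A (FractionRing A))) [M.IsMaximal],
      ∀ x : (integralClosure A (FractionRing A)) ⧸ M, ∃ n : ℕ,
        x ^ (ringExpChar ((integralClosure A (FractionRing A)) ⧸ M)) ^ n ∈
          ((Ideal.Quotient.mk M).comp (algebraMap A (integralClosure A (FractionRing A)))).range) ↔
      ∀ m : MaximalSpectrum (CAlg2.normRed A), Subsingleton (Brnch.Emb A m) := by
    constructor
    · intro h m
      refine ((Groth.Agent.Hensel.emb_nonempty_and_subsingleton_iff A m).2).2 ?_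
      obtain ⟨m, hm⟩ := m
      haveI := hm
      let M := m.comap g.symm.toRingHom
      haveI : M.IsMaximal := Ideal.comap_isMaximal_of_surjective _ g.symm.surjective
      have hMm : M.comap g.toRingHom = m := by
        ext y
        show g.symm (g y) ∈ m ↔ _
        rw [g.symm_apply_apply]
      have h1 := (insep_transfer (algebraMap A (CAlg2.normRed A)) _ g hgA M).1 (h M)
      rw [hMm] at h1
      exact h1
    · intro h M hM
      haveI := hM
      haveI : (M.comap g.toRingHom).IsMaximal := Ideal.comap_isMaximal_of_surjective _ g.surjective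
      exact (insep_transfer (algebraMap A (CAlg2.normRed A)) _ g hgA M).2
        (((Groth.Agent.Hensel.emb_nonempty_and_subsingleton_iff A ⟨M.comap g.toRingHom, inferInstance⟩).2).1 (h _))
  rw [hL, hsub]
  let c : minimalPrimes Ash → minimalPrimes Ah := fun Q =>
    ⟨Q.1.comap (algebraMap Ah Ash), Groth.Agent.Hensel.comap_mem_minimalPrimes_of_flat Q.2⟩
  have hc : Function.Surjective c := fun q => by
    obtain ⟨T, hT, hTq⟩ := Groth.Agent.Hensel.exists_minimal_comap_eq (A := Ah) (S := Ash) q.2
    exact ⟨⟨T, hT⟩, Subtype.ext hTq⟩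
  constructor
  · intro hcard Q hQ
    have hinj := ((Nat.bijective_iff_surjective_and_card c).2 ⟨hc, hcard⟩).1
    haveI : Q.IsPrime := hQ.1.1
    set q := Q.comap (algebraMap Ah Ash) with hq
    have hqmin : q ∈ minimalPrimes Ah := Groth.Agent.Hensel.comap_mem_minimalPrimes_of_flat hQ
    haveI : q.IsPrime := hqmin.1.1
    obtain ⟨h1, h2, h3⟩ := Groth.Agent.Hensel.quotient_local_setup Ah Ash q hqmin.1.1.ne_top
    haveI := h1
    haveI := h2
    haveI := h3
    haveI := Groth.Agent.Hensel.isStrictHenselization_quotient (A := Ah) (S := Ash) q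
    haveI : IsReduced (Ash ⧸ q.map (algebraMap Ah Ash)) :=
      (Groth.Agent.Hensel.strictHenselization_isReduced_iff (Ah ⧸ q) _).2 inferInstance
    have hrad := (Ideal.isRadical_iff_quotient_reduced (q.map (algebraMap Ah Ash))).2 inferInstance
    refine le_antisymm (fun z hz => hrad ?_) Ideal.map_comap_le
    rw [Ideal.radical_eq_sInf, Submodule.mem_sInf]
    rintro P ⟨hqP, hP⟩
    haveI := hP
    haveI : Ideal.LiesOver P (Ideal.comap (algebraMap Ah Ash) P) := ⟨rfl⟩
    obtain ⟨P₀, hP₀, hP₀', hover⟩ := Ideal.exists_ideal_le_liesOver_of_le (p := q) P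
      (Ideal.map_le_iff_le_comap.1 hqP)
    haveI := hP₀'
    obtain ⟨Q', hQ', hle⟩ := Ideal.exists_minimalPrimes_le (I := ⊥) (J := P₀) bot_le
    have hq' : Q'.comap (algebraMap Ah Ash) = q := by
      have h4 : Q'.comap (algebraMap Ah Ash) ≤ q :=
        (Ideal.comap_mono hle).trans (hover.over.trans (Ideal.under_def _ _)).ge
      exact le_antisymm h4 (hqmin.2 ⟨(Groth.Agent.Hensel.comap_mem_minimalPrimes_of_flat hQ').1.1, bot_le⟩ h4)
    have hQQ : (⟨Q', hQ'⟩ : minimalPrimes Ash) = ⟨Q, hQ⟩ := hinj (Subtype.ext hq')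
    have hQ'Q : Q' = Q := congrArg Subtype.val hQQ
    subst hQ'Q
    exact hP₀ (hle hz)
  · intro h
    refine Nat.card_congr (Equiv.ofBijective c ⟨fun Q Q' hQQ => Subtype.ext ?_, hc⟩)
    rw [h Q.1 Q.2, h Q'.1 Q'.2, show Q.1.comap (algebraMap Ah Ash) = Q'.1.comap (algebraMap Ah Ash) from
      congrArg Subtype.val hQQ]

end Groth.Agent.S16431
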