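import Groth.Statements.S7654
import Groth.Agent.DeltaBC.Main
import Groth.Agent.Hensel.HenselizationNoeth
import Groth.Agent.AdicBasics.Dimension

set_option autoImplicit false
universe u
open CategoryTheory CategoryTheory.Limits AlgebraicGeometry
open Variety

namespace Groth.Agent.S7654

/-- For a reduced local Nagata ring A of Krull dimension one, the δ-invariant does not change on passing
to a henselization of A, to a strict henselization of A, or to the completion of A. -/
theorem result (A : Type u) [CommRing A] [IsLocalRing A]
    [IsReduced A] (hN : CAlg.IsNagata A) (hdim : ringKrullDim A = 1) :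
    (∀ (B : Type u) [CommRing B] [IsLocalRing B] [Algebra A B] [IsLocalHom (algebraMap A B)],
        Hensel.IsHenselization A B → Curv2.deltaInv B = Curv2.deltaInv A) ∧
      (∀ (B : Type u) [CommRing B] [IsLocalRing B] [Algebra A B] [IsLocalHom (algebraMap A B)],
        Hensel.IsStrictHenselization A B → Curv2.deltaInv B = Curv2.deltaInv A) ∧
      Curv2.deltaInv (Curv2.cpl A) = Curv2.deltaInv A := by
  have := hN.1
  refine ⟨fun B _ _ _ _ hB => ?_, fun B _ _ _ _ hB => ?_, ?_⟩
  · have : IsNoetherianRing B := (Groth.Agent.Hensel.henselization_isNoetherianRing_iff A B).mp inferInstance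
    have := Groth.Agent.Hensel.henselization_flat A B
    have : Algebra.IsSeparable (IsLocalRing.ResidueField A) (IsLocalRing.ResidueField B) :=
      ⟨fun x => by
        obtain ⟨y, rfl⟩ := (Groth.Agent.Hensel.henselization_residue_bijective A B).2 x
        exact isSeparable_algebraMap y⟩
    exact Groth.Agent.DeltaBC.deltaInv_eq_of_flat A B hN hdim
      (Groth.Agent.Hensel.henselization_map_maximalIdeal A B)
  · have : IsNoetherianRing B := (Groth.Agent.Hensel.strictHenselization_isNoetherianRing_iff A B).mp inferInstance
    have := Groth.Agent.Hensel.strictHenselization_flat A B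
    have : Algebra.IsSeparable (IsLocalRing.ResidueField A) (IsLocalRing.ResidueField B) :=
      (_root_.Hensel.IsStrictHenselization.isSepClosure (R := A) (S := B)).separable
    exact Groth.Agent.DeltaBC.deltaInv_eq_of_flat A B hN hdim
      (Groth.Agent.Hensel.strictHenselization_map_maximalIdeal A B)
  · have hm : (IsLocalRing.maximalIdeal A).map (algebraMap A (Curv2.cpl A)) =
        IsLocalRing.maximalIdeal (Curv2.cpl A) := AdicCompletion.maximalIdeal_eq_map.symm
    have hloc : IsLocalHom (algebraMap A (Curv2.cpl A)) :=
      ((IsLocalRing.local_hom_TFAE (algebraMap A (Curv2.cpl A))).out 2 0).1 hm.le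
    have : Algebra.IsSeparable (IsLocalRing.ResidueField A) (IsLocalRing.ResidueField (Curv2.cpl A)) :=
      ⟨fun x => by
        obtain ⟨y, rfl⟩ := (AdicCompletion.residueField_map_bijective (R := A)).2 x
        exact isSeparable_algebraMap y⟩
    exact Groth.Agent.DeltaBC.deltaInv_eq_of_flat A (Curv2.cpl A) hN hdim hm

end Groth.Agent.S7654
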