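import Groth.Statements.S9381
import Groth.Agent.DimFormula.Open

set_option autoImplicit false
universe u
open FibDim

namespace Groth.Agent.S9381
open Groth.Agent.Unibranch Groth.Agent.EquidimPt Groth.Agent.DimFormula TopologicalSpace

open AlgebraicGeometry CategoryTheory in
/-- Let f : X → S be locally of finite type and x ⤳ x' a nontrivial specialization of points of X in the
same fibre (f x = f x'). Then trdeg_{κ(f x)} κ(x) > trdeg_{κ(f x')} κ(x'). -/
theorem result {X S : Scheme.{u}} (f : X ⟶ S) [LocallyOfFiniteType f] (x x' : X)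
    (hsp : x ⤳ x') (hne : x ≠ x') (hfx : f.base x = f.base x') :
    @Algebra.trdeg (S.residueField (f.base x')) (X.residueField x') _ _ (f.residueFieldMap x').hom.toAlgebra <
      @Algebra.trdeg (S.residueField (f.base x)) (X.residueField x) _ _ (f.residueFieldMap x).hom.toAlgebra := by
  obtain ⟨δ, hδ, hδle, -⟩ := exists_trdeg_eq f x
  obtain ⟨δ', hδ', -, c, hc, hc'⟩ := exists_trdeg_eq f x'
  rw [hδ, hδ']
  have := hδle (δ' + 1) (Fin.cons x c) (fun i => by
    refine Fin.cases ?_ (fun j => ?_) i
    · exact ⟨by simpa using subset_closure (Set.mem_singleton x), by simp⟩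
    · simp only [Fin.cons_succ]
      exact ⟨specializes_iff_mem_closure.mp (hsp.trans (specializes_iff_mem_closure.mpr (hc j).1)), (hc j).2.trans hfx.symm⟩)
    (fun i => by
      refine Fin.cases ?_ (fun j => ?_) i
      · simp only [Fin.castSucc_zero, Fin.cons_zero, Fin.cons_succ]
        refine ⟨hsp.trans (specializes_iff_mem_closure.mpr (hc 0).1), fun e => hne ?_⟩
        exact (hsp.antisymm ((specializes_iff_mem_closure.mpr (hc 0).1).trans (specializes_of_eq e.symm))).eq
      · simp only [Fin.castSucc_succ, Fin.cons_succ]
        exact hc' j)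
  exact_mod_cast (show δ' < δ by omega)

end Groth.Agent.S9381
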