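import Groth.Statements.S2214
import Groth.Agent.HomColim.Hom
import Groth.Agent.FPExt.Colim
import Groth.Agent.QCGen.Basic

set_option autoImplicit false
set_option linter.style.haveILetI false
set_option backward.isDefEq.respectTransparency false
set_option backward.isDefEq.respectTransparency.types false
universe u
open CategoryTheory AlgebraicGeometry
open QCohCat

namespace Groth.Agent.S2214

open CategoryTheory.Limits Opposite TopologicalSpace

variable {X : Scheme.{u}}

lemma isFP_of_iso {M N : X.Modules} (e : M ≅ N) (h : CohB1.IsFP M) : CohB1.IsFP N :=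
  QC.isFP_iff_exists_hasFinPres.mpr fun x => by
    obtain ⟨U, hU, P, hP⟩ := QC.isFP_iff_exists_hasFinPres.mp h x
    haveI := hP
    exact ⟨U, hU, SheafOfModules.Presentation.ofIsIso.{u} ((Scheme.Modules.restrictFunctor U.ι).mapIso e).hom P,
      inferInstance⟩

/-- a retract of a finitely presented module is finitely presented -/
lemma isFP_of_retract {M N : X.Modules} (hN : Coh.IsQCoh N) (hN' : CohB1.IsFP N) (i : M ⟶ N) (p : N ⟶ M)
    (h : i ≫ p = 𝟙 M) : CohB1.IsFP M := by
  let v : N ⟶ N := 𝟙 N - p ≫ i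
  have hv : v ≫ p = 0 := by
    simp only [v, Preadditive.sub_comp, Category.assoc, h, Category.id_comp, Category.comp_id, sub_self]
  have hπ : p ≫ i ≫ cokernel.π v = cokernel.π v := by
    have := cokernel.condition v
    simp only [v, Preadditive.sub_comp, Category.id_comp, Category.assoc, sub_eq_zero] at this
    exact this.symm
  let e : cokernel v ≅ M :=
    { hom := cokernel.desc v p hv
      inv := i ≫ cokernel.π v
      hom_inv_id := by rw [← cancel_epi (cokernel.π v), cokernel.π_desc_assoc, hπ, Category.comp_id]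
      inv_hom_id := by rw [Category.assoc, cokernel.π_desc, h] }
  exact isFP_of_iso e (FPExt.isFP_cokernel_of_isFT v hN hN (ModDesc.isFT_of_isFP hN') hN')

lemma isFP_of_presentable [CompactSpace X] [QuasiSeparatedSpace X] (F : QCohCat.QCoh X)
    [IsFinitelyPresentable.{u} F] : CohB1.IsFP F.obj := by
  haveI : F.obj.IsQuasicoherent := F.property
  obtain ⟨X₀, h, _, _, _, _⟩ := FPExt.exists_affineHom_noetherian X
  obtain ⟨hc⟩ := FPExt.nonempty_isColimit_pairSys h F.obj
  have hD : ∀ p, CohB1.IsFP ((FPExt.pairSys h F.obj).obj p) := FPExt.isFP_pairSys h F.obj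
  have hQ : ∀ p, QCohCat.isQCoh X ((FPExt.pairSys h F.obj).obj p) := fun p => by
    haveI := hD p
    exact (inferInstance : ((FPExt.pairSys h F.obj).obj p).IsQuasicoherent)
  let D := (QCohCat.isQCoh X).lift (FPExt.pairSys h F.obj) hQ
  let c : Cocone D :=
    { pt := F
      ι :=
        { app := fun p => ObjectProperty.homMk ((FPExt.pairMap h F.obj).app p)
          naturality := fun p q f =>
            ObjectProperty.hom_ext _ ((FPExt.pairMap h F.obj).naturality f) } }
  let hc' : IsColimit c := isColimitOfReflects (QCohCat.isQCoh X).ι hc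
  obtain ⟨p, q, hq⟩ := IsFinitelyPresentable.exists_hom_of_isColimit hc' (𝟙 F)
  exact isFP_of_retract (hQ p) (hD p) q.hom ((FPExt.pairMap h F.obj).app p)
    (congrArg InducedCategory.Hom.hom hq)

lemma exists_refinement [CompactSpace X] [QuasiSeparatedSpace X] (ι : Type u)
    (V : ι → Opens X) (hV : iSup V = ⊤) :
    ∃ (J : Type u) (_ : Finite J) (U : J → Opens X), iSup U = ⊤ ∧ (∀ j, ∃ i, U j ≤ V i) ∧
      ∀ j j', IsCompact ((U j ⊓ U j' : Opens X) : Set X) := by
  classical
  have : ∀ x : X, ∃ (i : ι) (W : Opens X), IsAffineOpen W ∧ x ∈ W ∧ W ≤ V i := fun x => by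
    obtain ⟨i, hi⟩ := Opens.mem_iSup.1 (show x ∈ iSup V from hV ▸ trivial)
    obtain ⟨W, hW, hxW, hWV⟩ := exists_isAffineOpen_mem_and_subset (x := x) (U := V i) hi
    exact ⟨i, W, hW, hxW, hWV⟩
  choose i W hW hxW hWV using this
  obtain ⟨t, ht⟩ := isCompact_univ.elim_finite_subcover (fun x => (W x : Set X)) (fun x => (W x).2)
    fun x _ => Set.mem_iUnion.2 ⟨x, hxW x⟩
  refine ⟨t, inferInstance, fun x => W x.1, ?_, fun x => ⟨i x.1, hWV x.1⟩, fun a b => ?_⟩
  · refine Opens.ext (Set.eq_univ_of_forall fun x => ?_)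
    obtain ⟨a, ha, hxa⟩ := Set.mem_iUnion₂.1 (ht (Set.mem_univ x))
    exact Opens.mem_iSup.2 ⟨⟨a, ha⟩, hxa⟩
  · exact QuasiSeparatedSpace.inter_isCompact _ _ (W a.1).2 (hW a.1).isCompact (W b.1).2 (hW b.1).isCompact

lemma presentable_of_isFP [CompactSpace X] [QuasiSeparatedSpace X] (F : QCohCat.QCoh X)
    [hF : CohB1.IsFP F.obj] : IsFinitelyPresentable.{u} F := by
  rw [isFinitelyPresentable_iff_preservesFilteredColimitsOfSize]
  refine ⟨fun J _ _ => ⟨fun {D} => ?_⟩⟩
  obtain ⟨q, hq⟩ := SheafOfModules.IsFinitePresentation.exists_quasicoherentData (R := X.ringCatSheaf) F.obj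
  haveI : PreservesColimit (D ⋙ (QCohCat.isQCoh X).ι) (coyoneda.obj (op F.obj)) :=
    HomColim.preservesColimit_hom (O := X.sheaf) (HomColim.qcRefines_of_space exists_refinement) F.obj
      (fun D' => HomColim.preservesColimit_sheafHom (O := X.sheaf) F.obj q hq D')
      (D ⋙ (QCohCat.isQCoh X).ι)
  haveI : PreservesColimit D ((QCohCat.isQCoh X).ι ⋙ coyoneda.obj (op F.obj)) := inferInstance
  exact preservesColimit_of_natIso D
    (NatIso.ofComponents (fun G => (ObjectProperty.fullyFaithfulι _).homEquiv.symm.toIso) fun {G H} g => by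
      ext φ
      exact ObjectProperty.hom_ext _ rfl :
      (QCohCat.isQCoh X).ι ⋙ coyoneda.obj (op F.obj) ≅ coyoneda.obj (op F))

/-- For a qcqs scheme X and a quasi-coherent O_X-module F: Hom(F, -) on QCoh(O_X) commutes with filtered
colimits (F is categorically compact) if and only if F is an O_X-module of finite presentation. -/
theorem result (X : Scheme.{u}) [CompactSpace X]
    [QuasiSeparatedSpace X] (F : QCohCat.QCoh X) :
    IsFinitelyPresentable.{u} F ↔ SheafOfModules.IsFinitePresentation F.obj := by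
  exact ⟨fun _ => isFP_of_presentable F, fun _ => presentable_of_isFP F⟩

end Groth.Agent.S2214
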