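import Groth.Statements.S14756
import Groth.Agent.Chev.Descent
import Groth.Agent.Chev.AntiAff
import Groth.Agent.Chev.AffImage
import Groth.Agent.AdjRep.ToGL
import Groth.Agent.GrpField.SchImgSmooth
import Groth.Agent.GrpField.Range
import Groth.Agent.AVEuler.Smooth
import Groth.Agent.LocNoethTop.Basic
import Groth.Agent.S8000

set_option autoImplicit false
universe u
open CategoryTheory CategoryTheory.Limits MonoidalCategory CartesianMonoidalCategory MonObj GrpObj AlgebraicGeometry
open AlgGrp

namespace Groth.Agent.S14756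


noncomputable section Helpers

open CategoryTheory.Limits Groth.Agent.Chev

set_option backward.isDefEq.respectTransparency false

variable {k : Type u} [Field k]

/-- Smooth image of a smooth connected affine group. -/
theorem exists_smooth_image {H Q : Over (Spec (CommRingCat.of k))} [GrpObj H] [GrpObj Q] [Smooth H.hom]
    [IsAffine H.left] [ConnectedSpace H.left] [LocallyOfFiniteType Q.hom] [QuasiCompact Q.hom]
    (f : H ⟶ Q) [IsMonHom f] :
    ∃ (N : Over (Spec (CommRingCat.of k))) (_ : GrpObj N) (i : N ⟶ Q) (g : H ⟶ N), IsMonHom i ∧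
      IsClosedImmersion i.left ∧ g ≫ i = f ∧ Surjective g.left ∧ Smooth N.hom ∧ ConnectedSpace N.left ∧
      IsAffine N.left := by
  haveI : IsSeparated Q.hom := GrpField.isSeparated_hom Q
  haveI : IsAffineHom H.hom := isAffineHom_of_isAffine _
  haveI : QuasiCompact (f.left ≫ Q.hom) := by rw [Over.w]; infer_instance
  haveI : QuasiCompact f.left := QuasiCompact.of_comp f.left Q.hom
  obtain ⟨N, hN, i, g, hi, hg, hgi, hic, hgd, hgq, hgs⟩ := GrpField.SchImg.exists_image f
  haveI := hi; haveI := hg; haveI := hic; haveI := hgd; haveI := hgq; haveI := hgs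
  haveI : LocallyOfFiniteType N.hom := by rw [← Over.w i]; infer_instance
  haveI : GeometricallyReduced H.hom := GrpField.SchImg.geometricallyReduced_of_smooth H.hom
  haveI : GeometricallyReduced N.hom := GrpField.SchImg.geometricallyReduced_of_schDom g
  haveI : Smooth N.hom := AVEuler.smooth_of_geometricallyReduced N
  haveI : IsReduced N.left := Chev.isReduced_of_smooth' N
  haveI : IsSeparated N.hom := GrpField.isSeparated_hom N
  exact ⟨N, hN, i, g, hi, hic, hgi, hgs, inferInstance, g.left.surjective.connectedSpace g.left.continuous,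
    Chev.isAffine_of_surjective g⟩

variable [IsAlgClosed k]

theorem isNormal_image {G Q N N' : Over (Spec (CommRingCat.of k))} [GrpObj G] [GrpObj Q] [GrpObj N] [GrpObj N']
    [LocallyOfFiniteType G.hom] [Smooth Q.hom] [QuasiCompact Q.hom] [LocallyOfFiniteType N.hom]
    [Smooth N'.hom] [QuasiCompact N'.hom]
    (π : G ⟶ Q) [IsMonHom π] [Surjective π.left] (iG : N ⟶ G) (hn : AlgGrp.IsNormalHom iG)
    (i' : N' ⟶ Q) [IsMonHom i'] [IsClosedImmersion i'.left] (g : N ⟶ N') [Surjective g.left]
    (hg : g ≫ i' = iG ≫ π) : AlgGrp.IsNormalHom i' := by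
  let S := Over.mk (Spec.map (CommRingCat.ofHom (algebraMap k k)))
  let e : S ≅ 𝟙_ (Over (Spec (CommRingCat.of k))) := Over.isoMk (Iso.refl _) (by
    show 𝟙 _ ≫ 𝟙 _ = Spec.map (CommRingCat.ofHom (algebraMap k k))
    rw [Algebra.algebraMap_self, CommRingCat.ofHom_id, Spec.map_id, Category.comp_id]) 
  refine Groth.Agent.S8000.result k k Q N' i' fun y h => ?_
  obtain ⟨a, ha⟩ := exists_rat_lift π (e.inv ≫ y)
  obtain ⟨n, hn'⟩ := exists_rat_lift g (e.inv ≫ h)
  obtain ⟨n₁, hn₁⟩ := hn _ a n
  refine ⟨e.hom ≫ n₁ ≫ g, ?_⟩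
  have hy : y = e.hom ≫ a ≫ π := by rw [ha, Iso.hom_inv_id_assoc]
  have hh : h ≫ i' = e.hom ≫ n ≫ iG ≫ π := by rw [← hg, reassoc_of% hn', Iso.hom_inv_id_assoc]
  rw [Category.assoc, Category.assoc, hg, ← reassoc_of% hn₁]
  simp only [MonObj.comp_mul, MonObj.mul_comp, GrpObj.comp_inv, GrpObj.inv_comp, Category.assoc, hy, hh]

end Helpers

/-- Over an algebraically closed field k let e → K → G → Q → e be an exact sequence of k-group schemes
of finite type with G smooth (i : K → G a closed subgroup scheme, kernel of the flat surjective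
homomorphism π : G → Q), and let G_lin ⊆ G and Q_lin ⊆ Q be the largest smooth connected affine
normal closed subgroup schemes (every other such subgroup factors through them). Then π maps G_lin
into Q_lin and the induced homomorphism G_lin → Q_lin is surjective. (The published proposition is
stated for all algebraic groups G; for the semidirect product of α_p by the multiplicative group
acting by scaling, with K = α_p, the largest smooth connected affine normal subgroup of G is trivial
while that of Q = G_m is everything, so G is taken smooth here, the case in which the published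
proof's use of the Chevalley quotient G/G_lin being proper is valid. The published proposition also
treats unipotent and solvable parts of linear groups and the finite index of K_lin in G_lin ∩ K;
only this assertion is stated.) -/
theorem result (k : Type u) [Field k] [IsAlgClosed k]
    (K G Q : Over (Spec (CommRingCat.of k))) [GrpObj K] [GrpObj G] [GrpObj Q]
    [QuasiCompact K.hom] [LocallyOfFiniteType K.hom] [Smooth G.hom] [QuasiCompact G.hom] [QuasiCompact Q.hom] [LocallyOfFiniteType Q.hom]
    (i : K ⟶ G) [IsMonHom i] [IsClosedImmersion i.left]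
    (π : G ⟶ Q) [IsMonHom π] [Flat π.left] [Surjective π.left] (hker : AlgGrp.IsKernel i π)
    (NG : Over (Spec (CommRingCat.of k))) [GrpObj NG] (iG : NG ⟶ G) [IsMonHom iG] [IsClosedImmersion iG.left]
    [Smooth NG.hom] [ConnectedSpace ↥NG.left] [IsAffine NG.left] (hNG : AlgGrp.IsNormalHom iG)
    (hNGmax : ∀ (N' : Over (Spec (CommRingCat.of k))) [GrpObj N'] (i' : N' ⟶ G) [IsMonHom i'] [IsClosedImmersion i'.left]
      [Smooth N'.hom] [ConnectedSpace ↥N'.left] [IsAffine N'.left], AlgGrp.IsNormalHom i' → ∃ f : N' ⟶ NG, f ≫ iG = i')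
    (NQ : Over (Spec (CommRingCat.of k))) [GrpObj NQ] (iQ : NQ ⟶ Q) [IsMonHom iQ] [IsClosedImmersion iQ.left]
    [Smooth NQ.hom] [ConnectedSpace ↥NQ.left] [IsAffine NQ.left] (hNQ : AlgGrp.IsNormalHom iQ)
    (hNQmax : ∀ (N' : Over (Spec (CommRingCat.of k))) [GrpObj N'] (i' : N' ⟶ Q) [IsMonHom i'] [IsClosedImmersion i'.left]
      [Smooth N'.hom] [ConnectedSpace ↥N'.left] [IsAffine N'.left], AlgGrp.IsNormalHom i' → ∃ f : N' ⟶ NQ, f ≫ iQ = i') :
    ∃ f : NG ⟶ NQ, f ≫ iQ = iG ≫ π ∧ Surjective f.left := by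
  haveI : IsReduced G.left := Chev.isReduced_of_smooth' G
  haveI : IsSeparated Q.hom := GrpField.isSeparated_hom Q
  haveI : IsSeparated G.hom := GrpField.isSeparated_hom G
  haveI : LocallyOfFiniteType (π.left ≫ Q.hom) := by rw [Over.w]; infer_instance
  haveI : LocallyOfFiniteType π.left := locallyOfFiniteType_of_comp π.left Q.hom
  haveI : IsLocallyNoetherian Q.left := LocallyOfFiniteType.isLocallyNoetherian Q.hom
  haveI : LocallyOfFinitePresentation π.left := inferInstance
  haveI : QuasiCompact (π.left ≫ Q.hom) := by rw [Over.w]; infer_instance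
  haveI : QuasiCompact π.left := QuasiCompact.of_comp π.left Q.hom
  haveI : IsReduced Q.left := by
    haveI : ∀ y, _root_.IsReduced (Q.left.presheaf.stalk y) := fun y => by
      obtain ⟨x, rfl⟩ := π.left.surjective y
      letI := (π.left.stalkMap x).hom.toAlgebra
      haveI : Module.FaithfullyFlat (Q.left.presheaf.stalk (π.left x)) (G.left.presheaf.stalk x) :=
        @Module.FaithfullyFlat.of_flat_of_isLocalHom _ _ _ _ _ _ _
          (Flat.stalkMap π.left x) (π.left.toLRSHom.prop x)
      exact isReduced_of_injective (algebraMap (Q.left.presheaf.stalk (π.left x)) (G.left.presheaf.stalk x))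
        (FaithfulSMul.algebraMap_injective _ _)
    exact isReduced_of_isReduced_stalk Q.left
  haveI : IsSchemeTheoreticallyDominant π.left := IsSchemeTheoreticallyDominant.of_isDominant π.left
  haveI : GeometricallyReduced G.hom := GrpField.SchImg.geometricallyReduced_of_smooth G.hom
  haveI : GeometricallyReduced Q.hom := GrpField.SchImg.geometricallyReduced_of_schDom π
  haveI : Smooth Q.hom := AVEuler.smooth_of_geometricallyReduced Q
  -- components
  obtain ⟨G₀, hG₀, c, hcm, hcc, hcs, hci, hcr⟩ := Chev.exists_component G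
  haveI := hcm; haveI := hcc; haveI := hcs; haveI := hci
  haveI : QuasiCompact G₀.hom := by rw [← Over.w c]; infer_instance
  haveI : ConnectedSpace G₀.left := inferInstance
  haveI : IsReduced G₀.left := Chev.isReduced_of_smooth' G₀
  haveI : Mono c := GrpField.SchImg.mono_of_isClosedImmersion c
  obtain ⟨L, hL, l, A, hA, q, hlm, hlc, hla, hls, hlcon, hln, hqm, hqs, hqf, hker, hAp, hAs, hAc⟩ :=
    Chev.exists_structure G₀
  haveI := hlm; haveI := hlc; haveI := hla; haveI := hls; haveI := hlcon
  haveI := hqm; haveI := hqs; haveI := hqf; haveI := hAp; haveI := hAs; haveI := hAc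
  haveI : IsClosedImmersion (l ≫ c).left := by rw [Over.comp_left]; infer_instance
  haveI : QuasiCompact L.hom := by rw [← Over.w l]; infer_instance
  haveI : LocallyOfFiniteType L.hom := inferInstance
  -- the affine part of the component is normal in the whole group
  have hLn : AlgGrp.IsNormalHom (l ≫ c) := by
    let S := Over.mk (Spec.map (CommRingCat.ofHom (algebraMap k k)))
    refine Groth.Agent.S8000.result k k G L (l ≫ c) fun g h => ?_
    let e' : S ≅ 𝟙_ (Over (Spec (CommRingCat.of k))) := Over.isoMk (Iso.refl _) (by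
      show 𝟙 _ ≫ 𝟙 _ = Spec.map (CommRingCat.ofHom (algebraMap k k))
      rw [Algebra.algebraMap_self, CommRingCat.ofHom_id, Spec.map_id, Category.comp_id])
    let e : 𝟙_ (Over (Spec (CommRingCat.of k))) ≅ S := e'.symm
    let a : 𝟙_ (Over (Spec (CommRingCat.of k))) ⟶ G := e.hom ≫ g
    let cj : G₀ ⟶ G := (toUnit G₀ ≫ a) * c * (toUnit G₀ ≫ a)⁻¹
    have hcj1 : η[G₀] ≫ cj = η[G] := by
      simp only [cj, MonObj.comp_mul, GrpObj.comp_inv, toUnit_unique (η[G₀] ≫ toUnit G₀) (𝟙 _), ← Category.assoc,
        Category.id_comp, IsMonHom.one_hom c]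
      rw [show (η[G] : 𝟙_ (Over (Spec (CommRingCat.of k))) ⟶ G) = 1 by
        rw [Hom.one_def, toUnit_unique (toUnit _) (𝟙 _), Category.id_comp], _root_.mul_one, mul_inv_cancel]
    have hrange : Set.range cj.left ⊆ Set.range c.left := by
      rw [hcr]
      refine (isPreconnected_range cj.left.continuous).subset_connectedComponent ⟨η[G₀].left (IsLocalRing.closedPoint k), ?_⟩
      show (η[G₀] ≫ cj).left _ = _
      rw [hcj1]
      rfl
    obtain ⟨σ, hσ⟩ := Chev.exists_lift_of_range cj c hrange
    haveI : IsMonHom σ := by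
      refine ⟨?_, ?_⟩
      · rw [← cancel_mono c, Category.assoc, hσ, hcj1, IsMonHom.one_hom c]
      · rw [← cancel_mono c, Category.assoc, Category.assoc, hσ, IsMonHom.mul_hom c, tensorHom_comp_tensorHom_assoc,
          hσ]
        have hc : μ[G₀] ≫ c = (fst G₀ G₀ ≫ c) * (snd G₀ G₀ ≫ c) := by
          rw [← MonObj.mul_comp, Hom.mul_def, lift_fst_snd, Category.id_comp]
        have hG : ∀ u v : G₀ ⟶ G, (u ⊗ₘ v) ≫ μ[G] = (fst G₀ G₀ ≫ u) * (snd G₀ G₀ ≫ v) := fun u v => by
          rw [show (μ[G] : G ⊗ G ⟶ G) = fst G G * snd G G by rw [Hom.mul_def, lift_fst_snd, Category.id_comp],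
            MonObj.comp_mul, tensorHom_fst, tensorHom_snd]
        have ht : ∀ w : G₀ ⊗ G₀ ⟶ G₀, w ≫ toUnit G₀ ≫ a = toUnit _ ≫ a := fun w => by
          rw [← Category.assoc, toUnit_unique (w ≫ toUnit G₀) (toUnit _)]
        simp only [hG, cj, MonObj.comp_mul, GrpObj.comp_inv, hc, ht]
        group
    have hkill : (l ≫ σ) ≫ q = toUnit L ≫ η[A] := by
      rw [Chev.eq_one_of_affine_of_proper' ((l ≫ σ) ≫ q), Hom.one_def]
    refine ⟨h ≫ hker.lift (l ≫ σ) _ hkill, ?_⟩
    rw [Category.assoc, ← Category.assoc (hker.lift (l ≫ σ) _ hkill) l, hker.lift_fst, Category.assoc, hσ]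
    have hunit : h ≫ l ≫ toUnit G₀ ≫ a = g := by
      rw [← Category.assoc l, toUnit_unique (l ≫ toUnit G₀) (toUnit L), ← Category.assoc,
        toUnit_unique (h ≫ toUnit L) e.inv, Iso.inv_hom_id_assoc]
    simp only [cj, MonObj.comp_mul, GrpObj.comp_inv, hunit]
  obtain ⟨f₀, hf₀⟩ := hNGmax L (l ≫ c) hLn
  haveI : QuasiCompact NG.hom := by rw [← Over.w iG]; infer_instance
  obtain ⟨N', hN', i', g', hi'm, hi'c, hg', hg's, hN's, hN'con, hN'a⟩ := exists_smooth_image (iG ≫ π)
  haveI := hi'm; haveI := hi'c; haveI := hg's; haveI := hN's; haveI := hN'con; haveI := hN'a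
  haveI : QuasiCompact N'.hom := by rw [← Over.w i']; infer_instance
  have hN'n : AlgGrp.IsNormalHom i' := isNormal_image π iG hNG i' g' hg'
  obtain ⟨u, hu⟩ := hNQmax N' i' hN'n
  refine ⟨g' ≫ u, by rw [Category.assoc, hu, hg'], ?_⟩
  haveI : Mono iQ := GrpField.SchImg.mono_of_isClosedImmersion iQ
  -- the image of the component
  obtain ⟨Q₀, hQ₀, d, hdm, hdc, hds, hdi, hdr⟩ := Chev.exists_component Q
  haveI := hdm; haveI := hdc; haveI := hds; haveI := hdi
  haveI : QuasiCompact Q₀.hom := by rw [← Over.w d]; infer_instance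
  haveI : ConnectedSpace Q₀.left := inferInstance
  haveI : IsReduced Q₀.left := Chev.isReduced_of_smooth' Q₀
  haveI : Mono d := GrpField.SchImg.mono_of_isClosedImmersion d
  have heq : π.left (GrpComp.ept G) = GrpComp.ept Q := by
    show (η[G] ≫ π).left _ = _
    rw [IsMonHom.one_hom π]
    rfl
  have hrQ : Set.range (c ≫ π).left ⊆ Set.range d.left := by
    rw [hdr]
    refine (isPreconnected_range (c ≫ π).left.continuous).subset_connectedComponent ?_
    rw [Over.comp_left, Scheme.Hom.comp_base, TopCat.coe_comp, Set.range_comp, hcr]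
    exact ⟨_, mem_connectedComponent, heq⟩
  obtain ⟨ρ, hρ⟩ := Chev.exists_lift_of_range (c ≫ π) d hrQ
  haveI : IsMonHom ρ := by
    refine ⟨?_, ?_⟩
    · rw [← cancel_mono d, Category.assoc, hρ, IsMonHom.one_hom, IsMonHom.one_hom]
    · rw [← cancel_mono d, Category.assoc, Category.assoc, hρ, IsMonHom.mul_hom d, tensorHom_comp_tensorHom_assoc,
        hρ, IsMonHom.mul_hom (c ≫ π)]
  haveI : Surjective ρ.left := by
    haveI : IsLocallyNoetherian G.left := LocallyOfFiniteType.isLocallyNoetherian G.hom
    haveI : CompactSpace G.left := QuasiCompact.compactSpace_of_compactSpace G.hom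
    haveI : IsNoetherian G.left := ⟨⟩
    have hopen : IsOpen (π.left '' connectedComponent (GrpComp.ept G)) :=
      π.left.isOpenMap _ (LocNoethTop.isOpen_connectedComponent_of_noetherian _)
    haveI : LocallyOfFiniteType ((c ≫ π).left ≫ Q.hom) := by rw [Over.w]; infer_instance
    haveI : LocallyOfFiniteType (c ≫ π).left := locallyOfFiniteType_of_comp _ Q.hom
    haveI : QuasiCompact ((c ≫ π).left ≫ Q.hom) := by rw [Over.w]; infer_instance
    haveI : QuasiCompact (c ≫ π).left := QuasiCompact.of_comp _ Q.hom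
    have hclosed : IsClosed (Set.range (c ≫ π).left) := GrpField.isClosed_range (c ≫ π)
    rw [Over.comp_left, Scheme.Hom.comp_base, TopCat.coe_comp, Set.range_comp, hcr] at hclosed
    have hsub := (IsClopen.connectedComponent_subset ⟨hclosed, hopen⟩
      (⟨_, mem_connectedComponent, heq⟩ : GrpComp.ept Q ∈ π.left '' connectedComponent (GrpComp.ept G)))
    refine ⟨fun y => ?_⟩
    obtain ⟨z, hz, hzy⟩ := hsub (by rw [← hdr]; exact ⟨y, rfl⟩ : d.left y ∈ connectedComponent (GrpComp.ept Q))
    rw [← hcr] at hz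
    obtain ⟨w, rfl⟩ := hz
    refine ⟨w, d.left.isClosedEmbedding.injective ?_⟩
    rw [← Scheme.Hom.comp_apply, ← Over.comp_left, hρ, Over.comp_left, Scheme.Hom.comp_apply, hzy]
  -- quotient by the image of the affine part
  obtain ⟨R, hR, r, gR, hrm, hrc, hgR, hgRs, hRs, hRcon, hRa⟩ := exists_smooth_image (l ≫ ρ)
  haveI := hrm; haveI := hrc; haveI := hgRs; haveI := hRs; haveI := hRcon; haveI := hRa
  haveI : QuasiCompact R.hom := by rw [← Over.w r]; infer_instance
  have hRn : AlgGrp.IsNormalHom r := isNormal_image ρ l hln r gR hgR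
  obtain ⟨C, hC, θ, hθm, hθf, hθs, hkθ, hCsep, hCsm, hCqc, hCcon, hθp⟩ := Chev.exists_quotient_group' r hRn
  haveI := hθm; haveI := hθf; haveI := hθs; haveI := hCsep; haveI := hCsm; haveI := hCcon
  haveI : LocallyOfFiniteType (q.left ≫ A.hom) := by rw [Over.w]; infer_instance
  haveI : LocallyOfFiniteType q.left := locallyOfFiniteType_of_comp q.left A.hom
  haveI : IsLocallyNoetherian A.left := LocallyOfFiniteType.isLocallyNoetherian A.hom
  haveI : LocallyOfFinitePresentation q.left := inferInstance
  haveI : QuasiCompact (q.left ≫ A.hom) := by rw [Over.w]; infer_instance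
  haveI : QuasiCompact q.left := QuasiCompact.of_comp q.left A.hom
  obtain ⟨δ, hδ⟩ := AdjRep.exists_desc l q hker (ρ ≫ θ) (by
    rw [← Category.assoc, ← hgR, Category.assoc, hkθ.w, ← Category.assoc, Hom.one_def,
      toUnit_unique (gR ≫ toUnit R) (toUnit L)])
  haveI : Surjective δ.left := by
    haveI : Surjective (q.left ≫ δ.left) := by
      rw [← Over.comp_left, hδ, Over.comp_left]; infer_instance
    exact ⟨fun y => by
      obtain ⟨x, hx⟩ := (q.left ≫ δ.left).surjective y
      exact ⟨q.left x, by rw [← Scheme.Hom.comp_apply]; exact hx⟩⟩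
  haveI : UniversallyClosed (δ.left ≫ C.hom) := by rw [Over.w]; infer_instance
  haveI : UniversallyClosed C.hom := UniversallyClosed.of_comp_surjective δ.left C.hom
  haveI : IsProper C.hom := { }
  -- the affine part of the target lies in that image
  haveI : IsReduced NQ.left := Chev.isReduced_of_smooth' NQ
  have hrNQ : Set.range iQ.left ⊆ Set.range d.left := by
    rw [hdr]
    refine (isPreconnected_range iQ.left.continuous).subset_connectedComponent ⟨η[NQ].left (IsLocalRing.closedPoint k), ?_⟩
    show (η[NQ] ≫ iQ).left _ = _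
    rw [IsMonHom.one_hom iQ]
    rfl
  obtain ⟨j, hj⟩ := Chev.exists_lift_of_range iQ d hrNQ
  haveI : IsMonHom j := by
    refine ⟨?_, ?_⟩
    · rw [← cancel_mono d, Category.assoc, hj, IsMonHom.one_hom, IsMonHom.one_hom]
    · rw [← cancel_mono d, Category.assoc, Category.assoc, hj, IsMonHom.mul_hom d, tensorHom_comp_tensorHom_assoc,
        hj, IsMonHom.mul_hom iQ]
  have hjR : (j : NQ ⟶ Q₀) ≫ θ = toUnit NQ ≫ η[C] := by
    rw [Chev.eq_one_of_affine_of_proper' (j ≫ θ), Hom.one_def]
  have hjr : hkθ.lift j _ hjR ≫ r = j := hkθ.lift_fst _ _ _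
  refine ⟨fun y => ?_⟩
  obtain ⟨x, hx⟩ := gR.left.surjective ((hkθ.lift j _ hjR).left y)
  refine ⟨f₀.left x, iQ.left.isClosedEmbedding.injective ?_⟩
  show (f₀ ≫ (g' ≫ u) ≫ iQ).left x = _
  rw [Category.assoc, hu, hg', reassoc_of% hf₀, ← hρ, reassoc_of% (hgR.symm), Over.comp_left, Scheme.Hom.comp_apply, hx,
    ← Scheme.Hom.comp_apply, ← Over.comp_left, reassoc_of% hjr, hj]

end Groth.Agent.S14756
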