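import Groth.Statements.S5423
import Groth.Agent.Comod.DualModule
import Groth.Agent.HopfPoint.Basic
import Groth.Agent.S7975
import Groth.Prelude.Def_ComodSub

set_option autoImplicit false
universe u
open TensorProduct
open SGA3t2b

namespace Groth.Agent.S5423

open TensorProduct
set_option backward.isDefEq.respectTransparency false

/-- Let k be an algebraically closed field and A a reduced finitely generated commutative Hopf algebra
over k (a smooth affine algebraic k-group G). Then G is unipotent (every non-zero finite-dimensional
representation has a non-zero fixed vector) if and only if every element of G(k) is unipotent, i.e.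
every k-point g : A → k acts on every finite-dimensional comodule V by an endomorphism g_V with g_V
− 1 nilpotent. -/
theorem result (k : Type u) [Field k] [IsAlgClosed k] (A : Type u) [CommRing A] [HopfAlgebra k A] [Algebra.FiniteType k A]
    [IsReduced A] :
    HopfRep.IsUnipotent k A ↔
      ∀ (g : A →ₐ[k] k) (V : Type u) [AddCommGroup V] [Module k V] [HopfRep.Comod k A V],
        Module.Finite k V → IsNilpotent (HopfRep.Comod.act k A V g - LinearMap.id) := by
  constructor
  · intro hU g V i1 i2 i3 hfin
    suffices H : ∀ (n : ℕ) (V : Type u) [AddCommGroup V] [Module k V] [HopfRep.Comod k A V] [Module.Finite k V],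
        Module.finrank k V ≤ n → IsNilpotent (HopfRep.Comod.act k A V g - LinearMap.id) from
      haveI := hfin
      H _ V le_rfl
    intro n
    induction n with
    | zero =>
      intro V _ _ _ _ hn
      haveI : Subsingleton V := Module.finrank_zero_iff.1 (Nat.le_zero.1 hn)
      exact ⟨1, LinearMap.ext fun v => Subsingleton.elim _ _⟩
    | succ n ih =>
      intro V _ _ c _ hn
      rcases subsingleton_or_nontrivial V with _ | hnt
      · exact ⟨1, LinearMap.ext fun v => Subsingleton.elim _ _⟩
      obtain ⟨v0, hv0, hne⟩ := Submodule.exists_mem_ne_zero_of_ne_bot (hU V inferInstance hnt)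
      have hfix : c.coact v0 = v0 ⊗ₜ[k] (1 : A) := hv0
      let W := k ∙ v0
      have hW : @HopfRep.IsSubcomod k A _ _ _ _ V _ _ c W := by
        intro w hw
        obtain ⟨a, rfl⟩ := Submodule.mem_span_singleton.1 hw
        exact ⟨(⟨a • v0, hw⟩ : W) ⊗ₜ 1, by rw [map_smul, hfix]; simp [TensorProduct.smul_tmul']⟩
      letI cq := ComodSub.Comod.quot c W hW
      have hlt : Module.finrank k (V ⧸ W) ≤ n := by
        have h1 := Submodule.finrank_quotient_add_finrank W
        have h2 : Module.finrank k W = 1 := finrank_span_singleton hne
        omega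
      obtain ⟨m, hm⟩ := @ih (V ⧸ W) _ _ cq _ hlt
      let N := @HopfRep.Comod.act k A _ _ _ V _ _ c g - LinearMap.id
      let N' := @HopfRep.Comod.act k A _ _ _ (V ⧸ W) _ _ cq g - LinearMap.id
      have hN : ∀ v, N' (W.mkQ v) = W.mkQ (N v) := by
        intro v
        have hq : cq.coact (W.mkQ v) = W.mkQ.rTensor A (c.coact v) := rfl
        simp only [N', N, LinearMap.sub_apply, LinearMap.id_apply, map_sub, HopfRep.Comod.act,
          LinearMap.comp_apply, LinearEquiv.coe_coe, hq]
        congr 1
        induction c.coact v using TensorProduct.induction_on with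
        | zero => simp
        | tmul x a => simp
        | add x y hx hy => simp only [map_add, hx, hy]
      have hpow : ∀ (j : ℕ) v, (N' ^ j) (W.mkQ v) = W.mkQ ((N ^ j) v) := by
        intro j
        induction j with
        | zero => intro v; rfl
        | succ j ihj => intro v; rw [pow_succ, pow_succ, Module.End.mul_apply, Module.End.mul_apply, hN, ihj]
      refine ⟨m + 1, LinearMap.ext fun v => ?_⟩
      have h1 : (N ^ m) v ∈ W := by
        rw [← Submodule.Quotient.mk_eq_zero, ← Submodule.mkQ_apply, ← hpow, hm, LinearMap.zero_apply]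
      obtain ⟨a, ha⟩ := Submodule.mem_span_singleton.1 h1
      have hN0 : N v0 = 0 := by
        simp [N, HopfRep.Comod.act, hfix]
      rw [pow_succ', Module.End.mul_apply, ← ha, map_smul, hN0, smul_zero, LinearMap.zero_apply]
  · intro h V i1 i2 i3 hfin hnt
    let ρ : Representation k (WithConv (A →ₐ[k] k)) V :=
      { toFun := fun g => Groth.Agent.Comod.dact k A V (WithConv.toConv g.ofConv.toLinearMap)
        map_one' := by
          rw [show WithConv.toConv (AlgHom.toLinearMap (1 : WithConv (A →ₐ[k] k)).ofConv) = 1 from ?_, map_one]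
          ext a; simp [LinearMap.convOne_def, AlgHom.convOne_def, Algebra.algebraMap_eq_smul_one]
        map_mul' := fun g g' => by
          rw [← map_mul]; congr 1 }
    have hact : ∀ g, ρ g = HopfRep.Comod.act k A V g.ofConv := fun g => rfl
    obtain ⟨v, hv, hvfix⟩ := Groth.Agent.S7975.result k (WithConv (A →ₐ[k] k)) V ρ fun g => by
      rw [hact, Module.End.one_eq_id]; exact h _ V hfin
    refine (Submodule.ne_bot_iff _).2 ⟨v, ?_, hv⟩
    refine sub_eq_zero.1 (Groth.Agent.Comod.tensor_eq_of_cL fun φ => ?_ :
      HopfRep.Comod.coact (k := k) (A := A) v - v ⊗ₜ[k] (1 : A) = 0)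
    rw [map_zero]
    by_contra hc
    obtain ⟨G, hG⟩ := Groth.Agent.HopfPoint.exists_point_ne_zero (k := k) fun hn => hc hn.eq_zero
    apply hG
    change G.toLinearMap _ = 0
    rw [map_sub, map_sub, sub_eq_zero]
    change G.toLinearMap _ = G.toLinearMap _
    rw [Groth.Agent.Comod.cR_cL, Groth.Agent.Comod.cR_cL]
    congr 1
    have := hvfix (WithConv.toConv G)
    rw [Groth.Agent.Comod.cR_tmul, AlgHom.toLinearMap_apply, map_one, one_smul]
    exact this

end Groth.Agent.S5423
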