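import Groth.Statements.S8412
import Groth.Agent.MTImage.CartanField
-- import your own Groth.Agent.* helpers here

set_option autoImplicit false
universe u
open CategoryTheory MonoidalCategory CartesianMonoidalCategory MonObj GrpObj AlgebraicGeometry
open SGA3x CategoryTheory.Limits

set_option backward.isDefEq.respectTransparency false

namespace Groth.Agent.S8412

/-- Let G be an S-group scheme, smooth and of finite presentation over S with connected fibres, and i :
H → G a monomorphism of S-groups with H smooth over S, such that every geometric fibre H_s̄ is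
connected and contains a Cartan subgroup of G_s̄ (has the same reductive and nilpotent ranks). Then
a subgroup scheme C of H is a Cartan subgroup of H if and only if it is a Cartan subgroup of G. -/
theorem result (S : Scheme.{u}) (G : Over S) [GrpObj G]
    [Smooth G.hom] [QuasiCompact G.hom] [QuasiSeparated G.hom] (hconn : ∀ s : S, _root_.IsConnected (G.hom.base ⁻¹' {s}))
    (H : Over S) [GrpObj H] [Smooth H.hom] (i : H ⟶ G) [IsMonHom i] [Mono i]
    (hHconn : ∀ s : S, ConnectedSpace ↥(Red.geomFibre s H).left)
    (hHC : ∀ s : S, ∃ (C' : Over (Spec (CommRingCat.of (AlgebraicClosure (S.residueField s))))) (_ : GrpObj C')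
      (c' : C' ⟶ Red.geomFibre s H), SGA3x.IsCartanOver _ (c' ≫ (Over.pullback (Red.geomPt s)).map i))
    (C : Over S) [GrpObj C] (c : C ⟶ H) :
    SGA3x.IsCartan c ↔ SGA3x.IsCartan (c ≫ i) := by
  haveI := (Groth.Agent.S3025.result S G hconn).1
  have hHf := MTImage.isConnected_fibre_of_geom hHconn
  haveI : QuasiCompact H.hom := Groth.Agent.S5324.result S H
    (fun s => inferInstanceAs (LocallyOfFiniteType (pullback.snd H.hom (S.fromSpecResidueField s)))) hHf
  have hfib : ∀ s : S, SGA3x.IsCartanOver _ ((Over.pullback (Red.geomPt s)).map c) ↔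
      SGA3x.IsCartanOver _ ((Over.pullback (Red.geomPt s)).map (c ≫ i)) := fun s => by
    obtain ⟨C', hC'g, c', hc'⟩ := hHC s
    let a := Red.geomPt s
    haveI : PreservesLimitsOfShape WalkingCospan (Over.pullback a) :=
      (Adjunction.rightAdjoint_preservesLimits (Over.mapPullbackAdj a)).preservesLimitsOfShape
    haveI : Mono ((Over.pullback a).map i) := inferInstance
    haveI : Smooth (Red.geomFibre s G).hom := inferInstanceAs (Smooth (pullback.snd G.hom a))
    haveI : QuasiCompact (Red.geomFibre s G).hom := inferInstanceAs (QuasiCompact (pullback.snd G.hom a))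
    haveI : Smooth (Red.geomFibre s H).hom := inferInstanceAs (Smooth (pullback.snd H.hom a))
    haveI : QuasiCompact (Red.geomFibre s H).hom := inferInstanceAs (QuasiCompact (pullback.snd H.hom a))
    rw [Functor.map_comp]
    exact MTImage.isCartanOver_comp_iff _ _ c' hc'
  constructor
  · rintro ⟨hm, hmono, hs, hf⟩
    haveI := hm; haveI := hmono
    exact ⟨inferInstance, mono_comp _ _, hs, fun s => (hfib s).1 (hf s)⟩
  · rintro ⟨hm, hmono, hs, hf⟩
    haveI := hm; haveI := hmono
    exact ⟨MTSplit.isMonHom_of_comp_mono c i _ rfl, mono_of_mono c i, hs, fun s => (hfib s).2 (hf s)⟩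

end Groth.Agent.S8412
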