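import Groth.Statements.S8434
import Groth.Agent.Chev.BorelKernel
import Groth.Agent.Chev.NormBC
import Groth.Agent.FibCrit.Props
import Groth.Agent.S8425
import Groth.Agent.FpqcDescent.IdealGlue
import Groth.Agent.GrpFppf.EtaleQuot
import Groth.Agent.MTBridge.ExtCentral
-- import your own Groth.Agent.* helpers here

set_option autoImplicit false
set_option backward.isDefEq.respectTransparency false
universe u
open CategoryTheory MonoidalCategory CartesianMonoidalCategory MonObj GrpObj AlgebraicGeometry
open SGA3x

open CategoryTheory.Limits Groth.Agent.Chev Groth.Agent.Chev.Borel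
open Groth.Agent.MTBridge (toBC toBC_mul toBC_comp toBC_inj toBC_naturality exists_toBC')

namespace Groth.Agent.S8434

/-- A subgroup monomorphism with Borel geometric fibres is closed and self-normalizing. -/
theorem borel_mono_closed (S : Scheme.{u}) (G : Over S) [GrpObj G]
    [Smooth G.hom] [QuasiCompact G.hom] [QuasiSeparated G.hom] (hconn : ∀ s : S, _root_.IsConnected (G.hom.base ⁻¹' {s}))
    (B : Over S) [GrpObj B] (b : B ⟶ G) (hB : (IsMonHom b ∧ Mono b ∧ Smooth B.hom ∧ QuasiCompact B.hom ∧
      ∀ s : S, Red.IsBorelOver (AlgebraicClosure (S.residueField s)) ((Over.pullback (Red.geomPt s)).map b))) :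
    Red.IsNormalizerOf b b ∧ IsClosedImmersion b.left := by
  obtain ⟨hbm, hbi, hBs, hBq, hfib⟩ := hB
  haveI := hbm; haveI := hbi; haveI := hBs; haveI := hBq
  haveI : Mono b.left := inferInstanceAs (Mono ((Over.forget S).map b))
  haveI : QuasiSeparated B.hom := by rw [← Over.w b]; infer_instance
  have hconnB : ∀ s : S, ConnectedSpace ↥(pullback B.hom (S.fromSpecResidueField s)) := fun s => by
    let φ := Spec.map (CommRingCat.ofHom (algebraMap (S.residueField s) (AlgebraicClosure (S.residueField s))))
    haveI : ConnectedSpace (pullback B.hom (Red.geomPt s) :) := (hfib s).2.2.2.1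
    haveI : Subsingleton (Spec (S.residueField s)) := inferInstanceAs (Subsingleton (PrimeSpectrum _))
    haveI : Surjective φ := ⟨fun x => ⟨IsLocalRing.closedPoint _, Subsingleton.elim _ _⟩⟩
    let i := pullbackLeftPullbackSndIso B.hom (S.fromSpecResidueField s) φ
    let f := i.inv ≫ pullback.fst (pullback.snd B.hom (S.fromSpecResidueField s)) φ
    haveI : Surjective (pullback.fst (pullback.snd B.hom (S.fromSpecResidueField s)) φ) :=
      MorphismProperty.pullback_fst _ _ ‹Surjective φ›
    exact f.surjective.connectedSpace f.continuous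
  obtain ⟨N, hNg, j, hN, hjc, hjl⟩ := Groth.Agent.S5260.result G B hconnB b
  haveI := hN.1; haveI := hN.2.1; haveI := hjc; haveI := hjl
  obtain ⟨z, hz⟩ := (hN.2.2 B b).2 fun X' x h =>
    ⟨⟨x * h * x⁻¹, by rw [MonObj.mul_comp, MonObj.mul_comp, GrpObj.inv_comp]⟩,
      ⟨x⁻¹ * h * x, by rw [MonObj.mul_comp, MonObj.mul_comp, GrpObj.inv_comp]⟩⟩
  -- fibrewise isomorphism
  have hgeo : ∀ s : S, IsIso ((Over.pullback (Red.geomPt s)).map z) := fun s => by
    let F := Over.pullback (Red.geomPt s)
    haveI : Limits.PreservesLimitsOfShape Limits.WalkingCospan F :=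
      (Adjunction.rightAdjoint_preservesLimits (Over.mapPullbackAdj (Red.geomPt s))).preservesLimitsOfShape
    haveI : Smooth (F.obj G).hom := MorphismProperty.pullback_snd _ _ ‹Smooth G.hom›
    haveI : QuasiCompact (F.obj G).hom := MorphismProperty.pullback_snd _ _ ‹QuasiCompact G.hom›
    haveI : ConnectedSpace (F.obj G).left := Groth.Agent.S8425.connectedSpace_geomFibre G s (hconn s)
    have hN' := Groth.Agent.Chev.CentBC.isNormalizerOf_bc (Red.geomPt s) b j hN
    haveI := hN'.2.1
    haveI := (hfib s).2.1
    haveI : Mono (F.map b) := Groth.Agent.GrpField.SchImg.mono_of_isClosedImmersion (F.map b)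
    have hzb : F.map z ≫ F.map j = F.map b := by rw [← F.map_comp, hz]
    obtain ⟨w, hw⟩ := exists_factor_of_normalizes_borel (F.map b) (hfib s) (F.map j)
      ((hN'.2.2 _ (F.map j)).1 ⟨𝟙 _, Category.id_comp _⟩)
    exact ⟨w, (cancel_mono (F.map b)).1 (by rw [Category.assoc, hw, hzb, Category.id_comp]),
      (cancel_mono (F.map j)).1 (by rw [Category.assoc, hzb, hw, Category.id_comp])⟩
  haveI : IsIso z := by
    have hiso : ∀ s : S, IsIso (pullback.snd z.left (N.hom.fiberι s)) := fun s => by
      let φ := Spec.map (CommRingCat.ofHom (algebraMap (S.residueField s) (AlgebraicClosure (S.residueField s))))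
      haveI : Subsingleton (Spec (S.residueField s)) := inferInstanceAs (Subsingleton (PrimeSpectrum _))
      haveI : Surjective φ := ⟨fun x => ⟨IsLocalRing.closedPoint _, Subsingleton.elim _ _⟩⟩
      haveI : Flat φ := inferInstance
      haveI : QuasiCompact φ := inferInstance
      haveI := hgeo s
      haveI : IsIso ((Over.pullback φ).map ((Over.pullback (S.fromSpecResidueField s)).map z)) :=
        (NatIso.isIso_map_iff (Over.pullbackComp φ (S.fromSpecResidueField s)) z).1 inferInstance
      haveI := isIso_of_isIso_pullback φ ((Over.pullback (S.fromSpecResidueField s)).map z)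
      haveI : IsIso ((Over.pullback (S.fromSpecResidueField s)).map z).left :=
        inferInstanceAs (IsIso ((Over.forget _).map ((Over.pullback (S.fromSpecResidueField s)).map z)))
      have hsq : IsPullback (pullback.fst B.hom (S.fromSpecResidueField s))
          ((Over.pullback (S.fromSpecResidueField s)).map z).left z.left (pullback.fst N.hom (S.fromSpecResidueField s)) := by
        refine IsPullback.of_bot ?_ ?_ (IsPullback.of_hasPullback N.hom (S.fromSpecResidueField s))
        · have e1 : ((Over.pullback (S.fromSpecResidueField s)).map z).left ≫ pullback.snd N.hom (S.fromSpecResidueField s) =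
              pullback.snd B.hom (S.fromSpecResidueField s) := Over.w ((Over.pullback (S.fromSpecResidueField s)).map z)
          rw [e1, Over.w z]
          exact IsPullback.of_hasPullback B.hom _
        · simp only [Over.pullback_map_left]; exact (pullback.lift_fst _ _ _).symm
      have e := hsq.isoPullback_hom_snd
      exact IsIso.of_isIso_fac_left (f := hsq.isoPullback.hom)
        (g := pullback.snd z.left (pullback.fst N.hom (S.fromSpecResidueField s))) e
    haveI : LocallyOfFinitePresentation N.hom := by rw [← Over.w j]; infer_instance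
    haveI : IsIso z.left := Groth.Agent.FibCrit.isIso_of_fibres (g := N.hom) (h := B.hom) (Over.w z) hiso
    haveI : IsIso ((Over.forget _).map z) := ‹IsIso z.left›
    exact isIso_of_reflects_iso z (Over.forget _)
  haveI : IsIso z.left := inferInstanceAs (IsIso ((Over.forget _).map z))
  refine ⟨⟨inferInstance, inferInstance, fun X g => ⟨?_, fun hg => ?_⟩⟩, by rw [← hz, Over.comp_left]; infer_instance⟩
  · rintro ⟨w, rfl⟩
    exact (hN.2.2 X _).1 ⟨w ≫ z, by rw [Category.assoc, hz]⟩
  · obtain ⟨w, hw⟩ := (hN.2.2 X g).2 hg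
    exact ⟨w ≫ inv z, by rw [← hw, Category.assoc, ← hz, IsIso.inv_hom_id_assoc]⟩

theorem toBC_one {S T : Scheme.{u}} (φ : T ⟶ S) {X : Over T} {G : Over S} [GrpObj G] :
    toBC φ (1 : (Over.map φ).obj X ⟶ G) = (1 : X ⟶ Red.bc φ G) := by
  have h := toBC_mul φ (1 : (Over.map φ).obj X ⟶ G) 1
  rw [_root_.mul_one] at h
  exact left_eq_mul.1 h

theorem central_kernel_bc {S T : Scheme.{u}} (φ : T ⟶ S) {G G' : Over S} [GrpObj G] [GrpObj G'] (u : G ⟶ G')
    (hker : ∀ (X : Over S) (z : X ⟶ G), z ≫ u = 1 → ∀ (X' : Over S) (x : X' ⟶ X) (g : X' ⟶ G),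
      (x ≫ z) * g = g * (x ≫ z))
    (X : Over T) (z : X ⟶ Red.bc φ G) (hz : z ≫ (Over.pullback φ).map u = 1)
    (X' : Over T) (x : X' ⟶ X) (g : X' ⟶ Red.bc φ G) : (x ≫ z) * g = g * (x ≫ z) := by
  obtain ⟨a, rfl⟩ := exists_toBC' φ z
  obtain ⟨c, rfl⟩ := exists_toBC' φ g
  have ha : a ≫ u = 1 := toBC_inj φ (by rw [toBC_comp, hz, toBC_one])
  rw [← toBC_naturality, ← toBC_mul, ← toBC_mul, hker _ a ha]

theorem surjective_map {S T : Scheme.{u}} (φ : T ⟶ S) {A B : Over S} (f : A ⟶ B) [Surjective f.left] :
    Surjective ((Over.pullback φ).map f).left := by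
  refine MorphismProperty.of_isPullback (P := @Surjective) (f := pullback.fst B.hom φ)
    (f' := pullback.fst A.hom φ) ?_ ‹Surjective f.left›
  have h1 : ((Over.pullback φ).map f).left ≫ pullback.fst B.hom φ = pullback.fst A.hom φ ≫ f.left :=
    pullback.lift_fst _ _ _
  refine IsPullback.of_bot ?_ h1.symm (IsPullback.of_hasPullback B.hom φ)
  rw [show ((Over.pullback φ).map f).left ≫ pullback.snd B.hom φ = pullback.snd A.hom φ from pullback.lift_snd _ _ _,
    Over.w f]
  exact IsPullback.of_hasPullback A.hom φ

theorem smooth_of_geomFibres {S : Scheme.{u}} (B : Over S) [Flat B.hom] [LocallyOfFinitePresentation B.hom]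
    (h : ∀ s : S, Smooth ((Over.pullback (Red.geomPt s)).obj B).hom) : Smooth B.hom := by
  refine Smooth.of_smooth_fiberToSpecResidueField B.hom fun s => ?_
  let φ := Spec.map (CommRingCat.ofHom (algebraMap (S.residueField s) (AlgebraicClosure (S.residueField s))))
  haveI : Subsingleton (Spec (S.residueField s)) := inferInstanceAs (Subsingleton (PrimeSpectrum _))
  haveI : Surjective φ := ⟨fun x => ⟨IsLocalRing.closedPoint _, Subsingleton.elim _ _⟩⟩
  haveI : Flat φ := inferInstance
  haveI : QuasiCompact φ := inferInstance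
  haveI : Smooth (pullback.snd B.hom (Red.geomPt s)) := h s
  haveI : Smooth (pullback.snd (pullback.snd B.hom (S.fromSpecResidueField s)) φ) := by
    rw [← MorphismProperty.cancel_left_of_respectsIso @Smooth
      (pullbackLeftPullbackSndIso B.hom (S.fromSpecResidueField s) φ).inv,
      pullbackLeftPullbackSndIso_inv_snd_snd]
    infer_instance
  exact MorphismProperty.of_pullback_snd_of_descendsAlong (P := @Smooth) (Q := @Surjective ⊓ @Flat ⊓ @QuasiCompact)
    (f := pullback.snd B.hom (S.fromSpecResidueField s)) (g := φ)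
    ⟨⟨inferInstance, inferInstance⟩, inferInstance⟩ inferInstance


/-- Let G, G′ be S-group schemes, smooth and of finite presentation over S with connected fibres, and u
: G → G′ a faithfully flat homomorphism whose kernel is central in G. Then B′ ↦ u⁻¹(B′) sends Borel
subgroups of G′ (subgroup schemes smooth and of finite presentation over S whose geometric fibres
are Borel subgroups) to Borel subgroups of G, and every Borel subgroup of G arises in this way: if
B′ is a Borel subgroup of G′ and B is an S-group scheme with homomorphisms b : B → G and v : B → B′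
making B = G ×_{G′} B′, then B is a Borel subgroup of G; and every Borel subgroup of G is such an
inverse image of some Borel subgroup of G′. (The published statement says that B′ ↦ u⁻¹(B′) is a
bijection; its injectivity, a consequence of faithful flatness of u, is not stated here.) -/
theorem result (S : Scheme.{u}) (G G' : Over S) [GrpObj G] [GrpObj G']
    [Smooth G.hom] [QuasiCompact G.hom] [QuasiSeparated G.hom] [Smooth G'.hom] [QuasiCompact G'.hom] [QuasiSeparated G'.hom]
    (hconn : ∀ s : S, _root_.IsConnected (G.hom.base ⁻¹' {s})) (hconn' : ∀ s : S, _root_.IsConnected (G'.hom.base ⁻¹' {s}))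
    (u : G ⟶ G') [IsMonHom u] [Flat u.left] [Surjective u.left]
    (hker : ∀ (X : Over S) (z : X ⟶ G), z ≫ u = 1 → ∀ (X' : Over S) (x : X' ⟶ X) (g : X' ⟶ G),
      (x ≫ z) * g = g * (x ≫ z)) :
    (∀ (B' : Over S) [GrpObj B'] (b' : B' ⟶ G'), (IsMonHom b' ∧ Mono b' ∧ Smooth B'.hom ∧ QuasiCompact B'.hom ∧
      ∀ s : S, Red.IsBorelOver (AlgebraicClosure (S.residueField s)) ((Over.pullback (Red.geomPt s)).map b')) →
      ∀ (B : Over S) [GrpObj B] (b : B ⟶ G) [IsMonHom b] (v : B ⟶ B') [IsMonHom v], IsPullback b v u b' → (IsMonHom b ∧ Mono b ∧ Smooth B.hom ∧ QuasiCompact B.hom ∧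
      ∀ s : S, Red.IsBorelOver (AlgebraicClosure (S.residueField s)) ((Over.pullback (Red.geomPt s)).map b))) ∧
    (∀ (B : Over S) [GrpObj B] (b : B ⟶ G), (IsMonHom b ∧ Mono b ∧ Smooth B.hom ∧ QuasiCompact B.hom ∧
      ∀ s : S, Red.IsBorelOver (AlgebraicClosure (S.residueField s)) ((Over.pullback (Red.geomPt s)).map b)) →
      ∃ (B' : Over S) (_ : GrpObj B') (b' : B' ⟶ G') (v : B ⟶ B'), (IsMonHom b' ∧ Mono b' ∧ Smooth B'.hom ∧ QuasiCompact B'.hom ∧
      ∀ s : S, Red.IsBorelOver (AlgebraicClosure (S.residueField s)) ((Over.pullback (Red.geomPt s)).map b')) ∧ IsMonHom v ∧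
        IsPullback b v u b') := by
  haveI : LocallyOfFinitePresentation u.left := by
    haveI : LocallyOfFinitePresentation (u.left ≫ G'.hom) := by rw [Over.w u]; infer_instance
    exact LimDesc.lfp_of_comp u.left G'.hom
  haveI : QuasiCompact u.left := by
    haveI : QuasiCompact (u.left ≫ G'.hom) := by rw [Over.w u]; infer_instance
    exact QuasiCompact.of_comp u.left G'.hom
  have hfibG : ∀ s : S, ConnectedSpace (Red.bc (Red.geomPt s) G).left := fun s =>
    Groth.Agent.S8425.connectedSpace_geomFibre G s (hconn s)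
  have hfibG' : ∀ s : S, ConnectedSpace (Red.bc (Red.geomPt s) G').left := fun s =>
    Groth.Agent.S8425.connectedSpace_geomFibre G' s (hconn' s)
  refine ⟨fun B' _ b' hB' B _ b _ v _ hsq => ?_, fun B _ b hB => ?_⟩
  · obtain ⟨hb'm, hb'mono, hB's, hB'q, hfib⟩ := hB'
    haveI := hb'm; haveI := hb'mono; haveI := hB's; haveI := hB'q
    haveI : Mono b := hsq.mono_fst_of_mono
    have hsq' : IsPullback b.left v.left u.left b'.left := hsq.map (Over.forget S)
    haveI : Flat v.left := MorphismProperty.of_isPullback (P := @Flat) hsq' ‹Flat u.left›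
    haveI : LocallyOfFinitePresentation v.left :=
      MorphismProperty.of_isPullback (P := @LocallyOfFinitePresentation) hsq' ‹LocallyOfFinitePresentation u.left›
    haveI : QuasiCompact v.left := MorphismProperty.of_isPullback (P := @QuasiCompact) hsq' ‹QuasiCompact u.left›
    haveI : Flat B.hom := by rw [← Over.w v]; infer_instance
    haveI : LocallyOfFinitePresentation B.hom := by rw [← Over.w v]; infer_instance
    haveI : QuasiCompact B.hom := by rw [← Over.w v]; infer_instance
    have hgeo : ∀ s : S, Red.IsBorelOver (AlgebraicClosure (S.residueField s)) ((Over.pullback (Red.geomPt s)).map b) :=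
      fun s => by
      let φ := Red.geomPt s
      haveI : PreservesLimitsOfShape WalkingCospan (Over.pullback φ) :=
        (Adjunction.rightAdjoint_preservesLimits (Over.mapPullbackAdj φ)).preservesLimitsOfShape
      haveI : Smooth (Red.bc φ G).hom := MorphismProperty.pullback_snd _ _ ‹Smooth G.hom›
      haveI : QuasiCompact (Red.bc φ G).hom := MorphismProperty.pullback_snd _ _ ‹QuasiCompact G.hom›
      haveI : Smooth (Red.bc φ G').hom := MorphismProperty.pullback_snd _ _ ‹Smooth G'.hom›
      haveI : QuasiCompact (Red.bc φ G').hom := MorphismProperty.pullback_snd _ _ ‹QuasiCompact G'.hom›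
      haveI := hfibG s; haveI := hfibG' s
      haveI := surjective_map φ u
      exact isBorelOver_preimage_central (G := Red.bc φ G) (G' := Red.bc φ G') (B := Red.bc φ B) (B' := Red.bc φ B')
        ((Over.pullback φ).map u) (central_kernel_bc φ u hker) ((Over.pullback φ).map b') (hfib s)
        ((Over.pullback φ).map b) ((Over.pullback φ).map v) (hsq.map (Over.pullback φ))
    haveI : Smooth B.hom := smooth_of_geomFibres B fun s => (hgeo s).2.2.1
    exact ⟨inferInstance, inferInstance, inferInstance, inferInstance, hgeo⟩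
  obtain ⟨hbm, hbmono, hBs, hBq, hfib⟩ := hB
  haveI := hbm; haveI := hbmono; haveI := hBs; haveI := hBq
  obtain ⟨hN, hbc⟩ := borel_mono_closed S G hconn B b ⟨hbm, hbmono, hBs, hBq, hfib⟩
  haveI := hbc
  have hkerle : ∀ (P : Over S) (z : P ⟶ G), z ≫ u = 1 → ∃ h : P ⟶ B, h ≫ b = z := fun P z hz =>
    (hN.2.2 P z).2 fun X' x h => ⟨⟨h, by rw [hker P z hz, mul_inv_cancel_right]⟩,
      ⟨h, by rw [_root_.mul_assoc, ← hker P z hz, inv_mul_cancel_left]⟩⟩
  -- the closed subscheme is stable under the relation of `u`
  let I := b.left.ker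
  let P : Over S := Over.mk (pullback.fst u.left u.left ≫ G.hom)
  let p₁ : P ⟶ G := Over.homMk (pullback.fst u.left u.left)
  let p₂ : P ⟶ G := Over.homMk (pullback.snd u.left u.left) (by
    show _ = pullback.fst u.left u.left ≫ G.hom
    rw [← Over.w u, ← pullback.condition_assoc])
  have hp : p₁ ≫ u = p₂ ≫ u := Over.OverMorphism.ext pullback.condition
  have hle : ∀ (a c : P ⟶ G), a ≫ u = c ≫ u → (pullback.fst c.left b.left).ker ≤ (pullback.fst a.left b.left).ker := by
    intro a c hac
    let Q : Over S := Over.mk (pullback.fst a.left b.left ≫ P.hom)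
    let q : Q ⟶ P := Over.homMk (pullback.fst a.left b.left)
    let w : Q ⟶ B := Over.homMk (pullback.snd a.left b.left) (by
      show _ = pullback.fst a.left b.left ≫ P.hom
      rw [← Over.w b, ← pullback.condition_assoc, Over.w a])
    have hqw : q ≫ a = w ≫ b := Over.OverMorphism.ext pullback.condition
    obtain ⟨z, hz⟩ := hkerle Q ((w ≫ b)⁻¹ * (q ≫ c)) (by
      rw [MonObj.mul_comp, GrpObj.inv_comp, ← hqw, Category.assoc, Category.assoc, hac, inv_mul_cancel])
    have hcq : (w * z) ≫ b = q ≫ c := by rw [MonObj.mul_comp, hz, mul_inv_cancel_left]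
    rw [← pullback.lift_fst (f := c.left) (g := b.left) (pullback.fst a.left b.left) (w * z).left
      (congrArg (fun m : Q ⟶ G => m.left) hcq.symm)]
    exact Scheme.Hom.le_ker_comp _ _
  have hI : I.comap (pullback.fst u.left u.left) = I.comap (pullback.snd u.left u.left) := by
    show b.left.ker.comap p₁.left = b.left.ker.comap p₂.left
    rw [← Scheme.IdealSheafData.ker_fst_of_isClosedImmersion b.left p₁.left,
      ← Scheme.IdealSheafData.ker_fst_of_isClosedImmersion b.left p₂.left]
    exact le_antisymm (hle p₂ p₁ hp.symm) (hle p₁ p₂ hp)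
  have hmem : Presieve.ofArrows (fun _ : PUnit.{u + 1} => G.left) (fun _ => u.left) ∈ Scheme.fpqcPrecoverage G'.left := by
    rw [Presieve.ofArrows_pUnit]
    exact u.left.singleton_mem_fpqcPrecoverage
  obtain ⟨J, hJ, -⟩ := Groth.Agent.FpqcDescent.existsUnique_descent hmem (fun _ => I) (fun _ _ => hI)
  let B' : Over S := Over.mk (J.subschemeι ≫ G'.hom)
  let b' : B' ⟶ G' := Over.homMk J.subschemeι
  haveI : IsClosedImmersion b'.left := inferInstanceAs (IsClosedImmersion J.subschemeι)
  haveI : Mono b'.left := inferInstanceAs (Mono J.subschemeι)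
  haveI : Mono b' := Over.mono_of_mono_left b'
  have hbu : J.subschemeι.ker ≤ (b.left ≫ u.left).ker := by
    rw [Scheme.IdealSheafData.ker_subschemeι, ← Scheme.IdealSheafData.map_ker,
      Scheme.IdealSheafData.le_map_iff_comap_le]
    exact (hJ PUnit.unit).le
  let vl : B.left ⟶ B'.left := IsClosedImmersion.lift J.subschemeι (b.left ≫ u.left) hbu
  let v : B ⟶ B' := Over.homMk vl (by
    show vl ≫ J.subschemeι ≫ G'.hom = B.hom
    rw [← Category.assoc, IsClosedImmersion.lift_fac, Category.assoc, Over.w u, Over.w b])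
  have hvb : v ≫ b' = b ≫ u := Over.OverMorphism.ext (IsClosedImmersion.lift_fac J.subschemeι (b.left ≫ u.left) hbu)
  have hsqL : IsPullback b.left v.left u.left b'.left :=
    isPullback_of_isClosedImmersion b.left b'.left v.left u.left (congrArg (fun m : B ⟶ G' => m.left) hvb).symm (by
      show J.subschemeι.ker.comap u.left = b.left.ker
      rw [Scheme.IdealSheafData.ker_subschemeι]
      exact hJ PUnit.unit)
  have hsq : IsPullback b v u b' := IsPullback.of_map (Over.forget S) hvb.symm hsqL
  haveI : Surjective v.left := MorphismProperty.of_isPullback (P := @Surjective) hsqL ‹Surjective u.left›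
  haveI : Flat v.left := MorphismProperty.of_isPullback (P := @Flat) hsqL ‹Flat u.left›
  haveI : LocallyOfFinitePresentation v.left :=
    MorphismProperty.of_isPullback (P := @LocallyOfFinitePresentation) hsqL ‹LocallyOfFinitePresentation u.left›
  -- the group structure
  haveI := AVQuot.epi_of_covering v
  obtain ⟨hB'g, hb'm⟩ := MTBridge.exists_grpObj_of_div b' ⟨η[B] ≫ v, by
      rw [Category.assoc, hvb, ← Category.assoc, IsMonHom.one_hom, IsMonHom.one_hom]⟩ fun T k₁ k₂ => by
    let P₁ : Over S := Over.mk (pullback.fst k₁.left v.left ≫ T.hom)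
    let a₁ : P₁ ⟶ T := Over.homMk (pullback.fst k₁.left v.left)
    let c₁ : P₁ ⟶ B := Over.homMk (pullback.snd k₁.left v.left) (by
      show _ = pullback.fst k₁.left v.left ≫ T.hom
      rw [← Over.w k₁, pullback.condition_assoc, Over.w v])
    have h₁ : c₁ ≫ v = a₁ ≫ k₁ := Over.OverMorphism.ext pullback.condition.symm
    let P₂ : Over S := Over.mk (pullback.fst (a₁ ≫ k₂).left v.left ≫ P₁.hom)
    let a₂ : P₂ ⟶ P₁ := Over.homMk (pullback.fst (a₁ ≫ k₂).left v.left)
    let c₂ : P₂ ⟶ B := Over.homMk (pullback.snd (a₁ ≫ k₂).left v.left) (by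
      show _ = pullback.fst (a₁ ≫ k₂).left v.left ≫ P₁.hom
      rw [← Over.w (a₁ ≫ k₂), pullback.condition_assoc, Over.w v])
    have h₂ : c₂ ≫ v = a₂ ≫ a₁ ≫ k₂ := Over.OverMorphism.ext pullback.condition.symm
    haveI : Flat a₁.left := MorphismProperty.pullback_fst _ _ ‹Flat v.left›
    haveI : Surjective a₁.left := MorphismProperty.pullback_fst _ _ ‹Surjective v.left›
    haveI : LocallyOfFinitePresentation a₁.left := MorphismProperty.pullback_fst _ _ ‹LocallyOfFinitePresentation v.left›
    haveI : Flat a₂.left := MorphismProperty.pullback_fst _ _ ‹Flat v.left›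
    haveI : Surjective a₂.left := MorphismProperty.pullback_fst _ _ ‹Surjective v.left›
    haveI : LocallyOfFinitePresentation a₂.left := MorphismProperty.pullback_fst _ _ ‹LocallyOfFinitePresentation v.left›
    haveI : Flat (a₂ ≫ a₁).left := inferInstanceAs (Flat (a₂.left ≫ a₁.left))
    haveI : Surjective (a₂ ≫ a₁).left := inferInstanceAs (Surjective (a₂.left ≫ a₁.left))
    haveI : LocallyOfFinitePresentation (a₂ ≫ a₁).left := inferInstanceAs (LocallyOfFinitePresentation (a₂.left ≫ a₁.left))
    let q : T ⟶ G' := (k₁ ≫ b')⁻¹ * (k₂ ≫ b')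
    let c : P₂ ⟶ B := (a₂ ≫ c₁)⁻¹ * c₂
    have hcq : (c ≫ v) ≫ b' = (a₂ ≫ a₁) ≫ q := by
      rw [Category.assoc, hvb, ← Category.assoc, MonObj.mul_comp, GrpObj.inv_comp, MonObj.mul_comp, GrpObj.inv_comp,
        Category.assoc (a₂ ≫ c₁) b u, ← hvb, ← Category.assoc (a₂ ≫ c₁), Category.assoc a₂ c₁ v, h₁,
        Category.assoc c₂ b u, ← hvb, ← Category.assoc c₂, h₂]
      simp only [q, MonObj.comp_mul, GrpObj.comp_inv, Category.assoc]
    obtain ⟨k₃, hk₃⟩ := AVQuot.exists_desc (a₂ ≫ a₁) (c ≫ v) fun {V} x y hxy => (cancel_mono b').1 (by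
      rw [Category.assoc x, Category.assoc y, hcq, ← Category.assoc, hxy, Category.assoc])
    haveI := AVQuot.epi_of_covering (a₂ ≫ a₁)
    exact ⟨k₃, (cancel_epi (a₂ ≫ a₁)).1 (by rw [← Category.assoc (a₂ ≫ a₁) k₃ b', hk₃, hcq])⟩
  haveI := hb'm
  haveI : IsMonHom v := MTSplit.isMonHom_of_comp_mono v b' (b ≫ u) hvb
  haveI : QuasiCompact B'.hom := inferInstanceAs (QuasiCompact (J.subschemeι ≫ G'.hom))
  haveI : Flat (v.left ≫ B'.hom) := by rw [Over.w v]; infer_instance
  haveI : Flat B'.hom := GrpFppf.flat_of_flat_surjective_comp v.left B'.hom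
  haveI : LocallyOfFinitePresentation b.left := by
    haveI : LocallyOfFinitePresentation (b.left ≫ G.hom) := by rw [Over.w b]; infer_instance
    exact LimDesc.lfp_of_comp b.left G.hom
  haveI : LocallyOfFinitePresentation b'.left := MorphismProperty.of_isPullback_of_descendsAlong
    (P := @LocallyOfFinitePresentation) (Q := @Surjective ⊓ @Flat ⊓ @QuasiCompact) hsqL
    ⟨⟨inferInstance, inferInstance⟩, inferInstance⟩ inferInstance
  haveI : LocallyOfFinitePresentation B'.hom := by rw [← Over.w b']; infer_instance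
  have hgeo : ∀ s : S, Red.IsBorelOver (AlgebraicClosure (S.residueField s)) ((Over.pullback (Red.geomPt s)).map b') :=
    fun s => by
    let φ := Red.geomPt s
    haveI : PreservesLimitsOfShape WalkingCospan (Over.pullback φ) :=
      (Adjunction.rightAdjoint_preservesLimits (Over.mapPullbackAdj φ)).preservesLimitsOfShape
    haveI : Smooth (Red.bc φ G).hom := MorphismProperty.pullback_snd _ _ ‹Smooth G.hom›
    haveI : QuasiCompact (Red.bc φ G).hom := MorphismProperty.pullback_snd _ _ ‹QuasiCompact G.hom›
    haveI : Smooth (Red.bc φ G').hom := MorphismProperty.pullback_snd _ _ ‹Smooth G'.hom›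
    haveI : QuasiCompact (Red.bc φ G').hom := MorphismProperty.pullback_snd _ _ ‹QuasiCompact G'.hom›
    haveI := hfibG s
    haveI := surjective_map φ u
    obtain ⟨R, hRg, iR, p, hR, hpm, hpf, hps, hpl, hpe⟩ := exists_borel_image_central ((Over.pullback φ).map u)
      (central_kernel_bc φ u hker) ((Over.pullback φ).map b) (hfib s)
    haveI := hR.1; haveI := hR.2.1; haveI := hpf; haveI := hps; haveI := hpl
    haveI : Mono iR := GrpField.SchImg.mono_of_isClosedImmersion iR
    haveI : Mono ((Over.pullback φ).map b') := inferInstance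
    have hsqv : IsPullback ((Over.pullback φ).map v).left (pullback.fst B.hom φ) (pullback.fst B'.hom φ) v.left := by
      refine (IsPullback.of_bot ?_ ?_ (IsPullback.of_hasPullback B'.hom φ)).flip
      · rw [show ((Over.pullback φ).map v).left ≫ pullback.snd B'.hom φ = pullback.snd B.hom φ from
          pullback.lift_snd _ _ _, Over.w v]
        exact IsPullback.of_hasPullback B.hom φ
      · exact (pullback.lift_fst _ _ _).symm
    haveI : Flat ((Over.pullback φ).map v).left := MorphismProperty.of_isPullback (P := @Flat) hsqv.flip ‹Flat v.left›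
    haveI : Surjective ((Over.pullback φ).map v).left :=
      MorphismProperty.of_isPullback (P := @Surjective) hsqv.flip ‹Surjective v.left›
    haveI : LocallyOfFinitePresentation ((Over.pullback φ).map v).left :=
      MorphismProperty.of_isPullback (P := @LocallyOfFinitePresentation) hsqv.flip ‹LocallyOfFinitePresentation v.left›
    obtain ⟨e, he⟩ := exists_iso_of_covers iR ((Over.pullback φ).map b') p ((Over.pullback φ).map v) (by
      rw [hpe, ← Functor.map_comp, ← Functor.map_comp, hvb])
    exact isBorelOver_of_iso e iR _ he hR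
  haveI : Smooth B'.hom := smooth_of_geomFibres B' fun s => (hgeo s).2.2.1
  exact ⟨B', hB'g, b', v, ⟨inferInstance, inferInstance, inferInstance, inferInstance, hgeo⟩, inferInstance, hsq⟩

end Groth.Agent.S8434
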