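import Groth.Statements.S8414
import Groth.Agent.MTExt.PreimageSub
import Groth.Agent.MTExt.PowFinite
import Groth.Agent.MTImage.SubTorus
import Groth.Agent.S8434
import Groth.Agent.MTKernel.Basic

set_option autoImplicit false
universe u
open CategoryTheory MonoidalCategory CartesianMonoidalCategory MonObj GrpObj AlgebraicGeometry
open SGA3x

set_option backward.isDefEq.respectTransparency false
set_option linter.style.haveILetI false
set_option maxHeartbeats 1000000
set_option synthInstance.maxHeartbeats 400000
open CategoryTheory.Limits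
open Groth.Agent.MTBridge (toBC toBC_mul toBC_comp toBC_inj exists_toBC')

namespace Groth.Agent.S8414

/-- Let G, G′ be S-group schemes flat and of finite presentation over S, u : G → G′ a homomorphism which
is faithfully flat, and C′ a subgroup scheme of G′ of finite presentation over S whose inverse image
C = u⁻¹(C′) is smooth over S (resp. has connected fibres). Then for every subgroup scheme H′ of G′
of finite presentation over S containing C′ and smooth over S (resp. with connected fibres), the
inverse image u⁻¹(H′) is smooth over S (resp. has connected fibres). -/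
theorem result (S : Scheme.{u}) (G G' : Over S) [GrpObj G] [GrpObj G']
    [Flat G.hom] [QuasiCompact G.hom] [QuasiSeparated G.hom] [LocallyOfFinitePresentation G.hom]
    [Flat G'.hom] [QuasiCompact G'.hom] [QuasiSeparated G'.hom] [LocallyOfFinitePresentation G'.hom]
    (u : G ⟶ G') [IsMonHom u] [Flat u.left] [Surjective u.left]
    (C' : Over S) [GrpObj C'] (c' : C' ⟶ G') [IsMonHom c'] [Mono c']
    [QuasiCompact C'.hom] [QuasiSeparated C'.hom] [LocallyOfFinitePresentation C'.hom]
    (H' : Over S) [GrpObj H'] (h' : H' ⟶ G') [IsMonHom h'] [Mono h']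
    [QuasiCompact H'.hom] [QuasiSeparated H'.hom] [LocallyOfFinitePresentation H'.hom]
    (hle : ∃ f : C' ⟶ H', f ≫ h' = c') :
    (Smooth (Limits.pullback c' u).hom → Smooth H'.hom → Smooth (Limits.pullback h' u).hom) ∧
    ((∀ s : S, _root_.IsConnected ((Limits.pullback c' u).hom.base ⁻¹' {s})) →
      (∀ s : S, _root_.IsConnected (H'.hom.base ⁻¹' {s})) →
      ∀ s : S, _root_.IsConnected ((Limits.pullback h' u).hom.base ⁻¹' {s})) := by
  obtain ⟨f, hf⟩ := hle
  obtain ⟨hHg, hsm, hfm⟩ := MTExt.exists_grpObj_pullback h' u
  obtain ⟨hCg, hcsm, hcfm⟩ := MTExt.exists_grpObj_pullback c' u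
  haveI := hsm; haveI := hfm; haveI := hcsm; haveI := hcfm
  haveI : IsMonHom f := MTSplit.isMonHom_of_comp_mono f h' c' hf
  let H := Limits.pullback h' u
  let C := Limits.pullback c' u
  let w : H ⟶ H' := pullback.fst h' u
  let e : C ⟶ H := pullback.lift (pullback.fst c' u ≫ f) (pullback.snd c' u)
    (by rw [Category.assoc, hf]; exact pullback.condition)
  haveI : IsMonHom e := MTSplit.isMonHom_of_comp_mono e (pullback.snd h' u) (pullback.snd c' u) (pullback.lift_snd _ _ _)
  haveI : LocallyOfFinitePresentation u.left := by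
    haveI : LocallyOfFinitePresentation (u.left ≫ G'.hom) := by rw [Over.w u]; infer_instance
    exact LimDesc.lfp_of_comp u.left G'.hom
  haveI : QuasiCompact u.left := by
    haveI : QuasiCompact (u.left ≫ G'.hom) := by rw [Over.w u]; infer_instance
    exact QuasiCompact.of_comp u.left G'.hom
  have hsq : IsPullback w.left (pullback.snd h' u).left h'.left u.left :=
    (IsPullback.of_hasPullback h' u).map (Over.forget S)
  haveI : Flat w.left := MorphismProperty.of_isPullback (P := @Flat) hsq.flip ‹Flat u.left›
  haveI : Surjective w.left := MorphismProperty.of_isPullback (P := @Surjective) hsq.flip ‹Surjective u.left›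
  haveI : QuasiCompact w.left := MorphismProperty.of_isPullback (P := @QuasiCompact) hsq.flip ‹QuasiCompact u.left›
  haveI : LocallyOfFinitePresentation w.left :=
    MorphismProperty.of_isPullback (P := @LocallyOfFinitePresentation) hsq.flip ‹LocallyOfFinitePresentation u.left›
  haveI : LocallyOfFinitePresentation H.hom := by rw [← Over.w w]; infer_instance
  haveI : QuasiCompact H.hom := by rw [← Over.w w]; infer_instance
  have hK : ∀ (X : Over S) (δ : X ⟶ H), δ ≫ w = 1 → ∃ p : X ⟶ C, p ≫ e = δ := by
    intro X δ hδ
    refine ⟨pullback.lift 1 (δ ≫ pullback.snd h' u) (by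
      rw [MonObj.one_comp, Category.assoc, ← pullback.condition, ← Category.assoc]
      show _ = (δ ≫ w) ≫ h'
      rw [hδ, MonObj.one_comp]), pullback.hom_ext ?_ ?_⟩
    · simp only [e, Category.assoc, pullback.lift_fst, pullback.lift_fst_assoc]
      rw [MonObj.one_comp]
      exact hδ.symm
    · simp [e]
  have hKbc : ∀ {V : Scheme.{u}} (φ : V ⟶ S) (X : Over V) (δ : X ⟶ Red.bc φ H), δ ≫ (Over.pullback φ).map w = 1 →
      ∃ p : X ⟶ Red.bc φ C, p ≫ (Over.pullback φ).map e = δ := by
    intro V φ X δ hδ
    obtain ⟨δ, rfl⟩ := exists_toBC' φ δ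
    obtain ⟨p, hp⟩ := hK _ δ (toBC_inj φ (by rw [toBC_comp, hδ, MTKernel.toBC_one]))
    exact ⟨toBC φ p, by rw [← toBC_comp, hp]⟩
  haveI hwbc : ∀ {V : Scheme.{u}} (φ : V ⟶ S), Surjective ((Over.pullback φ).map w).left :=
    fun φ => S8434.surjective_map φ w
  refine ⟨fun hC hH' => ?_, fun hC hH' s => ?_⟩
  · haveI := hC; haveI := hH'
    haveI : Flat H.hom := by rw [← Over.w w]; infer_instance
    refine S8434.smooth_of_geomFibres H fun s => ?_
    let φ := Red.geomPt s
    haveI : LocallyOfFiniteType (Red.bc φ H).hom := inferInstanceAs (LocallyOfFiniteType (pullback.snd H.hom φ))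
    haveI : QuasiCompact (Red.bc φ H).hom := inferInstanceAs (QuasiCompact (pullback.snd H.hom φ))
    haveI : Smooth (Red.bc φ H').hom := inferInstanceAs (Smooth (pullback.snd H'.hom φ))
    haveI : Smooth (Red.bc φ C).hom := inferInstanceAs (Smooth (pullback.snd C.hom φ))
    haveI := hwbc φ
    exact MTExt.smooth_of_ker_le ((Over.pullback φ).map w) ((Over.pullback φ).map e) (hKbc φ)
  refine MTImage.isConnected_fibre_of_geom (H := H) (fun t => ?_) s
  let φ := Red.geomPt t
  haveI : LocallyOfFiniteType (Red.bc φ H).hom := inferInstanceAs (LocallyOfFiniteType (pullback.snd H.hom φ))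
  haveI : LocallyOfFiniteType (Red.bc φ H').hom := inferInstanceAs (LocallyOfFiniteType (pullback.snd H'.hom φ))
  haveI : ConnectedSpace (Red.bc φ C).left := S8425.connectedSpace_geomFibre C t (hC t)
  haveI : ConnectedSpace (Red.bc φ H').left := S8425.connectedSpace_geomFibre H' t (hH' t)
  have hmap := MTExt.isPullback_bc φ w
  haveI : Flat ((Over.pullback φ).map w).left := MorphismProperty.of_isPullback (P := @Flat) hmap ‹Flat w.left›
  haveI : LocallyOfFinitePresentation ((Over.pullback φ).map w).left :=
    MorphismProperty.of_isPullback (P := @LocallyOfFinitePresentation) hmap ‹LocallyOfFinitePresentation w.left›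
  exact MTExt.connected_of_ker_le ((Over.pullback φ).map w) ((Over.pullback φ).map w).left.isOpenMap
    ((Over.pullback φ).map e) (hKbc φ _)

end Groth.Agent.S8414
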