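import Groth.Statements.S8437
import Groth.Agent.MTImage.CartanImage
-- import your own Groth.Agent.* helpers here

set_option autoImplicit false
universe u
open CategoryTheory MonoidalCategory CartesianMonoidalCategory MonObj GrpObj AlgebraicGeometry
open SGA3x

set_option backward.isDefEq.respectTransparency false

namespace Groth.Agent.S8437

/-- Let G, G′ be S-group schemes, smooth, separated and of finite type over S, G admitting a maximal
torus locally for the fpqc topology, G′ with connected fibres, and u : G → G′ a homomorphism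
surjective on every geometric fibre whose kernel is central. Then C ↦ u(C) is a bijection from the
Cartan subgroups of G onto those of G′ with C = u⁻¹(u(C)): for every Cartan subgroup C of G there
are a Cartan subgroup C′ of G′ and a faithfully flat homomorphism v : C → C′ making C → G, C → C′ a
cartesian square over u; and every Cartan subgroup C′ of G′ is obtained in this way. -/
theorem result (S : Scheme.{u}) (G G' : Over S) [GrpObj G] [GrpObj G']
    [Smooth G.hom] [IsSeparated G.hom] [QuasiCompact G.hom] [Smooth G'.hom] [IsSeparated G'.hom] [QuasiCompact G'.hom]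
    (hG : SGA3x.HasMaxTorusFpqcLocally G) (u : G ⟶ G') [IsMonHom u]
    (hu : ∀ s : S, Surjective ((Over.pullback (Red.geomPt s)).map u).left)
    (hconn' : ∀ s : S, _root_.IsConnected (G'.hom.base ⁻¹' {s}))
    (hker : ∀ (X : Over S) (z : X ⟶ G), z ≫ u = 1 → ∀ (X' : Over S) (x : X' ⟶ X) (g : X' ⟶ G),
      (x ≫ z) * g = g * (x ≫ z)) :
    (∀ (C : Over S) [GrpObj C] (c : C ⟶ G), SGA3x.IsCartan c →
      ∃ (C' : Over S) (_ : GrpObj C') (c' : C' ⟶ G') (v : C ⟶ C'), SGA3x.IsCartan c' ∧ IsMonHom v ∧
        Surjective v.left ∧ Flat v.left ∧ IsPullback c v u c') ∧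
    (∀ (C' : Over S) [GrpObj C'] (c' : C' ⟶ G'), SGA3x.IsCartan c' →
      ∃ (C : Over S) (_ : GrpObj C) (c : C ⟶ G) (v : C ⟶ C'), SGA3x.IsCartan c ∧ IsMonHom v ∧
        Surjective v.left ∧ Flat v.left ∧ IsPullback c v u c') := by
  haveI := MTImage.surjective_of_geom u hu
  refine ⟨fun C _ c hc => ?_, fun C' _ c' hc' => ?_⟩
  · obtain ⟨T, hTg, i, hi, hC⟩ := MTImage.exists_torus_of_cartan hG c hc
    obtain ⟨Q, hQg, q, v, hq, -, hv, hvs, hvf⟩ := Groth.Agent.S4147.result S G G' hG u hu T i hi
    obtain ⟨D, hDg, d, hD, -, hd, -⟩ := Groth.Agent.S4118.result S G' Q q hq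
    haveI := hvs; haveI := hvf
    obtain ⟨w, h₁, h₂, h₃, h₄⟩ :=
      MTImage.exists_isPullback_cartan u hker hconn' i hi q hq v hv c hC d hD hd
    exact ⟨D, hDg, d, w, hd, h₁, h₂, h₃, h₄⟩
  · obtain ⟨Q, hQg, q, hq, hD⟩ := MTImage.exists_torus_of_cartan
      (MTImage.fpqcLocally_of_etaleLocally (Groth.Agent.S8428.result S G G' hG u hu)) c' hc'
    obtain ⟨T, hTg, i, v, hi, -, hv, hvs, hvf⟩ := MTImage.exists_preimage_torus hG u hu hker q hq
    obtain ⟨C, hCg, c, hC, -, hc, -⟩ := Groth.Agent.S4118.result S G T i hi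
    haveI := hvs; haveI := hvf
    obtain ⟨w, h₁, h₂, h₃, h₄⟩ :=
      MTImage.exists_isPullback_cartan u hker hconn' i hi q hq v hv c hC c' hD hc'
    exact ⟨C, hCg, c, w, hc, h₁, h₂, h₃, h₄⟩

end Groth.Agent.S8437
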