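import Groth.Statements.S2334
import Groth.Agent.DvrDom.Valuative

set_option autoImplicit false
universe u
open CategoryTheory CategoryTheory.Limits AlgebraicGeometry
open EGA2

namespace Groth.Agent.S2334

/-- Locally Noetherian case of the valuative criterion of separatedness: let Y be a locally Noetherian
scheme and f : X → Y locally of finite type. Then f is separated if and only if for every discrete
valuation ring A with fraction field K, any two morphisms Spec A → X with the same composite to Y
which agree on Spec K are equal. (In the general criterion the diagonal must be assumed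
quasi-compact; that is automatic here.) -/
theorem result {X Y : Scheme.{u}} [IsLocallyNoetherian Y] (f : X ⟶ Y) [LocallyOfFiniteType f] :
    IsSeparated f ↔ ∀ (A : Type u) [CommRing A] [IsDomain A] [IsDiscreteValuationRing A] (g₁ g₂ : (Spec (CommRingCat.of A)) ⟶ X),
      g₁ ≫ f = g₂ ≫ f → (Spec.map (CommRingCat.ofHom (algebraMap A (FractionRing A)))) ≫ g₁ = (Spec.map (CommRingCat.ofHom (algebraMap A (FractionRing A)))) ≫ g₂ → g₁ = g₂ := by
  refine ⟨fun _ A _ _ _ g₁ g₂ h1 h2 ↦ ?_, fun H ↦ Groth.Agent.DvrDom.isSeparated_of_dvr f H⟩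
  let S : ValuativeCommSq f := ⟨A, FractionRing A,
    Spec.map (CommRingCat.ofHom (algebraMap A (FractionRing A))) ≫ g₁, g₁ ≫ f, ⟨by simp⟩⟩
  have hu := IsSeparated.valuativeCriterion f S
  exact congrArg CommSq.LiftStruct.l
    (hu.elim ⟨g₁, rfl, rfl⟩ ⟨g₂, h2.symm, h1.symm⟩)

end Groth.Agent.S2334
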