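import Groth.Statements.S6829
-- import your own Groth.Agent.* helpers here

set_option autoImplicit false
universe u
open Smoothing

namespace Groth.Agent.S6829

open scoped TensorProduct
open MvPolynomial


open TensorProduct in
/-- Let A be a finitely presented R-algebra, R → R' a ring map and a ∈ A. If a is elementary standard,
resp. strictly standard, in A over R, then a ⊗ 1 is elementary standard, resp. strictly standard, in
A ⊗_R R' over R' (written here as 1 ⊗ a in R' ⊗_R A). -/
theorem result {R A R' : Type u} [CommRing R] [CommRing A] [Algebra R A]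
    [Algebra.FinitePresentation R A] [CommRing R'] [Algebra R R'] (a : A) :
    (Smoothing.IsElementaryStandard R A a →
        Smoothing.IsElementaryStandard R' (R' ⊗[R] A) ((1 : R') ⊗ₜ[R] a)) ∧
      (Smoothing.IsStrictlyStandard R A a →
        Smoothing.IsStrictlyStandard R' (R' ⊗[R] A) ((1 : R') ⊗ₜ[R] a)) := by
  have key : ∀ P : Smoothing.MarkedPresentation R A, ∃ (rel : Fin P.m → MvPolynomial (Fin P.n) R')
      (φ : MvPolynomial (Fin P.n) R' →ₐ[R'] R' ⊗[R] A), Function.Surjective φ ∧
      RingHom.ker φ.toRingHom = Ideal.span (Set.range rel) ∧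
      (∀ cols, φ (Smoothing.jacobianMinor rel (Fin.castLE P.hcm) cols) =
        (1 : R') ⊗ₜ[R] P.hom (Smoothing.jacobianMinor P.rel (Fin.castLE P.hcm) cols)) ∧
      (Smoothing.KillsTail P a → ∀ b, φ b = (1 : R') ⊗ₜ[R] a → ∀ j : Fin P.m, P.c ≤ (j : ℕ) →
        b * rel j ∈ Ideal.span (rel '' {j' : Fin P.m | (j' : ℕ) < P.c}) ⊔
          Ideal.span (Set.range rel) ^ 2) := by
    intro P
    let e := MvPolynomial.algebraTensorAlgEquiv R R' (σ := Fin P.n)
    let T := Algebra.TensorProduct.map (AlgHom.id R' R') P.hom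
    have he : ∀ p, e.symm (MvPolynomial.map (algebraMap R R') p) = (1 : R') ⊗ₜ[R] p := fun p => by
      rw [AlgEquiv.symm_apply_eq]; simp [e]
    have hT : ∀ p, T.comp e.symm.toAlgHom (MvPolynomial.map (algebraMap R R') p) =
        (1 : R') ⊗ₜ[R] P.hom p := fun p => by
      change T (e.symm (MvPolynomial.map (algebraMap R R') p)) = _
      rw [he]
      simp [T]
    let rel : Fin P.m → MvPolynomial (Fin P.n) R' := fun j => MvPolynomial.map (algebraMap R R') (P.rel j)
    have hker : RingHom.ker (T.comp e.symm.toAlgHom).toRingHom = Ideal.span (Set.range rel) := by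
      have h1 : RingHom.ker T.toRingHom = Ideal.span
          ((fun p : MvPolynomial (Fin P.n) R => (1 : R') ⊗ₜ[R] p) '' Set.range P.rel) := by
        have h := Algebra.TensorProduct.lTensor_ker (A := R') P.hom P.surj
        have hk : RingHom.ker P.hom = Ideal.span (Set.range P.rel) := P.ker_eq
        rw [hk, Ideal.map_span] at h
        refine Eq.trans ?_ h
        ext z
        rfl
      ext p
      constructor
      · intro hp
        have hp' : e.symm p ∈ RingHom.ker T.toRingHom := hp
        rw [h1] at hp'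
        have := Ideal.mem_map_of_mem (e : R' ⊗[R] MvPolynomial (Fin P.n) R →+* MvPolynomial (Fin P.n) R') hp'
        rw [Ideal.map_span] at this
        rw [show (e : R' ⊗[R] MvPolynomial (Fin P.n) R →+* MvPolynomial (Fin P.n) R') (e.symm p) = p from
          e.apply_symm_apply p] at this
        refine Ideal.span_mono ?_ this
        rintro _ ⟨_, ⟨_, ⟨j, rfl⟩, rfl⟩, rfl⟩
        exact ⟨j, by
          change MvPolynomial.map (algebraMap R R') (P.rel j) = e ((1 : R') ⊗ₜ[R] P.rel j)
          simp [e]⟩
      · intro hp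
        refine (Ideal.span_le.mpr ?_) hp
        rintro _ ⟨j, rfl⟩
        change T.comp e.symm.toAlgHom (MvPolynomial.map (algebraMap R R') (P.rel j)) = 0
        have h0 : P.rel j ∈ RingHom.ker P.hom.toRingHom := P.ker_eq ▸ Ideal.subset_span ⟨j, rfl⟩
        rw [hT, show P.hom (P.rel j) = 0 from h0, TensorProduct.tmul_zero]
    refine ⟨rel, T.comp e.symm.toAlgHom, ?_, hker, fun cols => ?_, fun hkill b hb j hj => ?_⟩
    · change Function.Surjective (T ∘ e.symm)
      refine Function.Surjective.comp (g := T) ?_ e.symm.surjective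
      intro z
      induction z with
      | zero => exact ⟨0, map_zero _⟩
      | tmul r x => obtain ⟨p, rfl⟩ := P.surj x; exact ⟨r ⊗ₜ p, by simp [T]⟩
      | add x y hx hy =>
        obtain ⟨u, hu⟩ := hx
        obtain ⟨v, hv⟩ := hy
        exact ⟨u + v, by rw [map_add, hu, hv]⟩
    · rw [← hT]
      refine congrArg _ ?_
      simp only [Smoothing.jacobianMinor, RingHom.map_det]
      refine congrArg Matrix.det (Matrix.ext fun i k => ?_)
      simp only [rel, RingHom.mapMatrix_apply, Matrix.map_apply, Matrix.of_apply, pderiv_map]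
    · obtain ⟨a₁, ha₁⟩ := P.surj a
      have h0 : b - MvPolynomial.map (algebraMap R R') a₁ ∈ Ideal.span (Set.range rel) := by
        rw [← hker, RingHom.mem_ker]
        change T.comp e.symm.toAlgHom (b - _) = 0
        rw [map_sub, hb, hT, ha₁, sub_self]
      rw [show b * rel j = (b - MvPolynomial.map (algebraMap R R') a₁) * rel j +
        MvPolynomial.map (algebraMap R R') (a₁ * P.rel j) by rw [map_mul]; ring]
      refine add_mem (Submodule.mem_sup_right ?_) ?_
      · rw [sq]; exact Ideal.mul_mem_mul h0 (Ideal.subset_span ⟨j, rfl⟩)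
      · have h := Ideal.mem_map_of_mem (MvPolynomial.map (algebraMap R R')) (hkill a₁ ha₁ j hj)
        rwa [Ideal.map_sup, Ideal.map_pow, Ideal.map_span, Ideal.map_span, ← Set.range_comp,
          ← Set.image_comp] at h
  refine ⟨?_, ?_⟩
  · rintro ⟨P, ⟨a', ha'⟩, hkill⟩
    obtain ⟨rel, φ, hsurj, hker, hmin, hk⟩ := key P
    refine ⟨⟨P.n, P.m, P.c, P.hcn, P.hcm, rel, φ, hsurj, hker⟩, ⟨(1 : R') ⊗ₜ[R] a', ?_⟩, hk hkill⟩
    rw [hmin, Algebra.TensorProduct.tmul_mul_tmul, one_mul, ← ha']
  · rintro ⟨P, hspan, hkill⟩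
    obtain ⟨rel, φ, hsurj, hker, hmin, hk⟩ := key P
    refine ⟨⟨P.n, P.m, P.c, P.hcn, P.hcm, rel, φ, hsurj, hker⟩, ?_, hk hkill⟩
    have h := Ideal.mem_map_of_mem
      (Algebra.TensorProduct.includeRight : A →ₐ[R] R' ⊗[R] A).toRingHom hspan
    rw [Ideal.map_span, ← Set.range_comp] at h
    refine Ideal.span_mono ?_ h
    rintro _ ⟨cols, rfl⟩
    exact ⟨cols, hmin cols⟩

end Groth.Agent.S6829
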