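import Groth.Statements.S2108
import Groth.Agent.SmoothStd.Basic
-- import your own Groth.Agent.* helpers here

set_option autoImplicit false
universe u
open Smoothing

namespace Groth.Agent.S2108

open MvPolynomial
open scoped TensorProduct


/-- Let `A = R[x_1, …, x_n]/(f_1, …, f_m)` and `𝔮` a prime of `A` at which `R → A` is smooth. Then there
are `a ∈ A ∖ 𝔮`, an integer `c` and injections picking `c` relations and `c` variables such that `a`
is a multiple of the image of the corresponding Jacobian minor and `a f_ℓ` lies in the ideal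
generated by the chosen relations plus the square of the relation ideal, for every `ℓ`. -/
theorem result {R A : Type u} [CommRing R] [CommRing A] [Algebra R A] {n m : ℕ}
    (f : Fin m → MvPolynomial (Fin n) R) (φ : MvPolynomial (Fin n) R →ₐ[R] A) (hφ : Function.Surjective φ)
    (hker : RingHom.ker φ.toRingHom = Ideal.span (Set.range f)) (q : Ideal A) [q.IsPrime] [Algebra.IsSmoothAt R q] :
    ∃ a : A, a ∉ q ∧ ∃ (c : ℕ) (rows : Fin c ↪ Fin m) (cols : Fin c ↪ Fin n) (a' : A),
      a = a' * φ (Smoothing.jacobianMinor f rows cols) ∧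
      ∀ a₁ : MvPolynomial (Fin n) R, φ a₁ = a → ∀ ℓ : Fin m,
        a₁ * f ℓ ∈ Ideal.span (Set.range (f ∘ rows)) ⊔ Ideal.span (Set.range f) ^ 2 := by
  classical
  haveI : Algebra.FinitePresentation R A :=
    Algebra.FinitePresentation.of_surjective hφ (by rw [hker]; exact ⟨Finset.univ.image f, by simp⟩)
  let G := Algebra.Generators.ofAlgHom φ hφ
  have hev : (aeval G.val : MvPolynomial (Fin n) R →ₐ[R] A) = φ := MvPolynomial.algHom_ext fun i => by
    rw [aeval_X]; rfl
  have hGker : G.ker = Ideal.span (Set.range f) := by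
    rw [G.ker_eq_ker_aeval_val, hev]; exact hker
  have hfk : ∀ l, f l ∈ G.toExtension.ker := fun l => by
    change f l ∈ G.ker
    rw [hGker]
    exact Ideal.subset_span ⟨l, rfl⟩
  let w : Fin m → G.toExtension.Cotangent := fun l => Algebra.Extension.Cotangent.mk ⟨f l, hfk l⟩
  have hsm : ∀ (a : G.toExtension.Ring) (x : G.toExtension.ker),
      Algebra.Extension.Cotangent.mk (a • x) = φ a • Algebra.Extension.Cotangent.mk x := fun a x => by
    rw [map_smul, ← algebraMap_smul A a, ← hev]
    exact congrArg (· • Algebra.Extension.Cotangent.mk x) (G.algebraMap_apply a)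
  have hwsp : Submodule.span A (Set.range w) = ⊤ := by
    rw [eq_top_iff]
    intro z _
    obtain ⟨⟨p, hp⟩, rfl⟩ := Algebra.Extension.Cotangent.mk_surjective z
    have hp' : p ∈ Ideal.span (Set.range f) := hGker ▸ hp
    obtain ⟨cf, hcf⟩ := Ideal.mem_span_range_iff_exists_fun.mp hp'
    have h : (⟨p, hp⟩ : G.toExtension.ker) = ∑ l, (show G.toExtension.Ring from cf l) • ⟨f l, hfk l⟩ := by
      refine Subtype.ext ?_
      rw [AddSubmonoidClass.coe_finsetSum]
      exact hcf.symm
    rw [h, map_sum]
    refine Submodule.sum_mem _ fun l _ => ?_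
    rw [hsm]
    exact Submodule.smul_mem _ _ (Submodule.subset_span ⟨l, rfl⟩)
  haveI : Module.Finite A G.toExtension.Cotangent :=
    ⟨⟨Finset.univ.image w, by rw [Finset.coe_image, Finset.coe_univ, Set.image_univ, hwsp]⟩⟩
  have hsmq : (⟨q, inferInstance⟩ : PrimeSpectrum A) ∈ Algebra.smoothLocus R A := ‹Algebra.IsSmoothAt R q›
  rw [Algebra.smoothLocus_eq_compl_support_inter] at hsmq
  obtain ⟨hH1, hfree⟩ := hsmq
  rw [Set.mem_compl_iff, Module.notMem_support_iff, LocalizedModule.subsingleton_iff] at hH1
  rw [Module.mem_freeLocus] at hfree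
  have hker' : ∀ x : G.toExtension.Cotangent, G.toExtension.cotangentComplex x = 0 → ∃ s ∉ q, s • x = 0 := by
    intro x hx
    obtain ⟨s, hs, hs0⟩ := hH1 (G.equivH1Cotangent ⟨x, hx⟩)
    rw [← map_smul, EmbeddingLike.map_eq_zero_iff] at hs0
    exact ⟨s, hs, congrArg Subtype.val hs0⟩
  let V : Fin m → Fin n → A := fun l i => φ (pderiv i (f l))
  have hV : ∀ l i, G.cotangentSpaceBasis.repr (G.toExtension.cotangentComplex (w l)) i = V l i := by
    intro l i
    change G.cotangentSpaceBasis.repr ((1 : A) ⊗ₜ KaehlerDifferential.D R G.toExtension.Ring (f l)) i = _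
    rw [G.cotangentSpaceBasis_repr_one_tmul, hev]
  let k := q.ResidueField
  let vb : Fin m → Fin n → k := fun l i => algebraMap A k (V l i)
  obtain ⟨κ, a, ha, hsp, hli⟩ := exists_linearIndependent' k vb
  haveI : Finite κ := Finite.of_injective a ha
  haveI : Fintype κ := Fintype.ofFinite κ
  let c := Fintype.card κ
  let e : Fin c ≃ κ := (Fintype.equivFin κ).symm
  let rows : Fin c ↪ Fin m := ⟨a ∘ e, ha.comp e.injective⟩
  obtain ⟨cols, hcols⟩ := Groth.Agent.SmoothStd.exists_minor (Matrix.of fun j i => vb (rows j) i) (hli.comp e e.injective)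
  have hdet : φ (Smoothing.jacobianMinor f rows cols) ∉ q := by
    intro h
    rw [← Ideal.algebraMap_residueField_eq_zero] at h
    refine hcols ?_
    rw [Smoothing.jacobianMinor] at h
    have h' : ((algebraMap A k).comp φ.toRingHom)
        (Matrix.det (Matrix.of fun j t : Fin c => pderiv (cols t) (f (rows j)))) = 0 := h
    rw [RingHom.map_det] at h'
    exact h'
  let N : Submodule A G.toExtension.Cotangent := Submodule.span A (Set.range (w ∘ rows))
  have hN : ∀ x : G.toExtension.Cotangent, ∃ s ∉ q, ∃ y ∈ N,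
      s • G.toExtension.cotangentComplex x - G.toExtension.cotangentComplex y ∈
        q • (⊤ : Submodule A G.toExtension.CotangentSpace) := by
    intro x
    have hx : x ∈ Submodule.span A (Set.range w) := hwsp ▸ Submodule.mem_top
    induction hx using Submodule.span_induction with
    | mem z hz =>
      obtain ⟨l, rfl⟩ := hz
      have hl : vb l ∈ Submodule.span k (Set.range (vb ∘ rows)) := by
        rw [show vb ∘ rows = (vb ∘ a) ∘ e from rfl, Set.range_comp, e.surjective.range_eq, Set.image_univ, hsp]
        exact Submodule.subset_span ⟨l, rfl⟩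
      obtain ⟨lam, hlam⟩ := (Submodule.mem_span_range_iff_exists_fun k).mp hl
      obtain ⟨⟨s, hs⟩, hint⟩ := IsLocalization.exist_integer_multiples_of_finite (nonZeroDivisors (A ⧸ q)) lam
      choose num hnum using hint
      obtain ⟨s', rfl⟩ := Ideal.Quotient.mk_surjective s
      choose num' hnum' using fun j => Ideal.Quotient.mk_surjective (num j)
      refine ⟨s', fun h => nonZeroDivisors.ne_zero hs (Ideal.Quotient.eq_zero_iff_mem.mpr h),
        ∑ j, num' j • w (rows j), Submodule.sum_mem _ fun j _ => Submodule.smul_mem _ _ (Submodule.subset_span ⟨j, rfl⟩), ?_⟩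
      rw [← G.cotangentSpaceBasis.sum_repr
        (s' • G.toExtension.cotangentComplex (w l) - G.toExtension.cotangentComplex (∑ j, num' j • w (rows j)))]
      refine Submodule.sum_mem _ fun i _ => Submodule.smul_mem_smul ?_ trivial
      simp only [map_sub, map_sum, map_smul, Finsupp.sub_apply, Finsupp.smul_apply, Finsupp.finsetSum_apply,
        smul_eq_mul, hV]
      rw [← Ideal.algebraMap_residueField_eq_zero, map_sub, map_mul, map_sum, sub_eq_zero]
      have hnk : ∀ j, algebraMap A k (num' j) = algebraMap A k s' * lam j := fun j => by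
        rw [IsScalarTower.algebraMap_apply A (A ⧸ q) k (num' j), Ideal.Quotient.algebraMap_eq, hnum', hnum,
          Algebra.smul_def, IsScalarTower.algebraMap_apply A (A ⧸ q) k s', Ideal.Quotient.algebraMap_eq]
      have hl' := congrFun hlam i
      simp only [Finset.sum_apply, Pi.smul_apply, Function.comp_apply, smul_eq_mul] at hl'
      calc algebraMap A k s' * algebraMap A k (V l i) = algebraMap A k s' * ∑ j, lam j * vb (rows j) i := by
            rw [hl']
        _ = _ := by
            rw [Finset.mul_sum]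
            exact Finset.sum_congr rfl fun j _ => by rw [map_mul, hnk, mul_assoc]
    | zero => exact ⟨1, fun h => Ideal.IsPrime.ne_top ‹_› ((Ideal.eq_top_iff_one _).mpr h), 0, zero_mem _, by simp⟩
    | add x y _ _ hx hy =>
      obtain ⟨s, hs, u, hu, hsu⟩ := hx
      obtain ⟨t, ht, v, hv, htv⟩ := hy
      refine ⟨s * t, fun h => (Ideal.IsPrime.mem_or_mem ‹_› h).elim hs ht, t • u + s • v,
        add_mem (N.smul_mem _ hu) (N.smul_mem _ hv), ?_⟩
      have := add_mem (Submodule.smul_mem _ t hsu) (Submodule.smul_mem _ s htv)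
      convert this using 1
      rw [map_add, map_add, map_smul, map_smul]
      module
    | smul b x _ hx =>
      obtain ⟨s, hs, u, hu, hsu⟩ := hx
      refine ⟨s, hs, b • u, N.smul_mem _ hu, ?_⟩
      have := Submodule.smul_mem _ b hsu
      convert this using 1
      rw [map_smul, map_smul]
      module
  have key : ∀ l, ∃ s ∉ q, s • w l ∈ N := fun l =>
    Groth.Agent.SmoothStd.exists_smul_mem q G.toExtension.cotangentComplex G.toExtension.toKaehler
      G.toExtension.exact_cotangentComplex_toKaehler G.toExtension.toKaehler_surjective hker'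
      (haveI := hfree; inferInstance) N hN (w l)
  choose s hs hsN using key
  refine ⟨(∏ l, s l) * φ (Smoothing.jacobianMinor f rows cols), fun h => ?_, c, rows, cols, ∏ l, s l, rfl, ?_⟩
  · refine (Ideal.IsPrime.mem_or_mem ‹_› h).elim (fun h => ?_) hdet
    obtain ⟨l, -, hl⟩ := Ideal.IsPrime.prod_mem_iff.mp h
    exact hs l hl
  intro a₁ ha₁ l
  have hmem : φ a₁ • w l ∈ N := by
    rw [ha₁, ← Finset.prod_erase_mul _ _ (Finset.mem_univ l), mul_right_comm, mul_smul]
    exact N.smul_mem _ (hsN l)
  obtain ⟨cf, hcf⟩ := (Submodule.mem_span_range_iff_exists_fun A).mp hmem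
  choose cf' hcf' using fun j => hφ (cf j)
  have heq : Algebra.Extension.Cotangent.mk
      ((show G.toExtension.Ring from a₁) • (⟨f l, hfk l⟩ : G.toExtension.ker)) =
      Algebra.Extension.Cotangent.mk
        (∑ j, (show G.toExtension.Ring from cf' j) • (⟨f (rows j), hfk (rows j)⟩ : G.toExtension.ker)) := by
    rw [hsm, map_sum]
    simp only [hsm, hcf']
    exact hcf.symm
  rw [Algebra.Extension.Cotangent.mk_eq_mk_iff_sub_mem] at heq
  rw [AddSubmonoidClass.coe_finsetSum] at heq
  change a₁ * f l - ∑ j, cf' j * f (rows j) ∈ G.ker ^ 2 at heq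
  rw [hGker] at heq
  rw [← sub_add_cancel (a₁ * f l) (∑ j, cf' j * f (rows j))]
  exact add_mem (Submodule.mem_sup_right heq)
    (Submodule.mem_sup_left (Ideal.sum_mem _ fun j _ => Ideal.mul_mem_left _ _ (Ideal.subset_span ⟨j, rfl⟩)))


end Groth.Agent.S2108
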