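import Groth.Statements.S19959
import Mathlib
import Groth.Agent.Desing.Lifting
import Groth.Agent.Desing.Relative
-- import your own Groth.Agent.* helpers here

set_option autoImplicit false
universe u
open Smoothing

namespace Groth.Agent.S19959

/-- Let R be Noetherian, Λ an R-algebra and π ∈ R with the annihilators of π and π² equal both in R and
in Λ. Let A → Λ be an R-algebra map with A finitely presented and π strictly standard in A over R,
and let A → C → Λ/π⁸Λ be a factorization of the induced map A → Λ/π⁸Λ with C a finitely presented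
R/π⁸R-algebra. Then there is a factorization A → B → Λ with B finitely presented over R such that R
→ B is smooth at every prime of B not containing π (equivalently, B being finitely presented, R_π →
B_π is smooth) and such that the extension to Λ/π⁸Λ of the singular ideal of C over R/π⁸R (the
radical ideal of the non-smooth locus) is contained in the image in Λ/π⁸Λ of the radical of the
extension to Λ of the singular ideal of B over R. -/
theorem result {R Λ A C : Type u} [CommRing R] [IsNoetherianRing R] [CommRing Λ]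
    [Algebra R Λ] (π : R) (hR : ∀ r : R, π ^ 2 * r = 0 → π * r = 0)
    (hΛ : ∀ x : Λ, π ^ 2 • x = 0 → π • x = 0) [CommRing A] [Algebra R A]
    [Algebra.FinitePresentation R A] (φ : A →ₐ[R] Λ)
    (hπ : Smoothing.IsStrictlyStandard R A (algebraMap R A π))
    [CommRing C] [Algebra R C] [Algebra (R ⧸ Ideal.span {π ^ 8}) C] [IsScalarTower R (R ⧸ Ideal.span {π ^ 8}) C]
    [Algebra.FinitePresentation (R ⧸ Ideal.span {π ^ 8}) C]
    (γ : A →ₐ[R] C) (g : C →ₐ[R] Λ ⧸ Ideal.span {algebraMap R Λ (π ^ 8)})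
    (hfac : ∀ a : A, g (γ a) = Ideal.Quotient.mk (Ideal.span {algebraMap R Λ (π ^ 8)}) (φ a)) :
    ∃ (B : Type u) (_ : CommRing B) (_ : Algebra R B), Algebra.FinitePresentation R B ∧
      ∃ (α : A →ₐ[R] B) (β : B →ₐ[R] Λ), β.comp α = φ ∧
        (∀ (Q : Ideal B) [Q.IsPrime], algebraMap R B π ∉ Q → Algebra.IsSmoothAt R Q) ∧
        (Smoothing.singularIdeal (R ⧸ Ideal.span {π ^ 8}) C).map g ≤
          ((Smoothing.singularIdeal R B).map β).radical.map (Ideal.Quotient.mk (Ideal.span {algebraMap R Λ (π ^ 8)})) := by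
  classical
  have hanR : ∀ (k : ℕ) (r : R), π ^ (k + 1) * r = 0 → π * r = 0 := by
    intro k
    induction k with
    | zero => intro r hr; simpa using hr
    | succ k ih =>
      intro r hr
      exact ih r (by
        have := hR (π ^ k * r) (by linear_combination hr)
        linear_combination this)
  have hanΛ : ∀ (k : ℕ) (x : Λ), π ^ (k + 1) • x = 0 → π • x = 0 := by
    intro k
    induction k with
    | zero => intro x hx; simpa using hx
    | succ k ih =>
      intro x hx
      refine ih x ?_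
      have := hΛ (π ^ k • x) (by rwa [← mul_smul, ← pow_add, Nat.add_comm])
      rwa [← mul_smul, ← pow_succ'] at this
  have h8 : (π ^ 4) ^ 2 = π ^ 8 := by ring
  have hR4 : ∀ r : R, (π ^ 4) ^ 2 * r = 0 → π ^ 4 * r = 0 := fun r hr => by
    have := hanR 7 r (by rwa [h8] at hr)
    linear_combination (π ^ 3) * this
  have hΛ4 : ∀ x : Λ, (π ^ 4) ^ 2 • x = 0 → π ^ 4 • x = 0 := fun x hx => by
    have := hanΛ 7 x (by rwa [h8] at hx)
    rw [show π ^ 4 = π ^ 3 * π from pow_succ π 3, mul_smul, this, smul_zero]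
  let e8 : (R ⧸ Ideal.span {(π ^ 4) ^ 2}) ≃ₐ[R] R ⧸ Ideal.span {π ^ 8} :=
    Ideal.quotientEquivAlgOfEq R (by rw [h8])
  letI : Algebra (R ⧸ Ideal.span {(π ^ 4) ^ 2}) C :=
    ((algebraMap (R ⧸ Ideal.span {π ^ 8}) C).comp e8.toAlgHom.toRingHom).toAlgebra
  haveI : IsScalarTower R (R ⧸ Ideal.span {(π ^ 4) ^ 2}) C := IsScalarTower.of_algebraMap_eq fun r => by
    change algebraMap R C r = algebraMap (R ⧸ Ideal.span {π ^ 8}) C (e8 (algebraMap R _ r))
    rw [AlgEquiv.commutes, ← IsScalarTower.algebraMap_apply]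
  letI : Algebra (R ⧸ Ideal.span {(π ^ 4) ^ 2}) (R ⧸ Ideal.span {π ^ 8}) := e8.toAlgHom.toRingHom.toAlgebra
  haveI : IsScalarTower (R ⧸ Ideal.span {(π ^ 4) ^ 2}) (R ⧸ Ideal.span {π ^ 8}) C :=
    IsScalarTower.of_algebraMap_eq fun _ => rfl
  let e8' : (R ⧸ Ideal.span {(π ^ 4) ^ 2}) ≃ₐ[R ⧸ Ideal.span {(π ^ 4) ^ 2}] R ⧸ Ideal.span {π ^ 8} :=
    AlgEquiv.ofRingEquiv (f := e8.toRingEquiv) fun _ => rfl
  haveI : Algebra.FinitePresentation (R ⧸ Ideal.span {(π ^ 4) ^ 2}) (R ⧸ Ideal.span {π ^ 8}) :=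
    Algebra.FinitePresentation.equiv e8'
  haveI : Algebra.FinitePresentation (R ⧸ Ideal.span {(π ^ 4) ^ 2}) C :=
    Algebra.FinitePresentation.trans _ (R ⧸ Ideal.span {π ^ 8}) C
  have hI : Ideal.span {algebraMap R Λ (π ^ 8)} = Ideal.span {algebraMap R Λ ((π ^ 4) ^ 2)} := by rw [h8]
  let eΛ := Ideal.quotientEquivAlgOfEq R hI
  obtain ⟨D, _, _, hDfp, δ, ψ, hcompat, hsmAway, hsmOver⟩ :=
    Groth.Agent.Desing.exists_lifting (π ^ 4) hR4 hΛ4 (eΛ.toAlgHom.comp g)
  haveI := hDfp
  have hψ : ∀ (a : A) (d : D), Ideal.Quotient.mk (Ideal.span {algebraMap R D (π ^ 4)}) d = (ψ.comp γ) a →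
      δ d - φ a ∈ Ideal.span {algebraMap R Λ (π ^ 4)} := fun a d hd => hcompat (γ a) d (φ a) hd (by
    change _ = eΛ (g (γ a))
    rw [hfac]
    rfl)
  obtain ⟨B, _, _, _, _, hBfp, α, β, hβα, hβδ, -, hsing⟩ :=
    Groth.Agent.Desing.exists_desingularize_relative π hR hΛ φ δ hπ (ψ.comp γ) hψ
  have hπD : algebraMap R D π ∈ Smoothing.singularIdeal R D := by
    rw [Smoothing.singularIdeal, PrimeSpectrum.mem_vanishingIdeal]
    intro q hq
    by_contra hmem
    exact hq (hsmAway q.asIdeal (by rw [map_pow]; exact fun h => hmem (q.isPrime.mem_of_pow_mem 4 h)))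
  have hπB : algebraMap R B π ∈ Smoothing.singularIdeal R B := by
    rw [IsScalarTower.algebraMap_apply R D B]
    exact hsing (Ideal.mem_map_of_mem _ hπD)
  refine ⟨B, inferInstance, inferInstance, hBfp, α, β, hβα, fun Q _ hQ => ?_, ?_⟩
  · rw [Smoothing.singularIdeal, PrimeSpectrum.mem_vanishingIdeal] at hπB
    by_contra hns
    exact hQ (hπB ⟨Q, inferInstance⟩ hns)
  · refine Ideal.map_le_iff_le_comap.mpr fun c hc => ?_
    obtain ⟨l, hl⟩ := Ideal.Quotient.mk_surjective (g c)
    obtain ⟨d, hd⟩ := Ideal.Quotient.mk_surjective (ψ c)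
    rw [Ideal.mem_comap, ← hl]
    refine Ideal.mem_map_of_mem _ ?_
    have hdD : d ∈ Smoothing.singularIdeal R D := by
      rw [Smoothing.singularIdeal, PrimeSpectrum.mem_vanishingIdeal]
      intro q hq
      by_contra hmem
      have hp : algebraMap R D (π ^ 4) ∈ q.asIdeal := by
        by_contra hp
        exact hq (hsmAway q.asIdeal hp)
      have hle : Ideal.span {algebraMap R D (π ^ 4)} ≤ q.asIdeal := by
        rwa [Ideal.span_le, Set.singleton_subset_iff]
      let Q' := q.asIdeal.map (Ideal.Quotient.mk (Ideal.span {algebraMap R D (π ^ 4)}))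
      haveI : Q'.IsPrime := Ideal.map_isPrime_of_surjective Ideal.Quotient.mk_surjective (by rwa [Ideal.mk_ker])
      have hcm : Q'.comap (Ideal.Quotient.mk (Ideal.span {algebraMap R D (π ^ 4)})) = q.asIdeal := by
        rw [Ideal.comap_map_of_surjective' _ Ideal.Quotient.mk_surjective, Ideal.mk_ker, sup_eq_left.mpr hle]
      have hcQ : c ∉ Q'.comap ψ := fun h => hmem (by
        rw [← hcm, Ideal.mem_comap, hd]
        exact h)
      have hsmC : Algebra.IsSmoothAt (R ⧸ Ideal.span {(π ^ 4) ^ 2}) (Q'.comap ψ) := by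
        have hbe : Algebra.IsSmoothAt (R ⧸ Ideal.span {π ^ 8}) (Q'.comap ψ) := by
          rw [Smoothing.singularIdeal, PrimeSpectrum.mem_vanishingIdeal] at hc
          by_contra hns
          exact hcQ (hc ⟨Q'.comap ψ, inferInstance⟩ hns)
        haveI : Algebra.Smooth (R ⧸ Ideal.span {(π ^ 4) ^ 2}) (R ⧸ Ideal.span {π ^ 8}) :=
          Algebra.Smooth.of_equiv e8'
        unfold Algebra.IsSmoothAt at hbe ⊢
        exact Algebra.FormallySmooth.comp _ (R ⧸ Ideal.span {π ^ 8}) _
      have hsm := hsmOver Q' hsmC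
      simp only [hcm] at hsm
      exact hq hsm
    have h1 : δ d ∈ ((Smoothing.singularIdeal R B).map β).radical := by
      rw [show δ d = β (algebraMap D B d) from (AlgHom.congr_fun hβδ d).symm]
      exact Ideal.le_radical (Ideal.mem_map_of_mem _ (hsing (Ideal.mem_map_of_mem _ hdD)))
    have h2 : δ d - l ∈ ((Smoothing.singularIdeal R B).map β).radical := by
      obtain ⟨z, hz⟩ := Ideal.mem_span_singleton'.mp (hcompat c d l hd (by
        change _ = eΛ (g c)
        rw [← hl]
        rfl))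
      rw [← hz, map_pow, ← β.commutes π]
      exact Ideal.mul_mem_left _ _ (Ideal.pow_mem_of_mem _ (Ideal.le_radical (Ideal.mem_map_of_mem _ hπB)) 4 (by norm_num))
    simpa using sub_mem h1 h2

end Groth.Agent.S19959
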