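import Groth.Statements.S2026
import Groth.Agent.StdSmooth.Strictly
import Groth.Agent.S2108
-- import your own Groth.Agent.* helpers here

set_option autoImplicit false
universe u
open Smoothing

namespace Groth.Agent.S2026

/-- For a finitely presented `R`-algebra `A`, the singular ideal (functions vanishing on the non-smooth
locus) coincides with the radical of the ideal spanned by all strictly standard elements, and
equally with the radical of the ideal spanned by all elementary standard elements. -/
theorem result {R A : Type u} [CommRing R] [CommRing A]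
    [Algebra R A] [Algebra.FinitePresentation R A] :
    Smoothing.singularIdeal R A = (Ideal.span {a : A | Smoothing.IsStrictlyStandard R A a}).radical ∧
      Smoothing.singularIdeal R A =
        (Ideal.span {a : A | Smoothing.IsElementaryStandard R A a}).radical := by
  classical
  obtain ⟨n, φ, hφ, hfg⟩ := (inferInstance : Algebra.FinitePresentation R A).out
  obtain ⟨T, hT⟩ := hfg
  let f : Fin T.card → MvPolynomial (Fin n) R := fun i => (T.equivFin.symm i : MvPolynomial (Fin n) R)
  have hker : RingHom.ker φ.toRingHom = Ideal.span (Set.range f) := by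
    rw [← hT]
    congr 1
    ext x
    exact ⟨fun hx => ⟨T.equivFin ⟨x, hx⟩, by simp [f]⟩, fun ⟨i, hi⟩ => hi ▸ (T.equivFin.symm i).2⟩
  have h1 : Smoothing.singularIdeal R A ≤ (Ideal.span {a : A | Smoothing.IsElementaryStandard R A a}).radical := by
    intro x hx
    rw [Ideal.radical_eq_sInf, Submodule.mem_sInf]
    rintro q ⟨hle, hq⟩
    by_contra hxq
    have hsm : (⟨q, hq⟩ : PrimeSpectrum A) ∈ Algebra.smoothLocus R A := by
      by_contra h
      rw [Smoothing.singularIdeal, PrimeSpectrum.mem_vanishingIdeal] at hx
      exact hxq (hx ⟨q, hq⟩ h)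
    haveI : Algebra.IsSmoothAt R q := hsm
    obtain ⟨a, haq, c, rows, cols, a', ha, hcond⟩ := Groth.Agent.S2108.result f φ hφ hker q
    exact haq (hle (Ideal.subset_span
      (Groth.Agent.StdSmooth.isElementaryStandard_of_choice f φ hφ hker rows cols a a' ha hcond)))
  have h2 : Ideal.span {a : A | Smoothing.IsElementaryStandard R A a} ≤
      Ideal.span {a : A | Smoothing.IsStrictlyStandard R A a} :=
    Ideal.span_mono fun a ha => Groth.Agent.StdSmooth.isStrictlyStandard_of_elementary a ha
  have h3 : (Ideal.span {a : A | Smoothing.IsStrictlyStandard R A a}).radical ≤ Smoothing.singularIdeal R A := by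
    intro x hx
    rw [Smoothing.singularIdeal, PrimeSpectrum.mem_vanishingIdeal]
    intro p hp
    have hle : Ideal.span {a : A | Smoothing.IsStrictlyStandard R A a} ≤ p.asIdeal :=
      Ideal.span_le.mpr fun a ha => by
        by_contra h
        exact hp (Groth.Agent.StdSmooth.mem_smoothLocus_of_strictly a ha p h)
    exact (p.isPrime.radical_le_iff.mpr hle) hx
  exact ⟨le_antisymm (h1.trans (Ideal.radical_mono h2)) h3,
    le_antisymm h1 ((Ideal.radical_mono h2).trans h3)⟩


end Groth.Agent.S2026
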