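import Groth.Statements.S2110
import Groth.Agent.SymKaehler.Basic
-- import your own Groth.Agent.* helpers here

set_option autoImplicit false
universe u
open Smoothing

namespace Groth.Agent.S2110

open scoped TensorProduct

theorem exists_split_of_localized {A M F O : Type u} [CommRing A] [AddCommGroup M] [Module A M]
    [AddCommGroup F] [Module A F] [AddCommGroup O] [Module A O] [Module.Finite A M]
    [Module.FinitePresentation A F] (d : M →ₗ[A] F) (g : F →ₗ[A] O) (hex : Function.Exact d g)
    (hg : Function.Surjective g) (S : Submonoid A) (hker : ∀ x, d x = 0 → ∃ s : S, s • x = 0)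
    [Module.Projective (Localization S) (LocalizedModule S O)] :
    ∃ (r : F →ₗ[A] M) (t : A), t ∈ S ∧ ∀ m, r (d m) = t • m := by
  let L := Localization S
  let dL : LocalizedModule S M →ₗ[L] LocalizedModule S F := LocalizedModule.map S d
  let gL : LocalizedModule S F →ₗ[L] LocalizedModule S O := LocalizedModule.map S g
  have hexL : Function.Exact dL gL := LocalizedModule.map_exact S d g hex
  have hgL : Function.Surjective gL := IsLocalizedModule.map_surjective S
    (LocalizedModule.mkLinearMap S F) (LocalizedModule.mkLinearMap S O) g hg
  have hdL : Function.Injective dL := by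
    rw [injective_iff_map_eq_zero]
    intro z hz
    induction z using LocalizedModule.induction_on with
    | h m s =>
      change IsLocalizedModule.map S (LocalizedModule.mkLinearMap S M)
        (LocalizedModule.mkLinearMap S F) d (LocalizedModule.mk m s) = 0 at hz
      rw [IsLocalizedModule.map_LocalizedModules, ← LocalizedModule.zero_mk 1, LocalizedModule.mk_eq] at hz
      obtain ⟨b, hb⟩ := hz
      rw [one_smul, smul_zero, smul_zero, Submonoid.smul_def, ← map_smul] at hb
      obtain ⟨c, hc⟩ := hker _ hb
      rw [← LocalizedModule.zero_mk 1, LocalizedModule.mk_eq]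
      refine ⟨c * b, ?_⟩
      rw [one_smul, smul_zero, smul_zero, mul_smul]
      exact hc
  obtain ⟨σ, hσ⟩ := Module.projective_lifting_property gL LinearMap.id hgL
  let v : LocalizedModule S F →ₗ[L] LocalizedModule S F := LinearMap.id - σ.comp gL
  have hv : ∀ z, v z ∈ LinearMap.range dL := fun z => by
    refine (hexL _).mp ?_
    simp only [v, LinearMap.sub_apply, LinearMap.id_apply, LinearMap.comp_apply, map_sub]
    rw [← LinearMap.comp_apply gL σ, hσ, LinearMap.id_apply, sub_self]
  let r₁ : LocalizedModule S F →ₗ[L] LocalizedModule S M :=
    (LinearEquiv.ofInjective dL hdL).symm.toLinearMap.comp (LinearMap.codRestrict _ v hv)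
  have hr₁ : ∀ z, r₁ (dL z) = z := fun z => by
    have h1 : v (dL z) = dL z := by
      simp only [v, LinearMap.sub_apply, LinearMap.id_apply, LinearMap.comp_apply,
        hexL.apply_apply_eq_zero, map_zero, sub_zero]
    simp only [r₁, LinearMap.comp_apply, LinearEquiv.coe_coe, LinearEquiv.symm_apply_eq]
    exact Subtype.ext h1
  let g₁ : F →ₗ[A] LocalizedModule S M :=
    (r₁.restrictScalars A).comp (LocalizedModule.mkLinearMap S F)
  obtain ⟨r₀, s, hs⟩ := Module.FinitePresentation.exists_lift_of_isLocalizedModule S
    (LocalizedModule.mkLinearMap S M) g₁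
  have hcomp : (LocalizedModule.mkLinearMap S M).comp (r₀.comp d) =
      (LocalizedModule.mkLinearMap S M).comp ((s : A) • LinearMap.id) := by
    apply LinearMap.ext
    intro m
    have h1 := LinearMap.congr_fun hs (d m)
    have h2 : g₁ (d m) = LocalizedModule.mkLinearMap S M m := by
      have h3 : dL (LocalizedModule.mkLinearMap S M m) = LocalizedModule.mkLinearMap S F (d m) :=
        IsLocalizedModule.map_apply S (LocalizedModule.mkLinearMap S M)
          (LocalizedModule.mkLinearMap S F) d m
      change r₁ (LocalizedModule.mkLinearMap S F (d m)) = _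
      rw [← h3, hr₁]
    simp only [LinearMap.comp_apply, LinearMap.smul_apply, LinearMap.id_apply] at h1 ⊢
    rw [h1, h2, map_smul]
    rfl
  obtain ⟨t, ht⟩ := Module.Finite.exists_smul_of_comp_eq_of_isLocalizedModule S
    (LocalizedModule.mkLinearMap S M) _ _ hcomp
  refine ⟨(t : A) • r₀, (t * s : S), (t * s).2, fun m => ?_⟩
  have h4 := LinearMap.congr_fun ht m
  simp only [LinearMap.smul_apply, LinearMap.comp_apply, LinearMap.id_apply, Submonoid.smul_def] at h4
  rw [LinearMap.smul_apply, Submonoid.coe_mul, mul_smul]
  exact h4

/-- After inverting a power of `a` the cotangent complex splits. -/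
theorem exists_split {R A : Type u} [CommRing R] [CommRing A] [Algebra R A] {n : ℕ}
    (G : Algebra.Generators R A (Fin n)) (hG : G.toExtension.ker.FG) (a : A)
    (hsm : Algebra.Smooth R (Localization.Away a)) :
    ∃ (r : G.toExtension.CotangentSpace →ₗ[A] G.toExtension.Cotangent) (t : A),
      t ∈ Submonoid.powers a ∧ ∀ m, r (G.toExtension.cotangentComplex m) = t • m := by
  let M := G.toExtension.Cotangent
  let F := G.toExtension.CotangentSpace
  let d : M →ₗ[A] F := G.toExtension.cotangentComplex
  let g : F →ₗ[A] Ω[A⁄R] := G.toExtension.toKaehler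
  have hex : Function.Exact d g := G.toExtension.exact_cotangentComplex_toKaehler
  have hg : Function.Surjective g := G.toExtension.toKaehler_surjective
  haveI : Module.Finite A M := Algebra.Extension.Cotangent.finite hG
  haveI : Module.Free A F := Module.Free.of_basis G.cotangentSpaceBasis
  haveI : Module.Finite A F := Module.Finite.of_basis G.cotangentSpaceBasis
  haveI : Module.FinitePresentation A F := Module.finitePresentation_of_projective A F
  let S := Submonoid.powers a
  let L := Localization S
  haveI : Algebra.FormallySmooth R (Localization.Away a) := hsm.1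
  have hker : ∀ x : M, d x = 0 → ∃ s : S, s • x = 0 := by
    intro x hx
    let z := G.equivH1Cotangent (⟨x, hx⟩ : G.toExtension.H1Cotangent)
    have hz : Algebra.H1Cotangent.map R R A (Localization.Away a) z =
        Algebra.H1Cotangent.map R R A (Localization.Away a) 0 := Subsingleton.elim _ _
    obtain ⟨s, hs⟩ := IsLocalizedModule.exists_of_eq (S := S) hz
    refine ⟨s, ?_⟩
    have h1 : (s : A) • z = 0 := by
      rw [smul_zero] at hs
      exact hs
    rw [← map_smul, LinearEquiv.map_eq_zero_iff] at h1
    exact congrArg Subtype.val h1
  haveI : Module.Projective L (LocalizedModule S Ω[A⁄R]) := by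
    have e := ((IsLocalizedModule.iso S (KaehlerDifferential.map R R A (Localization.Away a))
      ).extendScalarsOfIsLocalization S (Localization.Away a)).symm
    exact Module.Projective.of_equiv e
  exact exists_split_of_localized d g hex hg S hker


/-- Let `A` be a finitely presented `R`-algebra. There is an `A`-algebra `C` of finite type with an
`A`-algebra retraction `C → A` such that for every `a ∈ A` with `A_a` smooth over `R`, the module of
differentials of `C_a` over `R` is a free `C_a`-module. -/
theorem result {R A : Type u} [CommRing R] [CommRing A] [Algebra R A]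
    [Algebra.FinitePresentation R A] :
    ∃ (C : Type u) (_ : CommRing C) (_ : Algebra A C) (_ : Algebra R C) (_ : IsScalarTower R A C),
      Algebra.FiniteType A C ∧ Nonempty (C →ₐ[A] A) ∧
      ∀ a : A, Algebra.Smooth R (Localization.Away a) →
        Module.Free (Localization.Away (algebraMap A C a)) Ω[Localization.Away (algebraMap A C a)⁄R] := by
  classical
  let G := (Algebra.Presentation.ofFinitePresentation R A).toGenerators
  have hG : G.toExtension.ker.FG := (Algebra.Presentation.ofFinitePresentation R A).fg_ker
  let M := G.toExtension.Cotangent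
  haveI : Module.Finite A M := Algebra.Extension.Cotangent.finite hG
  haveI : IsScalarTower R A (SymmetricAlgebra A M) := IsScalarTower.of_algebraMap_eq' rfl
  refine ⟨SymmetricAlgebra A M, inferInstance, inferInstance, inferInstance, inferInstance, ?_,
    ⟨SymmetricAlgebra.algebraMapInv⟩, fun a hsm => ?_⟩
  · obtain ⟨s, hs⟩ := Module.Finite.fg_top (R := A) (M := M)
    refine ⟨s.image (SymmetricAlgebra.ι A M), Algebra.eq_top_iff.mpr fun c => ?_⟩
    rw [Finset.coe_image]
    induction c using SymmetricAlgebra.induction with
    | algebraMap r => exact Subalgebra.algebraMap_mem _ r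
    | ι m =>
      have h1 : Submodule.map (SymmetricAlgebra.ι A M) (Submodule.span A (s : Set M)) ≤
          Subalgebra.toSubmodule (Algebra.adjoin A (SymmetricAlgebra.ι A M '' (s : Set M))) := by
        rw [Submodule.map_span]
        exact Algebra.span_le_adjoin A _
      exact h1 ⟨m, by rw [hs]; trivial, rfl⟩
    | mul x y hx hy => exact mul_mem hx hy
    | add x y hx hy => exact add_mem hx hy
  · obtain ⟨r, t, ⟨k, hk⟩, hr⟩ := exists_split G hG a hsm
    let C := SymmetricAlgebra A M
    let L := Localization.Away (algebraMap A C a)
    haveI : Algebra.FormallyEtale C L :=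
      Algebra.FormallyEtale.of_isLocalization (Submonoid.powers (algebraMap A C a))
    have hu : IsUnit (algebraMap A L t) := by
      rw [← hk, map_pow, IsScalarTower.algebraMap_apply A C L a]
      exact (IsLocalization.Away.algebraMap_isUnit _).pow k
    obtain ⟨e⟩ := Groth.Agent.SymKaehler.nonempty_equiv G.cotangentSpaceBasis
      G.toExtension.cotangentComplex G.toExtension.toKaehler
      G.toExtension.exact_cotangentComplex_toKaehler G.toExtension.toKaehler_surjective r t hr L hu
    exact Module.Free.of_basis ((G.cotangentSpaceBasis.baseChange L).map e)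

end Groth.Agent.S2110
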