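import Groth.Statements.S6822
import Mathlib
import Groth.Agent.Desing.Resolve
-- import your own Groth.Agent.* helpers here

set_option autoImplicit false
universe u
open Smoothing

namespace Groth.Agent.S6822

theorem general {R A Λ : Type u} [CommRing R] [IsNoetherianRing R]
    [CommRing A] [Algebra R A] [Algebra.FinitePresentation R A] [CommRing Λ] [Algebra R Λ]
    (φ : A →ₐ[R] Λ) (𝔮 : Ideal Λ) [𝔮.IsPrime] {r : ℕ} (π : Fin r → R)
    (hπ𝔮 : ∀ i, algebraMap R Λ (π i) ∈ 𝔮)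
    (hR : ∀ i : Fin r, ∀ x : R ⧸ Ideal.span (Set.range fun j : {j : Fin r // (j : ℕ) < (i : ℕ)} => π j ^ 8),
      Ideal.Quotient.mk _ (π i) ^ 2 * x = 0 → Ideal.Quotient.mk _ (π i) * x = 0)
    (hΛ : ∀ i : Fin r, ∀ x : Λ ⧸ Ideal.span (Set.range fun j : {j : Fin r // (j : ℕ) < (i : ℕ)} =>
        algebraMap R Λ (π j) ^ 8),
      Ideal.Quotient.mk _ (algebraMap R Λ (π i)) ^ 2 * x = 0 → Ideal.Quotient.mk _ (algebraMap R Λ (π i)) * x = 0)
    (hstd : ∀ i, Smoothing.IsStrictlyStandard R A (algebraMap R A (π i)))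
    (K : Ideal R) (hK : K = Ideal.span (Set.range fun i => π i ^ 8))
    (φK : (A ⧸ K.map (algebraMap R A)) →ₐ[R ⧸ K] (Λ ⧸ K.map (algebraMap R Λ)))
    (hφK : ∀ a : A, φK (Ideal.Quotient.mk _ a) = Ideal.Quotient.mk _ (φ a))
    (hres : Smoothing.Resolvable (R ⧸ K) φK (𝔮.map (Ideal.Quotient.mk (K.map (algebraMap R Λ))))) :
    Smoothing.Resolvable R φ 𝔮 := by
  classical
  let I : ℕ → Ideal R := fun k => Ideal.span (Set.range fun j : {j : Fin r // (j : ℕ) < k} => π j ^ 8)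
  have hIr : I r = K := by
    rw [hK]
    apply congrArg Ideal.span
    ext x
    exact ⟨fun ⟨j, hj⟩ => ⟨j.1, hj⟩, fun ⟨j, hj⟩ => ⟨⟨j, j.isLt⟩, hj⟩⟩
  have hIs : ∀ (k : ℕ) (hk : k < r), I k ⊔ Ideal.span {π ⟨k, hk⟩ ^ 8} = I (k + 1) := by
    intro k hk
    refine le_antisymm (sup_le (Ideal.span_le.mpr ?_) (Ideal.span_le.mpr ?_)) (Ideal.span_le.mpr ?_)
    · rintro _ ⟨⟨j, hj⟩, rfl⟩
      exact Ideal.subset_span ⟨⟨j, Nat.lt_succ_of_lt hj⟩, rfl⟩
    · rintro _ rfl
      exact Ideal.subset_span ⟨⟨⟨k, hk⟩, Nat.lt_succ_self k⟩, rfl⟩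
    · rintro _ ⟨⟨j, hj⟩, rfl⟩
      rcases Nat.lt_succ_iff_lt_or_eq.mp hj with h | h
      · exact Submodule.mem_sup_left (Ideal.subset_span ⟨⟨j, h⟩, rfl⟩)
      · refine Submodule.mem_sup_right (Ideal.subset_span ?_)
        rw [Set.mem_singleton_iff]
        change π j ^ 8 = _
        rw [show j = ⟨k, hk⟩ from Fin.ext h]
  have hstart : Groth.Agent.Desing.ResMod φ 𝔮 (I r) := by
    rw [hIr]
    obtain ⟨B, _, _, hBfp, g, h, hgh, hle, hnle⟩ := hres
    letI : Algebra R B := ((algebraMap (R ⧸ K) B).comp (Ideal.Quotient.mk K)).toAlgebra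
    haveI : IsScalarTower R (R ⧸ K) B := IsScalarTower.of_algebraMap_eq fun _ => rfl
    haveI : Algebra.FinitePresentation R (A ⧸ K.map (algebraMap R A)) :=
      Algebra.FinitePresentation.quotient (Ideal.FG.map (IsNoetherian.noetherian K) _)
    haveI : Algebra.FinitePresentation (R ⧸ K) (A ⧸ K.map (algebraMap R A)) :=
      Algebra.FinitePresentation.of_restrict_scalars_finitePresentation R (R ⧸ K) _
    refine ⟨B, inferInstance, inferInstance, inferInstance, inferInstance, hBfp,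
      (g.restrictScalars R).comp (Ideal.Quotient.mkₐ R _), h.restrictScalars R, fun a => ?_, ?_, ?_⟩
    · change h (g _) = _
      rw [← AlgHom.comp_apply, hgh]
      exact hφK a
    · refine (Ideal.IsRadical.radical_le_iff (Ideal.IsRadical.comap _ (Ideal.radical_isRadical _))).mpr
        (Ideal.map_le_iff_le_comap.mpr fun a ha => ?_)
      change Ideal.Quotient.mk _ (φ a) ∈ Smoothing.singRad (R ⧸ K) h
      rw [← hφK]
      exact hle (Ideal.le_radical (Ideal.mem_map_of_mem _ (Groth.Agent.Desing.mk_mem_singularIdeal_quotient K ha)))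
    · intro hc
      refine hnle ?_
      intro y hy
      obtain ⟨x, rfl⟩ := Ideal.Quotient.mk_surjective y
      exact Ideal.mem_map_of_mem _ (hc hy)
  have hmain : Groth.Agent.Desing.ResMod φ 𝔮 (I 0) := by
    refine Nat.decreasingInduction (motive := fun k _ => Groth.Agent.Desing.ResMod φ 𝔮 (I k))
      (fun k hk ih => ?_) hstart (Nat.zero_le r)
    refine Groth.Agent.Desing.ResMod.descend (I k) (I (k + 1)) (π ⟨k, hk⟩) (hIs k hk) (fun x hx => ?_)
      (fun x hx => ?_) (hstd _) ih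
    · have := hR ⟨k, hk⟩ (Ideal.Quotient.mk _ x) (by rwa [← map_pow, ← map_mul, Ideal.Quotient.eq_zero_iff_mem])
      rwa [← map_mul, Ideal.Quotient.eq_zero_iff_mem] at this
    · have e : (I k).map (algebraMap R Λ) = Ideal.span (Set.range fun j : {j : Fin r // (j : ℕ) < k} =>
          algebraMap R Λ (π j) ^ 8) := by
        rw [Ideal.map_span, ← Set.range_comp]
        exact congrArg Ideal.span (congrArg Set.range (funext fun j => map_pow _ _ _))
      rw [e] at hx ⊢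
      have := hΛ ⟨k, hk⟩ (Ideal.Quotient.mk _ x) (by rwa [← map_pow, ← map_mul, Ideal.Quotient.eq_zero_iff_mem])
      rwa [← map_mul, Ideal.Quotient.eq_zero_iff_mem] at this
  obtain ⟨B, _, _, _, _, hBfp, g, h, hgh, hle, hnle⟩ := hmain
  haveI := hBfp
  have hI0 : I 0 = ⊥ := by
    refine le_antisymm (Ideal.span_le.mpr ?_) bot_le
    rintro _ ⟨⟨j, hj⟩, rfl⟩
    exact absurd hj (Nat.not_lt_zero _)
  have hbij : Function.Bijective (algebraMap R (R ⧸ I 0)) :=
    ⟨fun a b hab => by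
      have := Ideal.Quotient.eq.mp hab
      rw [hI0] at this
      exact sub_eq_zero.mp this, Ideal.Quotient.mk_surjective⟩
  haveI : Algebra.FinitePresentation R (R ⧸ I 0) := Algebra.FinitePresentation.quotient (IsNoetherian.noetherian _)
  have hΛ0 : (I 0).map (algebraMap R Λ) = ⊥ := by rw [hI0, Ideal.map_bot]
  let e : (Λ ⧸ (I 0).map (algebraMap R Λ)) ≃ₐ[R] Λ :=
    (Ideal.quotientEquivAlgOfEq R hΛ0).trans (AlgEquiv.quotientBot R Λ)
  have he : ∀ x : Λ, e (Ideal.Quotient.mk _ x) = x := fun _ => rfl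
  have hJ : ((Smoothing.singularIdeal (R ⧸ I 0) B).map h).radical.comap
      (Ideal.Quotient.mk ((I 0).map (algebraMap R Λ))) ≤ Smoothing.singRad R (e.toAlgHom.comp h) := by
    rintro x ⟨k, hk⟩
    refine ⟨k, ?_⟩
    rw [Groth.Agent.Desing.singularIdeal_eq_of_bijective R (R ⧸ I 0) B hbij]
    have hm : ((Smoothing.singularIdeal (R ⧸ I 0) B).map h).map e.toAlgHom.toRingHom =
        (Smoothing.singularIdeal (R ⧸ I 0) B).map (e.toAlgHom.comp h) := Ideal.map_map _ _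
    rw [← hm]
    have := Ideal.mem_map_of_mem e.toAlgHom.toRingHom hk
    simpa [he] using this
  refine ⟨B, inferInstance, inferInstance, Algebra.FinitePresentation.trans R (R ⧸ I 0) B, g, e.toAlgHom.comp h,
    AlgHom.ext fun a => ?_, hle.trans hJ, fun hc => hnle (hJ.trans hc)⟩
  change e (h (g a)) = φ a
  rw [hgh, he]


/-- Let R be Noetherian, A a finitely presented R-algebra, φ : A → Λ an R-algebra map and 𝔮 ⊆ Λ a prime.
Let r ≥ 1 and π₁, …, π_r ∈ R map into 𝔮, and assume: for each i the annihilators of π_i and of π_i²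
agree in R/(π₁⁸, …, π_{i−1}⁸) and in Λ/(π₁⁸, …, π_{i−1}⁸)Λ, and each π_i maps to a strictly standard
element of A over R. Write K = (π₁⁸, …, π_r⁸). If the reduced problem R/K → A/KA → Λ/KΛ ⊇ 𝔮/KΛ can
be resolved (for the map A/KA → Λ/KΛ induced by φ), then R → A → Λ ⊇ 𝔮 can be resolved. -/
theorem result {R A Λ : Type u} [CommRing R] [IsNoetherianRing R]
    [CommRing A] [Algebra R A] [Algebra.FinitePresentation R A] [CommRing Λ] [Algebra R Λ]
    (φ : A →ₐ[R] Λ) (𝔮 : Ideal Λ) [𝔮.IsPrime] {r : ℕ} (hr : 0 < r) (π : Fin r → R)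
    (hπ𝔮 : ∀ i, algebraMap R Λ (π i) ∈ 𝔮)
    (hR : ∀ i : Fin r, ∀ x : R ⧸ Ideal.span (Set.range fun j : {j : Fin r // (j : ℕ) < (i : ℕ)} => π j ^ 8),
      Ideal.Quotient.mk _ (π i) ^ 2 * x = 0 → Ideal.Quotient.mk _ (π i) * x = 0)
    (hΛ : ∀ i : Fin r, ∀ x : Λ ⧸ Ideal.span (Set.range fun j : {j : Fin r // (j : ℕ) < (i : ℕ)} =>
        algebraMap R Λ (π j) ^ 8),
      Ideal.Quotient.mk _ (algebraMap R Λ (π i)) ^ 2 * x = 0 → Ideal.Quotient.mk _ (algebraMap R Λ (π i)) * x = 0)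
    (hstd : ∀ i, Smoothing.IsStrictlyStandard R A (algebraMap R A (π i)))
    (K : Ideal R) (hK : K = Ideal.span (Set.range fun i => π i ^ 8))
    (φK : (A ⧸ K.map (algebraMap R A)) →ₐ[R ⧸ K] (Λ ⧸ K.map (algebraMap R Λ)))
    (hφK : ∀ a : A, φK (Ideal.Quotient.mk _ a) = Ideal.Quotient.mk _ (φ a))
    (hres : Smoothing.Resolvable (R ⧸ K) φK (𝔮.map (Ideal.Quotient.mk (K.map (algebraMap R Λ))))) :
    Smoothing.Resolvable R φ 𝔮 := by
  exact general φ 𝔮 π hπ𝔮 hR hΛ hstd K hK φK hφK hres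

end Groth.Agent.S6822
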