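import Groth.Statements.S3537
import Mathlib
import Groth.Agent.TorBalance.Basic
import Groth.Agent.TorFlatBC.Basic

set_option linter.style.haveILetI false

set_option autoImplicit false
universe u
open HTor

namespace Groth.Agent.S3537

section Pre
open CategoryTheory CategoryTheory.Limits CategoryTheory.MonoidalCategory TensorProduct Groth.Agent.TorFlatBC
open Groth.Agent.TorBalance

variable (A A' : Type u) [CommRing A] [CommRing A'] [Algebra A A']

/-- Base change, after restriction of scalars, is tensoring with the bigger ring. -/
noncomputable def restrictEquiv (X : ModuleCat.{u} A) :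
    ↥((ModuleCat.restrictScalars.{u} (algebraMap A A')).obj ((bcFun A A').obj X)) ≃ₗ[A] (X ⊗[A] A') where
  toFun z := TensorProduct.comm A A' X z
  invFun z := (TensorProduct.comm A A' X).symm z
  left_inv z := (TensorProduct.comm A A' X).symm_apply_apply z
  right_inv z := (TensorProduct.comm A A' X).apply_symm_apply z
  map_add' z w := (TensorProduct.comm A A' X).map_add z w
  map_smul' a z := by
    refine Eq.trans ?_ ((TensorProduct.comm A A' X).map_smul a z)
    exact congrArg _ (algebraMap_smul A' a (show A' ⊗[A] X from z))

/-- A projective resolution stays one after base change when the higher `Tor` with the ring vanish. -/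
theorem exists_resolution {P : ModuleCat.{u} A} (R : ProjectiveResolution P)
    (hP : ∀ q : ℕ, 0 < q → Subsingleton (DRing.Tor A q P A')) :
    ∃ R' : ProjectiveResolution ((bcFun A A').obj P),
      R'.complex = ((bcFun A A').mapHomologicalComplex _).obj R.complex := by
  haveI := preservesProjective_bcFun A A'
  let F := bcFun A A'
  let G := ModuleCat.restrictScalars.{u} (algebraMap A A')
  haveI := preservesHomology_restrict A A'
  let K := (F.mapHomologicalComplex (ComplexShape.down ℕ)).obj R.complex
  have hex : ∀ q : ℕ, K.ExactAt (q + 1) := fun q => by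
    rw [HomologicalComplex.exactAt_iff_isZero_homology]
    let e : (G.mapHomologicalComplex _).obj K ≅ (cxR R.complex).obj (ModuleCat.of A A') :=
      HomologicalComplex.Hom.isoOfComponents (fun m => (restrictEquiv A A' (R.complex.X m)).toModuleIso)
        (fun i j _ => by
          apply ModuleCat.hom_ext
          apply LinearMap.ext
          have key : ∀ z : A' ⊗[A] (R.complex.X i),
              ((R.complex.d i j).hom.rTensor A') (TensorProduct.comm A A' (R.complex.X i) z) =
                TensorProduct.comm A A' (R.complex.X j) ((R.complex.d i j).hom.baseChange A' z) := by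
            intro z
            induction z using TensorProduct.induction_on with
            | zero => simp
            | add x y hx hy => simp only [map_add, hx, hy]
            | tmul a x => simp
          exact fun z => key z)
    have h1 : IsZero (((cxR R.complex).obj (ModuleCat.of A A')).homology (q + 1)) := by
      haveI := hP (q + 1) (Nat.succ_pos q)
      exact (ModuleCat.isZero_of_subsingleton _).of_iso ((balanceIso R (q + 1)).app (ModuleCat.of A A')).symm
    have h2 : IsZero (G.obj (K.homology (q + 1))) :=
      (h1.of_iso (HomologicalComplex.homologyMapIso e (q + 1))).of_iso ((K.sc (q + 1)).mapHomologyIso G).symm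
    have hs := ModuleCat.subsingleton_of_isZero h2
    haveI : Subsingleton (K.homology (q + 1)) := ⟨fun a b => hs.elim a b⟩
    exact ModuleCat.isZero_of_subsingleton _
  have hsurj : Function.Surjective (R.π.f 0).hom := (ModuleCat.epi_iff_surjective _).mp inferInstance
  have h0 : Function.Exact (R.complex.d 1 0).hom (R.π.f 0).hom :=
    LinearMap.exact_iff.mpr ((ShortComplex.moduleCat_exact_iff_range_eq_ker _).mp R.exact₀).symm
  have hcomp : K.d 1 0 ≫ F.map (R.π.f 0) = 0 :=
    (F.map_comp _ _).symm.trans ((congrArg F.map R.complex_d_comp_π_f_zero).trans (F.map_zero _ _))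
  refine ⟨
    { complex := K
      projective := fun m => Functor.projective_obj_of_projective F (R.projective m)
      π := (ChainComplex.toSingle₀Equiv _ _).symm ⟨F.map (R.π.f 0), hcomp⟩
      quasiIso := ⟨fun m => ?_⟩ }, rfl⟩
  cases m with
  | zero =>
    rw [ChainComplex.quasiIsoAt₀_iff, ShortComplex.quasiIso_iff_of_zeros']
    rotate_left
    · exact K.shape _ _ (by simp)
    · rfl
    · rfl
    refine (ShortComplex.exact_and_epi_g_iff_of_iso (S₂ := ShortComplex.mk (K.d 1 0) (F.map (R.π.f 0)) hcomp)
      (ShortComplex.isoMk (Iso.refl _) (Iso.refl _) (Iso.refl _) (by simp) (by simp))).2 ⟨?_, ?_⟩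
    · rw [ShortComplex.moduleCat_exact_iff_range_eq_ker]
      ext x
      exact ((lTensor_exact A' h0 hsurj) x).symm
    · exact (ModuleCat.epi_iff_surjective _).mpr (LinearMap.lTensor_surjective A' hsurj)
  | succ q =>
    rw [quasiIsoAt_iff_exactAt' _ _ (ChainComplex.exactAt_succ_single_obj _ _)]
    exact hex q

theorem exists_bc (P : ModuleCat.{u} A) (Q' : Type u) [AddCommGroup Q'] [Module A' Q'] [Module A Q']
    [IsScalarTower A A' Q'] (hP : ∀ q : ℕ, 0 < q → Subsingleton (DRing.Tor A q P A')) (n : ℕ) :
    ∃ φ : DRing.Tor A n P Q' →ₛₗ[algebraMap A A'] DRing.Tor A' n ((bcFun A A').obj P) Q',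
      Function.Bijective φ := by
  let R := projectiveResolution P
  obtain ⟨R', hR'⟩ := exists_resolution A A' R hP
  let G := ModuleCat.restrictScalars.{u} (algebraMap A A')
  haveI := preservesHomology_restrict A A'
  let K := (cxR (((bcFun A A').mapHomologicalComplex _).obj R.complex)).obj (ModuleCat.of A' Q')
  let cE : ∀ X : ModuleCat.{u} A, ↥(G.obj (ModuleCat.of A' ((A' ⊗[A] X) ⊗[A'] Q'))) ≃ₗ[A] (X ⊗[A] Q') :=
    fun X =>
    let E : ((A' ⊗[A] X) ⊗[A'] Q') ≃+ (X ⊗[A] Q') :=
      (TensorProduct.comm A' (A' ⊗[A] X) Q').toAddEquiv.trans
        ((AlgebraTensorModule.cancelBaseChange A A' A' Q' X).toAddEquiv.trans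
          (TensorProduct.comm A Q' X).toAddEquiv)
    { E with
      map_smul' := fun a z => by
        have key : ∀ w : (A' ⊗[A] X) ⊗[A'] Q', E ((algebraMap A A' a) • w) = a • E w := fun w => by
          show TensorProduct.comm A Q' X (AlgebraTensorModule.cancelBaseChange A A' A' Q' X
            (TensorProduct.comm A' (A' ⊗[A] X) Q' ((algebraMap A A' a) • w))) = _
          rw [map_smul, map_smul, algebraMap_smul, map_smul]
          rfl
        exact key z }
  let e : (G.mapHomologicalComplex _).obj K ≅ (cxR R.complex).obj (ModuleCat.of A Q') :=
    HomologicalComplex.Hom.isoOfComponents (fun m => (cE (R.complex.X m)).toModuleIso) (fun i j _ => by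
      apply ModuleCat.hom_ext
      apply LinearMap.ext
      have key : ∀ z : (A' ⊗[A] (R.complex.X i)) ⊗[A'] Q',
          ((R.complex.d i j).hom.rTensor Q') (TensorProduct.comm A Q' _ (AlgebraTensorModule.cancelBaseChange A A' A' Q' _
            (TensorProduct.comm A' _ Q' z))) =
          TensorProduct.comm A Q' _ (AlgebraTensorModule.cancelBaseChange A A' A' Q' _
            (TensorProduct.comm A' _ Q' (((R.complex.d i j).hom.baseChange A').rTensor Q' z))) := by
        intro z
        induction z using TensorProduct.induction_on with
        | zero => simp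
        | add x y hx hy => simp only [map_add, hx, hy]
        | tmul w q =>
          induction w using TensorProduct.induction_on with
          | zero => simp
          | add x y hx hy => simp only [add_tmul, map_add, hx, hy]
          | tmul a x => simp
      exact fun z => key z)
  let i₁ : ((CategoryTheory.Tor (ModuleCat.{u} A) n).obj P).obj (ModuleCat.of A Q') ≅ G.obj (K.homology n) :=
    (balanceIso R n).app (ModuleCat.of A Q') ≪≫ (HomologicalComplex.homologyMapIso e.symm n) ≪≫
      (K.sc n).mapHomologyIso G
  let i₂ : ((CategoryTheory.Tor (ModuleCat.{u} A') n).obj ((bcFun A A').obj P)).obj (ModuleCat.of A' Q') ≅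
      K.homology n :=
    (balanceIso R' n).app (ModuleCat.of A' Q') ≪≫
      (HomologicalComplex.homologyFunctor _ _ n).mapIso (eqToIso (by rw [hR']))
  refine ⟨
    { toFun := fun t => i₂.inv.hom (show K.homology n from i₁.hom.hom t)
      map_add' := fun a b => by
        rw [map_add]
        exact map_add i₂.inv.hom _ _
      map_smul' := fun a t => by
        rw [map_smul]
        exact map_smul i₂.inv.hom (algebraMap A A' a) _ }, ?_⟩
  exact i₂.symm.toLinearEquiv.bijective.comp i₁.toLinearEquiv.bijective

end Pre


/-- Base change for Tor: let A → A′ be a homomorphism of commutative rings, P an A-module with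
Tor_q^A(P, A′) = 0 for all q ≥ 1, and Q′ an A′-module, regarded also as an A-module. Then for every
n ≥ 0 there is a bijective map Tor_n^A(P, Q′) → Tor_n^{A′}(A′ ⊗_A P, Q′) that is semilinear over A →
A′. Here Tor is the left derived functor of the tensor product in the second variable, and only the
existence of such a bijective semilinear map is asserted. The published statement is the degenerate
case of a base-change spectral sequence for hypertor of modules over schemes; stated here in the
affine case with a single module. -/
theorem result (A A' : Type u) [CommRing A] [CommRing A'] [Algebra A A']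
    (P : Type u) [AddCommGroup P] [Module A P] (Q' : Type u) [AddCommGroup Q'] [Module A' Q'] [Module A Q']
    [IsScalarTower A A' Q'] (hP : ∀ q : ℕ, 0 < q → Subsingleton (DRing.Tor A q P A')) (n : ℕ) :
    ∃ φ : DRing.Tor A n P Q' →ₛₗ[algebraMap A A'] DRing.Tor A' n (TensorProduct A A' P) Q',
      Function.Bijective φ := by
  exact exists_bc A A' (ModuleCat.of A P) Q' hP n

end Groth.Agent.S3537
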