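import Groth.Statements.S0559
import Groth.Agent.SerreReg.CM
import Groth.Agent.SerreReg.MiracleFinite

set_option autoImplicit false
universe u
open CAlg Groth.Agent

namespace Groth.Agent.S0559

/-- In a regular local ring of dimension `d`, any `d` elements generating the maximal ideal form a
regular sequence. -/
theorem result (R : Type u) [CommRing R]
    [IsRegularLocalRing R] (d : ℕ) (hd : ringKrullDim R = d) (x : Fin d → R)
    (hx : Ideal.span (Set.range x) = IsLocalRing.maximalIdeal R) :
    RingTheory.Sequence.IsRegular R (List.ofFn x) := by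
  obtain ⟨rs, hlen, hreg, hspan⟩ := SerreReg.exists_regular_rsop d R hd
  have hm : ∀ r ∈ rs, r ∈ IsLocalRing.maximalIdeal R := fun r hr => hspan ▸ Ideal.subset_span hr
  have hsop : CMSop.IsSop x := by
    rw [CMSop.IsSop, hx]; exact (IsLocalRing.maximalIdeal.isMaximal R).isPrime.radical
  have hR : CMSop.HasRegSeq (R := R) d R := hlen ▸ CMSop.hasRegSeq_of_isWeaklyRegular rs R hreg hm
  refine ⟨?_, ?_⟩
  · have h := SerreReg.isWeaklyRegular_take_of_isSop hsop hR d
    rwa [List.take_of_length_le (by rw [List.length_ofFn])] at h
  · intro h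
    rw [smul_eq_mul, Ideal.mul_top, Ideal.ofList] at h
    simp only [List.mem_ofFn] at h
    rw [show {r | ∃ i, x i = r} = Set.range x from rfl, hx] at h
    exact (IsLocalRing.maximalIdeal.isMaximal R).ne_top h.symm

end Groth.Agent.S0559
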