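import Groth.Statements.S0561
import Groth.Agent.SerreReg.Regular
import Groth.Agent.SerreReg.CM
import Mathlib.RingTheory.Nakayama
import Mathlib.Tactic.Ring
import Mathlib.RingTheory.KrullDimension.NonZeroDivisors

set_option autoImplicit false
universe u
open CAlg Groth.Agent

namespace Groth.Agent.S0561

/-- Let `R` be a regular local ring of dimension `d` and `I` an ideal with `R/I` a regular local ring.
Then there are elements `x₁, …, x_d` generating the maximal ideal such that `I` is generated by `x₁,
…, x_c` for some `c ≤ d`. -/
theorem result (R : Type u) [CommRing R]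
    [IsRegularLocalRing R] (d : ℕ) (hd : ringKrullDim R = d) (I : Ideal R)
    [IsRegularLocalRing (R ⧸ I)] :
    ∃ (x : Fin d → R) (c : ℕ) (hc : c ≤ d), Ideal.span (Set.range x) = IsLocalRing.maximalIdeal R ∧
      I = Ideal.span (Set.range (fun i : Fin c => x (Fin.castLE hc i))) := by
  classical
  have key : ∀ (d : ℕ) (R : Type u) [CommRing R] [IsRegularLocalRing R] (I : Ideal R) [IsRegularLocalRing (R ⧸ I)],
      ringKrullDim R = d → ∃ (x : Fin d → R) (c : ℕ) (hc : c ≤ d), Ideal.span (Set.range x) = IsLocalRing.maximalIdeal R ∧
      I = Ideal.span (Set.range (fun i : Fin c => x (Fin.castLE hc i))) := by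
    intro d
    induction d with
    | zero =>
      intro R _ _ I _ hd
      have hm : IsLocalRing.maximalIdeal R = ⊥ := by
        rw [← Submodule.spanFinrank_eq_zero_iff_eq_bot (IsNoetherian.noetherian _)]
        have := IsRegularLocalRing.spanFinrank_maximalIdeal (R := R)
        rw [hd] at this
        exact_mod_cast this
      have hI : I = ⊥ := by
        refine le_bot_iff.mp (hm ▸ IsLocalRing.le_maximalIdeal ?_)
        intro htop
        exact not_subsingleton (R ⧸ I) (Ideal.Quotient.subsingleton_iff.mpr htop)
      exact ⟨Fin.elim0, 0, le_rfl, by rw [hm]; simp, by rw [hI]; simp⟩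
    | succ d ih =>
      intro R _ _ I _ hd
      haveI := Groth.Agent.RegLoc.isDomain R
      by_cases hI : I = ⊥
      · obtain ⟨s, hcard, hspan⟩ := Submodule.FG.exists_span_finset_card_eq_spanFinrank
          (IsNoetherian.noetherian (IsLocalRing.maximalIdeal R))
        have hs : s.card = d + 1 := by
          have := IsRegularLocalRing.spanFinrank_maximalIdeal (R := R)
          rw [hd, ← hcard] at this
          exact_mod_cast this
        refine ⟨fun i => ((s.equivFinOfCardEq hs).symm i : R), 0, Nat.zero_le _, ?_, by rw [hI]; simp⟩
        have : Set.range (fun i => ((s.equivFinOfCardEq hs).symm i : R)) = (s : Set R) := by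
          ext r
          exact ⟨fun ⟨i, hi⟩ => hi ▸ ((s.equivFinOfCardEq hs).symm i).2,
            fun hr => ⟨s.equivFinOfCardEq hs ⟨r, hr⟩, by simp⟩⟩
        rw [this]
        exact hspan
      · have hIm : I ≤ IsLocalRing.maximalIdeal R := IsLocalRing.le_maximalIdeal fun htop =>
          not_subsingleton (R ⧸ I) (Ideal.Quotient.subsingleton_iff.mpr htop)
        obtain ⟨x, hxI, hx2⟩ : ∃ x ∈ I, x ∉ IsLocalRing.maximalIdeal R ^ 2 := by
          by_contra hcon
          push Not at hcon
          obtain ⟨a, haI, ha0⟩ := Submodule.exists_mem_ne_zero_of_ne_bot hI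
          obtain ⟨e, he⟩ := SerreReg.exists_dim (R ⧸ I)
          have h1 := ringKrullDim_succ_le_of_surjective (Ideal.Quotient.mk I) Ideal.Quotient.mk_surjective
            (mem_nonZeroDivisors_of_ne_zero ha0) (Ideal.Quotient.eq_zero_iff_mem.mpr haI)
          rw [hd, he] at h1
          have h1' : e + 1 ≤ d + 1 := by exact_mod_cast h1
          obtain ⟨s, hcard, hspan⟩ := Submodule.FG.exists_span_finset_card_eq_spanFinrank
            (IsNoetherian.noetherian (IsLocalRing.maximalIdeal (R ⧸ I)))
          have hs : s.card = e := by
            have := IsRegularLocalRing.spanFinrank_maximalIdeal (R := R ⧸ I)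
            rw [he, ← hcard] at this
            exact_mod_cast this
          choose l hl using fun v : R ⧸ I => Ideal.Quotient.mk_surjective v
          have hcomap : IsLocalRing.maximalIdeal R = (IsLocalRing.maximalIdeal (R ⧸ I)).comap (Ideal.Quotient.mk I) :=
            haveI : IsLocalHom (Ideal.Quotient.mk I) := IsLocalHom.of_surjective _ Ideal.Quotient.mk_surjective
            (IsLocalRing.maximalIdeal_comap _).symm
          have hle : IsLocalRing.maximalIdeal R ≤ Ideal.span (s.image l : Set R) := by
            refine Submodule.le_of_le_smul_of_le_jacobson_bot (IsNoetherian.noetherian _)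
              (IsLocalRing.maximalIdeal_le_jacobson _) ?_
            intro y hy
            have h2 : Ideal.Quotient.mk I y ∈ (Ideal.span (s.image l : Set R)).map (Ideal.Quotient.mk I) := by
              rw [Ideal.map_span, Finset.coe_image, Set.image_image]
              simp only [hl, Set.image_id']
              rw [← Ideal.submodule_span_eq, hspan]
              rw [hcomap] at hy
              exact hy
            obtain ⟨w, hw, hwy⟩ := (Ideal.mem_map_iff_of_surjective _ Ideal.Quotient.mk_surjective).mp h2
            refine Submodule.mem_sup.mpr ⟨w, hw, y - w, ?_, by ring⟩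
            rw [smul_eq_mul, ← pow_two]
            exact hcon _ (Ideal.Quotient.eq.mp hwy.symm)
          have heq : IsLocalRing.maximalIdeal R = Ideal.span (s.image l : Set R) := by
            refine le_antisymm hle (Ideal.span_le.mpr fun r hr => ?_)
            obtain ⟨v, hv, rfl⟩ := Finset.mem_image.mp hr
            rw [SetLike.mem_coe, hcomap, Ideal.mem_comap, hl, ← hspan]
            exact Submodule.subset_span hv
          have h3 : (IsLocalRing.maximalIdeal R).spanFinrank ≤ e := by
            rw [heq]
            exact (Submodule.spanFinrank_span_le_ncard_of_finite (Finset.finite_toSet _)).trans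
              ((Set.ncard_coe_finset _).le.trans (Finset.card_image_le.trans hs.le))
          have h4 := IsRegularLocalRing.spanFinrank_maximalIdeal (R := R)
          rw [hd] at h4
          have : (IsLocalRing.maximalIdeal R).spanFinrank = d + 1 := by exact_mod_cast h4
          omega
        obtain ⟨hreg, hnzd⟩ := SerreReg.isRegularLocalRing_quot (hIm hxI) hx2
        let J := Ideal.span {x}
        have hJI : J ≤ I := (Ideal.span_singleton_le_iff_mem _).mpr hxI
        let π := Ideal.Quotient.mk J
        have hd' : ringKrullDim (R ⧸ J) = d := by
          have h1 := ringKrullDim_quotient_span_singleton_succ_eq_ringKrullDim hnzd (hIm hxI)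
          rw [hd, Nat.cast_succ] at h1
          exact (ENat.WithBot.add_natCast_cancel (c := 1)).mp h1
        haveI : IsRegularLocalRing ((R ⧸ J) ⧸ I.map π) :=
          IsRegularLocalRing.of_ringEquiv (DoubleQuot.quotQuotEquivQuotOfLE hJI).symm
        obtain ⟨y, c, hc, hy, hyI⟩ := ih (R ⧸ J) (I.map π) hd'
        choose Y hY using fun i => Ideal.Quotient.mk_surjective (y i)
        have hspan : ∀ (m : ℕ) (hm : m ≤ d) (K : Ideal R), J ≤ K →
            K.map π = Ideal.span (Set.range fun i : Fin m => y (Fin.castLE hm i)) →
            K = Ideal.span (Set.range fun i : Fin (m + 1) => (Fin.cons x Y : Fin (d + 1) → R) (Fin.castLE (Nat.succ_le_succ hm) i)) := by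
          intro m hm K hJK hK
          have hr : (Set.range fun i : Fin (m + 1) => (Fin.cons x Y : Fin (d + 1) → R) (Fin.castLE (Nat.succ_le_succ hm) i)) =
              insert x (Set.range fun i : Fin m => Y (Fin.castLE hm i)) := by
            ext r
            simp only [Set.mem_range, Set.mem_insert_iff]
            constructor
            · rintro ⟨i, rfl⟩
              refine Fin.cases (Or.inl (by simp)) (fun j => Or.inr ⟨j, ?_⟩) i
              exact (Fin.cons_succ (α := fun _ => R) x Y (Fin.castLE hm j)).symm
            · rintro (rfl | ⟨j, rfl⟩)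
              · exact ⟨0, by simp⟩
              · exact ⟨j.succ, Fin.cons_succ (α := fun _ => R) x Y (Fin.castLE hm j)⟩
          rw [hr, Ideal.span_insert]
          have h1 : (Ideal.span {x} ⊔ Ideal.span (Set.range fun i : Fin m => Y (Fin.castLE hm i))).map π = K.map π := by
            rw [hK, Ideal.map_sup, Ideal.map_quotient_self, bot_sup_eq, Ideal.map_span, ← Set.range_comp]
            simp only [Function.comp_def]
            congr 2
            funext i
            exact hY _
          have h2 := congrArg (Ideal.comap π) h1
          rw [Ideal.comap_map_of_surjective _ Ideal.Quotient.mk_surjective,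
            Ideal.comap_map_of_surjective _ Ideal.Quotient.mk_surjective,
            ← RingHom.ker_eq_comap_bot, Ideal.mk_ker,
            sup_eq_left.mpr hJK, sup_eq_left.mpr (show J ≤ _ from le_sup_left)] at h2
          exact h2.symm
        refine ⟨Fin.cons x Y, c + 1, Nat.succ_le_succ hc, ?_, hspan c hc I hJI hyI⟩
        have := hspan d le_rfl (IsLocalRing.maximalIdeal R) ((Ideal.span_singleton_le_iff_mem _).mpr (hIm hxI)) (by
          simp only [Fin.castLE_rfl, id_eq]
          rw [hy]
          haveI : IsLocalHom π := IsLocalHom.of_surjective _ Ideal.Quotient.mk_surjective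
          rw [← IsLocalRing.maximalIdeal_comap π, Ideal.map_comap_of_surjective _ Ideal.Quotient.mk_surjective])
        simpa using this.symm
  exact key d R I hd

end Groth.Agent.S0561
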