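import Groth.Statements.S5959
import Groth.Agent.QC.Localisation
import Groth.Agent.QC.Pullback
import Mathlib.AlgebraicGeometry.Morphisms.Affine

set_option autoImplicit false
universe u
open CategoryTheory CategoryTheory.Limits AlgebraicGeometry TopologicalSpace Opposite
open Nrm16

set_option backward.isDefEq.respectTransparency false
set_option backward.isDefEq.respectTransparency.types false

namespace Groth.Agent.S5959

theorem isHomeomorph_pr1 {X S : Scheme.{u}} (f : X ⟶ S) (n : ℕ) :
    IsHomeomorph (PrinPart.pr1 f n) := by
  have h1 : ∀ x, PrinPart.pr1 f n (PrinPart.toNbhd f n x) = x := fun x ↦ by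
    rw [← Scheme.Hom.comp_apply, PrinPart.toNbhd_pr1]; rfl
  have hs := PrinPart.toInfNbhd_surjective (PrinPart.diagCl f) n
  have h2 : ∀ z, PrinPart.toNbhd f n (PrinPart.pr1 f n z) = z := fun z ↦ by
    obtain ⟨x, rfl⟩ := hs z
    exact congrArg _ (h1 x)
  exact (Homeomorph.mk ⟨PrinPart.pr1 f n, PrinPart.toNbhd f n, h2, h1⟩
    (PrinPart.pr1 f n).continuous (PrinPart.toNbhd f n).continuous).isHomeomorph

theorem isAffineHom_pr1 {X S : Scheme.{u}} (f : X ⟶ S) (n : ℕ) :
    IsAffineHom (PrinPart.pr1 f n) :=
  isAffineHom_of_isInducing _ (isHomeomorph_pr1 f n).isInducing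
    (by rw [(isHomeomorph_pr1 f n).surjective.range_eq]; exact isClosed_univ)

/-- Let f : X ⟶ S be a morphism of schemes, n a natural number and F a quasi-coherent O_X-module. Then
P^n_{X/S}(F), the sheaf of principal parts of order n of F with its left O_X-module structure, is a
quasi-coherent O_X-module. (The published statement asserts this for either of the two O_X-module
structures of P^n_{X/S}(F); this row states it for the left structure, the one the sheaf of
principal parts carries here.) -/
theorem result {X S : Scheme.{u}} (f : X ⟶ S) (n : ℕ) (F : X.Modules)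
    (hF : Coh.IsQCoh F) :
    Coh.IsQCoh (PrinPart.PMod f n F) := by
  haveI := isAffineHom_pr1 f n
  haveI := QC.isQCoh_pullback (PrinPart.pr2 f n) hF
  exact QC.isQCoh_pushforward (PrinPart.pr1 f n)

end Groth.Agent.S5959
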