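import Groth.Prelude.Def_CAlg
import Mathlib

/-!
# One-dimensional Noetherian local rings: elements avoiding the minimal primes
-/

set_option autoImplicit false

universe u

namespace Groth.Agent.DimOneLoc

variable (A : Type u) [CommRing A] [IsLocalRing A] [IsNoetherianRing A]

theorem maximalIdeal_notMem_minimalPrimes (hdim : ringKrullDim A = 1) :
    IsLocalRing.maximalIdeal A ∉ minimalPrimes A := fun h => by
  have h0 : (IsLocalRing.maximalIdeal A).height = 0 := Ideal.height_eq_zero_iff.2 h
  have := IsLocalRing.maximalIdeal_height_eq_ringKrullDim (R := A)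
  rw [hdim, h0] at this
  exact absurd this (by norm_num)

theorem isMin_or_eq_maximal (hdim : ringKrullDim A = 1) (q : Ideal A) [q.IsPrime] :
    q ∈ minimalPrimes A ∨ q = IsLocalRing.maximalIdeal A := by
  by_contra h
  push Not at h
  have h1 : q.height ≠ 0 := fun h0 => h.1 (Ideal.height_eq_zero_iff.1 h0)
  have h2 : q.height < (IsLocalRing.maximalIdeal A).height :=
    Ideal.height_strict_mono_of_isPrime
      (lt_of_le_of_ne (IsLocalRing.le_maximalIdeal ‹q.IsPrime›.ne_top) h.2)
  have h3 : ((IsLocalRing.maximalIdeal A).height : WithBot ℕ∞) = 1 := by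
    rw [IsLocalRing.maximalIdeal_height_eq_ringKrullDim, hdim]
  rw [WithBot.coe_eq_one] at h3
  rw [h3, ENat.lt_one_iff_eq_zero] at h2
  exact h1 h2

theorem exists_avoid (hdim : ringKrullDim A = 1) :
    ∃ f ∈ IsLocalRing.maximalIdeal A, ∀ p ∈ minimalPrimes A, f ∉ p := by
  by_contra h
  push Not at h
  have hsub : (IsLocalRing.maximalIdeal A : Set A) ⊆
      ⋃ p ∈ (minimalPrimes.finite_of_isNoetherianRing A).toFinset, (p : Set A) := fun f hf => by
    obtain ⟨p, hp, hfp⟩ := h f hf
    exact Set.mem_biUnion ((Set.Finite.mem_toFinset _).2 hp) hfp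
  obtain ⟨p, hp, hle⟩ := (Ideal.subset_union_prime ⊥ ⊥ fun i hi _ _ =>
    Ideal.minimalPrimes_isPrime ((Set.Finite.mem_toFinset _).1 hi)).1 hsub
  have hp' := (Set.Finite.mem_toFinset _).1 hp
  have : p = IsLocalRing.maximalIdeal A :=
    le_antisymm (IsLocalRing.le_maximalIdeal (Ideal.minimalPrimes_isPrime hp').ne_top) hle
  exact maximalIdeal_notMem_minimalPrimes A hdim (this ▸ hp')

variable {A}

theorem radical_eq_iff (hdim : ringKrullDim A = 1) {f : A} (hf : f ∈ IsLocalRing.maximalIdeal A) :
    IsLocalRing.maximalIdeal A = (Ideal.span {f}).radical ↔ ∀ p ∈ minimalPrimes A, f ∉ p := by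
  refine ⟨fun h p hp hfp => ?_, fun h => ?_⟩
  · have hpp := Ideal.minimalPrimes_isPrime hp
    have hle : IsLocalRing.maximalIdeal A ≤ p :=
      h.le.trans (hpp.radical_le_iff.2 ((Ideal.span_singleton_le_iff_mem _).2 hfp))
    have : p = IsLocalRing.maximalIdeal A := le_antisymm (IsLocalRing.le_maximalIdeal hpp.ne_top) hle
    exact maximalIdeal_notMem_minimalPrimes A hdim (this ▸ hp)
  · refine le_antisymm ?_ ((IsLocalRing.maximalIdeal.isMaximal A).isPrime.radical_le_iff.2
      ((Ideal.span_singleton_le_iff_mem _).2 hf))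
    rw [Ideal.radical_eq_sInf]
    refine le_sInf fun q ⟨hq, hqp⟩ => ?_
    rcases isMin_or_eq_maximal A hdim q with h1 | h1
    · exact absurd ((Ideal.span_singleton_le_iff_mem _).1 hq) (h q h1)
    · exact h1.ge

theorem notMem_of_algEquiv {ι : Type u} {f : A} (T : ι → Type u) [∀ i, CommRing (T i)]
    [∀ i, Algebra A (T i)] (e : Localization.Away f ≃ₐ[A] (∀ i, T i)) (i : ι)
    {M : Ideal (T i)} (hM : M ≠ ⊤) : algebraMap A (T i) f ∉ M := fun h => by
  have hu := (IsLocalization.Away.algebraMap_isUnit f (S := Localization.Away f)).map e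
  rw [AlgEquiv.commutes] at hu
  exact hM (Ideal.eq_top_of_isUnit_mem _ h (Pi.isUnit_iff.1 hu i))

/-- the primes of `A_f` are the minimal primes of `A` -/
theorem comap_mem_minimalPrimes (hdim : ringKrullDim A = 1) {f : A}
    (hf : f ∈ IsLocalRing.maximalIdeal A) (P : PrimeSpectrum (Localization.Away f)) :
    P.asIdeal.comap (algebraMap A (Localization.Away f)) ∈ minimalPrimes A := by
  rcases isMin_or_eq_maximal A hdim (P.asIdeal.comap (algebraMap A (Localization.Away f))) with h | h
  · exact h
  · exfalso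
    have : f ∈ P.asIdeal.comap (algebraMap A (Localization.Away f)) := h ▸ hf
    exact P.2.ne_top (Ideal.eq_top_of_isUnit_mem _ this (IsLocalization.Away.algebraMap_isUnit f))

theorem nonempty_algEquiv (hdim : ringKrullDim A = 1) {f : A} (hf : f ∈ IsLocalRing.maximalIdeal A)
    (h : ∀ p ∈ minimalPrimes A, f ∉ p) :
    Nonempty (Localization.Away f ≃ₐ[A] (∀ p : {p : PrimeSpectrum A // p.asIdeal ∈ minimalPrimes A},
      Localization.AtPrime p.1.asIdeal)) := by
  let S := Localization.Away f
  haveI : IsNoetherianRing S := IsLocalization.isNoetherianRing (Submonoid.powers f) S inferInstance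
  haveI : Ring.KrullDimLE 0 S := by
    refine Ring.krullDimLE_zero_iff.2 fun I hI => ?_
    refine Ideal.isMaximal_def.2 ⟨hI.ne_top, fun J hJ => ?_⟩
    by_contra hne
    obtain ⟨M, hM, hJM⟩ := Ideal.exists_le_maximal J hne
    have h1 := comap_mem_minimalPrimes hdim hf (⟨I, hI⟩ : PrimeSpectrum S)
    have h2 := comap_mem_minimalPrimes hdim hf (⟨M, hM.isPrime⟩ : PrimeSpectrum S)
    have hle : I.comap (algebraMap A S) ≤ M.comap (algebraMap A S) :=
      Ideal.comap_mono (hJ.le.trans hJM)
    have heq : M.comap (algebraMap A S) = I.comap (algebraMap A S) :=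
      le_antisymm (h2.2 ⟨Ideal.minimalPrimes_isPrime h1, bot_le⟩ hle) hle
    have : M = I := (IsLocalization.map_comap (Submonoid.powers f) S M).symm.trans
      ((congrArg (Ideal.map (algebraMap A S)) heq).trans (IsLocalization.map_comap (Submonoid.powers f) S I))
    exact (hJ.trans_le hJM).ne this.symm
  haveI : IsArtinianRing S := isArtinianRing_iff_isNoetherianRing_krullDimLE_zero.2 ⟨‹_›, ‹_›⟩
  let ψ : {p : PrimeSpectrum A // p.asIdeal ∈ minimalPrimes A} ≃ PrimeSpectrum S :=
    (Equiv.ofBijective
      (fun P : PrimeSpectrum S => (⟨⟨P.asIdeal.comap (algebraMap A S), inferInstance⟩,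
        comap_mem_minimalPrimes hdim hf P⟩ : {p : PrimeSpectrum A // p.asIdeal ∈ minimalPrimes A}))
      ⟨fun P Q hPQ => by
        apply PrimeSpectrum.ext
        have h' := congrArg (fun p => p.1.asIdeal) hPQ
        simp only at h'
        exact (IsLocalization.map_comap (Submonoid.powers f) S P.asIdeal).symm.trans
          ((congrArg (Ideal.map (algebraMap A S)) h').trans
            (IsLocalization.map_comap (Submonoid.powers f) S Q.asIdeal)),
      fun p => by
        have hd : Disjoint (Submonoid.powers f : Set A) (p.1.asIdeal : Set A) := by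
          rw [Set.disjoint_left]
          rintro _ ⟨n, rfl⟩ hn
          exact h _ p.2 (p.1.2.mem_of_pow_mem n hn)
        refine ⟨⟨p.1.asIdeal.map (algebraMap A S),
          IsLocalization.isPrime_of_isPrime_disjoint _ S p.1.asIdeal p.1.2 hd⟩, ?_⟩
        exact Subtype.ext (PrimeSpectrum.ext
          (IsLocalization.comap_map_of_isPrime_disjoint _ S p.1.2 hd))⟩).symm
  have hψ : ∀ p, (ψ p).asIdeal.comap (algebraMap A S) = p.1.asIdeal := fun p =>
    congrArg (fun q => q.1.asIdeal) (ψ.symm_apply_apply p)
  have key : ∀ p : {p : PrimeSpectrum A // p.asIdeal ∈ minimalPrimes A},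
      Nonempty (Localization.AtPrime (ψ p).asIdeal ≃ₐ[A] Localization.AtPrime p.1.asIdeal) := fun p => by
    haveI hl := IsLocalization.isLocalization_isLocalization_atPrime_isLocalization
      (Submonoid.powers f) (Localization.AtPrime (ψ p).asIdeal) (ψ p).asIdeal
    refine ⟨?_⟩
    haveI : IsLocalization p.1.asIdeal.primeCompl (Localization.AtPrime (ψ p).asIdeal) := by
      convert hl using 2
      exact (hψ p).symm
    exact IsLocalization.algEquiv p.1.asIdeal.primeCompl _ _
  let e := fun p => (key p).some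
  exact ⟨((PrimeSpectrum.toPiLocalizationEquiv S).restrictScalars A).trans
    ((AlgEquiv.piCongrLeft A (fun P : PrimeSpectrum S => Localization.AtPrime P.asIdeal) ψ).symm.trans
      (AlgEquiv.piCongrRight e))⟩

theorem exists_smul_regular_of_depth (hd : LocCoh.depth A A = 1) :
    ∃ t ∈ IsLocalRing.maximalIdeal A, IsSMulRegular A t := by
  by_contra hne
  push Not at hne
  rw [LocCoh.depth, LocCoh.idealDepth, if_neg] at hd
  · have : (⨆ (rs : List A) (_ : RingTheory.Sequence.IsWeaklyRegular A rs ∧
        ∀ r ∈ rs, r ∈ IsLocalRing.maximalIdeal A), (rs.length : ℕ∞)) ≤ 0 := by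
      refine iSup₂_le fun rs hrs => ?_
      cases rs with
      | nil => simp
      | cons r rs =>
        exact absurd ((RingTheory.Sequence.isWeaklyRegular_cons_iff A r rs).1 hrs.1).1
          (hne r (hrs.2 r (List.mem_cons_self ..)))
    rw [hd] at this
    simp at this
  · rw [Ideal.smul_top_eq_map, Algebra.algebraMap_self, Ideal.map_id]
    intro h
    exact (IsLocalRing.maximalIdeal.isMaximal A).ne_top (by simpa using h)

theorem mem_nonZeroDivisors_iff (hdim : ringKrullDim A = 1) (hA : LocCoh.depth A A = 1 ∨ IsReduced A)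
    {f : A} : f ∈ nonZeroDivisors A ↔ ∀ p ∈ minimalPrimes A, f ∉ p := by
  refine ⟨fun hf p hp hfp => Set.disjoint_left.1
    (Ideal.disjoint_nonZeroDivisors_of_mem_minimalPrimes hp) hfp hf, fun h => ?_⟩
  rw [mem_nonZeroDivisors_iff_right]
  intro x hx
  rcases hA with hd | hred
  · obtain ⟨t, htm, ht⟩ := exists_smul_regular_of_depth hd
    by_contra hx0
    let I : Ideal A := Ideal.span {x}
    let J : Ideal A := (⊥ : Ideal A).colon (I : Set A)
    have hfJ : f ∈ J := by
      rw [Submodule.mem_colon]
      intro y hy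
      obtain ⟨c, rfl⟩ := Ideal.mem_span_singleton'.1 hy
      rw [Submodule.mem_bot, smul_eq_mul, show f * (c * x) = c * (x * f) by ring, hx, mul_zero]
    have htJ : t ∈ J.radical := by
      rw [Ideal.radical_eq_sInf, Ideal.mem_sInf]
      rintro q ⟨hq, hqp⟩
      rcases isMin_or_eq_maximal A hdim q with h1 | h1
      · exact absurd (hq hfJ) (h q h1)
      · exact h1 ▸ htm
    obtain ⟨n, hn⟩ := htJ
    have := Submodule.mem_colon.1 hn x (Ideal.mem_span_singleton_self x)
    rw [Submodule.mem_bot] at this
    exact hx0 (ht.pow n (by simpa using this))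
  · refine hred.eq_zero x ?_
    rw [← mem_nilradical, nilradical_eq_sInf, Ideal.mem_sInf]
    intro q hq
    haveI : q.IsPrime := hq
    obtain ⟨p, hp, hpq⟩ := Ideal.exists_minimalPrimes_le (bot_le : ⊥ ≤ q)
    refine hpq (((Ideal.minimalPrimes_isPrime hp).mem_or_mem ?_).resolve_right (h p hp))
    rw [hx]
    exact Ideal.zero_mem _

theorem isLocalization_iff (hdim : ringKrullDim A = 1) (hA : LocCoh.depth A A = 1 ∨ IsReduced A)
    {f : A} (hf : f ∈ IsLocalRing.maximalIdeal A) :
    (∀ p ∈ minimalPrimes A, f ∉ p) ↔ IsLocalization (nonZeroDivisors A) (Localization.Away f) := by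
  refine ⟨fun h => ?_, fun h => (mem_nonZeroDivisors_iff hdim hA).1 ?_⟩
  · refine IsLocalization.of_le (Submonoid.powers f) _
      (Submonoid.powers_le.2 ((mem_nonZeroDivisors_iff hdim hA).2 h)) fun s hs => ?_
    by_contra hu
    obtain ⟨M, hM, hsM⟩ := exists_max_ideal_of_mem_nonunits hu
    exact (mem_nonZeroDivisors_iff hdim hA).1 hs _
      (comap_mem_minimalPrimes hdim hf ⟨M, hM.isPrime⟩) hsM
  · rw [mem_nonZeroDivisors_iff_right]
    intro x hx
    have hx' : algebraMap A (Localization.Away f) x = 0 := by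
      have h' := congrArg (algebraMap A (Localization.Away f)) hx
      rw [map_mul, map_zero] at h'
      exact (IsUnit.mul_left_eq_zero (IsLocalization.Away.algebraMap_isUnit f)).1 h'
    exact IsLocalization.injective (Localization.Away f) (le_refl (nonZeroDivisors A))
      (hx'.trans (map_zero _).symm)

theorem bijective_residueField [IsReduced A] {p : Ideal A} [p.IsPrime] (hp : p ∈ minimalPrimes A) :
    Function.Bijective (IsScalarTower.toAlgHom A (Localization.AtPrime p) p.ResidueField) := by
  haveI : Ring.KrullDimLE 0 (Localization.AtPrime p) := by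
    rw [Ring.krullDimLE_iff, Nat.cast_zero]
    exact (IsLocalization.AtPrime.ringKrullDim_eq_height p (Localization.AtPrime p)).trans_le
      (by rw [Ideal.height_eq_zero_iff.2 hp]; rfl)
  haveI : IsReduced (Localization.AtPrime p) := isReduced_localizationPreserves p.primeCompl _ ‹_›
  have hfld : IsField (Localization.AtPrime p) := Ring.KrullDimLE.isField_of_isReduced
  refine ⟨(injective_iff_map_eq_zero _).2 fun z hz => ?_, ?_⟩
  · have h' : z ∈ IsLocalRing.maximalIdeal (Localization.AtPrime p) :=
      IsLocalRing.residue_eq_zero_iff _ |>.1 hz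
    rwa [IsLocalRing.isField_iff_maximalIdeal_eq.1 hfld] at h'
  · exact IsLocalRing.residue_surjective

end Groth.Agent.DimOneLoc
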