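import Groth.Statements.S17082
-- import your own Groth.Agent.* helpers here

set_option autoImplicit false
set_option backward.isDefEq.respectTransparency false
set_option linter.style.haveILetI false
universe u
open CategoryTheory CategoryTheory.Limits AlgebraicGeometry
open MorSch

namespace Groth.Agent.S17082

open CategoryTheory CategoryTheory.Limits AlgebraicGeometry

lemma hilbPull_eq_comap {X S : Scheme.{u}} (f : X ⟶ S) {T T' : Over S} (g : T' ⟶ T)
    (I : (PicF.XT f T).IdealSheafData) :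
    FGA.hilbPull f g I = I.comap (PicF.XTmap f g) := by
  unfold FGA.hilbPull Scheme.IdealSheafData.comap
  rw [← pullbackSymmetry_hom_comp_fst I.subschemeι (PicF.XTmap f g), Scheme.Hom.ker_comp_of_isIso]

lemma comap_ker_of_openImmersion {A B : Scheme.{u}} (o : A ⟶ B) [IsOpenImmersion o]
    (I : A.IdealSheafData) [IsClosedImmersion (I.subschemeι ≫ o)] :
    (I.subschemeι ≫ o).ker.comap o = I := by
  let c := I.subschemeι ≫ o
  have sq : IsPullback c.toImage I.subschemeι c.ker.subschemeι o :=
    IsPullback.of_horiz_isIso_mono ⟨c.toImage_imageι⟩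
  have h : (c.ker.comap o) = (pullback.fst o c.ker.subschemeι).ker := rfl
  rw [h, ← sq.flip.isoPullback_inv_fst, Scheme.Hom.ker_comp_of_isIso, I.ker_subschemeι]

lemma eq_ker_of_support_subset {A B : Scheme.{u}} (o : A ⟶ B) [IsOpenImmersion o]
    (K : B.IdealSheafData) (hK : (K.support : Set B) ⊆ Set.range o) :
    K = ((K.comap o).subschemeι ≫ o).ker := by
  haveI : Surjective (pullback.snd o K.subschemeι) := by
    constructor
    rw [← Set.range_eq_univ, Scheme.Pullback.range_snd, Set.preimage_eq_univ_iff, K.range_subschemeι]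
    exact hK
  haveI : IsIso (pullback.snd o K.subschemeι) :=
    (isIso_iff_isOpenImmersion_and_surjective _).2 ⟨inferInstance, inferInstance⟩
  have he : (K.comap o).subschemeι ≫ o =
      ((K.comapIso o).hom ≫ pullback.snd o K.subschemeι) ≫ K.subschemeι := by
    rw [← K.comapIso_hom_fst o, Category.assoc, Category.assoc, pullback.condition]
  rw [he, Scheme.Hom.ker_comp_of_isIso, K.ker_subschemeι]

lemma isPullback_XTmap {X S : Scheme.{u}} (f : X ⟶ S) {T T' : Over S} (g : T' ⟶ T) :
    IsPullback (PicF.XTmap f g) (pullback.snd f T'.hom) (pullback.snd f T.hom) g.left := by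
  refine IsPullback.of_right ?_ (pullback.lift_snd _ _ _) (IsPullback.of_hasPullback f T.hom)
  have h1 : PicF.XTmap f g ≫ pullback.fst f T.hom = pullback.fst f T'.hom :=
    (pullback.lift_fst _ _ _).trans (Category.comp_id _)
  rw [h1, Over.w g]
  exact IsPullback.of_hasPullback f T'.hom

section
variable {X U S : Scheme.{u}} (f : X ⟶ S) (j : U ⟶ X)

/-- the open immersion `U_T ⟶ X_T` -/
noncomputable abbrev jT (T : Over S) : PicF.XT (j ≫ f) T ⟶ PicF.XT f T :=
  pullback.map (j ≫ f) T.hom f T.hom j (𝟙 _) (𝟙 S) (Category.comp_id _) (by simp)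

lemma range_jT (T : Over S) [IsOpenImmersion j] :
    Set.range (jT f j T) = pullback.fst f T.hom ⁻¹' Set.range j := by
  rw [Scheme.Pullback.range_map]
  simp

end

end Groth.Agent.S17082

namespace Groth.Agent.S17082


/-- Let f : X → S be a separated morphism, j : U → X an open immersion, and (H, Z) a pair representing
the Hilbert functor of X over S on locally Noetherian S-schemes (H locally Noetherian over S; Z ⊆ X
×_S H closed, proper and flat over H; every closed subscheme of X ×_S T proper and flat over a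
locally Noetherian S-scheme T is the pullback of Z along a unique S-morphism T → H). Then there are
an open subset H₀ of H and a closed subscheme Z₀ ⊆ U ×_S H₀, proper and flat over H₀, such that Z₀
is the pullback of Z along the morphism U ×_S H₀ → X ×_S H induced by j and the inclusion of H₀, and
(H₀, Z₀) represents the Hilbert functor of U over S. So the Hilbert scheme of U over S exists and is
an open subscheme of that of X. (Published for X projective and flat over a Noetherian S in the
representable case; this row assumes only X separated over S and takes the Hilbert scheme of X as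
given.) -/
theorem result
    {X U S : Scheme.{u}} (f : X ⟶ S) [IsSeparated f] (j : U ⟶ X) [IsOpenImmersion j]
    (H : Over S) (Z : FGA.HilbSet f H) (hH : FGA.HilbRepresentedBy f H Z) :
    ∃ (H₀ : H.left.Opens) (Z₀ : FGA.HilbSet (j ≫ f) (Over.mk (H₀.ι ≫ H.hom))),
      Z₀.1 = Z.1.comap (pullback.map (j ≫ f) (H₀.ι ≫ H.hom) f H.hom j H₀.ι (𝟙 S)
        (Category.comp_id _) (Category.comp_id _)) ∧
      FGA.HilbRepresentedBy (j ≫ f) (Over.mk (H₀.ι ≫ H.hom)) Z₀ := by
  let zι := Z.1.subschemeι
  let p : Z.1.subscheme ⟶ H.left := zι ≫ pullback.snd f H.hom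
  haveI : IsProper p := Z.2.1
  haveI : Flat p := Z.2.2
  let q : Z.1.subscheme ⟶ X := zι ≫ pullback.fst f H.hom
  let H₀ : H.left.Opens := ⟨(p '' (q ⁻¹' (Set.range j)ᶜ))ᶜ,
    (p.isClosedMap _ (j.isOpenEmbedding.isOpen_range.isClosed_compl.preimage q.continuous)).isOpen_compl⟩
  let m := pullback.map (j ≫ f) (H₀.ι ≫ H.hom) f H.hom j H₀.ι (𝟙 S) (Category.comp_id _) (Category.comp_id _)
  have hm : Set.range m = pullback.fst f H.hom ⁻¹' Set.range j ∩
      pullback.snd f H.hom ⁻¹' (H₀ : Set H.left) := by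
    rw [Scheme.Pullback.range_map, Scheme.Opens.range_ι]
  -- over `H₀` the universal subscheme lies in `U`
  have hH₀ : ∀ z, p z ∈ H₀ → q z ∈ Set.range j := fun z hz => by
    by_contra hq
    exact hz ⟨z, hq, rfl⟩
  let H₁ : Over S := Over.mk (H₀.ι ≫ H.hom)
  let ιH : H₁ ⟶ H := Over.homMk H₀.ι rfl
  have hmsnd : m ≫ pullback.snd f H.hom = pullback.snd (j ≫ f) (H₀.ι ≫ H.hom) ≫ H₀.ι :=
    pullback.lift_snd _ _ _
  have sq : IsPullback (pullback.fst m zι ≫ pullback.snd (j ≫ f) (H₀.ι ≫ H.hom))
      (pullback.snd m zι) H₀.ι p := by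
    refine IsOpenImmersion.isPullback _ _ _ _ ?_ ?_
    · change pullback.snd m zι ≫ zι ≫ pullback.snd f H.hom = _
      rw [← pullback.condition_assoc, hmsnd, Category.assoc]
    · ext z
      change p z ∈ Set.range H₀.ι ↔ z ∈ Set.range (pullback.snd m zι)
      rw [Scheme.Opens.range_ι, Scheme.Pullback.range_snd, Set.mem_preimage, hm, Set.mem_inter_iff,
        Set.mem_preimage, Set.mem_preimage, ← Scheme.Hom.comp_apply, ← Scheme.Hom.comp_apply]
      exact ⟨fun h => ⟨hH₀ z h, h⟩, fun h => h.2⟩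
  have hZ₀ : IsProper ((Z.1.comap m).subschemeι ≫ pullback.snd (j ≫ f) (H₀.ι ≫ H.hom)) ∧
      Flat ((Z.1.comap m).subschemeι ≫ pullback.snd (j ≫ f) (H₀.ι ≫ H.hom)) := by
    rw [← Scheme.IdealSheafData.comapIso_hom_fst, Category.assoc]
    haveI : IsProper (pullback.fst m zι ≫ pullback.snd (j ≫ f) (H₀.ι ≫ H.hom)) :=
      MorphismProperty.of_isPullback (P := @IsProper) sq.flip ‹_›
    haveI : Flat (pullback.fst m zι ≫ pullback.snd (j ≫ f) (H₀.ι ≫ H.hom)) :=
      MorphismProperty.of_isPullback (P := @Flat) sq.flip ‹_›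
    exact ⟨inferInstance, inferInstance⟩
  refine ⟨H₀, ⟨Z.1.comap m, hZ₀⟩, rfl, ?_, fun T _ Y => ?_⟩
  · haveI := hH.1
    exact LocallyOfFiniteType.isLocallyNoetherian H₀.ι
  -- the subscheme of `X_T` attached to `Y`
  let c : Y.1.subscheme ⟶ PicF.XT f T := Y.1.subschemeι ≫ jT f j T
  have hc : c ≫ PicF.XTproj f T = Y.1.subschemeι ≫ PicF.XTproj (j ≫ f) T := by
    change (Y.1.subschemeι ≫ jT f j T) ≫ pullback.snd f T.hom = _
    rw [Category.assoc, pullback.lift_snd, Category.comp_id]
  haveI : IsProper (c ≫ PicF.XTproj f T) := hc ▸ Y.2.1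
  haveI : IsSeparated (PicF.XTproj f T) :=
    MorphismProperty.pullback_snd (P := @IsSeparated) f T.hom ‹_›
  haveI : IsProper c := IsProper.of_comp c (PicF.XTproj f T)
  haveI : IsClosedImmersion c := .of_isPreimmersion c c.isClosedMap.isClosed_range
  haveI : IsClosedImmersion (Y.1.subschemeι ≫ jT f j T) := ‹IsClosedImmersion c›
  have hY' : IsProper (c.ker.subschemeι ≫ PicF.XTproj f T) ∧
      Flat (c.ker.subschemeι ≫ PicF.XTproj f T) := by
    have e : c.ker.subschemeι ≫ PicF.XTproj f T = inv c.toImage ≫ Y.1.subschemeι ≫ PicF.XTproj (j ≫ f) T := by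
      rw [← hc, IsIso.eq_inv_comp, ← Category.assoc]
      exact congrArg (· ≫ _) c.toImage_imageι
    rw [e]
    haveI := Y.2.1
    haveI := Y.2.2
    exact ⟨inferInstance, inferInstance⟩
  obtain ⟨g₀, hg₀, huniq⟩ := hH.2 T ⟨c.ker, hY'⟩
  have hg₀' : Z.1.comap (PicF.XTmap f g₀) = c.ker := (hilbPull_eq_comap f g₀ Z.1).symm.trans hg₀
  -- compatibility of the two pullbacks
  have key : ∀ g : T ⟶ H₁, PicF.XTmap (j ≫ f) g ≫ m = jT f j T ≫ PicF.XTmap f (g ≫ ιH) := fun g => by
    apply pullback.hom_ext <;> simp [m, jT, PicF.XTmap, ιH, H₁]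
  have hpull : ∀ g : T ⟶ H₁, FGA.hilbPull (j ≫ f) g (Z.1.comap m) =
      (Z.1.comap (PicF.XTmap f (g ≫ ιH))).comap (jT f j T) := fun g => by
    rw [hilbPull_eq_comap, ← Scheme.IdealSheafData.comap_comp, ← Scheme.IdealSheafData.comap_comp]
    exact congrArg Z.1.comap (key g)
  -- the classifying map of `Y` lands in `H₀`
  have hrange : Set.range g₀.left ⊆ (H₀ : Set H.left) := by
    rintro _ ⟨t, rfl⟩ ⟨z, hz, hzt⟩
    obtain ⟨w₀, hw₁, hw₂⟩ := Scheme.Pullback.exists_preimage_pullback
      (f := pullback.snd f H.hom) (g := g₀.left) (zι z) t hzt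
    let w := (isPullback_XTmap f g₀).isoPullback.inv w₀
    have hw : PicF.XTmap f g₀ w = zι z := by
      rw [← Scheme.Hom.comp_apply, (isPullback_XTmap f g₀).isoPullback_inv_fst]
      exact hw₁
    have hmem : w ∈ (c.ker.support : Set (PicF.XT f T)) := by
      rw [← hg₀', Scheme.IdealSheafData.support_comap]
      change PicF.XTmap f g₀ w ∈ (Z.1.support : Set (PicF.XT f H))
      rw [hw, ← Z.1.range_subschemeι]
      exact ⟨z, rfl⟩
    rw [Scheme.Hom.support_ker] at hmem
    change w ∈ closure (Set.range c) at hmem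
    rw [c.isClosedMap.isClosed_range.closure_eq] at hmem
    obtain ⟨y, hy⟩ := hmem
    have h1 : w ∈ Set.range (jT f j T) := ⟨Y.1.subschemeι y, hy⟩
    rw [range_jT, Set.mem_preimage] at h1
    apply hz
    have h2 : (PicF.XTmap f g₀ ≫ pullback.fst f H.hom) w = pullback.fst f T.hom w := by
      simp [PicF.XTmap]
    rw [Set.mem_preimage] at *
    convert h1 using 1
    rw [← h2]
    exact congrArg (fun x => pullback.fst f H.hom x) hw.symm
  have hrange' : Set.range g₀.left ⊆ Set.range H₀.ι := by rwa [Scheme.Opens.range_ι]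
  let g₁ : T ⟶ H₁ := Over.homMk (IsOpenImmersion.lift H₀.ι g₀.left hrange') (by
    change IsOpenImmersion.lift H₀.ι g₀.left hrange' ≫ H₀.ι ≫ H.hom = T.hom
    rw [IsOpenImmersion.lift_fac_assoc, Over.w g₀])
  have hg₁ : g₁ ≫ ιH = g₀ := Over.OverMorphism.ext (IsOpenImmersion.lift_fac _ _ _)
  refine ⟨g₁, ?_, fun g hg => ?_⟩
  · change FGA.hilbPull (j ≫ f) g₁ (Z.1.comap m) = Y.1
    rw [hpull, hg₁, hg₀']
    exact comap_ker_of_openImmersion (jT f j T) Y.1
  · replace hg : FGA.hilbPull (j ≫ f) g (Z.1.comap m) = Y.1 := hg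
    rw [hpull] at hg
    have hsupp : ((Z.1.comap (PicF.XTmap f (g ≫ ιH))).support : Set (PicF.XT f T)) ⊆ Set.range (jT f j T) := by
      intro w hw
      rw [Scheme.IdealSheafData.support_comap] at hw
      change PicF.XTmap f (g ≫ ιH) w ∈ (Z.1.support : Set (PicF.XT f H)) at hw
      rw [← Z.1.range_subschemeι] at hw
      obtain ⟨z, hz⟩ := hw
      rw [range_jT, Set.mem_preimage]
      have h1 : p z = (g ≫ ιH).left (pullback.snd f T.hom w) := by
        change pullback.snd f H.hom (zι z) = _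
        rw [show zι z = _ from hz, ← Scheme.Hom.comp_apply, ← Scheme.Hom.comp_apply]
        simp [PicF.XTmap]
      have h2 : p z ∈ H₀ := by
        rw [h1]
        exact (g.left (pullback.snd f T.hom w)).2
      convert hH₀ z h2 using 1
      change _ = pullback.fst f H.hom (zι z)
      rw [show zι z = _ from hz, ← Scheme.Hom.comp_apply]
      simp [PicF.XTmap]
    have hK : Z.1.comap (PicF.XTmap f (g ≫ ιH)) = c.ker := by
      rw [eq_ker_of_support_subset (jT f j T) _ hsupp, hg]
    have h3 : g ≫ ιH = g₀ := huniq _ ((hilbPull_eq_comap f (g ≫ ιH) Z.1).trans hK)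
    refine Over.OverMorphism.ext ((cancel_mono H₀.ι).1 ?_)
    exact (congrArg CommaMorphism.left h3).trans (IsOpenImmersion.lift_fac _ _ _).symm

end Groth.Agent.S17082
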