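import Groth.Statements.S16087
import Groth.Agent.RefDiv.Ideal

set_option autoImplicit false
universe u
open CategoryTheory CategoryTheory.Limits AlgebraicGeometry TopologicalSpace
open SDiv

namespace Groth.Agent.S16087

open Groth.Agent.RefDiv

/-- The class map takes values in Weil divisor classes and is surjective: suppose X is a normal scheme
that is integral and locally Noetherian, and denote its generic point by η. For a rank one coherent
reflexive O_X-module F and a nonzero rational section s ∈ F_η write ord_{x,F}(s) for the order of s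
with respect to a generator of the free rank one O_{X,x}-module F_x at a point x of codimension 1.
Then (1) the function sending a codimension-1 point x to ord_{x,F}(s) and every other point to 0 has
locally finite support, so it is a Weil divisor; and (2) every Weil divisor D on X (an
integer-valued function with locally finite support vanishing outside the codimension-1 points)
arises this way: D(x) = ord_{x,F}(s) at all codimension-1 points x for some rank one coherent
reflexive F and nonzero s ∈ F_η. -/
theorem result (X : Scheme.{u}) [IsIntegral X] [IsLocallyNoetherian X]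
    (hX : Pi1.IsNormalScheme X) :
    (∀ (F : X.Modules) (hF : RefHull.IsRef1 F) (s : Cyc.secFibre F (genericPoint ↥X)), s ≠ 0 →
        ∃ D : AlgebraicCycle X ℤ, (∀ x : ↥X, Order.coheight x ≠ 1 → D x = 0) ∧
          ∀ (x : ↥X), Order.coheight x = 1 →
            D x = Cyc.secOrdAt F (genericPoint ↥X) x ((genericPoint_spec ↥X).specializes (Set.mem_univ x)) s) ∧
      ∀ D : AlgebraicCycle X ℤ, (∀ x : ↥X, Order.coheight x ≠ 1 → D x = 0) →
        ∃ (F : X.Modules) (_ : RefHull.IsRef1 F) (s : Cyc.secFibre F (genericPoint ↥X)), s ≠ 0 ∧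
          ∀ (x : ↥X), Order.coheight x = 1 →
            D x = Cyc.secOrdAt F (genericPoint ↥X) x ((genericPoint_spec ↥X).specializes (Set.mem_univ x)) s := by

  classical
  refine ⟨fun F hF s hs => ?_, fun D hD => ?_⟩
  · obtain ⟨v, rfl⟩ := Submodule.Quotient.mk_surjective _ s
    have hv : v ≠ 0 := fun h => hs (by rw [h]; rfl)
    have lF := lat_of_isRef1 hF
    obtain ⟨W, hW, e, he⟩ := lF.exists_isGen_generic
    obtain ⟨φ, hφ⟩ := (bijective_germ_of_isGen he hW).2 v
    change φ • _ = v at hφ
    have hφ0 : (φ : X.functionField) ≠ 0 := fun h => hv (by rw [← hφ, h]; exact zero_smul _ _)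
    refine ⟨⟨fun x => if Order.coheight x = 1 then dv F x v else 0, fun _ _ => trivial, fun z _ => ?_⟩,
      fun x hx => if_neg hx, fun x hx => if_pos hx⟩
    obtain ⟨U, hU, hzU, -⟩ := exists_isAffineOpen_mem_and_subset (x := z) (U := (⊤ : X.Opens)) trivial
    haveI := DivOrd.noetherianSpace_subset_affine U hU ((U : Set X) \ W) Set.sdiff_subset
    refine ⟨U, U.2.mem_nhds hzU, ((DivOrd.finite_coheight_one ((U : Set X) \ W) (W : Set X)ᶜ
      W.2.isClosed_compl (fun x hx => hx.2) (fun h => h hW)).union
      (DivOrd.finite_ord_ne_zero U hU φ hφ0)).subset ?_⟩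
    rintro x ⟨hxU, hx⟩
    change (if Order.coheight x = 1 then dv F x v else 0) ≠ 0 at hx
    by_cases h1 : Order.coheight x = 1
    · rw [if_pos h1] at hx
      by_cases hxW : x ∈ W
      · refine Or.inr ⟨hxU, h1, fun h => hx ?_⟩
        rw [dv, lF.secOrdAt_mk h1 (span_eq_top_of_surjective (bijective_germ_of_isGen he hxW).2) hφ0
          ((congrArg (φ • ·) (RefStalk.msp_germ F _ hxW e)).trans hφ), h]
      · exact Or.inl ⟨⟨hxU, hxW⟩, h1⟩
    · exact absurd (if_neg h1) hx
  · have hfin : ∀ U : X.Opens, IsAffineOpen U → {x : X | x ∈ U ∧ D x ≠ 0}.Finite := fun U hU => by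
      choose t ht hfin using fun z : X => D.supportLocallyFiniteWithinDomain' z trivial
      obtain ⟨s, -, hs⟩ := hU.isCompact.elim_nhds_subcover t fun z _ => ht z
      refine ((s.finite_toSet).biUnion fun z _ => hfin z).subset ?_
      rintro x ⟨hxU, hx⟩
      obtain ⟨z, hz, hxz⟩ := Set.mem_iUnion₂.1 (hs hxU)
      exact Set.mem_iUnion₂.2 ⟨z, hz, hxz, hx⟩
    let P : X → ℕ := fun x => (D x).toNat
    let N : X → ℕ := fun x => (-D x).toNat
    have hP : FinSupp P := fun U hU => (hfin U hU).subset fun x hx => ⟨hx.1, fun h => hx.2.2 (by simp [P, h])⟩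
    have hN : FinSupp N := fun U hU => (hfin U hU).subset fun x hx => ⟨hx.1, fun h => hx.2.2 (by simp [N, h])⟩
    obtain ⟨s, hs, hsD⟩ := hasDiv_dual hX (lat_idl hP) (hasDiv_idl hX hP)
    obtain ⟨t, ht, htD⟩ := hasDiv_idl hX hN
    obtain ⟨w, hw, hwD⟩ := hasDiv_tensor hX (lat_dual (lat_idl hP)) (lat_idl hN) hs ht
    refine ⟨_, isRef1_tensor (lat_dual (lat_idl hP)) (lat_idl hN), Submodule.Quotient.mk w,
      fun e => hw (Lat.mk_injective _ (e.trans (Submodule.Quotient.mk_zero _).symm)), fun x hx => ?_⟩
    show D x = dv _ x w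
    rw [hwD x hx, hsD x hx, htD x hx]
    simp only [P, N]
    omega

end Groth.Agent.S16087
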