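import Groth.Statements.S4887
import Mathlib
import Groth.Agent.InjFibre.Stalk
import Groth.Agent.FlatRes.Basic
import Groth.Agent.QC.IdealMod

set_option autoImplicit false
universe u
open EGA43

namespace Groth.Agent.S4887

set_option linter.style.haveILetI false

theorem fp_ker {A B M C : Type u} [CommRing A] [CommRing B] [Algebra A B] [Algebra.FinitePresentation A B]
    [AddCommGroup M] [Module B M] [Module.FinitePresentation B M]
    [AddCommGroup C] [Module B C] [Module A C] [IsScalarTower A B C] [Module.FinitePresentation B C] [Module.Flat A C]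
    (φ : M →ₗ[B] C) (hφ : Function.Surjective φ) : Module.FinitePresentation B (LinearMap.ker φ) := by
  obtain ⟨n, p, hp⟩ := Module.Finite.exists_fin' B M
  haveI := FlatRes.finitePresentation_ker (A := A) (φ ∘ₗ p) (hφ.comp hp)
  let k : LinearMap.ker (φ ∘ₗ p) →ₗ[B] LinearMap.ker φ := p.restrict fun z hz => hz
  have hk : Function.Surjective k := by
    rintro ⟨y, hy⟩
    obtain ⟨z, rfl⟩ := hp y
    exact ⟨⟨z, hy⟩, rfl⟩
  refine Module.finitePresentation_of_surjective k hk (Submodule.fg_of_fg_map_injective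
    (LinearMap.ker (φ ∘ₗ p)).subtype (Submodule.injective_subtype _) ?_)
  have : (LinearMap.ker k).map (LinearMap.ker (φ ∘ₗ p)).subtype = LinearMap.ker p := by
    ext z
    simp only [Submodule.mem_map, LinearMap.mem_ker, Submodule.subtype_apply]
    refine ⟨?_, fun hz => ⟨⟨z, by simp [hz]⟩, Subtype.ext hz, rfl⟩⟩
    rintro ⟨⟨w, hw⟩, hw', rfl⟩
    exact congrArg Subtype.val hw'
  rw [this]
  exact Module.FinitePresentation.fg_ker p hp

open AlgebraicGeometry CategoryTheory Limits in
/-- Let f : X ⟶ Y be locally of finite presentation, G and H quasi-coherent O_X-modules of finite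
presentation with H f-flat, and p : G ⟶ H an epimorphism. Then Ker p is an O_X-module of finite
presentation. -/
theorem result {X Y : Scheme.{u}} (f : X ⟶ Y) [LocallyOfFinitePresentation f]
    (G H : X.Modules) [Coh.IsQCoh G] [Coh.IsQCoh H] (hG : CohB1.IsFP G) (hH : CohB1.IsFP H)
    (hflat : FlatMod.IsFlatOver f H) (p : G ⟶ H) [Epi p] :
    CohB1.IsFP (kernel p) := by
  have hq : Coh.IsQCoh (kernel p) := QC.isQCoh_kernel inferInstance inferInstance p
  refine QC.isFP_iff_exists_hasFinPres.mpr fun x => ?_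
  obtain ⟨V, hV, hyV, -⟩ := exists_isAffineOpen_mem_and_subset (X := Y) (x := f x) (U := ⊤) trivial
  obtain ⟨W, hW, hxW, hWV⟩ := exists_isAffineOpen_mem_and_subset (X := X) (x := x) (U := f ⁻¹ᵁ V) hyV
  letI : Algebra Γ(Y, V) Γ(X, W) := (f.appLE V W hWV).hom.toAlgebra
  haveI : Algebra.FinitePresentation Γ(Y, V) Γ(X, W) := f.finitePresentation_appLE hV hW hWV
  letI : Module Γ(Y, V) Γ(H, W) := Module.compHom Γ(H, W) (f.appLE V W hWV).hom
  haveI : IsScalarTower Γ(Y, V) Γ(X, W) Γ(H, W) := IsScalarTower.of_algebraMap_smul fun _ _ => rfl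
  haveI := LocFree.finitePresentation_sections_of_isFP (inferInstance : Coh.IsQCoh G) hG hW
  haveI := LocFree.finitePresentation_sections_of_isFP (inferInstance : Coh.IsQCoh H) hH hW
  haveI : Module.Flat Γ(Y, V) Γ(H, W) := by
    refine Module.flat_of_isLocalized_maximal (R := Γ(Y, V)) Γ(X, W) Γ(H, W)
      (fun P _ => LocalizedModule P.primeCompl Γ(H, W)) (fun P _ => LocalizedModule.mkLinearMap P.primeCompl _)
      fun P hP => ?_
    obtain ⟨hx', hh⟩ := InjFibre.primeIdealOf_fromSpec hW ⟨P, hP.isPrime⟩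
    have := (InjFibre.isFlatOverAt_iff f H inferInstance hV hW hWV _ hx').1 (hflat _)
    rwa [hh] at this
  let φ : Γ(G, W) →ₗ[Γ(X, W)] Γ(H, W) :=
    { toFun := fun s => p.app W s
      map_add' := map_add _
      map_smul' := fun a s => Scheme.Modules.Hom.app_smul p a s }
  haveI := fp_ker (A := Γ(Y, V)) φ (QC.app_surjective_of_epi hW inferInstance inferInstance p)
  let ι : Γ(kernel p, W) →ₗ[Γ(X, W)] Γ(G, W) :=
    { toFun := fun s => (kernel.ι p).app W s
      map_add' := map_add _
      map_smul' := fun a s => Scheme.Modules.Hom.app_smul (kernel.ι p) a s }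
  have hι : Function.Injective ι := QC.app_injective_of_mono (kernel.ι p) W
  have hr : LinearMap.range ι = LinearMap.ker φ := SetLike.ext fun t => QC.mem_range_kernel_app p W t
  haveI : Module.FinitePresentation Γ(X, W) Γ(kernel p, W) :=
    Module.FinitePresentation.of_equiv ((LinearEquiv.ofInjective ι hι).trans (LinearEquiv.ofEq _ _ hr)).symm
  exact ⟨W, hxW, QC.hasFinPres_of_finitePresentation hW (hM := hq)⟩

end Groth.Agent.S4887
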