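import Groth.Statements.S1231
import Mathlib.RingTheory.Smooth.Flat
import Mathlib.RingTheory.Unramified.Finite
import Mathlib.RingTheory.Flat.Stability
import Mathlib.Algebra.Module.LocalizedModule.Basic
-- import your own Groth.Agent.* helpers here

set_option autoImplicit false
universe u
open FlatMor

namespace Groth.Agent.S1231

open TensorProduct in
theorem flat_module_of_unramified (R T V : Type*) [CommRing R] [CommRing T] [Algebra R T]
    [Algebra.EssFiniteType R T] [Algebra.FormallyUnramified R T] [AddCommGroup V] [Module T V] [Module R V]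
    [IsScalarTower R T V] [Module.Flat R V] : Module.Flat T V := by
  let t : T ⊗[R] T := Algebra.FormallyUnramified.elem R T
  let g : T →ₗ[T] V →ₗ[R] T ⊗[R] V :=
    LinearMap.toSpanSingleton T _ ((TensorProduct.mk R T V) 1)
  let π : T ⊗[R] V →ₗ[T] V := AlgebraTensorModule.lift
    (LinearMap.toSpanSingleton T (V →ₗ[R] V) LinearMap.id)
  have hπ : ∀ (a : T) (v : V), π (a ⊗ₜ[R] v) = a • v := fun a v => by simp [π]
  let act : T ⊗[R] T →ₗ[R] V →ₗ[R] T ⊗[R] V :=
    TensorProduct.lift (LinearMap.mk₂ R (fun a b =>
      (TensorProduct.mk R T V a).comp ((LinearMap.lsmul T V b).restrictScalars R))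
      (fun a a' b => by ext v; simp [add_tmul]) (fun r a b => by ext v; simp [smul_tmul'])
      (fun a b b' => by ext v; simp [add_smul, tmul_add]) (fun r a b => by ext v; simp [tmul_smul]))
  have act_tmul : ∀ a b v, act (a ⊗ₜ[R] b) v = a ⊗ₜ[R] (b • v) := fun a b v => by simp [act]
  have h1 : ∀ (z : T ⊗[R] T) (c : T) (v : V),
      act z (c • v) = act (((1 : T) ⊗ₜ[R] c) * z) v := by
    intro z c v
    induction z using TensorProduct.induction_on with
    | zero => simp
    | tmul a b =>
      rw [act_tmul, Algebra.TensorProduct.tmul_mul_tmul, one_mul, act_tmul, ← mul_smul, mul_comm c b]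
    | add x y hx hy => rw [mul_add, map_add, map_add, LinearMap.add_apply, LinearMap.add_apply, hx, hy]
  have h2 : ∀ (z : T ⊗[R] T) (c : T) (v : V),
      c • act z v = act ((c ⊗ₜ[R] (1 : T)) * z) v := by
    intro z c v
    induction z using TensorProduct.induction_on with
    | zero => simp
    | tmul a b =>
      rw [act_tmul, Algebra.TensorProduct.tmul_mul_tmul, one_mul, act_tmul, smul_tmul', smul_eq_mul]
    | add x y hx hy => rw [mul_add, map_add, map_add, LinearMap.add_apply, LinearMap.add_apply, smul_add, hx, hy]
  let σ : V →ₗ[T] T ⊗[R] V :=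
    { toFun := act t
      map_add' := fun a b => map_add _ a b
      map_smul' := fun c v => by
        rw [RingHom.id_apply, h1, h2, Algebra.FormallyUnramified.one_tmul_mul_elem] }
  refine Module.Flat.of_retract σ π (LinearMap.ext fun v => ?_)
  show π (act t v) = v
  have h3 : ∀ z, π (act z v) = Algebra.TensorProduct.lmul' R (S := T) z • v := by
    intro z
    induction z using TensorProduct.induction_on with
    | zero => simp
    | tmul a b => rw [act_tmul, hπ, Algebra.TensorProduct.lmul'_apply_tmul, mul_smul]
    | add x y hx hy => rw [map_add, LinearMap.add_apply, map_add, map_add, add_smul, hx, hy]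
  rw [h3, Algebra.FormallyUnramified.lmul_elem, one_smul]


/-- Let R → T be an étale ring map, C a T-algebra, N a C-module and q a prime of C. Then the
localization N_q is flat over R if and only if it is flat over T. In particular N is flat over R if
and only if it is flat over T. -/
theorem result {R T C : Type u} [CommRing R] [CommRing T] [CommRing C] [Algebra R T] [Algebra.Etale R T]
    [Algebra T C] [Algebra R C] [IsScalarTower R T C]
    (N : Type u) [AddCommGroup N] [Module C N] [Module T N] [Module R N] [IsScalarTower T C N] [IsScalarTower R C N] [IsScalarTower R T N]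
    (q : Ideal C) [q.IsPrime] :
    (FlatCA.FlatAt R q N ↔ FlatCA.FlatAt T q N) ∧ (Module.Flat R N ↔ Module.Flat T N) := by
  haveI : Module.Flat R T := Algebra.Smooth.flat R T
  have key : ∀ (V : Type u) [AddCommGroup V] [Module T V] [Module R V] [IsScalarTower R T V],
      Module.Flat R V ↔ Module.Flat T V := fun V _ _ _ _ => ⟨fun h => by
        haveI := h
        exact flat_module_of_unramified R T V, fun h => by
        haveI := h
        exact Module.Flat.trans R T V⟩
  exact ⟨key (LocalizedModule q.primeCompl N), key N⟩

end Groth.Agent.S1231
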