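import Groth.Statements.S5105
import Groth.Agent.RefDiv.Inv
import Groth.Agent.S16087

set_option autoImplicit false
universe u
open CategoryTheory CategoryTheory.Limits AlgebraicGeometry TopologicalSpace
open Div21

namespace Groth.Agent.S5105

open Groth.Agent.RefDiv

/-- For an integral scheme (X is locally factorial exactly when the canonical map Pic(X) → Cl(X) is a
bijection; in the presence of (i), being bijective means that each codimension-1 cycle arises as the
Weil divisor of some rational section of an invertible module): suppose X is an integral scheme that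
is normal and locally Noetherian. Then these two conditions are equivalent: (1) whenever Z is a
function from the points of X to the integers that is zero away from the points of codimension 1
(coheight 1) and whose support is locally finite, one can find an invertible O_X-module L together
with a nonzero rational section s of L (a nonzero element of the generic fibre of L) such that, at
each point of codimension 1, the order of s equals the value Z takes there; (2) each local ring of X
is a unique factorisation domain. -/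
theorem result (X : Scheme.{u}) [IsIntegral X]
    [IsLocallyNoetherian X] (hX : Pi1.IsNormalScheme X) :
    (∀ Z : ↥X → ℤ, (∀ x : ↥X, Order.coheight x ≠ 1 → Z x = 0) →
        (∀ x : ↥X, ∃ W : X.Opens, x ∈ W ∧ {z : ↥X | z ∈ W ∧ Z z ≠ 0}.Finite) →
        ∃ (L : X.Modules) (_ : PicF.IsInvertible L) (s : Cyc.secFibre L (genericPoint ↥X)), s ≠ 0 ∧
          ∀ x : ↥X, Order.coheight x = 1 →
            Cyc.secOrdAt L (genericPoint ↥X) x (genericPoint_specializes x) s = Z x) ↔
      ∀ x : ↥X, UniqueFactorizationMonoid ↑(X.presheaf.stalk x) := by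

  classical
  constructor
  · intro H y
    haveI := (hX y).1
    rw [UniqueFactorizationMonoid.iff_exists_prime_mem_of_isPrime]
    intro P hP hPp
    obtain ⟨x₀, h₀, hx₀, hle⟩ := CDivNormal.exists_codim_one_le hX P hP
    obtain ⟨L, hL, s, hs, hZ⟩ := H (fun x => if x = x₀ then 1 else 0)
      (fun x hx => if_neg fun e : x = x₀ => hx (by rw [e]; exact hx₀))
      fun x => ⟨⊤, trivial, (Set.finite_singleton x₀).subset fun z hz => not_not.1 fun hne => hz.2 (if_neg hne)⟩
    obtain ⟨v, rfl⟩ := Submodule.Quotient.mk_surjective _ s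
    have hv : v ≠ 0 := fun e => hs (by rw [e]; rfl)
    have lL := lat_of_isInvertible hL
    obtain ⟨A, e, hyA, he⟩ := TMul.exists_isGen hL y
    obtain ⟨φ, hφ⟩ := (bijective_germ_of_isGen he ((RefStalk.toGen y).mem_open A.2 hyA)).2 v
    change φ • _ = v at hφ
    have hφ0 : (φ : X.functionField) ≠ 0 := fun h => hv (by rw [← hφ, h]; exact zero_smul _ _)
    have hord : ∀ x : X, x ⤳ y → Order.coheight x = 1 →
        Scheme.ord (φ : X.functionField) x = if x = x₀ then 1 else 0 := fun x hxy hx => by
      have hxA : x ∈ A := hxy.mem_open A.2 hyA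
      exact (lL.secOrdAt_mk hx (span_eq_top_of_surjective (bijective_germ_of_isGen he hxA).2) hφ0
        ((congrArg (φ • ·) (RefStalk.msp_germ L _ hxA e)).trans hφ)).symm.trans (hZ x hx)
    have hreg : ∀ (f : X.functionField) (hf : f ≠ 0),
        (∀ x : X, x ⤳ y → Order.coheight x = 1 → 0 ≤ Scheme.ord f x) → ∃ r, sp y r = f := fun f hf h =>
      CDivNormal.mem_range_of_codim_one hX f y fun x hxy hx => (RefDiv.ord_nonneg_iff hX hx hf).1 (h x hxy hx)
    obtain ⟨a, ha⟩ := hreg φ hφ0 fun x hxy hx => by rw [hord x hxy hx]; split <;> omega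
    have ha0 : a ≠ 0 := fun e => hφ0 (by rw [← ha, e, map_zero])
    have hPa : CDivNormal.genPrime h₀ = Ideal.span {a} := by
      refine le_antisymm (fun b hb => ?_) ((Ideal.span_singleton_le_iff_mem _).2 ?_)
      · rcases eq_or_ne b 0 with rfl | hb0
        · exact Ideal.zero_mem _
        obtain ⟨c, hc⟩ := hreg (sp y b / sp y a) (div_ne_zero (sp_ne_zero hb0) (sp_ne_zero ha0)) fun x hxy hx => by
          rw [div_eq_mul_inv, Scheme.ord_mul (sp_ne_zero hb0) (inv_ne_zero (sp_ne_zero ha0)),
            RefDiv.ord_inv (sp_ne_zero ha0), ha, hord x hxy hx]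
          have h1 : 0 ≤ Scheme.ord (sp y b) x := CDivNormal.ord_fn_nonneg hX hxy hx hb0
          split
          · next e =>
            subst e
            have h2 : Scheme.ord (sp y b) x ≠ 0 := fun h0 =>
              (CDivNormal.ord_fn_eq_zero_iff hX hxy hx hb0).1 h0 hb
            omega
          · omega
        refine Ideal.mem_span_singleton'.2 ⟨c, sp_injective y ?_⟩
        rw [map_mul, hc, div_mul_cancel₀ _ (sp_ne_zero ha0)]
      · by_contra hm
        have h2 : Scheme.ord (sp y a) x₀ = 0 := (CDivNormal.ord_fn_eq_zero_iff hX h₀ hx₀ ha0).2 hm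
        rw [ha, hord x₀ h₀ hx₀, if_pos rfl] at h2
        omega
    haveI : (Ideal.span {a}).IsPrime := hPa ▸ (inferInstance : (CDivNormal.genPrime h₀).IsPrime)
    exact ⟨a, hle (by rw [hPa]; exact Ideal.mem_span_singleton_self a), (Ideal.span_singleton_prime ha0).1 this⟩
  · intro hU Z hZ hfin
    let D : AlgebraicCycle X ℤ := ⟨Z, fun _ _ => trivial, fun z _ => by
      obtain ⟨W, hzW, hW⟩ := hfin z
      exact ⟨W, W.2.mem_nhds hzW, hW⟩⟩
    obtain ⟨F, hF, s, hs, hD⟩ := (S16087.result X hX).2 D hZ
    have lF := lat_of_isRef1 hF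
    refine ⟨F, RefStalk.isInvertible_of_stalk_equiv hF.1.1 hF.1.2 fun y => ?_, s, hs, fun x hx => (hD x hx).symm⟩
    haveI := hU y
    haveI := (hX y).1
    haveI : Module.IsReflexive (X.presheaf.stalk y) (F.presheaf.stalk y) := (RefStalk.isReflexive_iff hF.1).1 hF.2.1 y
    haveI : Nontrivial (F.presheaf.stalk y) := by
      obtain ⟨m₀, hm₀, -⟩ := lF.gen
      obtain ⟨d, c, hd, hdc⟩ := RefStalk.exists_mem_smul lF.coh.1 (RefStalk.toGen y) m₀
      refine ⟨⟨c, 0, fun e => ?_⟩⟩
      rw [e, map_zero, show RefStalk.msp F (RefStalk.toGen (genericPoint X)) m₀ = m₀ by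
        show (F.presheaf.stalkSpecializes _).hom m₀ = m₀
        rw [TopCat.Presheaf.stalkSpecializes_refl]; rfl] at hdc
      exact smul_ne_zero' hm₀ (sp_ne_zero fun h => hd (by rw [h]; exact Ideal.zero_mem _)) hdc
    refine RefStalk.exists_equiv_of_isReflexive fun m m' hm => ?_
    have hm0 : RefStalk.msp F (RefStalk.toGen y) m ≠ 0 := fun e => hm (lF.injective_msp y (e.trans (map_zero _).symm))
    obtain ⟨c, hc⟩ := lF.exists_smul hm0 (RefStalk.msp F (RefStalk.toGen y) m')
    obtain ⟨p, q, hq, rfl⟩ := IsFractionRing.div_surjective (X.presheaf.stalk y) c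
    refine ⟨p, q, nonZeroDivisors.ne_zero hq, lF.injective_msp y ?_⟩
    rw [RefStalk.msp_smul, RefStalk.msp_smul, ← hc, smul_smul]
    exact congrArg (· • _) (mul_div_cancel₀ _ (sp_ne_zero (nonZeroDivisors.ne_zero hq)))

end Groth.Agent.S5105
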