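import Mathlib

/-! Avoiding saturated submodules over a residue field; monomials in graded algebras. -/

set_option autoImplicit false
universe u v w

namespace Groth.Agent.ZeroCycGen

/-- A module is not the union of at most `#κ(p)` proper submodules saturated away from `p`. -/
theorem exists_forall_notMem {R : Type u} {M : Type v} [CommRing R] [AddCommGroup M] [Module R M]
    {ι : Type w} (W : ι → Submodule R M) (p : Ideal R) [p.IsPrime]
    (hsat : ∀ i (r : R) m, r ∉ p → r • m ∈ W i → m ∈ W i) (hne : ∀ i, W i ≠ ⊤)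
    (s : Finset ι) (hcard : (s.card : Cardinal.{u}) ≤ Cardinal.mk p.ResidueField) :
    ∃ m, ∀ i ∈ s, m ∉ W i := by
  classical
  induction s using Finset.induction_on with
  | empty => exact ⟨0, by simp⟩
  | @insert a s ha ih =>
    rw [Finset.card_insert_of_notMem ha] at hcard
    obtain ⟨u, hu⟩ := ih (le_trans (by exact_mod_cast Nat.le_succ _) hcard)
    by_cases hua : u ∈ W a
    swap
    · exact ⟨u, by simpa [hua] using hu⟩
    obtain ⟨v, hv⟩ : ∃ v, v ∉ W a := by
      by_contra h
      push_neg at h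
      exact hne a (eq_top_iff.mpr fun x _ => h x)
    by_contra hall
    push_neg at hall
    have hrep : ∀ l : p.ResidueField, ∃ bc : R × R, bc.1 ∉ p ∧
        l * algebraMap R p.ResidueField bc.1 = algebraMap R p.ResidueField bc.2 := by
      intro l
      obtain ⟨⟨c, b⟩, h⟩ := IsLocalization.surj (nonZeroDivisors (R ⧸ p)) l
      obtain ⟨c', rfl⟩ := Ideal.Quotient.mk_surjective c
      obtain ⟨b', hb'⟩ := Ideal.Quotient.mk_surjective (b : R ⧸ p)
      refine ⟨(b', c'), fun hm => nonZeroDivisors.ne_zero b.2 ?_, ?_⟩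
      · rw [← hb', Ideal.Quotient.eq_zero_iff_mem]; exact hm
      · simpa [← hb'] using h
    choose bc hb hbc using hrep
    have hj : ∀ l, ∃ i ∈ s, (bc l).1 • v + (bc l).2 • u ∈ W i := by
      intro l
      obtain ⟨i, hi, hm⟩ := hall ((bc l).1 • v + (bc l).2 • u)
      rcases Finset.mem_insert.mp hi with rfl | hi
      · exact absurd (hsat _ _ _ (hb l)
          (((W _).add_mem_iff_left ((W _).smul_mem _ hua)).mp hm)) hv
      · exact ⟨i, hi, hm⟩
    choose j hj1 hj2 using hj
    have hinj : Function.Injective (fun l => (⟨j l, hj1 l⟩ : s)) := by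
      intro l l' h
      have h' : j l = j l' := congrArg Subtype.val h
      by_contra hll
      apply hu (j l) (hj1 l)
      refine hsat _ ((bc l).1 * (bc l').2 - (bc l').1 * (bc l).2) _ (fun hmem => hll ?_) ?_
      · have h0 := Ideal.algebraMap_residueField_eq_zero.mpr hmem
        rw [map_sub, map_mul, map_mul, ← hbc l, ← hbc l', sub_eq_zero] at h0
        have hnb : algebraMap R p.ResidueField (bc l).1 ≠ 0 :=
          fun h => hb l (Ideal.algebraMap_residueField_eq_zero.mp h)
        have hnb' : algebraMap R p.ResidueField (bc l').1 ≠ 0 :=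
          fun h => hb l' (Ideal.algebraMap_residueField_eq_zero.mp h)
        apply mul_left_cancel₀ (mul_ne_zero hnb hnb')
        linear_combination -h0
      · convert (W (j l)).sub_mem ((W (j l)).smul_mem (bc l).1 (h' ▸ hj2 l'))
          ((W (j l)).smul_mem (bc l').1 (hj2 l)) using 1
        simp only [smul_add, smul_smul, sub_smul, mul_comm (bc l').1 (bc l).1]
        abel
    have h2 : (Cardinal.lift.{w} (Cardinal.mk p.ResidueField)) ≤ Cardinal.lift.{u} (s.card : Cardinal.{w}) := by
      have := Cardinal.lift_mk_le_lift_mk_of_injective hinj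
      rwa [Cardinal.mk_coe_finset] at this
    have h3 := Cardinal.lift_le.{w}.mpr hcard
    have h4 := h3.trans h2
    simp only [Cardinal.lift_natCast] at h4
    exact absurd (Nat.cast_le.mp h4) (by omega)

variable {R A : Type u} [CommRing R] [CommRing A] [Algebra R A] (𝒜 : ℕ → Submodule R A)
  [GradedAlgebra 𝒜]

/-- If a homogeneous ideal contains algebra generators, it contains the irrelevant ideal. -/
theorem irrelevant_le {S : Set A} (hS : Algebra.adjoin R S = ⊤) (J : HomogeneousIdeal 𝒜)
    (hJ : S ⊆ (J.toIdeal : Set A)) : HomogeneousIdeal.irrelevant 𝒜 ≤ J := by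
  have hd : ∀ a : A, ∃ r : R, a - algebraMap R A r ∈ J.toIdeal := by
    intro a
    have ha : a ∈ Algebra.adjoin R S := hS ▸ trivial
    induction ha using Algebra.adjoin_induction with
    | mem x hx => exact ⟨0, by simpa using hJ hx⟩
    | algebraMap r => exact ⟨r, by simp⟩
    | add x y _ _ hx hy =>
        obtain ⟨r, hr⟩ := hx; obtain ⟨t, ht⟩ := hy
        exact ⟨r + t, by rw [map_add, add_sub_add_comm]; exact add_mem hr ht⟩
    | mul x y _ _ hx hy =>
        obtain ⟨r, hr⟩ := hx; obtain ⟨t, ht⟩ := hy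
        refine ⟨r * t, ?_⟩
        rw [map_mul, show x * y - algebraMap R A r * algebraMap R A t =
          x * (y - algebraMap R A t) + algebraMap R A t * (x - algebraMap R A r) by ring]
        exact add_mem (Ideal.mul_mem_left _ _ ht) (Ideal.mul_mem_left _ _ hr)
  refine (HomogeneousIdeal.toIdeal_irrelevant_le 𝒜).mpr fun i hi a ha => ?_
  obtain ⟨r, hr⟩ := hd a
  have h0 : algebraMap R A r ∈ 𝒜 0 := SetLike.algebraMap_mem_graded 𝒜 r
  have h := J.isHomogeneous i hr
  rw [DirectSum.decompose_sub, DirectSum.sub_apply, AddSubgroupClass.coe_sub,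
    DirectSum.decompose_of_mem_same 𝒜 ha,
    DirectSum.decompose_of_mem_ne 𝒜 h0 hi.ne, sub_zero] at h
  exact h

/-- A homogeneous piece is spanned by monomials of that weight. -/
theorem mem_span_monomials {s : ℕ} (f : Fin s → A) (deg : Fin s → ℕ)
    (hf : ∀ i, f i ∈ 𝒜 (deg i)) (hgen : Algebra.adjoin R (Set.range f) = ⊤) {m : ℕ} {x : A}
    (hx : x ∈ 𝒜 m) :
    x ∈ Submodule.span R {y : A | ∃ e : Fin s → ℕ, ∑ i, e i * deg i = m ∧ y = ∏ i, f i ^ e i} := by
  classical
  have hx' : x ∈ Algebra.adjoin R (Set.range f) := hgen ▸ trivial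
  rw [Algebra.adjoin_range_eq_range_aeval] at hx'
  obtain ⟨P, hP⟩ := hx'
  rw [← DirectSum.decompose_of_mem_same 𝒜 hx, ← hP]
  clear hP
  induction P using MvPolynomial.induction_on' with
  | add P Q hP hQ =>
      rw [map_add, DirectSum.decompose_add, DirectSum.add_apply, Submodule.coe_add]
      exact add_mem hP hQ
  | monomial e c =>
      have he : (MvPolynomial.aeval f : _ →ₐ[R] A).toRingHom (MvPolynomial.monomial e c) =
          c • ∏ i, f i ^ e i := by
        show MvPolynomial.aeval f (MvPolynomial.monomial e c) = _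
        rw [MvPolynomial.aeval_monomial, Algebra.smul_def, Finsupp.prod_fintype _ _ (by simp)]
      have hmem : (∏ i, f i ^ e i) ∈ 𝒜 (∑ i, e i * deg i) := by
        refine SetLike.prod_mem_graded 𝒜 (fun i => e i * deg i) (fun i => f i ^ e i) fun i _ => ?_
        simpa using SetLike.pow_mem_graded (e i) (hf i)
      erw [he]
      rw [DirectSum.decompose_smul, DirectSum.smul_apply, Submodule.coe_smul]
      refine Submodule.smul_mem _ c ?_
      by_cases h : ∑ i, e i * deg i = m
      · subst h
        rw [DirectSum.decompose_of_mem_same 𝒜 hmem]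
        exact Submodule.subset_span ⟨_, rfl, rfl⟩
      · rw [DirectSum.decompose_of_mem_ne 𝒜 hmem h]
        exact zero_mem _

/-- Large degree pieces split off the lcm degree. -/
theorem mul_lcm_piece {s : ℕ} (f : Fin s → A) (deg : Fin s → ℕ) (hdeg : ∀ i, 0 < deg i)
    (hf : ∀ i, f i ∈ 𝒜 (deg i)) (hgen : Algebra.adjoin R (Set.range f) = ⊤) (n : ℕ)
    (hn : (s - 1) * (Finset.univ.lcm deg - 1) ≤ n) :
    𝒜 (n + Finset.univ.lcm deg) = 𝒜 n * 𝒜 (Finset.univ.lcm deg) := by
  classical
  set L := Finset.univ.lcm deg with hL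
  refine le_antisymm ?_ (Submodule.mul_le.mpr fun a ha b hb => SetLike.GradedMul.mul_mem ha hb)
  intro x hx
  refine (Submodule.span_le.mpr ?_) (mem_span_monomials 𝒜 f deg hf hgen hx)
  rintro y ⟨e, he, rfl⟩
  have hLpos : 0 < L := by
    refine Nat.pos_of_ne_zero fun h => ?_
    obtain ⟨i, _, hi⟩ := Finset.lcm_eq_zero_iff.mp h
    exact (hdeg i).ne' hi
  obtain ⟨i, hi⟩ : ∃ i, L ≤ e i * deg i := by
    by_contra h
    push_neg at h
    have h1 : ∑ i, e i * deg i ≤ s * (L - 1) :=
      (Finset.sum_le_sum fun i _ => Nat.le_sub_one_of_lt (h i)).trans (by simp)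
    rcases Nat.eq_zero_or_pos s with rfl | hs
    · simp at he
      omega
    · have h2 : s * (L - 1) = (s - 1) * (L - 1) + (L - 1) := by
        conv_lhs => rw [show s = (s - 1) + 1 by omega, add_mul, one_mul]
      omega
  obtain ⟨q, hq⟩ : deg i ∣ L := Finset.dvd_lcm (Finset.mem_univ i)
  have hqe : q ≤ e i := by
    rw [hq, mul_comm] at hi
    exact Nat.le_of_mul_le_mul_right hi (hdeg i)
  have hsplit : ∏ j, f j ^ e j = (∏ j, f j ^ Function.update e i (e i - q) j) * f i ^ q := by
    rw [← Finset.mul_prod_erase _ (fun j => f j ^ Function.update e i (e i - q) j)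
      (Finset.mem_univ i), ← Finset.mul_prod_erase _ (fun j => f j ^ e j) (Finset.mem_univ i)]
    rw [Function.update_self, mul_comm (f i ^ (e i - q)), mul_assoc, ← pow_add,
      Nat.sub_add_cancel hqe, mul_comm (f i ^ e i)]
    congr 1
    refine Finset.prod_congr rfl fun j hj => ?_
    rw [Function.update_of_ne (Finset.mem_erase.mp hj).1]
  have hw : ∑ j, Function.update e i (e i - q) j * deg j = n := by
    have h1 : ∑ j, e j * deg j = ∑ j, Function.update e i (e i - q) j * deg j + L := by
      rw [← Finset.add_sum_erase _ (fun j => Function.update e i (e i - q) j * deg j)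
        (Finset.mem_univ i), ← Finset.add_sum_erase _ (fun j => e j * deg j) (Finset.mem_univ i),
        Function.update_self, add_right_comm]
      congr 1
      · rw [hq, mul_comm (deg i) q, ← add_mul, Nat.sub_add_cancel hqe]
      · refine Finset.sum_congr rfl fun j hj => ?_
        rw [Function.update_of_ne (Finset.mem_erase.mp hj).1]
    omega
  rw [SetLike.mem_coe, hsplit]
  refine Submodule.mul_mem_mul ?_ ?_
  · rw [← hw]
    refine SetLike.prod_mem_graded 𝒜 (fun j => Function.update e i (e i - q) j * deg j)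
      (fun j => f j ^ Function.update e i (e i - q) j) fun j _ => ?_
    simpa using SetLike.pow_mem_graded _ (hf j)
  · rw [hq, mul_comm]
    simpa using SetLike.pow_mem_graded q (hf i)

theorem piece_zero {s : ℕ} (f : Fin s → A) (deg : Fin s → ℕ) (hdeg : ∀ i, 0 < deg i)
    (hf : ∀ i, f i ∈ 𝒜 (deg i)) (hgen : Algebra.adjoin R (Set.range f) = ⊤) :
    𝒜 0 = 1 := by
  refine le_antisymm (fun x hx => ?_) (Submodule.one_le.mpr (SetLike.GradedOne.one_mem : (1:A) ∈ 𝒜 0))
  refine (Submodule.span_le.mpr ?_) (mem_span_monomials 𝒜 f deg hf hgen hx)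
  rintro y ⟨e, he, rfl⟩
  have : ∀ i, e i = 0 := fun i => by
    have := (Finset.sum_eq_zero_iff.mp he) i (Finset.mem_univ i)
    exact (Nat.mul_eq_zero.mp this).resolve_right (hdeg i).ne'
  simpa [this] using (Submodule.one_le.mp le_rfl : (1:A) ∈ (1 : Submodule R A))

theorem piece_mul_eq_pow {s : ℕ} (f : Fin s → A) (deg : Fin s → ℕ) (hdeg : ∀ i, 0 < deg i)
    (hf : ∀ i, f i ∈ 𝒜 (deg i)) (hgen : Algebra.adjoin R (Set.range f) = ⊤) (a : ℕ)
    (ha : s - 1 ≤ a) (k : ℕ) :
    𝒜 (k * (a * Finset.univ.lcm deg)) = 𝒜 (a * Finset.univ.lcm deg) ^ k := by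
  set L := Finset.univ.lcm deg with hL
  have hmul : ∀ i j, 𝒜 i * 𝒜 j ≤ 𝒜 (i + j) := fun i j =>
    Submodule.mul_le.mpr fun a ha b hb => SetLike.GradedMul.mul_mem ha hb
  induction k with
  | zero => rw [zero_mul, pow_zero, piece_zero 𝒜 f deg hdeg hf hgen]
  | succ k ih =>
    rcases Nat.eq_zero_or_pos k with rfl | hk
    · simp
    rw [pow_succ, ← ih, add_mul, one_mul]
    refine le_antisymm ?_ (hmul _ _)
    have hbig : (s - 1) * (L - 1) ≤ k * (a * L) :=
      ((Nat.mul_le_mul ha (Nat.sub_le _ _))).trans (Nat.le_mul_of_pos_left _ hk)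
    have h : ∀ b, 𝒜 (k * (a * L) + b * L) ≤ 𝒜 (k * (a * L)) * 𝒜 (b * L) := by
      intro b
      induction b with
      | zero => rw [zero_mul, add_zero, piece_zero 𝒜 f deg hdeg hf hgen, mul_one]
      | succ b ihb =>
        rw [add_mul, one_mul, ← add_assoc,
          mul_lcm_piece 𝒜 f deg hdeg hf hgen _ (hbig.trans (Nat.le_add_right _ _))]
        calc _ ≤ (𝒜 (k * (a * L)) * 𝒜 (b * L)) * 𝒜 L := mul_le_mul' ihb le_rfl
          _ ≤ _ := by rw [mul_assoc]; exact mul_le_mul' le_rfl (hmul _ _)
    exact h a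

end Groth.Agent.ZeroCycGen
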