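import Groth.Statements.S0014
import Groth.Agent.W7FTH.Basic
import Groth.Agent.CohQC.Affineness

set_option autoImplicit false
universe u
open Coherent

set_option backward.isDefEq.respectTransparency false
namespace Groth.Agent.S0014

open AlgebraicGeometry CategoryTheory in
/-- If X is quasi-compact and quasi-separated and H^1 vanishes for every quasi-coherent submodule of
finite type of the structure sheaf, then X is affine. -/
theorem result (X : Scheme.{u}) [CompactSpace X]
    [QuasiSeparatedSpace X]
    (h : ∀ (I : X.Modules) (i : I ⟶ Coh.structureModule X), Mono i →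
      Coh.IsQCoh I → CohB1.IsFT I → Subsingleton (Coh.HH X I 1)) : IsAffine X := by
  refine Groth.Agent.CohQC.isAffine_of_subH1Zero fun K i hi hK => ?_
  haveI : K.IsQuasicoherent := hK
  refine Groth.Agent.W7FTH.subsingleton_hh K 1 fun S => ?_
  obtain ⟨hq, hft⟩ := Groth.Agent.QC.Sub.isCoh_toModules S.2
  exact h S.1.toModules (S.1.ι ≫ i) (mono_comp _ _) hq hft

end Groth.Agent.S0014
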