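import Groth.Statements.S1536
import Groth.Agent.DualGeneric.GlobalField
import Groth.Agent.DualGeneric.FiniteCount
import Groth.Agent.GeomProp.SchemeReduced
import Groth.Agent.S4624
-- import your own Groth.Agent.* helpers here

set_option autoImplicit false
set_option backward.isDefEq.respectTransparency false
set_option backward.isDefEq.respectTransparency.types false
set_option maxHeartbeats 1000000
universe u
open CategoryTheory CategoryTheory.Limits AlgebraicGeometry
open Variety

attribute [local instance] Curv2.resAlgebra Curv2.stalkAlgebra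
open TensorProduct

namespace Groth.Agent.S1536

/-- For a proper scheme X over a field k which is geometrically reduced and geometrically connected,
H^0(X, O_X) is one-dimensional over k, i.e. the global functions are the constants. -/
theorem result (k : Type u) [Field k] (X : Scheme.{u}) [X.Over (Spec (CommRingCat.of k))] [IsProper (X ↘ (Spec (CommRingCat.of k)))]
    [GeometricallyReduced (X ↘ (Spec (CommRingCat.of k)))] [GeometricallyConnected (X ↘ (Spec (CommRingCat.of k)))] :
    Module.finrank k (Coh.HH X (Coh.structureModule X) 0) = 1 := by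
  let f := X ↘ Spec (CommRingCat.of k)
  haveI : Subsingleton ↥(Spec (CommRingCat.of k)) := inferInstanceAs (Subsingleton (PrimeSpectrum k))
  haveI : ConnectedSpace X := GeometricallyConnected.connectedSpace_of_subsingleton (f := f)
  haveI : AlgebraicGeometry.IsReduced X := GeometricallyReduced.isReduced_of_flat_of_isLocallyNoetherian f
  let A : CommRingCat := Γ(X, ⊤)
  let F : CommRingCat.of k ⟶ A := (Scheme.ΓSpecIso _).inv ≫ f.appTop
  letI : Field A := (DualGeneric.isField_gamma k).toField
  letI : Algebra k A := F.hom.toAlgebra
  have key : ∀ a : k, (CurveRR.cst k X ⊤ a : A) = F.hom a := fun a =>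
    Groth.Agent.QC.resO_self _ (Coh.toGlobal f a)
  letI := CurveRR.secMod k (Coh.structureModule X) ⊤
  let e : Γ(Coh.structureModule X, ⊤) ≃ₗ[k] A :=
    { toFun := fun a => a
      invFun := fun a => a
      map_add' := fun _ _ => rfl
      map_smul' := fun a b => by
        show HMul.hMul (α := A) (β := A) (CurveRR.cst k X ⊤ a) b = HMul.hMul (α := A) (β := A) (F.hom a) b
        rw [key]
      left_inv := fun _ => rfl
      right_inv := fun _ => rfl }
  haveI : Module.Finite k A := by
    haveI := CurveRR.isNoetherian_of_proper k X
    haveI := CohFinite.finite_proper k X _ RefStalk.isCoh_structureModule 0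
    exact Module.Finite.equiv ((CurveRR.secH0 (k := k) (Coh.structureModule X)).symm ≪≫ₗ e)
  show CurveRR.h k (Coh.structureModule X) 0 = 1
  rw [← CurveRR.finrank_sec, e.finrank_eq]
  haveI : Algebra.IsGeometricallyReduced k A := by
    let η : X := (inferInstance : Nonempty X).some
    haveI := (GeomProp.isGeomReducedAt_iff k X η).1 ((GeomProp.geometricallyReduced_iff_forall k X).1 ‹_› η)
    let φ : A →ₐ[k] X.presheaf.stalk η :=
      { (X.presheaf.germ ⊤ η trivial).hom with commutes' := fun c => rfl }
    exact Algebra.IsGeometricallyReduced.of_injective φ φ.toRingHom.injective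
  let K := AlgebraicClosure k
  haveI : _root_.IsReduced (K ⊗[k] A) := (Algebra.isGeometricallyReduced_field_iff k A).1 ‹_›
  haveI : Subsingleton ↥(Spec A) := inferInstanceAs (Subsingleton (PrimeSpectrum A))
  let g : Spec A ⟶ Spec (CommRingCat.of k) := Spec.map F
  have hw : X.toSpecΓ ≫ g = f := by
    rw [show g = Spec.map f.appTop ≫ Spec.map (Scheme.ΓSpecIso (CommRingCat.of k)).inv from Spec.map_comp _ _,
      ← Category.assoc, ← Scheme.toSpecΓ_naturality, Category.assoc]
    simp
  haveI : Surjective X.toSpecΓ := ⟨fun y => ⟨(inferInstance : Nonempty X).some, Subsingleton.elim _ _⟩⟩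
  haveI : GeometricallyConnected g := Groth.Agent.S4624.result f g X.toSpecΓ hw
  haveI : ConnectedSpace ↥(Spec (CommRingCat.of (A ⊗[k] K))) := by
    haveI : ConnectedSpace ↥(pullback g (Spec.map (CommRingCat.ofHom (algebraMap k K)))) :=
      GeometricallyConnected.geometrically_connectedSpace _ _ _ (IsPullback.of_hasPullback _ _)
    exact (pullbackSpecIso k A K).hom.homeomorph.surjective.connectedSpace (pullbackSpecIso k A K).hom.continuous
  haveI : ConnectedSpace (PrimeSpectrum (K ⊗[k] A)) := by
    let c := (Algebra.TensorProduct.comm k A K).toRingEquiv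
    haveI : ConnectedSpace (PrimeSpectrum (A ⊗[k] K)) := ‹ConnectedSpace ↥(Spec (CommRingCat.of (A ⊗[k] K)))›
    exact (PrimeSpectrum.homeomorphOfRingEquiv c).surjective.connectedSpace
      (PrimeSpectrum.homeomorphOfRingEquiv c).continuous
  haveI : IsArtinianRing (K ⊗[k] A) := IsArtinianRing.of_finite K _
  haveI : Subsingleton (PrimeSpectrum (K ⊗[k] A)) := PreconnectedSpace.trivial_of_discrete
  rw [← Module.finrank_baseChange (R := K), DualGeneric.finrank_eq_card K (K ⊗[k] A)]
  exact Nat.card_eq_one_iff_unique.2 ⟨inferInstance, inferInstance⟩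

end Groth.Agent.S1536
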