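import Groth.Statements.S8719
import Groth.Agent.ArtPow.Basic
import Mathlib.RingTheory.MvPowerSeries.Derivative
import Mathlib.LinearAlgebra.Matrix.NonsingularInverse


set_option autoImplicit false
set_option linter.style.haveILetI false

universe u
open VanCyc

namespace Groth.Agent.S8719

/-- The formal computation carried out in its proof: let k be a field and f a power series in k[[x_0,
..., x_n]] with vanishing constant and linear terms whose degree-two part is a non-degenerate
quadratic form (the Gram determinant of its polar bilinear form is a unit). Then the partial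
derivatives of f generate the maximal ideal of k[[x_0, ..., x_n]] (so f together with its partial
derivatives cut out the origin with multiplicity one). -/
theorem result (k : Type u) [Field k] (n : ℕ)
    (f : MvPowerSeries (Fin (n + 1)) k) (hf : VanCyc.NondegQuadSeries f) :
    Ideal.span (Set.range fun i : Fin (n + 1) => MvPowerSeries.pderiv k i f) =
      IsLocalRing.maximalIdeal (MvPowerSeries (Fin (n + 1)) k) := by
  classical
  obtain ⟨⟨hc, hl⟩, hu⟩ := hf
  set m := IsLocalRing.maximalIdeal (MvPowerSeries (Fin (n + 1)) k) with hm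
  set g : Fin (n + 1) → MvPowerSeries (Fin (n + 1)) k := fun i => MvPowerSeries.pderiv k i f with hg
  set M := VanCyc.polarMatrix (VanCyc.quadPart f) with hM
  have hX : ∀ i, (MvPowerSeries.X i : MvPowerSeries (Fin (n + 1)) k) ∈ m := fun i => by
    rw [hm, ← Groth.Agent.ArtPow.span_X_eq_maximalIdeal]; exact Ideal.subset_span ⟨i, rfl⟩
  have hmem : ∀ h : MvPowerSeries (Fin (n + 1)) k, MvPowerSeries.constantCoeff h = 0 → h ∈ m := fun h h0 => by
    rw [hm, IsLocalRing.mem_maximalIdeal, mem_nonunits_iff, MvPowerSeries.isUnit_iff_constantCoeff, h0]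
    exact not_isUnit_zero
  have hg0 : ∀ i, MvPowerSeries.constantCoeff (g i) = 0 := fun i => by
    rw [hg, ← MvPowerSeries.coeff_zero_eq_constantCoeff_apply, MvPowerSeries.coeff_pderiv, zero_add, hl i, zero_mul]
  have hlin : ∀ i, g i - ∑ j, MvPowerSeries.C (M i j) * MvPowerSeries.X j ∈ m * m := by
    intro i
    have hgi := hmem _ (hg0 i)
    rw [hm, ← Groth.Agent.ArtPow.span_X_eq_maximalIdeal] at hgi
    obtain ⟨a, ha⟩ := (Submodule.mem_span_range_iff_exists_fun _).1 hgi
    simp only [smul_eq_mul] at ha
    have hcoef : ∀ j, MvPowerSeries.constantCoeff (a j) = M i j := by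
      intro j
      have h1 := congrArg (MvPowerSeries.coeff (Finsupp.single j 1)) ha
      rw [map_sum, Finset.sum_eq_single j (fun b _ hb => ?_) (by simp)] at h1
      · have h2 := MvPowerSeries.coeff_add_mul_monomial 0 (Finsupp.single j 1) (a j) (1 : k)
        rw [zero_add, ← MvPowerSeries.X_def, mul_one, MvPowerSeries.coeff_zero_eq_constantCoeff_apply] at h2
        rw [← h2, h1, hg, MvPowerSeries.coeff_pderiv, hM, VanCyc.polarMatrix, VanCyc.quadPart]
        rcases eq_or_ne i j with rfl | hne
        · simp [← Finsupp.single_add]; ring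
        · rcases lt_or_gt_of_ne hne with hlt | hgt
          · simp [VanCyc.quadPart, hne, hlt, Finsupp.single_eq_of_ne hne, add_comm]
          · simp [VanCyc.quadPart, hne, hne.symm, hgt, not_lt.2 hgt.le, Finsupp.single_eq_of_ne hne, add_comm]
      · rw [MvPowerSeries.X_def, MvPowerSeries.coeff_mul_monomial, if_neg (by simp [Finsupp.single_le_iff, Finsupp.single_eq_of_ne hb])]
    rw [← ha, ← Finset.sum_sub_distrib]
    refine Ideal.sum_mem _ fun j _ => ?_
    rw [← sub_mul]
    exact Ideal.mul_mem_mul (hmem _ (by rw [map_sub, MvPowerSeries.constantCoeff_C, hcoef, sub_self])) (hX j)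
  refine le_antisymm (Ideal.span_le.2 ?_) ?_
  · rintro _ ⟨i, rfl⟩; exact hmem _ (hg0 i)
  refine Submodule.le_of_le_smul_of_le_jacobson_bot (I := m) ?_ (IsLocalRing.maximalIdeal_le_jacobson _) ?_
  · rw [hm, ← Groth.Agent.ArtPow.span_X_eq_maximalIdeal]
    exact Submodule.fg_span (Set.finite_range _)
  · conv_lhs => rw [hm, ← Groth.Agent.ArtPow.span_X_eq_maximalIdeal]
    rw [Ideal.span_le]
    rintro _ ⟨j, rfl⟩
    have hsum : ∑ i, MvPowerSeries.C (M⁻¹ j i) * ∑ l, MvPowerSeries.C (M i l) * MvPowerSeries.X l =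
        (MvPowerSeries.X j : MvPowerSeries (Fin (n + 1)) k) := by
      simp only [Finset.mul_sum, ← mul_assoc, ← map_mul]
      rw [Finset.sum_comm]
      simp only [← Finset.sum_mul, ← map_sum, ← Matrix.mul_apply, Matrix.nonsing_inv_mul M hu, Matrix.one_apply]
      simp [apply_ite (MvPowerSeries.C), ite_mul]
    have hdiff : ∑ i, MvPowerSeries.C (M⁻¹ j i) * g i - MvPowerSeries.X j ∈ m * m := by
      rw [← hsum, ← Finset.sum_sub_distrib]
      exact Ideal.sum_mem _ fun i _ => by rw [← mul_sub]; exact Ideal.mul_mem_left _ _ (hlin i)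
    have hs : ∑ i, MvPowerSeries.C (M⁻¹ j i) * g i ∈ Ideal.span (Set.range g) :=
      Ideal.sum_mem _ fun i _ => Ideal.mul_mem_left _ _ (Ideal.subset_span ⟨i, rfl⟩)
    rw [SetLike.mem_coe, ← sub_sub_cancel (∑ i, MvPowerSeries.C (M⁻¹ j i) * g i) (MvPowerSeries.X j)]
    exact sub_mem (Submodule.mem_sup_left hs) (Submodule.mem_sup_right hdiff)

end Groth.Agent.S8719
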