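import Groth.Statements.S4558
-- import your own Groth.Agent.* helpers here
import Mathlib

set_option autoImplicit false
universe u
open EGA41

namespace Groth.Agent.S4558

/-- Let A be a discrete ring, B an adic topological A-algebra with ideal of definition 𝔫 (B separated
and complete for the 𝔫-adic topology) and B₀ = B/𝔫. If Ω_{B₀/A} and 𝔫/𝔫² are B₀-modules of finite
type, then Ω̂_{B/A}, the 𝔫-adic completion of Ω_{B/A}, is a B-module of finite type. -/
theorem result {A B : Type u} [CommRing A] [CommRing B] [Algebra A B] (𝔫 : Ideal B)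
    [IsAdicComplete 𝔫 B] [Module.Finite (B ⧸ 𝔫) (Ω[B ⧸ 𝔫⁄A])] [Module.Finite (B ⧸ 𝔫) 𝔫.Cotangent] :
    Module.Finite B (AdicCompletion 𝔫 (Ω[B⁄A])) := by
  open TensorProduct in
  let B₀ := B ⧸ 𝔫
  haveI : Module.Finite B B₀ := Module.Finite.of_surjective (Algebra.linearMap B B₀) Ideal.Quotient.mk_surjective
  have hk : RingHom.ker (algebraMap B B₀) = 𝔫 := Ideal.mk_ker
  haveI : Module.Finite B 𝔫.Cotangent := Module.Finite.trans B₀ _
  haveI : Module.Finite B (RingHom.ker (algebraMap B B₀)).Cotangent := by rw [hk]; infer_instance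
  haveI : Module.Finite B (Ω[B₀⁄A]) := Module.Finite.trans B₀ _
  haveI : Module.Finite B (B₀ ⊗[B] Ω[B⁄A]) :=
    Module.Finite.of_exact (f := KaehlerDifferential.kerCotangentToTensor A B B₀)
      (g := (KaehlerDifferential.mapBaseChange A B B₀).restrictScalars B)
      (KaehlerDifferential.exact_kerCotangentToTensor_mapBaseChange A B B₀ Ideal.Quotient.mk_surjective)
      (KaehlerDifferential.mapBaseChange_surjective A B B₀ Ideal.Quotient.mk_surjective)
  haveI : Module.Finite B (Ω[B⁄A] ⧸ (𝔫 • ⊤ : Submodule B Ω[B⁄A])) :=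
    Module.Finite.equiv (TensorProduct.quotTensorEquivQuotSMul Ω[B⁄A] 𝔫)
  obtain ⟨n, q, hq⟩ := Module.Finite.exists_fin' B (Ω[B⁄A] ⧸ (𝔫 • ⊤ : Submodule B Ω[B⁄A]))
  obtain ⟨f, hf⟩ := Module.projective_lifting_property _ q (Submodule.mkQ_surjective (𝔫 • ⊤ : Submodule B Ω[B⁄A]))
  have h1 : Function.Surjective (AdicCompletion.map 𝔫 f) :=
    AdicCompletion.map_surjective_of_mkQ_comp_surjective (by rw [hf]; exact hq)
  haveI : Module.Finite B (AdicCompletion 𝔫 B) := Module.Finite.equiv (AdicCompletion.ofLinearEquiv 𝔫 B)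
  haveI : Module.Finite B (AdicCompletion 𝔫 (Fin n → B)) :=
    Module.Finite.equiv ((AdicCompletion.piEquivFin 𝔫 n).symm.restrictScalars B)
  exact Module.Finite.of_surjective ((AdicCompletion.map 𝔫 f).restrictScalars B) h1

end Groth.Agent.S4558
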