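import Groth.Statements.S5989
-- import your own Groth.Agent.* helpers here
import Groth.Agent.EGA418Dim.FFinite

set_option autoImplicit false
universe u
open scoped TensorProduct
open EGA418

namespace Groth.Agent.S5989

/-- Let k be a field of characteristic p > 0 such that k is finite over its subfield k^p of p-th powers
(the Frobenius endomorphism of k is a finite ring map), C a complete Noetherian local k-algebra
which is an integral domain whose residue field is a finite extension of k, n the dimension of C, L
a fraction field of C and Υ the module of imperfection of L over k (the kernel of L ⊗_k Ω_k ⟶ Ω_L on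
absolute differentials). Then dim_L Ω_{L/k} = n + dim_L Υ, and the module of differentials Ω_{C/k}
is a finitely generated C-module. -/
theorem result (p : ℕ) [Fact p.Prime]
    (k C L : Type u) [Field k] [CharP k p] (hk : (frobenius k p).Finite) [CommRing C] [IsDomain C]
    [IsNoetherianRing C] [IsLocalRing C] [Algebra k C] [IsAdicComplete (IsLocalRing.maximalIdeal C) C]
    [Module.Finite k (IsLocalRing.ResidueField C)] (n : ℕ) (hn : ringKrullDim C = n)
    [Field L] [Algebra C L] [IsFractionRing C L] [Algebra k L] [IsScalarTower k C L] :
    Module.finrank L (Ω[L⁄k]) =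
        n + Module.finrank L (LinearMap.ker (KaehlerDifferential.mapBaseChange ℤ k L)) ∧
      Module.Finite C (Ω[C⁄k]) := by
  obtain ⟨L0, _, _, _, _, _, _, _, _, _, hfin⟩ :=
    EGA418Dim.exists_fractionField_setup (k := k) (C := C) (L := L) n hn
  haveI := hfin
  let P := MvPowerSeries (Fin n) k
  haveI : CharP P p := charP_of_injective_ringHom (f := (MvPowerSeries.C : k →+* P)) (RingHom.injective _) p
  haveI : ExpChar P p := ExpChar.prime Fact.out
  have hP := EGA418Dim.finite_frobenius_powerSeries p k hk n
  letI : Algebra ℤ P := Ring.toIntAlgebra P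
  haveI : Module.Finite k (Ω[k⁄ℤ]) := EGA418Dim.finite_kaehler_of_frobenius p ℤ k hk
  haveI : Module.Finite P (Ω[P⁄ℤ]) := EGA418Dim.finite_kaehler_of_frobenius p ℤ P hP
  refine ⟨EGA418Dim.finrank_kaehler_eq (n := n) (L0 := L0), ?_⟩
  obtain ⟨r, w, -, -, hwfin, hdim⟩ := EGA418Dim.exists_noether (k := k) (A := C)
  obtain rfl : r = n := by
    rw [hn] at hdim
    exact_mod_cast hdim.symm
  letI : Algebra P C := w.toRingHom.toAlgebra
  haveI : IsScalarTower k P C := IsScalarTower.of_algebraMap_eq fun c => (w.commutes c).symm
  haveI : Module.Finite P C := hwfin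
  haveI : Module.Finite P (Ω[P⁄k]) := EGA418Dim.finite_kaehler_of_frobenius p k P hP
  exact Module.Finite.of_exact (f := KaehlerDifferential.mapBaseChange k P C) (g := KaehlerDifferential.map k P C C)
    (KaehlerDifferential.exact_mapBaseChange_map k P C) (KaehlerDifferential.map_surjective k P C)

end Groth.Agent.S5989
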