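import Groth.Statements.S3847
-- import your own Groth.Agent.* helpers here
import Groth.Agent.EGA418Dim.Rank
import Groth.Agent.EGA41FS.LiftUnique
import Groth.Agent.OmegaTrdeg.Basic
import Groth.Agent.AdicLim.Noetherian

set_option autoImplicit false
universe u
open EGA418

namespace Groth.Agent.S3847

/-- Let k be a field, A a complete Noetherian local k-algebra whose residue field is a finite extension
of k, p a prime ideal of A and q a minimal prime ideal of A contained in p. Let Ω̂ be the completion
of the module of differentials of A over k for the topology of the maximal ideal. Then the minimal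
number of generators of the A_p-module Ω̂_p (the rank of its fibre at p) is at least dim(A/q). -/
theorem result (k A : Type u) [Field k] [CommRing A]
    [IsLocalRing A] [IsNoetherianRing A] [Algebra k A]
    [IsAdicComplete (IsLocalRing.maximalIdeal A) A]
    [Module.Finite k (IsLocalRing.ResidueField A)]
    (p q : Ideal A) [p.IsPrime] (hq : q ∈ minimalPrimes A) (hqp : q ≤ p) :
    ringKrullDim (A ⧸ q) ≤
      (Cardinal.toENat (Module.rank p.ResidueField
        (TensorProduct A p.ResidueField
          (AdicCompletion (IsLocalRing.maximalIdeal A) (KaehlerDifferential k A)))) : WithBot ℕ∞) := by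
  open TensorProduct IsLocalRing in
  classical
  haveI hqp' : q.IsPrime := hq.1.1
  let B := A ⧸ q
  let mkq := Ideal.Quotient.mk q
  haveI : IsDomain B := Ideal.Quotient.isDomain q
  haveI : IsLocalRing B := IsLocalRing.of_surjective' mkq Ideal.Quotient.mk_surjective
  haveI : IsAdicComplete (maximalIdeal B) B := Groth.Agent.EGA41FS.isAdicComplete_quotient q
  haveI : IsLocalHom mkq := IsLocalHom.of_surjective mkq Ideal.Quotient.mk_surjective
  haveI : Module.Finite k (ResidueField B) := by
    let fr : ResidueField A →ₐ[k] ResidueField B :=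
      { ResidueField.map mkq with
        commutes' := fun c => by
          rw [IsScalarTower.algebraMap_apply k A (ResidueField A), IsScalarTower.algebraMap_apply k B (ResidueField B)]
          rfl }
    refine Module.Finite.of_surjective fr.toLinearMap fun y => ?_
    obtain ⟨b, rfl⟩ := residue_surjective y
    obtain ⟨a, rfl⟩ := Ideal.Quotient.mk_surjective b
    exact ⟨residue A a, rfl⟩
  let E := q.ResidueField
  obtain ⟨V, _, _, _, _, _, N, D, hNfg, hDN, hDk, hspan, hdim⟩ :=
    Groth.Agent.EGA418Dim.exists_finite_derivation k B E
  letI : Module A V := Module.compHom V mkq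
  haveI : IsScalarTower A B V := IsScalarTower.of_algebraMap_smul fun a x => rfl
  haveI : IsScalarTower A E V := IsScalarTower.of_algebraMap_smul fun a x => by
    rw [IsScalarTower.algebraMap_apply A B E, algebraMap_smul]
    rfl
  letI : Module k V := Module.compHom V (algebraMap k A)
  haveI : IsScalarTower k A V := IsScalarTower.of_algebraMap_smul fun c x => rfl
  let DA : Derivation k A V := Derivation.mk'
    { toFun := fun a => D (mkq a)
      map_add' := fun a b => by rw [map_add, map_add]
      map_smul' := fun c a => by
        show D (mkq (c • a)) = algebraMap k A c • D (mkq a)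
        rw [Algebra.smul_def, map_mul, Derivation.leibniz,
          show D (mkq (algebraMap k A c)) = 0 from hDk c, smul_zero, add_zero]
        rfl }
    fun a b => by
      show D (mkq (a * b)) = a • D (mkq b) + b • D (mkq a)
      rw [map_mul, Derivation.leibniz]
      rfl
  let l := DA.liftKaehlerDifferential
  let M : Submodule A V := LinearMap.range l
  have hlN : M ≤ N.restrictScalars A := by
    have htop : (⊤ : Submodule A Ω[A⁄k]) ≤ (N.restrictScalars A).comap l := by
      rw [← KaehlerDifferential.span_range_derivation, Submodule.span_le]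
      rintro _ ⟨a, rfl⟩
      show l (KaehlerDifferential.D k A a) ∈ N
      rw [Derivation.liftKaehlerDifferential_comp_D]
      exact hDN (mkq a)
    rintro _ ⟨ω, rfl⟩
    exact htop (Submodule.mem_top : ω ∈ ⊤)
  haveI : Module.Finite B N := Module.Finite.iff_fg.mpr hNfg
  haveI : Module.Finite A B := Module.Finite.of_surjective (Algebra.linearMap A B) Ideal.Quotient.mk_surjective
  haveI : Module.Finite A (N.restrictScalars A) := (Module.Finite.trans B N : Module.Finite A N)
  haveI : Module.Finite A M := Module.Finite.of_injective (Submodule.inclusion hlN) (Submodule.inclusion_injective hlN)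
  haveI : IsAdicComplete (maximalIdeal A) M := Groth.Agent.AdicLim.isAdicComplete_of_finite (maximalIdeal A) M
  let l' : Ω[A⁄k] →ₗ[A] M := l.rangeRestrict
  let ψ : AdicCompletion (maximalIdeal A) Ω[A⁄k] →ₗ[A] M :=
    (AdicCompletion.ofLinearEquiv (maximalIdeal A) M).symm.toLinearMap ∘ₗ
      (AdicCompletion.map (maximalIdeal A) l').restrictScalars A
  have hψ : Function.Surjective ψ := (AdicCompletion.ofLinearEquiv (maximalIdeal A) M).symm.surjective.comp
    (AdicCompletion.map_surjective (maximalIdeal A) l.surjective_rangeRestrict)
  let K := p.ResidueField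
  have h1 : Module.rank K (K ⊗[A] M) ≤ Module.rank K (K ⊗[A] AdicCompletion (maximalIdeal A) Ω[A⁄k]) :=
    LinearMap.rank_le_of_surjective (ψ.baseChange K) (LinearMap.lTensor_surjective K hψ)
  have h2 := Groth.Agent.OmegaTrdeg.finrank_residueField_tensor_le (A := A) M hqp
  have h3 : Module.finrank E V ≤ Module.finrank E (E ⊗[A] M) := by
    let g : E ⊗[A] M →ₗ[E] V := M.subtype.liftBaseChange E
    refine LinearMap.finrank_le_finrank_of_surjective (f := g) ?_
    rw [← LinearMap.range_eq_top, ← top_le_iff, ← hspan, Submodule.span_le]
    rintro _ ⟨b, rfl⟩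
    obtain ⟨a, rfl⟩ := Ideal.Quotient.mk_surjective b
    refine ⟨(1 : E) ⊗ₜ[A] ⟨D (mkq a), ⟨KaehlerDifferential.D k A a, Derivation.liftKaehlerDifferential_comp_D DA a⟩⟩, ?_⟩
    simp [g]
    rfl
  refine hdim.trans ?_
  calc ((Module.finrank E V : ℕ) : WithBot ℕ∞) ≤ (Module.finrank K (K ⊗[A] M) : ℕ) := by
        exact_mod_cast h3.trans h2
    _ = (Cardinal.toENat (Module.rank K (K ⊗[A] M)) : WithBot ℕ∞) := by
        rw [← Module.finrank_eq_rank, map_natCast]
        rfl
    _ ≤ _ := WithBot.coe_le_coe.mpr (Cardinal.toENat.monotone' h1)

end Groth.Agent.S3847
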