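import Groth.Statements.S5054
-- import your own Groth.Agent.* helpers here
import Groth.Agent.EGA418Dim.Choice
import Groth.Agent.EGA418Dim.Finite
import Groth.Agent.EGA418Dim.LocSpan
import Groth.Agent.S3847

set_option autoImplicit false
universe u
open EGA418

namespace Groth.Agent.S5054

/-- Let k be a field, A a complete Noetherian local k-algebra whose residue field is a finite extension
of k, p a prime ideal of A distinct from the maximal ideal and containing a minimal prime q with dim
A/q = dim A, Ω̂ the completion (for the topology of the maximal ideal) of the module of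
differentials of A over k, and m a natural number. Then the A_p-module Ω̂_p is generated by m
elements if and only if there is a local k-algebra homomorphism from the power series ring k[[T_1,
…, T_m]] to A making A a finite algebra over it which is unramified at p. -/
theorem result (k A : Type u) [Field k] [CommRing A]
    [IsLocalRing A] [IsNoetherianRing A] [Algebra k A] [IsAdicComplete (IsLocalRing.maximalIdeal A) A]
    [Module.Finite k (IsLocalRing.ResidueField A)]
    (p : Ideal A) [p.IsPrime] (hp : p ≠ IsLocalRing.maximalIdeal A)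
    (hq : ∃ q ∈ minimalPrimes A, q ≤ p ∧ ringKrullDim (A ⧸ q) = ringKrullDim A) (m : ℕ) :
    (∃ s : Fin m → (LocalizedModule p.primeCompl (AdicCompletion (IsLocalRing.maximalIdeal A) (KaehlerDifferential k A))), Submodule.span (Localization.AtPrime p) (Set.range s) = ⊤) ↔
      ∃ (_ : Algebra (MvPowerSeries (Fin m) k) A) (_ : IsScalarTower k (MvPowerSeries (Fin m) k) A),
        IsLocalHom (algebraMap (MvPowerSeries (Fin m) k) A) ∧ Module.Finite (MvPowerSeries (Fin m) k) A ∧
          Algebra.IsUnramifiedAt (MvPowerSeries (Fin m) k) p := by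
  open TensorProduct IsLocalRing in
  classical
  haveI := EGA418Dim.finite_omegaHat k A
  constructor
  · rintro ⟨s, hs⟩
    obtain ⟨ω, hω⟩ := EGA418Dim.exists_span_localized p s hs
    have htop := EGA418Dim.span_fibre_eq_top p ω hω
    have hrk : Module.finrank p.ResidueField (p.ResidueField ⊗[A] EGA418Dim.OmegaHat k A) ≤ m := by
      rw [← finrank_top, ← htop]
      exact (finrank_range_le_card _).trans (Fintype.card_fin m).le
    obtain ⟨d, hd⟩ := SerreReg.exists_dim_nat A
    have hdm : d ≤ m := by
      obtain ⟨q, hq, hqp, hdim⟩ := hq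
      have h := S3847.result k A p q hq hqp
      rw [hdim, hd, ← Module.finrank_eq_rank, map_natCast] at h
      exact le_trans (by exact_mod_cast h) hrk
    obtain ⟨x, hxm, hxrad, hx⟩ := EGA418Dim.exists_parameters k A p hp d m hd hdm hrk
    obtain ⟨w, hw, hloc, hfin⟩ := EGA418Dim.exists_finite_evalAdic (k := k) x hxm hxrad
    letI algw : Algebra (MvPowerSeries (Fin m) k) A := w.toRingHom.toAlgebra
    haveI : IsScalarTower k (MvPowerSeries (Fin m) k) A := IsScalarTower.of_algebraMap_eq fun r => (w.commutes r).symm
    haveI : Module.Finite (MvPowerSeries (Fin m) k) A := hfin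
    refine ⟨algw, inferInstance, hloc, hfin, (EGA418Dim.isUnramifiedAt_iff k A _ p).mpr fun v => ?_⟩
    obtain ⟨c, hc, hcv⟩ := hx v
    refine ⟨c, hc, Submodule.span_mono ?_ hcv⟩
    rintro _ ⟨i, rfl⟩
    exact ⟨x i, ⟨MvPowerSeries.X i, hw i⟩, rfl⟩
  · rintro ⟨_, _, hloc, hfin, hun⟩
    haveI := hloc
    haveI := hfin
    let w := IsScalarTower.toAlgHom k (MvPowerSeries (Fin m) k) A
    have hwm : ∀ i, w (MvPowerSeries.X i) ∈ maximalIdeal A := fun i => by
      refine (mem_maximalIdeal _).mpr fun hu => ?_
      have h := isUnit_of_map_unit (algebraMap (MvPowerSeries (Fin m) k) A) _ hu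
      rw [MvPowerSeries.isUnit_iff_constantCoeff, MvPowerSeries.constantCoeff_X] at h
      exact not_isUnit_zero h
    refine ⟨fun i => LocalizedModule.mk (EGA418Dim.dHat k A (w (MvPowerSeries.X i))) 1,
      (EGA418Dim.span_localized_eq_top_iff p _).mpr fun v => ?_⟩
    obtain ⟨c, hc, hcv⟩ := (EGA418Dim.isUnramifiedAt_iff k A (MvPowerSeries (Fin m) k) p).mp hun v
    refine ⟨c, hc, Submodule.span_le.mpr ?_ hcv⟩
    rintro _ ⟨_, ⟨f, rfl⟩, rfl⟩
    exact EGA418Dim.dHat_powerSeries_mem k A w hwm f

end Groth.Agent.S5054
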