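import Groth.Statements.S10419
import Groth.Agent.SpQS.ConfFiltration
import Groth.Agent.SpQS.Basic
import Groth.Agent.ConsTop.Basic

set_option autoImplicit false
universe u
open CategoryTheory CategoryTheory.Limits AlgebraicGeometry Topology TopologicalSpace
open AlgSp

set_option backward.isDefEq.respectTransparency false

namespace Groth.Agent.S10419

/-- Let S be a scheme with quasi-separated underlying space and X an algebraic space over S that is
quasi-compact and quasi-separated (X quasi-separated over S). There are an integer n and open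
subspaces X = U_1 ⊇ U_2 ⊇ ⋯ ⊇ U_{n+1} = ∅ such that, with T_p = U_p ∖ U_{p+1} (reduced induced
structure), there is a quasi-compact separated scheme V_p with a surjective etale f_p : V_p ⟶ U_p
for which f_p⁻¹(T_p) ⟶ T_p is an isomorphism. -/
theorem result {S : Scheme.{u}} [QuasiSeparatedSpace ↥S] (X : AlgSp.Space S)
    (hqc : AlgSp.IsQuasiCompactSp X.obj) (hqs : AlgSp.IsQuasiSeparatedSp X.obj) :
    ∃ (n : ℕ) (Uo : ℕ → AlgSp.Space S) (j : ∀ p, Uo p ⟶ X) (k : ∀ p, Uo (p + 1) ⟶ Uo p)
      (T : ℕ → AlgSp.Space S) (i : ∀ p, T p ⟶ Uo p),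
      (∀ p, AlgSp.RepWith @IsOpenImmersion (j p).hom) ∧ (∀ p, k p ≫ j p = j (p + 1)) ∧ IsIso (j 1) ∧
      IsEmpty (AlgSp.Points (Uo (n + 1)).obj) ∧
      (∀ p, AlgSp.IsRedInduced (Set.range (AlgSp.Points.map (k p).hom))ᶜ (i p).hom) ∧
      (∀ p, 1 ≤ p → ∃ (V : Over S) (f : (AlgSp.yon S).obj V ⟶ (Uo p).obj), V.left.IsSeparated ∧ CompactSpace ↥V.left ∧
        AlgSp.RepWith @Etale f ∧ AlgSp.RepWith @Surjective f ∧
        ∀ (P : AlgSp.Sp S) (fst : P ⟶ (T p).obj) (snd : P ⟶ (AlgSp.yon S).obj V),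
          IsPullback fst snd (i p).hom f → IsIso fst) := by
  open _root_.AlgSp Groth.Agent.SpQS Groth.Agent.AlgSpLib in
  obtain ⟨W, π, hW, hπ, cs, Uo, j, k, T, i, h₁, h₂, h₃, hrange, h₄, h₅, h₆⟩ := exists_filtration X hqc
  obtain ⟨hA⟩ : Nonempty (IsAlgSpace X.obj) := ⟨X.property⟩
  have hqcmor : ∀ (U : Over S) (a : (yon S).obj U ⟶ X.obj), CompactSpace ↥U.left →
      RepWith @QuasiCompact a := fun U a hU =>
    (isQuasiCompactMor_iff_repWith (IsAlgSpace.yon_obj U) hA
      (Functor.relativelyRepresentable.of_diag hA.diag a)).1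
      (isQuasiCompactMor_of_qc_qs (IsAlgSpace.yon_obj U) hA a (isQuasiCompactSp_yon U) hqs)
  have hπc : RepWith @QuasiCompact π := hqcmor W π inferInstance
  let D : ℕ → Set W.left := fun p => Set.range ((cs p).pr 0).left
  have hDo : ∀ p, IsOpen (D p) := fun p => by
    have := (cs p).etale
    exact ((cs p).pr 0).left.isOpenMap.isOpen_range
  have hDc : ∀ p, IsCompact (D p) := fun p => by
    have := (cs p).compact hπc
    exact isCompact_range ((cs p).pr 0).left.continuous
  have hpts : ∀ p, (cs p).pts = Points.ofPt π '' D p := fun p => by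
    show Set.range _ = Points.ofPt π '' Set.range _
    rw [← Set.range_comp]
    exact congrArg Set.range (funext fun z => ofPt_comp _ _ _)
  have hcover : ∀ w : W.left, ∃ p, w ∉ D p := fun w => by
    have hc : CompactSpace ↥(FieldPt.ofPt π w).pt.left :=
      inferInstanceAs (CompactSpace (PrimeSpectrum (W.left.residueField w)))
    obtain ⟨N, hN⟩ := exists_bound_pts hπ (FieldPt.ofPt π w) (hqcmor _ _ hc)
    refine ⟨N, fun hw => hN (cs N) ?_⟩
    rw [hpts]
    exact ⟨w, hw, rfl⟩
  have hsub : ∀ {a b}, a ≤ b → confSet cs b ⊆ confSet cs a := fun {a b} h => by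
    induction h with
    | refl => exact subset_rfl
    | step _ ih => exact (confSet_anti cs _).trans ih
  obtain ⟨t, ht⟩ := (isCompact_univ : IsCompact (Set.univ : Set (WithConstructibleTopology W.left))).elim_finite_subcover
    (fun p => WithTopology.ofTopology ⁻¹' (D p)ᶜ)
    (fun p => WithConstructibleTopology.isOpen_iff.2 (Groth.Agent.ConsTop.isOpen_compl_of_isCompact (hDo p) (hDc p)))
    (fun w _ => Set.mem_iUnion.2 (hcover _))
  let n := (t.sup id) + 1
  have hempty : confSet cs (n + 1) = ∅ := Set.eq_empty_iff_forall_notMem.2 fun x hx => by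
    have hx' : x ∈ (cs n).pts := hx
    rw [hpts] at hx'
    obtain ⟨w, hw, rfl⟩ := hx'
    obtain ⟨p, hp, hwp⟩ := Set.mem_iUnion₂.1 (ht (Set.mem_univ (WithTopology.toTopology _ w)))
    obtain ⟨z, rfl⟩ := hw
    have hmono : ∀ {a b}, a ≤ b → D b ⊆ D a := fun {a b} h => by
      induction h with
      | refl => exact subset_rfl
      | @step m _ ih =>
        refine subset_trans ?_ ih
        rintro _ ⟨z', rfl⟩
        obtain ⟨l, hl⟩ := (cs m).desc (fun i => (cs (m + 1)).pr i.castSucc)
          (fun i => ((cs (m + 1)).comm i.castSucc).trans ((cs (m + 1)).comm _).symm)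
          (fun i j h => (cs (m + 1)).ne _ _ fun e => h (Fin.castSucc_injective _ e))
        refine ⟨l.left z', ?_⟩
        have := congrArg (fun m => m.left z') (hl 0)
        exact this
    exact hwp (hmono (Nat.le_succ_of_le (Finset.le_sup (f := id) hp)) ⟨z, rfl⟩)
  refine ⟨n, Uo, j, k, T, i, h₁, h₂, h₃, ⟨fun y => ?_⟩, h₄, fun p hp => ?_⟩
  · have hy : Points.map (j (n + 1)).hom y ∈ confSet cs (n + 1) := hrange (n + 1) ▸ ⟨y, rfl⟩
    rw [hempty] at hy
    exact hy
  · obtain ⟨V, f, a, hc, b, c, d⟩ := h₅ p hp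
    exact ⟨V, f, a, hc ((cs (p - 1)).compact hπc), b, c, d⟩

end Groth.Agent.S10419
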