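import Groth.Statements.S13602
import Groth.Agent.SymAF.Basic

set_option autoImplicit false
set_option backward.isDefEq.respectTransparency false
set_option backward.isDefEq.respectTransparency.types false
universe u
open CategoryTheory AlgebraicGeometry
open SymProd

namespace Groth.Agent.S13602

open CategoryTheory CategoryTheory.Limits TopologicalSpace

/-- Let f : X ⟶ S be a morphism of schemes satisfying (AF): every finite set of points of X over a
single point of S lies in an affine open of X. Then for every d ≥ 0 and every point x of the d-fold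
fibre power X ×_S ⋯ ×_S X, some affine open of the fibre power contains the whole orbit of x under
the symmetric group on d letters permuting the factors. (With the existence of a quotient by a
finite group whose orbits lie in affine opens, this is the existence of the symmetric power
Sym^d(X/S) for X/S satisfying (AF).) -/
theorem result {X S : Scheme.{u}} (f : X ⟶ S) (hAF : SymProd.IsAF f)
    (d : ℕ) (x : ↥(SymProd.fibPow f d)) :
    ∃ U : (SymProd.fibPow f d).Opens, IsAffineOpen U ∧
      ∀ σ : Equiv.Perm (Fin d), (SymProd.permHom f d σ).base x ∈ U := by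
  classical
  let P := SymProd.fibPow f d
  let s := (WidePullback.base (fun _ : Fin d => f)).base x
  let T : Finset X := Finset.univ.image fun i => (WidePullback.π (fun _ : Fin d => f) i).base x
  have hTs : ∀ t ∈ T, f.base t = s := by
    intro t ht
    obtain ⟨i, -, rfl⟩ := Finset.mem_image.1 ht
    rw [← Scheme.Hom.comp_apply, WidePullback.π_arrow]
  obtain ⟨U₀, hU₀, hTU₀⟩ := hAF s T hTs
  obtain ⟨W, hW, hsW, -⟩ := exists_isAffineOpen_mem_and_subset (X := S) (x := s) (U := ⊤) trivial
  -- shrink to a basic open over `W`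
  obtain ⟨a, haW, haT⟩ : ∃ a : Γ(X, U₀), X.basicOpen a ≤ f ⁻¹ᵁ W ∧ ∀ t ∈ T, t ∈ X.basicOpen a :=
    Groth.Agent.SymAF.exists_basicOpen_finset hU₀ T hTU₀ (f ⁻¹ᵁ W) fun t ht => by
      show f.base t ∈ W
      rw [hTs t ht]; exact hsW
  let U := X.basicOpen a
  have hU : IsAffineOpen U := hU₀.basicOpen a
  let g : (U : Scheme.{u}) ⟶ (W : Scheme.{u}) := f.resLE W U haW
  let V : P.Opens := (WidePullback.base (fun _ : Fin d => f)) ⁻¹ᵁ W ⊓
    ⨅ i : Fin d, (WidePullback.π (fun _ : Fin d => f) i) ⁻¹ᵁ U
  have hmem : ∀ y : P, y ∈ V ↔ (WidePullback.base (fun _ : Fin d => f)).base y ∈ W ∧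
      ∀ i, (WidePullback.π (fun _ : Fin d => f) i).base y ∈ U := fun y => by
    simp only [V, ← SetLike.mem_coe, Opens.coe_inf, Opens.coe_finset_inf, Set.mem_inter_iff]
    refine and_congr Iff.rfl ?_
    rw [SetLike.mem_coe, ← Finset.inf_univ_eq_iInf, ← SetLike.mem_coe, Opens.coe_finset_inf]
    simp
    exact Iff.rfl
  refine ⟨V, ?_, fun σ => (hmem _).2 ⟨?_, fun i => ?_⟩⟩
  · haveI : IsAffine (U : Scheme.{u}) := hU
    haveI : IsAffine (W : Scheme.{u}) := hW
    haveI : IsAffine (SymProd.fibPow g d) := by
      haveI : ∀ o, IsAffine ((WidePullbackShape.wideCospan (W : Scheme.{u}) (fun _ : Fin d => (U : Scheme.{u})) fun _ => g).obj o) := by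
        rintro (_ | _) <;> assumption
      exact Scheme.isAffine_of_isLimit _ (limit.isLimit _)
    let toF : SymProd.fibPow g d ⟶ P := WidePullback.lift (WidePullback.base (fun _ : Fin d => g) ≫ W.ι)
      (fun i => WidePullback.π (fun _ : Fin d => g) i ≫ U.ι) fun i => by
        rw [Category.assoc, ← WidePullback.π_arrow (fun _ : Fin d => g) i, Category.assoc, Scheme.Hom.resLE_comp_ι]
    have hrange : Set.range toF ⊆ Set.range V.ι := by
      rw [Scheme.Opens.range_ι]
      rintro _ ⟨y, rfl⟩
      refine (hmem _).2 ⟨?_, fun i => ?_⟩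
      · rw [← Scheme.Hom.comp_apply, WidePullback.lift_base]
        exact ((WidePullback.base (fun _ : Fin d => g)).base y).2
      · rw [← Scheme.Hom.comp_apply, WidePullback.lift_π]
        exact ((WidePullback.π (fun _ : Fin d => g) i).base y).2
    let φ : SymProd.fibPow g d ⟶ (V : Scheme.{u}) := IsOpenImmersion.lift V.ι toF hrange
    have h1 : Set.range (V.ι ≫ WidePullback.base (fun _ : Fin d => f)) ⊆ Set.range W.ι := by
      rw [Scheme.Opens.range_ι]; rintro _ ⟨y, rfl⟩; exact ((hmem y.1).1 y.2).1
    have h2 : ∀ i, Set.range (V.ι ≫ WidePullback.π (fun _ : Fin d => f) i) ⊆ Set.range U.ι := fun i => by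
      rw [Scheme.Opens.range_ι]; rintro _ ⟨y, rfl⟩; exact ((hmem y.1).1 y.2).2 i
    let ψ : (V : Scheme.{u}) ⟶ SymProd.fibPow g d := WidePullback.lift (IsOpenImmersion.lift W.ι _ h1)
      (fun i => IsOpenImmersion.lift U.ι _ (h2 i)) fun i => by
        rw [← cancel_mono W.ι, Category.assoc, Scheme.Hom.resLE_comp_ι, IsOpenImmersion.lift_fac_assoc,
          IsOpenImmersion.lift_fac, Category.assoc, WidePullback.π_arrow]
    have e1 : ψ ≫ toF = V.ι := by
      apply WidePullback.hom_ext
      · intro i
        rw [Category.assoc, WidePullback.lift_π, WidePullback.lift_π_assoc, IsOpenImmersion.lift_fac]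
      · rw [Category.assoc, WidePullback.lift_base, WidePullback.lift_base_assoc, IsOpenImmersion.lift_fac]
    have hφψ : φ ≫ ψ = 𝟙 _ := by
      apply WidePullback.hom_ext
      · intro i
        rw [← cancel_mono U.ι, Category.id_comp, Category.assoc, Category.assoc, WidePullback.lift_π_assoc,
          IsOpenImmersion.lift_fac, IsOpenImmersion.lift_fac_assoc, WidePullback.lift_π]
      · rw [← cancel_mono W.ι, Category.id_comp, Category.assoc, Category.assoc, WidePullback.lift_base_assoc,
          IsOpenImmersion.lift_fac, IsOpenImmersion.lift_fac_assoc, WidePullback.lift_base]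
    have hψφ : ψ ≫ φ = 𝟙 _ := by
      rw [← cancel_mono V.ι, Category.assoc, IsOpenImmersion.lift_fac, e1, Category.id_comp]
    haveI : IsIso ψ := ⟨φ, hψφ, hφψ⟩
    exact IsAffine.of_isIso ψ
  · rw [← Scheme.Hom.comp_apply, SymProd.permHom_base]; exact hsW
  · rw [← Scheme.Hom.comp_apply, SymProd.permHom_π]
    exact haT _ (Finset.mem_image.2 ⟨_, Finset.mem_univ _, rfl⟩)

end Groth.Agent.S13602
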