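import Groth.Statements.S1170
import Groth.Agent.HilbSum.SmoothH
import Groth.Agent.AlgEquivCurve.RelDim
import Groth.Agent.SepAffineGen.Main
import Groth.Agent.CartierDim.Basic
import Groth.Agent.S1166

set_option autoImplicit false
open CategoryTheory CategoryTheory.Limits AlgebraicGeometry
universe u
open HilbD

namespace Groth.Agent.S1170

/-- Let X be a smooth proper curve over a field k which stays irreducible after every extension of the
base field. Then for every d the degree-d Hilbert functor of points of X over k is represented by a
scheme which is proper and smooth over k. The published statement has projective in place of proper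
(the two agree for curves over a field) and also asserts that the representing scheme is irreducible
of dimension d, which is not asserted here. -/
theorem result (k : Type u) [Field k] (X : Scheme.{u}) (f : X ⟶ Spec (CommRingCat.of k))
    (hX : Curve.IsSmoothProperCurve k X f) [GeometricallyIrreducible f] (d : ℕ) :
    ∃ (H : Over (Spec (CommRingCat.of k))) (Z : HilbD.Obj f d H), HilbD.IsUniversal f d H Z ∧ IsProper H.hom ∧ Smooth H.hom := by
  obtain ⟨hp, hs, hI, hdim⟩ := hX
  haveI := hp
  haveI := hs
  haveI := hI
  haveI := Groth.Agent.AlgEquivCurve.smoothOfRelativeDimension_one f hdim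
  haveI : IsLocallyNoetherian X := LocallyOfFiniteType.isLocallyNoetherian f
  haveI : X.IsSeparated := ⟨by
    rw [← terminal.comp_from f]
    infer_instance⟩
  have hstalk : ∀ x : X, ringKrullDim (X.presheaf.stalk x) ≤ 1 := fun x => by
    rw [ringKrullDim_stalk_eq_coheight]
    refine le_trans (Order.coheight_le_krullDim x) (le_of_eq ?_)
    rw [← Groth.Agent.CartierDim.topDim_eq, hdim]
  have hrep : ∀ e : ℕ, HilbD.Representable f e := fun e =>
    Groth.Agent.S1166.result f e fun s x _ => by
      obtain ⟨U, hU, hUx⟩ := Groth.Agent.SepAffineGen.exists_affine_of_dim_le_one (X := X) (Set.finite_range x)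
        (fun y _ => inferInstance) (fun y _ => hstalk y)
      exact ⟨U, hU, fun i => hUx (Set.mem_range_self i)⟩
  obtain ⟨H, Z, hZ⟩ := hrep d
  exact ⟨H, Z, hZ, Groth.Agent.HilbSum.proper_hilb f hrep d H Z hZ, Groth.Agent.HilbSum.smooth_hilb f hrep d H Z hZ⟩

end Groth.Agent.S1170
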