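import Groth.Statements.S6463
import Groth.Agent.W7Strat.Triv
import Groth.Agent.Rigid.FibreTranslate
import Groth.Agent.Rigid.Smooth

set_option autoImplicit false
universe u
open CategoryTheory CategoryTheory.Limits AlgebraicGeometry
open PicF

set_option backward.isDefEq.respectTransparency false
set_option backward.isDefEq.respectTransparency.types false

namespace Groth.Agent.S6463

/-- For a field k and a smooth projective curve X over k that has a k-rational point σ, the conditions
under which the Picard functor is computed through the section are met: f : X → Spec k is flat,
proper and of finite presentation with a section, and O_T → f_{T,*} O_{X_T} is an isomorphism for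
every scheme T over k. Only the last assertion is stated (the others are part of the hypotheses or
immediate): for every t : T → Spec k, the sheaf map of the base change X ×_k T → T is an
isomorphism. Proper replaces projective (they agree for curves over a field). -/
theorem result (k : Type u) [Field k] (X : Scheme.{u}) (f : X ⟶ Spec (CommRingCat.of k)) (hX : Curve.IsSmoothProperCurve k X f) (σ : Spec (CommRingCat.of k) ⟶ X) (hσ : σ ≫ f = 𝟙 (Spec (CommRingCat.of k))) (T : Scheme.{u}) (t : T ⟶ Spec (CommRingCat.of k)) : IsIso (pullback.snd f t).c := by
  obtain ⟨hp, hs, hi, -⟩ := hX
  haveI : GeometricallyConnected f := Rigid.geometricallyConnected_of_section f σ hσ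
  haveI : GeometricallyReduced f := Rigid.geometricallyReduced_of_smooth f
  let g := pullback.snd f t
  have hb : ∀ W : T.Opens, Function.Bijective (g.app W).hom := fun W =>
    W7Strat.app_bijective (f := f) (IsPullback.of_hasPullback f t) W
  haveI : ∀ U, IsIso ((pullback.snd f t).c.app U) := fun U => by
    rw [ConcreteCategory.isIso_iff_bijective]
    exact hb U.unop
  exact NatIso.isIso_of_isIso_app _

end Groth.Agent.S6463
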