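import Groth.Statements.S0739
import Mathlib
import Groth.Agent.S0426
import Groth.Agent.WeakEt.Scheme

set_option autoImplicit false
open CategoryTheory CategoryTheory.Limits AlgebraicGeometry Opposite
universe u
open ProEtS

set_option backward.isDefEq.respectTransparency false
open CategoryTheory CategoryTheory.Limits AlgebraicGeometry Opposite

namespace Groth.Agent.S0739

theorem exists_section_spec (k : Type u) [Field k] [IsSepClosed k] (A : Type u) [CommRing A] [Nontrivial A]
    [Algebra k A] [Algebra.WeaklyEtale k A] : Nonempty (A →ₐ[k] k) := by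
  obtain ⟨m, hm⟩ := Ideal.exists_maximal A
  have hreg : ∀ a : A, ∃ b, a * a * b = a := Groth.Agent.WeakEt.exists_sq_mul_of_weaklyEtale (R := k)
    (fun a => by
      rcases eq_or_ne a 0 with rfl | ha
      · exact ⟨0, by simp⟩
      · exact ⟨a⁻¹, by rw [mul_assoc, mul_inv_cancel₀ ha, mul_one]⟩)
  have hw : Algebra.WeaklyEtale A (A ⧸ m) :=
    { flat := Groth.Agent.WeakEt.flat_of_forall_exists_sq_mul hreg _
      flat_lmul' := by
        refine RingHom.Flat.of_bijective ⟨?_, fun x => ⟨x ⊗ₜ 1, by simp⟩⟩
        intro x y h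
        have key : ∀ z : TensorProduct A (A ⧸ m) (A ⧸ m),
            z = (Algebra.TensorProduct.lmul' A (S := A ⧸ m) z) ⊗ₜ 1 := by
          intro z
          induction z using TensorProduct.induction_on with
          | zero => simp
          | tmul a b =>
            obtain ⟨b, rfl⟩ := Ideal.Quotient.mk_surjective b
            simp only [Algebra.TensorProduct.lmul'_apply_tmul]
            rw [show a * Ideal.Quotient.mk m b = b • a by rw [Algebra.smul_def, mul_comm]; rfl,
              TensorProduct.smul_tmul, Algebra.smul_def, mul_one]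
            rfl
          | add a b ha hb => conv_lhs => rw [ha, hb]
                             rw [map_add, TensorProduct.add_tmul]
        rw [key x, key y]
        exact congrArg (fun t => TensorProduct.tmul A t 1) h }
  let : Field (A ⧸ m) := Ideal.Quotient.field m
  have := Algebra.WeaklyEtale.trans k A (A ⧸ m)
  have : Algebra.IsSeparable k (A ⧸ m) := Groth.Agent.S0426.result
  exact ⟨((AlgEquiv.ofBijective (Algebra.ofId k (A ⧸ m)) (IsSepClosed.algebraMap_bijective k (A ⧸ m))).symm.toAlgHom).comp
    (Ideal.Quotient.mkₐ k m)⟩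

theorem exists_section {k : Type u} [Field k] [IsSepClosed k] {Z : Scheme.{u}}
    (p : Z ⟶ Spec (CommRingCat.of k)) [WeaklyEtale p] (z : Z) :
    ∃ s : Spec (CommRingCat.of k) ⟶ Z, s ≫ p = 𝟙 _ := by
  obtain ⟨W, hW, hzW, -⟩ := exists_isAffineOpen_mem_and_subset (X := Z) (x := z) (U := ⊤) trivial
  obtain ⟨g, hg⟩ := Spec.map_surjective (hW.fromSpec ≫ p)
  have he : WeaklyEtale (Spec.map g) := by rw [hg]; infer_instance
  algebraize [g.hom]
  have : Algebra.WeaklyEtale k Γ(Z, W) := (Groth.Agent.WeakEt.specMap_iff g).1 he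
  have : Nonempty (Spec Γ(Z, W)) := ⟨hW.isoSpec.hom ⟨z, hzW⟩⟩
  have : Nonempty (PrimeSpectrum Γ(Z, W)) := this
  have : Nontrivial Γ(Z, W) := PrimeSpectrum.nonempty_iff_nontrivial.mp inferInstance
  obtain ⟨q⟩ := exists_section_spec k Γ(Z, W)
  refine ⟨Spec.map (CommRingCat.ofHom q.toRingHom) ≫ hW.fromSpec, ?_⟩
  rw [Category.assoc, ← hg, ← Spec.map_comp, ← Spec.map_id]
  congr 1; ext x; exact q.commutes x


/-- Let U be an object of X_proet, R a covering sieve on U, and xi : Spec k -> U a geometric point (k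
separably closed). Then there is a morphism V -> U in R and a geometric point of V with the same
field mapping to xi. -/
theorem result {X : Scheme.{u}} (U : X.ProEt) (R : Sieve U)
    (hR : R ∈ Scheme.ProEt.topology X U) {k : Type u} [Field k] [IsSepClosed k]
    (ξ : Spec (CommRingCat.of k) ⟶ U.left) :
    ∃ (V : X.ProEt) (g : V ⟶ U) (ξ' : Spec (CommRingCat.of k) ⟶ V.left), R g ∧ ξ' ≫ g.left = ξ := by
  have h2 : Sieve.overEquiv _ (R.functorPushforward (Scheme.ProEt.forget X)) ∈
      Scheme.proetaleTopology U.left :=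
    (MorphismProperty.coverPreserving_comap_forget Scheme.proetalePrecoverage
      Scheme.proetalePrecoverage_le_precoverage_weaklyEtale (S := X)).cover_preserve hR
  obtain ⟨R₀, hR₀, hle⟩ := (Precoverage.mem_toGrothendieck_iff_of_isStableUnderComposition
    (J := Scheme.proetalePrecoverage)).mp h2
  obtain ⟨ι, W, w, rfl⟩ := Presieve.exists_eq_ofArrows R₀
  have hwR : Presieve.ofArrows W w ∈ Scheme.precoverage @WeaklyEtale U.left :=
    (inf_le_right : Scheme.propQCPrecoverage @WeaklyEtale ≤ _) _ hR₀
  obtain ⟨hsurj, hwe⟩ := (Scheme.ofArrows_mem_precoverage_iff _).mp hwR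
  let pt : Spec (CommRingCat.of k) := IsLocalRing.closedPoint k
  obtain ⟨i, t, ht⟩ := hsurj (ξ pt)
  have := hwe i
  let h := w i
  have hh : Presieve.ofArrows W w h := ⟨i⟩
  obtain ⟨z, -, -⟩ := Scheme.Pullback.exists_preimage_pullback (f := h) (g := ξ) t pt ht
  obtain ⟨s, hs⟩ := exists_section (pullback.snd h ξ) z
  have h3 := hle _ _ hh
  rw [Sieve.overEquiv_iff] at h3
  obtain ⟨V, g, a, hg, hfac⟩ := h3
  refine ⟨V, g, s ≫ pullback.fst h ξ ≫ a.left, hg, ?_⟩
  have h4 : h = a.left ≫ g.left := congrArg (fun x => x.left) hfac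
  rw [Category.assoc, Category.assoc, ← h4, pullback.condition, reassoc_of% hs]

end Groth.Agent.S0739
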