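import Groth.Statements.S0705
import Groth.Agent.WContr.ConstrRingAt
import Groth.Agent.WContr.QuotBij

set_option autoImplicit false
set_option synthInstance.maxHeartbeats 200000
set_option maxHeartbeats 1600000
set_option backward.isDefEq.respectTransparency false
open CategoryTheory CategoryTheory.Limits AlgebraicGeometry Opposite Topology
universe u
open ProEtW

namespace Groth.Agent.S0705

/-- Let I be an ideal of A such that V(I) is a profinite space. Then some ind-Zariski A-algebra B has
w-local spectrum whose closed points are exactly V(IB), with A/I -> B/IB bijective. -/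
theorem result (A : Type u) [CommRing A] (I : Ideal A)
    (hI : ProEtW.IsProfinite (PrimeSpectrum.zeroLocus (R := A) I)) :
    ∃ (B : Type u) (_ : CommRing B) (_ : Algebra A B),
      EtPBC.IsIndZariski A B ∧ ProEtW.IsWLocal (PrimeSpectrum B) ∧
      ProEtW.closedPoints (PrimeSpectrum B) = PrimeSpectrum.zeroLocus (I.map (algebraMap A B)) ∧
      Function.Bijective (Ideal.quotientMap (I.map (algebraMap A B)) (algebraMap A B)
        Ideal.le_comap_map) := by
  have h1 := WContr.isIndZariski_localization_cRing A (WContr.lSub I) (Localization (WContr.lSub I))
  have h2 := WContr.lSet_eq_zeroLocus I (Localization (WContr.lSub I)) hI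
  haveI := hI.2.1
  refine ⟨Localization (WContr.lSub I), inferInstance, inferInstance, h1,
    WContr.isWLocal_l I (Localization (WContr.lSub I)), ?_,
    WContr.bijective_quotientMap_of_identifiesLocalRings I (WContr.identifiesLocalRings h1) ?_⟩
  · rw [WContr.closedPoints_eq_lSet I (Localization (WContr.lSub I)), h2]
  · rw [← h2]; exact WContr.bijOn_lSet I (Localization (WContr.lSub I))

end Groth.Agent.S0705
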