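import Groth.Statements.S7566


set_option autoImplicit false
universe u
open PtTop

namespace Groth.Agent.S7566

/-- Let X be a quasi-compact topological space whose quasi-compact opens form a basis, any two of them
meeting in a quasi-compact set. Then for every x ∈ X the connected component of x equals the
intersection of every clopen subset of X that contains x. -/
theorem result {X : Type u} [TopologicalSpace X]
    [CompactSpace X] [PrespectralSpace X] [QuasiSeparatedSpace X] (x : X) :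
    connectedComponent x = ⋂₀ {Z : Set X | IsClopen Z ∧ x ∈ Z} := by
  classical
  set Q : Set X := ⋂₀ {Z : Set X | IsClopen Z ∧ x ∈ Z} with hQ
  have hQc : IsClosed Q := isClosed_sInter fun Z hZ => hZ.1.1
  have hxQ : x ∈ Q := fun Z hZ => hZ.2
  refine Set.Subset.antisymm (fun y hy Z hZ => hZ.1.connectedComponent_subset hZ.2 hy) ?_
  refine IsPreconnected.subset_connectedComponent ?_ hxQ
  rw [isPreconnected_iff_subset_of_fully_disjoint_closed hQc]
  intro u v hu hv hQuv huv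
  have nb : ∀ A B : Set X, IsClosed A → IsClosed B → Disjoint A B → ∃ U, IsOpen U ∧ IsCompact U ∧ A ⊆ U ∧ Disjoint U B := by
    intro A B hA hB hAB
    choose W hW hxW hWB using fun a : A =>
      (PrespectralSpace.isTopologicalBasis (X := X)).exists_subset_of_mem_open
        (show a.1 ∈ Bᶜ from Set.disjoint_left.1 hAB a.2) hB.isOpen_compl
    obtain ⟨t, ht⟩ := hA.isCompact.elim_finite_subcover W (fun a => (hW a).1)
      fun a ha => Set.mem_iUnion.2 ⟨⟨a, ha⟩, hxW ⟨a, ha⟩⟩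
    exact ⟨⋃ a ∈ t, W a, isOpen_biUnion fun a _ => (hW a).1, t.finite_toSet.isCompact_biUnion fun a _ => (hW a).2,
      ht, Set.disjoint_left.2 fun y hy hyB => by
        obtain ⟨a, -, hya⟩ := Set.mem_iUnion₂.1 hy
        exact hWB a hya hyB⟩
  obtain ⟨U, hU, hUc, hAU, hUB⟩ := nb (Q ∩ u) (Q ∩ v) (hQc.inter hu) (hQc.inter hv)
    (huv.mono Set.inter_subset_right Set.inter_subset_right)
  obtain ⟨V, hV, hVc, hBV, hVA⟩ := nb (Q ∩ v) (Q ∩ u) (hQc.inter hv) (hQc.inter hu)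
    (huv.symm.mono Set.inter_subset_right Set.inter_subset_right)
  have hQUV : Q ∩ (U ∩ V) = ∅ := by
    rw [Set.eq_empty_iff_forall_notMem]
    rintro y ⟨hy, hyU, hyV⟩
    rcases hQuv hy with h | h
    · exact Set.disjoint_left.1 hVA hyV ⟨hy, h⟩
    · exact Set.disjoint_left.1 hUB hyU ⟨hy, h⟩
  have hK : IsCompact (U ∩ V ∪ (U ∪ V)ᶜ) :=
    (QuasiSeparatedSpace.inter_isCompact U V hU hUc hV hVc).union (hU.union hV).isClosed_compl.isCompact
  obtain ⟨t, ht⟩ := hK.elim_finite_subfamily_closed (fun Z : {Z : Set X | IsClopen Z ∧ x ∈ Z} => Z.1)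
    (fun Z => Z.2.1.1) (by
      rw [Set.eq_empty_iff_forall_notMem]
      rintro y ⟨hy, hy'⟩
      have hyQ : y ∈ Q := fun Z hZ => Set.mem_iInter.1 hy' ⟨Z, hZ⟩
      rcases hy with hy | hy
      · exact hQUV.subset ⟨hyQ, hy⟩
      · rcases hQuv hyQ with h | h
        · exact hy (Or.inl (hAU ⟨hyQ, h⟩))
        · exact hy (Or.inr (hBV ⟨hyQ, h⟩)))
  set C : Set X := ⋂ Z ∈ t, (Z : {Z : Set X | IsClopen Z ∧ x ∈ Z}).1
  have hC : IsClopen C := isClopen_biInter_finset fun Z _ => Z.2.1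
  have hxC : x ∈ C := Set.mem_iInter₂.2 fun Z _ => Z.2.2
  have hCUV : ∀ y ∈ C, y ∈ U ∪ V ∧ y ∉ U ∩ V := fun y hy =>
    ⟨by_contra fun h => ht.subset ⟨Or.inr h, hy⟩, fun h => ht.subset ⟨Or.inl h, hy⟩⟩
  rcases (hCUV x hxC).1 with hxU | hxV
  · left
    have hcl : IsClopen (C ∩ U) := ⟨by
      rw [show C ∩ U = C \ V from Set.ext fun y => ⟨fun h => ⟨h.1, fun h' => (hCUV y h.1).2 ⟨h.2, h'⟩⟩,
        fun h => ⟨h.1, (hCUV y h.1).1.resolve_right h.2⟩⟩]
      exact hC.1.sdiff hV, hC.2.inter hU⟩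
    intro y hy
    rcases hQuv hy with h | h
    · exact h
    · exact absurd ⟨hy, h⟩ (Set.disjoint_left.1 hUB (hy (C ∩ U) ⟨hcl, hxC, hxU⟩).2)
  · right
    have hcl : IsClopen (C ∩ V) := ⟨by
      rw [show C ∩ V = C \ U from Set.ext fun y => ⟨fun h => ⟨h.1, fun h' => (hCUV y h.1).2 ⟨h', h.2⟩⟩,
        fun h => ⟨h.1, (hCUV y h.1).1.resolve_left h.2⟩⟩]
      exact hC.1.sdiff hU, hC.2.inter hV⟩
    intro y hy
    rcases hQuv hy with h | h
    · exact absurd ⟨hy, h⟩ (Set.disjoint_left.1 hVA (hy (C ∩ V) ⟨hcl, hxC, hxV⟩).2)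
    · exact h

end Groth.Agent.S7566
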