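import Groth.Statements.S0692
import Groth.Agent.WContr.WLocalSquare
import Groth.Agent.S0733
import Groth.Agent.S0734
import Groth.Agent.S0736

set_option autoImplicit false
set_option backward.isDefEq.respectTransparency false
set_option backward.isDefEq.respectTransparency.types false
set_option linter.style.haveILetI false
set_option maxHeartbeats 800000
set_option synthInstance.maxHeartbeats 200000
attribute [local instance] Algebra.TensorProduct.rightAlgebra
open CategoryTheory CategoryTheory.Limits AlgebraicGeometry Opposite Topology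
universe u
open scoped TensorProduct
open ProEtW

namespace Groth.Agent.S0692

/-- Let A -> B induce algebraic residue field extensions. Then one can find faithfully flat ind-etale
extensions C of A and D of B, with D a C-algebra compatibly, such that: Spec C and Spec D are
w-local; Spec D -> Spec C is w-local; the closed points of Spec D are exactly the points over closed
points of Spec C; the closed points of Spec C map onto Spec A and those of Spec D onto Spec B; and
C_m is strictly henselian for every maximal ideal m of C. -/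
theorem result (A B : Type u) [CommRing A] [CommRing B] [Algebra A B]
    (h : ProEtW.AlgebraicResidueExtensions A B) :
    ∃ (C D : Type u) (_ : CommRing C) (_ : CommRing D) (_ : Algebra A C) (_ : Algebra B D)
      (_ : Algebra C D) (_ : Algebra A D) (_ : IsScalarTower A C D) (_ : IsScalarTower A B D),
      Module.FaithfullyFlat A C ∧ EtPBC.IsIndEtale A C ∧ Module.FaithfullyFlat B D ∧
      EtPBC.IsIndEtale B D ∧ ProEtW.IsWLocal (PrimeSpectrum C) ∧ ProEtW.IsWLocal (PrimeSpectrum D) ∧
      ProEtW.IsWLocalMap (PrimeSpectrum.comap (algebraMap C D)) ∧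
      ProEtW.closedPoints (PrimeSpectrum D) =
        PrimeSpectrum.comap (algebraMap C D) ⁻¹' ProEtW.closedPoints (PrimeSpectrum C) ∧
      PrimeSpectrum.comap (algebraMap A C) '' ProEtW.closedPoints (PrimeSpectrum C) = Set.univ ∧
      PrimeSpectrum.comap (algebraMap B D) '' ProEtW.closedPoints (PrimeSpectrum D) = Set.univ ∧
      ∀ (m : Ideal C) [m.IsMaximal], EtCoh.IsStrictlyHenselianLocalRing (Localization.AtPrime m) := by
  obtain ⟨C, _, _, hCff, hCind, hCwc, hCsurj⟩ := Groth.Agent.WContr.WSquare.exists_wContractible_closed A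
  have hCwl := Groth.Agent.WContr.isWLocal hCwc
  obtain ⟨I, hI⟩ := Groth.Agent.WContr.WSquare.exists_ideal_closedPoints hCwl
  have hres : ProEtW.AlgebraicResidueExtensions C (B ⊗[A] C) :=
    Groth.Agent.WContr.WSquare.algebraicResidueExtensions_baseChange h
  obtain ⟨D, _, algD, algCD, _, hzar, hbij, hDwl, hmap, hpre⟩ :=
    Groth.Agent.WContr.WSquare.exists_indZariski I hI hres
  letI : Algebra B D := ((algebraMap (B ⊗[A] C) D).comp (algebraMap B (B ⊗[A] C))).toAlgebra
  haveI : IsScalarTower B (B ⊗[A] C) D :=
    IsScalarTower.of_algebraMap_eq (R := B) (S := B ⊗[A] C) (A := D) fun _ => rfl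
  letI : Algebra A D := ((algebraMap B D).comp (algebraMap A B)).toAlgebra
  haveI : IsScalarTower A B D := IsScalarTower.of_algebraMap_eq (R := A) (S := B) (A := D) fun _ => rfl
  haveI : IsScalarTower A C D := IsScalarTower.of_algebraMap_eq (R := A) (S := C) (A := D) fun r => by
    rw [IsScalarTower.algebraMap_apply C (B ⊗[A] C) D]
    show algebraMap (B ⊗[A] C) D (algebraMap A B r ⊗ₜ[A] (1 : C)) = _
    congr 1
    rw [Algebra.TensorProduct.right_algebraMap_apply, Algebra.algebraMap_eq_smul_one, Algebra.algebraMap_eq_smul_one,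
      TensorProduct.smul_tmul]
  have hDind : EtPBC.IsIndEtale B D := Groth.Agent.S0734.result B (B ⊗[A] C) D
    (Groth.Agent.S0733.result A C B hCind) (Groth.Agent.WContr.WSquare.isIndEtale_of_isIndZariski hzar)
  have hDsurj : PrimeSpectrum.comap (algebraMap B D) '' ProEtW.closedPoints (PrimeSpectrum D) = Set.univ := by
    refine Set.eq_univ_of_forall fun b => ?_
    obtain ⟨c, hc, hca⟩ := hCsurj.ge (Set.mem_univ (PrimeSpectrum.comap (algebraMap A B) b))
    obtain ⟨q, hqb, hqc⟩ := Groth.Agent.WContr.WSquare.exists_prime_over b c hca.symm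
    have hqJ : I.map (algebraMap C (B ⊗[A] C)) ≤ q.asIdeal := Ideal.map_le_iff_le_comap.mpr (by
      have : c ∈ PrimeSpectrum.zeroLocus (R := C) I := hI.ge hc
      rw [← hqc] at this
      exact this)
    obtain ⟨qb, hqb'⟩ : q ∈ Set.range (PrimeSpectrum.comap (Ideal.Quotient.mk (I.map (algebraMap C (B ⊗[A] C))))) := by
      rw [range_comap_of_surjective _ _ Ideal.Quotient.mk_surjective, Ideal.mk_ker]
      exact hqJ
    obtain ⟨d, hd⟩ := ((PrimeSpectrum.comapEquiv (RingEquiv.ofBijective _ hbij).symm).surjective) qb
    refine ⟨PrimeSpectrum.comap (Ideal.Quotient.mk _) d, ?_, ?_⟩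
    · rw [hpre]
      show PrimeSpectrum.comap (algebraMap C D) _ ∈ ProEtW.closedPoints (PrimeSpectrum C)
      rw [← hI]
      intro r hr
      show Ideal.Quotient.mk _ (algebraMap C D r) ∈ d.asIdeal
      rw [Ideal.Quotient.eq_zero_iff_mem.mpr ?_]
      · exact d.asIdeal.zero_mem
      · rw [IsScalarTower.algebraMap_apply C (B ⊗[A] C) D]
        exact Ideal.mem_map_of_mem _ (Ideal.mem_map_of_mem _ hr)
    · rw [← hqb, ← hqb', ← hd]
      rfl
  refine ⟨C, D, inferInstance, inferInstance, inferInstance, inferInstance, inferInstance, inferInstance,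
    inferInstance, inferInstance, hCff, hCind, ?_, hDind, hCwl, hDwl, hmap, hpre, hCsurj, hDsurj, fun m _ => Groth.Agent.WContr.isStrictlyHenselian hCwc m⟩
  haveI := Groth.Agent.IndEtLib.flat hDind
  refine Module.FaithfullyFlat.of_comap_surjective fun b => ?_
  obtain ⟨d, -, hd⟩ := hDsurj.ge (Set.mem_univ b)
  exact ⟨d, hd⟩

end Groth.Agent.S0692
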