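import Groth.Statements.S0176
import Groth.Agent.WContr.WEtResidue
import Groth.Agent.WContr.WLocalIndZar
import Groth.Agent.Olivier.Valuation
import Groth.Agent.S0692
import Groth.Agent.S0427

set_option autoImplicit false
set_option backward.isDefEq.respectTransparency false
set_option linter.style.haveILetI false
set_option maxHeartbeats 800000
set_option synthInstance.maxHeartbeats 200000
universe u
open CategoryTheory CategoryTheory.Limits AlgebraicGeometry Opposite
open EtPBC

namespace Groth.Agent.S0176

/-- For a weakly etale ring map A -> B (Mathlib's Algebra.WeaklyEtale) one can enlarge B along a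
faithfully flat ind-etale extension B' so that B' is already ind-etale over A; here ind-etale means:
a filtered colimit of etale algebras. -/
theorem result (A B : Type u) [CommRing A] [CommRing B] [Algebra A B]
    [Algebra.WeaklyEtale A B] :
    ∃ (B' : Type u) (_ : CommRing B') (_ : Algebra B B') (_ : Algebra A B') (_ : IsScalarTower A B B'),
      Module.FaithfullyFlat B B' ∧ EtPBC.IsIndEtale B B' ∧ EtPBC.IsIndEtale A B' := by
  obtain ⟨C, D, _, _, _, algBD, algCD, algAD, _, _, -, hCind, hDff, hDind, hCwl, hDwl, -, hcl, -, -, hsh⟩ :=
    Groth.Agent.S0692.result A B (Groth.Agent.WContr.algebraicResidueExtensions_of_weaklyEtale A B)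
  haveI : Algebra.WeaklyEtale A C := Groth.Agent.S0736.result A C hCind
  haveI : Algebra.WeaklyEtale B D := Groth.Agent.S0736.result B D hDind
  haveI : Algebra.WeaklyEtale A D := Algebra.WeaklyEtale.trans A B D
  haveI : Algebra.WeaklyEtale C D := Groth.Agent.WeakEt.weaklyEtale_of_comp A C D
  have closedBij : ∀ (m : Ideal C) [m.IsMaximal] (n : Ideal D) [n.IsPrime] (hmn : m = n.comap (algebraMap C D)),
      Function.Bijective (Localization.localRingHom m n (algebraMap C D) hmn) := by
    intro m _ n _ hmn
    letI : Algebra (Localization.AtPrime m) (Localization.AtPrime n) :=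
      (Localization.localRingHom m n (algebraMap C D) hmn).toAlgebra
    haveI : IsScalarTower C (Localization.AtPrime m) (Localization.AtPrime n) :=
      IsScalarTower.of_algebraMap_eq fun c => by
        rw [IsScalarTower.algebraMap_apply C D (Localization.AtPrime n)]
        exact (Localization.localRingHom_to_map m n (algebraMap C D) hmn c).symm
    haveI : Algebra.WeaklyEtale C (Localization.AtPrime m) := Groth.Agent.Olivier.weaklyEtale_localization _
    haveI : Algebra.WeaklyEtale D (Localization.AtPrime n) := Groth.Agent.Olivier.weaklyEtale_localization _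
    haveI : Algebra.WeaklyEtale C (Localization.AtPrime n) := Algebra.WeaklyEtale.trans C D (Localization.AtPrime n)
    haveI : Algebra.WeaklyEtale (Localization.AtPrime m) (Localization.AtPrime n) :=
      Groth.Agent.WeakEt.weaklyEtale_of_comp C (Localization.AtPrime m) (Localization.AtPrime n)
    haveI : IsLocalHom (algebraMap (Localization.AtPrime m) (Localization.AtPrime n)) :=
      Localization.isLocalHom_localRingHom m n (algebraMap C D) hmn
    obtain ⟨_, _⟩ := hsh m
    exact Groth.Agent.S0427.result (A := Localization.AtPrime m) (B := Localization.AtPrime n)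
  have hid : EtPBC.IdentifiesLocalRings C D := Groth.Agent.WContr.identifiesLocalRings_of_closed fun n hn => by
    have hn' : PrimeSpectrum.comap (algebraMap C D) n ∈ ProEtW.closedPoints (PrimeSpectrum C) := hcl.le hn
    haveI : (n.asIdeal.comap (algebraMap C D)).IsMaximal :=
      (PrimeSpectrum.isClosed_singleton_iff_isMaximal _).mp hn'
    exact closedBij _ n.asIdeal rfl
  have hz : EtPBC.IsIndZariski C D :=
    Groth.Agent.WContr.isIndZariski_of_identifiesLocalRings_of_isWLocal hid hDwl
  exact ⟨D, inferInstance, algBD, algAD, inferInstance, hDff, hDind,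
    Groth.Agent.S0734.result A C D hCind (Groth.Agent.WContr.WSquare.isIndEtale_of_isIndZariski hz)⟩

end Groth.Agent.S0176
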