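import Groth.Statements.S5925
import Groth.Agent.EquidimPt.Height

set_option autoImplicit false
open CategoryTheory AlgebraicGeometry
universe u
open EGA43

namespace Groth.Agent.S5925

/-- Let Y be an irreducible locally Noetherian scheme, f : X ⟶ Y a morphism locally of finite type which
is equidimensional at the point x, y = f x and e = dim_x(f⁻¹(y)). Let g be a global section of O_X
vanishing at x whose zero set X' contains no maximal point of f⁻¹(y). Then X', with its reduced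
closed subscheme structure, is equidimensional over Y at x; dim_x(X' ∩ f⁻¹(y)) = e − 1; and every
irreducible component of X' containing x has codimension 1 in X, i.e. the local ring of X at its
generic point has Krull dimension 1. (Stated for a global section; the published statement takes g
on an affine open neighbourhood of x, to which this applies after restriction, and its codimension
assertion codim(X', X) = 1 is read for the components of X' through x: a component of the zero set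
not passing through x can be a whole irreducible component of X disjoint from the fibre, of
codimension 0.) -/
theorem result {X Y : Scheme.{u}} [IrreducibleSpace Y]
    [IsLocallyNoetherian Y] (f : X ⟶ Y) [LocallyOfFiniteType f] (x : X) (hf : EGA43.IsEquidimAt f x)
    (g : Γ(X, ⊤)) (hgx : x ∈ X.zeroLocus ({g} : Set Γ(X, ⊤)))
    (hmax : ∀ z : X, f.base z = f.base x → (∀ z' : X, f.base z' = f.base x → z ∈ closure ({z'} : Set X) → z' = z) →
      z ∉ X.zeroLocus ({g} : Set Γ(X, ⊤))) :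
    (∀ w : ↥(Scheme.IdealSheafData.vanishingIdeal ⟨X.zeroLocus ({g} : Set Γ(X, ⊤)), X.zeroLocus_isClosed _⟩).subscheme,
        (Scheme.IdealSheafData.vanishingIdeal ⟨X.zeroLocus ({g} : Set Γ(X, ⊤)), X.zeroLocus_isClosed _⟩).subschemeι.base w = x →
        EGA43.IsEquidimAt ((Scheme.IdealSheafData.vanishingIdeal ⟨X.zeroLocus ({g} : Set Γ(X, ⊤)), X.zeroLocus_isClosed _⟩).subschemeι ≫ f) w) ∧
      FlatMor.localDim ↥(X.zeroLocus ({g} : Set Γ(X, ⊤)) ∩ f.base ⁻¹' {f.base x}) ⟨x, ⟨hgx, rfl⟩⟩ + 1 = FlatMor.fibreDimAt f x ∧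
      ∀ Z ∈ irreducibleComponents ↥(X.zeroLocus ({g} : Set Γ(X, ⊤))), (⟨x, hgx⟩ : ↥(X.zeroLocus ({g} : Set Γ(X, ⊤)))) ∈ Z →
        ∀ ξ : ↥(X.zeroLocus ({g} : Set Γ(X, ⊤))), closure ({ξ} : Set ↥(X.zeroLocus ({g} : Set Γ(X, ⊤)))) = Z →
          ringKrullDim (X.presheaf.stalk (ξ : X)) = 1 := by
  open Groth.Agent.EquidimPt Groth.Agent.Unibranch in
  haveI : IsLocallyNoetherian X := LocallyOfFiniteType.isLocallyNoetherian f
  obtain ⟨e, U, hxU, he, hmax', hge, hle, -⟩ := exists_fibreDimAt_data f x hf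
  set V : Set X := X.zeroLocus ({g} : Set Γ(X, ⊤))
  have hV : IsClosed V := X.zeroLocus_isClosed _
  have hS : IsLocallyClosed V := hV.isLocallyClosed
  -- chains in the zero locus can be extended upwards in the fibre
  have hext : ∀ (k : ℕ) (c : Fin (k + 1) → X), (∀ i, c i ∈ (U : Set X) ∩ V ∧ f (c i) = f x) →
      IsChain' c → k + 1 ≤ e := by
    intro k c hc hc'
    obtain ⟨z', hz', hz'f, hne⟩ : ∃ z', z' ⤳ c 0 ∧ f z' = f x ∧ z' ≠ c 0 := by
      by_contra! hcon
      exact hmax (c 0) (hc 0).2 (fun z' hz' hcl =>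
        hcon z' (specializes_iff_mem_closure.mpr hcl) hz') (hc 0).1.2
    refine hle (f x) (k + 1) (Fin.cons z' c) (fun i => ?_) (fun i => ?_)
    · refine Fin.cases ?_ (fun j => ?_) i
      · exact ⟨by simpa using hz'.mem_open U.2 (hc 0).1.1, by simpa using hz'f⟩
      · exact ⟨by simpa using (hc j).1.1, by simpa using (hc j).2⟩
    · refine Fin.cases ?_ (fun j => ?_) i
      · simp only [Fin.castSucc_zero, Fin.cons_zero, Fin.cons_succ]
        exact ⟨hz', hne⟩
      · simp only [Fin.castSucc_succ, Fin.cons_succ]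
        exact hc' j
  have he1 : 1 ≤ e := hext 0 (fun _ => x) (fun _ => ⟨⟨hxU, hgx⟩, rfl⟩) fun i => i.elim0
  have hfib : ∃ O : X.Opens, x ∈ O ∧ ChainsLE f ((O : Set X) ∩ V) (f x) (e - 1) :=
    ⟨U, hxU, fun k c hc hc' => by have := hext k c hc hc'; omega⟩
  -- a closure through `x` inside the zero locus has small fibre dimension
  have hno : ∀ ξ ∈ V, ξ ⤳ x → ¬ HasChain f (closure {ξ}) (f ξ) e := by
    intro ξ hξ hξx h
    obtain ⟨c, hc, hc'⟩ := h.of_specializes hξx hxU
    have := hext e c (fun i => ⟨⟨(hc i).1.1,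
      (specializes_iff_mem_closure.mpr (hc i).1.2).mem_closed hV hξ⟩, (hc i).2⟩) hc'
    omega
  -- maximal points of the zero locus through `x`
  have hmain : ∀ ξ ∈ V, ξ ⤳ x → (∀ z ∈ V, z ⤳ ξ → z = ξ) →
      ringKrullDim (X.presheaf.stalk ξ) = ((1 : ℕ) : WithBot ℕ∞) ∧ IsMaxPt (f ξ) ∧
        HasChain f (closure {ξ}) (f ξ) (e - 1) := by
    intro ξ hξ hξx hξmin
    have hξU : ξ ∈ U := hξx.mem_open U.2 hxU
    have hnb : ∀ z : X, z ∈ V ↔ z ∉ X.basicOpen g := fun z => by
      simp only [V, Scheme.zeroLocus_singleton, Set.mem_compl_iff, SetLike.mem_coe]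
    let γ := X.presheaf.germ ⊤ ξ trivial g
    have hγ : γ ∈ IsLocalRing.maximalIdeal (X.presheaf.stalk ξ) := by
      rw [IsLocalRing.mem_maximalIdeal, mem_nonunits_iff]
      exact fun hu => (hnb ξ).mp hξ ((X.mem_basicOpen g ξ trivial).mpr hu)
    have hmin : IsLocalRing.maximalIdeal (X.presheaf.stalk ξ) ∈ (Ideal.span {γ}).minimalPrimes := by
      refine ⟨⟨inferInstance, (Ideal.span_singleton_le_iff_mem _).mpr hγ⟩, fun T ⟨hT, hγT⟩ _ => ?_⟩
      let a : PrimeSpectrum (X.presheaf.stalk ξ) := ⟨T, hT⟩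
      let z := X.fromSpecStalk ξ a
      have hcl : X.fromSpecStalk ξ (IsLocalRing.closedPoint _) = ξ := Scheme.fromSpecStalk_closedPoint
      have hz : z ⤳ ξ := hcl ▸ (fromSpecStalk_le_iff ξ a _).mp (IsLocalRing.le_maximalIdeal hT.ne_top)
      have hzV : z ∈ V := (hnb z).mpr fun hzD => by
        have h1 : a ∈ X.fromSpecStalk ξ ⁻¹ᵁ X.basicOpen g := hzD
        rw [Scheme.preimage_basicOpen, Scheme.fromSpecStalk_app (x := ξ) (U := ⊤) trivial] at h1
        simp only [CommRingCat.comp_apply] at h1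
        erw [Scheme.basicOpen_res, basicOpen_eq_of_affine] at h1
        exact h1.2 ((Ideal.span_singleton_le_iff_mem _).mp hγT)
      have := (X.fromSpecStalk ξ).isEmbedding.injective ((hξmin z hzV hz).trans hcl.symm)
      exact (congrArg PrimeSpectrum.asIdeal this).ge
    have hdim : ringKrullDim (X.presheaf.stalk ξ) ≤ ((1 : ℕ) : WithBot ℕ∞) := by
      rw [← IsLocalRing.maximalIdeal_height_eq_ringKrullDim, Nat.cast_one]
      exact WithBot.coe_le_coe.mpr (Ideal.height_le_one_of_isPrincipal_of_mem_minimalPrimes _ _ hmin)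
    obtain ⟨h1, h2⟩ := hasChain_of_genChainsLE f U hmax' hge 1 he1 ξ hξU
      (genChainsLE_of_ringKrullDim_le ξ hdim)
    refine ⟨le_antisymm hdim ?_, ?_, h1⟩
    · have hnm : ¬ IsMaxPt ξ := fun hm => hno ξ hξ hξx (hge ξ hξU hm)
      obtain ⟨w, hw, hne, -⟩ := exists_covered hnm
      have hw0 : ¬ GenChainsLE ξ 0 := fun h => by
        have := h 1 ![w, ξ] (fun i => by fin_cases i; exact ⟨hw, hne⟩) rfl
        omega
      by_contra hcon
      refine hw0 (genChainsLE_of_ringKrullDim_le ξ ?_)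
      have hlt := not_le.mp hcon
      generalize ringKrullDim (X.presheaf.stalk ξ) = v at hlt
      cases v with
      | bot => exact bot_le
      | coe v =>
        rw [Nat.cast_one, ← WithBot.coe_one, WithBot.coe_lt_coe, Order.lt_one_iff] at hlt
        rw [hlt]
        simp
    · by_contra hcon
      exact hno ξ hξ hξx (by have := h2 hcon; rwa [show e - 1 + 1 = e by omega] at this)
  -- a maximal point of the zero locus through `x`
  obtain ⟨ξ₀, hξ₀, hξ₀x, hξ₀min⟩ : ∃ ξ ∈ V, ξ ⤳ x ∧ ∀ z ∈ V, z ⤳ ξ → z = ξ := by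
    let T : TopologicalSpace.Closeds X := ⟨V, hV⟩
    let ι := (Scheme.IdealSheafData.vanishingIdeal T).subschemeι
    have hr : Set.range ι = V := by
      rw [Scheme.IdealSheafData.range_subschemeι, Scheme.IdealSheafData.coe_support_vanishingIdeal]
      rfl
    obtain ⟨x', hx'⟩ := hr.ge hgx
    obtain ⟨ζ, hζ, hζx⟩ := exists_isMaxPt_specializes x'
    refine ⟨ι ζ, hr.le ⟨ζ, rfl⟩, hx' ▸ hζx.map ι.continuous, fun z hz hzζ => ?_⟩
    obtain ⟨z', rfl⟩ := hr.ge hz
    rw [hζ z' (ι.isEmbedding.isInducing.specializes_iff.mp hzζ)]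
  have hloc : FlatMor.localDim ↥(V ∩ f.base ⁻¹' {f.base x}) ⟨x, ⟨hgx, rfl⟩⟩ = ((e - 1 : ℕ) : WithBot ℕ∞) :=
    le_antisymm ((localDim_inter_le_iff f hS (y := f x) ⟨hgx, rfl⟩).mpr hfib)
      ((natCast_le_localDim_inter_iff f hS (y := f x) ⟨hgx, rfl⟩).mpr fun O hO =>
        ((hmain ξ₀ hξ₀ hξ₀x hξ₀min).2.2.of_specializes hξ₀x hO).mono
          (Set.inter_subset_inter_right _ (closure_minimal (Set.singleton_subset_iff.mpr hξ₀) hV)))
  refine ⟨fun w hw => ?_, ?_, fun Z hZ hxZ ξ hξZ => ?_⟩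
  · exact isEquidimAt_closed f ⟨V, hV⟩ w x hw
      (fun ξ hξ hξx hmin => ⟨(hmain ξ hξ hξx hmin).2.1, (hmain ξ hξ hξx hmin).2.2⟩) hfib
  · rw [hloc, he]
    norm_cast
    omega
  · have hξx : (ξ : X) ⤳ x :=
      (show ξ ⤳ (⟨x, hgx⟩ : ↥V) by rw [specializes_iff_mem_closure, hξZ]; exact hxZ).map continuous_subtype_val
    have hmin : ∀ z ∈ V, z ⤳ (ξ : X) → z = ξ := fun z hz hzξ => by
      have h1 : (⟨z, hz⟩ : ↥V) ⤳ ξ := (subtype_specializes_iff _ _).mpr hzξ
      have h2 : Z ⊆ closure {(⟨z, hz⟩ : ↥V)} := by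
        rw [← hξZ]
        exact closure_minimal (Set.singleton_subset_iff.mpr h1.mem_closure) isClosed_closure
      have h3 := hZ.2 isIrreducible_singleton.closure h2 (subset_closure rfl)
      have h4 : ξ ⤳ (⟨z, hz⟩ : ↥V) := by rw [specializes_iff_mem_closure, hξZ]; exact h3
      exact congrArg Subtype.val (h1.antisymm h4).eq
    simpa using (hmain ξ ξ.2 hξx hmin).1

end Groth.Agent.S5925
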