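import Groth.Statements.S13571
import Groth.Agent.ArtinAtlas.Presentation
import Groth.Agent.AlgStLib.LocQClasses
import Groth.Agent.AlgStLib.QuotRepProps

set_option autoImplicit false
universe u
open CategoryTheory AlgebraicGeometry MonoidalCategory
open AlgSt

namespace Groth.Agent.S13571

/-- For a group action: let `G` be a group scheme over `S` that is flat, locally of finite presentation
and affine over `S`, acting on a scheme `X` over `S`. Then the quotient stack `[X/G]`, whose objects
over `T` are the fppf `G_T`-torsors (schemes) with a `G`-equivariant morphism to `X`, is an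
algebraic stack over `S`. (The published statement is for a groupoid in algebraic spaces with flat,
locally finitely presented source and target maps; this row is the case of the action groupoid of an
affine group scheme, for which every fppf torsor is a scheme.) -/
theorem result {S : Scheme.{u}} (G : Over S) [GrpObj G]
    [Flat G.hom] [LocallyOfFinitePresentation G.hom] [IsAffineHom G.hom] (X : Over S) (aX : AlgGrp.Action G X) :
    AlgSt.IsAlgStack Scheme.fppfPrecoverage (AlgSt.QuotSt Scheme.fppfPrecoverage G aX) := by
  have key : ∀ P : MorphismProperty (AlgSp.Sp S), AlgSt.RepByAlgSpWith P (Groth.Agent.AlgStLib.Quot.qX (aX := aX)) →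
      AlgSt.RepByAlgSpWith P (AlgSt.quotMap Scheme.fppfPrecoverage G aX) := fun P h =>
    (Groth.Agent.AlgStLib.repWith_iff_of_equiv P (AlgSt.quotMap Scheme.fppfPrecoverage G aX)
      (Groth.Agent.AlgStLib.Quot.qX (aX := aX)) (AlgSt.ofOverCat X) (BasedFunctor.id _)
      (Groth.Agent.AlgStLib.isEquivOver_ofOverCat X) Groth.Agent.FibCat2Misc.isEquivOver_id (Iso.refl _)).2 h
  exact Groth.Agent.ArtinAtlas.isAlgStack_of_flat_presentation (Groth.Agent.AlgStLib.Quot.isStack G aX)
    (AlgSp.IsAlgSpace.yon_obj X) (AlgSt.quotMap Scheme.fppfPrecoverage G aX)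
    (Groth.Agent.ArtinAtlas.repWith_flat_lfp
      (key _ (Groth.Agent.AlgStLib.Quot.repWith_qX_locP @Flat Groth.Agent.AlgSpLib.etST_flat ‹_›))
      (key _ (Groth.Agent.AlgStLib.Quot.repWith_qX_locP @LocallyOfFinitePresentation Groth.Agent.AlgSpLib.etST_lfp ‹_›)))
    (key _ Groth.Agent.AlgStLib.Quot.repWith_qX_surjective)

end Groth.Agent.S13571
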