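import Groth.Statements.S16448
import Mathlib
-- import your own Groth.Agent.* helpers here

set_option autoImplicit false
universe u
open EGA4loc

namespace Groth.Agent.S16448

attribute [local instance] Algebra.TensorProduct.rightAlgebra

open scoped TensorProduct

theorem isArtinian_fractionRing {A : Type u} [CommRing A] [IsReduced A] (hfin : (minimalPrimes A).Finite) :
    IsArtinianRing (FractionRing A) := by
  classical
  let Q := FractionRing A
  haveI : IsReduced Q := inferInstanceAs (IsReduced (Localization (nonZeroDivisors A)))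
  let P : Finset (Ideal A) := hfin.toFinset
  have hP : ∀ p ∈ P, p.IsPrime := fun p hp => (hfin.mem_toFinset.mp hp).1.1
  have hdisj : ∀ p ∈ P, Disjoint (nonZeroDivisors A : Set A) (p : Set A) := fun p hp => by
    rw [Set.disjoint_left]
    intro a ha hap
    obtain ⟨r, hr, he⟩ := Ideal.exists_mul_mem_of_mem_minimalPrimes (hfin.mem_toFinset.mp hp) hap
    rw [Ideal.mem_bot] at he
    exact hr ((Ideal.mem_bot).mpr ((mem_nonZeroDivisors_iff.mp ha).1 r he))
  have hprimes : ∀ q : Ideal Q, q.IsPrime → q.comap (algebraMap A Q) ∈ P := fun q hq => by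
    have hd : Disjoint (nonZeroDivisors A : Set A) (q.comap (algebraMap A Q) : Set A) :=
      ((IsLocalization.isPrime_iff_isPrime_disjoint (nonZeroDivisors A) Q q).mp hq).2
    have hsub : (q.comap (algebraMap A Q) : Set A) ⊆ ⋃ p ∈ (P : Set (Ideal A)), (p : Set A) := by
      intro a ha
      by_contra hall
      simp only [Set.mem_iUnion, Finset.mem_coe, SetLike.mem_coe, not_exists] at hall
      refine Set.disjoint_left.mp hd ?_ ha
      rw [SetLike.mem_coe, mem_nonZeroDivisors_iff_right]
      intro y hy
      rw [← Ideal.mem_bot, ← Submodule.zero_eq_bot, ← nilradical_eq_zero A, nilradical, ← Ideal.sInf_minimalPrimes]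
      refine Ideal.mem_sInf.2 fun {p} hp => ?_
      exact ((hp.1.1).mem_or_mem (hy ▸ zero_mem p : y * a ∈ p)).resolve_right (hall p (hfin.mem_toFinset.mpr hp))
    obtain ⟨p, hp, hle⟩ := (Ideal.subset_union_prime (f := id) ⊥ ⊥ fun i hi _ _ => hP i hi).1 hsub
    have heq : q.comap (algebraMap A Q) = p :=
      le_antisymm hle ((hfin.mem_toFinset.mp hp).2 ⟨hq.comap _, bot_le⟩ hle)
    rw [heq]; exact hp
  have hmax : ∀ q : Ideal Q, q.IsPrime → q.IsMaximal := fun q hq => by
    obtain ⟨m, hm, hqm⟩ := Ideal.exists_le_maximal q hq.ne_top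
    have h1 := hprimes q hq
    have h2 := hprimes m hm.isPrime
    have heq := (hfin.mem_toFinset.mp h2).2 ⟨hq.comap _, bot_le⟩ (Ideal.comap_mono hqm)
    have : m ≤ q := by
      rw [← IsLocalization.map_comap (nonZeroDivisors A) Q m, ← IsLocalization.map_comap (nonZeroDivisors A) Q q]
      exact Ideal.map_mono heq
    rwa [le_antisymm hqm this]
  haveI : Finite (PrimeSpectrum Q) := Finite.of_injective
    (fun q => (⟨q.asIdeal.comap (algebraMap A Q), hprimes _ q.2⟩ : P))
    (fun q q' h => PrimeSpectrum.ext (by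
      have h' := congrArg (fun p : P => (p : Ideal A).map (algebraMap A Q)) h
      simpa [IsLocalization.map_comap (nonZeroDivisors A) Q] using h'))
  haveI : ∀ q : PrimeSpectrum Q, q.asIdeal.IsMaximal := fun q => hmax _ q.2
  have hinf : (⨅ q : PrimeSpectrum Q, q.asIdeal) = ⊥ := by
    rw [eq_bot_iff]
    intro x hx
    rw [Submodule.mem_iInf] at hx
    rw [← Submodule.zero_eq_bot, ← nilradical_eq_zero Q, nilradical_eq_sInf]
    exact Ideal.mem_sInf.2 fun {p} hp => hx ⟨p, hp⟩
  have hcop : Pairwise fun q q' : PrimeSpectrum Q => IsCoprime q.asIdeal q'.asIdeal := fun q q' hne =>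
    Ideal.isCoprime_iff_sup_eq.mpr ((hmax _ q.2).coprime_of_ne (hmax _ q'.2) fun h => hne (PrimeSpectrum.ext h))
  let e : Q ≃+* ∀ q : PrimeSpectrum Q, Q ⧸ q.asIdeal :=
    (RingEquiv.quotientBot Q).symm.trans ((Ideal.quotEquivOfEq hinf.symm).trans (Ideal.quotientInfRingEquivPiQuotient _ hcop))
  letI : ∀ q : PrimeSpectrum Q, Field (Q ⧸ q.asIdeal) := fun q => Ideal.Quotient.field q.asIdeal
  exact e.symm.surjective.isArtinianRing

theorem key (A E C : Type u) [CommRing A] [IsReduced A] (hmin : (minimalPrimes A).Finite)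
    [CommRing E] [Algebra A E] [CommRing C] [Algebra A C] [Algebra.Etale A C] (ι : C →ₐ[A] E)
    (hfrac : ∀ e : E, ∃ c s : C, IsUnit (ι s) ∧ e * ι s = ι c)
    (L : Type u) [CommRing L] [Algebra E L] [Algebra A L] [IsScalarTower A E L]
    [IsLocalization (Algebra.algebraMapSubmonoid E (nonZeroDivisors A)) L] :
    IsArtinianRing L ∧ ∃ t : Finset L, ∀ x : L, ∃ a ∈ nonZeroDivisors A,
        algebraMap A L a * x ∈ Submodule.span A (t : Set L) := by
  classical
  haveI := isArtinian_fractionRing hmin
  let Q := FractionRing A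
  let D := Q ⊗[A] C
  haveI : Module.Finite Q D := Module.Finite.of_quasiFinite
  haveI : IsArtinianRing D := IsArtinianRing.of_finite Q D
  have hu : ∀ a : nonZeroDivisors A, IsUnit ((Algebra.ofId A L) (a : A)) := fun a => by
    change IsUnit (algebraMap A L a)
    rw [IsScalarTower.algebraMap_apply A E L]
    exact IsLocalization.map_units L (⟨_, ⟨(a : A), a.2, rfl⟩⟩ : Algebra.algebraMapSubmonoid E (nonZeroDivisors A))
  let g : Q →ₐ[A] L := IsLocalization.liftAlgHom (M := nonZeroDivisors A) (f := Algebra.ofId A L) hu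
  let f : C →ₐ[A] L := (IsScalarTower.toAlgHom A E L).comp ι
  let χ : D →ₐ[A] L := Algebra.TensorProduct.lift g f fun _ _ => Commute.all _ _
  have hχC : ∀ c, χ (1 ⊗ₜ[A] c) = f c := fun c =>
    (Algebra.TensorProduct.lift_tmul g f (fun _ _ => Commute.all _ _) 1 c).trans (by rw [map_one, one_mul])
  have hχQ : ∀ x, χ (x ⊗ₜ[A] 1) = g x := fun x =>
    (Algebra.TensorProduct.lift_tmul g f (fun _ _ => Commute.all _ _) x 1).trans (by rw [map_one, mul_one])
  haveI : IsArtinianRing χ.toRingHom.range := χ.toRingHom.rangeRestrict_surjective.isArtinianRing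
  have hinv : ∀ c : C, IsUnit (f c) → ∃ d, χ d * f c = 1 := by
    intro c hc
    have hmem : f c ∈ χ.toRingHom.range := ⟨_, hχC c⟩
    have hnz : (⟨f c, hmem⟩ : χ.toRingHom.range) ∈ nonZeroDivisors χ.toRingHom.range :=
      mem_nonZeroDivisors_iff_right.mpr fun y hy => Subtype.ext (by
        have := congrArg Subtype.val hy
        exact hc.mul_left_eq_zero.mp this)
    obtain ⟨w, hw⟩ := (IsArtinianRing.isUnit_of_mem_nonZeroDivisors hnz).exists_left_inv
    obtain ⟨d, hd⟩ := w.2
    refine ⟨d, ?_⟩
    have := congrArg Subtype.val hw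
    change (w : L) * f c = 1 at this
    rwa [← hd] at this
  have hsurj : Function.Surjective χ := by
    intro x
    obtain ⟨⟨e, m⟩, hx⟩ := IsLocalization.surj (Algebra.algebraMapSubmonoid E (nonZeroDivisors A)) x
    obtain ⟨a, ha, ham⟩ := m.2
    obtain ⟨c, s, hs, hes⟩ := hfrac e
    obtain ⟨d, hd⟩ := hinv s (hs.map (algebraMap E L))
    obtain ⟨b, hb⟩ : ∃ b : Q, algebraMap A Q a * b = 1 :=
      (IsLocalization.map_units Q (⟨a, ha⟩ : nonZeroDivisors A)).exists_right_inv
    refine ⟨(b ⊗ₜ[A] 1) * (d * (1 ⊗ₜ[A] c)), ?_⟩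
    rw [map_mul, map_mul, hχC, hχQ]
    have h1 : algebraMap A L a * g b = 1 := by
      rw [← g.commutes a, ← map_mul, hb, map_one]
    have hes' : algebraMap E L e * f s = f c := by
      have := congrArg (algebraMap E L) hes
      rwa [map_mul] at this
    have hx' : x * algebraMap A L a = algebraMap E L e := by
      rw [← hx, ← ham, IsScalarTower.algebraMap_apply A E L]
    linear_combination (χ d * f s * x) * h1 - (g b * χ d) * hes' + x * hd - (g b * χ d * f s) * hx'
  refine ⟨hsurj.isArtinianRing, ?_⟩
  obtain ⟨t₀, ht₀⟩ := Module.Finite.fg_top (R := Q) (M := D)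
  refine ⟨t₀.image χ, fun x => ?_⟩
  obtain ⟨d, rfl⟩ := hsurj x
  have hd : d ∈ Submodule.span Q (t₀ : Set D) := ht₀ ▸ Submodule.mem_top
  rw [Finset.coe_image]
  induction hd using Submodule.span_induction with
  | mem z hz => exact ⟨1, one_mem _, by rw [map_one, one_mul]; exact Submodule.subset_span ⟨z, hz, rfl⟩⟩
  | zero => exact ⟨1, one_mem _, by simp⟩
  | add y z _ _ hy hz =>
    obtain ⟨a, ha, hay⟩ := hy
    obtain ⟨b, hb, hbz⟩ := hz
    refine ⟨a * b, mul_mem ha hb, ?_⟩
    rw [map_mul, map_add, mul_add]
    refine add_mem ?_ ?_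
    · rw [mul_comm (algebraMap A L a), mul_assoc, ← Algebra.smul_def]
      exact Submodule.smul_mem _ _ hay
    · rw [mul_assoc, ← Algebra.smul_def]
      exact Submodule.smul_mem _ _ hbz
  | smul r z _ hz =>
    obtain ⟨a, ha, haz⟩ := hz
    obtain ⟨⟨r₀, m⟩, hr⟩ := IsLocalization.surj (nonZeroDivisors A) r
    refine ⟨m * a, mul_mem m.2 ha, ?_⟩
    have hrz : χ (r • z) = g r * χ z := by
      rw [← hχQ r, ← map_mul]
      exact congrArg χ (Algebra.smul_def r z)
    have hr' : g r * algebraMap A L m = algebraMap A L r₀ := by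
      rw [← g.commutes, ← map_mul, hr, g.commutes]
    rw [hrz, map_mul, show algebraMap A L m * algebraMap A L a * (g r * χ z) =
      algebraMap A L r₀ * (algebraMap A L a * χ z) by linear_combination (algebraMap A L a * χ z) * hr',
      ← Algebra.smul_def r₀]
    exact Submodule.smul_mem _ _ haz


/-- Let A be a reduced local ring with finitely many minimal prime ideals and E a local ring which is an
essentially etale local A-algebra with local structure map. Then the total ring of fractions K_E of
E is the localization of E at the images of the non-zero-divisors of A — that is, K_E = E ⊗_A K_A —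
and K_E is finite over K_A: for some finite subset t of K_E, every element of K_E multiplied by the
image of a suitable non-zero-divisor of A lies in the A-span of t. (The published statement is for a
reduced semilocal ring and a semilocal etale extension; this row treats a local ring and a local
etale extension.) -/
theorem result
    (A E : Type u) [CommRing A] [IsLocalRing A] [IsReduced A] (hmin : (minimalPrimes A).Finite)
    [CommRing E] [IsLocalRing E] [Algebra A E] [IsLocalHom (algebraMap A E)]
    (hE : EGA4loc.IsEssentiallyEtale A E) :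
    IsLocalization ((nonZeroDivisors A).map (algebraMap A E)) (FractionRing E) ∧
      ∃ t : Finset (FractionRing E), ∀ x : FractionRing E, ∃ a ∈ nonZeroDivisors A,
        algebraMap A (FractionRing E) a * x ∈ Submodule.span A (t : Set (FractionRing E)) := by
  classical
  obtain ⟨C, _, _, q, hq, hC, -, ⟨φ⟩⟩ := hE
  haveI := hC
  haveI : Module.Flat A E := Module.Flat.of_linearEquiv (φ.toLinearEquiv : E ≃ₗ[A] Localization.AtPrime q)
  let ι : C →ₐ[A] E := φ.symm.toAlgHom.comp (IsScalarTower.toAlgHom A C (Localization.AtPrime q))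
  have hfrac : ∀ e : E, ∃ c s : C, IsUnit (ι s) ∧ e * ι s = ι c := by
    intro e
    obtain ⟨⟨c, s⟩, h⟩ := IsLocalization.surj q.primeCompl (φ e)
    refine ⟨c, s, (IsLocalization.map_units (Localization.AtPrime q) s).map φ.symm, ?_⟩
    have h' := congrArg φ.symm h
    rw [map_mul, φ.symm_apply_apply] at h'
    exact h'
  have hle : Algebra.algebraMapSubmonoid E (nonZeroDivisors A) ≤ nonZeroDivisors E := by
    rintro _ ⟨a, ha, rfl⟩
    rw [mem_nonZeroDivisors_iff_right]
    intro x hx
    have hsm : Function.Injective (fun y : A => a • y) := fun y z h => by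
      have := mem_nonZeroDivisors_iff_right.mp ha (y - z) (by
        simp only [smul_eq_mul] at h; rw [sub_mul]; linear_combination h)
      exact sub_eq_zero.mp this
    refine (IsSMulRegular.of_flat (S := E) (show IsSMulRegular A a from hsm)).right_eq_zero_of_smul ?_
    change algebraMap A E a • x = 0
    rw [smul_eq_mul, mul_comm]; exact hx
  have hart := key A E C hmin ι hfrac (Localization (Algebra.algebraMapSubmonoid E (nonZeroDivisors A)))
  have hloc : IsLocalization (Algebra.algebraMapSubmonoid E (nonZeroDivisors A)) (FractionRing E) := by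
    let L := Localization (Algebra.algebraMapSubmonoid E (nonZeroDivisors A))
    haveI : IsArtinianRing L := hart.1
    haveI : IsFractionRing E L := IsLocalization.of_le (Algebra.algebraMapSubmonoid E (nonZeroDivisors A))
      (nonZeroDivisors E) hle fun x hx => IsArtinianRing.isUnit_of_mem_nonZeroDivisors
        (IsLocalization.map_nonZeroDivisors_le (Algebra.algebraMapSubmonoid E (nonZeroDivisors A)) L
          ⟨x, hx, rfl⟩)
    exact IsLocalization.isLocalization_of_algEquiv _ (FractionRing.algEquiv E L).symm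
  refine ⟨hloc, ?_⟩
  exact (key A E C hmin ι hfrac (FractionRing E)).2

end Groth.Agent.S16448
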