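import Groth.Statements.S0108
import Groth.Agent.EtStalk.Sheaf
import Mathlib

set_option autoImplicit false
open CategoryTheory CategoryTheory.Limits AlgebraicGeometry Opposite
universe u
open EtBase

set_option backward.isDefEq.respectTransparency false

namespace Groth.Agent.S0108

/-- The Kummer sequence — when n is invertible on S, the n-th power map on the multiplicative group
sheaf is an epimorphism of étale sheaves (its kernel μ_n is, by definition in the prelude, the sheaf
of n-th roots of unity, so the sequence 0 → μ_n → G_m → G_m → 0 is exact). -/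
theorem result (S : Scheme.{u}) (n : ℕ) (hn : IsUnit (n : Γ(S, ⊤))) : Epi (EtCoh.powMap S n) := by
  refine (Groth.Agent.EtStalk.epi_iff _).mpr fun Ω _ _ ξ q => ?_
  obtain ⟨U, x, s, rfl⟩ :=
    (Scheme.pointSmallEtale ξ).toPresheafFiber_jointly_surjective (P := (EtCoh.Gm S).obj) q
  let x' : Over.mk ξ ⟶ (Scheme.Etale.forget S).obj U := x
  let U₀ : Scheme.{u} := U.left
  let φU : U₀ ⟶ S := U.hom
  let l : Spec (CommRingCat.of Ω) ⟶ U₀ := x'.left
  have hl : l ≫ φU = ξ := Over.w x'
  haveI hφU : Etale φU := U.prop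
  obtain ⟨W, hW, hmem, -⟩ := exists_isAffineOpen_mem_and_subset (X := U₀) (x := l default) (U := ⊤) trivial
  let A : CommRingCat.{u} := Γ(U₀, W)
  have hr : Set.range l ⊆ Set.range hW.fromSpec := by
    rintro - ⟨p, rfl⟩
    rw [hW.range_fromSpec, Subsingleton.elim (α := Spec (CommRingCat.of Ω)) p default]
    exact hmem
  let l' : Spec (CommRingCat.of Ω) ⟶ Spec A := IsOpenImmersion.lift hW.fromSpec l hr
  let χ : A ⟶ CommRingCat.of Ω := Spec.preimage l'
  have hχ : Spec.map χ ≫ hW.fromSpec = l := by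
    rw [Spec.map_preimage]; exact IsOpenImmersion.lift_fac _ _ _
  -- the unit
  let σ : Γ(U₀, ⊤)ˣ := Additive.toMul (ULift.down s)
  let a : Aˣ := Units.map (hW.fromSpec.appTop ≫ (Scheme.ΓSpecIso A).hom).hom.toMonoidHom σ
  have hn' : IsUnit (n : A) := by
    have := hn.map ((φU.appTop ≫ hW.fromSpec.appTop ≫ (Scheme.ΓSpecIso A).hom).hom)
    rwa [map_natCast] at this
  have hn0 : n ≠ 0 := by
    rintro rfl
    have := hn'.map χ.hom
    rw [Nat.cast_zero, map_zero] at this
    exact not_isUnit_zero this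
  haveI : NeZero (n : Ω) := ⟨by
    have := (hn'.map χ.hom).ne_zero
    rwa [map_natCast] at this⟩
  -- the standard étale algebra
  let P : StandardEtalePair A :=
    { f := Polynomial.X ^ n - Polynomial.C (a : A)
      monic_f := Polynomial.monic_X_pow_sub_C _ hn0
      g := 1
      cond := ⟨Polynomial.X * Polynomial.C ((hn'.unit⁻¹ : Aˣ) * (a⁻¹ : Aˣ) : A),
        -Polynomial.C ((a⁻¹ : Aˣ) : A), 1, by
        have e1 : Polynomial.C ((n : A)) * Polynomial.C ((hn'.unit⁻¹ : Aˣ) : A) = 1 := by
          rw [← Polynomial.C_mul, IsUnit.mul_val_inv, Polynomial.C_1]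
        have e2 : Polynomial.C ((a : A)) * Polynomial.C ((a⁻¹ : Aˣ) : A) = 1 := by
          rw [← Polynomial.C_mul, Units.mul_inv, Polynomial.C_1]
        have e3 : Polynomial.X ^ (n - 1) * Polynomial.X = (Polynomial.X ^ n : Polynomial A) :=
          pow_sub_one_mul hn0 _
        rw [map_sub, Polynomial.derivative_X_pow, Polynomial.derivative_C, sub_zero, Polynomial.C_mul, pow_one]
        calc _ = Polynomial.C ((n : A)) * Polynomial.C ((hn'.unit⁻¹ : Aˣ) : A) *
              (Polynomial.X ^ (n - 1) * Polynomial.X) * Polynomial.C ((a⁻¹ : Aˣ) : A) -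
              (Polynomial.X ^ n - Polynomial.C (a : A)) * Polynomial.C ((a⁻¹ : Aˣ) : A) := by ring
          _ = Polynomial.C ((a : A)) * Polynomial.C ((a⁻¹ : Aˣ) : A) := by rw [e1, e3]; ring
          _ = 1 := e2⟩ }
  let B : CommRingCat.{u} := CommRingCat.of P.Ring
  let ι : A ⟶ B := CommRingCat.ofHom (algebraMap A P.Ring)
  haveI : Etale (Spec.map ι) := by
    rw [HasRingHomProperty.Spec_iff (P := @Etale)]
    exact RingHom.etale_algebraMap.mpr inferInstance
  obtain ⟨z, hz⟩ := IsSepClosed.exists_pow_nat_eq (χ.hom (a : A)) n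
  letI : Algebra A Ω := χ.hom.toAlgebra
  have hmap : P.HasMap z := by
    refine ⟨?_, by simp [P]⟩
    simp only [P, map_sub, map_pow, Polynomial.aeval_X, Polynomial.aeval_C, hz]
    exact sub_self _
  let ψ : B ⟶ CommRingCat.of Ω := CommRingCat.ofHom (P.lift z hmap).toRingHom
  have hψ : ι ≫ ψ = χ := CommRingCat.hom_ext (RingHom.ext fun r => (P.lift z hmap).commutes r)
  -- the étale neighbourhood
  let h : Spec B ⟶ U₀ := Spec.map ι ≫ hW.fromSpec
  haveI hh : Etale (h ≫ φU) := inferInstance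
  let V : S.Etale := MorphismProperty.Over.mk ⊤ (h ≫ φU) hh
  let g : V ⟶ U := MorphismProperty.Over.homMk h rfl trivial
  have hm : Spec.map ψ ≫ h = l := by
    rw [show Spec.map ψ ≫ h = Spec.map (ι ≫ ψ) ≫ hW.fromSpec by
      rw [Spec.map_comp, Category.assoc], hψ, hχ]
  let y : (Scheme.pointSmallEtale ξ).fiber.obj V :=
    (Over.homMk (Spec.map ψ) (by
      show Spec.map ψ ≫ h ≫ φU = ξ
      rw [← Category.assoc, hm, hl]) : Over.mk ξ ⟶ (Scheme.Etale.forget S).obj V)
  have hy : (Scheme.pointSmallEtale ξ).fiber.map g y = x := Over.OverMorphism.ext hm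
  have hX : (P.X) ^ n = algebraMap A P.Ring (a : A) := by
    have := P.hasMap_X.1
    simp only [P, map_sub, map_pow, Polynomial.aeval_X, Polynomial.aeval_C, sub_eq_zero] at this
    exact this
  have hXu : IsUnit P.X := by
    rw [← isUnit_pow_iff hn0, hX]
    exact (Units.isUnit a).map _
  let τ : Γ(Spec B, ⊤)ˣ := Units.map (Scheme.ΓSpecIso B).inv.hom.toMonoidHom hXu.unit
  have hτ : τ ^ n = Units.map h.appTop.hom.toMonoidHom σ := by
    ext
    have e := ConcreteCategory.congr_hom (Scheme.ΓSpecIso_inv_naturality ι) (a : A)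
    show ((Scheme.ΓSpecIso B).inv.hom P.X) ^ n = h.appTop.hom (σ : Γ(U₀, ⊤))
    rw [← map_pow, hX]
    refine e.trans ?_
    show (Spec.map ι).appTop.hom ((Scheme.ΓSpecIso A).inv.hom ((Scheme.ΓSpecIso A).hom.hom
      (hW.fromSpec.appTop.hom (σ : Γ(U₀, ⊤))))) = _
    rw [Iso.hom_inv_id_apply]
    rfl
  let t : (EtCoh.Gm S).obj.obj (op V) := ULift.up (Additive.ofMul τ)
  refine ⟨(Scheme.pointSmallEtale ξ).toPresheafFiber V y (EtCoh.Gm S).obj t, ?_⟩
  refine (ConcreteCategory.congr_hom ((Scheme.pointSmallEtale ξ).toPresheafFiber_naturality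
    (EtCoh.powMap S n).hom V y) t).trans ?_
  have ht : (EtCoh.powMap S n).hom.app (op V) t = (EtCoh.Gm S).obj.map g.op s := by
    refine Eq.trans (b := n • t) ?_ ?_
    · have key : ∀ m : ℕ, (m • 𝟙 (EtCoh.Gm S)).hom.app (op V) t = m • t := fun m => by
        induction m with
        | zero => rw [zero_smul, zero_smul]; rfl
        | succ k ih =>
          rw [succ_nsmul, succ_nsmul, ← ih]
          rfl
      exact key n
    · exact ULift.ext _ _ (congrArg Additive.ofMul hτ)
  refine (congrArg _ ht).trans ((ConcreteCategory.congr_hom ((Scheme.pointSmallEtale ξ).toPresheafFiber_w g y _) s).trans ?_)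
  rw [hy]

end Groth.Agent.S0108
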