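import Groth.Statements.S9436
import Mathlib.RingTheory.Smooth.StandardSmoothOfFree

set_option autoImplicit false
universe u
open CAlg
open TensorProduct

namespace Groth.Agent.S9436

open TensorProduct in
/-- Étale algebras lift along surjections: for an ideal I of R and an étale (R/I)-algebra S̄ there is an
étale R-algebra S with (R/I) ⊗_R S ≅ S̄ over R/I. -/
theorem result (R : Type u) [CommRing R] (I : Ideal R) (Sb : Type u)
    [CommRing Sb] [Algebra (R ⧸ I) Sb] [Algebra.Etale (R ⧸ I) Sb] :
    ∃ (S : Type u) (_ : CommRing S) (_ : Algebra R S), Algebra.Etale R S ∧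
      Nonempty (((R ⧸ I) ⊗[R] S) ≃ₐ[R ⧸ I] Sb) := by
  classical
  haveI : Algebra.IsStandardSmoothOfRelativeDimension 0 (R ⧸ I) Sb :=
    Algebra.Etale.iff_isStandardSmoothOfRelativeDimension_zero.1 inferInstance
  obtain ⟨ι, σ, _, _, P, hP⟩ := Algebra.IsStandardSmoothOfRelativeDimension.out (n := 0) (R := R ⧸ I) (S := Sb)
  cases nonempty_fintype σ
  have hq : Function.Surjective (MvPolynomial.map (σ := ι) (Ideal.Quotient.mk I)) :=
    MvPolynomial.map_surjective _ Ideal.Quotient.mk_surjective
  choose v hv using fun j => hq (P.relation j)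
  let S0 := MvPolynomial ι R ⧸ Ideal.span (Set.range v)
  let Q : Algebra.PreSubmersivePresentation R S0 ι σ :=
    Algebra.PreSubmersivePresentation.naive (R := R) (v := v) P.map P.map_inj
  let J : S0 := Q.jacobian
  let S := Localization.Away J
  let C := ((Algebra.SubmersivePresentation.localizationAway S J).toPreSubmersivePresentation).comp Q
  let CS : Algebra.SubmersivePresentation R S (Unit ⊕ ι) (Unit ⊕ σ) :=
    { toPreSubmersivePresentation := C
      jacobian_isUnit := by
        show IsUnit C.jacobian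
        rw [Algebra.PreSubmersivePresentation.comp_jacobian_eq_jacobian_smul_jacobian, Algebra.smul_def]
        exact (IsLocalization.Away.algebraMap_isUnit J).mul (Algebra.SubmersivePresentation.localizationAway S J).jacobian_isUnit }
  have hdim : CS.dimension = 0 := by
    simp only [Algebra.Presentation.dimension, Nat.card_sum] at hP ⊢
    omega
  haveI := CS.isStandardSmoothOfRelativeDimension hdim
  have hS : Algebra.Etale R S := Algebra.Etale.iff_isStandardSmoothOfRelativeDimension_zero.2 this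
  refine ⟨S, inferInstance, inferInstance, hS, ?_⟩
  letI algRSb : Algebra R Sb := ((algebraMap (R ⧸ I) Sb).comp (Ideal.Quotient.mk I)).toAlgebra
  haveI : IsScalarTower R (R ⧸ I) Sb := IsScalarTower.of_algebraMap_eq' rfl
  have haev : ∀ p : MvPolynomial ι R, MvPolynomial.aeval (R := R ⧸ I) P.val (MvPolynomial.map (Ideal.Quotient.mk I) p) =
      MvPolynomial.aeval (R := R) P.val p := fun p => by
    simpa using MvPolynomial.aeval_map_algebraMap (R ⧸ I) P.val p
  let φ0 : S0 →ₐ[R] Sb := Ideal.Quotient.liftₐ _ (MvPolynomial.aeval P.val) fun x hx => by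
    refine (Ideal.span_le.2 ?_ : Ideal.span (Set.range v) ≤ RingHom.ker (MvPolynomial.aeval (R := R) P.val).toRingHom) hx
    rintro _ ⟨j, rfl⟩
    show MvPolynomial.aeval (R := R) P.val (v j) = 0
    rw [← haev, hv]
    exact P.aeval_val_relation j
  have hφJ : φ0 J = P.jacobian := by
    show φ0 Q.jacobian = _
    rw [Q.jacobian_eq_jacobiMatrix_det, P.jacobian_eq_jacobiMatrix_det]
    rw [Algebra.Generators.algebraMap_apply, Algebra.Generators.algebraMap_apply, ← AlgHom.comp_apply,
      MvPolynomial.comp_aeval, show (fun i => φ0 (Q.val i)) = P.val from funext fun i => ?_]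
    swap
    · show φ0 (Ideal.Quotient.mk _ (MvPolynomial.X i)) = _
      exact MvPolynomial.aeval_X P.val i
    rw [← haev, RingHom.map_det]
    refine congrArg _ (congrArg Matrix.det (Matrix.ext fun i j => ?_))
    rw [RingHom.mapMatrix_apply, Matrix.map_apply, Algebra.PreSubmersivePresentation.jacobiMatrix_apply,
      Algebra.PreSubmersivePresentation.jacobiMatrix_apply]
    show MvPolynomial.map (Ideal.Quotient.mk I) (MvPolynomial.pderiv (P.map i) (v j)) = _
    rw [← MvPolynomial.pderiv_map, hv]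
  let φ : S →ₐ[R] Sb := IsLocalization.liftAlgHom (M := Submonoid.powers J) (f := φ0) (fun y => by
    obtain ⟨m, hm⟩ := y.2
    rw [← hm, map_pow, hφJ]
    exact P.jacobian_isUnit.pow m)
  let Φ : (R ⧸ I) ⊗[R] S →ₐ[R ⧸ I] Sb :=
    Algebra.TensorProduct.lift (Algebra.ofId (R ⧸ I) Sb) φ (fun _ _ => Commute.all _ _)
  let x : ι → (R ⧸ I) ⊗[R] S := fun i =>
    1 ⊗ₜ algebraMap S0 S (Ideal.Quotient.mk _ (MvPolynomial.X i))
  have hx : ∀ p : MvPolynomial ι R, MvPolynomial.aeval (R := R ⧸ I) x (MvPolynomial.map (Ideal.Quotient.mk I) p) =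
      1 ⊗ₜ algebraMap S0 S (Ideal.Quotient.mk _ p) := by
    intro p
    rw [show (Ideal.Quotient.mk I) = algebraMap R (R ⧸ I) from rfl, MvPolynomial.aeval_map_algebraMap]
    refine congrFun (congrArg DFunLike.coe (MvPolynomial.algHom_ext (f := MvPolynomial.aeval x)
      (g := (Algebra.TensorProduct.includeRight (R := R) (A := R ⧸ I)).comp ((IsScalarTower.toAlgHom R S0 S).comp (Ideal.Quotient.mkₐ R _))) fun i => ?_)) p
    (simp [x]; rfl)
  have hker : ∀ p ∈ RingHom.ker (MvPolynomial.aeval (R := R ⧸ I) P.val).toRingHom,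
      MvPolynomial.aeval (R := R ⧸ I) x p = 0 := by
    intro p hp
    have hp' : p ∈ Ideal.span (Set.range P.relation) := by
      rw [P.span_range_relation_eq_ker, Algebra.Generators.ker_eq_ker_aeval_val]; exact hp
    refine (Ideal.span_le.2 ?_ : Ideal.span (Set.range P.relation) ≤ RingHom.ker (MvPolynomial.aeval (R := R ⧸ I) x).toRingHom) hp'
    rintro _ ⟨j, rfl⟩
    show MvPolynomial.aeval (R := R ⧸ I) x (P.relation j) = 0
    rw [← hv, hx, Ideal.Quotient.eq_zero_iff_mem.2 (Ideal.subset_span (Set.mem_range_self j)), map_zero, tmul_zero]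
  have hsurj : Function.Surjective (MvPolynomial.aeval (R := R ⧸ I) P.val) := fun s =>
    ⟨P.σ s, P.aeval_val_σ s⟩
  let Ψ : Sb →ₐ[R ⧸ I] (R ⧸ I) ⊗[R] S :=
    (Ideal.Quotient.liftₐ _ (MvPolynomial.aeval x) hker).comp
      (Ideal.quotientKerAlgEquivOfSurjective hsurj).symm.toAlgHom
  have hΨ : ∀ p, Ψ (MvPolynomial.aeval (R := R ⧸ I) P.val p) = MvPolynomial.aeval (R := R ⧸ I) x p := fun p => by
    have : (Ideal.quotientKerAlgEquivOfSurjective hsurj).symm (MvPolynomial.aeval (R := R ⧸ I) P.val p) = Ideal.Quotient.mk _ p := by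
      rw [AlgEquiv.symm_apply_eq]; rfl
    show Ideal.Quotient.liftₐ _ (MvPolynomial.aeval x) hker ((Ideal.quotientKerAlgEquivOfSurjective hsurj).symm _) = _
    rw [this]; rfl
  have hΦ : ∀ i, Φ (x i) = P.val i := fun i => by
    simp only [Φ, x, Algebra.TensorProduct.lift_tmul, map_one, one_mul]
    exact (IsLocalization.lift_eq _ _).trans (MvPolynomial.aeval_X P.val i)
  refine ⟨AlgEquiv.ofAlgHom Φ Ψ ?_ ?_⟩
  · refine AlgHom.ext fun s => ?_
    obtain ⟨p, rfl⟩ := hsurj s
    show Φ (Ψ _) = _
    rw [hΨ]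
    exact congrFun (congrArg DFunLike.coe (MvPolynomial.algHom_ext (f := Φ.comp (MvPolynomial.aeval x))
      (g := MvPolynomial.aeval P.val) fun i => by simp [hΦ])) p
  · refine Algebra.TensorProduct.ext (Subsingleton.elim _ _) ?_
    refine IsLocalization.algHom_ext (Submonoid.powers J) ?_
    refine Ideal.Quotient.algHom_ext _ (MvPolynomial.algHom_ext fun i => ?_)
    show Ψ (Φ (x i)) = x i
    rw [hΦ, ← MvPolynomial.aeval_X (R := R ⧸ I) P.val i, hΨ, MvPolynomial.aeval_X]

end Groth.Agent.S9436
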