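import Groth.Statements.S8527
import Groth.Agent.EtCons.NoethCons
-- import your own Groth.Agent.* helpers here

set_option autoImplicit false
universe u
open CategoryTheory CategoryTheory.Limits AlgebraicGeometry Opposite
open EtPBC

namespace Groth.Agent.S8527

/-- Let X be a locally Noetherian scheme and F an abelian sheaf on its small etale site. Then F is
constructible if and only if for every point x of X there is a nonempty open subset of the closure
of x along which F becomes finite locally constant; precisely: there are an open V containing x and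
an immersion g : T → X with image V ∩ closure(x) such that the inverse image of F along g is finite
locally constant. -/
theorem result {X : Scheme.{u}} [IsLocallyNoetherian X]
    (F : EtCoh.Ab X) :
    EtPBC.IsConstructible F ↔
      ∀ x : X, ∃ (V : X.Opens) (T : Scheme.{u}) (g : T ⟶ X), IsImmersion g ∧ x ∈ V ∧
        Set.range g.base = (V : Set X) ∩ closure {x} ∧
        EtCoh.IsFiniteLocallyConstant ((EtCoh.pull g).obj F) := by
  refine ⟨fun hF x => ?_, fun h => ?_⟩
  · obtain ⟨T, j, hj, _, t, hjt, ht, hflc⟩ := EtCons.exists_generic_stratum hF x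
    haveI := hj
    have hlc := j.isLocallyClosed_range
    refine ⟨⟨coborder (Set.range j), hlc.isOpen_coborder⟩, T, j, hj, subset_coborder ⟨t, hjt⟩, ?_, hflc⟩
    have hcl : closure (Set.range j) = closure {x} := by
      refine subset_antisymm (closure_minimal ?_ isClosed_closure) (closure_mono (Set.singleton_subset_iff.2 ⟨t, hjt⟩))
      rintro _ ⟨y, rfl⟩
      exact specializes_iff_mem_closure.1 (hjt ▸ (ht y).map j.continuous)
    show Set.range j = coborder (Set.range j) ∩ closure {x}
    rw [← hcl, coborder_inter_closure]
  · rw [EtCons.isConstructible_iff]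
    intro x
    obtain ⟨V, T, g, hg, hxV, hr, hflc⟩ := h x
    haveI := hg
    haveI : IsLocallyNoetherian T := LocallyOfFiniteType.isLocallyNoetherian g
    obtain ⟨t, ht⟩ : x ∈ Set.range g := hr.ge ⟨hxV, subset_closure rfl⟩
    rw [← ht]
    obtain ⟨e⟩ := EtCons.nonempty_pull_pull (⊤ : T.Opens).ι g ((⊤ : T.Opens).ι ≫ g) rfl
    exact EtCons.goodAt_of_open_stratum g (O := ⊤) trivial
      (EtCons.isFLC_of_iso (e.app F) (EtCons.isFLC_pull _ hflc))

end Groth.Agent.S8527
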