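import Groth.Statements.S0432
import Groth.Agent.Pinch.Props
import Groth.Agent.Pinch.Charts

set_option autoImplicit false
universe u
open FlatMor

open CategoryTheory Limits AlgebraicGeometry Groth.Agent
namespace Groth.Agent.S0432

open AlgebraicGeometry CategoryTheory Limits in
/-- The pushout of two closed immersions Z → X and Z → Y exists in schemes, both maps into it are closed
immersions and the square is cartesian. -/
theorem result {X Y Z : Scheme.{u}} (i : Z ⟶ X) (j : Z ⟶ Y) [IsClosedImmersion i] [IsClosedImmersion j] :
    ∃ (P : Scheme.{u}) (a : X ⟶ P) (b : Y ⟶ P), IsPushout i j a b ∧ IsPullback i j a b ∧ IsClosedImmersion a ∧ IsClosedImmersion b := by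
  have hc := Pinch.hasCharts_of_closed i j
  obtain ⟨P, a, b, h⟩ := Pinch.exists_pinch hc
  refine ⟨P, a, b, Pinch.isPushout_of_isPinch h, Pinch.isPullback hc h, ?_, Pinch.isClosedImmersion_b hc h⟩
  exact Pinch.isClosedImmersion_b (i := j) (j := i) (a := b) (b := a) (Pinch.hasCharts_of_closed j i)
    (IsPushout.flip h)

end Groth.Agent.S0432
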