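import Groth.Statements.S15944
import Groth.Agent.Pinch.FiniteType
import Groth.Agent.Pinch.Charts
import Groth.Agent.S7181

set_option autoImplicit false
universe u
open Pinch

open CategoryTheory Limits AlgebraicGeometry Groth.Agent
set_option backward.isDefEq.respectTransparency false
namespace Groth.Agent.S15944

open CategoryTheory AlgebraicGeometry in
/-- Let Y be a scheme, f : X → Y a morphism, t : T → Y a scheme affine over Y, ξ : Z → T a morphism with
Z affine over Y via ξ followed by t, and ι : Z → X a closed immersion over Y; assume every point of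
Y has an affine open neighbourhood U together with an affine open V of X inside the preimage of U
containing the image under ι of the part of Z over U; assume moreover that Y is locally Noetherian,
f and t are of finite type and ξ is finite, and let X → P ← T be a push-out of ι and ξ in the
category of schemes, with p : P → Y the induced morphism. Then p is of finite type, and if X and T
are proper over Y then so is P. -/
theorem result {X Y T Z : Scheme.{u}} (f : X ⟶ Y) (t : T ⟶ Y) (ξ : Z ⟶ T) (ι : Z ⟶ X)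
    [IsAffineHom t] [IsAffineHom (ξ ≫ t)] [IsClosedImmersion ι] (hsq : ι ≫ f = ξ ≫ t)
    (hstd : ∀ y : Y, ∃ U : Y.Opens, IsAffineOpen U ∧ y ∈ U ∧ ∃ V : X.Opens, IsAffineOpen V ∧
      V ≤ f ⁻¹ᵁ U ∧ ∀ z : Z, (ξ ≫ t).base z ∈ U → ι.base z ∈ V)
    [IsLocallyNoetherian Y] [LocallyOfFiniteType f] [QuasiCompact f] [LocallyOfFiniteType t] [QuasiCompact t]
    [IsFinite ξ] {P : Scheme.{u}} (a : X ⟶ P) (b : T ⟶ P) (hP : IsPushout ι ξ a b)
    (p : P ⟶ Y) (hap : a ≫ p = f) (hbp : b ≫ p = t) :
    (LocallyOfFiniteType p ∧ QuasiCompact p) ∧ (IsProper f → IsProper t → IsProper p) := by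
  subst hap hbp
  have hc : Pinch.HasCharts ι ξ := fun τ => by
    obtain ⟨U, hU, hyU, V, hV, hVU, hz⟩ := hstd ((b ≫ p) τ)
    refine ⟨V, (b ≫ p) ⁻¹ᵁ U, ⟨hV, hU.preimage (b ≫ p), hV.preimage ι, ?_⟩, hyU⟩
    ext z
    refine ⟨fun hzV => ?_, fun hzU => hz z hzU⟩
    have := hVU hzV
    show (b ≫ p) (ξ z) ∈ U
    rw [← Scheme.Hom.comp_apply, ← hsq, Scheme.Hom.comp_apply]
    exact this
  have h := Pinch.isPinch_of_isPushout hc hP
  have hs := Pinch.surj_of_top (Pinch.top_of_isPinch h)
  have hl := Pinch.locallyOfFiniteType_of_isPinch hc h p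
  refine ⟨⟨hl, Pinch.quasiCompact_of_jointly_surjective hs p⟩, fun hf ht => ?_⟩
  haveI := Pinch.universallyClosed_of_jointly_surjective hs p
  haveI : IsSeparated p := (S7181.result ι ξ (fun τ => by
    obtain ⟨U, hU, hyU, V, hV, hVU, hz⟩ := hstd ((b ≫ p) τ)
    refine ⟨V, hV, fun z hzτ => hz z ?_⟩
    have e : ξ z = τ := hzτ
    show (ξ ≫ b ≫ p) z ∈ U
    rw [Scheme.Hom.comp_apply, e]
    exact hyU) a b hP (a ≫ p) (b ≫ p) p rfl rfl).1 ⟨inferInstance, inferInstance⟩
  exact { toIsSeparated := inferInstance, toUniversallyClosed := inferInstance, toLocallyOfFiniteType := hl }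

end Groth.Agent.S15944
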