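import Groth.Statements.S3096
import Groth.Agent.EtPBC.CdPSep
import Groth.Agent.EtPBC.FieldDescent
import Groth.Agent.EtPBC.GeomPt
import Groth.Agent.EtPBC.CdFibre
import Groth.Agent.Recoll.Etale
import Groth.Agent.SpRelDim.Scheme
import Groth.Agent.TopDim.Basic
import Groth.Agent.S5792

set_option autoImplicit false
universe u
open CategoryTheory CategoryTheory.Limits AlgebraicGeometry Opposite
open EtPBC

namespace Groth.Agent.S3096

/-- Let f : X ⟶ S be a proper morphism every fibre of which has (topological Krull) dimension at most n,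
let p be a prime number with p = 0 in the ring of global functions of S, and let F be an abelian
sheaf on the small étale site of X every section of which, over every object of the site, is killed
by a power of p. Then R^q f_* F = 0 for every q > n. (The published statement allows any p-torsion
sheaf, i.e. one whose sections have p-power order étale-locally; the hypothesis here is slightly
stronger, so the statement is slightly weaker.) -/
theorem result {X S : Scheme.{u}} (f : X ⟶ S) [IsProper f] [EtCoh.BCCont f]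
    (p : ℕ) (hp : p.Prime) (hS : (p : Γ(S, ⊤)) = 0) (n : ℕ)
    (hdim : ∀ s : S, topologicalKrullDim (f.fiber s) ≤ n)
    (F : EtCoh.Ab X) (hF : ∀ (U : X.Etale) (s : EtCoh.sect F U), ∃ k : ℕ, p ^ k • s = 0)
    (q : ℕ) (hq : n < q) :
    IsZero ((EtCoh.Rpush f q).obj F) := by
  haveI : Fact p.Prime := ⟨hp⟩
  refine Groth.Agent.Recoll.isZero_of_stalks _ fun Ω _ _ ξ => ?_
  haveI : CharP Ω p := by
    refine (CharP.charP_iff_prime_eq_zero hp).2 ?_
    have h1 : (p : Γ(Spec (CommRingCat.of Ω), ⊤)) = 0 := by rw [← map_natCast ξ.appTop.hom, hS, map_zero]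
    rw [← map_natCast (Scheme.ΓSpecIso (CommRingCat.of Ω)).hom.hom, h1, map_zero]
  have hP : Dix.IsPrimaryTorsion p F := fun U s x => ⟨U, 𝟙 U, ⟨x, rfl⟩, by
    obtain ⟨k, hk⟩ := hF U s
    exact ⟨k, by rw [op_id, CategoryTheory.Functor.map_id]; exact hk⟩⟩
  have hU : EtAcyc.IsLTorsion Set.univ F := fun U s x => by
    obtain ⟨V, g, m, hx, hm, h0⟩ := Groth.Agent.EtPBC.isLTorsion_of_isPrimaryTorsion p F hP U s x
    exact ⟨V, g, m, hx, ⟨hm.1, fun l _ _ => trivial⟩, h0⟩
  obtain ⟨e⟩ := Groth.Agent.EtPBC.nonempty_stalk_Rpush_iso f ξ F hU q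
  let X' := pullback f ξ
  have hdim' : topologicalKrullDim X' ≤ n := by
    rw [Groth.Agent.S5792.result]
    refine iSup_le fun z => ?_
    rw [← Groth.Agent.SpRelDim.fibreDimAt_eq_localDim_of_isPullback f
      (IsPullback.of_hasPullback f ξ) z]
    exact (Groth.Agent.TopDim.localDim_le_dim _).trans (hdim _)
  haveI : CompactSpace X' := QuasiCompact.compactSpace_of_compactSpace (pullback.snd f ξ)
  haveI : QuasiSeparatedSpace X' := quasiSeparatedSpace_of_quasiSeparated (pullback.snd f ξ)
  haveI := Groth.Agent.EtPBC.cohDimLEAt_of_kVanOn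
    (Groth.Agent.EtPBC.kVanOn_sepClosed_charP p Ω (pullback.snd f ξ) hdim') _
    (Groth.Agent.EtPBC.isPrimaryTorsion_pull (pullback.fst f ξ) hP) q hq
  exact IsZero.of_iso (AddCommGrpCat.isZero_of_subsingleton _) e

end Groth.Agent.S3096
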