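import Groth.Statements.S10678
import Groth.Agent.SpRelDim.Basic
import Groth.Agent.TopDim.Basic

set_option autoImplicit false
universe u
open CategoryTheory CategoryTheory.Limits AlgebraicGeometry
open AlgSp

set_option backward.isDefEq.respectTransparency false

namespace Groth.Agent.S10678

/-- For a morphism f : X ⟶ Y of finite type between algebraic spaces over S, a point y of |Y| and any
field point k of Y in the class of y, with fibre X_k (pullback in fppf sheaves): the dimension of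
X_k (supremum of the dimensions of its etale scheme charts) is -∞ exactly when y lies outside the
image of |X|, and for every natural number d it is at most d exactly when f has relative dimension
at most d at every point of |X| over y (some etale chart diagram through the point whose top arrow
has local fibre dimension at most d there). -/
theorem result {S : Scheme.{u}} {X Y : AlgSp.Space S} (f : X ⟶ Y) (hf : AlgSp.IsFiniteTypeMor f.hom)
    (y : AlgSp.Points Y.obj) (k : AlgSp.FieldPt Y.obj) (hk : AlgSp.Points.mk k = y)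
    (Xk : AlgSp.Sp S) (fst : Xk ⟶ X.obj) (snd : Xk ⟶ (AlgSp.yon S).obj k.pt) (h : IsPullback fst snd f.hom k.toHom) :
    (AlgSp.dim Xk = ⊥ ↔ y ∉ Set.range (AlgSp.Points.map f.hom)) ∧
      ∀ d : ℕ, (AlgSp.dim Xk ≤ d ↔
        ∀ x : AlgSp.Points X.obj, AlgSp.Points.map f.hom x = y →
          AlgSp.HasAtMor (fun _ _ h u => FlatMor.fibreDimAt h u ≤ (d : WithBot ℕ∞)) f.hom x) := by
  let := k.field
  have hK : AlgSp.IsAlgSpace ((AlgSp.yon S).obj k.pt) := AlgSp.IsAlgSpace.yon_obj _
  have hft : AlgSp.LocP @LocallyOfFiniteType f.hom := hf.1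
  have hXk : AlgSp.IsAlgSpace Xk := Groth.Agent.AlgSpLib.isAlgSpace_of_isPullback_space Y.property X.property hK h
  have hsnd : AlgSp.LocP @LocallyOfFiniteType snd :=
    Groth.Agent.AlgSpLib.locP_baseChange Groth.Agent.AlgSpLib.etST_lft X.property Y.property hXk hK h hft
  let pt := AlgSp.Points.ofScheme k.pt (IsLocalRing.closedPoint k.K)
  have hpt : ∀ p : AlgSp.Points ((AlgSp.yon S).obj k.pt), p = pt := fun p => by
    obtain ⟨s, rfl⟩ := (AlgSp.Points.schemeEquiv k.pt).surjective p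
    exact congrArg _ (Subsingleton.elim (α := PrimeSpectrum k.K) s _)
  have hy : AlgSp.Points.map k.toHom pt = y := by
    rw [← hk, Groth.Agent.AlgSpLib.mk_eq_ofPt, AlgSp.Points.map_ofPt, Category.id_comp]
    rfl
  have hover : ∀ z, AlgSp.Points.map f.hom (AlgSp.Points.map fst z) = y := fun z => by
    rw [← AlgSp.Points.map_comp, h.w, AlgSp.Points.map_comp, hpt (AlgSp.Points.map snd z), hy]
  have hlift : ∀ x, AlgSp.Points.map f.hom x = y → ∃ z, AlgSp.Points.map fst z = x := fun x hx => by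
    obtain ⟨z, hz, -⟩ := Groth.Agent.AlgSpLib.exists_point_of_isPullback h x pt (hx.trans hy.symm)
    exact ⟨z, hz⟩
  have key : ∀ (W : Over S) (c : (AlgSp.yon S).obj W ⟶ Xk) (w : W.left), AlgSp.RepWith @Etale c →
      ∀ Q : WithBot ℕ∞ → Prop, AlgSp.HasAtMor (fun _ _ h u => Q (FlatMor.fibreDimAt h u)) f.hom
        (AlgSp.Points.map fst (AlgSp.Points.ofPt c w)) ↔ Q (FlatMor.localDim W.left w) := by
    intro W c w hc Q
    obtain ⟨g, hg⟩ := Groth.Agent.AlgSpLib.exists_map_eq (c ≫ snd)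
    have hI := Groth.Agent.AlgSpLib.repWith_id' (U := k.pt)
    have comm : c ≫ snd = (AlgSp.yon S).map g ≫ 𝟙 _ := by rw [Category.comp_id, hg]
    rw [← Groth.Agent.SpRelDim.hasAtMor_fibreDim_baseChange X.property Y.property hXk hK h hft Q,
      Groth.Agent.SpRelDim.hasAtMor_fibreDim_iff hXk hK snd hsnd Q hc hI comm rfl]
    let g' : W.left ⟶ Spec (CommRingCat.of k.K) := g.left
    have : LocallyOfFiniteType g' := hsnd c (𝟙 _) g hc hI comm
    show Q (FlatMor.fibreDimAt g' w) ↔ _
    rw [Groth.Agent.CMChart.fibreDimAt_eq_localDim g' w]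
  have hchart : ∀ z : AlgSp.Points Xk, ∃ (W : Over S) (c : (AlgSp.yon S).obj W ⟶ Xk) (w : W.left),
      AlgSp.RepWith @Etale c ∧ AlgSp.Points.ofPt c w = z := fun z => by
    obtain ⟨W, c, hc, hcs⟩ := hXk.atlas
    obtain ⟨w, hw⟩ := Groth.Agent.AlgSpLib.ofPt_surjective hcs z
    exact ⟨W, c, w, hc, hw⟩
  refine ⟨⟨fun hb => ?_, fun hy' => ?_⟩, fun d => ⟨fun hd x hx => ?_, fun hd => ?_⟩⟩
  · rintro ⟨x, hx⟩
    obtain ⟨z, -⟩ := hlift x hx
    obtain ⟨W, c, w, hc, -⟩ := hchart z
    have h1 : topologicalKrullDim ↥W.left ≤ ⊥ := hb ▸ le_iSup_of_le W (le_iSup₂_of_le c hc le_rfl)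
    obtain ⟨g, hg⟩ := Groth.Agent.AlgSpLib.exists_map_eq (c ≫ snd)
    let g' : W.left ⟶ Spec (CommRingCat.of k.K) := g.left
    have : LocallyOfFiniteType g' := hsnd c (𝟙 _) g hc Groth.Agent.AlgSpLib.repWith_id' (by rw [Category.comp_id, hg])
    obtain ⟨n, hn⟩ := Groth.Agent.Unibranch.exists_fibreDimAt_eq g' w
    rw [Groth.Agent.CMChart.fibreDimAt_eq_localDim g' w] at hn
    exact absurd ((Groth.Agent.TopDim.localDim_le_dim w).trans h1) (by rw [hn, le_bot_iff]; exact WithBot.coe_ne_bot)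
  · refine le_bot_iff.1 (iSup_le fun W => iSup₂_le fun c hc => ?_)
    rw [Groth.Agent.TopDim.dim_eq_iSup_localDim]
    exact iSup_le fun w => absurd ⟨_, hover (AlgSp.Points.ofPt c w)⟩ hy'
  · obtain ⟨z, rfl⟩ := hlift x hx
    obtain ⟨W, c, w, hc, rfl⟩ := hchart z
    exact (key W c w hc (fun e => e ≤ (d : WithBot ℕ∞))).2
      ((Groth.Agent.TopDim.localDim_le_dim w).trans (le_trans (le_iSup_of_le W (le_iSup₂_of_le (f := fun (a : (AlgSp.yon S).obj W ⟶ Xk) (_ : AlgSp.RepWith @Etale a) => topologicalKrullDim ↥W.left) c hc le_rfl)) hd))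
  · refine iSup_le fun W => iSup₂_le fun c hc => ?_
    rw [Groth.Agent.TopDim.dim_eq_iSup_localDim]
    exact iSup_le fun w => (key W c w hc (fun e => e ≤ (d : WithBot ℕ∞))).1 (hd _ (hover _))

end Groth.Agent.S10678
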