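import Groth.Statements.S14786
import Groth.Agent.SubtrLib.UltraLim
import Groth.Agent.SubtrLib.OpenPoint
import Groth.Agent.SubtrLib.UltraRes
-- import your own Groth.Agent.* helpers here

set_option autoImplicit false
universe u
open CategoryTheory CategoryTheory.Limits AlgebraicGeometry
open Subtr

namespace Groth.Agent.S14786

/-- If `f` is universally open, so is one of the stages. -/
theorem exists_stage {I : Type u} [SmallCategory I] [IsCofiltered I]
    (D : I ⥤ Scheme.{u}) (c : Limits.Cone D) (hc : Limits.IsLimit c)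
    [∀ (i j : I) (a : i ⟶ j), IsAffineHom (D.map a)] {i₀ : I}
    {X₀ Y₀ : Scheme.{u}} (f₀ : X₀ ⟶ Y₀) (g₀ : Y₀ ⟶ D.obj i₀) [CompactSpace Y₀]
    [LocallyOfFinitePresentation f₀] [QuasiCompact f₀]
    {X Y : Scheme.{u}} (f : X ⟶ Y) (g : Y ⟶ c.pt) (qY : Y ⟶ Y₀) (qX : X ⟶ X₀)
    (hY : IsPullback qY g g₀ (c.π.app i₀)) (hX : IsPullback qX f f₀ qY) [UniversallyOpen f] :
    ∃ j : Over i₀, UniversallyOpen (LimDesc.stageMap D g₀ f₀ j) := by
  classical
  by_contra hno
  push Not at hno
  have hbad : ∀ j : Over i₀, ∃ (W : Type u) (_ : CommRing W) (_ : IsDomain W) (_ : ValuationRing W),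
      SubtrLib.IsAIC W ∧ ∃ (h : Spec (CommRingCat.of W) ⟶ LimDesc.stage D g₀ j)
        (z : Spec (CommRingCat.of (IsLocalRing.ResidueField W)) ⟶ X₀),
        z ≫ f₀ = SubtrLib.closedPt W ≫ h ≫ LimDesc.toBase D g₀ j ∧
        ¬ ∃ s : Spec (CommRingCat.of W) ⟶ X₀, s ≫ f₀ = h ≫ LimDesc.toBase D g₀ j ∧
          SubtrLib.closedPt W ≫ s = z := by
    intro j
    by_contra hh
    push Not at hh
    haveI : LocallyOfFinitePresentation (LimDesc.stageMap D g₀ f₀ j) :=
      MorphismProperty.of_isPullback (P := @LocallyOfFinitePresentation) (LimDesc.isPullback_stageMap D g₀ f₀ j) ‹_›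
    refine hno j (SubtrLib.universallyOpen_of_sections _ fun W _ _ _ hW h z hz => ?_)
    have hsq := LimDesc.isPullback_stageMap D g₀ f₀ j
    obtain ⟨a, ha, ha'⟩ := hh W inferInstance inferInstance inferInstance hW h
      (z ≫ LimDesc.toBase D (f₀ ≫ g₀) j) (by rw [Category.assoc, hsq.w, ← Category.assoc, hz, Category.assoc])
    refine ⟨hsq.lift a h ha, hsq.lift_snd _ _ _, hsq.hom_ext ?_ ?_⟩
    · rw [Category.assoc, hsq.lift_fst, ha']
    · rw [Category.assoc, hsq.lift_snd, hz]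
  choose W i1 i2 i3 hW h z hz hh using hbad
  letI := i1
  haveI := i2
  haveI := i3
  obtain ⟨α, U, k, O, hO, ρ, hρ, g', hg'⟩ := SubtrLib.exists_ultra_point D c hc g₀ hY W h
  let V : α → Type u := fun a => W (k a)
  let κ : α → Type u := fun a => IsLocalRing.ResidueField (W (k a))
  let pt : α → X₀ := fun a => z (k a) (Classical.arbitrary _)
  have hpt : ∀ a, pt a ∈ f₀ ⁻¹ᵁ O := fun a => by
    show f₀ (z (k a) _) ∈ O
    rw [← Scheme.Hom.comp_apply, hz, ← hρ a, Scheme.Hom.comp_apply, Scheme.Hom.comp_apply, ← SetLike.mem_coe,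
      ← hO.range_fromSpec]
    exact ⟨_, rfl⟩
  choose A hA hmem hAle using fun x : (f₀ ⁻¹ᵁ O : X₀.Opens) =>
    exists_isAffineOpen_mem_and_subset (x := x.1) (U := f₀ ⁻¹ᵁ O) x.2
  obtain ⟨t, ht⟩ := (f₀.isCompact_preimage hO.isCompact).elim_finite_subcover
    (fun x => (A x : Set X₀)) (fun x => (A x).2) (fun x hx => Set.mem_iUnion.mpr ⟨⟨x, hx⟩, hmem _⟩)
  obtain ⟨x, -, hx⟩ := (Ultrafilter.finite_biUnion_mem_iff (f := U) (s := fun x => {a | pt a ∈ A x})
    t.finite_toSet).mp (Filter.univ_mem' fun a => by simpa [Set.mem_iUnion] using ht (hpt a))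
  obtain ⟨M, hM, e, hM'⟩ : ∃ M : X₀.Opens, IsAffineOpen M ∧ M ≤ f₀ ⁻¹ᵁ O ∧
      ∀ᶠ a in (U : Filter α), pt a ∈ M := ⟨A x, hA x, hAle x, hx⟩
  let S : α → Prop := fun a => pt a ∈ M
  have hS : ∀ᶠ a in (U : Filter α), S a := hM'
  choose τ hτ using fun a (hs : S a) => SubtrLib.exists_ringHom_of_closedPoint_mem (z (k a)) hM
    (show z (k a) (IsLocalRing.closedPoint (κ a)) ∈ M from by
      have : Subsingleton (Spec (CommRingCat.of (κ a))) := inferInstanceAs (Subsingleton (PrimeSpectrum (κ a)))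
      exact (congrArg (fun q => z (k a) q ∈ M) (Subsingleton.elim _ _)).mpr hs)
  letI := (f₀.appLE O M e).hom.toAlgebra
  haveI : Algebra.FinitePresentation Γ(Y₀, O) Γ(X₀, M) :=
    HasRingHomProperty.appLE (P := @LocallyOfFinitePresentation) f₀ inferInstance ⟨O, hO⟩ ⟨M, hM⟩ e
  have hτR : ∀ a (hs : S a) (r : Γ(Y₀, O)),
      τ a hs (algebraMap _ Γ(X₀, M) r) = IsLocalRing.residue (W (k a)) (ρ a r) := fun a hs r => by
    have e' : f₀.appLE O M e ≫ CommRingCat.ofHom (τ a hs) =
        CommRingCat.ofHom (ρ a) ≫ CommRingCat.ofHom (IsLocalRing.residue (W (k a))) := Spec.map_injective (by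
      rw [← cancel_mono hO.fromSpec, Spec.map_comp, Spec.map_comp, Category.assoc, Category.assoc, hρ,
        IsAffineOpen.SpecMap_appLE_fromSpec _ hO hM e, ← Category.assoc, hτ, hz])
    exact RingHom.congr_fun (congrArg CommRingCat.Hom.hom e') r
  obtain ⟨T, hT⟩ := SubtrLib.exists_resHom (U := U) (V := V) hS τ
  let P := SubtrLib.UProd U V
  let ρ' : Γ(Y₀, O) →+* P := (SubtrLib.germ U V).comp (Pi.ringHom ρ)
  have hTR : f₀.appLE O M e ≫ CommRingCat.ofHom T =
      CommRingCat.ofHom ρ' ≫ CommRingCat.ofHom (IsLocalRing.residue P) :=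
    CommRingCat.hom_ext (RingHom.ext fun r => hT _ (fun a => ρ a r)
      (Filter.Eventually.of_forall fun a hs => (hτR a hs r).symm))
  let zT : Spec (CommRingCat.of (IsLocalRing.ResidueField P)) ⟶ X₀ := Spec.map (CommRingCat.ofHom T) ≫ hM.fromSpec
  have hzT : zT ≫ f₀ = (SubtrLib.closedPt P ≫ g') ≫ qY := by
    simp only [zT, Category.assoc, hg']
    rw [← IsAffineOpen.SpecMap_appLE_fromSpec f₀ hO hM e, ← Category.assoc, ← Spec.map_comp, hTR, Spec.map_comp,
      Category.assoc]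
  haveI : LocallyOfFinitePresentation f :=
    MorphismProperty.of_isPullback (P := @LocallyOfFinitePresentation) hX ‹_›
  obtain ⟨s, hs, hsz⟩ := SubtrLib.exists_section_through f
    (SubtrLib.isAIC_uprod (U := U) fun a => hW (k a)) g'
    (hX.lift zT (SubtrLib.closedPt P ≫ g') hzT) (hX.lift_snd _ _ _)
  have hsz' : SubtrLib.closedPt P ≫ s ≫ qX = zT := by
    rw [← Category.assoc, hsz, hX.lift_fst]
  have hmemM : (s ≫ qX) (IsLocalRing.closedPoint P) ∈ M := by
    rw [← SubtrLib.closedPt_apply (Classical.arbitrary _),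
      ← Scheme.Hom.comp_apply, hsz', Scheme.Hom.comp_apply, ← SetLike.mem_coe, ← hM.range_fromSpec]
    exact ⟨_, rfl⟩
  obtain ⟨σ, hσ⟩ := SubtrLib.exists_ringHom_of_closedPoint_mem (s ≫ qX) hM hmemM
  have hσ' : CommRingCat.ofHom ρ' = f₀.appLE O M e ≫ CommRingCat.ofHom σ := by
    apply Spec.map_injective
    rw [← cancel_mono hO.fromSpec, Spec.map_comp, Category.assoc,
      IsAffineOpen.SpecMap_appLE_fromSpec _ hO hM e, ← Category.assoc, hσ, Category.assoc, hX.w,
      ← Category.assoc, hs, hg']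
  have hσT : CommRingCat.ofHom σ ≫ CommRingCat.ofHom (IsLocalRing.residue P) = CommRingCat.ofHom T := by
    apply Spec.map_injective
    rw [← cancel_mono hM.fromSpec, Spec.map_comp, Category.assoc, hσ]
    exact hsz'
  obtain ⟨b, hSb, s', hs', hs''⟩ := (SubtrLib.exists_algHom_through_of_uprod (B := Γ(X₀, M)) (fun a => ρ a) σ
    (fun r => (RingHom.congr_fun (congrArg CommRingCat.Hom.hom hσ') r).symm) hS τ hτR
    (fun y w hw => by
      let l : ∀ a, V a := fun a => if hs : S a then (IsLocalRing.residue_surjective (τ a hs y)).choose else 0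
      have hl : ∀ a (hs : S a), IsLocalRing.residue (V a) (l a) = τ a hs y := fun a hs => by
        simp only [l, dif_pos hs]
        exact (IsLocalRing.residue_surjective (τ a hs y)).choose_spec
      have h2 : IsLocalRing.residue P (SubtrLib.germ U V w) = IsLocalRing.residue P (SubtrLib.germ U V l) := by
        rw [← hw, ← hT y l (Filter.Eventually.of_forall hl)]
        exact RingHom.congr_fun (congrArg CommRingCat.Hom.hom hσT) y
      filter_upwards [SubtrLib.residue_germ_eq.mp h2] with a ha hs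
      rw [ha, hl a hs])).exists
  refine hh (k b) ⟨Spec.map (CommRingCat.ofHom s') ≫ hM.fromSpec, ?_, ?_⟩
  · rw [← hρ b, Category.assoc, ← IsAffineOpen.SpecMap_appLE_fromSpec f₀ hO hM e, ← Category.assoc,
      ← Spec.map_comp]
    congr 2
    exact CommRingCat.hom_ext hs'
  · rw [← hτ b hSb, ← Category.assoc, ← Spec.map_comp, ← CommRingCat.ofHom_comp, hs'']


/-- Let S = lim S_i be a cofiltered limit of schemes with affine transition morphisms, Y₀ a
quasi-compact scheme over a stage S_{i₀}, f₀ : X₀ ⟶ Y₀ a morphism of finite presentation and f : X ⟶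
Y its base change to S (base changes expressed by pullback squares). If f is universally open, then
for some stage S_i over S_{i₀} the base change f_i : X_i ⟶ Y_i of f₀ is universally open. (The
published statement assumes the stage over which the system lives quasi-compact and puts no
condition on Y₀. For the system ℤ[1/N] with limit ℚ, Y₀ an infinite disjoint union of copies of Spec
ℤ and X₀ the disjoint union over the primes p of Spec ℤ[1/p] ⊔ Spec 𝔽_p mapping to the copy indexed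
by p, the limit morphism is an isomorphism while no stage has the property; so Y₀ is taken
quasi-compact here, which is what the reduction to an affine base uses.) -/
theorem result {I : Type u} [SmallCategory I] [IsCofiltered I]
    (D : I ⥤ Scheme.{u}) (c : Limits.Cone D) (hc : Limits.IsLimit c)
    [∀ (i j : I) (a : i ⟶ j), IsAffineHom (D.map a)] (i₀ : I)
    {X₀ Y₀ : Scheme.{u}} (f₀ : X₀ ⟶ Y₀) (g₀ : Y₀ ⟶ D.obj i₀) [CompactSpace Y₀]
    [LocallyOfFinitePresentation f₀] [QuasiCompact f₀] [QuasiSeparated f₀]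
    {X Y : Scheme.{u}} (f : X ⟶ Y) (g : Y ⟶ c.pt) (qY : Y ⟶ Y₀) (qX : X ⟶ X₀)
    (hY : IsPullback qY g g₀ (c.π.app i₀)) (hX : IsPullback qX f f₀ qY)
    [UniversallyOpen f] :
    ∃ (i : I) (φ : i ⟶ i₀) (Xi Yi : Scheme.{u}) (fi : Xi ⟶ Yi) (gi : Yi ⟶ D.obj i) (pY : Yi ⟶ Y₀)
      (pX : Xi ⟶ X₀), IsPullback pY gi g₀ (D.map φ) ∧ IsPullback pX fi f₀ pY ∧ UniversallyOpen fi := by
  obtain ⟨j, hj⟩ := exists_stage D c hc f₀ g₀ f g qY qX hY hX
  exact ⟨j.left, j.hom, LimDesc.stage D (f₀ ≫ g₀) j, LimDesc.stage D g₀ j, LimDesc.stageMap D g₀ f₀ j,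
    LimDesc.toStage D g₀ j, LimDesc.toBase D g₀ j, LimDesc.toBase D (f₀ ≫ g₀) j,
    LimDesc.isPullback_stage D g₀ j, LimDesc.isPullback_stageMap D g₀ f₀ j, hj⟩


end Groth.Agent.S14786
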