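import Groth.Statements.S9726
import Groth.Agent.SchDescent.IndQAEff
import Groth.Agent.QA.IndQAComp

set_option autoImplicit false
open CategoryTheory CategoryTheory.Limits AlgebraicGeometry Opposite
universe u
open Desc

namespace Groth.Agent.S9726

/-- Single flat, surjective, locally finitely presented cover; a general fppf covering reduces to this
by taking the disjoint union: Let p : X ⟶ S be flat, surjective and locally of finite presentation.
Every descent datum for schemes relative to p whose underlying scheme is separated, locally
quasi-finite and locally of finite type over X is effective: it is isomorphic to the canonical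
descent datum of some scheme over S. (Descent data are in functor-of-points form; locally of finite
type is part of the book's notion of locally quasi-finite.) -/
theorem result {X S : Scheme.{u}} (p : X ⟶ S) [Flat p] [Surjective p] [LocallyOfFinitePresentation p]
    (D : Desc.SchDD p) [IsSeparated D.obj.hom] [LocallyQuasiFinite D.obj.hom] [LocallyOfFiniteType D.obj.hom] :
    ∃ U : Over S, Nonempty ((Desc.toDD p).obj U ≅ D) := by
  have hp : Presieve.ofArrows (fun _ : PUnit.{u + 1} ↦ X) (fun _ ↦ p) ∈ Scheme.fpqcPrecoverage S := by
    rw [Presieve.ofArrows_pUnit]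
    exact Scheme.fppfPrecoverage_le_fpqcPrecoverage _ p.singleton_mem_fppfPrecoverage
  obtain ⟨U, ⟨e⟩⟩ := Groth.Agent.SchDescent.effective_of_indQA (fun _ : PUnit.{u + 1} ↦ p) hp
    ((Desc.SchDDFam.ofSchDD p).obj D)
    (fun _ ↦ Groth.Agent.QA.IndQA.of_locallyQuasiFinite D.obj.hom)
  exact ⟨U, ⟨(Desc.SchDDFam.toSchDD p).mapIso e⟩⟩

end Groth.Agent.S9726
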