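import Groth.Statements.S8525
import Groth.Agent.EtStalk.Sheaf
import Mathlib

set_option autoImplicit false
universe u
open CategoryTheory CategoryTheory.Limits AlgebraicGeometry Opposite
open EtAcyc

set_option backward.isDefEq.respectTransparency false

namespace Groth.Agent.S8525

/-- Let L be a set of primes and F an abelian sheaf on the small etale site of a scheme X. Then F is an
L-torsion sheaf if and only if for every geometric point ξ of X every element of the stalk F_ξ is
killed by a positive integer all of whose prime factors lie in L. -/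
theorem result {X : Scheme.{u}} (L : Set ℕ) (F : EtCoh.Ab X) :
    EtAcyc.IsLTorsion L F ↔
      ∀ (Ω : Type u) [Field Ω] [IsSepClosed Ω] (ξ : Spec (CommRingCat.of Ω) ⟶ X)
        (t : (EtCoh.stalk ξ).obj F), ∃ m : ℕ, EtAcyc.PrimesIn L m ∧ m • t = 0 := by
  constructor
  · intro h Ω _ _ ξ t
    obtain ⟨U, x, s, rfl⟩ := (Scheme.pointSmallEtale ξ).toPresheafFiber_jointly_surjective (P := F.obj) t
    choose V g m hv hm hs using fun p : U.left => h U s p
    have hcov : Sieve.ofArrows V g ∈ X.smallEtaleTopology U := by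
      rw [Scheme.ofArrows_mem_smallEtaleTopology_iff]
      ext p
      simp only [Set.mem_iUnion, Set.mem_range, Set.mem_univ, iff_true]
      exact ⟨p, hv p⟩
    obtain ⟨W, e, ⟨W', q, _, ⟨p⟩, rfl⟩, y, rfl⟩ := (Scheme.pointSmallEtale ξ).jointly_surjective _ hcov x
    refine ⟨m p, hm p, ?_⟩
    have e1 := ConcreteCategory.congr_hom ((Scheme.pointSmallEtale ξ).toPresheafFiber_w (q ≫ g p) y F.obj) s
    refine Eq.trans (b := m p • (Scheme.pointSmallEtale ξ).toPresheafFiber W y F.obj
      (F.obj.map (q ≫ g p).op s)) (congrArg (fun z => m p • z) e1.symm) ?_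
    rw [← map_nsmul, op_comp, Functor.map_comp, ConcreteCategory.comp_apply, ← map_nsmul, hs p, map_zero,
      map_zero]
  · intro h U s p
    obtain ⟨Ω, _, _, ξ, -, hξ⟩ := Groth.Agent.EtStalk.covers_all (X := X) (U.hom p)
    obtain ⟨x, hx⟩ := Scheme.pointSmallEtaleFiberObjToPreimage_surjective ξ hξ U ⟨p, by simp⟩
    rw [Subtype.ext_iff] at hx
    simp only [Functor.id_obj, Scheme.pointSmallEtaleFiberObjToPreimage_coe,
      Scheme.Etale.forget_obj_left] at hx
    obtain ⟨m, hm, h0⟩ := h Ω ξ ((Scheme.pointSmallEtale ξ).toPresheafFiber U x F.obj s)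
    have h1 : (Scheme.pointSmallEtale ξ).toPresheafFiber U x F.obj (m • (s : F.obj.obj (op U))) =
        (Scheme.pointSmallEtale ξ).toPresheafFiber U x F.obj 0 := by
      rw [map_nsmul, map_zero]
      exact h0
    obtain ⟨V, g, y, hy, hg⟩ := ((Scheme.pointSmallEtale ξ).toPresheafFiber_eq_iff' _ _ _ _).mp h1
    refine ⟨V, g, m, ⟨(Scheme.pointSmallEtaleFiberObjToPreimage ξ hξ y).1, ?_⟩, hm, ?_⟩
    · refine Eq.trans ?_ hx
      rw [← hy]
      rfl
    · rw [← map_nsmul]
      exact hg.trans (map_zero _)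

end Groth.Agent.S8525
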