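import Groth.Statements.S0712
import Groth.Agent.LAcyc.GenAcyclic
import Groth.Agent.LAcyc.ConstCoeff
import Groth.Agent.LAcyc.Line

set_option autoImplicit false
open CategoryTheory CategoryTheory.Limits AlgebraicGeometry Opposite
open scoped TensorProduct
universe u
open EtRest

namespace Groth.Agent.S0712

/-- Smooth morphisms are locally acyclic, in explicit form with constant coefficients: let f : X → S be
a smooth morphism of schemes, x a point of X with s = f(x), R_S and R_X strict henselizations of the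
local rings O_{S,s} and O_{X,x}, and R_S → R_X a local homomorphism compatible with the map O_{S,s}
→ O_{X,x} induced by f. For every separably closed field Ω with a ring map R_S → Ω (a geometric
point of Spec R_S) and every natural number n that is nonzero in the residue field κ(x), the variety
of vanishing cycles Spec(R_X ⊗_{R_S} Ω) has étale cohomology H^q(−, ℤ/n) = 0 for every q > 0, and
H⁰(−, ℤ/n) is isomorphic to ℤ/n as an abelian group. -/
theorem result {X S : Scheme.{u}} (f : X ⟶ S) [Smooth f] (x : X)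
    (RS RX : Type u) [CommRing RS] [CommRing RX] [IsLocalRing RS] [IsLocalRing RX]
    [Algebra (S.presheaf.stalk (f.base x)) RS] [IsLocalHom (algebraMap (S.presheaf.stalk (f.base x)) RS)]
    [Hensel.IsStrictHenselization (S.presheaf.stalk (f.base x)) RS]
    [Algebra (X.presheaf.stalk x) RX] [IsLocalHom (algebraMap (X.presheaf.stalk x) RX)]
    [Hensel.IsStrictHenselization (X.presheaf.stalk x) RX]
    [Algebra RS RX] [IsLocalHom (algebraMap RS RX)]
    (hc : (algebraMap RS RX).comp (algebraMap (S.presheaf.stalk (f.base x)) RS) =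
      (algebraMap (X.presheaf.stalk x) RX).comp (f.stalkMap x).hom)
    (Ω : Type u) [Field Ω] [IsSepClosed Ω] [Algebra RS Ω] (n : ℕ) (hn : (n : X.residueField x) ≠ 0)
    (q : ℕ) :
    (0 < q → Subsingleton (EtCoh.H (Spec (CommRingCat.of (RX ⊗[RS] Ω)))
      (EtCoh.const (Spec (CommRingCat.of (RX ⊗[RS] Ω))) (ZMod n)) q)) ∧
    Nonempty (EtCoh.H (Spec (CommRingCat.of (RX ⊗[RS] Ω)))
      (EtCoh.const (Spec (CommRingCat.of (RX ⊗[RS] Ω))) (ZMod n)) 0 ≃+ ZMod n) := by
  let QX : Groth.Agent.EtBCQ.SH X x := { R := RX }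
  let QS : Groth.Agent.EtBCQ.SH S (f.base x) := { R := RS }
  have hsp : Spec.map (CommRingCat.ofHom (algebraMap QS.R QX.R)) ≫ QS.spec = QX.spec ≫ f :=
    Groth.Agent.EtAcycX.spec_of_comp_alg f QS QX (algebraMap RS RX) hc
  let e := pullbackSpecIso RS RX Ω
  haveI hconn : ConnectedSpace ↥(Spec (CommRingCat.of (RX ⊗[RS] Ω))) := by
    haveI := Groth.Agent.LAcyc.connected_fibres_smooth f QS QX hsp Ω (Spec.map (CommRingCat.ofHom (algebraMap RS Ω)))
    exact e.hom.homeomorph.connectedSpace_iff.1 inferInstance
  have hn0 : 0 < n := Nat.pos_of_ne_zero fun h => hn (by rw [h, Nat.cast_zero])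
  haveI : HenselianLocalRing RS := QS.sh.henselian
  haveI : IsSepClosed (IsLocalRing.ResidueField RS) := QS.sh.isSepClosure.1
  haveI : HenselianLocalRing RX := QX.sh.henselian
  haveI : IsSepClosed (IsLocalRing.ResidueField RX) := QX.sh.isSepClosure.1
  refine ⟨fun hq => Groth.Agent.LAcyc.subsingleton_H_zmod n hn0 fun l hl hd => ?_,
    Groth.Agent.LAcyc.nonempty_H_zero_const _⟩
  obtain ⟨r, hr⟩ := hd
  have hlx : (l : X.residueField x) ≠ 0 := fun h0 => hn (by rw [hr, Nat.cast_mul, h0, zero_mul])
  have hunit : IsUnit (l : QS.R) := by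
    have h1 : IsUnit (l : S.presheaf.stalk (f.base x)) := by
      by_contra h1
      refine hlx ?_
      have h2 : (S.residue (f.base x)).hom (l : S.presheaf.stalk (f.base x)) = 0 :=
        (IsLocalRing.residue_eq_zero_iff _).2 h1
      rw [map_natCast] at h2
      rw [← map_natCast (f.residueFieldMap x).hom, h2, map_zero]
    have h3 := h1.map (algebraMap (S.presheaf.stalk (f.base x)) QS.R)
    rwa [map_natCast] at h3
  have : Groth.Agent.LAcyc.UFib (algebraMap QS.R QX.R) {l} q :=
    Groth.Agent.LAcyc.ufib_smooth f QS QX _ hsp hl hunit q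
  exact (Groth.Agent.LAcyc.subsingleton_H_const_iff e (ZMod l) q).1
    (Groth.Agent.LAcyc.fibre_vanish this Ω hl rfl hq le_rfl)

end Groth.Agent.S0712
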