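import Groth.Statements.S3111
import Groth.Agent.EtConsPush.Field
-- import your own Groth.Agent.* helpers here

set_option autoImplicit false
set_option backward.isDefEq.respectTransparency false
set_option backward.isDefEq.respectTransparency.types false
universe u
open CategoryTheory CategoryTheory.Limits AlgebraicGeometry Opposite
open EtDual

namespace Groth.Agent.S3111

/-- Let k be a separably closed field, P proper over k, j : X -> P an open immersion (so X is separated
of finite type over k and compactifiable), and F a constructible abelian sheaf on the small etale
site of X killed by some n > 0. Then for every q the group H^q(P, j_! F), which is the cohomology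
with proper support H^q_c(X, F), is finite. -/
theorem result {k : Type u} [Field k] [IsSepClosed k] {X P : Scheme.{u}}
    (a : P ⟶ Spec (CommRingCat.of k)) [IsProper a] (j : X ⟶ P) [IsOpenImmersion j]
    (n : ℕ) (hn : 0 < n) (F : EtCoh.Ab X) (hF : EtPBC.IsConstructible F) (hFn : EtCoh.KilledBy n F) (q : ℕ) :
    Finite (EtCoh.H P ((EtShriek.extZero j).obj F) q) := by
  haveI : AlgebraicGeometry.IsNoetherian P :=
    { toIsLocallyNoetherian := LocallyOfFiniteType.isLocallyNoetherian a
      toCompactSpace := QuasiCompact.compactSpace_of_compactSpace a }
  exact EtConsPush.finite_H_proper_field a _ (EtConsPush.isConstructible_extZero j F hF) q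

end Groth.Agent.S3111

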