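import Groth.Statements.S10589
import Groth.Agent.EtInvariance.Thick

set_option autoImplicit false
universe u
open CategoryTheory CategoryTheory.Limits AlgebraicGeometry
open AlgSp

set_option backward.isDefEq.respectTransparency false

namespace Groth.Agent.S10589

/-- Consider a morphism (f, f') from the thickening X ⊂ X' to the thickening Y ⊂ Y' of algebraic spaces
over S, meaning: i : X ⟶ X' and j : Y ⟶ Y' are thickenings (representable, every base change to a
scheme a surjective closed immersion) and i ≫ f' = f ≫ j. Then f is separated if and only if f' is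
separated, and f is quasi-separated if and only if f' is quasi-separated. -/
theorem result {S : Scheme.{u}} {X X' Y Y' : AlgSp.Space S} (i : X ⟶ X') (j : Y ⟶ Y')
    (f : X ⟶ Y) (f' : X' ⟶ Y')
    (hi : AlgSp.IsThickMor i.hom)
    (hj : AlgSp.IsThickMor j.hom) (w : i ≫ f' = f ≫ j) :
    (AlgSp.IsSeparatedMor f.hom ↔ AlgSp.IsSeparatedMor f'.hom) ∧
    (AlgSp.IsQuasiSeparatedMor f.hom ↔ AlgSp.IsQuasiSeparatedMor f'.hom) := by
    have hi' := EtInvariance.IsUH.of_thick hi
    have := EtInvariance.mono_of_thick hj
    have w' : i.hom ≫ f'.hom = f.hom ≫ j.hom := congrArg (·.hom) w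
    have := EtInvariance.mono_of_thick hi
    obtain ⟨m, hm, hmm, hd⟩ := EtInvariance.IsUH.pullback_map hi' w'
    have hP := Groth.Agent.AlgSpLib.isAlgSpace_of_isPullback_space Y.property X.property X.property
      (IsPullback.of_hasPullback f.hom f.hom)
    have hP' := Groth.Agent.AlgSpLib.isAlgSpace_of_isPullback_space Y'.property X'.property X'.property
      (IsPullback.of_hasPullback f'.hom f'.hom)
    have hq : ∀ {A B : AlgSp.Sp S} (g : A ⟶ B) (hA : AlgSp.IsAlgSpace A)
        (hB : AlgSp.IsAlgSpace B),
        AlgSp.IsQuasiSeparatedMor g ↔ AlgSp.IsQuasiCompactMor (pullback.diagonal g) := fun g hA hB =>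
      (Groth.Agent.AlgSpLib.isQuasiCompactMor_iff_repWith hA
        (Groth.Agent.AlgSpLib.isAlgSpace_of_isPullback_space hB hA hA (IsPullback.of_hasPullback g g))
        (Groth.Agent.AlgSpLib.repWith_diagonal_props hA g).1.1).symm
    have hmono : Mono (pullback.diagonal f'.hom) := inferInstance
    constructor
    · rw [(Groth.Agent.AlgSpLib.isSeparatedMor_iff_diagonal X.property Y.property f.hom).1,
        (Groth.Agent.AlgSpLib.isSeparatedMor_iff_diagonal X'.property Y'.property f'.hom).1]
      exact EtInvariance.univClosed_iff X.property X'.property hP hP' hi' hm hd.symm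
    · rw [hq f.hom X.property Y.property, hq f'.hom X'.property Y'.property]
      exact EtInvariance.quasiCompact_iff X.property X'.property hP hP' hi' hm hd.symm

end Groth.Agent.S10589
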