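import Groth.Statements.S10613
import Groth.Agent.UnivInjMor.MonoUnram

set_option autoImplicit false
universe u
open CategoryTheory CategoryTheory.Limits AlgebraicGeometry
open AlgSp

set_option backward.isDefEq.respectTransparency false

namespace Groth.Agent.S10613

/-- For a morphism f : X ⟶ Y of algebraic spaces over S, these four conditions on f are equivalent: (a)
unramified plus monomorphism; (b) unramified plus universally injective; (c) a monomorphism that is
locally of finite type; (d) universally injective, locally of finite type and formally unramified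
(lifting sense). In that case f is representable by schemes, separated and locally quasi-finite.
(Unramified is the etale-local condition locally of finite type and formally unramified on charts;
monomorphisms are taken in fppf sheaves.) -/
theorem result {S : Scheme.{u}} {X Y : AlgSp.Space S} (f : X ⟶ Y) :
    ((AlgSp.LocP (@LocallyOfFiniteType ⊓ @FormallyUnramified) f.hom ∧ Mono f.hom) ↔
      (AlgSp.LocP (@LocallyOfFiniteType ⊓ @FormallyUnramified) f.hom ∧ AlgSp.IsUnivInjectiveMor f.hom)) ∧
    ((AlgSp.LocP (@LocallyOfFiniteType ⊓ @FormallyUnramified) f.hom ∧ Mono f.hom) ↔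
      (AlgSp.LocP @LocallyOfFiniteType f.hom ∧ Mono f.hom)) ∧
    ((AlgSp.LocP (@LocallyOfFiniteType ⊓ @FormallyUnramified) f.hom ∧ Mono f.hom) ↔
      (AlgSp.IsUnivInjectiveMor f.hom ∧ AlgSp.LocP @LocallyOfFiniteType f.hom ∧ AlgSp.IsFormallyUnramifiedMor f.hom)) ∧
    (AlgSp.LocP @LocallyOfFiniteType f.hom ∧ Mono f.hom →
      AlgSp.Representable f.hom ∧ AlgSp.IsSeparatedMor f.hom ∧
        AlgSp.LocP (@LocallyQuasiFinite ⊓ @LocallyOfFiniteType) f.hom) := by
  have hX := X.property
  have hY := Y.property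
  refine ⟨⟨fun h => ?_, fun h => ?_⟩, ⟨fun h => ⟨fun U V a b c ha hb e => (h.1 a b c ha hb e).1, h.2⟩, fun h => ?_⟩,
    ⟨fun h => ?_, fun h => ?_⟩, fun h => ?_⟩
  · have := h.2
    exact ⟨h.1, Groth.Agent.UnivInjMor.isUnivInjectiveMor_of_mono hX f.hom⟩
  · exact ⟨h.1, Groth.Agent.UnivInjMor.mono_of_unramified_univInj hX hY f.hom h.1 h.2⟩
  · have := h.2
    exact ⟨Groth.Agent.UnivInjMor.unramified_of_mono hX hY f.hom h.1, h.2⟩
  · have := h.2
    exact ⟨Groth.Agent.UnivInjMor.isUnivInjectiveMor_of_mono hX f.hom,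
      fun U V a b c ha hb e => (h.1 a b c ha hb e).1,
      Groth.Agent.UnivInjMor.isFormallyUnramifiedMor_of_mono f.hom⟩
  · have hu : AlgSp.LocP (@LocallyOfFiniteType ⊓ @FormallyUnramified) f.hom := fun U V a b c ha hb e =>
      ⟨h.2.1 a b c ha hb e, (Groth.Agent.InfLift.unram_iff hX hY).1 h.2.2 a b c ha hb e⟩
    exact ⟨hu, Groth.Agent.UnivInjMor.mono_of_unramified_univInj hX hY f.hom hu h.1⟩
  · have := h.2
    exact ⟨Groth.Agent.UnivInjMor.representable_of_mono hX hY f.hom h.1,
      Groth.Agent.UnivInjMor.isSeparatedMor_of_mono f.hom, Groth.Agent.UnivInjMor.lqf_of_mono hX hY f.hom h.1⟩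

end Groth.Agent.S10613
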