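import Groth.Agent.EtInvariance.SchemePush
import Groth.Prelude.Def_SGA4b
import Groth.Prelude.Def_EtOpen
import Mathlib
set_option autoImplicit false
set_option backward.isDefEq.respectTransparency false
open CategoryTheory CategoryTheory.Limits AlgebraicGeometry Opposite
universe u
namespace EtDesc
end EtDesc
open EtDesc
open CategoryTheory CategoryTheory.Limits AlgebraicGeometry Opposite

namespace Groth.Agent.S3896

variable {X : Scheme.{u}}

theorem subsingleton_hom (U : X.Opens) (V : X.Etale) : Subsingleton (V ⟶ EtDesc.ofOpen U) := by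
  refine ⟨fun a b => MorphismProperty.Over.Hom.ext ?_⟩
  rw [← cancel_mono U.ι]
  exact (MorphismProperty.Over.w a).trans (MorphismProperty.Over.w b).symm

theorem nonempty_hom_iff (U : X.Opens) (V : X.Etale) :
    Nonempty (V ⟶ EtDesc.ofOpen U) ↔ Set.range V.hom ⊆ (U : Set X) := by
  constructor
  · rintro ⟨f⟩ _ ⟨v, rfl⟩
    rw [← MorphismProperty.Over.w f]
    exact (f.left v).2
  · intro h
    exact ⟨MorphismProperty.Over.homMk (IsOpenImmersion.lift U.ι V.hom (by rintro y hy; exact (Set.ext_iff.mp (Scheme.Opens.range_ι U) y).mpr (h hy)))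
      (IsOpenImmersion.lift_fac _ _ _)⟩

theorem subsingleton_up (U : X.Opens) (V : X.Etale) :
    Subsingleton ((yoneda.obj (EtDesc.ofOpen U) ⋙ uliftFunctor.{u + 1, u}).obj (op V)) :=
  ⟨fun a b => ULift.ext _ _ ((subsingleton_hom U V).elim _ _)⟩

theorem isSheaf_up (U : X.Opens) :
    Presheaf.IsSheaf X.smallEtaleTopology (yoneda.obj (EtDesc.ofOpen U) ⋙ uliftFunctor.{u + 1, u}) := by
  rw [isSheaf_iff_isSheaf_of_type]
  intro V R hR x hx
  have hr : Set.range V.hom ⊆ (U : Set X) := by
    rintro _ ⟨v, rfl⟩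
    obtain ⟨W, g, hg, w, hw⟩ := Groth.Agent.EtInvariance.SchemePush.surjective_of_mem hR v
    have h := (nonempty_hom_iff U W).mp ⟨(x g hg).down⟩
    have e := congr($(MorphismProperty.Over.w g) w)
    rw [← hw]
    exact h ⟨w, e.symm⟩
  obtain ⟨f⟩ := (nonempty_hom_iff U V).mpr hr
  exact ⟨⟨f⟩, fun W g hg => (subsingleton_up U W).elim _ _, fun y _ => (subsingleton_up U V).elim _ _⟩

/-- The associated sheaf is the representable one. -/
noncomputable def repIso (U : X.Opens) :
    EtDesc.repSh (EtDesc.ofOpen U) ≅ ⟨_, isSheaf_up U⟩ :=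
  (asIso (sheafificationAdjunction X.smallEtaleTopology (Type (u + 1))).counit).app ⟨_, isSheaf_up U⟩

theorem subsingleton_rep (U : X.Opens) (V : X.Etale) :
    Subsingleton ((EtDesc.repSh (EtDesc.ofOpen U)).obj.obj (op V)) :=
  ((((sheafToPresheaf _ _).mapIso (repIso U)).app (op V)).toEquiv).subsingleton_congr.mpr (subsingleton_up U V)

theorem mono_of_subsingleton {F G : EtDesc.Sh X} (f : F ⟶ G) (h : ∀ V, Subsingleton (F.obj.obj (op V))) : Mono f :=
  ⟨fun a b _ => by
    ext V x
    exact (h V.unop).elim _ _⟩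

theorem subsingleton_of_mono (F : EtDesc.Sh X) (hF : Mono (terminal.from F)) (V : X.Etale) :
    Subsingleton (F.obj.obj (op V)) := by
  let ev : EtDesc.Sh X ⥤ Type (u + 1) := sheafToPresheaf _ _ ⋙ (evaluation _ _).obj (op V)
  haveI : PreservesFiniteLimits ev := inferInstance
  haveI : PreservesLimit (Functor.empty.{0} (EtDesc.Sh X)) ev := inferInstance
  have hm : Mono (ev.map (terminal.from F)) := inferInstance
  refine ⟨fun a b => (mono_iff_injective _).mp hm ?_⟩
  have ht : IsTerminal (ev.obj (⊤_ (EtDesc.Sh X))) := IsTerminal.isTerminalObj ev _ terminalIsTerminal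
  haveI : Subsingleton (ev.obj (⊤_ (EtDesc.Sh X))) :=
    ((Types.isTerminalEquivUnique _) ht).instSubsingleton
  exact Subsingleton.elim _ _

theorem exists_open (F : EtDesc.Sh X) (hF : Mono (terminal.from F)) :
    ∃ U : X.Opens, Nonempty (F ≅ EtDesc.repSh (EtDesc.ofOpen U)) := by
  have hs := subsingleton_of_mono F hF
  let U : X.Opens := ⨆ (V : {V : X.Etale // Nonempty (F.obj.obj (op V))}),
    (haveI := V.1.prop; ⟨Set.range V.1.hom, V.1.hom.isOpenMap.isOpen_range⟩)
  have key : ∀ V : X.Etale, Nonempty (F.obj.obj (op V)) ↔ Nonempty (V ⟶ EtDesc.ofOpen U) := by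
    intro V
    constructor
    · intro h
      exact (nonempty_hom_iff U V).mpr fun s hs => TopologicalSpace.Opens.mem_iSup.mpr ⟨⟨V, h⟩, hs⟩
    · intro h
      have hr := (nonempty_hom_iff U V).mp h
      let R : Sieve V :=
        { arrows := fun W g => Nonempty (F.obj.obj (op W))
          downward_closed := fun {W W'} g hg k => hg.map (F.obj.map k.op) }
      have hR : R ∈ X.smallEtaleTopology V := by
        refine Groth.Agent.EtInvariance.SchemePush.mem_of_surjective fun v => ?_
        obtain ⟨⟨W, hW⟩, w, hw⟩ := TopologicalSpace.Opens.mem_iSup.mp (hr ⟨v, rfl⟩)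
        haveI := V.prop
        haveI := W.prop
        let Z : X.Etale := Scheme.Etale.mk (pullback.fst V.hom W.hom ≫ V.hom)
        let q : Z ⟶ W := MorphismProperty.Over.homMk (pullback.snd V.hom W.hom) pullback.condition.symm
        obtain ⟨z, hz, -⟩ := Scheme.Pullback.exists_preimage_pullback v w hw.symm
        exact ⟨Z, MorphismProperty.Over.homMk (pullback.fst V.hom W.hom) rfl, hW.map (F.obj.map q.op), z, hz⟩
      exact ⟨((isSheaf_iff_isSheaf_of_type _ _).mp F.property R hR (fun W g hg => hg.some)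
        (fun _ _ Z _ _ _ _ _ _ _ => (hs Z).elim _ _)).choose⟩
  refine ⟨U, ⟨(fullyFaithfulSheafToPresheaf _ _).preimageIso (Y := (⟨_, isSheaf_up U⟩ : EtDesc.Sh X)) (NatIso.ofComponents
    (fun V => haveI := hs V.unop; haveI := subsingleton_up U V.unop
      { hom := TypeCat.ofHom fun s => ⟨((key V.unop).mp ⟨s⟩).some⟩
        inv := TypeCat.ofHom fun a => ((key V.unop).mpr ⟨a.down⟩).some
        hom_inv_id := by ext x; exact (hs V.unop).elim _ _
        inv_hom_id := by ext x; exact (subsingleton_up U V.unop).elim _ _ })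
    (fun {V W} f => by ext x; exact (subsingleton_up U W.unop).elim _ _) :
      F.obj ≅ (⟨_, isSheaf_up U⟩ : EtDesc.Sh X).obj) ≪≫ (repIso U).symm⟩⟩

theorem le_iff (U V : X.Opens) :
    U ≤ V ↔ Nonempty (EtDesc.repSh (EtDesc.ofOpen U) ⟶ EtDesc.repSh (EtDesc.ofOpen V)) := by
  constructor
  · intro h
    obtain ⟨g⟩ := (nonempty_hom_iff V (EtDesc.ofOpen U)).mpr (fun x hx => h ((Set.ext_iff.mp (Scheme.Opens.range_ι U) x).mp hx))
    exact ⟨(presheafToSheaf _ _).map (Functor.whiskerRight (yoneda.map g) _)⟩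
  · rintro ⟨f⟩
    let f' := (repIso U).inv ≫ f ≫ (repIso V).hom
    have h := (nonempty_hom_iff V (EtDesc.ofOpen U)).mp ⟨(f'.hom.app (op (EtDesc.ofOpen U)) ⟨𝟙 _⟩).down⟩
    intro x hx
    exact h ⟨⟨x, hx⟩, rfl⟩

/-- Let X be a scheme. Sending a Zariski open U of X to the etale sheaf of sets attached to the open
immersion U -> X gives an isomorphism of ordered sets from the opens of X onto the subobjects of the
final object of the etale topos of X: (a) each such sheaf is a subobject of the final sheaf; (b) U ≤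
V if and only if there is a morphism between the attached sheaves; (c) every subobject of the final
sheaf is isomorphic to the sheaf attached to some open. -/
theorem result (X : Scheme.{u}) :
    (∀ U : X.Opens, Mono (terminal.from (EtDesc.repSh (EtDesc.ofOpen U)))) ∧
    (∀ U V : X.Opens, U ≤ V ↔ Nonempty (EtDesc.repSh (EtDesc.ofOpen U) ⟶ EtDesc.repSh (EtDesc.ofOpen V))) ∧
    (∀ F : EtDesc.Sh X, Mono (terminal.from F) → ∃ U : X.Opens, Nonempty (F ≅ EtDesc.repSh (EtDesc.ofOpen U))) := by
  exact ⟨fun U => mono_of_subsingleton _ (subsingleton_rep U), fun U V => le_iff U V, exists_open⟩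

end Groth.Agent.S3896
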