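import Groth.Statements.S2348
import Groth.Agent.S1681
import Groth.Agent.S1682
import Groth.Agent.S8851

set_option autoImplicit false
universe u
set_option linter.style.haveILetI false
set_option backward.isDefEq.respectTransparency false
open CategoryTheory CategoryTheory.Limits AlgebraicGeometry
open EGA2

namespace Groth.Agent.S2348

/-- For an ideal of O_Y: let Y be an integral scheme, I a nonzero quasi-coherent ideal sheaf and b : X →
Y a blowing up of Y in I (characterised by its universal property). Then X is integral, b sends the
generic point of X to that of Y and induces a bijection on their residue fields (b is birational).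
The printed statement also asserts that b is surjective; the proof does not show this and it fails
when I is not of finite type, so it is left out. -/
theorem result {X Y : Scheme.{u}} [IsIntegral Y] (I : Y.IdealSheafData) (hI : I ≠ ⊥)
    (b : X ⟶ Y) (hb : BlowUp.IsBlowUp b I) :
    ∃ (_ : IsIntegral X), ∃ hgen : b.base (genericPoint X) = genericPoint Y,
      Function.Bijective (b.residueFieldMap (genericPoint X)).hom := by
  have hbij := Groth.Agent.S1681.result I b hb
  have hsupp : genericPoint Y ∉ I.support := fun h => hI (by
    have htop : I.support = ⊤ := by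
      refine top_le_iff.1 fun y _ => ?_
      exact I.support.isClosed.closure_subset_iff.2 (Set.singleton_subset_iff.2 h)
        (by rw [genericPoint_closure]; trivial)
    exact Scheme.IdealSheafData.support_eq_top_iff.1 htop)
  have hmaxY : ∀ y : Y, (∀ y' : Y, y' ⤳ y → y' = y) → y = genericPoint Y :=
    fun y hy => (hy _ ((genericPoint_spec Y).specializes trivial)).symm
  have hgY : genericPoint Y ∈ {x : ↥Y | (∀ y : ↥Y, y ⤳ x → y = x) ∧ x ∉ I.support} :=
    ⟨fun y hy => (hy.antisymm ((genericPoint_spec Y).specializes trivial)).eq, hsupp⟩
  obtain ⟨ξ, hξ, hξb⟩ := hbij.surjOn hgY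
  have hbξ : b ξ = genericPoint Y := hξb
  have hdense : ∀ z : X, ξ ⤳ z := by
    intro z
    have hirr : IsIrreducible (irreducibleComponent z) := isIrreducible_irreducibleComponent
    have hg := hirr.isGenericPoint_genericPoint isClosed_irreducibleComponent
    have hmax : hirr.genericPoint ∈ {x' : ↥X | ∀ y : ↥X, y ⤳ x' → y = x'} := fun w hw => by
      have h1 : irreducibleComponent z ⊆ closure {w} := by
        rw [← hg.def]; exact closure_minimal (Set.singleton_subset_iff.2 hw.mem_closure) isClosed_closure
      have h2 := (irreducibleComponent_mem_irreducibleComponents z).2 isIrreducible_singleton.closure h1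
      exact (((hg.specializes (h2 (subset_closure rfl)) : hirr.genericPoint ⤳ w)).antisymm hw).eq.symm
    have heq : hirr.genericPoint = ξ := by
      refine hbij.injOn hmax hξ ?_
      show b hirr.genericPoint = b ξ
      rw [hbξ]
      exact hmaxY _ (hbij.mapsTo hmax).1
    exact heq ▸ hg.specializes mem_irreducibleComponent
  haveI : IrreducibleSpace X :=
    { toNonempty := ⟨ξ⟩
      isPreirreducible_univ := by
        have h := (isIrreducible_singleton (x := ξ)).closure.2
        rwa [show closure ({ξ} : Set X) = Set.univ from Set.eq_univ_of_forall fun z => (hdense z).mem_closure] at h }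
  haveI : IsReduced X := Groth.Agent.S8851.result I b hb
  haveI : IsIntegral X := isIntegral_of_irreducibleSpace_of_isReduced X
  have hgen : b (genericPoint X) = genericPoint Y := by
    rw [← hbξ, ((genericPoint_spec X).specializes trivial : genericPoint X ⤳ ξ).antisymm (hdense _) |>.eq]
  refine ⟨inferInstance, hgen, ?_⟩
  haveI := Groth.Agent.S1682.result I b hb
  have hmem : genericPoint X ∈ b ⁻¹ᵁ I.support.compl := by
    show b (genericPoint X) ∈ I.support.compl
    rw [hgen]; exact hsupp
  haveI : IsIso (b.stalkMap (genericPoint X)) :=
    ((MorphismProperty.isomorphisms CommRingCat).arrow_mk_iso_iff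
      (morphismRestrictStalkMap b I.support.compl ⟨genericPoint X, hmem⟩)).1
      (by
        show IsIso ((b ∣_ I.support.compl).stalkMap ⟨genericPoint X, hmem⟩)
        haveI : IsOpenImmersion (b ∣_ I.support.compl) := inferInstance
        infer_instance)
  refine ⟨(b.residueFieldMap (genericPoint X)).hom.injective, fun w => ?_⟩
  obtain ⟨z, rfl⟩ := Scheme.residue_surjective X (genericPoint X) w
  obtain ⟨v, rfl⟩ := (ConcreteCategory.bijective_of_isIso (b.stalkMap (genericPoint X))).2 z
  refine ⟨Y.residue _ v, ?_⟩
  rw [← CommRingCat.comp_apply, Scheme.residue_residueFieldMap]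
  rfl

end Groth.Agent.S2348
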