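import Groth.Statements.S1607
import Mathlib

set_option autoImplicit false
universe u
open CategoryTheory CategoryTheory.Limits AlgebraicGeometry
open Variety

namespace Groth.Agent.S1607

/-- If X is affine and each of its local rings is Noetherian of dimension at most one, then every
quasi-compact open subscheme of X is affine. -/
theorem result (X : Scheme.{u}) [IsAffine X]
    (hX : ∀ x : X, IsNoetherianRing (X.presheaf.stalk x) ∧ ringKrullDim (X.presheaf.stalk x) ≤ 1)
    (U : X.Opens) (hU : IsCompact (U : Set X)) : IsAffineOpen U := by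
  classical
  let A := Γ(X, ⊤)
  have hT : IsAffineOpen (⊤ : X.Opens) := isAffineOpen_top X
  have hbo : ∀ (x : X) (f : A), x ∈ X.basicOpen f ↔ f ∉ (hT.primeIdealOf ⟨x, trivial⟩).asIdeal := fun x f => by
    rw [show (x ∈ X.basicOpen f) = (hT.fromSpec (hT.primeIdealOf ⟨x, trivial⟩) ∈ X.basicOpen f) by
      rw [hT.fromSpec_primeIdealOf]]
    show hT.primeIdealOf ⟨x, trivial⟩ ∈ hT.fromSpec ⁻¹ᵁ X.basicOpen f ↔ _
    rw [hT.fromSpec_preimage_basicOpen]
    exact Iff.rfl
  obtain ⟨s, hsfin, hs⟩ := isCompact_and_isOpen_iff_finite_and_eq_biUnion_basicOpen.1 ⟨hU, U.isOpen⟩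
  have hmemU : ∀ y : X, y ∈ U ↔ ∃ f ∈ s, y ∈ X.basicOpen f := fun y => by
    rw [← SetLike.mem_coe, hs]
    simp
  have key : ∀ x : X, ∃ g : A, x ∈ X.basicOpen g ∧ IsAffineOpen (U ⊓ X.basicOpen g) := by
    intro x
    by_cases hx : x ∈ U
    · obtain ⟨f, hf, hxf⟩ := (hmemU x).1 hx
      refine ⟨f, hxf, ?_⟩
      rw [inf_eq_right.2 fun y hy => (hmemU y).2 ⟨f, hf, hy⟩]
      exact hT.basicOpen f
    let p := hT.primeIdealOf ⟨x, trivial⟩
    let T := X.presheaf.stalk x
    letI : Algebra A T := TopCat.Presheaf.algebra_section_stalk X.presheaf (⟨x, trivial⟩ : (⊤ : X.Opens))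
    haveI : IsLocalization.AtPrime T p.asIdeal := hT.isLocalization_stalk ⟨x, trivial⟩
    haveI : IsNoetherianRing T := (hX x).1
    haveI : Ring.KrullDimLE 1 T := Ring.krullDimLE_iff.2 (hX x).2
    let J : Ideal A := Ideal.span s
    have hJp : J ≤ p.asIdeal := Ideal.span_le.2 fun f hf => by
      by_contra hfp
      exact hx ((hmemU x).2 ⟨f, hf, (hbo x f).2 hfp⟩)
    let Q := ((minimalPrimes.finite_of_isNoetherianRing T).toFinset.image
      (Ideal.comap (algebraMap A T))).filter fun q => ¬ J ≤ q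
    have hQ : ∀ q ∈ Q, q.IsPrime ∧ ¬ J ≤ q := fun q hq => by
      obtain ⟨hq1, hq2⟩ := Finset.mem_filter.1 hq
      obtain ⟨P, hP, rfl⟩ := Finset.mem_image.1 hq1
      exact ⟨Ideal.IsPrime.comap _ (hK := ((Set.Finite.mem_toFinset _).1 hP).1.1), hq2⟩
    obtain ⟨a, haJ, haQ⟩ : ∃ a ∈ J, ∀ q ∈ Q, a ∉ q := by
      by_contra hne
      push Not at hne
      obtain ⟨q, hq, hle⟩ := (Ideal.subset_union_prime (f := fun q => q) ⊥ ⊥
        fun q hq _ _ => (hQ q hq).1).1 (fun a ha => Set.mem_iUnion₂.2 (by obtain ⟨q, hq, haq⟩ := hne a ha; exact ⟨q, hq, haq⟩) :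
          (J : Set A) ⊆ ⋃ q ∈ (↑Q : Set (Ideal A)), (q : Set A))
      exact (hQ q hq).2 hle
    have hloc : ∀ f ∈ J, ∃ g : A, g ∉ p.asIdeal ∧ ∃ (n : ℕ) (c : A), g * f ^ n = a * c := by
      intro f hf
      obtain ⟨n, hn⟩ : algebraMap A T f ∈ (Ideal.span {algebraMap A T a}).radical := by
        rw [Ideal.radical_eq_sInf]
        refine Submodule.mem_sInf.2 ?_
        rintro P ⟨haP, hP⟩
        rw [Ideal.span_singleton_le_iff_mem] at haP
        rcases Ring.krullDimLE_one_iff.1 inferInstance P hP with h | h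
        · by_contra hfP
          refine haQ (Ideal.comap (algebraMap A T) P) (Finset.mem_filter.2 ⟨Finset.mem_image.2
            ⟨P, (Set.Finite.mem_toFinset _).2 h, rfl⟩, fun hle => hfP (hle hf)⟩) haP
        · rw [IsLocalRing.eq_maximalIdeal h, ← IsLocalization.AtPrime.map_eq_maximalIdeal p.asIdeal T]
          exact Ideal.mem_map_of_mem _ (hJp hf)
      obtain ⟨t, ht⟩ := Ideal.mem_span_singleton'.1 hn
      obtain ⟨⟨c, d⟩, hcd⟩ := IsLocalization.surj p.asIdeal.primeCompl t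
      have h1 : algebraMap A T (f ^ n * d.1) = algebraMap A T (c * a) := by
        rw [map_mul, map_pow, ← ht, map_mul, ← hcd]; ring
      obtain ⟨e, he⟩ := (IsLocalization.eq_iff_exists p.asIdeal.primeCompl T).1 h1
      exact ⟨e.1 * d.1, p.asIdeal.primeCompl.mul_mem e.2 d.2, n, e.1 * c, by linear_combination he⟩
    choose g hg n c hgc using fun f : hsfin.toFinset =>
      hloc f.1 (Ideal.subset_span (hsfin.mem_toFinset.1 f.2))
    refine ⟨∏ f, g f, (hbo x _).2 fun h => ?_, ?_⟩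
    · obtain ⟨i, -, hi⟩ := (Ideal.IsPrime.prod_mem_iff).1 h
      exact hg i hi
    · convert hT.basicOpen ((∏ f, g f) * a) using 1
      rw [Scheme.basicOpen_mul]
      symm
      refine le_antisymm (fun y ⟨hyg, hya⟩ => ⟨?l, hyg⟩) (fun y ⟨hyU, hyg⟩ => ⟨hyg, ?r⟩)
      case l =>
        by_contra hyU
        exact (hbo y a).1 hya (Ideal.span_le.2 (fun f hf => by
          by_contra hfy
          exact hyU ((hmemU y).2 ⟨f, hf, (hbo y f).2 hfy⟩)) haJ)
      case r =>
        obtain ⟨f, hf, hyf⟩ := (hmemU y).1 hyU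
        let i : hsfin.toFinset := ⟨f, hsfin.mem_toFinset.2 hf⟩
        have h1 : g i ∉ (hT.primeIdealOf ⟨y, trivial⟩).asIdeal := fun h =>
          (hbo y _).1 hyg (Ideal.mem_of_dvd _ (Finset.dvd_prod_of_mem g (Finset.mem_univ i)) h)
        refine (hbo y a).2 fun h => ?_
        have h2 : g i * f ^ n i ∈ (hT.primeIdealOf ⟨y, trivial⟩).asIdeal := by
          rw [hgc i]; exact Ideal.mul_mem_right _ _ h
        exact ((hT.primeIdealOf ⟨y, trivial⟩).2.mem_or_mem h2).elim h1
          fun h => (hbo y f).1 hyf ((hT.primeIdealOf ⟨y, trivial⟩).2.mem_of_pow_mem _ h)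
  choose g hg hga using key
  let r : A →+* Γ(X, U) := (X.presheaf.map (homOfLE le_top).op).hom
  refine isAffineOpen_of_isAffineOpen_basicOpen U (r '' Set.range g) ?_ ?_
  · have htop : Ideal.span (Set.range g) = ⊤ := by
      rw [← hT.iSup_basicOpen_eq_self_iff]
      exact eq_top_iff.2 fun y _ => TopologicalSpace.Opens.mem_iSup.2 ⟨⟨g y, y, rfl⟩, hg y⟩
    rw [← Ideal.map_span, htop, Ideal.map_top]
  · rintro _ ⟨_, ⟨y, rfl⟩, rfl⟩
    show IsAffineOpen (X.basicOpen ((X.presheaf.map (homOfLE (le_top : U ≤ ⊤)).op) (g y)))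
    rw [Scheme.basicOpen_res]
    exact hga y

end Groth.Agent.S1607
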