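import Groth.Statements.S3117
import Groth.Agent.LAcyc.AffineSpace

set_option autoImplicit false
universe u
open CategoryTheory CategoryTheory.Limits AlgebraicGeometry Opposite
open EtPBC

namespace Groth.Agent.S3117

/-- Acyclicity of affine space, abelian form: let Y be a scheme, g : 𝔸^m_Y → Y the structure morphism of
affine m-space, n an integer invertible on Y and F an abelian sheaf on the small étale site of Y
killed by n. Then the unit F → g_* g^* F is an isomorphism and R^q g_* (g^* F) = 0 for every q > 0.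
(The published statement gives acyclicity for all torsion sheaves of orders prime to the residue
characteristics, and also 1-asphericity for sheaves of groups; only the form above is stated here.) -/
theorem result (Y : Scheme.{u}) (m : ℕ) [EtCoh.BCCont (𝔸(ULift.{u} (Fin m); Y) ↘ Y)]
    (n : ℕ) (hn : IsUnit (n : Γ(Y, ⊤))) (F : EtCoh.Ab Y) (hF : EtCoh.KilledBy n F) :
    IsIso ((EtCoh.pullPushAdj (𝔸(ULift.{u} (Fin m); Y) ↘ Y)).unit.app F) ∧
      ∀ q : ℕ, 0 < q → IsZero ((EtCoh.Rpush (𝔸(ULift.{u} (Fin m); Y) ↘ Y) q).obj ((EtCoh.pull (𝔸(ULift.{u} (Fin m); Y) ↘ Y)).obj F)) := by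
  haveI hF' : EtAcyc.IsLTorsion (EtAcyc.primesInvertibleOn Y) F := fun U s x => by
    have hx : ∀ p : ℕ, p.Prime → p ∣ n → p ∈ EtAcyc.primesInvertibleOn Y := fun p hp ⟨r, hr⟩ => ⟨hp, fun y h0 => by
      have h2 := hn.map (Scheme.evaluation Y ⊤ y trivial).hom
      rw [map_natCast, hr, Nat.cast_mul, h0, zero_mul] at h2
      exact not_isUnit_zero h2⟩
    refine ⟨U, 𝟙 U, n, ⟨x, rfl⟩, ⟨?_, hx⟩, hF U _⟩
    refine Nat.pos_of_ne_zero fun h0 => ?_
    have h2 := hn.map (Scheme.evaluation Y ⊤ (U.hom x) trivial).hom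
    rw [map_natCast, h0, Nat.cast_zero] at h2
    exact not_isUnit_zero h2
  exact ⟨(Groth.Agent.LAcyc.affineSpace_acyclic Y m 0 F hF').1, fun q hq =>
    (Groth.Agent.LAcyc.affineSpace_acyclic Y m q F hF').2 q hq le_rfl⟩

end Groth.Agent.S3117
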