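import Groth.Statements.S0754
import Groth.Agent.S12237
import Groth.Agent.S0736
import Groth.Agent.WeakEt.Scheme
import Mathlib

set_option autoImplicit false
set_option backward.isDefEq.respectTransparency false
set_option backward.isDefEq.respectTransparency.types false
set_option linter.style.haveILetI false
set_option maxHeartbeats 800000
open CategoryTheory CategoryTheory.Limits AlgebraicGeometry Opposite
universe u
open ProEtS

namespace Groth.Agent.S0754

/-- For a point x of a scheme X and a strict henselization R of the local ring of X at x, the canonical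
morphism Spec R -> X is weakly etale, so that Spec R is an object of the small pro-etale site of X. -/
theorem result (X : Scheme.{u}) (x : ↥X) (R : Type u) [CommRing R]
    [IsLocalRing R] [Algebra (X.presheaf.stalk x) R] [IsLocalHom (algebraMap (X.presheaf.stalk x) R)]
    [Hensel.IsStrictHenselization (X.presheaf.stalk x) R] :
    WeaklyEtale (Hens2.specOf X x R) := by
  haveI hR : Algebra.WeaklyEtale (X.presheaf.stalk x) R :=
    Groth.Agent.S0736.result _ R (Groth.Agent.S12237.result (X.presheaf.stalk x) R)
  haveI : WeaklyEtale (Spec.map (CommRingCat.ofHom (algebraMap (X.presheaf.stalk x) R))) :=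
    (Groth.Agent.WeakEt.specMap_iff _).2 (by
      change @Algebra.WeaklyEtale (X.presheaf.stalk x) R _ _ (algebraMap (X.presheaf.stalk x) R).toAlgebra
      rw [show (algebraMap (X.presheaf.stalk x) R).toAlgebra = (inferInstance : Algebra (X.presheaf.stalk x) R) from
        Algebra.algebra_ext _ _ fun _ => rfl]
      exact hR)
  haveI : WeaklyEtale (X.fromSpecStalk x) := by
    rw [weaklyEtale_iff]
    refine ⟨?_, inferInstance⟩
    obtain ⟨_, ⟨U, hU, rfl⟩, hxU, -⟩ := X.isBasis_affineOpens.exists_subset_of_mem_open (Set.mem_univ x) isOpen_univ
    rw [← hU.fromSpecStalk_eq_fromSpecStalk hxU, IsAffineOpen.fromSpecStalk]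
    haveI := hU.isLocalization_stalk ⟨x, hxU⟩
    haveI : Flat (Spec.map (X.presheaf.germ U x hxU)) := by
      rw [HasRingHomProperty.Spec_iff (P := @Flat)]
      letI := (X.presheaf.germ U x hxU).hom.toAlgebra
      show Module.Flat _ _
      exact IsLocalization.flat _ (hU.primeIdealOf ⟨x, hxU⟩).asIdeal.primeCompl
    infer_instance
  show WeaklyEtale (Spec.map _ ≫ X.fromSpecStalk x)
  infer_instance

end Groth.Agent.S0754
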