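import Groth.Agent.CurveNorm.Basic
import Mathlib
import Groth.Prelude.Def_Pi1
import Groth.Prelude.Def_Curv2

/-!
# Normalization of an integral scheme locally of finite type over a field
-/

set_option autoImplicit false

universe u

open CategoryTheory CategoryTheory.Limits AlgebraicGeometry

namespace Groth.Agent.NormVar

theorem stalk_facts {T : Scheme.{u}} (R : CommRingCat.{u}) (j : Spec R ⟶ T) (_hj : IsOpenImmersion j)
    (P : PrimeSpectrum R) :
    Nonempty (T.presheaf.stalk (j P) ≃+* Localization.AtPrime P.asIdeal) :=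
  haveI : IsOpenImmersion j := _hj
  ⟨((asIso (j.stalkMap P)).commRingCatIsoToRingEquiv).trans
    (StructureSheaf.stalkIso _ P).toRingEquiv.symm⟩

/-- The normalization is finite with normal total space. -/
theorem finite_and_normal (k : Type u) [Field k] (X : Scheme.{u}) [X.Over (Spec (CommRingCat.of k))]
    [LocallyOfFiniteType (X ↘ (Spec (CommRingCat.of k)))] [IsIntegral X]
    (K : Type u) [Field K] (φ : X.functionField →+* K) (hφ : φ.Finite) (g : Spec (CommRingCat.of K) ⟶ X)
    (hg : g = Spec.map (CommRingCat.ofHom φ) ≫ X.fromSpecStalk (genericPoint X)) [QuasiCompact g] [QuasiSeparated g] :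
    IsFinite g.fromNormalization ∧ Pi1.IsNormalScheme g.normalization := by
  have hne : ∀ (U : X.Opens), (∃ x, x ∈ U) → Nonempty U := fun U ⟨x, hx⟩ => ⟨⟨x, hx⟩⟩
  have hfin : IsFinite g.fromNormalization := by
    refine { finite_app := fun U hU => ?_ }
    letI := (g.app U).hom.toAlgebra
    rw [g.fromNormalization_app hU, CommRingCat.hom_comp, CommRingCat.hom_ofHom]
    refine RingHom.Finite.comp (RingHom.Finite.of_surjective _
      (g.normalizationObjIso hU).symm.commRingCatIsoToRingEquiv.surjective) ?_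
    rw [RingHom.finite_algebraMap]
    by_cases hU0 : Nonempty U
    · exact (CurveNorm.facts φ g k hφ hg hU).1
    · obtain rfl : U = ⊥ := TopologicalSpace.Opens.ext (Set.eq_empty_iff_forall_notMem.2 fun x hx => hU0 ⟨⟨x, hx⟩⟩)
      haveI : Subsingleton Γ(X, (⊥ : X.Opens)) :=
        CommRingCat.subsingleton_of_isTerminal (Scheme.sheaf X).isTerminalOfEmpty
      haveI := Module.subsingleton Γ(X, (⊥ : X.Opens)) (integralClosure Γ(X, (⊥ : X.Opens)) Γ(Spec (CommRingCat.of K), g ⁻¹ᵁ (⊥ : X.Opens)))
      infer_instance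
  refine ⟨hfin, ?_⟩
  have hpt : ∀ x' : g.normalization, ∃ (U : X.affineOpens) (P : PrimeSpectrum (g.normalizationDiagram.obj (.op U.1))),
      g.normalizationOpenCover.f U P = x' ∧ g.fromNormalization x' ∈ U.1 := fun x' => by
    obtain ⟨U, hU, hxU, -⟩ := exists_isAffineOpen_mem_and_subset (U := (⊤ : X.Opens)) (x := g.fromNormalization x') trivial
    have hx' : x' ∈ g.fromNormalization ⁻¹ᵁ U := hxU
    rw [g.fromNormalization_preimage ⟨U, hU⟩] at hx'
    obtain ⟨P, hP⟩ := hx'
    exact ⟨⟨U, hU⟩, P, hP, hxU⟩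
  intro x'
  · obtain ⟨⟨U, hU⟩, P, rfl, hxU⟩ := hpt x'
    letI := (g.app U).hom.toAlgebra
    haveI := hne U ⟨_, hxU⟩
    obtain ⟨-, h1, h2, -⟩ := CurveNorm.facts φ g k hφ hg hU
    haveI : IsDomain (g.normalizationDiagram.obj (.op U)) := h1
    haveI : IsIntegrallyClosed (g.normalizationDiagram.obj (.op U)) := h2
    obtain ⟨e⟩ := stalk_facts (g.normalizationDiagram.obj (.op U)) (g.normalizationOpenCover.f ⟨U, hU⟩) (g.normalizationOpenCover.map_prop ⟨U, hU⟩) P
    haveI : IsDomain (Localization.AtPrime P.asIdeal) := inferInstance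
    haveI : IsIntegrallyClosed (Localization.AtPrime P.asIdeal) :=
      isIntegrallyClosed_of_isLocalization _ P.asIdeal.primeCompl P.asIdeal.primeCompl_le_nonZeroDivisors
    exact ⟨e.toMulEquiv.isDomain _, IsIntegrallyClosed.of_equiv e.symm⟩

end Groth.Agent.NormVar
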