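import Groth.Statements.S1585
import Mathlib
import Groth.Agent.NormVar
import Groth.Agent.BMCoh.NormalizationIso

set_option autoImplicit false
universe u
open CategoryTheory CategoryTheory.Limits AlgebraicGeometry
open Variety

namespace Groth.Agent.S1585

/-- Part (1): and (4), for an integral scheme locally of finite type over a field: the normalization
morphism ν (normalization of X in its function field) is finite, dominant and an isomorphism over a
nonempty open, and the normalization is an integral scheme all of whose local rings are integrally
closed domains. (The quasi-compactness/quasi-separatedness binders on Spec K(X) → X always hold;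
they are needed only to form Mathlib's relative normalization.) -/
theorem result (k : Type u) [Field k] (X : Scheme.{u}) [X.Over (Spec (CommRingCat.of k))] [IsIntegral X] [LocallyOfFiniteType (X ↘ (Spec (CommRingCat.of k)))]
    [QuasiCompact (X.fromSpecStalk (genericPoint X))] [QuasiSeparated (X.fromSpecStalk (genericPoint X))] :
    IsFinite (Curv2.normalizationι X) ∧ IsDominant (Curv2.normalizationι X) ∧
      (∃ V : X.Opens, (V : Set X).Nonempty ∧ IsIso (Curv2.normalizationι X ∣_ V)) ∧
      IsIntegral (Curv2.normalization X) ∧ Pi1.IsNormalScheme (Curv2.normalization X) := by
  let K := X.functionField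
  let η := genericPoint X
  have hφ : (RingHom.id K).Finite := RingHom.Finite.id K
  obtain ⟨hfin, hnorm⟩ : IsFinite (Curv2.normalizationι X) ∧ Pi1.IsNormalScheme (Curv2.normalization X) :=
    Groth.Agent.NormVar.finite_and_normal k X K (RingHom.id K) hφ (X.fromSpecStalk η) (by simp [K, η])
  haveI : IsFinite (Curv2.normalizationι X) := hfin
  haveI : IsIntegral (Spec (X.presheaf.stalk η)) := inferInstanceAs (IsIntegral (Spec (CommRingCat.of X.functionField)))
  refine ⟨hfin, ?_, Groth.Agent.BMCoh.exists_isIso_normalizationι X, ?_, hnorm⟩
  · haveI : IsDominant (X.fromSpecStalk η) := ⟨by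
      rw [denseRange_iff_closure_range]
      refine Set.eq_univ_of_univ_subset ?_
      rw [← (genericPoint_spec X).def]
      refine closure_mono (Set.singleton_subset_iff.2 ?_)
      exact ⟨IsLocalRing.closedPoint _, Scheme.fromSpecStalk_closedPoint⟩⟩
    haveI : IsDominant ((X.fromSpecStalk η).toNormalization ≫ (X.fromSpecStalk η).fromNormalization) := by
      rw [Scheme.Hom.toNormalization_fromNormalization]; infer_instance
    exact IsDominant.of_comp (X.fromSpecStalk η).toNormalization (X.fromSpecStalk η).fromNormalization
  · exact inferInstanceAs (IsIntegral (X.fromSpecStalk η).normalization)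

end Groth.Agent.S1585
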