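import Groth.Statements.S0652
import Groth.Agent.EtPushStalk.OpenImm
import Groth.Agent.EtStalk.Pullback

set_option autoImplicit false
open CategoryTheory CategoryTheory.Limits AlgebraicGeometry Opposite
universe u
open EtCore

set_option backward.isDefEq.respectTransparency false

namespace Groth.Agent.S0652

/-- For an open immersion j : U -> X and an abelian sheaf F on the small etale site of U, an abelian
sheaf G on X is isomorphic to j_! F as soon as G restricts to a sheaf isomorphic to F on U and has
vanishing stalks at every geometric point of X not in U. (Continuity of the composition functor of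
etale sites, which always holds, is carried as an instance hypothesis.) -/
theorem result {U X : Scheme.{u}} (j : U ⟶ X) [IsOpenImmersion j]
    [AlgebraicGeometry.Etale j] [EtShriek.JCont j] (F : EtCoh.Ab U) (G : EtCoh.Ab X)
    (hres : Nonempty ((EtShriek.restrAlong j).obj G ≅ F))
    (hzero : ∀ (Ω : Type u) [Field Ω] [IsSepClosed Ω] (ξ : Spec (CommRingCat.of Ω) ⟶ X),
      Set.range ξ.base ⊆ (Set.range j.base)ᶜ → IsZero ((EtCoh.stalk ξ).obj G)) :
    Nonempty (G ≅ (EtShriek.extZero j).obj F) := by
  obtain ⟨e⟩ := hres
  let m : (EtShriek.extZero j).obj F ⟶ G := ((EtShriek.extZeroAdj j).homEquiv _ _).symm e.inv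
  suffices IsIso m from ⟨(asIso m).symm⟩
  refine (Groth.Agent.EtStalk.isIso_iff m).mpr fun Ω _ _ ξ => ?_
  by_cases h : ξ (default : Spec (CommRingCat.of Ω)) ∈ Set.range j
  · have hr : Set.range ξ ⊆ Set.range j := by
      rintro _ ⟨z, rfl⟩
      rwa [Subsingleton.elim (α := Spec (CommRingCat.of Ω)) z (default : Spec (CommRingCat.of Ω))]
    rw [← IsOpenImmersion.lift_fac j ξ hr]
    let ξ' := IsOpenImmersion.lift j ξ hr
    have hm : (EtShriek.extZeroAdj j).unit.app F ≫ (EtShriek.restrAlong j).map m = e.inv := by
      exact ((EtShriek.extZeroAdj j).homEquiv_unit F G m).symm.trans (Equiv.apply_symm_apply _ _)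
    have := Groth.Agent.EtPushStalk.isIso_unit_extZero j F
    have h1 : IsIso ((EtShriek.restrAlong j).map m) := by
      have : IsIso ((EtShriek.extZeroAdj j).unit.app F ≫ (EtShriek.restrAlong j).map m) := by
        rw [hm]; infer_instance
      exact IsIso.of_isIso_comp_left ((EtShriek.extZeroAdj j).unit.app F) _
    have h2 : IsIso ((EtCoh.pull j).map m) :=
      (NatIso.isIso_map_iff (Groth.Agent.EtPushStalk.restrPullIso j) m).mp h1
    exact (NatIso.isIso_map_iff (Groth.Agent.EtStalk.stalkPullIso j ξ') m).mpr
      (inferInstanceAs (IsIso ((EtCoh.stalk ξ').map ((EtCoh.pull j).map m))))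
  · have hzG : IsZero ((EtCoh.stalk ξ).obj G) := hzero Ω ξ (by
      rintro _ ⟨z, rfl⟩
      rw [Subsingleton.elim (α := Spec (CommRingCat.of Ω)) z (default : Spec (CommRingCat.of Ω))]
      exact h)
    have hsky : ∀ (W : U.Etale), IsEmpty ((Scheme.pointSmallEtale ξ).fiber.obj ((EtShriek.compEtale j).obj W)) :=
      fun W => ⟨fun v => by
        let v' : Over.mk ξ ⟶ (Scheme.Etale.forget X).obj ((EtShriek.compEtale j).obj W) := v
        apply h
        refine ⟨W.hom (v'.left (default : Spec (CommRingCat.of Ω))), ?_⟩
        have hw : v'.left ≫ W.hom ≫ j = ξ := Over.w v'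
        exact congr($hw (default : Spec (CommRingCat.of Ω)))⟩
    have hzF : IsZero ((EtCoh.stalk ξ).obj ((EtShriek.extZero j).obj F)) := by
      rw [IsZero.iff_id_eq_zero]
      apply ((Scheme.pointSmallEtale ξ).skyscraperSheafAdjunction.homEquiv _ _).injective
      apply ((EtShriek.extZeroAdj j).homEquiv _ _).injective
      refine Sheaf.hom_ext (NatTrans.ext (funext fun W => ?_))
      have := hsky W.unop
      refine Pi.hom_ext _ _ fun v => ?_
      exact (hsky W.unop).elim v
    exact hzF.isIso hzG _

end Groth.Agent.S0652
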