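import Groth.Statements.S7157
import Groth.Agent.TotRam.Main

set_option autoImplicit false
universe u
open EtAlg

namespace Groth.Agent.S7157

open Polynomial

/-- Let A be a discrete valuation ring, π a uniformizer, K its field of fractions, and suppose the
residue field of A has characteristic p > 0. For every n > 1 and every power q of p there is a
separable degree-q extension L/K that is totally ramified with respect to A and whose ring of
integers B (the integral closure of A in L) contains elements π_B, b, b' with π_B^q = π + πⁿ·b and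
π_B^q = π + π_B^(nq)·b' (π_B is then a uniformizer of B and the ramification index is q). -/
theorem result (p : ℕ) (hp : p.Prime) (A K : Type u)
    [CommRing A] [IsDomain A] [IsDiscreteValuationRing A] [Field K] [Algebra A K] [IsFractionRing A K]
    [CharP (IsLocalRing.ResidueField A) p] (π : A) (hπ : IsLocalRing.maximalIdeal A = Ideal.span {π})
    (n : ℕ) (hn : 1 < n) (k : ℕ) :
    ∃ (L : Type u) (_ : Field L) (_ : Algebra K L) (_ : Algebra A L) (_ : IsScalarTower A K L),
      Module.finrank K L = p ^ k ∧ Algebra.IsSeparable K L ∧ EtRam.IsTotallyRamified A (algebraMap A L) ∧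
      ∃ πB b b' : L, πB ∈ integralClosure A L ∧ b ∈ integralClosure A L ∧ b' ∈ integralClosure A L ∧
        πB ^ (p ^ k) = algebraMap A L π + algebraMap A L π ^ n * b ∧
        πB ^ (p ^ k) = algebraMap A L π + πB ^ (n * p ^ k) * b' := by
  classical
  have hπi : Irreducible π := (IsDiscreteValuationRing.irreducible_iff_uniformizer π).2 hπ
  have hπ0 : π ≠ 0 := hπi.ne_zero
  -- reduce to an Eisenstein polynomial with a root `x` satisfying `x ^ q = π * (1 + π ^ (n - 1) * c)`
  obtain ⟨f, hfm, hfd, hfe, hfs, g, hg⟩ : ∃ f : A[X], f.Monic ∧ f.natDegree = p ^ k ∧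
      f.IsEisensteinAt (IsLocalRing.maximalIdeal A) ∧ derivative f ≠ 0 ∧
      ∃ g : A[X], f = X ^ (p ^ k) - C π - C π ^ n * g := by
    have hπm : π ∈ IsLocalRing.maximalIdeal A := hπ ▸ Ideal.mem_span_singleton_self π
    have hsq : π ∉ IsLocalRing.maximalIdeal A ^ 2 := by
      rw [hπ, Ideal.span_singleton_pow, Ideal.mem_span_singleton]
      intro h
      have h2 : π * π ∣ π * 1 := by rwa [← sq, mul_one]
      exact hπi.not_isUnit (isUnit_of_dvd_one ((mul_dvd_mul_iff_left hπ0).1 h2))
    have h1 : (1 : A) ∉ IsLocalRing.maximalIdeal A :=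
      fun h => (IsLocalRing.maximalIdeal.isMaximal A).ne_top ((Ideal.eq_top_iff_one _).2 h)
    rcases Nat.eq_or_lt_of_le (Nat.one_le_pow k p hp.pos) with hq | hq
    · refine ⟨X - C π, monic_X_sub_C π, by rw [natDegree_X_sub_C, hq], ⟨?_, fun {i} hi => ?_, ?_⟩,
        by simp [derivative_sub], 0, by rw [← hq, pow_one]; ring⟩
      · rw [(monic_X_sub_C π).leadingCoeff]; exact h1
      · rw [natDegree_X_sub_C, Nat.lt_one_iff] at hi
        subst hi
        simpa using hπm
      · simpa using hsq
    · let f : A[X] := X ^ (p ^ k) + (C (π ^ n) * X - C π)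
      have hlt : (C (π ^ n) * X - C π : A[X]).degree < ((p ^ k : ℕ) : WithBot ℕ) := by
        refine (degree_sub_le _ _).trans_lt (max_lt ((degree_mul_le _ _).trans_lt ?_) (degree_C_le.trans_lt ?_))
        · rw [degree_C (pow_ne_zero n hπ0), degree_X, zero_add]
          exact_mod_cast hq
        · exact_mod_cast Nat.zero_lt_of_lt hq
      have hfm : f.Monic := monic_X_pow_add hlt
      have hfd : f.natDegree = p ^ k := natDegree_eq_of_degree_eq_some (by
        rw [degree_add_eq_left_of_degree_lt (by rwa [degree_X_pow]), degree_X_pow])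
      refine ⟨f, hfm, hfd, ⟨?_, fun {i} hi => ?_, ?_⟩, fun h => pow_ne_zero n hπ0 ?_, -X, by
        simp [f, map_pow]; ring⟩
      · rw [hfm.leadingCoeff]; exact h1
      · rw [hfd] at hi
        simp only [f, coeff_add, coeff_sub, coeff_X_pow, if_neg hi.ne, zero_add]
        refine sub_mem ?_ ?_
        · rw [coeff_C_mul]; exact Ideal.mul_mem_right _ _ (Ideal.pow_mem_of_mem _ hπm n (by omega))
        · rw [coeff_C]; split_ifs <;> simp [hπm]
      · simpa [f, coeff_X_pow, show (0 : ℕ) ≠ p ^ k by omega] using hsq
      · have h0 := congrArg (fun g : A[X] => g.coeff 0) h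
        simp [f, coeff_derivative, coeff_X_pow, show 1 ≠ p ^ k by omega] at h0
        rwa [← C_pow, coeff_C_zero] at h0
  have hirr : Irreducible f := hfe.irreducible (IsLocalRing.maximalIdeal.isMaximal A).isPrime hfm.isPrimitive
    (by rw [hfd]; exact pow_pos hp.pos k)
  let fK := f.map (algebraMap A K)
  haveI : Fact (Irreducible fK) := ⟨(hfm.irreducible_iff_irreducible_map_fraction_map (K := K)).1 hirr⟩
  let L := AdjoinRoot fK
  have hfKd : fK.natDegree = p ^ k := by rw [hfm.natDegree_map, hfd]
  haveI : FiniteDimensional K L := (AdjoinRoot.powerBasis (hfm.map _).ne_zero).finite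
  have hsep : fK.Separable := (separable_iff_derivative_ne_zero (Fact.out : Irreducible fK)).2 (by
    rw [show derivative fK = (derivative f).map (algebraMap A K) from derivative_map ..]
    exact (Polynomial.map_ne_zero_iff (IsFractionRing.injective A K)).2 hfs)
  let pb := AdjoinRoot.powerBasis (hfm.map (algebraMap A K)).ne_zero
  let x : L := AdjoinRoot.root fK
  let bs : Module.Basis (Fin (p ^ k)) K L := pb.basis.reindex (finCongr hfKd)
  have hbs : ∀ i, bs i = x ^ (i : ℕ) := fun i => by
    rw [Module.Basis.reindex_apply, pb.basis_eq_pow]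
    rfl
  have hfx : aeval x f = 0 := by
    rw [← aeval_map_algebraMap K]
    exact (AdjoinRoot.aeval_eq fK).trans AdjoinRoot.mk_self
  have hx : IsIntegral A x := ⟨f, hfm, hfx⟩
  have hxK : Algebra.IsSeparable K L := by
    have hxs : IsSeparable K x := hsep.of_dvd (minpoly.dvd K x (by rw [aeval_map_algebraMap]; exact hfx))
    have htop : IntermediateField.adjoin K ({x} : Set L) = ⊤ := by
      rw [eq_top_iff]
      intro z _
      exact IntermediateField.algebra_adjoin_le_adjoin _ _ (by rw [AdjoinRoot.adjoinRoot_eq_top]; exact Algebra.mem_top)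
    haveI := (IntermediateField.isSeparable_adjoin_simple_iff_isSeparable K L).2 hxs
    exact AlgEquiv.Algebra.isSeparable ((IntermediateField.equivOfEq htop).trans IntermediateField.topEquiv)
  have hg' : IsIntegral A (aeval x g) := Algebra.adjoin_le (S := integralClosure A L)
    (Set.singleton_subset_iff.2 hx) (Polynomial.aeval_mem_adjoin_singleton A x)
  have hπn : algebraMap A L π * algebraMap A L π ^ (n - 1) = algebraMap A L π ^ n := by
    rw [← pow_succ']; congr 1; omega
  have hxq' : x ^ (p ^ k) = algebraMap A L π + algebraMap A L π ^ n * aeval x g := by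
    rw [hg] at hfx
    simp only [map_sub, map_pow, map_mul, aeval_X, aeval_C] at hfx
    linear_combination hfx
  have hxq : x ^ (p ^ k) = algebraMap A L π * (1 + algebraMap A L π ^ (n - 1) * aeval x g) := by
    rw [hxq', mul_add, mul_one, ← mul_assoc, hπn]
  obtain ⟨htr, hinv⟩ := TotRam.main hπi x bs hbs hx hg' (j := n - 1) (by omega) hxq
  refine ⟨L, inferInstance, inferInstance, inferInstance, inferInstance,
    (AdjoinRoot.powerBasis (hfm.map _).ne_zero).finrank.trans hfKd, hxK, htr, x, aeval x g,
    (1 + algebraMap A L π ^ (n - 1) * aeval x g)⁻¹ ^ n * aeval x g,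
    hx, hg', (hinv.pow n).mul hg', hxq', ?_⟩
  have hx0 : (1 + algebraMap A L π ^ (n - 1) * aeval x g) ≠ 0 := fun h => by
    rw [h, mul_zero] at hxq
    have := eq_zero_of_pow_eq_zero hxq
    have h0 : aeval x f = aeval (0 : L) f := by rw [this]
    rw [hfx, Polynomial.aeval_def, Polynomial.eval₂_at_zero] at h0
    exact hfe.notMem (by
      rw [show f.coeff 0 = 0 from (map_eq_zero_iff _ (show Function.Injective (algebraMap A L) by
        rw [IsScalarTower.algebraMap_eq A K L]
        exact (algebraMap K L).injective.comp (IsFractionRing.injective A K))).1 h0.symm]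
      exact zero_mem _)
  have h1 : algebraMap A L π ^ n = x ^ (n * p ^ k) * (1 + algebraMap A L π ^ (n - 1) * aeval x g)⁻¹ ^ n := by
    rw [mul_comm n, pow_mul, hxq, ← mul_pow, mul_inv_cancel_right₀ hx0]
  rw [← mul_assoc, ← h1]
  exact hxq'

end Groth.Agent.S7157
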