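import Groth.Statements.S7150
import Groth.Agent.FSField.Basic
import Groth.Agent.S2451
import Mathlib

set_option autoImplicit false
universe u
open EtAlg

namespace Groth.Agent.S7150

/-- Suppose p is a prime with p·1 = 0 in the local ring A and some power of the maximal ideal of A is
zero. Then the residue map A → κ_A has a section σ : κ_A → A that is a ring map. If moreover A → A'
is a local homomorphism to another local ring whose maximal ideal has a vanishing power, and the
residue field extension κ_{A'}/κ_A is separable (possibly transcendental, i.e. geometrically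
reduced), then for any such σ there is a section σ' : κ_{A'} → A' compatible with σ. -/
theorem result (p : ℕ) (hp : p.Prime) (A : Type u) [CommRing A]
    [IsLocalRing A] [CharP A p] (hnil : ∃ n : ℕ, IsLocalRing.maximalIdeal A ^ n = ⊥) :
    (∃ σ : IsLocalRing.ResidueField A →+* A, (IsLocalRing.residue A).comp σ = RingHom.id _) ∧
    ∀ (A' : Type u) [CommRing A'] [IsLocalRing A'] [Algebra A A'] [IsLocalHom (algebraMap A A')],
      (∃ n : ℕ, IsLocalRing.maximalIdeal A' ^ n = ⊥) →
      Algebra.IsGeometricallyReduced (IsLocalRing.ResidueField A) (IsLocalRing.ResidueField A') →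
      ∀ σ : IsLocalRing.ResidueField A →+* A, (IsLocalRing.residue A).comp σ = RingHom.id _ →
        ∃ σ' : IsLocalRing.ResidueField A' →+* A', (IsLocalRing.residue A').comp σ' = RingHom.id _ ∧
          σ'.comp (IsLocalRing.ResidueField.map (algebraMap A A')) = (algebraMap A A').comp σ := by
  classical
  haveI : Fact p.Prime := ⟨hp⟩
  obtain ⟨n, hn⟩ := hnil
  refine ⟨?_, fun A' _ _ _ _ hnil' hgr σ hσ => ?_⟩
  · letI : Algebra (ZMod p) A := ZMod.algebra A p
    haveI : Algebra.FormallySmooth (ZMod p) (IsLocalRing.ResidueField A) :=
      Groth.Agent.FSField.formallySmooth_of_perfectField _ _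
    let g : IsLocalRing.ResidueField A →ₐ[ZMod p] (A ⧸ IsLocalRing.maximalIdeal A) :=
      { RingHom.id (IsLocalRing.ResidueField A) with
        commutes' := fun r => by
          show algebraMap (ZMod p) (IsLocalRing.ResidueField A) r = algebraMap (ZMod p) (A ⧸ IsLocalRing.maximalIdeal A) r
          exact RingHom.congr_fun (RingHom.ext_zmod (algebraMap (ZMod p) (IsLocalRing.ResidueField A))
            (algebraMap (ZMod p) (A ⧸ IsLocalRing.maximalIdeal A) : ZMod p →+* IsLocalRing.ResidueField A)) r }
    refine ⟨(Algebra.FormallySmooth.lift (IsLocalRing.maximalIdeal A) ⟨n, hn⟩ g).toRingHom, ?_⟩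
    ext x
    exact Algebra.FormallySmooth.mk_lift _ ⟨n, hn⟩ g x
  · obtain ⟨n', hn'⟩ := hnil'
    letI : Algebra (IsLocalRing.ResidueField A) A' := ((algebraMap A A').comp σ).toAlgebra
    haveI : Algebra.FormallySmooth (IsLocalRing.ResidueField A) (IsLocalRing.ResidueField A') :=
      Groth.Agent.S2451.result.2 hgr
    let g : IsLocalRing.ResidueField A' →ₐ[IsLocalRing.ResidueField A] (A' ⧸ IsLocalRing.maximalIdeal A') :=
      { RingHom.id (IsLocalRing.ResidueField A') with
        commutes' := fun r => by
          show algebraMap (IsLocalRing.ResidueField A) (IsLocalRing.ResidueField A') r =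
            IsLocalRing.residue A' (algebraMap A A' (σ r))
          rw [← IsLocalRing.ResidueField.map_residue]
          have h1 : IsLocalRing.residue A (σ r) = r := RingHom.congr_fun hσ r
          rw [h1]; rfl }
    let s := Algebra.FormallySmooth.lift (IsLocalRing.maximalIdeal A') ⟨n', hn'⟩ g
    refine ⟨s.toRingHom, ?_, ?_⟩
    · ext x
      exact Algebra.FormallySmooth.mk_lift _ ⟨n', hn'⟩ g x
    · ext x
      exact s.commutes x

end Groth.Agent.S7150
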