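import Mathlib

/-! Over an absolutely flat ring with algebraically closed residue fields, the reduction of a
finitely presented quasi-finite algebra is finite etale. -/

universe u

open scoped TensorProduct

namespace Groth.Agent.EtThickSplit

attribute [local instance] Ideal.Quotient.field

variable {A B : Type u} [CommRing A] [CommRing B] [Algebra A B]

theorem exists_split_fibre (p : Ideal A) [p.IsMaximal] [Algebra.QuasiFinite A B]
    [IsAlgClosed (A ⧸ p)] :
    ∃ (n : ℕ) (χ : B →ₐ[A] (Fin n → A ⧸ p)), Function.Surjective χ ∧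
      ∀ y, χ y = 0 → ∃ N, y ^ N ∈ p.map (algebraMap A B) := by
  classical
  let C := (A ⧸ p) ⊗[A] B
  haveI : Module.Finite (A ⧸ p) C := Module.Finite.of_quasiFinite
  haveI : IsArtinianRing C := IsArtinianRing.of_finite (A ⧸ p) C
  haveI := Fintype.ofFinite (MaximalSpectrum C)
  let e := Fintype.equivFin (MaximalSpectrum C)
  let κ : ∀ m : MaximalSpectrum C, (C →ₐ[A ⧸ p] A ⧸ p) := fun m =>
    haveI := m.isMaximal
    haveI : Module.Finite (A ⧸ p) (C ⧸ m.asIdeal) :=
      Module.Finite.of_surjective (Ideal.Quotient.mkₐ (A ⧸ p) m.asIdeal).toLinearMap Ideal.Quotient.mk_surjective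
    haveI : Algebra.IsIntegral (A ⧸ p) (C ⧸ m.asIdeal) := Algebra.IsIntegral.of_finite _ _
    (AlgEquiv.ofBijective (Algebra.ofId (A ⧸ p) (C ⧸ m.asIdeal))
      (IsAlgClosed.algebraMap_bijective_of_isIntegral (k := A ⧸ p) (K := C ⧸ m.asIdeal))).symm.toAlgHom.comp (Ideal.Quotient.mkₐ (A ⧸ p) m.asIdeal)
  have hκ : ∀ m c, algebraMap (A ⧸ p) (C ⧸ m.asIdeal) (κ m c) = Ideal.Quotient.mk m.asIdeal c := by
    intro m c
    haveI := m.isMaximal
    haveI : Module.Finite (A ⧸ p) (C ⧸ m.asIdeal) :=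
      Module.Finite.of_surjective (Ideal.Quotient.mkₐ (A ⧸ p) m.asIdeal).toLinearMap Ideal.Quotient.mk_surjective
    haveI : Algebra.IsIntegral (A ⧸ p) (C ⧸ m.asIdeal) := Algebra.IsIntegral.of_finite _ _
    exact AlgEquiv.apply_symm_apply (AlgEquiv.ofBijective (Algebra.ofId (A ⧸ p) (C ⧸ m.asIdeal))
      (IsAlgClosed.algebraMap_bijective_of_isIntegral (k := A ⧸ p) (K := C ⧸ m.asIdeal))) _
  let ι' : B →ₐ[A] C := Algebra.TensorProduct.includeRight
  let χ : B →ₐ[A] (Fin (Fintype.card (MaximalSpectrum C)) → A ⧸ p) :=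
    AlgHom.pi fun i => ((κ (e.symm i)).restrictScalars A).comp ι'
  refine ⟨_, χ, ?_, ?_⟩
  · intro v
    obtain ⟨c', hc'⟩ := (IsArtinianRing.quotNilradicalEquivPi C).surjective
      (fun m => algebraMap (A ⧸ p) (C ⧸ m.asIdeal) (v (e m)))
    obtain ⟨c, rfl⟩ := Ideal.Quotient.mk_surjective c'
    obtain ⟨y, rfl⟩ := Algebra.TensorProduct.includeRight_surjective (R := A) (S := A ⧸ p) B Ideal.Quotient.mk_surjective c
    refine ⟨y, funext fun i => ?_⟩
    haveI := (e.symm i).isMaximal
    refine (algebraMap (A ⧸ p) (C ⧸ (e.symm i).asIdeal)).injective ?_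
    show algebraMap _ _ (κ (e.symm i) (ι' y)) = _
    rw [hκ]
    refine (congr_fun hc' (e.symm i)).trans ?_
    simp
  · intro y hy
    have h1 : ∀ m : MaximalSpectrum C, ι' y ∈ m.asIdeal := fun m => by
      rw [← Ideal.Quotient.eq_zero_iff_mem, ← hκ]
      have := congr_fun hy (e m)
      simp only [χ, AlgHom.pi_apply, AlgHom.comp_apply, AlgHom.restrictScalars_apply, Equiv.symm_apply_apply, Pi.zero_apply] at this
      rw [this, map_zero]
    have h2 : IsNilpotent (ι' y) := mem_nilradical.1 (by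
      rw [IsArtinianRing.nilradical_eq_iInf, Ideal.mem_iInf]; exact h1)
    obtain ⟨N, hN⟩ := h2
    refine ⟨N, Ideal.Quotient.eq_zero_iff_mem.1 ?_⟩
    let lft : A ⧸ p →ₐ[A] B ⧸ p.map (algebraMap A B) :=
      Ideal.Quotient.liftₐ p (Algebra.ofId A _) fun a ha =>
        Ideal.Quotient.eq_zero_iff_mem.2 (Ideal.mem_map_of_mem _ ha)
    let Λ : C →ₐ[A] B ⧸ p.map (algebraMap A B) :=
      Algebra.TensorProduct.lift lft (Ideal.Quotient.mkₐ A _) fun _ _ => Commute.all _ _
    have hΛ : ∀ z, Λ (ι' z) = Ideal.Quotient.mk _ z := fun z => by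
      show Algebra.TensorProduct.lift lft _ _ (1 ⊗ₜ z) = _
      rw [Algebra.TensorProduct.lift_tmul, map_one, one_mul]
      rfl
    rw [← hΛ, map_pow, hN, map_zero]

variable (A) in
theorem exists_idem (h0 : ∀ a : A, ∃ b, a * a * b = a) (g : A) :
    ∃ e, IsIdempotentElem e ∧ (∃ b, e = g * b) ∧ g * e = g := by
  obtain ⟨b, hb⟩ := h0 g
  refine ⟨g * b, ?_, ⟨b, rfl⟩, by linear_combination hb⟩
  show g * b * (g * b) = g * b
  linear_combination b * hb

theorem exists_kill (h0 : ∀ a : A, ∃ b, a * a * b = a) (p : Ideal A) [p.IsPrime] {a : A}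
    (ha : a ∈ p) : ∃ g ∉ p, g * a = 0 := by
  obtain ⟨b, hb⟩ := h0 a
  refine ⟨1 - a * b, fun h => ?_, by linear_combination -hb⟩
  exact ‹p.IsPrime›.ne_top ((Ideal.eq_top_iff_one p).2 (by simpa using p.add_mem h (p.mul_mem_right b ha)))

theorem exists_kill_map (h0 : ∀ a : A, ∃ b, a * a * b = a) (p : Ideal A) [p.IsPrime] {z : B}
    (hz : z ∈ p.map (algebraMap A B)) : ∃ g ∉ p, g • z = 0 := by
  rw [Ideal.map] at hz
  induction hz using Submodule.span_induction with
  | mem z hz =>
    obtain ⟨a, ha, rfl⟩ := hz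
    obtain ⟨g, hg, h⟩ := exists_kill h0 p ha
    exact ⟨g, hg, by rw [Algebra.smul_def, ← map_mul, h, map_zero]⟩
  | zero => exact ⟨1, fun h => ‹p.IsPrime›.ne_top ((Ideal.eq_top_iff_one p).2 h), smul_zero _⟩
  | add x y _ _ hx hy =>
    obtain ⟨g, hg, hx⟩ := hx
    obtain ⟨g', hg', hy⟩ := hy
    refine ⟨g * g', fun h => (‹p.IsPrime›.mem_or_mem h).elim hg hg', ?_⟩
    rw [smul_add, mul_smul g g' y, hy, smul_zero, add_zero, mul_comm g, mul_smul, hx, smul_zero]
  | smul c x _ hx =>
    obtain ⟨g, hg, hx⟩ := hx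
    exact ⟨g, hg, by rw [smul_eq_mul, ← mul_smul_comm, hx, mul_zero]⟩

theorem prod_nmem {ι : Type*} [Fintype ι] (p : Ideal A) [p.IsPrime] (c : ι → A) (hc : ∀ i, c i ∉ p) :
    ∏ i, c i ∉ p :=
  Submonoid.prod_mem p.primeCompl fun i _ => hc i

theorem prod_nmem₂ {ι κ : Type*} [Fintype ι] [Fintype κ] (p : Ideal A) [p.IsPrime] (c : ι → κ → A)
    (hc : ∀ i k, c i k ∉ p) : ∏ i, ∏ k, c i k ∉ p :=
  prod_nmem p _ fun i => prod_nmem p _ (hc i)

theorem dvd_prod₂ {ι κ : Type*} [Fintype ι] [Fintype κ] (c : ι → κ → A) (i : ι) (k : κ) :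
    c i k ∣ ∏ i, ∏ k, c i k :=
  (Finset.dvd_prod_of_mem (c i) (Finset.mem_univ k)).trans
    (Finset.dvd_prod_of_mem (fun i => ∏ k, c i k) (Finset.mem_univ i))

set_option maxHeartbeats 1000000 in
theorem nhd_split [IsReduced A] [Algebra.FinitePresentation A B] [Algebra.QuasiFinite A B]
    (h0 : ∀ a : A, ∃ b, a * a * b = a) (hK : ∀ (p : Ideal A) [p.IsMaximal], IsAlgClosed (A ⧸ p))
    (p : Ideal A) [p.IsMaximal] :
    ∃ e ∉ p, (Localization.awayMap (algebraMap A (B ⧸ nilradical B)) e).Finite ∧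
      (Localization.awayMap (algebraMap A (B ⧸ nilradical B)) e).Etale := by
  classical
  haveI := hK p
  obtain ⟨n, χ, hχ, hker⟩ := exists_split_fibre (B := B) p
  obtain ⟨m, f, hf, s, hs⟩ := Algebra.FinitePresentation.out (R := A) (A := B)
  choose a ha using fun (i : Fin n) (j : Fin m) => Ideal.Quotient.mk_surjective (χ (f (MvPolynomial.X j)) i)
  have hev : ∀ i P, Ideal.Quotient.mk p (MvPolynomial.eval (a i) P) = χ (f P) i := by
    intro i P
    have : (Ideal.Quotient.mkₐ A p).comp (MvPolynomial.aeval (a i)) =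
        ((Pi.evalAlgHom A _ i).comp χ).comp f := by
      apply MvPolynomial.algHom_ext
      intro j; simp [ha]
    simpa [MvPolynomial.aeval_def] using congr($this P)
  choose b hb using fun k : Fin n => hχ (Pi.single k 1)
  choose P hP using fun k : Fin n => hf (b k)
  have killA : ∀ z ∈ p, ∃ g ∉ p, g * z = 0 := fun z => exists_kill h0 p
  have killB : ∀ y : B, χ y = 0 → ∃ g ∉ p, IsNilpotent (g • y) := by
    intro y hy
    obtain ⟨N, hN⟩ := hker y hy
    obtain ⟨g, hg, h⟩ := exists_kill_map h0 p hN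
    refine ⟨g, hg, N + 1, ?_⟩
    rw [smul_pow, pow_succ g, pow_succ y, mul_smul, ← smul_mul_assoc g (y ^ N), h, zero_mul, smul_zero]
  -- the finitely many elements to be killed
  have k1 : ∀ (i : Fin n) (r : s), ∃ g ∉ p, g * MvPolynomial.eval (a i) r.1 = 0 := by
    intro i r
    refine killA _ (Ideal.Quotient.eq_zero_iff_mem.1 ?_)
    have hr : f r.1 = 0 := by
      show r.1 ∈ RingHom.ker f.toRingHom
      rw [← hs]; exact Ideal.subset_span r.2
    rw [hev, hr, map_zero]; rfl
  have k2 : ∀ i k : Fin n, ∃ g ∉ p, g * (MvPolynomial.eval (a i) (P k) - (if i = k then 1 else 0)) = 0 := by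
    intro i k
    refine killA _ (Ideal.Quotient.eq_zero_iff_mem.1 ?_)
    rw [map_sub, hev, hP, hb]
    split <;> simp_all [Pi.single_apply]
  have k3 : ∀ i k : Fin n, ∃ g ∉ p, IsNilpotent (g • (b i * b k - if i = k then b i else 0)) := by
    intro i k
    refine killB _ ?_
    rw [map_sub, map_mul, hb, hb]
    split
    · subst ‹i = k›; rw [hb, ← Pi.single_mul, one_mul, sub_self]
    · rw [map_zero, sub_zero]; ext j; simp [Pi.single_apply]; aesop
  have k4 : ∀ j : Fin m, ∃ g ∉ p, IsNilpotent (g • (f (MvPolynomial.X j) - ∑ i, a i j • b i)) := by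
    intro j
    refine killB _ ?_
    ext i
    simp [map_sum, hb, Pi.single_apply, Algebra.smul_def, ha]
  have k5 : ∃ g ∉ p, IsNilpotent (g • (1 - ∑ i, b i)) := by
    refine killB _ ?_
    ext i; simp [map_sum, hb, Pi.single_apply]
  choose g1 g1p g1h using k1
  choose g2 g2p g2h using k2
  choose g3 g3p g3h using k3
  choose g4 g4p g4h using k4
  obtain ⟨g5, g5p, g5h⟩ := k5
  obtain ⟨G, hG, d1, d2, d3, d4, d5⟩ : ∃ G ∉ p, (∀ i r, g1 i r ∣ G) ∧ (∀ i r, g2 i r ∣ G) ∧
      (∀ i r, g3 i r ∣ G) ∧ (∀ j, g4 j ∣ G) ∧ g5 ∣ G := by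
    let G := (∏ i, ∏ r, g1 i r) * (∏ i, ∏ k, g2 i k) * (∏ i, ∏ k, g3 i k) * (∏ j, g4 j) * g5
    have hp : p.IsPrime := inferInstance
    have hG : G ∉ p := by
      refine fun h => ?_
      rcases hp.mem_or_mem h with h | h
      · rcases hp.mem_or_mem h with h | h
        · rcases hp.mem_or_mem h with h | h
          · rcases hp.mem_or_mem h with h | h
            · exact prod_nmem₂ p _ g1p h
            · exact prod_nmem₂ p _ g2p h
          · exact prod_nmem₂ p _ g3p h
        · exact prod_nmem p _ g4p h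
      · exact g5p h
    have d1 : ∀ i r, g1 i r ∣ G := fun i r =>
      ((((dvd_prod₂ g1 i r).mul_right _).mul_right _).mul_right _).mul_right _
    have d2 : ∀ i r, g2 i r ∣ G := fun i r =>
      ((((dvd_prod₂ g2 i r).mul_left _).mul_right _).mul_right _).mul_right _
    have d3 : ∀ i r, g3 i r ∣ G := fun i r =>
      (((dvd_prod₂ g3 i r).mul_left _).mul_right _).mul_right _
    have d4 : ∀ j, g4 j ∣ G := fun j =>
      ((Finset.dvd_prod_of_mem g4 (Finset.mem_univ j)).mul_left _).mul_right _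
    have d5 : g5 ∣ G := dvd_mul_left _ _
    exact ⟨G, hG, d1, d2, d3, d4, d5⟩
  refine ⟨G, hG, ?_⟩
  let T := Localization.Away G
  let q : B →ₐ[A] (B ⧸ nilradical B) := Ideal.Quotient.mkₐ A _
  let Q := Localization.Away (algebraMap A (B ⧸ nilradical B) G)
  let F : T →+* Q := Localization.awayMap (algebraMap A (B ⧸ nilradical B)) G
  let j : B →+* Q := (algebraMap (B ⧸ nilradical B) Q).comp q.toRingHom
  have hFj : ∀ x : A, F (algebraMap A T x) = j (algebraMap A B x) := by
    intro x
    simp only [F, j, T, Localization.awayMap, IsLocalization.Away.map, IsLocalization.map_eq,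
      RingHom.comp_apply, AlgHom.toRingHom_eq_coe, RingHom.coe_coe, AlgHom.commutes]
    exact congrArg _ (q.commutes x).symm
  have hu : IsUnit (algebraMap A T G) := IsLocalization.Away.algebraMap_isUnit G
  have dT : ∀ {g z : A}, g ∣ G → g * z = 0 → algebraMap A T z = 0 := by
    rintro g z ⟨c, hc⟩ h
    have h0' : G * z = 0 := by rw [hc, mul_right_comm, h, zero_mul]
    refine (hu.mul_right_eq_zero).1 ?_
    rw [← map_mul, h0', map_zero]
  have dQ : ∀ {g : A} {y : B}, g ∣ G → IsNilpotent (g • y) → j y = 0 := by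
    rintro g y ⟨c, hc⟩ h
    have hu' : IsUnit (j (algebraMap A B G)) := by rw [← hFj]; exact hu.map F
    have : q (g • y) = 0 := Ideal.Quotient.eq_zero_iff_mem.2 (mem_nilradical.2 h)
    have h' : j (algebraMap A B g) * j y = 0 := by
      rw [← map_mul, ← Algebra.smul_def]
      show algebraMap _ Q (q (g • y)) = 0
      rw [this, map_zero]
    have h2 : j (algebraMap A B G) = j (algebraMap A B g) * j (algebraMap A B c) := by
      rw [← map_mul, ← map_mul, ← hc]
    rw [h2] at hu'
    exact (isUnit_of_mul_isUnit_left hu').mul_right_eq_zero.1 h'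
  have φex : ∀ i : Fin n, ∃ φ : B →+* T, ∀ R, φ (f R) = algebraMap A T (MvPolynomial.eval (a i) R) := by
    intro i
    let ev : MvPolynomial (Fin m) A →+* T := (algebraMap A T).comp (MvPolynomial.eval (a i))
    have hle : RingHom.ker f.toRingHom ≤ RingHom.ker ev := by
      rw [← hs, Ideal.span_le]
      exact fun r hr => dT (d1 i ⟨r, hr⟩) (g1h i ⟨r, hr⟩)
    exact ⟨RingHom.liftOfSurjective f.toRingHom hf ⟨ev, hle⟩,
      fun R => RingHom.liftOfRightInverse_comp_apply _ _ _ ⟨ev, hle⟩ R⟩
  choose φ hφ using φex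
  have hφb : ∀ i k, φ i (b k) = if i = k then 1 else 0 := by
    intro i k
    have := dT (d2 i k) (g2h i k)
    rw [map_sub, sub_eq_zero] at this
    rw [← hP, hφ, this, apply_ite (algebraMap A T), map_one, map_zero]
  have horth : ∀ i k, j (b i) * j (b k) = if i = k then j (b i) else 0 := by
    intro i k
    have := dQ (d3 i k) (g3h i k)
    rw [map_sub, sub_eq_zero, map_mul] at this
    rw [this, apply_ite j, map_zero]
  have hone : ∑ i, j (b i) = 1 := by
    have := dQ d5 g5h
    rw [map_sub, map_one, map_sum, sub_eq_zero] at this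
    exact this.symm
  have hgen : ∀ l, j (f (MvPolynomial.X l)) = ∑ i, F (algebraMap A T (a i l)) * j (b i) := by
    intro l
    have := dQ (d4 l) (g4h l)
    rw [map_sub, sub_eq_zero, map_sum] at this
    rw [this]
    simp [hFj, Algebra.smul_def]
  let ψ : (Fin n → T) →+* Q :=
    { toFun := fun c => ∑ i, F (c i) * j (b i)
      map_one' := by simp [hone]
      map_zero' := by simp
      map_add' := fun c d => by simp [add_mul, Finset.sum_add_distrib]
      map_mul' := fun c d => by
        simp only [Finset.sum_mul_sum, Pi.mul_apply, map_mul]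
        refine Finset.sum_congr rfl fun i _ => ?_
        rw [Finset.sum_eq_single i]
        · rw [mul_mul_mul_comm, horth, if_pos rfl]
        · intro k _ hk; rw [mul_mul_mul_comm, horth, if_neg (Ne.symm hk), mul_zero]
        · simp }
  have hψF : ψ.comp (algebraMap T (Fin n → T)) = F := by
    ext x
    simp [ψ, ← Finset.mul_sum, hone]
  have hjmem : ∀ R : MvPolynomial (Fin m) A, j (f R) ∈ ψ.range := by
    intro R
    induction R using MvPolynomial.induction_on with
    | C x => exact ⟨algebraMap T _ (algebraMap A T x), by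
        rw [← RingHom.comp_apply, hψF, hFj, ← MvPolynomial.algebraMap_eq, AlgHom.commutes]⟩
    | add x y hx hy => rw [map_add, map_add]; exact add_mem hx hy
    | mul_X x l hx =>
      rw [map_mul, map_mul]
      exact mul_mem hx ⟨fun i => algebraMap A T (a i l), (hgen l).symm⟩
  have hsurj : Function.Surjective ψ := by
    intro z
    obtain ⟨N, x, hx⟩ := IsLocalization.Away.surj (algebraMap A (B ⧸ nilradical B) G) z
    obtain ⟨y, rfl⟩ := Ideal.Quotient.mk_surjective x
    obtain ⟨R, rfl⟩ := hf y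
    obtain ⟨c, hc⟩ := hjmem R
    obtain ⟨u, hu'⟩ := hu
    refine ⟨c * algebraMap T _ ((↑u⁻¹ : T) ^ N), ?_⟩
    rw [map_mul, hc, ← RingHom.comp_apply, hψF, map_pow]
    rw [show j (f R) = algebraMap (B ⧸ nilradical B) Q (Ideal.Quotient.mk (nilradical B) (f R)) from rfl,
      ← hx, mul_assoc, ← mul_pow]
    have : algebraMap (B ⧸ nilradical B) Q (algebraMap A _ G) = F (↑u : T) := by
      rw [hu']; simp [F, T, Localization.awayMap, IsLocalization.Away.map]; rfl
    rw [this, ← map_mul, Units.mul_inv, map_one, one_pow, mul_one]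
  have hnil : ∀ (i : Fin n), ∀ y ∈ nilradical B, φ i y = 0 := by
    intro i y hy
    haveI : IsReduced T := inferInstance
    exact ((mem_nilradical.1 hy).map (φ i)).eq_zero
  let θ : Fin n → (Q →+* T) := fun i =>
    IsLocalization.Away.lift (algebraMap A (B ⧸ nilradical B) G)
      (g := Ideal.Quotient.lift (nilradical B) (φ i) (hnil i))
      (by
        show IsUnit (φ i (algebraMap A B G))
        rw [← AlgHom.commutes f G, hφ]
        simpa [MvPolynomial.algebraMap_eq] using hu)
  have hθj : ∀ i y, θ i (j y) = φ i y := by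
    intro i y
    simp [θ, j, q]
  have hθF : ∀ i, (θ i).comp F = RingHom.id T := by
    intro i
    apply IsLocalization.ringHom_ext (Submonoid.powers G)
    ext x
    simp only [RingHom.comp_apply, hFj, hθj, RingHom.id_apply]
    rw [← AlgHom.commutes f x, hφ]; simp [MvPolynomial.algebraMap_eq]
  have hinj : Function.Injective ψ := by
    refine (injective_iff_map_eq_zero _).2 fun c hc => ?_
    ext i
    have := congrArg (θ i) hc
    simp only [ψ, RingHom.coe_mk, MonoidHom.coe_mk, OneHom.coe_mk, map_sum, map_mul, map_zero, hθj, hφb] at this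
    have h2 : ∀ x, θ i (F x) = x := fun x => congr($(hθF i) x)
    simpa [h2] using this
  have hbij : Function.Bijective ψ := ⟨hinj, hsurj⟩
  constructor
  · show F.Finite
    rw [← hψF]
    exact RingHom.Finite.comp (RingHom.Finite.of_surjective _ hsurj) (RingHom.finite_algebraMap.2 inferInstance)
  · show F.Etale
    rw [← hψF]
    refine RingHom.Etale.stableUnderComposition _ _ ?_ (RingHom.Etale.of_bijective hbij)
    exact RingHom.etale_algebraMap.2
      ⟨Algebra.FormallyEtale.pi_iff _ |>.2 fun _ => inferInstance, Algebra.FinitePresentation.of_finitePresentation _ _⟩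

theorem finite_etale [IsReduced A] [Algebra.FinitePresentation A B] [Algebra.QuasiFinite A B]
    (h0 : ∀ a : A, ∃ b, a * a * b = a) (hK : ∀ (p : Ideal A) [p.IsMaximal], IsAlgClosed (A ⧸ p)) :
    (algebraMap A (B ⧸ nilradical B)).Finite ∧ (algebraMap A (B ⧸ nilradical B)).Etale := by
  let s : Set A := {e | (Localization.awayMap (algebraMap A (B ⧸ nilradical B)) e).Finite ∧
      (Localization.awayMap (algebraMap A (B ⧸ nilradical B)) e).Etale}
  have hs : Ideal.span s = ⊤ := by
    by_contra h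
    obtain ⟨p, hp, hle⟩ := Ideal.exists_le_maximal _ h
    haveI := hp
    obtain ⟨e, he, h1⟩ := nhd_split (B := B) h0 hK p
    exact he (hle (Ideal.subset_span h1))
  exact ⟨RingHom.finite_ofLocalizationSpan _ s hs fun r => r.2.1,
    RingHom.Etale.ofLocalizationSpan _ s hs fun r => r.2.2⟩

section prod

variable {ι : Type u} (K : ι → Type u) [∀ i, Field (K i)]

theorem pi_vonNeumann (a : ∀ i, K i) : ∃ b, a * a * b = a :=
  ⟨fun i => (a i)⁻¹, funext fun i => by by_cases h : a i = 0 <;> simp [h]⟩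

theorem pi_isAlgClosed [∀ i, IsAlgClosed (K i)] (p : Ideal (∀ i, K i)) [p.IsMaximal] :
    IsAlgClosed ((∀ i, K i) ⧸ p) := by
  refine IsAlgClosed.of_exists_root _ fun P hP hPi => ?_
  obtain ⟨R, hR, hdeg, hRm⟩ := Polynomial.lifts_and_degree_eq_and_monic
    (Polynomial.map_surjective (Ideal.Quotient.mk p) Ideal.Quotient.mk_surjective P) hP
  have hne : P.degree ≠ 0 := (Polynomial.degree_pos_of_irreducible hPi).ne'
  have h1 : ∀ i, ∃ z : K i, (R.map (Pi.evalRingHom K i)).IsRoot z := fun i =>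
    IsAlgClosed.exists_root _ (by rw [hRm.degree_map, hdeg]; exact hne)
  choose z hz using h1
  refine ⟨Ideal.Quotient.mk p z, ?_⟩
  have h2 : R.eval z = 0 := funext fun i => by
    have h3 := hz i
    simp only [Polynomial.IsRoot.def, Polynomial.eval_map] at h3
    rw [← Pi.evalRingHom_apply K i (R.eval z), ← Polynomial.eval₂_at_apply]
    exact h3
  rw [← hR, Polynomial.eval_map, Polynomial.eval₂_at_apply, h2, map_zero]

end prod

end Groth.Agent.EtThickSplit
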