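import Groth.Statements.S6011


set_option autoImplicit false
set_option linter.style.haveILetI false

universe u
open CategoryTheory AlgebraicGeometry
open SGA1

namespace Groth.Agent.S6011

open CategoryTheory MonoidalCategory CartesianMonoidalCategory AlgebraicGeometry MonObj in
theorem main {S : Scheme.{u}} (G X : Over S) [GrpObj G] (a : AlgGrp.Action G X) :
    Nonempty (NonAbH1.EquivIso (NonAbH1.trivialAction G) a) ↔
      (NonAbH1.IsPseudoTorsorSch a ∧ NonAbH1.HasSectionOver X (𝟙 S)) := by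
  constructor
  · rintro ⟨⟨e, he⟩⟩
    refine ⟨?_, ⟨((η[G] : 𝟙_ (Over S) ⟶ G) ≫ e.hom).left, Over.w ((η[G] : 𝟙_ (Over S) ⟶ G) ≫ e.hom)⟩⟩
    haveI : IsIso (lift μ[G] (snd G G)) := NonAbH1.isPseudoTorsorSch_trivialAction G
    have h : lift μ[G] (snd G G) ≫ (e.hom ⊗ₘ e.hom) = (G ◁ e.hom) ≫ lift a.act (snd G X) := by
      have he' : μ[G] ≫ e.hom = (G ◁ e.hom) ≫ a.act := he
      apply CartesianMonoidalCategory.hom_ext
      · simp [he']
      · simp
    haveI : IsIso ((G ◁ e.hom) ≫ lift a.act (snd G X)) := h ▸ inferInstance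
    exact IsIso.of_isIso_comp_left (G ◁ e.hom) _
  · rintro ⟨hp, s, hs⟩
    haveI : IsIso (lift a.act (snd G X)) := hp
    let x : 𝟙_ (Over S) ⟶ X := Over.homMk s hs
    let φ : G ⟶ X := lift (𝟙 G) (toUnit G ≫ x) ≫ a.act
    let ψ : X ⟶ G := lift (𝟙 X) (toUnit X ≫ x) ≫ inv (lift a.act (snd G X)) ≫ fst G X
    have h1 : φ ≫ ψ = 𝟙 G := by
      have : lift φ (toUnit G ≫ x) = lift (𝟙 G) (toUnit G ≫ x) ≫ lift a.act (snd G X) := by
        rw [comp_lift, lift_snd]
      calc φ ≫ ψ = lift φ (toUnit G ≫ x) ≫ inv (lift a.act (snd G X)) ≫ fst G X := by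
            rw [← Category.assoc φ, comp_lift, Category.comp_id, ← Category.assoc φ, toUnit_unique (φ ≫ toUnit X) (toUnit G)]
        _ = 𝟙 G := by rw [this, Category.assoc, IsIso.hom_inv_id_assoc, lift_fst]
    have h2 : ψ ≫ φ = 𝟙 X := by
      set w := lift (𝟙 X) (toUnit X ≫ x) ≫ inv (lift a.act (snd G X)) with hw
      have hw' : w ≫ lift a.act (snd G X) = lift (𝟙 X) (toUnit X ≫ x) := by rw [hw, Category.assoc, IsIso.inv_hom_id, Category.comp_id]
      have hw1 : w ≫ a.act = 𝟙 X := by simpa using congrArg (· ≫ fst X X) hw'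
      have hw2 : w ≫ snd G X = toUnit X ≫ x := by simpa using congrArg (· ≫ snd X X) hw'
      have : ψ ≫ lift (𝟙 G) (toUnit G ≫ x) = w := by
        rw [show ψ = w ≫ fst G X from (Category.assoc _ _ _).symm, comp_lift, Category.comp_id,
          ← Category.assoc _ (toUnit G), toUnit_unique ((w ≫ fst G X) ≫ toUnit G) (toUnit X), ← hw2, ← comp_lift, lift_fst_snd, Category.comp_id]
      rw [show φ = lift (𝟙 G) (toUnit G ≫ x) ≫ a.act from rfl, ← Category.assoc, this, hw1]
    refine ⟨⟨⟨φ, ψ, h1, h2⟩, ?_⟩⟩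
    show μ[G] ≫ φ = (G ◁ φ) ≫ a.act
    have e1 : μ[G] ≫ lift (𝟙 G) (toUnit G ≫ x) = lift (μ[G]) (toUnit (G ⊗ G) ≫ x) := by
      rw [comp_lift, Category.comp_id, ← Category.assoc, toUnit_unique (μ[G] ≫ toUnit G) (toUnit _)]
    have e2 : lift (μ[G]) (toUnit (G ⊗ G) ≫ x) = lift (𝟙 (G ⊗ G)) (toUnit (G ⊗ G) ≫ x) ≫ (μ[G] ▷ X) := by
      apply CartesianMonoidalCategory.hom_ext <;> simp
    have e3 : lift (𝟙 (G ⊗ G)) (toUnit (G ⊗ G) ≫ x) ≫ (α_ G G X).hom = G ◁ lift (𝟙 G) (toUnit G ≫ x) := by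
      apply CartesianMonoidalCategory.hom_ext
      · simp
      · apply CartesianMonoidalCategory.hom_ext
        · simp
        · simp [toUnit_unique (snd G G ≫ toUnit G) (toUnit _)]
    rw [show φ = lift (𝟙 G) (toUnit G ≫ x) ≫ a.act from rfl, ← Category.assoc, e1, e2, Category.assoc, a.mul_act,
      ← Category.assoc, e3, ← Category.assoc, whiskerLeft_comp]


/-- An S-scheme X with an action of the S-group G is trivial — equivariantly isomorphic over S to G
acting on itself by translation — if and only if it is formally principal homogeneous (a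
pseudo-torsor) and admits a section over S. -/
theorem result {S : Scheme.{u}}
    (G X : Over S) [GrpObj G] (a : AlgGrp.Action G X) :
    Nonempty (NonAbH1.EquivIso (NonAbH1.trivialAction G) a) ↔
      (NonAbH1.IsPseudoTorsorSch a ∧ NonAbH1.HasSectionOver X (𝟙 S)) := by
  open MonoidalCategory CartesianMonoidalCategory MonObj in
  exact Groth.Agent.S6011.main G X a

end Groth.Agent.S6011
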