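import Groth.Statements.S9821
import Groth.Agent.NormSect.Basic

set_option autoImplicit false
universe u
open CategoryTheory CategoryTheory.Limits AlgebraicGeometry TopologicalSpace Opposite
open Props

namespace Groth.Agent.S9821

/-- An integral scheme is normal if and only if the coordinate ring of every nonempty affine open is an
integrally closed domain. -/
theorem result (X : Scheme.{u}) [IsIntegral X] :
    Pi1.IsNormalScheme X ↔ ∀ (U : X.Opens) [Nonempty U], IsAffineOpen U → IsIntegrallyClosed Γ(X, U) := by
  refine ⟨fun h U hne hU => Groth.Agent.NormSect.isIntegrallyClosed_sections U fun x _ => (h x).2,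
    fun h x => ⟨inferInstance, ?_⟩⟩
  obtain ⟨U, hU, hxU, -⟩ := exists_isAffineOpen_mem_and_subset (show x ∈ (⊤ : X.Opens) from trivial)
  haveI : Nonempty (U : Scheme.{u}) := ⟨⟨x, hxU⟩⟩
  haveI := h U hU
  exact Groth.Agent.NormSect.isIntegrallyClosed_stalk U hU ⟨x, hxU⟩

end Groth.Agent.S9821
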