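import Groth.Statements.S1783
import Groth.Agent.Shriek.Comp

set_option autoImplicit false
universe u
open CategoryTheory
attribute [local instance] HasDerivedCategory.standard
open Dual2

namespace Groth.Agent.S1783

/-- Let R → A be a ring map of finite type between Noetherian rings, where φ^!(K) is formed from a
presentation ψ : R[x_1, …, x_n] → A as RHom_P(A, K ⊗^L_R P)[n], assuming the derived base change to
P exists and taking for RHom_P(A, −) a right adjoint of restriction of scalars along ψ. If K in D(R)
has vanishing cohomology below some degree, then so does φ^!(K); if moreover all cohomology modules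
of K are finite R-modules, then all cohomology modules of φ^!(K) are finite A-modules. -/
theorem result (R A : Type u) [CommRing R] [CommRing A] [IsNoetherianRing R] [IsNoetherianRing A] [Algebra R A] (n : ℕ) (ψ : MvPolynomial (Fin n) R →ₐ[R] A) (hψ : Function.Surjective ψ) [DRing.HasLBaseChange (algebraMap R (MvPolynomial (Fin n) R))] (Rψ : Dual.D (MvPolynomial (Fin n) R) ⥤ Dual.D A) (adj : DRing.restrictD ψ.toRingHom ⊣ Rψ) (K : Dual.D R) (a : ℤ) (hKa : ∀ i : ℤ, i < a → Subsingleton (Dual.HD R K i)) : (∃ b : ℤ, ∀ i : ℤ, i < b → Subsingleton (Dual.HD A (Dual2.shriekVia n Rψ K) i)) ∧ ((∀ i : ℤ, Module.Finite R (Dual.HD R K i)) → ∀ i : ℤ, Module.Finite A (Dual.HD A (Dual2.shriekVia n Rψ K) i)) := by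
  let P := MvPolynomial (Fin n) R
  letI : Algebra P A := ψ.toRingHom.toAlgebra
  haveI : Module.Finite P A := Module.Finite.of_surjective (Algebra.linearMap P A) hψ
  let L := (DRing.LBaseChange (algebraMap R P)).obj K
  let e := DualCx.lBaseChangeObjIso (algebraMap R P) K
  have hlow : ∀ i : ℤ, i < a → Subsingleton (Dual.HD P L i) := fun i hi =>
    ModuleCat.subsingleton_of_isZero ((DualCx.isZero_locHD (algebraMap R P) (hKa i hi)).of_iso
      ((DerivedCategory.homologyFunctor (ModuleCat.{u} P) i).mapIso e))
  have hRA := DualCx.isRA_counit (A := P) (B := A) adj L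
  refine ⟨⟨a - n, fun i hi => ?_⟩, fun hfin i => ?_⟩
  · obtain ⟨es⟩ := DualCx.nonempty_hd_shift (Rψ.obj L) (n : ℤ) i
    haveI : Subsingleton (DualCx.T (Rψ.obj L) A ((n : ℤ) + i)) :=
      hRA.subsingleton_T A _ (DualCx.subsingleton_T_low hlow _ (by lia))
    haveI : Subsingleton (Dual.HD A (Rψ.obj L) ((n : ℤ) + i)) := (DualCx.homEquiv (Rψ.obj L) _).symm.toEquiv.subsingleton
    exact es.toEquiv.subsingleton
  · obtain ⟨es⟩ := DualCx.nonempty_hd_shift (Rψ.obj L) (n : ℤ) i
    haveI := hRA.finite_hd (fun j => by
      haveI := DualCx.finite_locHD (algebraMap R P) (hfin j)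
      exact Module.Finite.equiv ((DerivedCategory.homologyFunctor (ModuleCat.{u} P) j).mapIso e).toLinearEquiv.symm) hlow ((n : ℤ) + i)
    exact Module.Finite.equiv es.symm

end Groth.Agent.S1783
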