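import Groth.Statements.S12482
import Mathlib

set_option autoImplicit false
universe u
open Dual

namespace Groth.Agent.S12482

/-- Let `A` be a commutative ring, `x_1, …, x_p` a sequence of elements of `A` such that each `x_i` is a
non-zero-divisor on `A/(x_1, …, x_{i-1})`, and `J` the ideal generated by the `x_i`. Then `J/J²` is
a free `(A/J)`-module with basis the classes of the `x_i`: there is a basis of `J/J²` over `A/J`,
indexed by `1, …, p`, whose `i`-th vector is the class of `x_i`. (The other assertions of the
published statement, on the Koszul complex and on Ext and Tor against `A/J`, are stated separately.) -/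
theorem result (A : Type u) [CommRing A] (p : ℕ) (x : Fin p → A)
    (hreg : RingTheory.Sequence.IsWeaklyRegular A (List.ofFn x)) :
    ∃ b : Module.Basis (Fin p) (A ⧸ Ideal.span (Set.range x)) (Ideal.span (Set.range x)).Cotangent,
      ∀ i, b i = (Ideal.span (Set.range x)).toCotangent ⟨x i, Ideal.subset_span (Set.mem_range_self i)⟩ := by
  classical
  have key : ∀ (q : ℕ) (y : Fin q → A), RingTheory.Sequence.IsWeaklyRegular A (List.ofFn y) →
      ∀ a : Fin q → A, ∑ i, a i * y i = 0 → ∀ i, a i ∈ Ideal.span (Set.range y) := by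
    intro q
    induction q with
    | zero => intro y _ a _ i; exact i.elim0
    | succ q ih =>
      intro y hy a ha
      rw [List.ofFn_succ', List.concat_eq_append, RingTheory.Sequence.isWeaklyRegular_append_iff] at hy
      obtain ⟨h1, h2⟩ := hy
      rw [RingTheory.Sequence.isWeaklyRegular_cons_iff] at h2
      have hJ : (Ideal.ofList (List.ofFn fun i : Fin q => y i.castSucc) • ⊤ : Submodule A A) =
          Ideal.span (Set.range fun i : Fin q => y i.castSucc) := by
        rw [smul_eq_mul, Ideal.mul_top, Ideal.ofList]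
        congr 1
        ext z
        simp [List.mem_ofFn]
      have hlast : a (Fin.last q) ∈ Ideal.span (Set.range fun i : Fin q => y i.castSucc) := by
        have hreg := (isSMulRegular_quotient_iff_mem_of_smul_mem _ _).mp h2.1
        rw [← hJ]
        refine hreg _ ?_
        rw [hJ, smul_eq_mul, mul_comm]
        rw [Fin.sum_univ_castSucc] at ha
        rw [eq_neg_of_add_eq_zero_right ha]
        exact neg_mem (Ideal.sum_mem _ fun i _ => Ideal.mul_mem_left _ _ (Ideal.subset_span ⟨i, rfl⟩))
      obtain ⟨c, hc⟩ := Ideal.mem_span_range_iff_exists_fun.mp hlast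
      have hrel : ∑ i : Fin q, (a i.castSucc + c i * y (Fin.last q)) * y i.castSucc = 0 := by
        rw [← ha, Fin.sum_univ_castSucc, ← hc, Finset.sum_mul, ← Finset.sum_add_distrib]
        exact Finset.sum_congr rfl fun i _ => by ring
      have hsub : Ideal.span (Set.range fun i : Fin q => y i.castSucc) ≤ Ideal.span (Set.range y) :=
        Ideal.span_mono (by rintro _ ⟨i, rfl⟩; exact ⟨_, rfl⟩)
      intro i
      induction i using Fin.lastCases with
      | last => exact hsub hlast
      | cast j =>
        have h3 := hsub (ih _ h1 _ hrel j)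
        have h4 : c j * y (Fin.last q) ∈ Ideal.span (Set.range y) :=
          Ideal.mul_mem_left _ _ (Ideal.subset_span ⟨_, rfl⟩)
        simpa using sub_mem h3 h4
  set J := Ideal.span (Set.range x) with hJdef
  let xc : Fin p → J.Cotangent := fun i =>
    J.toCotangent ⟨x i, Ideal.subset_span (Set.mem_range_self i)⟩
  have hsq : ∀ z ∈ J ^ 2, ∃ b : Fin p → A, (∀ i, b i ∈ J) ∧ ∑ i, b i * x i = z := by
    intro z hz
    rw [pow_two] at hz
    refine Submodule.mul_induction_on hz (fun u hu w hw => ?_) ?_
    · obtain ⟨c, hc⟩ := Ideal.mem_span_range_iff_exists_fun.mp hw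
      exact ⟨fun i => u * c i, fun i => J.mul_mem_right _ hu, by
        simp [← hc, Finset.mul_sum, mul_assoc]⟩
    · rintro u w ⟨b, hb, hbu⟩ ⟨b', hb', hbw⟩
      exact ⟨b + b', fun i => add_mem (hb i) (hb' i), by
        simp [add_mul, Finset.sum_add_distrib, hbu, hbw]⟩
  have hcoe : ∀ a : Fin p → A, (∑ i, (Ideal.Quotient.mk J (a i)) • xc i) =
      J.toCotangent ⟨∑ i, a i * x i, Ideal.sum_mem _ fun i _ =>
        J.mul_mem_left _ (Ideal.subset_span (Set.mem_range_self i))⟩ := by
    intro a
    have : (⟨∑ i, a i * x i, Ideal.sum_mem _ fun i _ =>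
        J.mul_mem_left _ (Ideal.subset_span (Set.mem_range_self i))⟩ : J) =
        ∑ i, a i • ⟨x i, Ideal.subset_span (Set.mem_range_self i)⟩ := by
      apply Subtype.ext
      simp [AddSubmonoidClass.coe_finsetSum]
    rw [this, map_sum]
    refine Finset.sum_congr rfl fun i _ => ?_
    rw [map_smul, ← Ideal.Quotient.algebraMap_eq, algebraMap_smul]
  have hli : LinearIndependent (A ⧸ J) xc := by
    rw [Fintype.linearIndependent_iff]
    intro g hg
    choose a ha using fun i => Ideal.Quotient.mk_surjective (g i)
    simp only [← ha] at hg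
    rw [hcoe, Ideal.toCotangent_eq_zero] at hg
    obtain ⟨b, hb, hbz⟩ := hsq _ hg
    intro i
    rw [← ha i, Ideal.Quotient.eq_zero_iff_mem]
    have := key p x hreg (a - b) (by simp [sub_mul, Finset.sum_sub_distrib, hbz]) i
    simpa using add_mem this (hb i)
  have hsp : ⊤ ≤ Submodule.span (A ⧸ J) (Set.range xc) := by
    intro z _
    obtain ⟨⟨z, hz⟩, rfl⟩ := J.toCotangent_surjective z
    obtain ⟨c, hc⟩ := Ideal.mem_span_range_iff_exists_fun.mp hz
    rw [Submodule.mem_span_range_iff_exists_fun]
    exact ⟨fun i => Ideal.Quotient.mk J (c i), by rw [hcoe]; exact congrArg _ (Subtype.ext hc)⟩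
  exact ⟨Module.Basis.mk hli hsp, fun i => Module.Basis.mk_apply _ _ i⟩

end Groth.Agent.S12482
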