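import Groth.Statements.S7090
import Groth.Agent.EtGlueLib.FlatPair

set_option autoImplicit false
universe u
open TensorProduct
open EtAlg Groth.Agent
open scoped TensorProduct

namespace Groth.Agent.S7090

/-- Let R → S be a flat homomorphism of commutative rings and I = (f_1, …, f_t) a finitely generated
ideal such that R/I → S/IS is bijective. Then for every R-module M the glueing complex 0 → M → (S
⊗_R M) × ∏ M_{f_i} → ∏ (S ⊗_R M)_{f_i} × ∏ M_{f_i f_j} is exact. Concretely: an element of M with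
zero image in S ⊗_R M and in every M_{f_i} is zero; and given x in S ⊗_R M and elements m_1, …, m_t
of M and N ≥ 0 such that x and m_i / f_i^N have the same image in (S ⊗_R M)_{f_i} for each i, and
m_i / f_i^N, m_j / f_j^N have the same image in M_{f_i f_j} for all i, j, there is m in M with 1 ⊗ m
= x and m / 1 = m_i / f_i^N in M_{f_i} for every i. -/
theorem result {R S : Type u} [CommRing R] [CommRing S] [Algebra R S] [Module.Flat R S]
    {t : ℕ} (f : Fin t → R) (I : Ideal R) (hI : Ideal.span (Set.range f) = I)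
    (hq : Function.Bijective
      (Ideal.quotientMap (Ideal.map (algebraMap R S) I) (algebraMap R S) Ideal.le_comap_map))
    (M : Type u) [AddCommGroup M] [Module R M] :
    (∀ m : M, (1 : S) ⊗ₜ[R] m = 0 →
        (∀ i : Fin t, LocalizedModule.mkLinearMap (Submonoid.powers (f i)) M m = 0) → m = 0) ∧
    ∀ (x : S ⊗[R] M) (N : ℕ) (m : Fin t → M),
      (∀ i : Fin t, EtGlue.locOfTensor R S (f i) M x =
          EtGlue.tensorOfLoc R S (f i) M (LocalizedModule.mk (m i) ⟨f i ^ N, Submonoid.pow_mem _ (Submonoid.mem_powers (f i)) N⟩)) →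
      (∀ i j : Fin t, ∃ e : ℕ, (f i * f j) ^ e • (f j ^ N • m i - f i ^ N • m j) = 0) →
        ∃ μ : M, (1 : S) ⊗ₜ[R] μ = x ∧
          ∀ i : Fin t, LocalizedModule.mkLinearMap (Submonoid.powers (f i)) M μ =
            LocalizedModule.mk (m i) ⟨f i ^ N, Submonoid.pow_mem _ (Submonoid.mem_powers (f i)) N⟩ := by
  classical
  have hzero : ∀ m : M, (1 : S) ⊗ₜ[R] m = 0 →
      (∀ i : Fin t, LocalizedModule.mkLinearMap (Submonoid.powers (f i)) M m = 0) → m = 0 :=
    fun m h0 hloc => EtGlueLib.eq_zero_of_killed hq f hI (fun i => EtGlueLib.mkLinearMap_eq_zero.1 (hloc i)) h0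
  refine ⟨hzero, fun x N m hx hm => ?_⟩
  -- relations in `S ⊗ M`
  have hx' : ∀ i, ∃ a : ℕ, f i ^ a • (f i ^ N • x - (1 : S) ⊗ₜ[R] m i) = 0 := fun i => by
    refine (EtGlueLib.mkLinearMap_eq_zero (f := f i) (M := S ⊗[R] M)).1 ?_
    have hy : f i ^ N • LocalizedModule.mk (m i) ⟨f i ^ N, Submonoid.pow_mem _ (Submonoid.mem_powers (f i)) N⟩ =
        LocalizedModule.mkLinearMap (Submonoid.powers (f i)) M (m i) := by
      rw [LocalizedModule.mkLinearMap_apply, LocalizedModule.smul'_mk, LocalizedModule.mk_eq]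
      refine ⟨1, ?_⟩
      simp [Submonoid.smul_def]
    rw [map_sub, map_smul, hx i, ← map_smul, hy, EtGlueLib.tensorOfLoc_mk, sub_self]
  choose a ha using hx'
  let E := Finset.univ.sup a + N
  have hE : ∀ i, ∃ n : M, f i ^ E • x = (1 : S) ⊗ₜ[R] n := fun i => by
    refine ⟨f i ^ (Finset.univ.sup a) • m i, ?_⟩
    have h := congrArg (fun z => f i ^ (Finset.univ.sup a - a i) • z) (ha i)
    simp only [smul_zero] at h
    rw [smul_smul, ← pow_add, Nat.sub_add_cancel (Finset.le_sup (Finset.mem_univ i)), smul_sub, sub_eq_zero,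
      smul_smul, ← pow_add] at h
    rw [TensorProduct.tmul_smul]; exact h
  -- `x` comes from `M`
  obtain ⟨μ₀, rfl⟩ : ∃ μ₀ : M, (1 : S) ⊗ₜ[R] μ₀ = x := by
    let j : M →ₗ[R] S ⊗[R] M := TensorProduct.mk R S M 1
    have hd : ∀ i, f i ^ E • ((1 : S) ⊗ₜ[R] x - j.lTensor S x) = 0 := fun i => by
      obtain ⟨n, hn⟩ := hE i
      rw [smul_sub, ← TensorProduct.tmul_smul, ← map_smul, hn, LinearMap.lTensor_tmul]
      exact sub_self _
    obtain ⟨y, -, hy⟩ := EtGlueLib.exists_of_killed hq f hI hd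
    let μS : S ⊗[R] (S ⊗[R] M) →ₗ[R] S ⊗[R] M :=
      (LinearMap.rTensor M (LinearMap.mul' R S)).comp (TensorProduct.assoc R S S M).symm.toLinearMap
    have hμ : ∀ z : S ⊗[R] M, μS ((1 : S) ⊗ₜ[R] z) = z ∧ μS (j.lTensor S z) = z := fun z => by
      induction z using TensorProduct.induction_on with
      | zero => simp
      | tmul s w => constructor <;> simp [μS, j]
      | add u v hu hv => exact ⟨by rw [TensorProduct.tmul_add, map_add, hu.1, hv.1], by rw [map_add, map_add, hu.2, hv.2]⟩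
    have hd0 : (1 : S) ⊗ₜ[R] x = j.lTensor S x := by
      have h := congrArg μS hy
      rw [map_sub, (hμ _).1, (hμ _).1, (hμ _).2, sub_self] at h
      rw [h, TensorProduct.tmul_zero] at hy
      exact sub_eq_zero.1 hy.symm
    let q := (LinearMap.range j).mkQ
    have hc : q x = 0 := by
      refine EtGlueLib.eq_zero_of_killed hq f hI (fun i => ⟨E, ?_⟩) ?_
      · obtain ⟨n, hn⟩ := hE i
        rw [← map_smul, hn]
        exact (Submodule.Quotient.mk_eq_zero _).2 ⟨n, rfl⟩
      · rw [← LinearMap.lTensor_tmul, hd0, ← LinearMap.comp_apply, ← LinearMap.lTensor_comp,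
          LinearMap.range_mkQ_comp, LinearMap.lTensor_zero, LinearMap.zero_apply]
    exact (Submodule.Quotient.mk_eq_zero _).1 hc
  -- elements of the kernel of `M → S ⊗ M`
  let k : Fin t → M := fun i => f i ^ (Finset.univ.sup a) • (m i - f i ^ N • μ₀)
  have hk : ∀ i, (1 : S) ⊗ₜ[R] k i = 0 := fun i => by
    have h := congrArg (fun z => f i ^ (Finset.univ.sup a - a i) • z) (ha i)
    simp only [smul_zero] at h
    rw [smul_smul, ← pow_add, Nat.sub_add_cancel (Finset.le_sup (Finset.mem_univ i))] at h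
    rw [TensorProduct.tmul_smul, TensorProduct.tmul_sub, TensorProduct.tmul_smul, ← neg_sub, smul_neg, h, neg_zero]
  choose e he using hm
  let e₀ := Finset.univ.sup fun p : Fin t × Fin t => e p.1 p.2
  let P := e₀ + Finset.univ.sup a + N
  have hcomp : ∀ i j, f j ^ P • (f i ^ e₀ • k i) = f i ^ P • (f j ^ e₀ • k j) := fun i j => by
    have h := congrArg (fun z => ((f i * f j) ^ (e₀ - e i j) * (f i * f j) ^ Finset.univ.sup a) • z) (he i j)
    simp only [smul_zero] at h
    rw [smul_smul, mul_right_comm, ← pow_add,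
      Nat.sub_add_cancel (Finset.le_sup (f := fun p : Fin t × Fin t => e p.1 p.2) (Finset.mem_univ (i, j))),
      smul_sub, sub_eq_zero] at h
    have l : ∀ i j, f j ^ P • (f i ^ e₀ • k i) = ((f i * f j) ^ e₀ * (f i * f j) ^ Finset.univ.sup a) • (f j ^ N • m i) -
        ((f i * f j) ^ e₀ * (f i * f j) ^ Finset.univ.sup a * (f i * f j) ^ N) • μ₀ := fun i j => by
      simp only [P, k, smul_sub, smul_smul]
      congr 2 <;> ring
    rw [l i j, l j i, h, mul_comm (f j) (f i)]
  let K : Submodule R M := Submodule.span R (Set.range k)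
  let 𝔞 := K.annihilator
  have hK : ∀ z ∈ K, (1 : S) ⊗ₜ[R] z = 0 := fun z hz => by
    refine Submodule.span_induction (p := fun z _ => (1 : S) ⊗ₜ[R] z = 0) ?_ ?_ ?_ ?_ hz
    · rintro _ ⟨i, rfl⟩; exact hk i
    · exact TensorProduct.tmul_zero _ _
    · intro u v _ _ hu hv; rw [TensorProduct.tmul_add, hu, hv, add_zero]
    · intro c u _ hu; rw [TensorProduct.tmul_smul, hu, smul_zero]
  -- `ann K + I = ⊤`
  have htop : 𝔞 ⊔ I = ⊤ := by
    let χ : R ⧸ 𝔞 →ₗ[R] Fin t → M := 𝔞.liftQ (LinearMap.pi fun i => LinearMap.toSpanSingleton R M (k i))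
      fun r hr => LinearMap.mem_ker.2 (funext fun i => Submodule.mem_annihilator.1 hr _ (Submodule.subset_span ⟨i, rfl⟩))
    have hχ : Function.Injective χ := by
      refine (injective_iff_map_eq_zero _).2 fun r hr => ?_
      obtain ⟨r, rfl⟩ := Submodule.mkQ_surjective _ r
      refine (Submodule.Quotient.mk_eq_zero _).2 (Submodule.mem_annihilator.2 fun z hz => ?_)
      refine Submodule.span_induction (p := fun z _ => r • z = 0) ?_ ?_ ?_ ?_ hz
      · rintro _ ⟨i, rfl⟩; exact congrFun hr i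
      · exact smul_zero _
      · intro u v _ _ hu hv; rw [smul_add, hu, hv, add_zero]
      · intro c u _ hu; rw [smul_comm, hu, smul_zero]
    have h1 : (1 : S) ⊗ₜ[R] (Ideal.Quotient.mk 𝔞 1) = 0 := by
      refine Module.Flat.lTensor_preserves_injective_linearMap (M := S) χ hχ ?_
      refine (TensorProduct.piRight R R S (fun _ : Fin t => M)).injective (funext fun i => ?_)
      rw [map_zero, map_zero, Pi.zero_apply, LinearMap.lTensor_tmul, TensorProduct.piRight_apply,
        TensorProduct.piRightHom_tmul]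
      show (1 : S) ⊗ₜ[R] ((1 : R) • k i) = 0
      rw [one_smul, hk]
    have h2 : (1 : S) ⊗ₜ[R] (Ideal.Quotient.mk (𝔞 ⊔ I) 1) = 0 := by
      have := congrArg ((Submodule.factor (le_sup_left : 𝔞 ≤ 𝔞 ⊔ I)).lTensor S) h1
      rw [map_zero] at this
      exact this
    have h3 := EtGlueLib.injective_of_killed hq 1 (R ⧸ (𝔞 ⊔ I)) (fun c hc r => by
      obtain ⟨r, rfl⟩ := Ideal.Quotient.mk_surjective r
      rw [Algebra.smul_def, Ideal.Quotient.algebraMap_eq, ← map_mul, Ideal.Quotient.eq_zero_iff_mem]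
      exact Ideal.mul_mem_right _ _ (Submodule.mem_sup_right (by rwa [pow_one] at hc)))
      (a₁ := Ideal.Quotient.mk (𝔞 ⊔ I) 1) (a₂ := 0) (by rw [map_zero]; exact h2)
    rwa [Ideal.Quotient.eq_zero_iff_mem, ← Ideal.eq_top_iff_one] at h3
  -- partition of unity modulo the annihilator
  obtain ⟨c, hc⟩ := EtGlueLib.exists_pow_killed f hI P
  have h1 : (1 : R) ∈ 𝔞 ⊔ Ideal.span (Set.range fun i => f i ^ P) :=
    (sup_le_sup_left hc 𝔞 : _ ≤ _) ((Ideal.sup_pow_eq_top htop).ge (Submodule.mem_top (x := (1 : R))))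
  obtain ⟨u, hu, w, hw, huw⟩ := Submodule.mem_sup.1 h1
  obtain ⟨r, rfl⟩ := (Ideal.mem_span_range_iff_exists_fun).1 hw
  let μ₁ : M := ∑ i, r i • f i ^ e₀ • k i
  have hμ₁ : ∀ j, f j ^ P • μ₁ = f j ^ e₀ • k j := fun j => by
    have hu0 : u • (f j ^ e₀ • k j) = 0 :=
      Submodule.mem_annihilator.1 hu _ (K.smul_mem _ (Submodule.subset_span ⟨j, rfl⟩))
    calc f j ^ P • μ₁ = ∑ i, (r i * f i ^ P) • f j ^ e₀ • k j := by
          rw [Finset.smul_sum]
          refine Finset.sum_congr rfl fun i _ => ?_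
          rw [smul_comm, hcomp i j, smul_smul]
      _ = (u + ∑ i, r i * f i ^ P) • f j ^ e₀ • k j := by rw [← Finset.sum_smul, add_smul, hu0, zero_add]
      _ = f j ^ e₀ • k j := by rw [huw, one_smul]
  have hμ₁0 : (1 : S) ⊗ₜ[R] μ₁ = 0 :=
    hK _ (Submodule.sum_mem _ fun i _ => K.smul_mem _ (K.smul_mem _ (Submodule.subset_span ⟨i, rfl⟩)))
  refine ⟨μ₀ + μ₁, by rw [TensorProduct.tmul_add, hμ₁0, add_zero], fun i => ?_⟩
  rw [LocalizedModule.mkLinearMap_apply, LocalizedModule.mk_eq]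
  refine ⟨⟨_, e₀ + Finset.univ.sup a, rfl⟩, ?_⟩
  simp only [Submonoid.smul_def, one_smul]
  show f i ^ (e₀ + Finset.univ.sup a) • (f i ^ N • (μ₀ + μ₁)) = f i ^ (e₀ + Finset.univ.sup a) • m i
  have h := hμ₁ i
  simp only [P, k] at h
  rw [smul_add, smul_add, smul_smul (f i ^ (e₀ + Finset.univ.sup a)) _ μ₁, ← pow_add, h, smul_smul (f i ^ e₀),
    ← pow_add, smul_sub]
  abel

end Groth.Agent.S7090
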