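import Groth.Statements.S8355
import Mathlib

set_option autoImplicit false
universe v u
open CategoryTheory CategoryTheory.Limits
open SpSeq

namespace Groth.Agent.S8355

/-- Let E be a spectral sequence in an abelian category and suppose E_r^{p,q} = 0. Then E_k^{p,q} = 0
for every k ≥ r, and E_∞^{p,q} = 0: for any abutment data (H^n) of E, the graded piece gr^p H^{p+q},
identified by the abutment with the limit term at (p, q), is zero. -/
theorem result {C : Type u} [Category.{v} C] [Abelian C] {r₀ : ℤ}
    (E : CohomologicalSpectralSequence C r₀) (r : ℤ) (hr : r₀ ≤ r) (pq : ℤ × ℤ)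
    (h : IsZero ((E.page r hr).X pq)) :
    (∀ (k : ℤ) (hk : r ≤ k), IsZero ((E.page k (hr.trans hk)).X pq)) ∧
      ∀ (H : ℤ → C) (a : SpSeq.Abutment E H),
        IsZero (SpSeq.grPiece (a.fil (pq.1 + pq.2)) (a.anti (pq.1 + pq.2)) pq.1) := by
  have h1 : ∀ (k : ℤ) (hk : r ≤ k), IsZero ((E.page k (hr.trans hk)).X pq) := by
    intro k hk
    induction k, hk using Int.le_induction with
    | base => exact h
    | succ k hk ih =>
      refine IsZero.of_iso ?_ (E.iso k (k + 1) pq).symm
      exact ShortComplex.isZero_homology_of_isZero_X₂ _ ih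
  refine ⟨h1, fun H a => IsZero.of_iso ?_ (a.β pq).symm⟩
  obtain ⟨hrk, hst⟩ := a.stat pq
  rcases le_total r (a.rk pq) with hle | hle
  · exact h1 _ hle
  · have key : ∀ (k : ℤ) (hk : a.rk pq ≤ k), IsZero ((E.page k (hrk.trans hk)).X pq) →
        IsZero ((E.page (a.rk pq) hrk).X pq) := by
      intro k hk
      induction k, hk using Int.le_induction with
      | base => exact fun h => h
      | succ k hk ih =>
        intro hz
        refine ih ?_
        obtain ⟨d1, d2⟩ := hst k (hrk.trans hk) hk
        let S := (E.page k (hrk.trans hk)).sc pq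
        have hprev : (ComplexShape.up' ((k, 1 - k) : ℤ × ℤ)).prev pq = pq - (k, 1 - k) :=
          ComplexShape.prev_eq' _ (show pq - (k, 1 - k) + (k, 1 - k) = pq from sub_add_cancel _ _)
        have hnext : (ComplexShape.up' ((k, 1 - k) : ℤ × ℤ)).next pq = pq + (k, 1 - k) :=
          ComplexShape.next_eq' _ rfl
        have hf : S.f = 0 := by
          show (E.page k (hrk.trans hk)).d ((ComplexShape.up' ((k, 1 - k) : ℤ × ℤ)).prev pq) pq = 0
          rw [hprev]; exact d1
        have hg : S.g = 0 := by
          show (E.page k (hrk.trans hk)).d pq ((ComplexShape.up' ((k, 1 - k) : ℤ × ℤ)).next pq) = 0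
          rw [hnext]; exact d2
        exact IsZero.of_iso hz ((ShortComplex.LeftHomologyData.ofZeros S hf hg).homologyIso.symm ≪≫
          E.iso k (k + 1) pq)
    exact key r hle h

end Groth.Agent.S8355
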