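import Groth.Statements.S3862
import Groth.Agent.ThickSys.Sys

set_option linter.style.haveILetI false

set_option autoImplicit false
universe u
open FCompl CategoryTheory CategoryTheory.Limits AlgebraicGeometry

namespace Groth.Agent.S3862

open AlgebraicGeometry in
open CategoryTheory in
/-- Completions are presented by the closed subschemes cut out by the powers of an ideal sheaf 𝓚 on Y
and by the powers of its inverse image ideal on X. For a morphism of schemes f : X → Y, the
completion X̂ of X along the inverse image ideal is X ×_Y Ŷ: at every level n the square formed by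
the inclusion X'_n → X, the completed morphism X'_n → Y'_n, f and the inclusion Y'_n → Y is
cartesian, and the completed morphism X̂ → Ŷ is adic (each square X'_n → X'_(n+1), Y'_n → Y'_(n+1)
is cartesian). The compatibility of f with the powers of the two ideals (the inverse image of
𝓚^(n+1) is contained in the (n+1)-st power of the inverse image ideal of 𝓚), needed to define the
completed morphism, holds for inverse image ideals and is carried as the hypothesis h. -/
theorem result {X Y : Scheme.{u}} (f : X ⟶ Y) (𝓚 : Y.IdealSheafData)
    (h : FSch.PowCompat f (𝓚.comap f) 𝓚) :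
    (∀ n : ℕ, IsPullback (FSch.completionToX X (𝓚.comap f) n)
        ((FSch.completionMap f (𝓚.comap f) 𝓚 h : FSch.Hom _ _).app n) f (FSch.completionToX Y 𝓚 n)) ∧
      FSch.IsAdicHom (FSch.completionMap f (𝓚.comap f) 𝓚 h) := by
  set_option backward.isDefEq.respectTransparency false in
  have hk : ∀ n, (𝓚 ^ (n + 1)).comap f = 𝓚.comap f ^ (n + 1) := fun n =>
    Groth.Agent.ThickSys.comap_pow 𝓚 f (n + 1)
  have hsq : ∀ n : ℕ, IsPullback (FSch.completionToX X (𝓚.comap f) n)
      ((FSch.completionMap f (𝓚.comap f) 𝓚 h : FSch.Hom _ _).app n) f (FSch.completionToX Y 𝓚 n) := fun n =>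
    Groth.Agent.ThickSys.isPullback_subschemeMap f _ _
      (Scheme.IdealSheafData.le_map_iff_comap_le.mpr (h n)) (hk n)
  refine ⟨hsq, fun n => ?_⟩
  have e1 := Scheme.IdealSheafData.inclusion_subschemeι (FSch.pow_succ_le X (𝓚.comap f) n)
  have e2 := Scheme.IdealSheafData.inclusion_subschemeι (FSch.pow_succ_le Y 𝓚 n)
  refine Groth.Agent.ThickSys.isPullback_step (hsq (n + 1)) ?_ ((FSch.completionMap f _ 𝓚 h : FSch.Hom _ _).comm n).symm
  have e := hsq n
  dsimp only [FSch.completionAlong, FSch.completionToX] at e ⊢
  rw [e1, e2]
  exact e

end Groth.Agent.S3862
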