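import Groth.Statements.S17052
import Groth.Agent.FSchCoh.QCTOps

set_option autoImplicit false
open CategoryTheory CategoryTheory.Limits
universe u
open FTors

namespace Groth.Agent.S17052

/-- On a locally Noetherian formal scheme 𝔛 (an adic system of thickenings with locally Noetherian
levels), the class of quasi-coherent torsion O_𝔛-modules is closed under arbitrary small colimits
computed among all O_𝔛-modules. -/
theorem result (𝔛 : FSch.Sys.{u}) (h𝔛 : 𝔛.IsLocNoethFormal)
    (J : Type u) [SmallCategory J] :
    (FTors.IsQCT 𝔛 h𝔛.1).IsClosedUnderColimitsOfShape J := by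
  refine ⟨fun Q hQ => ?_⟩
  obtain ⟨c⟩ := hQ
  exact (FSchCoh.qt_of_colimit h𝔛 c.toColimitPresentation
    fun j => FSchCoh.qt_of_isQCT h𝔛 (c.prop_diag_obj j).1 (c.prop_diag_obj j).2).isQCT

end Groth.Agent.S17052
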