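import Groth.Statements.S6410
import Groth.Agent.FibCatRep.Cart

set_option autoImplicit false
open CategoryTheory
universe v u
open FibCat

namespace Groth.Agent.S6410

set_option backward.isDefEq.respectTransparency false
set_option linter.style.haveILetI false
open CategoryTheory.Limits

/-- For `𝒳` fibred over `C`, evaluation at `𝟙_U` restricted to the functors `C/U ⟶ 𝒳` over `C` that
preserve strongly cartesian morphisms is an equivalence of categories onto the fibre category `𝒳_U`. -/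
theorem result {C : Type u} [Category.{v} C] {𝒳 : BasedCategory.{v, max u v} C} [𝒳.p.IsFibered] (U : C) :
    ((ObjectProperty.ι (FibCat.PreservesStronglyCartesian (𝒳 := FibCat.overCat U) (𝒴 := 𝒳))) ⋙ FibCat.evalAtId 𝒳 U).IsEquivalence := by
  open Groth.Agent.FibCatRep in
  haveI : (ObjectProperty.ι (FibCat.PreservesStronglyCartesian (𝒳 := FibCat.overCat U) (𝒴 := 𝒳)) ⋙ FibCat.evalAtId 𝒳 U).Faithful := ⟨fun {G' H'} α' β' h => by
    let G := G'.obj
    let H := H'.obj
    let α : G ⟶ H := α'.hom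
    let β : G ⟶ H := β'.hom
    suffices α = β from ObjectProperty.hom_ext _ this
    have h0 : α.toNatTrans.app (Over.mk (𝟙 U)) = β.toNatTrans.app (Over.mk (𝟙 U)) :=
      congrArg Subtype.val h
    ext z
    let m : z ⟶ Over.mk (𝟙 U) := Over.homMk z.hom (Category.comp_id _)
    have hc : Cart 𝒳.p (H.map m) :=
      cart_of_lift _ _ (H'.property _ m (cart_of_grpd (isFibGrpd_overCat U) m))
    refine cancel_of_cart hc (by rw [map_app, map_app]) ?_
    rw [← α.toNatTrans.naturality m, ← β.toNatTrans.naturality m, h0]⟩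
  open Groth.Agent.FibCatRep in
  haveI : (ObjectProperty.ι (FibCat.PreservesStronglyCartesian (𝒳 := FibCat.overCat U) (𝒴 := 𝒳)) ⋙ FibCat.evalAtId 𝒳 U).Full := ⟨fun {G' H'} φ => by
    let G := G'.obj
    let H := H'.obj
    have hH : ∀ {z z' : Over U} (n : z ⟶ z'), Cart 𝒳.p (H.map n) := fun n =>
      cart_of_lift _ _ (H'.property _ n (cart_of_grpd (isFibGrpd_overCat U) n))
    let t : Over U := Over.mk (𝟙 U)
    let mz : ∀ z : Over U, z ⟶ t := fun z => Over.homMk z.hom (Category.comp_id _)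
    let φ₀ : G.obj t ⟶ H.obj t := φ.1
    have hφ : 𝒳.p.map φ₀ = eqToHom ((G.w_obj t).trans (H.w_obj t).symm) := map_of_fiber φ
    have hx : ∀ z, ∃! χ : G.obj z ⟶ H.obj z,
        𝒳.p.map χ = eqToHom ((G.w_obj z).trans (H.w_obj z).symm) ∧ χ ≫ H.map (mz z) = G.map (mz z) ≫ φ₀ :=
      fun z => existsUnique_of_cart (hH (mz z)) _ _ (by simp [map_map, hφ])
    choose χ hχ hu using hx
    let α : G.toFunctor ⟶ H.toFunctor :=
      { app := χ
        naturality := fun z z' n => by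
          refine cancel_of_cart (hH (mz z')) (by simp [map_map, (hχ z).1, (hχ z').1]) ?_
          have hm : n ≫ mz z' = mz z := Over.OverMorphism.ext (Over.w n)
          rw [Category.assoc, Category.assoc, (hχ z').2, ← Functor.map_comp_assoc, ← Functor.map_comp, hm, (hχ z).2] }
    refine ⟨ObjectProperty.homMk ⟨α, fun z => IsHomLift.of_fac' 𝒳.p _ _ (G.w_obj z) (H.w_obj z) ((hχ z).1.trans (by simp))⟩,
      Subtype.ext ?_⟩
    show χ t = φ₀
    refine (hu t φ₀ ⟨hφ, ?_⟩).symm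
    have ht : mz t = 𝟙 t := Over.OverMorphism.ext rfl
    rw [ht, H.toFunctor.map_id, G.toFunctor.map_id, Category.comp_id, Category.id_comp]⟩
  open Groth.Agent.FibCatRep in
  haveI : (ObjectProperty.ι (FibCat.PreservesStronglyCartesian (𝒳 := FibCat.overCat U) (𝒴 := 𝒳)) ⋙ FibCat.evalAtId 𝒳 U).EssSurj := ⟨fun x => by
    have hl : ∀ z : Over U, ∃ (y : 𝒳.obj) (φ : y ⟶ x.1) (h : 𝒳.p.obj y = z.left),
        𝒳.p.map φ = eqToHom h ≫ z.hom ≫ eqToHom x.2.symm ∧ Cart 𝒳.p φ := fun z =>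
      exists_cart_lift (z.hom ≫ eqToHom x.2.symm)
    choose y ψ hy hψ cψ using hl
    have hn : ∀ {z z' : Over U} (n : z ⟶ z'), ∃! χ : y z ⟶ y z',
        𝒳.p.map χ = eqToHom (hy z) ≫ n.left ≫ eqToHom (hy z').symm ∧ χ ≫ ψ z' = ψ z := fun {z z'} n =>
      existsUnique_of_cart (cψ z') _ _ (by simp [hψ])
    choose χ hχ hu using fun z z' (n : z ⟶ z') => hn n
    let G : FibCat.overCat U ⥤ᵇ 𝒳 :=
      { toFunctor :=
          { obj := y
            map := fun {z z'} n => χ z z' n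
            map_id := fun z => (hu z z (𝟙 z) (𝟙 _) ⟨by show 𝒳.p.map (𝟙 _) = eqToHom _ ≫ (𝟙 z.left) ≫ eqToHom _; simp, Category.id_comp _⟩).symm
            map_comp := fun {a b c} n n' => (hu a c (n ≫ n') _ ⟨by simp [(hχ _ _ _).1],
              by simp [(hχ _ _ _).2]⟩).symm }
        w := CategoryTheory.Functor.ext hy (fun z z' n => (hχ z z' n).1) }
    haveI : IsIso (𝒳.p.map (ψ (Over.mk (𝟙 U)))) := by
      rw [hψ]
      show IsIso (eqToHom _ ≫ 𝟙 U ≫ eqToHom _)
      rw [Category.id_comp, eqToHom_trans]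
      infer_instance
    haveI := isIso_of_cart (cψ (Over.mk (𝟙 U)))
    have he : 𝒳.p.map (ψ (Over.mk (𝟙 U))) = eqToHom ((hy _).trans x.2.symm) := by
      rw [hψ]; show eqToHom _ ≫ 𝟙 U ≫ eqToHom _ = _; rw [Category.id_comp, eqToHom_trans]
    have hGp : FibCat.PreservesStronglyCartesian G := fun R S f z z' n hn => by
      haveI : (FibCat.overCat U).p.IsHomLift f n := hn.toIsHomLift
      haveI : 𝒳.p.IsHomLift f (G.map n) := BasedFunctor.preserves_isHomLift G f n
      refine lift_of_cart f (G.map n) ?_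
      haveI : 𝒳.p.IsStronglyCartesian (𝒳.p.map (ψ z')) (ψ z') := cψ z'
      haveI : 𝒳.p.IsStronglyCartesian (𝒳.p.map (G.map n) ≫ 𝒳.p.map (ψ z')) (G.map n ≫ ψ z') := by
        have h2 : G.map n ≫ ψ z' = ψ z := (hχ z z' n).2
        rw [← Functor.map_comp, h2]
        exact cψ z
      exact Functor.IsStronglyCartesian.of_comp 𝒳.p (ψ := ψ z') (g := 𝒳.p.map (ψ z'))
    refine ⟨⟨G, hGp⟩, ⟨⟨fibHom ((FibCat.evalAtId 𝒳 U).obj G) x (ψ (Over.mk (𝟙 U))) he,
      fibHom x ((FibCat.evalAtId 𝒳 U).obj G) (inv (ψ (Over.mk (𝟙 U)))) (map_inv_of_eqToHom _ he),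
      Subtype.ext (IsIso.hom_inv_id (ψ (Over.mk (𝟙 U)))), Subtype.ext (IsIso.inv_hom_id (ψ (Over.mk (𝟙 U))))⟩⟩⟩⟩
  exact { }

end Groth.Agent.S6410
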