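import Groth.Statements.S11269
import Groth.Agent.QGorD.Skn
import Groth.Agent.Hensel.Fibres

set_option autoImplicit false
universe u
open W4bk4grassmannian

namespace Groth.Agent.S11269

/-- Let R be a Noetherian integral domain. Then R satisfies Serre's condition (S_2) (depth R_P ≥ min(2,
dim R_P) for all primes P) if and only if, for every nonzero a ∈ R, every associated prime of the
R-module R/(a) has height one. -/
theorem result (R : Type u) [CommRing R] [IsDomain R]
    [IsNoetherianRing R] :
    LocCoh.HasSk 2 R R ↔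
      ∀ a : R, a ≠ 0 → ∀ P : Ideal R, P ∈ associatedPrimes R (R ⧸ Ideal.span {a}) → P.height = 1 := by
  classical
  rw [Hensel.hasSk_self_iff]
  constructor
  · intro h a ha P hP
    haveI := hP.isPrime
    obtain ⟨-, z, hz⟩ := isAssociatedPrime_iff_exists_injective_linearMap P _ |>.1 hP
    have hannih : ∀ r : R, r • z (Ideal.Quotient.mk P 1) = 0 ↔ r ∈ P := by
      intro r
      rw [← map_smul, map_eq_zero_iff _ hz, ← Ideal.Quotient.mk_eq_mk, ← Submodule.Quotient.mk_smul,
        Submodule.Quotient.mk_eq_zero, smul_eq_mul, mul_one]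
    obtain ⟨m, hm⟩ := Ideal.Quotient.mk_surjective (z (Ideal.Quotient.mk P 1))
    have hann : ∀ r : R, r * m ∈ Ideal.span {a} ↔ r ∈ P := by
      intro r
      rw [← hannih, ← hm, ← Ideal.Quotient.mk_eq_mk, ← Submodule.Quotient.mk_smul, Submodule.Quotient.mk_eq_zero,
        smul_eq_mul]
    have haP : a ∈ P := (hann a).1 (Ideal.mul_mem_right _ _ (Ideal.subset_span rfl))
    have hne : P ≠ ⊥ := fun hb => ha (by rwa [hb, Ideal.mem_bot] at haP)
    have h1 : 1 ≤ P.height := by
      rw [Order.one_le_iff_pos, pos_iff_ne_zero, Ne, Ideal.height_eq_zero_iff, IsDomain.minimalPrimes_eq_singleton_bot]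
      exact hne
    refine le_antisymm ?_ h1
    by_contra hgt
    have h2 : (2 : ℕ∞) ≤ P.height := by
      rw [show (2 : ℕ∞) = 1 + 1 from rfl]
      exact Order.add_one_le_of_lt (not_le.1 hgt)
    have hd : (2 : ℕ∞) ≤ LocCoh.depth (Localization.AtPrime P) (Localization.AtPrime P) := by
      have := h P
      rw [IsLocalization.AtPrime.ringKrullDim_eq_height P (Localization.AtPrime P), show ((2 : ℕ) : WithBot ℕ∞) = ((2 : ℕ∞) : WithBot ℕ∞) from rfl, min_eq_left (WithBot.coe_le_coe.2 h2)] at this
      exact WithBot.coe_le_coe.1 this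
    have hinj := IsLocalization.injective (Localization.AtPrime P) P.primeCompl_le_nonZeroDivisors
    have hreg : IsSMulRegular (Localization.AtPrime P) (algebraMap R (Localization.AtPrime P) a) :=
      (isRegular_of_ne_zero fun h0 => ha (hinj (h0.trans (map_zero _).symm))).left
    obtain ⟨y, hy, hym⟩ := QGorD.exists_regMod_of_two_le hd
      ((IsLocalization.AtPrime.to_map_mem_maximal_iff (Localization.AtPrime P) P a).2 haP) hreg
    obtain ⟨⟨r, s⟩, hrs⟩ := IsLocalization.surj P.primeCompl y
    have hr : r ∈ P := (IsLocalization.AtPrime.to_map_mem_maximal_iff (Localization.AtPrime P) P r).1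
      (hrs ▸ Ideal.mul_mem_right _ _ hy)
    obtain ⟨n, hn⟩ := Ideal.mem_span_singleton'.1 ((hann r).2 hr)
    obtain ⟨n', hn'⟩ := hym (algebraMap R _ s * algebraMap R _ m) (algebraMap R _ n) (by
      rw [smul_eq_mul, smul_eq_mul, ← mul_assoc, hrs, ← map_mul, ← map_mul, ← hn, mul_comm])
    obtain ⟨⟨q, u⟩, hqu⟩ := IsLocalization.surj P.primeCompl n'
    have : (s : R) * u * m ∈ Ideal.span {a} := by
      refine Ideal.mem_span_singleton'.2 ⟨q, hinj ?_⟩
      rw [map_mul, map_mul, map_mul, ← hqu]
      linear_combination (-(algebraMap R (Localization.AtPrime P) u)) * hn'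
    exact P.primeCompl.mul_mem s.2 u.2 ((hann _).1 this)
  · intro h P hP
    rw [IsLocalization.AtPrime.ringKrullDim_eq_height P (Localization.AtPrime P)]
    refine QGorD.min_le_of_forall le_rfl fun k hk hk1 hkd => ?_
    have hkd' : (k : ℕ∞) ≤ P.height := by exact_mod_cast hkd
    have hne : P ≠ ⊥ := by
      rintro rfl
      rw [Ideal.height_bot, nonpos_iff_eq_zero, Nat.cast_eq_zero] at hkd'
      omega
    obtain ⟨a, haP, ha⟩ := Submodule.exists_mem_ne_zero_of_ne_bot hne
    have hinj := IsLocalization.injective (Localization.AtPrime P) P.primeCompl_le_nonZeroDivisors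
    have hreg : IsSMulRegular (Localization.AtPrime P) (algebraMap R (Localization.AtPrime P) a) :=
      (isRegular_of_ne_zero fun h0 => ha (hinj (h0.trans (map_zero _).symm))).left
    have ham := (IsLocalization.AtPrime.to_map_mem_maximal_iff (Localization.AtPrime P) P a).2 haP
    match k, hk, hk1 with
    | 1, _, _ => exact_mod_cast QGorD.one_le_of_regular ham hreg
    | 2, _, _ =>
      obtain ⟨y, hyP, hy⟩ : ∃ y ∈ P, y ∉ ⋃ Q ∈ associatedPrimes R (R ⧸ Ideal.span {a}), (Q : Set R) := by
        by_contra hc
        push Not at hc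
        obtain ⟨Q, hQ, hPQ⟩ := (Ideal.subset_union_prime_finite (associatedPrimes.finite R (R ⧸ Ideal.span {a}))
          ⊥ ⊥ (fun Q hQ _ _ => hQ.isPrime)).1 (fun y hy => hc y hy)
        haveI := hQ.isPrime
        have := (Ideal.height_mono hPQ).trans (h a ha Q hQ).le
        exact absurd (hkd'.trans this) (by norm_num)
      rw [biUnion_associatedPrimes_eq_zero_divisors] at hy
      have hyreg : ∀ x : R, y * x ∈ Ideal.span {a} → x ∈ Ideal.span {a} := by
        intro x hx
        by_contra hxa
        refine hy ⟨Ideal.Quotient.mk _ x, fun h0 => hxa (Ideal.Quotient.eq_zero_iff_mem.1 h0), ?_⟩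
        rw [← Ideal.Quotient.mk_eq_mk, ← Submodule.Quotient.mk_smul, Submodule.Quotient.mk_eq_zero]
        exact hx
      refine le_trans (by norm_num) (QGorD.two_le_of_regular ham
        ((IsLocalization.AtPrime.to_map_mem_maximal_iff (Localization.AtPrime P) P y).2 hyP) hreg fun m n hmn => ?_)
      obtain ⟨⟨m0, s⟩, hm⟩ := IsLocalization.surj P.primeCompl m
      obtain ⟨⟨n0, t⟩, hn⟩ := IsLocalization.surj P.primeCompl n
      simp only [smul_eq_mul] at hmn ⊢
      have hR : y * (m0 * t) = a * (n0 * s) := hinj (by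
        simp only [map_mul, ← hm, ← hn]
        linear_combination (algebraMap R (Localization.AtPrime P) s * algebraMap R (Localization.AtPrime P) t) * hmn)
      obtain ⟨c, hc⟩ := Ideal.mem_span_singleton'.1 (hyreg (m0 * t) (hR ▸ Ideal.mul_mem_right _ _ (Ideal.subset_span rfl)))
      refine ⟨algebraMap R _ c * IsLocalization.mk' (Localization.AtPrime P) 1 (s * t), ?_⟩
      have h1 := IsLocalization.mk'_spec' (Localization.AtPrime P) (1 : R) (s * t)
      have hc' := congrArg (algebraMap R (Localization.AtPrime P)) hc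
      simp only [map_mul, map_one, Submonoid.coe_mul] at h1 hc'
      rw [← hm] at hc'
      linear_combination (-IsLocalization.mk' (Localization.AtPrime P) (1 : R) (s * t)) * hc' + (-m) * h1

end Groth.Agent.S11269
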