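import Groth.Statements.S5754
import Mathlib

set_option autoImplicit false
universe u
open EGA41

open Pointwise
namespace Groth.Agent.S5754

/-- Let A be a Noetherian ring, M a finitely generated A-module and t an element of A which is
M-regular. For every associated prime p of M, every prime ideal minimal among those containing p +
tA is an associated prime of M/tM. -/
theorem result (A : Type u) [CommRing A]
    [IsNoetherianRing A] (M : Type u) [AddCommGroup M] [Module A M] [Module.Finite A M] (t : A)
    (ht : IsSMulRegular M t) (p : Ideal A) (hp : p ∈ associatedPrimes A M) (q : Ideal A)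
    (hq : q ∈ (p ⊔ Ideal.span {t}).minimalPrimes) : q ∈ associatedPrimes A (QuotSMulTop t M) := by
  classical
  obtain ⟨hpp, x, hx⟩ := (isAssociatedPrime_iff (I := p) (M := M)).1 hp
  have hqp : q.IsPrime := hq.isPrime
  let N : Submodule A M := Submodule.torsionBySet A M (p : Set A)
  have hxN : x ∈ N := (Submodule.mem_torsionBySet_iff _ _).2 fun a => by
    have h : (a : A) ∈ (⊥ : Submodule A M).colon {x} := (SetLike.ext_iff.1 hx _).1 a.2
    rw [Submodule.mem_colon_singleton, Submodule.mem_bot] at h
    exact h
  have hann : Module.annihilator A N = p := by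
    refine le_antisymm (fun a ha => ?_) fun a ha => Module.mem_annihilator.2 fun n => Subtype.ext ?_
    · rw [hx, Submodule.mem_colon_singleton, Submodule.mem_bot]
      exact congrArg Subtype.val (Module.mem_annihilator.1 ha ⟨x, hxN⟩)
    · exact (Submodule.mem_torsionBySet_iff _ _).1 n.2 ⟨a, ha⟩
  have hinj : Function.Injective (QuotSMulTop.map t N.subtype) := by
    refine (injective_iff_map_eq_zero _).2 fun z hz => ?_
    obtain ⟨n, rfl⟩ := Submodule.Quotient.mk_surjective _ z
    have hz' : (n : M) ∈ t • (⊤ : Submodule A M) := (Submodule.Quotient.mk_eq_zero _).1 hz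
    obtain ⟨y, -, hy⟩ := (Submodule.mem_smul_pointwise_iff_exists _ _ _).1 hz'
    have hyN : y ∈ N := (Submodule.mem_torsionBySet_iff _ _).2 fun a => ht (by
      show t • (a : A) • y = t • 0
      rw [smul_zero, smul_comm, hy]
      exact (Submodule.mem_torsionBySet_iff _ _).1 n.2 a)
    exact (Submodule.Quotient.mk_eq_zero _).2
      ((Submodule.mem_smul_pointwise_iff_exists _ _ _).2 ⟨⟨y, hyN⟩, trivial, Subtype.ext hy⟩)
  refine associatedPrimes.subset_of_injective hinj (Module.associatedPrimes.minimalPrimes_annihilator_subset_associatedPrimes A _ ?_)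
  have key : ∀ r : PrimeSpectrum A, Module.annihilator A (QuotSMulTop t N) ≤ r.asIdeal ↔ p ⊔ Ideal.span {t} ≤ r.asIdeal := fun r => by
    rw [← Module.mem_support_iff_of_finite, Module.support_quotSMulTop, Set.mem_inter_iff,
      Module.mem_support_iff_of_finite, hann, PrimeSpectrum.mem_zeroLocus, Set.singleton_subset_iff,
      sup_le_iff, Ideal.span_singleton_le_iff_mem, SetLike.mem_coe]
  refine ⟨⟨hqp, (key ⟨q, hqp⟩).2 hq.1.2⟩, fun r hr hrq => hq.2 ⟨hr.1, (key ⟨r, hr.1⟩).1 hr.2⟩ hrq⟩

end Groth.Agent.S5754
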