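import Groth.Statements.S10888
import Groth.Agent.ThickSys.NearFibre
import Groth.Agent.FibreFlat.PointCrit
import Groth.Agent.LimDesc.FPCancel

set_option autoImplicit false
universe u
open CategoryTheory AlgebraicGeometry
open FlatMor

namespace Groth.Agent.S10888

section
open CategoryTheory CategoryTheory.Limits AlgebraicGeometry Groth.Agent

set_option backward.isDefEq.respectTransparency false

theorem iso_iff {X Y S : Scheme.{u}} (h : Y ⟶ S) (f : X ⟶ Y) (s : S) :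
    (∃ e : (f ≫ h).fiber s ≅ h.fiber s, e.hom ≫ h.fiberι s = (f ≫ h).fiberι s ≫ f) ↔
      IsIso (CohIII.fiberMapOver f (f ≫ h) h rfl s) := by
  have hc : CohIII.fiberMapOver f (f ≫ h) h rfl s ≫ h.fiberι s = (f ≫ h).fiberι s ≫ f := pullback.lift_fst _ _ _
  constructor
  · rintro ⟨e, he⟩
    haveI : Mono (h.fiberι s) := inferInstance
    rw [show CohIII.fiberMapOver f (f ≫ h) h rfl s = e.hom from (cancel_mono (h.fiberι s)).1 (hc.trans he.symm)]
    infer_instance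
  · intro hi
    exact ⟨asIso (CohIII.fiberMapOver f (f ≫ h) h rfl s), hc⟩

theorem exists_nhd {X Y S : Scheme.{u}} (h : Y ⟶ S) (f : X ⟶ Y) [IsProper (f ≫ h)]
    [LocallyOfFinitePresentation (f ≫ h)] [Flat (f ≫ h)] [IsProper h] (s : S)
    [IsIso (CohIII.fiberMapOver f (f ≫ h) h rfl s)] {y : Y} (hy : h y = s) :
    ∃ V : Y.Opens, y ∈ V ∧ IsIso (f ∣_ V) := by
  haveI : IsProper f := IsProper.of_comp f h
  haveI : LocallyOfFinitePresentation f := LimDesc.lfp_of_comp f h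
  obtain ⟨V, hyV, hVc⟩ := ThickSys.exists_nhd_isClosedImmersion_of_fibre (f := f) (f ≫ h) h rfl s hy
  obtain ⟨c, rfl⟩ : y ∈ Set.range (h.fiberι s) := by rw [Scheme.Hom.range_fiberι]; exact hy
  obtain ⟨p, rfl⟩ := (CohIII.fiberMapOver f (f ≫ h) h rfl s).surjective c
  let x := (f ≫ h).fiberι s p
  have hfx : f x = h.fiberι s (CohIII.fiberMapOver f (f ≫ h) h rfl s p) := by
    rw [← Scheme.Hom.comp_apply, ← Scheme.Hom.comp_apply,
      show CohIII.fiberMapOver f (f ≫ h) h rfl s ≫ h.fiberι s = (f ≫ h).fiberι s ≫ f from pullback.lift_fst _ _ _]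
  have hflat : FibreFlat.FlatAt f x := by
    haveI : IsIso (FibreFlat.fibMap f h (S.fromSpecResidueField s)) := by
      have : FibreFlat.fibMap f h (S.fromSpecResidueField s) = CohIII.fiberMapOver f (f ≫ h) h rfl s := by
        apply pullback.hom_ext
        · exact (pullback.lift_fst _ _ _).trans (pullback.lift_fst _ _ _).symm
        · exact (pullback.lift_snd _ _ _).trans ((Category.comp_id _).symm.trans (pullback.lift_snd _ _ _).symm)
      rw [this]; infer_instance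
    refine FibreFlat.flatAt_of_fibre f h x (z := s) ?_ p rfl (FibreFlat.flatAt_of_flat _ p)
    rw [hfx]; exact hy
  let W := FibreFlat.flatOpen f
  let V' : Y.Opens := V ⊓ ⟨(f '' (W : Set X)ᶜ)ᶜ, (f.isClosedMap _ W.2.isClosed_compl).isOpen_compl⟩
  have hyV' : h.fiberι s (CohIII.fiberMapOver f (f ≫ h) h rfl s p) ∈ V' := by
    refine ⟨hyV, ?_⟩
    rintro ⟨z, hz, hzx⟩
    have hzV : z ∈ f ⁻¹ᵁ V := by change f z ∈ V; rw [hzx]; exact hyV
    have hxV : x ∈ f ⁻¹ᵁ V := by change f x ∈ V; rw [hfx]; exact hyV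
    have heq : (f ∣_ V) ⟨z, hzV⟩ = (f ∣_ V) ⟨x, hxV⟩ := Subtype.ext (by
      change ((f ∣_ V) ⟨z, hzV⟩).1 = ((f ∣_ V) ⟨x, hxV⟩).1
      rw [morphismRestrict_base_coe, morphismRestrict_base_coe]
      exact hzx.trans hfx.symm)
    obtain rfl : z = x := congrArg Subtype.val ((f ∣_ V).isClosedEmbedding.injective heq)
    exact hz hflat
  haveI : IsClosedImmersion (f ∣_ V') := ThickSys.restrict_mono (Q := @IsClosedImmersion) inf_le_left hVc
  have hle : f ⁻¹ᵁ V' ≤ W := fun z hz => by_contra fun hzW => hz.2 ⟨z, hzW, rfl⟩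
  haveI : Flat ((f ⁻¹ᵁ V').ι ≫ f) := by
    haveI : Flat (W.ι ≫ f) := FibreFlat.flat_flatOpen f
    rw [← X.homOfLE_ι hle, Category.assoc]
    infer_instance
  haveI : Flat (f ∣_ V') := by
    have : Flat ((f ∣_ V') ≫ V'.ι) := by rw [morphismRestrict_ι]; infer_instance
    exact MorphismProperty.of_postcomp (W := @Flat) (W' := @IsOpenImmersion) _ V'.ι inferInstance this
  haveI : LocallyOfFinitePresentation (f ∣_ V') := IsZariskiLocalAtTarget.restrict ‹_› V'
  haveI : IsOpenImmersion (f ∣_ V') := IsOpenImmersion.of_flat_of_mono _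
  refine ⟨V'.ι ''ᵁ (f ∣_ V').opensRange, ⟨⟨_, hyV'⟩, ⟨⟨x, ?_⟩, Subtype.ext ?_⟩, rfl⟩, ?_⟩
  · change f x ∈ V'; rw [hfx]; exact hyV'
  · exact (morphismRestrict_base_coe f V' _).trans hfx
  · have e := morphismRestrictRestrict f V' (f ∣_ V').opensRange
    haveI : IsIso ((f ∣_ V') ∣_ (f ∣_ V').opensRange) := by
      haveI : Surjective ((f ∣_ V') ∣_ (f ∣_ V').opensRange) := ⟨fun z => by
        obtain ⟨a, ha⟩ := z.2
        exact ⟨⟨a, ⟨a, rfl⟩⟩, Subtype.ext ((morphismRestrict_base_coe (f ∣_ V') _ _).trans ha)⟩⟩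
      haveI : IsOpenImmersion ((f ∣_ V') ∣_ (f ∣_ V').opensRange) := IsZariskiLocalAtTarget.restrict ‹_› _
      exact (isIso_iff_isOpenImmersion_and_epi_base _).2 ⟨‹_›, (TopCat.epi_iff_surjective _).2 (Scheme.Hom.surjective _)⟩
    exact ((MorphismProperty.isomorphisms Scheme.{u}).arrow_mk_iso_iff e).1 ‹_›

theorem main {X Y S : Scheme.{u}} (g : X ⟶ S) (h : Y ⟶ S)
    [IsProper g] [LocallyOfFinitePresentation g] [Flat g] [IsProper h] [LocallyOfFinitePresentation h]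
    (f : X ⟶ Y) (w : f ≫ h = g) :
    ∃ U : S.Opens, (∀ s : S, s ∈ U ↔ ∃ e : g.fiber s ≅ h.fiber s, e.hom ≫ h.fiberι s = g.fiberι s ≫ f) ∧
      IsIso (f ∣_ (h ⁻¹ᵁ U)) := by
  subst w
  simp only [iso_iff]
  let Ω : Y.Opens := sSup {V | IsIso (f ∣_ V)}
  let U : S.Opens := ⟨(h '' (Ω : Set Y)ᶜ)ᶜ, (h.isClosedMap _ Ω.2.isClosed_compl).isOpen_compl⟩
  haveI hΩ : IsIso (f ∣_ (h ⁻¹ᵁ U)) := by
    refine (MorphismProperty.isomorphisms.iff _).1 ?_
    refine (IsZariskiLocalAtTarget.iff_of_iSup_eq_top (P := MorphismProperty.isomorphisms Scheme.{u})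
      (fun V : {V : Y.Opens // IsIso (f ∣_ V)} => (h ⁻¹ᵁ U).ι ⁻¹ᵁ V.1) ?_).2 fun V => ?_
    · refine top_le_iff.1 fun z _ => ?_
      have hz : z.1 ∈ Ω := by_contra fun hn => z.2 ⟨z.1, hn, rfl⟩
      obtain ⟨V, hV, hzV⟩ := TopologicalSpace.Opens.mem_sSup.1 hz
      exact TopologicalSpace.Opens.mem_iSup.2 ⟨⟨V, hV⟩, hzV⟩
    · refine ((MorphismProperty.isomorphisms Scheme.{u}).arrow_mk_iso_iff (morphismRestrictRestrict f (h ⁻¹ᵁ U) _)).2 ?_
      refine ThickSys.restrict_mono (Q := MorphismProperty.isomorphisms Scheme.{u}) (V := V.1) ?_ V.2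
      rintro _ ⟨z, hz, rfl⟩
      exact hz
  refine ⟨U, fun s => ⟨fun hs => ?_, fun hs => ?_⟩, hΩ⟩
  · have hpb := ThickSys.isPullback_fiberMapOver (f := f) (f ≫ h) h rfl s
    have hr : Set.range (h.fiberι s) ⊆ Set.range (h ⁻¹ᵁ U).ι := by
      rw [Scheme.Hom.range_fiberι, Scheme.Opens.range_ι]
      intro y hy
      change h y ∈ U
      rw [show h y = s from hy]; exact hs
    let j := IsOpenImmersion.lift (h ⁻¹ᵁ U).ι (h.fiberι s) hr
    have hj : j ≫ (h ⁻¹ᵁ U).ι = h.fiberι s := IsOpenImmersion.lift_fac _ _ _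
    rw [← hj] at hpb
    let k : (f ≫ h).fiber s ⟶ (f ⁻¹ᵁ (h ⁻¹ᵁ U) : Scheme) :=
      (isPullback_morphismRestrict f (h ⁻¹ᵁ U)).lift (CohIII.fiberMapOver f (f ≫ h) h rfl s ≫ j) ((f ≫ h).fiberι s)
        (by rw [Category.assoc]; exact hpb.w.symm)
    have sq : IsPullback k (CohIII.fiberMapOver f (f ≫ h) h rfl s) (f ∣_ (h ⁻¹ᵁ U)) j :=
      IsPullback.of_right (h₁₂ := (f ⁻¹ᵁ (h ⁻¹ᵁ U)).ι) (v₁₃ := f) (h₂₂ := (h ⁻¹ᵁ U).ι)
        (by rw [IsPullback.lift_snd]; exact hpb) ((isPullback_morphismRestrict f (h ⁻¹ᵁ U)).lift_fst _ _ _)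
        (isPullback_morphismRestrict f (h ⁻¹ᵁ U)).flip
    exact MorphismProperty.of_isPullback (P := MorphismProperty.isomorphisms Scheme.{u}) sq
      ((MorphismProperty.isomorphisms.iff _).2 hΩ)
  · rintro ⟨y, hy, rfl⟩
    haveI := hs
    obtain ⟨V, hyV, hV⟩ := exists_nhd h f (h y) (y := y) rfl
    exact hy (TopologicalSpace.Opens.mem_sSup.2 ⟨V, hV, hyV⟩)

end

/-- Let g : X → S and h : Y → S be proper and of finite presentation with g flat, and f : X → Y a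
morphism over S. Then the locus U of points of S over which the fibre morphism X_s → Y_s is an
isomorphism is an open subset of S, and f restricts to an isomorphism over U. -/
theorem result {X Y S : Scheme.{u}} (g : X ⟶ S) (h : Y ⟶ S)
    [IsProper g] [LocallyOfFinitePresentation g] [Flat g] [IsProper h] [LocallyOfFinitePresentation h]
    (f : X ⟶ Y) (w : f ≫ h = g) :
    ∃ U : S.Opens, (∀ s : S, s ∈ U ↔ ∃ e : g.fiber s ≅ h.fiber s, e.hom ≫ h.fiberι s = g.fiberι s ≫ f) ∧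
      IsIso (f ∣_ (h ⁻¹ᵁ U)) := by
  exact Groth.Agent.S10888.main g h f w

end Groth.Agent.S10888
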