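import Groth.Statements.S4921
import Mathlib
import Groth.Agent.Unibranch.FibreDims
import Groth.Agent.S3387

set_option autoImplicit false
open CategoryTheory AlgebraicGeometry
universe u v w
open EGA43

namespace Groth.Agent.S4921

/-- Let Y be a locally Noetherian scheme, f : X ⟶ Y a proper morphism and y a point of Y such that f is
open at every point of the fibre over y. Then the function z ↦ dim X_z is constant on a
neighbourhood of y. -/
theorem result {X Y : Scheme.{u}} [IsLocallyNoetherian Y] (f : X ⟶ Y)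
    [IsProper f] (y : Y) (h : ∀ x : X, f.base x = y → EGA43.IsOpenAt f.base x) :
    ∃ V ∈ nhds y, ∀ z ∈ V, topologicalKrullDim ↥(f.fiber z) = topologicalKrullDim ↥(f.fiber y) := by
  have := LocallyOfFiniteType.isLocallyNoetherian f
  have := ConsEngine.lfp_of_lft f
  have hup : {z | topologicalKrullDim ↥(f.fiber z) ≤ topologicalKrullDim ↥(f.fiber y)} ∈ nhds y := by
    rcases Unibranch.exists_natCast_dim_fiber f y with hE | ⟨n, hn⟩
    · have hy : y ∈ (Set.range f.base)ᶜ := fun ⟨x, hx⟩ ↦
        hE.false ((f.fiberHomeo y).symm ⟨x, hx⟩)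
      refine Filter.mem_of_superset (f.isClosedMap.isClosed_range.isOpen_compl.mem_nhds hy) fun z hz ↦ ?_
      show topologicalKrullDim ↥(f.fiber z) ≤ _
      have : IsEmpty ↥(f.fiber z) := ⟨fun p ↦ hz ⟨_, (f.range_fiberι z).le ⟨p, rfl⟩⟩⟩
      have : IsEmpty (TopologicalSpace.IrreducibleCloseds ↥(f.fiber z)) := ⟨fun Z ↦ isEmptyElim Z.2.nonempty.some⟩
      rw [topologicalKrullDim, Order.krullDim_eq_bot]
      exact bot_le
    · have hnot : y ∉ {z : Y | ((n + 1 : ℕ) : WithBot ℕ∞) ≤ topologicalKrullDim ↥(f.fiber z)} := fun hc ↦ by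
        have hc' : ((n + 1 : ℕ) : WithBot ℕ∞) ≤ topologicalKrullDim ↥(f.fiber y) := hc
        rw [hn] at hc'
        have : n + 1 ≤ n := by exact_mod_cast hc'
        omega
      refine Filter.mem_of_superset
        ((S3387.result f f.isClosedMap (n + 1)).isOpen_compl.mem_nhds hnot) fun z hz ↦ ?_
      show topologicalKrullDim ↥(f.fiber z) ≤ _
      rw [hn]
      by_contra hlt
      exact hz (DimField.natCast_add_one_le (not_le.mp hlt))
  refine ⟨_, Unibranch.mem_nhds_of_isLocallyConstructible (S1333.result f _) fun y' hy' ↦ ?_, fun z hz ↦ hz⟩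
  obtain ⟨O, hO, hOopen, hyO⟩ := mem_nhds_iff.mp hup
  exact le_antisymm (hO (hy'.mem_open hOopen hyO)) (Unibranch.dim_le_of_isOpenAt f hy' h)

end Groth.Agent.S4921
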