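import Groth.Statements.S4086
import Groth.Agent.Grpd.Glue
import Groth.Agent.Grpd.Inverse

set_option autoImplicit false
universe u
open CategoryTheory MonoidalCategory CartesianMonoidalCategory MonObj GrpObj AlgebraicGeometry CategoryTheory.Limits
open GrpQ

namespace Groth.Agent.S4086

open Groth.Agent.GrpdLib

/-- Let (U, R, s, t, c) be a groupoid scheme over S with s finite locally free and every set t(s⁻¹(x))
contained in an affine open of U, and assume that j = (t, s) : R → U ×_S U is a monomorphism. Then
for every coequalizer p : U → Y of (t, s) in schemes, the square formed by t, s, p, p is cartesian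
(R ≅ U ×_Y U) and p is finite locally free. (The source adds that Y is then the quotient sheaf for
the fppf topology and that its formation commutes with base change on Y.) -/
theorem result (S : Scheme.{u}) (G : Grpd.GroupoidScheme S)
    (ha : Mor2.IsFinLocFree G.s)
    (hb : ∀ x : G.U, ∃ V : G.U.Opens, IsAffineOpen V ∧ G.t.base '' (G.s.base ⁻¹' {x}) ⊆ (V : Set G.U))
    [Mono G.j] (Y : Scheme.{u}) (p : G.U ⟶ Y) (w : G.t ≫ p = G.s ≫ p) (hc : IsColimit (Cofork.ofπ p w)) :
    IsPullback G.t G.s p p ∧ Mor2.IsFinLocFree p := by
  obtain ⟨_, _, _⟩ := ha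
  have : IsFinite G.t := t_property G @IsFinite ‹_›
  have : Flat G.t := t_property G @Flat ‹_›
  have : LocallyOfFinitePresentation G.t := t_property G @LocallyOfFinitePresentation ‹_›
  have hG : OrbitsAffine G := hb
  obtain ⟨hl⟩ := quotMap_isColimit hG
  let e := hl.coconePointUniqueUpToIso hc
  have he : quotMap hG ≫ e.hom = p :=
    hl.comp_coconePointUniqueUpToIso_hom hc WalkingParallelPair.one
  have hprop : ∀ (P : MorphismProperty Scheme.{u}) [P.RespectsIso], P (quotMap hG) → P p :=
    fun P _ h => he ▸ (MorphismProperty.cancel_right_of_respectsIso P _ _).2 h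
  refine ⟨?_, hprop @IsFinite (quotMap_property hG @IsFinite fun W => (quotient_spec W.gr).1.1),
    hprop @Flat (quotMap_property hG @Flat fun W => (quotient_spec W.gr).1.2.1),
    hprop @LocallyOfFinitePresentation
      (quotMap_property hG @LocallyOfFinitePresentation fun W => (quotient_spec W.gr).1.2.2)⟩
  exact (quotMap_isPullback hG).of_iso (Iso.refl _) (Iso.refl _) (Iso.refl _) e
    (by simp) (by simp) (by simpa using he) (by simpa using he)

end Groth.Agent.S4086
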