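import Groth.Statements.S10411
import Groth.Agent.AlgSpLib.Subspace
import Groth.Agent.AlgSpLib.Presentation
import Groth.Agent.AlgSpLib.DiagProp
import Groth.Agent.S4085
import Groth.Agent.S4086
import Groth.Agent.SliceEqv.Grpd
import Groth.Agent.Grpd.InvAffine
-- import your own Groth.Agent.* helpers here

set_option autoImplicit false
universe u
open CategoryTheory CategoryTheory.Limits AlgebraicGeometry Topology TopologicalSpace
open AlgSp

namespace Groth.Agent.S10411

open Groth.Agent.AlgSpLib Groth.Agent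

theorem quotient_scheme {S : Scheme.{u}} {F : AlgSp.Sp S} (hF : AlgSp.IsAlgSpace F) {U : Over S}
    (p : (AlgSp.yon S).obj U ⟶ F) (hp : AlgSp.RepWith AlgSp.finLocFree p) (hps : AlgSp.RepWith @Surjective p)
    (haff : ∀ E : Set ↥U.left, E.Finite → ∃ V : U.left.Opens, IsAffineOpen V ∧ E ⊆ (V : Set ↥U.left)) :
    ∃ V : Over S, Nonempty ((AlgSp.yon S).obj V ≅ F) := by
  obtain ⟨R, t, s, sq⟩ := exists_pullback hF.diag p p
  have hflf : Mor2.IsFinLocFree s.left := hp.2 p _ s sq
  have h := isEqvRel_of_isPullback sq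
  let G := SliceEqv.eqvGrpd h
  have : Mono G.j := SliceEqv.mono_j h
  have hsfin : IsFinite s.left := hflf.1
  have hb : ∀ x : G.U, ∃ V : G.U.Opens, IsAffineOpen V ∧ G.t.base '' (G.s.base ⁻¹' {x}) ⊆ (V : Set G.U) := fun x =>
    haff _ ((s.left.finite_preimage_singleton x).image _)
  obtain ⟨Y, q, w, ⟨hc⟩, -, hq, -⟩ := Groth.Agent.S4085.result S G hflf hb
  obtain ⟨sqY, hqf⟩ := Groth.Agent.S4086.result S G hflf hb Y q w hc
  have hw : G.t ≫ U.hom = G.s ≫ U.hom := (Over.w t).trans (Over.w s).symm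
  let Y' : Over S := Over.mk (hc.desc (Cofork.ofπ U.hom hw))
  let q' : U ⟶ Y' := Over.homMk q (hc.fac (Cofork.ofπ U.hom hw) WalkingParallelPair.one)
  have sqY' : IsPullback ((AlgSp.yon S).map t) ((AlgSp.yon S).map s) ((AlgSp.yon S).map q') ((AlgSp.yon S).map q') :=
    isPullback_yon_iff.2 sqY
  have : Flat q'.left := hqf.2.1
  have : Surjective q'.left := hq
  have : LocallyOfFinitePresentation q'.left := hqf.2.2
  have : Sheaf.IsLocallySurjective ((AlgSp.yon S).map q') :=
    isLocallySurjective_of_repWith _ ((repWith_yon_iff _).2 ‹Flat q'.left›)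
      ((repWith_yon_iff _).2 ‹LocallyOfFinitePresentation q'.left›) ((repWith_yon_iff _).2 ‹Surjective q'.left›)
  have : Sheaf.IsLocallySurjective p := isLocallySurjective_of_repWith _
    (repWith_mono (fun _ _ f hf => hf.2.1) hp) (repWith_mono (fun _ _ f hf => hf.2.2) hp) hps
  obtain ⟨hp'⟩ := isColimit_of_isPullback sq
  obtain ⟨hq'⟩ := isColimit_of_isPullback sqY'
  exact ⟨Y', ⟨hq'.coconePointUniqueUpToIso hp'⟩⟩

theorem exists_yon_iso {S : Scheme.{u}} {F : AlgSp.Sp S} (h : F.obj.IsRepresentable) :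
    ∃ V : Over S, Nonempty ((AlgSp.yon S).obj V ≅ F) := by
  obtain ⟨V, ⟨hV⟩⟩ := h.has_representation
  exact ⟨V, ⟨(sheafToPresheaf _ _).preimageIso (NatIso.ofComponents
    (fun T => (Equiv.ulift.trans hV.homEquiv).toIso) fun {T T'} g => by
      ext ⟨a⟩; exact hV.homEquiv_comp g.unop a)⟩⟩

end Groth.Agent.S10411

namespace Groth.Agent.S10411

/-- Let S be a scheme, X and Y algebraic spaces over S, X ⟶ Y a surjective finite locally free morphism,
and y ∈ |Y|. Then y lies in the schematic locus of Y (some open subspace of Y containing y is a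
scheme) if and only if there is an affine open subscheme U ⊆ X containing the preimage of y. -/
theorem result {S : Scheme.{u}} {X Y : AlgSp.Space S} (f : X ⟶ Y)
    (hf : AlgSp.IsFinLocFreeMor f.hom) (hs : AlgSp.RepWith @Surjective f.hom) (y : AlgSp.Points Y.obj) :
    (∃ (Y' : AlgSp.Space S) (j : Y' ⟶ Y), AlgSp.RepWith @IsOpenImmersion j.hom ∧ Y'.obj.obj.IsRepresentable ∧
        y ∈ Set.range (AlgSp.Points.map j.hom)) ↔
      ∃ (U : Over S) (a : (AlgSp.yon S).obj U ⟶ X.obj), IsAffine U.left ∧ AlgSp.RepWith @IsOpenImmersion a ∧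
        AlgSp.Points.map f.hom ⁻¹' {y} ⊆ Set.range (AlgSp.Points.ofPt a) := by
  constructor
  · rintro ⟨Y', j, hj, hrep, z, rfl⟩
    obtain ⟨V, ⟨φ⟩⟩ := exists_yon_iso hrep
    have hm : AlgSp.RepWith @IsOpenImmersion (φ.hom ≫ j.hom) :=
      (Groth.Agent.AlgSpLib.repWith_iso_comp_iff φ.hom _).2 hj
    obtain ⟨v, hv⟩ := (AlgSp.Points.schemeEquiv V).surjective (AlgSp.Points.map φ.inv z)
    obtain ⟨_, ⟨W, hW, rfl⟩, hvW, -⟩ :=
      V.left.isBasis_affineOpens.exists_subset_of_mem_open (Set.mem_univ v) isOpen_univ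
    let m : (AlgSp.yon S).obj (Over.mk ((Scheme.Opens.ι (W : V.left.Opens)) ≫ V.hom)) ⟶ Y.obj :=
      (AlgSp.yon S).map (Over.homMk (Scheme.Opens.ι (W : V.left.Opens)) rfl) ≫ φ.hom ≫ j.hom
    have hm' : AlgSp.RepWith @IsOpenImmersion m := Groth.Agent.AlgSpLib.repWith_comp
      ((Groth.Agent.AlgSpLib.repWith_yon_iff _).2 (inferInstanceAs (IsOpenImmersion (Scheme.Opens.ι (W : V.left.Opens))))) hm
    obtain ⟨U, snd, fst, sq⟩ := hf.1 m
    have hfin : IsFinite snd.left := (hf.2 m fst snd sq).1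
    have hWa : IsAffine (Over.mk ((Scheme.Opens.ι (W : V.left.Opens)) ≫ V.hom)).left := hW
    refine ⟨U, fst, isAffine_of_isAffineHom snd.left, Groth.Agent.AlgSpLib.repWith_baseChange sq.flip hm', fun x hx => ?_⟩
    obtain ⟨w, hw1, -⟩ := Groth.Agent.AlgSpLib.exists_point_of_isPullback sq x
      (AlgSp.Points.ofScheme (Over.mk ((Scheme.Opens.ι (W : V.left.Opens)) ≫ V.hom)) ⟨v, hvW⟩) (by
        rw [← AlgSp.Points.ofPt_eq_map_ofScheme]
        show _ = AlgSp.Points.ofPt m _
        rw [show AlgSp.Points.map f.hom x = AlgSp.Points.map j.hom z from hx, Groth.Agent.AlgSpLib.ofPt_comp]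
        show _ = AlgSp.Points.ofPt (φ.hom ≫ j.hom) v
        rw [AlgSp.Points.ofPt_eq_map_ofScheme, AlgSp.Points.map_comp,
          show AlgSp.Points.ofScheme V v = AlgSp.Points.map φ.inv z from hv, ← AlgSp.Points.map_comp,
          ← AlgSp.Points.map_comp, Iso.inv_hom_id_assoc])
    obtain ⟨w', rfl⟩ := (AlgSp.Points.schemeEquiv U).surjective w
    exact ⟨w', (AlgSp.Points.ofPt_eq_map_ofScheme fst w').trans hw1⟩
  · rintro ⟨U, a, hUa, ha, hfib⟩
    obtain ⟨V, b, hb, hbs⟩ := Y.property.atlas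
    obtain ⟨P, c, d, sqP⟩ := hf.1 b
    have hcf : IsFinite c.left := (hf.2 b d c sqP).1
    let A : Set ↥P.left := AlgSp.Points.ofPt d ⁻¹' Set.range (AlgSp.Points.ofPt a)
    have hA : IsOpen A := (Groth.Agent.AlgSpLib.isOpenMap_ofPt (Groth.Agent.AlgSpLib.repWith_universallyOpen_of_etale
      (Groth.Agent.AlgSpLib.repWith_mono (fun _ _ g hg => (by have : IsOpenImmersion g := hg; infer_instance : Etale g)) ha))).isOpen_range.preimage
        (AlgSp.Points.continuous_ofPt d)
    let D : Set ↥V.left := (c.left '' Aᶜ)ᶜ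
    have hD : IsOpen D := (c.left.isClosedMap _ hA.isClosed_compl).isOpen_compl
    let W : Set (AlgSp.Points Y.obj) := AlgSp.Points.ofPt b '' D
    have hW : IsOpen W := Groth.Agent.AlgSpLib.isOpenMap_ofPt
      (Groth.Agent.AlgSpLib.repWith_universallyOpen_of_etale hb) _ hD
    have hyW : y ∈ W := by
      obtain ⟨v, hv⟩ := Groth.Agent.AlgSpLib.ofPt_surjective hbs y
      refine ⟨v, ?_, hv⟩
      rintro ⟨p, hp, hpv⟩
      apply hp
      apply hfib
      show AlgSp.Points.map f.hom (AlgSp.Points.ofPt d p) = y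
      rw [AlgSp.Points.map_ofPt, sqP.w, Groth.Agent.AlgSpLib.ofPt_comp, hpv, hv]
    have hWA : ∀ x, AlgSp.Points.map f.hom x ∈ W → x ∈ Set.range (AlgSp.Points.ofPt a) := by
      rintro x ⟨v, hvD, hv⟩
      obtain ⟨w, hw1, hw2⟩ := Groth.Agent.AlgSpLib.exists_point_of_isPullback sqP x (AlgSp.Points.ofScheme V v)
        (by rw [← AlgSp.Points.ofPt_eq_map_ofScheme]; exact hv.symm)
      obtain ⟨p, rfl⟩ := (AlgSp.Points.schemeEquiv P).surjective w
      have hpv : c.left p = v := (AlgSp.Points.schemeEquiv V).injective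
        ((Groth.Agent.AlgSpLib.ofScheme_map c p).symm.trans hw2)
      have hpA : p ∈ A := by
        by_contra hh
        exact hvD ⟨p, hh, hpv⟩
      rw [← hw1]
      exact (AlgSp.Points.ofPt_eq_map_ofScheme d p) ▸ hpA
    let O : U.left.Opens := ⟨AlgSp.Points.ofPt (a ≫ f.hom) ⁻¹' W, hW.preimage (AlgSp.Points.continuous_ofPt _)⟩
    let U' : Over S := Over.mk (O.ι ≫ U.hom)
    let i : U' ⟶ U := Over.homMk O.ι rfl
    obtain ⟨g, hg⟩ := Groth.Agent.AlgSpLib.exists_subInc_lift (W := W) ((AlgSp.yon S).map i ≫ a ≫ f.hom) (fun t => by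
      rw [Groth.Agent.AlgSpLib.ofPt_comp]
      exact t.2)
    have hai : AlgSp.RepWith @IsOpenImmersion ((AlgSp.yon S).map i ≫ a) := Groth.Agent.AlgSpLib.repWith_comp
      ((Groth.Agent.AlgSpLib.repWith_yon_iff i).2 (inferInstanceAs (IsOpenImmersion O.ι))) ha
    have : Mono ((AlgSp.yon S).map i ≫ a) := Groth.Agent.AlgSpLib.mono_of_repWith_immersion
      (Groth.Agent.AlgSpLib.repWith_mono (fun _ _ k hk => (by have : IsOpenImmersion k := hk; infer_instance : IsImmersion k)) hai)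
    have sqg : IsPullback ((AlgSp.yon S).map i ≫ a) g f.hom (Groth.Agent.AlgSpLib.subInc W) := by
      refine Groth.Agent.AlgSpLib.isPullback_of_points (by rw [hg, Category.assoc]) fun T x y e => ?_
      obtain ⟨l, hl⟩ := (Groth.Agent.AlgSpLib.exists_factor_iff (AlgSp.IsAlgSpace.yon_obj U') X.property _ hai x).2 (by
        rintro _ ⟨w, rfl⟩
        obtain ⟨τ, rfl⟩ := (AlgSp.Points.schemeEquiv T).surjective w
        have h1 : AlgSp.Points.map f.hom (AlgSp.Points.ofPt x τ) ∈ W := by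
          rw [AlgSp.Points.map_ofPt, e]
          exact Groth.Agent.AlgSpLib.ofPt_subInc_mem y τ
        obtain ⟨u, hu⟩ := hWA _ h1
        have h2 : u ∈ O := by
          show AlgSp.Points.ofPt (a ≫ f.hom) u ∈ W
          rw [← AlgSp.Points.map_ofPt, hu]
          exact h1
        refine ⟨AlgSp.Points.ofScheme U' ⟨u, h2⟩, ?_⟩
        show AlgSp.Points.map _ _ = AlgSp.Points.map x (AlgSp.Points.ofScheme T τ)
        rw [← AlgSp.Points.ofPt_eq_map_ofScheme, ← AlgSp.Points.ofPt_eq_map_ofScheme, Groth.Agent.AlgSpLib.ofPt_comp]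
        exact hu)
      refine ⟨l, ⟨hl, ?_⟩, fun l' hl' => (cancel_mono ((AlgSp.yon S).map i ≫ a)).1 (hl'.1.trans hl.symm)⟩
      rw [← cancel_mono (Groth.Agent.AlgSpLib.subInc W), Category.assoc, hg, ← e, ← hl]
      simp only [Category.assoc]
    have hW' := Groth.Agent.AlgSpLib.isAlgSpace_subSheaf Y.property hW
    obtain ⟨Q, ⟨φ⟩⟩ := quotient_scheme hW' g (Groth.Agent.AlgSpLib.repWith_baseChange sqg hf)
      (Groth.Agent.AlgSpLib.repWith_baseChange sqg hs) (fun E hE => by
        have : IsAffine U.left := hUa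
        obtain ⟨r, hr, hEr⟩ := Groth.Agent.GrpdLib.exists_basicOpen_of_finite O (Set.Finite.image (fun e : ↥U'.left => O.ι e) hE) (by
          rintro _ ⟨e, -, rfl⟩
          exact e.2)
        exact ⟨O.ι ⁻¹ᵁ U.left.basicOpen r,
          ((isAffineOpen_top U.left).basicOpen r).preimage_of_isOpenImmersion _ (by rw [Scheme.Opens.opensRange_ι]; exact hr),
          fun e he => hEr ⟨e, he, rfl⟩⟩)
    refine ⟨⟨Groth.Agent.AlgSpLib.subSheaf W, hW'⟩, ObjectProperty.homMk (Groth.Agent.AlgSpLib.subInc W),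
      Groth.Agent.AlgSpLib.repWith_subInc hW, (AlgSp.representableByOfIso φ).isRepresentable, ?_⟩
    show y ∈ Set.range (AlgSp.Points.map (Groth.Agent.AlgSpLib.subInc W))
    rw [Groth.Agent.AlgSpLib.range_subInc]
    exact hyW

end Groth.Agent.S10411
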