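import Groth.Statements.S7489
import Groth.Agent.TransTop.Profinite

set_option autoImplicit false
universe u
open CategoryTheory MonoidalCategory CartesianMonoidalCategory MonObj GrpObj AlgebraicGeometry
open GrpSch

namespace Groth.Agent.S7489

/-- Let k be an algebraically closed field and G a group scheme over k such that the underlying space of
G is Jacobson and every closed point of G is k-rational (the image of a section of G -> Spec k). Let
A be a k-algebra such that every finite subset of A is contained in a k-subalgebra isomorphic to a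
finite product of copies of k (A is a directed colimit of such algebras), and f : Spec A -> G a
morphism over k. Then there is an affine open U of G containing the image of f. -/
theorem result (k : Type u) [Field k] [IsAlgClosed k] (G : Over (Spec (CommRingCat.of k))) [GrpObj G] [JacobsonSpace G.left] (hrat : ∀ g : G.left, IsClosed ({g} : Set G.left) → ∃ x : Spec (CommRingCat.of k) ⟶ G.left, x ≫ G.hom = 𝟙 _ ∧ x (IsLocalRing.closedPoint k) = g) (A : Type u) [CommRing A] [Algebra k A] (hA : ∀ s : Finset A, ∃ (B : Subalgebra k A) (n : ℕ), (↑s : Set A) ⊆ (B : Set A) ∧ Nonempty (B ≃ₐ[k] (Fin n → k))) (f : Spec (CommRingCat.of A) ⟶ G.left) (hf : f ≫ G.hom = Spec.map (CommRingCat.ofHom (algebraMap k A))) : ∃ U : G.left.Opens, IsAffineOpen U ∧ Set.range ⇑f ⊆ (U : Set G.left) := by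

  haveI hA' : Algebra.IsIntegral k A := ⟨fun a => by
    obtain ⟨B, n, hB, ⟨e⟩⟩ := hA {a}
    haveI : Module.Finite k B := Module.Finite.equiv e.symm.toLinearEquiv
    exact (IsIntegral.of_finite k (⟨a, hB (by simp)⟩ : B)).map B.val⟩
  let T : Over (Spec (CommRingCat.of k)) :=
    Over.mk (Spec.map (CommRingCat.ofHom (algebraMap k A)))
  haveI : IsIntegralHom T.hom := IsIntegralHom.SpecMap_iff.2 Algebra.IsIntegral.isIntegral
  haveI : CompactSpace T.left := inferInstanceAs (CompactSpace (PrimeSpectrum A))
  have hG : Groth.Agent.TransTop.RatPts G := fun g hg => by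
    obtain ⟨x, hx, hxg⟩ := hrat g hg
    exact ⟨Over.homMk x hx, hxg⟩
  have hT : ∀ t : T.left, ∃ q : 𝟙_ (Over (Spec (CommRingCat.of k))) ⟶ T,
      q.left (IsLocalRing.closedPoint k) = t := by
    intro t
    let P : PrimeSpectrum A := t
    haveI := P.2
    let e : k ≃ₐ[k] A ⧸ P.asIdeal := AlgEquiv.ofBijective (Algebra.ofId k (A ⧸ P.asIdeal))
      ⟨(algebraMap k (A ⧸ P.asIdeal)).injective,
        (IsAlgClosed.algebraMap_bijective_of_isIntegral (k := k) (K := A ⧸ P.asIdeal)).2⟩
    let φ : A →ₐ[k] k := e.symm.toAlgHom.comp (Ideal.Quotient.mkₐ k P.asIdeal)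
    refine ⟨Over.homMk (Spec.map (CommRingCat.ofHom φ.toRingHom)) ?_, ?_⟩
    · change Spec.map _ ≫ Spec.map _ = 𝟙 _
      rw [← Spec.map_comp, ← CommRingCat.ofHom_comp, show φ.toRingHom.comp (algebraMap k A) = RingHom.id k from φ.comp_algebraMap]
      exact Spec.map_id _
    · refine PrimeSpectrum.ext ?_
      change Ideal.comap φ.toRingHom (IsLocalRing.maximalIdeal k) = P.asIdeal
      rw [IsLocalRing.maximalIdeal_eq_bot, ← RingHom.ker_eq_comap_bot]
      ext a
      simp [φ, RingHom.mem_ker, Ideal.Quotient.eq_zero_iff_mem]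
  exact Groth.Agent.TransTop.exists_affineOpen_range_subset hG T (Over.homMk f hf) hT

end Groth.Agent.S7489
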