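import Groth.Statements.S2119
-- import your own Groth.Agent.* helpers here
import Mathlib

set_option autoImplicit false
universe u
open CAlg

namespace Groth.Agent.S2119

/-- Nagata's criterion for factoriality, final assertion: let `A` be a domain in which every nonzero
nonunit factors into irreducibles, and `S` the multiplicative subset generated by a set of prime
elements. If the localization `S⁻¹A` is a unique factorization domain, then so is `A`. -/
theorem result {A : Type u} [CommRing A] [IsDomain A]
    (hfac : ∀ a : A, a ≠ 0 → ¬ IsUnit a → ∃ f : Multiset A, (∀ b ∈ f, Irreducible b) ∧ Associated f.prod a) (P : Set A)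
    (hP : ∀ p ∈ P, Prime p) [IsDomain (Localization (Submonoid.closure P))]
    (hS : UniqueFactorizationMonoid (Localization (Submonoid.closure P))) : UniqueFactorizationMonoid A := by
  classical
  let S := Submonoid.closure P
  let L := Localization S
  have hP0 : ∀ s ∈ S, s ≠ 0 := fun s hs => by
    induction hs using Submonoid.closure_induction with
    | mem x hx => exact (hP x hx).ne_zero
    | one => exact one_ne_zero
    | mul x y _ _ hx hy => exact mul_ne_zero hx hy
  have hle : S ≤ nonZeroDivisors A := fun s hs => mem_nonZeroDivisors_of_ne_zero (hP0 s hs)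
  have hinj : Function.Injective (algebraMap A L) := IsLocalization.injective L hle
  have hL : ∀ q : A, (∀ p ∈ P, ¬ p ∣ q) → ∀ s ∈ S, ∀ b, q ∣ s * b → q ∣ b := by
    intro q hq s hs
    induction hs using Submonoid.closure_induction with
    | mem p hp =>
      rintro b ⟨r, hr⟩
      obtain ⟨r', rfl⟩ := ((hP p hp).dvd_or_dvd (Dvd.intro b hr)).resolve_left (hq p hp)
      exact ⟨r', mul_left_cancel₀ (hP p hp).ne_zero (by rw [hr]; ring)⟩
    | one => exact fun b hb => by rwa [one_mul] at hb
    | mul x y _ _ hx hy => exact fun b hb => hy b (hx _ (by rwa [← mul_assoc]))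
  have hsplit : ∀ s ∈ S, ∀ q x y : A, s * q = x * y →
      ∃ s₁ ∈ S, ∃ s₂ ∈ S, ∃ x' y', x = s₁ * x' ∧ y = s₂ * y' ∧ q = x' * y' := by
    intro s hs
    induction hs using Submonoid.closure_induction with
    | mem p hp =>
      intro q x y h
      rcases (hP p hp).dvd_or_dvd (Dvd.intro q h) with ⟨x', rfl⟩ | ⟨y', rfl⟩
      · exact ⟨p, Submonoid.subset_closure hp, 1, one_mem _, x', y, rfl, (one_mul y).symm,
          mul_left_cancel₀ (hP p hp).ne_zero (by rw [h]; ring)⟩
      · exact ⟨1, one_mem _, p, Submonoid.subset_closure hp, x, y', (one_mul x).symm, rfl,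
          mul_left_cancel₀ (hP p hp).ne_zero (by rw [h]; ring)⟩
    | one => exact fun q x y h => ⟨1, one_mem _, 1, one_mem _, x, y, (one_mul x).symm, (one_mul y).symm,
        by rw [← h, one_mul]⟩
    | mul s t _ _ ihs iht =>
      intro q x y h
      obtain ⟨s₁, hs₁, s₂, hs₂, x', y', rfl, rfl, hxy⟩ := ihs (t * q) x y (by rw [← h, mul_assoc])
      obtain ⟨t₁, ht₁, t₂, ht₂, x'', y'', rfl, rfl, hq⟩ := iht q x' y' hxy
      exact ⟨s₁ * t₁, mul_mem hs₁ ht₁, s₂ * t₂, mul_mem hs₂ ht₂, x'', y'', (mul_assoc _ _ _).symm,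
        (mul_assoc _ _ _).symm, hq⟩
  have hirr : ∀ q : A, Irreducible q → Prime q := by
    intro q hq
    by_cases hex : ∃ p ∈ P, p ∣ q
    · obtain ⟨p, hp, hpq⟩ := hex
      exact ((hP p hp).irreducible.associated_of_dvd hq hpq).prime (hP p hp)
    push Not at hex
    have hqL : Irreducible (algebraMap A L q) := by
      refine ⟨fun hu => ?_, fun X Y h => ?_⟩
      · obtain ⟨Z, hZ⟩ := hu.exists_right_inv
        obtain ⟨⟨z, s⟩, hzs⟩ := IsLocalization.surj S Z
        have h2 : algebraMap A L (q * z) = algebraMap A L (s : A) := by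
          rw [map_mul, ← hzs, ← mul_assoc, hZ, one_mul]
        exact hq.not_isUnit (isUnit_of_dvd_one (hL q hex s s.2 1 ⟨z, by rw [mul_one]; exact (hinj h2).symm⟩))
      · obtain ⟨⟨x, s⟩, hx⟩ := IsLocalization.surj S X
        obtain ⟨⟨y, t⟩, hy⟩ := IsLocalization.surj S Y
        have h2 : algebraMap A L ((s : A) * t * q) = algebraMap A L (x * y) := by
          rw [map_mul, map_mul, map_mul, h, ← hx, ← hy]; ring
        obtain ⟨s₁, hs₁, s₂, hs₂, x', y', rfl, rfl, hxy⟩ := hsplit _ (mul_mem s.2 t.2) q x y (hinj h2)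
        rcases hq.isUnit_or_isUnit hxy with hu | hu
        · left
          have : IsUnit (X * algebraMap A L (s : A)) := by
            rw [hx, map_mul]
            exact (IsLocalization.map_units L ⟨s₁, hs₁⟩).mul (hu.map _)
          exact isUnit_of_mul_isUnit_left this
        · right
          have : IsUnit (Y * algebraMap A L (t : A)) := by
            rw [hy, map_mul]
            exact (IsLocalization.map_units L ⟨s₂, hs₂⟩).mul (hu.map _)
          exact isUnit_of_mul_isUnit_left this
    have hqP : Prime (algebraMap A L q) := (UniqueFactorizationMonoid.irreducible_iff_prime (α := L)).1 hqL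
    refine ⟨hq.ne_zero, hq.not_isUnit, fun x y hxy => ?_⟩
    have key : ∀ z, algebraMap A L q ∣ algebraMap A L z → q ∣ z := by
      rintro z ⟨Z, hZ⟩
      obtain ⟨⟨w, s⟩, hws⟩ := IsLocalization.surj S Z
      refine hL q hex s s.2 z ⟨w, hinj ?_⟩
      rw [map_mul, map_mul, ← hws, hZ]
      ring
    exact (hqP.dvd_or_dvd (by rw [← map_mul]; exact map_dvd _ hxy)).imp (key x) (key y)
  refine UniqueFactorizationMonoid.of_exists_prime_factors fun a ha => ?_
  by_cases hu : IsUnit a
  · exact ⟨0, by simp, by simpa using (associated_one_iff_isUnit.2 hu).symm⟩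
  · obtain ⟨f, hf, hfa⟩ := hfac a ha hu
    exact ⟨f, fun b hb => hirr b (hf b hb), hfa⟩

end Groth.Agent.S2119
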