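import Groth.Statements.S2153
import Groth.Agent.AmpleHomeo.Basic

set_option autoImplicit false
universe u
open CategoryTheory AlgebraicGeometry
open Lim

set_option backward.isDefEq.respectTransparency false
set_option backward.isDefEq.respectTransparency.types false

namespace Groth.Agent.S2153

/-- Let `i : Z → X` be a closed immersion which is a homeomorphism on underlying spaces and `L` an
invertible `O_X`-module. Then `L` is ample on `X` exactly when its pullback `i^*L` is ample on `Z`. -/
theorem result {Z X : Scheme.{u}} (i : Z ⟶ X) [IsClosedImmersion i]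
    (hi : IsHomeomorph i.base) (L : X.Modules) (hL : PicF.IsInvertible L) :
    CohB1.IsAmple ((Scheme.Modules.pullback i).obj L) ↔ CohB1.IsAmple L := by
  haveI : Surjective i := ⟨hi.surjective⟩
  refine ⟨Groth.Agent.AmpleHomeo.isAmple_of_isAmple_pullback i hL, fun h => ?_⟩
  haveI := h.2.1
  haveI : CompactSpace Z := ⟨i.isClosedEmbedding.isInducing.isCompact_iff.2 (by rw [Set.image_univ, hi.surjective.range_eq]; exact isCompact_univ)⟩
  exact TMul.isAmple_pullback i i.isClosedEmbedding.isInducing h

end Groth.Agent.S2153
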