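import Groth.Statements.S6270
import Groth.Agent.MLMod.ProjLift

set_option autoImplicit false
universe u
open scoped TensorProduct
open CAlg Groth.Agent

namespace Groth.Agent.S6270

/-- Let R be a ring, I ⊆ R a nilpotent ideal and M an R-module. If M is flat over R and M/IM (that is,
R/I ⊗ M) is a projective R/I-module, then M is a projective R-module. -/
theorem result {R : Type u} [CommRing R] (I : Ideal R) (hI : IsNilpotent I) (M : Type u) [AddCommGroup M] [Module R M] [Module.Flat R M] (hproj : Module.Projective (R ⧸ I) ((R ⧸ I) ⊗[R] M)) : Module.Projective R M := by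
  obtain ⟨n, hn⟩ := hI
  let e := TensorProduct.quotTensorEquivQuotSMul M I
  let eS : ((R ⧸ I) ⊗[R] M) ≃ₗ[R ⧸ I] (M ⧸ (I • ⊤ : Submodule R M)) :=
    LinearEquiv.extendScalarsOfSurjective Ideal.Quotient.mk_surjective e
  haveI := Module.Projective.of_equiv eS
  exact MLMod.projective_of_flat_nilpotent I n hn M

end Groth.Agent.S6270
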