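import Groth.Statements.S4997
-- import your own Groth.Agent.* helpers here
import Groth.Agent.UnibranchEtale.SmoothQF
import Groth.Agent.UnibranchEtale.Scheme

set_option autoImplicit false
universe u
open CategoryTheory CategoryTheory.Limits AlgebraicGeometry TopologicalSpace
open Unram17

namespace Groth.Agent.S4997

/-- A morphism of schemes is etale if and only if it is smooth and locally quasi-finite. -/
theorem result {X Y : Scheme.{u}} (f : X ⟶ Y) :
    Etale f ↔ Smooth f ∧ LocallyQuasiFinite f := by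
  refine ⟨fun h => ⟨inferInstance, UnibranchEtale.locallyQuasiFinite_of_unramified f⟩, fun ⟨hs, hq⟩ => ?_⟩
  rw [Etale.iff_smoothOfRelativeDimension_zero]
  refine ⟨fun x => ?_⟩
  obtain ⟨U, hU, V, hV, hxV, e, hstd⟩ := Smooth.exists_isStandardSmooth f x
  refine ⟨U, hU, V, hV, hxV, e, ?_⟩
  rw [← RingHom.etale_iff_isStandardSmoothOfRelativeDimension_zero]
  have hqf : (f.appLE U V e).hom.QuasiFinite := HasRingHomProperty.appLE @LocallyQuasiFinite f hq ⟨U, hU⟩ ⟨V, hV⟩ e
  haveI : Nontrivial Γ(X, V) := by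
    haveI : Nonempty (PrimeSpectrum Γ(X, V)) := ⟨hV.primeIdealOf ⟨x, hxV⟩⟩
    exact PrimeSpectrum.nonempty_iff_nontrivial.1 inferInstance
  obtain ⟨n, g, hgC, hg⟩ := RingHom.IsStandardSmooth.exists_etale_mvPolynomial hstd
  letI := (f.appLE U V e).hom.toAlgebra
  haveI : Algebra.QuasiFinite Γ(Y, U) Γ(X, V) := hqf
  let g' : MvPolynomial (Fin n) Γ(Y, U) →ₐ[Γ(Y, U)] Γ(X, V) :=
    ⟨g, fun r => DFunLike.congr_fun hgC r⟩
  obtain rfl := UnibranchEtale.relDim_eq_zero _ _ n g' hg
  rw [← hgC]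
  exact RingHom.Etale.stableUnderComposition _ _
    (RingHom.Etale.of_bijective (MvPolynomial.isEmptyRingEquiv_symm_toRingHom (σ := Fin 0) (R := Γ(Y, U)) ▸ (MvPolynomial.isEmptyRingEquiv Γ(Y, U) (Fin 0)).symm.bijective)) hg

end Groth.Agent.S4997
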