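import Groth.Statements.S6370
import Groth.Agent.DvrDom.KrullAkizuki
import Mathlib.RingTheory.Algebraic.Integral
import Mathlib.RingTheory.Ideal.GoingUp
import Mathlib.RingTheory.KrullDimension.Basic
import Mathlib.RingTheory.DedekindDomain.Basic
import Mathlib.RingTheory.Ideal.MinimalPrime.Noetherian

set_option autoImplicit false
universe u
open CAlg Groth.Agent

namespace Groth.Agent.S6370

/-- For a one-dimensional Noetherian domain A with fraction field K, a finite field extension L of K
(separable or not) and B the integral closure of A in L: B is a Dedekind domain, Spec B → Spec A is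
surjective and has finite fibres, and at every maximal ideal Q of B the residue field B/Q is finite
over A/(Q ∩ A). -/
theorem result (A K L B : Type u) [CommRing A] [IsDomain A]
    [IsNoetherianRing A] (hdim : ringKrullDim A = 1) [Field K] [Algebra A K] [IsFractionRing A K]
    [Field L] [Algebra K L] [FiniteDimensional K L] [Algebra A L] [IsScalarTower A K L]
    [CommRing B] [IsDomain B] [Algebra A B] [Algebra B L] [IsScalarTower A B L] [IsIntegralClosure B A L] :
    IsDedekindDomain B ∧ Function.Surjective (PrimeSpectrum.comap (algebraMap A B)) ∧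
      (∀ p : PrimeSpectrum A, (PrimeSpectrum.comap (algebraMap A B) ⁻¹' {p}).Finite) ∧
      ∀ Q : Ideal B, Q.IsMaximal → Module.Finite (A ⧸ Q.comap (algebraMap A B)) (B ⧸ Q) := by
  classical
  haveI : Ring.KrullDimLE 1 A := by rw [Ring.krullDimLE_iff]; exact hdim.le
  have hAK : Function.Injective (algebraMap A K) := IsFractionRing.injective A K
  have hAL : Function.Injective (algebraMap A L) := by
    rw [IsScalarTower.algebraMap_eq A K L]; exact (algebraMap K L).injective.comp hAK
  have hBL : Function.Injective (algebraMap B L) := IsIntegralClosure.algebraMap_injective B A L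
  have hAB : Function.Injective (algebraMap A B) := fun a b h => hAL (by
    rw [IsScalarTower.algebraMap_apply A B L, IsScalarTower.algebraMap_apply A B L b, h])
  haveI : Algebra.IsIntegral A B := IsIntegralClosure.isIntegral_algebra A L
  haveI : Algebra.IsAlgebraic A K := IsLocalization.isAlgebraic K (nonZeroDivisors A)
  haveI : Algebra.IsAlgebraic A L := Algebra.IsAlgebraic.trans A K L
  -- a finite subalgebra with fraction field `L`
  let e := Module.finBasis K L
  have hmul : ∀ i, ∃ y : A, y ≠ 0 ∧ IsIntegral A (y • e i) := fun i =>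
    (Algebra.IsAlgebraic.isAlgebraic (R := A) (e i)).exists_integral_multiple
  choose y hy0 hyint using hmul
  let C : Subalgebra A L := Algebra.adjoin A (Set.range fun i => y i • e i)
  haveI : Module.Finite A C := ⟨(Submodule.fg_top _).2
    (fg_adjoin_of_finite (Set.finite_range _) (by rintro _ ⟨i, rfl⟩; exact hyint i))⟩
  haveI : IsNoetherianRing C := IsNoetherianRing.of_finite A C
  haveI : Ring.KrullDimLE 1 C := by
    rw [Ring.krullDimLE_one_iff_of_noZeroDivisors]
    intro P hP hPp
    haveI := hPp
    refine Ideal.isMaximal_of_isIntegral_of_isMaximal_comap (R := A) P ?_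
    exact Ring.krullDimLE_one_iff_of_noZeroDivisors.1 inferInstance _
      (fun h => hP (Ideal.eq_bot_of_comap_eq_bot h)) (hPp.comap _)
  have hden : ∀ z : L, ∃ a : A, a ≠ 0 ∧ a • z ∈ C := by
    intro z
    have hz : z ∈ Submodule.span K (Set.range e) := by simp [e.span_eq]
    refine Submodule.span_induction ?_ ⟨1, one_ne_zero, by simp⟩ ?_ ?_ hz
    · rintro _ ⟨i, rfl⟩; exact ⟨y i, hy0 i, Algebra.subset_adjoin ⟨i, rfl⟩⟩
    · rintro u v _ _ ⟨a, ha, hu⟩ ⟨b, hb, hv⟩
      refine ⟨a * b, mul_ne_zero ha hb, ?_⟩
      rw [smul_add]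
      exact C.add_mem (by rw [mul_comm, mul_smul]; exact C.smul_mem hu b) (by rw [mul_smul]; exact C.smul_mem hv a)
    · rintro k u _ ⟨a, ha, hu⟩
      obtain ⟨r, s, hs, rfl⟩ := IsFractionRing.div_surjective (A := A) k
      have hs0 : algebraMap A K s ≠ 0 := fun h => nonZeroDivisors.ne_zero hs (hAK (h.trans (map_zero _).symm))
      refine ⟨s * a, mul_ne_zero (nonZeroDivisors.ne_zero hs) ha, ?_⟩
      have hsr : s • (algebraMap A K r / algebraMap A K s) = algebraMap A K r := by
        rw [Algebra.smul_def, mul_div_cancel₀ _ hs0]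
      rw [mul_smul, smul_comm a, ← smul_assoc, hsr, algebraMap_smul]
      exact C.smul_mem hu r
  haveI : IsFractionRing C L := by
    refine IsFractionRing.of_field C L fun z => ?_
    obtain ⟨a, ha, hz⟩ := hden z
    refine ⟨⟨_, hz⟩, algebraMap A C a, ?_⟩
    have haL : algebraMap A L a ≠ 0 := fun h => ha (hAL (h.trans (map_zero _).symm))
    show z = (a • z) / algebraMap A L a
    rw [Algebra.smul_def, mul_div_cancel_left₀ _ haL]
  have hCB : ∀ x : L, IsIntegral A x → ∃ b : B, algebraMap B L b = x := fun x hx =>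
    IsIntegralClosure.isIntegral_iff.1 hx
  let D : Subalgebra C L :=
    { carrier := Set.range (algebraMap B L)
      add_mem' := fun {z w} ⟨a, ha⟩ ⟨b, hb⟩ => ⟨a + b, by rw [map_add, ha, hb]⟩
      mul_mem' := fun {z w} ⟨a, ha⟩ ⟨b, hb⟩ => ⟨a * b, by rw [map_mul, ha, hb]⟩
      algebraMap_mem' := fun c => hCB _ ((Algebra.IsIntegral.isIntegral (R := A) c).map C.val) }
  let g : D →+* B :=
    { toFun := fun z => z.2.choose
      map_one' := hBL (by rw [map_one]; exact (1 : D).2.choose_spec)
      map_mul' := fun z w => hBL (by rw [map_mul, z.2.choose_spec, w.2.choose_spec]; exact (z * w).2.choose_spec)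
      map_zero' := hBL (by rw [map_zero]; exact (0 : D).2.choose_spec)
      map_add' := fun z w => hBL (by rw [map_add, z.2.choose_spec, w.2.choose_spec]; exact (z + w).2.choose_spec) }
  have hg : ∀ z, algebraMap B L (g z) = z := fun z => z.2.choose_spec
  have hgs : Function.Surjective g := fun b => ⟨⟨_, b, rfl⟩, hBL (hg _)⟩
  haveI := DvrDom.isNoetherianRing_subalgebra D
  haveI : IsNoetherianRing B := isNoetherianRing_of_surjective D B g hgs
  have hcomap : ∀ Q : Ideal B, Q ≠ ⊥ → Q.comap (algebraMap A B) ≠ ⊥ := fun Q hQ h =>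
    hQ (Ideal.eq_bot_of_comap_eq_bot h)
  haveI : Ring.DimensionLEOne B := ⟨fun {Q} hQ0 hQ => by
    haveI := hQ
    exact Ideal.isMaximal_of_isIntegral_of_isMaximal_comap (R := A) Q
      (Ring.krullDimLE_one_iff_of_noZeroDivisors.1 inferInstance _ (hcomap Q hQ0) inferInstance)⟩
  haveI : FaithfulSMul B L := (faithfulSMul_iff_algebraMap_injective B L).2 hBL
  haveI : FaithfulSMul A B := (faithfulSMul_iff_algebraMap_injective A B).2 hAB
  haveI : IsFractionRing B L := IsFractionRing.of_field B L fun z => by
    obtain ⟨a, ha, hz⟩ := hden z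
    obtain ⟨b, hb⟩ := hCB _ ((Algebra.IsIntegral.isIntegral (R := A) (⟨_, hz⟩ : C)).map C.val)
    refine ⟨b, algebraMap A B a, ?_⟩
    have haL : algebraMap A L a ≠ 0 := fun h => ha (hAL (h.trans (map_zero _).symm))
    rw [hb, ← IsScalarTower.algebraMap_apply A B L]
    show z = (a • z) / _
    rw [Algebra.smul_def, mul_div_cancel_left₀ _ haL]
  haveI : FaithfulSMul B L := (faithfulSMul_iff_algebraMap_injective B L).2 hBL
  haveI : IsIntegrallyClosed B :=
    (isIntegrallyClosed_iff L).2 fun {z} hz => hCB z (isIntegral_trans z hz)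
  haveI hD : IsDedekindDomain B := { }
  refine ⟨hD, Algebra.IsIntegral.comap_surjective A B, fun p => ?_, fun Q hQ => ?_⟩
  · by_cases hp : p.asIdeal = ⊥
    · refine (Set.finite_singleton (⟨⊥, Ideal.isPrime_bot⟩ : PrimeSpectrum B)).subset fun Q hQ => ?_
      exact PrimeSpectrum.ext (Ideal.eq_bot_of_comap_eq_bot (R := A) ((congrArg PrimeSpectrum.asIdeal hQ).trans hp))
    · refine ((p.asIdeal.map (algebraMap A B)).finite_minimalPrimes_of_isNoetherianRing.preimage
        (fun Q _ Q' _ h => PrimeSpectrum.ext h)).subset fun Q hQ => ?_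
      have hle : p.asIdeal.map (algebraMap A B) ≤ Q.asIdeal :=
        Ideal.map_le_iff_le_comap.2 (congrArg PrimeSpectrum.asIdeal hQ).ge
      refine ⟨⟨Q.2, hle⟩, fun Q' hQ' hle' => ?_⟩
      have : Q'.IsMaximal := Ring.DimensionLEOne.maximalOfPrime
        (ne_bot_of_le_ne_bot (fun h => hp ((Ideal.map_eq_bot_iff_of_injective hAB).1 h)) hQ'.2) hQ'.1
      exact (this.eq_of_le Q.2.ne_top hle').ge
  · obtain ⟨p, hpQ, hp⟩ := Submodule.exists_mem_ne_zero_of_ne_bot (hcomap Q (fun h => by
      subst h
      have h0 : ((⊥ : Ideal B).comap (algebraMap A B)).IsMaximal :=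
        Ideal.isMaximal_comap_of_isIntegral_of_isMaximal ⊥
      rw [Ideal.comap_bot_of_injective _ hAB, ← Ring.isField_iff_maximal_bot] at h0
      exact absurd ((ringKrullDim_eq_zero_of_isField h0).symm.trans hdim) (by simp)))
    let W : Submodule C D := LinearMap.range (LinearMap.lsmul C D (algebraMap A C p))
    have hp' : algebraMap A C p ≠ 0 := fun h => hp (hAL (by simpa using congrArg Subtype.val h))
    have hfin : Module.Finite C (D ⧸ W) := by
      obtain ⟨n, hn⟩ := ENat.ne_top_iff_exists.mp
        (Ring.ord_ne_top (R := C) (mem_nonZeroDivisors_of_ne_zero hp'))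
      refine DvrDom.finite_of_forall_fg_length_le n fun N hN ↦ ?_
      obtain ⟨s, hs⟩ := hN
      choose l hl using fun z : D ⧸ W ↦ W.mkQ_surjective z
      have : N = (Submodule.span C (s.image l : Set D)).map W.mkQ := by
        rw [Submodule.map_span, Finset.coe_image, ← Set.image_comp, ← hs]
        simp [Function.comp_def, hl]
      rw [this, hn]
      exact DvrDom.length_map_mkQ_le D hp' _ ⟨_, rfl⟩
    haveI : Module.Finite A (D ⧸ W) := Module.Finite.trans C _
    let φ : D →ₗ[A] B ⧸ Q :=
      { toFun := fun z => Ideal.Quotient.mk Q (g z)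
        map_add' := fun z w => by rw [map_add, map_add]
        map_smul' := fun a z => by
          rw [RingHom.id_apply, Algebra.smul_def a (Ideal.Quotient.mk Q (g z)), IsScalarTower.algebraMap_apply A B (B ⧸ Q),
            Ideal.Quotient.algebraMap_eq, ← map_mul]
          refine congrArg _ (hBL ?_)
          rw [map_mul, hg, hg, ← IsScalarTower.algebraMap_apply]
          exact Algebra.smul_def a (z : L) }
    have hW : W.restrictScalars A ≤ LinearMap.ker φ := by
      rintro _ ⟨z, rfl⟩
      show Ideal.Quotient.mk Q _ = 0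
      rw [Ideal.Quotient.eq_zero_iff_mem]
      have : g ((LinearMap.lsmul C D (algebraMap A C p)) z) = algebraMap A B p * g z := hBL (by
        rw [map_mul, hg, hg, ← IsScalarTower.algebraMap_apply]
        exact Algebra.smul_def (algebraMap A C p) (z : L))
      rw [this]
      exact Q.mul_mem_right _ hpQ
    haveI : Module.Finite A (B ⧸ Q) := Module.Finite.of_surjective
      ((Submodule.liftQ _ φ hW) ∘ₗ (Submodule.Quotient.restrictScalarsEquiv A W).symm.toLinearMap)
      (fun b => by
        obtain ⟨b, rfl⟩ := Ideal.Quotient.mk_surjective b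
        obtain ⟨z, rfl⟩ := hgs b
        exact ⟨Submodule.Quotient.mk z, rfl⟩)
    exact Module.Finite.of_restrictScalars_finite A _ _

end Groth.Agent.S6370
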