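import Groth.Statements.S0086
import Mathlib

set_option autoImplicit false
open CategoryTheory CategoryTheory.Limits AlgebraicGeometry Opposite
universe u
open EtBase

namespace Groth.Agent.S0086

/-- If the base change of a morphism of schemes along a quasi-compact, flat, surjective morphism is
proper, then the morphism itself is proper. (Stated for a single quasi-compact flat surjective base
change; together with Zariski-locality on the target this is fpqc descent for properness.) -/
theorem result :
    MorphismProperty.DescendsAlong @IsProper (@Surjective ⊓ @Flat ⊓ @QuasiCompact : MorphismProperty Scheme.{u}) := by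
  refine ⟨fun {P X Y Z fst snd f g} h hf hfst ↦ ?_⟩
  obtain ⟨_, _, _⟩ := hfst
  have : IsSeparated g := by
    have i0 : MorphismProperty.RespectsIso (@UniversallyClosed : MorphismProperty Scheme.{u}) := by
      rw [universallyClosed_eq]; infer_instance
    have i1 : (@Surjective ⊓ @Flat ⊓ @QuasiCompact : MorphismProperty Scheme.{u}).IsStableUnderBaseChange :=
      have : (@Surjective ⊓ @Flat : MorphismProperty Scheme.{u}).IsStableUnderBaseChange :=
        MorphismProperty.IsStableUnderBaseChange.inf
      MorphismProperty.IsStableUnderBaseChange.inf
    have i2 := @MorphismProperty.instDescendsAlongDiagonalOfRespectsIsoOfIsStableUnderBaseChange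
      _ _ _ (@UniversallyClosed : MorphismProperty Scheme.{u})
      (@Surjective ⊓ @Flat ⊓ @QuasiCompact) inferInstance i0 i1
    have h1 : (MorphismProperty.diagonal (@UniversallyClosed : MorphismProperty Scheme.{u})) g := by
      refine MorphismProperty.of_isPullback_of_descendsAlong h hf ?_
      have : IsClosedImmersion (Limits.pullback.diagonal fst) := IsSeparated.isClosedImmersion_diagonal
      exact (inferInstance : UniversallyClosed (Limits.pullback.diagonal fst))
    have : UniversallyClosed (Limits.pullback.diagonal g) := h1
    exact ⟨IsClosedImmersion.of_isPreimmersion _
      (Limits.pullback.diagonal g).isClosedMap.isClosed_range⟩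
  have : UniversallyClosed g :=
    MorphismProperty.of_isPullback_of_descendsAlong h hf ‹UniversallyClosed fst›
  have : LocallyOfFiniteType g :=
    MorphismProperty.of_isPullback_of_descendsAlong h hf ‹LocallyOfFiniteType fst›
  exact {}

end Groth.Agent.S0086
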