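import Groth.Statements.S4790
import Groth.Agent.ModDesc.Func

set_option autoImplicit false
universe u
open CategoryTheory AlgebraicGeometry
open Lim8

namespace Groth.Agent.S4790

/-- Let S = lim S_i be a cofiltered limit of schemes with affine transition maps and S_{i₀} a
quasi-compact quasi-separated stage; let F₀ and G₀ be quasi-coherent O-modules of finite
presentation on S_{i₀}. Then the pullbacks of F₀ and G₀ along S ⟶ S_{i₀} are isomorphic if and only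
if, for some index j over i₀, their pullbacks along S_j ⟶ S_{i₀} are isomorphic. -/
theorem result {I : Type u} [SmallCategory I] [IsCofiltered I]
    (D : I ⥤ Scheme.{u}) (c : Limits.Cone D) (hc : Limits.IsLimit c)
    [∀ (i j : I) (f : i ⟶ j), IsAffineHom (D.map f)] (i₀ : I) [CompactSpace (D.obj i₀)]
    [QuasiSeparatedSpace (D.obj i₀)] (F₀ G₀ : (D.obj i₀).Modules)
    [Coh.IsQCoh F₀] (hF₀fp : CohB1.IsFP F₀)
    [Coh.IsQCoh G₀] (hG₀fp : CohB1.IsFP G₀) :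
    Nonempty ((Scheme.Modules.pullback (c.π.app i₀)).obj F₀ ≅ (Scheme.Modules.pullback (c.π.app i₀)).obj G₀) ↔
      ∃ (j : I) (φ : j ⟶ i₀),
        Nonempty ((Scheme.Modules.pullback (D.map φ)).obj F₀ ≅ (Scheme.Modules.pullback (D.map φ)).obj G₀) := by
  haveI : ∀ {i j : I} (f : i ⟶ j), IsAffineHom (D.map f) := fun f => ‹∀ (i j : I) (f : i ⟶ j), IsAffineHom (D.map f)› _ _ f
  haveI hGft : CohB1.IsFT G₀ := inferInstanceAs (SheafOfModules.IsFiniteType (R := (D.obj i₀).ringCatSheaf) G₀)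
  haveI hFft : CohB1.IsFT F₀ := inferInstanceAs (SheafOfModules.IsFiniteType (R := (D.obj i₀).ringCatSheaf) F₀)
  constructor
  · rintro ⟨e⟩
    obtain ⟨j₁, φ₁, u, hu⟩ := ModDesc.exists_bc_eq_hom D c hc G₀ hF₀fp e.hom
    obtain ⟨j₂, φ₂, v, hv⟩ := ModDesc.exists_bc_eq_hom D c hc F₀ hG₀fp e.inv
    obtain ⟨j, a₁, a₂, ha⟩ := IsCofiltered.cospan φ₁ φ₂
    let φ := a₁ ≫ φ₁
    have w₁ : D.map a₁ ≫ D.map φ₁ = D.map φ := (D.map_comp a₁ φ₁).symm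
    have w₂ : D.map a₂ ≫ D.map φ₂ = D.map φ := by rw [← D.map_comp, ← ha]
    let u' := ModDesc.bc (D.map a₁) (D.map φ₁) w₁ G₀ u
    let v' := ModDesc.bc (D.map a₂) (D.map φ₂) w₂ F₀ v
    have hu' : ModDesc.bc (c.π.app j) (D.map φ) (c.w φ) G₀ u' = e.hom :=
      (ModDesc.bc_bc (D.map a₁) (D.map φ₁) w₁ G₀ (c.π.app j) (c.w φ) (c.w a₁) (c.w φ₁) u).trans hu
    have hv' : ModDesc.bc (c.π.app j) (D.map φ) (c.w φ) F₀ v' = e.inv :=
      (ModDesc.bc_bc (D.map a₂) (D.map φ₂) w₂ F₀ (c.π.app j) (c.w φ) (c.w a₂) (c.w φ₂) v).trans hv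
    obtain ⟨k₁, b₁, hk₁⟩ := ModDesc.exists_bc_eq D c hc F₀ hFft φ (u' ≫ v') (𝟙 _)
      (by rw [← ModDesc.bc_comp (K := G₀), ModDesc.bc_id, hu', hv', e.hom_inv_id])
    obtain ⟨k₂, b₂, hk₂⟩ := ModDesc.exists_bc_eq D c hc G₀ hGft φ (v' ≫ u') (𝟙 _)
      (by rw [← ModDesc.bc_comp (K := F₀), ModDesc.bc_id, hu', hv', e.inv_hom_id])
    obtain ⟨k, d₁, d₂, hd⟩ := IsCofiltered.cospan b₁ b₂
    have x₁ : D.map d₁ ≫ D.map (b₁ ≫ φ) = D.map ((d₁ ≫ b₁) ≫ φ) := by rw [← D.map_comp, Category.assoc]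
    have x₂ : D.map d₂ ≫ D.map (b₂ ≫ φ) = D.map ((d₁ ≫ b₁) ≫ φ) := by rw [← D.map_comp, hd, Category.assoc]
    have e₁ := congrArg (ModDesc.bc (D.map d₁) (D.map (b₁ ≫ φ)) x₁ F₀) hk₁
    have e₂ := congrArg (ModDesc.bc (D.map d₂) (D.map (b₂ ≫ φ)) x₂ G₀) hk₂
    rw [ModDesc.bc_bc (H := F₀) (s := D.map (d₁ ≫ b₁)) (hs := (D.map_comp _ _).symm) (w'' := (D.map_comp _ _).symm),
      ModDesc.bc_bc (H := F₀) (s := D.map (d₁ ≫ b₁)) (hs := (D.map_comp _ _).symm) (w'' := (D.map_comp _ _).symm),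
      ← ModDesc.bc_comp (K := G₀), ModDesc.bc_id] at e₁
    rw [ModDesc.bc_bc (H := G₀) (s := D.map (d₁ ≫ b₁)) (hs := by rw [← D.map_comp, hd]) (w'' := (D.map_comp _ _).symm),
      ModDesc.bc_bc (H := G₀) (s := D.map (d₁ ≫ b₁)) (hs := by rw [← D.map_comp, hd]) (w'' := (D.map_comp _ _).symm),
      ← ModDesc.bc_comp (K := F₀), ModDesc.bc_id] at e₂
    exact ⟨k, (d₁ ≫ b₁) ≫ φ, ⟨⟨_, _, e₁, e₂⟩⟩⟩
  · rintro ⟨j, φ, ⟨e⟩⟩
    refine ⟨⟨ModDesc.bc (c.π.app j) (D.map φ) (c.w φ) G₀ e.hom, ModDesc.bc (c.π.app j) (D.map φ) (c.w φ) F₀ e.inv,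
      ?_, ?_⟩⟩
    · rw [ModDesc.bc_comp, e.hom_inv_id, ModDesc.bc_id]
    · rw [ModDesc.bc_comp, e.inv_hom_id, ModDesc.bc_id]

end Groth.Agent.S4790
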