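import Groth.Statements.S4678
import Groth.Agent.AssTensor.Sch
import Groth.Agent.FlatModBC.Basic
import Mathlib.RingTheory.Flat.Stability

set_option autoImplicit false
open CategoryTheory AlgebraicGeometry
universe u
open FDesc

namespace Groth.Agent.S4678

open TensorProduct

set_option backward.isDefEq.respectTransparency false

theorem flat_tensor_two {A B L : Type u} [CommRing A] [CommRing B] [CommRing L] [Algebra A B] [Algebra B L]
    [Algebra A L] [IsScalarTower A B L] (P G : Type u) [AddCommGroup P] [Module L P] [Module B P] [Module A P]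
    [IsScalarTower B L P] [IsScalarTower A L P] [IsScalarTower A B P] [AddCommGroup G] [Module B G] [Module A G] [IsScalarTower A B G]
    [Module.Flat B P] [Module.Flat A G] : Module.Flat A (P ⊗[B] G) := by
  rw [Module.Flat.iff_lTensor_preserves_injective_linearMap]
  intro N N' _ _ _ _ f hf
  let e := fun (M : Type u) [AddCommGroup M] [Module A M] => AlgebraTensorModule.assoc A B B P G M
  have h1 : Function.Injective (AlgebraTensorModule.map (LinearMap.id : G →ₗ[B] G) f) := by
    have := Module.Flat.lTensor_preserves_injective_linearMap (M := G) f hf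
    exact this
  have h2 := Module.Flat.lTensor_preserves_injective_linearMap (M := P) (AlgebraTensorModule.map (LinearMap.id : G →ₗ[B] G) f) h1
  have hc : ∀ x, e N' (LinearMap.lTensor (P ⊗[B] G) f x) =
      LinearMap.lTensor P (AlgebraTensorModule.map (LinearMap.id : G →ₗ[B] G) f) (e N x) := by
    intro x
    induction x using TensorProduct.induction_on with
    | zero => simp
    | add a b ha hb => simp only [map_add, ha, hb]
    | tmul pg n =>
      induction pg using TensorProduct.induction_on with
      | zero => simp
      | add a b ha hb => simp only [add_tmul, map_add, ha, hb]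
      | tmul p g => simp [e]
  intro x y hxy
  apply (e N).injective
  apply h2
  rw [← hc, ← hc, hxy]

open CategoryTheory CategoryTheory.Limits AlgebraicGeometry in
theorem flatAt_tensor_pullback {W T Z : Scheme.{u}} (q : W ⟶ T) (h : T ⟶ Z) (P : W.Modules) (G : T.Modules) (w : W)
    (hP : FlatMod.IsFlatOverAt q P w) (hG : FlatMod.IsFlatOverAt h G (q w)) :
    FlatMod.IsFlatOverAt (q ≫ h) (CohB1.tensorMod P ((Scheme.Modules.pullback q).obj G)) w := by
  let A := Z.presheaf.stalk (h (q w))
  let B := T.presheaf.stalk (q w)
  let L := W.presheaf.stalk w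
  letI : Algebra A B := (h.stalkMap (q w)).hom.toAlgebra
  letI : Algebra B L := (q.stalkMap w).hom.toAlgebra
  letI : Algebra A L := ((q ≫ h).stalkMap w).hom.toAlgebra
  haveI : IsScalarTower A B L := IsScalarTower.of_algebraMap_eq' (by
    show ((q ≫ h).stalkMap w).hom = (q.stalkMap w).hom.comp (h.stalkMap (q w)).hom
    rw [Scheme.Hom.stalkMap_comp]
    rfl)
  letI : Module B (P.presheaf.stalk w) := FlatMod.moduleStalkOver q P w
  letI : Module A (P.presheaf.stalk w) := FlatMod.moduleStalkOver (q ≫ h) P w
  letI : Module A (G.presheaf.stalk (q w)) := FlatMod.moduleStalkOver h G (q w)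
  haveI : IsScalarTower B L (P.presheaf.stalk w) := IsScalarTower.of_algebraMap_smul fun _ _ => rfl
  haveI : IsScalarTower A L (P.presheaf.stalk w) := IsScalarTower.of_algebraMap_smul fun _ _ => rfl
  haveI : IsScalarTower A B (G.presheaf.stalk (q w)) := IsScalarTower.of_algebraMap_smul fun _ _ => rfl
  haveI : IsScalarTower A B (P.presheaf.stalk w) := IsScalarTower.of_algebraMap_smul fun a m => by
    rw [← IsScalarTower.algebraMap_smul L (algebraMap A B a) m, ← IsScalarTower.algebraMap_apply A B L,
      IsScalarTower.algebraMap_smul]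
  haveI : Module.Flat B (P.presheaf.stalk w) := hP
  haveI : Module.Flat A (G.presheaf.stalk (q w)) := hG
  haveI := flat_tensor_two (A := A) (B := B) (L := L) (P.presheaf.stalk w) (G.presheaf.stalk (q w))
  let e : P.presheaf.stalk w ⊗[B] G.presheaf.stalk (q w) ≃ₗ[L]
      (CohB1.tensorMod P ((Scheme.Modules.pullback q).obj G)).presheaf.stalk w :=
    (AlgebraTensorModule.cancelBaseChange B L L (P.presheaf.stalk w) (G.presheaf.stalk (q w))).symm ≪≫ₗ
      TensorProduct.congr (LinearEquiv.refl L _) (AssTensor.pullEquiv q G w) ≪≫ₗ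
      AssTensor.tensorEquiv P ((Scheme.Modules.pullback q).obj G) w
  show @Module.Flat A _ _ _ (FlatMod.moduleStalkOver (q ≫ h) _ w)
  letI : Module A ((CohB1.tensorMod P ((Scheme.Modules.pullback q).obj G)).presheaf.stalk w) :=
    FlatMod.moduleStalkOver (q ≫ h) (CohB1.tensorMod P ((Scheme.Modules.pullback q).obj G)) w
  haveI : IsScalarTower A L ((CohB1.tensorMod P ((Scheme.Modules.pullback q).obj G)).presheaf.stalk w) :=
    IsScalarTower.of_algebraMap_smul fun _ _ => rfl
  exact Module.Flat.of_linearEquiv (e.restrictScalars A).symm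

open CategoryTheory.Limits in
/-- Let f : X → Y, g : Y' → Y and h : Y' → Z be morphisms of schemes, X' = X ×_Y Y' with projections p :
X' → X and q : X' → Y', and x' a point of X'. Let F be a quasi-coherent O_X-module which is flat
over Y at p(x') and G' a quasi-coherent O_{Y'}-module which is flat over Z at q(x'). Then the
O_{X'}-module p^*F ⊗ q^*G' is flat over Z at x', for the structure morphism q followed by h. -/
theorem result {X Y Y' Z : Scheme.{u}} (f : X ⟶ Y) (g : Y' ⟶ Y) (h : Y' ⟶ Z)
    (F : X.Modules) (hF : Coh.IsQCoh F) (G' : Y'.Modules) (hG' : Coh.IsQCoh G') (x' : ↥(pullback f g))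
    (hFx : FlatMod.IsFlatOverAt f F (pullback.fst f g x')) (hGy : FlatMod.IsFlatOverAt h G' (pullback.snd f g x')) :
    FlatMod.IsFlatOverAt (pullback.snd f g ≫ h) (CohB1.tensorMod ((Scheme.Modules.pullback (pullback.fst f g)).obj F) ((Scheme.Modules.pullback (pullback.snd f g)).obj G')) x' := by
  exact flatAt_tensor_pullback (pullback.snd f g) h _ G' x'
    (FlatModBC.isFlatOverAt_baseChange (IsPullback.of_hasPullback f g) F x' hFx) hGy

end Groth.Agent.S4678
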