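import Groth.Statements.S13659
import Groth.Agent.FormBlow.Completion
import Groth.Agent.FormBlow.BlowLift
import Groth.Agent.S3873

set_option backward.isDefEq.respectTransparency false
set_option linter.style.haveILetI false
-- import your own Groth.Agent.* helpers here

set_option autoImplicit false
open CategoryTheory AlgebraicGeometry
universe u
open FBlow

namespace Groth.Agent.S13659

open FBlow TopologicalSpace Groth.Agent.FormBlow
open Groth.Agent.FSchCoh (OA RA projR OA_ext)

section Helpers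

variable {A : Type u} [CommRing A] {r : ℕ} (a : Fin r → A) {P : Scheme.{u}} (q : P ⟶ Spec (CommRingCat.of A))

theorem comap_idealSpec_ideal (D : P.affineOpens) (𝔟 : Ideal A) :
    ((FSch.idealSpec A 𝔟).comap q).ideal D =
      𝔟.map ((q.appLE ⊤ D.1 (fun _ _ => trivial)).hom.comp (Scheme.ΓSpecIso (CommRingCat.of A)).inv.hom) := by
  rw [FittLib.comap_ideal q _ (isAffineOpen_top _) D.2 (fun _ _ => trivial), FittLib.idealSpec_ideal_top,
    ← Ideal.map_map]
  congr 1
  exact (Ideal.map_comap_of_equiv (Scheme.ΓSpecIso (CommRingCat.of A)).commRingCatIsoToRingEquiv.symm).symm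

variable (K : Ideal A)

theorem isInvertible_completion
    (hpc : FSch.PowCompat q ((FSch.idealSpec A K).comap q) (FSch.idealSpec A K))
    (hX : (FSch.completionAlong (Spec (CommRingCat.of A)) (FSch.idealSpec A K)).IsFormal)
    (hP : (FSch.completionAlong P ((FSch.idealSpec A K).comap q)).IsFormal)
    (hcart : BlowUp.IsEffCartierIdeal ((FSch.idealSpec A (Ideal.span (Set.range a))).comap q))
    (c : ℕ) (hc : K ^ (c + 1) ≤ Ideal.span (Set.range a)) :
    (idealMap (FSch.completionMap q ((FSch.idealSpec A K).comap q) (FSch.idealSpec A K) hpc) hP hX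
      (schIdealMap (FSch.completionAlong (Spec (CommRingCat.of A)) (FSch.idealSpec A K)) hX
        (FSch.completionToX (Spec (CommRingCat.of A)) (FSch.idealSpec A K))
        (FSch.completionToX_comm (Spec (CommRingCat.of A)) (FSch.idealSpec A K))
        (IdealSh.ofData (FSch.idealSpec A (Ideal.span (Set.range a)))))).IsInvertible := by
  let 𝒦 := FSch.idealSpec A K
  let cm := FSch.completionMap q (𝒦.comap q) 𝒦 hpc
  let pX := FSch.completionToX (Spec (CommRingCat.of A)) 𝒦
  have hpX := FSch.completionToX_comm (Spec (CommRingCat.of A)) 𝒦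
  let pP := FSch.completionToX P (𝒦.comap q)
  have hpP := FSch.completionToX_comm P (𝒦.comap q)
  let t := fun n => pP n ≫ q
  have ht : ∀ n, (FSch.completionAlong P (𝒦.comap q)).ι n ≫ t (n + 1) = t n := fun n =>
    (Category.assoc _ _ _).symm.trans (congrArg (· ≫ q) (hpP n))
  rw [isInvertible_iff]
  intro z
  obtain ⟨D, hxD, x, hx, hxgen⟩ := hcart (pP 0 z)
  let U := pP 0 ⁻¹ᵁ D.1
  let θ : A →+* Γ(P, D.1) :=
    (q.appLE ⊤ D.1 (fun _ _ => trivial)).hom.comp (Scheme.ΓSpecIso (CommRingCat.of A)).inv.hom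
  have hspan : Ideal.span {x} = Ideal.span (Set.range fun j => θ (a j)) := by
    rw [← hxgen, comap_idealSpec_ideal, Ideal.map_span, ← Set.range_comp]
    rfl
  let σ : Γ(P, D.1) →+* OA _ hP U := scPb hP pP hpP (le_refl U)
  have hcmtop : ⊤ ≤ (cm : FSch.Hom _ _).app 0 ⁻¹ᵁ ⊤ := fun _ _ => trivial
  have hres : ∀ b, rs (le_top : U ≤ ⊤) (shPb hX hP cm hcmtop (schFun hX pX hpX b)) = σ (θ b) := by
    intro b
    rw [shPb_schFun hX hP cm pX hpX t ht (fun n => Scheme.IdealSheafData.subschemeMap_subschemeι _ _ q (Scheme.IdealSheafData.le_map_iff_comap_le.mpr (hpc n))) hcmtop b]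
    refine OA_ext _ hP U fun n => ?_
    rw [projR_scPb]
    refine (projR_secFun hP t ht U n b).trans ?_
    exact congr($((Scheme.Hom.appLE_comp_appLE (pP n) q ⊤ D.1 _ (fun _ _ => trivial)
      (lvU_le_scPreimage hP pP hpP (le_refl U) n)).symm) ((Scheme.ΓSpecIso (CommRingCat.of A)).inv b))
  refine ⟨U, hxD, σ x, ?_, ?_, ?_⟩
  · have hmem : x ∈ Ideal.span (Set.range fun j => θ (a j)) := hspan ▸ Ideal.mem_span_singleton_self x
    have h1 := Ideal.mem_map_of_mem σ hmem
    rw [Ideal.map_span, ← Set.range_comp] at h1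
    refine (Ideal.span_le.2 ?_) h1
    rintro _ ⟨j, rfl⟩
    show σ (θ (a j)) ∈ _
    rw [← hres]
    exact rs_mem _ _ (pb_mem_map _ _ _ hcmtop (schFun_mem_schIdealMap hX pX hpX a _ rfl j))
  · refine nzdOn_completion (𝒦.comap q) hP D (fun b hb => (mem_nonZeroDivisors_iff_left.1 hx) b hb) (c := c) ?_
    rw [hspan, comap_idealSpec_ideal, ← Ideal.map_pow]
    refine (Ideal.map_mono hc).trans (le_of_eq ?_)
    rw [Ideal.map_span, ← Set.range_comp]
    rfl
  · intro V s hs
    have h1 := map_le_relGen _ _ (schIdealMap_le_relGen hX pX hpX a _ rfl) hcmtop V hs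
    refine relGen_le_of_mem (le_top : U ≤ ⊤) (fun j => ?_) V h1
    show rs (le_top : U ≤ ⊤) (shPb hX hP cm hcmtop (schFun hX pX hpX (a j))) ∈ _
    rw [hres]
    obtain ⟨e, he⟩ := Ideal.mem_span_singleton'.1
      (show θ (a j) ∈ Ideal.span {x} from hspan ▸ Ideal.subset_span ⟨j, rfl⟩)
    rw [← he, map_mul]
    exact Ideal.mul_mem_left _ _ (mem_relGen_self (fun _ : Unit => σ x) ())

theorem existsUnique_completion_lift
    (hq : BlowUp.IsBlowUp q (FSch.idealSpec A (Ideal.span (Set.range a))))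
    (hpc : FSch.PowCompat q ((FSch.idealSpec A K).comap q) (FSch.idealSpec A K))
    (hX : (FSch.completionAlong (Spec (CommRingCat.of A)) (FSch.idealSpec A K)).IsFormal)
    (𝔜 : FSch.Sys.{u}) (hY : 𝔜.IsFormal)
    (g : 𝔜 ⟶ FSch.completionAlong (Spec (CommRingCat.of A)) (FSch.idealSpec A K))
    (hinv : (idealMap g hY hX (schIdealMap (FSch.completionAlong (Spec (CommRingCat.of A)) (FSch.idealSpec A K)) hX
        (FSch.completionToX (Spec (CommRingCat.of A)) (FSch.idealSpec A K))
        (FSch.completionToX_comm (Spec (CommRingCat.of A)) (FSch.idealSpec A K))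
        (IdealSh.ofData (FSch.idealSpec A (Ideal.span (Set.range a)))))).IsInvertible) :
    ∃! k : 𝔜 ⟶ FSch.completionAlong P ((FSch.idealSpec A K).comap q),
      k ≫ FSch.completionMap q ((FSch.idealSpec A K).comap q) (FSch.idealSpec A K) hpc = g := by
  let 𝒦 := FSch.idealSpec A K
  let cm := FSch.completionMap q (𝒦.comap q) 𝒦 hpc
  let pX := FSch.completionToX (Spec (CommRingCat.of A)) 𝒦
  have hpX := FSch.completionToX_comm (Spec (CommRingCat.of A)) 𝒦
  let pP := FSch.completionToX P (𝒦.comap q)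
  have hpP := FSch.completionToX_comm P (𝒦.comap q)
  let t := fun n => (g : FSch.Hom 𝔜 _).app n ≫ pX n
  have ht : ∀ n, 𝔜.ι n ≫ t (n + 1) = t n := fun n => by
    show 𝔜.ι n ≫ (g : FSch.Hom 𝔜 _).app (n + 1) ≫ pX (n + 1) = (g : FSch.Hom 𝔜 _).app n ≫ pX n
    rw [← Category.assoc, ← (g : FSch.Hom 𝔜 _).comm n, Category.assoc, hpX n]
  have hgtop : ⊤ ≤ (g : FSch.Hom 𝔜 _).app 0 ⁻¹ᵁ ⊤ := fun _ _ => trivial
  have hgF : ∀ b, shPb hX hY g hgtop (schFun hX pX hpX b) = schFun hY t ht b :=
    shPb_schFun hX hY g pX hpX t ht (fun n => rfl) hgtop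
  have hgood : ∀ (x : 𝔜.X 0) (O : (𝔜.X 0).Opens), x ∈ O → ∃ V ≤ O, x ∈ V ∧ IsGood hY t ht q V := by
    intro x O hxO
    obtain ⟨V₀, jV₀, i, hxV₀, hV₀⟩ := exists_generator_nhd hX hY (fun j => schFun hX pX hpX (a j))
      (schFun_mem_schIdealMap hX pX hpX a _ rfl) (schIdealMap_le_relGen hX pX hpX a _ rfl) g hinv (x := x) trivial
    obtain ⟨V, hV, hxV, hVle⟩ := exists_isAffineOpen_mem_and_subset (U := V₀ ⊓ O) (⟨hxV₀, hxO⟩ : x ∈ V₀ ⊓ O)
    refine ⟨V, fun y hy => (hVle hy).2, hxV, hV, hq.2 _ _ fun y => ⟨⟨⊤, isAffineOpen_top _⟩, trivial, ?_⟩⟩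
    let σ := secFun hY t ht V
    have hV₀' := hV₀.res (show V ≤ V₀ from fun y hy => (hVle hy).1)
    have hσ : ∀ b, rs (show V ≤ V₀ from fun y hy => (hVle hy).1) (shPb hX hY g jV₀ (schFun hX pX hpX b)) = σ b :=
      fun b => (pb_rs _ _ _ _ _).trans ((pb_rs _ _ hgtop (le_top : V ≤ ⊤) _).symm.trans
        (congrArg (rs (le_top : V ≤ ⊤)) (hgF b)))
    rw [hσ] at hV₀'
    refine ⟨(Scheme.ΓSpecIso (OA 𝔜 hY V)).inv (σ (a i)), ?_, ?_⟩
    · rw [mem_nonZeroDivisors_iff_left]
      intro b hb
      have h1 := congrArg (Scheme.ΓSpecIso (OA 𝔜 hY V)).hom hb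
      rw [map_mul, Iso.inv_hom_id_apply, map_zero, mul_comm] at h1
      have h2 := hV₀'.2.1 V le_rfl _ (by rwa [rs_self])
      exact (ConcreteCategory.bijective_of_isIso (Scheme.ΓSpecIso (OA 𝔜 hY V)).hom).1 (h2.trans (map_zero _).symm)
    · rw [Groth.Agent.S3873.result (OA 𝔜 hY V) A σ, FittLib.idealSpec_ideal_top]
      have hspan : (Ideal.span (Set.range a)).map σ = Ideal.span {σ (a i)} := by
        rw [Ideal.map_span, ← Set.range_comp]
        refine le_antisymm (Ideal.span_le.2 ?_) (Ideal.span_mono (by rintro _ rfl; exact ⟨i, rfl⟩))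
        rintro _ ⟨j, rfl⟩
        obtain ⟨e, he⟩ := hV₀'.exists_eq le_rfl (show σ (a j) ∈ _ from
          hσ (a j) ▸ rs_mem _ _ (pb_mem_map _ _ _ jV₀ (schFun_mem_schIdealMap hX pX hpX a _ rfl j)))
        rw [rs_self] at he
        exact Ideal.mem_span_singleton'.2 ⟨e, he.symm⟩
      rw [hspan]
      refine (Ideal.map_comap_of_equiv (Scheme.ΓSpecIso (OA 𝔜 hY V)).commRingCatIsoToRingEquiv.symm).symm.trans ?_
      rw [Ideal.map_span, Set.image_singleton]
      rfl
  obtain ⟨⟨rr, hrr, hrq⟩, huniq⟩ := existsUnique_lift hgood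
  have sq := isPullback_completionLevel q 𝒦 hpc
  refine ⟨⟨fun n => (sq n).lift (rr n) ((g : FSch.Hom 𝔜 _).app n) (hrq n), fun n => ?_⟩, ?_, fun k hk => ?_⟩
  · refine (sq (n + 1)).hom_ext ?_ ?_
    · rw [Category.assoc, Category.assoc, IsPullback.lift_fst, hrr]
      exact (congrArg (_ ≫ ·) (hpP n)).trans ((sq n).lift_fst _ _ _)
    · rw [Category.assoc, Category.assoc, IsPullback.lift_snd, ← (cm : FSch.Hom _ _).comm n, ← Category.assoc,
        IsPullback.lift_snd, (g : FSch.Hom 𝔜 _).comm n]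
  · exact FSch.Hom.ext (funext fun n => (sq n).lift_snd _ _ _)
  · have hk' : ∀ n, (k : FSch.Hom 𝔜 _).app n ≫ (cm : FSch.Hom _ _).app n = (g : FSch.Hom 𝔜 _).app n := fun n =>
      congrArg (fun φ : 𝔜 ⟶ _ => (φ : FSch.Hom 𝔜 _).app n) hk
    have hkr : (fun n => (k : FSch.Hom 𝔜 _).app n ≫ pP n) = rr := by
      refine huniq _ _ (fun n => ?_) (fun n => ?_) hrr hrq
      · rw [← Category.assoc, ← (k : FSch.Hom 𝔜 _).comm n, Category.assoc, hpP n]
      · show ((k : FSch.Hom 𝔜 _).app n ≫ pP n) ≫ q = (g : FSch.Hom 𝔜 _).app n ≫ pX n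
        rw [Category.assoc, (sq n).w, ← Category.assoc, hk']
    refine FSch.Hom.ext (funext fun n => (sq n).hom_ext ?_ ?_)
    · exact (congrFun hkr n).trans ((sq n).lift_fst _ _ _).symm
    · exact (hk' n).trans ((sq n).lift_snd _ _ _).symm

end Helpers

/-- Let R be a base ring of class (N) or (V) for the ideal I, A an admissible R-algebra and 𝔞 a finitely
generated open ideal of A (one containing I^k A for some k). Present Spf A as the completion of Spec
A along the ideal IA (the formal system of the closed subschemes V((IA)^(n+1))), and let P → Spec A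
be a scheme-theoretic blowing-up of 𝔞 (universal-property sense) along which the powers of IA pull
back to the powers of the pulled-back ideal. Then the induced morphism from the completion of P
along the inverse image of IA to Spf A is the admissible formal blowing-up of the ideal 𝔞·O_{Spf A}:
it is adic, 𝔞 generates an invertible ideal of the structure sheaf of the completion of P, and every
adic morphism of formal systems Y → Spf A under which 𝔞 generates an invertible ideal of O_Y factors
through it in exactly one way. (The published statement identifies the two constructions for A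
merely topologically of finite presentation; the universal property asserted here is the one
established for admissible A, so A is taken admissible.) -/
theorem result
    (R : Type u) [CommRing R] (I : Ideal R) (hR : AdicRing.IsBase R I)
    (A : Type u) [CommRing A] [Algebra R A] (hA : AdicRing.Admissible R I A)
    (𝔞 : Ideal A) (h𝔞 : 𝔞.FG) (k : ℕ) (hk : (I ^ k).map (algebraMap R A) ≤ 𝔞)
    (P : Scheme.{u}) (q : P ⟶ Spec (CommRingCat.of A)) (hq : BlowUp.IsBlowUp q (FSch.idealSpec A 𝔞))
    (hpc : FSch.PowCompat q ((FSch.idealSpec A (I.map (algebraMap R A))).comap q) (FSch.idealSpec A (I.map (algebraMap R A))))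
    (hX : (FSch.completionAlong (Spec (CommRingCat.of A)) (FSch.idealSpec A (I.map (algebraMap R A)))).IsFormal)
    (hP : (FSch.completionAlong P ((FSch.idealSpec A (I.map (algebraMap R A))).comap q)).IsFormal) :
    FBlow.IsAdmBlowUp (FSch.completionMap q ((FSch.idealSpec A (I.map (algebraMap R A))).comap q) (FSch.idealSpec A (I.map (algebraMap R A))) hpc) hP hX
      (FBlow.schIdealMap (FSch.completionAlong (Spec (CommRingCat.of A)) (FSch.idealSpec A (I.map (algebraMap R A)))) hX
        (FSch.completionToX (Spec (CommRingCat.of A)) (FSch.idealSpec A (I.map (algebraMap R A))))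
        (FSch.completionToX_comm (Spec (CommRingCat.of A)) (FSch.idealSpec A (I.map (algebraMap R A))))
        (FBlow.IdealSh.ofData (FSch.idealSpec A 𝔞))) := by
  obtain ⟨r, a, ha⟩ := Submodule.fg_iff_exists_fin_generating_family.1 h𝔞
  have ha' : Ideal.span (Set.range a) = 𝔞 := ha
  subst ha'
  have hc : (I.map (algebraMap R A)) ^ (k + 1) ≤ Ideal.span (Set.range a) := by
    rw [← Ideal.map_pow]
    exact (Ideal.map_mono (Ideal.pow_le_pow_right (Nat.le_succ k))).trans hk
  exact ⟨isAdicHom_completionMap q _ hpc, isInvertible_completion a q _ hpc hX hP hq.1 k hc,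
    fun 𝔜 hY g _ hinv => existsUnique_completion_lift a q _ hq hpc hX 𝔜 hY g hinv⟩

end Groth.Agent.S13659
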