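import Groth.Statements.S17076
import Groth.Agent.FibIso.FieldPoint
import Groth.Agent.S10888
-- import your own Groth.Agent.* helpers here

set_option autoImplicit false
set_option backward.isDefEq.respectTransparency false
set_option linter.style.haveILetI false
universe u
open CategoryTheory CategoryTheory.Limits AlgebraicGeometry
open MorSch

namespace Groth.Agent.S17076

open CategoryTheory CategoryTheory.Limits AlgebraicGeometry
open Groth.Agent.FibIso

theorem exists_isoLocus {X Y S : Scheme.{u}} (f : X ⟶ Y) (g : X ⟶ S) (h : Y ⟶ S)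
    [IsProper g] [LocallyOfFinitePresentation g] [Flat g] [IsProper h] [LocallyOfFinitePresentation h]
    (w : f ≫ h = g) :
    ∃ U : S.Opens, ∀ (T : Scheme.{u}) (t : T ⟶ S),
      Set.range t ⊆ (U : Set S) ↔
        IsIso (pullback.map g t h t f (𝟙 T) (𝟙 S) (by simp [w]) (by simp)) := by
  obtain ⟨U, hU, hiso⟩ := Groth.Agent.S10888.result g h f w
  subst w
  refine ⟨U, fun T t => ?_⟩
  change _ ↔ IsIso (bc f h t)
  constructor
  · intro ht
    let V := h ⁻¹ᵁ U
    let e := pullbackRestrictIsoRestrict h U
    have he : e.hom ≫ V.ι = pullback.fst h U.ι := pullbackRestrictIsoRestrict_hom_ι h U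
    have sq := (isPullback_morphismRestrict f V).flip
    have hw : pullback.fst (f ≫ h) U.ι ≫ f = (bc f h U.ι ≫ e.hom) ≫ V.ι := by
      rw [Category.assoc, he, bc_fst]
    have sq' : IsPullback (sq.lift _ _ hw) (bc f h U.ι) (f ∣_ V) e.hom := by
      refine IsPullback.of_right ?_ (sq.lift_snd _ _ hw) sq
      rw [sq.lift_fst, he]
      exact isPullback_bc f h U.ι
    haveI := hiso
    haveI : IsIso (bc f h U.ι) := sq'.isIso_snd_of_isIso
    have hr : Set.range t ⊆ Set.range U.ι := by rwa [Scheme.Opens.range_ι]
    rw [← IsOpenImmersion.lift_fac U.ι t hr]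
    exact isIso_bc_of_isIso f h _ U.ι
  · rintro hi _ ⟨a, rfl⟩
    refine (hU (t a)).2 ?_
    haveI : IsIso (bc f h (T.fromSpecResidueField a ≫ t)) := isIso_bc_of_isIso f h _ t
    have hb : IsIso (bc f h (S.fromSpecResidueField (t a))) := by
      obtain ⟨x⟩ := nonempty_spec (isField_residueField (t a))
      obtain ⟨x'⟩ := nonempty_spec (isField_residueField a)
      refine (isIso_bc_iff f h (isField_residueField _) (isField_residueField _)
        (S.fromSpecResidueField (t a)) (T.fromSpecResidueField a ≫ t) (x := x) (x' := x') ?_).2 ‹_›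
      rw [Scheme.fromSpecResidueField_apply, fromSpecResidueField_comp_apply]
    exact ⟨@asIso _ _ _ _ (bc f h (S.fromSpecResidueField (t a))) hb, bc_fst f h _⟩

end Groth.Agent.S17076

namespace Groth.Agent.S17076


/-- Let S be a locally Noetherian scheme, X and Y schemes proper over S with X flat over S, and f : X →
Y an S-morphism. Then there is an open subset S₀ of S such that, for every locally Noetherian scheme
S' and every morphism h : S' → S, the image of h lies in S₀ if and only if the base change X ×_S S'
→ Y ×_S S' of f is an isomorphism. (The published statement also supposes that some fibre of f is an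
isomorphism; that hypothesis only serves to make S₀ nonempty and is not needed.) -/
theorem result
    {S : Scheme.{u}} [IsLocallyNoetherian S] (X Y : Over S) [IsProper X.hom] [IsProper Y.hom]
    [Flat X.hom] (f : X ⟶ Y) :
    ∃ S₀ : S.Opens, ∀ (S' : Scheme.{u}) [IsLocallyNoetherian S'] (h : S' ⟶ S),
      Set.range h ⊆ (S₀ : Set S) ↔ IsIso ((Over.pullback h).map f).left := by
  haveI : LocallyOfFinitePresentation X.hom := inferInstance
  haveI : LocallyOfFinitePresentation Y.hom := inferInstance
  obtain ⟨U, hU⟩ := exists_isoLocus f.left X.hom Y.hom (Over.w f)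
  refine ⟨U, fun S' _ h => ?_⟩
  have e : ((Over.pullback h).map f).left =
      pullback.map X.hom h Y.hom h f.left (𝟙 S') (𝟙 S) (by simp) (by simp) := by
    apply pullback.hom_ext <;> simp [Over.pullback]
  rw [e]
  exact hU S' h

end Groth.Agent.S17076
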