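import Groth.Statements.S11052
import Groth.Agent.FunFld.Plane
import Groth.Agent.FunFld.Ext.Fundamental

set_option autoImplicit false
open FunFld

namespace Groth.Agent.S11052

/-- Over an algebraically closed constant field, for a `k`-embedding `τ` of the function field `K` into
itself and a projective map `φ = (φ₀, …, φₙ)` (a linearly independent tuple), the degree of the map
`τ(φ)` is `deg τ · deg φ`, where `deg τ = [K : τ(K)]`. -/
theorem result
    (k K : Type*) [Field k] [IsAlgClosed k] [Field K] [Algebra k K]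
    (hK : FunFld.IsFunctionField k K) (τ : K →ₐ[k] K) {n : ℕ}
    (φ : Fin (n + 1) → K) (hφ : LinearIndependent k φ) :
    (FunFld.mapDiv k (τ ∘ φ)).deg =
      Module.finrank τ.fieldRange K * (FunFld.mapDiv k φ).deg := by
  classical
  set F := τ.fieldRange with hFdef
  let e : K ≃ₐ[k] F := AlgEquiv.ofInjectiveField τ
  have heτ : ∀ a : K, ((e a : F) : K) = τ a := fun a => rfl
  -- the range is a function field
  have hF : FunFld.IsFunctionField k F := by
    obtain ⟨x, hx, hfin⟩ := hK.1
    refine ⟨⟨e x, fun h => hx ((isAlgebraic_algHom_iff e.toAlgHom e.injective).1 h), ?_⟩, fun y hy => ?_⟩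
    · let L := IntermediateField.adjoin k ({x} : Set K)
      have hmap : IntermediateField.adjoin k ({(e x : F)} : Set F) = L.map e.toAlgHom := by
        rw [IntermediateField.adjoin_map, Set.image_singleton]; rfl
      rw [hmap]
      let i : L ≃+* L.map e.toAlgHom := (L.equivMap e.toAlgHom).toRingEquiv
      have h := Algebra.finrank_eq_of_equiv_equiv i e.toRingEquiv (RingHom.ext fun a => rfl)
      refine FiniteDimensional.of_finrank_pos ?_
      rw [← h]
      exact Module.finrank_pos
    · obtain ⟨c, hc⟩ := hK.2 (e.symm y) ((isAlgebraic_algHom_iff e.symm.toAlgHom e.symm.injective).2 hy)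
      refine ⟨c, ?_⟩
      rw [← e.apply_symm_apply y, ← hc, AlgEquiv.commutes]
  -- `K` is finite over the range
  have : FiniteDimensional F K := by
    obtain ⟨x, hx, -⟩ := hK.1
    have hx' : Transcendental k (τ x) := fun h => hx ((isAlgebraic_algHom_iff τ τ.injective).1 h)
    have := Groth.Agent.FunFld.finite_adjoin hK hx'
    have hle : IntermediateField.adjoin k ({τ x} : Set K) ≤ F := by
      rw [IntermediateField.adjoin_le_iff, Set.singleton_subset_iff]; exact ⟨x, rfl⟩
    let _ : Algebra (IntermediateField.adjoin k ({τ x} : Set K)) F := (IntermediateField.inclusion hle).toRingHom.toAlgebra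
    have : IsScalarTower (IntermediateField.adjoin k ({τ x} : Set K)) F K := IsScalarTower.of_algebraMap_eq fun a => rfl
    exact Module.Finite.right (IntermediateField.adjoin k ({τ x} : Set K)) F K
  -- places of `K` and of the range
  let tr : FunFld.Place k K ≃ FunFld.Place k F :=
    { toFun := fun P => ⟨P.1.comap (e.symm : F ≃ₐ[k] K).toRingEquiv.toRingHom,
        fun c => by simpa using P.2.1 c, fun v => by
        obtain ⟨a, ha⟩ := P.2.2 v
        exact ⟨e a, by simpa using ha⟩⟩
      invFun := fun P => ⟨P.1.comap e.toRingEquiv.toRingHom,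
        fun c => by simpa using P.2.1 c, fun v => by
        obtain ⟨a, ha⟩ := P.2.2 v
        exact ⟨e.symm a, by simpa using ha⟩⟩
      left_inv := fun P => Subtype.ext (Valuation.ext fun a => by simp)
      right_inv := fun P => Subtype.ext (Valuation.ext fun a => by simp) }
  have hord : ∀ (P : FunFld.Place k K) (a : K), (tr P).ord (e a) = P.ord a := fun P a => by
    show -WithZero.log (P.1 (e.symm (e a))) = -WithZero.log (P.1 a)
    rw [AlgEquiv.symm_apply_apply]
  have htr : FunFld.mapDiv k (fun i => e (φ i)) = Finsupp.equivMapDomain tr (FunFld.mapDiv k φ) := by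
    refine Finsupp.ext fun P => ?_
    rw [Finsupp.equivMapDomain_apply, Groth.Agent.FunFld.mapDiv_apply hF, Groth.Agent.FunFld.mapDiv_apply hK]
    congr 1
  have hdeg : (FunFld.mapDiv k (fun i => e (φ i))).deg = (FunFld.mapDiv k φ).deg := by
    rw [htr, FunFld.Divisor.deg, FunFld.Divisor.deg, Finsupp.sum_equivMapDomain]
    exact Finsupp.sum_congr fun P _ => by rw [Groth.Agent.FunFld.deg_eq_one hK, Groth.Agent.FunFld.deg_eq_one hF]
  have hcon : FunFld.mapDiv k (τ ∘ φ) = FunFld.conorm K (FunFld.mapDiv k fun i => e (φ i)) := by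
    refine Finsupp.ext fun Q => ?_
    obtain ⟨P, hP⟩ := Groth.Agent.FunFld.exists_below (K := F) Q
    have he := Groth.Agent.FunFld.isOverWith_of_isOver hP
    rw [Groth.Agent.FunFld.conorm_apply hF _ he, Groth.Agent.FunFld.mapDiv_apply hK, Groth.Agent.FunFld.mapDiv_apply hF, mul_neg, neg_inj]
    have hcomp : ∀ i, Q.ord ((τ ∘ φ) i) = (FunFld.ramIdx Q P : ℤ) * P.ord (e (φ i)) := fun i =>
      Groth.Agent.FunFld.IsOverWith.ord he (e (φ i))
    simp only [hcomp]
    obtain ⟨j, -, hj⟩ := Finset.exists_mem_eq_inf' Finset.univ_nonempty (fun i => P.ord (e (φ i)))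
    refine le_antisymm ((Finset.inf'_le _ (Finset.mem_univ j)).trans_eq ?_)
      (Finset.le_inf' _ _ fun i hi => mul_le_mul_of_nonneg_left (Finset.inf'_le _ hi) (by positivity))
    rw [hj]
  rw [hcon, Groth.Agent.FunFld.deg_conorm hF, hdeg]

end Groth.Agent.S11052
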