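import Groth.Statements.S15083
import Mathlib

set_option autoImplicit false
universe u
open MovLem

namespace Groth.Agent.S15083

open Polynomial Matrix

/-- transvections over the polynomial ring -/
noncomputable abbrev T {K : Type u} [Field K] {n : ℕ} {i j : Fin n} (h : i ≠ j) (b : K[X]) :
    SpecialLinearGroup (Fin n) K[X] := SpecialLinearGroup.transvection h b

theorem map_transvection {R S : Type u} [CommRing R] [CommRing S] (φ : R →+* S) {n : ℕ} {i j : Fin n}
    (h : i ≠ j) (b : R) :
    SpecialLinearGroup.map φ (SpecialLinearGroup.transvection h b) =
      SpecialLinearGroup.transvection h (φ b) := by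
  ext a a'
  simp [SpecialLinearGroup.transvection_coe, Matrix.one_apply, Matrix.single_apply, apply_ite φ]

theorem t_apply {R : Type u} [CommRing R] {n : ℕ} (i j x y : Fin n) (c : R) :
    Matrix.transvection i j c x y = (if x = y then 1 else 0) + (if i = x ∧ j = y then c else 0) := by
  simp [Matrix.transvection, Matrix.one_apply, Matrix.single_apply]

theorem diag2n_decompose {K : Type u} [Field K] {n : ℕ} {i j : Fin n} (hij : i ≠ j) (a : K) (ha : a ≠ 0) :
    SpecialLinearGroup.diag2n hij a ha =
      SpecialLinearGroup.transvection hij a * SpecialLinearGroup.transvection hij.symm (- a⁻¹) *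
      SpecialLinearGroup.transvection hij a * SpecialLinearGroup.transvection hij (-1) *
      SpecialLinearGroup.transvection hij.symm 1 * SpecialLinearGroup.transvection hij (-1) := by
  refine Subtype.ext ?_
  show diagonal _ = Matrix.transvection i j a * Matrix.transvection j i (-a⁻¹) *
      Matrix.transvection i j a * Matrix.transvection i j (-1) * Matrix.transvection j i 1 *
      Matrix.transvection i j (-1)
  simp only [Matrix.mul_assoc]
  ext r s
  by_cases hri : r = i
  · subst hri
    simp [t_apply, Matrix.diagonal_apply, hij, hij.symm]
    split_ifs <;> simp_all <;> field_simp <;> ring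
  · by_cases hrj : r = j
    · subst hrj
      simp [t_apply, Matrix.diagonal_apply, hij, hij.symm]
      split_ifs <;> simp_all <;> field_simp <;> ring
    · simp [t_apply, Matrix.diagonal_apply, hri, hrj, Ne.symm hri, Ne.symm hrj]

/-- Let K be a field and r ≥ 1. For every element A of the special linear group SL_{r+1}(K) there is an
algebraic path in SL_{r+1} from the identity to A defined over K: a matrix M of determinant 1 with
entries in the polynomial ring K[y] such that M(0) is the identity matrix and M(1) = A. (The
published statement takes K to be the function field of SL_{r+1} over the ground field, A its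
generic point viewed as a K-rational point, and the parameter space to be the projective line minus
the point 1, with endpoints 0 and ∞; this row gives the path for an arbitrary K-point A on the
affine line with endpoints 0 and 1, which is what the published construction provides before
composing with the coordinate change y ↦ y/(y − 1).) -/
theorem result
    (K : Type u) [Field K] (r : ℕ) (hr : 1 ≤ r)
    (A : Matrix.SpecialLinearGroup (Fin (r + 1)) K) :
    ∃ M : Matrix.SpecialLinearGroup (Fin (r + 1)) (Polynomial K),
      Matrix.SpecialLinearGroup.map (Polynomial.evalRingHom (0 : K)) M = 1 ∧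
      Matrix.SpecialLinearGroup.map (Polynomial.evalRingHom (1 : K)) M = A := by
  haveI : Nontrivial (Fin (r + 1)) := Fin.nontrivial_iff_two_le.2 (by omega)
  refine Matrix.SpecialLinearGroup.diagonal_transvection_induction' (fun A => ∃ M : Matrix.SpecialLinearGroup (Fin (r + 1)) (Polynomial K), Matrix.SpecialLinearGroup.map (Polynomial.evalRingHom (0 : K)) M = 1 ∧ Matrix.SpecialLinearGroup.map (Polynomial.evalRingHom (1 : K)) M = A) A ?_ ?_ ?_
  · intro i j hij c hc
    refine ⟨T hij (X * C c) * T hij.symm (-(X * C c⁻¹)) * T hij (X * C c) * T hij (-X) *
      T hij.symm X * T hij (-X), ?_, ?_⟩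
    · simp only [map_mul, T, map_transvection]
      simp
    · simp only [map_mul, T, map_transvection]
      simp only [coe_evalRingHom, eval_mul, eval_X, eval_C, one_mul, eval_neg]
      exact (diag2n_decompose hij c hc).symm
  · intro i j hij c
    exact ⟨T hij (X * C c), by simp [T, map_transvection], by simp [T, map_transvection]⟩
  · rintro A B ⟨M, h0, h1⟩ ⟨N, h0', h1'⟩
    exact ⟨M * N, by rw [map_mul, h0, h0', one_mul], by rw [map_mul, h1, h1']⟩

end Groth.Agent.S15083
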