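import Groth.Statements.S19411
-- import your own Groth.Agent.* helpers here
import Groth.Agent.HopfCartier.Basic
import Groth.Agent.Comod.DualModule
import Groth.Prelude.Def_GLin
import Mathlib.FieldTheory.IsAlgClosed.Basic
import Mathlib.RingTheory.Jacobson.Ring
import Mathlib.Topology.Connected.Basic

set_option autoImplicit false
universe u
open TensorProduct
open GLin

namespace Groth.Agent.S19411


open TensorProduct Groth.Agent Cardinal
set_option linter.unusedSectionVars false

section Points
variable {k : Type u} [Field k] [IsAlgClosed k] {R : Type u} [CommRing R] [Algebra k R] [Algebra.FiniteType k R]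

lemma exists_point_of_maximal (M : Ideal R) [M.IsMaximal] : ∃ x : R →ₐ[k] k, RingHom.ker x = M := by
  let _ : Field (R ⧸ M) := Ideal.Quotient.field M
  have : Algebra.FiniteType k (R ⧸ M) := .of_surjective (Ideal.Quotient.mkₐ k M) Ideal.Quotient.mk_surjective
  have : Module.Finite k (R ⧸ M) := finite_of_finite_type_of_isJacobsonRing k (R ⧸ M)
  let e : k ≃ₐ[k] R ⧸ M := AlgEquiv.ofBijective (Algebra.ofId k (R ⧸ M))
    IsAlgClosed.algebraMap_bijective_of_isIntegral
  refine ⟨(e.symm : R ⧸ M →ₐ[k] k).comp (Ideal.Quotient.mkₐ k M), ?_⟩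
  ext r
  simp [RingHom.mem_ker, Ideal.Quotient.eq_zero_iff_mem]

lemma isUnit_of_forall {r : R} (h : ∀ x : R →ₐ[k] k, x r ≠ 0) : IsUnit r := by
  by_contra hr
  obtain ⟨M, hM, hrM⟩ := exists_max_ideal_of_mem_nonunits hr
  obtain ⟨x, hx⟩ := exists_point_of_maximal (k := k) M
  exact h x (RingHom.mem_ker.1 (hx ▸ hrM))

lemma eq_zero_of_forall [IsReduced R] {r : R} (h : ∀ x : R →ₐ[k] k, x r = 0) : r = 0 := by
  have : IsJacobsonRing R := isJacobsonRing_of_finiteType (A := k)
  have hmem : r ∈ (⊥ : Ideal R).jacobson := Submodule.mem_sInf.2 fun M hM => by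
    have := hM.2
    obtain ⟨x, hx⟩ := exists_point_of_maximal (k := k) M
    rw [← hx]; exact h x
  rw [IsJacobsonRing.out inferInstance (I := (⊥ : Ideal R))
    (fun x hx => by obtain ⟨n, hn⟩ := hx; exact IsNilpotent.eq_zero ⟨n, hn⟩)] at hmem
  exact hmem

lemma rank_le : Module.rank k R ≤ ℵ₀ := by
  obtain ⟨n, f, hf⟩ := Algebra.FiniteType.iff_quotient_mvPolynomial''.1 ‹Algebra.FiniteType k R›
  refine (LinearMap.rank_le_of_surjective f.toLinearMap hf).trans ?_
  rw [← ((MvPolynomial.basisMonomials (Fin n) k).reindex Equiv.ulift.{u}.symm).mk_eq_rank'']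
  exact Cardinal.mk_le_aleph0

lemma countable_of_li {σ : Type u} {v : σ → R} (h : LinearIndependent k v) : Countable σ :=
  Cardinal.mk_le_aleph0_iff.1 (h.cardinal_le_rank.trans rank_le)

variable [Uncountable k]

/-- a function with countably many values at rational points of a reduced connected affine variety is constant -/
lemma exists_algebraMap_eq [IsReduced R] [ConnectedSpace (PrimeSpectrum R)] (r : R) (S : Set k) (hS : S.Countable)
    (hr : ∀ x : R →ₐ[k] k, x r ∈ S) : ∃ c : k, algebraMap k R c = r := by
  classical
  have : Nontrivial R := PrimeSpectrum.nonempty_iff_nontrivial.1 inferInstance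
  have hu : ∀ c : {c : k // c ∉ S}, IsUnit (r - algebraMap k R c) := fun c => isUnit_of_forall (k := k) fun x hx => by
    rw [map_sub, sub_eq_zero, AlgHom.commutes] at hx
    exact c.2 ((show x r = (c : k) by simpa using hx) ▸ hr x)
  choose u hu' using hu
  -- the element is algebraic
  have halg : IsIntegral k r := by
    rw [← isAlgebraic_iff_isIntegral]
    by_contra htr
    have hinj : Function.Injective (Polynomial.aeval r : Polynomial k →ₐ[k] R) :=
      (transcendental_iff_injective).1 htr
    have hli : LinearIndependent k (fun c : {c : k // c ∉ S} => (((u c)⁻¹ : Rˣ) : R)) := by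
      rw [linearIndependent_iff']
      intro s g hg i hi
      have h1 := congrArg (fun z => z * ∏ c ∈ s, ((u c : Rˣ) : R)) hg
      simp only [Finset.sum_mul, zero_mul] at h1
      have h2 : Polynomial.aeval r (∑ c ∈ s, Polynomial.C (g c) * ∏ d ∈ s.erase c, (Polynomial.X - Polynomial.C (d : k))) = 0 := by
        rw [← h1, map_sum]
        refine Finset.sum_congr rfl fun c hc => ?_
        rw [map_mul, map_prod, Polynomial.aeval_C, ← Finset.mul_prod_erase s _ hc, smul_mul_assoc, ← mul_assoc,
          Units.inv_mul, one_mul, Algebra.smul_def]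
        simp [hu']
      have h3 := congrArg (Polynomial.eval (i : k)) (hinj (h2.trans (map_zero _).symm))
      rw [Polynomial.eval_finsetSum, Finset.sum_eq_single i] at h3
      · simp only [Polynomial.eval_mul, Polynomial.eval_C, Polynomial.eval_prod, Polynomial.eval_sub, Polynomial.eval_X,
          Polynomial.eval_zero, mul_eq_zero, Finset.prod_eq_zero_iff] at h3
        refine h3.resolve_right ?_
        rintro ⟨d, hd, hd'⟩
        exact (Finset.mem_erase.1 hd).1 (Subtype.ext (sub_eq_zero.1 hd').symm)
      · intro c _ hc
        rw [Polynomial.eval_mul, Polynomial.eval_prod]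
        refine mul_eq_zero_of_right _ (Finset.prod_eq_zero (Finset.mem_erase.2 ⟨Ne.symm hc, hi⟩) (by simp))
      · exact fun h => absurd hi h
    have : Countable {c : k // c ∉ S} := countable_of_li hli
    have : Countable k := Set.countable_univ_iff.1
      ((hS.union (Set.countable_coe_iff (s := {c : k | c ∉ S}) |>.1 this)).mono fun c _ => by
        by_cases hc : c ∈ S
        · exact Or.inl hc
        · exact Or.inr hc)
    exact not_countable this
  -- finitely many values
  let p := minpoly k r
  have hp0 : p ≠ 0 := minpoly.ne_zero halg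
  let F : Finset k := p.roots.toFinset
  have hF : ∀ x : R →ₐ[k] k, x r ∈ F := fun x => by
    rw [Multiset.mem_toFinset, Polynomial.mem_roots hp0, Polynomial.IsRoot, ← Polynomial.coe_aeval_eq_eval,
      Polynomial.aeval_algHom_apply, minpoly.aeval, map_zero]
  have hprod : ∏ c ∈ F, (r - algebraMap k R c) = 0 := eq_zero_of_forall (k := k) fun x => by
    rw [map_prod]
    exact Finset.prod_eq_zero (hF x) (by simp)
  let Z : k → Set (PrimeSpectrum R) := fun c => PrimeSpectrum.zeroLocus {r - algebraMap k R c}
  have hcov : ∀ q : PrimeSpectrum R, ∃ c ∈ F, q ∈ Z c := fun q => by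
    obtain ⟨c, hc, hcq⟩ := (Ideal.IsPrime.prod_mem_iff).1 (hprod ▸ q.asIdeal.zero_mem)
    exact ⟨c, hc, by simpa [Z] using hcq⟩
  have hdisj : ∀ c d, c ≠ d → ∀ q, q ∈ Z c → q ∉ Z d := fun c d hcd q hc hd => by
    simp only [Z, PrimeSpectrum.mem_zeroLocus, Set.singleton_subset_iff, SetLike.mem_coe] at hc hd
    have h1 := q.asIdeal.sub_mem hd hc
    rw [sub_sub_sub_cancel_left, ← map_sub] at h1
    exact q.2.ne_top (Ideal.eq_top_of_isUnit_mem _ h1 ((isUnit_iff_ne_zero.2 (sub_ne_zero.2 hcd)).map _))
  obtain ⟨q0⟩ := (inferInstance : Nonempty (PrimeSpectrum R))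
  obtain ⟨c, hc, hq0⟩ := hcov q0
  have hopen : IsOpen (Z c) := by
    have : (Z c)ᶜ = ⋃ d ∈ F.erase c, Z d := by
      ext q
      simp only [Set.mem_compl_iff, Set.mem_iUnion, Finset.mem_erase, exists_prop]
      constructor
      · intro hq
        obtain ⟨d, hd, hqd⟩ := hcov q
        exact ⟨d, ⟨fun h => hq (h ▸ hqd), hd⟩, hqd⟩
      · rintro ⟨d, ⟨hdc, -⟩, hqd⟩
        exact hdisj d c hdc q hqd
    rw [← isClosed_compl_iff, this]
    exact isClosed_biUnion_finset fun d _ => PrimeSpectrum.isClosed_zeroLocus _
  have huniv : Z c = Set.univ :=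
    IsClopen.eq_univ ⟨PrimeSpectrum.isClosed_zeroLocus _, hopen⟩ ⟨q0, hq0⟩
  refine ⟨c, (sub_eq_zero.1 ?_).symm⟩
  refine IsNilpotent.eq_zero ((nilpotent_iff_mem_prime).2 fun J hJ => ?_)
  have : (⟨J, hJ⟩ : PrimeSpectrum R) ∈ Z c := huniv ▸ Set.mem_univ _
  simpa [Z] using this

end Points

/-- Let k be an uncountable algebraically closed field of characteristic zero, A a finitely generated
commutative Hopf algebra over k all of whose finite-dimensional comodules are semisimple (a
reductive group G), and R a reduced finitely generated commutative k-algebra whose prime spectrum is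
connected, with a multiplicative A-coaction ρ (G acting on the connected affine scheme X = Spec R).
Let θ ∈ R ⊗ A be such that the map r ↦ ρ(r)·θ from R to R ⊗ A is coassociative and counital (a
structure of G-line bundle on the trivial line bundle of X, θ being the corresponding invertible
function on X × G). Suppose that either every unit of A is a scalar multiple of a group-like element
(every invertible function on G is a constant times a character), or every unit of R is a scalar
(every invertible function on X is constant). Then θ = 1 ⊗ χ for some group-like element χ of A: the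
G-line bundle is the one attached to the character χ. (Stated for G-line bundle structures on the
trivial bundle, the case to which the hypothesis of a trivial Picard group reduces the source's
statement; uncountability of k is what the argument uses in the first case.) -/
theorem result (k : Type u) [Field k] [IsAlgClosed k] [CharZero k] [Uncountable k]
    (A : Type u) [CommRing A] [HopfAlgebra k A] [Algebra.FiniteType k A] (hG : HopfRep.IsLinearlyReductive k A)
    (R : Type u) [CommRing R] [IsReduced R] [Algebra k R] [Algebra.FiniteType k R] [HopfRep.Comod k A R] [GLin.IsCoactAlg k A R]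
    [ConnectedSpace (PrimeSpectrum R)]
    (θ : R ⊗[k] A)
    (hassoc : (TensorProduct.assoc k R A A).toLinearMap ∘ₗ
        ((LinearMap.mulRight k θ) ∘ₗ HopfRep.Comod.coact (k := k) (A := A) (V := R)).rTensor A ∘ₗ
          ((LinearMap.mulRight k θ) ∘ₗ HopfRep.Comod.coact (k := k) (A := A) (V := R)) =
      (CoalgebraStruct.comul (R := k) (A := A)).lTensor R ∘ₗ
        ((LinearMap.mulRight k θ) ∘ₗ HopfRep.Comod.coact (k := k) (A := A) (V := R)))
    (hcounit : (CoalgebraStruct.counit (R := k) (A := A)).lTensor R ∘ₗ
        ((LinearMap.mulRight k θ) ∘ₗ HopfRep.Comod.coact (k := k) (A := A) (V := R)) =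
      (TensorProduct.mk k R k).flip 1)
    (h : (∀ u : Aˣ, ∃ (c : k) (χ : A), IsGroupLikeElem k χ ∧ (u : A) = c • χ) ∨
      (∀ u : Rˣ, (u : R) ∈ Set.range (algebraMap k R))) :
    ∃ χ : A, IsGroupLikeElem k χ ∧ θ = (1 : R) ⊗ₜ[k] χ := by
  classical
  have : Nontrivial R := PrimeSpectrum.nonempty_iff_nontrivial.1 inferInstance
  have : IsReduced A := Groth.Agent.HopfCartier.isReduced (k := k)
  obtain ⟨M, hM⟩ := Ideal.exists_maximal R
  obtain ⟨x0, -⟩ := exists_point_of_maximal (k := k) M
  let ev : (R →ₐ[k] k) → (A →ₐ[k] k) → (R ⊗[k] A →ₐ[k] k) := fun x g => Algebra.TensorProduct.productMap x g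
  let χ : (R →ₐ[k] k) → A := fun x => Comod.cL x.toLinearMap θ
  have hev : ∀ x g t, ev x g t = g (Comod.cL x.toLinearMap t) := fun x g t => by
    induction t using TensorProduct.induction_on with
    | zero => simp
    | tmul a b => simp [ev]
    | add a b ha hb => simp only [map_add, ha, hb]
  have hevR : ∀ x (φ : A →ₗ[k] k), x (Comod.cR φ θ) = φ (χ x) := fun x φ => by
    simp only [χ]
    generalize θ = t
    induction t using TensorProduct.induction_on with
    | zero => simp
    | tmul a b => simp [mul_comm]
    | add a b ha hb => simp only [map_add, ha, hb]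
  have hθ : (LinearMap.mulRight k θ) (HopfRep.Comod.coact (k := k) (A := A) (1 : R)) = θ := by
    rw [GLin.IsCoactAlg.coact_one, LinearMap.mulRight_apply, one_mul]
  have hco := LinearMap.congr_fun hassoc 1
  have hcu := LinearMap.congr_fun hcounit 1
  simp only [LinearMap.comp_apply, hθ] at hco hcu
  -- the cocycle identity at points
  have key : ∀ (x : R →ₐ[k] k) (g h : A →ₐ[k] k),
      ev (GLin.actPt k g x) h θ * ev x g θ =
        Algebra.TensorProduct.productMap x (Algebra.TensorProduct.productMap g h)
          ((CoalgebraStruct.comul (R := k) (A := A)).lTensor R θ) := by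
    intro x g h
    rw [← hco]
    have hact : ∀ r : R, GLin.actPt k g x r = ev x g (HopfRep.Comod.coact (k := k) (A := A) r) := fun r => by
      have : ∀ t : R ⊗[k] A, g (Algebra.TensorProduct.lid k A (Algebra.TensorProduct.map x (AlgHom.id k A) t)) = ev x g t :=
        fun t => by
          induction t using TensorProduct.induction_on with
          | zero => simp
          | tmul a b => simp [ev]
          | add a b ha hb => simp only [map_add, ha, hb]
      exact this _
    suffices h0 : ∀ t : R ⊗[k] A, ev (GLin.actPt k g x) h t * ev x g θ =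
        Algebra.TensorProduct.productMap x (Algebra.TensorProduct.productMap g h)
          (TensorProduct.assoc k R A A (((LinearMap.mulRight k θ) ∘ₗ
            HopfRep.Comod.coact (k := k) (A := A) (V := R)).rTensor A t)) from h0 θ
    intro t
    induction t using TensorProduct.induction_on with
    | zero => simp
    | add a b ha hb => simp only [map_add, add_mul, ha, hb]
    | tmul r a =>
      have e : ∀ s : R ⊗[k] A, Algebra.TensorProduct.productMap x (Algebra.TensorProduct.productMap g h)
          (TensorProduct.assoc k R A A (s ⊗ₜ[k] a)) = ev x g s * h a := fun s => by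
        induction s using TensorProduct.induction_on with
        | zero => simp
        | tmul p q => simp [ev, mul_assoc]
        | add p q hp hq => simp only [TensorProduct.add_tmul, map_add, add_mul, hp, hq]
      rw [LinearMap.rTensor_tmul, e, LinearMap.comp_apply, LinearMap.mulRight_apply, map_mul, ← hact]
      simp [ev, mul_right_comm]
  have hone : ∀ x : R →ₐ[k] k, Coalgebra.counit (R := k) (χ x) = 1 := fun x => by
    rw [show (Coalgebra.counit (R := k) (χ x)) = x (TensorProduct.rid k R
      ((CoalgebraStruct.counit (R := k) (A := A)).lTensor R θ)) from ?_, hcu]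
    · simp
    · simp only [χ]
      generalize θ = t
      induction t using TensorProduct.induction_on with
      | zero => simp
      | tmul a b => simp [mul_comm]
      | add a b ha hb => simp only [map_add, ha, hb]
  have hne : ∀ x g, ev x g θ ≠ 0 := fun x g h0 => by
    have h1 := key x g (g.comp (HopfAlgebra.antipodeAlgHom k A))
    rw [h0, mul_zero] at h1
    have h2 : ∀ t : R ⊗[k] A, Algebra.TensorProduct.productMap x (Algebra.TensorProduct.productMap g (g.comp (HopfAlgebra.antipodeAlgHom k A)))
        ((CoalgebraStruct.comul (R := k) (A := A)).lTensor R t) = Coalgebra.counit (R := k) (Comod.cL x.toLinearMap t) := fun t => by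
      induction t using TensorProduct.induction_on with
      | zero => simp
      | add a b ha hb => simp only [map_add, ha, hb]
      | tmul r a =>
        rw [LinearMap.lTensor_tmul, Algebra.TensorProduct.productMap_apply_tmul]
        have h3 : ∀ s : A ⊗[k] A, Algebra.TensorProduct.productMap g (g.comp (HopfAlgebra.antipodeAlgHom k A)) s =
            g (LinearMap.mul' k A ((HopfAlgebra.antipode k).lTensor A s)) := fun s => by
          induction s using TensorProduct.induction_on with
          | zero => simp
          | tmul p q => simp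
          | add p q hp hq => simp only [map_add, hp, hq]
        rw [h3, HopfAlgebra.mul_antipode_lTensor_comul_apply, AlgHom.commutes]
        simp
    rw [h2] at h1
    exact one_ne_zero ((hone x).symm.trans h1.symm)
  have hunit : ∀ x, IsUnit (χ x) := fun x => isUnit_of_forall (k := k) fun g => by
    rw [← hev]; exact hne x g
  obtain ⟨T, hT, hTχ⟩ : ∃ T : Set A, T.Countable ∧ ∀ x, χ x ∈ T := by
    rcases h with hA | hR
    · refine ⟨{a : A | IsGroupLikeElem k a}, ?_, fun x => ?_⟩
      · exact Set.countable_coe_iff.1 (countable_of_li (R := A) linearIndepOn_isGroupLikeElem.linearIndependent)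
      · obtain ⟨c, ψ, hψ, he⟩ := hA (hunit x).unit
        have he' : χ x = c • ψ := he
        have h1 := hone x
        rw [he', map_smul, hψ.counit_eq_one, smul_eq_mul, mul_one] at h1
        rw [Set.mem_setOf_eq, he', h1, one_smul]
        exact hψ
    · refine ⟨{χ x0}, Set.countable_singleton _, fun x => Set.mem_singleton_iff.2 ?_⟩
      refine sub_eq_zero.1 (eq_zero_of_forall (k := k) fun g => ?_)
      have hu : IsUnit (Comod.cR g.toLinearMap θ) := isUnit_of_forall (k := k) fun y => by
        rw [hevR]
        have := hne y g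
        rwa [hev] at this
      obtain ⟨c, hc⟩ := hR hu.unit
      have hc' : algebraMap k R c = Comod.cR g.toLinearMap θ := hc
      have e1 := hevR x g.toLinearMap
      have e2 := hevR x0 g.toLinearMap
      rw [← hc', AlgHom.commutes] at e1 e2
      rw [map_sub, sub_eq_zero]
      exact e1.symm.trans e2
  have hθχ : θ = (1 : R) ⊗ₜ[k] χ x0 := Comod.tensor_eq_of_cR fun φ => by
    obtain ⟨c, hc⟩ := exists_algebraMap_eq (Comod.cR φ θ) (φ '' T) (hT.image _)
      fun x => ⟨χ x, hTχ x, (hevR x φ).symm⟩
    have e := hevR x0 φ
    rw [← hc, AlgHom.commutes] at e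
    rw [Comod.cR_tmul, ← hc, ← Algebra.algebraMap_eq_smul_one]
    exact congrArg (algebraMap k R) e
  refine ⟨χ x0, ⟨hone x0, ?_⟩, hθχ⟩
  rw [hθχ] at hco
  simp only [LinearMap.rTensor_tmul, LinearMap.comp_apply, GLin.IsCoactAlg.coact_one, LinearMap.mulRight_apply, one_mul,
    LinearEquiv.coe_coe, TensorProduct.assoc_tmul, LinearMap.lTensor_tmul] at hco
  have hh := congrArg (fun z => TensorProduct.lid k (A ⊗[k] A) (x0.toLinearMap.rTensor (A ⊗[k] A) z)) hco
  simpa using hh.symm

end Groth.Agent.S19411
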