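import Groth.Statements.S11188
import Groth.Agent.GModLib.Obs
import Mathlib

set_option autoImplicit false
universe u
open CategoryTheory MonoidalCategory CartesianMonoidalCategory MonObj GrpObj AlgebraicGeometry
open scoped TensorProduct
open AGF
set_option backward.isDefEq.respectTransparency false

namespace Groth.Agent.S11188

/-- (1) ⇔ (2) ⇔ (3): let k be an algebraically closed field, G a linear algebraic group over k (an
affine smooth group scheme over k) and H a closed subgroup of G (a smooth closed subgroup scheme, i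
: H → G). The following are equivalent: (i) H is observable in G, i.e. a rational point of G whose
right translation fixes every right-H-invariant global function on G lies in H; (ii) there are a
finite-dimensional rational G-module V and a vector v in V whose stabiliser, on rational points, is
H; (iii) there are finitely many right-H-invariant global functions on G which separate the cosets
gH: two rational points of G at which they all take the same values differ by right multiplication
by a rational point of H. -/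
theorem result (k : Type u) [Field k] [IsAlgClosed k]
    (G : Over (Spec (CommRingCat.of k))) [GrpObj G] [IsAffine G.left] [Smooth G.hom]
    (H : Over (Spec (CommRingCat.of k))) [GrpObj H] [Smooth H.hom] (i : H ⟶ G) [IsMonHom i]
    [IsClosedImmersion i.left] :
    List.TFAE [
      AGF.IsObservableIn k i,
      ∃ (V : Type u) (_ : AddCommGroup V) (_ : Module k V) (_ : Module.Finite k V) (ρ : VecGrp.GMod G V) (v : V),
        AGF.IsStabOnPts k i ρ v,
      ∃ s : Finset Γ(G.left, ⊤), (∀ f ∈ s, AGF.IsRTransInv i f) ∧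
        ∀ g g' : VecGrp.pt k k ⟶ G, (∀ f ∈ s, g.left.appTop f = g'.left.appTop f) →
          ∃ h : VecGrp.pt k k ⟶ H, g' = g * (h ≫ i)] := by
  classical
  haveI : IsAffine H.left := isAffine_of_isAffineHom i.left
  obtain ⟨C, _, e, he⟩ := Groth.Agent.FinHopf.exists_hopf (R := CommRingCat.of k) G
  obtain ⟨D, _, e', he'⟩ := Groth.Agent.FinHopf.exists_hopf (R := CommRingCat.of k) H
  haveI := he
  haveI := he'
  haveI : IsIso e.hom.left := inferInstanceAs (IsIso ((Over.forget _).map e.hom))
  haveI : IsIso e'.hom.left := inferInstanceAs (IsIso ((Over.forget _).map e'.hom))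
  haveI : Algebra.FiniteType k C := by
    have h0 : LocallyOfFiniteType (e.hom.left ≫ G.hom) := inferInstance
    rw [Over.w e.hom] at h0
    exact RingHom.finiteType_algebraMap.1 ((HasRingHomProperty.Spec_iff (P := @LocallyOfFiniteType)).1 h0)
  haveI : Algebra.FiniteType k D := by
    have h0 : LocallyOfFiniteType (e'.hom.left ≫ H.hom) := inferInstance
    rw [Over.w e'.hom] at h0
    exact RingHom.finiteType_algebraMap.1 ((HasRingHomProperty.Spec_iff (P := @LocallyOfFiniteType)).1 h0)
  haveI : _root_.IsReduced C := Groth.Agent.GModLib.isReduced_of_smooth e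
  haveI : _root_.IsReduced D := Groth.Agent.GModLib.isReduced_of_smooth e'
  let E := RingEquiv.ofBijective (Groth.Agent.GModLib.fnC e) (Groth.Agent.GModLib.fnC_bijective e)
  have hval : ∀ (g g' : VecGrp.pt k k ⟶ G) (f : Γ(G.left, ⊤)), g.left.appTop f = g'.left.appTop f ↔
      Groth.Agent.AdjRep.val g f = Groth.Agent.AdjRep.val g' f := fun g g' f =>
    ⟨fun h => congrArg (Scheme.ΓSpecIso (CommRingCat.of k)).hom h,
     fun h => (ConcreteCategory.bijective_of_isIso (Scheme.ΓSpecIso (CommRingCat.of k)).hom).1 h⟩
  tfae_have 1 → 2 := by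
    intro hobs
    obtain ⟨s, hs, hcut⟩ := Groth.Agent.GModLib.exists_finset_fixing (k := k) (C := C) {c | AGF.IsRTransInv i (E.symm c)}
    obtain ⟨V, _, _, _, _, v, hv⟩ := Groth.Agent.GModLib.exists_comod_vec (k := k) s
    refine ⟨V, inferInstance, inferInstance, inferInstance, Groth.Agent.GModLib.ofComod e V, v, fun g => ?_⟩
    obtain ⟨φ, rfl⟩ := Groth.Agent.GModLib.exists_eq_pnt e g
    have hact : (Groth.Agent.GModLib.ofComod e V).ρ k (Groth.Agent.GModLib.pnt e φ) ((1 : k) ⊗ₜ[k] v) = (1 : k) ⊗ₜ[k] v ↔
        HopfRep.Comod.act k C V φ v = v := by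
      rw [Groth.Agent.GModLib.ofComod_pnt]
      have h : ∀ t : V ⊗[k] k, TensorProduct.lid k V (TensorProduct.comm k V k t) = TensorProduct.rid k V t := by
        intro t
        induction t using TensorProduct.induction_on with
        | zero => simp
        | add x y hx hy => simp only [map_add, hx, hy]
        | tmul a d => simp
      rw [← (TensorProduct.lid k V).injective.eq_iff, h, TensorProduct.lid_tmul, one_smul]
      rfl
    rw [hact, hv]
    constructor
    · intro hfix
      refine hobs _ fun f hf => ?_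
      rw [Groth.Agent.GModLib.rTransInv_pt_iff]
      exact hcut φ hfix _ (show AGF.IsRTransInv i (E.symm (E f)) by rwa [E.symm_apply_apply])
    · rintro ⟨h, hh⟩ c hc
      have h1 : AGF.IsRTransInv (h ≫ i) (E.symm c) :=
        (Groth.Agent.GModLib.rTransInv_hom_iff e e' i _).1 (hs hc) h
      rw [hh, Groth.Agent.GModLib.rTransInv_pt_iff] at h1
      rwa [show Groth.Agent.GModLib.fnC e (E.symm c) = c from E.apply_symm_apply c] at h1
  tfae_have 2 → 3 := by
    rintro ⟨V, _, _, _, ρ, v, hv⟩
    let b := Module.finBasis k V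
    let c : Fin (Module.finrank k V) → C := fun j =>
      TensorProduct.equivFinsuppOfBasisLeft b (Groth.Agent.GModLib.coactMap e ρ v) j
    have hc : ∀ (φ : C →ₐ[k] k) j, φ (c j) =
        b.repr (TensorProduct.lid k V (ρ.ρ k (Groth.Agent.GModLib.pnt e φ) ((1 : k) ⊗ₜ[k] v))) j := by
      intro φ j
      rw [Groth.Agent.GModLib.rho_pnt]
      dsimp only [c]
      generalize Groth.Agent.GModLib.coactMap e ρ v = t
      induction t using TensorProduct.induction_on with
      | zero => simp
      | add x y hx hy => simp only [map_add, Finsupp.add_apply, hx, hy]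
      | tmul m d => simp [VecGrp.Wmap_tmul, mul_comm]
    refine ⟨Finset.univ.image fun j => E.symm (c j), fun f hf => ?_, fun g g' hgg => ?_⟩
    · obtain ⟨j, -, rfl⟩ := Finset.mem_image.1 hf
      rw [Groth.Agent.GModLib.rTransInv_hom_iff e e' i]
      intro h
      obtain ⟨ψ, hψ⟩ := Groth.Agent.GModLib.exists_eq_pnt e (h ≫ i)
      rw [← hψ, Groth.Agent.GModLib.rTransInv_pt_iff,
        show Groth.Agent.GModLib.fnC e (E.symm (c j)) = c j from E.apply_symm_apply _]
      refine Groth.Agent.GModLib.ext_points (k := k) fun φ => ?_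
      rw [Groth.Agent.GModLib.apply_act, show (Algebra.ofId k k).comp ψ = ψ from AlgHom.ext fun x => rfl]
      show (WithConv.toConv φ * WithConv.toConv ψ).ofConv (c j) = _
      rw [hc, hc, Groth.Agent.GModLib.pnt_mul, map_mul, LinearEquiv.mul_apply, (hv _).2 ⟨h, hψ.symm⟩]
    · obtain ⟨φ, rfl⟩ := Groth.Agent.GModLib.exists_eq_pnt e g
      obtain ⟨φ', rfl⟩ := Groth.Agent.GModLib.exists_eq_pnt e g'
      have heq : ρ.ρ k (Groth.Agent.GModLib.pnt e φ) ((1 : k) ⊗ₜ[k] v) =
          ρ.ρ k (Groth.Agent.GModLib.pnt e φ') ((1 : k) ⊗ₜ[k] v) := by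
        apply (TensorProduct.lid k V).injective
        apply b.repr.injective
        ext j
        have h1 := (hval _ _ _).1 (hgg (E.symm (c j)) (Finset.mem_image_of_mem _ (Finset.mem_univ j)))
        rw [Groth.Agent.GModLib.val_pnt, Groth.Agent.GModLib.val_pnt,
          show Groth.Agent.GModLib.fnC e (E.symm (c j)) = c j from E.apply_symm_apply _, hc, hc] at h1
        exact h1
      obtain ⟨h, hh⟩ := (hv ((Groth.Agent.GModLib.pnt e φ)⁻¹ * Groth.Agent.GModLib.pnt e φ')).1 (by
        rw [map_mul, LinearEquiv.mul_apply, ← heq, ← LinearEquiv.mul_apply, ← map_mul, inv_mul_cancel, map_one]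
        rfl)
      exact ⟨h, by rw [hh, mul_inv_cancel_left]⟩
  tfae_have 3 → 1 := by
    rintro ⟨s, hs, hsep⟩ g hg
    obtain ⟨ψ, rfl⟩ := Groth.Agent.GModLib.exists_eq_pnt e g
    obtain ⟨h, hh⟩ := hsep 1 (Groth.Agent.GModLib.pnt e ψ) fun f hf => by
      rw [hval, ← Groth.Agent.GModLib.pnt_one e, Groth.Agent.GModLib.val_pnt, Groth.Agent.GModLib.val_pnt]
      conv_lhs => rw [← (Groth.Agent.GModLib.rTransInv_pt_iff e ψ f).1 (hg f (hs f hf))]
      rw [Groth.Agent.GModLib.apply_act, show (Algebra.ofId k k).comp ψ = ψ from AlgHom.ext fun x => rfl]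
      show ((1 : WithConv (C →ₐ[k] k)) * WithConv.toConv ψ) _ = _
      rw [_root_.one_mul]
    exact ⟨h, by rw [hh, _root_.one_mul]⟩
  tfae_finish

end Groth.Agent.S11188
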