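import Groth.Statements.S3788
import Groth.Agent.SGA6Ext.PullExt
import Groth.Agent.SGA6Ext.Model
import Groth.Agent.DCohLocus.FreeLocus
import Groth.Agent.Nagata.Bundles

set_option autoImplicit false
set_option backward.isDefEq.respectTransparency false
set_option backward.isDefEq.respectTransparency.types false
universe v u
open CategoryTheory CategoryTheory.Limits AlgebraicGeometry
attribute [local instance] HasDerivedCategory.standard
open KRR

namespace Groth.Agent.S3788

/-- The relation satisfied by the tautological class: let X be a connected Noetherian scheme, E finite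
locally free of rank r + 1, and (π : P ⟶ X, O(1), q) its projective bundle P(E) (universal property
for invertible quotients of pull-backs of E), P connected Noetherian. With models of K(X), K(P), g =
π^K, e = [E] and ℓ = [O(1)]: Σ_{i=0}^{r+1} (-1)^i π^K(λ^i e) ℓ^{r+1-i} = 0 in K(P). -/
theorem result (X P : Scheme.{u}) [IsNoetherian X] [ConnectedSpace ↥X] [IsNoetherian P] [ConnectedSpace ↥P]
    (r : ℕ) (E : X.Modules) (hE : FlatMod.IsFinLocFreeOfRank (r + 1) E)
    (π : P ⟶ X) (O1 : P.Modules) (q : (Scheme.Modules.pullback π).obj E ⟶ O1) (hPB : KRR.IsProjBundle π E O1 q)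
    (KX : Type v) [CommRing KX] [LambdaRing.LambdaOps KX] (PX : LambdaRing.PosStructure KX) (φX : SGA6.Kvb X →+ KX) (hKX : KRR.IsModel X KX PX φX)
    (KP : Type v) [CommRing KP] [LambdaRing.LambdaOps KP] (PP : LambdaRing.PosStructure KP) (φP : SGA6.Kvb P →+ KP) (hKP : KRR.IsModel P KP PP φP)
    (g : KX →+ KP) (hg : KRR.IsPull π φX φP g) :
    ∑ i ∈ Finset.range (r + 2), (-1 : KP) ^ i * g (LambdaRing.LambdaOps.lam i (φX (KRR.cl X E))) * φP (KRR.cl P O1) ^ (r + 1 - i) = 0 := by
  classical
  haveI := hPB.epi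
  have hE' := SGA6Ext.finLocFree_of_rank hE
  have hO := SGA6Ext.finLocFree_of_rank hPB.invertible
  let E' := (Scheme.Modules.pullback π).obj E
  have hπE : FlatMod.IsFinLocFree E' := SGA6Ext.isFinLocFree_pullback π hE'
  have hπEr : FlatMod.IsFinLocFreeOfRank (r + 1) E' := Nagata.isFinLocFreeOfRank_pullback π hE
  have hK : FlatMod.IsFinLocFree (kernel q) := DCohLocus.isFinLocFree_kernel q hπE hO
  have hS : (ShortComplex.mk (kernel.ι q) q (kernel.condition q)).ShortExact :=
    { exact := ShortComplex.exact_kernel q }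
  have hrk : SGA6Ext.rank (kernel q) = r := by
    have := SGA6Ext.rank_middle hS hK hO
    rw [show (ShortComplex.mk (kernel.ι q) q (kernel.condition q)).X₂ = E' from rfl,
      SGA6Ext.rank_of hπEr, show (ShortComplex.mk (kernel.ι q) q (kernel.condition q)).X₁ = kernel q from rfl,
      show (ShortComplex.mk (kernel.ι q) q (kernel.condition q)).X₃ = O1 from rfl,
      SGA6Ext.rank_of hPB.invertible] at this
    omega
  have hKr : FlatMod.IsFinLocFreeOfRank r (kernel q) := hrk ▸ SGA6Ext.isRank hK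
  have hadd : φP (KRR.cl P E') = φP (KRR.cl P (kernel q)) + φP (KRR.cl P O1) := by
    rw [← map_add]
    exact congrArg φP (K0Res.clSub_add (fun M : P.Modules => FlatMod.IsFinLocFree M) hS hK hπE hO)
  have hg' : ∀ i, g (LambdaRing.LambdaOps.lam i (φX (KRR.cl X E))) =
      LambdaRing.LambdaOps.lam i (φP (KRR.cl P E')) := fun i => by
    rw [hKX.map_lam i E _ hE' (SGA6Ext.isFinLocFree_extSh E i hE') (SGA6Ext.isExtPow_extSh E i hE'),
      hg _ (SGA6Ext.isFinLocFree_extSh E i hE'),
      hKP.map_lam i E' _ hπE (SGA6Ext.isFinLocFree_extSh E' i hπE) (SGA6Ext.isExtPow_extSh E' i hπE)]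
    refine congrArg φP ?_
    obtain ⟨j⟩ := SGA6Ext.exists_pullExt π i hE'
    exact SGA6Ext.cls_iso j (SGA6Ext.isFinLocFree_pullback π (SGA6Ext.isFinLocFree_extSh E i hE'))
  let k := φP (KRR.cl P (kernel q))
  let l := φP (KRR.cl P O1)
  have hl2 : ∀ i, 2 ≤ i → LambdaRing.LambdaOps.lam i l = 0 := fun i hi =>
    PP.lam_eq_zero l ((hKP.mem_pos_iff l).2 ⟨1, O1, le_rfl, hPB.invertible, rfl⟩) i (by
      rw [hKP.aug_cl 1 O1 hPB.invertible]; exact_mod_cast hi)
  have hk0 : LambdaRing.LambdaOps.lam (r + 1) k = 0 := by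
    rcases Nat.eq_zero_or_pos r with h0 | h0
    · subst h0
      rw [LambdaRing.LambdaOps.lam_one]
      have hz := SGA6Ext.isZero_of_rank_zero hKr
      have h1 : (ShortComplex.mk (0 : kernel q ⟶ kernel q) (0 : kernel q ⟶ kernel q) zero_comp).ShortExact :=
        { exact := ShortComplex.exact_of_isZero_X₂ _ hz
          mono_f := ⟨fun _ _ _ => hz.eq_of_tgt _ _⟩
          epi_g := ⟨fun _ _ _ => hz.eq_of_src _ _⟩ }
      exact (congrArg φP (left_eq_add.1 (K0Res.clSub_add (fun M : P.Modules => FlatMod.IsFinLocFree M) h1 hK hK hK))).trans (map_zero φP)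
    · exact PP.lam_eq_zero k ((hKP.mem_pos_iff k).2 ⟨r, _, h0, hKr, rfl⟩) (r + 1) (by
        rw [hKP.aug_cl r _ hKr]; exact_mod_cast Nat.lt_succ_self r)
  have hsucc : ∀ i, LambdaRing.LambdaOps.lam (i + 1) (k + l) =
      LambdaRing.LambdaOps.lam (i + 1) k + LambdaRing.LambdaOps.lam i k * l := fun i => by
    rw [LambdaRing.LambdaOps.lam_add, Finset.sum_range_succ, Finset.sum_range_succ, Nat.sub_self,
      LambdaRing.LambdaOps.lam_zero, Nat.add_sub_cancel_left, LambdaRing.LambdaOps.lam_one, mul_one]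
    rw [Finset.sum_eq_zero fun j hj => ?_]
    · ring
    · rw [Finset.mem_range] at hj
      rw [hl2 (i + 1 - j) (by omega), mul_zero]
  simp only [hg', hadd]
  show ∑ i ∈ Finset.range (r + 2), (-1 : KP) ^ i * LambdaRing.LambdaOps.lam i (k + l) * l ^ (r + 1 - i) = 0
  have hpart : ∀ m, m ≤ r + 1 →
      ∑ i ∈ Finset.range (m + 1), (-1 : KP) ^ i * LambdaRing.LambdaOps.lam i (k + l) * l ^ (r + 1 - i) =
        (-1 : KP) ^ m * LambdaRing.LambdaOps.lam m k * l ^ (r + 1 - m) := by
    intro m
    induction m with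
    | zero => intro _; simp [LambdaRing.LambdaOps.lam_zero]
    | succ m ih =>
      intro hm
      rw [Finset.sum_range_succ, ih (by omega), hsucc, show r + 1 - m = (r + 1 - (m + 1)) + 1 by omega, pow_succ,
        pow_succ]
      ring
  rw [hpart (r + 1) le_rfl, hk0, mul_zero, zero_mul]

end Groth.Agent.S3788
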