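import Groth.Statements.S3792
import Groth.Agent.KRRLam.Basic

set_option autoImplicit false
universe v u
open CategoryTheory CategoryTheory.Limits AlgebraicGeometry
attribute [local instance] HasDerivedCategory.standard
open KRR

namespace Groth.Agent.S3792

/-- Let K be a λ-ring with positive structure having the splitting property, e a positive element and j
≥ 1. Then ψ^j(λ_{-1}(e)) = λ_{-1}(e) · θ^j(e), where λ_{-1}(e) = Σ_{i ≤ ε(e)} (-1)^i λ^i(e), ψ^j is
the Adams operation and θ^j(e) is Bott's cannibalistic class (the universal polynomial in the λ^i(e)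
which is Π (1 + u_i + ⋯ + u_i^{j-1}) on a splitting e = Σ u_i). -/
theorem result (K : Type v) [CommRing K] [LambdaRing.LambdaOps K] (P : LambdaRing.PosStructure K) (hK : LambdaRing.HasSplitting K P) (e : K) (he : e ∈ P.pos) (j : ℕ) (hj : 1 ≤ j) :
    LambdaRing.adams P j (KRR.lamAlt P e) = KRR.lamAlt P e * KRR.bott P j e := by
  obtain ⟨L, g, hg, hL, s, hs1, hs2, hcard⟩ := Groth.Agent.Lambda.exists_split hK he
  refine hg.injective ?_
  have hm : (P.aug e).toNat = s.toList.length := by
    rw [Multiset.length_toList, ← hcard, Int.toNat_natCast]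
  have hs : s = (Finset.univ : Finset (Fin s.toList.length)).val.map s.toList.get := by
    rw [Fin.univ_val_map, List.ofFn_get, Multiset.coe_toList]
  have hlam : ∀ i, g (LambdaRing.LambdaOps.lam i e) = s.esymm i := fun i => by
    rw [hg.isLambdaHom, ← hs2, Groth.Agent.Lambda.lam_sum_lines hs1]
  have hbott : g (KRR.bott P j e) = (s.map fun v => ∑ k ∈ Finset.range j, v ^ k).prod := by
    rw [KRR.bott, hm, Groth.Agent.Lambda.map_aeval_int]
    let ev : MvPolynomial (Fin s.toList.length) ℤ →ₐ[ℤ] L.carrier := MvPolynomial.aeval s.toList.get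
    have h : (fun i : Fin s.toList.length => g (LambdaRing.LambdaOps.lam (i.1 + 1) e)) =
        fun i => ev (MvPolynomial.esymm (Fin s.toList.length) ℤ (i.1 + 1)) := funext fun i => by
      rw [hlam]
      change _ = MvPolynomial.aeval s.toList.get _
      rw [MvPolynomial.aeval_esymm_eq_multiset_esymm, ← hs]
    rw [h, ← MvPolynomial.comp_aeval_apply]
    have key : MvPolynomial.aeval (fun i : Fin s.toList.length =>
        MvPolynomial.esymm (Fin s.toList.length) ℤ (i.1 + 1)) (KRR.bottPoly j s.toList.length) =
          KRR.bottSym j s.toList.length := by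
      rw [KRR.bottPoly, ← MvPolynomial.esymmAlgHom_apply]
      exact congrArg Subtype.val (AlgEquiv.apply_symm_apply
        (MvPolynomial.esymmAlgEquiv (Fin s.toList.length) ℤ (Fintype.card_fin _)) _)
    rw [key, KRR.bottSym, map_prod]
    conv_rhs => rw [hs, Multiset.map_map]
    exact Finset.prod_congr rfl fun i _ => by simp [ev]
  have hlamAlt : g (KRR.lamAlt P e) = (s.map fun v => 1 - v).prod := by
    rw [KRR.lamAlt, map_sum, hm, Multiset.length_toList,
      ← Groth.Agent.Lambda.sum_neg_one_pow_esymm]
    exact Finset.sum_congr rfl fun i _ => by rw [map_mul, map_pow, map_neg, map_one, hlam]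
  let ψ := Groth.Agent.Lambda.adamsHom j hj (Groth.Agent.Lambda.adamsOp_one_pos L.posStr hj)
    (Groth.Agent.Lambda.adamsOp_mul_pos hL hj)
  rw [Groth.Agent.Lambda.adams_eq P hj, Groth.Agent.Lambda.map_adamsOp hg.isLambdaHom, map_mul,
    hbott, hlamAlt]
  change ψ _ = _
  rw [map_multiset_prod, Multiset.map_map, ← Multiset.prod_map_mul]
  refine congrArg Multiset.prod (Multiset.map_congr rfl fun v hv => ?_)
  rw [Function.comp_apply, map_sub, map_one,
    show ψ v = v ^ j from Groth.Agent.Lambda.adamsOp_line (hs1 v hv) hj, mul_neg_geom_sum]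

end Groth.Agent.S3792
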