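import Groth.Statements.S3744
import Groth.Agent.GammaDim.Tower
-- import your own Groth.Agent.* helpers here

set_option autoImplicit false
set_option linter.style.haveILetI false
set_option backward.isDefEq.respectTransparency false
set_option backward.isDefEq.respectTransparency.types false
universe v u
open CategoryTheory CategoryTheory.Limits AlgebraicGeometry
attribute [local instance] HasDerivedCategory.standard
open KRR

namespace Groth.Agent.S3744

open Groth.Agent

/-- Let X be a connected Noetherian scheme with an ample invertible module, of dimension at most d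
(Krull dimension of the underlying topological space), and (K, P, φ) a model of the λ-ring K(X).
Then the γ-filtration of K(X) satisfies F^{d+1} K(X) = 0. -/
theorem result (X : Scheme.{u}) [IsNoetherian X] [ConnectedSpace ↥X]
    (L : X.Modules) (hL : CohB1.IsAmple L) (d : ℕ) (hd : topologicalKrullDim ↥X ≤ (d : WithBot ℕ∞))
    (K : Type v) [CommRing K] [LambdaRing.LambdaOps K] (P : LambdaRing.PosStructure K) (φ : SGA6.Kvb X →+ K) (hK : KRR.IsModel X K P φ) :
    LambdaRing.gammaFiltration P (d + 1) = ⊥ := by
  letI := SGA6Ext.kvbRing X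
  letI := SGA6Ext.kvbLam X
  let Ψ := KSplit.ringOf φ hK.map_one hK.map_mul
  rw [AddSubgroup.eq_bot_iff_forall]
  intro x hx
  obtain ⟨y, rfl⟩ := hK.bijective.2 x
  have hy : y ∈ KSplit.gFil X (d + 1) :=
    (KSplit.mem_gammaFiltration_iff (PA := SGA6Ext.kvbPos X) (PB := P) Ψ hK.bijective
      (fun i z => KSplit.map_lamK hK.map_one hK.map_mul hK.map_lam i z)
      (fun z => DFunLike.congr_fun (SGA6Ext.hom_ext_cls (f := P.aug.toAddMonoidHom.comp φ)
        (g := SGA6Ext.rankHom X) fun A hA =>
          (hK.aug_cl _ A (SGA6Ext.isRank (X := X) hA)).trans (SGA6Ext.rankHom_cls hA).symm) z)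
      (d + 1) y).1 hx
  rw [GammaDim.gFil_eq_zero ⟨inferInstance, inferInstance, ⟨L, hL⟩, GammaDim.dimLE_of_krull hd⟩ hy, map_zero]

end Groth.Agent.S3744
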