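import Groth.Statements.S3776
import Groth.Agent.K0ResLF.PushGamma
-- import your own Groth.Agent.* helpers here

set_option autoImplicit false
set_option backward.isDefEq.respectTransparency false
set_option linter.style.haveILetI false
set_option maxHeartbeats 1000000
universe v u
open CategoryTheory CategoryTheory.Limits AlgebraicGeometry
attribute [local instance] HasDerivedCategory.standard
open KRR

namespace Groth.Agent.S3776

/-- For the trivial bundle of rank n+1: let Y be a connected Noetherian scheme and p : P^n_Y ⟶ Y. With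
models and p_K the push-forward: p_K(F^k K(P^n_Y)) ⊆ F^{k-n} K(Y) for all k (γ-filtrations; F^m = K
for m ≤ 0). No tensoring with ℚ is needed here. -/
theorem result (n : ℕ) (Y : Scheme.{u}) [IsNoetherian Y] [ConnectedSpace ↥Y]
    (KP : Type v) [CommRing KP] [LambdaRing.LambdaOps KP] (PP : LambdaRing.PosStructure KP) (φP : SGA6.Kvb (KRR.PY n Y) →+ KP) (hKP : KRR.IsModel (KRR.PY n Y) KP PP φP)
    (KY : Type v) [CommRing KY] [LambdaRing.LambdaOps KY] (PY : LambdaRing.PosStructure KY) (φY : SGA6.Kvb Y →+ KY) (hKY : KRR.IsModel Y KY PY φY)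
    (g : KP →+ KY) (hg : KRR.IsPushPr n Y φP φY g) (k : ℕ) (x : KP) (hx : x ∈ LambdaRing.gammaFiltration PP k) :
    g x ∈ LambdaRing.gammaFiltration PY (k - n) := by
  have hfree : FlatMod.IsFinLocFreeOfRank (n + 1) (FlatMod.freeMod Y (n + 1)) := fun _ =>
    ⟨⊤, trivial, ⟨(Scheme.Modules.restrictFunctorIsoPullback (⊤ : Y.Opens).ι).app _ ≪≫
      Groth.Agent.DerPerf.pullFreeIso (⊤ : Y.Opens).ι (n + 1)⟩⟩
  let B : PBReg.Bun n Y := ⟨KRR.PY n Y, KRR.pr n Y, FlatMod.freeMod Y (n + 1), hfree, Twist.twistOver n Y 1,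
    PBundle.q0 n Y, PBundle.isProjBundle_free (n := n) (S := Y)⟩
  have hp : IsProper B.π := by
    show IsProper (CohB1.ProjSpaceOver.toBase n Y)
    haveI := ProjMor.isProper_toSpec n (ULift.{u} ℤ)
    exact MorphismProperty.pullback_snd _ _ inferInstance
  obtain ⟨hN, hC⟩ : IsNoetherian B.P ∧ ConnectedSpace ↥B.P := KSplit.stable_noeth B hp ⟨‹_›, ‹_›⟩
  haveI : IsNoetherian (KRR.PY n Y) := hN
  haveI : ConnectedSpace ↥(KRR.PY n Y) := hC
  let eY := AddEquiv.ofBijective φY hKY.bijective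
  let q : KY →+ KP := (φP.comp (SGA6Ext.pullK (KRR.pr n Y))).comp eY.symm.toAddMonoidHom
  have hqφ : ∀ a, q (φY a) = φP (SGA6Ext.pullK (KRR.pr n Y) a) := fun a => by
    show φP (SGA6Ext.pullK _ (eY.symm (eY a))) = _
    rw [AddEquiv.symm_apply_apply]
  have hq : KRR.IsPull (KRR.pr n Y) φY φP q := fun E hE => by
    rw [hqφ]; exact congrArg φP (SGA6Ext.pullK_cls _ hE)
  obtain ⟨y, rfl⟩ := hKP.bijective.2 x
  refine K0ResLF.gFil_induction B k (Mot := fun y => g (φP y) ∈ LambdaRing.gammaFiltration PY (k - n))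
    (by simp) (fun a b ha hb => by rw [map_add, map_add]; exact add_mem ha hb) (fun i a z hi ha => ?_)
    ((KSplit.mem_model_iff hKP k y).1 hx)
  have hm : φP (SGA6Ext.mulK (KRR.PY n Y) (SGA6Ext.pullK (KRR.pr n Y) a) z) =
      φP (SGA6Ext.pullK (KRR.pr n Y) a) * φP z :=
    letI := SGA6Ext.kvbRing (KRR.PY n Y)
    map_mul (KSplit.ringOf φP hKP.map_one hKP.map_mul) (SGA6Ext.pullK (KRR.pr n Y) a) z
  show g (φP (SGA6Ext.mulK (KRR.PY n Y) (SGA6Ext.pullK (KRR.pr n Y) a) z)) ∈ _
  rw [hm, mul_comm, ← hqφ, PnReg.push_mul_pull (fun E F hE hF => hKP.map_mul E F hE hF)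
    (fun E F hE hF => hKY.map_mul E F hE hF) hKP.bijective.2 hKY.bijective.2 hg hq, mul_comm]
  exact Lambda.gammaFiltration_anti (m := k - n) (n := k - i + 0) (by omega)
    (Lambda.gammaFiltration_mul ((KSplit.mem_model_iff hKY _ a).2 ha) (Lambda.gammaFiltration_zero _))

end Groth.Agent.S3776
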