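import Groth.Statements.S11309
import Groth.Agent.BlowExcBundle.Main
import Groth.Agent.CycPB.ProjExist
import Groth.Agent.KoszBlow.Scheme
import Groth.Agent.Conormal.Maps
import Groth.Agent.ThickSys.Sys
import Groth.Agent.PBundle.Basic
import Groth.Agent.SymAlgGen.Basic
import Groth.Agent.FittLib.Comap
import Groth.Agent.S3558
import Groth.Agent.S8855
-- import your own Groth.Agent.* helpers here

set_option autoImplicit false
universe u
open CategoryTheory CategoryTheory.Limits AlgebraicGeometry TopologicalSpace Opposite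
open scoped HomogeneousIdeal
noncomputable section
open NonsingVar
set_option linter.style.haveILetI false
set_option backward.isDefEq.respectTransparency false
set_option backward.isDefEq.respectTransparency.types false

namespace Groth.Agent.S11309

open Groth.Agent

/-- A regular immersion which is closed is a regular closed immersion. -/
theorem isRegularClosedImmersion {Y X : Scheme.{u}} (i : Y ⟶ X) [IsClosedImmersion i]
    (h : RegImm.IsRegularImmersion RegImm.Kind.regular i) : Mor2.IsRegularClosedImmersion i :=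
  ⟨inferInstance, fun z => by
    obtain ⟨U, hz, -, rs, hrs, hker⟩ := h.2 z
    exact ⟨U.1, U.2, hz, rs, hrs, (Scheme.Hom.ker_apply i U).trans hker⟩⟩

/-- The exceptional divisor is the pull back of the centre. -/
theorem isPullback_exceptional {X Y Xt : Scheme.{u}} (i : Y ⟶ X) [IsClosedImmersion i] (π : Xt ⟶ X)
    (q : (BlowUp.exceptional π i.ker).subscheme ⟶ Y)
    (hq : q ≫ i = (BlowUp.exceptional π i.ker).subschemeι ≫ π) :
    IsPullback (BlowUp.exceptional π i.ker).subschemeι q π i := by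
  let j := (BlowUp.exceptional π i.ker).subschemeι
  let f := pullback.fst π i
  have hk : f.ker = j.ker :=
    (ThickSys.ker_of_isPullback (IsPullback.of_hasPullback π i)).trans
      (Scheme.IdealSheafData.ker_subschemeι _).symm
  haveI := IsClosedImmersion.isIso_lift f j hk
  refine IsPullback.of_iso_pullback ⟨hq.symm⟩ (asIso (IsClosedImmersion.lift f j hk.le))
    (IsClosedImmersion.lift_fac _ _ _) ?_
  rw [← cancel_mono i, Category.assoc, ← pullback.condition, ← Category.assoc, asIso_hom,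
    IsClosedImmersion.lift_fac]
  exact hq.symm

@[reassoc]
theorem restrict_homOfLE {P P' : Scheme.{u}} (f : P' ⟶ P) {V W : P.Opens} (h : V ≤ W) :
    P'.homOfLE (f.preimage_mono h) ≫ (f ∣_ W) = (f ∣_ V) ≫ P.homOfLE h := by
  rw [← cancel_mono W.ι, Category.assoc, morphismRestrict_ι, Scheme.homOfLE_ι_assoc, Category.assoc,
    Scheme.homOfLE_ι, morphismRestrict_ι]

/-- Charts of a relative Proj transport along isomorphisms. -/
theorem transport {S P P' : Scheme.{u}} {𝒮 : RelProj.QCGrAlg S} {p : P ⟶ S}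
    {chart : ∀ (U : S.Opens) (hU : IsAffineOpen U),
      (((p ⁻¹ᵁ U : P.Opens) : Scheme.{u}) ≅ Proj (𝒮.deg U hU))}
    (hP : RelProj.IsRelProj 𝒮 p chart) (h : P' ≅ P) :
    ∃ chart' : ∀ (U : S.Opens) (hU : IsAffineOpen U),
      ((((h.hom ≫ p) ⁻¹ᵁ U : P'.Opens) : Scheme.{u}) ≅ Proj (𝒮.deg U hU)),
      RelProj.IsRelProj 𝒮 (h.hom ≫ p) chart' := by
  refine ⟨fun U hU => asIso (h.hom ∣_ (p ⁻¹ᵁ U)) ≪≫ chart U hU, ?_, ?_⟩
  · intro U hU
    rw [Iso.trans_hom, asIso_hom, Category.assoc, hP.chart_over U hU, ← Category.assoc, morphismRestrict_ι,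
      Category.assoc]
    rfl
  · intro U hU r
    have hc := hP.chart_res U hU r
    have hle : p ⁻¹ᵁ S.basicOpen r ≤ p ⁻¹ᵁ U := p.preimage_mono (S.basicOpen_le r)
    show P'.homOfLE (h.hom.preimage_mono hle) ≫ (h.hom ∣_ (p ⁻¹ᵁ U)) ≫ (chart U hU).hom =
      ((h.hom ∣_ (p ⁻¹ᵁ S.basicOpen r)) ≫ (chart (S.basicOpen r) (hU.basicOpen r)).hom) ≫ _
    rw [Category.assoc, ← hc]
    exact restrict_homOfLE_assoc h.hom hle _

/-- The rank zero case: everything is empty. -/
theorem rank_zero {X Y Xt E : Scheme.{u}} {i : Y ⟶ X} {π : Xt ⟶ X} {j : E ⟶ Xt} {q : E ⟶ Y}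
    (hw : q ≫ i = j ≫ π) (hπ : BlowUp.IsBlowUp π i.ker)
    (hdata : ∀ y : Y, ∃ (U : X.affineOpens) (a : Fin 0 → Γ(X, U.1)), i y ∈ U.1 ∧
      i.ker.ideal U = Ideal.span (Set.range a))
    {M : Y.Modules} (hM : ∀ (V : Y.Opens) (x : Γ(M, V)), x = 0) {𝒮 : RelProj.QCGrAlg Y} {jM : M ⟶ 𝒮.toModule}
    (h𝒮 : RelProj.IsGrSymAlg M 𝒮 jM) [M.IsQuasicoherent] :
    ∃ chart : ∀ (U : Y.Opens) (hU : IsAffineOpen U),
        (((q ⁻¹ᵁ U : E.Opens) : Scheme.{u}) ≅ Proj (𝒮.deg U hU)),
      RelProj.IsRelProj 𝒮 q chart := by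
  haveI hE : IsEmpty E := ⟨fun z => by
    obtain ⟨U, a, hU, hI⟩ := hdata (q z)
    have hzU : π (j z) ∈ U.1 := by
      rw [← Scheme.Hom.comp_apply, ← hw]
      exact hU
    obtain ⟨V, hzV, e, he, heI⟩ := hπ.1 (j z)
    obtain ⟨W', hWle, hzW⟩ := V.2.exists_basicOpen_le (⟨j z, hzU⟩ : (π ⁻¹ᵁ U.1 : Xt.Opens)) hzV
    have hW := V.2.basicOpen W'
    have h1 : (i.ker.comap π).ideal ⟨_, hW⟩ = ⊥ := by
      rw [FittLib.comap_ideal π i.ker U.2 hW hWle, hI, Set.range_eq_empty, Ideal.span_empty, Ideal.map_bot]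
    erw [← Scheme.IdealSheafData.map_ideal_basicOpen (i.ker.comap π) V W'] at h1
    rw [heI, Ideal.map_span, Set.image_singleton,
      Ideal.span_singleton_eq_bot] at h1
    haveI := V.2.isLocalization_basicOpen W'
    obtain ⟨⟨_, n, rfl⟩, hn⟩ := (IsLocalization.map_eq_zero_iff (Submonoid.powers W') _ e).1 h1
    have hn' : W' ^ n = 0 := (mem_nonZeroDivisors_iff.1 he).2 _ hn
    have := (Xt.mem_basicOpen W' (j z) hzV).1 hzW
    have h2 := this.pow n
    rw [← map_pow, hn', map_zero] at h2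
    exact not_isUnit_zero h2⟩
  have hproj : ∀ (U : Y.Opens) (hU : IsAffineOpen U), IsEmpty (Proj (𝒮.deg U hU)) := fun U hU => ⟨fun x => by
    refine x.not_irrelevant_le fun f hf => ?_
    have h0 : f ∈ 𝒮.deg U hU 0 := by
      have h := SymAlgGen.gen_eq_top h𝒮.1 hU
      have hle : SymAlgGen.gen jM U ≤ SetLike.GradeZero.subring (𝒮.deg U hU) := by
        refine Subring.closure_le.2 ?_
        rintro _ (⟨r, rfl⟩ | ⟨m, rfl⟩)
        · exact 𝒮.str_mem U hU r
        · show SymAlgGen.jsec jM U m ∈ 𝒮.deg U hU 0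
          rw [hM U m, SymAlgGen.jsec, map_zero]
          exact zero_mem _
      exact hle (h.ge (Subring.mem_top f))
    have hf0 : f = 0 := by
      have h1 := (HomogeneousIdeal.mem_irrelevant_iff (𝒮.deg U hU) f).1 hf
      rw [GradedRing.proj_apply, DirectSum.decompose_of_mem_same _ h0] at h1
      exact h1
    rw [hf0]
    exact zero_mem _⟩
  refine ⟨fun U hU => haveI := hproj U hU; haveI : IsEmpty (q ⁻¹ᵁ U : E.Opens).toScheme := ⟨fun z => hE.false z.1⟩;
    isInitialOfIsEmpty.uniqueUpToIso isInitialOfIsEmpty, ?_, ?_⟩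
  · intro U hU
    haveI : IsEmpty (q ⁻¹ᵁ U : E.Opens).toScheme := ⟨fun z => hE.false z.1⟩
    exact isInitialOfIsEmpty.hom_ext _ _
  · intro U hU r
    haveI : IsEmpty (q ⁻¹ᵁ Y.basicOpen r : E.Opens).toScheme := ⟨fun z => hE.false z.1⟩
    exact isInitialOfIsEmpty.hom_ext _ _

/-- Let k be an algebraically closed field, X a nonsingular variety over k (integral, separated and of
finite type over k, all local rings regular), i : Y → X a nonsingular closed subvariety (an integral
closed subscheme with regular local rings) with ideal sheaf I, and π : X~ → X a blowing-up of X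
along I (universal property). Let Y′ be the closed subscheme of X~ defined by the inverse image
ideal I·O_{X~} and q : Y′ → Y the induced projection (the unique morphism with q followed by i equal
to the inclusion of Y′ followed by π). Let S be a graded symmetric algebra of the conormal sheaf
I/I² of Y in X (a quasi-coherent O_Y-module). Then Y′ together with q is a relative Proj of S over
Y, that is, Y′ is isomorphic over Y to the projective space bundle P(I/I²): there is a family of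
charts over the affine opens of Y exhibiting q as Proj of S. -/
theorem result (k : Type u) [Field k] [IsAlgClosed k]
    (X : Scheme.{u}) [X.Over (Spec (CommRingCat.of k))] [IsIntegral X] [IsSeparated (X ↘ (Spec (CommRingCat.of k)))]
    [LocallyOfFiniteType (X ↘ (Spec (CommRingCat.of k)))] [QuasiCompact (X ↘ (Spec (CommRingCat.of k)))]
    (hreg : ∀ x : ↥X, IsRegularLocalRing ↑(X.presheaf.stalk x))
    (Y : Scheme.{u}) (i : Y ⟶ X) [IsClosedImmersion i] [IsIntegral Y]
    (hregY : ∀ y : ↥Y, IsRegularLocalRing ↑(Y.presheaf.stalk y))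
    (Xt : Scheme.{u}) (π : Xt ⟶ X) (hπ : BlowUp.IsBlowUp π i.ker)
    (q : (BlowUp.exceptional π i.ker).subscheme ⟶ Y)
    (hq : q ≫ i = (BlowUp.exceptional π i.ker).subschemeι ≫ π)
    (hE : Coh.IsQCoh (Omega.conormal i))
    (𝒮 : RelProj.QCGrAlg Y) (j : Omega.conormal i ⟶ 𝒮.toModule)
    (h𝒮 : RelProj.IsGrSymAlg (Omega.conormal i) 𝒮 j) :
    ∃ chart : ∀ (U : Y.Opens) (hU : IsAffineOpen U),
        (((q ⁻¹ᵁ U : ((BlowUp.exceptional π i.ker).subscheme).Opens) : Scheme.{u}) ≅ Proj (𝒮.deg U hU)),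
      RelProj.IsRelProj 𝒮 q chart := by
  haveI : IsLocallyNoetherian (Spec (CommRingCat.of k)) := inferInstance
  haveI : IsLocallyNoetherian X := LocallyOfFiniteType.isLocallyNoetherian (X ↘ (Spec (CommRingCat.of k)))
  haveI : IsLocallyNoetherian Y := LocallyOfFiniteType.isLocallyNoetherian i
  have hreg' := isRegularClosedImmersion i (Groth.Agent.S8855.result i hreg hregY)
  have hloc := KoszBlow.exists_acyclic_of_regularImmersion hreg'
  choose U m a hyU ha hI using fun y : Y => hloc (i y)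
  choose s hs hfr using fun y => BlowExcBundle.exists_conormal_frame i (U y) (a y) (hI y)
    (BlowExcBundle.quasiRegular_of_acyclic (ha y))
  obtain ⟨y₀⟩ : Nonempty Y := inferInstance
  have hm : ∀ y, m y = m y₀ := fun y => by
    obtain ⟨x, hx, hx'⟩ := nonempty_preirreducible_inter (i ⁻¹ᵁ (U y).1).isOpen (i ⁻¹ᵁ (U y₀).1).isOpen
      ⟨y, hyU y⟩ ⟨y₀, hyU y₀⟩
    exact W7Strat.frame_card_unique (hfr y) (hfr y₀) hx hx'
  have hC : FlatMod.IsFinLocFreeOfRank (m y₀) (Omega.conormal i) :=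
    W7Strat.isFinLocFreeOfRank_of_frames fun y =>
      (hm y) ▸ ⟨i ⁻¹ᵁ (U y).1, _, hyU y, hfr y⟩
  have hsq := isPullback_exceptional i π q hq
  rcases hn : m y₀ with _ | r
  · rw [hn] at hC
    haveI : (Omega.conormal i).IsQuasicoherent := hE
    refine rank_zero hq hπ (fun y => ?_) (fun V x => ?_) h𝒮
    · obtain ⟨W, b, h1, -, h3⟩ := BlowExcBundle.exists_data i hC hloc y
      exact ⟨W, b, h1, h3⟩
    · refine TopCat.Presheaf.section_ext ⟨(Omega.conormal i).presheaf, (Omega.conormal i).isSheaf⟩ V x 0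
        fun y hy => ?_
      rw [map_zero]
      obtain ⟨W, b, hyW, hb, hbI⟩ := BlowExcBundle.exists_data i hC hloc y
      obtain ⟨t, -, ht⟩ := BlowExcBundle.exists_conormal_frame i W b hbI (BlowExcBundle.quasiRegular_of_acyclic hb)
      obtain ⟨c, hc⟩ := (ht y hyW).2 _
      simp only [Fin.sum_univ_zero] at hc
      exact hc.symm
  · rw [hn] at hC
    obtain ⟨φ, hφ, -⟩ := Conormal.existsUnique_conormalMap (BlowUp.exceptional π i.ker).subschemeι i π q
      hsq.w.symm
    have hY' := BlowExcBundle.isProjBundle_exceptional hsq hπ hC hloc hφ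
    obtain ⟨P, p, chart, hP⟩ := RelProjLib.exists_isRelProj 𝒮
    obtain ⟨O, lam, hO1⟩ := Groth.Agent.S8284.result 𝒮 p chart hP 1
    have hO1' := (RelTilde.isRelTwist_iff 𝒮 1 O lam).mp hO1
    haveI : (Omega.conormal i).IsQuasicoherent := hE
    have hO : PicF.IsInvertible O := RelTilde.isInvertible_of_isGenDegOne hO1' (SymAlg.isGenDegOne_sym h𝒮)
    obtain ⟨f, hf⟩ := SymAlg.exists_isFund h𝒮 hP hO1'
    have hf' : ∀ (U : Y.Opens) (hU : IsAffineOpen U) (e : Γ(Omega.conormal i, U))
        (y : ↥(RelProj.emb p chart U hU ⁻¹ᵁ (p ⁻¹ᵁ U))),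
        GrTwist.val (V := RelProj.emb p chart U hU ⁻¹ᵁ (p ⁻¹ᵁ U))
            ((lam U hU).app (p ⁻¹ᵁ U) ((f.app U) e)) y =
          algebraMap (𝒮.presheaf.obj (op U)) (GrTwist.Loc (𝒮.deg U hU) y.1)
            ((j.app U) e : 𝒮.presheaf.obj (op U)) := fun U hU e y =>
      (hf U hU e y).trans (Localization.mk_one_eq_algebraMap _)
    haveI := Groth.Agent.S5732.result (Omega.conormal i) hE 𝒮 j h𝒮 p chart hP O lam hO1 f hf'
    have hPB := CycPB.isProjBundle_of_cover (p := p) (O := O) (q :=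
      ((Scheme.Modules.pullbackPushforwardAdjunction p).homEquiv (Omega.conormal i) O).symm f) hO fun y => by
      obtain ⟨V, hV, hyV, ⟨b⟩⟩ := CycPB.exists_basis hC y
      obtain ⟨Φ, sq, h⟩ := CycPB.isProjBundle_chart hE h𝒮 hP hO hf' hV b
      exact ⟨_, _, hV.fromSpec, inferInstance, Φ, _, sq, by rw [hV.range_fromSpec]; exact hyV, h⟩
    obtain ⟨h, hg, -, -⟩ := PBundle.exists_iso hPB hY'
    subst hg
    exact transport hP h

end Groth.Agent.S11309
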