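import Groth.Statements.S9635
import Groth.Agent.GeomRedPull.Basic
import Mathlib.RingTheory.Etale.Field
import Mathlib.RingTheory.Unramified.Field
import Mathlib.Tactic.LinearCombination

set_option autoImplicit false
universe u
open CAlg

namespace Groth.Agent.S9635

open TensorProduct in
/-- Let k ⊆ k' be fields with k' separable algebraic over k, and A a k'-algebra. Then A is geometrically
reduced over k (K ⊗_k A reduced for all field extensions K/k) if and only if A is geometrically
reduced over k' (K ⊗_{k'} A reduced for all field extensions K/k'). Here the test fields K range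
over field extensions (of k, respectively of k') in the common universe of k and k'; this is
equivalent to the unrestricted notions, since an algebraic closure of the base field suffices as a
test. -/
theorem result {k k' A : Type u} [Field k] [Field k'] [Algebra k k'] [Algebra.IsSeparable k k'] [CommRing A] [Algebra k' A] [Algebra k A] [IsScalarTower k k' A] :
    (∀ (K : Type u) [Field K] [Algebra k K], IsReduced (K ⊗[k] A)) ↔
      ∀ (K : Type u) [Field K] [Algebra k' K], IsReduced (K ⊗[k'] A) := by
  classical
  constructor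
  · intro h K _ _
    letI : Algebra k K := ((algebraMap k' K).comp (algebraMap k k')).toAlgebra
    haveI : IsScalarTower k k' K := .of_algebraMap_eq' rfl
    haveI := h K
    let φL : k' →ₐ[k] K ⊗[k] A := (Algebra.TensorProduct.includeLeft : K →ₐ[k] K ⊗[k] A).comp (IsScalarTower.toAlgHom k k' K)
    let φR : k' →ₐ[k] K ⊗[k] A := (Algebra.TensorProduct.includeRight : A →ₐ[k] K ⊗[k] A).comp (IsScalarTower.toAlgHom k k' A)
    let J : Ideal (K ⊗[k] A) := Ideal.span (Set.range fun l : k' => φL l - φR l)
    let G : Ideal (K ⊗[k] A) :=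
      { carrier := {z | ∃ j ∈ J, (1 - j) * z = 0}
        add_mem' := fun {a b} ⟨j, hj, ha⟩ ⟨j', hj', hb⟩ =>
          ⟨j + j' - j * j', sub_mem (add_mem hj hj') (J.mul_mem_right _ hj), by linear_combination (1 - j') * ha + (1 - j) * hb⟩
        zero_mem' := ⟨0, zero_mem _, by rw [mul_zero]⟩
        smul_mem' := fun c a ⟨j, hj, ha⟩ => ⟨j, hj, by rw [smul_eq_mul]; linear_combination c * ha⟩ }
    have hJG : J ≤ G := by
      rw [Ideal.span_le]
      rintro _ ⟨l, rfl⟩
      set f := (minpoly k l).map (algebraMap k (K ⊗[k] A))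
      have hroot : ∀ φ : k' →ₐ[k] K ⊗[k] A, f.eval (φ l) = 0 := fun φ => by
        rw [Polynomial.eval_map, ← Polynomial.aeval_def, Polynomial.aeval_algHom_apply, minpoly.aeval, map_zero]
      have hunit : IsUnit (f.derivative.eval (φR l)) := by
        rw [Polynomial.derivative_map, Polynomial.eval_map, ← Polynomial.aeval_def, Polynomial.aeval_algHom_apply]
        exact (IsUnit.mk0 _ ((Algebra.IsSeparable.isSeparable k l).aeval_derivative_ne_zero (minpoly.aeval k l))).map φR
      obtain ⟨r, hr⟩ := Polynomial.binomExpansion f (φR l) (φL l - φR l)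
      rw [add_sub_cancel, hroot, hroot, zero_add] at hr
      obtain ⟨v, hv⟩ := hunit.exists_left_inv
      refine ⟨-(v * r * (φL l - φR l)), neg_mem (J.mul_mem_left _ (Ideal.subset_span ⟨l, rfl⟩)), ?_⟩
      linear_combination -v * hr - (φL l - φR l) * hv
    haveI : IsReduced ((K ⊗[k] A) ⧸ J) := by
      refine ⟨fun x hx => ?_⟩
      obtain ⟨z, rfl⟩ := Ideal.Quotient.mk_surjective x
      obtain ⟨n, hn⟩ := hx
      rw [← map_pow, Ideal.Quotient.eq_zero_iff_mem] at hn
      obtain ⟨j, hj, hjz⟩ := hJG hn
      have h0 : ((1 - j) * z) ^ (n + 1) = 0 := by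
        rw [show ((1 - j) * z) ^ (n + 1) = (1 - j) ^ n * ((1 - j) * z ^ n) * z by rw [mul_pow, pow_succ, pow_succ]; ring,
          hjz, mul_zero, zero_mul]
      have h1 := IsReduced.eq_zero _ ⟨n + 1, h0⟩
      rw [Ideal.Quotient.eq_zero_iff_mem, show z = j * z by linear_combination h1]
      exact J.mul_mem_right _ hj
    let π := Ideal.Quotient.mkₐ k J
    let fA : A →ₐ[k'] (K ⊗[k] A) ⧸ J :=
      { toRingHom := (π.comp Algebra.TensorProduct.includeRight).toRingHom
        commutes' := fun l => by
          show π ((1 : K) ⊗ₜ[k] algebraMap k' A l) = _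
          rw [IsScalarTower.algebraMap_apply k' K ((K ⊗[k] A) ⧸ J)]
          symm
          show Ideal.Quotient.mk J (φL l) = Ideal.Quotient.mk J (φR l)
          exact Ideal.Quotient.eq.mpr (Ideal.subset_span ⟨l, rfl⟩) }
    let Φ : K ⊗[k'] A →ₐ[k'] (K ⊗[k] A) ⧸ J :=
      Algebra.TensorProduct.lift (IsScalarTower.toAlgHom k' K _) fA (fun _ _ => Commute.all _ _)
    let f1 : A →ₐ[k] K ⊗[k'] A := (Algebra.TensorProduct.includeRight : A →ₐ[k'] K ⊗[k'] A).restrictScalars k
    let f0 : K →ₐ[k] K ⊗[k'] A := (Algebra.TensorProduct.includeLeft : K →ₐ[k'] K ⊗[k'] A).restrictScalars k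
    let Ψ : K ⊗[k] A →ₐ[k] K ⊗[k'] A := Algebra.TensorProduct.lift f0 f1 (fun _ _ => Commute.all _ _)
    have hJΨ : ∀ z ∈ J, Ψ z = 0 := by
      intro z hz
      refine (Ideal.span_le.mpr (?_ : _ ⊆ (RingHom.ker Ψ.toRingHom : Set (K ⊗[k] A))) : J ≤ _) hz
      rintro _ ⟨l, rfl⟩
      show Ψ (φL l - φR l) = 0
      rw [map_sub, sub_eq_zero]
      show Ψ (algebraMap k' K l ⊗ₜ[k] (1 : A)) = Ψ ((1 : K) ⊗ₜ[k] algebraMap k' A l)
      rw [Algebra.TensorProduct.lift_tmul, Algebra.TensorProduct.lift_tmul, map_one, map_one, mul_one, one_mul]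
      show algebraMap k' K l ⊗ₜ[k'] (1 : A) = (1 : K) ⊗ₜ[k'] algebraMap k' A l
      rw [Algebra.algebraMap_eq_smul_one, Algebra.algebraMap_eq_smul_one, TensorProduct.smul_tmul]
    have hid : ∀ w, Ideal.Quotient.lift J Ψ.toRingHom hJΨ (Φ w) = w := by
      intro w
      induction w using TensorProduct.induction_on with
      | zero => simp
      | add a b ha hb => rw [map_add, map_add, ha, hb]
      | tmul a b =>
        rw [Algebra.TensorProduct.lift_tmul]
        show Ideal.Quotient.lift J Ψ.toRingHom hJΨ (Ideal.Quotient.mk J (a ⊗ₜ[k] (1 : A)) * Ideal.Quotient.mk J ((1 : K) ⊗ₜ[k] b)) = _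
        rw [← map_mul, Ideal.Quotient.lift_mk, Algebra.TensorProduct.tmul_mul_tmul, mul_one, one_mul]
        show Ψ (a ⊗ₜ[k] b) = _
        rw [Algebra.TensorProduct.lift_tmul]
        show a ⊗ₜ[k'] (1 : A) * (1 : K) ⊗ₜ[k'] b = _
        rw [Algebra.TensorProduct.tmul_mul_tmul, mul_one, one_mul]
    exact isReduced_of_injective Φ (Function.LeftInverse.injective hid)
  · intro h K _ _
    haveI : IsReduced (K ⊗[k] k') := by
      refine ⟨fun x hx => ?_⟩
      obtain ⟨C, hC, z, hz⟩ := exists_fg_and_mem_baseChange x
      obtain ⟨s, hs⟩ := hC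
      let E := IntermediateField.adjoin k ((s : Finset k') : Set k')
      haveI : FiniteDimensional k E := IntermediateField.finiteDimensional_adjoin fun a _ =>
        (Algebra.IsSeparable.isSeparable k a).isIntegral
      haveI : Algebra.FormallyEtale k E := Algebra.FormallyEtale.of_isSeparable k E
      haveI : Algebra.FormallyUnramified K (K ⊗[k] E) := inferInstance
      haveI : IsReduced (K ⊗[k] E) := Algebra.FormallyUnramified.isReduced_of_field K (K ⊗[k] E)
      have hCE : C ≤ E.toSubalgebra := hs ▸ Algebra.adjoin_le fun a ha => IntermediateField.subset_adjoin k _ ha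
      let m := Algebra.TensorProduct.map (AlgHom.id K K) E.val
      have hm : Function.Injective m :=
        Module.Flat.lTensor_preserves_injective_linearMap _ Subtype.val_injective
      have key : ∀ z, Algebra.TensorProduct.map (AlgHom.id K K) C.val z =
          m (Algebra.TensorProduct.map (AlgHom.id K K) (Subalgebra.inclusion hCE) z) := by
        intro z
        induction z using TensorProduct.induction_on with
        | zero => simp
        | tmul a b => simp [m]; rfl
        | add a b ha hb => simp [map_add, ha, hb]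
      have e := (key z).symm.trans hz
      rw [← e] at hx ⊢
      rw [IsReduced.eq_zero _ ((IsNilpotent.map_iff hm).mp hx), map_zero]
    haveI : IsReduced (k' ⊗[k] K) := isReduced_of_injective _ (Algebra.TensorProduct.comm k k' K).injective
    haveI : IsReduced (A ⊗[k'] (k' ⊗[k] K)) := Groth.Agent.GeomRedPull.isReduced_tensor fun L _ _ => by
      haveI := h L
      exact isReduced_of_injective _ (Algebra.TensorProduct.comm k' A L).injective
    haveI : IsReduced (A ⊗[k] K) :=
      isReduced_of_injective _ (Algebra.TensorProduct.cancelBaseChange k k' A A K).symm.injective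
    exact isReduced_of_injective _ (Algebra.TensorProduct.comm k K A).injective

end Groth.Agent.S9635
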