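import Groth.Statements.S9250
import Mathlib
import Groth.Agent.FlatDepth.Regular
-- import your own Groth.Agent.* helpers here

set_option autoImplicit false
universe u
open CAlg

namespace Groth.Agent.S9250

/-- Let R → S be a regular ring map with S Noetherian and R regular. Then S is regular. -/
theorem result (R S : Type u) [CommRing R] [CommRing S] [Algebra R S]
    [IsRegularRing R] [IsNoetherianRing S] (h : CAlg.IsRegularHom R S) : IsRegularRing S := by
  obtain ⟨hflat, h⟩ := h
  refine FlatDepth.isRegularRing_ascent R S inferInstance fun Q _ => ?_
  exact FlatDepth.isRegularRing_of_equiv _ _ (Algebra.TensorProduct.lid Q.ResidueField _).toRingEquiv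
    ((h Q).2 Q.ResidueField inferInstance)

end Groth.Agent.S9250
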