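import Groth.Statements.S12124
-- import your own Groth.Agent.* helpers here
import Groth.Agent.GRingCpl.MoriApp

set_option autoImplicit false
universe u
open CAlg

namespace Groth.Agent.S12124

/-- Let A be a Noetherian local domain with fraction field K and A' its integral closure in K. Then A'
is a Krull domain whose essential valuation rings come from a finite sub-A-algebra: there is a
sub-A-algebra C of K, finite over A, such that, writing V_p for the integral closure in K of the
local ring C_p at a height-one prime p of C (the elements x of K with s x integral over C for some s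
in C outside p), (a) each V_p is a discrete valuation ring with fraction field K, (b) A' is the
intersection of the V_p over all height-one primes p of C, and (c) every element of K lies in V_p
for all but finitely many p. (The published statement calls C local and also records that A' is
semi-local; this row does not assert that C is local, and the semi-locality of A' is a separate
result.) -/
theorem result {A : Type u} [CommRing A] [IsDomain A] [IsNoetherianRing A] [IsLocalRing A] :
    ∃ C : Subalgebra A (FractionRing A), Module.Finite A C ∧
      (∀ (p : Ideal C) [p.IsPrime], p.height = 1 →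
        ∃ V : ValuationSubring (FractionRing A), IsDiscreteValuationRing V ∧
          ∀ x : FractionRing A, x ∈ V ↔ ∃ s : C, s ∉ p ∧ IsIntegral C ((s : FractionRing A) * x)) ∧
      (∀ x : FractionRing A, x ∈ integralClosure A (FractionRing A) ↔
        ∀ (p : Ideal C) [p.IsPrime], p.height = 1 → ∃ s : C, s ∉ p ∧ IsIntegral C ((s : FractionRing A) * x)) ∧
      (∀ x : FractionRing A, {p : Ideal C | p.IsPrime ∧ p.height = 1 ∧
        ¬ ∃ s : C, s ∉ p ∧ IsIntegral C ((s : FractionRing A) * x)}.Finite) := by
  classical
  let K := FractionRing A
  let Ah := AdicCompletion (IsLocalRing.maximalIdeal A) A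
  haveI : IsNoetherianRing Ah := inferInstanceAs (IsNoetherianRing (AdicCompletion (IsLocalRing.maximalIdeal A) A))
  haveI : IsLocalRing Ah := inferInstanceAs (IsLocalRing (AdicCompletion (IsLocalRing.maximalIdeal A) A))
  haveI : IsLocalHom (algebraMap A Ah) := inferInstanceAs (IsLocalHom (algebraMap A (AdicCompletion (IsLocalRing.maximalIdeal A) A)))
  haveI : Module.Flat A Ah := inferInstanceAs (Module.Flat A (AdicCompletion (IsLocalRing.maximalIdeal A) A))
  haveI : Module.FaithfullyFlat A Ah := Module.FaithfullyFlat.of_flat_of_isLocalHom
  haveI : IsAdicComplete (IsLocalRing.maximalIdeal Ah) Ah :=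
    inferInstanceAs (IsAdicComplete (IsLocalRing.maximalIdeal (AdicCompletion (IsLocalRing.maximalIdeal A) A)) (AdicCompletion (IsLocalRing.maximalIdeal A) A))
  have hNag : CAlg.IsNagata Ah := Nagata.isNagata_of_complete Ah
  obtain ⟨C, hC, hst⟩ := GRingCpl.exists_stable (A := A) (B := Ah) (K' := K) fun q _ _ => hNag.2 q
  haveI := hC.1
  haveI : Algebra.IsIntegral A C := inferInstance
  have hint : C ≤ integralClosure A K := fun z hz =>
    ((Algebra.IsIntegral.isIntegral (R := A) (⟨z, hz⟩ : C)).map C.val : IsIntegral A z)
  have hUI := GRingCpl.universallyInjective_of_stable hC (fun C' hC' hle => (hst C' hC' hle).2) hint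
  haveI := hC.isFractionRing
  haveI : IsNoetherianRing C := IsNoetherianRing.of_finite A C
  refine ⟨C, hC.1, fun p _ hp => GRingCpl.exists_valuationSubring hC hint hUI p hp, fun x => ⟨fun hx p _ _ => ?_, fun hx => ?_⟩, fun x => ?_⟩
  · refine ⟨1, fun h => Ideal.IsPrime.ne_top' ((Ideal.eq_top_iff_one p).2 h), ?_⟩
    rw [OneMemClass.coe_one, one_mul]
    exact IsIntegral.tower_top (R := A) (A := C) hx
  · by_contra hnot
    obtain ⟨p, hp, hp1, hno⟩ := GRingCpl.exists_pole_stable Ah hNag hC (fun C' hC' hle => (hst C' hC' hle).2) x
      fun h => hnot (isIntegral_trans x h)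
    obtain ⟨s, hs, hsx⟩ := hx p hp1
    exact hno s hs hsx
  · obtain ⟨b, a, ha, hab⟩ := IsFractionRing.div_surjective C x
    refine (Ideal.finite_minimalPrimes_of_isNoetherianRing C (Ideal.span {a})).subset ?_
    rintro p ⟨hp, hp1, hno⟩
    have hap : a ∈ p := by
      by_contra hap
      refine hno ⟨a, hap, ?_⟩
      rw [← hab, show ((a : K) * (algebraMap C K b / algebraMap C K a)) = algebraMap C K b by
        rw [show (a : K) = algebraMap C K a from rfl, mul_div_cancel₀]
        exact (map_ne_zero_iff _ (IsFractionRing.injective C K)).2 (nonZeroDivisors.ne_zero ha)]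
      exact isIntegral_algebraMap
    haveI := hp
    refine ⟨⟨hp, (Ideal.span_singleton_le_iff_mem p).2 hap⟩, fun Q hQ hQp => ?_⟩
    rcases hQp.eq_or_lt with h | h
    · exact h.ge
    haveI := hQ.1
    have h1 := hQ.2 (Ideal.mem_span_singleton_self a)
    rw [GRingCpl.eq_bot_of_lt_of_height_le_one h hp1.le, Submodule.mem_bot] at h1
    exact absurd h1 (nonZeroDivisors.ne_zero ha)

end Groth.Agent.S12124
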