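import Mathlib.Algebra.CharP.Lemmas
import Mathlib.Algebra.CharP.Algebra
import Mathlib.Algebra.MvPolynomial.CommRing
import Mathlib.Algebra.MvPolynomial.Basic
import Mathlib.Algebra.Polynomial.AlgebraMap
import Mathlib.Data.Nat.Choose.Lucas
import Mathlib.Data.Nat.Choose.Dvd
import Mathlib.Algebra.Field.ZMod
import Mathlib.RingTheory.Multiplicity
import Mathlib.Data.Nat.MaxPowDiv
import Mathlib.NumberTheory.Padics.PadicVal.Basic
import Mathlib.Algebra.Polynomial.Degree.Lemmas
import Mathlib.RingTheory.Coprime.Lemmas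
import Mathlib.Data.ZMod.Basic
import Mathlib.Tactic.LinearCombination

/-! Symmetric additive two-cocycles in characteristic `p`. -/

set_option autoImplicit false
universe u

open MvPolynomial

namespace Groth.Agent.GaCocycle

section Binomial
variable (p : ℕ) [Fact p.Prime]

theorem choose_p_mul (a b : ℕ) : ((p * a).choose (p * b) : ZMod p) = (a.choose b : ZMod p) := by
  have h : (p * a).choose (p * b) ≡ ((p * a) % p).choose ((p * b) % p) * ((p * a) / p).choose ((p * b) / p) [MOD p] :=
    Choose.choose_modEq_choose_mod_mul_choose_div_nat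
  rw [(ZMod.natCast_eq_natCast_iff _ _ _).2 h, Nat.mul_mod_right, Nat.mul_mod_right,
    Nat.mul_div_cancel_left _ (Fact.out : p.Prime).pos, Nat.mul_div_cancel_left _ (Fact.out : p.Prime).pos]
  simp

theorem choose_pow_mul (v : ℕ) : ∀ a b : ℕ, ((p ^ v * a).choose (p ^ v * b) : ZMod p) = (a.choose b : ZMod p) := by
  induction v with
  | zero => simp
  | succ v ih => intro a b; rw [pow_succ', mul_assoc, mul_assoc, choose_p_mul, ih]

theorem choose_one (v m : ℕ) : ((p ^ v * m).choose (p ^ v) : ZMod p) = (m : ZMod p) := by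
  have := choose_pow_mul p v m 1
  rwa [mul_one, Nat.choose_one_right] at this

theorem choose_low : ∀ v a b : ℕ, b < p ^ v → ((p ^ v * a + b).choose b : ZMod p) = 1 := by
  intro v
  induction v with
  | zero => intro a b hb; rw [pow_zero] at hb; obtain rfl : b = 0 := by omega
            simp
  | succ v ih =>
    intro a b hb
    have hp := (Fact.out : p.Prime).pos
    have h : (p ^ (v + 1) * a + b).choose b ≡
        ((p ^ (v + 1) * a + b) % p).choose (b % p) * ((p ^ (v + 1) * a + b) / p).choose (b / p) [MOD p] :=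
      Choose.choose_modEq_choose_mod_mul_choose_div_nat
    rw [(ZMod.natCast_eq_natCast_iff _ _ _).2 h, pow_succ', mul_assoc, Nat.mul_add_mod, Nat.mul_add_div hp,
      Nat.choose_self, one_mul, ih a (b / p) (Nat.div_lt_of_lt_mul (by rwa [← pow_succ']))]

theorem choose_two_pows {s v : ℕ} (hsv : s ≠ v) : ((p ^ s + p ^ v).choose (p ^ s) : ZMod p) = 1 := by
  rcases lt_or_gt_of_ne hsv with h | h
  · obtain ⟨t, rfl⟩ := Nat.exists_eq_add_of_lt h
    rw [show p ^ s + p ^ (s + t + 1) = p ^ s * (1 + p ^ (t + 1)) by rw [mul_add, mul_one, ← pow_add, add_assoc], choose_one]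
    simp
  · obtain ⟨t, rfl⟩ := Nat.exists_eq_add_of_lt h
    rw [Nat.choose_symm_add, show p ^ (v + t + 1) + p ^ v = p ^ v * (p ^ (t + 1) + 1) by
      rw [mul_add, mul_one, ← pow_add, add_assoc], choose_one]
    simp

end Binomial

variable (R : Type u) [CommRing R]

/-- The coboundary. -/
noncomputable def δ : MvPolynomial (Fin 2) R →ₗ[R] MvPolynomial (Fin 3) R :=
  (aeval ![X 0, X 1 + X 2]).toLinearMap + (aeval ![X 1, X 2]).toLinearMap
    - (aeval ![X 0 + X 1, X 2]).toLinearMap - (aeval ![X 0, X 1]).toLinearMap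

/-- The exponent `(i, j)`. -/
noncomputable def e2 (i j : ℕ) : Fin 2 →₀ ℕ := Finsupp.equivFunOnFinite.symm ![i, j]

/-- The exponent `(i, j, l)`. -/
noncomputable def e3 (i j l : ℕ) : Fin 3 →₀ ℕ := Finsupp.equivFunOnFinite.symm ![i, j, l]

variable {R}

theorem e2_eq (d : Fin 2 →₀ ℕ) : d = e2 (d 0) (d 1) := by
  ext i; fin_cases i <;> rfl

theorem e2_inj {a b c d : ℕ} : e2 a b = e2 c d ↔ a = c ∧ b = d := by
  constructor
  · intro h; exact ⟨congrArg (fun f : Fin 2 →₀ ℕ => f 0) h, congrArg (fun f : Fin 2 →₀ ℕ => f 1) h⟩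
  · rintro ⟨rfl, rfl⟩; rfl

theorem e3_inj {a b c a' b' c' : ℕ} : e3 a b c = e3 a' b' c' ↔ a = a' ∧ b = b' ∧ c = c' := by
  constructor
  · intro h
    exact ⟨congrArg (fun f : Fin 3 →₀ ℕ => f 0) h, congrArg (fun f : Fin 3 →₀ ℕ => f 1) h, congrArg (fun f : Fin 3 →₀ ℕ => f 2) h⟩
  · rintro ⟨rfl, rfl, rfl⟩; rfl

theorem coeff_prod3 (a b c i j l : ℕ) :
    coeff (e3 i j l) ((X 0 : MvPolynomial (Fin 3) R) ^ a * X 1 ^ b * X 2 ^ c) =
      if a = i ∧ b = j ∧ c = l then 1 else 0 := by
  classical
  have h : (X 0 : MvPolynomial (Fin 3) R) ^ a * X 1 ^ b * X 2 ^ c = monomial (e3 a b c) 1 := by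
    rw [monomial_eq, map_one, one_mul, Finsupp.prod_fintype _ _ (fun _ => pow_zero _), Fin.prod_univ_three]
    rfl
  rw [h, coeff_monomial]
  simp only [e3_inj]

theorem coeff_right (a b i j l : ℕ) :
    coeff (e3 i j l) ((X 0 : MvPolynomial (Fin 3) R) ^ a * (X 1 + X 2) ^ b) =
      if a = i ∧ b = j + l then ((b.choose j : ℕ) : R) else 0 := by
  classical
  rw [add_pow, Finset.mul_sum, coeff_sum]
  have h : ∀ t ∈ Finset.range (b + 1), coeff (e3 i j l) ((X 0 : MvPolynomial (Fin 3) R) ^ a *
      (X 1 ^ t * X 2 ^ (b - t) * (b.choose t : MvPolynomial (Fin 3) R))) =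
      (b.choose t : R) * (if a = i ∧ t = j ∧ b - t = l then 1 else 0) := fun t _ => by
    rw [← mul_assoc, ← mul_assoc, mul_comm, ← map_natCast (C : R →+* MvPolynomial (Fin 3) R), coeff_C_mul, coeff_prod3]
  rw [Finset.sum_congr rfl h]
  split_ifs with hc
  · obtain ⟨rfl, rfl⟩ := hc
    rw [Finset.sum_eq_single j (fun t _ ht => by rw [if_neg fun h => ht h.2.1, mul_zero])
      (fun hj => absurd (Finset.mem_range.2 (by omega)) hj), if_pos ⟨rfl, rfl, by omega⟩, mul_one]
  · refine Finset.sum_eq_zero fun t ht => ?_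
    rw [if_neg, mul_zero]
    rintro ⟨h1, h2, h3⟩
    exact hc ⟨h1, by rw [Finset.mem_range] at ht; omega⟩

theorem coeff_left (a b i j l : ℕ) :
    coeff (e3 i j l) (((X 0 : MvPolynomial (Fin 3) R) + X 1) ^ a * X 2 ^ b) =
      if a = i + j ∧ b = l then ((a.choose i : ℕ) : R) else 0 := by
  classical
  rw [add_pow, Finset.sum_mul, coeff_sum]
  have h : ∀ t ∈ Finset.range (a + 1), coeff (e3 i j l)
      ((X 0 : MvPolynomial (Fin 3) R) ^ t * X 1 ^ (a - t) * (a.choose t : MvPolynomial (Fin 3) R) * X 2 ^ b) =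
      (a.choose t : R) * (if t = i ∧ a - t = j ∧ b = l then 1 else 0) := fun t _ => by
    rw [mul_right_comm, mul_comm, ← map_natCast (C : R →+* MvPolynomial (Fin 3) R), coeff_C_mul, coeff_prod3]
  rw [Finset.sum_congr rfl h]
  split_ifs with hc
  · obtain ⟨rfl, rfl⟩ := hc
    rw [Finset.sum_eq_single i (fun t _ ht => by rw [if_neg fun h => ht h.1, mul_zero])
      (fun hj => absurd (Finset.mem_range.2 (by omega)) hj), if_pos ⟨rfl, by omega, rfl⟩, mul_one]
  · refine Finset.sum_eq_zero fun t ht => ?_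
    rw [if_neg, mul_zero]
    rintro ⟨h1, h2, h3⟩
    exact hc ⟨by rw [Finset.mem_range] at ht; omega, h3⟩

/-- The coefficients of the coboundary. -/
theorem coeff_δ (F : MvPolynomial (Fin 2) R) (i j l : ℕ) :
    coeff (e3 i j l) (δ R F) =
      ((j + l).choose j : R) * coeff (e2 i (j + l)) F + (if i = 0 then coeff (e2 j l) F else 0)
        - ((i + j).choose i : R) * coeff (e2 (i + j) l) F - (if l = 0 then coeff (e2 i j) F else 0) := by
  classical
  induction F using MvPolynomial.induction_on' with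
  | monomial d c =>
    rw [e2_eq d]
    generalize d 0 = a
    generalize d 1 = b
    have hm : ∀ v : Fin 2 → MvPolynomial (Fin 3) R, aeval v (monomial (e2 a b) c) = C c * (v 0 ^ a * v 1 ^ b) := fun v => by
      rw [aeval_monomial, algebraMap_eq, Finsupp.prod_fintype _ _ (fun _ => pow_zero _), Fin.prod_univ_two]
      rfl
    simp only [δ, LinearMap.sub_apply, LinearMap.add_apply, AlgHom.toLinearMap_apply, hm, coeff_sub, coeff_add, coeff_C_mul,
      Matrix.cons_val_zero, Matrix.cons_val_one, coeff_monomial, e2_inj, coeff_right, coeff_left]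
    have h1 : coeff (e3 i j l) ((X 1 : MvPolynomial (Fin 3) R) ^ a * X 2 ^ b) = if i = 0 ∧ a = j ∧ b = l then 1 else 0 := by
      have := coeff_prod3 (R := R) 0 a b i j l
      rw [pow_zero, one_mul] at this
      rw [this]; exact if_congr ⟨fun ⟨x, y, z⟩ => ⟨x.symm, y, z⟩, fun ⟨z, x, y⟩ => ⟨z.symm, x, y⟩⟩ rfl rfl
    have h2 : coeff (e3 i j l) ((X 0 : MvPolynomial (Fin 3) R) ^ a * X 1 ^ b) = if l = 0 ∧ a = i ∧ b = j then 1 else 0 := by
      have := coeff_prod3 (R := R) a b 0 i j l
      rw [pow_zero, mul_one] at this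
      rw [this]; exact if_congr ⟨fun ⟨x, y, z⟩ => ⟨z.symm, x, y⟩, fun ⟨z, x, y⟩ => ⟨x, y, z.symm⟩⟩ rfl rfl
    rw [h1, h2]
    have t1 : c * (if a = i ∧ b = j + l then ((b.choose j : ℕ) : R) else 0) =
        ((j + l).choose j : R) * (if a = i ∧ b = j + l then c else 0) := by
      split_ifs with h
      · obtain ⟨rfl, rfl⟩ := h; ring
      · simp
    have t3 : c * (if a = i + j ∧ b = l then ((a.choose i : ℕ) : R) else 0) =
        ((i + j).choose i : R) * (if a = i + j ∧ b = l then c else 0) := by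
      split_ifs with h
      · obtain ⟨rfl, rfl⟩ := h; ring
      · simp
    have t2 : ∀ (P Q : Prop) [Decidable P] [Decidable Q], c * (if P ∧ Q then 1 else 0) = if P then (if Q then c else 0) else 0 := by
      intro P Q _ _
      by_cases hP : P <;> by_cases hQ : Q <;> simp [hP, hQ]
    rw [t1, t3, t2, t2]
  | add P Q hP hQ =>
    rw [map_add, coeff_add, hP, hQ]
    simp only [coeff_add]
    split_ifs <;> ring

theorem coeff_swap (F : MvPolynomial (Fin 2) R) (i j : ℕ) :
    coeff (e2 i j) (aeval ![(X 1 : MvPolynomial (Fin 2) R), X 0] F) = coeff (e2 j i) F := by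
  classical
  induction F using MvPolynomial.induction_on' with
  | monomial d c =>
    rw [e2_eq d]
    generalize d 0 = a
    generalize d 1 = b
    rw [aeval_monomial, algebraMap_eq, Finsupp.prod_fintype _ _ (fun _ => pow_zero _), Fin.prod_univ_two]
    have h : (X 1 : MvPolynomial (Fin 2) R) ^ a * X 0 ^ b = monomial (e2 b a) 1 := by
      rw [monomial_eq, map_one, one_mul, Finsupp.prod_fintype _ _ (fun _ => pow_zero _), Fin.prod_univ_two, mul_comm]
      rfl
    show coeff _ (C c * ((X 1 : MvPolynomial (Fin 2) R) ^ a * X 0 ^ b)) = _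
    rw [h, coeff_C_mul, coeff_monomial, coeff_monomial]
    simp only [e2_inj]
    split_ifs <;> simp_all
  | add P Q hP hQ => simp [hP, hQ]

section
variable (p : ℕ) [Fact p.Prime] [CharP R p]

theorem cast_eq {a b : ℕ} (h : (a : ZMod p) = (b : ZMod p)) : (a : R) = (b : R) :=
  (CharP.natCast_eq_natCast R p).2 ((ZMod.natCast_eq_natCast_iff _ _ _).1 h)

theorem unit_cast {a : ℕ} (h : (a : ZMod p) ≠ 0) : IsUnit (a : R) := by
  have := (Ne.isUnit h).map (ZMod.castHom dvd_rfl R)
  rwa [map_natCast] at this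

/-- The distinguished exponent in degree `n`. -/
noncomputable def kk (n : ℕ) : ℕ := by
  classical exact if (∃ t, n = p ^ t) then n / p else p ^ padicValNat p n

theorem kk_spec {n : ℕ} (hn : 2 ≤ n) :
    ∃ v m : ℕ, kk p n = p ^ v ∧ n = p ^ v * m ∧ 1 < m ∧
      ((∃ t, n = p ^ t) → m = p) ∧ (¬ (∃ t, n = p ^ t) → ¬ p ∣ m) := by
  classical
  have hp := (Fact.out : p.Prime)
  by_cases h : ∃ t, n = p ^ t
  · obtain ⟨t, ht⟩ := h
    subst ht
    rcases t with _ | t
    · simp at hn
    refine ⟨t, p, ?_, pow_succ p t, hp.one_lt, fun _ => rfl, fun h' => absurd ⟨t + 1, rfl⟩ h'⟩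
    rw [kk, if_pos ⟨t + 1, rfl⟩, pow_succ, Nat.mul_div_cancel _ hp.pos]
  · obtain ⟨m, hm⟩ := pow_padicValNat_dvd (p := p) (n := n)
    have hpm : ¬ p ∣ m := fun ⟨c, hc⟩ => by
      refine pow_succ_padicValNat_not_dvd (p := p) (show n ≠ 0 by omega) ⟨c, ?_⟩
      conv_lhs => rw [hm, hc]
      ring
    refine ⟨padicValNat p n, m, by rw [kk, if_neg h], hm, ?_, fun h' => absurd h' h, fun _ => hpm⟩
    rcases m with _ | _ | m
    · simp at hm; omega
    · exact absurd ⟨_, hm.trans (mul_one _)⟩ h
    · omega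

/-- A normalised symmetric cocycle vanishes. -/
theorem eq_zero_of_normalised (F : MvPolynomial (Fin 2) R)
    (hs : aeval ![(X 1 : MvPolynomial (Fin 2) R), X 0] F = F) (hd : δ R F = 0)
    (h00 : coeff (e2 0 0) F = 0) (hk : ∀ n, 2 ≤ n → coeff (e2 (kk p n) (n - kk p n)) F = 0) : F = 0 := by
  classical
  have hp := (Fact.out : p.Prime)
  have hsym : ∀ i j, coeff (e2 i j) F = coeff (e2 j i) F := fun i j => by
    conv_lhs => rw [← hs]
    exact coeff_swap F i j
  have hrel : ∀ i j l, 0 < i → 0 < l →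
      ((j + l).choose j : R) * coeff (e2 i (j + l)) F = ((i + j).choose i : R) * coeff (e2 (i + j) l) F := by
    intro i j l hi hl
    have h := coeff_δ F i j l
    rw [hd, coeff_zero, if_neg hi.ne', if_neg hl.ne', add_zero, sub_zero] at h
    exact sub_eq_zero.1 h.symm
  have h0 : ∀ l, coeff (e2 0 l) F = 0 := fun l => by
    rcases Nat.eq_zero_or_pos l with rfl | hl
    · exact h00
    · have h := coeff_δ F 0 0 l
      rw [hd, coeff_zero, if_pos rfl, if_neg hl.ne'] at h
      simpa using h.symm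
  have key : ∀ n, 2 ≤ n → ∀ i j, 0 < i → 0 < j → i + j = n → coeff (e2 i j) F = 0 := by
    intro n hn
    obtain ⟨v, m, hkv, hnv, hm1, hmp, hmn⟩ := kk_spec p hn
    have hv0 : coeff (e2 (p ^ v) (n - p ^ v)) F = 0 := by rw [← hkv]; exact hk n hn
    have hpow : ∀ s, p ^ s < n → coeff (e2 (p ^ s) (n - p ^ s)) F = 0 := by
      intro s hsn
      rcases lt_trichotomy s v with hlt | rfl | hgt
      · have hlt' : p ^ s < p ^ v := Nat.pow_lt_pow_right hp.one_lt hlt
        have hvn : p ^ v < n := by rw [hnv]; exact lt_mul_of_one_lt_right (pow_pos hp.pos v) hm1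
        have h := hrel (p ^ s) (p ^ v - p ^ s) (n - p ^ v) (pow_pos hp.pos _) (by omega)
        rw [show p ^ v - p ^ s + (n - p ^ v) = n - p ^ s by omega, show p ^ s + (p ^ v - p ^ s) = p ^ v by omega, hv0,
          mul_zero] at h
        have h1 : ((n - p ^ s).choose (p ^ v - p ^ s) : R) = 1 := by
          rw [← Nat.cast_one]
          refine cast_eq p ?_
          rw [Nat.cast_one, show n - p ^ s = p ^ v * (m - 1) + (p ^ v - p ^ s) by
            rw [Nat.mul_sub, mul_one, ← hnv]; omega]
          exact choose_low p v _ _ (by have := pow_pos hp.pos s; omega)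
        rwa [h1, one_mul] at h
      · exact hv0
      · have hnp : ¬ ∃ t, n = p ^ t := fun h => by
          rw [hnv, hmp h, ← pow_succ] at hsn
          have := (Nat.pow_lt_pow_iff_right hp.one_lt).1 hsn
          omega
        obtain ⟨t, rfl⟩ := Nat.exists_eq_add_of_lt hgt
        by_cases hsum : p ^ (v + t + 1) + p ^ v < n
        · have h := hrel (p ^ (v + t + 1)) (p ^ v) (n - (p ^ (v + t + 1) + p ^ v)) (pow_pos hp.pos _) (by omega)
          rw [show p ^ v + (n - (p ^ (v + t + 1) + p ^ v)) = n - p ^ (v + t + 1) by omega] at h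
          have h' := hrel (p ^ v) (p ^ (v + t + 1)) (n - (p ^ (v + t + 1) + p ^ v)) (pow_pos hp.pos _) (by omega)
          rw [show p ^ (v + t + 1) + (n - (p ^ (v + t + 1) + p ^ v)) = n - p ^ v by omega, hv0, mul_zero] at h'
          have h1 : ((p ^ v + p ^ (v + t + 1)).choose (p ^ v) : R) = 1 :=
            (cast_eq p (b := 1) ((choose_two_pows p (show v ≠ v + t + 1 by omega)).trans Nat.cast_one.symm)).trans Nat.cast_one
          rw [h1, one_mul, add_comm (p ^ v)] at h'
          rw [← h', mul_zero] at h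
          have hu : IsUnit ((n - p ^ (v + t + 1)).choose (p ^ v) : R) := by
            refine unit_cast p ?_
            rw [show n - p ^ (v + t + 1) = p ^ v * (m - p ^ (t + 1)) by
              rw [Nat.mul_sub, ← hnv, ← pow_add, add_assoc], choose_one, Ne, ZMod.natCast_eq_zero_iff]
            intro hdvd
            have hle : p ^ (t + 1) ≤ m := by
              have h2 : p ^ v * p ^ (t + 1) < p ^ v * m := by rw [← pow_add, ← hnv, ← add_assoc]; exact hsn
              exact (Nat.lt_of_mul_lt_mul_left h2).le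
            have := Nat.dvd_add hdvd (dvd_pow_self p (show t + 1 ≠ 0 by omega))
            rw [Nat.sub_add_cancel hle] at this
            exact hmn hnp this
          exact hu.mul_right_eq_zero.1 h
        · have h2 : p ^ v ∣ n - p ^ (v + t + 1) :=
            Nat.dvd_sub (hnv ▸ dvd_mul_right _ _) (pow_dvd_pow p (by omega))
          have h3 : n - p ^ (v + t + 1) = p ^ v :=
            le_antisymm (by omega) (Nat.le_of_dvd (by omega) h2)
          rw [h3, hsym]
          rwa [show n - p ^ v = p ^ (v + t + 1) by omega] at hv0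
    intro i j hi hj hij
    subst hij
    obtain ⟨q, hq⟩ := pow_padicValNat_dvd (p := p) (n := i)
    set s := padicValNat p i
    have hpq : ¬ p ∣ q := fun ⟨c, hc⟩ => by
      refine pow_succ_padicValNat_not_dvd (p := p) hi.ne' ⟨c, ?_⟩
      conv_lhs => rw [hq, hc]
      ring
    have hq0 : 0 < q := Nat.pos_of_ne_zero fun h => by rw [h, mul_zero] at hq; omega
    rcases eq_or_lt_of_le (show 1 ≤ q by omega) with hq1 | hq1
    · rw [hq, ← hq1, mul_one]
      have := hpow s (by rw [← hq1, mul_one] at hq; omega)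
      rwa [show i + j - p ^ s = j by rw [← hq1, mul_one] at hq; omega] at this
    · have hsi : p ^ s < i := by rw [hq]; exact lt_mul_of_one_lt_right (pow_pos hp.pos s) hq1
      have h := hrel (p ^ s) (i - p ^ s) j (pow_pos hp.pos _) hj
      have hs0 := hpow s (by omega)
      rw [show i + j - p ^ s = i - p ^ s + j by omega] at hs0
      rw [hs0, mul_zero, Nat.add_sub_cancel' hsi.le] at h
      have hu : IsUnit (i.choose (p ^ s) : R) := by
        refine unit_cast p ?_
        rw [hq, choose_one, Ne, ZMod.natCast_eq_zero_iff]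
        exact hpq
      exact hu.mul_right_eq_zero.1 h.symm
  ext d
  rw [coeff_zero, e2_eq d]
  rcases Nat.eq_zero_or_pos (d 0) with h | h
  · rw [h]; exact h0 _
  rcases Nat.eq_zero_or_pos (d 1) with h' | h'
  · rw [h', hsym]; exact h0 _
  exact key _ (by omega) _ _ h h' rfl

/-- The universal cocycle. -/
def S {A : Type*} [CommRing A] (a b : A) : A :=
  ∑ j ∈ Finset.Ioo 0 p, ((p.choose j / p : ℕ) : A) * a ^ j * b ^ (p - j)

theorem S_int (a b : MvPolynomial (Fin 3) ℤ) : (p : MvPolynomial (Fin 3) ℤ) * S p a b = (a + b) ^ p - a ^ p - b ^ p := by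
  classical
  have hp := (Fact.out : p.Prime)
  rw [add_pow, Finset.sum_range_succ, ← Finset.sum_erase_add _ _ (Finset.mem_range.2 hp.pos), S, Finset.mul_sum]
  have he : (Finset.range p).erase 0 = Finset.Ioo 0 p := by ext j; simp only [Finset.mem_erase, Finset.mem_range, Finset.mem_Ioo]; omega
  rw [he]
  simp only [pow_zero, Nat.sub_zero, Nat.choose_zero_right, Nat.choose_self, Nat.sub_self, Nat.cast_one, mul_one, one_mul]
  rw [add_sub_assoc, add_sub_assoc]
  have hsum : ∑ j ∈ Finset.Ioo 0 p, (p : MvPolynomial (Fin 3) ℤ) * ((((p.choose j / p : ℕ) : MvPolynomial (Fin 3) ℤ) * a ^ j * b ^ (p - j))) =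
      ∑ j ∈ Finset.Ioo 0 p, a ^ j * b ^ (p - j) * (p.choose j : MvPolynomial (Fin 3) ℤ) := by
    refine Finset.sum_congr rfl fun j hj => ?_
    rw [Finset.mem_Ioo] at hj
    have : (p : MvPolynomial (Fin 3) ℤ) * ((p.choose j / p : ℕ) : MvPolynomial (Fin 3) ℤ) = (p.choose j : MvPolynomial (Fin 3) ℤ) := by
      rw [← Nat.cast_mul, Nat.mul_div_cancel' (hp.dvd_choose_self hj.1.ne' hj.2)]
    rw [← this]; ring
  rw [hsum]
  ring

theorem S_comm {A : Type*} [CommRing A] (a b : A) : S p b a = S p a b ∧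
    ∀ c : A, S p a (b + c) + S p b c - S p (a + b) c - S p a b = 0 := by
  have hmap : ∀ (f : MvPolynomial (Fin 3) ℤ →+* A) x y, f (S p x y) = S p (f x) (f y) := fun f x y => by
    simp [S, map_sum]
  have hp0 : (p : MvPolynomial (Fin 3) ℤ) ≠ 0 := by simpa using (map_natCast (C : ℤ →+* MvPolynomial (Fin 3) ℤ) p).symm ▸ (C_ne_zero.2 (Int.natCast_ne_zero.2 (Fact.out : p.Prime).ne_zero))
  refine ⟨?_, fun c => ?_⟩
  · have h : S p (X 1 : MvPolynomial (Fin 3) ℤ) (X 0) = S p (X 0) (X 1) := by
      apply mul_left_cancel₀ hp0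
      rw [S_int, S_int]; ring
    have := congrArg (aeval (R := ℤ) ![a, b, 0]).toRingHom h
    rw [hmap, hmap] at this
    simpa using this
  · have h : S p (X 0 : MvPolynomial (Fin 3) ℤ) (X 1 + X 2) + S p (X 1) (X 2) - S p (X 0 + X 1) (X 2) - S p (X 0) (X 1) = 0 := by
      apply mul_left_cancel₀ hp0
      rw [mul_sub, mul_sub, mul_add, S_int, S_int, S_int, S_int, mul_zero]; ring
    have := congrArg (aeval (R := ℤ) ![a, b, c]).toRingHom h
    rw [map_sub, map_sub, map_add, hmap, hmap, hmap, hmap, map_zero] at this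
    simpa using this

theorem coeff_pair (i j a b : ℕ) :
    coeff (e2 i j) ((X 0 : MvPolynomial (Fin 2) R) ^ a * X 1 ^ b) = if a = i ∧ b = j then 1 else 0 := by
  classical
  have h : (X 0 : MvPolynomial (Fin 2) R) ^ a * X 1 ^ b = monomial (e2 a b) 1 := by
    rw [monomial_eq, map_one, one_mul, Finsupp.prod_fintype _ _ (fun _ => pow_zero _), Fin.prod_univ_two]
    rfl
  rw [h, coeff_monomial]
  simp only [e2_inj]

theorem coeff_add_pow (n i j : ℕ) :
    coeff (e2 i j) (((X 0 : MvPolynomial (Fin 2) R) + X 1) ^ n) = if n = i + j then ((n.choose i : ℕ) : R) else 0 := by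
  classical
  rw [add_pow, coeff_sum]
  have h : ∀ t ∈ Finset.range (n + 1), coeff (e2 i j)
      ((X 0 : MvPolynomial (Fin 2) R) ^ t * X 1 ^ (n - t) * (n.choose t : MvPolynomial (Fin 2) R)) =
      (n.choose t : R) * (if t = i ∧ n - t = j then 1 else 0) := fun t _ => by
    rw [mul_comm, ← map_natCast (C : R →+* MvPolynomial (Fin 2) R), coeff_C_mul, coeff_pair]
  rw [Finset.sum_congr rfl h]
  split_ifs with hc
  · subst hc
    rw [Finset.sum_eq_single i (fun t _ ht => by rw [if_neg fun h => ht h.1, mul_zero])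
      (fun hj => absurd (Finset.mem_range.2 (by omega)) hj), if_pos ⟨rfl, by omega⟩, mul_one]
  · refine Finset.sum_eq_zero fun t ht => ?_
    rw [if_neg, mul_zero]
    rintro ⟨h1, h2⟩
    exact hc (by rw [Finset.mem_range] at ht; omega)

theorem aeval_S {A : Type*} [CommRing A] [Algebra R A] (v : Fin 2 → A) :
    aeval v (∑ j ∈ Finset.Ioo 0 p, C ((p.choose j / p : ℕ) : R) * X 0 ^ j * X 1 ^ (p - j)) = S p (v 0) (v 1) := by
  simp [S, map_sum]

theorem map_S {A B : Type*} [CommRing A] [CommRing B] [Algebra R A] [Algebra R B] (f : A →ₐ[R] B) (a b : A) :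
    f (S p a b) = S p (f a) (f b) := by
  simp [S, map_sum]

theorem coeff_S (q a b : ℕ) :
    coeff (e2 a b) (S p ((X 0 : MvPolynomial (Fin 2) R) ^ q) (X 1 ^ q)) =
      ∑ j ∈ Finset.Ioo 0 p, ((p.choose j / p : ℕ) : R) * (if q * j = a ∧ q * (p - j) = b then 1 else 0) := by
  rw [S, coeff_sum]
  refine Finset.sum_congr rfl fun j _ => ?_
  rw [← pow_mul, ← pow_mul, ← map_natCast (C : R →+* MvPolynomial (Fin 2) R), mul_assoc, coeff_C_mul, coeff_pair]

/-- The right-hand side of the classification. -/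
noncomputable def rhs (G : Polynomial R) (N : ℕ) (r : ℕ → R) : MvPolynomial (Fin 2) R :=
  Polynomial.aeval (X 0 + X 1 : MvPolynomial (Fin 2) R) G - Polynomial.aeval (X 0 : MvPolynomial (Fin 2) R) G
    - Polynomial.aeval (X 1 : MvPolynomial (Fin 2) R) G
    + ∑ i ∈ Finset.range N, C (r i) * S p (X 0 ^ p ^ i) (X 1 ^ p ^ i)

theorem rhs_cocycle (G : Polynomial R) (N : ℕ) (r : ℕ → R) :
    aeval ![(X 1 : MvPolynomial (Fin 2) R), X 0] (rhs p G N r) = rhs p G N r ∧ δ R (rhs p G N r) = 0 := by
  have h3 : CharP (MvPolynomial (Fin 3) R) p := charP_of_injective_ringHom (C_injective (Fin 3) R) p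
  constructor
  · simp only [rhs, map_add, map_sub, map_sum, map_mul, aeval_C, algebraMap_eq, map_S, map_pow,
      ← Polynomial.aeval_algHom_apply, aeval_X, Matrix.cons_val_zero, Matrix.cons_val_one]
    rw [Finset.sum_congr rfl fun i _ => by rw [(S_comm p ((X 0 : MvPolynomial (Fin 2) R) ^ p ^ i) (X 1 ^ p ^ i)).1],
      add_comm (X 1) (X 0)]
    ring
  · simp only [δ, LinearMap.sub_apply, LinearMap.add_apply, AlgHom.toLinearMap_apply, rhs, map_add, map_sub, map_sum,
      map_mul, aeval_C, algebraMap_eq, map_S, map_pow, ← Polynomial.aeval_algHom_apply, aeval_X, Matrix.cons_val_zero,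
      Matrix.cons_val_one, add_pow_char_pow]
    have hz : ∑ i ∈ Finset.range N, (C (r i) : MvPolynomial (Fin 3) R) *
        (S p (X 0 ^ p ^ i) (X 1 ^ p ^ i + X 2 ^ p ^ i) + S p (X 1 ^ p ^ i) (X 2 ^ p ^ i)
          - S p (X 0 ^ p ^ i + X 1 ^ p ^ i) (X 2 ^ p ^ i) - S p (X 0 ^ p ^ i) (X 1 ^ p ^ i)) = 0 :=
      Finset.sum_eq_zero fun i _ => by
        rw [(S_comm p ((X 0 : MvPolynomial (Fin 3) R) ^ p ^ i) (X 1 ^ p ^ i)).2, mul_zero]
    simp only [mul_sub, mul_add, Finset.sum_sub_distrib, Finset.sum_add_distrib] at hz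
    rw [add_assoc (X 0 : MvPolynomial (Fin 3) R)]
    linear_combination (norm := (simp only [Finset.sum_sub_distrib, Finset.sum_add_distrib]; ring)) hz

theorem main' (F : MvPolynomial (Fin 2) R) (hs : aeval ![(X 1 : MvPolynomial (Fin 2) R), X 0] F = F)
    (hd : δ R F = 0) : ∃ (G : Polynomial R) (N : ℕ) (r : ℕ → R), F = rhs p G N r := by
  classical
  have hp := (Fact.out : p.Prime)
  let D := F.totalDegree
  have hD : ∀ i j, D < i + j → coeff (e2 i j) F = 0 := fun i j h => by
    by_contra hne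
    have h1 := le_totalDegree (mem_support_iff.2 hne)
    rw [Finsupp.sum_fintype _ _ (fun _ => rfl), Fin.sum_univ_two] at h1
    exact absurd h1 (not_le.2 h)
  let g : ℕ → R := fun n => if n = 0 then - coeff (e2 0 0) F else
    if 2 ≤ n ∧ ¬ ∃ t, n = p ^ t then coeff (e2 (kk p n) (n - kk p n)) F * Ring.inverse ((n.choose (kk p n) : ℕ) : R) else 0
  let G : Polynomial R := ∑ n ∈ Finset.range (D + 1), Polynomial.C (g n) * Polynomial.X ^ n
  let r : ℕ → R := fun t => coeff (e2 (p ^ t) (p ^ (t + 1) - p ^ t)) F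
  refine ⟨G, D + 1, r, ?_⟩
  obtain ⟨hs', hd'⟩ := rhs_cocycle p G (D + 1) r
  have hG : ∀ x : MvPolynomial (Fin 2) R, Polynomial.aeval x G = ∑ n ∈ Finset.range (D + 1), C (g n) * x ^ n := fun x => by
    simp [G, map_sum]
  have hc : ∀ a b : ℕ, coeff (e2 a b) (rhs p G (D + 1) r) =
      (if a + b ≤ D then g (a + b) * ((a + b).choose a : R) else 0) - (if b = 0 ∧ a ≤ D then g a else 0)
        - (if a = 0 ∧ b ≤ D then g b else 0)
        + ∑ t ∈ Finset.range (D + 1), r t * ∑ j ∈ Finset.Ioo 0 p,
            ((p.choose j / p : ℕ) : R) * (if p ^ t * j = a ∧ p ^ t * (p - j) = b then 1 else 0) := fun a b => by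
    rw [rhs, coeff_add, coeff_sub, coeff_sub, coeff_sum]
    simp only [coeff_C_mul, coeff_S, hG, coeff_sum, coeff_add_pow]
    have e0 : ∀ n, coeff (e2 a b) ((X 0 : MvPolynomial (Fin 2) R) ^ n) = if n = a ∧ 0 = b then 1 else 0 := fun n => by
      rw [← coeff_pair, pow_zero, mul_one]
    have e1 : ∀ n, coeff (e2 a b) ((X 1 : MvPolynomial (Fin 2) R) ^ n) = if 0 = a ∧ n = b then 1 else 0 := fun n => by
      rw [← coeff_pair, pow_zero, one_mul]
    simp only [e0, e1]
    congr 3
    · simp only [mul_ite, mul_zero, Finset.sum_ite_eq', Finset.mem_range, Nat.lt_succ_iff]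
    · by_cases hb : b = 0
      · simp [hb, Nat.lt_succ_iff]
      · simp [hb, Ne.symm hb]
    · by_cases ha : a = 0
      · simp [ha, Nat.lt_succ_iff]
      · simp [ha, Ne.symm ha]
  have key : F - rhs p G (D + 1) r = 0 := by
    refine eq_zero_of_normalised p _ (by rw [map_sub, hs, hs']) (by rw [map_sub, hd, hd', sub_zero]) ?_ fun n hn => ?_
    · rw [coeff_sub, hc, Finset.sum_eq_zero fun t _ => mul_eq_zero_of_right _ (Finset.sum_eq_zero fun j hj => by
        rw [if_neg, mul_zero]
        rintro ⟨h, -⟩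
        rw [Finset.mem_Ioo] at hj
        exact absurd h (Nat.mul_pos (pow_pos hp.pos t) hj.1).ne')]
      simp [g]
    · obtain ⟨v, m, hkv, hnv, hm, hpow, hnot⟩ := kk_spec p hn
      have hk0 : 0 < kk p n := by rw [hkv]; exact pow_pos hp.pos v
      have hkn : kk p n < n := by
        rw [hkv]; calc p ^ v < p ^ v * m := lt_mul_of_one_lt_right (pow_pos hp.pos v) hm
          _ = n := hnv.symm
      have hsum : kk p n + (n - kk p n) = n := by omega
      rw [coeff_sub, hc, hsum, if_neg (show ¬(n - kk p n = 0 ∧ kk p n ≤ D) by omega),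
        if_neg (show ¬(kk p n = 0 ∧ n - kk p n ≤ D) by omega), sub_zero, sub_zero, sub_eq_zero]
      by_cases hpp : ∃ t, n = p ^ t
      · rw [hpow hpp] at hnv
        have hg : g n = 0 := by
          simp only [g]; rw [if_neg (show n ≠ 0 by omega), if_neg fun h => h.2 hpp]
        have hnv' : n = p ^ (v + 1) := by rw [hnv, pow_succ]
        rw [hg, zero_mul, ite_self, zero_add, hkv]
        by_cases hv : v ∈ Finset.range (D + 1)
        · rw [Finset.sum_eq_single v (fun t _ ht => mul_eq_zero_of_right _ (Finset.sum_eq_zero fun j hj => by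
              rw [if_neg, mul_zero]
              rintro ⟨ha, hb⟩
              rw [Finset.mem_Ioo] at hj
              have h : p ^ (t + 1) = p ^ (v + 1) := by
                have h1 : p ^ t * j + p ^ t * (p - j) = n := by rw [hkv] at hsum; rw [ha, hb]; exact hsum
                rw [← hnv', ← h1, ← mul_add, pow_succ, Nat.add_sub_cancel' hj.2.le]
              exact ht (by have := Nat.pow_right_injective hp.two_le h; omega)))
            (fun h => absurd hv h),
            Finset.sum_eq_single 1 (fun j _ hj => by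
              rw [if_neg, mul_zero]
              rintro ⟨ha, -⟩
              exact hj (Nat.eq_of_mul_eq_mul_left (pow_pos hp.pos v) (ha.trans (mul_one _).symm)))
            (fun h => absurd (Finset.mem_Ioo.2 ⟨one_pos, hp.one_lt⟩) h),
            if_pos ⟨mul_one _, by rw [Nat.mul_sub, mul_one, hnv]⟩, Nat.choose_one_right, Nat.div_self hp.pos]
          simp only [r, Nat.cast_one, mul_one]
          rw [hnv']
        · rw [Finset.sum_eq_zero fun t ht => mul_eq_zero_of_right _ (Finset.sum_eq_zero fun j hj => by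
              rw [if_neg, mul_zero]
              rintro ⟨ha, hb⟩
              rw [Finset.mem_Ioo] at hj
              have h : p ^ (t + 1) = p ^ (v + 1) := by
                have h1 : p ^ t * j + p ^ t * (p - j) = n := by rw [hkv] at hsum; rw [ha, hb]; exact hsum
                rw [← hnv', ← h1, ← mul_add, pow_succ, Nat.add_sub_cancel' hj.2.le]
              exact hv (by have := Nat.pow_right_injective hp.two_le h; obtain rfl : t = v := by omega
                           exact ht))]
          refine hD _ _ ?_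
          rw [Finset.mem_range] at hv
          rw [hkv] at hsum
          rw [hsum, hnv']
          have := Nat.lt_pow_self (n := v + 1) hp.one_lt
          omega
      · rw [Finset.sum_eq_zero fun t _ => mul_eq_zero_of_right _ (Finset.sum_eq_zero fun j hj => by
            rw [if_neg, mul_zero]
            rintro ⟨ha, hb⟩
            rw [Finset.mem_Ioo] at hj
            refine hpp ⟨t + 1, ?_⟩
            rw [← hsum, ← hb, ← ha, ← mul_add, pow_succ, Nat.add_sub_cancel' hj.2.le]), add_zero]
        have hu : IsUnit ((n.choose (kk p n) : ℕ) : R) := by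
          refine unit_cast p ?_
          rw [hkv, hnv, choose_one, Ne, ZMod.natCast_eq_zero_iff]
          exact hnot hpp
        by_cases hnD : n ≤ D
        · rw [if_pos hnD]
          simp only [g]
          rw [if_neg (show n ≠ 0 by omega), if_pos ⟨hn, hpp⟩, mul_assoc, Ring.inverse_mul_cancel _ hu, mul_one]
        · rw [if_neg hnD]
          exact hD _ _ (by omega)
  exact sub_eq_zero.1 key

theorem main (F : MvPolynomial (Fin 2) R) :
    (aeval ![X 1, X 0] F = F ∧
      aeval ![X 0, X 1 + X 2] F + aeval ![X 1, X 2] F - aeval ![X 0 + X 1, X 2] F - aeval ![X 0, X 1] F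
        = (0 : MvPolynomial (Fin 3) R)) ↔
      ∃ (G : Polynomial R) (N : ℕ) (r : ℕ → R),
        F = Polynomial.aeval (X 0 + X 1 : MvPolynomial (Fin 2) R) G - Polynomial.aeval (X 0 : MvPolynomial (Fin 2) R) G
              - Polynomial.aeval (X 1 : MvPolynomial (Fin 2) R) G
            + ∑ i ∈ Finset.range N, C (r i) *
                aeval ![X 0 ^ p ^ i, X 1 ^ p ^ i]
                  (∑ j ∈ Finset.Ioo 0 p, C ((p.choose j / p : ℕ) : R) *
                    X 0 ^ j * X 1 ^ (p - j) : MvPolynomial (Fin 2) R) := by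
  simp only [aeval_S, Matrix.cons_val_zero, Matrix.cons_val_one]
  constructor
  · rintro ⟨hs, hd⟩
    exact main' p F hs hd
  · rintro ⟨G, N, r, rfl⟩
    exact rhs_cocycle p G N r

end

end Groth.Agent.GaCocycle
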