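import Groth.Statements.S14622
import Groth.Agent.EtStalk.Pullback
import Mathlib

set_option autoImplicit false
open CategoryTheory AlgebraicGeometry
universe u
open EtBase

set_option backward.isDefEq.respectTransparency false

namespace Groth.Agent.S14622

/-- Let g : Y' → Y be a morphism of schemes which is surjective on points. Then for every abelian sheaf
F on the small étale site of Y the unit F → g_* g⁻¹ F of the adjunction between inverse image and
direct image is a monomorphism. -/
theorem result {Y Y' : Scheme.{u}} (g : Y' ⟶ Y) [Surjective g]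
    (F : EtCoh.Ab Y) : Mono ((EtCoh.pullPushAdj g).unit.app F) := by
  have key : Presheaf.IsLocallyInjective Y.smallEtaleTopology
      ((EtCoh.pullPushAdj g).unit.app F).hom := by
    refine Groth.Agent.EtStalk.isLocallyInjective_of_covers _
      (P := fun Ω _ _ ξ => ∃ ξ' : Spec (CommRingCat.of Ω) ⟶ Y', ξ' ≫ g = ξ) ?_ ?_
    · intro s
      obtain ⟨s', rfl⟩ := g.surjective s
      obtain ⟨Ω, _, _, ξ', -, h'⟩ := Groth.Agent.EtStalk.covers_all (X := Y') s'
      exact ⟨Ω, inferInstance, inferInstance, ξ' ≫ g, ⟨ξ', rfl⟩, by rw [← h']; rfl⟩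
    · rintro Ω _ _ ξ ⟨ξ', rfl⟩
      have : IsSplitMono ((EtCoh.pull g).map ((EtCoh.pullPushAdj g).unit.app F)) :=
        ⟨⟨⟨(EtCoh.pullPushAdj g).counit.app _, (EtCoh.pullPushAdj g).left_triangle_components F⟩⟩⟩
      have h2 : Mono ((EtCoh.stalk (ξ' ≫ g)).map ((EtCoh.pullPushAdj g).unit.app F)) :=
        ((MorphismProperty.monomorphisms _).arrow_mk_iso_iff
          (((Functor.mapArrowFunctor _ _).mapIso (Groth.Agent.EtStalk.stalkPullIso g ξ')).app
            (Arrow.mk ((EtCoh.pullPushAdj g).unit.app F)))).mpr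
          (inferInstanceAs (Mono ((EtCoh.stalk ξ').map
            ((EtCoh.pull g).map ((EtCoh.pullPushAdj g).unit.app F)))))
      exact (AddCommGrpCat.mono_iff_injective _).mp h2
  exact Sheaf.mono_of_isLocallyInjective _

end Groth.Agent.S14622
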