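import Groth.Statements.S2036
import Groth.Agent.S4512
import Groth.Agent.S4573

set_option autoImplicit false
universe u
open CAlg

namespace Groth.Agent.S2036

/-- Let `k` be a field of characteristic `p > 0` and `A` a Noetherian local `k`-algebra. Then `A` is
geometrically regular over `k` if and only if `k → A` is formally smooth for the adic topology of
the maximal ideal. -/
theorem result {k A : Type u} [Field k] (p : ℕ)
    [Fact p.Prime] [CharP k p] [CommRing A] [IsLocalRing A] [IsNoetherianRing A] [Algebra k A] :
    CAlg.IsGeometricallyRegular k A ↔ CAlgX.IsAdicFormallySmooth k A (IsLocalRing.maximalIdeal A) := by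
  haveI : ExpChar k p := ExpChar.prime (Fact.out : p.Prime)
  exact ⟨fun h => (Groth.Agent.S4573.result p).mpr fun k' _ _ hfin _ => h k' hfin,
    fun h => (Groth.Agent.S4512.result h).1⟩

end Groth.Agent.S2036
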