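import Groth.Statements.S2022
import Groth.Agent.IndSmoothLift.Basic
-- import your own Groth.Agent.* helpers here

set_option autoImplicit false
universe u
open Smoothing

namespace Groth.Agent.S2022

/-- Let `I` be a nilpotent ideal of `R` and `Λ` a flat `R`-algebra such that `Λ/IΛ` is ind-smooth over
`R/I` (every map from a finitely presented algebra factors through a smooth one). Then `Λ` is
ind-smooth over `R`. -/
theorem result {R Λ : Type u} [CommRing R] [CommRing Λ]
    [Algebra R Λ] (I : Ideal R) (hI : IsNilpotent I) [Module.Flat R Λ]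
    (h : Smoothing.IndSmooth (R ⧸ I) (Λ ⧸ I.map (algebraMap R Λ))) :
    Smoothing.IndSmooth R Λ := by
  obtain ⟨n, hn⟩ := hI
  exact Groth.Agent.IndSmoothLift.indSmooth_of_nilpotent n I (by rw [pow_succ, hn, Submodule.zero_eq_bot, Ideal.bot_mul]) h

end Groth.Agent.S2022
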