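import Groth.Statements.S0090
import Groth.Agent.SepClosedNormal.Basic

set_option autoImplicit false
open CategoryTheory CategoryTheory.Limits AlgebraicGeometry Opposite
universe u
open EtBase

set_option backward.isDefEq.respectTransparency false

namespace Groth.Agent.S0090

/-- Part (2) — every local ring of an integral normal scheme with separably closed function field is
strictly henselian. -/
theorem result (X : Scheme.{u}) [IsIntegral X] (hN : ∀ x : X, IsIntegrallyClosed (X.presheaf.stalk x))
    [IsSepClosed X.functionField] (x : X) : EtCoh.IsStrictlyHenselianLocalRing (X.presheaf.stalk x) := by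
  haveI := hN x
  haveI : IsDomain (X.presheaf.stalk x) := inferInstance
  haveI : IsSepClosed (FractionRing (X.presheaf.stalk x)) := by
    let e : X.functionField ≃+* FractionRing (X.presheaf.stalk x) :=
      (FractionRing.algEquiv (X.presheaf.stalk x) X.functionField).symm.toRingEquiv
    refine IsSepClosed.of_exists_root _ fun q hq hi hs => ?_
    obtain ⟨z, hz⟩ := IsSepClosed.exists_root (q.map (e.symm : FractionRing (X.presheaf.stalk x) →+* X.functionField))
      (by rw [Polynomial.degree_map]; exact hi.degree_pos.ne') hs.map
    refine ⟨e z, ?_⟩
    have := hz.map (f := (e : X.functionField →+* FractionRing (X.presheaf.stalk x)))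
    rwa [Polynomial.map_map, RingEquiv.comp_symm, Polynomial.map_id] at this
  exact ⟨Groth.Agent.SepClosedNormal.henselianLocalRing, Groth.Agent.SepClosedNormal.isSepClosed_residueField⟩

end Groth.Agent.S0090
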