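import Groth.Statements.S7621
import Mathlib

set_option autoImplicit false
universe u
open CategoryTheory CategoryTheory.Limits AlgebraicGeometry
open Variety

set_option backward.isDefEq.respectTransparency false
namespace Groth.Agent.S7621

section
open CategoryTheory CategoryTheory.Limits AlgebraicGeometry TensorProduct

theorem local_stab (k : Type u) [Field k] (K : Type u) [Field K] [Algebra k K] [IsGalois k K]
    (X : Scheme.{u}) [X.Over (Spec (CommRingCat.of k))] {R : CommRingCat.{u}} (o : Spec R ⟶ X) [IsOpenImmersion o]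
    (V : Set ↥(Curv2.bc k X K)) (hV : IsOpen V) (v : ↥(Curv2.bc k X K)) (hv : v ∈ V)
    (hvo : (pullback.fst (X ↘ Spec (CommRingCat.of k)) (Spec.map (CommRingCat.ofHom (algebraMap k K)))).base v ∈ Set.range o.base) :
    ∃ (W : Set ↥(Curv2.bc k X K)) (S : Finset K), IsOpen W ∧ v ∈ W ∧ W ⊆ V ∧
      ∀ σ : K ≃ₐ[k] K, (∀ a ∈ S, σ a = a) → ∀ x ∈ W, (Curv2.galAct k X K σ).base x ∈ W := by
  classical
  let s := X ↘ Spec (CommRingCat.of k)
  let w := Spec.map (CommRingCat.ofHom (algebraMap k K))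
  obtain ⟨φ, hφ⟩ := Spec.map_surjective (o ≫ s)
  letI : Algebra k R := φ.hom.toAlgebra
  let e : Spec (CommRingCat.of ((R : Type u) ⊗[k] K)) ≅ pullback o (pullback.fst s w) :=
    (pullbackSpecIso k R K).symm ≪≫ pullback.congrHom hφ rfl ≪≫ (pullbackRightPullbackFstIso s w o).symm
  let j := e.hom ≫ pullback.snd o (pullback.fst s w)
  have hj1 : j ≫ pullback.fst s w = Spec.map (CommRingCat.ofHom (Algebra.TensorProduct.includeLeftRingHom : (R : Type u) →+* (R : Type u) ⊗[k] K)) ≫ o := by
    simp only [j, Category.assoc, ← pullback.condition]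
    simp [e, pullback.map]
    erw [pullback.lift_fst_assoc, reassoc_of% (pullbackSpecIso_inv_fst k R K)]
  have hj2 : j ≫ pullback.snd s w = Spec.map (CommRingCat.ofHom (Algebra.TensorProduct.includeRight : K →ₐ[k] (R : Type u) ⊗[k] K).toRingHom) := by
    simp [j, e, pullback.map]
    erw [pullback.lift_snd, pullbackSpecIso_inv_snd k R K]
  have hr : v ∈ Set.range j.base := by
    have hv' : v ∈ Set.range (pullback.snd o (pullback.fst s w)).base := by
      rw [IsOpenImmersion.range_pullbackSnd]; exact hvo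
    obtain ⟨y, hy⟩ := hv'
    obtain ⟨y', rfl⟩ := Scheme.Hom.surjective e.hom y
    exact ⟨y', hy⟩
  obtain ⟨y, hy⟩ := hr
  obtain ⟨_, ⟨f', ⟨f, rfl⟩, rfl⟩, hyf, hfV⟩ := PrimeSpectrum.isBasis_basic_opens.exists_subset_of_mem_open
    (show y ∈ j.base ⁻¹' V by rw [Set.mem_preimage, hy]; exact hv) (hV.preimage j.base.hom.continuous)
  have hfix : ∀ x : (R : Type u) ⊗[k] K, ∃ S : Finset K, ∀ σ : K →ₐ[k] K, (∀ a ∈ S, σ a = a) →
      Algebra.TensorProduct.map (AlgHom.id k (R : Type u)) σ x = x := by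
    intro x
    induction x using TensorProduct.induction_on with
    | zero => exact ⟨∅, fun σ _ => map_zero _⟩
    | tmul a b => exact ⟨{b}, fun σ hσ => by simp [hσ b (by simp)]⟩
    | add x y hx hy =>
      obtain ⟨S, hS⟩ := hx
      obtain ⟨S', hS'⟩ := hy
      exact ⟨S ∪ S', fun σ hσ => by
        rw [map_add, hS σ (fun a ha => hσ a (Finset.mem_union_left _ ha)), hS' σ (fun a ha => hσ a (Finset.mem_union_right _ ha))]⟩
  obtain ⟨S, hS⟩ := hfix f
  refine ⟨j.base '' (PrimeSpectrum.basicOpen f).1, S, j.isOpenEmbedding.isOpenMap _ (PrimeSpectrum.basicOpen f).2, ⟨y, hyf, hy⟩,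
    Set.image_subset_iff.2 hfV, ?_⟩
  rintro σ hσ _ ⟨z, hz, rfl⟩
  let Φ := Algebra.TensorProduct.map (AlgHom.id k (R : Type u)) (σ : K →ₐ[k] K)
  have comm : j ≫ Curv2.galAct k X K σ = Spec.map (CommRingCat.ofHom Φ.toRingHom) ≫ j := by
    refine pullback.hom_ext ?_ ?_
    · simp only [Curv2.galAct, Category.assoc, pullback.lift_fst, Category.comp_id]
      erw [hj1]
      rw [← Category.assoc, ← Spec.map_comp]
      congr 2
      ext a
      simp [Φ]
    · simp only [Curv2.galAct, Category.assoc, pullback.lift_snd]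
      erw [reassoc_of% hj2, hj2]
      rw [← Spec.map_comp, ← Spec.map_comp]
      congr 1
  refine ⟨PrimeSpectrum.comap Φ.toRingHom z, ?_, ?_⟩
  · show Φ f ∉ z.asIdeal
    rw [hS _ (fun a ha => hσ a ha)]
    exact hz
  · exact (congrArg (fun φ => φ.base z) comm).symm

theorem galAct_stabilises (k : Type u) [Field k] (K : Type u) [Field K] [Algebra k K] [IsGalois k K]
    (X : Scheme.{u}) [X.Over (Spec (CommRingCat.of k))] (V : Set ↥(Curv2.bc k X K)) (hV : IsOpen V) (hVc : IsCompact V) :
    ∃ E : IntermediateField k K, FiniteDimensional k ↥E ∧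
      ∀ σ : K ≃ₐ[k] K, (∀ a : K, a ∈ E → σ a = a) → (Curv2.galAct k X K σ).base '' V = V := by
  classical
  have hloc : ∀ v : V, ∃ (W : Set ↥(Curv2.bc k X K)) (S : Finset K), IsOpen W ∧ v.1 ∈ W ∧ W ⊆ V ∧
      ∀ σ : K ≃ₐ[k] K, (∀ a ∈ S, σ a = a) → ∀ x ∈ W, (Curv2.galAct k X K σ).base x ∈ W := fun v => by
    obtain ⟨i, y, hy⟩ := X.affineOpenCover.openCover.exists_eq
      ((pullback.fst (X ↘ Spec (CommRingCat.of k)) (Spec.map (CommRingCat.ofHom (algebraMap k K)))).base v.1)
    exact local_stab k K X (X.affineOpenCover.f i) V hV v.1 v.2 ⟨y, hy⟩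
  choose W S hWo hvW hWV hWS using hloc
  obtain ⟨T, hT⟩ := hVc.elim_finite_subcover W hWo (fun x hx => Set.mem_iUnion.2 ⟨⟨x, hx⟩, hvW ⟨x, hx⟩⟩)
  let E := IntermediateField.adjoin k ((T.biUnion S : Finset K) : Set K)
  refine ⟨E, IntermediateField.finiteDimensional_adjoin (fun a _ => Algebra.IsIntegral.isIntegral a), fun σ hσ => ?_⟩
  have step : ∀ τ : K ≃ₐ[k] K, (∀ a : K, a ∈ E → τ a = a) → ∀ x ∈ V, (Curv2.galAct k X K τ).base x ∈ V := by
    intro τ hτ x hx
    obtain ⟨v, hvT, hxv⟩ := Set.mem_iUnion₂.1 (hT hx)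
    exact hWV v (hWS v τ (fun a ha => hτ a (IntermediateField.subset_adjoin k _ (Finset.mem_biUnion.2 ⟨v, hvT, ha⟩))) x hxv)
  refine Set.Subset.antisymm (Set.image_subset_iff.2 (step σ hσ)) fun x hx => ?_
  have hσ' : ∀ a : K, a ∈ E → σ.symm a = a := fun a ha => by rw [AlgEquiv.symm_apply_eq, hσ a ha]
  refine ⟨(Curv2.galAct k X K σ.symm).base x, step _ hσ' x hx, ?_⟩
  have h : Curv2.galAct k X K σ.symm ≫ Curv2.galAct k X K σ = 𝟙 _ := by
    refine pullback.hom_ext ?_ ?_
    · simp [Curv2.galAct]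
    · simp only [Curv2.galAct, Category.assoc, pullback.lift_snd, Category.id_comp]
      erw [pullback.lift_snd_assoc]
      rw [Category.assoc, ← Spec.map_comp, ← CommRingCat.ofHom_comp]
      convert Category.comp_id _ using 2
      rw [← Spec.map_id]
      congr 1
      ext a
      simp
  exact congrArg (fun φ => φ.base x) h

end


/-- Let K be a (possibly infinite) Galois extension of a field k, X a scheme over k and V a
quasi-compact open subset of X_K. Then there is a subextension k'/k of K, finite over k, such that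
every k-automorphism of K fixing k' pointwise maps V onto itself under its action on X_K (an open
subgroup of the Galois group stabilises V). -/
theorem result (k : Type u) [Field k] (K : Type u) [Field K] [Algebra k K] [IsGalois k K]
    (X : Scheme.{u}) [X.Over (Spec (CommRingCat.of k))] (V : Set ↥(Curv2.bc k X K)) (hV : IsOpen V) (hVc : IsCompact V) :
    ∃ E : IntermediateField k K, FiniteDimensional k ↥E ∧
      ∀ σ : K ≃ₐ[k] K, (∀ a : K, a ∈ E → σ a = a) → (Curv2.galAct k X K σ).base '' V = V := by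
  exact galAct_stabilises k K X V hV hVc

end Groth.Agent.S7621
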