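import Groth.Statements.S1546
import Groth.Agent.GeomConn.Comp
import Groth.Agent.SepBC.Closed

set_option autoImplicit false
universe u
open CategoryTheory CategoryTheory.Limits AlgebraicGeometry
open Variety

set_option backward.isDefEq.respectTransparency false
set_option linter.style.haveILetI false
set_option maxHeartbeats 800000
namespace Groth.Agent.S1546

/-- For a field extension K of k and a scheme X over k, the image in X of an irreducible component of
X_K is an irreducible component of X, and every irreducible component of X is such an image. -/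
theorem result (k : Type u) [Field k] (X : Scheme.{u}) [X.Over (Spec (CommRingCat.of k))] (K : Type u) [Field K] [Algebra k K] :
    (∀ T ∈ irreducibleComponents (Curv2.bc k X K : Type u), (Curv2.bcFst k X K).base '' T ∈ irreducibleComponents (X : Type u)) ∧
    (∀ Z ∈ irreducibleComponents (X : Type u), ∃ T ∈ irreducibleComponents (Curv2.bc k X K : Type u), (Curv2.bcFst k X K).base '' T = Z) := by
  let f := X ↘ Spec (CommRingCat.of k)
  let π := Curv2.bcFst k X K
  haveI : Flat π := MorphismProperty.pullback_fst _ _ inferInstance
  let k' := AlgebraicClosure k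
  let L := AlgebraicClosure K
  let ι : k' →ₐ[k] L := IsAlgClosed.lift
  letI := ι.toRingHom.toAlgebra
  haveI : IsScalarTower k k' L := IsScalarTower.of_algebraMap_eq fun c => (ι.commutes c).symm
  obtain ⟨q, hq, hqP⟩ := Groth.Agent.GeomConn.exists_factor (k' := K) (L := L) f
  obtain ⟨q', hq', hqP'⟩ := Groth.Agent.GeomConn.exists_factor (k' := k') (L := L) f
  have hqs : Function.Surjective q := (Groth.Agent.GeomConn.factor_props f hqP).1
  have hqs' : Function.Surjective q' := (Groth.Agent.GeomConn.factor_props f hqP').1
  let p := pullback.fst f (Spec.map (CommRingCat.ofHom (algebraMap k k')))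
  haveI : IsIntegralHom (Spec.map (CommRingCat.ofHom (algebraMap k k'))) :=
    IsIntegralHom.SpecMap_iff.mpr (algebraMap_isIntegral_iff.mpr inferInstance)
  haveI : IsIntegralHom p := MorphismProperty.pullback_fst _ _ inferInstance
  have hsurj : Function.Surjective π := by
    haveI : Surjective (Spec.map (CommRingCat.ofHom (algebraMap k K))) := Groth.Agent.GeomConn.surjective_Spec_field
    haveI : Surjective π := MorphismProperty.pullback_fst _ _ inferInstance
    exact π.surjective
  have key : ∀ T ∈ irreducibleComponents ↥(Curv2.bc k X K), π '' T ∈ irreducibleComponents ↥X := by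
    intro T hT
    obtain ⟨η, hη⟩ := QuasiSober.sober hT.1 (isClosed_of_mem_irreducibleComponents T hT)
    obtain ⟨ξ, hξ⟩ := QuasiSober.sober (isIrreducible_irreducibleComponent (x := π η)) isClosed_irreducibleComponent
    obtain ⟨z, hz, hzξ⟩ := Flat.generalizingMap π (hξ.specializes mem_irreducibleComponent)
    have hzT : z ∈ T := by
      refine hT.2 isIrreducible_singleton.closure ?_ (subset_closure rfl)
      rw [← hη.def]
      exact closure_minimal (Set.singleton_subset_iff.2 hz.mem_closure) isClosed_closure
    have hηξ : π η ⤳ ξ := hzξ ▸ (hη.specializes hzT).map π.continuous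
    have hZ : closure ({π η} : Set X) = irreducibleComponent (π η) := by
      refine (closure_minimal (Set.singleton_subset_iff.2 mem_irreducibleComponent) isClosed_irreducibleComponent).antisymm ?_
      rw [← hξ.def]
      exact closure_minimal (Set.singleton_subset_iff.2 hηξ.mem_closure) isClosed_closure
    have hsub : π '' T ⊆ irreducibleComponent (π η) := by
      rintro _ ⟨t, ht, rfl⟩
      rw [← hZ]
      exact ((hη.specializes ht).map π.continuous).mem_closure
    obtain ⟨a, ha⟩ := hqs η
    let E := q' ⁻¹' closure ({q' a} : Set _)
    have hE : IsIrreducible E := by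
      have h := Groth.Agent.SepBC.isIrreducible_preimage (k := k') (K := L)
        (pullback.snd f (Spec.map (CommRingCat.ofHom (algebraMap k k')))) (C := closure ({q' a} : Set _)) isIrreducible_singleton.closure
      have h' := h.image hqP'.isoPullback.inv hqP'.isoPullback.inv.continuous.continuousOn
      convert h' using 1
      ext x
      constructor
      · intro hx
        refine ⟨hqP'.isoPullback.hom x, ?_, ?_⟩
        · rw [Set.mem_preimage, ← Scheme.Hom.comp_apply, hqP'.isoPullback_hom_fst]
          exact hx
        · rw [← Scheme.Hom.comp_apply, Iso.hom_inv_id]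
          rfl
      · rintro ⟨y, hy, rfl⟩
        rw [Set.mem_preimage, ← Scheme.Hom.comp_apply, hqP'.isoPullback_inv_fst]
        exact hy
    have hET : ∀ e ∈ E, q e ∈ T := by
      intro e he
      refine hT.2 (hE.image q q.continuous.continuousOn).closure ?_ (subset_closure ⟨e, he, rfl⟩)
      rw [← hη.def]
      exact closure_minimal (Set.singleton_subset_iff.2 (subset_closure ⟨a, subset_closure rfl, ha⟩)) isClosed_closure
    have hcomp : ∀ e, π (q e) = p (q' e) := fun e =>
      congrArg (fun g : _ ⟶ X => g e) (hq.trans hq'.symm)
    have hsup : irreducibleComponent (π η) ⊆ π '' T := by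
      rw [← hZ]
      have hc : IsClosed (p '' closure ({q' a} : Set _)) := p.isClosedMap _ isClosed_closure
      refine (closure_minimal (Set.singleton_subset_iff.2 ?_) hc).trans ?_
      · exact ⟨q' a, subset_closure rfl, by rw [← hcomp a, ha]⟩
      · rintro _ ⟨w, hw, rfl⟩
        obtain ⟨e, rfl⟩ := hqs' w
        exact ⟨q e, hET e hw, hcomp e⟩
    rw [hsub.antisymm hsup]
    exact irreducibleComponent_mem_irreducibleComponents _
  refine ⟨key, fun Z hZ => ?_⟩
  obtain ⟨ξ, hξ⟩ := QuasiSober.sober hZ.1 (isClosed_of_mem_irreducibleComponents Z hZ)
  obtain ⟨y, hy⟩ := hsurj ξ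
  refine ⟨irreducibleComponent y, irreducibleComponent_mem_irreducibleComponents y, ?_⟩
  have h1 := key _ (irreducibleComponent_mem_irreducibleComponents y)
  have hle : Z ⊆ π '' irreducibleComponent y := by
    rw [← hξ.def]
    exact closure_minimal (Set.singleton_subset_iff.2 ⟨y, mem_irreducibleComponent, hy⟩) (isClosed_of_mem_irreducibleComponents _ h1)
  exact (hZ.2 h1.1 hle).antisymm hle

end Groth.Agent.S1546
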