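import Groth.Statements.S7595
import Mathlib


set_option autoImplicit false
universe u
open CategoryTheory CategoryTheory.Limits AlgebraicGeometry
open Variety

set_option backward.isDefEq.respectTransparency false
namespace Groth.Agent.S7595

/-- Let X be a scheme over a field k, K an extension field of k and T an irreducible component of X.
Then each point of the inverse image of T in X_K lies on some irreducible component of X_K that is
contained in this inverse image; so the inverse image of T is the union of the irreducible
components of X_K lying inside it. -/
theorem result (k : Type u) [Field k] (X : Scheme.{u}) [X.Over (Spec (CommRingCat.of k))] (K : Type u) [Field K] [Algebra k K]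
    (T : Set ↥X) (hT : T ∈ irreducibleComponents ↥X) :
    (Curv2.bcFst k X K).base ⁻¹' T = ⋃₀ {Z : Set ↥(Curv2.bc k X K) | Z ∈ irreducibleComponents ↥(Curv2.bc k X K) ∧ Z ⊆ (Curv2.bcFst k X K).base ⁻¹' T} := by
  let π := Curv2.bcFst k X K
  haveI : Flat π := MorphismProperty.pullback_fst _ _ inferInstance
  have hTc : IsClosed T := isClosed_of_mem_irreducibleComponents T hT
  obtain ⟨ξ, hξ⟩ := QuasiSober.sober hT.1 hTc
  refine Set.Subset.antisymm (fun y hy => ?_) (Set.sUnion_subset fun Z hZ => hZ.2)
  obtain ⟨z, hzy, hz⟩ := (Flat.generalizingMap (f := π)) (hξ.specializes hy)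
  let Z := irreducibleComponent z
  obtain ⟨η, hη⟩ := QuasiSober.sober isIrreducible_irreducibleComponent (isClosed_irreducibleComponent (x := z))
  have hηz : η ⤳ z := hη.specializes mem_irreducibleComponent
  have h1 : π η ⤳ ξ := hz ▸ hηz.map π.continuous
  have h2 : π η ∈ T := by
    have hT' : closure ({π η} : Set X) = T := by
      refine ((hT.2 isIrreducible_singleton.closure ?_).antisymm ?_)
      · rw [← hξ.def]
        exact closure_minimal (Set.singleton_subset_iff.2 h1.mem_closure) isClosed_closure
      · rw [← hξ.def]
        exact closure_minimal (Set.singleton_subset_iff.2 h1.mem_closure) isClosed_closure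
    exact hT' ▸ subset_closure rfl
  refine ⟨Z, ⟨irreducibleComponent_mem_irreducibleComponents z, ?_⟩,
    (isClosed_irreducibleComponent (x := z)).stableUnderSpecialization hzy mem_irreducibleComponent⟩
  intro w hw
  exact hTc.stableUnderSpecialization ((hη.specializes hw).map π.continuous) h2

end Groth.Agent.S7595
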