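import Groth.Statements.S1670
import Groth.Agent.GalComp.Basic
import Groth.Agent.S1546
import Groth.Agent.S7595

set_option autoImplicit false
universe u
open CategoryTheory CategoryTheory.Limits AlgebraicGeometry
open Variety

namespace Groth.Agent.S1670

/-- Let X be locally of finite type over k, K a separable closure of k, and T an irreducible component
of X. Then the inverse image of T in X_K is the union of the finitely many irreducible components of
X_K mapping into T, and these form a single orbit under the action of the k-automorphisms of K on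
X_K. -/
theorem result (k : Type u) [Field k] (X : Scheme.{u}) [X.Over (Spec (CommRingCat.of k))] [LocallyOfFiniteType (X ↘ (Spec (CommRingCat.of k)))]
    (T : Set X) (hT : T ∈ irreducibleComponents (X : Type u)) :
    {T' : Set (Curv2.bc k X (SeparableClosure k)) | T' ∈ irreducibleComponents (Curv2.bc k X (SeparableClosure k) : Type u) ∧
        (Curv2.bcFst k X (SeparableClosure k)).base '' T' ⊆ T}.Finite ∧
      (Curv2.bcFst k X (SeparableClosure k)).base ⁻¹' T = ⋃₀ {T' : Set (Curv2.bc k X (SeparableClosure k)) | T' ∈ irreducibleComponents (Curv2.bc k X (SeparableClosure k) : Type u) ∧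
        (Curv2.bcFst k X (SeparableClosure k)).base '' T' ⊆ T} ∧
      ∀ T' T'' : Set (Curv2.bc k X (SeparableClosure k)), T' ∈ irreducibleComponents (Curv2.bc k X (SeparableClosure k) : Type u) →
        T'' ∈ irreducibleComponents (Curv2.bc k X (SeparableClosure k) : Type u) →
        (Curv2.bcFst k X (SeparableClosure k)).base '' T' ⊆ T → (Curv2.bcFst k X (SeparableClosure k)).base '' T'' ⊆ T →
        ∃ σ : (SeparableClosure k) ≃ₐ[k] (SeparableClosure k), (Curv2.galAct k X (SeparableClosure k) σ).base '' T' = T'' := by
  let Ω := SeparableClosure k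
  let f := X ↘ Spec (CommRingCat.of k)
  let π := Curv2.bcFst k X Ω
  have hk := (Groth.Agent.S1546.result k X Ω).1
  have himg : ∀ T' ∈ irreducibleComponents (Curv2.bc k X Ω : Type u), π.base '' T' ⊆ T → π.base '' T' = T :=
    fun T' hT' hs => hs.antisymm ((hk T' hT').2 hT.1 hs)
  refine ⟨?_, ?_, fun T' T'' hT' hT'' hs' hs'' => ?_⟩
  · obtain ⟨x, hx⟩ := hT.1.nonempty
    obtain ⟨U, hU, hxU, -⟩ := exists_isAffineOpen_mem_and_subset (TopologicalSpace.Opens.mem_top x)
    let V := π ⁻¹ᵁ U
    haveI := Groth.Agent.GalComp.isIntegralHom_fst f Ω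
    haveI : IsAffine V := hU.preimage π
    haveI : LocallyOfFiniteType (V.ι ≫ Limits.pullback.snd f _) := inferInstance
    haveI : IsLocallyNoetherian V.toScheme :=
      LocallyOfFiniteType.isLocallyNoetherian (V.ι ≫ Limits.pullback.snd f _)
    haveI : IsNoetherian V.toScheme := {}
    have hfin := (TopologicalSpace.NoetherianSpace.finite_irreducibleComponents (α := V.toScheme))
    refine Set.Finite.subset (hfin.image fun S => closure (V.ι '' S)) fun T' hT' => ?_
    have hne : ((V : Set _) ∩ T').Nonempty := by
      have := himg T' hT'.1 hT'.2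
      obtain ⟨y, hy, hyx⟩ := (this.symm ▸ hx : x ∈ π.base '' T')
      exact ⟨y, show π.base y ∈ U by rw [hyx]; exact hxU, hy⟩
    refine ⟨V.ι ⁻¹' T', ?_, ?_⟩
    · exact preimage_mem_irreducibleComponents hT'.1 V.ι.isOpenEmbedding (by
        rw [Scheme.Opens.range_ι]; exact hne.mono fun y hy => ⟨hy.2, hy.1⟩)
    · show closure (V.ι '' (V.ι ⁻¹' T')) = T'
      rw [Set.image_preimage_eq_inter_range, Scheme.Opens.range_ι]
      exact subset_antisymm (closure_minimal Set.inter_subset_left (isClosed_of_mem_irreducibleComponents _ hT'.1))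
        (subset_closure_inter_of_isPreirreducible_of_isOpen hT'.1.1.isPreirreducible V.2 (hne.mono fun y hy => ⟨hy.2, hy.1⟩))
  · rw [Groth.Agent.S7595.result k X Ω T hT]
    congr 1
    ext Z
    exact and_congr_right fun _ => Set.image_subset_iff.symm
  · exact (Groth.Agent.GalComp.image_eq_iff f Ω hT' hT'').1 ((himg T' hT' hs').trans (himg T'' hT'' hs'').symm)

end Groth.Agent.S1670
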