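import Groth.Statements.S10485
import Groth.Agent.SpQS.FibreQF
import Groth.Agent.SpQS.GenPts
-- import your own Groth.Agent.* helpers here

set_option autoImplicit false
universe u
open CategoryTheory CategoryTheory.Limits AlgebraicGeometry Topology TopologicalSpace
open AlgSp

namespace Groth.Agent.S10485

/-- (4) ⇔ (5): let f : X ⟶ Y be a dominant morphism locally of finite type between integral algebraic
spaces over a scheme S, with generic points x and y. Then f is quasi-finite at x if and only if x is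
the only point of X mapping to y. -/
theorem result {S : Scheme.{u}} {X Y : AlgSp.Space S} (hXi : AlgSp.IsIntegralSp X.obj) (hYi : AlgSp.IsIntegralSp Y.obj)
    (f : X ⟶ Y) (hft : AlgSp.LocP @LocallyOfFiniteType f.hom) (hd : AlgSp.IsDominantMor f.hom)
    (x : AlgSp.Points X.obj) (hx : IsGenericPoint x (Set.univ : Set (AlgSp.Points X.obj)))
    (y : AlgSp.Points Y.obj) (hy : IsGenericPoint y (Set.univ : Set (AlgSp.Points Y.obj))) :
    AlgSp.HasAtMor (fun U _ h u => ∃ W : U.Opens, u ∈ W ∧ LocallyQuasiFinite (W.ι ≫ h) ∧ LocallyOfFiniteType (W.ι ≫ h)) f.hom x ↔ (∀ x' : AlgSp.Points X.obj, AlgSp.Points.map f.hom x' = y → x' = x) := by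
  obtain ⟨_, _⟩ := Groth.Agent.SpQS.t0_sober_of_decent Y.property hYi.2.1
  have hc := AlgSp.Points.continuous_map f.hom
  have hxy : AlgSp.Points.map f.hom x = y := by
    have h1 := hx.image hc
    rw [Set.image_univ, hd.closure_range] at h1
    exact h1.eq hy
  rw [Groth.Agent.SpQS.hasAtMor_nhd_iff X.property Y.property f.hom hft x]
  obtain ⟨h1, h2, -⟩ := Groth.Agent.SpQS.fibre_conditions f hft hYi.2.1 y ⟨x, hxy⟩
  refine ⟨fun hq x' hx' => ?_, fun h => h1.1 ?_⟩
  · have hcl := (h2.2 hq).1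
    have hs : (⟨x, hxy⟩ : ↥(AlgSp.Points.map f.hom ⁻¹' {y})) ⤳ ⟨x', hx'⟩ :=
      (subtype_specializes_iff _ _).2 (hx.specializes (Set.mem_univ x'))
    exact congrArg Subtype.val (hs.mem_closed hcl rfl : (⟨x', hx'⟩ : ↥(AlgSp.Points.map f.hom ⁻¹' {y})) ∈ _)
  · convert isOpen_univ
    exact Set.eq_univ_of_forall fun w => Subtype.ext (h w.1 w.2)

end Groth.Agent.S10485
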