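import Groth.Statements.S9807
import Groth.Agent.LocNoethTop.ClosedPoint
import Groth.Agent.SerreReg.Descent

set_option linter.style.haveILetI false

set_option autoImplicit false
universe u
open CategoryTheory AlgebraicGeometry TopologicalSpace
open Props

open CategoryTheory AlgebraicGeometry

namespace Groth.Agent.S9807

/-- Regularity passes to generizations. -/
theorem isRegularLocalRing_stalk_of_specializes {X : Scheme.{u}} {x y : X} (h : x ⤳ y)
    (hy : IsRegularLocalRing (X.presheaf.stalk y)) :
    IsRegularLocalRing (X.presheaf.stalk x) := by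
  obtain ⟨W, hW, hyW, -⟩ := exists_isAffineOpen_mem_and_subset (U := (⊤ : X.Opens)) (x := y) trivial
  let e : Spec Γ(X, W) ⟶ X := hW.fromSpec
  obtain ⟨q, rfl⟩ : y ∈ Set.range e := by rw [hW.range_fromSpec]; exact hyW
  obtain ⟨p, rfl⟩ : x ∈ Set.range e := by rw [hW.range_fromSpec]; exact h.mem_open W.2 hyW
  let st : ∀ z : Spec Γ(X, W), X.presheaf.stalk (e z) ≃+* Localization.AtPrime z.asIdeal := fun z =>
    (asIso (e.stalkMap z)).commRingCatIsoToRingEquiv.trans (StructureSheaf.stalkIso _ z).toRingEquiv.symm
  haveI : IsRegularLocalRing (Localization.AtPrime q.asIdeal) :=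
    (haveI := hy; IsRegularLocalRing.of_ringEquiv (st q))
  have hle : p.asIdeal ≤ q.asIdeal := (PrimeSpectrum.le_iff_specializes p q).mpr
    (e.isOpenEmbedding.isInducing.specializes_iff.mp h)
  have hdis : Disjoint (q.asIdeal.primeCompl : Set Γ(X, W)) (p.asIdeal : Set Γ(X, W)) :=
    Set.disjoint_left.mpr fun a ha hap => ha (hle hap)
  haveI := IsLocalization.isPrime_of_isPrime_disjoint q.asIdeal.primeCompl (Localization.AtPrime q.asIdeal)
    p.asIdeal p.2 hdis
  have hcomap := IsLocalization.under_map_of_isPrime_disjoint q.asIdeal.primeCompl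
    (Localization.AtPrime q.asIdeal) p.2 hdis
  let P := p.asIdeal.map (algebraMap Γ(X, W) (Localization.AtPrime q.asIdeal))
  have hP := Groth.Agent.SerreReg.isRegularLocalRing_localization (Localization.AtPrime q.asIdeal) P
  have hloc : ∀ (J : Ideal Γ(X, W)) [J.IsPrime], J = P.comap (algebraMap Γ(X, W) (Localization.AtPrime q.asIdeal)) →
      IsLocalization.AtPrime (Localization.AtPrime P) J := by
    intro J _ hJ
    subst hJ
    exact IsLocalization.isLocalization_isLocalization_atPrime_isLocalization q.asIdeal.primeCompl _ P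
  haveI := hloc p.asIdeal hcomap.symm
  haveI := hP
  exact IsRegularLocalRing.of_ringEquiv
    ((IsLocalization.algEquiv p.asIdeal.primeCompl (Localization.AtPrime P)
      (Localization.AtPrime p.asIdeal)).toRingEquiv.trans (st p).symm)


/-- A locally Noetherian scheme is regular (all local rings regular) as soon as its local rings at
closed points are regular, and conversely. -/
theorem result (X : Scheme.{u}) [IsLocallyNoetherian X] :
    (∀ x : X, IsRegularLocalRing (X.presheaf.stalk x)) ↔
      ∀ x : X, IsClosed ({x} : Set X) → IsRegularLocalRing (X.presheaf.stalk x) := by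
  refine ⟨fun h x _ => h x, fun h x => ?_⟩
  obtain ⟨y, hy, hyc⟩ := Groth.Agent.LocNoethTop.exists_isClosed_singleton X
    (isClosed_closure (s := {x})) ⟨x, subset_closure rfl⟩
  exact isRegularLocalRing_stalk_of_specializes (specializes_iff_mem_closure.mpr hy) (h y hyc)

end Groth.Agent.S9807
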