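import Groth.Statements.S10840
import Mathlib
import Groth.Agent.ProjInter.Main
import Groth.Agent.SyntLib.Field

set_option autoImplicit false
universe u
open AlgebraicGeometry Topology
open Variety

namespace Groth.Agent.S10840


section helpers
open MvPolynomial Groth.Agent.ProjInter

variable {k : Type u} [Field k]

lemma height_MM : (orig k (Fin 3)).height = (3 : ℕ∞) := by
  obtain ⟨a, b, ha, hb, hab⟩ := Groth.Agent.SyntLib.height_add_dim_poly (orig k (Fin 3))
  letI := Ideal.Quotient.field (orig k (Fin 3))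
  rw [ringKrullDim_eq_zero_of_field] at hb
  have hb0 : b = 0 := by exact_mod_cast hb.symm
  rw [ha, show a = 3 by omega]
  rfl

lemma one_le_H {I : Ideal (MvPolynomial (Fin 3) k)} (g : Fin 2 → MvPolynomial (Fin 3) k)
    (hI : I = Ideal.span (Set.range g)) (hIM : I ≤ orig k (Fin 3)) :
    (1 : ℕ∞) ≤ H I (orig k (Fin 3)) := by
  rw [ENat.one_le_iff_ne_zero]
  intro h0
  haveI hp : ((orig k (Fin 3)).map (Ideal.Quotient.mk I)).IsPrime :=
    Ideal.isPrime_map_quotientMk_of_isPrime hIM
  have hmin : (orig k (Fin 3)).map (Ideal.Quotient.mk I) ∈ minimalPrimes _ :=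
    Ideal.height_eq_zero_iff.1 h0
  have hMM : orig k (Fin 3) ∈ I.minimalPrimes := by
    rw [Ideal.minimalPrimes_eq_comap]
    refine ⟨_, hmin, ?_⟩
    rw [Ideal.comap_map_of_surjective _ Ideal.Quotient.mk_surjective]
    refine sup_eq_left.2 ?_
    rw [← RingHom.ker_eq_comap_bot, Ideal.mk_ker]
    exact hIM
  have h := Groth.Agent.SyntLib.height_le_of_minimal g (hI ▸ hMM)
  rw [height_MM] at h
  exact absurd h (by decide)

lemma exists_prime_span {P : Ideal (MvPolynomial (Fin 3) k)} [P.IsPrime] (h1 : P.height ≤ 1)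
    (hne : P ≠ ⊥) : ∃ π, Prime π ∧ P = Ideal.span {π} := by
  obtain ⟨π, hπP, hπ⟩ := Ideal.IsPrime.exists_mem_prime_of_ne_bot (I := P) inferInstance hne
  haveI : (Ideal.span {π}).IsPrime := (Ideal.span_singleton_prime hπ.ne_zero).2 hπ
  refine ⟨π, hπ, ?_⟩
  by_contra h
  have hlt : Ideal.span {π} < P := lt_of_le_of_ne ((Ideal.span_singleton_le_iff_mem _).2 hπP) (Ne.symm h)
  have h2 := Ideal.height_strict_mono_of_isPrime hlt
  have h3 : (Ideal.span {π} : Ideal (MvPolynomial (Fin 3) k)).height ≠ 0 := by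
    intro h0
    have h4 : Ideal.span {π} = ⊥ := by
      have := Ideal.height_eq_zero_iff.1 h0
      rwa [IsDomain.minimalPrimes_eq_singleton_bot, Set.mem_singleton_iff] at this
    exact hπ.ne_zero (Ideal.span_singleton_eq_bot.1 h4)
  exact h3 (ENat.lt_one_iff_eq_zero.1 (h2.trans_le h1))

lemma main_iff {n m : ℕ} (f g : MvPolynomial (Fin 3) k) (hf : f.IsHomogeneous n)
    (hg : g.IsHomogeneous m) (hn : 0 < n) (hm : 0 < m) (hf0 : f ≠ 0)
    [QuasiSober (ProjectiveSpectrum (CohB1.polyGrading 2 k))]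
    [T0Space (ProjectiveSpectrum (CohB1.polyGrading 2 k))] :
    topologicalKrullDim ↥(ProjectiveSpectrum.zeroLocus (CohB1.polyGrading 2 k)
      ({f, g} : Set (MvPolynomial (Fin 3) k))) = 0 ↔ IsRelPrime f g := by
  let Z := ProjectiveSpectrum.zeroLocus (CohB1.polyGrading 2 k) ({f, g} : Set (MvPolynomial (Fin 3) k))
  have hZ : IsClosed Z := ProjectiveSpectrum.isClosed_zeroLocus _ _
  haveI : QuasiSober Z := hZ.isClosedEmbedding_subtypeVal.quasiSober
  have hmem : ∀ P : ProjectiveSpectrum (CohB1.polyGrading 2 k),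
      P ∈ Z ↔ f ∈ P.asHomogeneousIdeal.toIdeal ∧ g ∈ P.asHomogeneousIdeal.toIdeal := by
    intro P
    show ({f, g} : Set (MvPolynomial (Fin 3) k)) ⊆ _ ↔ _
    rw [Set.insert_subset_iff, Set.singleton_subset_iff]
    rfl
  have hle : ∀ p : ProjectiveSpectrum (CohB1.polyGrading 2 k),
      p.asHomogeneousIdeal.toIdeal ≤ orig k (Fin 3) := fun p =>
    le_orig _ p.asHomogeneousIdeal.isHomogeneous p.isPrime.ne_top
  have hfM : f ∈ orig k (Fin 3) := by
    rw [constantCoeff_mem_orig, constantCoeff_eq]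
    exact hf.coeff_eq_zero (by simp; omega)
  have hgM : g ∈ orig k (Fin 3) := by
    rw [constantCoeff_mem_orig, constantCoeff_eq]
    exact hg.coeff_eq_zero (by simp; omega)
  have hlt : ∀ p : ProjectiveSpectrum (CohB1.polyGrading 2 k),
      p.asHomogeneousIdeal.toIdeal < orig k (Fin 3) := fun p =>
    lt_of_le_of_ne (hle p) (fun h => p.not_irrelevant_le (fun a ha => by
      show a ∈ p.asHomogeneousIdeal.toIdeal
      rw [h, ← irrelevant_eq (k := k) (n := 2)]
      exact ha))
  constructor
  · intro hdim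
    by_contra hcop
    rw [IsRelPrime] at hcop
    push Not at hcop
    obtain ⟨d, hdf, hdg, hdu⟩ := hcop
    obtain ⟨π, hπ, hπd⟩ := WfDvdMonoid.exists_irreducible_factor hdu
      (fun h => hf0 (zero_dvd_iff.1 (h ▸ hdf)))
    haveI hπp : (Ideal.span {π}).IsPrime := (Ideal.span_singleton_prime hπ.ne_zero).2 hπ.prime
    have hfP : f ∈ Ideal.span {π} := Ideal.mem_span_singleton.2 (hπd.trans hdf)
    have hgP : g ∈ Ideal.span {π} := Ideal.mem_span_singleton.2 (hπd.trans hdg)
    have hπ1 : (Ideal.span {π} : Ideal (MvPolynomial (Fin 3) k)).height ≤ 1 :=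
      Ideal.height_le_one_of_isPrincipal_of_mem_minimalPrimes (Ideal.span {π}) (Ideal.span {π})
        ⟨⟨hπp, le_rfl⟩, fun _ hP _ => hP.2⟩
    let C := (Ideal.span {π} : Ideal (MvPolynomial (Fin 3) k)).homogeneousCore (CohB1.polyGrading 2 k)
    have hCp : C.toIdeal.IsPrime := Ideal.IsPrime.homogeneousCore hπp
    have hfC : f ∈ C.toIdeal :=
      Ideal.mem_homogeneousCore_of_homogeneous_of_mem ⟨n, hf⟩ hfP
    have hgC : g ∈ C.toIdeal :=
      Ideal.mem_homogeneousCore_of_homogeneous_of_mem ⟨m, hg⟩ hgP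
    have hC : C.toIdeal = Ideal.span {π} := by
      refine eq_of_le_of_not_lt (Ideal.toIdeal_homogeneousCore_le _ _) (fun h => ?_)
      have h1 := Ideal.height_strict_mono_of_isPrime h
      have h2 : C.toIdeal ≠ ⊥ := fun e => hf0 (by rw [e] at hfC; exact hfC)
      refine h2 ?_
      have := Ideal.height_eq_zero_iff.1 (ENat.lt_one_iff_eq_zero.1 (h1.trans_le hπ1))
      rwa [IsDomain.minimalPrimes_eq_singleton_bot, Set.mem_singleton_iff] at this
    have hCM : C.toIdeal ≤ orig k (Fin 3) := le_orig _ C.isHomogeneous hCp.ne_top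
    have hCne : C.toIdeal ≠ orig k (Fin 3) := by
      intro e
      rw [← hC, e, height_MM] at hπ1
      exact absurd hπ1 (by decide)
    obtain ⟨i, hi⟩ := exists_X_notMem _ hCM hCne
    let P : ProjectiveSpectrum (CohB1.polyGrading 2 k) :=
      ⟨C, hCp, fun h => hCne (le_antisymm hCM (irrelevant_eq (k := k) (n := 2) ▸ h))⟩
    have hIM : C.toIdeal ⊔ Ideal.span {(X i : MvPolynomial (Fin 3) k)} ≤ orig k (Fin 3) :=
      sup_le hCM ((Ideal.span_singleton_le_iff_mem _).2
        ((constantCoeff_mem_orig _).2 (constantCoeff_X _ i)))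
    have hI : (C.toIdeal ⊔ Ideal.span {(X i : MvPolynomial (Fin 3) k)}).IsHomogeneous
        (CohB1.polyGrading 2 k) :=
      C.isHomogeneous.sup (Ideal.homogeneous_span _ _ fun x hx => by
        rw [Set.mem_singleton_iff.1 hx]
        exact ⟨1, isHomogeneous_X k i⟩)
    have hH := one_le_H ![π, X i] (I := C.toIdeal ⊔ Ideal.span {(X i : MvPolynomial (Fin 3) k)}) (by
      rw [hC, Matrix.range_cons, Matrix.range_cons, Matrix.range_empty, Set.union_empty,
        Ideal.span_union]) hIM
    obtain ⟨s, -, hs⟩ := exists_chain 0 _ hI hIM (by simpa using hH)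
    have hPQ : P ≤ s.head := fun a ha => hs (Ideal.mem_sup_left ha)
    have hne : P ≠ s.head := fun e => hi (by
      have h5 : (X i : MvPolynomial (Fin 3) k) ∈ s.head.asHomogeneousIdeal.toIdeal :=
        hs (Ideal.mem_sup_right (Ideal.mem_span_singleton_self _))
      rw [← e] at h5
      exact h5)
    have h1 : ((1 : ℕ) : WithBot ℕ∞) ≤ topologicalKrullDim Z := by
      refine Unibranch.natCast_le_topologicalKrullDim (α := Z)
        ![⟨P, (hmem P).2 ⟨hfC, hgC⟩⟩, ⟨s.head, (hmem _).2 ⟨hPQ hfC, hPQ hgC⟩⟩] (fun j => ?_)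
      fin_cases j
      exact ⟨(subtype_specializes_iff _ _).2
        (specializes_iff_mem_closure.2 ((ProjectiveSpectrum.le_iff_mem_closure _ _ _).1 hPQ)),
        fun h => hne (congrArg Subtype.val h)⟩
    rw [show topologicalKrullDim Z = 0 from hdim] at h1
    exact absurd h1 (by decide)
  · intro hcop
    refine le_antisymm ?_ ?_
    · by_contra hlt1
      have h1 : ((1 : ℕ) : WithBot ℕ∞) ≤ topologicalKrullDim Z := by
        rw [Nat.cast_one]
        exact Order.succ_le_of_lt (not_le.1 hlt1)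
      obtain ⟨c, hc⟩ := Unibranch.exists_chain_of_le_topologicalKrullDim (α := Z) (k := 1) h1
      have hPQ : (c 0).1.asHomogeneousIdeal.toIdeal < (c 1).1.asHomogeneousIdeal.toIdeal := by
        refine lt_of_le_of_ne ?_ (fun h => (hc 0).2 (Subtype.ext (ProjectiveSpectrum.ext
          (HomogeneousIdeal.ext h))))
        exact (ProjectiveSpectrum.le_iff_mem_closure _ _ _).2
          ((subtype_specializes_iff _ _).1 (hc 0).1).mem_closure
      haveI := (c 0).1.isPrime
      haveI := (c 1).1.isPrime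
      have h2 := Ideal.height_strict_mono_of_isPrime hPQ
      have h3 := Ideal.height_strict_mono_of_isPrime (hlt (c 1).1)
      rw [height_MM] at h3
      obtain ⟨hfc, hgc⟩ := (hmem _).1 (c 0).2
      have h4 : (c 0).1.asHomogeneousIdeal.toIdeal.height ≤ 1 := by
        by_contra h5
        have h6 : (2 : ℕ∞) ≤ (c 0).1.asHomogeneousIdeal.toIdeal.height :=
          Order.succ_le_of_lt (not_le.1 h5)
        have h7 : (3 : ℕ∞) ≤ (c 1).1.asHomogeneousIdeal.toIdeal.height :=
          Order.succ_le_of_lt (lt_of_le_of_lt h6 h2)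
        exact absurd (lt_of_le_of_lt h7 h3) (lt_irrefl _)
      obtain ⟨π, hπ, hP⟩ := exists_prime_span h4 (fun e => hf0 (by rw [e] at hfc; exact hfc))
      rw [hP, Ideal.mem_span_singleton] at hfc hgc
      exact hπ.not_unit (hcop hfc hgc)
    · have hI : (Ideal.span ({f, g} : Set (MvPolynomial (Fin 3) k))).IsHomogeneous
          (CohB1.polyGrading 2 k) :=
        Ideal.homogeneous_span _ _ fun x hx => by
          rcases hx with rfl | hx
          · exact ⟨n, hf⟩
          · rw [Set.mem_singleton_iff.1 hx]; exact ⟨m, hg⟩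
      have hIM : Ideal.span ({f, g} : Set (MvPolynomial (Fin 3) k)) ≤ orig k (Fin 3) := by
        rw [Ideal.span_le, Set.insert_subset_iff, Set.singleton_subset_iff]
        exact ⟨hfM, hgM⟩
      have hH := one_le_H ![f, g] (I := Ideal.span ({f, g} : Set (MvPolynomial (Fin 3) k)))
        (by rw [Matrix.range_cons, Matrix.range_cons, Matrix.range_empty, Set.union_empty]; rfl) hIM
      obtain ⟨s, -, hs⟩ := exists_chain 0 _ hI hIM (by simpa using hH)
      have := Unibranch.natCast_le_topologicalKrullDim (α := Z) (k := 0)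
        ![⟨s.head, (hmem _).2 ⟨hs (Ideal.subset_span (by simp)), hs (Ideal.subset_span (by simp))⟩⟩]
        (fun j => j.elim0)
      simpa using this

end helpers

/-- For a field k and nonzero homogeneous polynomials f, g of positive degrees in three variables, the
common zero set V_+(f, g) in the projective plane over k is zero-dimensional as a topological
subspace exactly when f and g are coprime, i.e. their only common divisors are the non-zero
constants. -/
theorem result (k : Type u) [Field k] (n m : ℕ)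
    (f g : MvPolynomial (Fin 3) k) (hf : f.IsHomogeneous n) (hg : g.IsHomogeneous m)
    (hn : 0 < n) (hm : 0 < m) (hf0 : f ≠ 0) (hg0 : g ≠ 0) :
    topologicalKrullDim ↥(ProjectiveSpectrum.zeroLocus (CohB1.polyGrading 2 k)
        ({f, g} : Set (MvPolynomial (Fin 3) k))) = 0 ↔ IsRelPrime f g := by
  haveI : QuasiSober (ProjectiveSpectrum (CohB1.polyGrading 2 k)) :=
    (inferInstance : QuasiSober ↥(CohB1.ProjSpace 2 k))
  haveI : T0Space (ProjectiveSpectrum (CohB1.polyGrading 2 k)) :=
    (inferInstance : T0Space ↥(CohB1.ProjSpace 2 k))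
  exact main_iff f g hf hg hn hm hf0

end Groth.Agent.S10840
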