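import Groth.Statements.S4649
import Groth.Agent.GeomPtInt.Open
import Groth.Agent.FlatMor.ReducedDescent
import Groth.Agent.Assoc.Reduced

set_option autoImplicit false
open CategoryTheory AlgebraicGeometry
universe u
open FBase

namespace Groth.Agent.S4649

open AlgebraicGeometry Limits in
/-- A reduced local ring is a domain exactly when one irreducible component passes through the point. -/
theorem isDomain_stalk_iff_subsingleton (P : Scheme.{u}) [IsReduced P] (x : P) :
    IsDomain (P.presheaf.stalk x) ↔
      ∀ Z ∈ irreducibleComponents P, ∀ Z' ∈ irreducibleComponents P, x ∈ Z → x ∈ Z' → Z = Z' := by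
  let j := P.fromSpecStalk x
  have hr : Set.range j = {y | y ⤳ x} := P.range_fromSpecStalk
  constructor
  · intro h Z hZ Z' hZ' hx hx'
    suffices ∀ W ∈ irreducibleComponents P, x ∈ W → W = closure {j ⟨⊥, Ideal.isPrime_bot⟩} by
      rw [this Z hZ hx, this Z' hZ' hx']
    intro W hW hxW
    have hWc := isClosed_of_mem_irreducibleComponents W hW
    have hη : hW.1.genericPoint ⤳ x :=
      (hW.1.isGenericPoint_genericPoint hWc).specializes hxW
    obtain ⟨q, hq⟩ : hW.1.genericPoint ∈ Set.range j := by rw [hr]; exact hη
    refine le_antisymm ?_ (hW.2 isIrreducible_singleton.closure ?_)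
    · conv_lhs => rw [← hW.1.closure_genericPoint hWc]
      refine closure_minimal ?_ isClosed_closure
      rw [Set.singleton_subset_iff, ← hq, ← specializes_iff_mem_closure]
      exact ((PrimeSpectrum.le_iff_specializes (⟨⊥, Ideal.isPrime_bot⟩ : PrimeSpectrum (P.presheaf.stalk x)) q).1
        bot_le).map j.continuous
    · conv_lhs => rw [← hW.1.closure_genericPoint hWc]
      refine closure_minimal ?_ isClosed_closure
      rw [Set.singleton_subset_iff, ← hq, ← specializes_iff_mem_closure]
      exact ((PrimeSpectrum.le_iff_specializes (⟨⊥, Ideal.isPrime_bot⟩ : PrimeSpectrum (P.presheaf.stalk x)) q).1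
        bot_le).map j.continuous
  · intro h
    have hx := mem_irreducibleComponent (x := x)
    have hZ := irreducibleComponent_mem_irreducibleComponents x
    have hZc := isClosed_of_mem_irreducibleComponents _ hZ
    obtain ⟨q, hq⟩ : hZ.1.genericPoint ∈ Set.range j := by
      rw [hr]; exact (hZ.1.isGenericPoint_genericPoint hZc).specializes hx
    haveI : IrreducibleSpace (PrimeSpectrum (P.presheaf.stalk x)) := by
      refine (irreducibleSpace_def _).2 ?_
      have : closure {q} = (Set.univ : Set (PrimeSpectrum (P.presheaf.stalk x))) := by
        refine Set.eq_univ_of_forall fun r => ?_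
        rw [← specializes_iff_mem_closure]
        refine (j.isEmbedding.isInducing.specializes_iff).1 ?_
        rw [hq]
        refine (hZ.1.isGenericPoint_genericPoint hZc).specializes ?_
        have hy : j r ⤳ x := (hr.le ⟨r, rfl⟩ : _)
        rw [← h _ (irreducibleComponent_mem_irreducibleComponents (j r)) _ hZ
          (hy.mem_closed (isClosed_of_mem_irreducibleComponents _ (irreducibleComponent_mem_irreducibleComponents (j r)))
            mem_irreducibleComponent) hx]
        exact mem_irreducibleComponent
      rw [Set.top_eq_univ, ← this]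
      exact isIrreducible_singleton.closure
    have h1 := PrimeSpectrum.irreducibleSpace_iff_isPrime_nilradical.1 ‹_›
    rw [nilradical_eq_zero] at h1
    haveI : (⊥ : Ideal (P.presheaf.stalk x)).IsPrime := h1
    exact IsDomain.of_bot_isPrime _

open AlgebraicGeometry in
/-- All local rings are domains exactly when the components are the connected components. -/
theorem forall_isDomain_iff (P : Scheme.{u}) [IsNoetherian P] :
    (∀ x : P, IsDomain (P.presheaf.stalk x)) ↔
      IsReduced P ∧ Nat.card ↥(irreducibleComponents P) = Nat.card (_root_.ConnectedComponents P) := by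
  haveI : Finite (irreducibleComponents P) := (finite_irreducibleComponents_of_isNoetherian (X := P)).to_subtype
  let c : irreducibleComponents P → _root_.ConnectedComponents P := fun Z => ConnectedComponents.mk Z.2.1.nonempty.some
  have hc : ∀ (Z : irreducibleComponents P) (x : P), x ∈ Z.1 → c Z = ConnectedComponents.mk x := fun Z x hx => by
    rw [ConnectedComponents.coe_eq_coe']
    exact Z.2.1.2.isPreconnected.subset_connectedComponent hx Z.2.1.nonempty.some_mem
  have hsurj : Function.Surjective c := fun y => by
    obtain ⟨x, rfl⟩ := ConnectedComponents.surjective_coe y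
    exact ⟨⟨_, irreducibleComponent_mem_irreducibleComponents x⟩, hc _ _ mem_irreducibleComponent⟩
  haveI : Finite (_root_.ConnectedComponents P) := Finite.of_surjective _ hsurj
  constructor
  · intro h
    haveI : IsReduced P := @isReduced_of_isReduced_stalk P fun x => by have := h x; infer_instance
    have hu := fun x => (isDomain_stalk_iff_subsingleton P x).1 (h x)
    refine ⟨‹_›, Nat.card_eq_of_bijective c ⟨fun Z W hZW => ?_, hsurj⟩⟩
    have hclopen : IsClopen Z.1 := by
      refine ⟨isClosed_of_mem_irreducibleComponents _ Z.2, ?_⟩
      have : Z.1ᶜ = ⋃ W ∈ irreducibleComponents P \ {Z.1}, W := by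
        ext y
        simp only [Set.mem_compl_iff, Set.mem_iUnion, Set.mem_sdiff, Set.mem_singleton_iff, exists_prop]
        constructor
        · intro hy
          exact ⟨_, ⟨irreducibleComponent_mem_irreducibleComponents y, fun e => hy (e ▸ mem_irreducibleComponent)⟩,
            mem_irreducibleComponent⟩
        · rintro ⟨W, ⟨hW, hne⟩, hyW⟩ hy
          exact hne (hu y W hW Z.1 Z.2 hyW hy)
      rw [← isClosed_compl_iff, this]
      exact (finite_irreducibleComponents_of_isNoetherian (X := P)).sdiff.isClosed_biUnion
        fun W hW => isClosed_of_mem_irreducibleComponents W hW.1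
    have hmem : W.2.1.nonempty.some ∈ Z.1 := by
      refine hclopen.connectedComponent_subset Z.2.1.nonempty.some_mem ?_
      rw [← ConnectedComponents.coe_eq_coe']
      exact hZW.symm
    exact Subtype.ext (hu _ Z.1 Z.2 W.1 W.2 hmem W.2.1.nonempty.some_mem)
  · rintro ⟨hred, hcard⟩ x
    have hinj := ((Nat.bijective_iff_surjective_and_card c).2 ⟨hsurj, hcard⟩).1
    exact (isDomain_stalk_iff_subsingleton P x).2 fun Z hZ W hW hxZ hxW =>
      congrArg Subtype.val (hinj ((hc ⟨Z, hZ⟩ x hxZ).trans (hc ⟨W, hW⟩ x hxW).symm))

/-- Let X be a scheme of finite type over a field k and Ω an algebraically closed extension field of k.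
Then X is geometrically pointwise integral over k (every local ring of every X ⊗_k K is a domain) if
and only if X is geometrically reduced over k and the number of irreducible components of X ⊗_k Ω
equals the number of connected components of X ⊗_k Ω (the geometric numbers of irreducible and of
connected components agree). -/
theorem result {k Ω : Type u} [Field k] [Field Ω] [Algebra k Ω] [IsAlgClosed Ω]
    {X : Scheme.{u}} (f : X ⟶ Spec (CommRingCat.of k)) [LocallyOfFiniteType f] [QuasiCompact f] :
    (∀ x : X, FBase.IsGeomPtIntegralAt f x) ↔
      (GeometricallyReduced f ∧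
        Nat.card ↥(irreducibleComponents ↥(FBase.bc f Ω)) = Nat.card (_root_.ConnectedComponents ↥(FBase.bc f Ω))) := by
  let v : Spec (CommRingCat.of Ω) ⟶ Spec (CommRingCat.of k) := Spec.map (CommRingCat.ofHom (algebraMap k Ω))
  let g := Limits.pullback.snd f v
  haveI : IsNoetherian (Limits.pullback f v) :=
    { __ := LocallyOfFiniteType.isLocallyNoetherian g
      __ := QuasiCompact.compactSpace_of_compactSpace g }
  have h1 : (∀ x : X, FBase.IsGeomPtIntegralAt f x) ↔
      ∀ p : ↥(Limits.pullback f v), IsDomain ((Limits.pullback f v).presheaf.stalk p) := by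
    simp only [Groth.Agent.GeomPtInt.isGeomPtIntegralAt_iff]
    constructor
    · exact fun h p => h _ Ω v p rfl
    · intro h x
      haveI : Surjective v := (Groth.Agent.FlatMor.flat_surjective_spec_field_hom (algebraMap k Ω)).2
      obtain ⟨p, rfl⟩ := (Limits.pullback.fst f v).surjective x
      exact (Groth.Agent.GeomPtInt.gpi_baseChange_iff (IsPullback.of_hasPullback f v) p).1
        (Groth.Agent.GeomPtInt.gpi_of_isDomain _ p (h p))
  have h2 : GeometricallyReduced f ↔ AlgebraicGeometry.IsReduced (Limits.pullback f v) := by
    constructor
    · exact fun h => h.geometrically_isReduced _ _ _ (IsPullback.of_hasPullback f v)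
    · intro h
      haveI : GeometricallyReduced g := by
        refine ⟨geometrically_iff_of_commRing.2 fun K _ _ Z fst snd hZ => ?_⟩
        haveI := Groth.Agent.Assoc.isReduced_pullback Ω g (Spec.map (CommRingCat.ofHom (algebraMap Ω K)))
        exact isReduced_of_isOpenImmersion hZ.isoPullback.hom
      exact Groth.Agent.FlatMor.geometricallyReduced_of_baseChange (algebraMap k Ω) (IsPullback.of_hasPullback f v)
  rw [h1, forall_isDomain_iff, h2]
  rfl

end Groth.Agent.S4649
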