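import Groth.Statements.S3410
import Groth.Agent.UOFlat.UniqueComponent
import Groth.Agent.UOFlat.RedAscent
import Groth.Agent.S0386
import Groth.Agent.EquidimPt.Char

set_option autoImplicit false
open CategoryTheory AlgebraicGeometry
universe u
open EGA43

namespace Groth.Agent.S3410

/-- Let Y be locally Noetherian, f : X ⟶ Y locally of finite type, x a point of X and y = f x. Suppose f
is universally open at the generic point of every irreducible component of X_y through x, X_y is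
geometrically pointwise integral at x, and O_{Y,y} is geometrically unibranch. Then x lies on
exactly one irreducible component of X. If moreover O_{Y,y} is a domain, then O_{X,x} is a domain
and O_{Y,y} ⟶ O_{X,x} is flat. -/
theorem result {X Y : Scheme.{u}} [IsLocallyNoetherian Y]
    (f : X ⟶ Y) [LocallyOfFiniteType f] (x : X)
    (hopen : ∀ z : ↥(f.fiber (f.base x)), f.asFiber x ∈ closure {z} →
      (∀ z' : ↥(f.fiber (f.base x)), z ∈ closure {z'} → z' = z) →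
      EGA43.IsUnivOpenAt f ((f.fiberι (f.base x)).base z))
    (hint : FBase.IsGeomPtIntegralAt (f.fiberToSpecResidueField (f.base x)) (f.asFiber x))
    (hY : CAlg2.IsGeomUnibranch (Y.presheaf.stalk (f.base x))) :
    (∃! Z : Set X, Z ∈ irreducibleComponents (X : Type u) ∧ x ∈ Z) ∧
      (IsDomain (Y.presheaf.stalk (f.base x)) → IsDomain (X.presheaf.stalk x) ∧ (f.stalkMap x).hom.Flat) := by
  haveI : IsLocallyNoetherian X := LocallyOfFiniteType.isLocallyNoetherian f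
  haveI := ConsEngine.lfp_of_lft f
  let y := f.base x
  let ι₀ := f.fiberι y
  let x₀ := f.asFiber x
  have hred : GeomRedAt.GR f x := (GeomRedAt.isGeomReducedAt_iff f x).mp fun K _ _ x' hx' =>
    haveI := hint K x' hx'
    inferInstance
  -- a single component of the fibre
  have hdom : IsDomain ((f.fiber y).presheaf.stalk x₀) := by
    let k := IsLocalRing.ResidueField (Y.presheaf.stalk y)
    haveI : IsIso (Spec.map (CommRingCat.ofHom (algebraMap k k))) := by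
      rw [show CommRingCat.ofHom (algebraMap k k) = 𝟙 _ from rfl, Spec.map_id]; infer_instance
    let π := FBase.bcπ (k := k) (f.fiberToSpecResidueField y) k
    haveI : IsIso π := inferInstanceAs (IsIso (Limits.pullback.fst _ _))
    obtain ⟨x', hx'⟩ : ∃ x', π x' = x₀ := ⟨inv π x₀, by rw [← Scheme.Hom.comp_apply, IsIso.inv_hom_id]; rfl⟩
    haveI := hint k x' hx'
    rw [← hx']
    exact Function.Injective.isDomain (π.stalkMap x').hom
      (asIso (π.stalkMap x')).commRingCatIsoToRingEquiv.injective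
  let j := (f.fiber y).fromSpecStalk x₀
  let z₀ := j ⟨⊥, Ideal.isPrime_bot⟩
  have hz₀ : ∀ w, w ⤳ x₀ → z₀ ⤳ w := fun w hw => by
    obtain ⟨P, rfl⟩ : w ∈ Set.range j := by rw [Scheme.range_fromSpecStalk]; exact hw
    exact Specializes.map ((PrimeSpectrum.le_iff_specializes _ _).mp bot_le) j.continuous
  have hz₀x : z₀ ⤳ x₀ := by
    have : z₀ ∈ Set.range j := ⟨_, rfl⟩
    rwa [Scheme.range_fromSpecStalk] at this
  have hz₀m : Unibranch.IsMaxPt z₀ := fun w hw => ((hz₀ w (hw.trans hz₀x)).antisymm hw).eq.symm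
  set z := ι₀ z₀ with hzdef
  have hfz : f z = y := (f.range_fiberι y).le ⟨z₀, rfl⟩
  have hzx : z ⤳ x := by
    have := hz₀x.map ι₀.continuous
    rwa [show ι₀ x₀ = x from f.fiberι_asFiber x] at this
  have hzmax : ∀ v, v ⤳ z → f v = y → v = z := fun v hv hfv => by
    obtain ⟨q, rfl⟩ : v ∈ Set.range ι₀ := (f.range_fiberι y).ge hfv
    rw [hz₀m q (ι₀.isEmbedding.isInducing.specializes_iff.mp hv)]
  have honly : ∀ v, v ⤳ x → f v = y → (∀ v', v' ⤳ v → f v' = y → v' = v) → v = z := fun v hv hfv hvmax => by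
    obtain ⟨q, rfl⟩ : v ∈ Set.range ι₀ := (f.range_fiberι y).ge hfv
    have hqx : q ⤳ x₀ := ι₀.isEmbedding.isInducing.specializes_iff.mp (by
      rw [show ι₀ x₀ = x from f.fiberι_asFiber x]; exact hv)
    exact (hvmax _ ((hz₀ q hqx).map ι₀.continuous) hfz).symm
  -- the dimension of the fibre
  obtain ⟨d, hd⟩ := Unibranch.exists_fibreDimAt_eq f x
  obtain ⟨U₁, hxU₁, hU₁⟩ := (Unibranch.fibreDimAt_le_iff f x).mp hd.le
  obtain ⟨U₂, hxU₂, hU₂U₁, hU₂⟩ := Unibranch.exists_opens_maximal f hxU₁ y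
  have hfe : ∀ v, v ⤳ x → f v = f x → (∀ v', v' ⤳ v → f v' = f x → v' = v) →
      Unibranch.HasChain f (closure {v}) (f x) d := fun v hv hfv hvmax => by
    obtain ⟨m, hmx, hfm, hm, hch⟩ := Unibranch.exists_max_hasChain f x hd.ge
    rw [honly v hv hfv hvmax, ← honly m hmx hfm fun v' hv' hfv' => hm v' hfv' hv']
    exact hch
  obtain ⟨U, hxU, hUo, hUgr⟩ := UOFlat.exists_nhd_universallyOpen f x (UOFlat.forall_maximal_of_fiber f x hopen) hred
  haveI := hUo
  -- the components of `X` through `x`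
  have hfmax : ∀ ζ, Unibranch.IsMaxPt ζ → ζ ⤳ x → Unibranch.IsMaxPt (f ζ) := fun ζ hζm hζx w hw => by
    obtain ⟨ζ', hζ', hfζ'⟩ := Unibranch.exists_specializes_of_isOpenAt f (z := ζ) (η := w) (fun N hN => by
      obtain ⟨u, hu⟩ : ζ ∈ Set.range U.ι := U.range_ι.ge (hζx.mem_open U.2 hxU)
      subst hu
      have := (U.ι ≫ f).isOpenMap.image_mem_nhds (U.ι.continuous.continuousAt.preimage_mem_nhds hN)
      rw [Scheme.Hom.comp_apply] at this
      exact Filter.mem_of_superset this (by rintro _ ⟨b, hb, rfl⟩; exact ⟨U.ι b, hb, (Scheme.Hom.comp_apply _ _ _).symm⟩)) hw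
    rw [← hfζ', hζm ζ' hζ']
  have hdata : ∀ ζ, Unibranch.IsMaxPt ζ → ζ ⤳ x → ∃ (T : Scheme.{u}) (ι : T ⟶ X) (_ : IsClosedImmersion ι) (w : T),
      ι w = z ∧ EGA43.IsUnivOpenAt (ι ≫ f) w ∧ (∀ t, ζ ⤳ ι t) ∧ ζ ⤳ z := by
    intro ζ hζm hζx
    have hgen := UOFlat.hasChain_generic f U hxU hred hfe hζm hζx
    have hzC : z ∈ closure ({ζ} : Set X) := by
      by_contra hzn
      have key : ∀ (k : ℕ) (c : Fin (k + 1) → X), (∀ i, c i ∈ ((U₂ : Set X) ∩ closure {ζ}) ∧ f (c i) = y) →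
          Unibranch.IsChain' c → k + 1 ≤ d := by
        intro k c hc hc'
        obtain ⟨m, hmx, hmc, hfm, hmU, hm⟩ := hU₂ _ (hc 0).1.1 (hc 0).2
        have hmz := honly m hmx hfm fun v' hv' hfv' => hm v' hfv' hv'
        refine hU₁ (k + 1) (Fin.cons m c) (fun i ↦ ?_) (fun i ↦ ?_)
        · refine Fin.cases ⟨hU₂U₁ hmU, hfm⟩ (fun j ↦ ?_) i
          rw [Fin.cons_succ]
          exact ⟨hU₂U₁ (hc j).1.1, (hc j).2⟩
        · refine Fin.cases ?_ (fun j ↦ ?_) i
          · rw [Fin.castSucc_zero, Fin.cons_zero, Fin.cons_succ]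
            exact ⟨hmc, fun he => hzn (hmz ▸ he ▸ (hc 0).1.2)⟩
          · rw [← Fin.succ_castSucc, Fin.cons_succ, Fin.cons_succ]
            exact hc' j
      obtain ⟨e, rfl⟩ : ∃ e, d = e + 1 := by
        have h0 := key 0 (fun _ => x) (fun _ => ⟨⟨hxU₂, hζx.mem_closure⟩, rfl⟩) fun i => i.elim0
        exact ⟨d - 1, by omega⟩
      have hle := Unibranch.chainsLE_of_specializes f hζx hxU₂ (e := e) fun k c hc hc' => Nat.le_of_succ_le_succ (key k c hc hc')
      have := hgen.le hle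
      omega
    let T : TopologicalSpace.Closeds X := ⟨closure {ζ}, isClosed_closure⟩
    let ι := (Scheme.IdealSheafData.vanishingIdeal T).subschemeι
    have hrange : Set.range ι = closure {ζ} := by
      rw [Scheme.IdealSheafData.range_subschemeι, Scheme.IdealSheafData.coe_support_vanishingIdeal]; rfl
    obtain ⟨w, hw⟩ : z ∈ Set.range ι := hrange.ge hzC
    obtain ⟨ζ', hζ'⟩ : ζ ∈ Set.range ι := hrange.ge (subset_closure rfl)
    refine ⟨_, ι, inferInstance, w, hw, ?_, fun t => specializes_iff_mem_closure.mpr (hrange.le ⟨t, rfl⟩),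
      specializes_iff_mem_closure.mpr hzC⟩
    have hιf : ∀ t, (ι ≫ f) t = f (ι t) := fun t => Scheme.Hom.comp_apply _ _ _
    have hwy : (ι ≫ f) w = y := by rw [hιf, hw, hfz]
    obtain ⟨V₀, hV₀, hV₀η⟩ := Unibranch.exists_opens_forall_specializes (η := f ζ) hY (hζx.map f.continuous) (hfmax ζ hζm hζx)
      (Unibranch.exists_opens_finite_components (f x))
    obtain ⟨c, hc, hc'⟩ := hgen
    choose c' hc'' using fun i => hrange.ge (hc i).1
    refine Unibranch.isUnivOpenAt_of_chains (ι ≫ f) w (by rw [hwy]; exact hY) d ζ'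
      (ι.isEmbedding.isInducing.specializes_iff.mp (by rw [hζ', hw]; exact specializes_iff_mem_closure.mpr hzC))
      ⟨V₀, by rw [hwy]; exact hV₀, fun v hv => by rw [hιf, hζ']; exact hV₀η v hv⟩
      ⟨ι ⁻¹ᵁ U₁, show ι w ∈ U₁ by rw [hw]; exact hzx.mem_open U₁.2 hxU₁, fun k a ha ha' =>
        hU₁ k (ι ∘ a) (fun i => ⟨(ha i).1, (hιf _).symm.trans ((ha i).2.trans hwy)⟩)
          fun i => ⟨(ha' i).1.map ι.continuous, fun e => (ha' i).2 (ι.isEmbedding.injective e)⟩⟩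
      ⟨c', fun i => by rw [hιf, hιf, hc'', hζ']; exact (hc i).2, fun i => ⟨ι.isEmbedding.isInducing.specializes_iff.mp
        (by rw [hc'', hc'']; exact (hc' i).1), fun e => (hc' i).2 (by rw [← hc'', ← hc'', e])⟩,
        ι.isEmbedding.isInducing.specializes_iff.mp (by rw [hc'', hζ']; exact specializes_iff_mem_closure.mpr (hc 0).1)⟩
  have huniq : ∀ ζ₁ ζ₂, Unibranch.IsMaxPt ζ₁ → ζ₁ ⤳ x → Unibranch.IsMaxPt ζ₂ → ζ₂ ⤳ x → ζ₁ = ζ₂ := by
    intro ζ₁ ζ₂ hm₁ hx₁ hm₂ hx₂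
    obtain ⟨V₀, hV₀, hV₀η⟩ := Unibranch.exists_opens_forall_specializes (η := f ζ₁) hY (hx₁.map f.continuous) (hfmax ζ₁ hm₁ hx₁)
      (Unibranch.exists_opens_finite_components (f x))
    have hη : f ζ₁ = f ζ₂ := hfmax ζ₂ hm₂ hx₂ _ (hV₀η _ ((hx₂.map f.continuous).mem_open V₀.2 hV₀))
    obtain ⟨T₁, ι₁, _, w₁, hw₁, hu₁, ht₁, hz₁⟩ := hdata ζ₁ hm₁ hx₁
    obtain ⟨T₂, ι₂, _, w₂, hw₂, hu₂, ht₂, hz₂⟩ := hdata ζ₂ hm₂ hx₂
    by_cases hne : y = f ζ₁
    · rw [hzmax ζ₁ hz₁ hne.symm, hzmax ζ₂ hz₂ (hη.symm.trans hne.symm)]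
    · obtain ⟨-, h21⟩ := UOFlat.eq_of_isUnivOpenAt f (η := f ζ₁) (z := z) (hz₁.map f.continuous) (hfz.symm ▸ hne)
        (fun v hv hfv => hzmax v hv (hfv.trans hfz)) (UOFlat.gr_of_fibre_specializes f hzx hfz hred)
        ι₁ ι₂ hw₁ hw₂ hu₁ hu₂ ht₁ ht₂ rfl hη.symm
      exact (hm₁ ζ₂ h21).symm
  obtain ⟨ζ, hζm, hζx⟩ := Unibranch.exists_isMaxPt_specializes x
  refine ⟨⟨closure {ζ}, ⟨hζm.mem_irreducibleComponents, hζx.mem_closure⟩, fun Z hZ => ?_⟩, fun hYdom => ?_⟩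
  · obtain ⟨ζ', hζ'm, hζ'⟩ := Unibranch.exists_isMaxPt hZ.1
    rw [← hζ', huniq ζ' ζ hζ'm (specializes_iff_mem_closure.mpr (hζ' ▸ hZ.2)) hζm hζx]
  haveI : _root_.IsReduced (Y.presheaf.stalk (f x)) := by haveI := hYdom; infer_instance
  have hflat := UOFlat.flat_stalkMap f x (UOFlat.forall_maximal_of_fiber f x hopen) hred
  refine ⟨?_, hflat⟩
  haveI : _root_.IsReduced (X.presheaf.stalk x) := by
    let U₀ : X.Opens := ⟨_, Groth.Agent.S0386.result f⟩
    have : Flat (U₀.ι ≫ f) := Flat.of_stalkMap _ fun u ↦ by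
      rw [Scheme.Hom.stalkMap_comp]
      exact RingHom.Flat.comp (f := (f.stalkMap (U₀.ι u)).hom) (g := (U₀.ι.stalkMap u).hom) u.2 (Flat.stalkMap U₀.ι u)
    let u : (U₀ : Scheme.{u}) := ⟨x, hflat⟩
    haveI : _root_.IsReduced (Y.presheaf.stalk ((U₀.ι ≫ f) u)) := ‹_›
    exact (GeomRedAt.isReduced_stalk_openImmersion_iff U₀.ι u).mpr
      (UOFlat.isReduced_stalk (U₀.ι ≫ f) u ((GeomRedAt.gr_source_iff f U₀.ι u).mpr hred))
  have hnil : (nilradical (X.presheaf.stalk x)).IsPrime := by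
    let jx := X.fromSpecStalk x
    have hjx : ∀ P, jx P ⤳ x := fun P => by
      have : jx P ∈ Set.range jx := ⟨P, rfl⟩
      rwa [Scheme.range_fromSpecStalk] at this
    obtain ⟨Q, hQ⟩ : ζ ∈ Set.range jx := by rw [Scheme.range_fromSpecStalk]; exact hζx
    rw [show nilradical (X.presheaf.stalk x) = Q.asIdeal from le_antisymm (nilradical_le_prime _) ?_]
    · exact Q.2
    rw [nilradical_eq_sInf, le_sInf_iff]
    intro P hP
    obtain ⟨ζ', hζ'm, hζ'⟩ := Unibranch.exists_isMaxPt_specializes (jx ⟨P, hP⟩)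
    have he := huniq ζ ζ' hζm hζx hζ'm (hζ'.trans (hjx _))
    rw [← he, ← hQ, jx.isEmbedding.isInducing.specializes_iff] at hζ'
    exact (PrimeSpectrum.le_iff_specializes Q ⟨P, hP⟩).mpr hζ'
  rw [nilradical_eq_zero] at hnil
  exact IsDomain.of_bot_isPrime _ (hbp := hnil)

end Groth.Agent.S3410
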