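import Groth.Statements.S10686
import Groth.Agent.AlgSpLib.Reduced
import Groth.Agent.AlgSpLib.Space

set_option autoImplicit false
universe u
open CategoryTheory CategoryTheory.Limits AlgebraicGeometry
open AlgSp

set_option backward.isDefEq.respectTransparency false

namespace Groth.Agent.S10686

/-- For a morphism f : X ⟶ Y between algebraic spaces over S and a point y of |Y|, write X_k for the
fibre (pullback in fppf sheaves) over a field point k of Y and call X_k geometrically reduced when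
for every field homomorphism k ⟶ k' the base change X_{k'} is reduced (some etale surjective scheme
chart reduced). The following are equivalent: (1) X_k is geometrically reduced for some k in the
class of y; (2) X_k is geometrically reduced for every k in the class of y; (3) X_k is reduced for
every k in the class of y. -/
theorem result {S : Scheme.{u}} {X Y : AlgSp.Space S} (f : X ⟶ Y) (y : AlgSp.Points Y.obj) :
    [∃ (k : AlgSp.FieldPt Y.obj), AlgSp.Points.mk k = y ∧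
        ∀ (k' : Type u) [Field k'] (φ : k.K →+* k') (Xk' : AlgSp.Sp S) (a : Xk' ⟶ X.obj)
          (b : Xk' ⟶ (AlgSp.yon S).obj (Over.mk (Spec.map (CommRingCat.ofHom φ) ≫ k.str))),
          IsPullback a b f.hom ((AlgSp.yon S).map (Over.homMk (Spec.map (CommRingCat.ofHom φ)) rfl :
            Over.mk (Spec.map (CommRingCat.ofHom φ) ≫ k.str) ⟶ k.pt) ≫ k.toHom) →
          AlgSp.EtaleLocally (fun U => IsReduced U) Xk',
      ∀ (k : AlgSp.FieldPt Y.obj), AlgSp.Points.mk k = y →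
        ∀ (k' : Type u) [Field k'] (φ : k.K →+* k') (Xk' : AlgSp.Sp S) (a : Xk' ⟶ X.obj)
          (b : Xk' ⟶ (AlgSp.yon S).obj (Over.mk (Spec.map (CommRingCat.ofHom φ) ≫ k.str))),
          IsPullback a b f.hom ((AlgSp.yon S).map (Over.homMk (Spec.map (CommRingCat.ofHom φ)) rfl :
            Over.mk (Spec.map (CommRingCat.ofHom φ) ≫ k.str) ⟶ k.pt) ≫ k.toHom) →
          AlgSp.EtaleLocally (fun U => IsReduced U) Xk',
      ∀ (k : AlgSp.FieldPt Y.obj), AlgSp.Points.mk k = y →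
        ∀ (Xk : AlgSp.Sp S) (a : Xk ⟶ X.obj) (b : Xk ⟶ (AlgSp.yon S).obj k.pt), IsPullback a b f.hom k.toHom →
          AlgSp.EtaleLocally (fun U => IsReduced U) Xk].TFAE := by
  have key : ∀ (k : AlgSp.FieldPt Y.obj) {k' : Type u} [Field k'] (φ : k.K →+* k'),
      ∃ q : AlgSp.FieldPt Y.obj, AlgSp.Points.mk q = AlgSp.Points.mk k ∧
        ∀ (Xk' : AlgSp.Sp S) (a : Xk' ⟶ X.obj)
          (b : Xk' ⟶ (AlgSp.yon S).obj (Over.mk (Spec.map (CommRingCat.ofHom φ) ≫ k.str))),
          IsPullback a b f.hom ((AlgSp.yon S).map (Over.homMk (Spec.map (CommRingCat.ofHom φ)) rfl :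
            Over.mk (Spec.map (CommRingCat.ofHom φ) ≫ k.str) ⟶ k.pt) ≫ k.toHom) →
          (∀ (Xk : AlgSp.Sp S) (a : Xk ⟶ X.obj) (b : Xk ⟶ (AlgSp.yon S).obj q.pt), IsPullback a b f.hom q.toHom →
            AlgSp.EtaleLocally (fun U => IsReduced U) Xk) → AlgSp.EtaleLocally (fun U => IsReduced U) Xk' := by
    intro k k' _ φ
    let ι : Over.mk (Spec.map (CommRingCat.ofHom φ) ≫ k.str) ⟶ k.pt := Over.homMk (Spec.map (CommRingCat.ofHom φ)) rfl
    let q : AlgSp.FieldPt Y.obj := ⟨k', Spec.map (CommRingCat.ofHom φ) ≫ k.str,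
      (AlgSp.J S).uliftYonedaEquiv ((AlgSp.yon S).map ι ≫ k.toHom)⟩
    have hq : q.toHom = (AlgSp.yon S).map ι ≫ k.toHom := Equiv.symm_apply_apply _ _
    refine ⟨q, ?_, fun Xk' a b sq h => h Xk' a b (by rw [hq]; exact sq)⟩
    rw [← AlgSp.Points.ofPt_toHom q (IsLocalRing.closedPoint k'), hq, Groth.Agent.AlgSpLib.ofPt_comp]
    exact AlgSp.Points.ofPt_toHom k _
  tfae_have 3 → 2 := fun h k hk k' _ φ Xk' a b sq => by
    obtain ⟨q, hq, hq'⟩ := key k φ
    exact hq' Xk' a b sq (h q (hq.trans hk))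
  tfae_have 2 → 1 := fun h => by
    obtain ⟨k, hk⟩ := AlgSp.Points.mk_surjective y
    exact ⟨k, hk, h k hk⟩
  tfae_have 1 → 3 := by
    rintro ⟨k₀, hk₀, h⟩ k hk Xk a b sq
    have he : AlgSp.Points.ofPt k₀.toHom (IsLocalRing.closedPoint k₀.K) =
        AlgSp.Points.ofPt k.toHom (IsLocalRing.closedPoint k.K) := by
      rw [AlgSp.Points.ofPt_toHom, AlgSp.Points.ofPt_toHom, hk₀, hk]
    obtain ⟨W, α, β, w, e, -, -⟩ := Groth.Agent.AlgSpLib.exists_of_ofPt_eq he
    let Ω := W.left.residueField w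
    let pw : Over.mk (W.left.fromSpecResidueField w ≫ W.hom) ⟶ W := Over.homMk (W.left.fromSpecResidueField w) rfl
    obtain ⟨φ₀, hφ₀⟩ := Spec.map_surjective (pw ≫ α).left
    obtain ⟨φ₁, hφ₁⟩ := Spec.map_surjective (pw ≫ β).left
    have hw₀ : (pw ≫ α).left ≫ k₀.str = W.left.fromSpecResidueField w ≫ W.hom := Over.w (pw ≫ α)
    let W' : Over S := Over.mk (Spec.map (CommRingCat.ofHom φ₀.hom) ≫ k₀.str)
    let p' : W' ⟶ W := Over.homMk (W.left.fromSpecResidueField w) (by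
      show W.left.fromSpecResidueField w ≫ W.hom = _
      rw [← hw₀, ← hφ₀]; rfl)
    let c₀ : W' ⟶ k₀.pt := Over.homMk (Spec.map (CommRingCat.ofHom φ₀.hom)) rfl
    have hc₀ : c₀ = p' ≫ α := Over.OverMorphism.ext (show Spec.map (CommRingCat.ofHom φ₀.hom) = _ from hφ₀)
    let c : W' ⟶ k.pt := p' ≫ β
    have ec : (AlgSp.yon S).map c₀ ≫ k₀.toHom = (AlgSp.yon S).map c ≫ k.toHom := by
      rw [hc₀, Functor.map_comp, Functor.map_comp, Category.assoc, Category.assoc, e]
    have hred := h Ω φ₀.hom (pullback f.hom ((AlgSp.yon S).map c₀ ≫ k₀.toHom)) (pullback.fst _ _) (pullback.snd _ _)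
      (IsPullback.of_hasPullback _ _)
    have sqΩ := IsPullback.of_hasPullback f.hom ((AlgSp.yon S).map c₀ ≫ k₀.toHom)
    let l : pullback f.hom ((AlgSp.yon S).map c₀ ≫ k₀.toHom) ⟶ Xk :=
      sq.lift (pullback.fst _ _) (pullback.snd _ _ ≫ (AlgSp.yon S).map c)
        (by rw [Category.assoc, ← ec]; exact sqΩ.w)
    have sql : IsPullback l (pullback.snd f.hom ((AlgSp.yon S).map c₀ ≫ k₀.toHom)) b ((AlgSp.yon S).map c) :=
      IsPullback.of_right (by rw [sq.lift_fst, ← ec]; exact sqΩ) (sq.lift_snd _ _ _) sq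
    have hXk : AlgSp.IsAlgSpace Xk :=
      Groth.Agent.AlgSpLib.isAlgSpace_of_isPullback_space Y.property X.property (AlgSp.IsAlgSpace.yon_obj _) sq
    have hXΩ : AlgSp.IsAlgSpace (pullback f.hom ((AlgSp.yon S).map c₀ ≫ k₀.toHom)) :=
      Groth.Agent.AlgSpLib.isAlgSpace_of_isPullback_space Y.property X.property (AlgSp.IsAlgSpace.yon_obj _) sqΩ
    have hcl : c.left = Spec.map (CommRingCat.ofHom φ₁.hom) := hφ₁.symm
    obtain ⟨hf₁, hf₂⟩ := Groth.Agent.FlatMor.flat_surjective_spec_field_hom φ₁.hom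
    have hr : AlgSp.RepWith @Flat ((AlgSp.yon S).map c) :=
      (Groth.Agent.AlgSpLib.repWith_yon_iff c).2 (hcl ▸ hf₁)
    have hr' : AlgSp.RepWith @Surjective ((AlgSp.yon S).map c) :=
      (Groth.Agent.AlgSpLib.repWith_yon_iff c).2 (hcl ▸ hf₂)
    exact Groth.Agent.AlgSpLib.isReducedSp_of_flat_surjective hXk
      (Groth.Agent.AlgSpLib.locP_baseChange Groth.Agent.AlgSpLib.etST_flat (AlgSp.IsAlgSpace.yon_obj _)
        (AlgSp.IsAlgSpace.yon_obj _) hXΩ hXk sql.flip
        ((Groth.Agent.AlgSpLib.locP_iff_repWith Groth.Agent.AlgSpLib.etST_flat (AlgSp.IsAlgSpace.yon_obj _) hr.1).2 hr))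
      (Groth.Agent.AlgSpLib.isSurjectiveMor_baseChange sql.flip (Groth.Agent.AlgSpLib.isSurjectiveMor_of_repWith hr'))
      hred
  tfae_finish

end Groth.Agent.S10686
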