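import Groth.Agent.AlgSpLib.Residual
import Groth.Agent.AlgStLib.GerbeProps
import Groth.Agent.AlgStLib.MonoPoint
import Groth.Agent.AlgStLib.QC2
import Groth.Prelude.Def_StGerb

set_option autoImplicit false
universe u
open CategoryTheory AlgebraicGeometry
open Gerb

set_option backward.isDefEq.respectTransparency false

namespace Groth.Agent.S16871

open _root_.AlgSt Groth.Agent.AlgStLib.GerbeMor Groth.Agent.AlgStLib Groth.Agent.AlgSpLib Groth.Agent.FibCat2Misc Groth.Agent.FibCatRep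

/-- If an algebraic stack is a gerbe (over some algebraic space), then the residual gerbe exists at
every one of its points. (Non-triviality of the conclusion rests on the monomorphism condition.) -/
theorem result
    (S : Scheme.{u}) (𝒳 : AlgSt.Cat S) (h𝒳 : AlgSt.IsAlgStack Scheme.fppfPrecoverage 𝒳)
    (X : AlgSp.Space S) (π : 𝒳 ⥤ᵇ AlgSt.ofSp X.obj)
    (hπ : Gerb.IsGerbeOver (QuotSh.J Scheme.fppfPrecoverage S) π) (x : AlgSt.Points 𝒳) :
    Gerb.ResGerbeExists Scheme.fppfPrecoverage 𝒳 x := by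
  have hX := isAlgStack_ofSp X
  obtain ⟨x₀, hx₀⟩ := (bijective_stPts X.obj).2 (AlgSt.Points.map π x)
  obtain ⟨Z, i, hZ, hm, hr, k, _, str, p, -, -, hps⟩ := exists_residual X.property x₀
  haveI := hm
  let Zs : AlgSp.Space S := ⟨Z, hZ⟩
  let is : Zs ⟶ X := ObjectProperty.homMk i
  let g : AlgSt.ofSp Zs.obj ⥤ᵇ AlgSt.ofSp X.obj := AlgSt.ofSpMap i
  have hZs := isAlgStack_ofSp Zs
  have hg : RepByAlgSpWith (MorphismProperty.monomorphisms (AlgSp.Sp S)) g :=
    repWith_ofSpMap cls_mono.bc is hm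
  have hP := isAlgStack_fp hX.isStack hX.diag hZs h𝒳 g π
  obtain ⟨hne, hsub⟩ := singleton_of_fieldPt hps
  have hZsub : Subsingleton (AlgSt.Points (AlgSt.ofSp Zs.obj)) := ⟨fun a b => by
    obtain ⟨a', rfl⟩ := (bijective_stPts Z).2 a
    obtain ⟨b', rfl⟩ := (bijective_stPts Z).2 b
    exact congrArg _ (Subsingleton.elim a' b')⟩
  have hb := (isUnivHomeo h𝒳 hX π hπ _ hZs g).bijective
  have hinj : ∀ a b : AlgSt.Points 𝒳, AlgSt.Points.map π a = AlgSt.Points.map π b → a = b := by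
    intro a b hab
    obtain ⟨w₁, h₁, e₁⟩ := exists_points_fp h𝒳.isStack.1 hX.isStack.1 hX.isStack.1 π (BasedFunctor.id _) _ a
      (map_id_points (AlgSt.Points.map π a))
    obtain ⟨w₂, h₂, e₂⟩ := exists_points_fp h𝒳.isStack.1 hX.isStack.1 hX.isStack.1 π (BasedFunctor.id _) _ b
      ((map_id_points (AlgSt.Points.map π a)).trans hab)
    rw [← e₁, ← e₂, (isUnivHomeo h𝒳 hX π hπ _ hX (BasedFunctor.id _)).bijective.1 (h₁.trans h₂.symm)]
  refine ⟨FibCat.fp g π, FibCat.fpSnd g π, hP, repWith_fpSnd _ g π hg, ?_, ⟨fun a b => hb.1 (Subsingleton.elim _ _)⟩,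
    fun z => hinj _ _ ?_⟩
  · obtain ⟨z⟩ := hne
    obtain ⟨w, -⟩ := hb.2 (stPts Z z)
    exact ⟨w⟩
  · rw [← map_comp_points, ← map_congr_points (FibCat.fpIso g π), map_comp_points, ← hx₀]
    obtain ⟨z', hz'⟩ := (bijective_stPts Z).2 (AlgSt.Points.map (FibCat.fpFst g π) z)
    rw [← hz', map_stPts]
    exact congrArg _ ((Set.ext_iff.1 hr _).1 ⟨z', rfl⟩)

end Groth.Agent.S16871
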