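import Groth.Statements.S12134
import Groth.Agent.GrFlatStrat.Piece

set_option linter.style.haveILetI false

set_option autoImplicit false
universe u
open scoped TensorProduct
open EGA43

namespace Groth.Agent.S12134

section

open AlgebraicGeometry CategoryTheory

variable {A₀ : Type u} [CommRing A₀]

/-- The locally closed set `V(I) ∩ D(f)`. -/
def stratum (I : Ideal A₀) (f : A₀) : Set (PrimeSpectrum A₀) :=
  PrimeSpectrum.zeroLocus (I : Set A₀) ∩ (PrimeSpectrum.basicOpen f : Set (PrimeSpectrum A₀))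

theorem range_eq_stratum (I : Ideal A₀) (f : A₀) :
    Set.range (PrimeSpectrum.comap (algebraMap A₀ (Localization.Away (Ideal.Quotient.mk I f)))) = stratum I f := by
  rw [IsScalarTower.algebraMap_eq A₀ (A₀ ⧸ I) (Localization.Away (Ideal.Quotient.mk I f))]
  have h1 : Set.range (PrimeSpectrum.comap (algebraMap (A₀ ⧸ I) (Localization.Away (Ideal.Quotient.mk I f)))) =
      (PrimeSpectrum.basicOpen (Ideal.Quotient.mk I f) : Set (PrimeSpectrum (A₀ ⧸ I))) :=
    PrimeSpectrum.localization_away_comap_range _ _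
  have h2 : Set.range (PrimeSpectrum.comap (algebraMap A₀ (A₀ ⧸ I))) = PrimeSpectrum.zeroLocus (I : Set A₀) := by
    rw [Ideal.Quotient.algebraMap_eq, range_comap_of_surjective _ _ Ideal.Quotient.mk_surjective,
      Ideal.mk_ker]
  ext x
  constructor
  · rintro ⟨y, rfl⟩
    refine ⟨?_, ?_⟩
    · rw [← h2]
      exact ⟨PrimeSpectrum.comap (algebraMap _ _) y, rfl⟩
    · have hy : PrimeSpectrum.comap (algebraMap (A₀ ⧸ I) (Localization.Away (Ideal.Quotient.mk I f))) y ∈
          PrimeSpectrum.basicOpen (Ideal.Quotient.mk I f) := h1.subset ⟨y, rfl⟩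
      exact hy
  · rintro ⟨hx, hf⟩
    rw [← h2] at hx
    obtain ⟨z, rfl⟩ := hx
    obtain ⟨y, rfl⟩ := h1.symm.subset (show z ∈ (PrimeSpectrum.basicOpen (Ideal.Quotient.mk I f) : Set _) from hf)
    exact ⟨y, rfl⟩

theorem isImmersion_stratum (I : Ideal A₀) (f : A₀) :
    IsImmersion (Spec.map (CommRingCat.ofHom (algebraMap A₀ (Localization.Away (Ideal.Quotient.mk I f))))) := by
  rw [IsScalarTower.algebraMap_eq A₀ (A₀ ⧸ I) (Localization.Away (Ideal.Quotient.mk I f)), CommRingCat.ofHom_comp,
    Spec.map_comp]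
  haveI : IsOpenImmersion (Spec.map (CommRingCat.ofHom
      (algebraMap (A₀ ⧸ I) (Localization.Away (Ideal.Quotient.mk I f))))) :=
    IsOpenImmersion.of_isLocalization (Ideal.Quotient.mk I f)
  haveI : IsClosedImmersion (Spec.map (CommRingCat.ofHom (algebraMap A₀ (A₀ ⧸ I)))) :=
    IsClosedImmersion.spec_of_surjective _ Ideal.Quotient.mk_surjective
  infer_instance

theorem exists_stratification [IsNoetherianRing A₀] (Good : Ideal A₀ → A₀ → Prop)
    (hG : ∀ I : Ideal A₀, I.IsRadical → I ≠ ⊤ → ∃ f, f ∉ I ∧ Good I f) :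
    ∀ I : Ideal A₀, ∃ (m : ℕ) (Is : Fin m → Ideal A₀) (fs : Fin m → A₀),
      (∀ i, Good (Is i) (fs i)) ∧
      (∀ i j, i ≠ j → Disjoint (stratum (Is i) (fs i)) (stratum (Is j) (fs j))) ∧
      (⋃ i, stratum (Is i) (fs i)) = PrimeSpectrum.zeroLocus (I : Set A₀) ∧
      ∀ i, (PrimeSpectrum.basicOpen (fs i) : Set (PrimeSpectrum A₀)) ∩
        (⋃ j, ⋃ (_ : i ≤ j), stratum (Is j) (fs j)) = stratum (Is i) (fs i) := by
  intro I
  induction I using WellFoundedGT.induction with
  | _ I ih =>
    by_cases htop : I.radical = ⊤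
    · refine ⟨0, Fin.elim0, Fin.elim0, fun i => i.elim0, fun i => i.elim0, ?_, fun i => i.elim0⟩
      rw [Set.iUnion_of_empty, Ideal.radical_eq_top.1 htop]
      simp
    obtain ⟨f, hf, hgood⟩ := hG _ (Ideal.radical_isRadical I) htop
    obtain ⟨m, Is, fs, h1, h2, h3, h4⟩ := ih (I.radical ⊔ Ideal.span {f})
      (lt_of_le_not_ge (Ideal.le_radical.trans le_sup_left) fun h =>
        hf (Ideal.le_radical (h (Ideal.mem_sup_right (Ideal.mem_span_singleton_self f)))))
    have hz : PrimeSpectrum.zeroLocus ((I.radical ⊔ Ideal.span {f} : Ideal A₀) : Set A₀) =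
        PrimeSpectrum.zeroLocus (I : Set A₀) ∩ (PrimeSpectrum.basicOpen f : Set (PrimeSpectrum A₀))ᶜ := by
      rw [PrimeSpectrum.zeroLocus_sup, PrimeSpectrum.zeroLocus_radical, PrimeSpectrum.zeroLocus_span,
        PrimeSpectrum.basicOpen_eq_zeroLocus_compl, compl_compl]
    have hst : stratum I.radical f = PrimeSpectrum.zeroLocus (I : Set A₀) ∩
        (PrimeSpectrum.basicOpen f : Set (PrimeSpectrum A₀)) := by
      rw [stratum, PrimeSpectrum.zeroLocus_radical]
    have hd : ∀ j, Disjoint (stratum I.radical f) (stratum (Is j) (fs j)) := fun j => by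
      refine Set.disjoint_left.2 fun x hx hxj => ?_
      have := (Set.ext_iff.1 (h3.trans hz) x).1 (Set.mem_iUnion.2 ⟨j, hxj⟩)
      exact this.2 hx.2
    refine ⟨m + 1, Fin.cons I.radical Is, Fin.cons f fs, fun i => ?_, fun i j hij => ?_, ?_, fun i => ?_⟩
    · refine Fin.cases ?_ (fun i => ?_) i
      · simpa using hgood
      · simpa using h1 i
    · refine Fin.cases (fun hij => ?_) (fun i hij => ?_) i hij
      · obtain ⟨j, rfl⟩ := Fin.exists_succ_eq.2 hij.symm
        simpa using hd j
      · induction j using Fin.cases with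
        | zero => simpa using (hd i).symm
        | succ j => simpa using h2 i j fun h => hij (h ▸ rfl)
    · ext x
      have h3' := Set.ext_iff.1 (h3.trans hz) x
      simp only [Set.mem_iUnion, Set.mem_inter_iff, Set.mem_compl_iff, Fin.exists_fin_succ, Fin.cons_zero,
        Fin.cons_succ, hst] at h3' ⊢
      rw [h3']
      tauto
    · refine Fin.cases ?_ (fun i => ?_) i
      · simp only [Fin.cons_zero]
        refine Set.Subset.antisymm ?_ fun x hx => ⟨hx.2, Set.mem_iUnion₂.2 ⟨0, le_rfl, by simpa using hx⟩⟩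
        rintro x ⟨hxf, hx⟩
        obtain ⟨j, -, hj⟩ := Set.mem_iUnion₂.1 hx
        rw [hst]
        refine ⟨?_, hxf⟩
        induction j using Fin.cases with
        | zero => rw [Fin.cons_zero, Fin.cons_zero, hst] at hj; exact hj.1
        | succ j =>
          rw [Fin.cons_succ, Fin.cons_succ] at hj
          exact ((Set.ext_iff.1 (h3.trans hz) x).1 (Set.mem_iUnion.2 ⟨j, hj⟩)).1
      · rw [Fin.cons_succ, Fin.cons_succ, ← h4 i]
        refine congrArg _ (Set.Subset.antisymm ?_ ?_)
        · refine Set.iUnion₂_subset fun j hj => ?_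
          induction j using Fin.cases with
          | zero => exact absurd (Fin.le_zero_iff.1 hj) (Fin.succ_ne_zero i)
          | succ j =>
            rw [Fin.cons_succ, Fin.cons_succ]
            exact Set.subset_iUnion₂_of_subset j (Fin.succ_le_succ_iff.1 hj) le_rfl
        · refine Set.iUnion₂_subset fun j hj => ?_
          exact Set.subset_iUnion₂_of_subset j.succ (Fin.succ_le_succ_iff.2 hj) (by rw [Fin.cons_succ, Fin.cons_succ])

end

open AlgebraicGeometry CategoryTheory in
/-- Suppose A₀ is a Noetherian ring and B₀ is a finitely generated A₀-algebra; fix an ideal J₀ ⊆ B₀ and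
a finite B₀-module M₀. Then Spec A₀ admits finitely many affine subschemes S_1, …, S_m — presented
as immersions Spec A_i → Spec A₀ — whose underlying sets are mutually disjoint with union all of
Spec A₀, such that each S_i is open in S_i ∪ S_{i+1} ∪ … ∪ S_m, and such that for each i, setting
N_i = A_i ⊗_{A₀} M₀, the graded module associated to the J₀-adic filtration on N_i is A_i-flat.
Concretely, for every n the A_i-module J₀ⁿN_i / J₀ⁿ⁺¹N_i is flat, where this quotient is encoded as
the image of J₀ⁿN_i inside N_i / J₀ⁿ⁺¹N_i, and J₀ⁿN_i denotes the image in N_i of A_i ⊗_{A₀} J₀ⁿM₀. -/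
theorem result {A₀ : Type u} [CommRing A₀] [IsNoetherianRing A₀]
    {B₀ : Type u} [CommRing B₀] [Algebra A₀ B₀] [Algebra.FiniteType A₀ B₀] (J₀ : Ideal B₀)
    (M₀ : Type u) [AddCommGroup M₀] [Module B₀ M₀] [Module A₀ M₀] [IsScalarTower A₀ B₀ M₀]
    [Module.Finite B₀ M₀] :
    ∃ (m : ℕ) (A : Fin m → Type u) (_ : ∀ i, CommRing (A i)) (_ : ∀ i, Algebra A₀ (A i)),
      (∀ i, IsImmersion (Spec.map (CommRingCat.ofHom (algebraMap A₀ (A i))))) ∧
      (∀ i j, i ≠ j → Disjoint (Set.range (Spec.map (CommRingCat.ofHom (algebraMap A₀ (A i)))))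
        (Set.range (Spec.map (CommRingCat.ofHom (algebraMap A₀ (A j)))))) ∧
      (⋃ i, Set.range (Spec.map (CommRingCat.ofHom (algebraMap A₀ (A i)))) = Set.univ) ∧
      (∀ i, ∃ U : Set (Spec (CommRingCat.of A₀)), IsOpen U ∧
        U ∩ (⋃ j, ⋃ (_ : i ≤ j), Set.range (Spec.map (CommRingCat.ofHom (algebraMap A₀ (A j))))) =
          Set.range (Spec.map (CommRingCat.ofHom (algebraMap A₀ (A i))))) ∧
      ∀ i (n : ℕ), Module.Flat (A i)
        ↥(Submodule.map
            (LinearMap.range (LinearMap.baseChange (A i)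
              ((J₀ ^ (n + 1) • (⊤ : Submodule B₀ M₀)).restrictScalars A₀).subtype)).mkQ
            (LinearMap.range (LinearMap.baseChange (A i)
              ((J₀ ^ n • (⊤ : Submodule B₀ M₀)).restrictScalars A₀).subtype))) := by
  obtain ⟨m, Is, fs, h1, h2, h3, h4⟩ := exists_stratification
    (fun (I : Ideal A₀) (f : A₀) => ∀ n : ℕ, Module.Flat (Localization.Away (Ideal.Quotient.mk I f))
        ↥(Submodule.map
            (LinearMap.range (LinearMap.baseChange (Localization.Away (Ideal.Quotient.mk I f))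
              ((J₀ ^ (n + 1) • (⊤ : Submodule B₀ M₀)).restrictScalars A₀).subtype)).mkQ
            (LinearMap.range (LinearMap.baseChange (Localization.Away (Ideal.Quotient.mk I f))
              ((J₀ ^ n • (⊤ : Submodule B₀ M₀)).restrictScalars A₀).subtype))))
    (fun I hI hne => GrFlatStrat.exists_flat_piece hI hne J₀ M₀) ⊥
  refine ⟨m, fun i => Localization.Away (Ideal.Quotient.mk (Is i) (fs i)), fun i => inferInstance,
    fun i => inferInstance, fun i => isImmersion_stratum _ _, fun i j hij => ?_, ?_, fun i => ?_, h1⟩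
  · exact (range_eq_stratum (Is i) (fs i)).symm ▸ (range_eq_stratum (Is j) (fs j)).symm ▸ h2 i j hij
  · exact (Set.iUnion_congr fun i => range_eq_stratum (Is i) (fs i)).trans
      (h3.trans PrimeSpectrum.zeroLocus_bot)
  · refine ⟨_, (PrimeSpectrum.basicOpen (fs i)).2, ?_⟩
    exact (congrArg _ (Set.iUnion₂_congr fun j _ => range_eq_stratum (Is j) (fs j))).trans
      ((h4 i).trans (range_eq_stratum (Is i) (fs i)).symm)

end Groth.Agent.S12134
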