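import Groth.Statements.S4870
import Groth.Agent.FlatGr.Basic
import Groth.Agent.Hensel.HenselizationProps
import Groth.Agent.FlatCartier.Basic

set_option autoImplicit false
universe u
open EGA43

namespace Groth.Agent.S4870

open TensorProduct

theorem flat_step {A B : Type u} [CommRing A] [CommRing B] [Algebra A B] (J : Ideal B)
    (M : Type u) [AddCommGroup M] [Module B M] [Module A M] [IsScalarTower A B M] (k : ℕ)
    (h1 : Module.Flat A
      (↥(J ^ k • (⊤ : Submodule B M)) ⧸ Submodule.comap (J ^ k • (⊤ : Submodule B M)).subtype (J ^ (k + 1) • ⊤)))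
    (h2 : Module.Flat A (M ⧸ J ^ k • (⊤ : Submodule B M))) :
    Module.Flat A (M ⧸ J ^ (k + 1) • (⊤ : Submodule B M)) := by
  let P : Submodule B M := J ^ k • ⊤
  let Q : Submodule B M := J ^ (k + 1) • ⊤
  have hle : Q ≤ P := Submodule.smul_mono_left (Ideal.pow_le_pow_right (Nat.le_succ k))
  let f : (P ⧸ Q.comap P.subtype) →ₗ[A] M ⧸ Q :=
    ((Q.comap P.subtype).mapQ Q P.subtype le_rfl).restrictScalars A
  let g : (M ⧸ Q) →ₗ[A] M ⧸ P := (Submodule.factor hle).restrictScalars A
  have hf : Function.Injective f := by
    show Function.Injective ((Q.comap P.subtype).mapQ Q P.subtype le_rfl)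
    rw [← LinearMap.ker_eq_bot]
    exact Submodule.ker_liftQ_eq_bot _ _ _ (by simp [LinearMap.ker_comp])
  have hg : Function.Surjective g := Submodule.factor_surjective hle
  have hfg : Function.Exact f g := by
    intro y
    obtain ⟨y, rfl⟩ := Submodule.mkQ_surjective Q y
    show Submodule.factor hle (Q.mkQ y) = 0 ↔ _
    rw [Submodule.mkQ_apply]
    show (Submodule.Quotient.mk y : M ⧸ P) = 0 ↔ _
    rw [Submodule.Quotient.mk_eq_zero]
    constructor
    · intro hy; exact ⟨Submodule.Quotient.mk ⟨y, hy⟩, rfl⟩
    · rintro ⟨x, hx⟩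
      obtain ⟨x, rfl⟩ := Submodule.mkQ_surjective _ x
      have h3 : x.1 - y ∈ Q := (Submodule.Quotient.eq Q).1 hx
      have := P.sub_mem x.2 (hle h3)
      simpa using this
  exact Groth.Agent.FlatCartier.flat_mid f g hf hfg hg

theorem flat_of_tensor_faithfullyFlat {A B C N : Type u} [CommRing A] [CommRing B] [CommRing C] [Algebra A B]
    [Algebra B C] [Module.FaithfullyFlat B C] [AddCommGroup N] [Module B N] [Module A N] [IsScalarTower A B N]
    [Algebra A C] [IsScalarTower A B C] [Module.Flat A (C ⊗[B] N)] : Module.Flat A N := by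
  rw [Module.Flat.iff_lTensor_preserves_injective_linearMap]
  intro X Y _ _ _ _ g hg
  have h1 : Function.Injective (g.lTensor (C ⊗[B] N)) :=
    Module.Flat.lTensor_preserves_injective_linearMap g hg
  let eX := AlgebraTensorModule.assoc A B B C N X
  let eY := AlgebraTensorModule.assoc A B B C N Y
  let gN : N ⊗[A] X →ₗ[B] N ⊗[A] Y := AlgebraTensorModule.lTensor B N g
  have hcomm : ∀ z, eY (g.lTensor (C ⊗[B] N) z) = gN.lTensor C (eX z) := by
    intro z
    induction z using TensorProduct.induction_on with
    | zero => simp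
    | add a b ha hb => simp only [map_add, ha, hb]
    | tmul cn x =>
      induction cn using TensorProduct.induction_on with
      | zero => simp
      | add a b ha hb => simp only [add_tmul, map_add, ha, hb]
      | tmul c n => simp [eX, eY, gN]
  have h2 : Function.Injective (gN.lTensor C) := by
    intro a b hab
    obtain ⟨a, rfl⟩ := eX.surjective a
    obtain ⟨b, rfl⟩ := eX.surjective b
    rw [← hcomm, ← hcomm] at hab
    rw [h1 (eY.injective hab)]
  exact (Module.FaithfullyFlat.lTensor_injective_iff_injective B C gN).1 h2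

theorem flat_descent {A B : Type u} [CommRing A] [CommRing B] [Algebra A B]
    [Algebra.FinitePresentation A B] (J : Ideal B)
    (M : Type u) [AddCommGroup M] [Module B M] [Module A M] [IsScalarTower A B M] [Module.FinitePresentation B M]
    (hflat : ∀ k : ℕ, Module.Flat A (M ⧸ J ^ k • (⊤ : Submodule B M)))
    (q : Ideal B) [q.IsPrime] (p : Ideal A) [p.IsPrime] [q.LiesOver p] (hq : J ≤ q)
    (R : Type u) [CommRing R] [HenselianLocalRing R] [Algebra A R] [Module.Flat A R]
    [(IsLocalRing.maximalIdeal R).LiesOver p] :
    Module.Flat A (LocalizedModule q.primeCompl M) := by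
  obtain ⟨T, _, _, _, _, _, _, hpo⟩ := Groth.Agent.RG.Dev.Corep.exists_bc A R B
  haveI := hpo
  haveI hpo' : Algebra.IsPushout A B R T := Algebra.IsPushout.symm inferInstance
  obtain ⟨s, hs, hsq, hsm⟩ := Groth.Agent.RG.Pure.exists_prime_both p q (IsLocalRing.maximalIdeal R)
  haveI := hs
  let e := Algebra.IsPushout.equiv A B R T
  let P : Ideal T := Ideal.comap (e.symm : T →+* B ⊗[A] R) s
  haveI : P.IsPrime := Ideal.IsPrime.comap _
  have hPq : P.comap (algebraMap B T) = q := by
    rw [← hsq, Ideal.comap_comap]
    congr 1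
    exact RingHom.ext fun b => e.symm.commutes b
  have hPm : P.comap (algebraMap R T) = IsLocalRing.maximalIdeal R := by
    rw [← hsm, Ideal.comap_comap]
    congr 1
    ext r
    show e.symm (algebraMap R T r) = _
    rw [AlgEquiv.symm_apply_eq]
    simp [e, Algebra.IsPushout.equiv_tmul, RingHom.algebraMap_toAlgebra]
  haveI : P.LiesOver (IsLocalRing.maximalIdeal R) := ⟨hPm.symm⟩
  haveI : P.LiesOver q := ⟨hPq.symm⟩
  haveI : Algebra.FinitePresentation R T :=
    Algebra.FinitePresentation.equiv (Algebra.IsPushout.equiv A R B T)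
  let N := T ⊗[B] M
  haveI : IsScalarTower A R N := IsScalarTower.of_algebraMap_smul fun a x => by
    rw [← IsScalarTower.algebraMap_smul T (algebraMap A R a) x, ← IsScalarTower.algebraMap_apply A R T,
      algebraMap_smul]
  haveI : Module.Flat R (LocalizedModule P.primeCompl N) := by
    refine Groth.Agent.FlatGr.flat_at_of_henselian N (J.map (algebraMap B T)) P
      (Ideal.map_le_iff_le_comap.2 (hq.trans hPq.ge)) fun k => ?_
    rw [← Ideal.map_pow]
    obtain ⟨e₁⟩ := Groth.Agent.FlatGr.exists_quot_equiv (L := T) (J ^ k) M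
    haveI := hflat k
    haveI : Module.Flat R (T ⊗[B] (M ⧸ J ^ k • (⊤ : Submodule B M))) :=
      Module.Flat.of_linearEquiv (Algebra.IsPushout.cancelBaseChange A R B T (M ⧸ J ^ k • (⊤ : Submodule B M)))
    exact Module.Flat.of_linearEquiv (e₁.restrictScalars R)
  haveI : Module.Flat A (LocalizedModule P.primeCompl N) := Module.Flat.trans A R _
  -- descend along the local faithfully flat homomorphism
  haveI : Module.Flat B T := Module.Flat.isBaseChange A B R T (Algebra.IsPushout.out (S := B))
  let Bq := Localization.AtPrime q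
  let TP := Localization.AtPrime P
  letI : Algebra Bq TP := Localization.AtPrime.algebraOfLiesOver q P
  haveI : Module.Flat Bq TP := by
    haveI : Module.Flat B TP := Module.Flat.trans B T TP
    exact (Module.flat_iff_of_isLocalization Bq q.primeCompl TP).2 inferInstance
  haveI : IsLocalHom (algebraMap Bq TP) := Localization.isLocalHom_localRingHom q P _ (Ideal.over_def P q)
  haveI : Module.FaithfullyFlat Bq TP := Module.FaithfullyFlat.of_flat_of_isLocalHom
  let Mq := LocalizedModule q.primeCompl M
  haveI : IsScalarTower A Bq TP := IsScalarTower.to₁₃₄ A B Bq TP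
  haveI : Module.Flat A (TP ⊗[Bq] Mq) := by
    let e₁ : TP ⊗[Bq] Mq ≃ₗ[TP] TP ⊗[B] M :=
      (AlgebraTensorModule.congr (LinearEquiv.refl TP TP) (IsLocalizedModule.isBaseChange q.primeCompl Bq
        (LocalizedModule.mkLinearMap q.primeCompl M)).equiv.symm).trans
        (AlgebraTensorModule.cancelBaseChange B Bq TP TP M)
    let e₂ : LocalizedModule P.primeCompl N ≃ₗ[TP] TP ⊗[B] M :=
      (IsLocalizedModule.isBaseChange P.primeCompl TP (LocalizedModule.mkLinearMap P.primeCompl N)).equiv.symm.trans
        (AlgebraTensorModule.cancelBaseChange B T TP TP M)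
    exact Module.Flat.of_linearEquiv ((e₁.trans e₂.symm).restrictScalars A)
  exact flat_of_tensor_faithfullyFlat (B := Bq) (C := TP) (N := Mq)

/-- Let A be a commutative ring, B a finitely presented A-algebra, J a finitely generated ideal of B and
M a finitely presented B-module. If the associated graded module gr_J(M) is flat over A, that is
every J^k M / J^{k+1} M is a flat A-module, then M is flat over A at every point of V(J): for every
prime ideal q of B containing J, the localization M_q is a flat A-module. -/
theorem result {A B : Type u} [CommRing A] [CommRing B] [Algebra A B]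
    [Algebra.FinitePresentation A B] (J : Ideal B) (hJ : J.FG)
    (M : Type u) [AddCommGroup M] [Module B M] [Module A M] [IsScalarTower A B M] [Module.FinitePresentation B M]
    (hgr : ∀ k : ℕ, Module.Flat A
      (↥(J ^ k • (⊤ : Submodule B M)) ⧸ Submodule.comap (J ^ k • (⊤ : Submodule B M)).subtype (J ^ (k + 1) • ⊤)))
    (q : Ideal B) [q.IsPrime] (hq : J ≤ q) :
    Module.Flat A (LocalizedModule q.primeCompl M) := by
  classical
  -- all truncations are flat
  have hflat : ∀ k : ℕ, Module.Flat A (M ⧸ J ^ k • (⊤ : Submodule B M)) := by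
    intro k
    induction k with
    | zero =>
      haveI : Subsingleton (M ⧸ J ^ 0 • (⊤ : Submodule B M)) := Submodule.Quotient.subsingleton_iff.2 (by
        rw [pow_zero, Ideal.one_eq_top, Submodule.top_smul])
      infer_instance
    | succ k ih => exact flat_step J M k (hgr k) ih
  -- the henselization at the image prime
  let p : Ideal A := q.comap (algebraMap A B)
  let R₀ := Localization.AtPrime p
  obtain ⟨hloc, hH⟩ := Groth.Agent.Hensel.exists_henselization R₀
  let R := Hensel.Env R₀ (IsLocalRing.ResidueField R₀)
  haveI := hloc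
  haveI := hH
  haveI : HenselianLocalRing R := hH.1
  haveI : Module.Flat R₀ R := Groth.Agent.Hensel.henselization_flat (R := R₀) (S := R)
  haveI : Module.Flat A R := Module.Flat.trans A R₀ R
  haveI hover : (IsLocalRing.maximalIdeal R).LiesOver p := ⟨by
    show p = (IsLocalRing.maximalIdeal R).comap (algebraMap A R)
    rw [IsScalarTower.algebraMap_eq A R₀ R]
    rw [← Ideal.comap_comap, IsLocalRing.maximalIdeal_comap]
    exact Localization.AtPrime.comap_maximalIdeal.symm⟩
  haveI : q.LiesOver p := ⟨rfl⟩
  exact flat_descent J M hflat q p hq R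

end Groth.Agent.S4870
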