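import Groth.Statements.S6073
import Groth.Agent.SubGen.AlgClosed
import Groth.Agent.SubGen.Baer
import Groth.Agent.GrpField.Fibres
import Mathlib

set_option autoImplicit false
universe u
open CategoryTheory CategoryTheory.Limits MonoidalCategory CartesianMonoidalCategory MonObj GrpObj AlgebraicGeometry
open SGA3

namespace Groth.Agent.S6073

open Groth.Agent.SubGen
open scoped commutatorElement

variable {k : Type u} [Field k]

/-- Post-composition with a homomorphism. -/
noncomputable def postHom {G A : Over (Spec (CommRingCat.of k))} [GrpObj G] [GrpObj A] (a : A ⟶ G) [IsMonHom a] :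
    (𝟙_ (Over (Spec (CommRingCat.of k))) ⟶ A) →* (𝟙_ (Over (Spec (CommRingCat.of k))) ⟶ G) where
  toFun x := x ≫ a
  map_one' := MonObj.one_comp a
  map_mul' x y := MonObj.mul_comp x y a

theorem postHom_apply {G A : Over (Spec (CommRingCat.of k))} [GrpObj G] [GrpObj A] (a : A ⟶ G) [IsMonHom a]
    (x : 𝟙_ (Over (Spec (CommRingCat.of k))) ⟶ A) : postHom a x = x ≫ a := rfl

theorem cc_subset {α : Type u} [TopologicalSpace α] [TopologicalSpace.NoetherianSpace α] (S : Set α) :
    IsClosed (⋃ x ∈ S, connectedComponent x) ∧ IsClosed (⋃ x ∈ S, connectedComponent x)ᶜ := by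
  have key : ∀ W : Set α, (∀ x ∈ W, connectedComponent x ⊆ W) → IsClosed W := fun W hW => by
    have e : W = ⋃₀ {Z ∈ irreducibleComponents α | Z ⊆ W} := by
      refine Set.Subset.antisymm (fun x hx => ⟨_, ⟨irreducibleComponent_mem_irreducibleComponents x, ?_⟩,
        mem_irreducibleComponent⟩) (Set.sUnion_subset fun Z hZ => hZ.2)
      exact (irreducibleComponent_subset_connectedComponent).trans (hW x hx)
    rw [e, Set.sUnion_eq_biUnion]
    exact (TopologicalSpace.NoetherianSpace.finite_irreducibleComponents.subset fun Z hZ => hZ.1).isClosed_biUnion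
      fun Z hZ => isClosed_of_mem_irreducibleComponents Z hZ.1
  refine ⟨key _ fun x hx => ?_, key _ fun x hx y hy hy' => hx ?_⟩
  · obtain ⟨s, hs, hxs⟩ := Set.mem_iUnion₂.1 hx
    rw [← connectedComponent_eq hxs]
    exact Set.subset_biUnion_of_mem (u := fun x => connectedComponent x) hs
  · obtain ⟨s, hs, hys⟩ := Set.mem_iUnion₂.1 hy'
    exact Set.mem_iUnion₂.2 ⟨s, hs, by rw [connectedComponent_eq hys, ← connectedComponent_eq hy]; exact mem_connectedComponent⟩


/-- Let k be an algebraically closed field, G a group scheme locally of finite type over k, and a : A →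
G, b : B → G two closed subgroup schemes which are geometrically reduced over k, such that either
(a) A and B are normal in G and of finite type over k, or (b) A is connected and B is of finite type
over k. Let i : Γ → G be the commutator subgroup scheme (A, B): the smallest closed subgroup scheme
of G through which A ×_k B → G, (x, y) ↦ a(x) b(y) a(x)⁻¹ b(y)⁻¹, factors. Then the image of Γ(k) in
G(k) is the commutator subgroup of the images of A(k) and B(k): the subgroup of G(k) generated by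
the commutators of a k-point of A with a k-point of B. -/
theorem result (k : Type u) [Field k] [IsAlgClosed k]
    (G A B : Over (Spec (CommRingCat.of k))) [GrpObj G] [GrpObj A] [GrpObj B] [LocallyOfFiniteType G.hom]
    (a : A ⟶ G) [IsMonHom a] [IsClosedImmersion a.left] (b : B ⟶ G) [IsMonHom b] [IsClosedImmersion b.left]
    [GeometricallyReduced A.hom] [GeometricallyReduced B.hom] [QuasiCompact B.hom]
    (hcase : (AlgGrp.IsNormalHom a ∧ AlgGrp.IsNormalHom b ∧ QuasiCompact A.hom) ∨ ConnectedSpace A.left)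
    (Γ : Over (Spec (CommRingCat.of k))) [GrpObj Γ] (i : Γ ⟶ G) [IsMonHom i] [IsClosedImmersion i.left]
    (hf : ∃ f' : A ⊗ B ⟶ Γ, f' ≫ i = (((fst A B) ≫ a) * ((snd A B) ≫ b) * ((fst A B) ≫ a)⁻¹ * ((snd A B) ≫ b)⁻¹))
    (hmin : ∀ (Γ' : Over (Spec (CommRingCat.of k))) (_ : GrpObj Γ') (i' : Γ' ⟶ G), IsMonHom i' → IsClosedImmersion i'.left →
        (∃ f'' : A ⊗ B ⟶ Γ', f'' ≫ i' = (((fst A B) ≫ a) * ((snd A B) ≫ b) * ((fst A B) ≫ a)⁻¹ * ((snd A B) ≫ b)⁻¹)) → ∃ j : Γ ⟶ Γ', j ≫ i' = i) :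
    Set.range (fun z : 𝟙_ (Over (Spec (CommRingCat.of k))) ⟶ Γ => z ≫ i) =
      ((⁅Subgroup.closure (Set.range (fun x : 𝟙_ (Over (Spec (CommRingCat.of k))) ⟶ A => x ≫ a)),
         Subgroup.closure (Set.range (fun y : 𝟙_ (Over (Spec (CommRingCat.of k))) ⟶ B => y ≫ b))⁆ : Subgroup (𝟙_ (Over (Spec (CommRingCat.of k))) ⟶ G)) :
        Set (𝟙_ (Over (Spec (CommRingCat.of k))) ⟶ G)) := by
  obtain ⟨f', hf'⟩ := hf
  generalize hfdef : (fst A B ≫ a) * (snd A B ≫ b) * (fst A B ≫ a)⁻¹ * (snd A B ≫ b)⁻¹ = f at hf' hmin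
  have hfpt : ∀ q : 𝟙_ (Over (Spec (CommRingCat.of k))) ⟶ A ⊗ B,
      q ≫ f = ⁅(q ≫ fst A B) ≫ a, (q ≫ snd A B) ≫ b⁆ := fun q => by
    rw [← hfdef, commutatorElement_def]
    simp [MonObj.comp_mul, GrpObj.comp_inv]
  have hf1 : ∀ y : 𝟙_ (Over (Spec (CommRingCat.of k))) ⟶ B, lift 1 y ≫ f = 1 := fun y => by
    rw [hfpt, lift_fst, MonObj.one_comp, commutatorElement_one_left]
  have hf1' : ∀ x : 𝟙_ (Over (Spec (CommRingCat.of k))) ⟶ A, lift x 1 ≫ f = 1 := fun x => by
    rw [hfpt, lift_snd, MonObj.one_comp, commutatorElement_one_right]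
  let A' := (postHom a).range
  let B' := (postHom b).range
  have hA' : Subgroup.closure (Set.range (fun x : 𝟙_ (Over (Spec (CommRingCat.of k))) ⟶ A => x ≫ a)) = A' := by
    rw [show Set.range (fun x : 𝟙_ (Over (Spec (CommRingCat.of k))) ⟶ A => x ≫ a) = (A' : Set _) from rfl]
    exact Subgroup.closure_eq A'
  have hB' : Subgroup.closure (Set.range (fun x : 𝟙_ (Over (Spec (CommRingCat.of k))) ⟶ B => x ≫ b)) = B' := by
    rw [show Set.range (fun x : 𝟙_ (Over (Spec (CommRingCat.of k))) ⟶ B => x ≫ b) = (B' : Set _) from rfl]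
    exact Subgroup.closure_eq B'
  rw [hA', hB']
  let C' := ⁅A', B'⁆
  haveI : LocallyOfFiniteType A.hom := by rw [← Over.w a]; infer_instance
  haveI : LocallyOfFiniteType B.hom := by rw [← Over.w b]; infer_instance
  haveI : LocallyOfFiniteType Γ.hom := by rw [← Over.w i]; infer_instance
  haveI : LocallyOfFiniteType (A ⊗ B).hom := by
    haveI : LocallyOfFiniteType (pullback.fst A.hom B.hom) := MorphismProperty.pullback_fst _ _ ‹_›
    exact inferInstanceAs (LocallyOfFiniteType (pullback.fst A.hom B.hom ≫ A.hom))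
  haveI : GeometricallyReduced (A ⊗ B).hom := GeomRedPull.geometricallyReduced_pullback A.hom B.hom
  haveI : QuasiCompact A.hom := by
    rcases hcase with ⟨-, -, h⟩ | h
    · exact h
    · haveI := h
      haveI := GrpField.geometricallyIrreducible_of_connected A
      exact GrpField.quasiCompact_of_irreducible A
  haveI : QuasiCompact (A ⊗ B).hom := by
    haveI : QuasiCompact (pullback.fst A.hom B.hom) := MorphismProperty.pullback_fst _ _ ‹_›
    exact inferInstanceAs (QuasiCompact (pullback.fst A.hom B.hom ≫ A.hom))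
  have hCgen : ∀ q : 𝟙_ (Over (Spec (CommRingCat.of k))) ⟶ A ⊗ B, q ≫ f ∈ C' := fun q => by
    rw [hfpt]
    exact Subgroup.commutator_mem_commutator (H₁ := A') (H₂ := B') ⟨q ≫ fst A B, rfl⟩ ⟨q ≫ snd A B, rfl⟩
  have hword : ∀ (l : List Bool) (c : 𝟙_ (Over (Spec (CommRingCat.of k))) ⟶ src (A ⊗ B) l),
      c ≫ word f l ∈ C' := fun l c => by
    induction l with
    | nil => rw [comp_word_nil]; exact one_mem C'
    | cons e l ih =>
      rw [comp_word_cons, comp_letter]
      refine mul_mem ?_ (ih _)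
      cases e
      · exact inv_mem (hCgen _)
      · exact hCgen _
  have hd : JointlyDense (word f') := jointlyDense_of_min f i f' hf' hmin
  haveI : Mono i := GrpField.SchImg.mono_of_isClosedImmersion i
  suffices key : ∀ z : 𝟙_ (Over (Spec (CommRingCat.of k))) ⟶ Γ, z ≫ i ∈ C' by
    refine Set.Subset.antisymm (by rintro _ ⟨z, rfl⟩; exact key z) ?_
    show ((C' : Subgroup (𝟙_ (Over (Spec (CommRingCat.of k))) ⟶ G)) : Set (𝟙_ (Over (Spec (CommRingCat.of k))) ⟶ G)) ⊆ ((postHom i).range : Subgroup (𝟙_ (Over (Spec (CommRingCat.of k))) ⟶ G))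
    refine SetLike.coe_subset_coe.2 (Subgroup.commutator_le.2 ?_)
    rintro _ ⟨x, rfl⟩ _ ⟨y, rfl⟩
    refine ⟨lift x y ≫ f', ?_⟩
    rw [postHom_apply, Category.assoc, hf', hfpt, lift_fst, lift_snd]
    rfl
  rcases hcase with ⟨hAn, hBn, -⟩ | hconn
  case inr =>
    haveI := hconn
    obtain ⟨m, hm⟩ := exists_word_eq_rat f' hd fun W hW hne => by
      haveI : JacobsonSpace (A ⊗ B).left := LocallyOfFiniteType.jacobsonSpace (A ⊗ B).hom
      obtain ⟨w, hw, hwc⟩ := nonempty_inter_closedPoints hne hW.1.isLocallyClosed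
      obtain ⟨q, rfl⟩ := exists_rpt hwc
      let ψ : A ⟶ A ⊗ B := lift (𝟙 A) (toUnit A ≫ q ≫ snd A B)
      have hψ : ∀ x : 𝟙_ (Over (Spec (CommRingCat.of k))) ⟶ A, ψ.left (rpt x) = rpt (lift x (q ≫ snd A B)) := fun x => by
        rw [map_rpt]; congr 1
        apply CartesianMonoidalCategory.hom_ext
        · simp [ψ]
        · simp only [ψ, Category.assoc, lift_snd, comp_toUnit_assoc]
          rw [toUnit_unique (toUnit _) (𝟙 _), Category.id_comp]
      have hW' : ψ.left ⁻¹' W = Set.univ := by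
        refine IsClopen.eq_univ ⟨hW.1.preimage ψ.left.continuous, hW.2.preimage ψ.left.continuous⟩ ⟨rpt (q ≫ fst A B), ?_⟩
        rw [Set.mem_preimage, hψ, lift_comp_fst_snd]
        exact hw
      refine ⟨lift 1 (q ≫ snd A B), ?_, ?_⟩
      · rw [← hψ]; exact hW'.ge (Set.mem_univ _)
      · rw [← cancel_mono i, Category.assoc, hf', hf1, MonObj.one_comp]
    intro z
    obtain ⟨c, rfl⟩ := hm z
    rw [Category.assoc, word_comp, hf']
    exact hword m c
  case inl =>
    haveI : CompactSpace (A ⊗ B).left :=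
      QuasiCompact.compactSpace_of_compactSpace (Y := Spec (CommRingCat.of k)) (A ⊗ B).hom
    haveI : CompactSpace A.left := QuasiCompact.compactSpace_of_compactSpace (Y := Spec (CommRingCat.of k)) A.hom
    haveI : CompactSpace B.left := QuasiCompact.compactSpace_of_compactSpace (Y := Spec (CommRingCat.of k)) B.hom
    haveI : IsLocallyNoetherian (A ⊗ B).left := LocallyOfFiniteType.isLocallyNoetherian (A ⊗ B).hom
    haveI : IsLocallyNoetherian A.left := LocallyOfFiniteType.isLocallyNoetherian A.hom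
    haveI : IsLocallyNoetherian B.left := LocallyOfFiniteType.isLocallyNoetherian B.hom
    haveI : AlgebraicGeometry.IsNoetherian (A ⊗ B).left := {}
    haveI : AlgebraicGeometry.IsNoetherian A.left := {}
    haveI : AlgebraicGeometry.IsNoetherian B.left := {}
    let S₁ : Set (A ⊗ B).left := {w | ∃ q : 𝟙_ (Over (Spec (CommRingCat.of k))) ⟶ A ⊗ B, q ≫ f = 1 ∧ rpt q = w}
    let Vs : Set (A ⊗ B).left := ⋃ x ∈ S₁, connectedComponent x
    have hVs : IsClosed Vs ∧ IsClosed Vsᶜ := cc_subset S₁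
    let V : (A ⊗ B).left.Opens := ⟨Vs, isClosed_compl_iff.1 hVs.2⟩
    let Xv : Over (Spec (CommRingCat.of k)) := Over.mk (V.ι ≫ (A ⊗ B).hom)
    let jv : Xv ⟶ A ⊗ B := Over.homMk V.ι rfl
    haveI : IsOpenImmersion jv.left := inferInstanceAs (IsOpenImmersion V.ι)
    haveI : LocallyOfFiniteType Xv.hom := inferInstanceAs (LocallyOfFiniteType (V.ι ≫ (A ⊗ B).hom))
    haveI : QuasiCompact Xv.hom := by
      haveI : CompactSpace Xv.left := isCompact_iff_compactSpace.1 (show IsCompact (V : Set (A ⊗ B).left) from hVs.1.isCompact)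
      exact (quasiCompact_iff_compactSpace Xv.hom).2 inferInstance
    haveI : IsReduced (A ⊗ B).left :=
      GeometricallyReduced.geometrically_isReduced (f := (A ⊗ B).hom) (K := k) (𝟙 _) (𝟙 _) (A ⊗ B).hom
        (IsPullback.of_horiz_isIso ⟨by rw [Category.id_comp, Category.comp_id]⟩)
    haveI : IsReduced Xv.left := inferInstanceAs (IsReduced V.toScheme)
    haveI : GeometricallyReduced Xv.hom := Rigid.geometricallyReduced_of_perfect Xv.hom
    obtain ⟨K0, hK0, i0, w0, him, hici, hw0, hd0, ⟨f0, hf0⟩, -⟩ := exists_generated (jv ≫ f)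
    haveI := hici
    haveI : Mono i0 := GrpField.SchImg.mono_of_isClosedImmersion i0
    haveI : LocallyOfFiniteType K0.hom := by rw [← Over.w i0]; infer_instance
    have hd0' : JointlyDense (word f0) := by
      have e : word f0 = w0 := funext fun l => by rw [← cancel_mono i0, word_comp, hf0, hw0]
      rw [e]; exact hd0
    have hlift : ∀ q : 𝟙_ (Over (Spec (CommRingCat.of k))) ⟶ A ⊗ B, rpt q ∈ Vs → ∃ q', q' ≫ jv = q := fun q hq => by
      have hr : Set.range q.left ⊆ Set.range jv.left := by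
        rintro _ ⟨t, rfl⟩
        rw [apply_eq_rpt]
        show _ ∈ Set.range V.ι
        rw [Scheme.Opens.range_ι]
        exact hq
      refine ⟨Over.homMk (IsOpenImmersion.lift jv.left q.left hr) ?_, Over.OverMorphism.ext (IsOpenImmersion.lift_fac _ _ _)⟩
      rw [← Over.w jv, IsOpenImmersion.lift_fac_assoc, Over.w]
    have hjV : ∀ q' : 𝟙_ (Over (Spec (CommRingCat.of k))) ⟶ Xv, rpt (q' ≫ jv) ∈ Vs := fun q' => by
      have h : rpt (q' ≫ jv) ∈ Set.range V.ι := ⟨rpt q', rfl⟩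
      rw [Scheme.Opens.range_ι] at h
      exact h
    obtain ⟨m, hm⟩ := exists_word_eq_rat f0 hd0' fun W hW hne => by
      obtain ⟨w, hw⟩ := hne
      have hwV : (jv.left w) ∈ Vs := by
        have h : jv.left w ∈ Set.range V.ι := ⟨w, rfl⟩
        rw [Scheme.Opens.range_ι] at h
        exact h
      obtain ⟨_, ⟨q, hq1, rfl⟩, hwq⟩ := Set.mem_iUnion₂.1 hwV
      have hclop : IsClopen (jv.left '' W) := by
        refine ⟨?_, jv.left.isOpenEmbedding.isOpenMap _ hW.2⟩
        refine (Topology.IsClosedEmbedding.mk jv.left.isOpenEmbedding.isEmbedding ?_).isClosedMap _ hW.1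
        show IsClosed (Set.range V.ι)
        rw [Scheme.Opens.range_ι]; exact hVs.1
      have hsub := hclop.connectedComponent_subset ⟨w, hw, rfl⟩
      rw [← connectedComponent_eq hwq] at hsub
      obtain ⟨q', rfl⟩ := hlift q (Set.mem_iUnion₂.2 ⟨_, ⟨q, hq1, rfl⟩, mem_connectedComponent⟩)
      refine ⟨q', ?_, ?_⟩
      · obtain ⟨w', hw', e⟩ := hsub mem_connectedComponent
        have e' : w' = rpt q' := jv.left.isOpenEmbedding.injective (e : jv.left w' = jv.left (rpt q'))
        exact e' ▸ hw'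
      · rw [← cancel_mono i0, Category.assoc, hf0, ← Category.assoc, hq1, MonObj.one_comp]
    let S0 : Set (𝟙_ (Over (Spec (CommRingCat.of k))) ⟶ G) := {g | ∃ q, rpt q ∈ Vs ∧ q ≫ f = g}
    let D0 := Subgroup.closure S0
    have hK0D : ∀ z : 𝟙_ (Over (Spec (CommRingCat.of k))) ⟶ K0, z ≫ i0 ∈ D0 := fun z => by
      obtain ⟨c, rfl⟩ := hm z
      rw [Category.assoc, word_comp, hf0]
      obtain ⟨x, hx⟩ := exists_sprod (jv ≫ f) m c
      rw [← hx]
      refine Subgroup.list_prod_mem _ fun g hg => ?_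
      obtain ⟨j, rfl⟩ := List.mem_ofFn.1 hg
      have hmem : x j ≫ jv ≫ f ∈ D0 := Subgroup.subset_closure ⟨x j ≫ jv, hjV _, Category.assoc _ _ _⟩
      split_ifs
      · exact hmem
      · exact inv_mem hmem
    have hDK0 : D0 ≤ (postHom i0).range := (Subgroup.closure_le _).2 (by
      rintro _ ⟨q, hq, rfl⟩
      obtain ⟨q', rfl⟩ := hlift q hq
      refine ⟨q' ≫ f0, ?_⟩
      rw [postHom_apply, Category.assoc, hf0, Category.assoc])
    have hDC : D0 ≤ C' := (Subgroup.closure_le _).2 (by rintro _ ⟨q, -, rfl⟩; exact hCgen q)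
    -- conjugation
    have hconjA : ∀ g : 𝟙_ (Over (Spec (CommRingCat.of k))) ⟶ G, ∃ n : A ⟶ A,
        ∀ x : 𝟙_ (Over (Spec (CommRingCat.of k))) ⟶ A, (x ≫ n) ≫ a = g * (x ≫ a) * g⁻¹ := fun g => by
      obtain ⟨n, hn⟩ := hAn A (toUnit A ≫ g) (𝟙 A)
      refine ⟨n, fun x => ?_⟩
      rw [Category.assoc, ← hn]
      simp only [MonObj.comp_mul, GrpObj.comp_inv, Category.id_comp, comp_toUnit_assoc]
      rw [toUnit_unique (toUnit _) (𝟙 _), Category.id_comp]
    have hconjB : ∀ g : 𝟙_ (Over (Spec (CommRingCat.of k))) ⟶ G, ∃ n : B ⟶ B,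
        ∀ x : 𝟙_ (Over (Spec (CommRingCat.of k))) ⟶ B, (x ≫ n) ≫ b = g * (x ≫ b) * g⁻¹ := fun g => by
      obtain ⟨n, hn⟩ := hBn B (toUnit B ≫ g) (𝟙 B)
      refine ⟨n, fun x => ?_⟩
      rw [Category.assoc, ← hn]
      simp only [MonObj.comp_mul, GrpObj.comp_inv, Category.id_comp, comp_toUnit_assoc]
      rw [toUnit_unique (toUnit _) (𝟙 _), Category.id_comp]
    haveI : A'.Normal := ⟨by
      rintro _ ⟨x, rfl⟩ g
      obtain ⟨n, hn⟩ := hconjA g
      exact ⟨x ≫ n, hn x⟩⟩
    haveI : B'.Normal := ⟨by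
      rintro _ ⟨x, rfl⟩ g
      obtain ⟨n, hn⟩ := hconjB g
      exact ⟨x ≫ n, hn x⟩⟩
    haveI : D0.Normal := ⟨fun z hz g => by
      induction hz using Subgroup.closure_induction with
      | mem z hz =>
        obtain ⟨q, hq, rfl⟩ := hz
        obtain ⟨nA, hnA⟩ := hconjA g
        obtain ⟨nB, hnB⟩ := hconjB g
        let φ : A ⊗ B ⟶ A ⊗ B := lift (fst A B ≫ nA) (snd A B ≫ nB)
        have hφ : ∀ p : 𝟙_ (Over (Spec (CommRingCat.of k))) ⟶ A ⊗ B, (p ≫ φ) ≫ f = g * (p ≫ f) * g⁻¹ := fun p => by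
          rw [hfpt, hfpt p]
          simp only [φ, Category.assoc, lift_fst, lift_snd]
          rw [← Category.assoc p (fst A B), ← Category.assoc p (snd A B), ← Category.assoc (p ≫ fst A B) nA,
            ← Category.assoc (p ≫ snd A B) nB, hnA, hnB]
          simp only [commutatorElement_def, Category.assoc]
          group
        obtain ⟨_, ⟨q₀, hq₀, rfl⟩, hqc⟩ := Set.mem_iUnion₂.1 hq
        refine Subgroup.subset_closure ⟨q ≫ φ, Set.mem_iUnion₂.2 ⟨rpt (q₀ ≫ φ), ⟨q₀ ≫ φ, ?_, rfl⟩, ?_⟩, hφ q⟩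
        · rw [hφ, hq₀]; group
        · exact φ.left.continuous.mapsTo_connectedComponent (rpt q₀) hqc
      | one => rw [_root_.mul_one, _root_.mul_inv_cancel]; exact one_mem _
      | mul x y _ _ hx hy => rw [show g * (x * y) * g⁻¹ = g * x * g⁻¹ * (g * y * g⁻¹) by group]; exact mul_mem hx hy
      | inv x _ hx => rw [show g * x⁻¹ * g⁻¹ = (g * x * g⁻¹)⁻¹ by group]; exact inv_mem hx⟩
    let π := QuotientGroup.mk' D0
    have hπ : ∀ q : 𝟙_ (Over (Spec (CommRingCat.of k))) ⟶ A ⊗ B, rpt q ∈ Vs → π (q ≫ f) = 1 := fun q hq =>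
      (QuotientGroup.eq_one_iff _).2 (Subgroup.subset_closure ⟨q, hq, rfl⟩)
    have hA0 : ∀ p p' : 𝟙_ (Over (Spec (CommRingCat.of k))) ⟶ A, rpt p' ∈ connectedComponent (rpt p) →
        ∀ y ∈ B'.map π, π ((p⁻¹ * p') ≫ a) * y = y * π ((p⁻¹ * p') ≫ a) := by
      rintro p p' hp _ ⟨_, ⟨y, rfl⟩, rfl⟩
      let τ : A ⟶ A := (toUnit A ≫ p⁻¹) * 𝟙 A
      have hτ : ∀ x : 𝟙_ (Over (Spec (CommRingCat.of k))) ⟶ A, x ≫ τ = p⁻¹ * x := fun x => by
        simp only [τ, MonObj.comp_mul, comp_toUnit_assoc, Category.comp_id]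
        rw [toUnit_unique (toUnit _) (𝟙 _), Category.id_comp]
      let ψ : A ⟶ A ⊗ B := lift (𝟙 A) (toUnit A ≫ y)
      have hψ : ∀ x : 𝟙_ (Over (Spec (CommRingCat.of k))) ⟶ A, x ≫ ψ = lift x y := fun x => by
        apply CartesianMonoidalCategory.hom_ext
        · simp [ψ]
        · simp only [ψ, Category.assoc, lift_snd, comp_toUnit_assoc]
          rw [toUnit_unique (toUnit _) (𝟙 _), Category.id_comp]
      have h1 := ψ.left.continuous.mapsTo_connectedComponent _ (τ.left.continuous.mapsTo_connectedComponent (rpt p) hp)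
      rw [map_rpt, map_rpt, map_rpt, map_rpt, hτ, hτ, hψ, hψ, _root_.inv_mul_cancel] at h1
      have h2 := hπ _ (Set.mem_iUnion₂.2 ⟨_, ⟨lift 1 y, hf1 y, rfl⟩, h1⟩)
      rw [hfpt, lift_fst, lift_snd, map_commutatorElement] at h2
      exact commutatorElement_eq_one_iff_mul_comm.1 h2
    have hB0 : ∀ p p' : 𝟙_ (Over (Spec (CommRingCat.of k))) ⟶ B, rpt p' ∈ connectedComponent (rpt p) →
        ∀ y ∈ A'.map π, π ((p⁻¹ * p') ≫ b) * y = y * π ((p⁻¹ * p') ≫ b) := by
      rintro p p' hp _ ⟨_, ⟨x, rfl⟩, rfl⟩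
      let τ : B ⟶ B := (toUnit B ≫ p⁻¹) * 𝟙 B
      have hτ : ∀ y : 𝟙_ (Over (Spec (CommRingCat.of k))) ⟶ B, y ≫ τ = p⁻¹ * y := fun y => by
        simp only [τ, MonObj.comp_mul, comp_toUnit_assoc, Category.comp_id]
        rw [toUnit_unique (toUnit _) (𝟙 _), Category.id_comp]
      let ψ : B ⟶ A ⊗ B := lift (toUnit B ≫ x) (𝟙 B)
      have hψ : ∀ y : 𝟙_ (Over (Spec (CommRingCat.of k))) ⟶ B, y ≫ ψ = lift x y := fun y => by
        apply CartesianMonoidalCategory.hom_ext
        · simp only [ψ, Category.assoc, lift_fst, comp_toUnit_assoc]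
          rw [toUnit_unique (toUnit _) (𝟙 _), Category.id_comp]
        · simp [ψ]
      have h1 := ψ.left.continuous.mapsTo_connectedComponent _ (τ.left.continuous.mapsTo_connectedComponent (rpt p) hp)
      rw [map_rpt, map_rpt, map_rpt, map_rpt, hτ, hτ, hψ, hψ, _root_.inv_mul_cancel] at h1
      have h2 := hπ _ (Set.mem_iUnion₂.2 ⟨_, ⟨lift x 1, hf1' x, rfl⟩, h1⟩)
      rw [hfpt, lift_fst, lift_snd, map_commutatorElement] at h2
      exact (commutatorElement_eq_one_iff_mul_comm.1 h2).symm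
    have hcof : ∀ (Y : Over (Spec (CommRingCat.of k))) [GrpObj Y] [LocallyOfFiniteType Y.hom]
        [AlgebraicGeometry.IsNoetherian Y.left] (c : Y ⟶ G) [IsMonHom c] (P : Subgroup _),
        (∀ p p' : 𝟙_ (Over (Spec (CommRingCat.of k))) ⟶ Y, rpt p' ∈ connectedComponent (rpt p) →
          π ((p⁻¹ * p') ≫ c) ∈ P) → Cof ((postHom c).range.map π) P := by
      intro Y _ _ _ c _ P hP
      classical
      haveI : JacobsonSpace Y.left := LocallyOfFiniteType.jacobsonSpace Y.hom
      haveI := TopologicalSpace.NoetherianSpace.finite_irreducibleComponents (α := Y.left) |>.fintype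
      have hsel : ∀ Z : irreducibleComponents Y.left, ∃ p : 𝟙_ (Over (Spec (CommRingCat.of k))) ⟶ Y, rpt p ∈ (Z : Set Y.left) := fun Z => by
        obtain ⟨w, hw, hwc⟩ := nonempty_inter_closedPoints Z.2.1.nonempty
          (isClosed_of_mem_irreducibleComponents _ Z.2).isLocallyClosed
        obtain ⟨p, rfl⟩ := exists_rpt hwc
        exact ⟨p, hw⟩
      choose P0 hP0 using hsel
      refine ⟨Finset.univ.image fun Z => π (P0 Z ≫ c), ?_⟩
      rintro _ ⟨_, ⟨p', rfl⟩, rfl⟩
      let Z : irreducibleComponents Y.left := ⟨_, irreducibleComponent_mem_irreducibleComponents (rpt p')⟩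
      refine ⟨π (P0 Z ≫ c), Finset.mem_image_of_mem _ (Finset.mem_univ _), ⟨_, ⟨P0 Z, rfl⟩, rfl⟩, ?_⟩
      rw [← map_inv, ← map_mul, postHom_apply, ← GrpObj.inv_comp, ← MonObj.mul_comp]
      refine hP _ _ ?_
      rw [← connectedComponent_eq (irreducibleComponent_subset_connectedComponent (hP0 Z))]
      exact mem_connectedComponent
    let A0 := A'.map π ⊓ Subgroup.centralizer (B'.map π : Set _)
    let B0 := B'.map π ⊓ Subgroup.centralizer (A'.map π : Set _)
    have cA : Cof (A'.map π) A0 := hcof A a A0 fun p p' hp =>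
      ⟨⟨_, ⟨_, rfl⟩, rfl⟩, Subgroup.mem_centralizer_iff.2 fun y hy => (hA0 p p' hp y hy).symm⟩
    have cB : Cof (B'.map π) B0 := hcof B b B0 fun p p' hp =>
      ⟨⟨_, ⟨_, rfl⟩, rfl⟩, Subgroup.mem_centralizer_iff.2 fun y hy => (hB0 p p' hp y hy).symm⟩
    haveI : (A'.map π).Normal := ‹A'.Normal›.map π (QuotientGroup.mk'_surjective D0)
    haveI : (B'.map π).Normal := ‹B'.Normal›.map π (QuotientGroup.mk'_surjective D0)
    have hfin : Finite ↥⁅A'.map π, B'.map π⁆ := finite_commutator_of_cof (A₀ := A0) (B₀ := B0) inf_le_left cA cB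
      (fun x hx y hy => ((Subgroup.mem_centralizer_iff.1 hx.2) y hy).symm)
      (fun x hx y hy => ((Subgroup.mem_centralizer_iff.1 hx.2) y hy).symm)
    rw [← Subgroup.map_commutator] at hfin
    have hsurj : ∀ u : C'.map π, ∃ r ∈ C', π r = u := fun u => u.2
    choose R hRC hR using hsurj
    let τG : (𝟙_ (Over (Spec (CommRingCat.of k))) ⟶ G) → (G ⟶ G) := fun r => (toUnit G ≫ r⁻¹) * 𝟙 G
    have hτG : ∀ r z : 𝟙_ (Over (Spec (CommRingCat.of k))) ⟶ G, z ≫ τG r = r⁻¹ * z := fun r z => by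
      simp only [τG, MonObj.comp_mul, comp_toUnit_assoc, Category.comp_id]
      rw [toUnit_unique (toUnit _) (𝟙 _), Category.id_comp]
    let RS : Set G.left := ⋃ u : C'.map π, (τG (R u)).left ⁻¹' Set.range i0.left
    have hRS : IsClosed RS := isClosed_iUnion_of_finite fun u =>
      i0.left.isClosedEmbedding.isClosed_range.preimage (τG (R u)).left.continuous
    have hCR : ∀ z ∈ C', rpt z ∈ RS := fun z hz => by
      refine Set.mem_iUnion.2 ⟨⟨π z, z, hz, rfl⟩, ?_⟩
      rw [Set.mem_preimage, map_rpt, hτG]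
      obtain ⟨x, hx⟩ := hDK0 ((QuotientGroup.eq (s := D0)).1 (hR ⟨π z, z, hz, rfl⟩))
      rw [← hx]
      exact ⟨rpt x, map_rpt _ _⟩
    have huniv := eq_univ_of_dense f' hd (C := i.left ⁻¹' RS) (hRS.preimage i.left.continuous) fun l c => by
      rw [Set.mem_preimage, map_rpt, Category.assoc, word_comp, hf']
      exact hCR _ (hword l c)
    intro z
    obtain ⟨u, hu⟩ := Set.mem_iUnion.1 (show rpt (z ≫ i) ∈ RS from by rw [← map_rpt]; exact huniv.ge (Set.mem_univ (rpt z)))
    rw [Set.mem_preimage, map_rpt, hτG] at hu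
    obtain ⟨x, hx⟩ := exists_rat_lift i0 ((R u)⁻¹ * (z ≫ i)) (IsLocalRing.closedPoint k) hu
    rw [show z ≫ i = R u * ((R u)⁻¹ * (z ≫ i)) from (_root_.mul_inv_cancel_left _ _).symm, ← hx]
    exact mul_mem (hRC u) (hDC (hK0D x))

end Groth.Agent.S6073
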