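import Groth.Statements.S5550
import Groth.Agent.SubLocus.TorusCentralizer
import Groth.Agent.RedCent.Reductive
import Groth.Agent.Chev.CentBC
import Groth.Agent.Chev.GeomPtIso
import Groth.Agent.MTBridge.MonoClosed
import Groth.Agent.MTBridge.Centralizer
import Groth.Agent.MTImage.SubTorus
import Groth.Agent.RedR1.Gen

set_option linter.style.haveILetI false
set_option backward.isDefEq.respectTransparency false
set_option synthInstance.maxHeartbeats 400000
set_option maxHeartbeats 1000000

set_option autoImplicit false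
open CategoryTheory MonoidalCategory CartesianMonoidalCategory MonObj GrpObj AlgebraicGeometry
universe u
open RedSub

namespace Groth.Agent.S5550

/-- First assertion. Let G be a reductive S-group and q : Q ⟶ G a subtorus. Then the centraliser of Q in
G is representable by a subgroup of type (R) of G which is itself a reductive S-group. -/
theorem result {S : Scheme.{u}} {G Q : Over S} [GrpObj G] [GrpObj Q]
    (hG : Red.IsReductive G) (q : Q ⟶ G) [IsMonHom q] [Mono q] (hQ : Red.IsTorus Q) :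
    ∃ (Z : Over S) (_ : GrpObj Z) (z : Z ⟶ G), Red.IsCentralizerOf q z ∧ RedSub.IsTypeR z ∧ Red.IsReductive Z := by
  haveI := hG.1; haveI := hG.2.1
  have hM := MTBridge.isMultTypeFT_of_isTorus Q hQ
  haveI : IsClosedImmersion q.left := MTBridge.isClosedImmersion_of_mono (MTBridge.locally_of_isMultTypeFT' Q hM) hG.1 q
  obtain ⟨⟨Z, z, hzc, hZs, hz⟩, -⟩ := SubLocus.exists_centralizer_normalizer_multType G Q q hM
  haveI := hzc; haveI := hZs
  haveI : Mono z := Over.mono_of_mono_left z
  obtain ⟨_, hzm⟩ := MTBridge.exists_grpObj_of_div z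
    ((hz _ _).2 fun X' x h => by
      rw [show η[G] = (1 : 𝟙_ (Over S) ⟶ G) by rw [Hom.one_def, toUnit_unit, Category.id_comp], MonObj.comp_one,
        _root_.one_mul, _root_.mul_one])
    (fun T k₁ k₂ => (hz _ _).2 fun X' x h => by
      have e₁ : Commute (x ≫ k₁ ≫ z) (h ≫ q) := (hz _ _).1 ⟨k₁, rfl⟩ X' x h
      have e₂ : Commute (x ≫ k₂ ≫ z) (h ≫ q) := (hz _ _).1 ⟨k₂, rfl⟩ X' x h
      rw [MonObj.comp_mul, GrpObj.comp_inv]
      exact (e₁.inv_left.mul_left e₂).eq)
  haveI := hzm
  have hcent : Red.IsCentralizerOf q z := ⟨hzm, inferInstance, hz⟩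
  haveI : IsAffineHom Z.hom := by rw [← Over.w z]; infer_instance
  have hred : ∀ s : S, Red.IsReductiveOver (AlgebraicClosure (S.residueField s)) (Red.geomFibre s Z) := fun s => by
    haveI := (hG.2.2 s).1; haveI := (hG.2.2 s).2.1; haveI := (hG.2.2 s).2.2.1
    exact RedCent.isReductiveOver_centralizer (hG.2.2 s) ((Over.pullback (Red.geomPt s)).map q)
      (Chev.Borel.isTorus_bc_scheme Q _ hQ) _ (Chev.CentBC.isCentralizerOf_bc (Red.geomPt s) q z hcent)
  refine ⟨Z, inferInstance, z, hcent, ⟨⟨hzm, inferInstance⟩, hZs, inferInstance,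
    MTImage.isConnected_fibre_of_geom fun s => (hred s).2.2.1, fun s => ?_⟩, ⟨inferInstance, hZs, hred⟩⟩
  haveI := (hG.2.2 s).1; haveI := (hG.2.2 s).2.1; haveI := (hG.2.2 s).2.2.1
  let F := Over.pullback (Red.geomPt s)
  obtain ⟨T, _, iT, f, hT, hf⟩ := RedCent.exists_maxTorus_containing (F.map q) (Chev.Borel.isTorus_bc_scheme Q _ hQ)
  have hcs := Chev.CentBC.isCentralizerOf_bc (Red.geomPt s) q z hcent
  have hTc : ∀ (X : Over _) (a b : X ⟶ T), a * b = b * a := fun X a b => RedR1.mul_comm_torus hT.2.2.1 a b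
  obtain ⟨t, ht⟩ := (hcs.2.2 T iT).2 fun X x h => by
    haveI := hT.1
    show (x ≫ iT) * (h ≫ F.map q) = (h ≫ F.map q) * (x ≫ iT)
    rw [← hf, ← Category.assoc h, ← MonObj.mul_comp, ← MonObj.mul_comp, hTc]
  haveI := hT.1; haveI := hcs.1; haveI := hcs.2.1
  exact ⟨T, inferInstance, t, MTSplit.isMonHom_of_comp_mono t _ iT ht,
    ht ▸ Chev.Borel.isMaximalTorus_of_isMaxTorus iT hT⟩

end Groth.Agent.S5550
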