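import Groth.Statements.S16183
import Groth.Agent.RootSys.Datum
import Groth.Agent.Chev.SolvTorus
import Groth.Agent.Corad.SplitHom
import Groth.Agent.RootBase.IsoSplit

set_option autoImplicit false
set_option maxHeartbeats 2000000
set_option synthInstance.maxHeartbeats 400000
set_option backward.isDefEq.respectTransparency false
universe u
open CategoryTheory MonoidalCategory CartesianMonoidalCategory MonObj GrpObj AlgebraicGeometry
open AGF

namespace Groth.Agent.S16183

section

variable {S : Scheme.{u}} {T G : Over S} [GrpObj G] (i : T ⟶ G) [Mono i]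

theorem grpObj_eq_of_mono (g₁ g₂ : GrpObj T) (h₁ : @IsMonHom (Over S) _ _ T G g₁.toMonObj _ i)
    (h₂ : @IsMonHom (Over S) _ _ T G g₂.toMonObj _ i) : g₁ = g₂ := by
  refine GrpObj.ext _ _ (MonObj.ext _ _ ?_)
  exact (cancel_mono i).1 ((@IsMonHom.mul_hom (Over S) _ _ T G g₁.toMonObj _ i h₁).trans
    (@IsMonHom.mul_hom (Over S) _ _ T G g₂.toMonObj _ i h₂).symm)

end

theorem killed {k : Type u} [Field k] {G : Over (Spec (CommRingCat.of k))} [GrpObj G] {M : Type} [AddCommGroup M]
    [Module.Free ℤ M] [Module.Finite ℤ M] {c : Red.DS (Spec (CommRingCat.of k)) M ⟶ G} {idx : Type} [Fintype idx]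
    {root : idx → M} {u : idx → (Red.Ga (Spec (CommRingCat.of k)) ⟶ G)} (F : RootBase.Frame c root u)
    (g : G ⟶ Red.Gm (Spec (CommRingCat.of k))) [hg : IsMonHom g] (a : idx) : u a ≫ g = 1 :=
  by
  refine Corad.rootHom_comp_eq_one F g ?_ a
  intro X x y
  exact HomDiag.ch_ext fun z => by rw [HomDiag.ch_mul, HomDiag.ch_mul, _root_.mul_comm]


/-- Let G be a reductive group over an algebraically closed field k and T ⊆ G a maximal torus. A
character χ : T → 𝔾_m which is Weyl-invariant — χ ∘ φ = χ whenever φ : T → T is induced by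
conjugation by a k-point of G carrying T into itself — is the restriction to T of one and only one
character of G. (The source phrases this as: restriction along T → G → G/[G,G] is an isomorphism
from the character group of the abelianisation onto the Weyl-invariant characters of T; since every
character of G factors through the abelianisation, this is the same statement with characters of G.) -/
theorem result (k : Type u) [Field k] [IsAlgClosed k]
    (G : Over (Spec (CommRingCat.of k))) [GrpObj G] (hG : Red.IsReductive G)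
    (T : Over (Spec (CommRingCat.of k))) [GrpObj T] (iT : T ⟶ G) (hT : Red.IsMaximalTorus iT)
    (χ : T ⟶ Red.Gm (Spec (CommRingCat.of k))) [IsMonHom χ]
    (hχ : ∀ (n : 𝟙_ (Over (Spec (CommRingCat.of k))) ⟶ G) (φ : T ⟶ T), φ ≫ iT = AGF.conjBy n iT → φ ≫ χ = χ) :
    ∃! ψ : G ⟶ Red.Gm (Spec (CommRingCat.of k)), IsMonHom ψ ∧ iT ≫ ψ = χ := by
  classical
  rename_i gG gT hmχ
  have hred : Red.IsReductive G := hG
  obtain ⟨i1, i2, i3⟩ := RootSys.red_inst hred
  obtain ⟨r, ⟨E⟩⟩ := Chev.Borel.split_of_isTorus hT.2.2.1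
  obtain ⟨D, hDT, hDi⟩ := RootSys.exists_splitRed hred hT E
  subst hDT
  obtain rfl := eq_of_heq hDi
  haveI := D.maximalTorus.2.1
  obtain rfl := grpObj_eq_of_mono D.i gT D.grpT hT.1 D.maximalTorus.1
  have h1 : D.split.hom.hom.hom ≫ D.split.inv.hom.hom = 𝟙 D.T := congrArg (fun z => z.hom.hom) D.split.hom_inv_id
  have h2 : D.split.inv.hom.hom ≫ D.split.hom.hom.hom = 𝟙 _ := congrArg (fun z => z.hom.hom) D.split.inv_hom_id
  obtain ⟨m, hm⟩ : ∃ m : D.M, D.split.inv.hom.hom ≫ χ = Red.chi _ m := by
    haveI := D.split.inv.hom.isMonHom_hom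
    haveI : IsMonHom (D.split.inv.hom.hom ≫ χ) := inferInstance
    exact RootSys.exists_eq_chi _
  have hcor : ∀ a : D.idx, D.P.coroot a m = 0 := by
    intro a
    obtain ⟨n, hn⟩ := D.refl a
    let θ := (D.P.reflection a).toLinearMap.toAddMonoidHom
    let φ : D.T ⟶ D.T := D.split.hom.hom.hom ≫ Red.DSmap _ θ ≫ D.split.inv.hom.hom
    have hφ : φ ≫ D.i = AGF.conjBy n D.i := by
      have h := hn D.T (𝟙 D.T)
      rw [Category.id_comp, Category.id_comp] at h
      simp only [φ, Category.assoc, AGF.conjBy]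
      exact h.symm
    have h := congrArg (D.split.inv.hom.hom ≫ ·) (hχ n φ hφ)
    simp only [φ, Category.assoc, reassoc_of% h2, hm] at h
    rw [Red.chi, RootIntrinsic.DSmap_comp_apply] at h
    have h3 := congr($(RootIntrinsic.DSmap_injective (k := k) h) (1 : ℤ))
    simp only [θ, AddMonoidHom.comp_apply, zmultiplesHom_apply, one_smul, LinearMap.toAddMonoidHom_coe,
      LinearEquiv.coe_coe, RootPairing.reflection_apply, D.pairing_eq, RootPairing.coroot'] at h3
    have h4 : D.P.coroot a m • D.P.root a = 0 := sub_eq_self.1 h3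
    exact (smul_eq_zero.1 h4).resolve_right (D.P.ne_zero a)
  let S := Spec (CommRingCat.of k)
  haveI : Nonempty (S : Scheme.{u}) := ⟨IsLocalRing.closedPoint k⟩
  letI := D.acgM; letI := D.fintypeIdx; letI := D.finiteM; letI := D.freeM
  haveI := RootBase.isReduced_of_splitRed D
  obtain ⟨B⟩ := RootBase.nonempty_base_split D
  obtain ⟨u₁, w, H, -, hr⟩ := RootBase.exists_dualised (RootBase.coroot_apply_root D.pairing_eq)
    (RootBase.frame_of_splitRed D) (RootBase.hasRefl_of_splitRed D) B
  haveI : IsAffineHom (Red.Gm S).hom := MTBridge.isAffineHom_DS S ℤ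
  haveI : IsMonHom (Red.chi S m : Red.DS S D.M ⟶ Red.Gm S) := MTQuot.isMonHom_DSmap _
  have hcor0 : ∀ a, Red.DSmap S (D.P.coroot a).toAddMonoidHom ≫ Red.chi S m = 1 := fun a => by
    rw [Red.chi, RootIntrinsic.DSmap_comp_apply, show (D.P.coroot a).toAddMonoidHom.comp (zmultiplesHom D.M m) = 0 from
      AddMonoidHom.ext_int (by simp [hcor a])]
    exact HomDiag.ch_ext fun n => by rw [show Red.DSmap S (0 : ℤ →+ ℤ) = 𝟙 _ ≫ Red.DSmap S 0 from (Category.id_comp _).symm, HomDiag.ch_DSmap, HomDiag.ch_one]; exact map_one _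
  obtain ⟨f, hf, hfc, -⟩ := Corad.exists_splitHom hred H hr (Q := Red.Gm S) (Red.chi S m) hcor0
  refine ⟨f, ⟨hf, ?_⟩, fun g hg => ?_⟩
  · rw [← Category.id_comp χ, ← Category.id_comp D.i, ← h1]
    rw [Category.assoc] at hfc
    simp only [Category.assoc, hm, hfc]
    rfl
  · haveI := hg.1
    refine H.frame.hom_ext g f ?_ fun a => ?_
    · rw [hfc, Category.assoc, hg.2, hm]
    · rw [killed H.frame g a, killed H.frame f a]

end Groth.Agent.S16183
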