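import Groth.Statements.S16077
import Mathlib

set_option autoImplicit false
universe u
open CAlg

namespace Groth.Agent.S16077

section
open MvPolynomial

variable (p : ℕ) [Fact p.Prime] (k : Type*) [Field k] [CharP k p] {r : ℕ} (e : Fin r → ℕ) (n : ℕ)

/-- the truncated algebra -/
abbrev Trunc := MvPolynomial (Fin r) k ⧸
  Ideal.span (Set.range fun i : Fin r => (MvPolynomial.X i : MvPolynomial (Fin r) k) ^ p ^ e i)

/-- the monomials that are `p ^ n`-th powers -/
noncomputable def mono (d : ∀ i, Fin (p ^ (e i - n))) : Trunc p k e :=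
  Ideal.Quotient.mk _ (monomial (p ^ n • Finsupp.equivFunOnFinite.symm fun i => (d i : ℕ)) 1)

theorem mem_trunc_iff (f : MvPolynomial (Fin r) k) :
    f ∈ Ideal.span (Set.range fun i : Fin r => (X i : MvPolynomial (Fin r) k) ^ p ^ e i) ↔
      ∀ d ∈ f.support, ∃ i, p ^ e i ≤ d i := by
  have h : (Set.range fun i : Fin r => (X i : MvPolynomial (Fin r) k) ^ p ^ e i) =
      (fun d => monomial d (1 : k)) '' Set.range fun i => Finsupp.single i (p ^ e i) := by
    rw [← Set.range_comp]
    exact congr_arg Set.range (funext fun i => X_pow_eq_monomial)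
  rw [h, mem_ideal_span_monomial_image]
  simp [Finsupp.single_le_iff]

theorem mul_lt_iff (m N : ℕ) : p ^ n * m < p ^ N ↔ m < p ^ (N - n) := by
  have hp : 0 < p := (Fact.out : p.Prime).pos
  rcases le_or_gt n N with h | h
  · conv_lhs => rw [show p ^ N = p ^ n * p ^ (N - n) by rw [← pow_add, Nat.add_sub_cancel' h]]
    exact Nat.mul_lt_mul_left (pow_pos hp n)
  · rw [Nat.sub_eq_zero_of_le h.le, pow_zero, Nat.lt_one_iff]
    refine ⟨fun h2 => ?_, fun h2 => by simp [h2, hp]⟩
    by_contra hm
    have h3 : p ^ N ≤ p ^ n := Nat.pow_le_pow_right hp h.le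
    have h4 : p ^ n ≤ p ^ n * m := Nat.le_mul_of_pos_right _ (Nat.pos_of_ne_zero hm)
    omega

theorem linearIndependent_mono : LinearIndependent k (mono p k e n) := by
  classical
  rw [linearIndependent_iff']
  intro s g hg d hd
  have h0 : ∑ x ∈ s, g x • (monomial (p ^ n • Finsupp.equivFunOnFinite.symm fun i => (x i : ℕ)) (1 : k)) ∈
      Ideal.span (Set.range fun i : Fin r => (X i : MvPolynomial (Fin r) k) ^ p ^ e i) := by
    rw [← Ideal.Quotient.eq_zero_iff_mem, map_sum]
    refine Eq.trans (Finset.sum_congr rfl fun x _ => ?_) hg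
    exact map_smul (Ideal.Quotient.mkₐ k _) (g x) _
  by_contra hgd
  have hinj : ∀ x : ∀ i, Fin (p ^ (e i - n)),
      (p ^ n • Finsupp.equivFunOnFinite.symm fun i => (x i : ℕ)) =
        (p ^ n • Finsupp.equivFunOnFinite.symm fun i => (d i : ℕ)) → x = d := by
    intro x hx
    funext i
    have := DFunLike.congr_fun hx i
    simp only [Finsupp.smul_apply, Finsupp.equivFunOnFinite_symm_apply_apply, smul_eq_mul] at this
    exact Fin.ext (Nat.eq_of_mul_eq_mul_left (pow_pos (Fact.out : p.Prime).pos n) this)
  have hsupp : (p ^ n • Finsupp.equivFunOnFinite.symm fun i => (d i : ℕ)) ∈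
      (∑ x ∈ s, g x • monomial (p ^ n • Finsupp.equivFunOnFinite.symm fun i => (x i : ℕ)) (1 : k)).support := by
    rw [mem_support_iff, coeff_sum, Finset.sum_eq_single d (fun x _ hx => ?_) (fun h => absurd hd h)]
    · simpa using hgd
    · rw [coeff_smul, coeff_monomial, if_neg (fun h => hx (hinj x h)), smul_zero]
  obtain ⟨i, hi⟩ := (mem_trunc_iff p k e _).mp h0 _ hsupp
  have hlt := (mul_lt_iff p n (d i : ℕ) (e i)).mpr (d i).2
  simp only [Finsupp.smul_apply, Finsupp.equivFunOnFinite_symm_apply_apply, smul_eq_mul] at hi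
  omega

theorem span_pow_eq : Submodule.span k (Set.range fun a : Trunc p k e => a ^ p ^ n) =
    Submodule.span k (Set.range (mono p k e n)) := by
  apply le_antisymm
  · rw [Submodule.span_le]
    rintro _ ⟨a, rfl⟩
    obtain ⟨f, rfl⟩ := Ideal.Quotient.mk_surjective a
    show Ideal.Quotient.mk _ f ^ p ^ n ∈ _
    rw [← map_pow, f.as_sum, sum_pow_char_pow p n, map_sum]
    refine sum_mem fun d _ => ?_
    rw [monomial_pow, show monomial (p ^ n • d) (coeff d f ^ p ^ n) =
      coeff d f ^ p ^ n • monomial (p ^ n • d) (1 : k) by rw [smul_monomial, smul_eq_mul, mul_one]]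
    rw [← Ideal.Quotient.mkₐ_eq_mk k, map_smul, Ideal.Quotient.mkₐ_eq_mk]
    refine Submodule.smul_mem _ _ ?_
    by_cases hd : ∀ i, d i < p ^ (e i - n)
    · refine Submodule.subset_span ⟨fun i => ⟨d i, hd i⟩, ?_⟩
      exact congr_arg (fun x => Ideal.Quotient.mk _ (monomial (p ^ n • x) (1 : k))) (Finsupp.ext fun i => rfl)
    · push Not at hd
      obtain ⟨i, hi⟩ := hd
      suffices h : Ideal.Quotient.mk (Ideal.span (Set.range fun i : Fin r =>
          (X i : MvPolynomial (Fin r) k) ^ p ^ e i)) (monomial (p ^ n • d) (1 : k)) = 0 from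
        h ▸ Submodule.zero_mem _
      rw [Ideal.Quotient.eq_zero_iff_mem, mem_trunc_iff]
      intro x hx
      classical
      rw [support_monomial, if_neg one_ne_zero, Finset.mem_singleton] at hx
      subst hx
      refine ⟨i, not_lt.mp fun h => absurd ((mul_lt_iff p n (d i) (e i)).mp ?_) (not_lt.mpr hi)⟩
      simpa using h
  · rw [Submodule.span_le]
    rintro _ ⟨d, rfl⟩
    refine Submodule.subset_span ⟨Ideal.Quotient.mk _ (monomial (Finsupp.equivFunOnFinite.symm fun i => (d i : ℕ)) 1), ?_⟩
    show Ideal.Quotient.mk _ _ ^ p ^ n = _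
    rw [← map_pow, monomial_pow, one_pow]
    rfl

theorem finrank_span_pow : Module.finrank k (Submodule.span k (Set.range fun a : Trunc p k e => a ^ p ^ n)) =
    p ^ ∑ i, (e i - n) := by
  rw [span_pow_eq, finrank_span_eq_card (linearIndependent_mono p k e n), Fintype.card_pi,
    ← Finset.prod_pow_eq_pow_sum]
  simp

end

/-- Let k be a perfect field of characteristic p > 0 and let e_1, …, e_r ≥ 1 and f_1, …, f_s ≥ 1 be
natural numbers. If the k-algebras k[X_1, …, X_r]/(X_i^{p^{e_i}} : 1 ≤ i ≤ r) and k[X_1, …,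
X_s]/(X_j^{p^{f_j}} : 1 ≤ j ≤ s) are isomorphic, then r = s and (f_j) is a permutation of (e_i):
there is a bijection σ between the index sets with f_{σ(i)} = e_i. Such truncated polynomial
algebras are the coordinate rings of the connected finite k-group schemes, and the row says that the
number of variables and the exponents are invariants of the group, indeed of its algebra. (Only this
invariance is stated here; the existence of such a presentation for every connected finite k-group
is a separate statement.) -/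
theorem result (p : ℕ) [Fact p.Prime] (k : Type u) [Field k]
    [CharP k p] [PerfectField k] (r s : ℕ) (e : Fin r → ℕ) (f : Fin s → ℕ) (he : ∀ i, 1 ≤ e i) (hf : ∀ j, 1 ≤ f j)
    (φ : (MvPolynomial (Fin r) k ⧸ Ideal.span (Set.range fun i : Fin r => (MvPolynomial.X i : MvPolynomial (Fin r) k) ^ p ^ e i)) ≃ₐ[k]
      (MvPolynomial (Fin s) k ⧸ Ideal.span (Set.range fun j : Fin s => (MvPolynomial.X j : MvPolynomial (Fin s) k) ^ p ^ f j))) :
    ∃ σ : Fin r ≃ Fin s, ∀ i : Fin r, f (σ i) = e i := by
  have hS : ∀ n, ∑ i, (e i - n) = ∑ j, (f j - n) := by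
    intro n
    refine Nat.pow_right_injective (Fact.out : p.Prime).two_le ?_
    show p ^ _ = p ^ _
    rw [← finrank_span_pow p k e n, ← finrank_span_pow p k f n]
    refine ((φ.toLinearEquiv.submoduleMap (Submodule.span k (Set.range fun a : Trunc p k e => a ^ p ^ n))).finrank_eq).trans ?_
    rw [Submodule.map_span, ← Set.range_comp]
    have h : Set.range (⇑φ.toLinearEquiv.toLinearMap ∘ fun a : Trunc p k e => a ^ p ^ n) =
        Set.range fun a : Trunc p k f => a ^ p ^ n := by
      refine Set.ext fun x => ⟨?_, ?_⟩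
      · rintro ⟨a, rfl⟩
        exact ⟨φ a, (map_pow φ a _).symm⟩
      · rintro ⟨a, rfl⟩
        exact ⟨φ.symm a, by simp⟩
    exact congr_arg (fun S : Set (Trunc p k f) => Module.finrank k (Submodule.span k S)) h
  have hG : ∀ {m : ℕ} (g : Fin m → ℕ) (n : ℕ),
      ∑ i, (g i - n) = ∑ i, (g i - (n + 1)) + (Finset.univ.filter fun i => n < g i).card := by
    intro m g n
    rw [Finset.card_filter, ← Finset.sum_add_distrib]
    exact Finset.sum_congr rfl fun i _ => by split <;> omega
  have hcard : ∀ n, (Finset.univ.filter fun i => n < e i).card = (Finset.univ.filter fun j => n < f j).card := by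
    intro n
    have h1 := hG e n
    have h2 := hG f n
    have h3 := hS n
    have h4 := hS (n + 1)
    omega
  have hfib : ∀ {m : ℕ} (g : Fin m → ℕ) (n : ℕ), (Finset.univ.filter fun i => n < g i).card =
      (Finset.univ.filter fun i => n + 1 < g i).card + (Finset.univ.filter fun i => g i = n + 1).card := by
    intro m g n
    simp only [Finset.card_filter, ← Finset.sum_add_distrib]
    exact Finset.sum_congr rfl fun i _ => by repeat' split <;> try omega
  have heq : ∀ c, Fintype.card {i // e i = c} = Fintype.card {j // f j = c} := by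
    intro c
    rw [Fintype.card_subtype, Fintype.card_subtype]
    cases c with
    | zero =>
      rw [Finset.filter_false_of_mem (fun i _ h => absurd (he i) (by omega)),
        Finset.filter_false_of_mem (fun j _ h => absurd (hf j) (by omega))]
      simp
    | succ n =>
      have h1 := hfib e n
      have h2 := hfib f n
      have h3 := hcard n
      have h4 := hcard (n + 1)
      omega
  exact ⟨Equiv.ofFiberEquiv fun c => Fintype.equivOfCardEq (heq c),
    fun i => Equiv.ofFiberEquiv_map _ i⟩

end Groth.Agent.S16077
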