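import Groth.Statements.S16685
import Groth.Agent.HopfSmDim.Graded

set_option autoImplicit false
universe u
open HopfRep

namespace Groth.Agent.S16685

open MvPolynomial
open scoped Classical

section
variable {k : Type u} [Field k] {p : ℕ} [Fact p.Prime] [CharP k p] {A : Type*} [CommRing A] [Algebra k A]
  (m : Ideal A) {d : ℕ} (x : Fin d → A)

/-- all exponents are less than `p` -/
def Red (p : ℕ) (q : MvPolynomial (Fin d) k) : Prop := ∀ s, q.coeff s ≠ 0 → ∀ j, s j < p

omit [Fact p.Prime] [CharP k p] in
theorem red_pderiv {q : MvPolynomial (Fin d) k} (h : Red p q) (i : Fin d) : Red p (pderiv i q) := by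
  intro s hs j
  rw [coeff_pderiv] at hs
  exact lt_of_le_of_lt (by simp) (h _ (left_ne_zero_of_mul hs) j)

omit [Fact p.Prime] in
theorem eq_zero_of_pderiv {n : ℕ} {q : MvPolynomial (Fin d) k} (hq : q.IsHomogeneous (n + 1)) (h : Red p q)
    (hd : ∀ i, pderiv i q = 0) : q = 0 := by
  ext s
  rw [coeff_zero]
  by_contra hs
  have hdeg : s.degree = n + 1 := by rw [Finsupp.degree_eq_weight_one]; exact hq hs
  obtain ⟨i, hi⟩ : ∃ i, s i ≠ 0 := by
    by_contra hno
    push Not at hno
    have : s = 0 := Finsupp.ext hno
    simp [this] at hdeg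
  have h1 := congrArg (coeff (s - Finsupp.single i 1)) (hd i)
  have e : s - Finsupp.single i 1 + Finsupp.single i 1 = s := by
    ext j
    rcases eq_or_ne i j with rfl | hij
    · simp [Finsupp.tsub_apply]; omega
    · simp [Finsupp.tsub_apply, Finsupp.single_eq_of_ne (Ne.symm hij)]
  rw [coeff_pderiv, e, coeff_zero, mul_eq_zero, or_iff_right hs] at h1
  have h2 : ((s i : ℕ) : k) = 0 := by
    have e2 : ((s - Finsupp.single i 1 : Fin d →₀ ℕ) i) + 1 = s i := by simp; omega
    rw [← e2]
    exact_mod_cast h1
  rw [CharP.cast_eq_zero_iff k p] at h2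
  exact absurd (Nat.le_of_dvd (Nat.pos_of_ne_zero hi) h2) (not_le.2 (h s hs i))

omit [Fact p.Prime] in
theorem der_pow [CharP A p] (D : Derivation k A A) {a : A} (ha : a ∈ Ideal.span ((fun b : A => b ^ p) '' (m : Set A))) :
    D a ∈ Ideal.span ((fun b : A => b ^ p) '' (m : Set A)) := by
  induction ha using Submodule.span_induction with
  | mem a ha =>
    obtain ⟨b, _, rfl⟩ := ha
    rw [Derivation.leibniz_pow, ← Nat.cast_smul_eq_nsmul A, CharP.cast_eq_zero A p, zero_smul]
    exact zero_mem _
  | zero => simp
  | add a b _ _ ha hb => rw [map_add]; exact add_mem ha hb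
  | smul c a ha' ha =>
    rw [smul_eq_mul, Derivation.leibniz, smul_eq_mul, smul_eq_mul]
    exact add_mem (Ideal.mul_mem_left _ _ ha) (Ideal.mul_mem_right _ _ ha')

theorem comp_eq_zero [CharP A p] (hx : ∀ j, x j ∈ m) (D : Fin d → Derivation k A A)
    (hD : ∀ i j, D i (x j) - (if i = j then 1 else 0) ∈ m) (hm : ∀ c : k, algebraMap k A c ∈ m → c = 0) :
    ∀ (n : ℕ) (q : MvPolynomial (Fin d) k), q.IsHomogeneous n → Red p q →
      aeval x q ∈ m ^ (n + 1) ⊔ Ideal.span ((fun b : A => b ^ p) '' (m : Set A)) → q = 0 := by
  set P := Ideal.span ((fun b : A => b ^ p) '' (m : Set A)) with hP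
  have hPm : P ≤ m := Ideal.span_le.2 fun _ ⟨b, hb, h⟩ => h ▸ Ideal.pow_mem_of_mem m hb p (Fact.out : p.Prime).pos
  intro n
  induction n with
  | zero =>
    intro q hq _ h
    rw [← totalDegree_zero_iff_isHomogeneous, totalDegree_eq_zero_iff_eq_C] at hq
    rw [hq, aeval_C, zero_add, pow_one, sup_eq_left.2 hPm] at h
    rw [hq, hm _ h, map_zero]
  | succ n ih =>
    intro q hq hr h
    refine eq_zero_of_pderiv hq hr fun i => ih _ hq.pderiv (red_pderiv hr i) ?_
    have h1 : D i (aeval x q) ∈ m ^ (n + 1) ⊔ P := by
      obtain ⟨a, ha, b, hb, e⟩ := Submodule.mem_sup.1 h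
      rw [← e, map_add]
      refine Submodule.add_mem_sup ?_ (der_pow m (D i) hb)
      have hgen : ∀ N : ℕ, ∀ a ∈ m ^ (N + 1), D i a ∈ m ^ N := by
        intro N
        induction N with
        | zero => intro a _; rw [pow_zero, Ideal.one_eq_top]; exact Submodule.mem_top
        | succ N ihN =>
          intro a ha
          rw [pow_succ] at ha
          refine Submodule.mul_induction_on ha (fun a ha b hb => ?_) (fun a b ha hb => ?_)
          · rw [Derivation.leibniz, smul_eq_mul, smul_eq_mul]
            refine add_mem (Ideal.mul_mem_right _ _ ha) ?_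
            rw [mul_comm b, pow_succ]
            exact Ideal.mul_mem_mul (ihN a ha) hb
          · rw [map_add]; exact add_mem ha hb
      exact hgen _ _ ha
    have h2 : D i (aeval x q) - aeval x (pderiv i q) ∈ m ^ (n + 1) := by
      have e : aeval x (pderiv i q) = ∑ j, aeval x (pderiv j q) * (if i = j then 1 else 0 : A) := by
        simp
      rw [Groth.Agent.HopfSmDim.der_aeval, e, ← Finset.sum_sub_distrib]
      refine sum_mem fun j _ => ?_
      rw [← mul_sub, pow_succ]
      have hj : (pderiv j q).IsHomogeneous n := hq.pderiv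
      exact Ideal.mul_mem_mul (Groth.Agent.HopfSmDim.aeval_mem_pow m x hx hj) (hD i j)
    have := sub_mem h1 (Submodule.mem_sup_left h2)
    rwa [sub_sub_cancel] at this

theorem eq_zero_of_red [CharP A p] (hx : ∀ j, x j ∈ m) (D : Fin d → Derivation k A A)
    (hD : ∀ i j, D i (x j) - (if i = j then 1 else 0) ∈ m) (hm : ∀ c : k, algebraMap k A c ∈ m → c = 0)
    (q : MvPolynomial (Fin d) k) (hq : Red p q)
    (h : aeval x q ∈ Ideal.span ((fun b : A => b ^ p) '' (m : Set A))) : q = 0 := by
  set P := Ideal.span ((fun b : A => b ^ p) '' (m : Set A)) with hP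
  suffices hc : ∀ n, homogeneousComponent n q = 0 by
    rw [← sum_homogeneousComponent q]
    exact Finset.sum_eq_zero fun i _ => hc i
  intro n
  induction n using Nat.strong_induction_on with
  | _ n ih =>
    refine comp_eq_zero m x hx D hD hm n _ (homogeneousComponent_isHomogeneous n q) (fun s hs => ?_) ?_
    · rw [coeff_homogeneousComponent] at hs
      split_ifs at hs with hdeg
      · exact hq s hs
      · exact absurd rfl hs
    · have h2 : aeval x q - aeval x (homogeneousComponent n q) ∈ m ^ (n + 1) := by
        rw [show aeval x q = aeval x (∑ i ∈ Finset.range (q.totalDegree + 1), homogeneousComponent i q) by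
          rw [sum_homogeneousComponent]]
        rcases lt_or_ge n (q.totalDegree + 1) with hn | hn
        · rw [← Finset.add_sum_erase _ _ (Finset.mem_range.2 hn), map_add, add_sub_cancel_left, map_sum]
          refine sum_mem fun i hi => ?_
          rcases lt_or_ge i n with hin | hin
          · rw [ih i hin, map_zero]; exact zero_mem _
          · refine Ideal.pow_le_pow_right ?_ (Groth.Agent.HopfSmDim.aeval_mem_pow m x hx (homogeneousComponent_isHomogeneous i q))
            have := (Finset.mem_erase.1 hi).1
            omega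
        · rw [show homogeneousComponent n q = 0 from homogeneousComponent_eq_zero _ _ (by omega), map_zero, sub_zero, map_sum]
          exact sum_mem fun i hi => by rw [ih i (by have := Finset.mem_range.1 hi; omega), map_zero]; exact zero_mem _
      have := sub_mem (Submodule.mem_sup_right (S := m ^ (n + 1)) h) (Submodule.mem_sup_left h2)
      rwa [sub_sub_cancel] at this

end


/-- The description of the kernel of Frobenius established in the course of the proof. Let k be a field
of characteristic p > 0 and A a finite-dimensional commutative Hopf algebra over k which is a local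
ring, the coordinate ring of a connected finite k-group scheme G; let I be the augmentation ideal
(the kernel of the counit), d = dim_k I/I² the dimension of the tangent space at the identity, and J
⊆ A the ideal generated by the p-th powers of the elements of I, so that A/J is the coordinate ring
of the kernel G[F] of the relative Frobenius. Then A/J is isomorphic as a k-algebra to k[X_1, …,
X_d]/(X_1^p, …, X_d^p) (existence of an isomorphism; it depends on the choice of elements of I
lifting a basis of I/I²); in particular G[F] has rank p^d. -/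
theorem result (k : Type u) [Field k] (p : ℕ) [Fact p.Prime] [CharP k p]
    (A : Type u) [CommRing A] [HopfAlgebra k A] [FiniteDimensional k A] [IsLocalRing A]
    (d : ℕ) (hd : Module.finrank k (RingHom.ker (Bialgebra.counitAlgHom k A).toRingHom).Cotangent = d) :
    Nonempty ((A ⧸ Ideal.span ((fun a : A => a ^ p) '' (RingHom.ker (Bialgebra.counitAlgHom k A).toRingHom : Set A))) ≃ₐ[k]
      (MvPolynomial (Fin d) k ⧸ Ideal.span (Set.range fun i : Fin d => (MvPolynomial.X i : MvPolynomial (Fin d) k) ^ p))) := by
  set m := RingHom.ker (Bialgebra.counitAlgHom k A) with hmdef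
  change Nonempty ((A ⧸ Ideal.span ((fun a : A => a ^ p) '' (m : Set A))) ≃ₐ[k] _)
  set P := Ideal.span ((fun b : A => b ^ p) '' (m : Set A)) with hP
  have : Nontrivial A := Bialgebra.nontrivial k
  have : CharP A p := charP_of_injective_algebraMap (algebraMap k A).injective p
  have : Algebra.FiniteType k A := inferInstance
  obtain ⟨x, D, hx, hD, hgen⟩ := Groth.Agent.HopfSmDim.exists_frame k A d hd
  have hm : ∀ c : k, algebraMap k A c ∈ m → c = 0 := fun c hc => by
    have : Bialgebra.counitAlgHom k A (algebraMap k A c) = 0 := hc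
    simpa using this
  have hmm : m = IsLocalRing.maximalIdeal A := IsLocalRing.eq_maximalIdeal
    (RingHom.ker_isMaximal_of_surjective _ fun c => ⟨algebraMap k A c, AlgHom.commutes _ c⟩)
  have : IsArtinianRing A := isArtinian_of_tower k inferInstance
  obtain ⟨N, hN⟩ : IsNilpotent m := by
    rw [hmm, ← IsLocalRing.jacobson_eq_maximalIdeal (⊥ : Ideal A) bot_ne_top]
    exact IsArtinianRing.isNilpotent_jacobson_bot
  have hsurj : ∀ a : A, ∃ q : MvPolynomial (Fin d) k, MvPolynomial.aeval x q = a := by
    have key : ∀ j, ∀ n, N ≤ n + j → ∀ a ∈ m ^ n, ∃ q : MvPolynomial (Fin d) k, MvPolynomial.aeval x q = a := by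
      intro j
      induction j with
      | zero =>
        intro n hn a ha
        have : a ∈ m ^ N := Ideal.pow_le_pow_right (by omega) ha
        rw [hN] at this
        exact ⟨0, by rw [map_zero]; exact (Submodule.mem_bot A).1 this |>.symm⟩
      | succ j ih =>
        intro n hn a ha
        obtain ⟨q, hq, hq'⟩ := Groth.Agent.HopfSmDim.exists_aeval_add m x hx
          (fun a => ⟨_, Groth.Agent.HopfSmDim.sub_counit_mem k A a⟩) hgen n a ha
        obtain ⟨r, hr⟩ := ih (n + 1) (by omega) _ hq'
        exact ⟨q + r, by rw [map_add, hr, add_sub_cancel]⟩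
    exact fun a => key N 0 (by omega) a (by rw [pow_zero, Ideal.one_eq_top]; exact Submodule.mem_top)
  let ψ : MvPolynomial (Fin d) k →ₐ[k] A ⧸ P := (Ideal.Quotient.mkₐ k P).comp (MvPolynomial.aeval x)
  have hψ : Function.Surjective ψ := fun y => by
    obtain ⟨a, rfl⟩ := Ideal.Quotient.mk_surjective y
    obtain ⟨q, rfl⟩ := hsurj a
    exact ⟨q, rfl⟩
  have hker : RingHom.ker ψ = Ideal.span (Set.range fun i : Fin d => (MvPolynomial.X i : MvPolynomial (Fin d) k) ^ p) := by
    have hle : Ideal.span (Set.range fun i : Fin d => (MvPolynomial.X i : MvPolynomial (Fin d) k) ^ p) ≤ RingHom.ker ψ := by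
      refine Ideal.span_le.2 ?_
      rintro _ ⟨i, rfl⟩
      refine Ideal.Quotient.eq_zero_iff_mem.2 ?_
      show MvPolynomial.aeval x _ ∈ P
      rw [map_pow, MvPolynomial.aeval_X]
      exact Ideal.subset_span ⟨x i, hx i, rfl⟩
    refine le_antisymm (fun q hq => ?_) hle
    let q₀ : MvPolynomial (Fin d) k :=
      ∑ s ∈ q.support.filter (fun s => ∀ j, s j < p), MvPolynomial.monomial s (q.coeff s)
    have hq₀c : ∀ s, q₀.coeff s = if ∀ j, s j < p then q.coeff s else 0 := by
      intro s
      simp only [q₀, MvPolynomial.coeff_sum, MvPolynomial.coeff_monomial]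
      rw [Finset.sum_ite_eq']
      by_cases h1 : ∀ j, s j < p
      · rw [if_pos h1]
        by_cases h2 : q.coeff s = 0
        · simp [h2]
        · rw [if_pos (Finset.mem_filter.2 ⟨MvPolynomial.mem_support_iff.2 h2, h1⟩)]
      · rw [if_neg h1, if_neg (fun h => h1 (Finset.mem_filter.1 h).2)]
    have hdiff : q - q₀ ∈ Ideal.span (Set.range fun i : Fin d => (MvPolynomial.X i : MvPolynomial (Fin d) k) ^ p) := by
      have e : (Set.range fun i : Fin d => (MvPolynomial.X i : MvPolynomial (Fin d) k) ^ p) =
          (fun s => MvPolynomial.monomial s (1 : k)) '' (Set.range fun i : Fin d => Finsupp.single i p) := by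
        rw [← Set.range_comp]
        exact congrArg Set.range (funext fun i => MvPolynomial.X_pow_eq_monomial)
      rw [e, MvPolynomial.mem_ideal_span_monomial_image]
      intro s hs
      rw [MvPolynomial.mem_support_iff, MvPolynomial.coeff_sub, hq₀c] at hs
      by_cases h1 : ∀ j, s j < p
      · rw [if_pos h1, sub_self] at hs; exact absurd rfl hs
      · push Not at h1
        obtain ⟨j, hj⟩ := h1
        exact ⟨_, ⟨j, rfl⟩, Finsupp.single_le_iff.2 hj⟩
    have hq₀ : q₀ = 0 := by
      refine eq_zero_of_red m x hx D hD hm q₀ (fun s hs => ?_) ?_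
      · rw [hq₀c] at hs
        split_ifs at hs with h1
        · exact h1
        · exact absurd rfl hs
      · have : q₀ ∈ RingHom.ker ψ := by simpa using sub_mem hq (hle hdiff)
        exact Ideal.Quotient.eq_zero_iff_mem.1 this
    simpa [hq₀] using hdiff
  exact ⟨((Ideal.quotientEquivAlgOfEq k hker.symm).trans (Ideal.quotientKerAlgEquivOfSurjective hψ)).symm⟩

end Groth.Agent.S16685
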