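import Groth.Statements.S0112
import Groth.Agent.AlgSpLib.SourceDescRing
import Groth.Agent.FlatSpread.Model
import Groth.Agent.S0113


set_option autoImplicit false
set_option linter.style.haveILetI false

universe u
open EtBase

namespace Groth.Agent.S0112

open TensorProduct Groth.Agent.AlgSpLib in
theorem exists_stage {R₀ A S₀ : Type u} [CommRing R₀] [CommRing A] [CommRing S₀] [Algebra R₀ A] [Algebra R₀ S₀]
    [Algebra.FiniteType ℤ R₀] [Module.Flat R₀ S₀] (K : Ideal R₀)
    (hK : (Set.range (PrimeSpectrum.comap (algebraMap R₀ S₀)))ᶜ = PrimeSpectrum.zeroLocus (K : Set R₀))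
    (htop : K.map (algebraMap R₀ A) = ⊤) :
    ∃ (R₁ : Type u) (_ : CommRing R₁) (_ : Algebra R₀ R₁) (_ : Algebra R₁ A) (_ : IsScalarTower R₀ R₁ A),
      Algebra.FiniteType ℤ R₁ ∧ Module.FaithfullyFlat R₁ (R₁ ⊗[R₀] S₀) := by
  classical
  obtain ⟨N, w, z, hz⟩ := Submodule.mem_span_set'.mp
    (show (1 : A) ∈ Submodule.span A (algebraMap R₀ A '' (K : Set R₀)) from (Ideal.eq_top_iff_one _).mp htop)
  choose k hk hk' using fun i => (z i).2
  let rel : MvPolynomial (Fin N) R₀ := ∑ i, MvPolynomial.X i * MvPolynomial.C (k i) - 1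
  let R₁ := MvPolynomial (Fin N) R₀ ⧸ Ideal.span {rel}
  let τ : R₁ →ₐ[R₀] A := Ideal.Quotient.liftₐ (Ideal.span {rel}) (MvPolynomial.aeval w) fun x hx => by
    obtain ⟨y, rfl⟩ := Ideal.mem_span_singleton'.1 hx
    rw [map_mul]
    suffices MvPolynomial.aeval w rel = 0 by rw [this, mul_zero]
    simp only [rel, map_sub, map_sum, map_mul, MvPolynomial.aeval_X, MvPolynomial.aeval_C, map_one]
    rw [sub_eq_zero, ← hz]
    exact Finset.sum_congr rfl fun i _ => by rw [hk' i]; rfl
  letI : Algebra R₁ A := τ.toRingHom.toAlgebra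
  haveI : IsScalarTower R₀ R₁ A := .of_algebraMap_eq fun x => (τ.commutes x).symm
  haveI : Module.FaithfullyFlat R₁ (R₁ ⊗[R₀] S₀) := by
    refine Module.FaithfullyFlat.of_comap_surjective fun q => SrcDesc.comap_mem_range_baseChange q ?_
    by_contra h
    rw [← Set.mem_compl_iff, hK, PrimeSpectrum.mem_zeroLocus] at h
    refine q.isPrime.ne_top ((Ideal.eq_top_iff_one _).mpr ?_)
    have h0 : Ideal.Quotient.mk (Ideal.span {rel}) rel = 0 :=
      Ideal.Quotient.eq_zero_iff_mem.2 (Ideal.subset_span rfl)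
    simp only [rel, map_sub, map_sum, map_mul, map_one, sub_eq_zero] at h0
    rw [← h0]
    exact Ideal.sum_mem _ fun i _ => Ideal.mul_mem_left _ _ (h (hk i))
  haveI : Algebra.FiniteType R₀ R₁ :=
    Algebra.FiniteType.of_surjective (A := MvPolynomial (Fin N) R₀) (Ideal.Quotient.mkₐ R₀ _) (Ideal.Quotient.mkₐ_surjective _ _)
  have hft : Algebra.FiniteType ℤ R₁ := Algebra.FiniteType.trans ‹Algebra.FiniteType ℤ R₀› ‹Algebra.FiniteType R₀ R₁›
  exact ⟨R₁, inferInstance, inferInstance, inferInstance, inferInstance, hft, inferInstance⟩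

open TensorProduct Groth.Agent.AlgSpLib in
theorem main {R A B : Type u} [CommRing R] [CommRing A] [CommRing B] [Algebra R A] [Algebra A B]
    [Algebra R B] [IsScalarTower R A B] [Algebra.FinitePresentation R B]
    [Module.FaithfullyFlat A B] [Algebra.FinitePresentation A B] : Algebra.FinitePresentation R A := by
  classical
  have : Algebra.FiniteType R A := Groth.Agent.S0113.result (B := B)
  obtain ⟨n, π, hπ⟩ := Algebra.FiniteType.iff_quotient_mvPolynomial''.mp ‹Algebra.FiniteType R A›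
  obtain ⟨R₀, _, _, S₀, _, _, _, _, _, _, hR₀, hS₀, hfl, hpo⟩ := Groth.Agent.FlatSpread.exists_model_algebra A B
  haveI := hR₀; haveI := hS₀; haveI := hfl; haveI := hpo
  haveI : IsNoetherianRing R₀ := Algebra.FiniteType.isNoetherianRing ℤ R₀
  haveI : Algebra.FinitePresentation R₀ S₀ := Algebra.FinitePresentation.of_finiteType.mp ‹_›
  -- the image of the model is open, shrink
  have ho : IsOpen (Set.range (PrimeSpectrum.comap (algebraMap R₀ S₀))) := by
    rw [← Set.image_univ]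
    exact PrimeSpectrum.isOpenMap_comap_of_hasGoingDown_of_finitePresentation _ isOpen_univ
  obtain ⟨K, hK⟩ := (PrimeSpectrum.isClosed_iff_zeroLocus_ideal _).mp ho.isClosed_compl
  have htop : K.map (algebraMap R₀ A) = ⊤ := by
    by_contra h
    obtain ⟨m, hm, hle⟩ := Ideal.exists_le_maximal _ h
    obtain ⟨q, hq⟩ := PrimeSpectrum.comap_surjective_of_faithfullyFlat (A := A) (B := B) ⟨m, hm.isPrime⟩
    have h1 : PrimeSpectrum.comap (algebraMap R₀ A) ⟨m, hm.isPrime⟩ ∈
        Set.range (PrimeSpectrum.comap (algebraMap R₀ S₀)) := ⟨PrimeSpectrum.comap (algebraMap S₀ B) q, by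
      rw [← hq, ← PrimeSpectrum.comap_comp_apply, ← PrimeSpectrum.comap_comp_apply,
        ← IsScalarTower.algebraMap_eq, ← IsScalarTower.algebraMap_eq]⟩
    have h2 : PrimeSpectrum.comap (algebraMap R₀ A) ⟨m, hm.isPrime⟩ ∈ PrimeSpectrum.zeroLocus (K : Set R₀) :=
      fun x hx => hle (Ideal.mem_map_of_mem _ hx)
    rw [← hK] at h2
    exact h2 h1
  obtain ⟨R₁, _, _, _, _, hR₁, hff₁⟩ := exists_stage K hK htop
  haveI := hR₁; haveI := hff₁
  haveI : IsNoetherianRing R₁ := Algebra.FiniteType.isNoetherianRing ℤ R₁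
  obtain ⟨m, ρ, hρ⟩ := Algebra.FiniteType.iff_quotient_mvPolynomial''.mp ‹Algebra.FiniteType ℤ R₁›
  choose g hg using fun i : Fin m => hπ (algebraMap R₁ A (ρ (MvPolynomial.X i)))
  let ψ : MvPolynomial (Fin m) ℤ →+* MvPolynomial (Fin n) R := (MvPolynomial.aeval g).toRingHom
  have hψ : π.toRingHom.comp ψ = (algebraMap R₁ A).comp ρ.toRingHom :=
    MvPolynomial.ringHom_ext (fun r => by simp [ψ]) (fun i => by simp [ψ, hg])
  let I₁ : Ideal (MvPolynomial (Fin n) R) := (RingHom.ker ρ.toRingHom).map ψ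
  have hI₁ : I₁.FG := Ideal.FG.map (IsNoetherian.noetherian _) ψ
  let P₁ := MvPolynomial (Fin n) R ⧸ I₁
  have : Algebra.FinitePresentation R P₁ := .quotient hI₁
  let σ : R₁ →+* P₁ := RingHom.liftOfSurjective ρ.toRingHom hρ
    ⟨(Ideal.Quotient.mk I₁).comp ψ, fun x hx =>
      Ideal.Quotient.eq_zero_iff_mem.mpr (Ideal.mem_map_of_mem ψ hx)⟩
  have hσ : ∀ x, σ (ρ x) = Ideal.Quotient.mk I₁ (ψ x) := fun x =>
    RingHom.liftOfRightInverse_comp_apply _ _ _ _ x
  have hle₁ : I₁ ≤ RingHom.ker π.toRingHom := Ideal.map_le_iff_le_comap.mpr fun x hx => by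
    rw [Ideal.mem_comap, RingHom.mem_ker, ← RingHom.comp_apply, hψ, RingHom.comp_apply,
      RingHom.mem_ker.mp hx, map_zero]
  let π₁ : P₁ →ₐ[R] A := Ideal.Quotient.liftₐ I₁ π fun x hx => hle₁ hx
  have hπ₁ : Function.Surjective π₁ := fun y => by
    obtain ⟨x, rfl⟩ := hπ y
    exact ⟨Ideal.Quotient.mk I₁ x, rfl⟩
  let : Algebra R₁ P₁ := σ.toAlgebra
  let : Algebra P₁ A := π₁.toRingHom.toAlgebra
  have : IsScalarTower R P₁ A := .of_algebraMap_eq fun x => (π₁.commutes x).symm
  have : IsScalarTower R₁ P₁ A := .of_algebraMap_eq fun x => by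
    obtain ⟨x, rfl⟩ := hρ x
    show _ = π₁ (σ (ρ x))
    rw [hσ]
    exact congr($hψ x).symm
  let e : B ≃ₐ[A] A ⊗[R₀] S₀ := (Algebra.IsPushout.equiv R₀ A S₀ B).symm
  exact SrcDesc.finitePresentation_of_cover (C := B) (P₁ := P₁) (C₂ := P₁ ⊗[R₁] (R₁ ⊗[R₀] S₀)) hπ₁ ((e.trans
    (Algebra.TensorProduct.cancelBaseChange R₀ R₁ A A S₀).symm).trans
    (Algebra.TensorProduct.cancelBaseChange R₁ P₁ A A (R₁ ⊗[R₀] S₀)).symm)


/-- Finite presentation of an R-algebra A can be tested after passing to an A-algebra B that is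
faithfully flat and finitely presented over A: if B is finitely presented over R, then so is A. -/
theorem result {R A B : Type u} [CommRing R] [CommRing A] [CommRing B] [Algebra R A] [Algebra A B]
    [Algebra R B] [IsScalarTower R A B] [Algebra.FinitePresentation R B]
    [Module.FaithfullyFlat A B] [Algebra.FinitePresentation A B] : Algebra.FinitePresentation R A := by
  exact Groth.Agent.S0112.main (R := R) (A := A) (B := B)

end Groth.Agent.S0112
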