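import Groth.Statements.S4096
import Groth.Agent.MonoFactor.Stabilizer
import Groth.Agent.GrpAct.OrbitFlat
import Groth.Agent.ThickLib.Basic
import Mathlib
import Mathlib

set_option autoImplicit false
universe u
open CategoryTheory MonoidalCategory CartesianMonoidalCategory MonObj GrpObj AlgebraicGeometry CategoryTheory.Limits
open GrpQ

namespace Groth.Agent.S4096

/-- Let S be noetherian, G an S-group scheme flat and of finite type acting on an S-scheme X of finite
type, d = (d₀, d₁) : G ×_S X → X ×_S X, and F the stabilizer of the diagonal. Then a) d factors as ψ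
: G ×_S X → Y surjective, flat and locally of finite presentation followed by a monomorphism τ : Y →
X ×_S X (Y represents the sheaf image of d) if and only if F is flat over X; b) in that case the two
morphisms Y → X induced by the projections are surjective, flat and of finite presentation. -/
theorem result (S : Scheme.{u}) [IsNoetherian S] (G X : Over S) [GrpObj G]
    [Flat G.hom] [LocallyOfFiniteType G.hom] [QuasiCompact G.hom] [LocallyOfFiniteType X.hom] [QuasiCompact X.hom]
    (a : AlgGrp.Action G X) :
    ((∃ (Y : Over S) (ψ : G ⊗ X ⟶ Y) (τ : Y ⟶ X ⊗ X), ψ ≫ τ = lift a.act (snd G X) ∧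
        Surjective ψ.left ∧ Flat ψ.left ∧ LocallyOfFinitePresentation ψ.left ∧ Mono τ) ↔
      Flat (pullback.snd (lift a.act (snd G X)) (lift (𝟙 X) (𝟙 X))).left) ∧
    (∀ (Y : Over S) (ψ : G ⊗ X ⟶ Y) (τ : Y ⟶ X ⊗ X), ψ ≫ τ = lift a.act (snd G X) →
      Surjective ψ.left → Flat ψ.left → LocallyOfFinitePresentation ψ.left → Mono τ →
      (Surjective (τ ≫ fst X X).left ∧ Flat (τ ≫ fst X X).left ∧ LocallyOfFinitePresentation (τ ≫ fst X X).left ∧
        QuasiCompact (τ ≫ fst X X).left ∧ QuasiSeparated (τ ≫ fst X X).left ∧
       Surjective (τ ≫ snd X X).left ∧ Flat (τ ≫ snd X X).left ∧ LocallyOfFinitePresentation (τ ≫ snd X X).left ∧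
        QuasiCompact (τ ≫ snd X X).left ∧ QuasiSeparated (τ ≫ snd X X).left)) := by
  haveI : LocallyOfFinitePresentation G.hom := inferInstance
  haveI : LocallyOfFinitePresentation X.hom := inferInstance
  let d := MonoFactor.actGraph a
  haveI : LocallyOfFiniteType (X ⊗ X).hom := by
    change LocallyOfFiniteType (pullback.fst X.hom X.hom ≫ X.hom)
    infer_instance
  haveI : LocallyOfFinitePresentation (d.left ≫ (X ⊗ X).hom) := by
    rw [Over.w d]
    change LocallyOfFinitePresentation (pullback.fst G.hom X.hom ≫ G.hom)
    infer_instance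
  haveI : LocallyOfFinitePresentation d.left := LimDesc.lfp_of_comp d.left (X ⊗ X).hom
  refine ⟨⟨?_, fun hF => ?_⟩, ?_⟩
  · rintro ⟨Y, ψ, τ, hψτ, hs, hf, hp, hm⟩
    haveI := hf; haveI := hm
    have he : (MonoFactor.unitSection ≫ ψ) ≫ τ = lift (𝟙 X) (𝟙 X) := by
      rw [Category.assoc, hψτ]
      exact MonoFactor.unitSection_comp a
    have hsq : IsPullback (pullback.fst d (lift (𝟙 X) (𝟙 X))) (pullback.snd d (lift (𝟙 X) (𝟙 X)))
        ψ (MonoFactor.unitSection ≫ ψ) := by
      refine IsPullback.of_isLimit' ⟨(cancel_mono τ).1 (by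
          rw [Category.assoc, Category.assoc, hψτ, he]; exact pullback.condition)⟩
        (PullbackCone.IsLimit.mk _ (fun c => pullback.lift c.fst c.snd (by
          have := c.condition =≫ τ
          rw [Category.assoc, Category.assoc, hψτ, he] at this
          exact this))
        (fun c => pullback.lift_fst _ _ _) (fun c => pullback.lift_snd _ _ _)
        (fun c m h₁ h₂ => pullback.hom_ext (by rw [pullback.lift_fst]; exact h₁) (by rw [pullback.lift_snd]; exact h₂)))
    exact MorphismProperty.of_isPullback (P := @Flat) (hsq.map (Over.forget S)) hf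
  · haveI := hF
    exact MonoFactor.exists_factor_actGraph a
  · intro Y ψ τ hψτ hs hf hp hm
    haveI := hs; haveI := hf; haveI := hp; haveI := hm
    haveI : Mono τ.left := inferInstanceAs (Mono ((Over.forget S).map τ))
    haveI := LocallyOfFiniteType.isLocallyNoetherian X.hom
    haveI : QuasiSeparated X.hom := QuasiSeparated.of_quasiSeparatedSpace X.hom
    haveI : QuasiCompact G.hom := inferInstance
    have h1 : ψ.left ≫ (τ ≫ fst X X).left = a.act.left := by
      rw [← Over.comp_left, reassoc_of% hψτ, lift_fst]
    have h2 : ψ.left ≫ (τ ≫ snd X X).left = (snd G X).left := by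
      rw [← Over.comp_left, reassoc_of% hψτ, lift_snd]
    have hact : a.act.left = (GrpAct.actShear a).hom.left ≫ (snd G X).left := by
      rw [← Over.comp_left]
      simp [GrpAct.actShear]
    haveI : IsIso (GrpAct.actShear a).hom.left := ((Over.forget S).mapIso (GrpAct.actShear a)).isIso_hom
    haveI : Flat (snd G X).left := inferInstanceAs (Flat (pullback.snd G.hom X.hom))
    haveI : LocallyOfFinitePresentation (snd G X).left := inferInstanceAs (LocallyOfFinitePresentation (pullback.snd G.hom X.hom))
    haveI : QuasiCompact (snd G X).left := inferInstanceAs (QuasiCompact (pullback.snd G.hom X.hom))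
    haveI : QuasiSeparated (fst X X).left := inferInstanceAs (QuasiSeparated (pullback.fst X.hom X.hom))
    haveI : QuasiSeparated (snd X X).left := inferInstanceAs (QuasiSeparated (pullback.snd X.hom X.hom))
    have key : ∀ (p : Y ⟶ X), QuasiSeparated p.left → Surjective (ψ.left ≫ p.left) → Flat (ψ.left ≫ p.left) →
        LocallyOfFinitePresentation (ψ.left ≫ p.left) → QuasiCompact (ψ.left ≫ p.left) →
        Surjective p.left ∧ Flat p.left ∧ LocallyOfFinitePresentation p.left ∧ QuasiCompact p.left ∧
          QuasiSeparated p.left := by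
      intro p hq h₁ h₂ h₃ h₄
      exact ⟨Surjective.of_comp ψ.left p.left, GrpdLib.flat_of_flat_comp ψ.left p.left,
        FppfSource.lfp ψ.left p.left, ThickLib.quasiCompact_of_comp_surjective ψ.left p.left, hq⟩
    haveI : Surjective (snd G X).left := ⟨fun x => ⟨(MonoFactor.unitSection (G := G) (X := X)).left x, by
      have h : (MonoFactor.unitSection (G := G) (X := X)).left ≫ (snd G X).left = 𝟙 X.left := by
        rw [← Over.comp_left, lift_snd]; rfl
      exact congrArg (fun t => t.base x) h⟩⟩
    have hqs : ∀ (p : X ⊗ X ⟶ X), QuasiSeparated p.left → QuasiSeparated (τ ≫ p).left := by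
      intro p _
      rw [Over.comp_left]
      infer_instance
    obtain ⟨a1, a2, a3, a4, a5⟩ := key (τ ≫ fst X X) (hqs _ inferInstance)
      (by rw [h1, hact]; infer_instance) (by rw [h1, hact]; infer_instance)
      (by rw [h1, hact]; infer_instance) (by rw [h1, hact]; infer_instance)
    obtain ⟨b1, b2, b3, b4, b5⟩ := key (τ ≫ snd X X) (hqs _ inferInstance)
      (by rw [h2]; infer_instance) (by rw [h2]; infer_instance) (by rw [h2]; infer_instance) (by rw [h2]; infer_instance)
    exact ⟨a1, a2, a3, a4, a5, b1, b2, b3, b4, b5⟩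

end Groth.Agent.S4096
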