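import Groth.Statements.S1348
import Mathlib
import Groth.Agent.InjFibre.SliceScheme

set_option autoImplicit false
universe u
open FlatMor

namespace Groth.Agent.S1348

open AlgebraicGeometry CategoryTheory Limits in
/-- Let f be locally of finite presentation and flat at a point x with image s, and let h be an element
of the maximal ideal of the local ring at x whose image in the local ring of the fibre (the local
ring at x modulo the ideal generated by the maximal ideal at s) is a nonzerodivisor. Then there is
an affine open neighbourhood U of x and a nonzerodivisor of its coordinate ring with germ h at x (so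
its zero locus is an effective Cartier divisor of U through x) whose zero scheme is flat and locally
of finite presentation over the base. -/
theorem result {X S : Scheme.{u}} (f : X ⟶ S) [LocallyOfFinitePresentation f] (x : X)
    (hflat : (f.stalkMap x).hom.Flat) (h : X.presheaf.stalk x) (hm : h ∈ IsLocalRing.maximalIdeal (X.presheaf.stalk x))
    (hreg : Ideal.Quotient.mk (Ideal.map (f.stalkMap x).hom (IsLocalRing.maximalIdeal (S.presheaf.stalk (f x)))) h ∈
      nonZeroDivisors (X.presheaf.stalk x ⧸ Ideal.map (f.stalkMap x).hom (IsLocalRing.maximalIdeal (S.presheaf.stalk (f x))))) :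
    ∃ (U : X.Opens) (hU : IsAffineOpen U) (hx : x ∈ U) (h' : Γ(X, U)), X.presheaf.germ U x hx h' = h ∧ h' ∈ nonZeroDivisors Γ(X, U) ∧
      Flat (Spec.map (CommRingCat.ofHom (Ideal.Quotient.mk (Ideal.span {h'}))) ≫ hU.fromSpec ≫ f) ∧
      LocallyOfFinitePresentation (Spec.map (CommRingCat.ofHom (Ideal.Quotient.mk (Ideal.span {h'}))) ≫ hU.fromSpec ≫ f) := by
  have hreg' : RingTheory.Sequence.IsWeaklyRegular
      (X.presheaf.stalk x ⧸ Ideal.map (f.stalkMap x).hom (IsLocalRing.maximalIdeal (S.presheaf.stalk (f x))))
      ([h].map (Ideal.Quotient.mk (Ideal.map (f.stalkMap x).hom (IsLocalRing.maximalIdeal (S.presheaf.stalk (f x)))))) := by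
    rw [List.map_cons, List.map_nil, InjFibre.isWeaklyRegular_ring_iff]
    intro i hi y hy
    obtain rfl : i = 0 := by simpa using hi
    simp only [List.getElem_cons_zero, List.take_zero, Ideal.ofList_nil, Ideal.mem_bot] at hy ⊢
    exact (mem_nonZeroDivisors_iff.1 hreg).1 y hy
  obtain ⟨V, hV, U, hU, hx, e, l, hl, hlr, hlf⟩ := InjFibre.exists_slice f x hflat [h] hreg'
  obtain ⟨h', rfl⟩ : ∃ h', l = [h'] := by
    rcases l with _ | ⟨a, _ | ⟨b, l⟩⟩
    · simp at hl
    · exact ⟨a, rfl⟩
    · simp at hl
  have hsp : Ideal.span {h'} = Ideal.ofList [h'] := by rw [Ideal.ofList_singleton]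
  obtain ⟨hfl, hlfp⟩ := InjFibre.flat_lfp_slice f hV hU e (Ideal.span {h'}) (Submodule.fg_span_singleton h')
    (by rw [hsp]; exact hlf 1 le_rfl)
  refine ⟨U, hU, hx, h', by simpa using hl, ?_, hfl, hlfp⟩
  have h0 := (InjFibre.isWeaklyRegular_ring_iff [h']).1 hlr 0 (by simp)
  simp only [List.getElem_cons_zero, List.take_zero, Ideal.ofList_nil, Ideal.mem_bot] at h0
  exact mem_nonZeroDivisors_iff.2 ⟨fun y hy => h0 y hy, fun y hy => h0 y (by rwa [mul_comm])⟩

end Groth.Agent.S1348
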