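import Groth.Statements.S1936
import Groth.Agent.CMFlat.Constructible
import Groth.Agent.Grpd.Comp7457
import Groth.Agent.Grpd.Inverse

set_option autoImplicit false
universe u
open CategoryTheory CategoryTheory.Limits AlgebraicGeometry
open Grpd

namespace Groth.Agent.S1936

/-- Let (U, R, s, t, c) be a groupoid scheme over S with s, t flat and locally of finite presentation.
There is an open U' ⊆ U such that t⁻¹(U') is exactly the set of points of R at which s is
Cohen–Macaulay, s⁻¹(U') is exactly the set of points at which t is Cohen–Macaulay, and both t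
restricted to s⁻¹(U') and s restricted to t⁻¹(U') are surjective onto U. (Part (5), that the
restriction of R to U' is a groupoid with Cohen–Macaulay s', t', then follows and is not restated.)
Cohen–Macaulay at a point: flat there with Cohen–Macaulay fibre local ring (Grpd.IsCMAt). (A
groupoid scheme carries U, R, s, t, c, e, i over S with the groupoid axioms on T-points; 'finite
locally free' is finite, flat and locally of finite presentation; C ⊂ Γ(U) is the ring of functions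
a with s♯(a) = t♯(a) and M = Spec C.) -/
theorem result (S : Scheme.{u}) (G : Grpd.GroupoidScheme S) [Flat G.s] [LocallyOfFinitePresentation G.s] [Flat G.t] [LocallyOfFinitePresentation G.t] : ∃ U' : G.U.Opens, (G.t ⁻¹ᵁ U' : Set G.R) = {r | Grpd.IsCMAt G.s r} ∧ (G.s ⁻¹ᵁ U' : Set G.R) = {r | Grpd.IsCMAt G.t r} ∧ ⇑G.t '' (G.s ⁻¹ᵁ U' : Set G.R) = Set.univ ∧ ⇑G.s '' (G.t ⁻¹ᵁ U' : Set G.R) = Set.univ := by
  obtain ⟨hiso, hsq⟩ := Groth.Agent.GrpdLib.comp_isPullback G
  let W := Groth.Agent.CMFlat.fibreCMSet G.s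
  have hiff : ∀ r : G.R, Grpd.IsCMAt G.s r ↔ r ∈ W := fun r => by
    obtain ⟨e⟩ := Groth.Agent.CMFlat.nonempty_fiberStalk_equiv G.s r
    exact ⟨fun h => @Groth.Agent.CMChart.isCohenMacaulayLocalRing_of_ringEquiv _ _ _ _ e h.2,
      fun h => ⟨Flat.stalkMap G.s r, @Groth.Agent.CMChart.isCohenMacaulayLocalRing_of_ringEquiv _ _ _ _ e.symm h⟩⟩
  have hinv : IsPullback G.i G.t G.s (𝟙 G.U) := by
    haveI : IsIso G.i := ⟨G.i, Groth.Agent.GrpdLib.i_i G, Groth.Agent.GrpdLib.i_i G⟩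
    exact IsPullback.of_horiz_isIso ⟨by rw [G.i_s, Category.comp_id]⟩
  have hifft : ∀ r : G.R, Grpd.IsCMAt G.t r ↔ G.i r ∈ W := fun r => by
    obtain ⟨e⟩ := Groth.Agent.CMFlat.nonempty_fiberStalk_equiv G.t r
    show _ ↔ r ∈ G.i ⁻¹' Groth.Agent.CMFlat.fibreCMSet G.s
    rw [← Groth.Agent.CMFlat.preimage_fibreCMSet hinv]
    exact ⟨fun h => @Groth.Agent.CMChart.isCohenMacaulayLocalRing_of_ringEquiv _ _ _ _ e h.2,
      fun h => ⟨Flat.stalkMap G.t r, @Groth.Agent.CMChart.isCohenMacaulayLocalRing_of_ringEquiv _ _ _ _ e.symm h⟩⟩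
  have hW : IsOpen W := Groth.Agent.CMFlat.isOpen_fibreCMSet G.s
  have hmax : ∀ u : G.U, ∃ r ∈ W, G.s r = u := fun u => by
    haveI : Nonempty (G.s.fiber u) := by
      have : G.s (G.e u) = u := by rw [← Scheme.Hom.comp_apply, G.e_s]; rfl
      exact this ▸ ⟨G.s.asFiber (G.e u)⟩
    obtain ⟨m, hm⟩ := (Groth.Agent.CMChart.dense_isCMAt_fibre G.s u).nonempty
    refine ⟨G.s.fiberι u m, hm.2, ?_⟩
    have : G.s.fiberι u m ∈ G.s ⁻¹' {u} := by rw [← G.s.range_fiberι]; exact ⟨m, rfl⟩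
    exact this
  have hsat : ∀ r r' : G.R, G.t r' = G.t r → r' ∈ W → r ∈ W := by
    intro r r' ht hr'
    obtain ⟨q, hq1, hq2⟩ := Scheme.Pullback.exists_preimage_pullback (f := G.t) (g := G.t) r' r ht
    let φ : pullback G.t G.t ⟶ pullback G.s G.t :=
      pullback.lift (pullback.fst G.t G.t) (pullback.lift (pullback.fst G.t G.t ≫ G.i) (pullback.snd G.t G.t)
        ((Category.assoc _ _ _).trans
          ((congrArg (fun x => pullback.fst G.t G.t ≫ x) G.i_s).trans pullback.condition)) ≫ G.c)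
        (by rw [G.comp_t, Category.assoc, G.i_t])
    obtain ⟨-, hφc⟩ := hiso φ (pullback.lift_fst _ _ _) (pullback.lift_snd _ _ _)
    let p := φ q
    have h0 : pullback.fst G.s G.t p = r' := by
      rw [← Scheme.Hom.comp_apply, pullback.lift_fst]; exact hq1
    have hc : G.c p = r := by
      rw [← Scheme.Hom.comp_apply, hφc]; exact hq2
    have e1 : pullback.fst G.s G.t ⁻¹' W = G.c ⁻¹' W :=
      (Groth.Agent.CMFlat.preimage_fibreCMSet (IsPullback.of_hasPullback G.s G.t)).symm.trans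
        (Groth.Agent.CMFlat.preimage_fibreCMSet hsq)
    rw [← hc]
    exact e1.le (show pullback.fst G.s G.t p ∈ W by rw [h0]; exact hr')
  refine ⟨⟨G.t '' W, G.t.isOpenMap _ hW⟩, ?_, ?_, ?_, ?_⟩
  · ext r
    exact ⟨fun ⟨r', hr', e⟩ => (hiff r).mpr (hsat r r' e hr'), fun h => ⟨r, (hiff r).mp h, rfl⟩⟩
  · ext r
    have e : G.t (G.i r) = G.s r := by rw [← Scheme.Hom.comp_apply, G.i_t]
    exact ⟨fun ⟨r', hr', e'⟩ => (hifft r).mpr (hsat _ r' (e'.trans e.symm) hr'),
      fun h => ⟨G.i r, (hifft r).mp h, e⟩⟩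
  · refine Set.eq_univ_of_forall fun u => ?_
    obtain ⟨r, hr, hru⟩ := hmax u
    refine ⟨G.i r, ⟨r, hr, ?_⟩, ?_⟩
    · rw [← Scheme.Hom.comp_apply, G.i_s]
    · rw [← Scheme.Hom.comp_apply, G.i_t, hru]
  · refine Set.eq_univ_of_forall fun u => ?_
    obtain ⟨r, hr, hru⟩ := hmax u
    exact ⟨r, ⟨r, hr, rfl⟩, hru⟩

end Groth.Agent.S1936
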