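import Groth.Statements.S7487
import Groth.Agent.Grpd.Scheme
import Groth.Agent.Grpd.Split

set_option autoImplicit false
universe u
open CategoryTheory CategoryTheory.Limits AlgebraicGeometry
open Grpd

namespace Groth.Agent.S7487

open Groth.Agent.GrpdLib TensorProduct

/-- Let (U, R, s, t, c) be a groupoid scheme over S with U = Spec A and R = Spec B affine and s, t
finite locally free; let C be the subring of R-invariant functions of A and C -> C' a ring map. Put
A' = A (x)_C C' and B' = B (x)_C C' (B a C-algebra through s^#) and let C^1 be the subring of A'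
where the two maps s^# (x) 1, t^# (x) 1 : A' -> B' agree; the structure map C' -> A' lands in C^1,
giving φ : C' -> C^1. Then: (a) for every f in C^1 there are n > 0 and a polynomial P over C' whose
image in A'[x] is (x - f)^n; (b) every element of the kernel of φ is nilpotent; (c) if C -> C' is
flat then φ is bijective, that is C' -> A' is injective with image C^1. (The published statement
also asserts that the base change is again a groupoid scheme; this row omits that clause.) (A
groupoid scheme carries U, R, s, t, c, e, i over S with the groupoid axioms on T-points; c is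
defined on the fibre product of s and t and sends a pair (a, b) with s(a) = t(b) to a composed with
b.) -/
theorem result (S : Scheme.{u}) (G : Grpd.GroupoidScheme S) [IsAffine G.U] [IsAffine G.R] [IsFinite G.s] [Flat G.s] [LocallyOfFinitePresentation G.s] [IsFinite G.t] [Flat G.t] [LocallyOfFinitePresentation G.t] (C' : Type u) [CommRing C'] [Algebra G.invariants C'] : letI : Algebra G.invariants Γ(G.R, ⊤) := (G.s.appTop.hom.comp G.invariants.subtype).toAlgebra; ∀ (sT tT : TensorProduct G.invariants Γ(G.U, ⊤) C' →ₐ[G.invariants] TensorProduct G.invariants Γ(G.R, ⊤) C'), (∀ (a : Γ(G.U, ⊤)) (c : C'), sT (a ⊗ₜ c) = G.s.appTop.hom a ⊗ₜ c) → (∀ (a : Γ(G.U, ⊤)) (c : C'), tT (a ⊗ₜ c) = G.t.appTop.hom a ⊗ₜ c) → (∀ f : TensorProduct G.invariants Γ(G.U, ⊤) C', sT f = tT f → ∃ (n : ℕ) (P : Polynomial C'), 0 < n ∧ Polynomial.map (Algebra.TensorProduct.includeRight : C' →ₐ[G.invariants] TensorProduct G.invariants Γ(G.U, ⊤) C').toRingHom P = (Polynomial.X - Polynomial.C f) ^ n) ∧ (∀ c : C', (Algebra.TensorProduct.includeRight : C' →ₐ[G.invariants]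 TensorProduct G.invariants Γ(G.U, ⊤) C') c = 0 → IsNilpotent c) ∧ (Module.Flat G.invariants C' → Function.Injective (Algebra.TensorProduct.includeRight : C' →ₐ[G.invariants] TensorProduct G.invariants Γ(G.U, ⊤) C') ∧ ∀ f : TensorProduct G.invariants Γ(G.U, ⊤) C', sT f = tT f → f ∈ Set.range (Algebra.TensorProduct.includeRight : C' →ₐ[G.invariants] TensorProduct G.invariants Γ(G.U, ⊤) C')) := by
  letI : Algebra G.invariants Γ(G.R, ⊤) := (G.s.appTop.hom.comp G.invariants.subtype).toAlgebra
  intro sT tT hs ht
  letI := G.s.appTop.hom.toAlgebra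
  obtain ⟨_, _⟩ := module_finite_projective G
  obtain ⟨hC, hinv⟩ := invariants_spec G
  let Φ : TensorProduct G.invariants Γ(G.R, ⊤) C' →+*
      TensorProduct Γ(G.U, ⊤) (TensorProduct G.invariants Γ(G.U, ⊤) C') Γ(G.R, ⊤) :=
    liftRing (GR.incB (C := G.invariants) C') (GR.incC C') fun c => (GR.incC_algebraMap C' c).symm
  have hΦs : Φ.comp sT.toRingHom = algebraMap _ _ := by
    refine ringHom_ext_tmul (fun a => ?_) fun c => ?_
    · rw [RingHom.comp_apply]
      show Φ (sT (a ⊗ₜ 1)) = _
      rw [hs, liftRing_tmul, map_one, mul_one]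
      exact GR.incB_algebraMap C' a
    · rw [RingHom.comp_apply]
      show Φ (sT (1 ⊗ₜ c)) = _
      rw [hs, liftRing_tmul, map_one, map_one, one_mul]
      rfl
  have hΦt : Φ.comp tT.toRingHom = (grOfScheme G).bcT hC C' := by
    refine ringHom_ext_tmul (fun a => ?_) fun c => ?_
    · rw [RingHom.comp_apply, GR.bcT_left]
      show Φ (tT (a ⊗ₜ 1)) = _
      rw [ht, liftRing_tmul, map_one, mul_one]
      rfl
    · rw [RingHom.comp_apply, GR.bcT_right]
      show Φ (tT (1 ⊗ₜ c)) = _
      rw [ht, liftRing_tmul, map_one, map_one, one_mul]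
  have hkey : ∀ f, sT f = tT f → (grOfScheme G).bcT hC C' f = algebraMap _ _ f := by
    intro f hf
    rw [← hΦt, ← hΦs]
    exact congrArg Φ hf.symm
  refine ⟨fun f hf => (grOfScheme G).exists_pow_lift hC hinv f (hkey f hf), fun c hc => ?_,
    fun hflat => ⟨?_, fun f hf => ?_⟩⟩
  · have : Algebra.IsIntegral G.invariants Γ(G.U, ⊤) :=
      ⟨fun g => (grOfScheme G).isIntegral hinv g⟩
    refine nilpotent_iff_mem_prime.2 fun P hP => ?_
    let m : C' →+* AlgebraicClosure (FractionRing (C' ⧸ P)) :=
      (algebraMap (C' ⧸ P) (AlgebraicClosure (FractionRing (C' ⧸ P)))).comp (Ideal.Quotient.mk P)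
    obtain ⟨x, hx⟩ := exists_point (A := Γ(G.U, ⊤)) Subtype.val_injective
      (m.comp (algebraMap G.invariants C'))
    have h := congrArg (liftRing x m hx) hc
    rw [Algebra.TensorProduct.includeRight_apply, liftRing_tmul, map_one, one_mul, map_zero] at h
    have hinj : Function.Injective
        (algebraMap (C' ⧸ P) (AlgebraicClosure (FractionRing (C' ⧸ P)))) := by
      rw [IsScalarTower.algebraMap_eq (C' ⧸ P) (FractionRing (C' ⧸ P))]
      exact (RingHom.injective (algebraMap (FractionRing (C' ⧸ P))
        (AlgebraicClosure (FractionRing (C' ⧸ P))))).comp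
        (IsFractionRing.injective (C' ⧸ P) (FractionRing (C' ⧸ P)))
    exact Ideal.Quotient.eq_zero_iff_mem.1 (hinj (h.trans (map_zero _).symm))
  · intro a b hab
    let ι₀ := Algebra.linearMap G.invariants Γ(G.U, ⊤)
    have hι : Function.Injective (LinearMap.rTensor C' ι₀) :=
      Module.Flat.rTensor_preserves_injective_linearMap ι₀ Subtype.val_injective
    refine (TensorProduct.lid G.invariants C').symm.injective (hι ?_)
    simpa [ι₀] using hab
  · obtain ⟨c, hc⟩ := (grOfScheme G).mem_range_of_invariant hC C' hinv f (hkey f hf)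
    exact ⟨c, hc⟩

end Groth.Agent.S7487
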