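import Groth.Statements.S1883
import Groth.Agent.GrpdField.Dim
import Groth.Agent.GrpdField.Stabilizer

set_option autoImplicit false
universe u
open CategoryTheory CategoryTheory.Limits AlgebraicGeometry
open Grpd

namespace Groth.Agent.S1883

/-- Let (U, R, s, t, c) be a groupoid scheme over S with U the spectrum of a field and s, t locally of
finite type. Then R and its stabilizer group scheme G have equal dimension (G is the base change of
(t, s) along the diagonal of U). (A groupoid scheme carries U, R, s, t, c, e, i over S with the
groupoid axioms on T-points; 'finite locally free' is finite, flat and locally of finite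
presentation; C ⊂ Γ(U) is the ring of functions a with s♯(a) = t♯(a) and M = Spec C.) -/
theorem result (S : Scheme.{u}) (G : Grpd.GroupoidScheme S) (k : Type u) [Field k] (eU : G.U ≅ Spec (CommRingCat.of k)) [LocallyOfFiniteType G.s] [LocallyOfFiniteType G.t] : topologicalKrullDim G.R = topologicalKrullDim G.stabilizer := by

  haveI : LocallyOfFiniteType (G.s ≫ eU.hom) := inferInstance
  haveI : JacobsonSpace G.R := LocallyOfFiniteType.jacobsonSpace (G.s ≫ eU.hom)
  haveI : IsLocallyNoetherian G.R := LocallyOfFiniteType.isLocallyNoetherian (G.s ≫ eU.hom)
  obtain ⟨h1, -⟩ := Groth.Agent.GrpdField.equidim (X := G.R)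
    (fun x y hx hy => Groth.Agent.GrpdField.coheight_eq G eU hx hy)
  obtain ⟨h2, h3⟩ := Groth.Agent.GrpdField.dim_component_le G eU
  refine le_antisymm ?_ h3
  rw [← h1 _ (irreducibleComponent_mem_irreducibleComponents
    (Groth.Agent.GrpdField.ek G eU (IsLocalRing.closedPoint k)))]
  exact h2

end Groth.Agent.S1883
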