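import Groth.Statements.S19603
import Groth.Agent.GLRed.Separation
import Groth.Agent.PsRefl.Graded

set_option autoImplicit false
universe u
open GIT

namespace Groth.Agent.S19603

/-- For the whole projective space U = P(V), let k be an algebraically closed field of arbitrary
characteristic and G = Spec A a linearly reductive affine algebraic group acting linearly on affine
ι-space, and let v be a vector. Then some invariant homogeneous polynomial of positive degree is
non-zero at v (the point of v is semistable) if and only if the origin is not in the closure of the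
orbit of v. -/
theorem result (k : Type u) [Field k] [IsAlgClosed k]
    (A : Type u) [CommRing A] [HopfAlgebra k A] [Algebra.FiniteType k A] (hG : HopfRep.IsLinearlyReductive k A)
    (ι : Type u) [Fintype ι] [HopfRep.Comod k A (MvPolynomial ι k)] [GLin.IsCoactAlg k A (MvPolynomial ι k)]
    (hlin : GLin.IsLinear k A ι) (v : ι → k) :
    GLin.IsSemistableVec k A v ↔
      ¬ GLin.InOrbitClosure k A (GLin.vecPt k ι v) (GLin.vecPt k ι (fun _ => (0 : k))) := by
  obtain ⟨r⟩ := Comod.nonempty_integral hG
  constructor
  · intro hss hcl
    refine hss fun F hF d hd hFd => ?_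
    have h := GLRed.eq_of_inOrbitClosure hcl hF
    rw [show MvPolynomial.eval v F = GLin.vecPt k ι v F from rfl, ← h]
    show MvPolynomial.aeval (fun _ => (0 : k)) F = 0
    rw [show (fun _ => (0 : k)) = (0 : ι → k) from rfl, MvPolynomial.aeval_zero, MvPolynomial.constantCoeff_eq,
      hFd.coeff_eq_zero (by simpa using hd.ne), map_zero]
  · intro hcl hnull
    have hagree : ∀ f ∈ GLin.invariants k A (MvPolynomial ι k),
        GLin.vecPt k ι v f = GLin.vecPt k ι (fun _ => (0 : k)) f := by
      intro f hf
      rw [← MvPolynomial.sum_homogeneousComponent f, map_sum, map_sum]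
      refine Finset.sum_congr rfl fun d _ => ?_
      rcases Nat.eq_zero_or_pos d with rfl | hd
      · simp [MvPolynomial.homogeneousComponent_zero]
      · rw [show GLin.vecPt k ι v _ = MvPolynomial.eval v (MvPolynomial.homogeneousComponent d f) from rfl,
          hnull _ (PsRefl.comp_mem_invariants hlin d hf) d hd (MvPolynomial.homogeneousComponent_isHomogeneous d f)]
        symm
        show MvPolynomial.aeval (fun _ => (0 : k)) _ = 0
        rw [show (fun _ => (0 : k)) = (0 : ι → k) from rfl, MvPolynomial.aeval_zero, MvPolynomial.constantCoeff_eq,
          (MvPolynomial.homogeneousComponent_isHomogeneous d f).coeff_eq_zero (by simpa using hd.ne), map_zero]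
    obtain ⟨z, h1, h2⟩ := GLRed.exists_common_closure r _ _ hagree
    have hz : z = GLin.vecPt k ι (fun _ => (0 : k)) := by
      refine MvPolynomial.algHom_ext fun i => ?_
      have hker : GLin.orbitHom k A (GLin.vecPt k ι (fun _ => (0 : k))) (MvPolynomial.X i) = 0 := by
        obtain ⟨m, hm⟩ := hlin i
        show (Algebra.TensorProduct.lid k A).toAlgHom (Algebra.TensorProduct.map _ (AlgHom.id k A)
          (HopfRep.Comod.coact (k := k) (A := A) (MvPolynomial.X i : MvPolynomial ι k))) = 0
        rw [hm, map_sum, map_sum]
        simp [GLin.vecPt]
      rw [show z (MvPolynomial.X i) = 0 from h2 hker]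
      simp [GLin.vecPt]
    exact hcl (hz ▸ h1)

end Groth.Agent.S19603
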