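import Groth.Statements.S5158
import Mathlib
import Groth.Agent.InjHull.Duality
-- import your own Groth.Agent.* helpers here

set_option autoImplicit false
universe u
open scoped TensorProduct
open Matlis TensorProduct

namespace Groth.Agent.S5158

/-- Let A be a Noetherian local ring, Â its m-adic completion and I an m-power torsion A-module (a union
of submodules of finite length). Then x ↦ 1 ⊗ x is a bijection I → Â ⊗_A I. -/
theorem result (A : Type u) [CommRing A] [IsLocalRing A] [IsNoetherianRing A] (I : Type u) [AddCommGroup I] [Module A I] (hI : LocCoh.IsPowerTorsion (IsLocalRing.maximalIdeal A) I) : Function.Bijective (TensorProduct.mk A (AdicCompletion (IsLocalRing.maximalIdeal A) A) I 1) := by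
  let m := IsLocalRing.maximalIdeal A
  choose K hK using hI
  choose s hs using fun (x : AdicCompletion m A) (k : ℕ) =>
    Ideal.Quotient.mk_surjective (AdicCompletion.evalₐ m k x)
  have heq : ∀ x k t, AdicCompletion.evalₐ m k x = Ideal.Quotient.mk (m ^ k) t →
      s x k - t ∈ m ^ k := fun x k t h => by rw [← Ideal.Quotient.eq, hs, h]
  have hcomp : ∀ x i j, i ≤ j → s x i - s x j ∈ m ^ i := by
    intro x i j hij
    rw [← Ideal.Quotient.eq, hs x i]
    have h2 : Ideal.Quotient.factor (Ideal.pow_le_pow_right hij) (AdicCompletion.evalₐ m j x)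
        = AdicCompletion.evalₐ m i x := by
      obtain ⟨v, hv⟩ := Submodule.Quotient.mk_surjective _ (x.1 j)
      have hi : x.1 i = Submodule.Quotient.mk v := by
        rw [← x.2 hij, ← hv]
        rfl
      have e : ∀ l, (m ^ l • ⊤ : Ideal A) = m ^ l := fun l => by rw [smul_eq_mul, Ideal.mul_top]
      show Ideal.Quotient.factor _ (Ideal.quotientEquivAlgOfEq A (e j) (x.1 j))
        = Ideal.quotientEquivAlgOfEq A (e i) (x.1 i)
      rw [hi, ← hv]
      rfl
    rw [← h2, ← hs x j, Ideal.Quotient.factor_mk]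
  have hlev : ∀ x y k, (∀ a ∈ m ^ k, a • y = 0) → s x (K y) • y = s x k • y := by
    intro x y k hy
    rw [← sub_eq_zero, ← sub_smul]
    rcases le_total (K y) k with h | h
    · exact hK y _ (hcomp x _ _ h)
    · rw [← neg_sub (s x k), neg_smul, hy _ (hcomp x _ _ h), neg_zero]
  let θ : TensorProduct A (AdicCompletion m A) I →ₗ[A] I :=
    TensorProduct.lift (LinearMap.mk₂ A (fun x y => s x (K y) • y)
      (fun x x' y => by
        rw [← add_smul, ← sub_eq_zero, ← sub_smul]
        refine hK y _ (heq _ _ _ ?_)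
        rw [map_add, map_add, hs, hs])
      (fun c x y => by
        rw [smul_smul, ← sub_eq_zero, ← sub_smul]
        refine hK y _ (heq _ _ _ ?_)
        rw [map_smul, ← hs x (K y)]
        rfl)
      (fun x y y' => by
        have hy : ∀ a ∈ m ^ (max (K y) (K y')), a • y = 0 := fun a ha =>
          hK y a (Ideal.pow_le_pow_right (le_max_left _ _) ha)
        have hy' : ∀ a ∈ m ^ (max (K y) (K y')), a • y' = 0 := fun a ha =>
          hK y' a (Ideal.pow_le_pow_right (le_max_right _ _) ha)
        rw [hlev x (y + y') _ (fun a ha => by rw [smul_add, hy a ha, hy' a ha, add_zero]),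
          hlev x y _ hy, hlev x y' _ hy', smul_add])
      (fun c x y => by
        rw [hlev x (c • y) (K y) (fun a ha => by rw [smul_comm, hK y a ha, smul_zero]), smul_comm]))
  have hθ : ∀ y, θ (1 ⊗ₜ[A] y) = y := fun y => by
    show s 1 (K y) • y = y
    rw [← sub_eq_zero]
    have h1 := hK y _ (heq 1 (K y) 1 (by rw [map_one, map_one]))
    rwa [sub_smul, one_smul] at h1
  refine ⟨fun a b hab => ?_, fun z => ?_⟩
  · have h1 : θ (1 ⊗ₜ[A] a) = θ (1 ⊗ₜ[A] b) := congrArg θ hab
    rwa [hθ, hθ] at h1
  refine TensorProduct.induction_on z ⟨0, map_zero _⟩ (fun x y => ?_) ?_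
  · refine ⟨s x (K y) • y, ?_⟩
    show (1 : AdicCompletion m A) ⊗ₜ[A] (s x (K y) • y) = x ⊗ₜ[A] y
    rw [← TensorProduct.smul_tmul, ← sub_eq_zero, ← TensorProduct.sub_tmul]
    have hmem : s x (K y) • (1 : AdicCompletion m A) - x ∈
        m ^ K y • (⊤ : Submodule A (AdicCompletion m A)) := by
      rw [AdicCompletion.pow_smul_top_eq_ker_eval ((isNoetherianRing_iff_ideal_fg A).1 inferInstance m),
        LinearMap.mem_ker, map_sub, sub_eq_zero, map_smul]
      obtain ⟨v, hv⟩ := Submodule.Quotient.mk_surjective _ (x.1 (K y))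
      have e : (m ^ K y • ⊤ : Ideal A) = m ^ K y := by rw [smul_eq_mul, Ideal.mul_top]
      have h1 : Ideal.Quotient.mk (m ^ K y) (s x (K y)) = Ideal.Quotient.mk (m ^ K y) v := by
        rw [hs]
        show Ideal.quotientEquivAlgOfEq A e (x.1 (K y)) = _
        rw [← hv]
        rfl
      show s x (K y) • (Submodule.Quotient.mk 1 : A ⧸ (m ^ K y • ⊤ : Submodule A A)) = x.1 (K y)
      rw [← hv, ← Submodule.Quotient.mk_smul, Submodule.Quotient.eq, e]
      simpa using Ideal.Quotient.eq.1 h1
    refine Submodule.smul_induction_on hmem (fun a ha w _ => ?_)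
      (fun p q hp hq => by rw [TensorProduct.add_tmul, hp, hq, add_zero])
    rw [TensorProduct.smul_tmul, hK y a ha, TensorProduct.tmul_zero]
  · rintro p q ⟨a, rfl⟩ ⟨b, rfl⟩
    exact ⟨a + b, map_add _ _ _⟩

end Groth.Agent.S5158
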