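import Groth.Statements.S1816
import Groth.Agent.RGammaI.Derived

set_option autoImplicit false
set_option linter.style.haveILetI false
set_option backward.isDefEq.respectTransparency false
set_option backward.isDefEq.respectTransparency.types false
universe u
open CategoryTheory
attribute [local instance] HasDerivedCategory.standard
open LocCoh

namespace Groth.Agent.S1816

/-- First statement, for a Noetherian ring (where RΓ with support in V(I) is RΓ_I). Let A be a
Noetherian ring, I and J ideals, and assume the total right derived functors RΓ_I, RΓ_J and RΓ_{I+J}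
exist. Then for every K in D(A), RΓ_J(RΓ_I(K)) is isomorphic to RΓ_{I+J}(K). -/
theorem result (A : Type u) [CommRing A] [IsNoetherianRing A] (I J : Ideal A) [DRing.HasRgammaI I] [DRing.HasRgammaI J] [DRing.HasRgammaI (I ⊔ J)] (K : Dual.D A) : Nonempty ((DRing.RgammaI J).obj ((DRing.RgammaI I).obj K) ≅ (DRing.RgammaI (I ⊔ J)).obj K) := by
  obtain ⟨J₀, -, h, ⟨e⟩⟩ := RGammaI.exists_rep K
  haveI := RGammaI.isIso_gα I h
  haveI := RGammaI.isIso_gα J (h.gc I)
  haveI := RGammaI.isIso_gα (I ⊔ J) h
  let c : RGammaI.gc J (RGammaI.gc I J₀) ≅ RGammaI.gc (I ⊔ J) J₀ :=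
    HomologicalComplex.Hom.isoOfComponents (fun i => LinearEquiv.toModuleIso
      (X₁ := (RGammaI.gc J (RGammaI.gc I J₀)).X i) (X₂ := (RGammaI.gc (I ⊔ J) J₀).X i)
      { toFun := fun x => ⟨x.1.1, LocH.torsionSub_sup x.1.2
          (DRing.map_mem_torsionSub J (DRing.torsionSub I (J₀.X i)).subtype x.2)⟩
        invFun := fun x => ⟨⟨x.1, LocH.torsionSub_anti le_sup_left _ x.2⟩, by
          obtain ⟨n, hn⟩ := LocH.torsionSub_anti (le_sup_right : J ≤ I ⊔ J) _ x.2
          exact ⟨n, fun a ha => Subtype.ext (hn a ha)⟩⟩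
        map_add' := fun _ _ => rfl
        map_smul' := fun _ _ => rfl
        left_inv := fun _ => rfl
        right_inv := fun _ => rfl }) fun i j _ => rfl
  exact ⟨(DRing.RgammaI J).mapIso ((DRing.RgammaI I).mapIso e.symm ≪≫ (asIso (RGammaI.gα I J₀)).symm) ≪≫
    (asIso (RGammaI.gα J (RGammaI.gc I J₀))).symm ≪≫
    DerivedCategory.Qh.mapIso ((HomotopyCategory.quotient _ _).mapIso c) ≪≫
    asIso (RGammaI.gα (I ⊔ J) J₀) ≪≫ (DRing.RgammaI (I ⊔ J)).mapIso e⟩

end Groth.Agent.S1816
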