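import Groth.Statements.S14793
import Groth.Agent.FlatBlowUp.Generic
import Groth.Agent.FlatBlowUp.AdmSquare

set_option autoImplicit false
set_option backward.isDefEq.respectTransparency false
set_option backward.isDefEq.respectTransparency.types false
universe u
open Subtr

namespace Groth.Agent.S14793

open AlgebraicGeometry CategoryTheory Limits TopologicalSpace in
/-- Let Y be a reduced, quasi-compact and quasi-separated scheme whose set of maximal points is
quasi-compact (for instance Y Noetherian), and f : X ⟶ Y a morphism of finite presentation every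
base change of which has the lifting property for ordered pairs of points. Then there are a dense
quasi-compact open U ⊆ Y, an ideal sheaf 𝓘 admissible for U (of finite type, cosupported off U) and
a blow-up b : Y' ⟶ Y of Y in 𝓘, with b surjective, such that the strict transform X'' of X (the
closed subscheme of X' = X ×_Y Y' whose ideal consists, on each affine open, of the functions
annihilated by a power of the pulled-back exceptional ideal) is flat, surjective and of finite
presentation over Y'. -/
theorem result {X Y : Scheme.{u}} [IsReduced Y] [CompactSpace Y]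
    [QuasiSeparatedSpace Y] (hgen : IsCompact {y : Y | ∀ y' : Y, y' ⤳ y → y' = y})
    (f : X ⟶ Y) [LocallyOfFinitePresentation f] [QuasiCompact f] [QuasiSeparated f]
    (hf : Subtr.UnivSSubtrusive f) :
    ∃ (U : Y.Opens) (𝓘 : Y.IdealSheafData) (Y' : Scheme.{u}) (b : Y' ⟶ Y),
      Dense (U : Set Y) ∧ IsCompact (U : Set Y) ∧ BlowUp.IsBlowUp b 𝓘 ∧ BlowUp.IsAdmissibleFor U 𝓘 ∧
      Surjective b ∧
      ∀ (X' : Scheme.{u}) (p₁ : X' ⟶ X) (p₂ : X' ⟶ Y'), IsPullback p₁ p₂ f b →
      ∀ (𝒥 : X'.IdealSheafData),
        (∀ (V : X'.affineOpens) (a : Γ(X', V.1)), a ∈ 𝒥.ideal V ↔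
          BlowUp.KilledByPowerNear ((𝓘.comap f).comap p₁) (Coh.structureModule X') V a) →
        Flat (𝒥.subschemeι ≫ p₂) ∧ Surjective (𝒥.subschemeι ≫ p₂) ∧
          LocallyOfFinitePresentation (𝒥.subschemeι ≫ p₂) ∧
          QuasiCompact (𝒥.subschemeι ≫ p₂) ∧ QuasiSeparated (𝒥.subschemeι ≫ p₂) := by
  obtain ⟨U, hUd, hUc, hflat⟩ := Groth.Agent.FlatBlowUp.exists_dense_flat_open hgen f
  obtain ⟨J, hJ⟩ := Groth.Agent.FlatBlowUp.exists_flattening_centre f U hUc
  have hbU : ∀ z : Y, z ∈ U → ∃ a, J.b a = z := fun z hz => by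
    haveI := Groth.Agent.BlowUpLib.isIso_restrict J.isBlowUp
    refine Groth.Agent.FlatBlowUp.surjective_base_of_isIso_restrict J.b J.ideal.support.compl (z := z) ?_
    show z ∈ (J.ideal.support : Set Y)ᶜ
    rw [J.supp, compl_compl]
    exact hz
  have hsurj : Surjective J.b := by
    refine ⟨fun z => ?_⟩
    have hcl : IsClosed (Set.range J.b) := J.b.isClosedMap.isClosed_range
    exact hcl.closure_subset ((hUd.mono fun a ha => hbU a ha) z)
  have hpre : (J.ideal.comap J.b).support = (Closeds.preimage J.ideal.support J.b.continuous) := Scheme.IdealSheafData.support_comap _ _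
  refine ⟨U, J.ideal, J.T, J.b, hUd, hUc, J.isBlowUp, ⟨J.ft, ?_⟩, hsurj, fun Z p₁ p₂ hpb I hI => ?_⟩
  · rw [J.supp]; exact disjoint_compl_left
  · have hT := Groth.Agent.RZExt.IsTorsionIdeal.of_killed hI
    obtain ⟨h1, h2⟩ := hJ J le_rfl Z p₁ p₂ hpb I hT
    haveI : QuasiCompact p₂ := MorphismProperty.of_isPullback hpb ‹QuasiCompact f›
    haveI : QuasiSeparated p₂ := MorphismProperty.of_isPullback hpb ‹QuasiSeparated f›
    refine ⟨h1, ⟨fun t => ?_⟩, h2, inferInstance, inferInstance⟩
    let O := HTop.awayFrom (J.ideal.comap J.b)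
    have hOd : Dense (O : Set J.T) := Groth.Agent.RZExt.dense_awayFrom J.isBlowUp.1
    have hOc : QuasiCompact O.ι := by
      have hc : IsCompact ((J.b ⁻¹ᵁ U : J.T.Opens) : Set J.T) := QuasiCompact.isCompact_preimage (f := J.b) _ U.2 hUc
      have e : O = J.b ⁻¹ᵁ U := by
        refine Opens.ext ?_
        show ((J.ideal.comap J.b).support : Set J.T)ᶜ = J.b ⁻¹' (U : Set Y)
        rw [hpre, Closeds.coe_preimage, J.supp, Set.preimage_compl, compl_compl]
      haveI : CompactSpace O.toScheme := isCompact_iff_compactSpace.1 (e ▸ hc)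
      exact quasiCompact_of_compactSpace _
    obtain ⟨o, ho⟩ := Groth.Agent.FpqcDescent.exists_specializes_of_mem_closure O.ι
      (show t ∈ closure (Set.range O.ι) by rw [Scheme.Opens.range_ι]; exact hOd t)
    obtain ⟨x, x1, hx, hxt, hx1⟩ := hf p₁ J.b p₂ hpb.flip ho
    haveI := Groth.Agent.FlatBlowUp.isIso_restrict_torsion hT
    obtain ⟨a, ha⟩ := Groth.Agent.FlatBlowUp.surjective_base_of_isIso_restrict I.subschemeι
      (HTop.awayFrom ((J.ideal.comap f).comap p₁)) (z := x1) (by
        show x1 ∈ (((J.ideal.comap f).comap p₁).support : Set Z)ᶜ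
        rw [← Scheme.IdealSheafData.comap_comp, hpb.w, Scheme.IdealSheafData.comap_comp,
          Scheme.IdealSheafData.support_comap, Closeds.coe_preimage]
        intro hmem
        rw [Set.mem_preimage, hx1] at hmem
        exact o.2 hmem)
    obtain ⟨c, hc⟩ : x ∈ Set.range I.subschemeι :=
      hx.mem_closed I.subschemeι.isClosedEmbedding.isClosed_range ⟨a, ha⟩
    exact ⟨c, by rw [Scheme.Hom.comp_apply, hc]; exact hxt⟩

end Groth.Agent.S14793
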