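import Groth.Statements.S1454
import Groth.Agent.Unibranch.Components

set_option autoImplicit false
universe u
open FlatMor

namespace Groth.Agent.S1454

open AlgebraicGeometry CategoryTheory Limits in
/-- Consider a locally quasi-finite f : X → Y whose target is locally Noetherian with geometrically
unibranch local rings, and assume every irreducible component of X dominates an irreducible
component of Y (its generic point maps to a generic point of an irreducible component of Y). Then f
is universally open. -/
theorem result {X Y : Scheme.{u}} (f : X ⟶ Y) [LocallyQuasiFinite f] [LocallyOfFiniteType f] [IsLocallyNoetherian Y]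
    (hY : ∀ y : Y, CAlg2.IsGeomUnibranch (Y.presheaf.stalk y))
    (hdom : ∀ Z ∈ irreducibleComponents ↑X, ∀ x : X, IsGenericPoint x Z → ∃ W ∈ irreducibleComponents ↑Y, IsGenericPoint (f x) W) :
    UniversallyOpen f := by
  rw [Groth.Agent.GoingDown.universallyOpen_iff_forall_isUnivOpenAt]
  intro x
  let Z := irreducibleComponent x
  have hZ := irreducibleComponent_mem_irreducibleComponents x
  obtain ⟨ζ, hζ⟩ : ∃ ζ, IsGenericPoint ζ Z :=
    QuasiSober.sober isIrreducible_irreducibleComponent isClosed_irreducibleComponent
  obtain ⟨C, hC, hCζ⟩ := hdom Z hZ ζ hζ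
  have hζx : ζ ⤳ x := hζ.specializes mem_irreducibleComponent
  refine Groth.Agent.Unibranch.isUnivOpenAt_of_quasiFiniteAt f x (f.quasiFiniteAt x) (hY _) ζ hζx
    (Groth.Agent.Unibranch.exists_opens_forall_specializes (hY _) (hζx.map f.continuous)
      (fun z hz ↦ ?_) (Groth.Agent.Unibranch.exists_opens_finite_components _))
  have hzC : C ⊆ closure {z} := by
    rw [← hCζ]
    exact closure_minimal (Set.singleton_subset_iff.mpr hz.mem_closure) isClosed_closure
  have hle : closure {z} ⊆ C := hC.2 isIrreducible_singleton.closure hzC
  exact ((hCζ.specializes (hle (subset_closure rfl))).antisymm hz).eq.symm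

end Groth.Agent.S1454
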