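import Groth.Statements.S4132
import Groth.Agent.TorScheme.Conv

set_option autoImplicit false
universe u
open CategoryTheory MonoidalCategory CartesianMonoidalCategory MonObj GrpObj AlgebraicGeometry CategoryTheory.Limits
open SGA3x

namespace Groth.Agent.S4132

/-- Let G be an S-group scheme which is affine, smooth and of finite type over S and which acquires a
maximal torus after an fpqc covering base change. Then the functor of maximal tori of G is
representable: there are an S-scheme 𝒯, smooth, affine and of finite type over S, and a maximal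
torus of G ×_S 𝒯 which is universal among maximal tori of base changes of G. -/
theorem result (S : Scheme.{u}) (G : Over S) [GrpObj G]
    [IsAffineHom G.hom] [Smooth G.hom] [QuasiCompact G.hom] (hG : SGA3x.HasMaxTorusFpqcLocally G) :
    ∃ (𝒯 : Over S) (Tu : Over 𝒯.left) (_ : GrpObj Tu) (iu : Tu ⟶ Red.bc 𝒯.hom G),
      SGA3x.RepresentsMaxTori G 𝒯 Tu iu ∧ Smooth 𝒯.hom ∧ IsAffineHom 𝒯.hom ∧ QuasiCompact 𝒯.hom := by
  obtain ⟨P, T, hTg, i, hi, hsm, haff⟩ := Groth.Agent.TorScheme.exists_torScheme (G := G) hG
  haveI := haff
  exact ⟨P, T, hTg, i, Groth.Agent.TorScheme.representsMaxTori i hi, hsm, haff, inferInstance⟩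

end Groth.Agent.S4132
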