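import Groth.Statements.S16617
import Groth.Agent.MTQuot.Core

set_option autoImplicit false
open CategoryTheory MonoidalCategory CartesianMonoidalCategory MonObj GrpObj AlgebraicGeometry
universe u
open SGA3x

namespace Groth.Agent.S16617

/-- Let S be a connected scheme, T ≅ D_S(ℤ^r) a split S-torus, H a subgroup scheme of T of (finite)
multiplicative type and q : T ⟶ Q a homomorphism presenting Q as the fppf quotient T/H. Then Q is a
split torus of rank at most r. -/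
theorem result {S : Scheme.{u}} [ConnectedSpace ↥S]
    {T H Q : Over S} [GrpObj T] [GrpObj H] [GrpObj Q] (r : ℕ) (hT : Red.IsSplitTorusWith (Fin r → ℤ) T)
    (i : H ⟶ T) [IsMonHom i] [Mono i] (hH : SGA3x.IsMultTypeFT H) (q : T ⟶ Q) [IsMonHom q]
    (hq : RedSub.IsQuotient i q) : ∃ r' : ℕ, r' ≤ r ∧ Red.IsSplitTorusWith (Fin r' → ℤ) Q := by
  obtain ⟨g⟩ := hT
  obtain ⟨hrel, hcov⟩ := MTQuot.isRel_of_isQuotient i q hq
  let e : T ≅ Red.DS S (Fin r → ℤ) := (Grp.forget _).mapIso g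
  haveI : IsMonHom e.hom := g.hom.hom.isMonHom_hom
  haveI : IsMonHom e.inv := g.inv.hom.isMonHom_hom
  have hq' : CoverMap.Covers (e.inv ≫ q).left := by
    obtain ⟨Z, z, y, hz, hy⟩ := hcov
    exact ⟨Z, z, y ≫ e.hom.left, hz, by
      rw [Category.assoc, ← Over.comp_left, e.hom_inv_id_assoc, hy]⟩
  obtain ⟨N, ⟨d⟩⟩ := MTQuot.exists_global (i ≫ e.hom) hH MTQuot.fg_addSubgroup (e.inv ≫ q) hq'
    (MTQuot.isRel_iso hrel e)
  obtain ⟨r', hr', ⟨σ⟩⟩ := MTQuot.exists_addEquiv N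
  obtain ⟨c⟩ := MTQuot.nonempty_DS_congr (S := S) σ.symm
  exact ⟨r', hr', ⟨d ≪≫ c⟩⟩

end Groth.Agent.S16617
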