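import Groth.Statements.S17596
import Mathlib
import Groth.Agent.Hensel.SpreadModel
import Groth.Agent.Hensel.FiniteModel
-- import your own Groth.Agent.* helpers here

set_option autoImplicit false
universe u
open Hensel

namespace Groth.Agent.S17596

/-- Let (A, I) be a Henselian pair and let B be a Henselization of the pair (R, IR) for a finitely
presented A-algebra R (that is, A → B is a Henselian finitely presented map of Henselian pairs). If
the induced map A/I → B/IB is module-finite, then B is module-finite and finitely presented over A. -/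
theorem result (A : Type u) [CommRing A] (I : Ideal A)
    [HenselianRing A I] (R : Type u) [CommRing R] [Algebra A R] [Algebra.FinitePresentation A R]
    (B : Type u) [CommRing B] [Algebra R B] [Algebra A B] [IsScalarTower A R B]
    (hB : Hens2.IsPairHenselization R (I.map (algebraMap A R)) B)
    (hfin : (Ideal.quotientMap (I.map (algebraMap A B)) (algebraMap A B) Ideal.le_comap_map).Finite) :
    Module.Finite A B ∧ Algebra.FinitePresentation A B := by
  haveI : Module.Finite (A ⧸ I) (B ⧸ I.map (algebraMap A B)) := RingHom.finite_algebraMap.1 (by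
    convert hfin using 1
    exact Ideal.Quotient.ringHom_ext rfl)
  have key : Nonempty ((R ⧸ I.map (algebraMap A R)) ≃ₐ[A ⧸ I] (B ⧸ I.map (algebraMap A B))) := by
    have h := Groth.Agent.Hensel.exists_algEquiv_quotient I hB 1
    have h' : ∀ J : Ideal A, J = I →
        Nonempty ((R ⧸ J.map (algebraMap A R)) ≃ₐ[A ⧸ J] (B ⧸ J.map (algebraMap A B))) →
        Nonempty ((R ⧸ I.map (algebraMap A R)) ≃ₐ[A ⧸ I] (B ⧸ I.map (algebraMap A B))) := by
      rintro J rfl h
      exact h
    exact h' _ (pow_one I) h
  obtain ⟨eq₁⟩ := key
  haveI : Module.Finite (A ⧸ I) (R ⧸ I.map (algebraMap A R)) := Module.Finite.equiv eq₁.symm.toLinearEquiv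
  obtain ⟨e, he, hfinR⟩ := Groth.Agent.Hensel.exists_finite_nhd I (R := R)
  let R' := Localization.Away e
  obtain ⟨algB, hT, hH⟩ := Groth.Agent.Hensel.exists_model_of_nhd hB R'
    (Groth.Agent.Hensel.bijective_quotientMap_away _ he)
  haveI : Algebra.IsIntegral A R' := Algebra.IsIntegral.of_finite A R'
  have hself : Hens2.IsPairHenselization R' (I.map (algebraMap A R')) R' := by
    refine ⟨?_, fun D _ K f hK hf => ⟨f, RingHom.ext fun _ => rfl, fun g hg => ?_⟩⟩
    · rw [Algebra.algebraMap_self, Ideal.map_id]
      exact Groth.Agent.Hensel.henselianRing_integral A I R'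
    · rw [← hg]; exact RingHom.ext fun _ => rfl
  obtain ⟨eB⟩ := Groth.Agent.Hensel.algEquiv_of_isPairHenselization hH hself
  haveI : Algebra.FinitePresentation R R' := IsLocalization.Away.finitePresentation e
  haveI : Algebra.FinitePresentation A R' := Algebra.FinitePresentation.trans A R R'
  exact ⟨Module.Finite.equiv (eB.restrictScalars A).symm.toLinearEquiv,
    Algebra.FinitePresentation.equiv (eB.restrictScalars A).symm⟩

end Groth.Agent.S17596
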