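import Groth.Statements.S4363
import Groth.Agent.LimMore.SepCore

set_option autoImplicit false
universe u v
open RedSep

namespace Groth.Agent.S4363

open AlgebraicGeometry in
open CategoryTheory in
/-- Let Y be an affine scheme, f : X -> Y a morphism and (U i) a cover of X by affine open subschemes.
Then f is separated if and only if, for every pair of indices i, j, the intersection of U i and U j
is an affine open and its ring of sections is generated, as a ring, by the images of the rings of
sections of U i and of U j under the restriction maps. -/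
theorem result
    {X Y : Scheme.{u}} [IsAffine Y] (f : X ⟶ Y) {ι : Type v} (U : ι → X.Opens)
    (hU : ∀ i, IsAffineOpen (U i)) (hcov : ⨆ i, U i = ⊤) :
    IsSeparated f ↔ ∀ i j, IsAffineOpen (U i ⊓ U j) ∧
      Subring.closure (Set.range (X.presheaf.map (homOfLE (inf_le_left : U i ⊓ U j ≤ U i)).op).hom ∪
        Set.range (X.presheaf.map (homOfLE (inf_le_right : U i ⊓ U j ≤ U j)).op).hom) = ⊤ := by
  have conv : ∀ (A B : X.Opens), LimMore.Gen (X.homOfLE (inf_le_left : A ⊓ B ≤ A)) (X.homOfLE (inf_le_right : A ⊓ B ≤ B)) ↔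
      Subring.closure (Set.range (X.presheaf.map (homOfLE (inf_le_left : A ⊓ B ≤ A)).op).hom ∪
        Set.range (X.presheaf.map (homOfLE (inf_le_right : A ⊓ B ≤ B)).op).hom) = ⊤ := by
    intro A B
    have e : ∀ (C : X.Opens) (h : A ⊓ B ≤ C), (X.homOfLE h).appTop =
        C.topIso.hom ≫ X.presheaf.map (homOfLE h).op ≫ (A ⊓ B).topIso.inv := by
      intro C h
      simp [Scheme.homOfLE_appTop, Scheme.Opens.topIso_hom, Scheme.Opens.topIso_inv, Scheme.homOfLE_app]
      erw [← Functor.map_comp, ← Functor.map_comp]
      rfl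
    have hs : ∀ C : X.Opens, Function.Surjective C.topIso.hom.hom := fun C =>
      C.topIso.commRingCatIsoToRingEquiv.surjective
    unfold LimMore.Gen
    rw [e A inf_le_left, e B inf_le_right]
    simp only [CommRingCat.hom_comp, RingHom.coe_comp, Set.range_comp, (hs A).range_eq, (hs B).range_eq,
      Set.image_univ, ← Set.image_union, ← RingHom.map_closure]
    constructor
    · intro h
      rw [← Subring.comap_map_eq_self_of_injective (f := (A ⊓ B).topIso.inv.hom)
        (A ⊓ B).topIso.symm.commRingCatIsoToRingEquiv.injective (Subring.closure _), h]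
      exact Subring.comap_top _
    · intro h
      rw [h, ← RingHom.range_eq_map]
      exact RingHom.range_eq_top.2 (A ⊓ B).topIso.symm.commRingCatIsoToRingEquiv.surjective
  constructor
  · intro hf i j
    haveI : X.IsSeparated := ⟨by rw [← Limits.terminal.comp_from f]; infer_instance⟩
    exact ⟨(hU i).inf (hU j), (conv _ _).1 (LimMore.gen_of_isSeparated f (hU i) (hU j))⟩
  · intro h
    let U' : ↥(Set.range U) → X.Opens := fun a => a.1
    refine LimMore.isSeparated_of_cover f U' ?_ ?_ ?_ ?_
    · rw [TopologicalSpace.IsOpenCover, eq_top_iff, ← hcov]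
      exact iSup_le fun i => le_iSup U' ⟨U i, i, rfl⟩
    · rintro ⟨_, i, rfl⟩; exact hU i
    · rintro ⟨_, i, rfl⟩ ⟨_, j, rfl⟩; exact (h i j).1
    · rintro ⟨_, i, rfl⟩ ⟨_, j, rfl⟩; exact (conv _ _).2 (h i j).2

end Groth.Agent.S4363
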