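import Groth.Statements.S14405
import Mathlib.NumberTheory.BernoulliPolynomials
import Mathlib.Algebra.Polynomial.Eval.Degree
import Mathlib.Tactic

set_option autoImplicit false
open Polynomial
open HilbNum

namespace Groth.Agent.S14405

/-- Let φ be a function from the integers to the rationals and Q a nonzero polynomial with rational
coefficients of degree d such that φ(m) - φ(m-1) = Q(m) for every integer m. Then there is a
polynomial P with rational coefficients, of degree d + 1, such that φ(m) = P(m) for every integer m.
(The explicit form of P in the binomial basis is not part of this statement.) -/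
theorem result (φ : ℤ → ℚ) (d : ℕ) (Q : ℚ[X]) (hQ : Q ≠ 0)
    (hd : Q.natDegree = d) (h : ∀ m : ℤ, φ m - φ (m - 1) = Q.eval (m : ℚ)) :
    ∃ P : ℚ[X], P.natDegree = d + 1 ∧ ∀ m : ℤ, φ m = P.eval (m : ℚ) := by
  let c : ℕ → ℚ := fun j => Q.coeff j / (j + 1)
  let B : ℕ → ℚ[X] := fun j => (Polynomial.bernoulli (j + 1)).comp (1 + X)
  have hb : ∀ n : ℕ, (Polynomial.bernoulli n).natDegree = n ∧
      (Polynomial.bernoulli n).coeff n = 1 := by
    intro n
    have h1 : (Polynomial.bernoulli n).coeff n = 1 := by simp [Polynomial.coeff_bernoulli]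
    refine ⟨Polynomial.natDegree_eq_of_le_of_coeff_ne_zero ?_ (by simp [h1]), h1⟩
    rw [Polynomial.natDegree_le_iff_coeff_eq_zero]
    intro i hi
    rw [Polynomial.coeff_bernoulli, if_neg (by omega)]
  have hX : (1 + X : ℚ[X]).natDegree = 1 := by
    rw [add_comm, ← C_1, natDegree_X_add_C]
  have hBd : ∀ j, (B j).natDegree = j + 1 := fun j => by
    simp only [B, natDegree_comp, hX, (hb _).1, mul_one]
  have hBc : ∀ j, (B j).coeff (j + 1) = 1 := fun j => by
    have h1 : (B j).leadingCoeff = 1 := by
      simp only [B]
      rw [leadingCoeff_comp (by rw [hX]; exact one_ne_zero)]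
      have h2 : (1 + X : ℚ[X]).leadingCoeff = 1 := by
        rw [add_comm, ← C_1, leadingCoeff_X_add_C]
      rw [h2, one_pow, mul_one, leadingCoeff, (hb _).1, (hb _).2]
    rwa [leadingCoeff, hBd] at h1
  let P₀ : ℚ[X] := ∑ j ∈ Finset.range (d + 1), C (c j) * B j
  have hP : ∀ x : ℚ, P₀.eval x - P₀.eval (x - 1) = Q.eval x := by
    intro x
    simp only [P₀, eval_finset_sum, ← Finset.sum_sub_distrib]
    rw [eval_eq_sum_range, hd]
    refine Finset.sum_congr rfl fun j _ => ?_
    simp only [B, eval_mul, eval_C, eval_comp, eval_add, eval_one, eval_X]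
    rw [show (1 : ℚ) + (x - 1) = x by ring, Polynomial.bernoulli_eval_one_add]
    simp only [c, Nat.add_sub_cancel]
    push_cast
    field_simp
    ring
  refine ⟨P₀ + C (φ 0 - P₀.eval 0), ?_, ?_⟩
  · rw [natDegree_add_C]
    refine natDegree_eq_of_le_of_coeff_ne_zero ?_ ?_
    · refine natDegree_sum_le_of_forall_le _ _ fun j hj => ?_
      have := hBd j
      have := Finset.mem_range.mp hj
      have := natDegree_C_mul_le (c j) (B j)
      omega
    · simp only [P₀, finsetSum_coeff, coeff_C_mul]
      rw [Finset.sum_eq_single d]
      · rw [hBc, mul_one]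
        have : Q.coeff d ≠ 0 := by
          rw [← hd]; exact leadingCoeff_ne_zero.mpr hQ
        exact div_ne_zero this (by positivity)
      · intro j hj hjd
        have := Finset.mem_range.mp hj
        rw [coeff_eq_zero_of_natDegree_lt (by rw [hBd]; omega), mul_zero]
      · simp
  · intro m
    induction m using Int.induction_on with
    | zero => simp
    | succ i ih =>
        have h1 := h (i + 1)
        have h2 := hP ((i : ℚ) + 1)
        simp only [eval_add, eval_C] at ih ⊢
        push_cast at h1 h2 ih ⊢
        simp only [add_sub_cancel_right] at h1 h2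
        linarith
    | pred i ih =>
        have h1 := h (-(i : ℤ))
        have h2 := hP (-(i : ℚ))
        simp only [eval_add, eval_C] at ih ⊢
        push_cast at h1 h2 ih ⊢
        linarith

end Groth.Agent.S14405
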