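import Groth.Statements.S6266
import Mathlib.RingTheory.Spectrum.Prime.FreeLocus
import Mathlib.RingTheory.LocalRing.Module
import Mathlib.RingTheory.LocalProperties.FinitePresentation
import Mathlib.RingTheory.Support
import Mathlib.RingTheory.LocalProperties.Projective
import Mathlib.LinearAlgebra.Dimension.OrzechProperty
import Mathlib.LinearAlgebra.Dimension.Finite
import Mathlib.LinearAlgebra.TensorProduct.RightExactness
import Mathlib.LinearAlgebra.FiniteDimensional.Lemmas
import Mathlib.RingTheory.Nilpotent.Lemmas

set_option autoImplicit false
universe u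
open scoped TensorProduct
open CAlg
open scoped TensorProduct

namespace Groth.Agent.S6266

/-- Let R be a reduced ring and M an R-module. Then M is a finite projective R-module if and only if M
is finitely generated and the function on Spec R sending a prime p to the dimension of κ(p) ⊗ M over
the residue field κ(p) is locally constant for the Zariski topology. -/
theorem result (R : Type u) [CommRing R] [IsReduced R] (M : Type u) [AddCommGroup M] [Module R M] : (Module.Finite R M ∧ Module.Projective R M) ↔ (Module.Finite R M ∧ IsLocallyConstant (fun p : PrimeSpectrum R => Module.finrank p.asIdeal.ResidueField (p.asIdeal.ResidueField ⊗[R] M))) := by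
  classical
  constructor
  · rintro ⟨hfin, hproj⟩
    refine ⟨hfin, ?_⟩
    have : Module.FinitePresentation R M := Module.finitePresentation_of_projective R M
    have heq : (fun p : PrimeSpectrum R => Module.finrank p.asIdeal.ResidueField (p.asIdeal.ResidueField ⊗[R] M)) = Module.rankAtStalk M :=
      funext fun p => (Module.rankAtStalk_eq p).symm
    rw [heq]
    exact Module.isLocallyConstant_rankAtStalk
  · rintro ⟨hfin, hlc⟩
    refine ⟨hfin, ?_⟩
    have loc : ∀ P : PrimeSpectrum R, ∃ f ∉ P.asIdeal,
        Module.Free (Localization.Away f) (LocalizedModule.Away f M) := by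
      intro P
      let κ := P.asIdeal.ResidueField
      obtain ⟨n, s, hspan⟩ : ∃ (n : ℕ) (s : Fin n → M), n = Module.finrank κ (κ ⊗[R] M) ∧
          Submodule.span κ (Set.range fun i => (1 : κ) ⊗ₜ[R] s i) = ⊤ := by
        have htop : Submodule.span κ ((TensorProduct.mk R κ M 1) '' Set.univ) = ⊤ := by
          rw [Set.image_univ]
          refine eq_top_iff.mpr fun z _ => ?_
          induction z using TensorProduct.induction_on with
          | zero => exact zero_mem _
          | add a b ha hb => exact add_mem (ha trivial) (hb trivial)
          | tmul a x =>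
            have : a ⊗ₜ[R] x = a • (1 ⊗ₜ[R] x : κ ⊗[R] M) := by rw [TensorProduct.smul_tmul', smul_eq_mul, mul_one]
            rw [this]
            exact Submodule.smul_mem _ _ (Submodule.subset_span ⟨x, rfl⟩)
        obtain ⟨t, hts, hsp, hli⟩ := exists_linearIndependent κ ((TensorProduct.mk R κ M 1) '' Set.univ)
        rw [htop] at hsp
        have : Finite t := hli.finite
        let b := Module.Basis.mk hli (by rw [Subtype.range_coe, hsp])
        have : Fintype t := Fintype.ofFinite t
        let b' := b.reindex (Fintype.equivFin t)
        choose g hg using fun i : Fin (Fintype.card t) => hts ((Fintype.equivFin t).symm i).2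
        refine ⟨_, g, (Module.finrank_eq_card_basis b' |>.trans (Fintype.card_fin _)).symm, ?_⟩
        rw [← b'.span_eq]
        congr 1
        refine congrArg Set.range (funext fun i => ?_)
        rw [Module.Basis.reindex_apply, Module.Basis.mk_apply]
        exact (hg i).2
      obtain ⟨hn, hspan⟩ := hspan
      -- cokernel
      let φ : (Fin n → R) →ₗ[R] M := Fintype.linearCombination R s
      let Q := M ⧸ LinearMap.range φ
      have hQ : P ∉ Module.support R Q := by
        rw [Module.mem_support_iff_nontrivial_residueField_tensorProduct, not_nontrivial_iff_subsingleton]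
        refine subsingleton_of_forall_eq 0 fun z => ?_
        obtain ⟨w, rfl⟩ := LinearMap.lTensor_surjective κ (Submodule.mkQ_surjective (LinearMap.range φ)) z
        have hw : w ∈ Submodule.span κ (Set.range fun i => (1 : κ) ⊗ₜ[R] s i) := hspan ▸ Submodule.mem_top
        show (LinearMap.range φ).mkQ.baseChange κ w = 0
        refine (Submodule.span_le.mpr ?_ : _ ≤ LinearMap.ker ((LinearMap.range φ).mkQ.baseChange κ)) hw
        rintro _ ⟨i, rfl⟩
        simp only [SetLike.mem_coe, LinearMap.mem_ker, LinearMap.baseChange_tmul, Submodule.mkQ_apply]
        rw [(Submodule.Quotient.mk_eq_zero _).mpr (show s i ∈ LinearMap.range φ from ⟨Pi.single i 1, by simp [φ, Fintype.linearCombination_apply_single]⟩),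
          TensorProduct.tmul_zero]
      obtain ⟨f₁, hf₁, hf₁Q⟩ : ∃ f ∉ P.asIdeal, ∀ x : M, f • x ∈ LinearMap.range φ := by
        rw [Module.mem_support_iff_of_finite, SetLike.not_le_iff_exists] at hQ
        obtain ⟨f, hf, hfP⟩ := hQ
        exact ⟨f, hfP, fun x => (Submodule.Quotient.mk_eq_zero _).mp
          (by rw [Submodule.Quotient.mk_smul]; exact Module.mem_annihilator.mp hf _)⟩
      obtain ⟨_, ⟨g, rfl⟩, hgP, hgU⟩ := PrimeSpectrum.isTopologicalBasis_basic_opens.exists_subset_of_mem_open
        (show P ∈ {x : PrimeSpectrum R | Module.finrank x.asIdeal.ResidueField (x.asIdeal.ResidueField ⊗[R] M) = Module.finrank κ (κ ⊗[R] M)} from rfl) (hlc.isOpen_fiber (Module.finrank κ (κ ⊗[R] M)))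
      let f := f₁ * g
      have hfP : f ∉ P.asIdeal := fun h => (P.isPrime.mem_or_mem h).elim hf₁ hgP
      have hindep : ∀ c : Fin n → R, φ c = 0 → ∀ i, f * c i = 0 := by
        intro c hc i
        refine (nilpotent_iff_mem_prime.mpr fun q hq => ?_ : IsNilpotent (f * c i)).eq_zero
        by_cases hfq : f ∈ q
        · exact q.mul_mem_right _ hfq
        refine q.mul_mem_left _ ?_
        let kq := q.ResidueField
        have hgq : g ∉ q := fun h => hfq (q.mul_mem_left _ h)
        have hf₁q : f₁ ∉ q := fun h => hfq (q.mul_mem_right _ h)
        have hrk : Module.finrank kq (kq ⊗[R] M) = n := (hgU (show (⟨q, hq⟩ : PrimeSpectrum R) ∈ (PrimeSpectrum.basicOpen g : Set _) from hgq)).trans hn.symm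
        have hu : algebraMap R kq f₁ ≠ 0 := fun h => hf₁q ((Ideal.algebraMap_residueField_eq_zero).mp h)
        have hsp : ⊤ ≤ Submodule.span kq (Set.range fun i => (1 : kq) ⊗ₜ[R] s i) := fun z _ => by
          induction z with
          | zero => exact zero_mem _
          | add a b ha hb => exact add_mem (ha trivial) (hb trivial)
          | tmul a x =>
            obtain ⟨d, hd⟩ := hf₁Q x
            have : a ⊗ₜ[R] x = (a * (algebraMap R kq f₁)⁻¹) • ((1 : kq) ⊗ₜ[R] (f₁ • x)) := by
              rw [TensorProduct.tmul_smul, TensorProduct.smul_tmul', TensorProduct.smul_tmul', smul_eq_mul, Algebra.smul_def, mul_one]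
              congr 1
              rw [mul_assoc, inv_mul_cancel₀ hu, mul_one]
            rw [this, ← hd, Fintype.linearCombination_apply, TensorProduct.tmul_sum]
            refine Submodule.smul_mem _ _ (Submodule.sum_mem _ fun j _ => ?_)
            rw [TensorProduct.tmul_smul, ← algebraMap_smul kq (d j)]
            exact Submodule.smul_mem _ _ (Submodule.subset_span ⟨j, rfl⟩)
        have hli := linearIndependent_of_top_le_span_of_card_eq_finrank hsp (by rw [hrk, Fintype.card_fin])
        have h0 : ∑ j, algebraMap R kq (c j) • ((1 : kq) ⊗ₜ[R] s j) = 0 := by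
          simp only [algebraMap_smul, ← TensorProduct.tmul_smul, ← TensorProduct.tmul_sum]
          rw [show (∑ j, c j • s j) = φ c from (Fintype.linearCombination_apply ..).symm, hc, TensorProduct.tmul_zero]
        exact Ideal.algebraMap_residueField_eq_zero.mp (Fintype.linearIndependent_iff.mp hli _ h0 i)
      refine ⟨f, hfP, ?_⟩
      let ψ := LocalizedModule.map (Submonoid.powers f) φ
      have hsur : Function.Surjective ψ := by
        intro z
        induction z using LocalizedModule.induction_on with
        | h x t =>
          obtain ⟨d, hd⟩ := hf₁Q (g • x)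
          refine ⟨LocalizedModule.mk d (⟨f, Submonoid.mem_powers f⟩ * t), ?_⟩
          simp only [ψ, LocalizedModule.map_mk]
          rw [LocalizedModule.mk_eq]
          exact ⟨1, by simp [hd, smul_smul, Submonoid.smul_def, f, mul_comm, mul_left_comm]⟩
      have hinj : Function.Injective ψ := by
        rw [injective_iff_map_eq_zero]
        intro z hz
        induction z using LocalizedModule.induction_on with
        | h c t =>
          rw [show ψ (LocalizedModule.mk c t) = LocalizedModule.mk (φ c) t from LocalizedModule.map_mk _ _ _ _,
            ← LocalizedModule.zero_mk t, LocalizedModule.mk_eq] at hz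
          obtain ⟨⟨u, hu⟩, hz⟩ := hz
          simp only [Submonoid.smul_def, smul_zero, smul_smul, ← map_smul] at hz
          rw [← LocalizedModule.zero_mk t, LocalizedModule.mk_eq]
          refine ⟨⟨f * u, mul_mem (Submonoid.mem_powers f) hu⟩, funext fun i => ?_⟩
          have := hindep _ hz i
          simpa [Submonoid.smul_def, mul_assoc] using this
      haveI : Module.Free (Localization.Away f) (LocalizedModule (Submonoid.powers f) (Fin n → R)) :=
        Module.free_of_isLocalizedModule (Submonoid.powers f) (LocalizedModule.mkLinearMap _ _)
      exact Module.Free.of_equiv (LinearEquiv.ofBijective ψ ⟨hinj, hsur⟩)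
    choose f hf hfree using loc
    have hs : Ideal.span (Set.range f) = ⊤ := by
      by_contra h
      obtain ⟨m, hm, hle⟩ := Ideal.exists_le_maximal _ h
      exact hf ⟨m, hm.isPrime⟩ (hle (Ideal.subset_span ⟨_, rfl⟩))
    have hfp : Module.FinitePresentation R M := Module.FinitePresentation.of_localizationSpan _ hs (by
      rintro ⟨_, P, rfl⟩
      have := hfree P
      exact Module.finitePresentation_of_projective _ _)
    refine Module.freeLocus_eq_univ_iff.mp (Set.eq_univ_iff_forall.mpr fun P => ?_)
    have := hfree P
    exact (Module.basicOpen_subset_freeLocus_iff (f := f P)).mpr inferInstance (hf P)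

end Groth.Agent.S6266
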