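import Groth.Statements.S16031
import Groth.Agent.Pinch.Props
import Groth.Agent.Pinch.Charts

set_option autoImplicit false
universe u
open CategoryTheory CategoryTheory.Limits AlgebraicGeometry
open FlatMor

open CategoryTheory Limits AlgebraicGeometry Groth.Agent
set_option backward.isDefEq.respectTransparency false
namespace Groth.Agent.S16031
/-- Adjust an element in its coset to avoid finitely many primes. -/
theorem exists_coset_avoid {R : Type u} [CommRing R] (I : Ideal R) (u₀ : R) (s : Finset (PrimeSpectrum R))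
    (hs : ∀ p ∈ s, u₀ ∈ p.asIdeal → ∃ k ∈ I, k ∉ p.asIdeal) :
    ∃ k ∈ I, ∀ p ∈ s, u₀ + k ∉ p.asIdeal := by
  classical
  induction s using Finset.strongInduction with
  | _ s ih => ?_
  rcases s.eq_empty_or_nonempty with rfl | hne
  · exact ⟨0, zero_mem _, by simp⟩
  obtain ⟨p, hp⟩ := s.exists_minimal hne
  obtain ⟨k, hk, hks⟩ := ih (s.erase p) (Finset.erase_ssubset hp.prop) fun q hq => hs q (Finset.mem_of_mem_erase hq)
  by_cases h : u₀ + k ∈ p.asIdeal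
  · obtain ⟨k₀, hk₀, hk₀p⟩ : ∃ k₀ ∈ I, k₀ ∉ p.asIdeal := by
      by_cases hkp : k ∈ p.asIdeal
      · exact hs p hp.prop ((Ideal.add_mem_iff_left _ hkp).1 h)
      · exact ⟨k, hk, hkp⟩
    have hq : ∀ q : {q // q ∈ s.erase p}, ∃ t ∈ q.1.asIdeal, t ∉ p.asIdeal := fun q => by
      by_contra hne'
      push Not at hne'
      have hle : q.1 ≤ p := hne'
      exact (Finset.ne_of_mem_erase q.2) (le_antisymm hle (hp.le_of_le (Finset.mem_of_mem_erase q.2) hle))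
    choose t ht htp using hq
    refine ⟨k + k₀ * ∏ q, t q, add_mem hk (I.mul_mem_right _ hk₀), fun q hq => ?_⟩
    by_cases hqp : q = p
    · subst hqp
      rw [← add_assoc]
      intro hmem
      have hprod : k₀ * ∏ r, t r ∈ q.asIdeal := (Ideal.add_mem_iff_right _ h).1 hmem
      rcases q.isPrime.mem_or_mem hprod with h' | h'
      · exact hk₀p h'
      · obtain ⟨r, -, hr⟩ := Ideal.IsPrime.prod_mem_iff.1 h'
        exact htp r hr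
    · rw [← add_assoc]
      intro hmem
      have hq' : q ∈ s.erase p := Finset.mem_erase.2 ⟨hqp, hq⟩
      refine hks q hq' ((Ideal.add_mem_iff_left _ ?_).1 hmem)
      exact Ideal.mul_mem_left _ _ (Ideal.mem_of_dvd _ (Finset.dvd_prod_of_mem t (Finset.mem_univ ⟨q, hq'⟩)) (ht ⟨q, hq'⟩))
  · refine ⟨k, hk, fun q hq => ?_⟩
    by_cases hqp : q = p
    · exact hqp ▸ h
    · exact hks q (Finset.mem_erase.2 ⟨hqp, hq⟩)

theorem mem_basicOpen_prime {X : Scheme.{u}} {U : X.Opens} (hU : IsAffineOpen U) {x : X} (hx : x ∈ U) (c : Γ(X, U)) :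
    x ∈ X.basicOpen c ↔ c ∉ (hU.primeIdealOf ⟨x, hx⟩).asIdeal := by
  rw [← PrimeSpectrum.mem_basicOpen, ← hU.fromSpec_preimage_basicOpen]
  show x ∈ X.basicOpen c ↔ hU.fromSpec _ ∈ X.basicOpen c
  rw [hU.fromSpec_primeIdealOf ⟨x, hx⟩]

theorem exists_basicOpen_finite {X : Scheme.{u}} {U : X.Opens} (hU : IsAffineOpen U) (O : X.Opens) {F : Set X}
    (hF : F.Finite) (hFU : F ⊆ U) (hFO : F ⊆ O) : ∃ c : Γ(X, U), X.basicOpen c ≤ O ∧ F ⊆ X.basicOpen c := by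
  classical
  let J : Ideal Γ(X, U) :=
    { carrier := {c | X.basicOpen c ≤ O}
      add_mem' := fun {c d} hc hd => (X.basicOpen_add_le c d).trans (sup_le hc hd)
      zero_mem' := by simp
      smul_mem' := fun r c hc => by
        show X.basicOpen (r * c) ≤ _
        rw [Scheme.basicOpen_mul]; exact inf_le_right.trans hc }
  haveI := hF.to_subtype
  by_contra hne
  push Not at hne
  have hsub : (J : Set Γ(X, U)) ⊆ ⋃ x ∈ (Set.univ : Set F), ((hU.primeIdealOf ⟨x.1, hFU x.2⟩).asIdeal : Set Γ(X, U)) := by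
    intro c hc
    obtain ⟨x, hx, hxc⟩ := Set.not_subset.1 (hne c hc)
    exact Set.mem_biUnion (x := (⟨x, hx⟩ : F)) trivial (by_contra fun h => hxc ((mem_basicOpen_prime hU (hFU hx) c).2 h))
  rcases isEmpty_or_nonempty F with he | ⟨⟨x₀⟩⟩
  · exact hne 0 (by simp) fun x hx => (he.false ⟨x, hx⟩).elim
  obtain ⟨x, -, hx⟩ := (Ideal.subset_union_prime_finite Set.finite_univ x₀ x₀ fun i _ _ _ => (hU.primeIdealOf ⟨i.1, hFU i.2⟩).isPrime).1 hsub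
  obtain ⟨c, hc, hxc⟩ := hU.exists_basicOpen_le (V := O) ⟨x.1, hFO x.2⟩ (hFU x.2)
  exact (mem_basicOpen_prime hU (hFU x.2) c).1 hxc (hx hc)

theorem exists_lift_finite {Z X : Scheme.{u}} (i : Z ⟶ X) [IsClosedImmersion i] {U : X.Opens} (hU : IsAffineOpen U)
    (c : Γ(Z, i ⁻¹ᵁ U)) {F : Set X} (hF : F.Finite) (hFU : F ⊆ U) (hFc : ∀ z, i z ∈ F → z ∈ Z.basicOpen c) :
    ∃ v : Γ(X, U), i.app U v = c ∧ F ⊆ X.basicOpen v := by
  classical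
  obtain ⟨u₀, hu₀⟩ := i.app_surjective U hU c
  haveI := hF.fintype
  let pt : F → PrimeSpectrum Γ(X, U) := fun x => hU.primeIdealOf ⟨x.1, hFU x.2⟩
  obtain ⟨k, hk, hks⟩ := exists_coset_avoid (RingHom.ker (i.app U).hom) u₀ (Finset.univ.image pt) (by
    intro p hp hu₀p
    obtain ⟨x, -, rfl⟩ := Finset.mem_image.1 hp
    have hnr : x.1 ∉ Set.range i := by
      rintro ⟨z, hz⟩
      have h1 := hFc z (hz.symm ▸ x.2)
      rw [← hu₀] at h1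
      erw [← Scheme.preimage_basicOpen] at h1
      have h2 : x.1 ∈ X.basicOpen u₀ := hz ▸ h1
      exact (mem_basicOpen_prime hU (hFU x.2) u₀).1 h2 hu₀p
    obtain ⟨g, hg, hxg⟩ := hU.exists_basicOpen_le (V := ⟨(Set.range i)ᶜ, i.isClosedEmbedding.isClosed_range.isOpen_compl⟩)
      ⟨x.1, hnr⟩ (hFU x.2)
    obtain ⟨n, hn⟩ := (Scheme.isNilpotent_iff_basicOpen_eq_bot_of_isCompact (hU.preimage i).isCompact (i.app U g)).2 (by
      erw [← Scheme.preimage_basicOpen]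
      exact le_bot_iff.1 fun z hz => hg hz ⟨z, rfl⟩)
    exact ⟨g ^ n, by rw [RingHom.mem_ker, map_pow]; exact hn,
      fun hmem => (mem_basicOpen_prime hU (hFU x.2) g).1 hxg ((pt x).isPrime.mem_of_pow_mem n hmem)⟩)
  refine ⟨u₀ + k, by rw [map_add, RingHom.mem_ker.1 hk, add_zero, hu₀], fun x hx => ?_⟩
  exact (mem_basicOpen_prime hU (hFU hx) _).2 (hks (pt ⟨x, hx⟩) (Finset.mem_image.2 ⟨_, Finset.mem_univ _, rfl⟩))


/-- Let θ₁ : Y ⟶ X₁ and θ₂ : Y ⟶ X₂ be closed immersions of schemes and let X, with φ₁ : X₁ ⟶ X and φ₂ :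
X₂ ⟶ X, be their pushout in the category of schemes. If a finite set E of points of X has each
preimage φᵢ⁻¹(E) contained in an affine open of Xᵢ, then E is contained in an affine open of X. -/
theorem result
    {Y X₁ X₂ X : Scheme.{u}} (θ₁ : Y ⟶ X₁) (θ₂ : Y ⟶ X₂) [IsClosedImmersion θ₁] [IsClosedImmersion θ₂]
    (φ₁ : X₁ ⟶ X) (φ₂ : X₂ ⟶ X) (hX : IsPushout θ₁ θ₂ φ₁ φ₂)
    (E : Set ↥X) (hE : E.Finite)
    (h₁ : ∃ U₁ : X₁.Opens, IsAffineOpen U₁ ∧ φ₁ ⁻¹' E ⊆ (U₁ : Set ↥X₁))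
    (h₂ : ∃ U₂ : X₂.Opens, IsAffineOpen U₂ ∧ φ₂ ⁻¹' E ⊆ (U₂ : Set ↥X₂)) :
    ∃ U : X.Opens, IsAffineOpen U ∧ E ⊆ (U : Set ↥X) := by
  obtain ⟨U₁, hU₁, hF₁⟩ := h₁
  obtain ⟨U₂, hU₂, hF₂⟩ := h₂
  have hp := Pinch.isPinch_of_isPushout (Pinch.hasCharts_of_closed θ₁ θ₂) hX
  have hsurj := Pinch.surj_of_top (Pinch.top_of_isPinch hp)
  haveI := Pinch.isClosedImmersion_b (Pinch.hasCharts_of_closed θ₁ θ₂) hp
  haveI := Pinch.isClosedImmersion_b (Pinch.hasCharts_of_closed θ₂ θ₁)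
    (Pinch.isPinch_of_isPushout (Pinch.hasCharts_of_closed θ₂ θ₁) hX.flip)
  have fin₁ : (φ₁ ⁻¹' E).Finite := hE.preimage φ₁.isClosedEmbedding.injective.injOn
  have fin₂ : (φ₂ ⁻¹' E).Finite := hE.preimage φ₂.isClosedEmbedding.injective.injOn
  have hE' : ∀ y, θ₁ y ∈ φ₁ ⁻¹' E ↔ θ₂ y ∈ φ₂ ⁻¹' E := fun y => by
    show φ₁ (θ₁ y) ∈ E ↔ φ₂ (θ₂ y) ∈ E
    rw [← Scheme.Hom.comp_apply, hX.w, Scheme.Hom.comp_apply]
  obtain ⟨h₁, hle₁, hF₁'⟩ := exists_basicOpen_finite hU₁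
    ⟨(θ₁ '' (θ₂ ⁻¹ᵁ U₂ : Set Y)ᶜ)ᶜ, (θ₁.isClosedMap _ (θ₂ ⁻¹ᵁ U₂).2.isClosed_compl).isOpen_compl⟩ fin₁ hF₁
    (by rintro x hx ⟨y, hy, rfl⟩; exact hy (hF₂ ((hE' y).1 hx)))
  let V₁ := X₁.basicOpen h₁
  have hT : θ₁ ⁻¹ᵁ V₁ ≤ θ₂ ⁻¹ᵁ U₂ := fun y hy => by_contra fun h => hle₁ hy ⟨y, h, rfl⟩
  obtain ⟨h₂, hle₂, hF₂'⟩ := exists_basicOpen_finite hU₂
    ⟨(θ₂ '' (θ₁ ⁻¹ᵁ V₁ : Set Y)ᶜ)ᶜ, (θ₂.isClosedMap _ (θ₁ ⁻¹ᵁ V₁).2.isClosed_compl).isOpen_compl⟩ fin₂ hF₂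
    (by rintro x hx ⟨y, hy, rfl⟩; exact hy (hF₁' ((hE' y).2 hx)))
  let c : Γ(Y, θ₁ ⁻¹ᵁ V₁) := (Y.presheaf.map (homOfLE hT).op).hom (θ₂.app U₂ h₂)
  have hc : Y.basicOpen c = θ₂ ⁻¹ᵁ X₂.basicOpen h₂ := by
    simp only [c, Scheme.basicOpen_res]
    erw [← Scheme.preimage_basicOpen]
    exact inf_eq_right.2 fun y hy => by_contra fun h => hle₂ hy ⟨y, h, rfl⟩
  obtain ⟨v, hv, hF₁''⟩ := exists_lift_finite θ₁ (hU₁.basicOpen h₁) c fin₁ hF₁'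
    (fun y hy => by rw [hc]; exact hF₂' ((hE' y).1 hy))
  have ch : Pinch.Chart θ₁ θ₂ (X₁.basicOpen v) (X₂.basicOpen h₂) :=
    ⟨(hU₁.basicOpen h₁).basicOpen v, hU₂.basicOpen h₂, ((hU₁.basicOpen h₁).basicOpen v).preimage θ₁, by
      rw [Scheme.preimage_basicOpen]; erw [hv]; exact hc⟩
  obtain ⟨W, hW, e₁, e₂⟩ := Pinch.exists_chart_opens hp ch
  refine ⟨W, hW, fun e he => ?_⟩
  rcases hsurj e with ⟨x, rfl⟩ | ⟨y, rfl⟩
  · exact show x ∈ φ₁ ⁻¹ᵁ W from e₁ ▸ hF₁'' he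
  · exact show y ∈ φ₂ ⁻¹ᵁ W from e₂ ▸ hF₂' he

end Groth.Agent.S16031
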