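import Groth.Statements.S16083
import Groth.Agent.RefStalk.Generic
-- import your own Groth.Agent.* helpers here

set_option autoImplicit false
set_option backward.isDefEq.respectTransparency false
universe u
open CategoryTheory CategoryTheory.Limits AlgebraicGeometry TopologicalSpace
open SDiv

namespace Groth.Agent.S16083

open Groth.Agent.RefStalk
open Groth.Agent.WeakAssLib (mgerm)

/-- Suppose X is a normal scheme that is integral and locally Noetherian, write η for its generic point,
let F and G be coherent O_X-modules, and let T : G_η → F_η be an O_{X,η}-linear map of generic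
stalks. Then T extends to a morphism G ⟶ F^** — there is a morphism ψ whose stalk map at η is T
followed by the stalk map at η of the canonical map F ⟶ F^** — if and only if for every point x with
dim O_{X,x} = 1 the map T sends the image of G_x in G_η into the image of F_x in F_η. -/
theorem result (X : Scheme.{u}) [IsIntegral X] [IsLocallyNoetherian X]
    (hX : Pi1.IsNormalScheme X) (F G : X.Modules) (hF : Coh.IsCoh F) (hG : Coh.IsCoh G)
    (T : ↑(G.presheaf.stalk (genericPoint ↥X)) →ₗ[↑(X.presheaf.stalk (genericPoint ↥X))]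
      ↑(F.presheaf.stalk (genericPoint ↥X))) :
    (∃ ψ : G ⟶ RefHull.ddual F, RefHull.stalkMapₗ ψ (genericPoint ↥X) =
        (RefHull.stalkMapₗ (RefHull.bidualMap F) (genericPoint ↥X)).comp T) ↔
      ∀ x : ↥X, ringKrullDim ↑(X.presheaf.stalk x) = 1 →
        Set.MapsTo ⇑T
          (Set.range ⇑(G.presheaf.stalkSpecializes ((genericPoint_spec ↥X).specializes (Set.mem_univ x))).hom)
          (Set.range ⇑(F.presheaf.stalkSpecializes ((genericPoint_spec ↥X).specializes (Set.mem_univ x))).hom) := by
  classical
  let η := genericPoint (↥X)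
  have hdual := isCoh_homSh hF (isCoh_structureModule (X := X))
  have hdd : Coh.IsCoh (RefHull.ddual F) := isCoh_homSh hdual (isCoh_structureModule (X := X))
  have hrefl : ∀ x : X, Module.IsReflexive (X.presheaf.stalk x) ((RefHull.ddual F).presheaf.stalk x) :=
    fun x => isReflexiveAt_ddual hF x
  have hinj : ∀ x : X, Function.Injective (msp (RefHull.ddual F) (toGen x)) := fun x => by
    haveI := (hX x).1
    haveI := hrefl x
    haveI := isTorsionFree_of_isReflexive (R := X.presheaf.stalk x) ((RefHull.ddual F).presheaf.stalk x)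
    exact msp_injective hdd.1 x
  have hco : ∀ x : X, ringKrullDim (X.presheaf.stalk x) = 1 ↔ Order.coheight x = 1 := fun x => by
    rw [ringKrullDim_stalk_eq_coheight]; exact WithBot.coe_inj
  -- at the generic point the biduality map is bijective
  have hbη : Function.Bijective (RefHull.stalkMapₗ (RefHull.bidualMap F) η) := by
    letI : Field (X.presheaf.stalk η) := inferInstanceAs (Field X.functionField)
    haveI := Groth.Agent.RegDual.finite_stalk hF η
    exact bijective_stalkMap_bidualMap hF η
      (inferInstance : Module.IsReflexive (X.presheaf.stalk η) (F.presheaf.stalk η))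
  constructor
  · rintro ⟨ψ, hψ⟩ x hx _ ⟨g, rfl⟩
    haveI := (hX x).1
    haveI := Groth.Agent.CDivNormal.isDVR hX x ((hco x).1 hx)
    obtain ⟨m, hm⟩ := surjective_stalkMap_bidualMap hF x (RefHull.stalkMapₗ ψ x g)
    refine ⟨m, hbη.1 ?_⟩
    show RefHull.stalkMapₗ (RefHull.bidualMap F) η (msp F (toGen x) m) =
      RefHull.stalkMapₗ (RefHull.bidualMap F) η (T (msp G (toGen x) g))
    rw [stalkMap_msp, hm, ← stalkMap_msp]
    exact LinearMap.congr_fun hψ _
  · intro h
    let θ := (RefHull.stalkMapₗ (RefHull.bidualMap F) η).comp T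
    have hex : ∀ (y : X) (g : G.presheaf.stalk y), ∃ w : (RefHull.ddual F).presheaf.stalk y,
        msp (RefHull.ddual F) (toGen y) w = θ (msp G (toGen y) g) := by
      intro y g
      refine mem_range_msp hX hdd hrefl _ y fun x hxy hx => ?_
      obtain ⟨m, hm⟩ := h x ((hco x).2 hx) ⟨msp G hxy g, rfl⟩
      refine ⟨RefHull.stalkMapₗ (RefHull.bidualMap F) x m, ?_⟩
      rw [← stalkMap_msp]
      show RefHull.stalkMapₗ (RefHull.bidualMap F) η _ = RefHull.stalkMapₗ (RefHull.bidualMap F) η _
      refine congrArg _ (hm.trans ?_)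
      exact congrArg T (msp_msp G (toGen x) hxy g)
    choose L hL using hex
    let Lₗ : ∀ y : X, RefHull.StalkHom G (RefHull.ddual F) y := fun y =>
      { toFun := L y
        map_add' := fun a b => hinj y (by rw [map_add, hL, hL, hL, map_add, map_add])
        map_smul' := fun r a => hinj y (by
          rw [RingHom.id_apply, msp_smul, hL, hL, msp_smul]; exact map_smul θ _ _) }
    have hloc : RefHull.IsLocSect G (RefHull.ddual F) (U := (⊤ : X.Opens)) fun y => Lₗ y.1 := by
      intro V i m x
      obtain ⟨W₀, hxW₀, n₀, hn₀⟩ := TopCat.Presheaf.exists_germ_eq (RefHull.ddual F).presheaf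
        (L x.1 (G.presheaf.germ V x.1 x.2 m))
      refine ⟨W₀ ⊓ V, ⟨hxW₀, x.2⟩, homOfLE inf_le_right,
        (RefHull.ddual F).presheaf.map (homOfLE inf_le_left).op n₀, fun y => hinj y.1 ?_⟩
      show msp _ (toGen y.1) (L y.1 (mgerm G y.2.2 m)) =
        msp _ (toGen y.1) ((RefHull.ddual F).presheaf.germ _ y.1 y.2 _)
      rw [hL, msp_germ, TopCat.Presheaf.germ_res_apply]
      have h1 := congrArg (msp (RefHull.ddual F) (toGen x.1)) hn₀
      rw [hL] at h1
      exact ((msp_germ _ (toGen y.1) y.2.1 n₀).trans ((msp_germ _ (toGen x.1) hxW₀ n₀).symm.trans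
        (h1.trans (congrArg θ (msp_germ G (toGen x.1) x.2 m))))).symm
    obtain ⟨ψ, hψ⟩ := exists_hom (F := G) (G := RefHull.ddual F) ⟨fun y => Lₗ y.1, hloc⟩
    refine ⟨ψ, ?_⟩
    rw [hψ]
    refine LinearMap.ext fun g => ?_
    have e := hL η g
    have hid : ∀ (M : X.Modules) (v : M.presheaf.stalk η), msp M (toGen η) v = v := fun M v => by
      show (M.presheaf.stalkSpecializes _).hom v = v
      rw [TopCat.Presheaf.stalkSpecializes_refl]
      rfl
    rw [hid, hid] at e
    exact e

end Groth.Agent.S16083
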