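import Groth.Statements.S2079
import Groth.Agent.AbsApprox.ProperLim

set_option backward.isDefEq.respectTransparency false

set_option autoImplicit false
universe u
open CategoryTheory AlgebraicGeometry
open Lim

namespace Groth.Agent.S2079

/-- Let `f : X → S` be proper with `S` quasi-compact and quasi-separated. Then `X` is the limit of a
cofiltered diagram of `S`-schemes which are proper and of finite presentation over `S`, with all
transition morphisms and all projections `X → X_i` closed immersions. -/
theorem result {X S : Scheme.{u}} (f : X ⟶ S) [IsProper f] [CompactSpace S]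
    [QuasiSeparatedSpace S] :
    ∃ (I : Type u) (_ : SmallCategory I) (_ : IsCofiltered I) (D : I ⥤ Over S) (c : Limits.Cone D)
      (_ : Limits.IsLimit c) (e : c.pt ≅ Over.mk f),
      (∀ (i j : I) (a : i ⟶ j), IsClosedImmersion (D.map a).left) ∧
      (∀ i, IsClosedImmersion (c.π.app i).left ∧ IsProper (D.obj i).hom ∧
        LocallyOfFinitePresentation (D.obj i).hom) := by
  classical
  haveI : CompactSpace X := QuasiCompact.compactSpace_of_compactSpace f
  haveI : QuasiSeparatedSpace X := quasiSeparatedSpace_of_quasiSeparated f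
  obtain ⟨T, t, Ω, g, h1, h2, h3, hc, h4, h5⟩ := Groth.Agent.AbsApprox.exists_closedImmersion_opens f
  haveI : CompactSpace Ω.toScheme := isCompact_iff_compactSpace.mp hc
  haveI : QuasiSeparatedSpace Ω.toScheme := quasiSeparatedSpace_of_quasiSeparated (Ω.ι ≫ t)
  haveI : QuasiCompact (Ω.ι ≫ t) := quasiCompact_of_compactSpace _
  obtain ⟨L₁, hL₁⟩ := Groth.Agent.AbsApprox.exists_isProper_closedDiagram f (Ω.ι ≫ t) g h5
  haveI : IsCofiltered (Groth.Agent.LimClosed.FTBelow g.ker)ᵒᵖ := isCofiltered_op_of_isFiltered _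
  let D := Groth.Agent.AbsApprox.closedDiagram (Ω.ι ≫ t) g
  let c := Groth.Agent.AbsApprox.closedCone f (Ω.ι ≫ t) g h5
  refine ⟨Over L₁, inferInstance, inferInstance, Over.forget L₁ ⋙ D, c.whisker (Over.forget L₁),
    (Functor.Initial.isLimitWhiskerEquiv (Over.forget L₁) c).symm
      (Groth.Agent.AbsApprox.isLimitClosedCone f (Ω.ι ≫ t) g h5), Iso.refl _, ?_, fun l => ⟨?_, ?_, ?_⟩⟩
  · exact fun i j a => Groth.Agent.AbsApprox.isClosedImmersion_closedDiagram_map (Ω.ι ≫ t) g a.left
  · exact Groth.Agent.AbsApprox.isClosedImmersion_closedCone f (Ω.ι ≫ t) g h5 l.left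
  · exact hL₁ l.left l.hom
  · exact Groth.Agent.AbsApprox.lfp_closedDiagram (Ω.ι ≫ t) g l.left

end Groth.Agent.S2079
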