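import Groth.Statements.S6404
import Groth.Agent.FibCatRep.Inertia

set_option autoImplicit false
open CategoryTheory
universe v u
open FibCat

namespace Groth.Agent.S6404

set_option backward.isDefEq.respectTransparency false
set_option linter.style.haveILetI false
open CategoryTheory.Limits Groth.Agent.FibCatRep

/-- The inertia of a category fibred in groupoids over `C` is fibred in groupoids over `C`. -/
theorem result {C : Type u} [Category.{v} C] {𝒳 : BasedCategory.{v, max u v} C} (h𝒳 : FibCat.IsFibGrpd 𝒳.p) :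
    FibCat.IsFibGrpd (FibCat.inertia (FibCat.toSelf 𝒳)).p := by
  haveI := isFibered_of_grpd h𝒳
  haveI := isFibered_inertia (FibCat.toSelf 𝒳)
    (fun {a b} φ _ => cart_of_grpd (isFibGrpd_selfOver (C := C)) _)
  refine ⟨fun {x V} f => ?_, fun {y x} φ => cart_inertia φ (cart_of_grpd h𝒳 φ.hom)⟩
  obtain ⟨y, ψ, hy, hψ, -⟩ := exists_cart_lift (p := (FibCat.inertia (FibCat.toSelf 𝒳)).p) (x := x) f
  exact ⟨y, ψ, IsHomLift.of_fac' _ f ψ hy rfl (hψ.trans (by simp))⟩

end Groth.Agent.S6404
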