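import Groth.Statements.S1240
import Groth.Agent.EquidimPt.FlatChart
import Groth.Agent.EquidimPt.FlatLift
import Groth.Agent.EquidimPt.Component

set_option autoImplicit false
universe u
open FlatMor

namespace Groth.Agent.S1240
open Groth.Agent.Unibranch Groth.Agent.EquidimPt TopologicalSpace

open AlgebraicGeometry CategoryTheory in
/-- Let f : X → S be flat and locally of finite type and U ⊆ S a dense open such that the fibres of f at
points over U have local dimension at most e everywhere. If f is locally of finite presentation, or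
U is retrocompact in S, then every fibre of f has local dimension at most e at every point. -/
theorem result {X S : Scheme.{u}} (f : X ⟶ S) [Flat f] [LocallyOfFiniteType f]
    (U : S.Opens) (hU : Dense (U : Set S)) (e : ℕ)
    (hle : ∀ x : X, f.base x ∈ U → FlatMor.fibreDimAt f x ≤ e)
    (h : LocallyOfFinitePresentation f ∨ IsRetrocompact (U : Set S)) (x : X) :
    FlatMor.fibreDimAt f x ≤ e := by
  obtain ⟨d, hd⟩ := exists_fibreDimAt_eq f x
  rw [hd]
  obtain ⟨m, hmx, hfm, hm, hch⟩ := exists_max_hasChain f x hd.ge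
  rw [← hfm] at hch
  rcases h with h | h
  · haveI := h
    obtain ⟨U₀, hxU₀, hU₀⟩ := (fibreDimAt_le_iff f x).mp hd.le
    obtain ⟨U₁, hxU₁, -, hU₁⟩ := exists_opens_chainsLE f hxU₀ hU₀
    have hdm : FlatMor.fibreDimAt f m = (d : WithBot ℕ∞) :=
      le_antisymm ((fibreDimAt_le_iff f m).mpr ⟨U₁, hmx.mem_open U₁.2 hxU₁, hU₁ _⟩)
        ((natCast_le_fibreDimAt_iff f m).mpr fun O hO =>
          (hch.of_specializes specializes_rfl hO).mono Set.inter_subset_left)
    obtain ⟨U', g, hmU', hg, hflat, hlfp⟩ :=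
      exists_flat_chart f (fun w hw hwm => hm w (hw.trans hfm) hwm) hdm
    obtain ⟨s, hs, hsU⟩ := hU.inter_open_nonempty _ (f.isOpenMap _ U'.2) ⟨_, m, hmU', rfl⟩
    obtain ⟨z, hzU', rfl⟩ := hs
    exact (le_fibreDimAt_of_chart f g hg hzU').trans (hle z hsU)
  · obtain ⟨η, hη, hηm⟩ := exists_isMaxPt_specializes (f m)
    have hηU : η ∈ U := by
      by_contra hnot
      obtain ⟨V, hV, hηV, -⟩ := exists_isAffineOpen_mem_and_subset (x := η) (U := ⊤) trivial
      have hc : IsCompact ((U : Set S) ∩ V) := by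
        exact h hV.isCompact V.2
      have hall : ∀ z ∈ (U : Set S) ∩ V, ∃ O : S.Opens, z ∈ O ∧
          ∃ N : S.Opens, η ∈ N ∧ Disjoint (O : Set S) N := by
        rintro z ⟨hzU, hzV⟩
        obtain ⟨g, hgU, hzg⟩ := hV.exists_basicOpen_le (V := U) ⟨z, hzU⟩ hzV
        let p := hV.primeIdealOf ⟨η, hηV⟩
        have hmin : ∀ q : PrimeSpectrum Γ(S, V), q.asIdeal ≤ p.asIdeal → q = p := fun q hq => by
          have h1 := (((PrimeSpectrum.le_iff_specializes q p).mp hq).map hV.fromSpec.continuous)
          rw [hV.fromSpec_primeIdealOf] at h1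
          exact hV.fromSpec.isOpenEmbedding.injective ((hη _ h1).trans (hV.fromSpec_primeIdealOf ⟨η, hηV⟩).symm)
        have hgp : g ∈ p.asIdeal := by
          by_contra hg
          have h1 : p ∈ hV.fromSpec ⁻¹ᵁ S.basicOpen g := by
            rw [hV.fromSpec_preimage_basicOpen]; exact hg
          replace h1 : hV.fromSpec (hV.primeIdealOf ⟨η, hηV⟩) ∈ S.basicOpen _ := h1
          rw [hV.fromSpec_primeIdealOf] at h1
          exact hnot (hgU h1)
        obtain ⟨n, s, hs, hns⟩ : ∃ (n : ℕ) (s : Γ(S, V)), s ∉ p.asIdeal ∧ g ^ n * s = 0 := by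
          by_contra! hcon
          let M := Submonoid.powers g ⊔ p.asIdeal.primeCompl
          have hM : Disjoint ((⊥ : Ideal Γ(S, V)) : Set Γ(S, V)) M := by
            rw [Set.disjoint_left]
            intro a ha haM
            obtain ⟨_, ⟨n, rfl⟩, s, hs, rfl⟩ := Submonoid.mem_sup.mp haM
            exact hcon n s hs (Ideal.mem_bot.mp ha)
          obtain ⟨q, hq, -, hqM⟩ := Ideal.exists_le_prime_disjoint _ _ hM
          have hqp : q ≤ p.asIdeal := fun a ha => by
            by_contra ha'
            exact Set.disjoint_left.mp hqM ha (Submonoid.mem_sup_right ha')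
          have := congrArg PrimeSpectrum.asIdeal (hmin ⟨q, hq⟩ hqp)
          exact Set.disjoint_left.mp hqM (this.ge hgp)
            (Submonoid.mem_sup_left (Submonoid.mem_powers g))
        refine ⟨S.basicOpen g, hzg, S.basicOpen s, ?_, ?_⟩
        · have h1 : p ∈ hV.fromSpec ⁻¹ᵁ S.basicOpen s := by
            rw [hV.fromSpec_preimage_basicOpen]; exact hs
          replace h1 : hV.fromSpec (hV.primeIdealOf ⟨η, hηV⟩) ∈ S.basicOpen _ := h1
          rw [hV.fromSpec_primeIdealOf] at h1
          exact h1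
        · rw [Set.disjoint_left]
          intro w hwg hws
          have h1 : w ∈ S.basicOpen (g ^ (n + 1) * s) := by
            rw [Scheme.basicOpen_mul, Scheme.basicOpen_pow _ _ n.succ_pos]
            exact ⟨hwg, hws⟩
          rw [pow_succ', mul_assoc, hns, mul_zero, Scheme.basicOpen_zero] at h1
          exact h1
      choose! O hzO N hηN hON using hall
      obtain ⟨t, htU, ht⟩ := hc.elim_nhds_subcover (fun z => (O z : Set S)) fun z hz => (O z).2.mem_nhds (hzO z hz)
      have hne : ((⋂ z ∈ t, (N z : Set S)) ∩ V).Nonempty :=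
        ⟨η, Set.mem_iInter₂.mpr fun z hz => hηN z (htU z hz), hηV⟩
      obtain ⟨w, ⟨hwN, hwV⟩, hwU⟩ := hU.inter_open_nonempty _
        ((isOpen_biInter_finset fun z _ => (N z).2).inter V.2) hne
      obtain ⟨z, hz, hwO⟩ := Set.mem_iUnion₂.mp (ht ⟨hwU, hwV⟩)
      exact Set.disjoint_left.mp (hON z (htU z hz)) hwO (Set.mem_iInter₂.mp hwN z hz)
    obtain ⟨ζ, -, hfζ, hζ⟩ := exists_hasChain_of_flat f hηm
    have hc := hζ d hch
    rw [← hfζ] at hc hηU
    exact ((natCast_le_fibreDimAt_iff f ζ).mpr fun O hO =>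
      (hc.of_specializes specializes_rfl hO).mono Set.inter_subset_left).trans (hle ζ hηU)

end Groth.Agent.S1240
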