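import Groth.Statements.S10653
import Groth.Agent.SpRelDim.Basic
import Groth.Agent.S1240
import Groth.Agent.AlgSpLib.QCompact

set_option autoImplicit false
universe u
open CategoryTheory CategoryTheory.Limits AlgebraicGeometry
open AlgSp

set_option backward.isDefEq.respectTransparency false

namespace Groth.Agent.S10653

/-- For a flat morphism f : X ⟶ Y of algebraic spaces over S which is locally of finite type, and an
open subspace j : V ⟶ Y with |V| dense in |Y| such that the base change X ×_Y V ⟶ V has relative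
dimension at most d (at every point some etale chart diagram has top arrow with local fibre
dimension at most d): if either j is quasi-compact or f is locally of finite presentation, then f
has relative dimension at most d at every point of |X|. -/
theorem result {S : Scheme.{u}} {X Y V : AlgSp.Space S} (f : X ⟶ Y) (j : V ⟶ Y) (d : ℕ)
    (hf1 : AlgSp.LocP @Flat f.hom) (hf2 : AlgSp.LocP @LocallyOfFiniteType f.hom)
    (hj1 : AlgSp.RepWith @IsOpenImmersion j.hom) (hj2 : Dense (Set.range (AlgSp.Points.map j.hom)))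
    (P : AlgSp.Space S) (fst : P ⟶ X) (snd : P ⟶ V) (hP : IsPullback fst.hom snd.hom f.hom j.hom)
    (hV : ∀ x, AlgSp.HasAtMor (fun _ _ h u => FlatMor.fibreDimAt h u ≤ (d : WithBot ℕ∞)) snd.hom x)
    (h : AlgSp.LocP @LocallyOfFinitePresentation f.hom ∨ AlgSp.IsQuasiCompactMor j.hom) :
    ∀ x, AlgSp.HasAtMor (fun _ _ h u => FlatMor.fibreDimAt h u ≤ (d : WithBot ℕ∞)) f.hom x := by
  intro x
  obtain ⟨U, W, a, b, k, u, ha, has, hb, comm, hu⟩ := Groth.Agent.SpRelDim.exists_chart_at X.property Y.property f.hom x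
  refine ⟨U, W, a, b, k, u, ha, hb, comm, hu, ?_⟩
  have : Flat k.left := hf1 a b k ha hb comm
  have : LocallyOfFiniteType k.left := hf2 a b k ha hb comm
  obtain ⟨V₀, y, v, sqV, hv⟩ := Groth.Agent.AlgSpLib.exists_repWith hj1 b
  have : IsOpenImmersion v.left := hv
  have hmem : ∀ t : W.left, t ∈ Set.range v.left ↔ AlgSp.Points.ofPt b t ∈ Set.range (AlgSp.Points.map j.hom) := by
    intro t
    constructor
    · rintro ⟨s, rfl⟩
      exact ⟨AlgSp.Points.ofPt y s, by rw [AlgSp.Points.map_ofPt, sqV.w, Groth.Agent.AlgSpLib.ofPt_comp]⟩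
    · rintro ⟨p, hp⟩
      obtain ⟨s, -, hs⟩ := Groth.Agent.AlgSpLib.exists_point_of_isPullback sqV p (AlgSp.Points.ofScheme W t)
        (hp.trans (AlgSp.Points.ofPt_eq_map_ofScheme b t))
      obtain ⟨s, rfl⟩ := (AlgSp.Points.schemeEquiv V₀).surjective s
      refine ⟨s, (AlgSp.Points.schemeEquiv W).injective ?_⟩
      show AlgSp.Points.ofScheme W (v.left s) = AlgSp.Points.ofScheme W t
      rw [← hs, ← Groth.Agent.AlgSpLib.ofScheme_map]
      exact AlgSp.Points.ofPt_eq_map_ofScheme _ _
  refine Groth.Agent.S1240.result k.left v.left.opensRange ?_ d (fun u' hu' => ?_) ?_ u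
  · have e : (v.left.opensRange : Set W.left) = AlgSp.Points.ofPt b ⁻¹' Set.range (AlgSp.Points.map j.hom) := Set.ext hmem
    rw [e]
    exact hj2.preimage (Groth.Agent.AlgSpLib.isOpenMap_ofPt (Groth.Agent.AlgSpLib.repWith_universallyOpen_of_etale hb))
  · obtain ⟨p, hp⟩ := (hmem _).1 hu'
    obtain ⟨q, hq, -⟩ := Groth.Agent.AlgSpLib.exists_point_of_isPullback hP (AlgSp.Points.ofPt a u') p (by
      rw [hp, AlgSp.Points.map_ofPt, comm, Groth.Agent.AlgSpLib.ofPt_comp])
    have h1 := (Groth.Agent.SpRelDim.hasAtMor_fibreDim_baseChange X.property Y.property P.property V.property hP hf2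
      (fun e => e ≤ (d : WithBot ℕ∞)) q).1 (hV q)
    rw [hq] at h1
    exact (Groth.Agent.SpRelDim.hasAtMor_fibreDim_iff X.property Y.property f.hom hf2 (fun e => e ≤ (d : WithBot ℕ∞))
      ha hb comm rfl).1 h1
  · refine h.imp (fun h => h a b k ha hb comm) fun h => ?_
    have : QuasiCompact v.left :=
      ((Groth.Agent.AlgSpLib.isQuasiCompactMor_iff_repWith V.property Y.property hj1.1).1 h).2 b y v sqV
    exact fun K hKc hKo => by
      rw [show (v.left.opensRange : Set W.left) ∩ K = v.left '' (v.left ⁻¹' K) by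
        rw [Set.image_preimage_eq_range_inter]; rfl]
      exact (QuasiCompact.isCompact_preimage (f := v.left) K hKo hKc).image v.left.continuous

end Groth.Agent.S10653
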