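import Groth.Statements.S13831
-- import your own Groth.Agent.* helpers here
import Groth.Agent.WeakNorm.AwnLoc
import Mathlib.AlgebraicGeometry.Morphisms.UniversallyInjective
import Mathlib.FieldTheory.PurelyInseparable.Basic

set_option autoImplicit false
universe u
open AlgebraicGeometry
open ChowMon

namespace Groth.Agent.S13831


open CategoryTheory

/-- A field generated as fractions by a finitely spanned ring has bounded degree. -/
theorem finrank_le_of_frac {R B : Type*} [CommRing R] [CommRing B] [Algebra R B] (s : Finset B)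
    (hs : Submodule.span R (s : Set B) = ⊤) {K L : Type*} [Field K] [Field L] [Algebra K L] (e : B →+* L)
    (hR : ∀ r, e (algebraMap R B r) ∈ (algebraMap K L).range)
    (hfrac : ∀ z : L, ∃ x y, e y ≠ 0 ∧ z * e y = e x) :
    Module.Finite K L ∧ Module.finrank K L ≤ s.card := by
  classical
  let W := Submodule.span K ((s.image e : Finset L) : Set L)
  have he : ∀ b, e b ∈ W := fun b => by
    have hb : b ∈ Submodule.span R (s : Set B) := hs ▸ Submodule.mem_top
    induction hb using Submodule.span_induction with
    | mem x hx => exact Submodule.subset_span (by simpa using ⟨x, hx, rfl⟩)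
    | zero => rw [map_zero]; exact zero_mem _
    | add x y _ _ hx hy => rw [map_add]; exact add_mem hx hy
    | smul r x _ hx =>
      obtain ⟨c, hc⟩ := hR r
      rw [Algebra.smul_def, map_mul, ← hc, ← Algebra.smul_def]
      exact W.smul_mem _ hx
  have hW : W = ⊤ := eq_top_iff.2 fun z _ => by
    obtain ⟨x, y, hy, hz⟩ := hfrac z
    have hstab : ∀ w ∈ W, e y * w ∈ W := fun w hw => by
      induction hw using Submodule.span_induction with
      | mem v hv =>
        obtain ⟨u, -, rfl⟩ := Finset.mem_image.1 hv
        rw [← map_mul]; exact he _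
      | zero => rw [mul_zero]; exact zero_mem _
      | add u v _ _ hu hv => rw [mul_add]; exact add_mem hu hv
      | smul c u _ hu => rw [mul_smul_comm]; exact W.smul_mem _ hu
    let m : W →ₗ[K] W := (LinearMap.mulLeft K (e y)).restrict hstab
    have : FiniteDimensional K W := FiniteDimensional.span_finset K _
    have hm : Function.Injective m := fun u v h =>
      Subtype.ext (mul_left_cancel₀ hy (congrArg Subtype.val h :))
    obtain ⟨w, hw⟩ := LinearMap.surjective_of_injective hm ⟨e x, he x⟩
    have hw' : e y * (w : L) = e x := congrArg Subtype.val hw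
    have : z = w := mul_left_cancel₀ hy (by rw [hw', mul_comm, hz])
    exact this ▸ w.2
  refine ⟨⟨s.image e, hW⟩, ?_⟩
  rw [← finrank_top K L, ← hW]
  exact (finrank_span_finset_le_card _).trans Finset.card_image_le

theorem exists_bound {T' T : Scheme.{u}} (p : T' ⟶ T) [IsFinite p] (V : T.affineOpens) :
    ∃ N : ℕ, ∀ t' : T', p t' ∈ (V : T.Opens) →
      @Module.Finite (T.residueField (p t')) (T'.residueField t') _ _ (p.residueFieldMap t').hom.toAlgebra.toModule ∧
      @Module.finrank (T.residueField (p t')) (T'.residueField t') _ _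
          (p.residueFieldMap t').hom.toAlgebra.toModule ≤ N := by
  algebraize [(p.app (V : T.Opens)).hom]
  have hfin : Module.Finite Γ(T, (V : T.Opens)) Γ(T', p ⁻¹ᵁ (V : T.Opens)) := p.finite_app _ V.2
  obtain ⟨s, hs⟩ := hfin.fg_top
  refine ⟨s.card, fun t' ht' => ?_⟩
  letI := (p.residueFieldMap t').hom.toAlgebra
  refine finrank_le_of_frac s hs (T'.evaluation (p ⁻¹ᵁ (V : T.Opens)) t' ht').hom
    (fun r => ⟨T.evaluation (V : T.Opens) (p t') ht' r, Scheme.evaluation_naturality_apply p t' ht' r⟩) fun z => ?_
  obtain ⟨w, rfl⟩ := T'.residue_surjective t' z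
  letI := TopCat.Presheaf.algebra_section_stalk T'.presheaf (⟨t', ht'⟩ : (p ⁻¹ᵁ (V : T.Opens) : T'.Opens))
  have := (V.2.preimage p).isLocalization_stalk (⟨t', ht'⟩ : (p ⁻¹ᵁ (V : T.Opens) : T'.Opens))
  obtain ⟨⟨x, y⟩, hxy⟩ := IsLocalization.surj ((V.2.preimage p).primeIdealOf ⟨t', ht'⟩).asIdeal.primeCompl w
  refine ⟨x, y, ?_, ?_⟩
  · have hu := IsLocalization.map_units (T'.presheaf.stalk t') y
    exact (hu.map (T'.residue t').hom).ne_zero
  · show (T'.residue t').hom w * (T'.residue t').hom _ = (T'.residue t').hom _
    rw [← map_mul]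
    exact congrArg (T'.residue t').hom hxy

/-- For a finite universal homeomorphism p : T' → T of Noetherian schemes there is an integer d ≥ 1 such
that for every point t' of T' over t the residue field degree [k(t') : k(t)] is a power of the
exponential characteristic of k(t) dividing d. -/
theorem result {T' T : Scheme.{u}} (p : T' ⟶ T) [IsFinite p] (hp : FlatMor.IsUnivHomeo p)
    [IsNoetherian T] [IsNoetherian T'] [T.IsSeparated] [T'.IsSeparated] :
    ∃ d : ℕ, 0 < d ∧ ∀ t' : T', ∃ e : ℕ,
      @Module.finrank (T.residueField (p t')) (T'.residueField t') _ _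
          (p.residueFieldMap t').hom.toAlgebra.toModule =
        ringExpChar (T.residueField (p t')) ^ e ∧
      ringExpChar (T.residueField (p t')) ^ e ∣ d := by
  classical
  obtain ⟨hi, hu, hsj⟩ := (Groth.Agent.WeakNorm.isUnivHomeo_iff p).mp hp
  have hiff : UniversallyInjective p ↔ Function.Injective p ∧ ∀ x, (p.residueFieldMap x).hom.IsPurelyInseparable :=
    (tfae_universallyInjective p).out 0 2
  have hpi := (hiff.mp hu).2
  choose V hV using fun x : T => exists_isAffineOpen_mem_and_subset (x := x) (U := (⊤ : T.Opens)) trivial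
  obtain ⟨F, hF⟩ := isCompact_univ.elim_finite_subcover (fun x : T => (V x : Set T)) (fun x => (V x).2)
    (fun x _ => Set.mem_iUnion.2 ⟨x, (hV x).2.1⟩)
  choose N hN using fun x : T => exists_bound p ⟨V x, (hV x).1⟩
  refine ⟨(F.sup N).factorial, Nat.factorial_pos _, fun t' => ?_⟩
  obtain ⟨x, hx, htx⟩ := Set.mem_iUnion₂.1 (hF (Set.mem_univ (p t')))
  obtain ⟨hfin, hle⟩ := hN x t' htx
  letI := (p.residueFieldMap t').hom.toAlgebra
  have : Module.Finite (T.residueField (p t')) (T'.residueField t') := hfin
  have : IsPurelyInseparable (T.residueField (p t')) (T'.residueField t') := hpi t'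
  obtain ⟨q, hq⟩ := ExpChar.exists (T.residueField (p t'))
  obtain ⟨e, he⟩ := IsPurelyInseparable.finrank_eq_pow (T.residueField (p t')) (T'.residueField t') q
  refine ⟨e, by rw [ringExpChar.eq (T.residueField (p t')) q]; exact he, ?_⟩
  rw [ringExpChar.eq (T.residueField (p t')) q, ← he]
  exact Nat.dvd_factorial Module.finrank_pos (hle.trans (Finset.le_sup hx))

end Groth.Agent.S13831
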