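import Groth.Statements.S7670
import Groth.Agent.InvExt.Push
import Groth.Agent.TMul.AmpleComp
import Groth.Agent.S0235
-- import your own Groth.Agent.* helpers here

set_option autoImplicit false
universe u
open CategoryTheory CategoryTheory.Limits AlgebraicGeometry
open Variety

set_option backward.isDefEq.respectTransparency false

namespace Groth.Agent.S7670

open TopologicalSpace
open Groth.Agent.QC (res resO res_res res_smul section_eq_of_locally)
open TMul (IsGen)

/-- Sections of a product of modules are the families of sections. -/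
lemma bijective_pi {X : Scheme.{u}} {ι : Type} [Finite ι] (F : ι → X.Modules) (O : X.Opens) :
    Function.Bijective fun (s : Γ(∏ᶜ F, O)) i => (Pi.π F i).app O s := by
  let G : X.Modules ⥤ Type u := Scheme.Modules.toPresheaf X ⋙
    (CategoryTheory.evaluation _ _).obj (Opposite.op O) ⋙ forget AddCommGrpCat.{u}
  haveI : PreservesLimits ((CategoryTheory.evaluation (Opens X)ᵒᵖ Ab.{u}).obj (Opposite.op O)) :=
    inferInstance
  haveI : PreservesLimits G :=
    @comp_preservesLimits _ _ _ _ _ _ _ _ inferInstance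
      (@comp_preservesLimits _ _ _ _ _ _ _ _ ‹_› inferInstance)
  haveI : PreservesLimitsOfSize.{0, 0} G := preservesLimitsOfSize_shrink G
  let h := isLimitFanMkObjOfIsLimit G F (Pi.π F) (productIsProduct F)
  refine ⟨fun s t hst => ?_, fun s => ?_⟩
  · exact (Concrete.isLimit_ext _ h s t fun j => congrFun hst j.as)
  · obtain ⟨x, hx⟩ := (Types.isLimit_iff _).1 ⟨h⟩ (fun j => s j.as) (by
      rintro ⟨j⟩ ⟨j'⟩ ⟨⟨e⟩⟩
      obtain rfl : j = j' := e
      simp) |>.exists
    exact ⟨x, funext fun i => hx ⟨i⟩⟩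

/-- Generators near every point of the target of a finite morphism. -/
lemma exists_gen_preimage {X Y : Scheme.{u}} (f : X ⟶ Y) [IsFinite f] {L : X.Modules}
    (hL : PicF.IsInvertible L) (y : Y) :
    ∃ (W : Y.Opens) (e : Γ(L, f ⁻¹ᵁ W)), y ∈ W ∧ IsGen e := by
  obtain ⟨W, hyW, ⟨i⟩⟩ := Groth.Agent.S0235.result f L hL y
  have h1 := (TMul.isIso_restrict_iff i.inv ⊤).1 inferInstance
  have h2 := (TMul.isGen_restrict_iff (f ⁻¹ᵁ W).ι i.inv ⊤).1 h1
  exact ⟨W, _, hyW, h2.res (fun x hx => ⟨⟨x, hx⟩, trivial, rfl⟩ : f ⁻¹ᵁ W ≤ (f ⁻¹ᵁ W).ι ''ᵁ ⊤)⟩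

/-- Functions on opens inside an open over which the morphism is an isomorphism. -/
lemma bijective_app {X Y : Scheme.{u}} (f : X ⟶ Y) {V : Y.Opens} [IsIso (f ∣_ V)] (O : Y.Opens)
    (hO : O ≤ V) : Function.Bijective (f.app O) := by
  haveI : IsIso (f.app O) := by
    obtain ⟨O', rfl⟩ : ∃ O', V.ι ''ᵁ O' = O := ⟨V.ι ⁻¹ᵁ O, by
      rw [Scheme.Hom.image_preimage_eq_opensRange_inf, V.opensRange_ι, inf_eq_right.mpr hO]⟩
    have h3 : IsIso ((f ∣_ V).app O') := inferInstance
    rw [morphismRestrict_app] at h3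
    exact IsIso.of_isIso_comp_right (f.app (V.ι ''ᵁ O'))
      (X.presheaf.map (eqToHom (image_morphismRestrict_preimage f V O')).op)
  exact ConcreteCategory.bijective_of_isIso _

/-- Two generators differ by a unit. -/
lemma exists_isUnit_smul {X : Scheme.{u}} {N : X.Modules} {U : X.Opens} {a b : Γ(N, U)}
    (ha : IsGen a) (hb : IsGen b) : ∃ k : Γ(X, U), IsUnit k ∧ k • a = b := by
  obtain ⟨k, hk⟩ := (ha U le_rfl).2 b
  obtain ⟨k', hk'⟩ := (hb U le_rfl).2 a
  simp only [Groth.Agent.QC.res_self] at hk hk'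
  have h : k' * k = 1 := (ha U le_rfl).1 (by
    simp only [Groth.Agent.QC.res_self]
    rw [mul_smul, hk, hk', one_smul])
  exact ⟨k, IsUnit.of_mul_eq_one_right k' h, hk⟩

/-- Let X be a reduced scheme and Z_1, …, Z_n ⊆ X closed subschemes with X = ⋃ Z_i set-theoretically and
Z_i ∩ Z_j discrete for i ≠ j, and let L_i be an invertible module on Z_i. Then there is an
invertible module L on X whose restriction to each Z_i is isomorphic to L_i. (The published
statement also gives, for sections s_i of L_i that do not vanish at the points of Z_i ∩ Z_j, a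
choice of L with a global section restricting to each s_i; this row states only the existence of L.) -/
theorem result (X : Scheme.{u}) [IsReduced X]
    (n : ℕ) (Z : Fin n → X.IdealSheafData)
    (hcov : ⋃ i, ((Z i).support : Set X) = Set.univ)
    (hdisc : ∀ i j, i ≠ j → DiscreteTopology ↥(((Z i).support : Set X) ∩ ((Z j).support : Set X)))
    (L : ∀ i, (Z i).subscheme.Modules) (hL : ∀ i, PicF.IsInvertible (L i)) :
    ∃ M : X.Modules, PicF.IsInvertible M ∧
      ∀ i, Nonempty ((Scheme.Modules.pullback (Z i).subschemeι).obj M ≅ L i) := by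
  classical
  let ι : ∀ i, (Z i).subscheme ⟶ X := fun i => (Z i).subschemeι
  haveI : ∀ i, IsFinite (ι i) := fun i => inferInstanceAs (IsFinite (Z i).subschemeι)
  have hrange : ∀ i (x : (Z i).subscheme), ι i x ∈ ((Z i).support : Set X) := fun i x => by
    rw [← Scheme.IdealSheafData.range_subschemeι]; exact Set.mem_range_self _
  -- the open of points lying on the `i`-th piece alone, and their union
  let P : Fin n → X.Opens := fun i => ⟨⋂ j : Fin n, ⋂ (_ : j ≠ i), ((Z j).support : Set X)ᶜ,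
    isOpen_iInter_of_finite fun j => isOpen_iInter_of_finite fun _ => (Z j).support.isClosed.isOpen_compl⟩
  let V : X.Opens := ⨆ i, P i
  have hPmem : ∀ {i} {x : X}, x ∈ P i ↔ ∀ j, j ≠ i → x ∉ ((Z j).support : Set X) := fun {i x} => by
    change x ∈ (⋂ j : Fin n, ⋂ (_ : j ≠ i), ((Z j).support : Set X)ᶜ) ↔ _
    simp
  have hPsupp : ∀ {i} {x : X}, x ∈ P i → x ∈ ((Z i).support : Set X) := fun {i x} hx => by
    obtain ⟨j, hj⟩ := Set.mem_iUnion.1 (hcov.symm ▸ Set.mem_univ x : x ∈ ⋃ i, ((Z i).support : Set X))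
    by_cases h : j = i
    · exact h ▸ hj
    · exact absurd hj (hPmem.1 hx j h)
  haveI : ∀ i, IsIso (ι i ∣_ P i) := fun i => by
    haveI : Surjective (ι i ∣_ P i) := ⟨fun y => by
      obtain ⟨x, hx⟩ : y.1 ∈ Set.range (ι i) := by
        rw [Scheme.IdealSheafData.range_subschemeι]; exact hPsupp y.2
      exact ⟨⟨x, show ι i x ∈ P i by rw [hx]; exact y.2⟩, Subtype.ext (by
        rw [morphismRestrict_base]; exact hx)⟩⟩
    exact isIso_of_isClosedImmersion_of_surjective _
  let Fi : Fin n → X.Modules := fun i => (Scheme.Modules.pushforward (ι i)).obj (L i)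
  let F : X.Modules := ∏ᶜ Fi
  have hFgen : ∀ {O : X.Opens} (i : Fin n) (s : Γ(F, O)), O ≤ P i →
      IsGen (N := L i) (U := ι i ⁻¹ᵁ O) ((Pi.π Fi i).app O s) → IsGen s := by
    intro O i s hO hs Q hQ
    have hbij : Function.Bijective fun t : Γ(F, Q) => ((Pi.π Fi i).app Q t : Γ(L i, ι i ⁻¹ᵁ Q)) := by
      refine ⟨fun a b hab => (bijective_pi Fi Q).1 (funext fun j => ?_), fun a => ?_⟩
      · by_cases hj : j = i
        · exact hj ▸ hab
        · exact section_eq_of_locally (M := L j) (U := ι j ⁻¹ᵁ Q) fun x hx =>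
            absurd (hrange j x) (hPmem.1 (hO (hQ hx)) j hj)
      · let fam : ∀ j, Γ(Fi j, Q) := Function.update (fun j => (0 : Γ(Fi j, Q))) i a
        obtain ⟨t, ht⟩ := (bijective_pi Fi Q).2 fam
        exact ⟨t, (congrFun ht i).trans (Function.update_self (β := fun j => Γ(Fi j, Q)) i a _)⟩
    refine (Function.Bijective.of_comp_iff' hbij _).1 ?_
    have e : (fun t : Γ(F, Q) => ((Pi.π Fi i).app Q t : Γ(L i, ι i ⁻¹ᵁ Q))) ∘
        (fun r : Γ(X, Q) => r • res F hQ s) = (fun r : Γ((Z i).subscheme, ι i ⁻¹ᵁ Q) =>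
          r • res (L i) ((ι i).preimage_mono hQ) ((Pi.π Fi i).app O s)) ∘ (ι i).app Q := by
      funext r
      change (Pi.π Fi i).app Q (r • res F hQ s) = _
      rw [Scheme.Modules.Hom.app_smul, ← Groth.Agent.QC.app_res]
      rfl
    rw [e]
    exact (hs _ ((ι i).preimage_mono hQ)).comp (bijective_app (ι i) Q (hQ.trans hO))
  -- generators near every point
  choose W₀ e₀ hW₀ he₀ using fun (i : Fin n) (y : X) => exists_gen_preimage (ι i) (hL i) y
  have hnbhd : ∀ y : X, ∃ (W : X.Opens) (t : Γ(F, W)), y ∈ W ∧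
      ∀ i, IsGen (N := L i) (U := ι i ⁻¹ᵁ W) ((Pi.π Fi i).app W t) := fun y => by
    let W : X.Opens := ⟨⋂ i, (W₀ i y : Set X), isOpen_iInter_of_finite fun i => (W₀ i y).2⟩
    have hle : ∀ i, W ≤ W₀ i y := fun i x hx => Set.mem_iInter.1 hx i
    obtain ⟨t, ht⟩ := (bijective_pi Fi W).2 fun i => res (L i) ((ι i).preimage_mono (hle i)) (e₀ i y)
    exact ⟨W, t, Set.mem_iInter.2 fun i => hW₀ i y, fun i => by
      have h : (Pi.π Fi i).app W t = _ := congrFun ht i
      rw [h]; exact (he₀ i y).res _⟩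
  -- neighbourhoods isolating the points on two pieces
  have hN : ∀ z : {y : X // y ∉ V}, ∃ (W : X.Opens) (t : Γ(F, W)), z.1 ∈ W ∧
      (∀ y ∈ W, y ∉ V → y = z.1) ∧
      ∀ i, IsGen (N := L i) (U := ι i ⁻¹ᵁ W) ((Pi.π Fi i).app W t) := fun z => by
    have hD : ∀ i j : Fin n, ∃ O : X.Opens, z.1 ∈ O ∧ (i ≠ j → ∀ y ∈ O,
        y ∈ ((Z i).support : Set X) ∩ ((Z j).support : Set X) → y = z.1) := fun i j => by
      by_cases hij : i = j
      · exact ⟨⊤, trivial, fun h => absurd hij h⟩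
      by_cases hz : z.1 ∈ ((Z i).support : Set X) ∩ ((Z j).support : Set X)
      · haveI := hdisc i j hij
        obtain ⟨O, hO, hOz⟩ := isOpen_induced_iff.1 (isOpen_discrete
          ({⟨z.1, hz⟩} : Set ↥(((Z i).support : Set X) ∩ ((Z j).support : Set X))))
        exact ⟨⟨O, hO⟩, (Set.ext_iff.1 hOz ⟨z.1, hz⟩).2 rfl, fun _ y hy hy' =>
          congrArg Subtype.val ((Set.ext_iff.1 hOz ⟨y, hy'⟩).1 hy)⟩
      · exact ⟨⟨(((Z i).support : Set X) ∩ ((Z j).support : Set X))ᶜ,
          ((Z i).support.isClosed.inter (Z j).support.isClosed).isOpen_compl⟩, hz,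
          fun _ y hy hy' => absurd hy' hy⟩
    choose O hzO hO using hD
    obtain ⟨W, t, hzW, ht⟩ := hnbhd z.1
    let W' : X.Opens := W ⊓ ⟨⋂ i, ⋂ j, (O i j : Set X),
      isOpen_iInter_of_finite fun i => isOpen_iInter_of_finite fun j => (O i j).2⟩
    refine ⟨W', res F inf_le_left t, ⟨hzW, Set.mem_iInter₂.2 hzO⟩, fun y hy hyV => ?_, fun i => ?_⟩
    · obtain ⟨i, hi⟩ := Set.mem_iUnion.1 (hcov.symm ▸ Set.mem_univ y : y ∈ ⋃ i, ((Z i).support : Set X))
      obtain ⟨j, hji, hj⟩ : ∃ j, j ≠ i ∧ y ∈ ((Z j).support : Set X) := by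
        by_contra hc
        push Not at hc
        exact hyV (Opens.mem_iSup.2 ⟨i, hPmem.2 hc⟩)
      exact hO i j (Ne.symm hji) y (Set.mem_iInter₂.1 hy.2 i j) ⟨hi, hj⟩
    · rw [← Groth.Agent.QC.app_res]
      exact (ht i).res _
  choose W g hzW hone hg using hN
  obtain ⟨M, π, hM, hπW, hπV⟩ := Groth.Agent.InvExt.exists_hom_push (V := V) (F := F) g
    (fun z => Groth.Agent.UfdExtend.isGen_of_locally fun y hy => by
      obtain ⟨i, hi⟩ := Opens.mem_iSup.1 hy.2
      refine ⟨W z ⊓ V ⊓ P i, inf_le_left, ⟨hy, hi⟩, ?_⟩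
      rw [res_res]
      refine hFgen i _ inf_le_right ?_
      rw [← Groth.Agent.QC.app_res]
      exact (hg z i).res _)
    (fun z z' hne y hy => by
      by_contra hyU
      exact hne (Subtype.ext ((hone z y hy.1 hyU).symm.trans (hone z' y hy.2 hyU))))
    (fun y hy => by
      obtain ⟨i, hi⟩ := Opens.mem_iSup.1 hy
      obtain ⟨O, t, hyO, ht⟩ := hnbhd y
      refine ⟨O ⊓ P i, res F inf_le_left t, ⟨hyO, hi⟩, inf_le_right.trans (le_iSup P i),
        hFgen i _ inf_le_right ?_⟩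
      rw [← Groth.Agent.QC.app_res]
      exact (ht i).res _)
    fun y hy => ⟨⟨y, hy⟩, hzW _⟩
  refine ⟨M, hM, fun i => ?_⟩
  let adj := Scheme.Modules.pullbackPushforwardAdjunction (ι i)
  let ψ : (Scheme.Modules.pullback (ι i)).obj M ⟶ L i := (adj.homEquiv M (L i)).symm (π ≫ Pi.π Fi i)
  have hψ : ∀ (O : X.Opens) (s : Γ(M, O)),
      ψ.app (ι i ⁻¹ᵁ O) ((adj.unit.app M).app O s) = (Pi.π Fi i).app O (π.app O s) := fun O s => by
    have h : adj.homEquiv M (L i) ψ = π ≫ Pi.π Fi i := Equiv.apply_symm_apply _ _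
    rw [Adjunction.homEquiv_unit] at h
    exact congrArg (fun q : M ⟶ Fi i => q.app O s) h
  haveI : IsIso ψ := Groth.Agent.InvExt.isIso_of_hits_gen (PicLoc.isInvertible_pullback (ι i) hM) ψ
    fun x => by
    by_cases hx : ι i x ∈ V
    · obtain ⟨k, hk⟩ := Opens.mem_iSup.1 hx
      obtain rfl : i = k := by
        by_contra h
        exact hPmem.1 hk i h (hrange i x)
      obtain ⟨O, e, hxO, hOV, he⟩ := hπV (ι i x) hx
      obtain ⟨A, t, hxA, ht⟩ := hnbhd (ι i x)
      let O' := O ⊓ A ⊓ P i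
      have hO₁ : O' ≤ O := inf_le_left.trans inf_le_left
      have hO₂ : O' ≤ A := inf_le_left.trans inf_le_right
      refine ⟨ι i ⁻¹ᵁ O', (adj.unit.app M).app O' (res M hO₁ e), ⟨⟨hxO, hxA⟩, hk⟩, ?_⟩
      rw [hψ, ← Groth.Agent.QC.app_res]
      have ht' : IsGen (N := L i) (U := ι i ⁻¹ᵁ O') ((Pi.π Fi i).app O' (res F hO₂ t)) := by
        rw [← Groth.Agent.QC.app_res]
        exact (ht i).res _
      obtain ⟨c, hc, hce⟩ := exists_isUnit_smul (hFgen i _ inf_le_right ht') (he.res hO₁)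
      rw [← hce, Scheme.Modules.Hom.app_smul]
      exact Groth.Agent.UfdExtend.isGen_unit_smul ht' (hc.map ((ι i).app O').hom)
    · obtain ⟨e, he⟩ := hπW ⟨ι i x, hx⟩
      refine ⟨ι i ⁻¹ᵁ W ⟨ι i x, hx⟩, (adj.unit.app M).app _ e, hzW ⟨ι i x, hx⟩, ?_⟩
      rw [hψ, he]
      exact hg _ i
  exact ⟨asIso ψ⟩

end Groth.Agent.S7670
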