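import Groth.Statements.S6891
import Groth.Agent.FittLib.BaseChange

set_option autoImplicit false
universe u
open Fitt

namespace Groth.Agent.S6891

/-- Let `M` be a finite `R`-module. Then `Fit_0(M) ⊆ Ann_R(M)`, the closed set `V(Fit_0(M))` equals
`Supp(M)`, and for an ideal `I` one has `Fit_0(R/I) = I`. -/
theorem result {R : Type u} [CommRing R] (M : Type u) [AddCommGroup M]
    [Module R M] [Module.Finite R M] (I : Ideal R) :
    Fitt.ideal R M 0 ≤ Module.annihilator R M ∧
    PrimeSpectrum.zeroLocus (Fitt.ideal R M 0 : Set R) = Module.support R M ∧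
    Fitt.ideal R (R ⧸ I) 0 = I := by
  classical
  obtain ⟨n, x, hx⟩ := FittLib.exists_generators R M
  have hle : Fitt.ideal R M 0 ≤ Module.annihilator R M := by
    rw [FittLib.ideal_eq_minors_fin x hx, Nat.sub_zero]
    refine FittLib.minors_le fun z e hz => ?_
    by_cases he : Function.Injective e
    swap
    · rw [FittLib.minor_eq_zero_of_not_injective z e he]; exact zero_mem _
    have hsurj := Finite.injective_iff_surjective.mp he
    rw [Module.mem_annihilator]
    intro m
    induction (show m ∈ Submodule.span R (Set.range x) by rw [hx]; trivial)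
      using Submodule.span_induction with
    | mem y hy =>
      obtain ⟨i, rfl⟩ := hy
      obtain ⟨a, rfl⟩ := hsurj i
      obtain ⟨c, -, hc, heq⟩ := FittLib.exists_minor_smul_eq hz e a
      rw [heq]
      exact Finset.sum_eq_zero fun i _ => by rw [hc i (hsurj i), zero_smul]
    | zero => simp
    | add a b _ _ ha hb => rw [smul_add, ha, hb, add_zero]
    | smul r a _ ha => rw [smul_comm, ha, smul_zero]
  refine ⟨hle, ?_, ?_⟩
  · rw [Module.support_eq_zeroLocus]
    refine Set.Subset.antisymm (fun p hp => ?_) (PrimeSpectrum.zeroLocus_anti_mono hle)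
    rw [PrimeSpectrum.mem_zeroLocus, SetLike.coe_subset_coe] at hp ⊢
    intro a ha
    refine p.isPrime.mem_of_pow_mem n (hp ?_)
    rw [FittLib.ideal_eq_minors_fin x hx, Nat.sub_zero]
    have hz : ∀ j : Fin n, (Pi.single j a : Fin n → R) ∈ FittLib.rel R x := fun j => by
      rw [FittLib.mem_rel, Finset.sum_eq_single j (fun i _ hi => by simp [hi]) (by simp)]
      simpa using Module.mem_annihilator.mp ha (x j)
    convert FittLib.minor_mem_minors hz id using 1
    rw [FittLib.minor, show (Matrix.of fun p q => (Pi.single q a : Fin n → R) (id p)) =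
      Matrix.diagonal (fun _ => a) from ?_, Matrix.det_diagonal]
    · simp
    · ext p q
      by_cases h : p = q <;> simp [h]
  · let y : Fin 1 → R ⧸ I := fun _ => 1
    have hy : Submodule.span R (Set.range y) = ⊤ := by
      rw [eq_top_iff]
      rintro t -
      obtain ⟨r, rfl⟩ := Ideal.Quotient.mk_surjective t
      have : Ideal.Quotient.mk I r = r • y 0 := by simp [y, Algebra.smul_def]
      rw [this]
      exact Submodule.smul_mem _ _ (Submodule.subset_span ⟨0, rfl⟩)
    rw [FittLib.ideal_eq_minors_fin y hy]
    apply le_antisymm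
    · refine FittLib.minors_le fun z e hz => ?_
      have := FittLib.mem_rel.mp (hz 0)
      simp [y, Algebra.smul_def, Ideal.Quotient.eq_zero_iff_mem] at this
      simpa [FittLib.minor, Subsingleton.elim (e 0) 0] using this
    · intro a ha
      have hz : ∀ j : Fin 1, (fun _ => a) ∈ FittLib.rel R y := fun j => by
        simp [FittLib.mem_rel, y, Algebra.smul_def, Ideal.Quotient.eq_zero_iff_mem, ha]
      simpa [FittLib.minor] using FittLib.minor_mem_minors hz id

end Groth.Agent.S6891
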