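import Groth.Statements.S6285
import Groth.Agent.S6891
import Groth.Agent.Fitting.Local
import Mathlib.RingTheory.Spectrum.Prime.Topology

set_option autoImplicit false
universe u
open CAlg

namespace Groth.Agent.S6285

/-- For a ring R and an R-module M of finite presentation, the support Supp(M) is closed in Spec(R), and
its complement in Spec(R) is quasi-compact. -/
theorem result (R : Type u) [CommRing R] (M : Type u) [AddCommGroup M] [Module R M] [Module.FinitePresentation R M] : IsClosed (Module.support R M) ∧ IsCompact (Module.support R M)ᶜ := by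
  have h := (Groth.Agent.S6891.result (R := R) M ⊥).2.1
  rw [← h]
  refine ⟨PrimeSpectrum.isClosed_zeroLocus _, ?_⟩
  obtain ⟨t, ht⟩ := Groth.Agent.Fitting.fg_ideal (R := R) (M := M) 0
  refine ((PrimeSpectrum.isCompact_isOpen_iff).2 ⟨t, ?_⟩).1
  rw [← PrimeSpectrum.zeroLocus_span, show Ideal.span (t : Set R) = Fitt.ideal R M 0 from ht]

end Groth.Agent.S6285
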