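import Groth.Statements.S12794
import Groth.Agent.S6409
import Groth.Agent.FibCatRep.Cart
import Groth.Agent.StkBasic.Transport

set_option autoImplicit false
set_option linter.style.haveILetI false
set_option backward.isDefEq.respectTransparency false
open CategoryTheory.Limits FibCat Groth.Agent.FibCatRep

open CategoryTheory
universe w v u
open Stk

namespace Groth.Agent.S12794

/-- Let `𝒳`, `𝒴` be stacks in groupoids over `C` for the topology `J` and `F : 𝒳 ⟶ 𝒴` a functor over `C`
whose underlying functor is fully faithful. Then `F` is an equivalence over `C` if and only if every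
object `y` of `𝒴` is locally in the essential image: there is a covering sieve `R` of the object
under `y` such that for every arrow `f` of `R` some object `x` of `𝒳` has a morphism `F x ⟶ y` lying
over `f` (equivalently, the pullback of `y` along `f` is isomorphic in its fibre to an object in the
image of `F`). (The published statement is for stacks over the site, not necessarily in groupoids,
and 1-morphisms of stacks; this row treats stacks in groupoids.) -/
theorem result {C : Type u} [Category.{v} C] (J : GrothendieckTopology C) {𝒳 𝒴 : BasedCategory.{v, max u v} C}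
    (h𝒳 : Stk.IsStack J 𝒳) (h𝒴 : Stk.IsStack J 𝒴) (F : 𝒳 ⥤ᵇ 𝒴) [F.toFunctor.Full] [F.toFunctor.Faithful] :
    FibCat.IsEquivOver F ↔
      ∀ y : 𝒴.obj, ∃ R ∈ J (𝒴.p.obj y), ∀ ⦃V : C⦄ (f : V ⟶ 𝒴.p.obj y), R f →
        ∃ (x : 𝒳.obj) (φ : F.obj x ⟶ y), 𝒴.p.IsHomLift f φ := by
  constructor
  · intro hF y
    obtain ⟨-, hdata⟩ := isEquivOver_data hF
    obtain ⟨ξ, e, hξ, he⟩ := hdata y
    refine ⟨⊤, J.top_mem _, fun V f _ => ?_⟩
    obtain ⟨x, μ, hx, hμ⟩ := exists_lift h𝒳.1 (x := ξ) (f ≫ eqToHom (hξ.symm.trans (F.w_obj ξ)))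
    exact ⟨x, F.map μ ≫ e.hom, IsHomLift.of_fac' 𝒴.p _ _ ((F.w_obj x).trans hx) rfl
      (by simp [map_map, hμ, he])⟩
  · intro hloc
    refine isEquivOver_of_fullyFaithful F fun η => ?_
    obtain ⟨R, hR, hRφ⟩ := hloc η
    let U := 𝒴.p.obj η
    haveI := Groth.Agent.S6409.result h𝒴.1 U
    let pt : 𝒴.p.Fiber U := ⟨η, rfl⟩
    let a := (FibCat.evalAtId 𝒴 U).objPreimage pt
    let εf := (FibCat.evalAtId 𝒴 U).objObjPreimageIso pt
    let t : Over U := Over.mk (𝟙 U)
    let ε : a.obj t ≅ η := CategoryTheory.Functor.Fiber.fiberInclusion.mapIso εf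
    have hε : 𝒴.p.map ε.hom = eqToHom ((a.w_obj t).trans rfl) := map_of_fiber εf.hom
    let mz : ∀ z : Over U, z ⟶ t := fun z => Over.homMk z.hom (Category.comp_id _)
    have hθ : ∀ w : (Stk.sieveCat R).obj, ∃ (x : 𝒳.obj) (θ : F.obj x ≅ a.obj w.obj)
        (hx : 𝒴.p.obj (F.obj x) = 𝒴.p.obj (a.obj w.obj)), 𝒴.p.map θ.hom = eqToHom hx := by
      intro w
      obtain ⟨x, φ, hφ⟩ := hRφ w.obj.hom w.property
      haveI := hφ
      have hd : 𝒴.p.obj (F.obj x) = w.obj.left := IsHomLift.domain_eq 𝒴.p w.obj.hom φ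
      have hφm : 𝒴.p.map φ = eqToHom hd ≫ w.obj.hom :=
        (IsHomLift.fac' 𝒴.p w.obj.hom φ).trans (by simp)
      have hw : (𝒴.p.obj (F.obj x)) = 𝒴.p.obj (a.obj w.obj) := hd.trans (a.w_obj w.obj).symm
      have hεi : 𝒴.p.map ε.inv = eqToHom (a.w_obj t).symm := by
        rw [← IsIso.Iso.inv_hom ε]; exact map_inv_of_eqToHom _ hε
      obtain ⟨θ, ⟨hθm, -⟩, -⟩ := existsUnique_cart h𝒴.1 (a.map (mz w.obj)) (φ ≫ ε.inv) (eqToHom hw)
        (by
          simp only [map_map, Functor.map_comp, hφm, hεi]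
          change eqToHom hw ≫ eqToHom _ ≫ w.obj.hom ≫ eqToHom _ = _
          simp)
      haveI : IsIso (𝒴.p.map θ) := by rw [hθm]; infer_instance
      haveI := isIso_of_map h𝒴.1 θ
      exact ⟨x, asIso θ, hw, hθm⟩
    choose x θ hx hθ using hθ
    have hθi : ∀ w, 𝒴.p.map (θ w).inv = eqToHom (hx w).symm := fun w => by
      rw [← IsIso.Iso.inv_hom (θ w)]; exact map_inv_of_eqToHom _ (hθ w)
    let b : Stk.sieveCat R ⥤ᵇ 𝒳 :=
      { toFunctor :=
          { obj := x
            map := fun {w w'} m => F.toFunctor.preimage ((θ w).hom ≫ a.map m.hom ≫ (θ w').inv)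
            map_id := fun w => F.toFunctor.map_injective (by
              rw [Functor.map_preimage, show (𝟙 w : w ⟶ w).hom = 𝟙 w.obj from rfl,
                CategoryTheory.Functor.map_id, CategoryTheory.Functor.map_id, Category.id_comp, Iso.hom_inv_id])
            map_comp := fun {w w' w''} m m' => F.toFunctor.map_injective (by
              rw [Functor.map_comp, Functor.map_preimage, Functor.map_preimage, Functor.map_preimage,
                show (m ≫ m').hom = m.hom ≫ m'.hom from rfl, Functor.map_comp]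
              simp) }
        w := CategoryTheory.Functor.ext (fun w => (F.w_obj (x w)).symm.trans ((hx w).trans (a.w_obj w.obj)))
          (fun w w' m => by
            have h1 := map_map F (F.toFunctor.preimage ((θ w).hom ≫ a.map m.hom ≫ (θ w').inv))
            rw [Functor.map_preimage, Functor.map_comp, Functor.map_comp, hθ, hθi, map_map] at h1
            show 𝒳.p.map (F.toFunctor.preimage ((θ w).hom ≫ a.map m.hom ≫ (θ w').inv)) = _
            rw [← cancel_epi (eqToHom (F.w_obj (x w))), ← cancel_mono (eqToHom (F.w_obj (x w')).symm)]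
            simp only [Category.assoc] at h1 ⊢
            rw [← h1]
            simp
            rfl) }
    haveI : (Stk.resSieve R 𝒳).IsEquivalence := h𝒳.2 R hR
    haveI : (Stk.resSieve R 𝒴).IsEquivalence := h𝒴.2 R hR
    let c := (Stk.resSieve R 𝒳).objPreimage b
    let ec := (Stk.resSieve R 𝒳).objObjPreimageIso b
    let d₁ : BasedFunctor.comp b F ≅ (Stk.resSieve R 𝒴).obj a :=
      BasedNatIso.mkNatIso (NatIso.ofComponents θ (fun {w w'} m => by
        change F.map (F.toFunctor.preimage _) ≫ _ = _ ≫ a.map m.hom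
        rw [Functor.map_preimage]
        simp))
        (fun w => IsHomLift.of_fac' 𝒴.p _ _ ((hx w).trans (a.w_obj w.obj)) (a.w_obj w.obj)
          ((hθ w).trans (by simp)))
    let d : (Stk.resSieve R 𝒴).obj (BasedFunctor.comp c F) ≅ (Stk.resSieve R 𝒴).obj a :=
      (Groth.Agent.StkBasic.post (Stk.sieveCat R) F).mapIso ec ≪≫ d₁
    let e := (Stk.resSieve R 𝒴).preimageIso d
    let et : F.obj (c.obj t) ≅ a.obj t := ((BasedNatTrans.forgetful _ _).mapIso e).app t
    have het : 𝒴.p.map et.hom = eqToHom _ := map_app e.hom t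
    refine ⟨c.obj t, et ≪≫ ε, ((F.w_obj _).trans (c.w_obj t)).trans rfl, ?_⟩
    rw [Iso.trans_hom, Functor.map_comp, het, hε]
    exact eqToHom_trans _ _

end Groth.Agent.S12794
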