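import Groth.Statements.S8401
import Groth.Agent.Chev.CentralMT
import Groth.Agent.Chev.CentCover
import Groth.Agent.Chev.MaxTori
import Groth.Agent.Chev.GeomPtIso
import Groth.Agent.PtsDense.Basic
import Groth.Agent.MTSub.Basic
import Groth.Agent.S8398
-- import your own Groth.Agent.* helpers here

set_option autoImplicit false
set_option backward.isDefEq.respectTransparency false
universe u
open CategoryTheory MonoidalCategory CartesianMonoidalCategory MonObj GrpObj AlgebraicGeometry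
open SGA3x

open CategoryTheory.Limits
open Groth.Agent.MTBridge (toBC toBC_mul toBC_comp toBC_inj toBC_naturality exists_toBC')
open Groth.Agent.Chev Groth.Agent.Chev.Borel Groth.Agent.Chev.BorelFixed
open Groth.Agent.SubGen (rpt exists_rpt map_rpt)

namespace Groth.Agent.S8401

variable {k : Type u} [Field k]

theorem free_of_isField {A B : Type u} [CommRing A] [CommRing B] (φ : A →+* B) (hF : IsField A) :
    @Module.Free A B _ _ φ.toAlgebra.toModule := by
  letI := φ.toAlgebra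
  let F : Field A := hF.toField
  exact @Module.Free.of_divisionRing A B F.toDivisionRing _ _

theorem isLocFree_of_field {X : Scheme.{u}} (p : X ⟶ Spec (CommRingCat.of k)) :
    Groth.Agent.ClosedRep.IsLocFree p := fun s => by
  refine ⟨⟨⊤, isAffineOpen_top _⟩, ULift.{u} PUnit ⊕ X, Sum.elim (fun _ => ⟨⊥, isAffineOpen_bot _⟩)
    (fun x => ⟨_, (exists_isAffineOpen_mem_and_subset (x := x) (U := ⊤) trivial).choose_spec.1⟩),
    fun i => le_top, trivial, fun x _ => ⟨Sum.inr x,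
      (exists_isAffineOpen_mem_and_subset (x := x) (U := ⊤) trivial).choose_spec.2.1⟩, fun i => ?_⟩
  have hF : IsField Γ(Spec (CommRingCat.of k), ⊤) :=
    (Scheme.ΓSpecIso (CommRingCat.of k)).commRingCatIsoToRingEquiv.toMulEquiv.isField (Field.toIsField k)
  exact free_of_isField _ hF

theorem conjBy_eq_of_central {G T : Over (Spec (CommRingCat.of k))} [GrpObj G] (iT : T ⟶ G)
    {X : Over (Spec (CommRingCat.of k))} (g : X ⟶ G) (h y : 𝟙_ (Over (Spec (CommRingCat.of k))) ⟶ G) (t : X ⟶ T)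
    (ht : t ≫ AGF.conjBy h iT = g) (hy : (toUnit X ≫ y) * (t ≫ iT) = (t ≫ iT) * (toUnit X ≫ y)) :
    (toUnit X ≫ (h * y * h⁻¹)) * g = g * (toUnit X ≫ (h * y * h⁻¹)) := by
  rw [← ht, AGF.conjBy]
  simp only [MonObj.comp_mul, GrpObj.comp_inv, comp_toUnit_assoc]
  exact Commute.conj_iff (toUnit X ≫ h) |>.2 hy

/-- A point of a smooth group commuting with a dense set of rational points is central. -/
theorem central_of_dense [IsAlgClosed k] {G X : Over (Spec (CommRingCat.of k))} [GrpObj G] [Smooth G.hom]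
    [IsAffine G.left] (g : X ⟶ G) (D : Set (RP G)) (hD : Dense (rpt '' D))
    (h : ∀ d ∈ D, (toUnit X ≫ d) * g = g * (toUnit X ≫ d))
    (X' : Over (Spec (CommRingCat.of k))) (x : X' ⟶ X) (y : X' ⟶ G) : (x ≫ g) * y = y * (x ≫ g) := by
  haveI : IsAffineHom G.hom := isAffineHom_of_isAffine _
  haveI : IsClosedImmersion η[G].left :=
    isClosedImmersion_of_comp_eq_id (Y := Spec (CommRingCat.of k)) G.hom η[G].left (by simp)
  haveI : IsReduced G.left := SmoothRed.isReduced_of_smooth_scheme G.hom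
  let c : X ⊗ G ⟶ G := ((fst X G ≫ g) * snd X G) * ((snd X G) * (fst X G ≫ g))⁻¹
  obtain ⟨Z, z, hz, hZ⟩ := PtsDense.exists_closed_factLocus c η[G] (isLocFree_of_field X.hom)
  haveI := hz
  haveI : Surjective z.left := by
    refine ⟨Set.range_eq_univ.mp (Set.eq_univ_of_univ_subset ?_)⟩
    rw [← hD.closure_eq]
    refine closure_minimal ?_ (Scheme.Hom.isClosedEmbedding z.left).isClosed_range
    rintro _ ⟨d, hd, rfl⟩
    obtain ⟨w, hw⟩ := (hZ _ d).2 ⟨toUnit _, by
      have h1 : (fst X (𝟙_ (Over (Spec (CommRingCat.of k)))) ≫ g) * (snd X (𝟙_ _) ≫ d) =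
          (snd X (𝟙_ _) ≫ d) * (fst X (𝟙_ _) ≫ g) := by
        have e := congrArg (fun q => fst X (𝟙_ (Over (Spec (CommRingCat.of k)))) ≫ q) (h d hd)
        simp only [MonObj.comp_mul, comp_toUnit_assoc] at e
        rw [toUnit_unique (snd X (𝟙_ _)) (toUnit _)]
        exact e.symm
      simp only [c, MonObj.comp_mul, GrpObj.comp_inv, whiskerLeft_fst_assoc, whiskerLeft_snd, h1, mul_inv_cancel,
        Hom.one_def]⟩
    rw [← hw]
    exact ⟨rpt w, map_rpt _ _⟩
  haveI : IsIso z.left := isIso_of_isClosedImmersion_of_surjective z.left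
  haveI : IsIso ((Over.forget _).map z) := ‹IsIso z.left›
  haveI : IsIso z := isIso_of_reflects_iso z (Over.forget _)
  obtain ⟨w, hw⟩ := (hZ G (𝟙 G)).1 ⟨CategoryTheory.inv z, IsIso.inv_hom_id z⟩
  rw [MonoidalCategory.whiskerLeft_id, Category.id_comp] at hw
  have hc : c = 1 := by rw [← hw, Hom.one_def, toUnit_unique w (toUnit _)]
  have := congrArg (fun q => lift x y ≫ q) hc
  simp only [c, MonObj.comp_mul, GrpObj.comp_inv, lift_fst_assoc, lift_snd, MonObj.comp_one] at this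
  exact mul_inv_eq_one.1 this


/-- Let G be an affine, smooth, connected algebraic group over an algebraically closed field k, and Z
its reductive centre. Then Z is the scheme-theoretic intersection of the maximal tori of G: a point
of G with values in a k-scheme X factors through Z if and only if it factors through every maximal
torus of G. -/
theorem result (k : Type u) [Field k] [IsAlgClosed k]
    (G : Over (Spec (CommRingCat.of k))) [GrpObj G] [Smooth G.hom] [QuasiCompact G.hom] [IsAffine G.left] [ConnectedSpace ↥G.left]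
    (Z : Over (Spec (CommRingCat.of k))) [GrpObj Z] (z : Z ⟶ G)
    (hZ : (IsMonHom z ∧ Mono z ∧ SGA3x.IsMultTypeFT Z ∧
      (∀ (X : Over (Spec (CommRingCat.of k))) (x : X ⟶ Z) (g : X ⟶ G), (x ≫ z) * g = g * (x ≫ z)) ∧
      ∀ (S' : Scheme.{u}) (f : S' ⟶ (Spec (CommRingCat.of k))) (H : Over S') [GrpObj H] (v : H ⟶ Red.bc f G) [IsMonHom v],
        SGA3x.IsMultTypeFT H →
        (∀ (X : Over S') (x : X ⟶ H) (g : X ⟶ Red.bc f G), (x ≫ v) * g = g * (x ≫ v)) →
        ∃ w : H ⟶ Red.bc f Z, w ≫ (Over.pullback f).map z = v)) (X : Over (Spec (CommRingCat.of k))) (g : X ⟶ G) :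
    (∃ x : X ⟶ Z, x ≫ z = g) ↔
      ∀ (T : Over (Spec (CommRingCat.of k))) [GrpObj T] (i : T ⟶ G), Red.IsMaximalTorus i → ∃ t : X ⟶ T, t ≫ i = g := by
  obtain ⟨hzm, hzmono, hZmt, hzc, hzu⟩ := hZ
  haveI := hzm; haveI := hzmono
  constructor
  · rintro ⟨x, rfl⟩ T _ i hT
    obtain ⟨w, hw⟩ := central_factor_maxTorus i (isMaxTorus_of_isMaximalTorus i hT) hZmt z hzc
    exact ⟨x ≫ w, by rw [Category.assoc, hw]⟩
  intro hg
  haveI : IsAffineHom G.hom := isAffineHom_of_isAffine _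
  obtain ⟨T₀, B₀, hT₀g, hB₀g, t₀, b₀, -, -, -, hi₀, -⟩ := exists_maxTorus G
  obtain ⟨i₀, hi₀⟩ : ∃ i₀ : T₀ ⟶ G, AGF.IsMaxTorus i₀ := ⟨t₀ ≫ b₀, hi₀⟩
  obtain ⟨him, himono, hTt, -⟩ := id hi₀
  haveI := him; haveI := himono
  have hTm := MTBridge.isMultTypeFT_of_isTorus T₀ hTt
  obtain ⟨C, hCg, c, hc, -, -⟩ := MTBridge.exists_centralizer T₀ G (MTBridge.locally_of_isMultTypeFT' T₀ hTm)
    inferInstance inferInstance i₀
  haveI := hc.1; haveI := hc.2.1
  obtain ⟨U, hUne, hU⟩ := exists_open_conj i₀ hi₀ c hc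
  haveI : IrreducibleSpace G.left := GrpField.irreducibleSpace_of_nhds (GrpField.exists_irreducible_nhd G)
  have hcen := central_of_dense g {x : RP G | rpt x ∈ U} (by
    refine dense_iff_inter_open.2 fun O hO hOne => ?_
    obtain ⟨a, haO, haU⟩ := (U.2.dense hUne).inter_open_nonempty O hO hOne
    haveI : JacobsonSpace G.left := LocallyOfFiniteType.jacobsonSpace G.hom
    obtain ⟨w, ⟨hwO, hwU⟩, hwc⟩ := nonempty_inter_closedPoints (Z := O ∩ (U : Set G.left)) ⟨a, haO, haU⟩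
      (IsOpen.isLocallyClosed (hO.inter U.2))
    obtain ⟨p, hp⟩ := exists_rpt hwc
    exact ⟨_, hwO, p, by show rpt p ∈ U; rw [hp]; exact hwU, hp⟩) (fun d hd => by
    obtain ⟨h, y, rfl⟩ := hU d hd
    obtain ⟨t, ht⟩ := hg T₀ (AGF.conjBy h i₀) (isMaximalTorus_of_isMaxTorus _ (isMaxTorus_conjBy h i₀ hi₀))
    refine conjBy_eq_of_central i₀ g h (y ≫ c) t ht ?_
    have := (hc.2.2 _ (toUnit X ≫ y ≫ c)).1 ⟨toUnit X ≫ y, by rw [Category.assoc]⟩ X (𝟙 X) t
    simpa only [Category.id_comp] using this)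
  -- the central part of `T₀`
  let e : G ⊗ T₀ ⟶ G := (fst G T₀ * (snd G T₀ ≫ i₀)) * ((snd G T₀ ≫ i₀) * fst G T₀)⁻¹
  haveI : IsClosedImmersion η[G].left :=
    isClosedImmersion_of_comp_eq_id (Y := Spec (CommRingCat.of k)) G.hom η[G].left (by simp)
  obtain ⟨P, j, hj, hP⟩ := PtsDense.exists_closed_factLocus e η[G] (isLocFree_of_field G.hom)
  haveI := hj
  haveI : Mono j := GrpField.SchImg.mono_of_isClosedImmersion j
  have hP' : ∀ {Y : Over (Spec (CommRingCat.of k))} (t : Y ⟶ T₀), (∃ p, p ≫ j = t) ↔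
      ∀ (Y' : Over (Spec (CommRingCat.of k))) (a : Y' ⟶ Y) (y : Y' ⟶ G),
        y * (a ≫ t ≫ i₀) = (a ≫ t ≫ i₀) * y := by
    intro Y t
    refine (hP Y t).trans ⟨fun ⟨w, hw⟩ Y' a y => ?_, fun h => ⟨toUnit _, ?_⟩⟩
    · have h1 : lift y a ≫ ((G ◁ t) ≫ e) = 1 := by
        rw [← hw, Hom.one_def, ← Category.assoc, toUnit_unique (lift y a ≫ w) (toUnit _)]
      simp only [e, MonObj.comp_mul, GrpObj.comp_inv, whiskerLeft_fst, whiskerLeft_snd_assoc, lift_fst,
        lift_snd_assoc] at h1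
      exact mul_inv_eq_one.1 h1
    · simp only [e, MonObj.comp_mul, GrpObj.comp_inv, whiskerLeft_fst, whiskerLeft_snd_assoc]
      rw [h _ (snd G Y) (fst G Y), mul_inv_cancel, Hom.one_def]
  obtain ⟨hPg, hjm⟩ := MTBridge.exists_grpObj_of_div j ((hP' _).2 fun Y' a y => by
      rw [show a ≫ η[T₀] ≫ i₀ = (1 : Y' ⟶ G) by
        rw [IsMonHom.one_hom, Hom.one_def, toUnit_unique (toUnit Y') a]]
      rw [_root_.mul_one, _root_.one_mul])
    (fun Y a b => (hP' _).2 fun Y' x y => by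
      have h1 := (hP' (a ≫ j)).1 ⟨a, rfl⟩ Y' x y
      have h2 := (hP' (b ≫ j)).1 ⟨b, rfl⟩ Y' x y
      simp only [MonObj.mul_comp, GrpObj.inv_comp, MonObj.comp_mul, GrpObj.comp_inv]
      exact (Commute.inv_right h1).mul_right h2)
  haveI := hjm
  haveI : LocallyOfFinitePresentation T₀.hom := by
    haveI := smooth_of_isTorus hTt; infer_instance
  haveI : LocallyOfFiniteType P.hom := by rw [← Over.w j]; infer_instance
  haveI : IsLocallyNoetherian T₀.left := by
    haveI := smooth_of_isTorus hTt; exact LocallyOfFiniteType.isLocallyNoetherian T₀.hom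
  haveI : Flat P.hom := inferInstance
  haveI : LocallyOfFinitePresentation P.hom := by rw [← Over.w j]; infer_instance
  have hPm := MTSub.isMultTypeFT_of_closed P T₀ hTm j
  have hPc : ∀ (Y : Over (Spec (CommRingCat.of k))) (p : Y ⟶ P) (y : Y ⟶ G),
      (p ≫ j ≫ i₀) * y = y * (p ≫ j ≫ i₀) := fun Y p y => by
    have h := (hP' (p ≫ j)).1 ⟨p, rfl⟩ Y (𝟙 Y) y
    simpa only [Category.id_comp, Category.assoc] using h.symm
  obtain ⟨t, ht⟩ := hg T₀ i₀ (isMaximalTorus_of_isMaxTorus _ hi₀)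
  obtain ⟨p, hp⟩ := (hP' t).2 fun Y' a y => by
    rw [ht]; exact (hcen Y' a y).symm
  let f := 𝟙 (Spec (CommRingCat.of k))
  obtain ⟨w, hw⟩ := hzu _ f (Red.bc f P) ((Over.pullback f).map (j ≫ i₀)) (MTBridge.isMultTypeFT_bc P f hPm)
    (Groth.Agent.S8398.central_bc f (j ≫ i₀) hPc)
  let ε : (Over.map f).obj X ≅ X := Over.isoMk (Iso.refl _) (by
    show 𝟙 _ ≫ X.hom = X.hom ≫ 𝟙 _
    rw [Category.id_comp, Category.comp_id])
  let X₀ : Over (Spec (CommRingCat.of k)) := X
  obtain ⟨q, hq⟩ := exists_toBC' f (toBC f (ε.hom ≫ p) ≫ w)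
  refine ⟨ε.inv ≫ q, (cancel_epi ε.hom).1 (toBC_inj f ?_)⟩
  rw [Category.assoc, Iso.hom_inv_id_assoc, toBC_comp, hq, Category.assoc, hw, ← toBC_comp, Category.assoc,
    ← Category.assoc p, hp, ht]

end Groth.Agent.S8401
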