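import Groth.Statements.S2159
import Mathlib.Algebra.Module.Projective
import Mathlib.LinearAlgebra.Prod

set_option autoImplicit false
universe u
open CAlg

namespace Groth.Agent.S2159

/-- Given surjections `p₁ : P₁ → M` and `p₂ : P₂ → M` from projective modules, with kernels `K` and `L`,
there is an isomorphism `K ⊕ P₂ ≅ L ⊕ P₁`. -/
theorem result {R M P₁ P₂ : Type u} [CommRing R] [AddCommGroup M] [Module R M] [AddCommGroup P₁] [Module R P₁]
    [Module.Projective R P₁] [AddCommGroup P₂] [Module R P₂] [Module.Projective R P₂] (p₁ : P₁ →ₗ[R] M) (p₂ : P₂ →ₗ[R] M)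
    (h₁ : Function.Surjective p₁) (h₂ : Function.Surjective p₂) :
    Nonempty ((LinearMap.ker p₁ × P₂) ≃ₗ[R] (LinearMap.ker p₂ × P₁)) := by
  obtain ⟨s, hs⟩ := Module.projective_lifting_property p₂ p₁ h₂
  obtain ⟨t, ht⟩ := Module.projective_lifting_property p₁ p₂ h₁
  have es : ∀ x, p₂ (s x) = p₁ x := fun x => LinearMap.congr_fun hs x
  have et : ∀ x, p₁ (t x) = p₂ x := fun x => LinearMap.congr_fun ht x
  refine ⟨
    { toFun := fun q => (⟨q.2 - s (↑q.1 + t q.2), ?_⟩, ↑q.1 + t q.2)
      map_add' := fun a b => ?_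
      map_smul' := fun c a => ?_
      invFun := fun q => (⟨q.2 - t (↑q.1 + s q.2), ?_⟩, ↑q.1 + s q.2)
      left_inv := fun q => ?_
      right_inv := fun q => ?_ }⟩
  · show p₂ _ = 0
    rw [map_sub, es, map_add, et, show p₁ (q.1 : P₁) = 0 from q.1.2, zero_add, sub_self]
  · ext <;> simp <;> abel
  · ext <;> simp [smul_add, smul_sub]
  · show p₁ _ = 0
    rw [map_sub, et, map_add, es, show p₂ (q.1 : P₂) = 0 from q.1.2, zero_add, sub_self]
  · ext <;> simp
  · ext <;> simp

end Groth.Agent.S2159
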