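import Groth.Statements.S3799
import Groth.Agent.K0ResLF.Push
import Groth.Agent.K0ResLF.Euler
-- import your own Groth.Agent.* helpers here

set_option autoImplicit false
set_option backward.isDefEq.respectTransparency false
set_option linter.style.haveILetI false
universe v u
open CategoryTheory CategoryTheory.Limits AlgebraicGeometry
attribute [local instance] HasDerivedCategory.standard
open KRR

namespace Groth.Agent.S3799

/-- Let f : X ⟶ Y be a regular closed imbedding of connected Noetherian schemes, where every coherent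
module on Y is a quotient of a finite locally free one, and (KX, PX, φX), (KY, PY, φY) models of
K(X), K(Y). Then there is a unique additive map h : K(X) ⟶ K(Y) such that h[F] = Σ_k (-1)^k [L_k]
for every finite locally free F on X and every finite resolution L of f_* F by finite locally free
modules (the push-forward f_K). -/
theorem result {X Y : Scheme.{u}} (f : X ⟶ Y) (hf : Mor2.IsRegularClosedImmersion f)
    [IsNoetherian X] [ConnectedSpace ↥X] [IsNoetherian Y] [ConnectedSpace ↥Y] (hYe : KRR.HasEnoughLocFree Y)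
    (KX : Type v) [CommRing KX] [LambdaRing.LambdaOps KX] (PX : LambdaRing.PosStructure KX) (φX : SGA6.Kvb X →+ KX) (hKX : KRR.IsModel X KX PX φX)
    (KY : Type v) [CommRing KY] [LambdaRing.LambdaOps KY] (PY : LambdaRing.PosStructure KY) (φY : SGA6.Kvb Y →+ KY) (hKY : KRR.IsModel Y KY PY φY) :
    ∃! h : KX →+ KY, KRR.IsPushCl f φX φY h := by
  classical
  haveI := hf.1
  haveI := GrothSS.preservesFiniteColimits_push f
  have hres : ∀ M : Y.Modules, FlatMod.IsFinLocFree M → Coh.IsCoh M ∧ KRR.HasLFRes M := fun M hM =>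
    ⟨K0Coh.isCoh_of_isFinLocFree hM, K0ResLF.hasLFRes_of_pdLT hYe (K0Coh.isCoh_of_isFinLocFree hM)
      (n := 0) (K0ResLF.pdLT_one hM)⟩
  let j := SGA6.mapSub (𝟭 Y.Modules) (K0ResLF.LF Y) (K0ResLF.ResP Y) hres
  have hj : Function.Bijective j := K0ResLF.bijective_res hYe hres
  have hpush : ∀ F : X.Modules, FlatMod.IsFinLocFree F →
      K0ResLF.ResP Y ((Scheme.Modules.pushforward f).obj F) := fun F hF => K0ResLF.hasLFRes_push hYe hf hF
  let m := SGA6.mapSub (Scheme.Modules.pushforward f) (K0ResLF.LF X) (K0ResLF.ResP Y) hpush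
  let ej := (AddEquiv.ofBijective j hj).symm
  let eX := (AddEquiv.ofBijective φX hKX.bijective).symm
  let h : KX →+ KY := φY.comp ((ej.toAddMonoidHom.comp m).comp eX.toAddMonoidHom)
  have cl_eq : ∀ (F : X.Modules), FlatMod.IsFinLocFree F →
      h (φX (KRR.cl X F)) = φY (ej (KZero.clSub (K0ResLF.ResP Y) ((Scheme.Modules.pushforward f).obj F))) := by
    intro F hF
    have e1 : eX (φX (KRR.cl X F)) = KRR.cl X F :=
      (AddEquiv.ofBijective φX hKX.bijective).symm_apply_apply _
    have e2 : m (KRR.cl X F) = KZero.clSub (K0ResLF.ResP Y) ((Scheme.Modules.pushforward f).obj F) := by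
      simp [m, KRR.cl, K0Res.clSub_eq (K0ResLF.LF X) hF, K0Res.clSub_eq (K0ResLF.ResP Y) (hpush F hF),
        SGA6.mapSub, SGA6.objMap]
    show φY (ej (m (eX (φX (KRR.cl X F))))) = _
    rw [e1, e2]
  have hcl : ∀ L : Y.Modules, FlatMod.IsFinLocFree L →
      ej (KZero.clSub (K0ResLF.ResP Y) L) = KRR.cl Y L := fun L hL => by
    have e : j (KRR.cl Y L) = KZero.clSub (K0ResLF.ResP Y) L := by
      simp [j, KRR.cl, K0Res.clSub_eq (K0ResLF.LF Y) hL, K0Res.clSub_eq (K0ResLF.ResP Y) (hres L hL),
        SGA6.mapSub, SGA6.objMap]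
    rw [← e]
    exact (AddEquiv.ofBijective j hj).symm_apply_apply _
  have hh : KRR.IsPushCl f φX φY h := by
    intro F hF n L π hL
    haveI := hL.quasiIso
    rw [cl_eq F hF, K0ResLF.cl_eq_sum (K0ResLF.ResP Y) (K0ResLF.hypRes hYe hres).ker₁ (hpush F hF) n L π
      hL.isZero (fun i => hres _ (hL.finLocFree i))]
    simp only [map_sum, map_zsmul]
    exact Finset.sum_congr rfl fun k _ => by rw [hcl _ (hL.finLocFree k)]
  refine ⟨h, hh, fun h' hh' => ?_⟩
  have key : ∀ x : SGA6.Kvb X, h' (φX x) = h (φX x) := by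
    intro x
    have : (h'.comp φX) = (h.comp φX) := by
      ext ⟨F, hF⟩
      obtain ⟨n, L, π, hL⟩ := (hpush F hF).2
      have e : KRR.cl X F = QuotientAddGroup.mk (FreeAbelianGroup.of ⟨F, hF⟩) :=
        K0Res.clSub_eq (K0ResLF.LF X) hF
      simp only [AddMonoidHom.comp_apply, QuotientAddGroup.mk'_apply]
      erw [← e]
      rw [hh' F hF n L π hL, hh F hF n L π hL]
    exact DFunLike.congr_fun this x
  ext z
  obtain ⟨x, rfl⟩ := hKX.bijective.2 z
  exact key x

end Groth.Agent.S3799
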