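import Groth.Statements.S1483
import Mathlib
import Groth.Agent.FibCrit.Scheme
import Groth.Agent.LocFree.Props

set_option autoImplicit false
universe u
open FlatMor
open scoped TensorProduct
set_option linter.style.haveILetI false

namespace Groth.Agent.S1483

open AlgebraicGeometry CategoryTheory Limits in
/-- Fibrewise flatness criterion (critère de platitude par fibres), pointwise equivalence for a module:
let f : X → Y and g : Y → S be morphisms of schemes with X locally of finite presentation over S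
(via g ∘ f) and Y locally of finite type over S, F a finitely presented quasi-coherent O_X-module,
and x a point of X with images y = f(x) and s = g(y) at which the stalk F_x is nonzero. The
following are equivalent: (a) F is flat over S at x and F_x / 𝔪_s F_x is flat over O_{Y,y} / 𝔪_s
O_{Y,y}; (b) the morphism g is flat at the point y and F is Y-flat at x. The published statement
also asserts that the locus of such x is open in the support of F; that is not restated here (the
companion statement for F = O_X carries it). -/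
theorem result {X Y S : Scheme.{u}} (f : X ⟶ Y) (g : Y ⟶ S) [LocallyOfFinitePresentation (f ≫ g)] [LocallyOfFiniteType g]
    (F : X.Modules) (hq : Coh.IsQCoh F) (hfp : CohB1.IsFP F) (x : X) (hx : Nontrivial ↑(F.presheaf.stalk x)) :
    letI := FlatMod.moduleStalkOver f F x
    (FlatMod.IsFlatOverAt (f ≫ g) F x ∧
      Module.Flat (↑(Y.presheaf.stalk (f x)) ⧸ Ideal.map (g.stalkMap (f x)).hom (IsLocalRing.maximalIdeal ↑(S.presheaf.stalk (g (f x)))))
        (↑(F.presheaf.stalk x) ⧸ (Ideal.map (g.stalkMap (f x)).hom (IsLocalRing.maximalIdeal ↑(S.presheaf.stalk (g (f x)))) •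
          (⊤ : Submodule ↑(Y.presheaf.stalk (f x)) ↑(F.presheaf.stalk x))))) ↔
    ((g.stalkMap (f x)).hom.Flat ∧ FlatMod.IsFlatOverAt f F x) := by
  letI instY : Module ↑(Y.presheaf.stalk (f x)) ↑(F.presheaf.stalk x) := FlatMod.moduleStalkOver f F x
  let A := ↑(Y.presheaf.stalk (f x))
  let B := ↑(X.presheaf.stalk x)
  let C := ↑(S.presheaf.stalk (g (f x)))
  let N := ↑(F.presheaf.stalk x)
  letI : Algebra C A := (g.stalkMap (f x)).hom.toAlgebra
  letI : Algebra A B := (f.stalkMap x).hom.toAlgebra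
  letI : Algebra C B := ((f ≫ g).stalkMap x).hom.toAlgebra
  haveI : IsScalarTower C A B := IsScalarTower.of_algebraMap_eq fun a => by
    change ((f ≫ g).stalkMap x).hom a = _
    rw [Scheme.Hom.stalkMap_comp]
    rfl
  letI instC : Module C N := FlatMod.moduleStalkOver (f ≫ g) F x
  haveI : IsScalarTower A B N := IsScalarTower.of_algebraMap_smul fun a m => rfl
  haveI : IsScalarTower C B N := IsScalarTower.of_algebraMap_smul fun a m => rfl
  haveI : IsScalarTower C A N := IsScalarTower.of_algebraMap_smul fun a m => by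
    rw [← algebraMap_smul B (algebraMap C A a) m, ← IsScalarTower.algebraMap_apply, algebraMap_smul]
  let I := (IsLocalRing.maximalIdeal C).map (algebraMap C A)
  let eI : (A ⧸ I) ⊗[A] N ≃ₗ[A ⧸ I] N ⧸ I • (⊤ : Submodule A N) :=
    LinearEquiv.extendScalarsOfSurjective (R := A) Ideal.Quotient.mk_surjective
      (TensorProduct.quotTensorEquivQuotSMul N I)
  constructor
  · rintro ⟨h1, h2⟩
    haveI : Module.Flat C N := h1
    haveI : Module.Flat (A ⧸ I) (N ⧸ I • (⊤ : Submodule A N)) := h2
    obtain ⟨U, hU, hsU, -⟩ := exists_isAffineOpen_mem_and_subset (X := S) (x := g (f x)) (U := ⊤) trivial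
    obtain ⟨V, hV, hyV, hVU⟩ := exists_isAffineOpen_mem_and_subset (X := Y) (x := f x) (U := g ⁻¹ᵁ U) hsU
    obtain ⟨W, hW, hx', hWV⟩ := exists_isAffineOpen_mem_and_subset (X := X) (x := x) (U := f ⁻¹ᵁ V) hyV
    have hWU : W ≤ (f ≫ g) ⁻¹ᵁ U := fun z hz => hVU (hWV hz)
    letI : Algebra Γ(S, U) Γ(Y, V) := (g.appLE U V hVU).hom.toAlgebra
    letI : Algebra Γ(Y, V) Γ(X, W) := (f.appLE V W hWV).hom.toAlgebra
    letI : Algebra Γ(S, U) Γ(X, W) := ((f ≫ g).appLE U W hWU).hom.toAlgebra
    haveI : IsScalarTower Γ(S, U) Γ(Y, V) Γ(X, W) := IsScalarTower.of_algebraMap_eq fun a => by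
      change ((f ≫ g).appLE U W hWU).hom a = (f.appLE V W hWV).hom ((g.appLE U V hVU).hom a)
      rw [← CommRingCat.comp_apply, Scheme.Hom.appLE_comp_appLE]
    haveI : Algebra.FiniteType Γ(S, U) Γ(Y, V) := g.finiteType_appLE hU hV hVU
    haveI : Algebra.FinitePresentation Γ(S, U) Γ(X, W) := (f ≫ g).finitePresentation_appLE hU hW hWU
    haveI := LocFree.finitePresentation_sections_of_isFP hq hfp hW
    let q := (hW.primeIdealOf ⟨x, hx'⟩).asIdeal
    have hqS : q.comap (algebraMap Γ(Y, V) Γ(X, W)) = (hV.primeIdealOf ⟨f x, hWV hx'⟩).asIdeal :=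
      congrArg PrimeSpectrum.asIdeal (IsAffineOpen.comap_primeIdealOf_appLE V hV W hW hWV hx')
    have hqR : q.comap (algebraMap Γ(S, U) Γ(X, W)) = (hU.primeIdealOf ⟨g (f x), hWU hx'⟩).asIdeal :=
      congrArg PrimeSpectrum.asIdeal (IsAffineOpen.comap_primeIdealOf_appLE U hU W hW hWU hx')
    letI := TopCat.Presheaf.algebra_section_stalk S.presheaf (⟨g (f x), hWU hx'⟩ : U)
    letI := TopCat.Presheaf.algebra_section_stalk Y.presheaf (⟨f x, hWV hx'⟩ : V)
    letI := TopCat.Presheaf.algebra_section_stalk X.presheaf (⟨x, hx'⟩ : W)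
    haveI : IsLocalization.AtPrime C (q.comap (algebraMap Γ(S, U) Γ(X, W))) := by
      simp only [hqR]; exact hU.isLocalization_stalk ⟨g (f x), hWU hx'⟩
    haveI : IsLocalization.AtPrime A (q.comap (algebraMap Γ(Y, V) Γ(X, W))) := by
      simp only [hqS]; exact hV.isLocalization_stalk ⟨f x, hWV hx'⟩
    haveI : IsLocalization.AtPrime B q := hW.isLocalization_stalk ⟨x, hx'⟩
    letI : Algebra Γ(S, U) A := ((algebraMap Γ(Y, V) A).comp (algebraMap Γ(S, U) Γ(Y, V))).toAlgebra
    haveI : IsScalarTower Γ(S, U) Γ(Y, V) A := IsScalarTower.of_algebraMap_eq fun _ => rfl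
    haveI : IsScalarTower Γ(S, U) C A :=
      IsScalarTower.of_algebraMap_eq fun a => (FibCrit.germ_comm g U V hVU (f x) (hWV hx') a).symm
    letI : Algebra Γ(Y, V) B := ((algebraMap Γ(X, W) B).comp (algebraMap Γ(Y, V) Γ(X, W))).toAlgebra
    haveI : IsScalarTower Γ(Y, V) Γ(X, W) B := IsScalarTower.of_algebraMap_eq fun _ => rfl
    haveI : IsScalarTower Γ(Y, V) A B :=
      IsScalarTower.of_algebraMap_eq fun a => (FibCrit.germ_comm f V W hWV x hx' a).symm
    letI : Algebra Γ(S, U) B := ((algebraMap Γ(X, W) B).comp (algebraMap Γ(S, U) Γ(X, W))).toAlgebra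
    haveI : IsScalarTower Γ(S, U) Γ(X, W) B := IsScalarTower.of_algebraMap_eq fun _ => rfl
    haveI : IsScalarTower Γ(S, U) C B :=
      IsScalarTower.of_algebraMap_eq fun a => (FibCrit.germ_comm (f ≫ g) U W hWU x hx' a).symm
    obtain ⟨γ, hγ⟩ := LocFree.exists_stalkMap hW hq hx'
    letI := Module.compHom N (X.presheaf.germ W x hx').hom
    haveI : IsScalarTower Γ(X, W) B N := ⟨fun a c m => mul_smul ((X.presheaf.germ W x hx').hom a) c m⟩
    haveI := hγ
    let e : B ⊗[Γ(X, W)] Γ(F, W) ≃ₗ[B] N := ((isLocalizedModule_iff_isBaseChange q.primeCompl B γ).mp hγ).equiv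
    haveI : Module.Flat C (B ⊗[Γ(X, W)] Γ(F, W)) := Module.Flat.of_linearEquiv (e.restrictScalars C)
    haveI : Module.Flat Γ(S, U) C := IsLocalization.flat C (q.comap (algebraMap Γ(S, U) Γ(X, W))).primeCompl
    haveI : IsScalarTower Γ(S, U) C (B ⊗[Γ(X, W)] Γ(F, W)) := IsScalarTower.of_algebraMap_smul fun a m => by
      rw [← algebraMap_smul B (algebraMap Γ(S, U) C a), ← IsScalarTower.algebraMap_apply, algebraMap_smul]
    haveI : Module.Flat Γ(S, U) (B ⊗[Γ(X, W)] Γ(F, W)) := Module.Flat.trans Γ(S, U) C _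
    haveI : Module.Flat (A ⧸ I) ((A ⧸ I) ⊗[A] (B ⊗[Γ(X, W)] Γ(F, W))) :=
      Module.Flat.of_linearEquiv
        ((TensorProduct.AlgebraTensorModule.congr (LinearEquiv.refl (A ⧸ I) (A ⧸ I)) (e.restrictScalars A)).trans eI)
    obtain ⟨r1, r2, -⟩ := FibCrit.ft_fibre (R := Γ(S, U)) (S := Γ(Y, V)) (R' := C) (S' := A) (Q' := B)
      (M := Γ(F, W)) q inferInstance (e.toEquiv.nontrivial) inferInstance
    haveI := r1
    exact ⟨r2, Module.Flat.of_linearEquiv (e.restrictScalars A).symm⟩
  · rintro ⟨h1, h2⟩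
    haveI : Module.Flat C A := h1
    haveI : Module.Flat A N := h2
    exact ⟨Module.Flat.trans C A N, Module.Flat.of_linearEquiv eI.symm⟩

end Groth.Agent.S1483
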