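import Groth.Statements.S9730
import Groth.Agent.KoszulLib.SyntCover
import Groth.Agent.DescentFT.Basic
import Groth.Agent.SyntLib.CIMor

set_option autoImplicit false
universe u
open FlatMor

namespace Groth.Agent.S9730

open AlgebraicGeometry CategoryTheory Limits in
theorem affine_case {X' X Y : Scheme.{u}} (g : X' ⟶ X) (hg' : SyntLib.SynMor g) (f : X ⟶ Y)
    (h : ∀ x' : X', Synt.IsKoszulAt (g ≫ f) x') (V : Y.affineOpens) (U₁ : X.affineOpens) (W₁ : X'.affineOpens)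
    (e₁ : W₁.1 ≤ g ⁻¹ᵁ U₁.1) (e₂ : U₁.1 ≤ f ⁻¹ᵁ V.1) (e₃ : W₁.1 ≤ (g ≫ f) ⁻¹ᵁ V.1)
    (hsurj : ∀ y ∈ U₁.1, ∃ w ∈ W₁.1, g w = y) (x : X) (hx : x ∈ U₁.1) : Synt.IsKoszulAt f x := by
  haveI := SyntLib.flat_of_synMor g hg'
  haveI := SyntLib.lfp_of_synMor g hg'
  refine KoszulLib.isKoszulAt_of_isLCI f V U₁ e₂ ?_ x hx
  letI := (f.appLE V.1 U₁.1 e₂).hom.toAlgebra
  letI := (g.appLE U₁.1 W₁.1 e₁).hom.toAlgebra
  letI := ((g ≫ f).appLE V.1 W₁.1 e₃).hom.toAlgebra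
  haveI : IsScalarTower Γ(Y, V.1) Γ(X, U₁.1) Γ(X', W₁.1) := IsScalarTower.of_algebraMap_eq' (by
    show ((g ≫ f).appLE V.1 W₁.1 e₃).hom = (g.appLE U₁.1 W₁.1 e₁).hom.comp (f.appLE V.1 U₁.1 e₂).hom
    rw [← CommRingCat.hom_comp, Scheme.Hom.appLE_comp_appLE])
  have hsyn : Synt.IsSyntomic Γ(X, U₁.1) Γ(X', W₁.1) :=
    SyntLib.syn_algebraMap.mp (HasRingHomProperty.appLE SyntLib.SynMor g hg' U₁ W₁ e₁)
  haveI := hsyn.1
  haveI := hsyn.2.1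
  haveI : Module.FaithfullyFlat Γ(X, U₁.1) Γ(X', W₁.1) := by
    refine Module.FaithfullyFlat.of_comap_surjective fun P => ?_
    have hy : U₁.2.fromSpec P ∈ U₁.1 := by
      show U₁.2.fromSpec P ∈ ((U₁.1 : X.Opens) : Set X)
      rw [← U₁.2.range_fromSpec]
      exact ⟨P, rfl⟩
    obtain ⟨w, hw₁, hwy⟩ := hsurj _ hy
    refine ⟨W₁.2.primeIdealOf ⟨w, hw₁⟩, PrimeSpectrum.ext ?_⟩
    refine (KoszulLib.comap_primeIdealOf g U₁ W₁ e₁ w hw₁).trans ?_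
    congr 1
    apply U₁.2.fromSpec.isOpenEmbedding.injective
    rw [IsAffineOpen.fromSpec_primeIdealOf]
    exact hwy
  have hC := KoszulLib.isLCI_of_isKoszulAt (g ≫ f) V W₁ e₃ fun y _ => h y
  haveI := hC.1
  haveI : Algebra.FiniteType Γ(Y, V.1) Γ(X, U₁.1) :=
    DescentFT.finiteType_of_faithfullyFlat (R := Γ(Y, V.1)) (A := Γ(X, U₁.1)) (B := Γ(X', W₁.1))
  exact KoszulLib.isLCI_of_syntomic_cover hsyn hC

open AlgebraicGeometry CategoryTheory Limits in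
/-- For g : X' ⟶ X surjective and syntomic and any morphism f : X ⟶ Y, the composite g ≫ f is Koszul at
every point of X' (a local complete intersection morphism) if and only if f is Koszul at every point
of X. The published statement is phrased for syntomic coverings; this row takes a single surjective
syntomic morphism, to which a covering reduces by passing to the disjoint union of its members. -/
theorem result {X' X Y : Scheme.{u}} (g : X' ⟶ X) (hg : Synt.IsSyntomicMor g) [Surjective g]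
    (f : X ⟶ Y) : (∀ x' : X', Synt.IsKoszulAt (g ≫ f) x') ↔ (∀ x : X, Synt.IsKoszulAt f x) := by
  have hg' : SyntLib.SynMor g := (SyntLib.isSyntomicMor_iff g).mp hg
  constructor
  swap
  · exact fun h => KoszulLib.isKoszulAt_comp g f (SyntLib.isKoszulAt_of_synMor g hg') h
  intro h x
  haveI := SyntLib.flat_of_synMor g hg'
  haveI := SyntLib.lfp_of_synMor g hg'
  obtain ⟨_, ⟨V, hV, rfl⟩, hxV, -⟩ :=
    Y.isBasis_affineOpens.exists_subset_of_mem_open (Set.mem_univ (f x)) isOpen_univ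
  obtain ⟨_, ⟨U, hU, rfl⟩, hxU, hUV⟩ :=
    X.isBasis_affineOpens.exists_subset_of_mem_open (show x ∈ f ⁻¹ᵁ V from hxV) (f ⁻¹ᵁ V).isOpen
  obtain ⟨x', hx'⟩ := g.surjective x
  obtain ⟨_, ⟨W, hW, rfl⟩, hxW, hWU⟩ :=
    X'.isBasis_affineOpens.exists_subset_of_mem_open (show x' ∈ g ⁻¹ᵁ U from show g x' ∈ U from hx'.symm ▸ hxU) (g ⁻¹ᵁ U).isOpen
  have hopen : IsOpen (g '' (W : Set X')) := g.isOpenMap _ W.isOpen
  obtain ⟨a, ha, hxa⟩ := hU.exists_basicOpen_le (V := ⟨g '' (W : Set X'), hopen⟩) ⟨x, ⟨x', hxW, hx'⟩⟩ hxU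
  let U₁ : X.affineOpens := X.affineBasicOpen (U := ⟨U, hU⟩) a
  let t := g.appLE U W hWU a
  let W₁ : X'.affineOpens := X'.affineBasicOpen (U := ⟨W, hW⟩) t
  have hW₁ : W₁.1 = W ⊓ g ⁻¹ᵁ U₁.1 := Scheme.basicOpen_appLE g W U hWU a
  have e₁ : W₁.1 ≤ g ⁻¹ᵁ U₁.1 := hW₁.le.trans inf_le_right
  have e₂ : U₁.1 ≤ f ⁻¹ᵁ V := (X.basicOpen_le a).trans hUV
  have e₃ : W₁.1 ≤ (g ≫ f) ⁻¹ᵁ V := fun w hw => e₂ (e₁ hw)
  refine affine_case g hg' f h ⟨V, hV⟩ U₁ W₁ e₁ e₂ e₃ (fun y hy => ?_) x hxa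
  obtain ⟨w, hw, hwy⟩ := ha hy
  refine ⟨w, ?_, hwy⟩
  rw [hW₁]
  exact ⟨hw, show g w ∈ U₁.1 from hwy.symm ▸ hy⟩

end Groth.Agent.S9730
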