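import Groth.Statements.S14204
import Groth.Agent.P1Split.Dim
import Groth.Agent.TMul.RelAmple
import Groth.Agent.GrT.TwistMul
import Groth.Agent.CohFinite.ProjSpace

set_option autoImplicit false
universe u
open CategoryTheory CategoryTheory.Limits AlgebraicGeometry
open ASBun

namespace Groth.Agent.S14204

/-- Let X be a scheme over a field k, K a field extension of k, e a K-isomorphism X_K ≅ P^n_K with
O_e(j) the pullback of O(j) along e, and W, W' two O_X-modules with W_K ≅ O_e(j)^{⊕r} and W'_K ≅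
O_e(l)^{⊕s} for integers j, l and natural numbers r, s. Then the tensor product W ⊗_{O_X} W'
satisfies (W ⊗ W')_K ≅ O_e(j + l)^{⊕rs}: the tensor product of absolutely rank-one-isotypical
modules of twisting types O(j) and O(l) is absolutely rank-one-isotypical of type O(j + l), in
particular absolutely split. (The published statement is for the indecomposable modules of types
O(j) and O(l) on a Severi–Brauer variety with K an algebraic closure; the argument uses only the
displayed decompositions.) -/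
theorem result (k : Type u) [Field k] {X : Scheme.{u}}
    (f : X ⟶ Spec (CommRingCat.of k)) (n : ℕ)
    (K : Type u) [Field K] [Algebra k K] (e : BrSev.Splitting f K n) (j l : ℤ) (r s : ℕ)
    (W W' : X.Modules) (hWt : BrSev.IsTwPow e j r W) (hW't : BrSev.IsTwPow e l s W') :
    BrSev.IsTwPow e (j + l) (r * s) (CohB1.tensorMod W W') := by
  classical
  obtain ⟨a⟩ := hWt
  obtain ⟨b⟩ := hW't
  have hσ : ∀ {Y : Scheme.{u}} {m : ℕ} (L : Fin m → Y.Modules) (M : Y.Modules),
      Nonempty (CohB1.tensorMod (∐ L) M ≅ ∐ fun t => CohB1.tensorMod (L t) M) := fun {Y m} L M => by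
    obtain ⟨π, h1, h2, h3⟩ := P1Split.exists_proj L
    refine ⟨⟨∑ t, CohFinite.tmap (π t) M ≫ Sigma.ι (fun t => CohB1.tensorMod (L t) M) t,
      Sigma.desc fun t => CohFinite.tmap (Sigma.ι L t) M, ?_, Sigma.hom_ext _ _ fun s => ?_⟩⟩
    · rw [Preadditive.sum_comp]
      simp only [Category.assoc, Sigma.ι_desc, ← CohFinite.tmap_comp]
      exact (CohFinite.tmap_sum _ _ _).symm.trans
        ((congrArg (fun ψ => CohFinite.tmap ψ M) h3).trans (CohFinite.tmap_id _ _))
    · rw [Sigma.ι_desc_assoc, Preadditive.comp_sum, Category.comp_id, Finset.sum_eq_single s]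
      · rw [← Category.assoc, ← CohFinite.tmap_comp, h1, CohFinite.tmap_id, Category.id_comp]
      · intro t _ ht
        rw [← Category.assoc, ← CohFinite.tmap_comp, h2 s t (Ne.symm ht), CohFinite.tmap_zero, zero_comp]
      · exact fun h => absurd (Finset.mem_univ _) h
  obtain ⟨t⟩ := GrT.nonempty_twist_tensor_iso (CohB1.polyGrading n K) (a := l) (b := j) (c := j + l)
    (by simpa using GrT.hasFracGens_of_cover (fun x => let ⟨i, hi⟩ := CohFinite.cov_X n K x
          ⟨_, MvPolynomial.isHomogeneous_X K i.down, hi⟩) j) (add_comm l j)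
  obtain ⟨u⟩ := TMul.nonempty_pullTensorIso (BrSev.proj f K) W W'
  obtain ⟨v⟩ := TMul.nonempty_pullTensorIso e.iso.hom (Twist.twistProjSpace n K j) (Twist.twistProjSpace n K l)
  let T := CohB1.tensorMod (e.twist j) (e.twist l)
  let c : T ≅ e.twist (j + l) := v ≪≫ (Scheme.Modules.pullback e.iso.hom).mapIso t
  obtain ⟨g⟩ := hσ (fun _ : Fin r => e.twist j) (BrSev.pow (e.twist l) s)
  obtain ⟨g'⟩ := hσ (fun _ : Fin s => e.twist l) (e.twist j)
  exact ⟨u.symm ≪≫ PicGrp.tensorModIso a b ≪≫ g ≪≫
    Sigma.mapIso (fun _ => TMul.commIso _ _ ≪≫ g' ≪≫ Sigma.mapIso fun _ => TMul.commIso _ _ ≪≫ c) ≪≫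
    sigmaSigmaIso (fun _ : Fin r => Fin s) (fun _ _ => e.twist (j + l)) ≪≫
    Sigma.whiskerEquiv ((Equiv.sigmaEquivProd (Fin r) (Fin s)).trans finProdFinEquiv)
      (f := fun _ => e.twist (j + l)) (g := fun _ => e.twist (j + l)) fun _ => Iso.refl _⟩

end Groth.Agent.S14204
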