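import Groth.Statements.S4795
import Groth.Agent.LimMore.Hom

set_option autoImplicit false
universe u
open CategoryTheory AlgebraicGeometry
open Lim8

namespace Groth.Agent.S4795

/-- Let S = lim S_i be a cofiltered limit of schemes with affine transition maps and S_{i₀} a
quasi-compact quasi-separated stage; let X₀ and Y₀ be schemes of finite presentation over S_{i₀},
and let X, Y be their base changes along S ⟶ S_{i₀} (base changes are expressed by pullback
squares). Then X and Y are isomorphic over S if and only if, for some index j over i₀, the base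
changes X_j and Y_j of X₀ and Y₀ along S_j ⟶ S_{i₀} are isomorphic over S_j. -/
theorem result {I : Type u} [SmallCategory I] [IsCofiltered I]
    (D : I ⥤ Scheme.{u}) (c : Limits.Cone D) (hc : Limits.IsLimit c)
    [∀ (i j : I) (f : i ⟶ j), IsAffineHom (D.map f)] (i₀ : I)
    [CompactSpace (D.obj i₀)] [QuasiSeparatedSpace (D.obj i₀)]
    {X₀ Y₀ : Scheme.{u}} (a₀ : X₀ ⟶ D.obj i₀) (b₀ : Y₀ ⟶ D.obj i₀)
    [LocallyOfFinitePresentation a₀] [QuasiCompact a₀] [QuasiSeparated a₀]
    [LocallyOfFinitePresentation b₀] [QuasiCompact b₀] [QuasiSeparated b₀]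
    {X Y : Scheme.{u}} (a : X ⟶ c.pt) (b : Y ⟶ c.pt) (qX : X ⟶ X₀) (qY : Y ⟶ Y₀)
    (hX : IsPullback qX a a₀ (c.π.app i₀)) (hY : IsPullback qY b b₀ (c.π.app i₀)) :
    (∃ e : X ≅ Y, e.hom ≫ b = a) ↔
      ∃ (j : I) (φ : j ⟶ i₀) (Xj Yj : Scheme.{u}) (aj : Xj ⟶ D.obj j) (bj : Yj ⟶ D.obj j)
        (pX : Xj ⟶ X₀) (pY : Yj ⟶ Y₀), IsPullback pX aj a₀ (D.map φ) ∧ IsPullback pY bj b₀ (D.map φ) ∧
        ∃ e : Xj ≅ Yj, e.hom ≫ bj = aj := by
  haveI : ∀ {i j : I} (f : i ⟶ j), IsAffineHom (D.map f) := fun {i j} f => inferInstance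
  haveI : CompactSpace X₀ := QuasiCompact.compactSpace_of_compactSpace a₀
  haveI : QuasiSeparatedSpace X₀ := quasiSeparatedSpace_of_quasiSeparated a₀
  constructor
  · rintro ⟨e, he⟩
    obtain ⟨j, fj, h1, h2⟩ := Groth.Agent.LimMore.exists_hom D c hc a₀ b₀ hX hY e.hom he
    have hb := Groth.Agent.LimDesc.isPullback_stage D b₀ j
    have ha := Groth.Agent.LimDesc.isPullback_stage D a₀ j
    haveI : CompactSpace (D.obj j.left) := QuasiCompact.compactSpace_of_compactSpace (D.map j.hom)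
    haveI : QuasiCompact (Groth.Agent.LimDesc.toStage D b₀ j) := MorphismProperty.of_isPullback hb inferInstance
    haveI : QuasiSeparated (Groth.Agent.LimDesc.toStage D b₀ j) := MorphismProperty.of_isPullback hb inferInstance
    haveI : LocallyOfFiniteType (Groth.Agent.LimDesc.toStage D b₀ j) :=
      MorphismProperty.of_isPullback (P := @LocallyOfFiniteType) hb inferInstance
    haveI : LocallyOfFinitePresentation (fj ≫ Groth.Agent.LimDesc.toStage D b₀ j) := by
      rw [h1]; exact MorphismProperty.of_isPullback (P := @LocallyOfFinitePresentation) ha inferInstance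
    haveI : QuasiCompact (fj ≫ Groth.Agent.LimDesc.toStage D b₀ j) := by
      rw [h1]; exact MorphismProperty.of_isPullback ha inferInstance
    have hX' : IsPullback (Groth.Agent.LimDesc.proj D a₀ c hX j) e.hom fj (Groth.Agent.LimDesc.proj D b₀ c hY j) := by
      refine IsPullback.of_bot ?_ h2 (Groth.Agent.LimDesc.isPullback_proj D b₀ c hY j)
      rw [h1, he]
      exact Groth.Agent.LimDesc.isPullback_proj D a₀ c hX j
    obtain ⟨k, hk⟩ := Groth.Agent.LimMore.exists_isIso D c hc (Groth.Agent.LimDesc.isPullback_proj D b₀ c hY j) hX'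
    refine ⟨k.left, k.hom ≫ j.hom, _, _, Groth.Agent.LimDesc.toStage D (fj ≫ Groth.Agent.LimDesc.toStage D b₀ j) k,
      Groth.Agent.LimDesc.toStage D (Groth.Agent.LimDesc.toStage D b₀ j) k,
      Groth.Agent.LimDesc.toBase D (fj ≫ Groth.Agent.LimDesc.toStage D b₀ j) k ≫ Groth.Agent.LimDesc.toBase D a₀ j,
      Groth.Agent.LimDesc.toBase D (Groth.Agent.LimDesc.toStage D b₀ j) k ≫ Groth.Agent.LimDesc.toBase D b₀ j,
      ?_, ?_, @asIso _ _ _ _ (Groth.Agent.LimDesc.stageMap D (Groth.Agent.LimDesc.toStage D b₀ j) fj k) hk,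
      Groth.Agent.LimDesc.stageMap_toStage D (Groth.Agent.LimDesc.toStage D b₀ j) fj k⟩
    · rw [D.map_comp]
      have h3 := Groth.Agent.LimDesc.isPullback_stage D (fj ≫ Groth.Agent.LimDesc.toStage D b₀ j) k
      exact (h1 ▸ h3 : IsPullback _ _ (Groth.Agent.LimDesc.toStage D a₀ j) _).paste_horiz ha
    · rw [D.map_comp]
      exact (Groth.Agent.LimDesc.isPullback_stage D (Groth.Agent.LimDesc.toStage D b₀ j) k).paste_horiz hb
  · rintro ⟨j, φ, Xj, Yj, aj, bj, pX, pY, hXj, hYj, e, he⟩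
    let rX : X ⟶ Xj := hXj.lift qX (a ≫ c.π.app j) (by rw [Category.assoc, c.w φ, hX.w])
    let rY : Y ⟶ Yj := hYj.lift qY (b ≫ c.π.app j) (by rw [Category.assoc, c.w φ, hY.w])
    have hX' : IsPullback rX a aj (c.π.app j) := by
      refine IsPullback.of_right ?_ (hXj.lift_snd _ _ _) hXj
      rw [show rX ≫ pX = qX from hXj.lift_fst _ _ _, c.w φ]
      exact hX
    have hY' : IsPullback rY b bj (c.π.app j) := by
      refine IsPullback.of_right ?_ (hYj.lift_snd _ _ _) hYj
      rw [show rY ≫ pY = qY from hYj.lift_fst _ _ _, c.w φ]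
      exact hY
    have hY'' : IsPullback (rY ≫ e.inv) b aj (c.π.app j) :=
      hY'.of_iso (Iso.refl _) e.symm (Iso.refl _) (Iso.refl _) (by simp) (by simp) (by simp [← he]) (by simp)
    exact ⟨hX'.isoIsPullback _ _ hY'', hX'.isoIsPullback_hom_snd _ _ hY''⟩

end Groth.Agent.S4795
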