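import Groth.Statements.S6873
import Groth.Agent.DomDual.Basic
import Mathlib.RingTheory.Noetherian.Basic
import Mathlib.LinearAlgebra.FreeModule.Finite.Basic
import Mathlib.LinearAlgebra.TensorProduct.RightExactness

set_option autoImplicit false
universe u
open CAlg Groth.Agent

namespace Groth.Agent.S6873

/-- For a Noetherian domain `R`, a finite `R`-module `M` is reflexive if and only if `M` admits an
injective `R`-linear map into `Rⁿ`, for some `n`, whose cokernel is torsion free. -/
theorem result (R : Type u) [CommRing R] [IsDomain R]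
    [IsNoetherianRing R] (M : Type u) [AddCommGroup M] [Module R M] [Module.Finite R M] :
    Module.IsReflexive R M ↔ ∃ (n : ℕ) (f : M →ₗ[R] (Fin n → R)), Function.Injective f ∧
      Module.IsTorsionFree R ((Fin n → R) ⧸ LinearMap.range f) := by
  constructor
  · intro hrefl
    have : IsNoetherian R M := isNoetherian_of_isNoetherianRing_of_finite R M
    obtain ⟨a, π₀, hπ₀⟩ := Module.Finite.exists_fin' R M
    have : Module.Finite R (Module.Dual R M) := by
      refine Module.Finite.of_injective ((π₀.dualMap)) (LinearMap.dualMap_injective_of_surjective hπ₀)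
    obtain ⟨n, π, hπ⟩ := Module.Finite.exists_fin' R (Module.Dual R M)
    obtain ⟨m, ρ, hρ⟩ := Module.Finite.exists_fin' R (LinearMap.ker π)
    let d : (Fin m → R) →ₗ[R] (Fin n → R) := (LinearMap.ker π).subtype.comp ρ
    let en := (Pi.basisFun R (Fin n)).constr R (M' := R)
    let em := (Pi.basisFun R (Fin m)).constr R (M' := R)
    let f : M →ₗ[R] (Fin n → R) := en.symm.toLinearMap.comp (π.dualMap.comp (Module.Dual.eval R M))
    let g : (Fin n → R) →ₗ[R] (Fin m → R) := em.symm.toLinearMap.comp (d.dualMap.comp en.toLinearMap)
    have hfinj : Function.Injective f := en.symm.injective.comp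
      ((LinearMap.dualMap_injective_of_surjective hπ).comp (Module.bijective_dual_eval R M).1)
    refine ⟨n, f, hfinj, ?_⟩
    have hker : LinearMap.range f = LinearMap.ker g := by
      ext y
      show y ∈ Set.range f ↔ em.symm ((en y).comp d) = 0
      rw [LinearEquiv.map_eq_zero_iff]
      constructor
      · rintro ⟨x, rfl⟩
        refine LinearMap.ext fun w => ?_
        show (en (en.symm ((Module.Dual.eval R M x).comp π))) (d w) = 0
        rw [LinearEquiv.apply_symm_apply, LinearMap.comp_apply, show π (d w) = 0 from LinearMap.mem_ker.1 (ρ w).2, map_zero]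
      · intro h
        have hk : LinearMap.ker π ≤ LinearMap.ker (en y) := fun v hv => by
          obtain ⟨w, hw⟩ := hρ ⟨v, hv⟩
          have := LinearMap.congr_fun h w
          rw [LinearMap.mem_ker, ← show (d w : Fin n → R) = v from congrArg Subtype.val hw]
          exact this
        obtain ⟨x, hx⟩ := (Module.bijective_dual_eval R M).2 (((LinearMap.ker π).liftQ (en y) hk).comp (π.quotKerEquivOfSurjective hπ).symm.toLinearMap)
        refine ⟨x, en.injective ?_⟩
        show en (en.symm ((Module.Dual.eval R M x).comp π)) = en y
        rw [LinearEquiv.apply_symm_apply, hx]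
        refine LinearMap.ext fun v => ?_
        show (LinearMap.ker π).liftQ (en y) hk ((π.quotKerEquivOfSurjective hπ).symm (π v)) = en y v
        rw [← LinearMap.quotKerEquivOfSurjective_apply_mk π hπ v, LinearEquiv.symm_apply_apply, Submodule.liftQ_apply]
    rw [Module.isTorsionFree_iff_smul_eq_zero]
    intro r q h
    by_cases hr : r = 0
    · exact Or.inl hr
    obtain ⟨y, rfl⟩ := Submodule.mkQ_surjective _ q
    rw [← map_smul, Submodule.mkQ_apply, Submodule.Quotient.mk_eq_zero, hker, LinearMap.mem_ker, map_smul] at h
    exact Or.inr ((Submodule.Quotient.mk_eq_zero _).2 (hker ▸ LinearMap.mem_ker.2 ((smul_eq_zero.1 h).resolve_left hr)))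
  · rintro ⟨n, f, hf, htf⟩
    exact DomDual.isReflexive_of_exact f (LinearMap.range f).mkQ hf (LinearMap.exact_map_mkQ_range f)

end Groth.Agent.S6873
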