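import Groth.Statements.S6874
import Groth.Agent.QGorD.Basic
import Groth.Agent.DomDual.Basic
import Mathlib.LinearAlgebra.TensorProduct.Tower
import Mathlib.RingTheory.TensorProduct.Free

set_option autoImplicit false
universe u
open TensorProduct
open CAlg Groth.Agent

namespace Groth.Agent.S6874

/-- For a flat ring map `R → R'` between Noetherian domains and a finite reflexive `R`-module `M`, the
base change `R' ⊗_R M` is a (finite) reflexive `R'`-module. -/
theorem result (R R' : Type u) [CommRing R] [IsDomain R]
    [IsNoetherianRing R] [CommRing R'] [IsDomain R'] [IsNoetherianRing R'] [Algebra R R'] [Module.Flat R R']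
    (M : Type u) [AddCommGroup M] [Module R M] [Module.Finite R M] [Module.IsReflexive R M] :
    Module.IsReflexive R' (R' ⊗[R] M) := by
  haveI : Module.Finite R (Module.Dual R (Module.Dual R M)) := Module.Finite.equiv (Module.evalEquiv R M)
  obtain ⟨m, n, i, u, hi, hu⟩ := QGorD.exists_dual_presentation (A := R) M
  let i' : M →ₗ[R] (Fin m → R) := i ∘ₗ (Module.evalEquiv R M).toLinearMap
  have hi' : Function.Injective i' := hi.comp (Module.evalEquiv R M).injective
  have hu' : Function.Exact i' u := fun x => (hu x).trans ⟨fun ⟨y, hy⟩ => ⟨(Module.evalEquiv R M).symm y, by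
    rw [LinearMap.comp_apply, LinearEquiv.coe_coe, LinearEquiv.apply_symm_apply, hy]⟩, fun ⟨y, hy⟩ => ⟨_, hy⟩⟩
  exact DomDual.isReflexive_of_exact (R := R') (i'.baseChange R') (u.baseChange R')
    (Module.Flat.lTensor_preserves_injective_linearMap i' hi') (Module.Flat.lTensor_exact R' hu')

end Groth.Agent.S6874
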