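import Groth.Statements.S9680
import Groth.Agent.Birat.Germ

set_option autoImplicit false
universe u
open CategoryTheory CategoryTheory.Limits AlgebraicGeometry
open Mor

namespace Groth.Agent.S9680

/-- Suppose X and Y are irreducible S-schemes, each locally of finite presentation over S, with generic
points x and y. Then X and Y are S-birational (they admit S-isomorphic nonempty opens) if and only
if x and y map to the same point s of S and the local rings of X at x and of Y at y are isomorphic
as algebras over the local ring of S at s. -/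
theorem result {S X Y : Scheme.{u}}
    [IrreducibleSpace ↥X] [IrreducibleSpace ↥Y] (sX : X ⟶ S) (sY : Y ⟶ S)
    [LocallyOfFinitePresentation sX] [LocallyOfFinitePresentation sY] :
    Scheme.BirationalOver sX sY ↔
      ∃ (hs : sX.base (genericPoint ↥X) = sY.base (genericPoint ↥Y))
        (e : X.presheaf.stalk (genericPoint ↥X) ≅ Y.presheaf.stalk (genericPoint ↥Y)),
        sX.stalkMap (genericPoint ↥X) ≫ e.hom =
          eqToHom (congrArg S.presheaf.stalk hs) ≫ sY.stalkMap (genericPoint ↥Y) := by
  set_option backward.isDefEq.respectTransparency false in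
  constructor
  · rintro ⟨φ, hφ⟩
    haveI hne : Nonempty (φ.source : Scheme.{u}) := by
      obtain ⟨z, hz⟩ := φ.dense_source.nonempty
      exact ⟨⟨z, hz⟩⟩
    haveI : IrreducibleSpace (φ.source : Scheme.{u}) := φ.source.ι.isOpenEmbedding.irreducibleSpace
    rw [← genericPoint_eq_of_isOpenImmersion φ.source.ι,
      ← genericPoint_eq_of_isOpenImmersion (φ.iso.hom ≫ φ.target.ι)]
    exact Groth.Agent.Birat.stalk_iso_of_isOpenImmersion sX sY φ.source.ι (φ.iso.hom ≫ φ.target.ι)
      (by rw [Category.assoc]; exact Eq.symm hφ) _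
  · rintro ⟨hs, e, he⟩
    obtain ⟨U, hxU, V, hyV, f, hf, -, -, hf', -⟩ := Groth.Agent.Birat.exists_isIso_lfp sY sX e.hom (by
      rw [← Scheme.SpecMap_stalkMap_fromSpecStalk sX, ← Category.assoc, ← Spec.map_comp, he, Spec.map_comp,
        Category.assoc, Groth.Agent.Birat.specMap_eqToHom_fromSpecStalk hs,
        Scheme.SpecMap_stalkMap_fromSpecStalk]) ⊤ trivial ⊤ trivial
    exact ⟨(⟨U, U.isOpen.dense ⟨_, hxU⟩, V, V.isOpen.dense ⟨_, hyV⟩, asIso f⟩ :
      Scheme.PartialIso Y X).symm, Scheme.PartialIso.IsOver.symm hf'⟩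

end Groth.Agent.S9680
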