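import Mathlib

/-! Kummer covers of maximal level: the leading coefficient is not a `pⁿ`-th power. -/

set_option autoImplicit false

universe u

open Polynomial

namespace Groth.Agent.KummerLevel

theorem prime_pow_bound {p n i : ℕ} (hp : p.Prime) (hi0 : i ≠ 0) (hi : i < p ^ n) :
    p ^ n - i ≤ p ^ (n - 1) * (p - 1) * (n - i.factorization p) ∧ i.factorization p < n := by
  set v := i.factorization p
  have hpv : p ^ v ≤ i := Nat.le_of_dvd (Nat.pos_of_ne_zero hi0) (Nat.ordProj_dvd i p)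
  have hvn : v < n := (Nat.pow_lt_pow_iff_right hp.one_lt).1 (hpv.trans_lt hi)
  refine ⟨?_, hvn⟩
  have key : ∀ d, v + d ≤ n → p ^ (v + d) ≤ p ^ v + p ^ (n - 1) * (p - 1) * d := by
    intro d
    induction d with
    | zero => intro _; simp
    | succ d ih =>
      intro hd
      have h1 := ih (by omega)
      have h2 : p ^ (v + d) * (p - 1) ≤ p ^ (n - 1) * (p - 1) :=
        Nat.mul_le_mul_right _ (Nat.pow_le_pow_right hp.pos (by omega))
      have h3 : p ^ (v + (d + 1)) = p ^ (v + d) + p ^ (v + d) * (p - 1) := by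
        rw [← Nat.add_assoc, pow_succ]
        obtain ⟨r, hr⟩ : ∃ r, p = r + 1 := ⟨p - 1, by have := hp.one_lt; omega⟩
        rw [hr, Nat.add_sub_cancel]; ring
      rw [h3, mul_add, mul_one]
      omega
  have h := key (n - v) (by omega)
  rw [Nat.add_sub_cancel' hvn.le] at h
  omega

variable {R : Type u} [CommRing R]

theorem choose_eq {p n : ℕ} (hp : p.Prime) (ϖ : R) (j : ℕ) (hj : ϖ ^ (p ^ (n - 1) * (p - 1) * (j + 1)) ∣ (p : R))
    {i : ℕ} (hi0 : i ≠ 0) (hi : i < p ^ n) : ∃ r : R, ((p ^ n).choose i : R) = r * ϖ ^ ((j + 1) * (p ^ n - i)) := by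
  obtain ⟨hb, hv⟩ := prime_pow_bound (n := n) hp hi0 hi
  have h1 : p ^ (n - i.factorization p) ∣ (p ^ n).choose i := by
    rw [← Nat.factorization_choose_prime_pow hp hi.le hi0]
    exact Nat.ordProj_dvd _ _
  have h2 : ϖ ^ ((j + 1) * (p ^ n - i)) ∣ (p : R) ^ (n - i.factorization p) := by
    refine dvd_trans ?_ (pow_dvd_pow_of_dvd hj _)
    rw [← pow_mul]
    refine pow_dvd_pow _ ?_
    calc (j + 1) * (p ^ n - i) ≤ (j + 1) * (p ^ (n - 1) * (p - 1) * (n - i.factorization p)) := Nat.mul_le_mul_left _ hb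
      _ = p ^ (n - 1) * (p - 1) * (j + 1) * (n - i.factorization p) := by ring
  have h3 : ϖ ^ ((j + 1) * (p ^ n - i)) ∣ ((p ^ n).choose i : R) := by
    refine h2.trans ?_
    obtain ⟨c, hc⟩ := h1
    exact ⟨c, by rw [hc]; push_cast; rfl⟩
  obtain ⟨r, hr⟩ := h3
  exact ⟨r, by rw [hr, mul_comm]⟩

theorem binom {T : Type u} [CommRing T] (x : T) {q : ℕ} (hq : q ≠ 0) :
    (1 + x) ^ q = 1 + (x ^ q + ∑ i ∈ Finset.Ico 1 q, (q.choose i : T) * x ^ i) := by
  rw [add_comm 1 x, add_pow, Finset.sum_range_succ, Finset.range_eq_Ico,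
    Finset.sum_eq_sum_Ico_succ_bot (Nat.pos_of_ne_zero hq)]
  simp only [one_pow, mul_one, pow_zero, Nat.choose_zero_right, Nat.choose_self, Nat.cast_one, zero_add]
  rw [Finset.sum_congr rfl fun i _ => mul_comm (x ^ i) (q.choose i : T)]
  ring

theorem main {A L : Type u} [CommRing A] [IsDomain A] [IsIntegrallyClosed A] [CommRing L] [Algebra A L]
    (P : A) (hP : P ≠ 0) [Algebra (Localization.Away P) L]
    [IsScalarTower A (Localization.Away P) L] (hinj : Function.Injective (algebraMap (Localization.Away P) L))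
    (hlift : ∀ a : A, IsUnit (Ideal.Quotient.mk (Ideal.span {P}) a) → IsUnit a)
    {p n j : ℕ} (hp : p.Prime) (r : ℕ → A)
    (hr : ∀ i, i ≠ 0 → i < p ^ n → ((p ^ n).choose i : A) = r i * P ^ ((j + 1) * (p ^ n - i)))
    (f g : Aˣ) (f₀ : A) (hfg : (f : A) * (g : A) ^ (p ^ n) = 1 + P ^ (j * p ^ n) * f₀)
    (hmax : ∀ (g' : Aˣ) (c : A), (f : A) * (g' : A) ^ (p ^ n) ≠ 1 + P ^ ((j + 1) * p ^ n) * c)
    (y : L) (hy : y ^ (p ^ n) = algebraMap A L f)
    (hred : (Ideal.span {algebraMap A (integralClosure A L) P}).IsRadical) (g₀ : A) :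
    f₀ - g₀ ^ (p ^ n) ∉ Ideal.span {P} := by
  classical
  intro hmem
  obtain ⟨e, he⟩ := Ideal.mem_span_singleton'.1 hmem
  set q := p ^ n with hqdef
  have hq0 : q ≠ 0 := pow_ne_zero _ hp.ne_zero
  let a : A →+* L := algebraMap A L
  have hPu : IsUnit (a P) := by
    change IsUnit (algebraMap A L P)
    rw [IsScalarTower.algebraMap_apply A (Localization.Away P) L]
    exact (IsLocalization.Away.algebraMap_isUnit P).map _
  obtain ⟨π, hπ⟩ := hPu.exists_left_inv
  have hchoose : ∀ i ∈ Finset.Ico 1 q, ((q.choose i : ℕ) : L) = a (r i) * a P ^ ((j + 1) * (q - i)) := by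
    intro i hi
    rw [Finset.mem_Ico] at hi
    rw [← map_pow, ← map_mul, ← hr i (by omega) hi.2, map_natCast]
  have hy' : y ^ q = a f := hy
  -- `z`
  set z : L := (y * a g - 1) * π ^ j with hz
  have hzy : 1 + a P ^ j * z = y * a g := by
    have h1 : a P ^ j * π ^ j = 1 := by rw [← mul_pow, mul_comm, hπ, one_pow]
    rw [hz]; linear_combination (y * a g - 1) * h1
  have hzeq : z ^ q + a P * ∑ i ∈ Finset.Ico 1 q, a (r i * P ^ (q - i - 1)) * z ^ i = a f₀ := by
    have h1 := congrArg (· ^ q) hzy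
    rw [binom _ hq0, mul_pow, mul_pow y, hy', ← map_pow a (g : A) q, ← map_mul, hfg, map_add, map_one, map_mul, map_pow] at h1
    have h1' := add_left_cancel h1
    have h2 : ∑ i ∈ Finset.Ico 1 q, (q.choose i : L) * (a P ^ j * z) ^ i =
        a P ^ (j * q) * (a P * ∑ i ∈ Finset.Ico 1 q, a (r i * P ^ (q - i - 1)) * z ^ i) := by
      rw [Finset.mul_sum, Finset.mul_sum]
      refine Finset.sum_congr rfl fun i hi => ?_
      rw [hchoose i hi, map_mul, map_pow, mul_pow, ← pow_mul]
      rw [Finset.mem_Ico] at hi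
      obtain ⟨k, hk⟩ : ∃ k, q = i + (k + 1) := ⟨q - i - 1, by omega⟩
      rw [show q - i - 1 = k by omega, show q - i = k + 1 by omega, hk]
      ring
    rw [h2, ← pow_mul, ← mul_add, mul_comm j q] at h1'
    rw [mul_comm q j] at h1'
    exact (hPu.pow _).mul_left_cancel h1'
  have hzint : IsIntegral A z := by
    let Q : A[X] := ∑ i ∈ Finset.Ico 1 q, C (P * (r i * P ^ (q - i - 1))) * X ^ i - C f₀
    have hQ : Q.degree < (q : WithBot ℕ) := by
      refine (degree_sub_le _ _).trans_lt (max_lt ?_ ?_)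
      · refine (degree_sum_le _ _).trans_lt ((Finset.sup_lt_iff (WithBot.bot_lt_coe q)).2 fun i hi => ?_)
        exact (degree_C_mul_X_pow_le i _).trans_lt (WithBot.coe_lt_coe.2 (Finset.mem_Ico.1 hi).2)
      · exact degree_C_le.trans_lt (by exact_mod_cast Nat.pos_of_ne_zero hq0)
    refine ⟨X ^ q + Q, monic_X_pow_add hQ, ?_⟩
    rw [← aeval_def]
    simp only [Q, map_add, map_sub, map_pow, map_sum, map_mul, aeval_X, aeval_C]
    rw [← hzeq, Finset.mul_sum]
    simp only [map_mul, map_pow]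
    change z ^ q + (∑ i ∈ _, a P * (a (r i) * a P ^ (q - i - 1)) * z ^ i - _) = 0
    rw [add_sub, sub_eq_zero]
    congr 1
    exact Finset.sum_congr rfl fun i _ => by ring
  -- `z ≡ g₀` modulo `P`
  let N := integralClosure A L
  let zN : N := ⟨z, hzint⟩
  have hzN : (zN ^ q - algebraMap A N f₀ : N) ∈ Ideal.span {algebraMap A N P} := by
    refine Ideal.mem_span_singleton'.2 ⟨-(∑ i ∈ Finset.Ico 1 q, algebraMap A N (r i * P ^ (q - i - 1)) * zN ^ i), Subtype.ext ?_⟩
    push_cast
    simp only [a, zN, map_mul, map_pow] at hzeq ⊢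
    rw [← hzeq]
    ring
  have hdiv : (zN - algebraMap A N g₀) ^ q ∈ Ideal.span {algebraMap A N P} := by
    have hb := binom (T := N) ((zN - algebraMap A N g₀)) hq0
    -- expand `zN ^ q = (g₀ + (zN - g₀)) ^ q`
    have hexp : (algebraMap A N g₀ + (zN - algebraMap A N g₀)) ^ q - algebraMap A N g₀ ^ q -
        (zN - algebraMap A N g₀) ^ q ∈ Ideal.span {algebraMap A N P} := by
      rw [add_pow, Finset.sum_range_succ, Finset.range_eq_Ico, Finset.sum_eq_sum_Ico_succ_bot (Nat.pos_of_ne_zero hq0)]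
      simp only [pow_zero, one_mul, Nat.choose_zero_right, Nat.choose_self, Nat.cast_one, mul_one, zero_add,
        Nat.sub_zero, Nat.sub_self]
      rw [show ∀ s t u : N, s + t + u - u - s = t from fun s t u => by ring]
      refine Ideal.sum_mem _ fun i hi => Ideal.mul_mem_left _ _ ?_
      rw [Finset.mem_Ico] at hi
      rw [← map_natCast (algebraMap A N), hr i (by omega) hi.2, map_mul, map_pow]
      exact Ideal.mul_mem_left _ _ (Ideal.pow_mem_of_mem _ (Ideal.mem_span_singleton_self _) _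
        (Nat.mul_pos (Nat.succ_pos j) (by omega)))
    rw [add_sub_cancel] at hexp
    have h3 : algebraMap A N f₀ - algebraMap A N g₀ ^ q ∈ Ideal.span {algebraMap A N P} := by
      rw [← map_pow, ← map_sub, ← he, map_mul]
      exact Ideal.mul_mem_left _ _ (Ideal.mem_span_singleton_self _)
    have := sub_mem (add_mem hzN h3) hexp
    convert! this using 1
    ring
  obtain ⟨w, hw⟩ := Ideal.mem_span_singleton'.1 (hred ⟨q, hdiv⟩)
  have hwL : (w : L) * a P = z - a g₀ := by
    have := congrArg (Subtype.val : N → L) hw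
    push_cast at this
    exact this
  -- `1 + P^j g₀` is a unit
  have hh : IsUnit (1 + P ^ j * g₀) := by
    refine hlift _ ?_
    rcases Nat.eq_zero_or_pos j with rfl | hjp
    · have h4 : Ideal.Quotient.mk (Ideal.span {P}) ((1 + g₀) ^ q) = Ideal.Quotient.mk (Ideal.span {P}) ((f : A) * (g : A) ^ q) := by
        rw [Ideal.Quotient.eq]
        have hc : ∀ i ∈ Finset.Ico 1 q, ((q.choose i : ℕ) : A) ∈ Ideal.span {P} := fun i hi => by
          rw [Finset.mem_Ico] at hi
          rw [hr i (by omega) hi.2]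
          exact Ideal.mul_mem_left _ _ (Ideal.pow_mem_of_mem _ (Ideal.mem_span_singleton_self _) _
            (Nat.mul_pos Nat.one_pos (by omega)))
        rw [binom _ hq0, hfg, zero_mul, pow_zero, one_mul, show ∀ s t : A, 1 + (g₀ ^ q + s) - (1 + t) = s - (t - g₀ ^ q) from fun s t => by ring]
        exact sub_mem (Ideal.sum_mem _ fun i hi => Ideal.mul_mem_right _ _ (hc i hi)) hmem
      rw [pow_zero, one_mul, ← isUnit_pow_iff hq0, ← map_pow, h4]
      exact ((f.isUnit).mul (g.isUnit.pow _)).map _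
    · have : Ideal.Quotient.mk (Ideal.span {P}) (1 + P ^ j * g₀) = 1 := by
        rw [← map_one (Ideal.Quotient.mk (Ideal.span {P})), Ideal.Quotient.eq, add_sub_cancel_left]
        exact Ideal.mul_mem_right _ _ (Ideal.pow_mem_of_mem _ (Ideal.mem_span_singleton_self _) _ hjp)
      rw [this]; exact isUnit_one
  obtain ⟨h, hh⟩ := hh
  let g' : Aˣ := g * h⁻¹
  set w' : L := (w : L) * a ((h⁻¹ : Aˣ) : A) with hw'
  have hinv : a ((h⁻¹ : Aˣ) : A) * a (h : A) = 1 := by rw [← map_mul, Units.inv_mul, map_one]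
  have hha : a (h : A) = 1 + a P ^ j * a g₀ := by rw [hh, map_add, map_one, map_mul, map_pow]
  have hyg' : 1 + a P ^ (j + 1) * w' = y * a (g' : A) := by
    simp only [g', Units.val_mul, map_mul, hw']
    rw [pow_succ]
    linear_combination (a ((h⁻¹ : Aˣ) : A)) * hzy + (a P ^ j * a ((h⁻¹ : Aˣ) : A)) * hwL
      + (a ((h⁻¹ : Aˣ) : A)) * hha - (1 : L) * hinv
  have hw'int : IsIntegral A w' := w.2.mul isIntegral_algebraMap
  set cL : L := w' ^ q + ∑ i ∈ Finset.Ico 1 q, a (r i) * w' ^ i with hcL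
  have hcint : IsIntegral A cL :=
    (hw'int.pow q).add (IsIntegral.sum _ fun i _ => isIntegral_algebraMap.mul (hw'int.pow i))
  have hfin : a ((f : A) * (g' : A) ^ q) = 1 + a P ^ ((j + 1) * q) * cL := by
    have h1 := congrArg (· ^ q) hyg'
    rw [binom _ hq0, mul_pow, mul_pow y, hy', ← map_pow a (g' : A) q, ← map_mul] at h1
    rw [← h1, hcL, mul_add, ← pow_mul, Finset.mul_sum]
    congr 2
    refine Finset.sum_congr rfl fun i hi => ?_
    rw [hchoose i hi, mul_pow, ← pow_mul]
    rw [Finset.mem_Ico] at hi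
    obtain ⟨k, hk⟩ : ∃ k, q = i + k := ⟨q - i, by omega⟩
    rw [show q - i = k by omega, hk]
    ring
  -- descend `cL` to `A`
  let B := Localization.Away P
  obtain ⟨πB, hπB⟩ := (IsLocalization.Away.algebraMap_isUnit (S := B) P).exists_left_inv
  set cB : B := (algebraMap A B ((f : A) * (g' : A) ^ q) - 1) * πB ^ ((j + 1) * q) with hcB
  have hcBL : algebraMap B L cB = cL := by
    have hπ' : algebraMap B L πB * a P = 1 := by
      change _ * algebraMap A L P = 1
      rw [IsScalarTower.algebraMap_apply A B L, ← map_mul, hπB, map_one]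
    have hπ'' : algebraMap B L πB ^ ((j + 1) * q) * a P ^ ((j + 1) * q) = 1 := by rw [← mul_pow, hπ', one_pow]
    rw [hcB, map_mul, map_sub, map_one, map_pow, ← IsScalarTower.algebraMap_apply A B L, hfin, add_sub_cancel_left]
    linear_combination cL * hπ''
  have hcBint : IsIntegral A cB := (isIntegral_algHom_iff (IsScalarTower.toAlgHom A B L) hinj).1 (by
    change IsIntegral A (algebraMap B L cB); rwa [hcBL])
  let K := FractionRing A
  let ι : B →ₐ[A] K := IsLocalization.liftAlgHom (M := Submonoid.powers P) (f := Algebra.ofId A K) (fun s => by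
    obtain ⟨s, k, rfl⟩ := s
    change IsUnit (algebraMap A K (P ^ k))
    rw [map_pow]
    exact (isUnit_iff_ne_zero.2 ((map_ne_zero_iff _ (IsFractionRing.injective A K)).2 hP)).pow k)
  obtain ⟨c, hc⟩ := IsIntegrallyClosed.isIntegral_iff.1 (hcBint.map ι)
  apply hmax g' c
  apply IsFractionRing.injective A K
  rw [map_add, map_one, map_mul (algebraMap A K) (P ^ _), map_pow, hc, ← AlgHom.commutes ι, ← AlgHom.commutes ι,
    ← map_pow, ← map_mul, ← map_one ι, ← map_add]
  congr 1
  rw [hcB, mul_left_comm, ← mul_pow, mul_comm (algebraMap A B P), hπB, one_pow, mul_one, add_sub_cancel]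

end Groth.Agent.KummerLevel
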