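import Groth.Statements.S11458
import Groth.Agent.HBDef.Lift
import Mathlib

set_option autoImplicit false
universe u
open DefT

namespace Groth.Agent.S11458

/-- Let C be a local Artin ring with maximal ideal m, A a flat C-algebra of finite type whose special
fibre A₀ = A/mA is smooth over C/m, and I ⊆ A an ideal with A/I flat over C whose image I₀ in A₀ has
height ≥ 2 at every prime containing it (A₀/I₀ of codimension 2) and is generated by the signed
maximal minors of an (r+1) × r matrix φ₀ over A₀ for which 0 → A₀^r → A₀^{r+1} → A₀ (matrix, then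
minors) is exact. Then there is an (r+1) × r matrix φ over A whose signed maximal minors generate I
and for which 0 → A^r → A^{r+1} → A is exact, so that 0 → A^r → A^{r+1} → A → A/I → 0 is a
resolution. -/
theorem result (C : Type u) [CommRing C]
    [IsLocalRing C] [IsArtinianRing C] (A : Type u) [CommRing A] [Algebra C A] [Module.Flat C A]
    [Algebra.FiniteType C A]
    [Algebra.Smooth (C ⧸ IsLocalRing.maximalIdeal C) (A ⧸ (IsLocalRing.maximalIdeal C).map (algebraMap C A))]
    (I : Ideal A) [Module.Flat C (A ⧸ I)]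
    (hcodim : ∀ p : Ideal (A ⧸ (IsLocalRing.maximalIdeal C).map (algebraMap C A)), p.IsPrime →
      I.map (Ideal.Quotient.mk ((IsLocalRing.maximalIdeal C).map (algebraMap C A))) ≤ p → (2 : ℕ∞) ≤ p.height)
    (r : ℕ)
    (φ₀ : Matrix (Fin (r + 1)) (Fin r) (A ⧸ (IsLocalRing.maximalIdeal C).map (algebraMap C A)))
    (h₀ : (Ideal.span (Set.range (fun i : Fin (r + 1) => (-1 : (A ⧸ (IsLocalRing.maximalIdeal C).map (algebraMap C A))) ^ (i : ℕ) * ((φ₀).submatrix i.succAbove id).det)) = I.map (Ideal.Quotient.mk ((IsLocalRing.maximalIdeal C).map (algebraMap C A))) ∧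
        Function.Injective (φ₀).mulVecLin ∧
        LinearMap.range (φ₀).mulVecLin = LinearMap.ker (Fintype.linearCombination (A ⧸ (IsLocalRing.maximalIdeal C).map (algebraMap C A)) (fun i : Fin (r + 1) => (-1 : (A ⧸ (IsLocalRing.maximalIdeal C).map (algebraMap C A))) ^ (i : ℕ) * ((φ₀).submatrix i.succAbove id).det)))) :
    ∃ φ : Matrix (Fin (r + 1)) (Fin r) A, (Ideal.span (Set.range (fun i : Fin (r + 1) => (-1 : A) ^ (i : ℕ) * ((φ).submatrix i.succAbove id).det)) = I ∧
        Function.Injective (φ).mulVecLin ∧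
        LinearMap.range (φ).mulVecLin = LinearMap.ker (Fintype.linearCombination A (fun i : Fin (r + 1) => (-1 : A) ^ (i : ℕ) * ((φ).submatrix i.succAbove id).det))) := by
  obtain ⟨hspan, hinj, hex⟩ := h₀
  obtain ⟨n, hn⟩ := Groth.Agent.FlatLift.exists_pow_eq_bot C
  haveI : IsNoetherianRing A := Algebra.FiniteType.isNoetherianRing C A
  let P := (IsLocalRing.maximalIdeal C).map (algebraMap C A)
  have hP : P = (IsLocalRing.maximalIdeal C).map (algebraMap C A) := rfl
  have hnil : ∀ x, Ideal.Quotient.mk P x = 0 → IsNilpotent x := fun x hx => ⟨n, by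
    have h := Ideal.pow_mem_pow (Ideal.Quotient.eq_zero_iff_mem.1 hx) n
    rw [hP, ← Ideal.map_pow, hn, Ideal.map_bot] at h
    exact (Submodule.mem_bot _).1 h⟩
  obtain ⟨a, ha, hab⟩ := Groth.Agent.FlatLift.exists_lifts P I (Groth.Agent.HilbBurch.Δ φ₀) hspan.symm
  have hI : I = Ideal.span (Set.range a) := Groth.Agent.FlatLift.eq_span_of_flat _ hn I a ha (by
    rw [← hspan, funext hab]
    exact le_rfl)
  haveI : Module.Flat C (A ⧸ Ideal.span (Set.range a)) := hI ▸ (inferInstance : Module.Flat C (A ⧸ I))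
  obtain ⟨ψ, hψ, hψa⟩ := Groth.Agent.HBDef.exists_lift_relations (IsLocalRing.maximalIdeal C) a φ₀ (fun j => by
    rw [← Groth.Agent.HilbBurch.sum_Δ_mul φ₀ j]
    exact Finset.sum_congr rfl fun i _ => by rw [hab i])
  obtain ⟨hinj', hex', -⟩ := Groth.Agent.HBDef.exact_of_residue hn ψ (Groth.Agent.HilbBurch.Δ ψ)
    (Groth.Agent.HilbBurch.sum_Δ_mul ψ) (fun x hx j => Ideal.Quotient.eq_zero_iff_mem.1 (congrFun
      (hinj (show φ₀.mulVecLin (fun j => Ideal.Quotient.mk P (x j)) = φ₀.mulVecLin 0 from by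
        rw [map_zero]
        funext i
        rw [Matrix.mulVecLin_apply, ← hψ, Groth.Agent.HBDef.mulVec_map]
        exact Ideal.Quotient.eq_zero_iff_mem.2 (hx i))) j))
    (fun w hw => by
      have h : (fun i => Ideal.Quotient.mk P (w i)) ∈ LinearMap.range φ₀.mulVecLin := by
        rw [hex, LinearMap.mem_ker]
        refine (Groth.Agent.HBDef.linearCombination_eq _ _).trans ?_
        show ∑ i, Ideal.Quotient.mk P (w i) * Groth.Agent.HilbBurch.Δ φ₀ i = 0
        simp only [← hψ, Groth.Agent.HBDef.Δ_map]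
        exact (Groth.Agent.HBDef.sum_map_mulVec (Ideal.Quotient.mk P) w _).trans
          (Ideal.Quotient.eq_zero_iff_mem.2 hw)
      obtain ⟨xb, hxb⟩ := h
      choose x hx using fun j => Ideal.Quotient.mk_surjective (xb j)
      refine ⟨x, fun i => ?_⟩
      rw [← Ideal.Quotient.eq]
      have h2 := congrFun hxb i
      rw [Matrix.mulVecLin_apply, show xb = fun j => Ideal.Quotient.mk P (x j) from funext fun j => (hx j).symm,
        ← hψ, Groth.Agent.HBDef.mulVec_map] at h2
      exact h2.symm)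
  obtain ⟨c, hc⟩ := Groth.Agent.HBDef.exists_smul_Δ ψ hinj' hex' a hψa
  refine ⟨ψ, ?_, hinj', hex'⟩
  rw [hI]
  exact (Groth.Agent.HBDef.span_eq_of_smul ψ (Ideal.Quotient.mk P) hnil a c hc (by rw [hψ]; exact hinj)
    (fun i => by rw [hψ]; exact hab i)).symm

end Groth.Agent.S11458
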