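import Groth.Statements.S11449
import Groth.Agent.HBDef.Basic
import Groth.Agent.AusBuc.Basic
import Groth.Agent.LocH.Annihilator
import Mathlib

set_option autoImplicit false
universe u
open DefT

namespace Groth.Agent.S11449

open IsLocalRing in
theorem le_card_of_minimal {A : Type u} [CommRing A] [IsLocalRing A] {M : Type u} [AddCommGroup M] [Module A M]
    {n s : ℕ} (f : (Fin n → A) →ₗ[A] M) (hf : Function.Surjective f)
    (hker : ∀ v ∈ LinearMap.ker f, ∀ j, v j ∈ maximalIdeal A)
    (g : (Fin s → A) →ₗ[A] M) (hg : Function.Surjective g) : n ≤ s := by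
  classical
  choose w hw using fun l => hf (g (Pi.single l 1))
  have key : ∀ v : Fin n → A, ∃ u : Fin s → A, ∀ j, v j - ∑ l, u l * w l j ∈ maximalIdeal A := by
    intro v
    obtain ⟨u, hu⟩ := hg (f v)
    refine ⟨u, fun j => ?_⟩
    have h0 : v - ∑ l, u l • w l ∈ LinearMap.ker f := by
      rw [LinearMap.mem_ker, map_sub, map_sum, ← hu, sub_eq_zero]
      conv_lhs => rw [← Finset.univ_sum_single u]
      rw [map_sum]
      refine Finset.sum_congr rfl fun l _ => ?_
      rw [map_smul, hw, ← map_smul, ← Pi.single_smul, smul_eq_mul, mul_one]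
    simpa [Finset.sum_apply] using hker _ h0 j
  let L : (Fin s → ResidueField A) →ₗ[ResidueField A] (Fin n → ResidueField A) :=
    Fintype.linearCombination (ResidueField A) fun l => fun j => residue A (w l j)
  have hL : Function.Surjective L := by
    intro y
    choose v hv using fun j => residue_surjective (y j)
    obtain ⟨u, hu⟩ := key v
    refine ⟨fun l => residue A (u l), funext fun j => ?_⟩
    have h := (residue_eq_zero_iff _).2 (hu j)
    rw [map_sub, sub_eq_zero, map_sum, hv] at h
    simp [L, Fintype.linearCombination_apply, h, map_mul]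
  have h1 := L.finrank_range_le
  rw [LinearMap.range_eq_top.2 hL, finrank_top] at h1
  simpa using h1


/-- Let A be a regular local ring and I an ideal such that A/I is a Cohen–Macaulay local ring whose
Krull dimension is dim A − 2. Then for some r there is an (r+1) × r matrix φ with entries in A such
that, writing f_i for (−1)^i times the determinant of φ with its i-th row removed (i = 0, …, r), the
elements f_0, …, f_r generate I, no family of fewer than r + 1 elements generates I, multiplication
by φ is an injective map A^r → A^{r+1}, and the image of that map is exactly the kernel of the map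
A^{r+1} → A sending v to Σ_i v_i f_i; together with A → A/I this is a free resolution 0 → A^r →
A^{r+1} → A → A/I → 0. -/
theorem result
    (A : Type u) [CommRing A] [IsRegularLocalRing A] (I : Ideal A)
    [LocCoh.IsCohenMacaulayLocalRing (A ⧸ I)]
    (hcodim : ringKrullDim (A ⧸ I) + 2 = ringKrullDim A) :
    ∃ (r : ℕ) (φ : Matrix (Fin (r + 1)) (Fin r) A),
      Ideal.span (Set.range (fun i : Fin (r + 1) => (-1 : A) ^ (i : ℕ) * (φ.submatrix i.succAbove id).det)) = I ∧
      I.spanFinrank = r + 1 ∧
      Function.Injective φ.mulVecLin ∧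
      LinearMap.range φ.mulVecLin =
        LinearMap.ker (Fintype.linearCombination A (fun i : Fin (r + 1) => (-1 : A) ^ (i : ℕ) * (φ.submatrix i.succAbove id).det)) := by
  classical
  obtain ⟨d, hd⟩ := Groth.Agent.SerreReg.exists_dim_nat A
  obtain ⟨e, he⟩ := Groth.Agent.SerreReg.exists_dim_nat (A ⧸ I)
  have hde : e + 2 = d := by
    rw [he, hd] at hcodim
    exact_mod_cast hcodim
  have hsurj : Function.Surjective (algebraMap A (A ⧸ I)) := Ideal.Quotient.mk_surjective
  have hdep : ((e : ℕ) : ℕ∞) ≤ LocCoh.depth A (A ⧸ I) := by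
    rw [Groth.Agent.LocH.depth_eq_of_surjective (B := A ⧸ I) hsurj (A ⧸ I)]
    have h := LocCoh.IsCohenMacaulayLocalRing.supportDim_eq_depth (R := A ⧸ I)
    rw [Module.supportDim_self_eq_ringKrullDim, he] at h
    exact le_of_eq (by exact_mod_cast h)
  have hpd : Groth.Agent.SerreReg.PdLE A (A ⧸ I) 2 :=
    Groth.Agent.LocH.pdLE_of_vanish A hd 2 (A ⧸ I) fun i hi =>
      (Groth.Agent.LocH.le_idealDepth_iff _ _ e).1 hdep i (by omega)
  have hpdI : Groth.Agent.SerreReg.PdLE A I 1 := by
    have h := (Groth.Agent.SerreReg.pdLE_succ_iff (Submodule.mkQ (I : Submodule A A)) (Submodule.mkQ_surjective _) 1).1 hpd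
    rw [Submodule.ker_mkQ] at h
    exact h
  obtain ⟨n, f, hf, hker⟩ := Groth.Agent.AusBuc.exists_minimal_presentation (R := A) I
  have hK : Module.Projective A (LinearMap.ker f) :=
    (Groth.Agent.SerreReg.pdLE_zero_iff _).1 ((Groth.Agent.SerreReg.pdLE_succ_iff f hf 0).1 hpdI)
  have hKfp : Module.FinitePresentation A (LinearMap.ker f) := Module.finitePresentation_of_finite _ _
  have hKfree : Module.Free A (LinearMap.ker f) := Module.free_of_flat_of_isLocalRing
  obtain ⟨m, ⟨b⟩⟩ : ∃ m, Nonempty (Module.Basis (Fin m) A (LinearMap.ker f)) :=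
    ⟨_, ⟨Module.finBasis A (LinearMap.ker f)⟩⟩
  let T : (Fin m → A) →ₗ[A] (Fin n → A) := (LinearMap.ker f).subtype.comp b.equivFun.symm.toLinearMap
  let Ψ : Matrix (Fin n) (Fin m) A := LinearMap.toMatrix' T
  have hΨ : Ψ.mulVecLin = T := by
    rw [← Matrix.toLin'_apply', Matrix.toLin'_toMatrix']
  have hrange : LinearMap.range Ψ.mulVecLin = LinearMap.ker f := by
    rw [hΨ, LinearMap.range_comp, LinearEquiv.range, Submodule.map_top, Submodule.range_subtype]
  have hΨinj : Function.Injective Ψ.mulVecLin := by
    rw [hΨ]; exact Subtype.val_injective.comp b.equivFun.symm.injective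
  let π : (Fin n → A) →ₗ[A] A := (Submodule.subtype I).comp f
  have hπker : LinearMap.ker π = LinearMap.range Ψ.mulVecLin := by
    rw [hrange, LinearMap.ker_comp, Submodule.ker_subtype, Submodule.comap_bot]
  have hπrange : LinearMap.range π = I := by
    rw [LinearMap.range_comp, LinearMap.range_eq_top.2 hf, Submodule.map_top, Submodule.range_subtype]
  have hI0 : I ≠ ⊥ := by
    rintro rfl
    have h := ringKrullDim_eq_of_ringEquiv (RingEquiv.quotientBot A)
    rw [he, hd] at h
    have : e = d := by exact_mod_cast h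
    omega
  have hnm : n = m + 1 := Groth.Agent.HilbBurch.card_eq Ψ π hΨinj hπker (by rw [hπrange]; exact hI0)
  clear_value Ψ π
  clear hΨ hrange T b hK hKfp hKfree
  subst hnm
  obtain ⟨-, hpair⟩ := Groth.Agent.HilbBurch.main Ψ π hΨinj hπker
  obtain ⟨-, hex'⟩ := Groth.Agent.HilbBurch.exact_of_pair Ψ hpair
  have hex : LinearMap.range Ψ.mulVecLin =
      LinearMap.ker (Fintype.linearCombination A (Groth.Agent.HilbBurch.Δ Ψ)) := by
    refine le_antisymm ?_ fun w hw => hex' w ?_
    · rintro _ ⟨u, rfl⟩
      rw [LinearMap.mem_ker, Groth.Agent.HBDef.linearCombination_eq, ← Groth.Agent.HilbBurch.sum_Δ_mulVec Ψ u]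
      exact Finset.sum_congr rfl fun i _ => mul_comm _ _
    · rw [LinearMap.mem_ker, Groth.Agent.HBDef.linearCombination_eq] at hw
      rw [← hw]
      exact Finset.sum_congr rfl fun i _ => mul_comm _ _
  obtain ⟨c, hc⟩ := Groth.Agent.HBDef.exists_smul_Δ Ψ hΨinj hex (fun i => π (Pi.single i 1)) fun j => by
    have h : π (fun i => Ψ i j) = 0 := by
      rw [← LinearMap.mem_ker, hπker]
      exact ⟨Pi.single j 1, funext fun i => by simp⟩
    rw [← h]
    conv_rhs => rw [← Finset.univ_sum_single (fun i => Ψ i j)]
    rw [map_sum]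
    refine Finset.sum_congr rfl fun i _ => ?_
    rw [show (Pi.single i (Ψ i j) : Fin (m + 1) → A) = Ψ i j • Pi.single i 1 by
      rw [← Pi.single_smul, smul_eq_mul, mul_one], map_smul, smul_eq_mul, mul_comm]
  have hIspan : I = Ideal.span (Set.range fun i => π (Pi.single i 1)) := by
    refine le_antisymm (fun x hx => ?_) (Ideal.span_le.2 ?_)
    · rw [← hπrange] at hx
      obtain ⟨w, rfl⟩ := hx
      rw [← Finset.univ_sum_single w, map_sum]
      refine Ideal.sum_mem _ fun i _ => ?_
      rw [show (Pi.single i (w i) : Fin (m + 1) → A) = w i • Pi.single i 1 by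
        rw [← Pi.single_smul, smul_eq_mul, mul_one], map_smul]
      exact Ideal.mul_mem_left _ _ (Ideal.subset_span ⟨i, rfl⟩)
    · rintro _ ⟨i, rfl⟩
      show π (Pi.single i 1) ∈ I
      exact hπrange.le (LinearMap.mem_range_self π _)
  have hcu : IsUnit c := by
    by_contra hu
    have hle : I ≤ Ideal.span {c} := by
      rw [hIspan, Ideal.span_le]
      rintro _ ⟨i, rfl⟩
      exact Ideal.mem_span_singleton.2 ⟨_, hc i⟩
    have hjac : (({c} : Finset A) : Set A) ⊆ Ring.jacobson A := by
      rw [Finset.coe_singleton, Set.singleton_subset_iff, SetLike.mem_coe, IsLocalRing.ringJacobson_eq_maximalIdeal]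
      exact hu
    have h1 := ringKrullDim_le_ringKrullDim_quotient_add_card ({c} : Finset A) hjac
    rw [Finset.coe_singleton, Finset.card_singleton] at h1
    have h2 := ringKrullDim_le_of_surjective _ (Ideal.Quotient.factor_surjective hle)
    have h3 := h1.trans (add_le_add h2 le_rfl)
    rw [he, hd] at h3
    have : d ≤ e + 1 := by exact_mod_cast h3
    omega
  refine ⟨m, Ψ, ?_, ?_, hΨinj, hex⟩
  · refine Eq.trans ?_ hIspan.symm
    refine le_antisymm (Ideal.span_le.2 ?_) (Ideal.span_le.2 ?_)
    · rintro _ ⟨i, rfl⟩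
      show Groth.Agent.HilbBurch.Δ Ψ i ∈ _
      rw [show Groth.Agent.HilbBurch.Δ Ψ i = ↑hcu.unit⁻¹ * π (Pi.single i 1) by
        rw [hc, ← mul_assoc, hcu.val_inv_mul, one_mul]]
      exact Ideal.mul_mem_left _ _ (Ideal.subset_span ⟨i, rfl⟩)
    · rintro _ ⟨i, rfl⟩
      show π _ ∈ _
      rw [hc]
      exact Ideal.mul_mem_left _ _ (Ideal.subset_span ⟨i, rfl⟩)
  · refine le_antisymm ?_ ?_
    · rw [hIspan]
      exact (Submodule.spanFinrank_span_le_ncard_of_finite (Set.finite_range _)).trans (by
        rw [← Set.image_univ]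
        exact (Set.ncard_image_le Set.finite_univ).trans (by simp))
    · obtain ⟨s, hs1, hs2⟩ := (IsNoetherian.noetherian I : (I : Submodule A A).FG).exists_span_finset_card_eq_spanFinrank
      rw [← hs1]
      let gen : Fin s.card → I := fun l => ⟨(s.equivFin.symm l : A), hs2.le (Submodule.subset_span (s.equivFin.symm l).2)⟩
      refine le_card_of_minimal f hf hker (Fintype.linearCombination A gen) fun x => ?_
      have hx : (x : A) ∈ Submodule.span A (Set.range fun l => (gen l : A)) := by
        have h : Set.range (fun l => (gen l : A)) = (s : Set A) := by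
          ext z
          constructor
          · rintro ⟨l, rfl⟩; exact (s.equivFin.symm l).2
          · intro hz; exact ⟨s.equivFin ⟨z, hz⟩, by simp [gen]⟩
        rw [h, hs2]
        exact x.2
      obtain ⟨w, hw⟩ := (Submodule.mem_span_range_iff_exists_fun A).1 hx
      exact ⟨w, Subtype.ext (by simpa [Fintype.linearCombination_apply] using hw)⟩

end Groth.Agent.S11449
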