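import Groth.Statements.S11460
import Groth.Agent.HBSpread.Basic
import Groth.Agent.S11449
import Groth.Agent.SmLocalST.SmoothField
import Groth.Agent.CMChart.Scheme
import Groth.Agent.CMFlat.RegImm

set_option autoImplicit false
universe u
open CategoryTheory AlgebraicGeometry
open DefT

namespace Groth.Agent.S11460

/-- Let X be smooth over a field k and Y ⊆ X a closed subscheme which is Cohen–Macaulay of codimension 2
(all local rings of Y Cohen–Macaulay, and dim O_{X,y} = dim O_{Y,y} + 2 at every point y of Y). Then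
each point of Y has an affine open neighbourhood U in X and an (r+1) × r matrix φ of functions on U
whose signed maximal minors f_i generate the ideal of Y ∩ U and give an exact sequence 0 → O(U)^r →
O(U)^{r+1} → O(U), hence a resolution of O_{Y ∩ U} on the affine U. -/
theorem result (k : Type u) [Field k]
    (X Y : Scheme.{u}) (f : X ⟶ Spec (CommRingCat.of k)) [Smooth f] (ι : Y ⟶ X) [IsClosedImmersion ι]
    (hCM : ∀ y : Y, LocCoh.IsCohenMacaulayLocalRing (Y.presheaf.stalk y))
    (hcodim : ∀ y : Y, ringKrullDim (Y.presheaf.stalk y) + 2 = ringKrullDim (X.presheaf.stalk (ι.base y)))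
    (y : Y) :
    ∃ U : X.affineOpens, ι.base y ∈ (U : X.Opens) ∧ ∃ (r : ℕ) (φ : Matrix (Fin (r + 1)) (Fin r) Γ(X, U)),
      (Ideal.span (Set.range (fun i : Fin (r + 1) => (-1 : Γ(X, U)) ^ (i : ℕ) * ((φ).submatrix i.succAbove id).det)) = ι.ker.ideal U ∧
        Function.Injective (φ).mulVecLin ∧
        LinearMap.range (φ).mulVecLin = LinearMap.ker (Fintype.linearCombination Γ(X, U) (fun i : Fin (r + 1) => (-1 : Γ(X, U)) ^ (i : ℕ) * ((φ).submatrix i.succAbove id).det))) := by
  classical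
  haveI : IsLocallyNoetherian X := LocallyOfFiniteType.isLocallyNoetherian f
  obtain ⟨U₀, hU₀, hy, -⟩ := exists_isAffineOpen_mem_and_subset (x := ι.base y) (U := (⊤ : X.Opens)) trivial
  let V : X.affineOpens := ⟨U₀, hU₀⟩
  haveI : IsNoetherianRing Γ(X, U₀) := IsLocallyNoetherian.component_noetherian V
  let L := X.presheaf.stalk (ι.base y)
  letI : Algebra Γ(X, U₀) L := (X.presheaf.germ U₀ (ι.base y) hy).hom.toAlgebra
  let p := (hU₀.primeIdealOf ⟨ι.base y, hy⟩).asIdeal
  haveI : IsLocalization.AtPrime L p := hU₀.isLocalization_stalk ⟨ι.base y, hy⟩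
  let I : Ideal Γ(X, U₀) := ι.ker.ideal V
  have hker : RingHom.ker (ι.stalkMap y).hom = I.map (algebraMap Γ(X, U₀) L) := by
    rw [CMFlat.ker_stalkMap_eq ι y V hy]
    congr 1
    exact (ι.ker_apply V).symm
  let e : L ⧸ I.map (algebraMap Γ(X, U₀) L) ≃+* Y.presheaf.stalk y :=
    (Ideal.quotEquivOfEq hker.symm).trans (RingHom.quotientKerEquivOfSurjective (ι.stalkMap_surjective y))
  haveI : IsRegularLocalRing L := SmLocalST.isRegularLocalRing_stalk_of_smooth_field f _
  haveI : LocCoh.IsCohenMacaulayLocalRing (L ⧸ I.map (algebraMap Γ(X, U₀) L)) :=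
    CMChart.isCohenMacaulayLocalRing_of_ringEquiv e.symm (hCM y)
  obtain ⟨r, φ₀, h1, -, h2, h3⟩ := S11449.result L (I.map (algebraMap Γ(X, U₀) L))
    (by rw [ringKrullDim_eq_of_ringEquiv e]; exact hcodim y)
  obtain ⟨Ψ, g, hg, hΨ⟩ := HBSpread.exists_away p L I φ₀ (HBSpread.HB.of ⟨h1, h2, h3⟩)
  letI : Algebra Γ(X, U₀) Γ(X, X.basicOpen g) := (X.presheaf.map (homOfLE (X.basicOpen_le g)).op).hom.toAlgebra
  haveI : IsLocalization.Away g Γ(X, X.basicOpen g) := hU₀.isLocalization_basicOpen g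
  refine ⟨X.affineBasicOpen (U := V) g, ?_, r, Ψ.map (algebraMap Γ(X, U₀) Γ(X, X.basicOpen g)), ?_⟩
  · show ι.base y ∈ X.basicOpen g
    rw [X.mem_basicOpen g _ hy]
    exact IsLocalization.map_units L (⟨g, hg⟩ : p.primeCompl)
  · rw [← ι.ker.map_ideal_basicOpen V g]
    exact (hΨ Γ(X, X.basicOpen g)).result

end Groth.Agent.S11460
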