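import Groth.Statements.S12268
import Groth.Agent.RigidDef.ObsArt
import Groth.Agent.RigidDef.Tangent
import Groth.Agent.ArtObs.Models
import Groth.Agent.ArtPow.Present
import Groth.Agent.S12722

set_option autoImplicit false
universe u
open CategoryTheory CategoryTheory.Limits AlgebraicGeometry
open Deform

namespace Groth.Agent.S12268

theorem ringKrullDim_ps (k : Type u) [Field k] (d : ℕ) : ringKrullDim (MvPowerSeries (Fin d) k) = (d : WithBot ℕ∞) := by
  refine le_antisymm ?_ (Groth.Agent.ArtObs.dim_ps_ge k d)
  rw [← IsRegularLocalRing.spanFinrank_maximalIdeal, ← Groth.Agent.ArtPow.span_X_eq_maximalIdeal]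
  refine Nat.cast_le.2 ((Submodule.spanFinrank_span_le_ncard_of_finite (Set.finite_range _)).trans ?_)
  rw [← Set.image_univ]
  exact (Set.ncard_image_le Set.finite_univ).trans (by simp)

/-- equations of a quotient of a power series ring bound its dimension from below -/
theorem le_dim_add_card {P R : Type u} [CommRing P] [IsLocalRing P] [IsNoetherianRing P] [CommRing R]
    (q : P →+* R) (hq : Function.Surjective q) (hm : RingHom.ker q ≤ IsLocalRing.maximalIdeal P)
    (s : Finset P) (hs : Ideal.span (s : Set P) = RingHom.ker q) :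
    ringKrullDim P ≤ ringKrullDim R + (s.card : WithBot ℕ∞) := by
  refine (ringKrullDim_le_ringKrullDim_quotient_add_card (s := s) ?_).trans_eq ?_
  · rw [IsLocalRing.ringJacobson_eq_maximalIdeal]
    intro x hx
    exact hm (hs ▸ Submodule.subset_span hx)
  · rw [ringKrullDim_eq_of_ringEquiv ((Ideal.quotEquivOfEq hs).trans (RingHom.quotientKerEquivOfSurjective hq))]


/-- Let k be an algebraically closed field and B₀ a k-algebra with a finite presentation P =
k[X_i]/(f_s); let T¹ = T¹(B₀/k, B₀) and T² = T²(B₀/k, B₀) be the first and second cotangent modules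
computed from P, and assume T¹ is finite-dimensional over k. Then for every semiuniversal formal
deformation of Spec B₀ — a complete local Noetherian k-algebra R̄ with residue field k carrying a
miniversal family for the functor Def_{B₀} of isomorphism classes of deformations — one has dim R̄ ≤
dim_k T¹; if T² is finite-dimensional as well, dim_k T¹ ≤ dim R̄ + dim_k T²; and dim R̄ = dim_k T¹
holds exactly when Spec B₀ is unobstructed, i.e. Def_{B₀}(B) → Def_{B₀}(A) is surjective for every
surjection B → A of local Artinian k-algebras with residue field k. (The published statement writes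
the lower bound as dim_k T¹ − dim_k T² ≤ dim R̄, empty when T² is infinite-dimensional, and allows a
localisation of the polynomial ring as ambient algebra.) -/
theorem result
    {k : Type u} [Field k] [IsAlgClosed k] (B₀ : Type u) [CommRing B₀] [Algebra k B₀] {ι σ : Type u} [Finite ι] [Finite σ]
    (P : Algebra.Presentation k B₀ ι σ)
    [Module.Finite k (CotT.T1 P B₀)] (H : ArtFun.Hull (ArtFun.defFunctor (Λ := k) (Spec (CommRingCat.of B₀)) (Spec.map (CommRingCat.ofHom (algebraMap k B₀))))) :
    ringKrullDim H.ring.carrier ≤ ((Module.finrank k (CotT.T1 P B₀) : ℕ∞) : WithBot ℕ∞) ∧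
      (Module.Finite k (CotT.T2 P B₀) →
        ((Module.finrank k (CotT.T1 P B₀) : ℕ∞) : WithBot ℕ∞) ≤
          ringKrullDim H.ring.carrier + ((Module.finrank k (CotT.T2 P B₀) : ℕ∞) : WithBot ℕ∞)) ∧
      (ringKrullDim H.ring.carrier = ((Module.finrank k (CotT.T1 P B₀) : ℕ∞) : WithBot ℕ∞) ↔
        ArtFun.IsSmoothFunctor (ArtFun.defFunctor (Λ := k) (Spec (CommRingCat.of B₀)) (Spec.map (CommRingCat.ofHom (algebraMap k B₀))))) := by
  classical
  cases nonempty_fintype σ
  obtain ⟨d, J, hJ, ⟨e⟩⟩ := Groth.Agent.ArtPow.exists_presentation H.ring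
  let q : MvPowerSeries (Fin d) k →ₐ[k] H.ring.carrier := e.toAlgHom.comp (Ideal.Quotient.mkₐ k J)
  have hq : Function.Surjective q := e.surjective.comp Ideal.Quotient.mk_surjective
  have hsq : RingHom.ker q ≤ IsLocalRing.maximalIdeal (MvPowerSeries (Fin d) k) ^ 2 := fun f hf => by
    refine hJ (Ideal.Quotient.eq_zero_iff_mem.1 (e.injective ?_))
    rw [map_zero]
    exact RingHom.mem_ker.1 hf
  have hm : RingHom.ker q.toRingHom ≤ IsLocalRing.maximalIdeal (MvPowerSeries (Fin d) k) :=
    fun f hf => Ideal.pow_le_self two_ne_zero (hsq hf)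
  rw [Groth.Agent.RigidDef.finrank_T1_eq P H q hq hsq]
  have hps := ringKrullDim_ps k d
  have hle : ringKrullDim H.ring.carrier ≤ (d : WithBot ℕ∞) := hps ▸ ringKrullDim_le_of_surjective q.toRingHom hq
  have hobs : ∀ (V : Type u) [AddCommGroup V] [Module k V] [Module.Finite k V],
      ArtFun.ObsTheory (ArtFun.defFunctor (Λ := k) (Spec (CommRingCat.of B₀))
        (Spec.map (CommRingCat.ofHom (algebraMap k B₀)))) V →
      (d : WithBot ℕ∞) ≤ ringKrullDim H.ring.carrier + (Module.finrank k V : WithBot ℕ∞) := by
    intro V _ _ _ T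
    obtain ⟨s, hs, hcard⟩ := Groth.Agent.ArtObs.exists_small_relations (H.ring.res.comp q) q hq rfl hsq
      H.family H.miniversal.1 V T
    rw [← hps]
    exact (le_dim_add_card q.toRingHom hq hm s hs).trans (add_le_add le_rfl (Nat.cast_le.2 hcard))
  refine ⟨by exact_mod_cast hle, fun hfin => ?_, ?_, ?_⟩
  · haveI := hfin
    exact_mod_cast hobs _ (Groth.Agent.RigidDef.obsTheory P)
  · intro hdim
    have hdim' : ringKrullDim H.ring.carrier = (d : WithBot ℕ∞) := by exact_mod_cast hdim
    have hinj : Function.Injective q := by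
      rw [injective_iff_map_eq_zero]
      intro x hx
      by_contra hne
      have h1 := ringKrullDim_succ_le_of_surjective q.toRingHom hq (mem_nonZeroDivisors_of_ne_zero hne) hx
      rw [hdim', hps] at h1
      have h2 : d + 1 ≤ d := by exact_mod_cast h1
      omega
    haveI : IsAdicComplete (IsLocalRing.maximalIdeal k) k := by
      rw [IsLocalRing.maximalIdeal_eq_bot]; infer_instance
    have hR : ArtFun.IsSmoothFunctor (ArtFun.hR H.ring.carrier H.ring.res) :=
      (Groth.Agent.S12722.result (fun c => ⟨c, rfl⟩) H.ring).2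
        ⟨d, ⟨(AlgEquiv.ofBijective q ⟨hinj, hq⟩).symm⟩⟩
    intro B A μ hμ x
    obtain ⟨φ, rfl⟩ := Groth.Agent.ArtKit.surjective_app H.miniversal.1 (Groth.Agent.DefFun.h0 _ _) A x
    obtain ⟨ψ, rfl⟩ := hR μ hμ φ
    exact ⟨H.family.app B ψ, (H.family.natural μ ψ).symm⟩
  · intro hsm
    have h := hobs PUnit.{u+1}
      { obs := fun _ _ _ => 0
        obs_eq_zero_iff := fun p hp u => iff_of_true rfl (hsm p hp.1 u)
        obs_quot := fun _ _ _ _ _ _ _ => (map_zero _).symm }
    rw [Module.finrank_zero_of_subsingleton, Nat.cast_zero, add_zero] at h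
    exact_mod_cast le_antisymm hle h

end Groth.Agent.S12268
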