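import Groth.Agent.Hensel.System
import Groth.Agent.SigmaLin.Field
import Mathlib.FieldTheory.IsSepClosed
import Mathlib.FieldTheory.Finite.Basic
import Mathlib.RingTheory.Henselian
import Mathlib.LinearAlgebra.Matrix.NonsingularInverse
import Mathlib.RingTheory.LocalRing.Module
import Mathlib.RingTheory.Filtration

/-! Artin-Schreier-Lang for `p`-linear maps over strictly henselian rings. -/

set_option autoImplicit false
universe u v

open Matrix Polynomial

namespace Groth.Agent.LangHens

section Field
variable (p : ℕ) [Fact p.Prime] {k : Type u} [Field k] [IsSepClosed k] [CharP k p]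

theorem cond2 : SigmaLin.Cond2 (frobenius k p) := by
  intro n b hb
  classical
  let β : Fin (n + 1) → k := fun i => b (Fin.rev i) ^ p ^ i.val
  let P : k[X] := (∑ i : Fin (n + 1), Polynomial.C (β i) * Polynomial.X ^ p ^ (i.val + 1)) - Polynomial.X
  have hp : 2 ≤ p := (Fact.out : p.Prime).two_le
  have hd : derivative P = -1 := by
    simp only [P, derivative_sub, derivative_sum, derivative_X, derivative_C_mul, derivative_X_pow]
    simp [pow_succ, CharP.cast_eq_zero k p]
  have hsep : P.Separable := by
    rw [separable_def, hd]; exact isCoprime_one_right.neg_right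
  obtain ⟨j, hj⟩ := Function.ne_iff.1 hb
  have hne : ∀ i : Fin (n + 1), p ^ (i.val + 1) ≠ 1 := fun i h => by
    have := Nat.pow_eq_one.1 h; omega
  have hcoeff : P.coeff (p ^ ((Fin.rev j).val + 1)) ≠ 0 := by
    simp only [P, Polynomial.coeff_sub, finset_sum_coeff, Polynomial.coeff_C_mul, Polynomial.coeff_X_pow]
    rw [Finset.sum_eq_single (Fin.rev j) (fun i _ hi => by
      rw [if_neg (fun h => hi (Fin.ext (by have := Nat.pow_right_injective hp h; omega))), mul_zero]) (by simp),
      if_pos rfl, mul_one, Polynomial.coeff_X, if_neg (fun h => hne _ h.symm), sub_zero]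
    simp only [β, Fin.rev_rev]
    exact pow_ne_zero _ (by simpa using hj)
  have hdeg : p ≤ P.natDegree := le_trans (Nat.le_self_pow (by omega) p) (le_natDegree_of_ne_zero hcoeff)
  have hcard : P.roots.card = P.natDegree :=
    (splits_iff_card_roots.1 (IsSepClosed.splits_of_separable P hsep))
  have hnod := nodup_roots hsep
  obtain ⟨x, hx, hx0⟩ : ∃ x ∈ P.roots, x ≠ 0 := by
    by_contra! h
    have : P.roots.toFinset ⊆ {0} := fun x hx => Finset.mem_singleton.2 (h x (Multiset.mem_toFinset.1 hx))
    have := Finset.card_le_card this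
    rw [Multiset.toFinset_card_of_nodup hnod, hcard, Finset.card_singleton] at this
    omega
  refine ⟨x, hx0, ?_⟩
  have h := (mem_roots'.1 hx).2
  simp only [P, IsRoot, eval_sub, eval_finset_sum, eval_mul, eval_C, eval_pow, eval_X, sub_eq_zero] at h
  refine h.symm.trans (Finset.sum_congr rfl fun i _ => ?_)
  rw [iterate_frobenius, iterate_frobenius, mul_comm]

theorem cond3 : SigmaLin.Cond3 (frobenius k p) := by
  intro c
  have hp : 2 ≤ p := (Fact.out : p.Prime).two_le
  let P : k[X] := Polynomial.X ^ p - (Polynomial.X - Polynomial.C c)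
  have hsep : P.Separable := by
    rw [separable_def, show derivative P = -1 by
      simp only [P, derivative_sub, derivative_X, derivative_C, derivative_X_pow, CharP.cast_eq_zero k p]
      simp]
    exact isCoprime_one_right.neg_right
  have hdeg : P.degree ≠ 0 := by
    rw [show P.degree = p by
      rw [degree_sub_eq_left_of_degree_lt] <;> rw [degree_X_pow]
      exact lt_of_le_of_lt (degree_X_sub_C_le _) (by exact_mod_cast hp)]
    exact_mod_cast (by omega : p ≠ 0)
  obtain ⟨y, hy⟩ := IsSepClosed.exists_root P hdeg hsep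
  refine ⟨y, ?_⟩
  simp [P] at hy
  rw [frobenius_def]
  linear_combination hy

theorem card_fixed : Nat.card {x : k // x ^ p = x} = p := by
  rw [Nat.card_congr (Equiv.subtypeEquivRight fun x => (Subfield.mem_bot_iff_pow_eq_self (F := k) (p := p)).symm)]
  exact Subfield.card_bot k p

theorem field_lang {n : ℕ} (A : Matrix (Fin n) (Fin n) k) (hA : IsUnit A) :
    (∀ c, ∃ v : Fin n → k, A *ᵥ (fun i => v i ^ p) - v = c) ∧
      Nat.card {v : Fin n → k // A *ᵥ (fun i => v i ^ p) = v} = p ^ n := by
  let T : (Fin n → k) →ₛₗ[frobenius k p] (Fin n → k) :=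
    { toFun := fun v => A *ᵥ fun i => v i ^ p
      map_add' := fun v w => by rw [← Matrix.mulVec_add]; congr 1; funext i; exact add_pow_char _ _ _
      map_smul' := fun r v => by
        rw [← Matrix.mulVec_smul]; congr 1; funext i; simp [mul_pow, frobenius_def] }
  have hspan : Submodule.span k (Set.range ⇑T) = ⊤ := by
    rw [eq_top_iff]
    rintro y -
    obtain ⟨z, rfl⟩ := (Matrix.mulVec_surjective_iff_isUnit.2 hA) y
    rw [pi_eq_sum_univ' z, Matrix.mulVec_sum]
    refine Submodule.sum_mem _ fun i _ => ?_
    rw [Matrix.mulVec_smul]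
    refine Submodule.smul_mem _ _ (Submodule.subset_span ⟨Pi.single i 1, ?_⟩)
    show A *ᵥ _ = _
    congr 1; funext j
    by_cases h : j = i <;> simp [h, (Fact.out : p.Prime).ne_zero]
  have hfix := SigmaLin.span_fixed_eq_top (cond2 p) (cond3 p) T hspan
  refine ⟨fun c => ?_, ?_⟩
  · obtain ⟨w, hw⟩ := SigmaLin.sub_surjective_of_span (cond3 p) T hfix (-c)
    exact ⟨w, show T w - w = c by rw [← neg_sub, hw, neg_neg]⟩
  · obtain ⟨b, hb⟩ := SigmaLin.exists_fixed_basis T hfix
    have e : {v : Fin n → k // A *ᵥ (fun i => v i ^ p) = v} ≃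
        (Fin (Module.finrank k (Fin n → k)) → {x : k // x ^ p = x}) := by
      refine (Equiv.subtypeEquiv b.equivFun.toEquiv fun v => ?_).trans
        Equiv.subtypePiEquivPi
      show T v = v ↔ ∀ i, (b.equivFun v i) ^ p = b.equivFun v i
      have hTv : b.equivFun (T v) = fun i => (b.equivFun v i) ^ p := by
        conv_lhs => rw [← b.sum_equivFun v, map_sum]
        simp only [T.map_smulₛₗ, hb, frobenius_def]
        exact funext fun i => by rw [Module.Basis.equivFun_apply, b.repr_sum_self]
      rw [← b.equivFun.injective.eq_iff, hTv, funext_iff]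
    rw [Nat.card_congr e, Nat.card_fun, card_fixed p, Nat.card_fin, Module.finrank_fin_fun]

end Field

section Hens

theorem charP_residue (p : ℕ) [Fact p.Prime] (R : Type u) [CommRing R] [IsLocalRing R] [CharP R p] :
    CharP (IsLocalRing.ResidueField R) p := by
  have h0 : (p : IsLocalRing.ResidueField R) = 0 := by
    rw [← map_natCast (IsLocalRing.residue R), CharP.cast_eq_zero, map_zero]
  obtain ⟨q, hq⟩ := CharP.exists (IsLocalRing.ResidueField R)
  rcases (Nat.dvd_prime Fact.out).1 ((CharP.cast_eq_zero_iff _ q p).1 h0) with rfl | rfl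
  · exact absurd ((hq.cast_eq_zero_iff 1).2 dvd_rfl) (by rw [Nat.cast_one]; exact one_ne_zero)
  · exact hq

variable (p : ℕ) [Fact p.Prime] {R : Type u} [CommRing R] [HenselianLocalRing R] [CharP R p]
variable {n : ℕ} (A : Matrix (Fin n) (Fin n) R)

/-- The `p`-linear map with matrix `A`. -/
def T0 (v : Fin n → R) : Fin n → R := A *ᵥ fun i => v i ^ p

theorem residue_T0 (v : Fin n → R) :
    (fun i => IsLocalRing.residue R (T0 p A v i)) =
      A.map (IsLocalRing.residue R) *ᵥ fun i => IsLocalRing.residue R (v i) ^ p := by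
  funext i
  simp [T0, RingHom.map_mulVec, Function.comp_def]

theorem existsUnique_lift (c a : Fin n → R) (h : ∀ i, T0 p A a i - a i - c i ∈ IsLocalRing.maximalIdeal R) :
    ∃! b, T0 p A b - b = c ∧ ∀ i, b i - a i ∈ IsLocalRing.maximalIdeal R := by
  classical
  let G : Fin n → MvPolynomial (Fin n) R := fun i =>
    (∑ j, MvPolynomial.C (A i j) * MvPolynomial.X j ^ p) - MvPolynomial.X i - MvPolynomial.C (c i)
  have hev : ∀ b i, MvPolynomial.eval b (G i) = T0 p A b i - b i - c i := fun b i => by
    simp [G, T0, Matrix.mulVec, dotProduct]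
  have hjac : Hensel.jacDet G = (-1 : MvPolynomial (Fin n) R) ^ n := by
    have : (Matrix.of fun i j => MvPolynomial.pderiv i (G j)) = -(1 : Matrix (Fin n) (Fin n) (MvPolynomial (Fin n) R)) := by
      refine Matrix.ext fun i j => ?_
      simp [G, Matrix.one_apply, MvPolynomial.pderiv_X, Pi.single_apply, CharP.cast_eq_zero, eq_comm]
    rw [Hensel.jacDet, this, Matrix.det_neg, Fintype.card_fin, Matrix.det_one, mul_one]
  have := Hensel.existsUnique_root_system (I := IsLocalRing.maximalIdeal R) G a
    (fun i => by rw [hev]; exact h i) (by rw [hjac, map_pow, map_pow, map_neg, map_one, map_neg, map_one]; exact isUnit_one.neg.pow n)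
  simpa only [hev, funext_iff, Pi.sub_apply, sub_eq_zero] using this

variable [IsSepClosed (IsLocalRing.ResidueField R)]

theorem surjective (hA : IsUnit A) (c : Fin n → R) : ∃ b, T0 p A b - b = c := by
  haveI : CharP (IsLocalRing.ResidueField R) p := charP_residue p R
  obtain ⟨v, hv⟩ := (field_lang p _ (hA.map (IsLocalRing.residue R).mapMatrix)).1 fun i => IsLocalRing.residue R (c i)
  choose a ha using fun i => IsLocalRing.residue_surjective (v i)
  obtain ⟨b, hb, -⟩ := existsUnique_lift p A c a fun i => by
    rw [← IsLocalRing.residue_eq_zero_iff, map_sub, map_sub, ← congrFun hv i, congrFun (residue_T0 p A a) i]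
    simp [ha]
  exact ⟨b, hb.1⟩

theorem card_fixed0 (hA : IsUnit A) : Nat.card {b : Fin n → R // T0 p A b = b} = p ^ n := by
  haveI : CharP (IsLocalRing.ResidueField R) p := charP_residue p R
  rw [← (field_lang p _ (hA.map (IsLocalRing.residue R).mapMatrix)).2]
  refine Nat.card_eq_of_bijective
    (fun b => ⟨fun i => IsLocalRing.residue R (b.1 i), ?_⟩) ⟨?_, ?_⟩
  · exact (residue_T0 p A b.1).symm.trans (by rw [b.2])
  · rintro ⟨b, hb⟩ ⟨b', hb'⟩ h
    have hres : ∀ i, IsLocalRing.residue R (b' i) = IsLocalRing.residue R (b i) := fun i =>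
      (congrFun (congrArg Subtype.val h) i).symm
    obtain ⟨_, -, huniq⟩ := existsUnique_lift p A 0 b fun i => by simp [hb]
    exact Subtype.ext ((huniq b ⟨by rw [hb, sub_self], fun i => by simp⟩).trans
      (huniq b' ⟨by rw [hb', sub_self], fun i => by
        rw [← IsLocalRing.residue_eq_zero_iff, map_sub, hres, sub_self]⟩).symm)
  · rintro ⟨v, hv⟩
    choose a ha using fun i => IsLocalRing.residue_surjective (v i)
    obtain ⟨b, hb, -⟩ := existsUnique_lift p A 0 a fun i => by
      rw [← IsLocalRing.residue_eq_zero_iff, map_sub, map_sub, congrFun (residue_T0 p A a) i]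
      have := congrFun hv i
      simp only [RingHom.mapMatrix_apply] at this
      simp [ha, this]
    refine ⟨⟨b, sub_eq_zero.1 hb.1⟩, Subtype.ext (funext fun i => ?_)⟩
    show IsLocalRing.residue R (b i) = v i
    rw [← ha i, ← sub_eq_zero, ← map_sub, IsLocalRing.residue_eq_zero_iff]
    exact hb.2 i

end Hens

end Groth.Agent.LangHens

namespace Groth.Agent.LangHens

section Module
variable (p : ℕ) [Fact p.Prime] {R : Type u} [CommRing R] [HenselianLocalRing R] [CharP R p]
variable {M : Type v} [AddCommGroup M] [Module R M] {n : ℕ} (g : Fin n → M)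

/-- The presentation attached to a generating family. -/
noncomputable abbrev pres : (Fin n → R) →ₗ[R] M := Fintype.linearCombination R g

theorem exists_matrix (T : M →+ M) (hT : ∀ (r : R) (m : M), T (r • m) = r ^ p • T m)
    (hg : Submodule.span R (Set.range g) = ⊤)
    (hker : ∀ v : Fin n → R, pres g v = 0 → ∀ i, v i ∈ IsLocalRing.maximalIdeal R)
    (hspan : Submodule.span R (Set.range T) = ⊤) :
    ∃ A : Matrix (Fin n) (Fin n) R, IsUnit A ∧ ∀ v : Fin n → R, T (pres g v) = pres g (T0 p A v) := by
  classical
  have hπ : Function.Surjective (pres (R := R) g) := by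
    rw [← LinearMap.range_eq_top, Fintype.range_linearCombination, hg]
  choose c hc using fun j => hπ (T (g j))
  let A : Matrix (Fin n) (Fin n) R := Matrix.of fun i j => c j i
  have hT' : ∀ v : Fin n → R, T (pres g v) = pres g (T0 p A v) := by
    intro v
    rw [show T0 p A v = ∑ j, v j ^ p • c j by
      funext i; simp [T0, A, Matrix.mulVec, dotProduct, mul_comm], map_sum]
    simp only [Fintype.linearCombination_apply, map_sum, map_smul, hT]
    refine Finset.sum_congr rfl fun j _ => ?_
    rw [← hc j]; rfl
  refine ⟨A, ?_, hT'⟩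
  have hsurj : Function.Surjective (Matrix.toLin' A) := by
    rw [← LinearMap.range_eq_top]
    apply top_unique
    refine Submodule.le_of_le_smul_of_le_jacobson_bot (I := IsLocalRing.maximalIdeal R)
      Module.Finite.fg_top (by rw [IsLocalRing.jacobson_eq_maximalIdeal _ bot_ne_top]) ?_
    intro z _
    have hz : pres g z ∈ Submodule.map (pres g) (LinearMap.range (Matrix.toLin' A)) := by
      have : pres g z ∈ Submodule.span R (Set.range T) := hspan ▸ Submodule.mem_top
      refine (Submodule.span_le.2 ?_) this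
      rintro _ ⟨m, rfl⟩
      obtain ⟨v, rfl⟩ := hπ m
      exact ⟨_, ⟨_, rfl⟩, (hT' v).symm⟩
    obtain ⟨y, hy, hyz⟩ := hz
    refine Submodule.mem_sup.2 ⟨y, hy, z - y, ?_, add_sub_cancel y z⟩
    rw [pi_eq_sum_univ' (z - y)]
    refine Submodule.sum_mem _ fun i _ => Submodule.smul_mem_smul ?_ Submodule.mem_top
    exact hker _ (by rw [map_sub, hyz, sub_self]) i
  exact Matrix.mulVec_surjective_iff_isUnit.1 hsurj

theorem lang [IsNoetherianRing R] [IsSepClosed (IsLocalRing.ResidueField R)] [Module.Finite R M]
    (T : M →+ M) (hT : ∀ (r : R) (m : M), T (r • m) = r ^ p • T m)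
    (hg : Submodule.span R (Set.range g) = ⊤)
    (hker : ∀ v : Fin n → R, pres g v = 0 → ∀ i, v i ∈ IsLocalRing.maximalIdeal R)
    (hspan : Submodule.span R (Set.range T) = ⊤) :
    Function.Surjective (fun m => T m - m) ∧ Nat.card {m : M // T m = m} = p ^ n := by
  have hπ : Function.Surjective (pres (R := R) g) := by
    rw [← LinearMap.range_eq_top, Fintype.range_linearCombination, hg]
  obtain ⟨A, hA, hTA⟩ := exists_matrix p g T hT hg hker hspan
  refine ⟨fun m => ?_, ?_⟩
  · obtain ⟨z, rfl⟩ := hπ m
    obtain ⟨b, hb⟩ := surjective p A hA z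
    exact ⟨pres g b, by show T (pres g b) - pres g b = _; rw [hTA, ← map_sub, hb]⟩
  rw [← card_fixed0 p A hA]
  refine (Nat.card_eq_of_bijective (fun b => ⟨pres g b.1, by rw [hTA, b.2]⟩) ⟨?_, ?_⟩).symm
  · rintro ⟨b, hb⟩ ⟨b', hb'⟩ h
    have h' : pres g (b - b') = 0 := by rw [map_sub, sub_eq_zero]; exact congrArg Subtype.val h
    obtain ⟨_, -, huniq⟩ := existsUnique_lift p A 0 b fun i => by simp [hb]
    refine Subtype.ext ((huniq b ⟨by rw [hb, sub_self], fun i => by simp⟩).trans
      (huniq b' ⟨by rw [hb', sub_self], fun i => ?_⟩).symm)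
    have := neg_mem (hker _ h' i)
    simpa using this
  · rintro ⟨m, hm⟩
    obtain ⟨v, rfl⟩ := hπ m
    have hd0 : pres g (T0 p A v - v) = 0 := by rw [map_sub, ← hTA, hm, sub_self]
    obtain ⟨w, ⟨hw, hwm⟩, -⟩ := existsUnique_lift p A (v - T0 p A v) 0 fun i => by
      have h0 : T0 p A 0 i = 0 := by simp [T0, zero_pow (Fact.out : p.Prime).ne_zero, Matrix.mulVec, dotProduct]
      have := hker _ hd0 i
      simpa [h0] using this
    have hπw : pres g w = 0 := by
      have hfix : T (pres g w) = pres g w := by
        rw [hTA, ← sub_eq_zero, ← map_sub, hw, ← neg_sub, map_neg, hd0, neg_zero]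
      have hmem : ∀ N : ℕ, pres g w ∈ (IsLocalRing.maximalIdeal R) ^ (N + 1) • (⊤ : Submodule R M) := by
        intro N
        induction N with
        | zero =>
          rw [pow_one, Fintype.linearCombination_apply]
          exact Submodule.sum_mem _ fun i _ => Submodule.smul_mem_smul (by simpa using hwm i) Submodule.mem_top
        | succ N ih =>
          rw [← hfix]
          refine Submodule.smul_induction_on ih (fun r hr x _ => ?_) fun x y hx hy => ?_
          · rw [hT]
            refine Submodule.smul_mem_smul ?_ Submodule.mem_top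
            have hr2 : r ^ 2 ∈ IsLocalRing.maximalIdeal R ^ (N + 1 + 1) :=
              Ideal.pow_le_pow_right (by omega) (by rw [pow_mul]; exact Ideal.pow_mem_pow hr 2 : r ^ 2 ∈ IsLocalRing.maximalIdeal R ^ ((N + 1) * 2))
            have hp := (Fact.out : p.Prime).two_le
            rw [show r ^ p = r ^ (p - 2) * r ^ 2 by rw [← pow_add]; congr 1; omega]
            exact Ideal.mul_mem_left _ _ hr2
          · rw [map_add]; exact add_mem hx hy
      have : pres g w ∈ (⨅ N : ℕ, (IsLocalRing.maximalIdeal R) ^ N • (⊤ : Submodule R M)) :=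
        (Submodule.mem_iInf _).2 fun N => Submodule.smul_mono_left (Ideal.pow_le_pow_right (Nat.le_succ N)) (hmem N)
      rwa [Ideal.iInf_pow_smul_eq_bot_of_isLocalRing _ (IsLocalRing.maximalIdeal.isMaximal R).ne_top,
        Submodule.mem_bot] at this
    refine ⟨⟨v + w, ?_⟩, Subtype.ext ?_⟩
    · have hadd : T0 p A (v + w) = T0 p A v + T0 p A w := by
        rw [T0, T0, T0, ← Matrix.mulVec_add]; congr 1; funext i; exact add_pow_char _ _ _
      rw [hadd, sub_eq_iff_eq_add.1 hw]; abel
    · show pres g (v + w) = pres g v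
      rw [map_add, hπw, add_zero]

/-- `lang` with a minimal set of generators. -/
theorem lang_finite [IsNoetherianRing R] [IsSepClosed (IsLocalRing.ResidueField R)] [Module.Finite R M]
    (T : M →+ M) (hT : ∀ (r : R) (m : M), T (r • m) = r ^ p • T m)
    (hspan : Submodule.span R (Set.range T) = ⊤) :
    Function.Surjective (fun m => T m - m) ∧ Nat.card {m : M // T m = m} =
      p ^ Module.finrank (IsLocalRing.ResidueField R) (TensorProduct R (IsLocalRing.ResidueField R) M) := by
  let b := Module.finBasis (IsLocalRing.ResidueField R) (TensorProduct R (IsLocalRing.ResidueField R) M)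
  choose g hg using fun i => TensorProduct.mk_surjective R M (IsLocalRing.ResidueField R) Ideal.Quotient.mk_surjective (b i)
  refine lang p g T hT (IsLocalRing.span_eq_top_of_tmul_eq_basis g b hg) (fun v hv i => ?_) hspan
  have h := congrArg (TensorProduct.mk R (IsLocalRing.ResidueField R) M 1) hv
  rw [map_zero, Fintype.linearCombination_apply, map_sum] at h
  simp only [map_smul, hg] at h
  have h2 := Fintype.linearIndependent_iff.1 b.linearIndependent (fun i => IsLocalRing.residue R (v i)) (by
    refine Eq.trans (Finset.sum_congr rfl fun j _ => ?_) h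
    rw [← algebraMap_smul (IsLocalRing.ResidueField R) (v j) (b j)]
    rfl) i
  rwa [IsLocalRing.residue_eq_zero_iff] at h2

theorem lang_free [IsSepClosed (IsLocalRing.ResidueField R)] [Module.Free R M] [Module.Finite R M]
    (T : M →+ M) (hT : ∀ (r : R) (m : M), T (r • m) = r ^ p • T m)
    (hspan : Submodule.span R (Set.range T) = ⊤) :
    Function.Surjective (fun m => T m - m) ∧ Nat.card {m : M // T m = m} = p ^ Module.finrank R M := by
  let b := Module.finBasis R M
  have hb : ∀ v, pres b v = b.equivFun.symm v := fun v => by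
    rw [Module.Basis.equivFun_symm_apply, Fintype.linearCombination_apply]
  obtain ⟨A, hA, hTA⟩ := exists_matrix p b T hT b.span_eq (fun v hv i => by
    rw [hb, LinearEquiv.map_eq_zero_iff] at hv; rw [hv]; exact zero_mem _) hspan
  refine ⟨fun m => ?_, ?_⟩
  · obtain ⟨z, hz⟩ := surjective p A hA (b.equivFun m)
    refine ⟨pres b z, ?_⟩
    show T (pres b z) - pres b z = m
    rw [hTA, ← map_sub, hz, hb, LinearEquiv.symm_apply_apply]
  rw [← card_fixed0 p A hA]
  refine Nat.card_congr (Equiv.subtypeEquiv b.equivFun.toEquiv fun m => ?_)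
  show T m = m ↔ T0 p A (b.equivFun m) = b.equivFun m
  conv_lhs => rw [← b.equivFun.symm_apply_apply m, ← hb, hTA, hb, hb, b.equivFun.symm.injective.eq_iff]

end Module

end Groth.Agent.LangHens
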