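import Groth.Agent.Easy3.Lattice
import Groth.Agent.CycDim.Det
import Groth.Agent.CycDim.Norm

/-! The distance from a lattice to its image is the order of the determinant. -/

set_option autoImplicit false

universe u

namespace Groth.Agent.LatDet

variable (A : Type u) [CommRing A] [IsDomain A] [IsNoetherianRing A] [Ring.KrullDimLE 1 A]
  (K : Type u) [Field K] [Algebra A K] [IsFractionRing A K]
  {V : Type u} [AddCommGroup V] [Module K V] [Module A V] [IsScalarTower A K V]

/-- the distance -/
noncomputable def dist (M N : Submodule A V) : ℤ :=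
  ((Module.length A (↥M ⧸ (M ⊓ N).submoduleOf M)).toNat : ℤ) -
    ((Module.length A (↥N ⧸ (M ⊓ N).submoduleOf N)).toNat : ℤ)

variable {A}

omit [IsDomain A] [IsNoetherianRing A] [Ring.KrullDimLE 1 A] in
theorem length_map {M L : Submodule A V} (hLM : L ≤ M) (φ : V →ₗ[A] V) (hφ : Function.Injective φ) :
    Module.length A (↥(M.map φ) ⧸ (L.map φ).submoduleOf (M.map φ)) = Module.length A (↥M ⧸ L.submoduleOf M) := by
  refine (Submodule.Quotient.equiv _ _ (Submodule.equivMapOfInjective φ hφ M) ?_).length_eq.symm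
  ext ⟨x, hx⟩
  simp only [Submodule.mem_map, Submodule.submoduleOf, Submodule.mem_comap, Submodule.subtype_apply]
  constructor
  · rintro ⟨⟨y, hy⟩, hyL, hyx⟩
    exact ⟨y, hyL, by simpa using congrArg Subtype.val hyx⟩
  · rintro ⟨y, hyL, hyx⟩
    exact ⟨⟨y, hLM hyL⟩, hyL, Subtype.ext (by simpa using hyx)⟩

omit [IsDomain A] [IsNoetherianRing A] [Ring.KrullDimLE 1 A] in
theorem dist_map (M N : Submodule A V) (φ : V →ₗ[A] V) (hφ : Function.Injective φ) :
    dist A (M.map φ) (N.map φ) = dist A M N := by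
  rw [dist, dist, ← Submodule.map_inf _ hφ, length_map inf_le_left φ hφ, length_map inf_le_right φ hφ]

variable (A) in
theorem dist_add (M₁ M₂ M₃ : Submodule A V) [Submodule.IsLattice K M₁] [Submodule.IsLattice K M₂]
    [Submodule.IsLattice K M₃] : dist A M₁ M₃ = dist A M₁ M₂ + dist A M₂ M₃ :=
  Easy3.distance_add A K M₁ M₂ M₃

omit [Algebra A K] [IsFractionRing A K] [IsScalarTower A K V] [Module K V] [Field K] [IsDomain A] [IsNoetherianRing A] [Ring.KrullDimLE 1 A] in
theorem dist_self (M : Submodule A V) : dist A M M = 0 := by rw [dist, sub_self]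

theorem dist_map_self (M N : Submodule A V) [Submodule.IsLattice K M] [Submodule.IsLattice K N]
    (φ : V →ₗ[A] V) (hφ : Function.Injective φ) [Submodule.IsLattice K (M.map φ)] [Submodule.IsLattice K (N.map φ)] :
    dist A M (M.map φ) = dist A N (N.map φ) := by
  have h1 := dist_add A K M N (M.map φ)
  have h2 := dist_add A K N (N.map φ) (M.map φ)
  have h3 := dist_add A K M N M
  rw [dist_self] at h3
  rw [h1, h2, dist_map N M φ hφ]
  linarith

section Std

variable {d : ℕ} (b : Module.Basis (Fin d) K V)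

/-- the standard embedding -/
noncomputable def e₀ : (Fin d → A) →ₗ[A] V := Fintype.linearCombination A b

theorem e₀_injective : Function.Injective (e₀ (A := A) K b) :=
  Fintype.linearIndependent_iff.1 (b.linearIndependent.restrict_scalars' A) |> fun h =>
    (injective_iff_map_eq_zero _).2 fun v hv => funext (h v hv)

/-- the standard lattice -/
noncomputable def M₀ : Submodule A V := LinearMap.range (e₀ (A := A) K b)

instance : Submodule.IsLattice K (M₀ (A := A) K b) := by
  refine ⟨(Module.Finite.iff_fg (N := M₀ (A := A) K b)).1 (Module.Finite.range _), eq_top_iff.2 ?_⟩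
  rw [← b.span_eq]
  refine Submodule.span_mono ?_
  rintro _ ⟨i, rfl⟩
  exact ⟨Pi.single i 1, by rw [e₀, Fintype.linearCombination_apply_single, one_smul]⟩

theorem dist_std (ψ : V →ₗ[A] V) (P : Matrix (Fin d) (Fin d) A) (hP : P.det ≠ 0)
    (h : ψ.comp (e₀ K b) = (e₀ K b).comp P.mulVecLin) :
    dist A (M₀ (A := A) K b) ((M₀ (A := A) K b).map ψ) = ((Ring.ord A P.det).toNat : ℤ) := by
  have hle : (M₀ (A := A) K b).map ψ ≤ M₀ (A := A) K b := by
    rw [M₀, ← LinearMap.range_comp, h]
    exact LinearMap.range_comp_le_range _ _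
  have hz : Module.length A (↥((M₀ (A := A) K b).map ψ) ⧸
      ((M₀ (A := A) K b).map ψ).submoduleOf ((M₀ (A := A) K b).map ψ)) = 0 := by
    rw [Module.length_eq_zero_iff, Submodule.Quotient.subsingleton_iff]
    exact Submodule.comap_subtype_self _
  rw [dist, inf_eq_right.2 hle, hz]
  simp only [ENat.toNat_zero, Nat.cast_zero, sub_zero, Nat.cast_inj]
  congr 1
  rw [← CycNorm.length_coker_eq_ord_det hP]
  refine (Submodule.Quotient.equiv _ _ (LinearEquiv.ofInjective _ (e₀_injective K b)) ?_).length_eq.symm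
  ext ⟨x, hx⟩
  rw [Submodule.mem_map]
  constructor
  · rintro ⟨y, ⟨w, rfl⟩, hyx⟩
    exact Submodule.mem_comap.2 ⟨e₀ K b w, ⟨w, rfl⟩, (LinearMap.congr_fun h w).trans (congrArg Subtype.val hyx)⟩
  · intro hx'
    obtain ⟨y, ⟨w, rfl⟩, hw⟩ := Submodule.mem_map.1 (Submodule.mem_comap.1 hx')
    exact ⟨P.mulVecLin w, ⟨w, rfl⟩, Subtype.ext ((LinearMap.congr_fun h w).symm.trans hw)⟩

theorem comm_e₀ (Φ : V →ₗ[K] V) (P : Matrix (Fin d) (Fin d) A) (hP : P.map (algebraMap A K) = LinearMap.toMatrix b b Φ) :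
    (Φ.restrictScalars A).comp (e₀ K b) = (e₀ K b).comp P.mulVecLin := by
  refine (Pi.basisFun A (Fin d)).ext fun i => ?_
  rw [Pi.basisFun_apply, LinearMap.comp_apply, LinearMap.comp_apply, e₀, Fintype.linearCombination_apply_single, one_smul,
    Matrix.mulVecLin_apply, Matrix.mulVec_single_one, LinearMap.restrictScalars_apply, Fintype.linearCombination_apply]
  conv_lhs => rw [← b.sum_repr (Φ (b i))]
  refine Finset.sum_congr rfl fun j _ => ?_
  rw [← LinearMap.toMatrix_apply b b Φ j i, ← hP, Matrix.map_apply, algebraMap_smul]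
  rfl

end Std

variable (A)

theorem ordFrac_mul {x y : K} (hx : x ≠ 0) (hy : y ≠ 0) :
    CycAlg.ordFrac A K (x * y) = CycAlg.ordFrac A K x + CycAlg.ordFrac A K y := by
  rw [CycAlg.ordFrac, CycAlg.ordFrac, CycAlg.ordFrac, dif_pos ⟨inferInstance, inferInstance, inferInstance, inferInstance⟩,
    dif_pos ⟨inferInstance, inferInstance, inferInstance, inferInstance⟩,
    dif_pos ⟨inferInstance, inferInstance, inferInstance, inferInstance⟩, map_mul]
  obtain ⟨u, hu⟩ := WithZero.ne_zero_iff_exists.1 ((map_ne_zero (Ring.ordFrac A : K →*₀ _)).2 hx)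
  obtain ⟨v, hv⟩ := WithZero.ne_zero_iff_exists.1 ((map_ne_zero (Ring.ordFrac A : K →*₀ _)).2 hy)
  rw [← hu, ← hv, ← WithZero.coe_mul]
  rfl

theorem main [FiniteDimensional K V] (M : Submodule A V) [Submodule.IsLattice K M] (φ : V ≃ₗ[K] V) :
    Submodule.IsLattice K (M.map (φ.toLinearMap.restrictScalars A)) ∧
    dist A M (M.map (φ.toLinearMap.restrictScalars A)) = CycAlg.ordFrac A K (LinearMap.det φ.toLinearMap) := by
  classical
  have hlat : ∀ (N : Submodule A V) [Submodule.IsLattice K N] (Φ : V →ₗ[K] V), Function.Surjective Φ →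
      Submodule.IsLattice K (N.map (Φ.restrictScalars A)) := fun N _ Φ hΦ => by
    refine ⟨(Submodule.IsLattice.fg (A := K) (M := N)).map _, ?_⟩
    rw [Submodule.map_coe, LinearMap.coe_restrictScalars, Submodule.span_image,
      Submodule.IsLattice.span_eq_top (A := K) (M := N), Submodule.map_top, LinearMap.range_eq_top.2 hΦ]
  refine ⟨hlat M _ φ.surjective, ?_⟩
  let d := Module.finrank K V
  let b : Module.Basis (Fin d) K V := Module.finBasis K V
  let N := M₀ (A := A) K b
  haveI := hlat N φ.toLinearMap φ.surjective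
  haveI := hlat M φ.toLinearMap φ.surjective
  rw [dist_map_self K M N (φ.toLinearMap.restrictScalars A) φ.injective]
  -- clear the denominators
  obtain ⟨⟨a, ha⟩, hab⟩ := IsLocalization.exist_integer_multiples_of_finite (nonZeroDivisors A)
    (fun ij : Fin d × Fin d => LinearMap.toMatrix b b φ.toLinearMap ij.1 ij.2)
  choose P hP using hab
  let P' : Matrix (Fin d) (Fin d) A := Matrix.of fun i j => P (i, j)
  let aK : K := algebraMap A K a
  have haK : aK ≠ 0 := IsFractionRing.to_map_ne_zero_of_mem_nonZeroDivisors ha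
  let Ψ : V →ₗ[K] V := aK • φ.toLinearMap
  have hΨ : P'.map (algebraMap A K) = LinearMap.toMatrix b b Ψ := by
    ext i j
    rw [Matrix.map_apply, map_smul, Matrix.smul_apply, smul_eq_mul]
    rw [show algebraMap A K (P' i j) = algebraMap A K (P (i, j)) from rfl, hP (i, j), Algebra.smul_def]
  have hdet : algebraMap A K P'.det = aK ^ d * LinearMap.det φ.toLinearMap := by
    rw [RingHom.map_det, RingHom.mapMatrix_apply, hΨ, LinearMap.det_toMatrix, LinearMap.det_smul]
  have hdφ : LinearMap.det φ.toLinearMap ≠ 0 := φ.isUnit_det'.ne_zero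
  have hP0 : P'.det ≠ 0 := fun h => by
    rw [h, map_zero] at hdet
    exact mul_ne_zero (pow_ne_zero _ haK) hdφ hdet.symm
  let S : V →ₗ[K] V := aK • LinearMap.id
  let Q : Matrix (Fin d) (Fin d) A := Matrix.diagonal fun _ => a
  have hS : Q.map (algebraMap A K) = LinearMap.toMatrix b b S := by
    rw [Matrix.diagonal_map (map_zero _), map_smul, LinearMap.toMatrix_id, Matrix.smul_one_eq_diagonal]
  have hQ : Q.det = a ^ d := by rw [Matrix.det_diagonal, Finset.prod_const, Finset.card_univ, Fintype.card_fin]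
  have hQ0 : Q.det ≠ 0 := hQ ▸ pow_ne_zero _ (nonZeroDivisors.ne_zero ha)
  have e1 := dist_std K b (Ψ.restrictScalars A) P' hP0 (comm_e₀ K b Ψ P' hΨ)
  have e2 := dist_std K b (S.restrictScalars A) Q hQ0 (comm_e₀ K b S Q hS)
  have hΨs : Function.Surjective Ψ := fun y => ⟨φ.symm (aK⁻¹ • y), by
    show aK • φ (φ.symm (aK⁻¹ • y)) = y
    rw [LinearEquiv.apply_symm_apply, smul_smul, mul_inv_cancel₀ haK, one_smul]⟩
  have hSs : Function.Surjective S := fun y => ⟨aK⁻¹ • y, by
    show aK • (aK⁻¹ • y) = y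
    rw [smul_smul, mul_inv_cancel₀ haK, one_smul]⟩
  haveI := hlat N Ψ hΨs
  haveI := hlat N S hSs
  have hcomp : N.map (Ψ.restrictScalars A) = (N.map (S.restrictScalars A)).map (φ.toLinearMap.restrictScalars A) := by
    rw [← Submodule.map_comp]
    congr 1
    ext v
    simp [Ψ, S]
  have e3 := dist_add A K N (N.map (φ.toLinearMap.restrictScalars A)) (N.map (Ψ.restrictScalars A))
  rw [hcomp, dist_map N (N.map (S.restrictScalars A)) (φ.toLinearMap.restrictScalars A) φ.injective, e2] at e3
  rw [hcomp] at e1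
  rw [e1, ← CycNorm.ordFrac_algebraMap (K := K) hP0, ← CycNorm.ordFrac_algebraMap (K := K) hQ0, hdet, hQ,
    ordFrac_mul A K (pow_ne_zero _ haK) hdφ, map_pow] at e3
  linarith

end Groth.Agent.LatDet
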