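import Groth.Statements.S9729
import Groth.Agent.KoszulLib.SchAt

set_option autoImplicit false
universe u
open FlatMor

namespace Groth.Agent.S9729

open AlgebraicGeometry CategoryTheory Limits in
/-- Let f : X ⟶ Y and g : Y ⟶ S be morphisms with g smooth. If f ≫ g is a local complete intersection
morphism (Koszul at every point of X) then f is a local complete intersection morphism. -/
theorem result {X Y S : Scheme.{u}} (f : X ⟶ Y) (g : Y ⟶ S) [Smooth g]
    (h : ∀ x : X, Synt.IsKoszulAt (f ≫ g) x) (x : X) : Synt.IsKoszulAt f x := by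
  obtain ⟨O, P, i₀, π₀, hx, hlft, hreg, hsm, hfac⟩ := h x
  haveI := hsm
  haveI := hreg.1
  haveI := hlft
  let k := pullback.lift i₀ (O.ι ≫ f) (by rw [hfac, Category.assoc])
  haveI : IsImmersion (k ≫ pullback.fst π₀ g) := by rw [pullback.lift_fst]; infer_instance
  haveI : IsImmersion k := IsImmersion.of_comp k (pullback.fst π₀ g)
  have hk : RegImm.IsRegularImmersion .koszul k :=
    (KoszulLib.isRegularImmersion_smooth_iff i₀ k (pullback.fst π₀ g) (pullback.lift_fst _ _ _)).mp hreg
  refine ⟨O, _, k, pullback.snd π₀ g, hx, ?_, hk, inferInstance, pullback.lift_snd _ _ _⟩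
  haveI : LocallyOfFiniteType ((O.ι ≫ f) ≫ g) := by rw [Category.assoc]; infer_instance
  exact locallyOfFiniteType_of_comp (O.ι ≫ f) g

end Groth.Agent.S9729
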