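import Groth.Statements.S10666
import Groth.Agent.LciSp.Basic
import Groth.Agent.S9729
import Groth.Agent.S9730
import Groth.Agent.SyntLib.Hom
import Groth.Agent.AlgSpLib.LocP

set_option autoImplicit false
universe u
open CategoryTheory CategoryTheory.Limits AlgebraicGeometry
open AlgSp

namespace Groth.Agent.S10666

/-- For morphisms f : X ⟶ Y, p : X ⟶ Z, q : Y ⟶ Z of algebraic spaces over S with f ≫ q = p: if q is
smooth and p is a local complete intersection morphism, then so is f. -/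
theorem result {S : Scheme.{u}} {X Y Z : AlgSp.Space S} (f : X ⟶ Y) (p : X ⟶ Z) (q : Y ⟶ Z) (hc : f ≫ q = p)
    (hq : AlgSp.LocP @Smooth q.hom) (hp : AlgSp.IsLCIMor p.hom) :
    AlgSp.IsLCIMor f.hom := by
  intro U V a b h ha hb comm
  obtain ⟨W, c, hce, hcs⟩ := Z.property.atlas
  obtain ⟨V', v₁, v₂, sqV⟩ := Groth.Agent.AlgSpLib.exists_pullback Z.property.diag (b ≫ q.hom) c
  have : Etale v₁.left := (Groth.Agent.AlgSpLib.repWith_yon_iff v₁).1 (Groth.Agent.AlgSpLib.repWith_baseChange sqV.flip hce)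
  have : Surjective v₁.left := (Groth.Agent.AlgSpLib.repWith_yon_iff v₁).1 (Groth.Agent.AlgSpLib.repWith_baseChange sqV.flip hcs)
  obtain ⟨U', u₁, h', sqU⟩ := Groth.Agent.AlgSpLib.exists_pullback (AlgSp.IsAlgSpace.yon_obj V).diag
    ((AlgSp.yon S).map h) ((AlgSp.yon S).map v₁)
  have hv₁ : AlgSp.RepWith @Etale ((AlgSp.yon S).map v₁) := (Groth.Agent.AlgSpLib.repWith_yon_iff v₁).2 ‹_›
  have hv₁s : AlgSp.RepWith @Surjective ((AlgSp.yon S).map v₁) := (Groth.Agent.AlgSpLib.repWith_yon_iff v₁).2 ‹_›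
  have : Etale u₁.left := (Groth.Agent.AlgSpLib.repWith_yon_iff u₁).1 (Groth.Agent.AlgSpLib.repWith_baseChange sqU.flip hv₁)
  have : Surjective u₁.left := (Groth.Agent.AlgSpLib.repWith_yon_iff u₁).1 (Groth.Agent.AlgSpLib.repWith_baseChange sqU.flip hv₁s)
  have hb' : AlgSp.RepWith @Etale ((AlgSp.yon S).map v₁ ≫ b) := Groth.Agent.AlgSpLib.repWith_comp hv₁ hb
  have ha' : AlgSp.RepWith @Etale ((AlgSp.yon S).map u₁ ≫ a) :=
    Groth.Agent.AlgSpLib.repWith_comp ((Groth.Agent.AlgSpLib.repWith_yon_iff u₁).2 ‹_›) ha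
  have commq : ((AlgSp.yon S).map v₁ ≫ b) ≫ q.hom = (AlgSp.yon S).map v₂ ≫ c := by
    rw [Category.assoc]; exact sqV.w
  have commp : ((AlgSp.yon S).map u₁ ≫ a) ≫ p.hom = (AlgSp.yon S).map (h' ≫ v₂) ≫ c := by
    rw [show p.hom = f.hom ≫ q.hom from congrArg (fun m => m.hom) hc.symm, Category.assoc, ← Category.assoc a,
      comm, Category.assoc, sqU.w_assoc, Functor.map_comp, Category.assoc, sqV.w]
  have : Smooth v₂.left := hq _ c v₂ hb' hce commq
  have hp' : ∀ x, Synt.IsKoszulAt (h'.left ≫ v₂.left) x := hp _ c (h' ≫ v₂) ha' hce commp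
  have h1 : ∀ x, Synt.IsKoszulAt h'.left x := Groth.Agent.S9729.result h'.left v₂.left hp'
  have e : u₁ ≫ h = h' ≫ v₁ := (AlgSp.yon S).map_injective (by rw [Functor.map_comp, Functor.map_comp, sqU.w])
  refine (Groth.Agent.S9730.result u₁.left
    ((Groth.Agent.SyntLib.isSyntomicMor_iff u₁.left).2 (Groth.Agent.LciSp.synMor_of_etale u₁.left)) h.left).1 ?_
  rw [← Over.comp_left, e, Over.comp_left]
  exact Groth.Agent.KoszulLib.isKoszulAt_comp h'.left v₁.left h1 (Groth.Agent.LciSp.isKoszulAt_of_etale v₁.left)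

end Groth.Agent.S10666
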