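import Groth.Statements.S9169
import Groth.Agent.SyntLib.Spread

set_option autoImplicit false
universe u
open Synt

namespace Groth.Agent.S9169

open TensorProduct in
/-- Let R → S be a ring map and q a prime of S lying over p; write Q for the prime of the fibre ring
κ(p) ⊗ S that pulls back to q. Equivalent: (1) some basic open neighbourhood S_g of q is syntomic
over R; (2) some S_g is isomorphic over R to a relative global complete intersection; (3) some S_g
is of finite presentation over R, the local ring S_q is flat over R (equivalently over R_p), and the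
fibre local ring (κ(p) ⊗ S)_Q is a complete intersection over κ(p). Stated as (1) ↔ (2) and (1) ↔
(3). -/
theorem result (R S : Type u) [CommRing R] [CommRing S] [Algebra R S]
    (p : Ideal R) [p.IsPrime] (q : Ideal S) [q.IsPrime] [q.LiesOver p]
    (Q : Ideal (p.Fiber S)) [Q.IsPrime]
    (hQ : Q.comap (Algebra.TensorProduct.includeRight.toRingHom) = q) :
    ((∃ g : S, g ∉ q ∧ Synt.IsSyntomic R (Localization.Away g)) ↔
        ∃ g : S, g ∉ q ∧ ∃ (n c : ℕ) (F : Fin c → MvPolynomial (Fin n) R), Synt.IsRelGCI R n c F ∧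
          Nonempty (Localization.Away g ≃ₐ[R] Synt.RelGCIRing R n c F)) ∧
      ((∃ g : S, g ∉ q ∧ Synt.IsSyntomic R (Localization.Away g)) ↔
        ∃ g : S, g ∉ q ∧ Algebra.FinitePresentation R (Localization.Away g) ∧
          Module.Flat R (Localization.AtPrime q) ∧
          Synt.IsCIOver p.ResidueField (Localization.AtPrime Q)) := by
  have h12 : (∃ g : S, g ∉ q ∧ Synt.IsSyntomic R (Localization.Away g)) →
      ∃ g : S, g ∉ q ∧ Algebra.FinitePresentation R (Localization.Away g) ∧
        Module.Flat R (Localization.AtPrime q) ∧ Synt.IsCIOver p.ResidueField (Localization.AtPrime Q) := by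
    rintro ⟨g, hg, hsyn⟩
    obtain ⟨hf, hci⟩ := SyntLib.flat_and_isCIOver_of_syntomic_away g q hg hsyn p Q hQ
    exact ⟨g, hg, hsyn.2.1, hf, hci⟩
  have h23 : (∃ g : S, g ∉ q ∧ Algebra.FinitePresentation R (Localization.Away g) ∧
        Module.Flat R (Localization.AtPrime q) ∧ Synt.IsCIOver p.ResidueField (Localization.AtPrime Q)) →
      ∃ g : S, g ∉ q ∧ ∃ (n c : ℕ) (F : Fin c → MvPolynomial (Fin n) R), Synt.IsRelGCI R n c F ∧
          Nonempty (Localization.Away g ≃ₐ[R] Synt.RelGCIRing R n c F) := by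
    rintro ⟨g, hg, hfp, hf, hci⟩
    exact SyntLib.exists_relGCI_nhd g q hg p Q hQ hci
  have h31 : (∃ g : S, g ∉ q ∧ ∃ (n c : ℕ) (F : Fin c → MvPolynomial (Fin n) R), Synt.IsRelGCI R n c F ∧
          Nonempty (Localization.Away g ≃ₐ[R] Synt.RelGCIRing R n c F)) →
      ∃ g : S, g ∉ q ∧ Synt.IsSyntomic R (Localization.Away g) := by
    rintro ⟨g, hg, n, c, F, hF, ⟨e⟩⟩
    exact ⟨g, hg, SyntLib.isSyntomic_of_algEquiv e.symm (SyntLib.isSyntomic_relGCI hF)⟩
  exact ⟨⟨fun h => h23 (h12 h), h31⟩, ⟨h12, fun h => h31 (h23 h)⟩⟩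

end Groth.Agent.S9169
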