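import Groth.Statements.S12066
import Groth.Agent.S0238

set_option autoImplicit false
universe u
open CategoryTheory AlgebraicGeometry
open FSch

set_option backward.isDefEq.respectTransparency false
set_option linter.style.haveILetI false

namespace Groth.Agent.S12066.EtCovLevel

open AlgebraicGeometry Limits

variable (𝔛 : FSch.Sys.{u})

theorem equiv (h𝔛 : 𝔛.IsLocNoethFormal) (n : ℕ) : (FEt.restrict (𝔛.ι n)).IsEquivalence :=
  haveI := (h𝔛.1 n).1
  haveI : Surjective (𝔛.ι n) := ⟨(h𝔛.1 n).2⟩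
  Groth.Agent.S0238.result (𝔛.ι n)

variable {𝔛}

variable (R : EtCov 𝔛)

/-- the level `n` of a cover as an object -/
noncomputable abbrev lv (n : ℕ) : FEt.Cat (𝔛.X n) := (EtCov.level 𝔛 n).obj R

theorem sq (n : ℕ) : IsPullback (R.obj.left.ι n) ((R.obj.hom : FSch.Hom _ _).app n)
    ((R.obj.hom : FSch.Hom _ _).app (n + 1)) (𝔛.ι n) := R.property.1 n

theorem restrict_lv_fst (n : ℕ) : (sq R n).isoPullback.hom ≫ pullback.fst _ _ = R.obj.left.ι n :=
  (sq R n).isoPullback_hom_fst

/-- morphisms of level `n + 1` are determined by level `n` -/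
theorem lv_ext (h𝔛 : 𝔛.IsLocNoethFormal) {R' : EtCov 𝔛} {n : ℕ} (g g' : lv R (n + 1) ⟶ lv R' (n + 1))
    (h : R.obj.left.ι n ≫ g.left = R.obj.left.ι n ≫ g'.left) : g = g' := by
  haveI := equiv 𝔛 h𝔛 n
  refine (FEt.restrict (𝔛.ι n)).map_injective ?_
  ext1
  apply pullback.hom_ext
  · show pullback.lift _ _ _ ≫ pullback.fst _ _ = pullback.lift _ _ _ ≫ pullback.fst _ _
    rw [pullback.lift_fst, pullback.lift_fst]
    rw [← cancel_epi (sq R n).isoPullback.hom]
    exact ((Category.assoc _ _ _).symm.trans (congrArg (fun z => z ≫ g.left) (restrict_lv_fst R n))).trans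
      (h.trans (((Category.assoc _ _ _).symm.trans (congrArg (fun z => z ≫ g'.left) (restrict_lv_fst R n))).symm))
  · show pullback.lift _ _ _ ≫ pullback.snd _ _ = pullback.lift _ _ _ ≫ pullback.snd _ _
    rw [pullback.lift_snd, pullback.lift_snd]

/-- morphisms of level `n` extend to level `n + 1` -/
theorem lv_extend (h𝔛 : 𝔛.IsLocNoethFormal) {R' : EtCov 𝔛} {n : ℕ} (g : lv R n ⟶ lv R' n) :
    ∃ g' : lv R (n + 1) ⟶ lv R' (n + 1), g.left ≫ R'.obj.left.ι n = R.obj.left.ι n ≫ g'.left := by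
  haveI := equiv 𝔛 h𝔛 n
  let e : ∀ S : EtCov 𝔛, (FEt.restrict (𝔛.ι n)).obj (lv S (n + 1)) ≅ lv S n := fun S =>
    MorphismProperty.Over.isoMk (sq S n).isoPullback.symm ((sq S n).isoPullback_inv_snd)
  obtain ⟨g', hg'⟩ := (FEt.restrict (𝔛.ι n)).map_surjective ((e R).hom ≫ g ≫ (e R').inv)
  refine ⟨g', ?_⟩
  have h1 : pullback.lift (pullback.fst (lv R (n + 1)).hom (𝔛.ι n) ≫ g'.left)
      (pullback.snd (lv R (n + 1)).hom (𝔛.ι n))
      ((Category.assoc _ _ _).trans ((congrArg (pullback.fst _ _ ≫ ·) (Over.w g'.hom)).trans pullback.condition)) =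
      (sq R n).isoPullback.inv ≫ g.left ≫ (sq R' n).isoPullback.hom := congrArg (fun φ => φ.left) hg'
  have h2 := congrArg (fun φ => (sq R n).isoPullback.hom ≫ φ ≫ pullback.fst _ _) h1
  simp only [pullback.lift_fst, Category.assoc, Iso.hom_inv_id_assoc] at h2
  exact ((congrArg (fun z => g.left ≫ z) (restrict_lv_fst R' n)).symm.trans
    (h2.symm.trans ((Category.assoc _ _ _).symm.trans (congrArg (fun z => z ≫ g'.left) (restrict_lv_fst R n)))))

theorem faithful (h𝔛 : 𝔛.IsLocNoethFormal) : (EtCov.level 𝔛 0).Faithful where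
  map_injective {R R'} φ ψ h := by
    have key : ∀ n, (EtCov.level 𝔛 n).map φ = (EtCov.level 𝔛 n).map ψ := fun n => by
      induction n with
      | zero => exact h
      | succ n ih =>
        refine lv_ext R h𝔛 _ _ ?_
        show R.obj.left.ι n ≫ (φ.hom.left : FSch.Hom _ _).app (n + 1) = R.obj.left.ι n ≫ (ψ.hom.left : FSch.Hom _ _).app (n + 1)
        rw [← (φ.hom.left : FSch.Hom _ _).comm, ← (ψ.hom.left : FSch.Hom _ _).comm]
        exact congrArg (fun χ => χ.left ≫ _) ih
    ext1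
    exact Over.OverMorphism.ext (FSch.Hom.ext (funext fun n => congrArg (fun χ => χ.left) (key n)))

theorem full (h𝔛 : 𝔛.IsLocNoethFormal) : (EtCov.level 𝔛 0).Full where
  map_surjective {R R'} g := by
    choose next hnext using fun n (g : lv R n ⟶ lv R' n) => lv_extend R h𝔛 g
    let G : ∀ n, lv R n ⟶ lv R' n := fun n => Nat.rec (motive := fun n => lv R n ⟶ lv R' n) g next n
    let φ : R.obj.left ⟶ R'.obj.left := ⟨fun n => (G n).left, fun n => hnext n (G n)⟩
    have w : φ ≫ R'.obj.hom = R.obj.hom := FSch.Hom.ext (funext fun n => Over.w (G n).hom)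
    exact ⟨ObjectProperty.homMk (Over.homMk φ w), rfl⟩

theorem essSurj (h𝔛 : 𝔛.IsLocNoethFormal) : (EtCov.level 𝔛 0).EssSurj where
  mem_essImage Y₀ := by
    haveI := fun n => equiv 𝔛 h𝔛 n
    let Y : ∀ n, FEt.Cat (𝔛.X n) := fun n => Nat.rec (motive := fun n => FEt.Cat (𝔛.X n)) Y₀
      (fun n Z => (FEt.restrict (𝔛.ι n)).objPreimage Z) n
    let e : ∀ n, (FEt.restrict (𝔛.ι n)).obj (Y (n + 1)) ≅ Y n := fun n =>
      (FEt.restrict (𝔛.ι n)).objObjPreimageIso (Y n)
    let S : FSch.Sys.{u} := ⟨fun n => (Y n).left, fun n => (e n).inv.left ≫ pullback.fst (Y (n + 1)).hom (𝔛.ι n)⟩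
    have hw : ∀ n, (e n).inv.left ≫ pullback.snd (Y (n + 1)).hom (𝔛.ι n) = (Y n).hom := fun n =>
      Over.w (e n).inv.hom
    let f : S ⟶ 𝔛 := ⟨fun n => (Y n).hom, fun n => by
      show (Y n).hom ≫ 𝔛.ι n = ((e n).inv.left ≫ pullback.fst (Y (n + 1)).hom (𝔛.ι n)) ≫ (Y (n + 1)).hom
      rw [Category.assoc, pullback.condition, ← Category.assoc, hw]⟩
    have hf : IsEtaleCover f := by
      refine ⟨fun n => ?_, fun n => ⟨(Y n).prop.1, (Y n).prop.2⟩⟩
      let i : pullback (Y (n + 1)).hom (𝔛.ι n) ≅ (Y n).left :=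
        ((MorphismProperty.Over.forget _ _ _ ⋙ Over.forget _).mapIso (e n))
      exact (IsPullback.of_hasPullback (Y (n + 1)).hom (𝔛.ι n)).of_iso i (Iso.refl _) (Iso.refl _) (Iso.refl _)
        (by
          show pullback.fst _ _ ≫ 𝟙 _ = (e n).hom.left ≫ (e n).inv.left ≫ pullback.fst _ _
          rw [Category.comp_id, ← Category.assoc, show (e n).hom.left ≫ (e n).inv.left = 𝟙 _ from i.hom_inv_id,
            Category.id_comp])
        (by
          show pullback.snd _ _ ≫ 𝟙 _ = (e n).hom.left ≫ (Y n).hom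
          rw [Category.comp_id]
          exact (Over.w (e n).hom.hom).symm)
        (by simp [f]) (by simp)
    exact ⟨⟨Over.mk f, hf⟩, ⟨Iso.refl _⟩⟩

theorem isEquivalence_level (h𝔛 : 𝔛.IsLocNoethFormal) : (EtCov.level 𝔛 0).IsEquivalence where
  faithful := faithful h𝔛
  full := full h𝔛
  essSurj := essSurj h𝔛

end Groth.Agent.S12066.EtCovLevel

namespace Groth.Agent.S12066

/-- Let 𝔛 be a locally Noetherian formal scheme with an ideal of definition, presented as the adic
system of its thickenings X_0 → X_1 → ⋯ (each X_n locally Noetherian). Then the functor "fibre over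
X_0", from the category of étale covers of 𝔛 (adic systems R_n → X_n of finite étale covers) to the
category of finite étale covers of the scheme X_0, is an equivalence of categories. -/
theorem result (𝔛 : FSch.Sys.{u}) (h𝔛 : 𝔛.IsLocNoethFormal) :
    (FSch.EtCov.level 𝔛 0).IsEquivalence := by
  exact EtCovLevel.isEquivalence_level h𝔛

end Groth.Agent.S12066
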