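import Groth.Statements.S5777
import Mathlib
import Groth.Agent.LocalCrit.Criterion

set_option autoImplicit false
universe u
open EGA41

namespace Groth.Agent.S5777

set_option linter.style.haveILetI false
open TensorProduct RingTheory.Sequence Pointwise

theorem flat_quot {A : Type u} [CommRing A] (J : Ideal A) (M : Type u) [AddCommGroup M] [Module A M] [Module.Flat A M] :
    Module.Flat (A ⧸ J) (M ⧸ (J • (⊤ : Submodule A M))) :=
  Module.Flat.of_linearEquiv
    (((quotTensorEquivQuotSMul M J).symm).extendScalarsOfSurjective (S := A ⧸ J) Ideal.Quotient.mk_surjective)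

theorem mulMap_span_injective {A M : Type u} [CommRing A] [AddCommGroup M] [Module A M] {f : A}
    (hA : IsSMulRegular A f) (hM : IsSMulRegular M f) :
    Function.Injective (Groth.Agent.LocalCrit.mulMap (Ideal.span {f}) M) := by
  rw [injective_iff_map_eq_zero]
  intro z hz
  obtain ⟨m, rfl⟩ : ∃ m : M, z = (⟨f, Ideal.mem_span_singleton_self f⟩ : Ideal.span {f}) ⊗ₜ[A] m := by
    clear hz
    induction z with
    | zero => exact ⟨0, by simp⟩
    | tmul a m =>
      obtain ⟨a, ha⟩ := a
      obtain ⟨c, rfl⟩ := Ideal.mem_span_singleton'.1 ha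
      exact ⟨c • m, by rw [TensorProduct.tmul_smul, TensorProduct.smul_tmul']; rfl⟩
    | add a b ha hb =>
      obtain ⟨x, rfl⟩ := ha
      obtain ⟨y, rfl⟩ := hb
      exact ⟨x + y, (TensorProduct.tmul_add _ _ _).symm⟩
  rw [Groth.Agent.LocalCrit.mulMap_tmul] at hz
  rw [hM.right_eq_zero_of_smul hz, TensorProduct.tmul_zero]

theorem flat_double {A M W : Type u} [CommRing A] [AddCommGroup M] [Module A M] (f : A) (rs : List A)
    [AddCommGroup W] [Module (A ⧸ Ideal.span {f}) W] [Module A W] [IsScalarTower A (A ⧸ Ideal.span {f}) W]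
    (e : QuotSMulTop f M ≃ₗ[A] W)
    (h : Module.Flat (A ⧸ Ideal.ofList (f :: rs)) (M ⧸ (Ideal.ofList (f :: rs) • (⊤ : Submodule A M)))) :
    Module.Flat ((A ⧸ Ideal.span {f}) ⧸ Ideal.ofList (rs.map (Ideal.Quotient.mk (Ideal.span {f}))))
      (W ⧸ (Ideal.ofList (rs.map (Ideal.Quotient.mk (Ideal.span {f}))) • (⊤ : Submodule (A ⧸ Ideal.span {f}) W))) := by
  let I := Ideal.span {f}
  let J := Ideal.ofList (rs.map (Ideal.Quotient.mk I))
  let K := Ideal.ofList (f :: rs)
  have hJ : J = (Ideal.ofList rs).map (Ideal.Quotient.mk I) := (Ideal.map_ofList _ _).symm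
  let ψ : A →+* (A ⧸ I) ⧸ J := (Ideal.Quotient.mk J).comp (Ideal.Quotient.mk I)
  have hψ : Function.Surjective ψ := Ideal.Quotient.mk_surjective.comp Ideal.Quotient.mk_surjective
  have hker : RingHom.ker ψ = K := by
    rw [← RingHom.comap_ker, Ideal.mk_ker, hJ, Ideal.comap_map_of_surjective _ Ideal.Quotient.mk_surjective,
      ← RingHom.ker_eq_comap_bot, Ideal.mk_ker]
    simp only [K, I, Ideal.ofList_cons, sup_comm]
  letI : Algebra (A ⧸ K) ((A ⧸ I) ⧸ J) := (Ideal.Quotient.lift K ψ (fun a ha => RingHom.mem_ker.1 (hker ▸ ha))).toAlgebra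
  have hbij : Function.Bijective (algebraMap (A ⧸ K) ((A ⧸ I) ⧸ J)) := by
    refine ⟨?_, fun y => ?_⟩
    · exact RingHom.lift_injective_of_ker_le_ideal K (fun a ha => RingHom.mem_ker.1 (hker ▸ ha)) (le_of_eq hker)
    · obtain ⟨a, rfl⟩ := hψ y
      exact ⟨Ideal.Quotient.mk K a, rfl⟩
  let W' := W ⧸ (J • (⊤ : Submodule (A ⧸ I) W))
  letI : Module (A ⧸ K) W' := Module.compHom W' (algebraMap (A ⧸ K) ((A ⧸ I) ⧸ J))
  haveI : IsScalarTower A (A ⧸ K) W' := IsScalarTower.of_algebraMap_smul fun a w => by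
    obtain ⟨w, rfl⟩ := Submodule.Quotient.mk_surjective _ w
    change Submodule.Quotient.mk (Ideal.Quotient.mk I a • w) = Submodule.Quotient.mk (a • w)
    rw [← Ideal.Quotient.algebraMap_eq, algebraMap_smul]
  haveI : IsScalarTower (A ⧸ K) ((A ⧸ I) ⧸ J) W' := IsScalarTower.of_algebraMap_smul fun _ _ => rfl
  have hmap : (Ideal.ofList rs • (⊤ : Submodule A (QuotSMulTop f M))).map (e : QuotSMulTop f M →ₗ[A] W) =
      (J • (⊤ : Submodule (A ⧸ I) W)).restrictScalars A := by
    rw [Submodule.map_smul'', Submodule.map_top, LinearEquiv.range, hJ, ← Ideal.Quotient.algebraMap_eq,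
      Ideal.smul_restrictScalars, Submodule.restrictScalars_top]
  let e₁ : (M ⧸ (K • (⊤ : Submodule A M))) ≃ₗ[A] W' :=
    Submodule.quotOfListConsSMulTopEquivQuotSMulTopInner M f rs ≪≫ₗ
      Submodule.Quotient.equiv _ _ e hmap ≪≫ₗ Submodule.Quotient.restrictScalarsEquiv A _
  haveI := h
  haveI : Module.Flat (A ⧸ K) W' :=
    Module.Flat.of_linearEquiv (e₁.symm.extendScalarsOfSurjective (S := A ⧸ K) Ideal.Quotient.mk_surjective)
  let e₂ : ((A ⧸ I) ⧸ J) ⊗[A ⧸ K] W' ≃ₗ[A ⧸ K] W' :=
    (TensorProduct.congr (LinearEquiv.ofBijective (Algebra.linearMap (A ⧸ K) ((A ⧸ I) ⧸ J)) hbij).symm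
      (LinearEquiv.refl (A ⧸ K) W')).trans (TensorProduct.lid (A ⧸ K) W')
  exact Module.Flat.of_linearEquiv (e₂.symm.extendScalarsOfSurjective (S := (A ⧸ I) ⧸ J) hbij.2)

/-- Flatness descends from the quotient by a regular sequence. -/
theorem flat_of (A : Type u) [CommRing A] [IsLocalRing A] [IsNoetherianRing A] (fs : List A)
    (hfs : ∀ f ∈ fs, f ∈ IsLocalRing.maximalIdeal A) (hA : IsWeaklyRegular A fs)
    (B : Type u) [CommRing B] [IsLocalRing B] [IsNoetherianRing B] [Algebra A B] [IsLocalHom (algebraMap A B)]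
    (M : Type u) [AddCommGroup M] [Module B M] [Module A M] [IsScalarTower A B M] [Module.Finite B M]
    (hM : IsWeaklyRegular M fs)
    (h : Module.Flat (A ⧸ Ideal.ofList fs) (M ⧸ (Ideal.ofList fs • (⊤ : Submodule A M)))) :
    Module.Flat A M := by
  induction hn : fs.length generalizing A fs B M with
  | zero =>
    obtain rfl := List.length_eq_zero_iff.1 hn
    haveI := h
    have hbot : (Ideal.ofList ([] : List A)) = ⊥ := Ideal.ofList_nil
    let e : M ≃ₗ[A] M ⧸ (Ideal.ofList ([] : List A) • (⊤ : Submodule A M)) :=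
      (Submodule.quotEquivOfEqBot _ (by rw [hbot, Submodule.bot_smul])).symm
    haveI : Module.Flat A (A ⧸ Ideal.ofList ([] : List A)) :=
      Module.Flat.of_linearEquiv (Submodule.quotEquivOfEqBot _ hbot)
    haveI : Module.Flat A (M ⧸ (Ideal.ofList ([] : List A) • (⊤ : Submodule A M))) :=
      Module.Flat.trans A (A ⧸ Ideal.ofList ([] : List A)) _
    exact Module.Flat.of_linearEquiv e
  | succ n ih =>
    obtain ⟨f, rs, rfl⟩ := List.exists_cons_of_length_eq_add_one hn
    obtain ⟨hfA, hrA⟩ := (isWeaklyRegular_cons_iff' A f rs).1 hA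
    obtain ⟨hfM, hrM⟩ := (isWeaklyRegular_cons_iff' M f rs).1 hM
    let I := Ideal.span {f}
    have hf : f ∈ IsLocalRing.maximalIdeal A := hfs f (List.mem_cons_self ..)
    have hI : I ≠ ⊤ := fun e => (IsLocalRing.maximalIdeal.isMaximal A).ne_top
      (top_le_iff.1 (e ▸ (Ideal.span_singleton_le_iff_mem _).2 hf))
    haveI : Nontrivial (A ⧸ I) := Ideal.Quotient.nontrivial_iff.2 hI
    haveI : IsLocalRing (A ⧸ I) := IsLocalRing.of_surjective' (Ideal.Quotient.mk I) Ideal.Quotient.mk_surjective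
    let IB := I.map (algebraMap A B)
    have hIB : IB ≠ ⊤ := fun e => (IsLocalRing.maximalIdeal.isMaximal B).ne_top (top_le_iff.1 (e ▸
      (Ideal.map_le_iff_le_comap.2 ((Ideal.span_singleton_le_iff_mem _).2 (map_nonunit (algebraMap A B) f hf)))))
    haveI : Nontrivial (B ⧸ IB) := Ideal.Quotient.nontrivial_iff.2 hIB
    haveI : IsLocalRing (B ⧸ IB) := IsLocalRing.of_surjective' (Ideal.Quotient.mk IB) Ideal.Quotient.mk_surjective
    letI : Algebra (A ⧸ I) (B ⧸ IB) := (Ideal.quotientMap IB (algebraMap A B) Ideal.le_comap_map).toAlgebra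
    haveI : IsLocalHom (algebraMap (A ⧸ I) (B ⧸ IB)) := by
      refine ⟨fun a ha => ?_⟩
      obtain ⟨a, rfl⟩ := Ideal.Quotient.mk_surjective a
      have hu : IsUnit (Ideal.Quotient.mk IB (algebraMap A B a)) := ha
      haveI := IsLocalHom.of_surjective (Ideal.Quotient.mk IB) Ideal.Quotient.mk_surjective
      exact ((isUnit_of_map_unit (algebraMap A B) a) (isUnit_of_map_unit (Ideal.Quotient.mk IB) _ hu)).map _
    let M' := M ⧸ (IB • (⊤ : Submodule B M))
    letI : Module (A ⧸ I) M' := Module.compHom M' (algebraMap (A ⧸ I) (B ⧸ IB))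
    haveI : IsScalarTower (A ⧸ I) (B ⧸ IB) M' := IsScalarTower.of_algebraMap_smul fun _ _ => rfl
    haveI : IsScalarTower A (A ⧸ I) M' := IsScalarTower.of_algebraMap_smul fun a z => by
      obtain ⟨z, rfl⟩ := Submodule.Quotient.mk_surjective _ z
      change Submodule.Quotient.mk (algebraMap A B a • z) = Submodule.Quotient.mk (a • z)
      rw [algebraMap_smul]
    haveI : Module.Finite (B ⧸ IB) M' := Module.Finite.of_restrictScalars_finite B _ _
    have hsub : (f • (⊤ : Submodule A M)) = (IB • (⊤ : Submodule B M)).restrictScalars A := by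
      rw [← Submodule.ideal_span_singleton_smul, Ideal.smul_restrictScalars, Submodule.restrictScalars_top]
    let e : QuotSMulTop f M ≃ₗ[A] M' :=
      Submodule.quotEquivOfEq _ _ hsub ≪≫ₗ Submodule.Quotient.restrictScalarsEquiv A _
    let rs' := rs.map (Ideal.Quotient.mk I)
    have hrA' : IsWeaklyRegular (A ⧸ I) rs' := by
      refine ((Submodule.quotEquivOfEq _ _ ?_).extendScalarsOfSurjective (S := A ⧸ I)
        Ideal.Quotient.mk_surjective).isWeaklyRegular_congr _ |>.1 hrA
      rw [← Submodule.ideal_span_singleton_smul]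
      exact Ideal.mul_top _
    have hrM' : IsWeaklyRegular M' rs' :=
      ((e.extendScalarsOfSurjective (S := A ⧸ I) Ideal.Quotient.mk_surjective).isWeaklyRegular_congr _).1 hrM
    have hflat : Module.Flat (A ⧸ I) M' := by
      refine ih (A ⧸ I) rs' (fun g hg => ?_) hrA' (B ⧸ IB) M' hrM' (flat_double f rs e h) (by simpa [rs'] using hn)
      obtain ⟨g, hg', rfl⟩ := List.mem_map.1 hg
      haveI := IsLocalHom.of_surjective (Ideal.Quotient.mk I) Ideal.Quotient.mk_surjective
      exact fun hu => hfs g (List.mem_cons_of_mem _ hg') (isUnit_of_map_unit (Ideal.Quotient.mk I) g hu)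
    haveI : Module.Flat (A ⧸ I) (QuotSMulTop f M) := by
      haveI := hflat
      exact Module.Flat.of_linearEquiv (e.extendScalarsOfSurjective (S := A ⧸ I) Ideal.Quotient.mk_surjective)
    exact Groth.Agent.LocalCrit.flat_of_quotient_flat B I hI (mulMap_span_injective hfA hfM)
      (Module.Flat.of_linearEquiv
        (((quotTensorEquivQuotSMul M I).trans (Submodule.quotEquivOfEq _ _ (Submodule.ideal_span_singleton_smul f ⊤))
          ).extendScalarsOfSurjective (S := A ⧸ I) Ideal.Quotient.mk_surjective))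

/-- Let φ : A → B be a local homomorphism of Noetherian local rings, M a finitely generated B-module and
(f_i)_{1 ≤ i ≤ n} an A-regular sequence of elements of the maximal ideal of A, generating the ideal
J. Then M is flat over A if and only if M/JM is flat over A/J and (f_i) is an M-regular sequence. -/
theorem result (A B : Type u) [CommRing A] [CommRing B]
    [IsLocalRing A] [IsLocalRing B] [IsNoetherianRing A] [IsNoetherianRing B] [Algebra A B]
    [IsLocalHom (algebraMap A B)] (M : Type u) [AddCommGroup M] [Module B M] [Module A M]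
    [IsScalarTower A B M] [Module.Finite B M] (fs : List A) (hfs : ∀ f ∈ fs, f ∈ IsLocalRing.maximalIdeal A)
    (hA : RingTheory.Sequence.IsWeaklyRegular A fs) :
    Module.Flat A M ↔
      Module.Flat (A ⧸ Ideal.ofList fs) (M ⧸ (Ideal.ofList fs • (⊤ : Submodule A M))) ∧
        RingTheory.Sequence.IsWeaklyRegular M fs := by
  refine ⟨fun hfl => ?_, fun ⟨h1, h2⟩ => flat_of A fs hfs hA B M h2 h1⟩
  haveI := hfl
  refine ⟨flat_quot (Ideal.ofList fs) M, (RingTheory.Sequence.isWeaklyRegular_iff _ _).2 fun i hi => ?_⟩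
  have h := (RingTheory.Sequence.isWeaklyRegular_iff _ _).1 hA i hi
  rw [show (Ideal.ofList (fs.take i) • ⊤ : Submodule A A) = Ideal.ofList (fs.take i) from Ideal.mul_top _] at h
  exact ((TensorProduct.tensorQuotEquivQuotSMul M (Ideal.ofList (fs.take i))).isSMulRegular_congr _).1
    (h.lTensor _)

end Groth.Agent.S5777
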