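import Groth.Statements.S9827
import Groth.Agent.LocFree.Props
import Groth.Agent.QC.SpecFT

set_option autoImplicit false
universe u
open CategoryTheory CategoryTheory.Limits AlgebraicGeometry TopologicalSpace Opposite
open Props

namespace Groth.Agent.S9827

/-- The sheaf associated to a module over a ring is of finite presentation on the spectrum if and only
if the module is finitely presented. -/
theorem result (R : CommRingCat.{u}) (M : ModuleCat.{u} R) :
    CohB1.IsFP (tilde M) ↔ Module.FinitePresentation R M := by
  constructor
  · intro h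
    have hU : IsAffineOpen (⊤ : (Spec R).Opens) := isAffineOpen_top _
    haveI := Groth.Agent.LocFree.finitePresentation_sections_of_isFP
      (Groth.Agent.QC.isQCoh_tilde M) h hU
    letI := (Scheme.ΓSpecIso R).inv.hom.toAlgebra
    have hb : Function.Bijective (algebraMap R Γ(Spec R, ⊤)) :=
      ConcreteCategory.bijective_of_isIso (Scheme.ΓSpecIso R).inv
    haveI : Module.FinitePresentation R Γ(Spec R, ⊤) :=
      Module.FinitePresentation.of_equiv (LinearEquiv.ofBijective (Algebra.linearMap R Γ(Spec R, ⊤)) hb)
    haveI : IsScalarTower R Γ(Spec R, ⊤) Γ(tilde M, ⊤) := ⟨fun a c m => by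
      rw [Algebra.smul_def, mul_smul]
      exact (Scheme.Modules.smul_Spec_def a (c • m)).symm.trans rfl |>.trans rfl⟩
    haveI : Module.FinitePresentation R Γ(tilde M, ⊤) :=
      Module.FinitePresentation.trans R Γ(tilde M, ⊤) Γ(Spec R, ⊤)
    exact @Module.FinitePresentation.of_equiv _ _ _ _ _ _ _ _ ((tilde.toTildeΓNatIso.app M).toLinearEquiv.symm) (by assumption)
  · intro h
    exact Groth.Agent.QC.isFP_tilde M

end Groth.Agent.S9827
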