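import Mathlib

/-! Lifting an isomorphism of quotients to finite extensions iso in `f`. -/

set_option autoImplicit false
set_option linter.style.haveILetI false
set_option synthInstance.maxHeartbeats 200000
universe u

noncomputable section

namespace Groth.Agent.LiftQuotIso

variable (A' A : Type u) [CommRing A'] [CommRing A] [Algebra A' A]

theorem exists_conductor [Module.Finite A' A] (f : A') (hf : algebraMap A' A f ∈ nonZeroDivisors A)
    (hloc : Function.Bijective (IsLocalization.Away.map (Localization.Away f)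
      (Localization.Away (algebraMap A' A f)) (algebraMap A' A) f)) :
    ∃ c : ℕ, ∀ a : A, ∃ a' : A', algebraMap A' A a' = algebraMap A' A f ^ c * a := by
  classical
  have h1 : ∀ a : A, ∃ m : ℕ, ∃ a' : A', algebraMap A' A a' = algebraMap A' A f ^ m * a := by
    intro a
    obtain ⟨z, hz⟩ := hloc.2 (algebraMap A _ a)
    obtain ⟨⟨a', ⟨s, m, rfl⟩⟩, hs⟩ := IsLocalization.surj (Submonoid.powers f) z
    have h2 := congrArg (IsLocalization.Away.map (Localization.Away f)
      (Localization.Away (algebraMap A' A f)) (algebraMap A' A) f) hs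
    simp only [map_mul, hz] at h2
    simp only [IsLocalization.Away.map, IsLocalization.map_eq, map_pow] at h2
    rw [← map_pow, ← map_mul] at h2
    refine ⟨m, a', ?_⟩
    have hinj : Function.Injective (algebraMap A (Localization.Away (algebraMap A' A f))) :=
      IsLocalization.injective _ (Submonoid.powers_le.2 hf)
    rw [← hinj h2, mul_comm]
  choose m a' ha' using h1
  obtain ⟨s, hs⟩ := Module.Finite.fg_top (R := A') (M := A)
  refine ⟨s.sup m, fun a => ?_⟩
  have ha : a ∈ Submodule.span A' (s : Set A) := hs ▸ Submodule.mem_top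
  induction ha using Submodule.span_induction with
  | mem x hx =>
    refine ⟨f ^ (s.sup m - m x) * a' x, ?_⟩
    rw [map_mul, map_pow, ha', ← mul_assoc, ← pow_add, Nat.sub_add_cancel (Finset.le_sup hx)]
  | zero => exact ⟨0, by simp⟩
  | add x y _ _ hx hy =>
    obtain ⟨p, hp⟩ := hx; obtain ⟨q, hq⟩ := hy
    exact ⟨p + q, by rw [map_add, hp, hq, mul_add]⟩
  | smul r x _ hx =>
    obtain ⟨p, hp⟩ := hx
    exact ⟨r * p, by rw [map_mul, hp, Algebra.smul_def]; ring⟩

theorem main (hinj : Function.Injective (algebraMap A' A)) [Module.Finite A' A] (f : A')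
    (hf : algebraMap A' A f ∈ nonZeroDivisors A)
    (hloc : Function.Bijective (IsLocalization.Away.map (Localization.Away f)
      (Localization.Away (algebraMap A' A f)) (algebraMap A' A) f)) :
    ∃ n₀ : ℕ, 0 < n₀ ∧ ∀ n : ℕ, n₀ ≤ n →
      ∀ (B' : Type u) [CommRing B'] (g : B'), g ∈ nonZeroDivisors B' →
        ∀ φ' : (A' ⧸ Ideal.span {f ^ n}) ≃+* (B' ⧸ Ideal.span {g ^ n}),
        φ' (Ideal.Quotient.mk (Ideal.span {f ^ n}) f) = Ideal.Quotient.mk (Ideal.span {g ^ n}) g →
        ∃ (B : Type u) (_ : CommRing B) (_ : Algebra B' B),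
          Function.Injective (algebraMap B' B) ∧ Module.Finite B' B ∧
          ∃ φ : (A ⧸ Ideal.span {algebraMap A' A f}) ≃+* (B ⧸ Ideal.span {algebraMap B' B g}),
            ∀ (a' : A') (b' : B'),
              φ' (Ideal.Quotient.mk (Ideal.span {f ^ n}) a') = Ideal.Quotient.mk (Ideal.span {g ^ n}) b' →
              φ (Ideal.Quotient.mk (Ideal.span {algebraMap A' A f}) (algebraMap A' A a')) =
                Ideal.Quotient.mk (Ideal.span {algebraMap B' B g}) (algebraMap B' B b') := by
  classical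
  obtain ⟨c, hc⟩ := exists_conductor A' A f hf hloc
  choose ξ hξ using hc
  have ξadd : ∀ a b, ξ (a + b) = ξ a + ξ b := fun a b => hinj (by rw [map_add, hξ, hξ, hξ, mul_add])
  have ξmul : ∀ a b, ξ a * ξ b = f ^ c * ξ (a * b) := fun a b => hinj (by
    rw [map_mul, map_mul, map_pow, hξ, hξ, hξ]; ring)
  have ξf : ∀ a, ξ (algebraMap A' A f * a) = f * ξ a := fun a => hinj (by rw [map_mul, hξ, hξ]; ring)
  have ξsm : ∀ (r : A') a, ξ (algebraMap A' A r * a) = r * ξ a := fun r a => hinj (by rw [map_mul, hξ, hξ]; ring)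
  have ξone : ξ 1 = f ^ c := hinj (by rw [hξ, map_pow, mul_one])
  refine ⟨2 * c + 1, Nat.succ_pos _, fun n hn B' _ g hg φ' hφ' => ?_⟩
  let qa : A' →+* A' ⧸ Ideal.span {f ^ n} := Ideal.Quotient.mk _
  let qb : B' →+* B' ⧸ Ideal.span {g ^ n} := Ideal.Quotient.mk _
  let χ : A' →+* B' ⧸ Ideal.span {g ^ n} := φ'.toRingHom.comp qa
  have hχf : χ f = qb g := hφ'
  have hχsurj : Function.Surjective χ := φ'.surjective.comp Ideal.Quotient.mk_surjective
  choose L hL using (Ideal.Quotient.mk_surjective : Function.Surjective qb)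
  let j : A → B' := fun a => L (χ (ξ a))
  have hj : ∀ a, qb (j a) = χ (ξ a) := fun a => hL _
  let J : Set B' := {b | ∃ a, qb b = χ (ξ a)}
  -- the ring `g ^ (-c) J`
  let Bg := Localization.Away g
  let al : B' →+* Bg := algebraMap B' Bg
  have hal : Function.Injective al := IsLocalization.injective Bg (Submonoid.powers_le.2 hg)
  have hgu : IsUnit (al g) := IsLocalization.Away.algebraMap_isUnit g
  have hdiv : ∀ b : B', qb b = 0 → ∃ e, b = g ^ n * e := fun b hb => by
    rw [Ideal.Quotient.eq_zero_iff_mem, Ideal.mem_span_singleton] at hb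
    exact hb
  let SB : Subalgebra B' Bg :=
    { carrier := {x | ∃ b ∈ J, al g ^ c * x = al b}
      mul_mem' := by
        rintro x y ⟨b, ⟨a, ha⟩, hx⟩ ⟨b', ⟨a', ha'⟩, hy⟩
        obtain ⟨e, he⟩ := hdiv (b * b' - g ^ c * j (a * a')) (by
          rw [map_sub, map_mul, map_mul, map_pow, hj, ha, ha', ← map_mul, ξmul, map_mul, map_pow, hχf, sub_self])
        obtain ⟨r', hr'⟩ := hχsurj (qb e)
        refine ⟨j (a * a') + g ^ (n - c) * e, ⟨a * a' + algebraMap A' A (f ^ (n - 2 * c) * r'), ?_⟩, ?_⟩
        · rw [map_add, map_mul, map_pow, hj, ← hr', ξadd, map_add χ]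
          congr 1
          have : ξ (algebraMap A' A (f ^ (n - 2 * c) * r')) = f ^ (n - c) * r' := hinj (by
            rw [hξ, map_mul, map_mul, map_pow, map_pow, ← mul_assoc, ← pow_add, show c + (n - 2 * c) = n - c by omega])
          rw [this, map_mul, map_pow, hχf]
        · refine (hgu.pow c).mul_left_cancel ?_
          rw [← mul_assoc, show al g ^ c * al g ^ c * (x * y) = (al g ^ c * x) * (al g ^ c * y) by ring, hx, hy,
            ← map_mul, ← map_pow, ← map_mul]
          congr 1
          have h1 : g ^ c * g ^ (n - c) = g ^ n := by rw [← pow_add, Nat.add_sub_cancel' (by omega)]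
          rw [mul_add, ← mul_assoc, h1, ← he, add_sub_cancel]
      add_mem' := by
        rintro x y ⟨b, ⟨a, ha⟩, hx⟩ ⟨b', ⟨a', ha'⟩, hy⟩
        exact ⟨b + b', ⟨a + a', by rw [map_add, ha, ha', ξadd, map_add]⟩, by rw [mul_add, hx, hy, map_add]⟩
      algebraMap_mem' := fun r => by
        obtain ⟨r', hr'⟩ := hχsurj (qb r)
        exact ⟨g ^ c * r, ⟨algebraMap A' A r' * 1, by
          rw [ξsm, ξone, map_mul, map_mul, map_pow, map_pow, hχf, hr']; ring⟩, by rw [map_mul, map_pow]⟩ }
  have hmk : ∀ b ∈ J, ∃ x : SB, al g ^ c * (x : Bg) = al b := fun b hb => by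
    refine ⟨⟨(hgu.pow c).unit⁻¹ * al b, b, hb, ?_⟩, ?_⟩ <;>
    · rw [← mul_assoc, IsUnit.mul_val_inv, one_mul]
  let gB : SB := algebraMap B' SB g
  have hgB : ∀ e : B', ∀ m : ℕ, 1 ≤ m → algebraMap B' SB (g ^ m * e) ∈ Ideal.span {gB} := fun e m hm => by
    obtain ⟨k, rfl⟩ : ∃ k, m = k + 1 := ⟨m - 1, by omega⟩
    rw [Ideal.mem_span_singleton, pow_succ', mul_assoc, map_mul]
    exact dvd_mul_right _ _
  choose X hX using fun a : A => hmk (j a) ⟨a, hj a⟩
  -- well-definedness
  have key : ∀ (x : SB) (a : A) (b : B'), al g ^ c * (x : Bg) = al b → qb b = χ (ξ a) →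
      x - X a ∈ Ideal.span {gB} := by
    intro x a b hxb hb
    obtain ⟨e, he⟩ := hdiv (b - j a) (by rw [map_sub, hb, hj, sub_self])
    have h1 : x - X a = algebraMap B' SB (g ^ (n - c) * e) := Subtype.ext ((hgu.pow c).mul_left_cancel (by
      show al g ^ c * ((x : Bg) - (X a : Bg)) = al g ^ c * al (g ^ (n - c) * e)
      rw [mul_sub, hxb, hX, ← map_sub, he, ← map_pow, ← map_mul, ← mul_assoc, ← pow_add,
        Nat.add_sub_cancel' (by omega)]))
    rw [h1]
    exact hgB e _ (by omega)
  let Φ : A →+* SB ⧸ Ideal.span {gB} :=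
    { toFun := fun a => Ideal.Quotient.mk _ (X a)
      map_one' := by
        rw [eq_comm, ← map_one (Ideal.Quotient.mk (Ideal.span {gB})), Ideal.Quotient.eq]
        exact key 1 1 (g ^ c) (by rw [map_pow, OneMemClass.coe_one, mul_one]) (by rw [ξone, map_pow, map_pow, hχf])
      map_zero' := by
        have h0 : ξ 0 = 0 := hinj (by rw [hξ, map_zero, mul_zero])
        rw [eq_comm, ← map_zero (Ideal.Quotient.mk (Ideal.span {gB})), Ideal.Quotient.eq]
        exact key 0 0 0 (by rw [map_zero, ZeroMemClass.coe_zero, mul_zero]) (by rw [h0, map_zero, map_zero])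
      map_add' := fun a b => by
        rw [eq_comm, ← map_add, Ideal.Quotient.eq]
        exact key _ _ (j a + j b) (by rw [AddMemClass.coe_add, mul_add, hX, hX, map_add])
          (by rw [map_add, hj, hj, ξadd, map_add])
      map_mul' := fun a b => by
        rw [eq_comm, ← map_mul, Ideal.Quotient.eq]
        obtain ⟨e, he⟩ := hdiv (j a * j b - g ^ c * j (a * b)) (by
          rw [map_sub, map_mul, map_mul, map_pow, hj, hj, hj, ← map_mul, ξmul, map_mul, map_pow, hχf, sub_self])
        have h1 : X a * X b - X (a * b) = algebraMap B' SB (g ^ (n - 2 * c) * e) := Subtype.ext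
          ((hgu.pow (2 * c)).mul_left_cancel (by
            show al g ^ (2 * c) * ((X a : Bg) * X b - X (a * b)) = al g ^ (2 * c) * al (g ^ (n - 2 * c) * e)
            rw [show al g ^ (2 * c) * ((X a : Bg) * X b - X (a * b)) = (al g ^ c * (X a : Bg)) * (al g ^ c * (X b : Bg))
              - al g ^ c * (al g ^ c * (X (a * b) : Bg)) by ring, hX, hX, hX, ← map_pow, ← map_mul, ← map_mul,
              ← map_sub, he, ← map_pow, ← map_mul, ← mul_assoc, ← pow_add, Nat.add_sub_cancel' (by omega)]))
        rw [h1]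
        exact hgB e _ (by omega) }
  have hΦsurj : Function.Surjective Φ := fun y => by
    obtain ⟨x, rfl⟩ := Ideal.Quotient.mk_surjective y
    obtain ⟨b, ⟨a, ha⟩, hxb⟩ := x.2
    exact ⟨a, ((Ideal.Quotient.eq).2 (key x a b hxb ha)).symm⟩
  have hker : RingHom.ker Φ = Ideal.span {algebraMap A' A f} := by
    ext a
    rw [RingHom.mem_ker, Ideal.mem_span_singleton]
    show Ideal.Quotient.mk (Ideal.span {gB}) (X a) = 0 ↔ _
    rw [Ideal.Quotient.eq_zero_iff_mem, Ideal.mem_span_singleton]
    constructor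
    · rintro ⟨x, hx⟩
      obtain ⟨b, ⟨a₀, ha₀⟩, hxb⟩ := x.2
      have h1 : j a = g * b := hal (by
        rw [← hX, hx, map_mul, show ((gB * x : SB) : Bg) = al g * (x : Bg) from rfl, ← hxb]; ring)
      have h2 : χ (ξ a) = χ (f * ξ a₀) := by rw [← hj, h1, map_mul, map_mul, ha₀, hχf]
      have h3 : qa (ξ a) = qa (f * ξ a₀) := φ'.injective h2
      rw [Ideal.Quotient.eq, Ideal.mem_span_singleton] at h3
      obtain ⟨e, he⟩ := h3
      have h4 := congrArg (algebraMap A' A) he
      rw [map_sub, map_mul, map_mul, map_pow, hξ, hξ] at h4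
      refine ⟨a₀ + algebraMap A' A f ^ (n - c - 1) * algebraMap A' A e, ?_⟩
      refine (mul_cancel_left_mem_nonZeroDivisors (pow_mem hf c)).1 ?_
      have h5 : algebraMap A' A f ^ c * (algebraMap A' A f * algebraMap A' A f ^ (n - c - 1)) = algebraMap A' A f ^ n := by
        rw [← pow_succ', ← pow_add]; congr 1; omega
      linear_combination h4 - algebraMap A' A e * h5
    · rintro ⟨a₀, rfl⟩
      have h1 := key (gB * X a₀) (algebraMap A' A f * a₀) (g * j a₀) (by
        show al g ^ c * (al g * (X a₀ : Bg)) = _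
        rw [mul_left_comm, hX, map_mul]) (by rw [map_mul, hj, ξf, map_mul, hχf])
      have h2 : gB * X a₀ ∈ Ideal.span {gB} := Ideal.mem_span_singleton.2 (dvd_mul_right _ _)
      exact Ideal.mem_span_singleton.1 ((sub_sub_cancel (gB * X a₀) (X (algebraMap A' A f * a₀))) ▸ sub_mem h2 h1)
  -- finiteness
  obtain ⟨s, hs⟩ := Module.Finite.fg_top (R := A') (M := A)
  have hfin : Module.Finite B' SB := by
    refine ⟨⟨insert 1 (s.image X), ?_⟩⟩
    rw [eq_top_iff]
    rintro x -
    set S := Submodule.span B' ((insert 1 (s.image X) : Finset SB) : Set SB)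
    obtain ⟨b, ⟨a, ha⟩, hxb⟩ := x.2
    have hsmall : ∀ e : B', algebraMap B' SB e ∈ S := fun e => by
      rw [Algebra.algebraMap_eq_smul_one]
      exact S.smul_mem e (Submodule.subset_span (by simp))
    have hXmem : ∀ a : A, ∀ y : SB, ∀ b : B', al g ^ c * (y : Bg) = al b → qb b = χ (ξ a) → y ∈ S := by
      intro a
      have ha : a ∈ Submodule.span A' (s : Set A) := hs ▸ Submodule.mem_top
      induction ha using Submodule.span_induction with
      | mem a ha =>
        intro y b hy hb
        obtain ⟨e, he⟩ := hdiv (b - j a) (by rw [map_sub, hb, hj, sub_self])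
        have h1 : y = X a + algebraMap B' SB (g ^ (n - c) * e) := Subtype.ext ((hgu.pow c).mul_left_cancel (by
          show _ = al g ^ c * ((X a : Bg) + al (g ^ (n - c) * e))
          rw [hy, mul_add, hX, ← map_pow, ← map_mul, ← mul_assoc, ← pow_add, Nat.add_sub_cancel' (by omega), ← he,
            ← map_add, add_sub_cancel]))
        rw [h1]
        exact add_mem (Submodule.subset_span (by simp [Finset.mem_image]; exact Or.inr ⟨a, ha, rfl⟩)) (hsmall _)
      | zero =>
        intro y b hy hb
        rw [show ξ 0 = 0 from hinj (by rw [hξ, map_zero, mul_zero]), map_zero] at hb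
        obtain ⟨e, rfl⟩ := hdiv b hb
        have h1 : y = algebraMap B' SB (g ^ (n - c) * e) := Subtype.ext ((hgu.pow c).mul_left_cancel (by
          show _ = al g ^ c * al (g ^ (n - c) * e)
          rw [hy, ← map_pow, ← map_mul, ← mul_assoc, ← pow_add, Nat.add_sub_cancel' (by omega)]))
        rw [h1]; exact hsmall _
      | add a₁ a₂ _ _ h₁ h₂ =>
        intro y b hy hb
        have h3 : y - X a₂ ∈ S := h₁ (y - X a₂) (b - j a₂) (by rw [AddSubgroupClass.coe_sub, mul_sub, hy, hX, map_sub])
          (by rw [map_sub, hb, hj, ξadd, map_add, add_sub_cancel_right])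
        rw [← sub_add_cancel y (X a₂)]
        exact add_mem h3 (h₂ (X a₂) (j a₂) (hX a₂) (hj a₂))
      | smul r a _ h =>
        intro y b hy hb
        obtain ⟨e, he⟩ := Ideal.Quotient.mk_surjective (χ r)
        obtain ⟨d, hd⟩ := hdiv (b - e * j a) (by
          rw [map_sub, hb, map_mul, he, hj, Algebra.smul_def, ξsm, map_mul, sub_self])
        have h1 : y = e • X a + algebraMap B' SB (g ^ (n - c) * d) := Subtype.ext ((hgu.pow c).mul_left_cancel (by
          show _ = al g ^ c * ((e • (X a : Bg)) + al (g ^ (n - c) * d))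
          rw [Algebra.smul_def, hy, mul_add, mul_left_comm, hX, ← map_pow, ← map_mul, ← map_mul, ← mul_assoc, ← pow_add,
            Nat.add_sub_cancel' (by omega), ← hd, ← map_add, add_sub_cancel]))
        rw [h1]
        exact add_mem (S.smul_mem e (h (X a) (j a) (hX a) (hj a))) (hsmall _)
    exact hXmem a x b hxb ha
  refine ⟨SB, inferInstance, inferInstance, fun a b h => hal (congrArg (fun z : SB => (z : Bg)) h), hfin,
    (Ideal.quotEquivOfEq hker.symm).trans (RingHom.quotientKerEquivOfSurjective hΦsurj), fun a' b' h => ?_⟩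
  show Φ (algebraMap A' A a') = _
  show Ideal.Quotient.mk (Ideal.span {gB}) (X (algebraMap A' A a')) = Ideal.Quotient.mk _ (algebraMap B' SB b')
  rw [eq_comm, Ideal.Quotient.eq]
  refine key (algebraMap B' SB b') _ (g ^ c * b') (by
    show al g ^ c * al b' = _
    rw [map_mul, map_pow]) ?_
  have h1 : ξ (algebraMap A' A a') = f ^ c * a' := hinj (by rw [hξ, map_mul, map_pow])
  rw [h1, map_mul, map_mul, map_pow, map_pow, hχf]
  exact congrArg (qb g ^ c * ·) h.symm

end Groth.Agent.LiftQuotIso
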