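import Groth.Statements.S18878
import Groth.Agent.LimGrp.Factor

set_option autoImplicit false
universe u
open Lim

namespace Groth.Agent.S18878
open Groth.Agent CategoryTheory CategoryTheory.Limits MonoidalCategory CartesianMonoidalCategory MonObj GrpObj AlgebraicGeometry

open CategoryTheory AlgebraicGeometry in
/-- Let S = lim S_i be a cofiltered limit of schemes with affine transition morphisms over a
quasi-compact quasi-separated stage S_{i₀}, let G₀ be a group scheme separated and of finite
presentation over S_{i₀} and H₀ ⊆ G₀ a closed subscheme whose immersion is of finite presentation,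
and write G, H (resp. G_i, H_i) for the base changes to S (resp. to a stage S_i). If H is a closed
subgroup scheme of G, that is H carries a group structure over S for which H → G is a homomorphism,
then H_i is a closed subgroup scheme of G_i for some stage i → i₀; if moreover H is normal in G, the
stage can be chosen so that H_i is normal in G_i. (The published statement is for separated finitely
presented group algebraic spaces and an arbitrary closed subspace H₀; this row is the case of
schemes and assumes H₀ → G₀ of finite presentation: over the limit Spec k of the spectra of k[x_1,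
x_2, …]/(x_1, …, x_n), k of characteristic zero, the closed subscheme of the additive group cut out
by all x_m t^m becomes the whole additive group over Spec k but is a subgroup over no stage, so a
finiteness condition on H₀ is needed, and finite presentation is what the published limit argument
uses.) -/
theorem result
    {I : Type u} [SmallCategory I] [IsCofiltered I]
    (D : I ⥤ Scheme.{u}) (c : Limits.Cone D) (hc : Limits.IsLimit c)
    [∀ (i j : I) (a : i ⟶ j), IsAffineHom (D.map a)] (i₀ : I)
    [CompactSpace (D.obj i₀)] [QuasiSeparatedSpace (D.obj i₀)]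
    (G₀ : Over (D.obj i₀)) [GrpObj G₀] [IsSeparated G₀.hom] [QuasiCompact G₀.hom]
    [LocallyOfFinitePresentation G₀.hom]
    (H₀ : Over (D.obj i₀)) (ι₀ : H₀ ⟶ G₀) [IsClosedImmersion ι₀.left]
    [LocallyOfFinitePresentation ι₀.left]
    (hH : ∃ _ : GrpObj (Red.bc (c.π.app i₀) H₀), IsMonHom ((Over.pullback (c.π.app i₀)).map ι₀)) :
    (∃ (i : I) (a : i ⟶ i₀) (_ : GrpObj (Red.bc (D.map a) H₀)),
        IsMonHom ((Over.pullback (D.map a)).map ι₀)) ∧
    ((∃ (_ : GrpObj (Red.bc (c.π.app i₀) H₀)) (_ : IsMonHom ((Over.pullback (c.π.app i₀)).map ι₀)),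
        AlgGrp.IsNormalHom ((Over.pullback (c.π.app i₀)).map ι₀)) →
      ∃ (i : I) (a : i ⟶ i₀) (_ : GrpObj (Red.bc (D.map a) H₀))
        (_ : IsMonHom ((Over.pullback (D.map a)).map ι₀)),
        AlgGrp.IsNormalHom ((Over.pullback (D.map a)).map ι₀)) := by
  haveI : Mono ι₀ := (Over.forget _).mono_of_mono_map (inferInstanceAs (Mono ι₀.left))
  haveI : LocallyOfFinitePresentation H₀.hom := by rw [← Over.w ι₀]; infer_instance
  haveI : QuasiCompact H₀.hom := by rw [← Over.w ι₀]; infer_instance
  haveI : QuasiSeparated H₀.hom := by rw [← Over.w ι₀]; infer_instance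
  obtain ⟨gH, hι⟩ := hH
  have hf : LimGrp.FactorAt ι₀ η[G₀] (c.π.app i₀) ∧
      LimGrp.FactorAt ι₀ ((fst H₀ H₀ ≫ ι₀)⁻¹ * (snd H₀ H₀ ≫ ι₀)) (c.π.app i₀) := by
    letI := gH; haveI := hι
    exact LimGrp.factorAt_of_grpObj
  obtain ⟨a, f, h1⟩ := LimGrp.exists_factorAt' D c hc ι₀ η[G₀] hf.1
  obtain ⟨b, g, h2⟩ := LimGrp.exists_factorAt' D c hc ι₀ ((fst H₀ H₀ ≫ ι₀)⁻¹ * (snd H₀ H₀ ≫ ι₀)) hf.2
  obtain ⟨k, p, q, e⟩ := IsCofiltered.cospan f g
  have h1' := h1.comp (D.map_comp p f).symm
  have h2' := h2.comp (h := D.map (p ≫ f)) ((D.map_comp q g).symm.trans (by rw [e]))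
  refine ⟨⟨k, p ≫ f, LimGrp.exists_grpObj_of_factorAt h1' h2'⟩, ?_⟩
  rintro ⟨gH', hι', hn⟩
  letI := gH'; haveI := hι'
  obtain ⟨l, r, hl⟩ := LimGrp.exists_factorAt' D c hc ι₀
    (fst G₀ H₀ * (snd G₀ H₀ ≫ ι₀) * (fst G₀ H₀)⁻¹) (LimGrp.factorAt_of_isNormalHom hn)
  obtain ⟨m, s, t, e'⟩ := IsCofiltered.cospan (p ≫ f) r
  have he : D.map (s ≫ p ≫ f) = D.map s ≫ D.map (p ≫ f) := D.map_comp _ _
  obtain ⟨gm, hm⟩ := LimGrp.exists_grpObj_of_factorAt (h1'.comp he.symm) (h2'.comp he.symm)
  letI := gm; haveI := hm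
  exact ⟨m, s ≫ p ≫ f, gm, hm, LimGrp.isNormalHom_of_factorAt
    (hl.comp (h := D.map (s ≫ p ≫ f)) ((D.map_comp t r).symm.trans (by rw [e'])))⟩

end Groth.Agent.S18878
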