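import Groth.Statements.S4815
import Groth.Agent.LimModel.Main
import Groth.Agent.LimMore.Basic
import Groth.Agent.LimMore.Local
import Groth.Agent.LimMore.OverBase

set_option autoImplicit false
universe u
open CategoryTheory AlgebraicGeometry
open Lim8

namespace Groth.Agent.S4815

/-- Let S = lim S_i be a cofiltered limit of schemes with affine transition maps and S_{i₀} a
quasi-compact quasi-separated stage. Then every subscheme of finite presentation of S, that is every
immersion ι : Z ⟶ S which is locally of finite presentation and quasi-compact, is the base change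
along S ⟶ S_j of an immersion of finite presentation Z_j ⟶ S_j, for some index j over i₀ (the base
change is expressed by a pullback square). -/
theorem result {I : Type u} [SmallCategory I] [IsCofiltered I]
    (D : I ⥤ Scheme.{u}) (c : Limits.Cone D) (hc : Limits.IsLimit c)
    [∀ (i j : I) (f : i ⟶ j), IsAffineHom (D.map f)] (i₀ : I)
    [CompactSpace (D.obj i₀)] [QuasiSeparatedSpace (D.obj i₀)]
    {Z : Scheme.{u}} (ι : Z ⟶ c.pt) [IsImmersion ι] [LocallyOfFinitePresentation ι] [QuasiCompact ι] :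
    ∃ (j : I) (_ : j ⟶ i₀) (Zj : Scheme.{u}) (ιj : Zj ⟶ D.obj j) (q : Z ⟶ Zj),
      IsImmersion ιj ∧ LocallyOfFinitePresentation ιj ∧ QuasiCompact ιj ∧ IsPullback q ι ιj (c.π.app j) := by
  haveI : ∀ {i j} (f : i ⟶ j), IsAffineHom (D.map f) := fun {i j} f => inferInstance
  let D' : Over i₀ ⥤ Scheme.{u} := Over.forget i₀ ⋙ D
  let c' : Limits.Cone D' := Limits.Cone.whisker (Over.forget i₀) c
  have hc' : Limits.IsLimit c' := (Functor.Initial.isLimitWhiskerEquiv (Over.forget i₀) c).symm hc
  haveI : ∀ {a b : Over i₀} (f : a ⟶ b), IsAffineHom (D'.map f) := fun f => inferInstanceAs (IsAffineHom (D.map f.left))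
  haveI : ∀ l : Over i₀, CompactSpace (D'.obj l) := fun l =>
    QuasiCompact.compactSpace_of_compactSpace (D.map l.hom)
  haveI : ∀ l : Over i₀, QuasiSeparatedSpace (D'.obj l) := fun l =>
    quasiSeparatedSpace_of_quasiSeparated (D.map l.hom)
  obtain ⟨l, Xl, fl, g, h1, h2, h3, h4⟩ := Groth.Agent.LimModel.exists_model D' c' hc' (a := (ι : Z ⟶ c'.pt))
  haveI : LocallyOfFiniteType fl := inferInstance
  haveI : QuasiCompact (fl ≫ 𝟙 (D'.obj l)) := by rw [Category.comp_id]; exact h2
  haveI : QuasiSeparated (fl ≫ 𝟙 (D'.obj l)) := by rw [Category.comp_id]; exact h3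
  haveI : IsImmersion (ι : Z ⟶ c'.pt) := ‹IsImmersion ι›
  obtain ⟨i, φ, Xi, Yi, fi, gi, pY, pX, hYi, hXi, hi⟩ := Groth.Agent.LimMore.exists_isImmersion_lft D' c' hc' fl
    (𝟙 _) (Groth.Agent.LimMore.isPullback_id D' c') h4
  obtain ⟨m, hm⟩ := Groth.Agent.LimMore.exists_stageMap_of_descend D' fl (𝟙 _) @IsImmersion ⟨i, φ, Xi, Yi, fi, gi, pY, pX, hYi, hXi, hi⟩
  have hm' := (Groth.Agent.LimMore.stageMap_id_iff D' fl @IsImmersion m).1 hm
  have hst := LimDesc.isPullback_stage D' fl m
  exact ⟨m.left.left, m.left.hom, LimDesc.stage D' fl m, LimDesc.toStage D' fl m, LimDesc.proj D' fl c' h4 m, hm',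
    MorphismProperty.of_isPullback (P := @LocallyOfFinitePresentation) hst h1,
    MorphismProperty.of_isPullback (P := @QuasiCompact) hst h2,
    LimDesc.isPullback_proj D' fl c' h4 m⟩

end Groth.Agent.S4815
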