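import Mathlib

/-!
# The Lubin–Tate lemma
-/

set_option autoImplicit false
universe u v w

open MvPowerSeries Finsupp
open scoped Classical

namespace Groth.Agent.LubinTateLib

variable {O : Type u} [CommRing O] {σ : Type v} [Finite σ] {τ : Type w}

/-- The substitution `Xᵢ ↦ π Xᵢ + Xᵢ ^ q`. -/
noncomputable def sX (π : O) (q : ℕ) (i : σ) : MvPowerSeries σ O := C π * X i + X i ^ q

/-- The defect `f(φ) - φ(f(X))`. -/
noncomputable def defect (π : O) (q : ℕ) (φ : MvPowerSeries σ O) : MvPowerSeries σ O :=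
  C π * φ + φ ^ q - subst (sX π q) φ

variable {π : O} {q : ℕ}

omit [Finite σ] in
lemma exists_single_of_degree {τ : Type*} {d : τ →₀ ℕ} (h : d.degree = 1) : ∃ i, single i 1 = d := by
  have h' : d ∈ {d : τ →₀ ℕ | d.degree = 1} := h
  rw [← range_single_one] at h'
  exact h'

omit [Finite σ] in
lemma sX_constantCoeff (hq : 2 ≤ q) (i : σ) : constantCoeff (sX π q i) = 0 := by
  simp [sX, zero_pow (show q ≠ 0 by omega)]

lemma hasSubst_sX (hq : 2 ≤ q) : HasSubst (sX (σ := σ) π q) :=
  hasSubst_of_constantCoeff_zero (sX_constantCoeff hq)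

omit [Finite σ] in
lemma sX_eq_mul (hq : 2 ≤ q) (i : σ) : sX π q i = X i * (C π + X i ^ (q - 1)) := by
  rw [mul_add, ← pow_succ', show q - 1 + 1 = q by omega, sX, mul_comm]

omit [Finite σ] in
lemma coeff_prod_sX (hq : 2 ≤ q) {n : ℕ} (e d : σ →₀ ℕ) (he : n ≤ e.degree) (hd : d.degree = n) :
    coeff d (e.prod fun s k ↦ sX π q s ^ k) = if e = d then π ^ n else 0 := by
  classical
  have h : (e.prod fun s k ↦ sX π q s ^ k) =
      monomial e 1 * e.prod fun s k ↦ (C π + X s ^ (q - 1)) ^ k := by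
    rw [monomial_eq', map_one, one_mul, ← Finsupp.prod_mul]
    exact Finsupp.prod_congr fun s _ ↦ by rw [sX_eq_mul hq, mul_pow]
  rw [h, coeff_monomial_mul, one_mul]
  by_cases hed : e = d
  · subst hed
    rw [if_pos le_rfl, if_pos rfl, tsub_self, coeff_zero_eq_constantCoeff_apply, map_finsuppProd]
    simp only [map_pow, map_add, constantCoeff_C, constantCoeff_X, zero_pow (show q - 1 ≠ 0 by omega),
      add_zero]
    rw [← hd, Finsupp.prod, Finset.prod_pow_eq_pow_sum]
    rfl
  · rw [if_neg hed, if_neg]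
    intro hle
    obtain ⟨c, rfl⟩ := le_iff_exists_add.mp hle
    rw [map_add] at hd
    have : c.degree = 0 := by omega
    exact hed (by rw [(degree_eq_zero_iff c).mp this, add_zero])

lemma coeff_subst_sX (hq : 2 ≤ q) {n : ℕ} (h : MvPowerSeries σ O)
    (hh : ∀ d : σ →₀ ℕ, d.degree < n → coeff d h = 0) (d : σ →₀ ℕ) (hd : d.degree = n) :
    coeff d (subst (sX π q) h) = π ^ n * coeff d h := by
  classical
  rw [coeff_subst (hasSubst_sX hq), finsum_eq_single _ d]
  · rw [coeff_prod_sX hq d d hd.ge hd, if_pos rfl, smul_eq_mul, mul_comm]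
  · intro e he
    by_cases hlt : e.degree < n
    · rw [hh e hlt, zero_smul]
    · rw [coeff_prod_sX hq e d (not_lt.mp hlt) hd, if_neg he, smul_zero]

lemma coeff_defect_sub (hq : 2 ≤ q) {n : ℕ} (φ ψ : MvPowerSeries σ O) (hφ : constantCoeff φ = 0)
    (hψ : constantCoeff ψ = 0) (h : ∀ d : σ →₀ ℕ, d.degree < n → coeff d φ = coeff d ψ)
    (d : σ →₀ ℕ) (hd : d.degree = n) :
    coeff d (defect π q φ) - coeff d (defect π q ψ) = (π - π ^ n) * (coeff d φ - coeff d ψ) := by
  have h' : ∀ d : σ →₀ ℕ, d.degree < n → coeff d (φ - ψ) = 0 := fun d hd ↦ by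
    rw [map_sub, h d hd, sub_self]
  have ho : ((φ - ψ).order : ℕ∞) ≥ n := nat_le_order h'
  have hpow : coeff d (φ ^ q - ψ ^ q) = 0 := by
    rw [← (Commute.all φ ψ).geom_sum₂_mul q]
    apply coeff_of_lt_order
    refine lt_of_lt_of_le ?_ le_order_mul
    have h1 : (1 : ℕ∞) ≤ (∑ i ∈ Finset.range q, φ ^ i * ψ ^ (q - 1 - i)).order := by
      refine le_order fun e he ↦ ?_
      have he0 : e = 0 := (degree_eq_zero_iff e).mp (by
        have : (e.degree : ℕ∞) < (1 : ℕ) := he
        simpa using this)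
      subst he0
      rw [coeff_zero_eq_constantCoeff_apply, map_sum]
      refine Finset.sum_eq_zero fun i hi ↦ ?_
      rw [map_mul, map_pow, map_pow, hφ, hψ]
      rcases Nat.eq_zero_or_pos i with rfl | hi'
      · rw [zero_pow (n := q - 1 - 0) (by omega), mul_zero]
      · rw [zero_pow (n := i) (by omega), zero_mul]
    rw [hd]
    calc (n : ℕ∞) < 1 + n := by rw [add_comm]; exact_mod_cast Nat.lt_succ_self n
      _ ≤ _ := add_le_add h1 ho
  have hs := coeff_subst_sX (π := π) hq (φ - ψ) h' d hd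
  rw [subst_sub (hasSubst_sX hq)] at hs
  simp only [defect, map_sub, map_add, coeff_C_mul] at *
  linear_combination hpow - hs

lemma coeff_defect_congr (hq : 2 ≤ q) {n : ℕ} (φ ψ : MvPowerSeries σ O) (hφ : constantCoeff φ = 0)
    (hψ : constantCoeff ψ = 0) (h : ∀ d : σ →₀ ℕ, d.degree ≤ n → coeff d φ = coeff d ψ)
    (d : σ →₀ ℕ) (hd : d.degree ≤ n) :
    coeff d (defect π q φ) = coeff d (defect π q ψ) := by
  have := coeff_defect_sub (π := π) hq φ ψ hφ hψ (n := d.degree) (fun e he ↦ h e (by omega)) d rfl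
  rwa [h d hd, sub_self, mul_zero, sub_eq_zero] at this

lemma defect_low (hq : 2 ≤ q) (φ : MvPowerSeries σ O) (hφ : constantCoeff φ = 0) (d : σ →₀ ℕ)
    (hd : d.degree ≤ 1) : coeff d (defect π q φ) = 0 := by
  have h0 : defect π q (0 : MvPowerSeries σ O) = 0 := by
    rw [defect, mul_zero, zero_pow (show q ≠ 0 by omega), add_zero, ← coe_substAlgHom (hasSubst_sX hq), map_zero, sub_zero]
  have := coeff_defect_sub (π := π) hq φ 0 hφ (map_zero _) (n := d.degree) (fun e he ↦ by
    have : e = 0 := (degree_eq_zero_iff e).mp (by omega)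
    subst this
    simpa using hφ) d rfl
  rw [h0, map_zero, sub_zero] at this
  rw [this]
  rcases Nat.le_one_iff_eq_zero_or_eq_one.mp hd with h | h
  · have : d = 0 := (degree_eq_zero_iff d).mp h
    subst this
    simp [hφ]
  · simp [h]

section DVR

variable [IsDomain O] [IsDiscreteValuationRing O]

lemma pi_sub_pow_ne_zero (hπ : Irreducible π) {n : ℕ} (hn : 2 ≤ n) : π - π ^ n ≠ 0 := by
  intro h
  have h1 : π * (1 - π ^ (n - 1)) = 0 := by
    rw [mul_sub, mul_one, ← pow_succ', show n - 1 + 1 = n by omega, h]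
  rcases mul_eq_zero.mp h1 with h2 | h2
  · exact hπ.ne_zero h2
  · exact hπ.not_isUnit (IsUnit.of_pow_eq_one (sub_eq_zero.mp h2).symm (by omega))

lemma isUnit_one_sub_pow (hπ : Irreducible π) {n : ℕ} (hn : 2 ≤ n) : IsUnit (1 - π ^ (n - 1)) :=
  IsLocalRing.isUnit_one_sub_self_of_mem_nonunits _ fun h ↦ hπ.not_isUnit ((isUnit_pow_iff (by omega)).mp h)

lemma two_le_card [Finite (IsLocalRing.ResidueField O)] :
    2 ≤ Nat.card (IsLocalRing.ResidueField O) :=
  Finite.one_lt_card

variable [Finite (IsLocalRing.ResidueField O)]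

lemma dvd_coeff_defect (hπ : Irreducible π) (φ : MvPowerSeries σ O) (d : σ →₀ ℕ) :
    π ∣ coeff d (defect π (Nat.card (IsLocalRing.ResidueField O)) φ) := by
  rw [← Ideal.mem_span_singleton, ← hπ.maximalIdeal_eq, ← IsLocalRing.residue_eq_zero_iff, ← coeff_map]
  have hπ0 : IsLocalRing.residue O π = 0 :=
    (IsLocalRing.residue_eq_zero_iff π).mpr (hπ.maximalIdeal_eq ▸ Ideal.mem_span_singleton_self π)
  haveI := Fintype.ofFinite (IsLocalRing.ResidueField O)
  obtain ⟨p, hp⟩ := CharP.exists (IsLocalRing.ResidueField O)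
  obtain ⟨m, hpr, hm⟩ := FiniteField.card (IsLocalRing.ResidueField O) p
  haveI : Fact p.Prime := ⟨hpr⟩
  haveI : ExpChar (IsLocalRing.ResidueField O) p := .prime hpr
  have hq : Nat.card (IsLocalRing.ResidueField O) = p ^ (m : ℕ) := Nat.card_eq_fintype_card.trans hm
  have hid : iterateFrobenius (IsLocalRing.ResidueField O) p m = RingHom.id _ := RingHom.ext fun a ↦ by
    rw [iterateFrobenius_def, ← hm, FiniteField.pow_card, RingHom.id_apply]
  have key := map_iterateFrobenius_expand (R := IsLocalRing.ResidueField O) p hpr.ne_zero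
    (MvPowerSeries.map (IsLocalRing.residue O) φ) m
  rw [hid, MvPowerSeries.map_id, RingHom.id_apply] at key
  suffices MvPowerSeries.map (IsLocalRing.residue O) (defect π (Nat.card (IsLocalRing.ResidueField O)) φ) = 0 by
    rw [this, map_zero]
  rw [defect, map_sub, map_add, map_mul, map_pow, map_C, hπ0, map_zero, zero_mul, zero_add,
    map_subst (hasSubst_sX two_le_card), hq, ← key, expand, substAlgHom_apply, sub_eq_zero]
  congr 1
  funext i
  simp [sX, hπ0]

variable (π) in
/-- Successive approximations. -/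
noncomputable def approx (L : MvPowerSeries σ O) (hπ : Irreducible π) : ℕ → MvPowerSeries σ O
  | 0 => fun d ↦ if d.degree = 1 then coeff d L else 0
  | n + 1 => fun d ↦ if hd : d.degree = n + 2 then
      -((dvd_coeff_defect hπ (approx L hπ n) d).choose * ((isUnit_one_sub_pow (n := n + 2) hπ (Nat.le_add_left 2 n)).unit⁻¹ : Oˣ)) else
      coeff d (approx L hπ n)

lemma exists_sol (hπ : Irreducible π) (L : MvPowerSeries σ O) :
    ∃ φ : MvPowerSeries σ O, constantCoeff φ = 0 ∧ (∀ d : σ →₀ ℕ, d.degree = 1 → coeff d φ = coeff d L) ∧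
      defect π (Nat.card (IsLocalRing.ResidueField O)) φ = 0 := by
  let A := approx π L hπ
  have hA0 : ∀ d, coeff d (A 0) = if d.degree = 1 then coeff d L else 0 := fun d ↦ rfl
  have hbig : ∀ n d, n + 1 < d.degree → coeff d (A n) = 0 := by
    intro n
    induction n with
    | zero => exact fun d hd ↦ by rw [hA0, if_neg (by omega)]
    | succ n ih =>
      intro d hd
      show (if hd : d.degree = n + 2 then _ else coeff d (A n)) = 0
      rw [dif_neg (by omega), ih d (by omega)]
  have hstep : ∀ n d, d.degree ≠ n + 2 → coeff d (A (n + 1)) = coeff d (A n) := fun n d hd ↦ by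
    show (if hd : d.degree = n + 2 then _ else coeff d (A n)) = _
    rw [dif_neg hd]
  let φ : MvPowerSeries σ O := fun d ↦ coeff d (A d.degree)
  have hstab : ∀ n d, d.degree ≤ n + 1 → coeff d (A n) = coeff d φ := by
    intro n d hd
    show coeff d (A n) = coeff d (A d.degree)
    have : ∀ m k, d.degree ≤ m + 1 → coeff d (A (m + k)) = coeff d (A m) := fun m k hm ↦ by
      induction k with
      | zero => rfl
      | succ k ih => rw [← add_assoc, hstep _ d (by omega), ih]
    rcases le_total n d.degree with h | h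
    · obtain ⟨k, hk⟩ := Nat.exists_eq_add_of_le h
      rw [hk, this n k (by omega)]
    · obtain ⟨k, hk⟩ := Nat.exists_eq_add_of_le h
      rw [hk, this d.degree k (by omega)]
  have hφ : constantCoeff φ = 0 := by
    rw [← coeff_zero_eq_constantCoeff_apply, ← hstab 0 0 (by simp), hA0, if_neg (by simp)]
  have hAc : ∀ n, constantCoeff (A n) = 0 := fun n ↦ by
    rw [← coeff_zero_eq_constantCoeff_apply, hstab n 0 (by simp), coeff_zero_eq_constantCoeff_apply, hφ]
  refine ⟨φ, hφ, fun d hd ↦ by rw [← hstab 0 d (by omega), hA0, if_pos hd], ?_⟩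
  ext d
  rw [map_zero]
  by_cases hd1 : d.degree ≤ 1
  · exact defect_low (two_le_card (O := O)) φ hφ d hd1
  obtain ⟨n, hn⟩ : ∃ n, d.degree = n + 2 := ⟨d.degree - 2, by omega⟩
  rw [coeff_defect_congr (two_le_card (O := O)) φ (A (n + 1)) hφ (hAc _) (n := n + 2)
    (fun e he ↦ (hstab (n + 1) e (by omega)).symm) d hn.le]
  have  := coeff_defect_sub (π := π) (two_le_card (O := O)) (A (n + 1)) (A n) (hAc _) (hAc _) (n := n + 2)
    (fun e he ↦ hstep n e (by omega)) d hn
  have hv : coeff d (A (n + 1)) =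
      -((dvd_coeff_defect hπ (A n) d).choose * ((isUnit_one_sub_pow (n := n + 2) hπ (Nat.le_add_left 2 n)).unit⁻¹ : Oˣ)) := by
    show (if hd : d.degree = n + 2 then _ else coeff d (A n)) = _
    rw [dif_pos hn]
  have hc := (dvd_coeff_defect hπ (A n) d).choose_spec
  rw [hbig n d (by omega), sub_zero, hv] at this
  set u := (dvd_coeff_defect hπ (A n) d).choose
  have hw : (1 - π ^ (n + 1)) * (((isUnit_one_sub_pow (n := n + 2) hπ (Nat.le_add_left 2 n)).unit⁻¹ : Oˣ) : O) = 1 := by
    have e := (isUnit_one_sub_pow (n := n + 2) hπ (Nat.le_add_left 2 n)).unit.mul_inv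
    simp only [IsUnit.unit_spec] at e
    exact e
  rw [hc] at this
  linear_combination this - π * u * hw

lemma sol_unique (hπ : Irreducible π) {φ ψ : MvPowerSeries σ O} (hφ : constantCoeff φ = 0)
    (hψ : constantCoeff ψ = 0) (h1 : ∀ d : σ →₀ ℕ, d.degree = 1 → coeff d φ = coeff d ψ)
    (eφ : defect π (Nat.card (IsLocalRing.ResidueField O)) φ = 0)
    (eψ : defect π (Nat.card (IsLocalRing.ResidueField O)) ψ = 0) : φ = ψ := by
  suffices ∀ n (d : σ →₀ ℕ), d.degree = n → coeff d φ = coeff d ψ from MvPowerSeries.ext fun d ↦ this _ d rfl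
  intro n
  induction n using Nat.strong_induction_on with | _ n ih
  intro d hd
  rcases Nat.lt_or_ge n 2 with hn | hn
  · rcases Nat.le_one_iff_eq_zero_or_eq_one.mp (show n ≤ 1 by omega) with rfl | rfl
    · have : d = 0 := (degree_eq_zero_iff d).mp hd
      subst this
      simp [hφ, hψ]
    · exact h1 d hd
  · have  := coeff_defect_sub (π := π) (two_le_card (O := O)) φ ψ hφ hψ (fun e he ↦ ih _ he e rfl) d hd
    rw [eφ, eψ, map_zero, sub_zero, eq_comm, mul_eq_zero] at this
    exact sub_eq_zero.mp (this.resolve_left (pi_sub_pow_ne_zero hπ hn))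

end DVR

omit [Finite σ] in
/-- `f(a)` for `f = π X + X ^ q`. -/
lemma subst_f {a : MvPowerSeries σ O} (ha : PowerSeries.HasSubst a) {f : PowerSeries O}
    (hf : f = π • PowerSeries.X + PowerSeries.X ^ q) : PowerSeries.subst a f = C π * a + a ^ q := by
  rw [hf, PowerSeries.subst_add ha, PowerSeries.subst_smul ha, PowerSeries.subst_pow ha,
    PowerSeries.subst_X ha, smul_eq_C_mul]

lemma defect_eq_zero_iff (hq : 2 ≤ q) {f : PowerSeries O} (hf : f = π • PowerSeries.X + PowerSeries.X ^ q)
    {φ : MvPowerSeries σ O} (hφ : constantCoeff φ = 0) :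
    defect π q φ = 0 ↔
      PowerSeries.subst φ f = subst (fun i : σ ↦ PowerSeries.subst (X i : MvPowerSeries σ O) f) φ := by
  rw [subst_f (PowerSeries.HasSubst.of_constantCoeff_zero hφ) hf, defect, sub_eq_zero,
    funext fun i : σ ↦ subst_f (PowerSeries.HasSubst.of_constantCoeff_zero (constantCoeff_X i)) hf]
  rfl

omit [Finite σ] in
lemma f_eq_sX {f : PowerSeries O} (hf : f = π • PowerSeries.X + PowerSeries.X ^ q) :
    (fun _ : Unit ↦ (f : MvPowerSeries Unit O)) = sX π q := funext fun _ ↦ by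
  rw [hf, PowerSeries.smul_eq_C_mul]
  rfl

lemma defect_eq_zero_iff_unit (hq : 2 ≤ q) {f : PowerSeries O}
    (hf : f = π • PowerSeries.X + PowerSeries.X ^ q) {g : PowerSeries O} (hg : g.constantCoeff = 0) :
    defect (σ := Unit) π q g = 0 ↔ PowerSeries.subst g f = PowerSeries.subst f g := by
  rw [subst_f (PowerSeries.HasSubst.of_constantCoeff_zero hg) hf, defect, sub_eq_zero,
    PowerSeries.subst_def, f_eq_sX hf]

/-- Solutions are closed under substitution. -/
lemma defect_subst [Finite τ] (hq : 2 ≤ q) {φ : MvPowerSeries σ O} (g : σ → MvPowerSeries τ O)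
    (hg0 : ∀ i, constantCoeff (g i) = 0) (hφ : defect π q φ = 0) (hg : ∀ i, defect π q (g i) = 0) :
    defect π q (subst g φ) = 0 := by
  have hgs : HasSubst g := hasSubst_of_constantCoeff_zero hg0
  rw [defect, sub_eq_zero] at hφ ⊢
  rw [subst_comp_subst_apply hgs (hasSubst_sX hq)]
  have h2 := congrArg (subst g) hφ
  rw [subst_add hgs, subst_mul hgs, subst_pow hgs, subst_C, subst_comp_subst_apply (hasSubst_sX hq) hgs] at h2
  rw [h2]
  congr 1
  funext i
  have := hg i
  rw [defect, sub_eq_zero] at this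
  rw [← this, sX, subst_add hgs, subst_mul hgs, subst_pow hgs, subst_C, subst_X hgs]

omit [Finite σ] in
lemma defect_X (hq : 2 ≤ q) [Finite σ] (i : σ) : defect π q (X i : MvPowerSeries σ O) = 0 := by
  rw [defect, subst_X (hasSubst_sX hq), sX, sub_self]

lemma coeff_one_subst [Fintype σ] [DecidableEq σ] (g : σ → MvPowerSeries τ O)
    (hg0 : ∀ i, constantCoeff (g i) = 0) (φ : MvPowerSeries σ O) (hφ : constantCoeff φ = 0)
    (d : τ →₀ ℕ) (hd : d.degree = 1) :
    coeff d (subst g φ) = ∑ i, coeff (single i 1) φ * coeff d (g i) := by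
  have hgs : HasSubst g := hasSubst_of_constantCoeff_zero hg0
  rw [coeff_subst hgs, finsum_eq_sum_of_support_subset (s := Finset.univ.image fun i : σ ↦ single i 1)]
  · rw [Finset.sum_image fun i _ j _ h ↦ (single_left_injective one_ne_zero) h]
    exact Finset.sum_congr rfl fun i _ ↦ by simp
  · intro e he
    simp only [Finset.coe_image, Finset.coe_univ, Set.image_univ, Set.mem_range]
    have he' := Function.mem_support.mp he
    have h1 : e.degree ≤ 1 := by
      by_contra h
      apply he'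
      rw [smul_eq_mul, coeff_of_lt_order (f := e.prod fun s k ↦ g s ^ k), mul_zero]
      refine lt_of_lt_of_le ?_ (le_order_prod _ _)
      calc (d.degree : ℕ∞) < (e.degree : ℕ) := by rw [hd]; exact_mod_cast (by omega)
        _ ≤ _ := by
          rw [degree_apply, Nat.cast_sum]
          exact Finset.sum_le_sum fun i _ ↦ le_order_pow_of_constantCoeff_eq_zero _ (hg0 i)
    rcases Nat.le_one_iff_eq_zero_or_eq_one.mp h1 with h | h
    · exfalso
      rw [(degree_eq_zero_iff e).mp h, coeff_zero_eq_constantCoeff_apply, hφ, zero_smul] at he'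
      exact he' rfl
    · obtain ⟨i, hi⟩ := exists_single_of_degree h
      exact ⟨i, hi⟩

omit [Finite σ] in
lemma coeff_unit (g : PowerSeries O) {d : Unit →₀ ℕ} (hd : d.degree = 1) :
    coeff d (g : MvPowerSeries Unit O) = PowerSeries.coeff 1 g := by
  obtain ⟨i, rfl⟩ := exists_single_of_degree hd
  rfl

end Groth.Agent.LubinTateLib
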