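import Mathlib
import Groth.Agent.LubinTateLib

/-!
# The logarithm recursion of Lubin–Tate theory
-/

set_option autoImplicit false
universe u v w

open MvPowerSeries Finsupp
open Groth.Agent.LubinTateLib

namespace Groth.Agent.LubinTateLog

variable {K : Type u} [CommRing K] {σ : Type v} [Finite σ] {τ : Type w} {π : K} {q : ℕ}

/-- The defect `π φ - φ(f(X))`. -/
noncomputable def lin (π : K) (q : ℕ) (φ : MvPowerSeries σ K) : MvPowerSeries σ K :=
  C π * φ - subst (sX π q) φ

lemma lin_add (hq : 2 ≤ q) (φ ψ : MvPowerSeries σ K) : lin π q (φ + ψ) = lin π q φ + lin π q ψ := by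
  simp only [lin, subst_add (hasSubst_sX hq), mul_add]
  abel

lemma lin_sub (hq : 2 ≤ q) (φ ψ : MvPowerSeries σ K) : lin π q (φ - ψ) = lin π q φ - lin π q ψ := by
  rw [eq_sub_iff_add_eq, ← lin_add hq, sub_add_cancel]

lemma lin_smul (hq : 2 ≤ q) (a : K) (φ : MvPowerSeries σ K) : lin π q (a • φ) = a • lin π q φ := by
  simp only [lin, subst_smul (hasSubst_sX hq), smul_sub, mul_smul_comm]

lemma coeff_lin (hq : 2 ≤ q) {n : ℕ} (h : MvPowerSeries σ K) (hh : ∀ d : σ →₀ ℕ, d.degree < n → coeff d h = 0)
    (d : σ →₀ ℕ) (hd : d.degree = n) : coeff d (lin π q h) = (π - π ^ n) * coeff d h := by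
  rw [lin, map_sub, coeff_C_mul, coeff_subst_sX hq h hh d hd, sub_mul]

lemma lin_subst [Finite τ] (hq : 2 ≤ q) {φ : MvPowerSeries σ K} (g : σ → MvPowerSeries τ K)
    (hg0 : ∀ i, constantCoeff (g i) = 0) (hφ : lin π q φ = 0) (hg : ∀ i, defect π q (g i) = 0) :
    lin π q (subst g φ) = 0 := by
  have hgs : HasSubst g := hasSubst_of_constantCoeff_zero hg0
  rw [lin, sub_eq_zero] at hφ ⊢
  rw [subst_comp_subst_apply hgs (hasSubst_sX hq)]
  have h2 := congrArg (subst g) hφ
  rw [subst_mul hgs, subst_C, subst_comp_subst_apply (hasSubst_sX hq) hgs] at h2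
  rw [h2]
  congr 1
  funext i
  have := hg i
  rw [defect, sub_eq_zero] at this
  rw [← this, sX, subst_add hgs, subst_mul hgs, subst_pow hgs, subst_C, subst_X hgs]

lemma lin_unique (hq : 2 ≤ q) [IsDomain K] (hπ : ∀ n, 2 ≤ n → π - π ^ n ≠ 0) {φ ψ : MvPowerSeries σ K}
    (hφ : constantCoeff φ = 0) (hψ : constantCoeff ψ = 0)
    (h1 : ∀ d : σ →₀ ℕ, d.degree = 1 → coeff d φ = coeff d ψ) (eφ : lin π q φ = 0) (eψ : lin π q ψ = 0) :
    φ = ψ := by
  suffices ∀ n (d : σ →₀ ℕ), d.degree = n → coeff d φ = coeff d ψ from MvPowerSeries.ext fun d ↦ this _ d rfl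
  intro n
  induction n using Nat.strong_induction_on with | _ n ih
  intro d hd
  rcases Nat.lt_or_ge n 2 with hn | hn
  · rcases Nat.le_one_iff_eq_zero_or_eq_one.mp (show n ≤ 1 by omega) with rfl | rfl
    · have : d = 0 := (degree_eq_zero_iff d).mp hd
      subst this
      simp [hφ, hψ]
    · exact h1 d hd
  · have := coeff_lin (π := π) hq (φ - ψ) (fun e he ↦ by rw [map_sub, ih _ he e rfl, sub_self]) d hd
    rw [lin_sub hq, eφ, eψ, sub_zero, map_zero, eq_comm, mul_eq_zero, map_sub] at this
    exact sub_eq_zero.mp (this.resolve_left (hπ n hn))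

/-- Successive approximations of the logarithm. -/
noncomputable def approx {K : Type u} [Field K] (π : K) (q : ℕ) : ℕ → MvPowerSeries Unit K
  | 0 => X ()
  | n + 1 => approx π q n - monomial (single () (n + 2))
      (coeff (single () (n + 2)) (lin π q (approx π q n)) * (π - π ^ (n + 2))⁻¹)

lemma exists_log {K : Type u} [Field K] {π : K} {q : ℕ} (hq : 2 ≤ q) (hπ : ∀ n, 2 ≤ n → π - π ^ n ≠ 0) :
    ∃ φ : MvPowerSeries Unit K, constantCoeff φ = 0 ∧ coeff (single () 1) φ = 1 ∧ lin π q φ = 0 := by
  classical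
  let A := approx π q
  have hd1 : ∀ d : Unit →₀ ℕ, single () d.degree = d := fun d ↦ by
    ext
    simp [degree_eq_sum]
  have hstep : ∀ n (d : Unit →₀ ℕ), d.degree ≠ n + 2 → coeff d (A (n + 1)) = coeff d (A n) := fun n d hd ↦ by
    show coeff d (A n - monomial _ _) = _
    rw [map_sub, coeff_monomial, if_neg, sub_zero]
    rintro rfl
    simp at hd
  have hkill : ∀ n (d : Unit →₀ ℕ), d.degree ≤ n + 1 → coeff d (lin π q (A n)) = 0 := by
    intro n
    induction n with
    | zero =>
      intro d hd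
      rw [coeff_lin hq _ (n := d.degree) (fun e he ↦ ?_) d rfl]
      · rcases Nat.le_one_iff_eq_zero_or_eq_one.mp hd with h | h
        · rw [(degree_eq_zero_iff d).mp h]
          show _ * coeff 0 (X ()) = _
          simp
        · simp [h]
      · show coeff e (X ()) = 0
        rw [(degree_eq_zero_iff e).mp (by omega)]
        simp
    | succ n ih =>
      intro d hd
      show coeff d (lin π q (A n - monomial _ _)) = 0
      rw [lin_sub hq, map_sub]
      rcases Nat.lt_or_ge d.degree (n + 2) with h | h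
      · rw [ih d (by omega), coeff_lin hq (monomial _ _) (n := d.degree) (fun e he ↦ ?_) d rfl, coeff_monomial, if_neg, mul_zero, sub_zero]
        · rintro rfl; simp at h
        · rw [coeff_monomial, if_neg]
          rintro rfl; simp at he; omega
      · have hdn : d.degree = n + 2 := by omega
        have hde : d = single () (n + 2) := by rw [← hdn, hd1]
        rw [coeff_lin hq (monomial _ _) (fun e he ↦ by rw [coeff_monomial, if_neg]; rintro rfl; simp at he) d hdn,
          hde, coeff_monomial, if_pos rfl]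
        field_simp [hπ (n + 2) (by omega)]
        ring
  let φ : MvPowerSeries Unit K := fun d ↦ coeff d (A d.degree)
  have hst : ∀ n (d : Unit →₀ ℕ), d.degree ≤ n + 1 → coeff d (A n) = coeff d φ := by
    intro n d hd
    show coeff d (A n) = coeff d (A d.degree)
    have h2 : ∀ m k, d.degree ≤ m + 1 → coeff d (A (m + k)) = coeff d (A m) := fun m k hm ↦ by
      induction k with
      | zero => rfl
      | succ k ih => rw [← add_assoc, hstep _ d (by omega), ih]
    rcases le_total n d.degree with h | h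
    · obtain ⟨k, hk⟩ := Nat.exists_eq_add_of_le h
      rw [hk, h2 n k (by omega)]
    · obtain ⟨k, hk⟩ := Nat.exists_eq_add_of_le h
      rw [hk, h2 d.degree k (by omega)]
  refine ⟨φ, ?_, ?_, ?_⟩
  · rw [← coeff_zero_eq_constantCoeff_apply, ← hst 0 0 (by simp)]
    show coeff 0 (X () : MvPowerSeries Unit K) = 0
    simp
  · rw [← hst 0 _ (by simp)]
    show coeff (single () 1) (X () : MvPowerSeries Unit K) = 1
    simp
  · refine MvPowerSeries.ext fun d ↦ ?_
    rw [map_zero]
    have := coeff_lin (π := π) hq (φ - A d.degree) (n := d.degree)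
      (fun e he ↦ by rw [map_sub, hst d.degree e (by omega), sub_self]) d rfl
    rw [lin_sub hq, map_sub, map_sub, hst d.degree d (by omega), sub_self, mul_zero, sub_eq_zero] at this
    rw [this, hkill _ _ (by omega)]

omit [Finite σ] in
lemma map_defect [Finite σ] {L : Type w} [CommRing L] (h : K →+* L) (hq : 2 ≤ q) (φ : MvPowerSeries σ K) :
    MvPowerSeries.map h (defect π q φ) = defect (h π) q (MvPowerSeries.map h φ) := by
  rw [defect, defect, map_sub, map_add, map_mul, map_pow, map_C, map_subst (hasSubst_sX hq)]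
  congr 2
  funext i
  simp [sX]

lemma lin_eq_zero_iff (hq : 2 ≤ q) {f : PowerSeries K} (hf : f = π • PowerSeries.X + PowerSeries.X ^ q)
    (l : PowerSeries K) : lin (σ := Unit) π q l = 0 ↔ PowerSeries.subst f l = π • l := by
  rw [lin, sub_eq_zero, PowerSeries.subst_def, f_eq_sX hf, PowerSeries.smul_eq_C_mul]
  exact eq_comm

end Groth.Agent.LubinTateLog
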