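import Groth.Statements.S19401
import Groth.Agent.GLinFree.ClosedFinite

set_option autoImplicit false
universe u
open TensorProduct
open GLin

namespace Groth.Agent.S19401

/-- Suppose the field k is algebraically closed and has characteristic zero. Take A to be a finitely
generated commutative Hopf algebra over k (an affine algebraic group G), and take S and R to be
finitely generated commutative k-algebras, each equipped with a multiplicative A-coaction (so G acts
on Y = Spec S and on X = Spec R). Assume S → R is a finite algebra map respecting the coactions (a
G-morphism X → Y). Given a k-point x of X whose image in Y is y, the orbit of x is closed (meaning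
its orbit morphism Spec A → Spec R has closed image) exactly when the orbit of y is closed. (This is
the affine version of the source's result about G-morphisms of varieties.) -/
theorem result (k : Type u) [Field k] [IsAlgClosed k] [CharZero k]
    (A : Type u) [CommRing A] [HopfAlgebra k A] [Algebra.FiniteType k A]
    (S : Type u) [CommRing S] [Algebra k S] [Algebra.FiniteType k S] [HopfRep.Comod k A S] [GLin.IsCoactAlg k A S]
    (R : Type u) [CommRing R] [Algebra k R] [Algebra.FiniteType k R] [HopfRep.Comod k A R] [GLin.IsCoactAlg k A R]
    [Algebra S R] [IsScalarTower k S R] [Module.Finite S R]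
    (hequiv : ∀ s : S, HopfRep.Comod.coact (k := k) (A := A) (algebraMap S R s) =
      Algebra.TensorProduct.map (IsScalarTower.toAlgHom k S R) (AlgHom.id k A) (HopfRep.Comod.coact (k := k) (A := A) s))
    (x : R →ₐ[k] k) :
    GLin.IsClosedOrbit k A x ↔ GLin.IsClosedOrbit k A (x.comp (IsScalarTower.toAlgHom k S R)) := by
  have hint : (algebraMap S R).IsIntegral := algebraMap_isIntegral_iff.2 (Algebra.IsIntegral.of_finite S R)
  constructor
  · intro h
    show IsClosed _
    have hcomp : (GLin.orbitHom k A (x.comp (IsScalarTower.toAlgHom k S R))).toRingHom =
        (GLin.orbitHom k A x).toRingHom.comp (algebraMap S R) :=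
      RingHom.ext fun s => (GLinFree.orbitHom_comp (IsScalarTower.toAlgHom k S R) hequiv x s).symm
    rw [hcomp, PrimeSpectrum.comap_comp, Set.range_comp]
    exact PrimeSpectrum.isClosedMap_comap_of_isIntegral _ hint _ h
  · exact GLinFree.isClosedOrbit_of_integral (IsScalarTower.toAlgHom k S R) hequiv x hint

end Groth.Agent.S19401
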