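import Groth.Statements.S2111
import Groth.Agent.InvGen.NormalDvd

set_option autoImplicit false
universe u
open CAlg Groth.Agent

namespace Groth.Agent.S2111

/-- Let `R` be a Noetherian normal domain with fraction field `K`. An element of `K` which lies in `R_𝔭`
for every prime `𝔭` of height one lies in `R`. -/
theorem result {R : Type u} [CommRing R] [IsDomain R] [IsNoetherianRing R]
    [IsIntegrallyClosed R] (x : FractionRing R)
    (hx : ∀ (p : Ideal R) [p.IsPrime], p.height = 1 →
      x ∈ Set.range (algebraMap (Localization.AtPrime p) (FractionRing R))) :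
    x ∈ Set.range (algebraMap R (FractionRing R)) := by
  obtain ⟨a, r, hr, rfl⟩ := IsFractionRing.div_surjective (A := R) x
  let K := FractionRing R
  have hr0 : r ≠ 0 := nonZeroDivisors.ne_zero hr
  have hrK : algebraMap R K r ≠ 0 := (map_ne_zero_iff _ (IsFractionRing.injective R K)).2 hr0
  obtain ⟨c, rfl⟩ : r ∣ a := InvGen.dvd_of_forall_height_one hr0 fun p hp hht => by
    obtain ⟨y, hy⟩ := hx p hht
    obtain ⟨⟨c, s⟩, hcs⟩ := IsLocalization.surj p.primeCompl y
    refine ⟨s, s.2, c, IsFractionRing.injective R K ?_⟩
    have h := congrArg (algebraMap (Localization.AtPrime p) K) hcs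
    rw [map_mul, ← IsScalarTower.algebraMap_apply, ← IsScalarTower.algebraMap_apply, hy, div_mul_eq_mul_div, div_eq_iff hrK] at h
    rw [map_mul, map_mul, mul_comm (algebraMap R K s), h, mul_comm]
  exact ⟨c, by rw [map_mul, mul_div_cancel_left₀ _ hrK]⟩

end Groth.Agent.S2111
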