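import Groth.Agent.MagnetAttr.Dominant
import Groth.Agent.HomDiag.Points
import Mathlib.AlgebraicGeometry.Sites.Fpqc
import Mathlib

/-!
# Attractors for a subgroup are fixed points of the quotient
-/

set_option autoImplicit false
set_option backward.isDefEq.respectTransparency false
set_option linter.style.haveILetI false
set_option maxHeartbeats 800000
set_option synthInstance.maxHeartbeats 400000

universe u

open CategoryTheory CategoryTheory.Limits MonoidalCategory CartesianMonoidalCategory MonObj AlgebraicGeometry Opposite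

namespace Groth.Agent.MagnetSub

theorem mapDomain_faithfullyFlat (K : Type u) [CommRing K] {M N : Type} [CommGroup M] [CommGroup N] (φ : N →* M) (h : Function.Injective φ) :
    (MonoidAlgebra.mapDomainAlgHom K K φ).toRingHom.FaithfullyFlat := by
  classical
  let A := MonoidAlgebra K M
  let B := MonoidAlgebra K N
  letI : Algebra (MonoidAlgebra K N) (MonoidAlgebra K M) := (MonoidAlgebra.mapDomainAlgHom K K φ).toRingHom.toAlgebra
  let Q := M ⧸ φ.range
  let s : Q → M := Quotient.out
  have hs : ∀ q : Q, (QuotientGroup.mk (s q) : Q) = q := fun q => Quotient.out_eq q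
  have hn : ∀ m : M, ∃ n : N, s (QuotientGroup.mk m) * φ n = m := by
    intro m
    obtain ⟨n, hn⟩ := (QuotientGroup.eq (s := φ.range)).1 (hs (QuotientGroup.mk m))
    exact ⟨n, by rw [hn, mul_inv_cancel_left]⟩
  choose ν hν using hn
  have hνs : ∀ (q : Q) (n : N), (QuotientGroup.mk (s q * φ n) : Q) = q ∧ ν (s q * φ n) = n := by
    intro q n
    have h1 : (QuotientGroup.mk (s q * φ n) : Q) = q := by
      rw [QuotientGroup.mk_mul, (QuotientGroup.eq_one_iff (φ n)).2 (MonoidHom.mem_range.2 ⟨n, rfl⟩), _root_.mul_one, hs]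
    refine ⟨h1, h ?_⟩
    have h2 := hν (s q * φ n)
    rw [h1] at h2
    exact mul_left_cancel h2
  let L : (Q →₀ MonoidAlgebra K N) →ₗ[MonoidAlgebra K N] MonoidAlgebra K M :=
    Finsupp.linearCombination _ fun q => MonoidAlgebra.single (s q) 1
  have hL : ∀ q n r, L (Finsupp.single q (MonoidAlgebra.single n r)) = MonoidAlgebra.single (s q * φ n) r := by
    intro q n r
    simp only [L, Finsupp.linearCombination_single, Algebra.smul_def, RingHom.algebraMap_toAlgebra,
      AlgHom.toRingHom_eq_coe, RingHom.coe_coe, MonoidAlgebra.mapDomainAlgHom_apply,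
      MonoidAlgebra.mapDomain_single, MonoidAlgebra.single_mul_single, _root_.mul_one, mul_comm (φ n)]
  let P : MonoidAlgebra K M →+ (Q →₀ MonoidAlgebra K N) :=
    (Finsupp.liftAddHom fun m => (Finsupp.singleAddHom (QuotientGroup.mk m : Q)).comp
      (MonoidAlgebra.singleAddHom (ν m))).comp (MonoidAlgebra.coeffLinearEquiv K).toLinearMap.toAddMonoidHom
  have hP : ∀ m r, P (MonoidAlgebra.single m r) =
      Finsupp.single (QuotientGroup.mk m : Q) (MonoidAlgebra.single (ν m) r) := by
    intro m r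
    show (Finsupp.liftAddHom fun m => (Finsupp.singleAddHom (QuotientGroup.mk m : Q)).comp (MonoidAlgebra.singleAddHom (ν m))) (Finsupp.single m r) = _
    rw [Finsupp.liftAddHom_apply_single]
    rfl
  have hPL : ∀ x, P (L x) = x := by
    intro x
    induction x using Finsupp.induction_linear with
    | zero => simp
    | add a b ha hb => rw [map_add, map_add, ha, hb]
    | single q y =>
      induction y using MonoidAlgebra.induction_linear with
      | zero => simp
      | add a b ha hb => rw [Finsupp.single_add, map_add, map_add, ha, hb]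
      | single n r => rw [hL, hP, (hνs q n).1, (hνs q n).2]
  have hbij : Function.Bijective L := by
    refine ⟨Function.LeftInverse.injective hPL, fun x => ?_⟩
    induction x using MonoidAlgebra.induction_linear with
    | zero => exact ⟨0, map_zero _⟩
    | add a b ha hb =>
      obtain ⟨a, rfl⟩ := ha
      obtain ⟨b, rfl⟩ := hb
      exact ⟨a + b, map_add _ _ _⟩
    | single m r => exact ⟨Finsupp.single (QuotientGroup.mk m) (MonoidAlgebra.single (ν m) r), by rw [hL, hν]⟩
  show Module.FaithfullyFlat (MonoidAlgebra K N) (MonoidAlgebra K M)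
  haveI : Nonempty Q := ⟨1⟩
  exact Module.FaithfullyFlat.of_linearEquiv _ _ (LinearEquiv.ofBijective L hbij).symm

open Magnet
open Groth.Agent.MagnetAttr (Zu)

variable (S : Scheme.{u}) {M : Type} [AddCommGroup M]

theorem amon_map_props (N : AddSubgroup M) :
    Flat (AMon.map Zu.{u} N.toAddSubmonoid.subtype).left ∧ Surjective (AMon.map Zu.{u} N.toAddSubmonoid.subtype).left := by
  have hff := mapDomain_faithfullyFlat Zu.{u} (M := Multiplicative M) (N := Multiplicative N)
    (AddMonoidHom.toMultiplicative N.subtype) Subtype.val_injective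
  rw [AMon.map_left]
  exact ⟨HasRingHomProperty.Spec_iff.2 hff.flat,
    ⟨(RingHom.FaithfullyFlat.iff_flat_and_comap_surjective.1 hff).2⟩⟩

theorem map_props (N : AddSubgroup M) (T : Over S) :
    Flat (AMonS.map S N.toAddSubmonoid.subtype ▷ T).left ∧
      Surjective (AMonS.map S N.toAddSubmonoid.subtype ▷ T).left ∧
      QuasiCompact (AMonS.map S N.toAddSubmonoid.subtype ▷ T).left := by
  obtain ⟨h1, h2⟩ := amon_map_props N
  haveI := h1; haveI := h2
  haveI : QuasiCompact (AMon.map Zu.{u} N.toAddSubmonoid.subtype).left := by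
    haveI : IsAffineHom (AMon.map Zu.{u} N.toAddSubmonoid.subtype).left := inferInstanceAs (IsAffineHom (Spec.map _))
    infer_instance
  let g := Limits.IsTerminal.from specULiftZIsTerminal S
  have hb : IsPullback (pullback.fst (AMon Zu.{u} M).hom g) (AMonS.map S N.toAddSubmonoid.subtype).left
      (AMon.map Zu.{u} N.toAddSubmonoid.subtype).left (pullback.fst (AMon Zu.{u} N.toAddSubmonoid).hom g) := by
    refine IsPullback.of_bot ?_ (pullback.lift_fst _ _ _).symm (IsPullback.of_hasPullback (AMon Zu.{u} N.toAddSubmonoid).hom g)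
    rw [Over.w (AMon.map Zu.{u} N.toAddSubmonoid.subtype)]
    erw [pullback.lift_snd]
    exact IsPullback.of_hasPullback _ _
  have hw : IsPullback (pullback.fst (AMonS S M).hom T.hom) (AMonS.map S N.toAddSubmonoid.subtype ▷ T).left
      (AMonS.map S N.toAddSubmonoid.subtype).left (pullback.fst (AMonS S N.toAddSubmonoid).hom T.hom) := by
    refine IsPullback.of_bot ?_ (Over.whiskerRight_left_fst _).symm (IsPullback.of_hasPullback (AMonS S N.toAddSubmonoid).hom T.hom)
    rw [Over.w (AMonS.map S N.toAddSubmonoid.subtype), Over.whiskerRight_left_snd]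
    exact IsPullback.of_hasPullback _ _
  exact ⟨MorphismProperty.of_isPullback hw (MorphismProperty.of_isPullback hb h1),
    MorphismProperty.of_isPullback hw (MorphismProperty.of_isPullback hb h2),
    MorphismProperty.of_isPullback hw (MorphismProperty.of_isPullback hb inferInstance)⟩

theorem epi_map (N : AddSubgroup M) (T : Over S) : Epi (AMonS.map S N.toAddSubmonoid.subtype ▷ T) := by
  obtain ⟨h1, h2, h3⟩ := map_props S N T
  haveI := h1; haveI := h2; haveI := h3
  refine ⟨fun a b h => Over.OverMorphism.ext ?_⟩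
  exact (cancel_epi (AMonS.map S N.toAddSubmonoid.subtype ▷ T).left).1 (congrArg CommaMorphism.left h)

variable {S}

theorem ch_map {N : Type} [AddCommGroup N] (θ : N →+ M) {X : Over S} (x : X ⟶ Red.DS S M) (n : Multiplicative N) :
    HomDiag.ch (M := N) (x ≫ AMonS.map S θ) n = HomDiag.ch x (Multiplicative.ofAdd (θ n.toAdd)) :=
  HomDiag.ch_DSmap θ x n

theorem comp_map_eq_one (N : AddSubgroup M) {T : Over S} (h : T ⟶ Red.DS S (M ⧸ N)) :
    h ≫ AMonS.map S (QuotientAddGroup.mk' N) ≫ AMonS.map S N.toAddSubmonoid.subtype = toUnit T ≫ η[AMonS S N.toAddSubmonoid] := by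
  letI : AddCommGroup N.toAddSubmonoid := inferInstanceAs (AddCommGroup N)
  rw [← Hom.one_def]
  refine HomDiag.ch_ext (M := N.toAddSubmonoid) fun m => ?_
  rw [← Category.assoc]
  refine (ch_map N.toAddSubmonoid.subtype (h ≫ AMonS.map S (QuotientAddGroup.mk' N)) m).trans ?_
  refine (ch_map (QuotientAddGroup.mk' N) h _).trans ?_
  rw [show QuotientAddGroup.mk' N (Multiplicative.toAdd (Multiplicative.ofAdd (N.toAddSubmonoid.subtype m.toAdd))) = 0 from
    (QuotientAddGroup.eq_zero_iff _).2 m.toAdd.2]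
  exact (map_one _).trans (HomDiag.ch_one m).symm

theorem exists_quot (N : AddSubgroup M) {T : Over S} (x x' : T ⟶ Red.DS S M)
    (hx : x ≫ AMonS.map S N.toAddSubmonoid.subtype = x' ≫ AMonS.map S N.toAddSubmonoid.subtype) :
    ∃ h : T ⟶ Red.DS S (M ⧸ N), x' = x * (h ≫ AMonS.map S (QuotientAddGroup.mk' N)) := by
  letI : AddCommGroup N.toAddSubmonoid := inferInstanceAs (AddCommGroup N)
  let χ : Multiplicative M →* Γ(T.left, ⊤) := HomDiag.ch (x⁻¹ * x')
  have hχ : ∀ m : M, m ∈ N → χ (Multiplicative.ofAdd m) = 1 := by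
    intro m hm
    have e : HomDiag.ch x' (Multiplicative.ofAdd m) = HomDiag.ch x (Multiplicative.ofAdd m) := by
      have h1 := ch_map N.toAddSubmonoid.subtype x (Multiplicative.ofAdd (⟨m, hm⟩ : N.toAddSubmonoid))
      have h2 := ch_map N.toAddSubmonoid.subtype x' (Multiplicative.ofAdd (⟨m, hm⟩ : N.toAddSubmonoid))
      exact h2.symm.trans ((congrArg (fun z => HomDiag.ch (M := N.toAddSubmonoid) z _) hx.symm).trans h1)
    show HomDiag.ch (x⁻¹ * x') _ = 1
    rw [HomDiag.ch_mul, e, ← HomDiag.ch_mul]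
    exact (congrArg (fun z => HomDiag.ch z _) (_root_.inv_mul_cancel x)).trans (HomDiag.ch_one _)
  let χq : Multiplicative (M ⧸ N) →* Γ(T.left, ⊤) := AddMonoidHom.toMultiplicativeLeft
    (QuotientAddGroup.lift N (MonoidHom.toAdditiveRight χ) fun m hm => congrArg Additive.ofMul (hχ m hm))
  obtain ⟨h, hh⟩ := HomDiag.exists_ch χq
  refine ⟨h, ?_⟩
  have e : h ≫ AMonS.map S (QuotientAddGroup.mk' N) = x⁻¹ * x' := by
    refine HomDiag.ch_ext (M := M) fun m => ?_
    refine (ch_map (QuotientAddGroup.mk' N) h m).trans ?_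
    rw [hh]
    rfl
  rw [e]
  exact (_root_.mul_inv_cancel_left x x').symm

variable {X : Over S} (a : MonAct (AMonS S M) X) (N : AddSubgroup M)

theorem fixed_attrToX {T : Over S} (φ : (attr a N.toAddSubmonoid).obj (op T)) (T' : Over S) (t : T' ⟶ T)
    (g : T' ⟶ AMonS S (M ⧸ N)) :
    lift g (t ≫ (attrToX a N.toAddSubmonoid).app (op T) φ) ≫ (a.restrict (AMonS.map S (QuotientAddGroup.mk' N))).act =
      t ≫ (attrToX a N.toAddSubmonoid).app (op T) φ := by
  have hφ := (MonAct.mem_eqvHom_iff φ.1).1 φ.2 T' (g ≫ AMonS.map S (QuotientAddGroup.mk' N))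
    (toUnit T' ≫ η[AMonS S N.toAddSubmonoid]) t
  have e : t ≫ (attrToX a N.toAddSubmonoid).app (op T) φ =
      lift (toUnit T' ≫ η[AMonS S N.toAddSubmonoid]) t ≫ φ.1 := by
    rw [attrToX, MonAct.eqvHom.evalAt_app, comp_lift_assoc, comp_toUnit_assoc, Category.comp_id]
  rw [MonAct.lift_restrict_act, e, ← hφ]
  simp only [subAct, MonAct.lift_restrict_act, MonAct.lift_regular_act, Category.assoc]
  congr 2
  rw [comp_map_eq_one N g, ← Hom.one_def, _root_.one_mul]

/-- The comparison map. -/
noncomputable def toFixed :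
    attr a N.toAddSubmonoid ⟶ MonAct.fixedPsh (a.restrict (AMonS.map S (QuotientAddGroup.mk' N))) where
  app T := TypeCat.ofHom fun φ => ⟨(attrToX a N.toAddSubmonoid).app T φ, fixed_attrToX a N φ⟩
  naturality T T' t := ConcreteCategory.hom_ext _ _ fun φ => Subtype.ext
    (NatTrans.naturality_apply (attrToX a N.toAddSubmonoid) t φ :)

theorem exists_of_fixed {T : Over S} (x : T ⟶ X)
    (hx : ∀ (T' : Over S) (t : T' ⟶ T) (g : T' ⟶ AMonS S (M ⧸ N)),
      lift g (t ≫ x) ≫ (a.restrict (AMonS.map S (QuotientAddGroup.mk' N))).act = t ≫ x) :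
    ∃ φ : (attr a N.toAddSubmonoid).obj (op T), (attrToX a N.toAddSubmonoid).app (op T) φ = x := by
  let p := AMonS.map S N.toAddSubmonoid.subtype ▷ T
  let o : AMonS S M ⊗ T ⟶ X := lift (fst _ _) (snd _ _ ≫ x) ≫ a.act
  obtain ⟨h1, h2, h3⟩ := map_props S N T
  haveI := h1; haveI := h2; haveI := h3
  have hker : ∀ {W : Scheme.{u}} (g₁ g₂ : W ⟶ (AMonS S M ⊗ T).left),
      g₁ ≫ p.left = g₂ ≫ p.left → g₁ ≫ o.left = g₂ ≫ o.left := by
    intro W g₁ g₂ hg
    let W' : Over S := Over.mk (g₁ ≫ (AMonS S M ⊗ T).hom)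
    let z : W' ⟶ AMonS S M ⊗ T := Over.homMk g₁ rfl
    let z' : W' ⟶ AMonS S M ⊗ T := Over.homMk g₂ (by
      show g₂ ≫ _ = g₁ ≫ _
      rw [← Over.w p, ← Category.assoc, ← hg, Category.assoc])
    have hz : z ≫ p = z' ≫ p := Over.OverMorphism.ext hg
    have ht : z ≫ snd _ _ = z' ≫ snd _ _ := by
      simpa [p] using congrArg (fun w => w ≫ snd _ _) hz
    have hM : (z ≫ fst _ _) ≫ AMonS.map S N.toAddSubmonoid.subtype =
        (z' ≫ fst _ _) ≫ AMonS.map S N.toAddSubmonoid.subtype := by
      simpa [p] using congrArg (fun w => w ≫ fst _ _) hz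
    obtain ⟨h, hh⟩ := exists_quot N (z ≫ fst _ _) (z' ≫ fst _ _) hM
    have key : z ≫ o = z' ≫ o := by
      simp only [o, comp_lift_assoc]
      rw [← Category.assoc z, ← Category.assoc z', ← ht, hh]
      have hfix := (MonAct.lift_restrict_act _ a h ((z ≫ snd _ _) ≫ x)).symm.trans (hx W' (z ≫ snd _ _) h)
      refine Eq.symm ((a.lift_mul_act _ _ _).trans ?_)
      rw [hfix]
    exact congrArg CommaMorphism.left key
  let ψ₀ := EffectiveEpi.desc p.left o.left hker
  have hψ₀ : p.left ≫ ψ₀ = o.left := EffectiveEpi.fac p.left o.left hker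
  let ψ : AMonS S N.toAddSubmonoid ⊗ T ⟶ X := Over.homMk ψ₀ (by
    rw [← cancel_epi p.left, reassoc_of% hψ₀, Over.w o]
    exact (Over.w p).symm)
  have hψ : p ≫ ψ = o := Over.OverMorphism.ext hψ₀
  have heq : MonAct.IsEquivariant ((subAct S M N.toAddSubmonoid).prod (MonAct.trivial _ T)) a ψ := by
    rw [MonAct.mem_eqvHom_iff]
    intro T' gm b s
    have huniv : lift (lift (snd (AMonS S N.toAddSubmonoid) (AMonS S M ⊗ T) ≫ fst _ _) (fst _ _) ≫ (subAct S M N.toAddSubmonoid).act)
        (snd (AMonS S N.toAddSubmonoid) (AMonS S M ⊗ T) ≫ snd _ _) ≫ ψ =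
        lift (snd (AMonS S N.toAddSubmonoid) (AMonS S M ⊗ T) ≫ fst _ _) (lift (fst _ _) (snd (AMonS S N.toAddSubmonoid) (AMonS S M ⊗ T) ≫ snd _ _) ≫ ψ) ≫ a.act := by
      haveI := epi_map S N (AMonS S M ⊗ T)
      rw [← cancel_epi (AMonS.map S N.toAddSubmonoid.subtype ▷ (AMonS S M ⊗ T))]
      refine Magnet.hom_ext_lift₂ fun T'' h z => ?_
      simp only [lift_whiskerRight_assoc, comp_lift_assoc, comp_lift, lift_fst, lift_snd, lift_snd_assoc, Category.assoc,
        subAct, MonAct.lift_restrict_act, MonAct.lift_regular_act, MonObj.comp_mul]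
      rw [← Category.assoc z (fst _ _) (AMonS.map S N.toAddSubmonoid.subtype), ← MonObj.mul_comp, ← lift_whiskerRight_assoc, hψ,
        ← lift_whiskerRight_assoc h _ (AMonS.map S N.toAddSubmonoid.subtype), hψ]
      simp only [o, comp_lift_assoc, lift_fst, lift_snd_assoc, MonAct.lift_mul_act]
    have := congrArg (fun t => lift b (lift gm s) ≫ t) huniv
    simpa [comp_lift_assoc, comp_lift] using this
  refine ⟨⟨ψ, heq⟩, ?_⟩
  show lift (toUnit T ≫ η[AMonS S N.toAddSubmonoid]) (𝟙 T) ≫ ψ = x
  have e1 : lift (toUnit T ≫ η[AMonS S N.toAddSubmonoid]) (𝟙 T) =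
      lift (toUnit T ≫ η[AMonS S M]) (𝟙 T) ≫ p := by
    rw [lift_whiskerRight, Category.assoc, IsMonHom.one_hom]
  rw [e1, Category.assoc, hψ]
  simp only [o, comp_lift_assoc, lift_fst, lift_snd_assoc, Category.id_comp]
  rw [← Hom.one_def, MonAct.lift_one_act]

theorem isIso_toFixed : IsIso (toFixed a N) := by
  rw [NatTrans.isIso_iff_isIso_app]
  intro T
  induction T using Opposite.rec with | op T => ?_
  rw [isIso_iff_bijective]
  constructor
  · intro φ₁ φ₂ h
    haveI := epi_map S N T
    refine Subtype.ext ((cancel_epi (AMonS.map S N.toAddSubmonoid.subtype ▷ T)).1 ?_)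
    have e : (attrToX a N.toAddSubmonoid).app (op T) φ₁ = (attrToX a N.toAddSubmonoid).app (op T) φ₂ :=
      congrArg Subtype.val h
    rw [MagnetAttr.map_subtype_comp, MagnetAttr.map_subtype_comp, e]
  · intro x
    obtain ⟨φ, hφ⟩ := exists_of_fixed a N x.1 x.2
    exact ⟨φ, Subtype.ext hφ⟩

end Groth.Agent.MagnetSub
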