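import Groth.Prelude.Def_Magnet4
import Mathlib.AlgebraicGeometry.Group.Affine

/-!
# Points of diagonalizable monoid schemes are characters with values in global functions
-/

set_option autoImplicit false
set_option backward.isDefEq.respectTransparency false
set_option linter.style.haveILetI false
set_option linter.unusedSimpArgs false

universe u

open CategoryTheory CategoryTheory.Limits MonoidalCategory CartesianMonoidalCategory MonObj AlgebraicGeometry Opposite
open Magnet

noncomputable section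

namespace Groth.Agent.MagnetPts

/-- The integers. -/
abbrev Zu : Type u := ULift.{u} ℤ

/-- The monoid ring over the integers. -/
abbrev ZA (P : Type) [AddCommMonoid P] : Type u := MonoidAlgebra Zu.{u} (Multiplicative P)

theorem zHom_ext {A : Type*} [Semiring A] (f g : Zu.{u} →+* A) : f = g := by
  have h := RingHom.ext_int (f.comp ULift.ringEquiv.symm.toRingHom) (g.comp ULift.ringEquiv.symm.toRingHom)
  ext x
  exact congrArg (fun k : ℤ →+* A => k x.down) h

variable {S : Scheme.{u}} {P Q : Type} [AddCommMonoid P] [AddCommMonoid Q]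

/-- The ring map of a point. -/
def ρ {Y : Scheme.{u}} (f : Y ⟶ Spec (CommRingCat.of (ZA.{u} P))) : ZA.{u} P →+* Γ(Y, ⊤) :=
  ((Scheme.ΓSpecIso (CommRingCat.of (ZA.{u} P))).inv ≫ f.appTop).hom

theorem eq_of_ρ {Y : Scheme.{u}} {f g : Y ⟶ Spec (CommRingCat.of (ZA.{u} P))}
    (h : ∀ m : Multiplicative P, ρ f (MonoidAlgebra.single m 1) = ρ g (MonoidAlgebra.single m 1)) :
    f = g := by
  refine ext_of_isAffine ?_
  rw [← cancel_epi (Scheme.ΓSpecIso (CommRingCat.of (ZA.{u} P))).inv]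
  exact CommRingCat.hom_ext (MonoidAlgebra.ringHom_ext
    (fun z => congrArg (fun k : Zu.{u} →+* Γ(Y, ⊤) => k z)
      (zHom_ext ((ρ f).comp MonoidAlgebra.singleOneRingHom) ((ρ g).comp MonoidAlgebra.singleOneRingHom))) h)

theorem ρ_toSpecΓ {Y : Scheme.{u}} (φ : ZA.{u} P →+* Γ(Y, ⊤)) :
    ρ (Y.toSpecΓ ≫ Spec.map (CommRingCat.ofHom φ)) = φ := by
  rw [ρ, Scheme.Hom.comp_appTop, ← Scheme.ΓSpecIso_inv_naturality_assoc, Scheme.toSpecΓ_appTop,
    Iso.inv_hom_id, Category.comp_id]
  rfl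

theorem ρ_comp_map {Y : Scheme.{u}} (φ : ZA.{u} Q →+* ZA.{u} P) (f : Y ⟶ Spec (CommRingCat.of (ZA.{u} P)))
    (q : ZA.{u} Q) : ρ (f ≫ Spec.map (CommRingCat.ofHom φ)) q = ρ f (φ q) := by
  rw [ρ, Scheme.Hom.comp_appTop, ← Scheme.ΓSpecIso_inv_naturality_assoc]
  rfl

/-- The values of the monomials at a point. -/
def co {T : Over S} (x : T ⟶ AMonS S P) : Multiplicative P →* Γ(T.left, ⊤) :=
  (ρ (x.left ≫ pullback.fst _ _)).toMonoidHom.comp (MonoidAlgebra.of _ _)

theorem co_apply {T : Over S} (x : T ⟶ AMonS S P) (m : Multiplicative P) :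
    co x m = ρ (x.left ≫ pullback.fst _ _) (MonoidAlgebra.single m 1) := rfl

theorem co_ext {T : Over S} {x y : T ⟶ AMonS S P} (h : ∀ m, co x m = co y m) : x = y := by
  apply Over.OverMorphism.ext
  refine pullback.hom_ext (eq_of_ρ h) ?_
  exact (Over.w x).trans (Over.w y).symm

theorem co_comp {T T' : Over S} (t : T' ⟶ T) (x : T ⟶ AMonS S P) (m : Multiplicative P) :
    co (t ≫ x) m = t.left.appTop (co x m) := by
  rw [co_apply, co_apply, Over.comp_left, Category.assoc, ρ, Scheme.Hom.comp_appTop]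
  rfl

theorem exists_co {T : Over S} (χ : Multiplicative P →* Γ(T.left, ⊤)) :
    ∃ x : T ⟶ AMonS S P, ∀ m, co x m = χ m := by
  let φ : ZA.{u} P →+* Γ(T.left, ⊤) := MonoidAlgebra.liftNCRingHom
    ((Int.castRingHom _).comp ULift.ringEquiv.toRingHom) χ (fun _ _ => Commute.all _ _)
  let f := T.left.toSpecΓ ≫ Spec.map (CommRingCat.ofHom φ)
  refine ⟨Over.homMk (pullback.lift f T.hom (specULiftZIsTerminal.hom_ext _ _)) (pullback.lift_snd _ _ _),
    fun m => ?_⟩
  rw [co_apply]
  refine Eq.trans (congrArg (fun g : T.left ⟶ Spec (CommRingCat.of (ZA.{u} P)) =>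
    ρ g (MonoidAlgebra.single m 1)) (pullback.lift_fst f T.hom _)) ?_
  rw [show ρ f = φ from ρ_toSpecΓ φ]
  show MonoidAlgebra.liftNC _ _ (MonoidAlgebra.single m 1) = χ m
  rw [MonoidAlgebra.liftNC_single, AddMonoidHom.coe_coe, map_one, _root_.one_mul]

theorem co_map (θ : Q →+ P) {T : Over S} (x : T ⟶ AMonS S P) (n : Multiplicative Q) :
    co (x ≫ AMonS.map S θ) n = co x (Multiplicative.ofAdd (θ n.toAdd)) := by
  have h : (x ≫ AMonS.map S θ).left ≫ pullback.fst _ _ = (x.left ≫ pullback.fst _ _) ≫ (AMon.map Zu.{u} θ).left := by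
    rw [Over.comp_left, Category.assoc, show (AMonS.map S θ).left ≫ pullback.fst _ _ = pullback.fst _ _ ≫ (AMon.map Zu.{u} θ).left
      from pullback.lift_fst _ _ _, Category.assoc]
  rw [co_apply, co_apply, h, AMon.map_left]
  refine (ρ_comp_map _ _ _).trans (congrArg _ ?_)
  simp

theorem co_faceMap {M : Type} [AddCommMonoid M] {N F : AddSubmonoid M} (hF : IsFace N F) {T : Over S}
    (x : T ⟶ AMonS S F) (n : N) :
    co (x ≫ AMonS.faceMap S hF) (Multiplicative.ofAdd n) =
      ρ (x.left ≫ pullback.fst _ _) (faceAlgHom Zu.{u} hF (MonoidAlgebra.single (Multiplicative.ofAdd n) 1)) := by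
  have h : (x ≫ AMonS.faceMap S hF).left ≫ pullback.fst _ _ = (x.left ≫ pullback.fst _ _) ≫ (AMon.faceMap Zu.{u} hF).left := by
    rw [Over.comp_left, Category.assoc, show (AMonS.faceMap S hF).left ≫ pullback.fst _ _ = pullback.fst _ _ ≫ (AMon.faceMap Zu.{u} hF).left
      from pullback.lift_fst _ _ _, Category.assoc]
  rw [co_apply, h, AMon.faceMap_left]
  exact ρ_comp_map _ _ _

theorem co_faceMap_of_mem {M : Type} [AddCommMonoid M] {N F : AddSubmonoid M} (hF : IsFace N F) {T : Over S}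
    (x : T ⟶ AMonS S F) (n : N) (h : (n : M) ∈ F) :
    co (x ≫ AMonS.faceMap S hF) (Multiplicative.ofAdd n) = co x (Multiplicative.ofAdd ⟨n, h⟩) := by
  rw [co_faceMap, faceAlgHom_single_of_mem Zu hF n h, co_apply]

theorem co_faceMap_of_notMem {M : Type} [AddCommMonoid M] {N F : AddSubmonoid M} (hF : IsFace N F) {T : Over S}
    (x : T ⟶ AMonS S F) (n : N) (h : (n : M) ∉ F) :
    co (x ≫ AMonS.faceMap S hF) (Multiplicative.ofAdd n) = 0 := by
  rw [co_faceMap, faceAlgHom_single_of_not_mem Zu hF n h, map_zero]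

theorem ρ_mul {Y : Over (Spec (CommRingCat.of Zu.{u}))} (a b : Y ⟶ AMon Zu.{u} P) (m : Multiplicative P) :
    ρ (a * b).left (MonoidAlgebra.single m 1) =
      ρ a.left (MonoidAlgebra.single m 1) * ρ b.left (MonoidAlgebra.single m 1) := by
  letI : Algebra Zu.{u} Γ(Y.left, ⊤) := ((Int.castRingHom _).comp ULift.ringEquiv.toRingHom).toAlgebra
  let p : Y ⟶ (Spec (CommRingCat.of Γ(Y.left, ⊤))).asOver (Spec (CommRingCat.of Zu.{u})) :=
    Over.homMk Y.left.toSpecΓ (specULiftZIsTerminal.hom_ext _ _)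
  let e := AlgebraicGeometry.Spec.mapMulEquiv (R := Zu.{u}) (S := ZA.{u} P) (T := Γ(Y.left, ⊤))
  have key : ∀ c : Y ⟶ AMon Zu.{u} P, ∃ φ : ZA.{u} P →ₐ[Zu.{u}] Γ(Y.left, ⊤),
      c = p ≫ e (WithConv.toConv φ) ∧ φ.toRingHom = ρ c.left := by
    intro c
    refine ⟨{ ρ c.left with
      commutes' := fun r => RingHom.congr_fun (zHom_ext
        ((ρ c.left).comp (algebraMap Zu.{u} (ZA.{u} P))) (algebraMap Zu.{u} Γ(Y.left, ⊤))) r }, ?_, rfl⟩
    apply Over.OverMorphism.ext
    refine eq_of_ρ fun m => ?_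
    exact (RingHom.congr_fun (ρ_toSpecΓ (ρ c.left)) _).symm
  obtain ⟨φ, hx, hφ⟩ := key a
  obtain ⟨ψ, hy, hψ⟩ := key b
  have h : a * b = p ≫ e (WithConv.toConv φ * WithConv.toConv ψ) := by rw [map_mul, MonObj.comp_mul, ← hx, ← hy]
  rw [← hφ, ← hψ, h]
  refine (RingHom.congr_fun (ρ_toSpecΓ (WithConv.toConv φ * WithConv.toConv ψ).ofConv.toRingHom) _).trans ?_
  show (WithConv.toConv φ * WithConv.toConv ψ).ofConv (MonoidAlgebra.single m 1) = φ _ * ψ _
  rw [AlgHom.convMul_apply]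
  simp

theorem adj_symm_left {T : Over S} (x : T ⟶ AMonS S P) :
    (((Over.mapPullbackAdj (IsTerminal.from specULiftZIsTerminal S)).homEquiv _ _).symm x).left =
      x.left ≫ pullback.fst _ _ := by
  rw [Adjunction.homEquiv_counit]
  simp [Over.mapPullbackAdj]

theorem adj_symm_mul {T : Over S} (x y : T ⟶ AMonS S P) :
    ((Over.mapPullbackAdj (IsTerminal.from specULiftZIsTerminal S)).homEquiv _ _).symm (x * y) =
      ((Over.mapPullbackAdj (IsTerminal.from specULiftZIsTerminal S)).homEquiv _ _).symm x *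
        ((Over.mapPullbackAdj (IsTerminal.from specULiftZIsTerminal S)).homEquiv _ _).symm y := by
  apply ((Over.mapPullbackAdj (IsTerminal.from specULiftZIsTerminal S)).homEquiv _ _).injective
  rw [Equiv.apply_symm_apply, Adjunction.homEquiv_unit, Functor.map_mul, MonObj.comp_mul,
    ← Adjunction.homEquiv_unit, ← Adjunction.homEquiv_unit, Equiv.apply_symm_apply, Equiv.apply_symm_apply]

theorem co_mul {T : Over S} (x y : T ⟶ AMonS S P) (m : Multiplicative P) : co (x * y) m = co x m * co y m := by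
  simp only [co_apply, ← adj_symm_left, adj_symm_mul]
  exact ρ_mul _ _ m

theorem map_zero' (P Q : Type) [AddCommMonoid P] [AddCommMonoid Q] :
    AMonS.map S (0 : P →+ Q) = toUnit _ ≫ η[AMonS S P] := by
  have e : AMon.map Zu.{u} (0 : P →+ Q) = toUnit _ ≫ η[AMon Zu.{u} P] := by
    apply Over.OverMorphism.ext
    rw [Over.comp_left, AMon.map_left]
    erw [AlgebraicGeometry.one_spec_asOver_spec_left]
    show Spec.map _ = (AMon Zu.{u} Q).hom ≫ _
    rw [show (AMon Zu.{u} Q).hom = Spec.map (CommRingCat.ofHom (algebraMap Zu.{u} (ZA.{u} Q))) from rfl,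
      ← Spec.map_comp]
    congr 1
    ext x <;> simp
  rw [AMonS.map, e, ← Hom.one_def, Functor.map_one, Hom.one_def]

theorem co_one {T : Over S} (m : Multiplicative P) : co (toUnit T ≫ η[AMonS S P]) m = 1 := by
  obtain ⟨x, -⟩ := exists_co (S := S) (P := P) (T := T) 1
  rw [show toUnit T ≫ η[AMonS S P] = x ≫ AMonS.map S (0 : P →+ P) by rw [map_zero', comp_toUnit_assoc], co_map]
  exact map_one _

end Groth.Agent.MagnetPts
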