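import Groth.Agent.MagnetSub
import Groth.Agent.MagnetAttr.MapAdd
import Groth.Prelude.Def_Magnet3

/-!
# Change of monoid along a homomorphism of groups whose image contains the magnet
-/

set_option autoImplicit false
set_option backward.isDefEq.respectTransparency false
set_option linter.style.haveILetI false
set_option linter.unusedSimpArgs false
set_option maxHeartbeats 800000
set_option synthInstance.maxHeartbeats 400000

universe u

open CategoryTheory CategoryTheory.Limits MonoidalCategory CartesianMonoidalCategory MonObj AlgebraicGeometry Opposite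
open Magnet
open Groth.Agent.MagnetAttr (Zu)

namespace Groth.Agent.MagnetCoset

/-- A map of monoid algebras coming from a free action with representatives `r` is faithfully flat. -/
theorem mapDomain_faithfullyFlat_of_bijective (K : Type u) [CommRing K] {N P Q : Type} [CommMonoid N] [CommMonoid P]
    [Nonempty Q] (θ : N →* P) (r : Q → P) (h : Function.Bijective fun x : Q × N => r x.1 * θ x.2) :
    (MonoidAlgebra.mapDomainAlgHom K K θ).toRingHom.FaithfullyFlat := by
  classical
  letI : Algebra (MonoidAlgebra K N) (MonoidAlgebra K P) := (MonoidAlgebra.mapDomainAlgHom K K θ).toRingHom.toAlgebra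
  let E := Equiv.ofBijective _ h
  let L : (Q →₀ MonoidAlgebra K N) →ₗ[MonoidAlgebra K N] MonoidAlgebra K P :=
    Finsupp.linearCombination _ fun q => MonoidAlgebra.single (r q) 1
  have hL : ∀ q n a, L (Finsupp.single q (MonoidAlgebra.single n a)) = MonoidAlgebra.single (r q * θ n) a := by
    intro q n a
    simp only [L, Finsupp.linearCombination_single, Algebra.smul_def, RingHom.algebraMap_toAlgebra,
      AlgHom.toRingHom_eq_coe, RingHom.coe_coe, MonoidAlgebra.mapDomainAlgHom_apply,
      MonoidAlgebra.mapDomain_single, MonoidAlgebra.single_mul_single, _root_.mul_one, mul_comm (θ n)]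
  let G : MonoidAlgebra K P →+ (Q →₀ MonoidAlgebra K N) :=
    (Finsupp.liftAddHom fun m => (Finsupp.singleAddHom (E.symm m).1).comp
      (MonoidAlgebra.singleAddHom (E.symm m).2)).comp (MonoidAlgebra.coeffLinearEquiv K).toLinearMap.toAddMonoidHom
  have hG : ∀ m a, G (MonoidAlgebra.single m a) = Finsupp.single (E.symm m).1 (MonoidAlgebra.single (E.symm m).2 a) := by
    intro m a
    show (Finsupp.liftAddHom fun m => (Finsupp.singleAddHom (E.symm m).1).comp (MonoidAlgebra.singleAddHom (E.symm m).2))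
      (Finsupp.single m a) = _
    rw [Finsupp.liftAddHom_apply_single]
    rfl
  have hGL : ∀ x, G (L x) = x := by
    intro x
    induction x using Finsupp.induction_linear with
    | zero => simp
    | add a b ha hb => rw [map_add, map_add, ha, hb]
    | single q y =>
      induction y using MonoidAlgebra.induction_linear with
      | zero => simp
      | add a b ha hb => rw [Finsupp.single_add, map_add, map_add, ha, hb]
      | single n a =>
        rw [hL, hG, show E.symm (r q * θ n) = (q, n) from E.symm_apply_apply (q, n)]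
  have hbij : Function.Bijective L := by
    refine ⟨Function.LeftInverse.injective hGL, fun x => ?_⟩
    induction x using MonoidAlgebra.induction_linear with
    | zero => exact ⟨0, map_zero _⟩
    | add a b ha hb =>
      obtain ⟨a, rfl⟩ := ha
      obtain ⟨b, rfl⟩ := hb
      exact ⟨a + b, map_add _ _ _⟩
    | single m a =>
      exact ⟨Finsupp.single (E.symm m).1 (MonoidAlgebra.single (E.symm m).2 a), by
        rw [hL, show r (E.symm m).1 * θ (E.symm m).2 = m from E.apply_symm_apply m]⟩
  show Module.FaithfullyFlat (MonoidAlgebra K N) (MonoidAlgebra K P)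
  exact Module.FaithfullyFlat.of_linearEquiv _ _ (LinearEquiv.ofBijective L hbij).symm

variable (S : Scheme.{u}) {N P : Type} [AddCommMonoid N] [AddCommMonoid P]

theorem map_props (θ : N →+ P)
    (hff : (MonoidAlgebra.mapDomainAlgHom Zu.{u} Zu.{u} (AddMonoidHom.toMultiplicative θ)).toRingHom.FaithfullyFlat)
    (T : Over S) :
    Flat (AMonS.map S θ ▷ T).left ∧ Surjective (AMonS.map S θ ▷ T).left ∧ QuasiCompact (AMonS.map S θ ▷ T).left := by
  have h1 : Flat (AMon.map Zu.{u} θ).left := by rw [AMon.map_left]; exact HasRingHomProperty.Spec_iff.2 hff.flat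
  have h2 : Surjective (AMon.map Zu.{u} θ).left := by
    rw [AMon.map_left]; exact ⟨(RingHom.FaithfullyFlat.iff_flat_and_comap_surjective.1 hff).2⟩
  haveI h3 : QuasiCompact (AMon.map Zu.{u} θ).left := by
    haveI : IsAffineHom (AMon.map Zu.{u} θ).left := inferInstanceAs (IsAffineHom (Spec.map _))
    infer_instance
  let g := Limits.IsTerminal.from specULiftZIsTerminal S
  have hb : IsPullback (pullback.fst (AMon Zu.{u} P).hom g) (AMonS.map S θ).left
      (AMon.map Zu.{u} θ).left (pullback.fst (AMon Zu.{u} N).hom g) := by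
    refine IsPullback.of_bot ?_ (pullback.lift_fst _ _ _).symm (IsPullback.of_hasPullback (AMon Zu.{u} N).hom g)
    rw [Over.w (AMon.map Zu.{u} θ)]
    erw [pullback.lift_snd]
    exact IsPullback.of_hasPullback _ _
  have hw : IsPullback (pullback.fst (AMonS S P).hom T.hom) (AMonS.map S θ ▷ T).left
      (AMonS.map S θ).left (pullback.fst (AMonS S N).hom T.hom) := by
    refine IsPullback.of_bot ?_ (Over.whiskerRight_left_fst _).symm (IsPullback.of_hasPullback (AMonS S N).hom T.hom)
    rw [Over.w (AMonS.map S θ), Over.whiskerRight_left_snd]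
    exact IsPullback.of_hasPullback _ _
  exact ⟨MorphismProperty.of_isPullback hw (MorphismProperty.of_isPullback hb h1),
    MorphismProperty.of_isPullback hw (MorphismProperty.of_isPullback hb h2),
    MorphismProperty.of_isPullback hw (MorphismProperty.of_isPullback hb h3)⟩

theorem AMonS_map_id (P : Type) [AddCommMonoid P] : AMonS.map S (AddMonoidHom.id P) = 𝟙 (AMonS S P) := by
  have e : AMon.map Zu.{u} (AddMonoidHom.id P) = 𝟙 _ := by
    apply Over.OverMorphism.ext
    rw [AMon.map_left, Over.id_left]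
    refine Eq.trans ?_ (Spec.map_id _)
    congr 1
    ext x <;> simp
  rw [AMonS.map, e]
  exact CategoryTheory.Functor.map_id _ _

theorem AMonS_map_zero (N P : Type) [AddCommMonoid N] [AddCommMonoid P] :
    AMonS.map S (0 : N →+ P) = toUnit _ ≫ η[AMonS S N] := by
  have e : AMon.map Zu.{u} (0 : N →+ P) = toUnit _ ≫ η[AMon Zu.{u} N] := by
    apply Over.OverMorphism.ext
    rw [Over.comp_left, AMon.map_left]
    erw [AlgebraicGeometry.one_spec_asOver_spec_left]
    show Spec.map _ = (AMon Zu.{u} P).hom ≫ _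
    rw [show (AMon Zu.{u} P).hom = Spec.map (CommRingCat.ofHom (algebraMap Zu.{u} (MonoidAlgebra Zu.{u} (Multiplicative P)))) from rfl,
      ← Spec.map_comp]
    congr 1
    ext x <;> simp
  rw [AMonS.map, e, ← Hom.one_def, Functor.map_one, Hom.one_def]

theorem mono_map (θ : N →+ P) (hθ : Function.Surjective θ) : Mono (AMonS.map S θ) := by
  haveI : IsClosedImmersion (AMon.map Zu.{u} θ).left := by
    rw [AMon.map_left]
    refine IsClosedImmersion.spec_of_surjective _ ?_
    intro x
    induction x using MonoidAlgebra.induction_linear with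
    | zero => exact ⟨0, map_zero _⟩
    | add a b ha hb =>
      obtain ⟨a, rfl⟩ := ha
      obtain ⟨b, rfl⟩ := hb
      exact ⟨a + b, map_add _ _ _⟩
    | single m a =>
      obtain ⟨n, hn⟩ := hθ m.toAdd
      refine ⟨MonoidAlgebra.single (Multiplicative.ofAdd n) a, ?_⟩
      simp [hn]
  haveI hm : Mono (AMon.map Zu.{u} θ).left :=
    (fun {A B : Scheme.{u}} (i : A ⟶ B) (h : IsClosedImmersion i) => (inferInstance : Mono i)) _ this
  haveI : Mono (AMon.map Zu.{u} θ) := @Over.mono_of_mono_left _ _ _ _ _ (AMon.map Zu.{u} θ) hm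
  rw [AMonS.map]
  infer_instance

variable {S} {M Z : Type} [AddCommGroup M] [AddCommGroup Z] (f : M →+ Z) (Y : AddSubmonoid Z)

/-- The restriction `f⁻¹ Y → Y`. -/
noncomputable def res : Y.comap f →+ Y := (f.comp (Y.comap f).subtype).codRestrict Y fun x => x.2

/-- `f⁻¹ Y → M × Y`. -/
noncomputable def gr : Y.comap f →+ M × Y := (Y.comap f).subtype.prod (res f Y)

theorem faithfullyFlat_gr (hY : Y ≤ AddMonoidHom.mrange f) :
    (MonoidAlgebra.mapDomainAlgHom Zu.{u} Zu.{u} (AddMonoidHom.toMultiplicative (gr f Y))).toRingHom.FaithfullyFlat := by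
  refine mapDomain_faithfullyFlat_of_bijective Zu.{u} (Q := M ⧸ f.ker) _
    (fun q => Multiplicative.ofAdd ((q.out, 0) : M × Y)) ⟨?_, ?_⟩
  · rintro ⟨q, n⟩ ⟨q', n'⟩ h
    have h1 : q.out + (n.toAdd : M) = q'.out + (n'.toAdd : M) := congrArg (fun z => (Multiplicative.toAdd z).1) h
    have h2 : (0 : Z) + f (n.toAdd : M) = 0 + f (n'.toAdd : M) :=
      congrArg (fun z => ((Multiplicative.toAdd z).2 : Z)) h
    have hq : q = q' := by
      rw [← Quotient.out_eq q, ← Quotient.out_eq q']
      refine Quotient.sound ((QuotientAddGroup.leftRel_apply).2 ?_)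
      rw [zero_add, zero_add] at h2
      show f (-q.out + q'.out) = 0
      have h3 := congrArg f h1
      rw [map_add, map_add, h2] at h3
      rw [map_add, map_neg, add_right_cancel h3, neg_add_cancel]
    subst hq
    exact Prod.ext rfl (Multiplicative.toAdd.injective (Subtype.ext (add_left_cancel h1)))
  · intro z
    obtain ⟨n₀, hn₀⟩ := hY (Multiplicative.toAdd z).2.2
    let m := (Multiplicative.toAdd z).1
    let q : M ⧸ f.ker := QuotientAddGroup.mk (m - n₀)
    have hq : f q.out = f (m - n₀) := by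
      have := (QuotientAddGroup.eq).1 (Quotient.out_eq q : (QuotientAddGroup.mk q.out : M ⧸ f.ker) = QuotientAddGroup.mk (m - n₀))
      rw [AddMonoidHom.mem_ker, map_add, map_neg, neg_add_eq_zero] at this
      exact this
    have hn : f (m - q.out) = (Multiplicative.toAdd z).2 := by
      rw [map_sub, hq, map_sub, sub_sub_cancel]; exact hn₀
    refine ⟨(q, Multiplicative.ofAdd ⟨m - q.out, show f (m - q.out) ∈ Y by rw [hn]; exact (Multiplicative.toAdd z).2.2⟩), ?_⟩
    apply Multiplicative.toAdd.injective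
    exact Prod.ext (add_sub_cancel _ _) (Subtype.ext ((zero_add _).trans hn))

theorem isIso_attrComap {X : Over S} (hY : Y ≤ AddMonoidHom.mrange f) (a : MonAct (AMonS S M) X) :
    IsIso (attrComap a f Y) := by
  let p (T : Over S) := AMonS.map S (gr f Y) ▷ T
  have hp : ∀ T, Epi (p T) := by
    intro T
    obtain ⟨h1, h2, h3⟩ := map_props S (gr f Y) (faithfullyFlat_gr f Y hY) T
    haveI := h1; haveI := h2; haveI := h3
    exact ⟨fun x y h => Over.OverMorphism.ext ((cancel_epi (p T).left).1 (congrArg CommaMorphism.left h))⟩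
  have egr : AMonS.map S (gr f Y) = (AMonS.map S (AddMonoidHom.inl M Y) ≫ AMonS.map S (Y.comap f).subtype) *
      (AMonS.map S (AddMonoidHom.inr M Y) ≫ AMonS.map S (res f Y)) := by
    rw [← AMonS.map_comp, ← AMonS.map_comp, ← MagnetAttr.AMonS_map_add]
    congr 1
    ext <;> simp [gr, res]
  have epl : ∀ {W : Over S} (z : W ⟶ AMonS S (M × Y)), z ≫ AMonS.map S (gr f Y) =
      ((z ≫ AMonS.map S (AddMonoidHom.inl M Y)) ≫ AMonS.map S (Y.comap f).subtype) *
        ((z ≫ AMonS.map S (AddMonoidHom.inr M Y)) ≫ AMonS.map S (res f Y)) := by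
    intro W z
    rw [egr, MonObj.comp_mul, Category.assoc, Category.assoc]
  have hpt : ∀ {T W : Over S} (ψ : AMonS S (Y.comap f) ⊗ T ⟶ X),
      MonAct.IsEquivariant ((subAct S M (Y.comap f)).prod (MonAct.trivial _ T)) a ψ →
      ∀ (z : W ⟶ AMonS S (M × Y)) (t : W ⟶ T), lift (z ≫ AMonS.map S (gr f Y)) t ≫ ψ =
        lift (z ≫ AMonS.map S (AddMonoidHom.inl M Y))
          (lift (z ≫ AMonS.map S (AddMonoidHom.inr M Y)) t ≫ (AMonS.map S (res f Y) ▷ T) ≫ ψ) ≫ a.act := by
    intro T W ψ hψ z t
    rw [lift_whiskerRight_assoc, ← (MonAct.mem_eqvHom_iff ψ).1 hψ]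
    rw [epl]
    simp only [subAct, MonAct.lift_restrict_act, MonAct.lift_regular_act]
  rw [NatTrans.isIso_iff_isIso_app]
  intro T
  induction T using Opposite.rec with | op T => ?_
  rw [isIso_iff_bijective]
  constructor
  · intro ψ₁ ψ₂ h
    haveI := hp T
    refine Subtype.ext ((cancel_epi (p T)).1 (Magnet.hom_ext_lift₂ fun W z t => ?_))
    rw [lift_whiskerRight_assoc, lift_whiskerRight_assoc, hpt _ ψ₁.2, hpt _ ψ₂.2]
    have e : (AMonS.map S (res f Y) ▷ T) ≫ ψ₁.1 = (AMonS.map S (res f Y) ▷ T) ≫ ψ₂.1 := congrArg Subtype.val h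
    rw [e]
  · intro φ
    haveI := hp T
    let o : AMonS S (M × Y) ⊗ T ⟶ X :=
      lift (fst _ _ ≫ AMonS.map S (AddMonoidHom.inl M Y)) ((AMonS.map S (AddMonoidHom.inr M Y) ▷ T) ≫ φ.1) ≫ a.act
    have ho : ∀ {W : Over S} (z : W ⟶ AMonS S (M × Y)) (t : W ⟶ T), lift z t ≫ o =
        lift (z ≫ AMonS.map S (AddMonoidHom.inl M Y)) (lift (z ≫ AMonS.map S (AddMonoidHom.inr M Y)) t ≫ φ.1) ≫ a.act := by
      intro W z t
      simp only [o, comp_lift_assoc, lift_fst_assoc, lift_whiskerRight_assoc]
    have key : ∀ {W : Over S} (z z' : W ⟶ AMonS S (M × Y)) (t : W ⟶ T),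
        z ≫ AMonS.map S (gr f Y) = z' ≫ AMonS.map S (gr f Y) → lift z t ≫ o = lift z' t ≫ o := by
      intro W z z' t hz
      let g : W ⟶ Red.DS S M := z ≫ AMonS.map S (AddMonoidHom.inl M Y)
      let g' : W ⟶ Red.DS S M := z' ≫ AMonS.map S (AddMonoidHom.inl M Y)
      let hh : W ⟶ AMonS S Y := z ≫ AMonS.map S (AddMonoidHom.inr M Y)
      let hh' : W ⟶ AMonS S Y := z' ≫ AMonS.map S (AddMonoidHom.inr M Y)
      let ιK : f.ker.toAddSubmonoid →+ Y.comap f := AddSubmonoid.inclusion (fun m hm => by
        show f m ∈ Y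
        rw [AddMonoidHom.mem_ker.1 hm]; exact zero_mem Y)
      have e0 : (res f Y).comp ιK = 0 := by
        refine AddMonoidHom.ext fun m => Subtype.ext ?_
        exact AddMonoidHom.mem_ker.1 m.2
      have hz' := hz
      rw [epl, epl] at hz'
      have hK : g ≫ AMonS.map S f.ker.toAddSubmonoid.subtype = g' ≫ AMonS.map S f.ker.toAddSubmonoid.subtype := by
        have eK : AMonS.map S (Y.comap f).subtype ≫ AMonS.map S ιK = AMonS.map S f.ker.toAddSubmonoid.subtype := by
          rw [← AMonS.map_comp]; rfl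
        have e0' : AMonS.map S (res f Y) ≫ AMonS.map S ιK = toUnit _ ≫ η[AMonS S f.ker.toAddSubmonoid] := by
          rw [← AMonS.map_comp, e0, AMonS_map_zero]
        have h := congrArg (fun w => w ≫ AMonS.map S ιK) hz'
        change ((g ≫ AMonS.map S (Y.comap f).subtype) * (hh ≫ AMonS.map S (res f Y))) ≫ AMonS.map S ιK =
          ((g' ≫ AMonS.map S (Y.comap f).subtype) * (hh' ≫ AMonS.map S (res f Y))) ≫ AMonS.map S ιK at h
        rw [MonObj.mul_comp, MonObj.mul_comp, Category.assoc g, Category.assoc g', Category.assoc hh, Category.assoc hh',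
          eK, e0', comp_toUnit_assoc, comp_toUnit_assoc, ← Hom.one_def, _root_.mul_one, _root_.mul_one] at h
        exact h
      obtain ⟨w, hw⟩ := MagnetSub.exists_quot f.ker g g' hK
      let eq := QuotientAddGroup.quotientKerEquivRange f
      let e : W ⟶ AMonS S f.range := w ≫ AMonS.map S eq.symm.toAddMonoidHom
      let ιY : Y →+ f.range := AddMonoidHom.codRestrict Y.subtype f.range (fun y => hY y.2)
      have he : w ≫ AMonS.map S (QuotientAddGroup.mk' f.ker) = e ≫ AMonS.map S f.rangeRestrict := by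
        rw [Category.assoc, ← AMonS.map_comp]
        congr 2
        refine AddMonoidHom.ext fun m => ?_
        exact (eq.symm_apply_eq.2 rfl).symm
      rw [he] at hw
      have hres : f.rangeRestrict.comp (Y.comap f).subtype = ιY.comp (res f Y) := rfl
      have hh2 : hh = (e ≫ AMonS.map S ιY) * hh' := by
        haveI := mono_map S (res f Y) (fun y => by
          obtain ⟨m, hm⟩ := hY y.2
          exact ⟨⟨m, show f m ∈ Y by rw [hm]; exact y.2⟩, Subtype.ext hm⟩)
        rw [← cancel_mono (AMonS.map S (res f Y))]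
        have h : (g ≫ AMonS.map S (Y.comap f).subtype) * (hh ≫ AMonS.map S (res f Y)) =
            (g' ≫ AMonS.map S (Y.comap f).subtype) * (hh' ≫ AMonS.map S (res f Y)) := hz'
        rw [hw, MonObj.mul_comp, _root_.mul_assoc, Category.assoc e, ← AMonS.map_comp, hres, AMonS.map_comp, ← Category.assoc e,
          ← MonObj.mul_comp] at h
        have hinv : (g⁻¹ ≫ AMonS.map S (Y.comap f).subtype) * (g ≫ AMonS.map S (Y.comap f).subtype) =
            toUnit _ ≫ η[AMonS S (Y.comap f)] := by
          rw [← MonObj.mul_comp, ← Hom.one_def]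
          exact (congrArg (fun x => x ≫ AMonS.map S (Y.comap f).subtype) (_root_.inv_mul_cancel g)).trans (MonObj.one_comp _)
        have h' := congrArg (fun x => (g⁻¹ ≫ AMonS.map S (Y.comap f).subtype) * x) h
        simp only [← _root_.mul_assoc, hinv] at h'
        rw [← Hom.one_def, _root_.one_mul, _root_.one_mul] at h'
        exact h'
      haveI : Epi (AMonS.map S f.range.subtype ▷ W) := MagnetSub.epi_map S f.range W
      have hφ : lift hh t ≫ φ.1 = lift (e ≫ AMonS.map S f.rangeRestrict) (lift hh' t ≫ φ.1) ≫ a.act := by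
        let P := AMonS S f.range ⊗ W
        have huniv : lift ((fst (AMonS S f.range) W ≫ AMonS.map S ιY) * (snd _ W ≫ hh')) (snd _ W ≫ t) ≫ φ.1 =
            lift (fst (AMonS S f.range) W ≫ AMonS.map S f.rangeRestrict) (snd _ W ≫ (lift hh' t ≫ φ.1)) ≫ a.act := by
          rw [← cancel_epi (AMonS.map S f.range.subtype ▷ W)]
          refine Magnet.hom_ext_lift₂ fun W' c s => ?_
          have h1 := (MonAct.mem_eqvHom_iff φ.1).1 φ.2 W' c (s ≫ hh') (s ≫ t)
          simp only [subAct, MonAct.lift_restrict_act, MonAct.lift_regular_act, ← comp_lift_assoc] at h1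
          simp only [lift_whiskerRight_assoc, comp_lift_assoc, lift_fst_assoc, lift_snd_assoc, MonObj.comp_mul, Category.assoc,
            ← AMonS.map_comp, show f.range.subtype.comp ιY = Y.subtype from rfl,
            show f.range.subtype.comp f.rangeRestrict = f from rfl]
          simpa [comp_lift_assoc] using h1
        have := congrArg (fun x => lift e (𝟙 W) ≫ x) huniv
        simp only [comp_lift_assoc, lift_fst_assoc, lift_snd_assoc, MonObj.comp_mul, Category.id_comp] at this
        rw [hh2]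
        exact this
      rw [ho, ho]
      show lift g (lift hh t ≫ φ.1) ≫ a.act = lift g' (lift hh' t ≫ φ.1) ≫ a.act
      rw [hφ, ← MonAct.lift_mul_act]
      exact congrArg (fun x => lift x (lift hh' t ≫ φ.1) ≫ a.act) hw.symm
    obtain ⟨h1, h2, h3⟩ := map_props S (gr f Y) (faithfullyFlat_gr f Y hY) T
    haveI := h1; haveI := h2; haveI := h3
    have hker : ∀ {W : Scheme.{u}} (g₁ g₂ : W ⟶ (AMonS S (M × Y) ⊗ T).left),
        g₁ ≫ (p T).left = g₂ ≫ (p T).left → g₁ ≫ o.left = g₂ ≫ o.left := by
      intro W g₁ g₂ hg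
      let W' : Over S := Over.mk (g₁ ≫ (AMonS S (M × Y) ⊗ T).hom)
      let z : W' ⟶ AMonS S (M × Y) ⊗ T := Over.homMk g₁ rfl
      let z' : W' ⟶ AMonS S (M × Y) ⊗ T := Over.homMk g₂ (by
        show g₂ ≫ _ = g₁ ≫ _
        rw [← Over.w (p T), ← Category.assoc, ← hg, Category.assoc])
      have hz : z ≫ p T = z' ≫ p T := Over.OverMorphism.ext hg
      have ht : z ≫ snd _ _ = z' ≫ snd _ _ := by simpa [p] using congrArg (fun w => w ≫ snd _ _) hz
      have hM : (z ≫ fst _ _) ≫ AMonS.map S (gr f Y) = (z' ≫ fst _ _) ≫ AMonS.map S (gr f Y) := by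
        simpa [p] using congrArg (fun w => w ≫ fst _ _) hz
      have k := key (z ≫ fst _ _) (z' ≫ fst _ _) (z ≫ snd _ _) hM
      rw [lift_comp_fst_snd, ht, lift_comp_fst_snd] at k
      exact congrArg CommaMorphism.left k
    let ψ₀ := EffectiveEpi.desc (p T).left o.left hker
    have hψ₀ : (p T).left ≫ ψ₀ = o.left := EffectiveEpi.fac (p T).left o.left hker
    let ψ : AMonS S (Y.comap f) ⊗ T ⟶ X := Over.homMk ψ₀ (by
      rw [← cancel_epi (p T).left, reassoc_of% hψ₀, Over.w o]
      exact (Over.w (p T)).symm)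
    have hψ : p T ≫ ψ = o := Over.OverMorphism.ext hψ₀
    have hψ' : ∀ {W : Over S} (z : W ⟶ AMonS S (M × Y)) (t : W ⟶ T),
        lift (z ≫ AMonS.map S (gr f Y)) t ≫ ψ = lift z t ≫ o := by
      intro W z t
      rw [← lift_whiskerRight_assoc]
      exact congrArg (fun x => lift z t ≫ x) hψ
    have pinl : ∀ {W : Over S} (m : W ⟶ AMonS S M),
        (m ≫ AMonS.map S (AddMonoidHom.fst M Y)) ≫ AMonS.map S (AddMonoidHom.inl M Y) = m ∧
        (m ≫ AMonS.map S (AddMonoidHom.fst M Y)) ≫ AMonS.map S (AddMonoidHom.inr M Y) = toUnit _ ≫ η[AMonS S Y] := by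
      intro W m
      constructor
      · rw [Category.assoc, ← AMonS.map_comp, show (AddMonoidHom.fst M Y).comp (AddMonoidHom.inl M Y) = AddMonoidHom.id M from rfl,
          AMonS_map_id, Category.comp_id]
      · rw [Category.assoc, ← AMonS.map_comp, show (AddMonoidHom.fst M Y).comp (AddMonoidHom.inr M Y) = 0 from rfl,
          AMonS_map_zero, comp_toUnit_assoc]
    have heq : MonAct.IsEquivariant ((subAct S M (Y.comap f)).prod (MonAct.trivial _ T)) a ψ := by
      rw [MonAct.mem_eqvHom_iff]
      intro T' gm b s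
      have huniv : lift (lift (snd (AMonS S (Y.comap f)) (AMonS S M ⊗ T) ≫ fst _ _) (fst _ _) ≫ (subAct S M (Y.comap f)).act)
          (snd (AMonS S (Y.comap f)) (AMonS S M ⊗ T) ≫ snd _ _) ≫ ψ =
          lift (snd (AMonS S (Y.comap f)) (AMonS S M ⊗ T) ≫ fst _ _) (lift (fst _ _) (snd (AMonS S (Y.comap f)) (AMonS S M ⊗ T) ≫ snd _ _) ≫ ψ) ≫ a.act := by
        haveI := hp (AMonS S M ⊗ T)
        rw [← cancel_epi (p (AMonS S M ⊗ T))]
        refine Magnet.hom_ext_lift₂ fun T'' z w => ?_
        simp only [p, lift_whiskerRight_assoc, comp_lift_assoc, lift_fst, lift_snd, lift_snd_assoc, Category.assoc,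
          subAct, MonAct.lift_restrict_act, MonAct.lift_regular_act, MonObj.comp_mul]
        obtain ⟨q1, q2⟩ := pinl (w ≫ fst _ _)
        have hzz : ((w ≫ fst _ _) ≫ AMonS.map S (Y.comap f).subtype) * (z ≫ AMonS.map S (gr f Y)) =
            (((w ≫ fst _ _) ≫ AMonS.map S (AddMonoidHom.fst M Y)) * z) ≫ AMonS.map S (gr f Y) := by
          rw [epl, epl]
          simp only [MonObj.mul_comp, q1, q2]
          rw [← Hom.one_def, MonObj.one_comp, _root_.one_mul, _root_.mul_assoc]
        rw [← Category.assoc w (fst _ _) (AMonS.map S (Y.comap f).subtype), hzz, hψ', hψ', ho, ho]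
        simp only [MonObj.mul_comp, q1, q2]
        rw [← Hom.one_def, _root_.one_mul, MonAct.lift_mul_act]
      have := congrArg (fun t => lift b (lift gm s) ≫ t) huniv
      simpa [comp_lift_assoc, comp_lift] using this
    refine ⟨⟨ψ, heq⟩, Subtype.ext (Magnet.hom_ext_lift₂ fun W h t => ?_)⟩
    rw [attrComap_app_coe, lift_whiskerRight_assoc]
    let z : W ⟶ AMonS S (M × Y) := h ≫ AMonS.map S (AddMonoidHom.snd M Y)
    have z1 : z ≫ AMonS.map S (AddMonoidHom.inl M Y) = toUnit _ ≫ η[AMonS S M] := by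
      rw [Category.assoc, ← AMonS.map_comp, show (AddMonoidHom.snd M Y).comp (AddMonoidHom.inl M Y) = 0 from rfl,
        AMonS_map_zero, comp_toUnit_assoc]
    have z2 : z ≫ AMonS.map S (AddMonoidHom.inr M Y) = h := by
      rw [Category.assoc, ← AMonS.map_comp, show (AddMonoidHom.snd M Y).comp (AddMonoidHom.inr M Y) = AddMonoidHom.id Y from rfl,
        AMonS_map_id, Category.comp_id]
    have e : h ≫ AMonS.map S ((f.comp (Y.comap f).subtype).codRestrict Y (fun x => x.2)) = z ≫ AMonS.map S (gr f Y) := by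
      rw [epl, z1, z2, ← Hom.one_def, MonObj.one_comp, _root_.one_mul]
      rfl
    rw [e, hψ', ho, z1, z2, ← Hom.one_def, MonAct.lift_one_act]

end Groth.Agent.MagnetCoset
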