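import Groth.Agent.MagnetPts
import Groth.Agent.RootCh.Farkas
import Mathlib

/-!
# The contraction of an attractor onto the attractor of a face
-/

set_option autoImplicit false
set_option backward.isDefEq.respectTransparency false
set_option linter.style.haveILetI false
set_option linter.unusedSimpArgs false

universe u

namespace Groth.Agent.MagnetHomotopy

open scoped BigOperators

variable {M : Type} [AddCommGroup M]

/-- A map to a rational vector space killing only torsion. -/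
theorem exists_ratEmb [AddGroup.FG M] : ∃ (V : Type) (_ : AddCommGroup V) (_ : Module ℚ V) (ι : M →+ V),
    ∀ x, ι x = 0 → ∃ k : ℕ, 0 < k ∧ k • x = 0 := by
  haveI : Module.Finite ℤ M := Module.Finite.iff_addGroup_fg.2 ‹_›
  let t := Submodule.torsion ℤ M
  haveI : Module.Free ℤ (M ⧸ t) := Module.free_of_finite_type_torsion_free'
  let b := Module.Free.chooseBasis ℤ (M ⧸ t)
  let I := Module.Free.ChooseBasisIndex ℤ (M ⧸ t)
  refine ⟨I → ℚ, inferInstance, inferInstance,
    { toFun := fun x i => ((b.repr (t.mkQ x) i : ℤ) : ℚ)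
      map_zero' := by funext i; simp
      map_add' := fun x y => by funext i; simp }, fun x hx => ?_⟩
  have h0 : t.mkQ x = 0 := b.repr.map_eq_zero_iff.1 (Finsupp.ext fun i => Int.cast_eq_zero.1 (congrFun hx i))
  obtain ⟨⟨a, ha⟩, hax⟩ := (Submodule.mem_torsion_iff x).1 ((Submodule.Quotient.mk_eq_zero t).1 h0)
  have ha0 : a ≠ 0 := nonZeroDivisors.ne_zero ha
  refine ⟨a.natAbs, Int.natAbs_pos.2 ha0, ?_⟩
  have hax' : a • x = 0 := hax
  rcases Int.natAbs_eq a with e | e
  · rw [e, natCast_zsmul] at hax'; exact hax'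
  · rw [e, neg_zsmul, natCast_zsmul, neg_eq_zero] at hax'; exact hax'

theorem exists_isInt {ι : Type*} [Finite ι] (l : ι → ℚ) : ∃ D : ℕ, 0 < D ∧ ∀ i, ∃ z : ℤ, (D : ℚ) * l i = z := by
  haveI := Fintype.ofFinite ι
  refine ⟨∏ i, (l i).den, Finset.prod_pos fun i _ => (l i).den_pos, fun i => ?_⟩
  obtain ⟨c, hc⟩ := Finset.dvd_prod_of_mem (fun j => (l j).den) (Finset.mem_univ i)
  refine ⟨(c : ℤ) * (l i).num, ?_⟩
  rw [show (∏ j, (l j).den) = (l i).den * c from hc]
  push_cast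
  rw [mul_comm ((l i).den : ℚ), mul_assoc, Rat.den_mul_eq_num]

/-- A face is cut out by a natural-number valued functional. -/
theorem exists_functional [AddGroup.FG M] {N F : AddSubmonoid M} (hN : N.FG) (hle : F ≤ N)
    (hface : ∀ x ∈ N, ∀ y ∈ N, x + y ∈ F → x ∈ F ∧ y ∈ F) :
    ∃ lam : N →+ ℕ, ∀ n : N, lam n = 0 ↔ (n : M) ∈ F := by
  classical
  obtain ⟨s, hs⟩ := hN
  have hmem : ∀ g ∈ s, g ∈ N := fun g hg => hs ▸ AddSubmonoid.subset_closure hg
  obtain ⟨V, iA, iM, ι, hι⟩ := exists_ratEmb (M := M)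
  let fs := s.filter fun g => g ∈ F
  let lst : List V := (s.toList.map fun g => ι g) ++ (fs.toList.map fun g => -ι g)
  have hone : ∀ g ∈ s, g ∉ F → ∃ f : Module.Dual ℚ V, (∀ h ∈ s, 0 ≤ f (ι h)) ∧ (∀ h ∈ s, h ∈ F → f (ι h) = 0) ∧ 0 < f (ι g) := by
    intro g hg hgF
    rcases RootCh.farkas (R := ℚ) (V := V) lst.length (fun i => lst.get i) (-ι g) with ⟨l, hl, hsum⟩ | ⟨f, hf, hfc⟩
    · exfalso
      obtain ⟨D, hD, hDz⟩ := exists_isInt l
      choose z hz using hDz
      have hz0 : ∀ i, 0 ≤ z i := fun i => by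
        have : (0 : ℚ) ≤ (z i : ℚ) := hz i ▸ mul_nonneg (Nat.cast_nonneg D) (hl i)
        exact_mod_cast this
      have hsplit : ∀ i, ∃ p ∈ N, ∃ q ∈ F, lst.get i = ι p - ι q := by
        intro i
        have hi : lst.get i ∈ lst := List.get_mem lst i
        rcases List.mem_append.1 hi with h | h <;> obtain ⟨x, hx, hxi⟩ := List.mem_map.1 h
        · exact ⟨x, hmem x (Finset.mem_toList.1 hx), 0, zero_mem F, by rw [map_zero, sub_zero, hxi]⟩
        · exact ⟨0, zero_mem N, x, (Finset.mem_filter.1 (Finset.mem_toList.1 hx)).2, by rw [map_zero, zero_sub, hxi]⟩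
      choose p hp q hq hpq using hsplit
      let P := ∑ i, (z i).toNat • p i
      let Q := ∑ i, (z i).toNat • q i
      have hPN : P ∈ N := sum_mem fun i _ => nsmul_mem (hp i) _
      have hQF : Q ∈ F := sum_mem fun i _ => nsmul_mem (hq i) _
      have h0 : ι (D • g + P - Q) = 0 := by
        have e : ∀ i, ((D : ℚ) * l i) • lst.get i = (z i).toNat • ι (p i) - (z i).toNat • ι (q i) := by
          intro i
          rw [hz i, hpq i, ← smul_sub, ← Nat.cast_smul_eq_nsmul ℚ]
          congr 1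
          rw [← Int.cast_natCast, Int.toNat_of_nonneg (hz0 i)]
        have e2 : ι P - ι Q = (D : ℚ) • (-ι g) := by
          rw [← hsum, Finset.smul_sum, map_sum, map_sum, ← Finset.sum_sub_distrib]
          refine Finset.sum_congr rfl fun i _ => ?_
          rw [smul_smul, e, map_nsmul, map_nsmul]
        rw [add_sub_assoc, map_add, map_sub, e2, map_nsmul, smul_neg, Nat.cast_smul_eq_nsmul, add_neg_cancel]
      obtain ⟨k, hk, hk0⟩ := hι _ h0
      have heq : (k * D) • g + k • P = k • Q := by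
        rw [← sub_eq_zero, mul_nsmul', ← nsmul_add, ← nsmul_sub]; exact hk0
      have h1 : (k * D) • g ∈ F := (hface _ (nsmul_mem (hmem g hg) _) _ (nsmul_mem hPN _) (by rw [heq]; exact nsmul_mem hQF _)).1
      obtain ⟨m, hm⟩ := Nat.exists_eq_succ_of_ne_zero (Nat.mul_pos hk hD).ne'
      rw [hm, succ_nsmul] at h1
      exact hgF (hface _ (nsmul_mem (hmem g hg) _) _ (hmem g hg) h1).2
    · have hpos : ∀ h ∈ s, 0 ≤ f (ι h) := by
        intro h hh
        obtain ⟨i, hi⟩ := List.get_of_mem (show ι h ∈ lst from List.mem_append_left _ (List.mem_map.2 ⟨h, Finset.mem_toList.2 hh, rfl⟩))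
        exact hi ▸ hf i
      refine ⟨f, hpos, fun h hh hF => ?_, ?_⟩
      · obtain ⟨i, hi⟩ := List.get_of_mem (show -ι h ∈ lst from List.mem_append_right _
          (List.mem_map.2 ⟨h, Finset.mem_toList.2 (Finset.mem_filter.2 ⟨hh, hF⟩), rfl⟩))
        have h2 : 0 ≤ f (-ι h) := hi ▸ hf i
        rw [map_neg] at h2
        exact le_antisymm (neg_nonneg.1 h2) (hpos h hh)
      · rw [map_neg] at hfc; exact neg_lt_zero.1 hfc
  let f : M → Module.Dual ℚ V := fun g => if h : g ∈ s ∧ g ∉ F then (hone g h.1 h.2).choose else 0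
  have hf : ∀ g, (∀ h ∈ s, 0 ≤ f g (ι h)) ∧ (∀ h ∈ s, h ∈ F → f g (ι h) = 0) ∧ (g ∈ s → g ∉ F → 0 < f g (ι g)) := by
    intro g
    by_cases h : g ∈ s ∧ g ∉ F
    · simp only [f, dif_pos h]
      exact ⟨(hone g h.1 h.2).choose_spec.1, (hone g h.1 h.2).choose_spec.2.1, fun _ _ => (hone g h.1 h.2).choose_spec.2.2⟩
    · simp only [f, dif_neg h]
      exact ⟨fun _ _ => le_rfl, fun _ _ _ => rfl, fun h1 h2 => absurd ⟨h1, h2⟩ h⟩
  let tot : Module.Dual ℚ V := ∑ g ∈ s, f g
  have htot : ∀ h ∈ s, 0 ≤ tot (ι h) ∧ (tot (ι h) = 0 ↔ h ∈ F) := by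
    intro h hh
    have e : tot (ι h) = ∑ g ∈ s, f g (ι h) := by simp [tot]
    rw [e]
    refine ⟨Finset.sum_nonneg fun g _ => (hf g).1 h hh, fun h0 => ?_, fun hF => Finset.sum_eq_zero fun g _ => (hf g).2.1 h hh hF⟩
    by_contra hF
    exact absurd ((Finset.sum_eq_zero_iff_of_nonneg fun g _ => (hf g).1 h hh).1 h0 h hh) ((hf h).2.2 hh hF).ne'
  obtain ⟨D, hD, hDz⟩ := exists_isInt fun g : s => tot (ι g.1)
  choose z hz using hDz
  let A : AddSubmonoid M :=
    { carrier := {x | ∃ m : ℕ, (D : ℚ) * tot (ι x) = m ∧ (x ∈ N) ∧ (m = 0 ↔ x ∈ F)}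
      zero_mem' := ⟨0, by simp, zero_mem N, by simp⟩
      add_mem' := by
        rintro x y ⟨m, hm, hxN, hmF⟩ ⟨m', hm', hyN, hmF'⟩
        refine ⟨m + m', by rw [map_add, map_add, mul_add, hm, hm', Nat.cast_add], add_mem hxN hyN, ?_⟩
        rw [Nat.add_eq_zero_iff, hmF, hmF']
        exact ⟨fun h => add_mem h.1 h.2, fun h => hface x hxN y hyN h⟩ }
  have hNA : N ≤ A := by
    rw [← hs, AddSubmonoid.closure_le]
    intro g hg
    have hz0 : 0 ≤ z ⟨g, hg⟩ := by
      have : (0 : ℚ) ≤ (z ⟨g, hg⟩ : ℚ) := hz ⟨g, hg⟩ ▸ mul_nonneg (Nat.cast_nonneg D) (htot g hg).1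
      exact_mod_cast this
    have he : (D : ℚ) * tot (ι g) = ((z ⟨g, hg⟩).toNat : ℕ) := by
      rw [hz ⟨g, hg⟩, ← Int.cast_natCast, Int.toNat_of_nonneg hz0]
    refine ⟨_, he, hmem g hg, ?_⟩
    rw [← (htot g hg).2, ← Nat.cast_eq_zero (R := ℚ), ← he, mul_eq_zero]
    simp [hD.ne']
  choose lam hlam using fun n : N => hNA n.2
  refine ⟨{ toFun := lam, map_zero' := (hlam 0).2.2.2 (zero_mem F), map_add' := fun a b => ?_ }, fun n => (hlam n).2.2⟩
  have := (hlam (a + b)).1
  rw [AddSubmonoid.coe_add, map_add, map_add, mul_add, (hlam a).1, (hlam b).1, ← Nat.cast_add] at this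
  exact (Nat.cast_inj.1 this).symm

end Groth.Agent.MagnetHomotopy

namespace Groth.Agent.MagnetHomotopy

open CategoryTheory CategoryTheory.Limits MonoidalCategory CartesianMonoidalCategory MonObj AlgebraicGeometry Opposite
open Magnet Groth.Agent.MagnetPts

/-- The contraction. -/
theorem exists_homotopy {S : Scheme.{u}} {M : Type} [AddCommGroup M] [AddGroup.FG M] {X : Over S}
    (a : MonAct (AMonS S M) X) {N F : AddSubmonoid M} (hN : N.FG) (hF : IsFace N F) :
    ∃ δ : ∀ T : Over S, (attr a N).obj (op T) → Γ(T.left, ⊤) → (attr a N).obj (op T),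
      (∀ (T T' : Over S) (t : T' ⟶ T) (x : (attr a N).obj (op T)) (c : Γ(T.left, ⊤)),
        δ T' ((attr a N).map t.op x) (t.left.appTop c) = (attr a N).map t.op (δ T x c)) ∧
      (∀ (T : Over S) (x : (attr a N).obj (op T)),
        δ T x 0 = (attrMap a hF.le).app (op T) ((attrFace a hF).app (op T) x)) ∧
      (∀ (T : Over S) (x : (attr a N).obj (op T)), δ T x 1 = x) ∧
      (∀ (T : Over S) (y : (attr a F).obj (op T)) (c : Γ(T.left, ⊤)),
        δ T ((attrMap a hF.le).app (op T) y) c = (attrMap a hF.le).app (op T) y) := by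
  obtain ⟨lam, hlam⟩ := exists_functional hN hF.le hF.mem_of_add_mem
  have hpt : ∀ (T : Over S) (c : Γ(T.left, ⊤)), ∃ k : T ⟶ AMonS S N, ∀ n, co k n = c ^ lam n.toAdd :=
    fun T c => exists_co
      { toFun := fun n => c ^ lam n.toAdd
        map_one' := by simp
        map_mul' := fun m n => by simp [pow_add] }
  choose k hk using hpt
  have hco : ∀ {T W : Over S} (c : Γ(T.left, ⊤)) (b : W ⟶ AMonS S N) (t : W ⟶ T) (n : Multiplicative N),
      co (b * (t ≫ k T c)) n = co b n * (t.left.appTop c) ^ lam n.toAdd := by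
    intro T W c b t n
    rw [co_mul, co_comp, hk, map_pow]
  let e (T : Over S) (c : Γ(T.left, ⊤)) : AMonS S N ⊗ T ⟶ AMonS S N ⊗ T :=
    lift (fst _ _ * (snd _ _ ≫ k T c)) (snd _ _)
  have he : ∀ {T W : Over S} (c : Γ(T.left, ⊤)) (b : W ⟶ AMonS S N) (t : W ⟶ T),
      lift b t ≫ e T c = lift (b * (t ≫ k T c)) t := by
    intro T W c b t
    simp only [e, comp_lift, MonObj.comp_mul, lift_fst, lift_snd, lift_snd_assoc]
  refine ⟨fun T x c => ⟨e T c ≫ x.1, ?_⟩, ?_, ?_, ?_, ?_⟩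
  · have hx := x.2
    rw [MonAct.mem_eqvHom_iff] at hx ⊢
    intro T' g b t
    rw [← Category.assoc, ← Category.assoc (lift b t), he, he, ← hx]
    congr 2
    simp only [subAct, MonAct.lift_restrict_act, MonAct.lift_regular_act, _root_.mul_assoc]
  · intro T T' t x c
    refine Subtype.ext (Magnet.hom_ext_lift₂ fun W b s => ?_)
    show lift b s ≫ e T' (t.left.appTop c) ≫ (AMonS S N ◁ t) ≫ x.1 = lift b s ≫ (AMonS S N ◁ t) ≫ e T c ≫ x.1
    rw [reassoc_of% (he (t.left.appTop c) b s), lift_whiskerLeft_assoc, lift_whiskerLeft_assoc, reassoc_of% (he c b (s ≫ t))]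
    congr 2
    refine co_ext fun n => ?_
    rw [← Category.assoc, hco, hco, Over.comp_left, Scheme.Hom.comp_appTop]
    rfl
  · intro T x
    refine Subtype.ext (Magnet.hom_ext_lift₂ fun W b s => ?_)
    show lift b s ≫ e T 0 ≫ x.1 = lift b s ≫ (AMonS.map S (AddSubmonoid.inclusion hF.le) ▷ T) ≫ (AMonS.faceMap S hF ▷ T) ≫ x.1
    rw [reassoc_of% (he (0 : Γ(T.left, ⊤)) b s), lift_whiskerRight_assoc, lift_whiskerRight_assoc]
    congr 2
    refine co_ext fun m => ?_
    obtain ⟨n, rfl⟩ : ∃ n, Multiplicative.ofAdd n = m := ⟨m.toAdd, rfl⟩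
    rw [hco, map_zero]
    by_cases hn : (n : M) ∈ F
    · rw [co_faceMap_of_mem hF _ n hn, co_map, show lam (Multiplicative.toAdd (Multiplicative.ofAdd n)) = 0 from (hlam n).2 hn,
        pow_zero, _root_.mul_one]
      rfl
    · rw [co_faceMap_of_notMem hF _ n hn, zero_pow (fun h : lam (Multiplicative.toAdd (Multiplicative.ofAdd n)) = 0 => hn ((hlam n).1 h)), mul_zero]
  · intro T x
    refine Subtype.ext (Magnet.hom_ext_lift₂ fun W b s => ?_)
    show lift b s ≫ e T 1 ≫ x.1 = lift b s ≫ x.1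
    rw [reassoc_of% (he (1 : Γ(T.left, ⊤)) b s)]
    congr 2
    refine co_ext fun n => ?_
    rw [hco, map_one, one_pow, _root_.mul_one]
  · intro T y c
    refine Subtype.ext (Magnet.hom_ext_lift₂ fun W b s => ?_)
    show lift b s ≫ e T c ≫ (AMonS.map S (AddSubmonoid.inclusion hF.le) ▷ T) ≫ y.1 =
      lift b s ≫ (AMonS.map S (AddSubmonoid.inclusion hF.le) ▷ T) ≫ y.1
    rw [reassoc_of% (he c b s), lift_whiskerRight_assoc, lift_whiskerRight_assoc]
    congr 2
    refine co_ext fun n => ?_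
    rw [co_map, co_map, hco, show lam (Multiplicative.toAdd (Multiplicative.ofAdd (AddSubmonoid.inclusion hF.le n.toAdd))) = 0 from
      (hlam _).2 n.toAdd.2, pow_zero, _root_.mul_one]

end Groth.Agent.MagnetHomotopy
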