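import Groth.Statements.S18290
import Groth.Agent.MagnetAttr.Directed

set_option autoImplicit false
universe u
open CategoryTheory MonoidalCategory CartesianMonoidalCategory MonObj AlgebraicGeometry Opposite
open Magnet

namespace Groth.Agent.S18290

/-- Let X be an S-scheme locally of finite presentation and separated over S with an action of the
diagonalizable monoid scheme A(M)_S of a commutative monoid M, and let N be the union of a nonempty
directed family of submonoids N_i of M. Then for every S-scheme T whose underlying scheme is affine,
every element of X^N(T) comes from X^{N_i}(T) for some i, so that X^N(T) is the directed union of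
the X^{N_i}(T) (the maps X^{N_i}(T) → X^N(T) are injective since X is separated). (The published
statement takes T an arbitrary S-scheme and X an algebraic space; for T an infinite disjoint union
of points and X an infinite disjoint union of affine lines, the n-th with coordinate of degree the
n-th basis vector of a free commutative monoid M, the element of X^N(T) that is the n-th coordinate
inclusion on the n-th point comes from no single X^{N_i}(T) when N_i is generated by the first i
basis vectors, so T is taken affine here, the case the limit argument proves.) -/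
theorem result (S : Scheme.{u}) (M : Type) [AddCommMonoid M]
    (X : Over S) [IsSeparated X.hom] [LocallyOfFinitePresentation X.hom]
    (a : Magnet.MonAct (Magnet.AMonS S M) X) {J : Type} [Preorder J] [IsDirected J (· ≤ ·)] [Nonempty J]
    (N : J → AddSubmonoid M) (hN : Monotone N) (T : Over S) [IsAffine T.left]
    (φ : (Magnet.attr a (⨆ i, N i)).obj (op T)) :
    ∃ (i : J) (ψ : (Magnet.attr a (N i)).obj (op T)), (Magnet.attrMap a (le_iSup N i)).app (op T) ψ = φ := by
  haveI : IsDirectedOrder (ULift.{u} J) := ⟨fun i j => by
    obtain ⟨k, hi, hj⟩ := exists_ge_ge i.down j.down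
    exact ⟨ULift.up k, hi, hj⟩⟩
  have hN' : Monotone (fun i : ULift.{u} J => N i.down) := fun _ _ h => hN h
  have e : (⨆ i, N i) = ⨆ i : ULift.{u} J, N i.down :=
    (Equiv.ulift.{u, 0}.surjective.iSup_comp N).symm
  have key : ∀ (P : AddSubmonoid M), P = (⨆ i : ULift.{u} J, N i.down) → ∀ (φ : (Magnet.attr a P).obj (op T)),
      ∃ (i : J) (h : N i ≤ P) (ψ : (Magnet.attr a (N i)).obj (op T)), (Magnet.attrMap a h).app (op T) ψ = φ := by
    rintro P rfl φ
    obtain ⟨i, ψ, h⟩ := MagnetAttr.exists_attrMap_eq (fun i : ULift.{u} J => N i.down) hN' a T φ
    exact ⟨i.down, _, ψ, h⟩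
  obtain ⟨i, h, ψ, hψ⟩ := key _ e φ
  exact ⟨i, ψ, hψ⟩

end Groth.Agent.S18290
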