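import Groth.Statements.S5075
import Mathlib
import Groth.Agent.EtaleSections.BaseChange
-- import your own Groth.Agent.* helpers here

set_option autoImplicit false
open CategoryTheory AlgebraicGeometry
universe u
open Unram

namespace Groth.Agent.S5075

/-- Let p : X ⟶ S be étale, g : S' ⟶ S a morphism and i : S'₀ ⟶ S' a surjective closed immersion (a
closed subscheme with the same underlying space). Then for every f₀ : S'₀ ⟶ X over S there is
exactly one f : S' ⟶ X over S with i ≫ f = f₀. -/
theorem result {X S S' S'₀ : Scheme.{u}} (p : X ⟶ S) [Etale p]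
    (g : S' ⟶ S) (i : S'₀ ⟶ S') [IsClosedImmersion i] [Surjective i]
    (f₀ : S'₀ ⟶ X) (h₀ : f₀ ≫ p = i ≫ g) :
    ∃! f : S' ⟶ X, f ≫ p = g ∧ i ≫ f = f₀ := by
  open CategoryTheory.Limits in
    let P : Over S' := Over.mk (pullback.snd p g)
    let T : Over S' := Over.mk (𝟙 _)
    have : Etale P.hom := inferInstanceAs (Etale (pullback.snd p g))
    let s₀ : (Over.pullback i).obj T ⟶ (Over.pullback i).obj P :=
      Over.homMk (pullback.lift (pullback.lift (pullback.snd _ _ ≫ f₀) (pullback.fst _ _)
        (by
          rw [Category.assoc, h₀, ← pullback.condition_assoc]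
          simp [T]))
        (pullback.snd _ _) (by
          simp only [P, Over.mk_hom, pullback.lift_snd]
          exact (Category.comp_id _).symm.trans pullback.condition)) (pullback.lift_snd _ _ _)
    obtain ⟨φ, hφ⟩ := (Groth.Agent.EtaleSections.surjective_pullback_map i P T) s₀
    let ι₀ : S'₀ ⟶ pullback T.hom i := pullback.lift i (𝟙 _) (by simp [T])
    have hφ' := congrArg (fun k => ι₀ ≫ k.left ≫ pullback.fst P.hom i ≫ pullback.fst p g) hφ
    have h1 : i ≫ φ.left ≫ pullback.fst p g = f₀ := by
      simp only [s₀, ι₀, Over.pullback_map_left, Over.homMk_left, pullback.lift_fst, pullback.lift_fst_assoc,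
        pullback.lift_snd_assoc, Category.assoc, Category.id_comp] at hφ'
      simpa using hφ'
    have h2 : (φ.left ≫ pullback.fst p g) ≫ p = g := by
      rw [Category.assoc, pullback.condition, ← Category.assoc, show φ.left ≫ pullback.snd p g = 𝟙 _ from Over.w φ,
        Category.id_comp]
    exact ⟨φ.left ≫ pullback.fst p g, ⟨h2, h1⟩, fun l hl =>
      Groth.Agent.EtaleSections.eq_of_surjective p l _ i (hl.2.trans h1.symm) (hl.1.trans h2.symm)⟩

end Groth.Agent.S5075
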