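import Groth.Agent.Pinch.Spec
import Groth.Agent.Pinch.BaseChange
import Groth.Prelude.Def_Magnet4

/-!
# The pushout square of a face of a magnet
-/

set_option autoImplicit false
set_option backward.isDefEq.respectTransparency false
set_option linter.style.haveILetI false
set_option linter.unusedSimpArgs false

universe u

open CategoryTheory CategoryTheory.Limits MonoidalCategory CartesianMonoidalCategory MonObj AlgebraicGeometry Opposite
open Magnet

namespace Groth.Agent.MagnetFace

/-- The integers. -/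
abbrev Zu : Type u := ULift.{u} ℤ

variable {M : Type} [AddCommMonoid M] {N N' L L' : AddSubmonoid M}

/-- The monoid algebra of a submonoid. -/
abbrev AL (P : AddSubmonoid M) : Type u := MonoidAlgebra Zu.{u} (Multiplicative P)

/-- The inclusion of monoid algebras. -/
noncomputable abbrev inc {P Q : AddSubmonoid M} (h : P ≤ Q) : AL.{u} P →ₐ[Zu.{u}] AL.{u} Q :=
  (MonoidAlgebra.mapDomainBialgHom Zu.{u} (AddMonoidHom.toMultiplicative (AddSubmonoid.inclusion h))).toAlgHom

theorem inc_single {P Q : AddSubmonoid M} (h : P ≤ Q) (x : P) (z : Zu.{u}) :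
    inc h (MonoidAlgebra.single (Multiplicative.ofAdd x) z) =
      MonoidAlgebra.single (Multiplicative.ofAdd (AddSubmonoid.inclusion h x)) z := by
  simp [inc]

theorem inc_injective {P Q : AddSubmonoid M} (h : P ≤ Q) : Function.Injective (inc.{u} h) := by
  refine MonoidAlgebra.mapDomain_injective ?_
  intro x y e
  exact AddSubmonoid.inclusion_injective h e

variable (hNL : N ≤ L) (hN'L' : N' ≤ L') (hL : IsFace L' L) (hN : IsFace N' N)
  (hdiff : (N' : Set M) = (L' : Set M) \ ((L : Set M) \ (N : Set M)))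

include hdiff in
theorem mem_iff {x : M} : x ∈ N' ↔ x ∈ L' ∧ (x ∈ L → x ∈ N) := by
  rw [← SetLike.mem_coe, hdiff]
  simp

include hdiff in
theorem face_inc (x : AL.{u} N') :
    faceAlgHom Zu.{u} hL (inc hN'L' x) = inc hNL (faceAlgHom Zu.{u} hN x) := by
  induction x using MonoidAlgebra.induction_linear with
  | zero => simp
  | add a b ha hb => simp only [map_add, ha, hb]
  | single m z =>
    obtain ⟨m, rfl⟩ : ∃ n, Multiplicative.ofAdd n = m := ⟨m.toAdd, rfl⟩
    rw [inc_single]
    by_cases h : (m : M) ∈ N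
    · rw [faceAlgHom_single_of_mem Zu hL _ (show ((AddSubmonoid.inclusion hN'L' m : L') : M) ∈ L from hNL h),
        faceAlgHom_single_of_mem Zu hN m h, inc_single]
      rfl
    · rw [faceAlgHom_single_of_not_mem Zu hL _ (fun h' : ((AddSubmonoid.inclusion hN'L' m : L') : M) ∈ L =>
          h (((mem_iff hdiff).1 m.2).2 h')), faceAlgHom_single_of_not_mem Zu hN m h, map_zero]

include hdiff in
theorem exists_lift (b : AL.{u} N) (a : AL.{u} L') (hab : inc hNL b = faceAlgHom Zu.{u} hL a) :
    ∃ r : AL.{u} N', faceAlgHom Zu.{u} hN r = b ∧ inc hN'L' r = a := by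
  classical
  let P : AL.{u} L' →ₗ[Zu.{u}] AL.{u} L' := (MonoidAlgebra.basis (Multiplicative L') Zu.{u}).constr Zu.{u}
    fun x => if ((x.toAdd : L') : M) ∈ N' then MonoidAlgebra.single x 1 else 0
  let E : AL.{u} L →ₗ[Zu.{u}] AL.{u} L' := (MonoidAlgebra.basis (Multiplicative L) Zu.{u}).constr Zu.{u}
    fun x => if ((x.toAdd : L) : M) ∈ N then 0 else
      MonoidAlgebra.single (Multiplicative.ofAdd (AddSubmonoid.inclusion hL.le x.toAdd)) 1
  have hP : ∀ (x : L') (z : Zu.{u}), P (MonoidAlgebra.single (Multiplicative.ofAdd x) z) =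
      if (x : M) ∈ N' then MonoidAlgebra.single (Multiplicative.ofAdd x) z else 0 := by
    intro x z
    have e : MonoidAlgebra.single (Multiplicative.ofAdd x) z = z • MonoidAlgebra.basis (Multiplicative L') Zu.{u} (Multiplicative.ofAdd x) := by simp
    rw [e, map_smul, Module.Basis.constr_basis]
    split_ifs <;> simp_all
  have hE : ∀ (x : L) (z : Zu.{u}), E (MonoidAlgebra.single (Multiplicative.ofAdd x) z) =
      if (x : M) ∈ N then 0 else MonoidAlgebra.single (Multiplicative.ofAdd (AddSubmonoid.inclusion hL.le x)) z := by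
    intro x z
    have e : MonoidAlgebra.single (Multiplicative.ofAdd x) z = z • MonoidAlgebra.basis (Multiplicative L) Zu.{u} (Multiplicative.ofAdd x) := by simp
    rw [e, map_smul, Module.Basis.constr_basis]
    split_ifs <;> simp_all
  have key : ∀ c : AL.{u} L', c = P c + E (faceAlgHom Zu.{u} hL c) := by
    intro c
    induction c using MonoidAlgebra.induction_linear with
    | zero => simp
    | add p q hp hq =>
      simp only [map_add]
      conv_lhs => rw [hp, hq]
      abel
    | single m z =>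
      obtain ⟨m, rfl⟩ : ∃ n, Multiplicative.ofAdd n = m := ⟨m.toAdd, rfl⟩
      rw [hP]
      by_cases hm : (m : M) ∈ L
      · rw [faceAlgHom_single_of_mem Zu hL m hm, hE]
        by_cases hmN : (m : M) ∈ N
        · rw [if_pos ((mem_iff hdiff).2 ⟨m.2, fun _ => hmN⟩), if_pos hmN, add_zero]
        · rw [if_neg (fun h => hmN (((mem_iff hdiff).1 h).2 hm)), if_neg hmN, zero_add]
          rfl
      · rw [faceAlgHom_single_of_not_mem Zu hL m hm, map_zero, add_zero,
          if_pos ((mem_iff hdiff).2 ⟨m.2, fun h => absurd h hm⟩)]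
  have hE0 : ∀ b : AL.{u} N, E (inc hNL b) = 0 := by
    intro b
    induction b using MonoidAlgebra.induction_linear with
    | zero => simp
    | add p q hp hq => simp only [map_add, hp, hq, add_zero]
    | single m z =>
      obtain ⟨m, rfl⟩ : ∃ n, Multiplicative.ofAdd n = m := ⟨m.toAdd, rfl⟩
      rw [inc_single, hE, if_pos (show ((AddSubmonoid.inclusion hNL m : L) : M) ∈ N from m.2)]
  have hPr : ∀ c : AL.{u} L', ∃ r, inc hN'L' r = P c := by
    intro c
    induction c using MonoidAlgebra.induction_linear with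
    | zero => exact ⟨0, by simp⟩
    | add p q hp hq =>
      obtain ⟨r, hr⟩ := hp
      obtain ⟨r', hr'⟩ := hq
      exact ⟨r + r', by rw [map_add, map_add, hr, hr']⟩
    | single m z =>
      obtain ⟨m, rfl⟩ : ∃ n, Multiplicative.ofAdd n = m := ⟨m.toAdd, rfl⟩
      rw [hP]
      split_ifs with h
      · exact ⟨MonoidAlgebra.single (Multiplicative.ofAdd (⟨m, h⟩ : N')) z, inc_single hN'L' _ z⟩
      · exact ⟨0, by simp⟩
  obtain ⟨r, hr⟩ := hPr a
  have ha : inc hN'L' r = a := by
    rw [hr]
    conv_rhs => rw [key a, ← hab, hE0, add_zero]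
  refine ⟨r, inc_injective hNL ?_, ha⟩
  rw [← face_inc hNL hN'L' hL hN hdiff, ha, hab]

include hdiff in
/-- The square of affine schemes over `ℤ`. -/
theorem isPinch_AMon : Pinch.IsPinch (AMon.faceMap Zu.{u} hL).left (AMon.map Zu.{u} (AddSubmonoid.inclusion hNL)).left
    (AMon.map Zu.{u} (AddSubmonoid.inclusion hN'L')).left (AMon.faceMap Zu.{u} hN).left := by
  refine Pinch.spec_isPinch (CommRingCat.ofHom (faceAlgHom Zu.{u} hN).toRingHom) (CommRingCat.ofHom (inc hN'L').toRingHom)
    (CommRingCat.ofHom (inc hNL).toRingHom) (CommRingCat.ofHom (faceAlgHom Zu.{u} hL).toRingHom)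
    (CommRingCat.hom_ext (RingHom.ext fun x => face_inc hNL hN'L' hL hN hdiff x)) (fun y => ?_)
    (fun b a e => exists_lift hNL hN'L' hL hN hdiff b a e) (fun r r' _ h => inc_injective hN'L' h)
  refine ⟨inc hL.le y, ?_⟩
  exact AlgHom.congr_fun (faceAlgHom_comp_mapDomain Zu.{u} hL) y

theorem bc_sq {A B : Over (Spec (CommRingCat.of Zu.{u}))} (f : A ⟶ B) {S : Scheme.{u}}
    (g : S ⟶ Spec (CommRingCat.of Zu.{u})) (T : Over S) :
    IsPullback (pullback.fst ((Over.pullback g).obj A).hom T.hom ≫ pullback.fst A.hom g)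
      (((Over.pullback g).map f) ▷ T).left f.left
      (pullback.fst ((Over.pullback g).obj B).hom T.hom ≫ pullback.fst B.hom g) := by
  refine IsPullback.paste_horiz ?_ (Pinch.isPullback_over f g)
  refine IsPullback.of_bot ?_ (Over.whiskerRight_left_fst _).symm (IsPullback.of_hasPullback ((Over.pullback g).obj B).hom T.hom)
  rw [Over.w ((Over.pullback g).map f), Over.whiskerRight_left_snd]
  exact IsPullback.of_hasPullback _ _

theorem flat_AMon (P : AddSubmonoid M) : Flat (AMon Zu.{u} P).hom := by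
  show Flat (Spec.map (CommRingCat.ofHom (algebraMap Zu.{u} (AL.{u} P))))
  rw [HasRingHomProperty.Spec_iff (P := @Flat)]
  exact RingHom.flat_algebraMap_iff.2 inferInstance

include hdiff in
/-- After any base change the square is a pushout. -/
theorem isPushout_tensor (S : Scheme.{u}) (T : Over S) :
    IsPushout (AMonS.faceMap S hL ▷ T) (AMonS.map S (AddSubmonoid.inclusion hNL) ▷ T)
      (AMonS.map S (AddSubmonoid.inclusion hN'L') ▷ T) (AMonS.faceMap S hN ▷ T) := by
  let g := Limits.IsTerminal.from specULiftZIsTerminal S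
  have h := isPinch_AMon hNL hN'L' hL hN hdiff
  have w := Pinch.w_of_isPinch h
  haveI : IsClosedImmersion (AMon.faceMap Zu.{u} hL).left := by
    rw [AMon.faceMap_left]
    exact IsClosedImmersion.spec_of_surjective _ fun y => ⟨inc hL.le y, AlgHom.congr_fun (faceAlgHom_comp_mapDomain Zu.{u} hL) y⟩
  haveI : IsAffineHom (AMon.map Zu.{u} (AddSubmonoid.inclusion hN'L')).left := inferInstanceAs (IsAffineHom (Spec.map _))
  haveI : IsAffineHom (AMon.faceMap Zu.{u} hN).left := inferInstanceAs (IsAffineHom (Spec.map _))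
  haveI : Flat ((AMon.faceMap Zu.{u} hL).left ≫ (AMon.map Zu.{u} (AddSubmonoid.inclusion hN'L')).left ≫ (AMon Zu.{u} N').hom) := by
    rw [Over.w (AMon.map Zu.{u} (AddSubmonoid.inclusion hN'L')), Over.w (AMon.faceMap Zu.{u} hL)]
    exact flat_AMon L
  have hPT : IsPullback (pullback.fst (AMonS S N').hom T.hom ≫ pullback.fst (AMon Zu.{u} N').hom g)
      (snd (AMonS S N') T).left (AMon Zu.{u} N').hom (T.hom ≫ g) :=
    (IsPullback.of_hasPullback (AMonS S N').hom T.hom).paste_horiz (IsPullback.of_hasPullback (AMon Zu.{u} N').hom g)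
  have hw : (AMonS.faceMap S hL ▷ T) ≫ (AMonS.map S (AddSubmonoid.inclusion hN'L') ▷ T) =
      (AMonS.map S (AddSubmonoid.inclusion hNL) ▷ T) ≫ (AMonS.faceMap S hN ▷ T) := by
    rw [← MonoidalCategory.comp_whiskerRight, ← MonoidalCategory.comp_whiskerRight]
    congr 1
    rw [AMonS.faceMap, AMonS.map, AMonS.map, AMonS.faceMap, ← Functor.map_comp, ← Functor.map_comp]
    exact congrArg _ (Over.OverMorphism.ext w)
  have hp := Pinch.isPinch_baseChange_flat_corner (Pinch.hasCharts_of_affine w) h (AMon Zu.{u} N').hom (T.hom ≫ g) hPT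
    (bc_sq (AMon.map Zu.{u} (AddSubmonoid.inclusion hN'L')) g T) (bc_sq (AMon.faceMap Zu.{u} hN) g T)
    (bc_sq (AMon.faceMap Zu.{u} hL) g T) (bc_sq (AMon.map Zu.{u} (AddSubmonoid.inclusion hNL)) g T).w.symm
    (congrArg CommaMorphism.left hw).symm
  exact IsPushout.of_map (Over.forget S) hw (Pinch.isPushout_of_isPinch hp)

end Groth.Agent.MagnetFace

namespace Groth.Agent.MagnetFace

variable {M : Type} [AddCommMonoid M] {N N' L L' : AddSubmonoid M}

open Magnet

/-- The square of attractors is cartesian. -/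
theorem isPullback_attr (hNL : N ≤ L) (hN'L' : N' ≤ L') (hL : IsFace L' L) (hN : IsFace N' N)
    (hdiff : (N' : Set M) = (L' : Set M) \ ((L : Set M) \ (N : Set M))) {S : Scheme.{u}} {X : Over S}
    (a : MonAct (AMonS S M) X) :
    IsPullback (attrMap a hN'L') (attrFace a hN) (attrFace a hL) (attrMap a hNL) := by
  have hpo := fun T : Over S => isPushout_tensor hNL hN'L' hL hN hdiff S T
  have hw : attrMap a hN'L' ≫ attrFace a hL = attrFace a hN ≫ attrMap a hNL := by
    ext T φ
    refine Subtype.ext ?_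
    show (AMonS.faceMap S hL ▷ T.unop) ≫ (AMonS.map S (AddSubmonoid.inclusion hN'L') ▷ T.unop) ≫ φ.1 =
      (AMonS.map S (AddSubmonoid.inclusion hNL) ▷ T.unop) ≫ (AMonS.faceMap S hN ▷ T.unop) ≫ φ.1
    rw [← Category.assoc, (hpo T.unop).w, Category.assoc]
  refine IsPullback.of_isLimit' ⟨hw⟩ (Limits.evaluationJointlyReflectsLimits _ fun T =>
    (Limits.isLimitMapConePullbackConeEquiv ((evaluation _ _).obj T) hw).symm ?_)
  refine IsPullback.isLimit (h := ?_)
  rw [Limits.Types.isPullback_iff]
  refine ⟨congrArg (fun t => NatTrans.app t T) hw, ?_, ?_⟩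
  · rintro φ₁ φ₂ ⟨h1, h2⟩
    exact Subtype.ext ((hpo T.unop).hom_ext (congrArg Subtype.val h1) (congrArg Subtype.val h2))
  · intro φ ψ h
    let θ := (hpo T.unop).desc φ.1 ψ.1 (congrArg Subtype.val h)
    have h1 : (AMonS.map S (AddSubmonoid.inclusion hN'L') ▷ T.unop) ≫ θ = φ.1 := (hpo T.unop).inl_desc _ _ _
    have h2 : (AMonS.faceMap S hN ▷ T.unop) ≫ θ = ψ.1 := (hpo T.unop).inr_desc _ _ _
    refine ⟨⟨θ, ?_⟩, Subtype.ext h1, Subtype.ext h2⟩
    rw [MonAct.mem_eqvHom_iff]
    intro T' gm b s
    let P := AMonS S M ⊗ T.unop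
    have huniv : lift (lift (snd (AMonS S N') P ≫ fst _ _) (fst _ _) ≫ (subAct S M N').act)
        (snd (AMonS S N') P ≫ snd _ _) ≫ θ =
        lift (snd (AMonS S N') P ≫ fst _ _) (lift (fst _ _) (snd (AMonS S N') P ≫ snd _ _) ≫ θ) ≫ a.act := by
      have hm : MonAct.IsEquivariant (subAct S M L') (subAct S M N') (AMonS.map S (AddSubmonoid.inclusion hN'L')) :=
        MonAct.isEquivariant_restrict_regular _ _ _ (by rw [← AMonS.map_comp]; rfl)
      have hf : MonAct.IsEquivariant (subAct S M N) (subAct S M N') (AMonS.faceMap S hN) := isEquivariant_faceMapS S hN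
      rw [MonAct.isEquivariant_iff] at hm hf
      refine (hpo P).hom_ext ?_ ?_
      · have e := (MonAct.mem_eqvHom_iff φ.1).1 φ.2 _ (snd (AMonS S L') P ≫ fst _ _) (fst _ _) (snd _ _ ≫ snd _ _)
        rw [← h1, lift_whiskerRight_assoc, lift_whiskerRight_assoc, Category.assoc, hm] at e
        simpa [comp_lift_assoc, comp_lift, P] using e
      · have e := (MonAct.mem_eqvHom_iff ψ.1).1 ψ.2 _ (snd (AMonS S N) P ≫ fst _ _) (fst _ _) (snd _ _ ≫ snd _ _)
        rw [← h2, lift_whiskerRight_assoc, lift_whiskerRight_assoc, Category.assoc, hf] at e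
        simpa [comp_lift_assoc, comp_lift, P] using e
    have := congrArg (fun t => lift b (lift gm s) ≫ t) huniv
    simpa [comp_lift_assoc, comp_lift, P] using this

/-- The square of monoid schemes is cocartesian. -/
theorem isPushout (hNL : N ≤ L) (hN'L' : N' ≤ L') (hL : IsFace L' L) (hN : IsFace N' N)
    (hdiff : (N' : Set M) = (L' : Set M) \ ((L : Set M) \ (N : Set M))) (S : Scheme.{u}) :
    IsPushout (AMonS.faceMap S hL) (AMonS.map S (AddSubmonoid.inclusion hNL))
      (AMonS.map S (AddSubmonoid.inclusion hN'L')) (AMonS.faceMap S hN) :=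
  (isPushout_tensor hNL hN'L' hL hN hdiff S (𝟙_ (Over S))).of_iso (ρ_ _) (ρ_ _) (ρ_ _) (ρ_ _)
    (rightUnitor_naturality _) (rightUnitor_naturality _) (rightUnitor_naturality _) (rightUnitor_naturality _)

end Groth.Agent.MagnetFace
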