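import Groth.Statements.S9208
import Groth.Agent.AbsApprox.OverLim
import Groth.Agent.LimDesc.FPCancel

set_option autoImplicit false
universe u
open CategoryTheory Limits AlgebraicGeometry Opposite
open Lim
set_option backward.isDefEq.respectTransparency false

namespace Groth.Agent.S9208

/-- Let f : X → S be a morphism of schemes. Suppose that for every inverse system (T_j) of affine
schemes over S indexed by a nonempty directed preordered set, with limit T, the canonical map
colim_j Mor_S(T_j, X) → Mor_S(T, X) is surjective: every S-morphism T → X is the composite of the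
projection T → T_j with an S-morphism T_j → X for some j. Then f is locally of finite presentation
(surjectivity alone suffices; bijectivity is not required). -/
theorem result {X S : Scheme.{u}} (f : X ⟶ S)
    (h : ∀ (J : Type u) [Preorder J] [IsDirected J (· ≤ ·)] [Nonempty J] (D : Jᵒᵖ ⥤ Scheme.{u})
      (t : D ⟶ (Functor.const Jᵒᵖ).obj S) (c : Limits.Cone D) (_ : Limits.IsLimit c),
      (∀ j, IsAffine (D.obj j)) → ∀ (j₀ : Jᵒᵖ) (g : c.pt ⟶ X), g ≫ f = c.π.app j₀ ≫ t.app j₀ →
        ∃ (j : Jᵒᵖ) (gj : D.obj j ⟶ X), gj ≫ f = t.app j ∧ c.π.app j ≫ gj = g) :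
    LocallyOfFinitePresentation f := by
  classical
  have key : ∀ x : X, ∃ U : X.Opens, x ∈ U ∧ LocallyOfFinitePresentation (U.ι ≫ f) := by
    intro x
    obtain ⟨V, hV, hxV, -⟩ := exists_isAffineOpen_mem_and_subset (x := f x) (U := (⊤ : S.Opens)) trivial
    obtain ⟨U, hU, hxU, hUV⟩ := exists_isAffineOpen_mem_and_subset (x := x) (U := f ⁻¹ᵁ V) hxV
    refine ⟨U, hxU, ?_⟩
    have : IsAffine U.toScheme := hU
    have : IsAffine V.toScheme := hV
    let v : U.toScheme ⟶ V.toScheme := f.resLE V U hUV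
    have hv : v ≫ V.ι = U.ι ≫ f := Scheme.Hom.resLE_comp_ι f hUV
    suffices LocallyOfFinitePresentation v by rw [← hv]; infer_instance
    obtain ⟨J, _, _, _, D, c, hl, e, h1, h2, h3⟩ := Groth.Agent.AbsApprox.exists_limit_over v
    have : IsCofiltered Jᵒᵖ := isCofiltered_op_of_isFiltered _
    have : CategoryTheory.IsConnected Jᵒᵖ := IsCofiltered.isConnected _
    let E := D ⋙ Over.forget V.toScheme
    let d := (Over.forget V.toScheme).mapCone c
    have hd : IsLimit d := isLimitOfPreserves (Over.forget _) hl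
    haveI hEaff : ∀ {i j : Jᵒᵖ} (a : i ⟶ j), IsAffineHom (E.map a) := fun a => h2 _ _ a
    haveI : ∀ i, CompactSpace (E.obj i) := fun i => (h1 i).2.2.2.1
    haveI : ∀ i, QuasiSeparatedSpace (E.obj i) := fun i => (h1 i).2.2.2.2
    haveI : IsAffine ((Over.forget V.toScheme).obj (Over.mk v)) := ‹IsAffine U.toScheme›
    haveI : IsAffine d.pt := IsAffine.of_isIso ((Over.forget V.toScheme).mapIso e).hom
    obtain ⟨i₁, hi₁⟩ := Scheme.exists_isAffine_of_isLimit E _ hd
    let J' := {j : J // i₁.unop ≤ j}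
    haveI : Nonempty J' := ⟨⟨i₁.unop, le_rfl⟩⟩
    haveI : IsDirected J' (fun a b => a ≤ b) := ⟨fun a b => by
      obtain ⟨k, ha, hb⟩ := exists_ge_ge a.1 b.1
      exact ⟨⟨k, a.2.trans ha⟩, ha, hb⟩⟩
    let F : J' →o J := ⟨Subtype.val, fun _ _ h => h⟩
    haveI : F.monotone.functor.op.Initial := Groth.Agent.AbsApprox.final_of_cofinal F fun j => by
      obtain ⟨k, ha, hb⟩ := exists_ge_ge i₁.unop j
      exact ⟨⟨k, ha⟩, hb⟩
    haveI : IsCofiltered J'ᵒᵖ := isCofiltered_op_of_isFiltered _
    let E' := F.monotone.functor.op ⋙ E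
    let d' : Cone E' := d.whisker F.monotone.functor.op
    have hd' : IsLimit d' := (Functor.Initial.isLimitWhiskerEquiv _ _).symm hd
    have haff : ∀ q, IsAffine (E'.obj q) := fun q => by
      haveI : IsAffine (E.obj i₁) := hi₁
      haveI := hEaff ((homOfLE q.unop.2).op : op q.unop.1 ⟶ i₁)
      exact isAffine_of_isAffineHom (E.map ((homOfLE q.unop.2).op : op q.unop.1 ⟶ i₁))
    haveI : ∀ {i j : J'ᵒᵖ} (a : i ⟶ j), IsAffineHom (E'.map a) := fun a => hEaff _
    haveI : ∀ q, CompactSpace (E'.obj q) := fun q => inferInstanceAs (CompactSpace (E.obj (op q.unop.1)))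
    let t : E' ⟶ (Functor.const J'ᵒᵖ).obj S :=
      { app := fun q => (D.obj (op q.unop.1)).hom ≫ V.ι
        naturality := fun p q a => ((Category.assoc _ _ _).symm.trans
          (congrArg (· ≫ V.ι) (Over.w (D.map (F.monotone.functor.op.map a))))).trans (Category.comp_id _).symm }
    have hc : ∀ q : J'ᵒᵖ, d'.π.app q ≫ (D.obj (op q.unop.1)).hom = e.hom.left ≫ v := fun q =>
      (Over.w (c.π.app (op q.unop.1))).trans (Over.w e.hom).symm
    let q₀ : J'ᵒᵖ := op (Classical.arbitrary J')
    obtain ⟨q, gq, hgq, hgq'⟩ := h J' E' t d' hd' haff q₀ (e.hom.left ≫ U.ι) (by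
      show (e.hom.left ≫ U.ι) ≫ f = d'.π.app q₀ ≫ (D.obj (op q₀.unop.1)).hom ≫ V.ι
      simp only [reassoc_of% hc q₀, Category.assoc, hv])
    have htop : d'.π.app q ⁻¹ᵁ (gq ⁻¹ᵁ U) = ⊤ := by
      rw [← Scheme.Hom.comp_preimage, hgq', Scheme.Hom.comp_preimage, Scheme.Opens.ι_preimage_self]
      rfl
    obtain ⟨k, a, hk⟩ := exists_map_eq_top E' d' hd' (gq ⁻¹ᵁ U) htop
    have hrange : Set.range (E'.map a ≫ gq) ⊆ Set.range U.ι := by
      rintro _ ⟨y, rfl⟩
      rw [Scheme.Opens.range_ι]
      have hy : y ∈ E'.map a ⁻¹ᵁ (gq ⁻¹ᵁ U) := hk.symm ▸ trivial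
      exact hy
    let r : E'.obj k ⟶ U.toScheme := IsOpenImmersion.lift U.ι (E'.map a ≫ gq) hrange
    have hr : r ≫ U.ι = E'.map a ≫ gq := IsOpenImmersion.lift_fac _ _ _
    let π : U.toScheme ⟶ E'.obj k := e.inv.left ≫ d'.π.app k
    have hπr : π ≫ r = 𝟙 U.toScheme := by
      rw [← cancel_mono U.ι, Category.assoc, hr, Category.id_comp]
      show (e.inv.left ≫ d'.π.app k) ≫ E'.map a ≫ gq = U.ι
      rw [Category.assoc, reassoc_of% (d'.w a), hgq', ← Category.assoc, ← Over.comp_left, e.inv_hom_id]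
      exact Category.id_comp _
    have hrv : r ≫ v = (D.obj (op k.unop.1)).hom := by
      rw [← cancel_mono V.ι, Category.assoc, hv, reassoc_of% hr, hgq]
      exact (t.naturality a).trans (Category.comp_id _)
    haveI : IsAffine (E'.obj k) := haff k
    haveI : LocallyOfFinitePresentation (r ≫ v) := hrv ▸ (h1 _).1
    haveI : IsClosedImmersion π := by
      haveI : IsClosedImmersion (π ≫ r) := hπr ▸ inferInstance
      exact IsClosedImmersion.of_comp π r
    haveI : LocallyOfFiniteType v := by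
      haveI : LocallyOfFiniteType (π ≫ r ≫ v) := inferInstance
      rwa [reassoc_of% hπr] at this
    haveI : LocallyOfFinitePresentation r := Groth.Agent.LimDesc.lfp_of_comp r v
    haveI : LocallyOfFinitePresentation π := by
      haveI : LocallyOfFinitePresentation (π ≫ r) := hπr ▸ inferInstance
      exact Groth.Agent.LimDesc.lfp_of_comp π r
    have : LocallyOfFinitePresentation (π ≫ r ≫ v) := inferInstance
    rwa [reassoc_of% hπr] at this
  choose U hxU hU using key
  exact IsZariskiLocalAtSource.of_iSup_eq_top (P := @LocallyOfFinitePresentation) U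
    (top_le_iff.1 fun x _ => TopologicalSpace.Opens.mem_iSup.2 ⟨x, hxU x⟩) hU

end Groth.Agent.S9208
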