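import Mathlib.RingTheory.PicardGroup
import Mathlib.LinearAlgebra.Matrix.Determinant.Basic
import Mathlib.LinearAlgebra.Matrix.ToLin
import Mathlib.LinearAlgebra.Matrix.NonsingularInverse
import Mathlib.LinearAlgebra.PiTensorProduct
import Mathlib.LinearAlgebra.Matrix.ToLinearEquiv
import Mathlib.RingTheory.Ideal.Quotient.Basic
import Mathlib.Tactic.LinearCombination

/-! Automorphisms of matrix algebras over a commutative ring: the invertible module of liftings. -/

set_option autoImplicit false
universe u

open scoped TensorProduct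
open Matrix

namespace Groth.Agent.MatAut

variable {A : Type u} [CommRing A] {n : ℕ}

/-- The module of matrices intertwining the identity and `α`. -/
noncomputable abbrev L (α : Matrix (Fin n) (Fin n) A ≃ₐ[A] Matrix (Fin n) (Fin n) A) :
    Submodule A (Matrix (Fin n) (Fin n) A) :=
  LinearMap.ker (LinearMap.mul A (Matrix (Fin n) (Fin n) A) -
    (LinearMap.lcomp A (Matrix (Fin n) (Fin n) A) α.toLinearMap).comp
      (LinearMap.mul A (Matrix (Fin n) (Fin n) A)).flip)

variable (α : Matrix (Fin n) (Fin n) A ≃ₐ[A] Matrix (Fin n) (Fin n) A)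

theorem mem_L {M : Matrix (Fin n) (Fin n) A} : M ∈ L α ↔ ∀ N, M * N = α N * M := by
  rw [LinearMap.mem_ker, LinearMap.ext_iff]
  exact forall_congr' fun N => sub_eq_zero

/-- The image of a matrix unit. -/
def F (i j : Fin n) : Matrix (Fin n) (Fin n) A := α (Matrix.single i j 1)

theorem F_mul (i j k l : Fin n) : F α i j * F α k l = if j = k then F α i l else 0 := by
  unfold F
  rw [← map_mul]
  split_ifs with h
  · subst h; rw [Matrix.single_mul_single_same, one_mul]
  · rw [Matrix.single_mul_single_of_ne (h := h), map_zero]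

theorem sum_F : ∑ i, F α i i = 1 := by
  simp only [F, ← map_sum]
  rw [← map_one α]
  congr 1
  ext a b
  simp [Matrix.sum_apply, Matrix.single_apply, Matrix.one_apply, Finset.sum_ite_eq', ite_and]

theorem col_of_mem {M : Matrix (Fin n) (Fin n) A} (hM : M ∈ L α) (x i j : Fin n) :
    M x j = (F α j i *ᵥ fun y => M y i) x := by
  have h := congrFun (congrFun ((mem_L α).1 hM (Matrix.single j i 1)) x) i
  rw [Matrix.mul_single_apply_same, mul_one] at h
  exact h

variable [NeZero n]

theorem ext_of_col {M N : L α} (h : ∀ x, (M : Matrix (Fin n) (Fin n) A) x 0 = (N : Matrix (Fin n) (Fin n) A) x 0) :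
    M = N := by
  ext x j
  rw [col_of_mem α M.2 x 0 j, col_of_mem α N.2 x 0 j]
  simp [h]

/-- The element of `L` generated by a column. -/
noncomputable def mk (q : Fin n → A) : L α :=
  ⟨Matrix.of fun x j => (F α j 0 *ᵥ q) x, by
    rw [mem_L]
    intro N
    have hlin : (LinearMap.mul A (Matrix (Fin n) (Fin n) A)
        (Matrix.of fun x j => (F α j 0 *ᵥ q) x)) =
        ((LinearMap.lcomp A (Matrix (Fin n) (Fin n) A) α.toLinearMap).comp
      (LinearMap.mul A (Matrix (Fin n) (Fin n) A)).flip) (Matrix.of fun x j => (F α j 0 *ᵥ q) x) := by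
      apply Matrix.ext_linearMap
      intro k l
      apply LinearMap.ext_ring
      show (Matrix.of fun x j => (F α j 0 *ᵥ q) x) * Matrix.single k l 1
        = F α k l * (Matrix.of fun x j => (F α j 0 *ᵥ q) x)
      ext x j
      have h1 : (F α k l * Matrix.of fun x j => (F α j 0 *ᵥ q) x) x j = ((F α k l * F α j 0) *ᵥ q) x := by
        rw [← Matrix.mulVec_mulVec]; rfl
      rw [h1, F_mul]
      by_cases hj : l = j
      · subst hj; rw [Matrix.mul_single_apply_same, if_pos rfl, mul_one]; rfl
      · rw [Matrix.mul_single_apply_of_ne _ _ _ _ _ (Ne.symm hj), if_neg hj]; simp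
    exact LinearMap.congr_fun hlin N⟩

theorem mk_apply (q : Fin n → A) (x j : Fin n) :
    (mk α q : Matrix (Fin n) (Fin n) A) x j = (F α j 0 *ᵥ q) x := rfl

/-- `mk` as a linear map. -/
noncomputable def mkₗ : (Fin n → A) →ₗ[A] L α where
  toFun := mk α
  map_add' q q' := by ext x j; simp [mk_apply, Matrix.mulVec_add]
  map_smul' c q := by ext x j; simp [mk_apply, Matrix.mulVec_smul]

theorem mk_col (M : L α) : mk α (fun x => (M : Matrix (Fin n) (Fin n) A) x 0) = M :=
  Subtype.ext (Matrix.ext fun x j => (col_of_mem α M.2 x 0 j).symm)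

/-- The `a`-th entry of the first column. -/
noncomputable def ev (a : Fin n) : Module.Dual A (L α) where
  toFun M := (M : Matrix (Fin n) (Fin n) A) a 0
  map_add' _ _ := rfl
  map_smul' c M := by simp

theorem sum_ev (M : L α) : ∑ a, ev α a M • mk α (Pi.single a 1) = M := by
  conv_rhs => rw [← mk_col α M, pi_eq_sum_univ' (fun x => (M : Matrix (Fin n) (Fin n) A) x 0)]
  show _ = mkₗ α _
  rw [map_sum]
  exact Finset.sum_congr rfl fun a _ => (map_smul (mkₗ α) _ _).symm

theorem exists_F_notMem (m : Ideal A) (hm : m ≠ ⊤) : ∃ x b, F α 0 0 x b ∉ m := by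
  by_contra h
  push Not at h
  apply hm
  rw [Ideal.eq_top_iff_one]
  have h1 : (1 : A) = ∑ i, F α i i 0 0 := by
    rw [← Matrix.sum_apply, sum_F, Matrix.one_apply_eq]
  rw [h1]
  refine sum_mem fun i _ => ?_
  rw [show F α i i = F α i 0 * F α 0 0 * F α 0 i by
    rw [F_mul, if_pos rfl, F_mul, if_pos rfl], Matrix.mul_apply]
  refine sum_mem fun k _ => Ideal.mul_mem_right _ _ ?_
  rw [Matrix.mul_apply]
  exact sum_mem fun l _ => Ideal.mul_mem_left _ _ (h l k)

theorem mulVec_col (K : L α) :
    F α 0 0 *ᵥ (fun y => (K : Matrix (Fin n) (Fin n) A) y 0) =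
      fun x => (K : Matrix (Fin n) (Fin n) A) x 0 :=
  funext fun x => (col_of_mem α K.2 x 0 0).symm

theorem ev_mul_trace (M N : L α) (a x : Fin n) :
    (∑ i, F α 0 0 i i) * (ev α x N * ev α a M) = ev α a N * ev α x M := by
  obtain ⟨Y, hY⟩ := α.surjective
    (Matrix.of fun y b => if b = a then (N : Matrix (Fin n) (Fin n) A) y 0 else 0)
  set X : Matrix (Fin n) (Fin n) A :=
    Matrix.of fun y b => if b = a then (N : Matrix (Fin n) (Fin n) A) y 0 else 0 with hX
  have hd : F α 0 0 * X * F α 0 0 = Y 0 0 • F α 0 0 := by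
    rw [← hY]
    unfold F
    rw [← map_mul, ← map_mul, ← map_smul, Matrix.single_mul_mul_single, Matrix.smul_single]
    simp
  -- take traces
  have htr : Y 0 0 * (∑ i, F α 0 0 i i) = ev α a N := by
    have h := congrArg Matrix.trace hd
    rw [Matrix.trace_smul, Matrix.trace_mul_comm, ← Matrix.mul_assoc, F_mul, if_pos rfl] at h
    refine h.symm.trans ?_
    have h2 : ∀ i, (F α 0 0 * X) i i = if i = a then ev α a N else 0 := fun i => by
      split_ifs with hi
      · subst hi
        rw [Matrix.mul_apply]
        show _ = (N : Matrix (Fin n) (Fin n) A) i 0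
        rw [← congrFun (mulVec_col α N) i]
        simp [hX, Matrix.mulVec, dotProduct]
      · simp [Matrix.mul_apply, hX, hi]
    simp [Matrix.trace, h2]
  -- apply to the first column of `M`
  have h' : X *ᵥ (fun y => (M : Matrix (Fin n) (Fin n) A) y 0) =
      (M : Matrix (Fin n) (Fin n) A) a 0 • fun y => (N : Matrix (Fin n) (Fin n) A) y 0 := by
    ext y; simp [hX, Matrix.mulVec, dotProduct, mul_comm]
  have h := congrFun (congrArg (fun Z => Z *ᵥ fun y => (M : Matrix (Fin n) (Fin n) A) y 0) hd) x
  simp only [← Matrix.mulVec_mulVec, Matrix.smul_mulVec, mulVec_col, h', Matrix.mulVec_smul,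
    Pi.smul_apply, smul_eq_mul] at h
  change ev α a M * ev α x N = Y 0 0 * ev α x M at h
  linear_combination (∑ i, F α 0 0 i i) * h + ev α x M * htr

theorem trace_F : ∑ i, F α 0 0 i i = 1 := by
  by_contra hne
  set t := ∑ i, F α 0 0 i i with ht
  let J : Ideal A := LinearMap.ker (LinearMap.toSpanSingleton A A (1 - t))
  have hJ : J ≠ ⊤ := fun h => hne (by
    have : (1 : A) ∈ J := h ▸ Submodule.mem_top
    simp [J, sub_eq_zero] at this
    exact this.symm)
  obtain ⟨m, hm, hle⟩ := Ideal.exists_le_maximal J hJ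
  obtain ⟨x, b, hxb⟩ := exists_F_notMem α m hm.ne_top
  refine hxb (hm.isPrime.mem_of_pow_mem 2 (hle ?_))
  have h : ev α x (mk α (Pi.single b 1)) = F α 0 0 x b := by
    show (F α 0 0 *ᵥ Pi.single b 1) x = _
    simp
  have h2 := ev_mul_trace α (mk α (Pi.single b 1)) (mk α (Pi.single b 1)) x x
  rw [h, ← ht] at h2
  show F α 0 0 x b ^ 2 • (1 - t) = 0
  rw [smul_eq_mul]
  linear_combination -h2

theorem ev_comm (M N : L α) (a : Fin n) : ev α a M • N = ev α a N • M := by
  apply ext_of_col α
  intro x
  show ev α a M * ev α x N = ev α a N * ev α x M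
  rw [← ev_mul_trace α M N a x, trace_F, one_mul, mul_comm]

theorem ev_comm' (lam : Module.Dual A (L α)) (M N : L α) : lam M • N = lam N • M := by
  have h : ∀ K : L α, lam K = ∑ a, lam (mk α (Pi.single a 1)) * ev α a K := fun K => by
    conv_lhs => rw [← sum_ev α K]
    simp [mul_comm]
  rw [h M, h N, Finset.sum_smul, Finset.sum_smul]
  simp only [mul_smul, ev_comm α M N]

theorem invertible : Module.Invertible A (L α) := by
  refine ⟨?_⟩
  set t0 : Module.Dual A (L α) ⊗[A] L α := ∑ a, ev α a ⊗ₜ mk α (Pi.single a 1) with ht0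
  have h1 : contractLeft A (L α) t0 = 1 := by
    rw [ht0, map_sum]
    refine Eq.trans (Finset.sum_congr rfl fun a _ => ?_) (trace_F α)
    rw [contractLeft_apply]
    show (F α 0 0 *ᵥ Pi.single a 1) a = _
    simp
  have h2 : ∀ z, z = contractLeft A (L α) z • t0 := fun z => by
    induction z using TensorProduct.induction_on with
    | zero => simp
    | tmul lam M =>
      rw [contractLeft_apply, ht0, Finset.smul_sum]
      have hlam : lam = ∑ a, lam (mk α (Pi.single a 1)) • ev α a := by
        apply LinearMap.ext; intro K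
        conv_lhs => rw [← sum_ev α K]
        simp [LinearMap.sum_apply, mul_comm]
      conv_lhs => rw [hlam, TensorProduct.sum_tmul]
      refine Finset.sum_congr rfl fun a _ => ?_
      rw [TensorProduct.smul_tmul, ← TensorProduct.tmul_smul, ev_comm' α lam]
    | add x y hx hy => rw [map_add, add_smul, ← hx, ← hy]
  refine ⟨fun z z' h => by rw [h2 z, h2 z', h], fun r => ⟨r • t0, by rw [map_smul, h1, smul_eq_mul, mul_one]⟩⟩

/-- The determinant of the matrix whose `i`-th column is the `i`-th column of the `i`-th argument. -/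
noncomputable def detL : MultilinearMap A (fun _ : Fin n => L α) A :=
  ((Matrix.detRowAlternating (n := Fin n) (R := A)).toMultilinearMap).compLinearMap fun i =>
    { toFun := fun M x => (M : Matrix (Fin n) (Fin n) A) x i
      map_add' := fun _ _ => rfl
      map_smul' := fun c M => by ext; simp }

theorem detL_apply (M : Fin n → L α) :
    detL α M = (Matrix.of fun x i => (M i : Matrix (Fin n) (Fin n) A) x i).det := by
  rw [← Matrix.det_transpose]
  rfl

theorem smul_tprod_comm (M N : Fin n → L α) :
    detL α N • PiTensorProduct.tprod A M = detL α M • PiTensorProduct.tprod A N := by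
  classical
  suffices h : ∀ s : Finset (Fin n), detL α N • PiTensorProduct.tprod A M =
      detL α (s.piecewise M N) • PiTensorProduct.tprod A (s.piecewise N M) by
    simpa using h Finset.univ
  intro s
  induction s using Finset.induction_on with
  | empty => simp
  | @insert i s hi ih =>
    rw [ih, Finset.piecewise_insert, Finset.piecewise_insert]
    set P := s.piecewise M N
    set Q := s.piecewise N M
    have hP : P i = N i := s.piecewise_eq_of_notMem _ _ hi
    have hQ : Q i = M i := s.piecewise_eq_of_notMem _ _ hi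
    have h := congrArg ((PiTensorProduct.tprod A).toLinearMap Q i)
      (ev_comm' α ((detL α).toLinearMap P i) (N i) (M i))
    simp only [map_smul, MultilinearMap.toLinearMap_apply] at h
    rwa [← hP, Function.update_eq_self, ← hQ, Function.update_eq_self, hP, hQ] at h

theorem exists_lift_detL_eq_one : ∃ t, PiTensorProduct.lift (detL α) t = 1 := by
  show (1 : A) ∈ LinearMap.range (PiTensorProduct.lift (detL α))
  by_contra hne
  have hI : (LinearMap.range (PiTensorProduct.lift (detL α)) : Ideal A) ≠ ⊤ := fun h => hne (h ▸ Submodule.mem_top)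
  obtain ⟨m, hm, hle⟩ := Ideal.exists_le_maximal _ hI
  obtain ⟨y, b, hyb⟩ := exists_F_notMem α m hm.ne_top
  haveI := hm
  letI := Ideal.Quotient.field m
  set f := Ideal.Quotient.mk m
  set P : Matrix (Fin n) (Fin n) A := (mk α (Pi.single b 1) : Matrix (Fin n) (Fin n) A)
  have hdet : (P.map f).det ≠ 0 := by
    intro h0
    obtain ⟨v, hv, hPv⟩ := Matrix.exists_mulVec_eq_zero_iff.2 h0
    apply hv
    ext k
    choose w hw using fun j => Ideal.Quotient.mk_surjective (I := m) (v j)
    have hmem : ∀ x, (P *ᵥ w) x ∈ m := fun x => by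
      rw [← Ideal.Quotient.eq_zero_iff_mem, RingHom.map_mulVec, show f ∘ w = v from funext hw]
      exact congrFun hPv x
    have hcol : (Matrix.single 0 k 1 : Matrix (Fin n) (Fin n) A) *ᵥ w = w k • Pi.single 0 1 := by
      rw [Matrix.single_mulVec, one_mul]
      ext j; simp [Pi.single_apply, Function.update_apply]
    have he := congrArg (fun Z => Z *ᵥ w)
      ((mem_L α).1 (mk α (Pi.single b 1)).2 (Matrix.single 0 k 1)).symm
    simp only [← Matrix.mulVec_mulVec, hcol, Matrix.mulVec_smul] at he
    have h3 : w k * P y 0 ∈ m := by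
      have h4 := congrFun he y
      rw [Pi.smul_apply, Matrix.mulVec_single_one] at h4
      rw [show w k * P y 0 = _ from h4.symm]
      rw [Matrix.mulVec, dotProduct]
      exact sum_mem fun j _ => Ideal.mul_mem_left _ _ (hmem j)
    rw [show P y 0 = F α 0 0 y b by
      show (F α 0 0 *ᵥ Pi.single b 1) y = _
      simp] at h3
    rw [Pi.zero_apply, ← hw k]
    exact Ideal.Quotient.eq_zero_iff_mem.2 ((hm.isPrime.mem_or_mem h3).resolve_right hyb)
  apply hdet
  rw [show (P.map f).det = f P.det from (RingHom.map_det f P).symm, Ideal.Quotient.eq_zero_iff_mem]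
  refine hle ⟨PiTensorProduct.tprod A fun _ => mk α (Pi.single b 1), ?_⟩
  rw [PiTensorProduct.lift.tprod, detL_apply]
  rfl

theorem tensorPower_equiv : Nonempty ((⨂[A] _ : Fin n, L α) ≃ₗ[A] A) := by
  obtain ⟨t, ht⟩ := exists_lift_detL_eq_one α
  have h : ∀ z w : ⨂[A] _ : Fin n, L α, PiTensorProduct.lift (detL α) z • w = PiTensorProduct.lift (detL α) w • z := by
    intro z w
    induction w using PiTensorProduct.induction_on with
    | smul_tprod r M =>
      induction z using PiTensorProduct.induction_on with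
      | smul_tprod q N =>
        simp only [map_smul, PiTensorProduct.lift.tprod, smul_eq_mul]
        rw [smul_smul, smul_smul, mul_right_comm q, mul_right_comm r, mul_comm r q, mul_smul, mul_smul, smul_tprod_comm]
        simp only [smul_smul, mul_assoc]
      | add a b ha hb => simp [map_add, add_smul, smul_add, ha, hb]
    | add a b ha hb => simp [map_add, add_smul, smul_add, ha, hb]
  refine ⟨LinearEquiv.ofBijective (PiTensorProduct.lift (detL α)) ⟨fun z z' hzz => ?_, fun r => ⟨r • t, ?_⟩⟩⟩
  · rw [show z = z from rfl, ← one_smul A z, ← one_smul A z', ← ht, h t z, h t z', hzz]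
  · rw [map_smul, ht, smul_eq_mul, mul_one]

/-- `A ^ n` is the sum of `n` copies of `L`. -/
noncomputable def piEquiv : (Fin n → L α) ≃ₗ[A] (Fin n → A) where
  toFun M x := ∑ i, (M i : Matrix (Fin n) (Fin n) A) x i
  map_add' M N := by ext x; simp [Finset.sum_add_distrib]
  map_smul' c M := by ext x; simp [Finset.mul_sum]
  invFun q i := mk α (F α 0 i *ᵥ q)
  left_inv M := by
    ext i : 1
    apply ext_of_col α
    intro x
    rw [mk_apply]
    have : (fun x => ∑ j, (M j : Matrix (Fin n) (Fin n) A) x j) =
        ∑ j, F α j 0 *ᵥ fun y => (M j : Matrix (Fin n) (Fin n) A) y 0 := by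
      ext x; simp [← col_of_mem α (M _).2 x 0]
    show (F α 0 0 *ᵥ F α 0 i *ᵥ (fun x => ∑ j, (M j : Matrix (Fin n) (Fin n) A) x j)) x = _
    rw [this, Matrix.mulVec_sum, Matrix.mulVec_sum]
    simp only [Matrix.mulVec_mulVec, ← Matrix.mul_assoc, F_mul, if_true]
    rw [Finset.sum_eq_single i (fun j _ hj => by rw [if_neg (Ne.symm hj), Matrix.mul_zero, Matrix.zero_mulVec]) (by simp),
      if_pos rfl, F_mul, if_pos rfl, mulVec_col]
  right_inv q := by
    ext x
    simp only [mk_apply, Matrix.mulVec_mulVec, F_mul, if_true]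
    rw [← Finset.sum_apply (a := x) (g := fun i => F α i i *ᵥ q), ← Matrix.sum_mulVec, sum_F, Matrix.one_mulVec]

end Groth.Agent.MatAut
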