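import Groth.Statements.S12513
import Groth.Agent.MeroLib.Basic

set_option autoImplicit false
universe u
open Mero

namespace Groth.Agent.S12513

open AlgebraicGeometry in
/-- For a scheme X and an affine open U of X, the sections of O_X over U with nonzerodivisor germ at
every point of U are exactly the nonzerodivisors of the ring O_X(U). No Noetherian hypothesis is
needed. -/
theorem result (X : Scheme.{u}) (U : X.Opens)
    (hU : IsAffineOpen U) : Mero.regSub X U = nonZeroDivisors Γ(X, U) := by
  ext s
  refine ⟨fun hs => mem_nonZeroDivisors_iff_right.2 fun a ha => ?_, fun hs y => ?_⟩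
  · refine TopCat.Presheaf.section_ext X.sheaf U a 0 fun y hy => ?_
    have h0 := congrArg (X.presheaf.germ U y hy).hom ha
    rw [map_mul, map_zero] at h0
    exact ((mul_right_mem_nonZeroDivisors_eq_zero_iff (hs ⟨y, hy⟩)).1 h0).trans (map_zero _).symm
  · letI := (X.presheaf.germ U y.1 y.2).hom.toAlgebra
    haveI : IsLocalization.AtPrime (X.presheaf.stalk y.1) (hU.primeIdealOf y).asIdeal := hU.isLocalization_stalk y
    exact IsLocalization.map_nonZeroDivisors_le (hU.primeIdealOf y).asIdeal.primeCompl
      (X.presheaf.stalk y.1) (Submonoid.mem_map_of_mem _ hs)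

end Groth.Agent.S12513
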