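import Groth.Statements.S1689
import Mathlib
import Groth.Agent.RegDual.Scheme

set_option autoImplicit false
universe u
open CategoryTheory CategoryTheory.Limits AlgebraicGeometry TopologicalSpace
open SDiv

namespace Groth.Agent.S1689

/-- Let X be a locally Noetherian scheme of dimension at most 2 all of whose local rings are regular,
and F a coherent module on X. Then F is reflexive (every stalk is a reflexive module over the local
ring) if and only if F is finite locally free. -/
theorem result (X : Scheme.{u}) [IsLocallyNoetherian X]
    (hreg : ∀ x : ↥X, IsRegularLocalRing (X.presheaf.stalk x)) (hdim : topologicalKrullDim ↥X ≤ 2) (F : X.Modules)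
    (hF : Coh.IsCoh F) : (∀ x : ↥X, Module.IsReflexive (X.presheaf.stalk x) (F.presheaf.stalk x)) ↔ FlatMod.IsFinLocFree F := by
  constructor
  · intro h
    refine Groth.Agent.RegDual.isFinLocFree_of_free_stalk hF fun x => ?_
    haveI := hreg x
    haveI := Groth.Agent.RegDual.finite_stalk hF x
    haveI := h x
    exact Groth.Agent.RegDual.free_of_isReflexive (X.presheaf.stalk x)
      ((Groth.Agent.RegDual.ringKrullDim_stalk_le_topologicalKrullDim x).trans hdim) (F.presheaf.stalk x)
  · intro h x
    haveI := Groth.Agent.LocFree.free_stalk_of_isFinLocFree h x
    haveI := Groth.Agent.RegDual.finite_stalk hF x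
    infer_instance

end Groth.Agent.S1689
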