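import Groth.Statements.S1690
import Groth.Agent.RefStalk.Codim
import Groth.Agent.RefStalk.Restrict
-- import your own Groth.Agent.* helpers here

set_option autoImplicit false
universe u
open CategoryTheory CategoryTheory.Limits AlgebraicGeometry TopologicalSpace
open SDiv

set_option backward.isDefEq.respectTransparency false

namespace Groth.Agent.S1690

/-- (1) if and only if (3): let X be an integral locally Noetherian normal scheme and F a coherent
module. Then F is reflexive (stalkwise) if and only if there is an open subscheme j : U ⟶ X such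
that every point outside U has local ring of dimension at least 2, the restriction of F to U is
finite locally free, and the canonical map F ⟶ j_* j^* F is an isomorphism. -/
theorem result (X : Scheme.{u}) [IsIntegral X] [IsLocallyNoetherian X] (hX : Pi1.IsNormalScheme X)
    (F : X.Modules) (hF : Coh.IsCoh F) :
    (∀ x : ↥X, Module.IsReflexive (X.presheaf.stalk x) (F.presheaf.stalk x)) ↔
      ∃ U : X.Opens, (∀ x : ↥X, x ∉ U → (2 : WithBot ℕ∞) ≤ ringKrullDim (X.presheaf.stalk x)) ∧
        FlatMod.IsFinLocFree (F.restrict U.ι) ∧ IsIso ((Scheme.Modules.restrictAdjunction U.ι).unit.app F) := by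
  constructor
  · intro hr
    obtain ⟨U, hU⟩ := Groth.Agent.RefStalk.exists_free_locus hF
    have hU2 : ∀ x ∉ U, (2 : WithBot ℕ∞) ≤ ringKrullDim (X.presheaf.stalk x) := fun x hx => by
      by_contra hc
      haveI := hr x
      exact hx ((hU x).2 (Groth.Agent.RefStalk.free_stalk_codim_one hX hF x
        (Groth.Agent.RefStalk.isTorsionFree_of_isReflexive _) hc))
    exact ⟨U, hU2, (Groth.Agent.RefStalk.isFinLocFree_restrict_iff hF U).2 fun x hx => (hU x).1 hx,
      Groth.Agent.RefStalk.isIso_unit_of_depth hF U fun x hx =>
        Groth.Agent.RefStalk.two_le_depth_of_isReflexiveAt hF x (hr x)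
          (Groth.Agent.RefStalk.two_le_depth hX x (hU2 x hx))⟩
  · rintro ⟨U, hU2, hfree, hiso⟩
    have hfree' := (Groth.Agent.RefStalk.isFinLocFree_restrict_iff hF U).1 hfree
    refine (Groth.Agent.RefStalk.isReflexive_iff hF).1 (Groth.Agent.RefStalk.isReflexive_of_depth hF U
      (fun x hx => ?_) (fun x hx => ?_) fun x hx => Groth.Agent.RefStalk.two_le_depth hX x (hU2 x hx))
    · haveI := hfree' x hx
      haveI := Groth.Agent.RegDual.finite_stalk hF x
      exact (inferInstance : Module.IsReflexive (X.presheaf.stalk x) (F.presheaf.stalk x))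
    · obtain ⟨A, hA, hxA, -⟩ := exists_isAffineOpen_mem_and_subset (x := x) (U := (⊤ : X.Opens)) trivial
      refine (Groth.Agent.ZCl.bijective_rs_iff_depth F hF hA U).1 ?_ x hxA hx
      have hb := Groth.Agent.ZCl.bijective_of_isIso ((Scheme.Modules.restrictAdjunction U.ι).unit.app F) A
      rw [Scheme.Modules.restrictAdjunction_unit_app_app] at hb
      have e : (Groth.Agent.ZCl.rs F (inf_le_right : U ⊓ A ≤ A) : _ → _) =
          Groth.Agent.ZCl.rs F (Groth.Agent.ZCl.image_le U A) ∘ Groth.Agent.ZCl.rs F (U.ι.image_preimage_le A) :=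
        funext fun s => (Groth.Agent.ZCl.rs_rs F _ _ _).symm
      rw [e]
      exact (Groth.Agent.ZCl.rs_bijective F _ (Groth.Agent.ZCl.le_image U A)).comp hb

end Groth.Agent.S1690
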