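import Groth.Statements.S7380
import Groth.Agent.AbsApprox.ClosedLim

set_option backward.isDefEq.respectTransparency false

set_option autoImplicit false
universe u
open CategoryTheory AlgebraicGeometry
open Lim

namespace Groth.Agent.S7380

/-- Let `f : X → S` be locally of finite type with `X` quasi-compact and quasi-separated and `S`
quasi-separated. Then, in the category of schemes over `S`, `X` is the limit of a nonempty directed
inverse system of schemes `X_i → S` of finite presentation (locally of finite presentation,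
quasi-compact and quasi-separated), each `X_i` being a quasi-compact and quasi-separated scheme,
whose transition morphisms are closed immersions. -/
theorem result {X S : Scheme.{u}}
    (f : X ⟶ S) [LocallyOfFiniteType f] [CompactSpace X] [QuasiSeparatedSpace X] [QuasiSeparatedSpace S] :
    ∃ (I : Type u) (_ : Preorder I) (_ : IsDirected I (fun a b => a ≤ b)) (_ : Nonempty I)
      (D : Iᵒᵖ ⥤ Over S) (c : Limits.Cone D) (_ : Limits.IsLimit c),
      (∀ i, LocallyOfFinitePresentation (D.obj i).hom ∧ QuasiCompact (D.obj i).hom ∧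
        QuasiSeparated (D.obj i).hom ∧ CompactSpace (D.obj i).left ∧ QuasiSeparatedSpace (D.obj i).left) ∧
      (∀ (i j : Iᵒᵖ) (a : i ⟶ j), IsClosedImmersion (D.map a).left) ∧
      Nonempty (c.pt ≅ Over.mk f) := by
  obtain ⟨T, t, Ω, g, h1, h2, h3, hc, h4, h5⟩ := Groth.Agent.AbsApprox.exists_closedImmersion_opens f
  haveI : CompactSpace Ω.toScheme := isCompact_iff_compactSpace.mp hc
  haveI : QuasiSeparatedSpace Ω.toScheme := quasiSeparatedSpace_of_quasiSeparated (Ω.ι ≫ t)
  refine ⟨_, inferInstance, inferInstance, inferInstance, Groth.Agent.AbsApprox.closedDiagram (Ω.ι ≫ t) g,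
    Groth.Agent.AbsApprox.closedCone f (Ω.ι ≫ t) g h5, Groth.Agent.AbsApprox.isLimitClosedCone f (Ω.ι ≫ t) g h5,
    fun L => ?_, fun L L' a => Groth.Agent.AbsApprox.isClosedImmersion_closedDiagram_map (Ω.ι ≫ t) g a, ⟨Iso.refl _⟩⟩
  haveI hcl : IsClosedImmersion ((Groth.Agent.LimClosed.diagram g.ker).obj L).hom := inferInstance
  haveI := Groth.Agent.AbsApprox.lfp_closedDiagram (Ω.ι ≫ t) g L
  let D := Groth.Agent.AbsApprox.closedDiagram (Ω.ι ≫ t) g
  haveI : CompactSpace (D.obj L).left :=
    QuasiCompact.compactSpace_of_compactSpace ((Groth.Agent.LimClosed.diagram g.ker).obj L).hom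
  haveI : QuasiSeparatedSpace (D.obj L).left :=
    quasiSeparatedSpace_of_quasiSeparated ((Groth.Agent.LimClosed.diagram g.ker).obj L).hom
  exact ⟨inferInstance, quasiCompact_of_compactSpace _, QuasiSeparated.of_quasiSeparatedSpace _, inferInstance, inferInstance⟩

end Groth.Agent.S7380
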