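import Groth.Statements.S9220
import Groth.Agent.S9189
import Groth.Agent.S0591
import Groth.Agent.AbsApprox.PairLim

set_option autoImplicit false
universe u
open CategoryTheory Limits AlgebraicGeometry Opposite
open Lim

namespace Groth.Agent.S9220

/-- Let S = lim S_i be a cofiltered limit of quasi-compact quasi-separated schemes with affine
transition morphisms, and let I be a quasi-coherent sheaf of ideals of finite type on S (its ideal
of sections on every affine open is finitely generated). Then for some index i there is a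
quasi-coherent sheaf of ideals of finite type I_i on S_i such that I = I_i · O_S, the pullback ideal
sheaf along S → S_i. -/
theorem result {I : Type u} [SmallCategory I] [IsCofiltered I]
    (D : I ⥤ Scheme.{u}) (c : Limits.Cone D) (hc : Limits.IsLimit c)
    [∀ (i j : I) (f : i ⟶ j), IsAffineHom (D.map f)] [∀ i, CompactSpace (D.obj i)]
    [∀ i, QuasiSeparatedSpace (D.obj i)] (J : c.pt.IdealSheafData)
    (hJ : ∀ U : c.pt.affineOpens, (J.ideal U).FG) :
    ∃ (i : I) (Ji : (D.obj i).IdealSheafData), (∀ U : (D.obj i).affineOpens, (Ji.ideal U).FG) ∧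
      Ji.comap (c.π.app i) = J := by
  haveI hA : ∀ {i j : I} (f : i ⟶ j), IsAffineHom (D.map f) := fun {i j} f => inferInstance
  haveI : LocallyOfFinitePresentation J.subschemeι := Groth.Agent.GrpdFit.lfp_subschemeι J fun x => by
    obtain ⟨U, hU, hxU, -⟩ := exists_isAffineOpen_mem_and_subset (x := x) (U := (⊤ : c.pt.Opens)) trivial
    exact ⟨⟨U, hU⟩, hxU, hJ _⟩
  obtain ⟨i, X₀, f₀, g, hf1, hf2, hf3, hX₀⟩ := Groth.Agent.S0591.result D c hc J.subscheme J.subschemeι
  haveI : CompactSpace X₀ := QuasiCompact.compactSpace_of_compactSpace f₀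
  haveI : QuasiSeparatedSpace X₀ := quasiSeparatedSpace_of_quasiSeparated f₀
  obtain ⟨i', φ, X₁, Y₁, f₁, g₁, pY, pX, hY₁, hX₁, hc₁⟩ := Groth.Agent.S9189.result D c hc i f₀ (𝟙 (D.obj i))
    J.subschemeι (𝟙 c.pt) (c.π.app i) g (IsPullback.of_vert_isIso ⟨by simp⟩) hX₀
  haveI : IsIso g₁ := MorphismProperty.of_isPullback (P := MorphismProperty.isomorphisms Scheme.{u}) hY₁
    (inferInstanceAs (IsIso (𝟙 (D.obj i))))
  let h : X₁ ⟶ D.obj i' := f₁ ≫ g₁
  have hh : IsPullback pX h f₀ (D.map φ) := by
    have h1 := hX₁.paste_vert hY₁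
    rwa [Category.comp_id] at h1
  haveI : IsClosedImmersion h := by haveI := hc₁; infer_instance
  haveI : LocallyOfFinitePresentation h := MorphismProperty.of_isPullback hh hf1
  refine ⟨i', h.ker, fun U => Groth.Agent.AbsApprox.fg_ker_ideal_of_lfp h U, ?_⟩
  let q := hh.lift g (J.subschemeι ≫ c.π.app i') (by rw [Category.assoc, c.w]; exact hX₀.w)
  have hq : IsPullback q J.subschemeι h (c.π.app i') := IsPullback.of_right
    (by rw [hh.lift_fst, c.w]; exact hX₀) (hh.lift_snd _ _ _) hh
  rw [← Scheme.IdealSheafData.ker_fst_of_isClosedImmersion h, ← hq.flip.isoPullback_inv_fst,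
    Scheme.Hom.ker_comp_of_isIso, Scheme.IdealSheafData.ker_subschemeι]

end Groth.Agent.S9220
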