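import Groth.Statements.S19339
import Groth.Agent.EtRefine.Sch
import Groth.Agent.TwConst.EtaleNbhd

set_option autoImplicit false
universe u
open CategoryTheory CategoryTheory.Limits AlgebraicGeometry TopologicalSpace
open ModPair

namespace Groth.Agent.S19339

set_option backward.isDefEq.respectTransparency false in
/-- A flat morphism of finite presentation through `x` has, on an étale neighbourhood of its image with
trivial residue extension, a section after a surjective finite flat base change. -/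
lemma exists_section {T S : Scheme.{u}} (g : T ⟶ S) [Flat g] [LocallyOfFinitePresentation g] (x : T) :
    ∃ (S' V : Scheme.{u}) (e : S' ⟶ S) (π : V ⟶ S') (s' : S'), Etale e ∧ e s' = g x ∧
      IsIso (e.residueFieldMap s') ∧ IsFinite π ∧ Flat π ∧ Surjective π ∧
        ∃ r : V ⟶ T, r ≫ g = π ≫ e := by
  obtain ⟨U, hU, hsU, -⟩ := exists_isAffineOpen_mem_and_subset (x := g x) (U := ⊤) trivial
  obtain ⟨W, hW, hxW, hWU'⟩ := exists_isAffineOpen_mem_and_subset (x := x) (U := g ⁻¹ᵁ U) hsU
  have hWU : W ≤ g ⁻¹ᵁ U := hWU'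
  let : Algebra Γ(S, U) Γ(T, W) := (g.appLE U W hWU).hom.toAlgebra
  haveI : Module.Flat Γ(S, U) Γ(T, W) := g.flat_appLE hU hW hWU
  haveI : Algebra.FinitePresentation Γ(S, U) Γ(T, W) := g.finitePresentation_appLE hU hW hWU
  let P : PrimeSpectrum Γ(T, W) := hW.primeIdealOf ⟨x, hxW⟩
  obtain ⟨A, _, _, hqf, hfl, hfp, ⟨χ⟩, Q, hQ, hQP⟩ :=
    Groth.Agent.QFDom.exists_dominating_at Γ(S, U) Γ(T, W) P.asIdeal
  let m : Spec (CommRingCat.of A) ⟶ Spec Γ(S, U) :=
    Spec.map (CommRingCat.ofHom (algebraMap Γ(S, U) A))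
  haveI : LocallyQuasiFinite m := by
    rw [HasRingHomProperty.Spec_iff (P := @LocallyQuasiFinite), CommRingCat.hom_ofHom,
      RingHom.quasiFinite_algebraMap]
    exact hqf
  haveI : LocallyOfFinitePresentation m := by
    rw [HasRingHomProperty.Spec_iff (P := @LocallyOfFinitePresentation), CommRingCat.hom_ofHom,
      RingHom.finitePresentation_algebraMap]
    exact hfp
  haveI : Flat m := by
    rw [HasRingHomProperty.Spec_iff (P := @Flat), CommRingCat.hom_ofHom, RingHom.flat_algebraMap_iff]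
    exact hfl
  let v : Spec Γ(S, U) := hU.primeIdealOf ⟨g x, hsU⟩
  have hm : Spec.map (CommRingCat.ofHom χ.toRingHom) ≫ hW.fromSpec ≫ g = m ≫ hU.fromSpec := by
    rw [← IsAffineOpen.SpecMap_appLE_fromSpec g hU hW hWU, ← Spec.map_comp_assoc]
    congr 2
    ext c
    exact χ.commutes c
  have hQv : m ⟨Q, hQ⟩ = v := by
    apply (Scheme.Hom.isOpenEmbedding hU.fromSpec).injective
    rw [hU.fromSpec_primeIdealOf]
    have : m ⟨Q, hQ⟩ = (Spec.map (g.appLE U W hWU)) P := PrimeSpectrum.ext hQP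
    rw [this, ← Scheme.Hom.comp_apply, IsAffineOpen.SpecMap_appLE_fromSpec g hU hW hWU,
      Scheme.Hom.comp_apply, hW.fromSpec_primeIdealOf]
  obtain ⟨E, e, w, he, hew, hres, V, -, hVfin, hVmem⟩ :=
    Groth.Agent.TwConst.exists_nbhd_finite_fibre m v (m.finite_preimage_singleton v)
  haveI := he
  haveI := hres
  obtain ⟨z, hzQ, hzu⟩ := Scheme.Pullback.exists_preimage_pullback
    (f := m) (g := e) ⟨Q, hQ⟩ w (hQv.trans hew.symm)
  let π₀ : (V : Scheme.{u}) ⟶ E := V.ι ≫ pullback.snd m e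
  haveI : IsFinite π₀ := hVfin
  haveI : Flat π₀ := inferInstanceAs (Flat (_ ≫ _))
  haveI : LocallyOfFinitePresentation π₀ := inferInstanceAs (LocallyOfFinitePresentation (_ ≫ _))
  let S' : E.Opens := ⟨Set.range π₀, π₀.isOpenMap.isOpen_range⟩
  have hwS : w ∈ S' := ⟨⟨z, hVmem z hzu⟩, hzu⟩
  have hres' : IsIso (e.residueFieldMap (S'.ι ⟨w, hwS⟩)) := hres
  refine ⟨S', (π₀ ⁻¹ᵁ S' : V.toScheme.Opens), S'.ι ≫ e ≫ hU.fromSpec, π₀ ∣_ S', ⟨w, hwS⟩,
    inferInstance, ?_, ?_,
    MorphismProperty.of_isPullback (isPullback_morphismRestrict π₀ S').flip hVfin,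
    MorphismProperty.of_isPullback (isPullback_morphismRestrict π₀ S').flip ‹Flat π₀›, ⟨fun y => ?_⟩,
    (π₀ ⁻¹ᵁ S').ι ≫ V.ι ≫ pullback.fst m e ≫ Spec.map (CommRingCat.ofHom χ.toRingHom) ≫ hW.fromSpec, ?_⟩
  · change hU.fromSpec (e w) = g x
    rw [hew, hU.fromSpec_primeIdealOf]
  · rw [Scheme.residueFieldMap_comp, Scheme.residueFieldMap_comp]
    infer_instance
  · obtain ⟨y', hy'⟩ := y.2
    refine ⟨⟨y', show π₀ y' ∈ S' from hy' ▸ y.2⟩, Subtype.ext ?_⟩
    rw [morphismRestrict_base]
    exact hy'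
  · simp only [Category.assoc, hm, morphismRestrict_ι_assoc, π₀]
    rw [pullback.condition_assoc]


/-- Let X be a scheme and (w_j : W_j ⟶ X) an fppf covering, i.e. a jointly surjective family of
morphisms each of which is flat and of finite presentation (locally of finite presentation,
quasi-compact and quasi-separated). Then it is refined by a family of composites V_k ⟶ U_k ⟶ X in
which the u_k : U_k ⟶ X are étale morphisms such that every point of X is the image of a point of
some U_k with trivial residue field extension, and the v_k : V_k ⟶ U_k are finite, flat and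
surjective: each composite v_k ≫ u_k factors through some w_j. (The covering condition on the family
(u_k) is stated here pointwise, every point lifting to some U_k with the same residue field; a
Nisnevich covering in the stronger sense with members of finite presentation and a finite splitting
stratification is not asserted.) -/
theorem result {X : Scheme.{u}}
    {ι : Type u} (W : ι → Scheme.{u}) (w : ∀ j, W j ⟶ X)
    (hw : Presieve.ofArrows W w ∈
      Scheme.precoverage (@Flat ⊓ @LocallyOfFinitePresentation ⊓ @QuasiCompact ⊓ @QuasiSeparated) X) :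
    ∃ (κ : Type u) (U V : κ → Scheme.{u}) (u : ∀ k, U k ⟶ X) (v : ∀ k, V k ⟶ U k),
      (∀ k, Etale (u k)) ∧
        (∀ x : X, ∃ (k : κ) (y : U k), (u k).base y = x ∧ IsIso ((u k).residueFieldMap y)) ∧
        (∀ k, IsFinite (v k) ∧ Flat (v k) ∧ Surjective (v k)) ∧
        ∀ k, ∃ (j : ι) (r : V k ⟶ W j), r ≫ w j = v k ≫ u k := by
  obtain ⟨hcov, hP⟩ := (Scheme.ofArrows_mem_precoverage_iff _).mp hw
  have h : ∀ x : X, ∃ (U V : Scheme.{u}) (u : U ⟶ X) (v : V ⟶ U) (y : U), Etale u ∧ u y = x ∧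
      IsIso (u.residueFieldMap y) ∧ IsFinite v ∧ Flat v ∧ Surjective v ∧
      ∃ (j : ι) (r : V ⟶ W j), r ≫ w j = v ≫ u := by
    intro x
    obtain ⟨j, z, rfl⟩ := hcov x
    haveI : Flat (w j) := (hP j).1.1.1
    haveI : LocallyOfFinitePresentation (w j) := (hP j).1.1.2
    obtain ⟨U, V, u, v, y, h1, h2, h3, h4, h5, h6, r, hr⟩ := exists_section (w j) z
    exact ⟨U, V, u, v, y, h1, h2, h3, h4, h5, h6, j, r, hr⟩
  choose U V u v y hu hy hres hfin hfl hsurj j r hr using h
  exact ⟨X, U, V, u, v, hu, fun x => ⟨x, y x, hy x, hres x⟩,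
    fun k => ⟨hfin k, hfl k, hsurj k⟩, fun k => ⟨j k, r k, hr k⟩⟩

end Groth.Agent.S19339
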