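import Groth.Statements.S13070
import Groth.Agent.PointCount.Basic

set_option autoImplicit false
universe u
open CategoryTheory AlgebraicGeometry
open Zeta

namespace Groth.Agent.S13070

/-- For an arithmetic scheme X (of finite type over ℤ) of dimension r there are c_X > 0 and p₀ such that
#X(F_{p^m}) ≤ c_X p^{m(r−1)} for all primes p ≥ p₀ and m ≥ 1, and #X(F_{p^m}) ≤ c_X p^{mr} for p <
p₀ and m ≥ 1. Here #X(F) is the number of morphisms Spec F → X, and the dimension is only assumed ≤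
r. -/
theorem result {X : Scheme.{u}}
    (f : X ⟶ Spec (CommRingCat.of (ULift.{u} ℤ))) [LocallyOfFiniteType f] [QuasiCompact f] (r : ℕ)
    (hr : topologicalKrullDim X ≤ r) :
    ∃ (c : ℝ) (p₀ : ℕ), 0 < c ∧ ∀ (p m : ℕ), p.Prime → 1 ≤ m →
      ∀ (F : Type u) [Field F], Nat.card F = p ^ m →
        (p₀ ≤ p → (Nat.card (Spec (CommRingCat.of F) ⟶ X) : ℝ) ≤
            c * (p : ℝ) ^ ((m : ℝ) * ((r : ℝ) - 1))) ∧
        (p < p₀ → (Nat.card (Spec (CommRingCat.of F) ⟶ X) : ℝ) ≤ c * (p : ℝ) ^ ((m : ℝ) * r)) := by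
  classical
  obtain ⟨hcpt⟩ : Nonempty (CompactSpace X) := ⟨(quasiCompact_iff_compactSpace f).mp inferInstance⟩
  obtain ⟨T, hT⟩ := isCompact_univ.elim_finite_subcover
    (fun U : X.affineOpens => ((U : X.Opens) : Set X)) (fun U => U.1.isOpen)
    (fun x _ => by
      obtain ⟨U, hU, hx, -⟩ := exists_isAffineOpen_mem_and_subset (U := ⊤) (x := x) trivial
      exact Set.mem_iUnion.mpr ⟨⟨U, hU⟩, hx⟩)
  have hft : ∀ U : X.affineOpens, Algebra.FiniteType ℤ Γ(X, U) := by
    intro U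
    have h := f.finiteType_appLE (U := ⊤) (isAffineOpen_top _) U.2 (by simp)
    let e₁ : ℤ →+* Γ(Spec (CommRingCat.of (ULift.{u} ℤ)), ⊤) :=
      (Scheme.ΓSpecIso (CommRingCat.of (ULift.{u} ℤ))).inv.hom.comp
        (ULift.ringEquiv (R := ℤ)).symm.toRingHom
    have he : Function.Surjective e₁ :=
      ((Scheme.ΓSpecIso (CommRingCat.of (ULift.{u} ℤ))).symm.commRingCatIsoToRingEquiv.surjective).comp
        (ULift.ringEquiv (R := ℤ)).symm.surjective
    have h2 := h.comp (RingHom.FiniteType.of_surjective e₁ he)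
    rw [show (f.appLE ⊤ U.1 (by simp)).hom.comp e₁ = algebraMap ℤ Γ(X, U) from RingHom.ext_int _ _]
      at h2
    exact RingHom.finiteType_algebraMap.mp h2
  have hdim : ∀ U : X.affineOpens, ringKrullDim Γ(X, U) ≤ r := by
    intro U
    rw [← PrimeSpectrum.topologicalKrullDim_eq_ringKrullDim]
    exact le_trans (U.2.fromSpec.isOpenEmbedding.isInducing.topologicalKrullDim_le) hr
  choose N D hN hD using fun U : X.affineOpens =>
    haveI := hft U
    Groth.Agent.PointCount.generic_bound Γ(X, U) r (hdim U)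
  let p₀ : ℕ := (∏ U ∈ T, N U).natAbs + 1
  have hsp : ∀ (U : X.affineOpens) (p : ℕ), ∃ E : ℕ, p.Prime → ∀ (F : Type u) [Field F] [Finite F],
      CharP F p → ∃ s : ℕ, s ≤ r ∧ Nat.card (Γ(X, U) →+* F) ≤ E * Nat.card F ^ s := by
    intro U p
    by_cases hp : p.Prime
    · haveI := hft U
      haveI := Fact.mk hp
      obtain ⟨E, hE⟩ := Groth.Agent.PointCount.special_bound Γ(X, U) r (hdim U) p
      exact ⟨E, fun _ => hE⟩
    · exact ⟨0, fun h => absurd h hp⟩
  choose E hE using hsp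
  let C : ℕ := 1 + ∑ U ∈ T, (D U + ∑ p ∈ Finset.range p₀, E U p)
  refine ⟨C, p₀, by positivity, fun p m hp hm F _ hF => ?_⟩
  haveI : Finite F := (Nat.card_pos_iff.mp (hF ▸ pow_pos hp.pos m)).2
  haveI : Fintype F := Fintype.ofFinite F
  have hchar : CharP F p := by
    haveI := Fact.mk hp
    exact charP_of_card_eq_prime_pow (f := m) (Nat.card_eq_fintype_card (α := F) ▸ hF)
  have hfin : ∀ U : X.affineOpens, Finite (Γ(X, U) →+* F) := fun U => by
    haveI := hft U
    obtain ⟨gen, hgen⟩ := (inferInstance : Algebra.FiniteType ℤ Γ(X, U)).out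
    exact Groth.Agent.PointCount.finite_hom gen
      (Groth.Agent.PointCount.closure_of_adjoin _ hgen) F
  have hle : Nat.card (Spec (CommRingCat.of F) ⟶ X) ≤
      ∑ U ∈ T, Nat.card (Γ(X, U) →+* F) := by
    let g : (Σ U : T, (Γ(X, U.1) →+* F)) → (Spec (CommRingCat.of F) ⟶ X) :=
      fun x => Spec.map (CommRingCat.ofHom x.2) ≫ x.1.1.2.fromSpec
    have hg : Function.Surjective g := by
      intro φ
      let pt : Spec (CommRingCat.of F) := (⟨⊥, Ideal.isPrime_bot⟩ : PrimeSpectrum F)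
      obtain ⟨U, hU, hx⟩ : ∃ U ∈ T, φ pt ∈ (U : X.affineOpens).1 := by
        simpa using hT (Set.mem_univ (φ pt))
      have hr' : Set.range φ ⊆ Set.range U.2.fromSpec := by
        rintro _ ⟨z, rfl⟩
        rw [U.2.range_fromSpec]
        haveI : Subsingleton (Spec (CommRingCat.of F)) :=
          inferInstanceAs (Subsingleton (PrimeSpectrum F))
        rwa [Subsingleton.elim z pt]
      refine ⟨⟨⟨U, hU⟩, (Spec.preimage (IsOpenImmersion.lift U.2.fromSpec φ hr')).hom⟩, ?_⟩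
      show Spec.map (CommRingCat.ofHom _) ≫ _ = φ
      rw [CommRingCat.ofHom_hom, Spec.map_preimage, IsOpenImmersion.lift_fac]
    refine (Nat.card_le_card_of_surjective g hg).trans (le_of_eq ?_)
    rw [Nat.card_sigma, Finset.sum_coe_sort T (fun U => Nat.card (Γ(X, U) →+* F))]
  have hq : ((Nat.card F : ℕ) : ℝ) = (p : ℝ) ^ (m : ℝ) := by
    rw [hF]; push_cast; rw [Real.rpow_natCast]
  have hq1 : (1 : ℝ) ≤ (Nat.card F : ℝ) := by exact_mod_cast Nat.one_le_iff_ne_zero.mpr (by simp)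
  have key : ∀ (e : ℝ) (K : X.affineOpens → ℕ), (∀ U ∈ T,
      (Nat.card (Γ(X, U) →+* F) : ℝ) ≤ K U * (p : ℝ) ^ ((m : ℝ) * e)) → (∑ U ∈ T, K U ≤ C) →
      (Nat.card (Spec (CommRingCat.of F) ⟶ X) : ℝ) ≤ C * (p : ℝ) ^ ((m : ℝ) * e) := by
    intro e K hK hKC
    calc (Nat.card (Spec (CommRingCat.of F) ⟶ X) : ℝ)
        ≤ ∑ U ∈ T, (Nat.card (Γ(X, U) →+* F) : ℝ) := by exact_mod_cast hle
      _ ≤ ∑ U ∈ T, (K U : ℝ) * (p : ℝ) ^ ((m : ℝ) * e) := Finset.sum_le_sum hK
      _ = ((∑ U ∈ T, K U : ℕ) : ℝ) * (p : ℝ) ^ ((m : ℝ) * e) := by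
          push_cast; rw [Finset.sum_mul]
      _ ≤ _ := mul_le_mul_of_nonneg_right (by exact_mod_cast hKC) (by positivity)
  have bound : ∀ (n K s : ℕ) (e : ℝ), n ≤ K * Nat.card F ^ s → (s : ℝ) ≤ e →
      (n : ℝ) ≤ K * (p : ℝ) ^ ((m : ℝ) * e) := by
    intro n K s e hn hse
    refine le_trans (Nat.cast_le.mpr hn) ?_
    push_cast
    refine mul_le_mul_of_nonneg_left ?_ (by positivity)
    rw [Real.rpow_mul (by positivity), ← hq, ← Real.rpow_natCast]
    exact Real.rpow_le_rpow_of_exponent_le hq1 hse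
  constructor
  · intro hp₀
    refine key _ D (fun U hU => ?_) ?_
    · have hNF : ((N U : ℤ) : F) ≠ 0 := by
        rw [Ne, CharP.intCast_eq_zero_iff F p, Int.natCast_dvd]
        intro hdvd
        have h1 : (N U).natAbs ∣ (∏ V ∈ T, N V).natAbs :=
          Int.natAbs_dvd_natAbs.mpr (Finset.dvd_prod_of_mem _ hU)
        by_cases h0 : ∏ V ∈ T, N V = 0
        · obtain ⟨V, -, hV⟩ := Finset.prod_eq_zero_iff.mp h0
          exact hN V hV
        · have := Nat.le_of_dvd (Int.natAbs_pos.mpr h0) (hdvd.trans h1)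
          omega
      obtain ⟨s, hs | hs⟩ := hD U F hNF
      · refine bound _ _ _ _ hs.2 ?_
        have : ((s + 1 : ℕ) : ℝ) ≤ r := by exact_mod_cast hs.1
        push_cast at this; linarith
      · rw [hs]; push_cast; positivity
    · exact le_add_left (Finset.sum_le_sum fun U _ => le_add_right le_rfl)
  · intro hp₀
    refine key _ (fun U => E U p) (fun U hU => ?_) ?_
    · obtain ⟨s, hs, hs'⟩ := hE U p hp F hchar
      exact bound _ _ _ _ hs' (by exact_mod_cast hs)
    · exact le_add_left (Finset.sum_le_sum fun U _ => le_add_left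
        (Finset.single_le_sum (fun i _ => Nat.zero_le (E U i)) (Finset.mem_range.mpr hp₀)))

end Groth.Agent.S13070
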