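import Groth.Statements.S12271
import Groth.Agent.LHilb.ObsTheoryHilb
import Groth.Agent.LHilb.ProRepTangent
import Groth.Agent.LHilb.ImmIso
import Groth.Agent.LHilb.Rigid
import Groth.Agent.S12268
import Groth.Agent.Chow.Core
import Groth.Agent.CurveRR.Curve
import Groth.Agent.Devissage.Piece
import Groth.Agent.FrobSplit.Finrank
import Groth.Agent.S9524
import Groth.Agent.QC.Pullback

set_option autoImplicit false
universe u
open CategoryTheory CategoryTheory.Limits AlgebraicGeometry
attribute [local instance] HasDerivedCategory.standard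
open Deform

namespace Groth.Agent.S12271

/-- Let k be an algebraically closed field, Y a separated k-scheme of finite type and i : X → Y a
regular closed immersion over k (its ideal is locally generated by a regular sequence) with X
projective over k; let N = Hom_{O_X}(I/I², O_X) be the normal sheaf (sheaf Hom of the conormal sheaf
of i, as a right adjoint, assumed to exist). Let R̄ be a complete local Noetherian k-algebra with
residue field k prorepresenting the local Hilbert functor of X in Y (closed subschemes of Y ×_k Spec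
A flat over A restricting to X, X ⊆ Y given by the kernel ideal of i), i.e. carrying a universal
family — the formal universal deformation of X in Y. Then dim R̄ ≤ h⁰(X, N); h⁰(X, N) ≤ dim R̄ +
h¹(X, N); and dim R̄ = h⁰(X, N) if and only if X is unobstructed in Y, i.e. the local Hilbert
functor takes every surjection B → A of local Artinian k-algebras with residue field k to a
surjective map. (The published statement writes the second bound as h⁰(N) − h¹(N) ≤ dim R̄.) -/
theorem result
    {k : Type u} [Field k] [IsAlgClosed k] (Y : Scheme.{u}) (y : Y ⟶ Spec (CommRingCat.of k))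
    [LocallyOfFiniteType y] [IsSeparated y] [QuasiCompact y]
    (X : Scheme.{u}) [X.Over (Spec (CommRingCat.of k))] (i : X ⟶ Y) [IsClosedImmersion i] (hi : i ≫ y = X ↘ (Spec (CommRingCat.of k)))
    (hreg : Mor2.IsRegularClosedImmersion i)
    (hproj : ∃ (n : ℕ) (c : X ⟶ CohB1.ProjSpaceOver n (Spec (CommRingCat.of k))),
      IsClosedImmersion c ∧ c ≫ CohB1.ProjSpaceOver.toBase n (Spec (CommRingCat.of k)) = X ↘ (Spec (CommRingCat.of k)))
    [DCoh.HasSheafHom (Omega.conormal i)]
    (R : ArtFun.ProRep (ArtFun.localHilb Y y i.ker)) :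
    ringKrullDim R.ring.carrier ≤ ((Module.finrank k (Coh.HH X ((DCoh.sheafHom (Omega.conormal i)).obj (Coh.structureModule X)) 0) : ℕ∞) : WithBot ℕ∞) ∧
      ((Module.finrank k (Coh.HH X ((DCoh.sheafHom (Omega.conormal i)).obj (Coh.structureModule X)) 0) : ℕ∞) : WithBot ℕ∞) ≤ ringKrullDim R.ring.carrier + ((Module.finrank k (Coh.HH X ((DCoh.sheafHom (Omega.conormal i)).obj (Coh.structureModule X)) 1) : ℕ∞) : WithBot ℕ∞) ∧
      (ringKrullDim R.ring.carrier = ((Module.finrank k (Coh.HH X ((DCoh.sheafHom (Omega.conormal i)).obj (Coh.structureModule X)) 0) : ℕ∞) : WithBot ℕ∞) ↔ ArtFun.IsSmoothFunctor (ArtFun.localHilb Y y i.ker)) := by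
  classical
  letI : i.ker.subscheme.Over (Spec (CommRingCat.of k)) := ⟨i.ker.subschemeι ≫ y⟩
  haveI : EnoughInjectives X.Modules := Groth.Agent.SerrePn.enoughInjectives
  haveI : HasExt.{u} X.Modules := hasExt_of_enoughInjectives _
  haveI : EnoughInjectives i.ker.subscheme.Modules := Groth.Agent.SerrePn.enoughInjectives
  haveI : HasExt.{u} i.ker.subscheme.Modules := hasExt_of_enoughInjectives _
  haveI : DCoh.HasSheafHom (Omega.conormal i.ker.subschemeι) := W7Hull.hasSheafHom_sch _
  have hI := LHilb.isH1Local_ker i hreg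
  have hfl : FlatMod.IsFinLocFree (Omega.conormal i) :=
    ConormalH1.isFinLocFree_conormal i ⟨inferInstance, fun z => by
      obtain ⟨U, hU, hz, rs, hrs, hker⟩ := hreg.2 z
      refine ⟨⟨U, hU⟩, hz, MorphismProperty.of_isPullback (isPullback_morphismRestrict i U).flip inferInstance,
        rs, ?_, (Scheme.Hom.ker_apply i ⟨U, hU⟩).symm.trans hker⟩
      refine KoszulLib.isH1Regular_of_acyclic (KoszulLib.acyclic_of_isWeaklyRegular' ?_)
      rw [List.ofFn_get]
      exact hrs.toIsWeaklyRegular⟩
  obtain ⟨eX0⟩ := SerrePn.ext_equiv_hh k (Omega.conormal i) hfl 0 (Coh.structureModule X)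
  obtain ⟨eX1⟩ := SerrePn.ext_equiv_hh k (Omega.conormal i) hfl 1 (Coh.structureModule X)
  obtain ⟨eZ0⟩ := SerrePn.ext_equiv_hh k (Omega.conormal i.ker.subschemeι)
    (LHilb.isFinLocFree_conormal_of_h1 _ hI) 0 (Coh.structureModule i.ker.subscheme)
  obtain ⟨g0⟩ := LHilb.nonempty_ext_conormal_equiv y i hi.symm rfl 0
  obtain ⟨g1⟩ := LHilb.nonempty_ext_conormal_equiv y i hi.symm rfl 1
  obtain ⟨g⟩ := LHilb.nonempty_obGrp_equiv (k := k) i.ker
  obtain ⟨eN⟩ := LHilb.nonempty_hh_linearEquiv y i.ker rfl
  -- finiteness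
  haveI : IsProper (X ↘ Spec (CommRingCat.of k)) := by
    obtain ⟨n, c, hc, hc'⟩ := hproj
    haveI := Chow.isProper_toBase n (Spec (CommRingCat.of k))
    rw [← hc']
    infer_instance
  haveI : IsLocallyNoetherian Y := LocallyOfFiniteType.isLocallyNoetherian y
  haveI : IsLocallyNoetherian X := LocallyOfFiniteType.isLocallyNoetherian i
  have hC : Coh.IsCoh (Omega.conormal i) := QC.isCoh_pullback _ (CurveRR.isCoh_idealMod _).1
  have hN := S9524.result X (Omega.conormal i) (Coh.structureModule X) hC (Devissage.isCoh_unit _)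
  haveI := CohFinite.finite_proper k X _ hN 1
  haveI : Module.Finite k (LHilb.ObGrp i.ker) :=
    Module.Finite.equiv (eX1.symm.trans (g1.trans g.symm))
  -- obstruction theory and tangent space
  obtain ⟨T⟩ := LHilb.hasObsTheory y (LinearEquiv.refl k (LHilb.ObGrp i.ker)) hI rfl
  obtain ⟨S⟩ := ArtKit.nonempty_tangentStr (LHilb.h0 y) (LHilb.heps y i.ker)
  letI := S
  obtain ⟨eT⟩ := LHilb.nonempty_tangent_linearEquiv (I₀ := i.ker) y
  obtain ⟨d, J, hJ, ⟨e⟩⟩ := Groth.Agent.ArtPow.exists_presentation R.ring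
  let q : MvPowerSeries (Fin d) k →ₐ[k] R.ring.carrier := e.toAlgHom.comp (Ideal.Quotient.mkₐ k J)
  have hq : Function.Surjective q := e.surjective.comp Ideal.Quotient.mk_surjective
  have hsq : RingHom.ker q ≤ IsLocalRing.maximalIdeal (MvPowerSeries (Fin d) k) ^ 2 := fun f hf => by
    refine hJ (Ideal.Quotient.eq_zero_iff_mem.1 (e.injective ?_))
    rw [map_zero]
    exact RingHom.mem_ker.1 hf
  have hm : RingHom.ker q.toRingHom ≤ IsLocalRing.maximalIdeal (MvPowerSeries (Fin d) k) :=
    fun f hf => Ideal.pow_le_self two_ne_zero (hsq hf)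
  have hd0 : Module.finrank k (Coh.HH X ((DCoh.sheafHom (Omega.conormal i)).obj (Coh.structureModule X)) 0) = d :=
    (((eX0.symm.trans g0).trans eZ0).trans eN.symm).finrank_eq.trans
      (eT.symm.finrank_eq.trans (LHilb.finrank_tangent_proRep (LHilb.isLeftExact y) (LHilb.h0 y) R q hq hsq))
  have hd1 : Module.finrank k (LHilb.ObGrp i.ker) =
      Module.finrank k (Coh.HH X ((DCoh.sheafHom (Omega.conormal i)).obj (Coh.structureModule X)) 1) :=
    ((g.trans g1.symm).trans eX1).finrank_eq
  rw [hd0]
  have hps := S12268.ringKrullDim_ps k d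
  have hle : ringKrullDim R.ring.carrier ≤ (d : WithBot ℕ∞) := hps ▸ ringKrullDim_le_of_surjective q.toRingHom hq
  have hver : ArtFun.IsVersal R.family := fun B A μ _ φ z hz => by
    obtain ⟨ψ, rfl⟩ := (R.universal B).2 z
    exact ⟨ψ, (R.universal A).1 ((R.family.natural μ ψ).trans hz), rfl⟩
  have hobs : ∀ (V : Type u) [AddCommGroup V] [Module k V] [Module.Finite k V],
      ArtFun.ObsTheory (ArtFun.localHilb Y y i.ker) V →
      (d : WithBot ℕ∞) ≤ ringKrullDim R.ring.carrier + (Module.finrank k V : WithBot ℕ∞) := by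
    intro V _ _ _ T
    obtain ⟨s, hs, hcard⟩ := Groth.Agent.ArtObs.exists_small_relations (R.ring.res.comp q) q hq rfl hsq
      R.family hver V T
    rw [← hps]
    exact (S12268.le_dim_add_card q.toRingHom hq hm s hs).trans (add_le_add le_rfl (Nat.cast_le.2 hcard))
  refine ⟨by exact_mod_cast hle, ?_, ?_, ?_⟩
  · have h := hobs _ T
    rw [hd1] at h
    exact_mod_cast h
  · intro hdim
    have hdim' : ringKrullDim R.ring.carrier = (d : WithBot ℕ∞) := by exact_mod_cast hdim
    have hinj : Function.Injective q := by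
      rw [injective_iff_map_eq_zero]
      intro x hx
      by_contra hne
      have h1 := ringKrullDim_succ_le_of_surjective q.toRingHom hq (mem_nonZeroDivisors_of_ne_zero hne) hx
      rw [hdim', hps] at h1
      have h2 : d + 1 ≤ d := by exact_mod_cast h1
      omega
    haveI : IsAdicComplete (IsLocalRing.maximalIdeal k) k := by
      rw [IsLocalRing.maximalIdeal_eq_bot]; infer_instance
    have hR : ArtFun.IsSmoothFunctor (ArtFun.hR R.ring.carrier R.ring.res) :=
      (Groth.Agent.S12722.result (fun c => ⟨c, rfl⟩) R.ring).2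
        ⟨d, ⟨(AlgEquiv.ofBijective q ⟨hinj, hq⟩).symm⟩⟩
    intro B A μ hμ z
    obtain ⟨φ, rfl⟩ := (R.universal A).2 z
    obtain ⟨ψ, rfl⟩ := hR μ hμ φ
    exact ⟨R.family.app B ψ, (R.family.natural μ ψ).symm⟩
  · intro hsm
    have h := hobs PUnit.{u+1}
      { obs := fun _ _ _ => 0
        obs_eq_zero_iff := fun p hp u => iff_of_true rfl (hsm p hp.1 u)
        obs_quot := fun _ _ _ _ _ _ _ => (map_zero _).symm }
    rw [Module.finrank_zero_of_subsingleton, Nat.cast_zero, add_zero] at h
    exact_mod_cast le_antisymm hle h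

end Groth.Agent.S12271
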