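import Groth.Statements.S7640
import Groth.Agent.DualGeneric.PushDeg
-- import your own Groth.Agent.* helpers here

set_option autoImplicit false
set_option backward.isDefEq.respectTransparency false
set_option backward.isDefEq.respectTransparency.types false
set_option maxHeartbeats 1000000
universe u
open CategoryTheory CategoryTheory.Limits AlgebraicGeometry
open Variety

namespace Groth.Agent.S7640

/-- Let k be a field, let X and Y be proper curves over k (integral, proper over k, of dimension one)
and let f : X → Y be a morphism over k that is not constant, i.e. sends the generic point of X to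
that of Y. For a finite locally free module E of rank n on Y, the degree of f^*E is deg(X/Y) ·
deg(E), where deg(X/Y) is the degree of the function field of X over that of Y. -/
theorem result (k : Type u) [Field k] (X Y : Scheme.{u})
    [X.Over (Spec (CommRingCat.of k))] [Y.Over (Spec (CommRingCat.of k))] [IsIntegral X] [IsIntegral Y]
    [IsProper (X ↘ (Spec (CommRingCat.of k)))] [IsProper (Y ↘ (Spec (CommRingCat.of k)))]
    (hX : topologicalKrullDim X = 1) (hY : topologicalKrullDim Y = 1)
    (f : X ⟶ Y) (hf : f ≫ (Y ↘ (Spec (CommRingCat.of k))) = X ↘ (Spec (CommRingCat.of k)))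
    (hξ : f.base (genericPoint X) = genericPoint Y)
    (n : ℕ) (E : Y.Modules) (hE : FlatMod.IsFinLocFreeOfRank n E) :
    Curv2.deg k X ((Scheme.Modules.pullback f).obj E) n =
      (f.residueDegree (genericPoint X) : ℤ) * Curv2.deg k Y E n := by
  haveI := CurveRR.isNoetherian_of_proper k X
  haveI : JacobsonSpace X := LocallyOfFiniteType.jacobsonSpace (X ↘ Spec (CommRingCat.of k))
  haveI : IsProper (f ≫ (Y ↘ Spec (CommRingCat.of k))) := by rw [hf]; infer_instance
  haveI : IsProper f := IsProper.of_comp f (Y ↘ Spec (CommRingCat.of k))
  have hne : ¬ IsClosed ({genericPoint Y} : Set Y) := fun hc => by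
    have hu : ({genericPoint Y} : Set Y) = Set.univ := by
      rw [← hc.closure_eq, ← genericPoint_spec Y |>.def]
    have : topologicalKrullDim ({genericPoint Y} : Set Y) ≤ 0 := topologicalKrullDim_zero_of_discreteTopology _
    rw [hu, IsHomeomorph.topologicalKrullDim_eq _ (Homeomorph.Set.univ Y).isHomeomorph, hY] at this
    exact absurd this (by decide)
  refine DualGeneric.deg_pullback k hX.le hY.le f hf hξ (fun y hy hm => hne ?_) (fun x' hx' => ?_) hE
  · have e : f (genericPoint X) = y := hm
    exact hξ ▸ e ▸ hy
  · by_contra hx
    refine hne ?_
    have hnm : genericPoint X ∉ closure ({x'} : Set X) := fun hm =>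
      hx (((genericPoint_spec X).specializes trivial).antisymm (specializes_iff_mem_closure.2 hm)).eq.symm
    have hcl : IsClosed ({x'} : Set X) := Intersect.isClosed_singleton_of_finite isClosed_closure
      (CurveRR.finite_of_dim_le_zero (k := k) isClosed_closure
        (CurveRR.dim_le_zero_of_closed hX.le isClosed_closure hnm)) (subset_closure rfl)
    have him := f.isClosedMap _ hcl
    rwa [Set.image_singleton, hx', hξ] at him

end Groth.Agent.S7640
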