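import Groth.Statements.S2978
import Mathlib

set_option autoImplicit false
universe u
open SGA3b

namespace Groth.Agent.S2978

/-- Let A be a Noetherian ring, M a set and a : M × M → A a family vanishing off the diagonal which is a
finite sum of decomposable families: a(m, m') = Σ_i b_i(m) c_i(m') for finitely many b_i, c_i : M →
A. Then a has finite support. -/
theorem result (A : Type u) [CommRing A] [IsNoetherianRing A] (M : Type u)
    (a : M × M → A) (hdiag : ∀ m m', m ≠ m' → a (m, m') = 0)
    (ι : Type u) [Fintype ι] (b c : ι → M → A) (hdec : ∀ m m', a (m, m') = ∑ i, b i m * c i m') :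
    Set.Finite {p : M × M | a p ≠ 0} := by
  classical
  obtain ⟨s, hs⟩ := (IsNoetherian.noetherian (Submodule.span A (Set.range fun m => fun i => b i m)) :
    (Submodule.span A (Set.range fun m => fun i => b i m)).FG)
  have hsub : ∀ x ∈ s, ∃ F : Finset M, x ∈ Submodule.span A ((fun m => fun i => b i m) '' (F : Set M)) := fun x hx => by
    have hx2 : x ∈ Submodule.span A (Set.range fun m => fun i => b i m) := hs ▸ Submodule.subset_span hx
    obtain ⟨T, hT, hxT⟩ := Submodule.mem_span_finite_of_mem_span hx2
    choose g hg using fun y : T => hT y.2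
    refine ⟨Finset.univ.image g, Submodule.span_mono ?_ hxT⟩
    intro y hy
    exact ⟨g ⟨y, hy⟩, by simp, hg ⟨y, hy⟩⟩
  choose F hF using hsub
  let G : Finset M := s.attach.biUnion fun x => F x.1 x.2
  refine Set.Finite.subset (Finset.finite_toSet (G.image fun m => (m, m))) ?_
  rintro ⟨m, m'⟩ hp
  have hmm : m = m' := by_contra fun h => hp (hdiag m m' h)
  subst hmm
  simp only [Finset.coe_image, Set.mem_image, Finset.mem_coe, Prod.mk.injEq]
  refine ⟨m, by_contra fun hmG => hp ?_, rfl, rfl⟩
  let Φ : (ι → A) →ₗ[A] A := ∑ i, c i m • LinearMap.proj i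
  have hΦ : ∀ m', Φ (fun i => b i m') = a (m', m) := fun m' => by
    simp [Φ, hdec, mul_comm]
  have hle : Submodule.span A (Set.range fun m => fun i => b i m) ≤ LinearMap.ker Φ := by
    rw [← hs, Submodule.span_le]
    intro x hx
    refine (Submodule.span_le.2 ?_) (hF x hx)
    rintro _ ⟨y, hy, rfl⟩
    show Φ _ = 0
    rw [hΦ]
    exact hdiag y m fun h => hmG (Finset.mem_biUnion.2 ⟨⟨x, hx⟩, Finset.mem_attach _ _, h ▸ hy⟩)
  rw [← hΦ]
  exact hle (Submodule.subset_span ⟨m, rfl⟩)

end Groth.Agent.S2978
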