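import Groth.Statements.S4612
-- import your own Groth.Agent.* helpers here
import Groth.Agent.EGA41Nagata.Gradient
import Groth.Agent.EGA41Nagata.Generic
import Groth.Agent.EGA41Nagata.Cotangent
import Groth.Agent.RegTrans.Basic
import Groth.Agent.CotT.RegQuot

set_option autoImplicit false
universe u
open IsLocalRing
open EGA41

namespace Groth.Agent.S4612

/-- Surjections with known kernel transport regularity. -/
theorem isLocalRing_quot {R S : Type u} [CommRing R] [CommRing S] [IsLocalRing S] (φ : R →+* S) (hφ : Function.Surjective φ)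
    {I : Ideal R} (hI : RingHom.ker φ = I) : IsLocalRing (R ⧸ I) := by
  subst hI
  exact (RingHom.quotientKerEquivOfSurjective hφ).symm.isLocalRing

/-- Surjections with known kernel transport regularity. -/
theorem isRegularLocalRing_image {R S : Type u} [CommRing R] [CommRing S] (φ : R →+* S) (hφ : Function.Surjective φ)
    {I : Ideal R} (hI : RingHom.ker φ = I) (h : IsRegularLocalRing (R ⧸ I)) : IsRegularLocalRing S := by
  subst hI
  haveI := h
  exact IsRegularLocalRing.of_ringEquiv (RingHom.quotientKerEquivOfSurjective hφ)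

/-- Surjections with known kernel transport regularity. -/
theorem isRegularRing_quot {R S : Type u} [CommRing R] [CommRing S] [IsRegularRing S] (φ : R →+* S)
    (hφ : Function.Surjective φ) {I : Ideal R} (hI : RingHom.ker φ = I) : IsRegularRing (R ⧸ I) := by
  subst hI
  exact IsRegularRing.of_ringEquiv (RingHom.quotientKerEquivOfSurjective hφ).symm

/-- Maps killing the maximal ideal factor through the residue field. -/
theorem exists_residue_lift {X : Type u} [CommRing X] [IsLocalRing X] {L : Type u} [Field L] (h : X →+* L)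
    (hz : ∀ z ∈ maximalIdeal X, h z = 0) : ∃ res : ResidueField X →+* L, ∀ x, res (residue X x) = h x :=
  ⟨Ideal.Quotient.lift (maximalIdeal X) h hz, fun _ => rfl⟩

/-- The residue field of the localised quotient maps to the fraction field. -/
theorem exists_res (k : Type u) [CommRing k] {A : Type u} [CommRing A] [Algebra k A] (q p : Ideal A) [p.IsPrime]
    (hqp : q ≤ p) [(p.map (Ideal.Quotient.mk q)).IsPrime] (L : Type u) [Field L] [Algebra (A ⧸ p) L]
    [IsFractionRing (A ⧸ p) L] :
    ∃ res : ResidueField (Localization.AtPrime (p.map (Ideal.Quotient.mk q))) →+* L,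
      ∀ c : k, res (residue _ (algebraMap k (Localization.AtPrime (p.map (Ideal.Quotient.mk q))) c)) =
        algebraMap (A ⧸ p) L (algebraMap k (A ⧸ p) c) := by
  let pb := p.map (Ideal.Quotient.mk q)
  let g0 : A ⧸ q →+* L := (algebraMap (A ⧸ p) L).comp (Ideal.Quotient.factor hqp)
  have hg0 : ∀ b, g0 b = 0 ↔ b ∈ pb := fun b => by
    obtain ⟨a, rfl⟩ := Ideal.Quotient.mk_surjective b
    show algebraMap (A ⧸ p) L (Ideal.Quotient.mk p a) = 0 ↔ _
    rw [map_eq_zero_iff _ (IsFractionRing.injective (A ⧸ p) L), Ideal.Quotient.eq_zero_iff_mem]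
    exact (Ideal.mem_quotient_iff_mem hqp).symm
  let h : Localization.AtPrime pb →+* L := IsLocalization.lift (M := pb.primeCompl) (g := g0) fun t =>
    isUnit_iff_ne_zero.mpr fun h => t.2 ((hg0 _).mp h)
  obtain ⟨res, hres⟩ := exists_residue_lift h fun z hz => by
    obtain ⟨b, t, rfl⟩ := IsLocalization.exists_mk'_eq pb.primeCompl z
    rw [IsLocalization.AtPrime.mk'_mem_maximal_iff (Localization.AtPrime pb) pb b t] at hz
    rw [IsLocalization.lift_mk', (hg0 b).mpr hz, zero_mul]
  refine ⟨res, fun c => ?_⟩
  rw [hres, IsScalarTower.algebraMap_apply k (A ⧸ q) (Localization.AtPrime pb), IsLocalization.lift_eq]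
  rfl

/-- Nagata's Jacobian criterion for quotients of power series rings: let k be a field, A = k[[T_1, …,
T_r]], q ⊆ p ideals of A with p prime, B = A/q. Suppose A/p contains a sub-k-algebra isomorphic to a
power series algebra k[[X_1, …, X_s]] over which A/p is finite and such that the fraction field L of
A/p is a separable extension of the fraction field L' of k[[X_1, …, X_s]]; here this is given as an
injective k-algebra map k[[X_1, …, X_s]] → A/p making A/p a finite module, with fraction fields L',
L and a compatible L'-algebra structure on L. Then the following are equivalent: B_p is formally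
smooth over k for the adic topology of its maximal ideal; there are k-derivations D_1, …, D_m of A
into itself and f_1, …, f_m ∈ q generating qA_p with det(D_i f_j) ∉ p; B_p is a regular local ring.
(The published statement remarks that the hypothesis on A/p always holds when k has characteristic
zero.) -/
theorem result {k : Type u} [Field k] (r : ℕ)
    (q p : Ideal (MvPowerSeries (Fin r) k)) [p.IsPrime] (hqp : q ≤ p) [(p.map (Ideal.Quotient.mk q)).IsPrime]
    (s : ℕ) [Algebra (MvPowerSeries (Fin s) k) (MvPowerSeries (Fin r) k ⧸ p)]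
    [IsScalarTower k (MvPowerSeries (Fin s) k) (MvPowerSeries (Fin r) k ⧸ p)]
    [Module.Finite (MvPowerSeries (Fin s) k) (MvPowerSeries (Fin r) k ⧸ p)]
    (hinj : Function.Injective (algebraMap (MvPowerSeries (Fin s) k) (MvPowerSeries (Fin r) k ⧸ p)))
    {L' L : Type u} [Field L'] [Field L]
    [Algebra (MvPowerSeries (Fin s) k) L'] [IsFractionRing (MvPowerSeries (Fin s) k) L']
    [Algebra (MvPowerSeries (Fin r) k ⧸ p) L] [IsFractionRing (MvPowerSeries (Fin r) k ⧸ p) L]
    [Algebra L' L] [Algebra (MvPowerSeries (Fin s) k) L]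
    [IsScalarTower (MvPowerSeries (Fin s) k) (MvPowerSeries (Fin r) k ⧸ p) L]
    [IsScalarTower (MvPowerSeries (Fin s) k) L' L] [Algebra.IsSeparable L' L] :
    [CAlgX.IsAdicFormallySmooth k (Localization.AtPrime (p.map (Ideal.Quotient.mk q)))
        (maximalIdeal (Localization.AtPrime (p.map (Ideal.Quotient.mk q)))),
     ∃ (m : ℕ) (D : Fin m → Derivation k (MvPowerSeries (Fin r) k) (MvPowerSeries (Fin r) k))
        (f : Fin m → MvPowerSeries (Fin r) k), (∀ i, f i ∈ q) ∧
        q.map (algebraMap (MvPowerSeries (Fin r) k) (Localization.AtPrime p)) =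
          Ideal.span (Set.range fun i => algebraMap (MvPowerSeries (Fin r) k) (Localization.AtPrime p) (f i)) ∧
        Matrix.det (Matrix.of fun i j => D i (f j)) ∉ p,
     IsRegularLocalRing (Localization.AtPrime (p.map (Ideal.Quotient.mk q)))].TFAE := by
  classical
  let A := MvPowerSeries (Fin r) k
  let P := MvPowerSeries (Fin s) k
  let π := Ideal.Quotient.mk q
  haveI : IsRegularRing A := RegTrans.isRegularRing_mvPowerSeries k r
  let R := Localization.AtPrime p
  haveI : IsRegularLocalRing R := IsRegularRing.isRegularLocalRing_localization p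
  let pb := p.map π
  let Bp := Localization.AtPrime pb
  haveI : IsNoetherianRing Bp := IsLocalization.isNoetherianRing pb.primeCompl Bp inferInstance
  have hcomap : p = pb.comap π := by
    rw [Ideal.comap_map_of_surjective _ Ideal.Quotient.mk_surjective, ← RingHom.ker_eq_comap_bot, Ideal.mk_ker,
      sup_eq_left.mpr hqp]
  have hmemp : ∀ a, π a ∈ pb ↔ a ∈ p := fun a => by rw [hcomap]; rfl
  let φ : R →+* Bp := Localization.localRingHom p pb π hcomap
  have hφa : ∀ a, φ (algebraMap A R a) = algebraMap _ Bp (π a) := fun a => Localization.localRingHom_to_map _ _ _ _ a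
  have hφs : Function.Surjective φ := fun z => by
    obtain ⟨b, t, rfl⟩ := IsLocalization.exists_mk'_eq pb.primeCompl z
    obtain ⟨a, rfl⟩ := Ideal.Quotient.mk_surjective b
    obtain ⟨t0, ht0⟩ := Ideal.Quotient.mk_surjective (t : A ⧸ q)
    refine ⟨IsLocalization.mk' R a (⟨t0, fun h => t.2 (ht0 ▸ (hmemp t0).mpr h)⟩ : p.primeCompl), ?_⟩
    rw [Localization.localRingHom_mk']
    congr 1
    exact Subtype.ext ht0
  have hφk : RingHom.ker φ = q.map (algebraMap A R) := by
    refine le_antisymm (fun z hz => ?_) (Ideal.map_le_iff_le_comap.mpr fun a ha => ?_)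
    · obtain ⟨a, t, rfl⟩ := IsLocalization.exists_mk'_eq p.primeCompl z
      have h : φ (algebraMap A R a) = 0 := by
        rw [← IsLocalization.mk'_spec R a t, map_mul, RingHom.mem_ker.mp hz, zero_mul]
      rw [hφa, IsLocalization.map_eq_zero_iff pb.primeCompl Bp] at h
      obtain ⟨⟨u, hu⟩, hua⟩ := h
      obtain ⟨u0, rfl⟩ := Ideal.Quotient.mk_surjective u
      rw [← map_mul, Ideal.Quotient.eq_zero_iff_mem] at hua
      have hu0 : IsUnit (algebraMap A R u0) := IsLocalization.map_units R
        (⟨u0, fun h => hu ((hmemp u0).mpr h)⟩ : p.primeCompl)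
      have h1 : algebraMap A R a ∈ q.map (algebraMap A R) := by
        refine (Ideal.unit_mul_mem_iff_mem (q.map (algebraMap A R)) hu0).mp ?_
        rw [← map_mul]
        exact Ideal.mem_map_of_mem _ hua
      rw [← IsLocalization.mk'_spec R a t] at h1
      exact (Ideal.mul_unit_mem_iff_mem _ (IsLocalization.map_units R t)).mp h1
    · show φ (algebraMap A R a) = 0
      rw [hφa, Ideal.Quotient.eq_zero_iff_mem.mpr ha, map_zero]
  obtain ⟨res, hres⟩ := exists_res k (A := A) q p hqp L
  tfae_have 1 → 3 := EGA41Adic.isRegularLocalRing_of_isAdicFormallySmooth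
  tfae_have 3 → 1 := fun h => EGA41Adic.isAdicFormallySmooth_iff.mpr
    ⟨h, EGA41Nagata.indep_fam k s L' L Bp res fun c => by
      rw [hres, IsScalarTower.algebraMap_apply k P (A ⧸ p), ← IsScalarTower.algebraMap_apply P (A ⧸ p) L]
      rfl⟩
  tfae_have 3 → 2 := by
    intro h
    haveI : IsRegularLocalRing Bp := h
    haveI : IsRegularRing Bp := CotT.isRegularRing_of_local Bp
    let G : Set R := algebraMap A R '' (q : Set A)
    have hG : G ⊆ maximalIdeal R := by
      rintro _ ⟨a, ha, rfl⟩
      exact (IsLocalization.AtPrime.to_map_mem_maximal_iff R p a).mpr (hqp ha)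
    have hGspan : Ideal.span G = q.map (algebraMap A R) := rfl
    haveI : IsRegularRing (R ⧸ Ideal.span G) := isRegularRing_quot (R := R) (S := Bp) φ hφs (hφk.trans hGspan.symm)
    obtain ⟨m, f', hf', hfG, hspan, hli⟩ := EGA41Nagata.exists_indep_generators G hG
    choose f hfq hff using hfG
    obtain rfl : (fun i => algebraMap A R (f i)) = f' := funext hff
    have hgrad : LinearIndependent L (fun i => EGA41Nagata.grad p L (f i)) :=
      EGA41Nagata.linearIndependent_grad p s L' L hinj f (fun i => hqp (hfq i)) hf' hli
    let M : Matrix (Fin m) (Fin r) L := Matrix.of fun i l => EGA41Nagata.grad p L (f i) l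
    have hrank : M.rank = m := by
      have := LinearIndependent.rank_matrix (M := M) hgrad
      rwa [Fintype.card_fin] at this
    obtain ⟨b, hbsub, hbspan, hbli⟩ := exists_linearIndependent L (Set.range M.col)
    haveI : Finite b := hbli.finite
    haveI := Fintype.ofFinite b
    have hb : Fintype.card b = m := by
      rw [← finrank_span_eq_card hbli, Subtype.range_coe, hbspan, ← M.rank_eq_finrank_span_cols, hrank]
    let eb : Fin m ≃ b := (Fintype.equivFinOfCardEq hb).symm
    choose cols hcols using fun i => hbsub (eb i).2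
    refine ⟨m, fun i => MvPowerSeries.pderiv k (cols i), f, hfq, hGspan.symm.trans hspan, fun hdet => ?_⟩
    let N : Matrix (Fin m) (Fin m) L := Matrix.of fun i j => EGA41Nagata.grad p L (f j) (cols i)
    have hN : LinearIndependent L N.row := by
      have h := hbli.comp eb eb.injective
      rwa [show N.row = (fun x : b => (x : Fin m → L)) ∘ eb from funext fun i => hcols i]
    have hNdet := (Matrix.isUnit_iff_isUnit_det N).mp (Matrix.linearIndependent_rows_iff_isUnit.mp hN)
    refine hNdet.ne_zero ?_
    let q' : A →+* L := (algebraMap (A ⧸ p) L).comp (Ideal.Quotient.mk p)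
    rw [show N = q'.mapMatrix (Matrix.of fun i j => MvPowerSeries.pderiv k (cols i) (f j)) from rfl,
      ← RingHom.map_det]
    show algebraMap (A ⧸ p) L (Ideal.Quotient.mk p _) = 0
    rw [Ideal.Quotient.eq_zero_iff_mem.mpr hdet, map_zero]
  tfae_have 2 → 3 := by
    rintro ⟨m, D, f, hfq, hspan, hdet⟩
    have hx : ∀ i, algebraMap A R (f i) ∈ maximalIdeal R := fun i =>
      (IsLocalization.AtPrime.to_map_mem_maximal_iff R p (f i)).mpr (hqp (hfq i))
    haveI : IsLocalRing (R ⧸ Ideal.span (Set.range fun i => algebraMap A R (f i))) :=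
      isLocalRing_quot (R := R) (S := Bp) φ hφs (hφk.trans hspan)
    haveI := EGA41Nagata.isRegularLocalRing_quotient_of_indep _ hx
      ((EGA41Quot.linearIndependent_toCotangent_iff _ hx).mpr fun a ha => ?_)
    · exact isRegularLocalRing_image (R := R) (S := Bp) φ hφs (hφk.trans hspan) inferInstance
    obtain ⟨t, ht⟩ := IsLocalization.exist_integer_multiples p.primeCompl (Finset.univ : Finset (Fin m)) a
    choose a' ha' using fun i : Fin m => ht i (Finset.mem_univ i)
    have h2 : algebraMap A R (∑ i, a' i * f i) ∈ (p ^ 2).map (algebraMap A R) := by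
      have h3 : algebraMap A R (∑ i, a' i * f i) = algebraMap A R t.1 * ∑ i, a i * algebraMap A R (f i) := by
        rw [map_sum, Finset.mul_sum]
        refine Finset.sum_congr rfl fun i _ => ?_
        rw [map_mul, ha', Algebra.smul_def]
        exact mul_assoc _ _ _
      rw [h3, Ideal.map_pow, Localization.AtPrime.map_eq_maximalIdeal]
      exact Ideal.mul_mem_left _ _ ha
    rw [IsLocalization.algebraMap_mem_map_algebraMap_iff p.primeCompl R] at h2
    obtain ⟨u, hu, huz⟩ := h2
    have hsum : ∀ l, ∑ i, a' i * D l (f i) ∈ p := fun l => by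
      have hD : D l (u * ∑ i, a' i * f i) ∈ p := by
        rw [pow_two] at huz
        refine Submodule.mul_induction_on huz (fun x hx y hy => ?_) fun x y hx hy => ?_
        · rw [Derivation.leibniz, smul_eq_mul, smul_eq_mul]
          exact add_mem (p.mul_mem_right _ hx) (p.mul_mem_right _ hy)
        · rw [map_add]; exact add_mem hx hy
      have hsf : ∑ i, a' i * f i ∈ p := sum_mem fun i _ => p.mul_mem_left _ (hqp (hfq i))
      rw [Derivation.leibniz, smul_eq_mul, smul_eq_mul, Submodule.add_mem_iff_left _ (p.mul_mem_right _ hsf)] at hD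
      have h4 := (Ideal.IsPrime.mem_or_mem inferInstance hD).resolve_left hu
      rw [map_sum] at h4
      have h5 : ∀ i, D l (a' i * f i) = a' i * D l (f i) + f i * D l (a' i) := fun i => by
        rw [Derivation.leibniz, smul_eq_mul, smul_eq_mul]
      simp only [h5, Finset.sum_add_distrib] at h4
      exact (Submodule.add_mem_iff_left _ (sum_mem fun i _ => p.mul_mem_right _ (hqp (hfq i)))).mp h4
    intro i
    let M : Matrix (Fin m) (Fin m) (A ⧸ p) := (Ideal.Quotient.mk p).mapMatrix (Matrix.of fun i j => D i (f j))
    have hM : M.det ≠ 0 := by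
      rw [← RingHom.map_det]
      exact fun h => hdet (Ideal.Quotient.eq_zero_iff_mem.mp h)
    have hv := Matrix.eq_zero_of_mulVec_eq_zero hM (v := fun i => Ideal.Quotient.mk p (a' i)) (funext fun l => by
      show ∑ j, Ideal.Quotient.mk p (D l (f j)) * Ideal.Quotient.mk p (a' j) = 0
      rw [← Ideal.Quotient.eq_zero_iff_mem.mpr (hsum l), map_sum]
      simp only [map_mul, mul_comm])
    have hai : algebraMap A R (a' i) ∈ maximalIdeal R :=
      (IsLocalization.AtPrime.to_map_mem_maximal_iff R p _).mpr (Ideal.Quotient.eq_zero_iff_mem.mp (congrFun hv i))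
    rw [ha', Algebra.smul_def] at hai
    exact (Ideal.unit_mul_mem_iff_mem _ (IsLocalization.map_units R t)).mp hai
  tfae_finish

end Groth.Agent.S4612
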