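import Groth.Statements.S2475
-- import your own Groth.Agent.* helpers here
import Groth.Agent.EGA41SymGr.Separate

set_option autoImplicit false
universe u
open EGA41

namespace Groth.Agent.S2475

/-- Let K be a field of characteristic p > 0, k₀ ⊆ K a subfield and (k_α) a decreasing filtered family
of subfields of K containing k₀. Then ⋂_α k_α(K^p) = k₀(K^p) if and only if the canonical map
Ω_{K/k₀} → lim_α Ω_{K/k_α} is injective (an element of Ω_{K/k₀} whose image in every Ω_{K/k_α}
vanishes is zero). (Conditions (b), (b') of the source, on admissible subfields, are not stated.) -/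
theorem result (p : ℕ) [Fact p.Prime] {k₀ K : Type u} [Field k₀] [Field K] [Algebra k₀ K] [CharP K p]
    {ι : Type u} [Preorder ι] [IsDirected ι (· ≤ ·)] [Nonempty ι] (k : ι → IntermediateField k₀ K) (hk : Antitone k) :
    (⨅ i, k i ⊔ IntermediateField.adjoin k₀ (Set.range fun y : K => y ^ p)) = IntermediateField.adjoin k₀ (Set.range fun y : K => y ^ p) ↔
      ∀ ω : Ω[K⁄k₀], (∀ i, KaehlerDifferential.map k₀ (k i) K K ω = 0) → ω = 0 := by
  classical
  haveI : CharP K p := ‹_›
  let P := (frobenius K p).fieldRange
  let F := IntermediateField.adjoin k₀ (Set.range fun y : K => y ^ p)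
  have hsub : ∀ (L : IntermediateField k₀ K), (L ⊔ F).toSubfield = L.toSubfield ⊔ P := fun L => by
    refine le_antisymm ?_ ?_
    · intro z hz
      let W : IntermediateField k₀ K := (L.toSubfield ⊔ P).toIntermediateField fun a =>
        Groth.Agent.EGA41SymGr.Separate.mem_supL (L.algebraMap_mem a)
      have hW : L ⊔ F ≤ W := sup_le (fun x hx => Groth.Agent.EGA41SymGr.Separate.mem_supL hx)
        (IntermediateField.adjoin_le_iff.mpr fun x hx => by
          obtain ⟨y, rfl⟩ := hx
          exact Groth.Agent.EGA41SymGr.Separate.mem_supR ⟨y, rfl⟩)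
      exact hW hz
    · exact sup_le (fun x hx => (le_sup_left : L ≤ L ⊔ F) hx)
        (fun x ⟨y, hy⟩ => (le_sup_right : F ≤ L ⊔ F) (IntermediateField.subset_adjoin _ _ ⟨y, hy⟩))
  have hDF : ∀ z ∈ F, KaehlerDifferential.D k₀ K z = 0 := fun z hz => by
    let W : Subalgebra k₀ K :=
      { carrier := {z | KaehlerDifferential.D k₀ K z = 0}
        mul_mem' := fun {a b} (ha : _ = 0) (hb : _ = 0) => show _ = 0 by rw [Derivation.leibniz, ha, hb]; simp
        add_mem' := fun {a b} (ha : _ = 0) (hb : _ = 0) => show _ = 0 by rw [map_add, ha, hb, add_zero]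
        algebraMap_mem' := fun a => show _ = 0 from Derivation.map_algebraMap _ a }
    let W' : IntermediateField k₀ K := W.toIntermediateField fun a (ha : _ = 0) => show _ = 0 by
      rw [Derivation.leibniz_inv, ha, smul_zero]
    exact (IntermediateField.adjoin_le_iff.mpr (by
      rintro _ ⟨y, rfl⟩
      exact Groth.Agent.EGA41SymGr.Separate.derivation_pow_eq_zero p (KaehlerDifferential.D k₀ K) y) : F ≤ W') hz
  constructor
  · intro hint ω hω
    have hmem : ω ∈ Submodule.span K (Set.range (KaehlerDifferential.D k₀ K)) := by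
      rw [KaehlerDifferential.span_range_derivation]; trivial
    obtain ⟨c, hc, hcω⟩ : ∃ c : Set K, c.Finite ∧ ω ∈ Submodule.span K (KaehlerDifferential.D k₀ K '' c) := by
      obtain ⟨T, hT, hTω⟩ := Submodule.mem_span_finite_of_mem_span hmem
      choose g hg using fun x : T => hT x.2
      refine ⟨Set.range g, Set.finite_range g, Submodule.span_mono ?_ hTω⟩
      intro x hx
      exact ⟨g ⟨x, hx⟩, Set.mem_range_self _, hg ⟨x, hx⟩⟩
    obtain ⟨b, hbc, hspan, hbind⟩ := exists_linearIndependent K (KaehlerDifferential.D k₀ K '' c)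
    have hb : b.Finite := (hc.image _).subset hbc
    choose g hg using fun x : b => hbc x.2
    haveI := hb.fintype
    have hgli : LinearIndependent K (fun x : b => KaehlerDifferential.D k₀ K (g x)) := by
      rw [show (fun x : b => KaehlerDifferential.D k₀ K (g x)) = Subtype.val from funext fun x => (hg x).2]
      exact hbind
    have hginj : Function.Injective g := fun x y h => Subtype.ext (by rw [← (hg x).2, ← (hg y).2, h])
    let s : Finset K := Finset.univ.image g
    have key : ∀ x : s, ∃ i, (x : K) ∉ (k i ⊔ F).toSubfield ⊔ Subfield.closure ((s : Set K) \ {(x : K)}) := by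
      intro x
      by_contra hcon
      push Not at hcon
      have h1 : (x : K) ∈ F.toSubfield ⊔ Subfield.closure ((s.erase x : Finset K) : Set K) :=
        Groth.Agent.EGA41SymGr.Separate.inf_adjoin_finset p (fun i => (k i ⊔ F).toSubfield)
          (fun i j h => show (k j ⊔ F) ≤ (k i ⊔ F) from sup_le_sup_right (hk h) _) F.toSubfield
          (fun i => show F ≤ k i ⊔ F from le_sup_right) (fun y => IntermediateField.subset_adjoin _ _ ⟨y, rfl⟩)
          (fun y hy => hint.le ((le_iInf fun i => IntermediateField.adjoin_simple_le_iff.mpr (hy i)) (IntermediateField.mem_adjoin_simple_self k₀ y)))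
          _ _ fun i => by
            rw [Finset.coe_erase]; exact hcon i
      have h2 := Groth.Agent.EGA41SymGr.Separate.mem_span_of_mem_closure (R := k₀) F.toSubfield hDF _ h1
      obtain ⟨x0, -, hx0⟩ := Finset.mem_image.mp x.2
      refine (linearIndependent_iff_notMem_span.mp hgli x0) ?_
      rw [hx0]
      refine Submodule.span_mono ?_ h2
      rintro _ ⟨y, hy, rfl⟩
      rw [Finset.coe_erase] at hy
      obtain ⟨y0, -, rfl⟩ := Finset.mem_image.mp hy.1
      exact ⟨y0, ⟨trivial, fun e => hy.2 (Set.mem_singleton_iff.mpr (by rw [Set.mem_singleton_iff.mp e, hx0]))⟩, rfl⟩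
    choose a ha using key
    obtain ⟨i, hi⟩ := Finset.exists_le (Finset.univ.image a)
    have hli : LinearIndependent K (fun x : s => KaehlerDifferential.D (k i) K (x : K)) :=
      Groth.Agent.EGA41SymGr.Separate.linearIndependent_D p (k i).toSubfield s fun x hx hmem => ha ⟨x, hx⟩ <| by
        have hle : (k i ⊔ F).toSubfield ≤ (k (a ⟨x, hx⟩) ⊔ F).toSubfield :=
          show (k i ⊔ F) ≤ k (a ⟨x, hx⟩) ⊔ F from sup_le_sup_right (hk (hi _ (Finset.mem_image_of_mem a (Finset.mem_univ _)))) _
        exact (sup_le_sup_right ((hsub (k i)).symm ▸ hle) _ : _ ≤ (k (a ⟨x, hx⟩) ⊔ F).toSubfield ⊔ _) hmem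
    have hli' : LinearIndependent K (fun x : b => KaehlerDifferential.D (k i) K (g x)) :=
      hli.comp (fun x => ⟨g x, Finset.mem_image_of_mem g (Finset.mem_univ _)⟩) fun x y h => hginj (congrArg Subtype.val h)
    rw [← hspan, ← Subtype.range_coe (s := b), Submodule.mem_span_range_iff_exists_fun] at hcω
    obtain ⟨l, hl⟩ := hcω
    have h3 := hω i
    rw [← hl, map_sum] at h3
    have h4 : ∀ x : b, KaehlerDifferential.map k₀ (k i) K K (l x • (x : Ω[K⁄k₀])) = l x • KaehlerDifferential.D (k i) K (g x) :=
      fun x => by rw [map_smul, ← (hg x).2, KaehlerDifferential.map_D]; rfl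
    simp only [h4] at h3
    rw [← hl]
    exact Finset.sum_eq_zero fun x _ => by rw [Fintype.linearIndependent_iff.mp hli' l h3 x, zero_smul]
  · intro hsep
    refine le_antisymm (fun y hy => ?_) (le_iInf fun i => le_sup_right)
    have h0 : KaehlerDifferential.D k₀ K y = 0 := hsep _ fun i => by
      rw [KaehlerDifferential.map_D]
      have hy' : y ∈ (k i).toSubfield ⊔ P := by
        rw [← hsub]; exact iInf_le (fun i => k i ⊔ F) i hy
      have hmem := Groth.Agent.EGA41SymGr.Separate.mem_span_of_mem_closure (R := k i) ((k i).toSubfield ⊔ P) (fun m hm => ?_) ∅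
        (Groth.Agent.EGA41SymGr.Separate.mem_supL hy')
      · rw [Set.image_empty, Submodule.span_empty, Submodule.mem_bot] at hmem
        exact hmem
      · let W : Subfield K :=
          { carrier := {z | KaehlerDifferential.D (k i) K z = 0}
            mul_mem' := fun {a b} (ha : _ = 0) (hb : _ = 0) => show _ = 0 by rw [Derivation.leibniz, ha, hb]; simp
            one_mem' := show _ = 0 from Derivation.map_one_eq_zero _
            add_mem' := fun {a b} (ha : _ = 0) (hb : _ = 0) => show _ = 0 by rw [map_add, ha, hb, add_zero]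
            zero_mem' := show _ = 0 from map_zero _
            neg_mem' := fun {a} (ha : _ = 0) => show _ = 0 by rw [map_neg, ha, neg_zero]
            inv_mem' := fun a (ha : _ = 0) => show _ = 0 by rw [Derivation.leibniz_inv, ha, smul_zero] }
        exact (sup_le (fun z hz => (KaehlerDifferential.D (k i) K).map_algebraMap ⟨z, hz⟩) (by
          rintro _ ⟨z, rfl⟩
          exact Groth.Agent.EGA41SymGr.Separate.derivation_pow_eq_zero p (KaehlerDifferential.D (k i) K) z) :
            (k i).toSubfield ⊔ P ≤ W) hm
    by_contra hyF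
    have hli := Groth.Agent.EGA41SymGr.Separate.linearIndependent_D p (⊥ : IntermediateField k₀ K).toSubfield {y}
      fun x hx hmem => hyF <| by
        obtain rfl := Finset.mem_singleton.mp hx
        rw [Finset.coe_singleton, sdiff_self, Set.bot_eq_empty, Subfield.closure_empty, sup_bot_eq, ← hsub, bot_sup_eq] at hmem
        exact hmem
    refine hli.ne_zero ⟨y, Finset.mem_singleton_self y⟩ ?_
    show KaehlerDifferential.D (⊥ : IntermediateField k₀ K) K y = 0
    have h5 := congrArg (KaehlerDifferential.map k₀ (⊥ : IntermediateField k₀ K) K K) h0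
    rwa [KaehlerDifferential.map_D, map_zero] at h5

end Groth.Agent.S2475
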