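import Groth.Statements.S4070
import Groth.Agent.ArtinAtlas.GerbePoint

set_option backward.isDefEq.respectTransparency false
set_option backward.isDefEq.respectTransparency.types false

set_option autoImplicit false
universe u
open CategoryTheory CategoryTheory.Limits AlgebraicGeometry MonObj
open MonoidalCategory
open SGA7

namespace Groth.Agent.S4070

open MonoidalCategory CartesianMonoidalCategory MonObj

/-- In a noetherian space the connected components are finite in number and open. -/
theorem finite_open_components (T : Type u) [TopologicalSpace T] [TopologicalSpace.NoetherianSpace T] :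
    Finite (_root_.ConnectedComponents T) ∧ ∀ x : T, IsOpen (_root_.connectedComponent x) := by
  have hfin : Finite (_root_.ConnectedComponents T) := by
    haveI := (TopologicalSpace.NoetherianSpace.finite_irreducibleComponents (α := T)).to_subtype
    refine Finite.of_surjective (fun Z : irreducibleComponents T => _root_.ConnectedComponents.mk Z.2.1.nonempty.some) fun c => ?_
    obtain ⟨x, rfl⟩ := _root_.ConnectedComponents.surjective_coe c
    refine ⟨⟨irreducibleComponent x, irreducibleComponent_mem_irreducibleComponents x⟩, ?_⟩
    refine _root_.ConnectedComponents.coe_eq_coe'.mpr ?_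
    exact isIrreducible_irreducibleComponent.isConnected.isPreconnected.subset_connectedComponent
      mem_irreducibleComponent (Set.Nonempty.some_mem _)
  refine ⟨hfin, fun x => ?_⟩
  rw [← connectedComponents_preimage_singleton]
  exact (isOpen_discrete _).preimage _root_.ConnectedComponents.continuous_coe

variable {S : Scheme.{u}}

/-- Right translation of a group scheme by a section. -/
noncomputable def rTr (N : Over S) [GrpObj N] (y : 𝟙_ (Over S) ⟶ N) : N ≅ N where
  hom := 𝟙 N * (toUnit N ≫ y)
  inv := 𝟙 N * (toUnit N ≫ y⁻¹)
  hom_inv_id := by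
    rw [MonObj.comp_mul, Category.comp_id, ← Category.assoc, comp_toUnit, _root_.mul_assoc,
      ← MonObj.comp_mul, mul_inv_cancel, MonObj.comp_one, _root_.mul_one]
  inv_hom_id := by
    rw [MonObj.comp_mul, Category.comp_id, ← Category.assoc, comp_toUnit, _root_.mul_assoc,
      ← MonObj.comp_mul, inv_mul_cancel, MonObj.comp_one, _root_.mul_one]

theorem comp_rTr (N : Over S) [GrpObj N] (k y : 𝟙_ (Over S) ⟶ N) : k ≫ (rTr N y).hom = k * y := by
  rw [rTr, MonObj.comp_mul, Category.comp_id, ← Category.assoc,
    toUnit_unique (k ≫ toUnit N) (𝟙 _), Category.id_comp]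

theorem unit_eq (N : Over S) [GrpObj N] : (1 : 𝟙_ (Over S) ⟶ N) = η[N] := by
  rw [Hom.one_def, toUnit_unique (toUnit (𝟙_ (Over S))) (𝟙 _), Category.id_comp]

/-- Let R be a strictly henselian discrete valuation ring (henselian, separably closed residue field)
with fraction field K and N a group scheme over Spec R which is a Néron model of its generic fibre,
an abelian variety A over K, so that sections of N over Spec R are the K-points of A. Then the
special fibre of N has finitely many connected components, every one of them is met by a section,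
and two sections x, y meet the same connected component if and only if x · y⁻¹ meets the connected
component of the unit section: the component group of the special fibre is A(K) modulo the subgroup
of points reducing into the identity component. -/
theorem result (R K : Type u) [CommRing R] [IsDomain R] [IsDiscreteValuationRing R] [HenselianLocalRing R]
    [IsSepClosed (IsLocalRing.ResidueField R)] [Field K] [Algebra R K] [IsFractionRing R K]
    (N : Over (Spec (CommRingCat.of R))) [GrpObj N] (hN : SGA7.IsNeron R K N)
    [IsProper ((SGA7.genFib R K).obj N).hom] [GeometricallyIntegral ((SGA7.genFib R K).obj N).hom] :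
    (Set.range (SGA7.secComp R N)).Finite ∧
    (∀ z ∈ SGA7.specialFibreSet R N, ∃ x : 𝟙_ (Over (Spec (CommRingCat.of R))) ⟶ N, z ∈ SGA7.secComp R N x) ∧
      ∀ x y : 𝟙_ (Over (Spec (CommRingCat.of R))) ⟶ N,
        SGA7.secComp R N x = SGA7.secComp R N y ↔ x * y⁻¹ ∈ SGA7.secUnitComp R N := by
  have hmem : ∀ x : 𝟙_ (Over (Spec (CommRingCat.of R))) ⟶ N,
      x.left.base (IsLocalRing.closedPoint R) ∈ SGA7.specialFibreSet R N := fun x => by
    change N.hom (x.left (IsLocalRing.closedPoint R)) = IsLocalRing.closedPoint R
    rw [← Scheme.Hom.comp_apply, Over.w x]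
    rfl
  haveI : Smooth N.hom := hN.1
  haveI : QuasiCompact N.hom := hN.2.2.1
  haveI : IsLocallyNoetherian N.left := LocallyOfFiniteType.isLocallyNoetherian N.hom
  haveI : CompactSpace ↥N.left := (quasiCompact_iff_compactSpace N.hom).mp inferInstance
  haveI : IsNoetherian N.left := {}
  let F := SGA7.specialFibreSet R N
  have hFc : IsClosed F :=
    ((IsLocalRing.isClosed_singleton_closedPoint (R := R)).preimage N.hom.continuous)
  obtain ⟨hfin, hopen⟩ := finite_open_components F
  refine ⟨?_, fun z hz => ?_, fun x y => ?_⟩
  · have key : ∀ p q : F, _root_.ConnectedComponents.mk p = _root_.ConnectedComponents.mk q →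
        connectedComponentIn F (p : ↥N.left) = connectedComponentIn F (q : ↥N.left) := fun p q h => by
      rw [connectedComponentIn_eq_image p.2, connectedComponentIn_eq_image q.2,
        _root_.ConnectedComponents.coe_eq_coe.mp h]
    refine (Set.finite_range fun c : _root_.ConnectedComponents F =>
      connectedComponentIn F (c.exists_rep.choose : ↥N.left)).subset ?_
    rintro - ⟨x, rfl⟩
    exact ⟨_root_.ConnectedComponents.mk ⟨_, hmem x⟩, key _ ⟨_, hmem x⟩
      (_root_.ConnectedComponents.mk (⟨_, hmem x⟩ : F)).exists_rep.choose_spec⟩
  · let C : Set F := _root_.connectedComponent ⟨z, hz⟩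
    have hT : IsClosed (Subtype.val '' Cᶜ) :=
      hFc.isClosedEmbedding_subtypeVal.isClosedMap _ (hopen _).isClosed_compl
    let U : N.left.Opens := ⟨(Subtype.val '' Cᶜ)ᶜ, hT.isOpen_compl⟩
    have hzU : z ∈ U := by
      rintro ⟨w, hw, hwz⟩
      exact hw (by rw [show w = ⟨z, hz⟩ from Subtype.ext hwz]; exact mem_connectedComponent)
    let g := U.ι ≫ N.hom
    haveI : Surjective g := by
      refine ⟨fun s => ?_⟩
      have ho : IsOpen (Set.range g) := g.isOpenMap.isOpen_range
      have hc : IsLocalRing.closedPoint R ∈ Set.range g := ⟨⟨z, hzU⟩, hz⟩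
      exact ((IsLocalRing.specializes_closedPoint s).mem_open ho hc)
    obtain ⟨σ, hσ⟩ := Groth.Agent.ArtinAtlas.exists_section_smooth R g
    let x : 𝟙_ (Over (Spec (CommRingCat.of R))) ⟶ N := Over.homMk (σ ≫ U.ι) (by simpa using hσ)
    refine ⟨x, ?_⟩
    have h1 : (⟨_, hmem x⟩ : F) ∈ C := by
      by_contra h
      exact (σ (IsLocalRing.closedPoint R)).2 ⟨_, h, rfl⟩
    change z ∈ connectedComponentIn F _
    rw [connectedComponentIn_eq_image (hmem x), ← connectedComponent_eq h1]
    exact ⟨_, mem_connectedComponent, rfl⟩
  · have hself : ∀ k : 𝟙_ (Over (Spec (CommRingCat.of R))) ⟶ N,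
        k.left.base (IsLocalRing.closedPoint R) ∈ SGA7.secComp R N k := fun k =>
      mem_connectedComponentIn (hmem k)
    have key : ∀ k w : 𝟙_ (Over (Spec (CommRingCat.of R))) ⟶ N,
        Scheme.Hom.homeomorph (rTr N w).hom.left '' SGA7.secComp R N k = SGA7.secComp R N (k * w) := by
      intro k w
      change _ '' connectedComponentIn F _ = connectedComponentIn F _
      rw [Homeomorph.image_connectedComponentIn _ (hmem k)]
      congr 1
      · ext p
        constructor
        · rintro ⟨q, hq, rfl⟩
          change N.hom ((rTr N w).hom.left q) = _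
          rw [← Scheme.Hom.comp_apply, Over.w]
          exact hq
        · intro hp
          obtain ⟨q, rfl⟩ := (Scheme.Hom.homeomorph (rTr N w).hom.left).surjective p
          refine ⟨q, ?_, rfl⟩
          change N.hom q = _
          change N.hom ((rTr N w).hom.left q) = _ at hp
          rwa [← Scheme.Hom.comp_apply, Over.w] at hp
      · rw [← comp_rTr N k w]
        rfl
    constructor
    · intro h
      have hx := hself (x * y⁻¹)
      rw [← key x y⁻¹, h, key y y⁻¹, mul_inv_cancel, unit_eq] at hx
      exact hx
    · intro h
      have h' : SGA7.secComp R N (x * y⁻¹) = SGA7.secComp R N η[N] := (connectedComponentIn_eq h).symm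
      rw [← inv_mul_cancel_right x y, ← key _ y, h', key _ y, ← unit_eq, _root_.one_mul]

end Groth.Agent.S4070
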