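import Groth.Statements.S4077
import Groth.Agent.NeronSS.Open

set_option backward.isDefEq.respectTransparency false
set_option backward.isDefEq.respectTransparency.types false
set_option synthInstance.maxHeartbeats 400000
set_option maxHeartbeats 1000000

set_option autoImplicit false
universe u
open CategoryTheory CategoryTheory.Limits AlgebraicGeometry MonObj
open SGA7

namespace Groth.Agent.S4077

/-- Let R be a Dedekind domain with fraction field K and N a group scheme over Spec R which is a Néron
model of its generic fibre A = N_K, an abelian variety (proper and geometrically integral over K).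
Then A has semistable reduction over R (it extends to a smooth separated group scheme of finite type
over Spec R whose geometric fibres contain no copy of the additive group) if and only if the
geometric fibres of N contain no copy of the additive group (that is, the identity components of the
fibres of N are extensions of abelian varieties by tori). -/
theorem result (R K : Type u) [CommRing R] [IsDedekindDomain R] [Field K] [Algebra R K] [IsFractionRing R K]
    (N : Over (Spec (CommRingCat.of R))) [GrpObj N] (hN : SGA7.IsNeron R K N)
    [IsProper ((SGA7.genFib R K).obj N).hom] [GeometricallyIntegral ((SGA7.genFib R K).obj N).hom] :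
    SGA7.HasSemistableReduction R K ((SGA7.genFib R K).obj N) ↔ SGA7.FibresUnipotentRankZero N := by
  haveI := hN.1
  haveI := hN.2.1
  haveI := hN.2.2.1
  haveI : IsCommMonObj ((SGA7.genFib R K).obj N) := isCommMonObj_of_isProper_of_geometricallyIntegral _
  constructor
  · rintro ⟨G, hgrp, e, he, hsm, hsep, hqc, hss⟩
    letI := hgrp
    haveI := hsm; haveI := hsep; haveI := hqc; haveI := he
    obtain ⟨u, hu⟩ := (hN.2.2.2 G hsm).2 e.hom
    haveI : IsIso ((SGA7.genFib R K).map u) := by
      rw [show (SGA7.genFib R K).map u = e.hom from hu]; infer_instance
    haveI : IsMonHom ((SGA7.genFib R K).map u) := by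
      rw [show (SGA7.genFib R K).map u = e.hom from hu]; exact he
    haveI := Groth.Agent.NeronSS.isMonHom_of_genFib R K u
    haveI := Groth.Agent.NeronSS.isCommMonObj_of_isIso_genFib R K u
    haveI := Groth.Agent.NeronSS.isOpenImmersion_of_genFib R K hss u
    exact Groth.Agent.NeronSS.fibresUnipotentRankZero_of_open u hss
  · intro h
    exact ⟨N, inferInstance, Iso.refl _, inferInstanceAs (IsMonHom (𝟙 _)), hN.1, hN.2.1, hN.2.2.1, h⟩

end Groth.Agent.S4077
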