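import Groth.Statements.S7656
import Groth.Agent.GUField.Field
import Groth.Agent.Hensel.BranchFlat
import Groth.Agent.GeomProp.BCStalk

set_option autoImplicit false
universe u
open CategoryTheory CategoryTheory.Limits AlgebraicGeometry
open Variety

namespace Groth.Agent.S7656

attribute [local instance] Curv2.stalkAlgebra

open scoped TensorProduct

theorem numGeomBranches_congr {A B : Type u} [CommRing A] [CommRing B] [IsLocalRing A] [IsLocalRing B]
    (e : A ≃+* B) : Brnch.numGeomBranches A = Brnch.numGeomBranches B := by
  haveI : IsLocalHom (e : A →+* B) := ⟨fun a h => by simpa using h.map e.symm⟩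
  haveI : IsLocalHom (e.symm : B →+* A) := ⟨fun a h => by simpa using h.map e⟩
  exact le_antisymm (Hensel.numGeomBranches_le_of_flat (e : A →+* B) (RingHom.Flat.of_bijective e.bijective))
    (Hensel.numGeomBranches_le_of_flat (e.symm : B →+* A) (RingHom.Flat.of_bijective e.symm.bijective))

/-- For X locally of finite type over a field k, a field extension K/k and a point y of X_K over x ∈ X,
the local rings of X at x and of X_K at y have the same number of geometric branches. -/
theorem result (k : Type u) [Field k] (X : Scheme.{u}) [X.Over (Spec (CommRingCat.of k))]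
    [LocallyOfFiniteType (X ↘ (Spec (CommRingCat.of k)))] (K : Type u) [Field K] [Algebra k K]
    (y : ↥(Curv2.bc k X K)) :
    Brnch.numGeomBranchesAt X ((Curv2.bcFst k X K).base y) =
      Brnch.numGeomBranchesAt (Curv2.bc k X K) y := by
  obtain ⟨Q, hQp, hQ, ⟨e⟩⟩ := (GeomProp.bc_stalks k X K ((Curv2.bcFst k X K).base y)).1 y rfl
  haveI := hQp
  exact ((numGeomBranches_congr e).symm.trans
    (GUField.numGeomBranches_tensor_field k (X.presheaf.stalk ((Curv2.bcFst k X K).base y)) K Q hQ)).symm

end Groth.Agent.S7656
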