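import Groth.Statements.S1589
import Groth.Agent.NodalRed.Gor
import Groth.Agent.S7892
import Groth.Agent.S1549
import Groth.Agent.RegLocus.Scheme
import Groth.Agent.RegLocus.J2
-- import your own Groth.Agent.* helpers here

set_option autoImplicit false
set_option backward.isDefEq.respectTransparency false
set_option backward.isDefEq.respectTransparency.types false
set_option maxHeartbeats 1000000
universe u
open CategoryTheory CategoryTheory.Limits AlgebraicGeometry
open Curves

namespace Groth.Agent.S1589

/-- Let X be locally of finite type over k with all irreducible components of dimension one and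
at-worst-nodal singularities. Then every local ring of X is Gorenstein and X is geometrically
reduced over k. -/
theorem result (k : Type u) [Field k] (X : Scheme.{u}) [X.Over (Spec (CommRingCat.of k))] [LocallyOfFiniteType (X ↘ (Spec (CommRingCat.of k)))]
    (hequi : ∀ Z ∈ irreducibleComponents (X : Type u), topologicalKrullDim Z = 1) (hX : Curv2.AtWorstNodal k X) :
    (∀ x : X, LocCoh.IsGorensteinLocalRing (X.presheaf.stalk x)) ∧ GeometricallyReduced (X ↘ (Spec (CommRingCat.of k))) := by
  let q := X ↘ Spec (CommRingCat.of k)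
  haveI : IsLocallyNoetherian X := LocallyOfFiniteType.isLocallyNoetherian q
  haveI : JacobsonSpace X := LocallyOfFiniteType.jacobsonSpace q
  haveI : ∀ x : X, _root_.IsReduced (X.presheaf.stalk x) := NodalRed.isReduced_stalk k X hX
  haveI : AlgebraicGeometry.IsReduced X := isReduced_of_isReduced_stalk X
  refine ⟨NodalRed.isGorenstein_stalk k X hX, (Groth.Agent.S1549.result k X).2 ?_⟩
  let S : Set X.Opens := {U | Smooth (U.ι ≫ q)}
  let U₀ : X.Opens := ⨆ U : S, (U : X.Opens)
  refine ⟨U₀, ?_, ?_⟩
  · rw [dense_iff_closure_eq]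
    refine Set.eq_univ_of_forall fun x => ?_
    obtain ⟨C, hC, hxC⟩ := exists_mem_irreducibleComponents_subset_of_isIrreducible _ (isIrreducible_singleton (x := x))
    have hη := hC.1.isGenericPoint_genericPoint (isClosed_of_mem_irreducibleComponents C hC)
    suffices hC.1.genericPoint ∈ U₀ from
      closure_mono (Set.singleton_subset_iff.2 this) (hη.def.ge (hxC rfl))
    have hreg : IsRegularLocalRing (X.presheaf.stalk hC.1.genericPoint) := by
      have hf := isField_stalk_of_closure_mem_irreducibleComponents X hC.1.genericPoint (hη.def.symm ▸ hC)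
      letI := hf.toField
      infer_instance
    have hop : IsOpen {y : X | IsRegularLocalRing (X.presheaf.stalk y)} :=
      RegLocus.isOpen_of_isJ2 (X := Spec (CommRingCat.of k)) (fun _ => ⟨⟨⊤, isAffineOpen_top _⟩, trivial, by
        letI := (((Scheme.ΓSpecIso (CommRingCat.of k)).commRingCatIsoToRingEquiv.toMulEquiv).isField (Field.toIsField k)).toField
        exact RegLocus.isJ2_field _⟩) q
    obtain ⟨c, ⟨hcr, hcC⟩, hc⟩ := nonempty_inter_closedPoints
      (Z := {y : X | IsRegularLocalRing (X.presheaf.stalk y)} ∩ C) ⟨_, hreg, hη.mem⟩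
      (hop.isLocallyClosed.inter (isClosed_of_mem_irreducibleComponents C hC).isLocallyClosed)
    rcases hX c hc with ⟨U, hcU, hU⟩ | hn
    · exact TopologicalSpace.Opens.mem_iSup.2 ⟨⟨U, hU⟩, (hη.specializes hcC).mem_open U.2 hcU⟩
    · exact absurd hn (Groth.Agent.S7892.not_isNode k X c hcr)
  · let 𝒰 : S → U₀.toScheme.Opens := fun U => U₀.ι ⁻¹ᵁ (U : X.Opens)
    have hcov : ⨆ U, 𝒰 U = ⊤ := top_le_iff.1 fun x _ => by
      obtain ⟨U, hU⟩ := TopologicalSpace.Opens.mem_iSup.1 x.2
      exact TopologicalSpace.Opens.mem_iSup.2 ⟨U, hU⟩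
    refine (IsZariskiLocalAtSource.iff_of_iSup_eq_top (P := @Smooth) 𝒰 hcov).2 fun U => ?_
    haveI : Smooth ((U : X.Opens).ι ≫ q) := U.2
    have hle : U₀.ι ''ᵁ (𝒰 U) ≤ (U : X.Opens) := U₀.ι.image_preimage_le _
    have he : (𝒰 U).ι ≫ U₀.ι ≫ q = ((U₀.ι.isoImage (𝒰 U)).hom ≫ X.homOfLE hle) ≫ ((U : X.Opens).ι ≫ q) := by
      simp
    rw [he]
    infer_instance

end Groth.Agent.S1589
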