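import Groth.Statements.S2063
import Groth.Agent.FittLib.SmoothCrit
import Groth.Agent.S6894

set_option autoImplicit false
universe u
open CAlg AlgebraicGeometry CategoryTheory Groth.Agent
open scoped TensorProduct
set_option backward.isDefEq.respectTransparency false

namespace Groth.Agent.S2063

open TensorProduct in
/-- Let `S` be of finite type over a field `k` and `𝔮` a prime of `S`. Smoothness of `S` over `k` at `𝔮`
holds exactly when the `κ(𝔮)`-dimension of `Ω_{S/k} ⊗ κ(𝔮)` is at most the local dimension of `Spec
S` at `𝔮`. -/
theorem result {k S : Type u} [Field k] [CommRing S] [Algebra k S]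
    [Algebra.FiniteType k S] (q : Ideal S) [q.IsPrime] :
    Algebra.IsSmoothAt k q ↔
      ((Module.finrank q.ResidueField (q.ResidueField ⊗[S] Ω[S⁄k]) : ℕ∞) : WithBot ℕ∞) ≤
        FlatMor.localDim (PrimeSpectrum S) ⟨q, inferInstance⟩ := by
  classical
  haveI : Module.Finite S Ω[S⁄k] := inferInstance
  obtain ⟨b, δ, hb, hD, -⟩ := CMChart.localDim_primeSpectrum (k := k) (⟨q, inferInstance⟩ : PrimeSpectrum S)
  constructor
  · intro hsm
    haveI : IsNoetherianRing S := Algebra.FiniteType.isNoetherianRing k S
    haveI : Algebra.FinitePresentation k S := Algebra.FinitePresentation.of_finiteType.mp inferInstance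
    obtain ⟨g, hg, hstd⟩ := Algebra.IsSmoothAt.exists_notMem_isStandardSmooth k q
    obtain ⟨_, _, _, _, ⟨P⟩⟩ := hstd
    haveI hP : Algebra.IsStandardSmoothOfRelativeDimension P.dimension k (Localization.Away g) :=
      P.isStandardSmoothOfRelativeDimension rfl
    haveI : Algebra.IsStandardSmooth k (Localization.Away g) :=
      Algebra.IsStandardSmoothOfRelativeDimension.isStandardSmooth P.dimension
    have hdisj : Disjoint ((Submonoid.powers g : Submonoid S) : Set S) q :=
      (Ideal.disjoint_powers_iff_notMem_of_isPrime g).2 hg
    haveI : (q.map (algebraMap S (Localization.Away g))).IsPrime :=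
      IsLocalization.isPrime_of_isPrime_disjoint (Submonoid.powers g) _ q inferInstance hdisj
    let z : PrimeSpectrum (Localization.Away g) := ⟨q.map (algebraMap S (Localization.Away g)), inferInstance⟩
    have hzq : PrimeSpectrum.comap (algebraMap S (Localization.Away g)) z = ⟨q, inferInstance⟩ :=
      PrimeSpectrum.ext (IsLocalization.under_map_of_isPrime_disjoint (Submonoid.powers g) _ inferInstance hdisj)
    let j := Spec.map (CommRingCat.ofHom (algebraMap S (Localization.Away g)))
    haveI : IsOpenImmersion j := IsOpenImmersion.of_isLocalization g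
    let π := Spec.map (CommRingCat.ofHom (algebraMap k S))
    have hjπ : j ≫ π = Spec.map (CommRingCat.ofHom (algebraMap k (Localization.Away g))) := by
      rw [← Spec.map_comp, ← CommRingCat.ofHom_comp, ← IsScalarTower.algebraMap_eq]
    have hloc : FlatMor.localDim (PrimeSpectrum S) ⟨q, inferInstance⟩ = P.dimension := by
      haveI : LocallyOfFiniteType π :=
        (HasRingHomProperty.Spec_iff (P := @LocallyOfFiniteType)).mpr
          (RingHom.finiteType_algebraMap.mpr inferInstance)
      have h1 := LocalDimBC.fibreDimAt_Spec_of_isStandardSmooth P.dimension (R := k)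
        (A := Localization.Away g) z
      rw [← hjπ, LocalDimBC.fibreDimAt_openImmersion_comp, CMChart.fibreDimAt_eq_localDim] at h1
      have hjz : j z = (⟨q, inferInstance⟩ : PrimeSpectrum S) := hzq
      rw [hjz] at h1
      exact h1
    rw [hloc]
    rcases subsingleton_or_nontrivial (Localization.Away g) with hs | hs
    · exact absurd (Subsingleton.elim _ _) z.2.ne_top
    let f : Localization.Away g →+* q.ResidueField :=
      IsLocalization.Away.lift g (g := algebraMap S q.ResidueField) (isUnit_iff_ne_zero.2 fun h0 =>
        hg (Ideal.algebraMap_residueField_eq_zero.1 h0))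
    letI := f.toAlgebra
    haveI : IsScalarTower S (Localization.Away g) q.ResidueField :=
      IsScalarTower.of_algebraMap_eq' (IsLocalization.Away.lift_comp g _).symm
    haveI : Algebra.FormallyEtale S (Localization.Away g) :=
      Algebra.FormallyEtale.of_isLocalization (Submonoid.powers g)
    let e := ((TensorProduct.AlgebraTensorModule.cancelBaseChange S (Localization.Away g) q.ResidueField
      q.ResidueField Ω[S⁄k]).symm).trans (TensorProduct.AlgebraTensorModule.congr (LinearEquiv.refl q.ResidueField q.ResidueField)
        (KaehlerDifferential.tensorKaehlerEquivOfFormallyEtale k S (Localization.Away g)))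
    rw [e.finrank_eq, Module.finrank_baseChange, Module.finrank_eq_of_rank_eq
      (Algebra.IsStandardSmoothOfRelativeDimension.rank_kaehlerDifferential
        (R := k) (S := Localization.Away g) P.dimension)]
    exact le_rfl
  · intro h
    rw [hD] at h
    have h' : Module.finrank q.ResidueField (q.ResidueField ⊗[S] Ω[S⁄k]) ≤ b + δ := by
      exact_mod_cast h
    exact FittLib.isSmoothAt_of_not_le q ((S6894.result Ω[S⁄k] (b + δ) q).1.2 h') hD.ge

end Groth.Agent.S2063
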