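import Groth.Statements.S9142
import Groth.Agent.CMFlat.Quotient

set_option autoImplicit false
universe u
open Synt

namespace Groth.Agent.S9142

/-- A local complete intersection over a field is a Cohen–Macaulay ring. -/
theorem result (k S : Type u) [Field k] [CommRing S] [Algebra k S]
    (h : Synt.IsLCIOver k S) : LocCoh.IsCohenMacaulayRing S := by
  obtain ⟨hft, hloc⟩ := h
  haveI : IsNoetherianRing S := Algebra.FiniteType.isNoetherianRing k S
  refine { isCohenMacaulayLocalRing_localization := fun p _ => ?_ }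
  obtain ⟨g, hg, hG⟩ := hloc ⟨p, inferInstance⟩
  have hdis : Disjoint ((Submonoid.powers g : Submonoid S) : Set S) (p : Set S) :=
    (Ideal.disjoint_powers_iff_notMem g (Ideal.IsPrime.isRadical ‹_›)).mpr hg
  let T := Localization.Away g
  haveI hqp := IsLocalization.isPrime_of_isPrime_disjoint (Submonoid.powers g) T p ‹_› hdis
  let q : Ideal T := p.map (algebraMap S T)
  have hq : p = q.comap (algebraMap S T) :=
    (IsLocalization.under_map_of_isPrime_disjoint (Submonoid.powers g) T ‹_› hdis).symm
  have hloc : ∀ (J : Ideal S) [J.IsPrime], J = q.comap (algebraMap S T) →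
      IsLocalization.AtPrime (Localization.AtPrime q) J := by
    intro J _ hJ
    subst hJ
    exact IsLocalization.isLocalization_isLocalization_atPrime_isLocalization (Submonoid.powers g) _ q
  haveI := hloc p hq
  suffices hT : LocCoh.IsCohenMacaulayLocalRing (Localization.AtPrime q) from
    @Groth.Agent.CMChart.isCohenMacaulayLocalRing_of_ringEquiv _ _ _ _
      (IsLocalization.algEquiv p.primeCompl (Localization.AtPrime q) (Localization.AtPrime p)).toRingEquiv hT
  rcases hG with hG | ⟨n, c, hcn, φ, r, hφ, hker, hdim⟩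
  · exact absurd (Subsingleton.elim _ _) (hqp.ne_top ∘ fun e : (0 : T) = 1 =>
      (Ideal.eq_top_iff_one _).mpr (e ▸ q.zero_mem))
  let P' : Ideal (MvPolynomial (Fin n) k) := q.comap φ.toRingHom
  let A := Localization.AtPrime P'
  haveI : IsRegularLocalRing A := IsRegularRing.isRegularLocalRing_localization P'
  haveI := Groth.Agent.CMFlat.isCohenMacaulayLocalRing_of_isRegularLocalRing A
  have hrP : Ideal.span (Set.range r) ≤ P' := hker ▸ Ideal.comap_mono bot_le
  let xs : List A := (List.ofFn r).map (algebraMap _ A)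
  have hxs : Ideal.ofList xs = (RingHom.ker φ.toRingHom).map (algebraMap _ A) := by
    rw [hker, ← Groth.Agent.CMFlat.ofList_ofFn, Ideal.map_ofList]
  obtain ⟨-, hcm⟩ := Groth.Agent.CMFlat.isWeaklyRegular_of_height xs (fun x hx => by
      obtain ⟨y, hy, rfl⟩ := List.mem_map.mp hx
      exact (IsLocalization.AtPrime.to_map_mem_maximal_iff A P' y).mpr
        (hrP (Ideal.subset_span (List.mem_ofFn.mp hy)))) (fun J hJ hJle => by
      haveI := hJ
      let Q : PrimeSpectrum (MvPolynomial (Fin n) k) := ⟨J.comap (algebraMap _ A), inferInstance⟩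
      have hQr : RingHom.ker φ.toRingHom ≤ Q.asIdeal := Ideal.map_le_iff_le_comap.mp (hxs ▸ hJle)
      have h1 := Groth.Agent.DimFormula.height_add_ringKrullDim_quotient k Q
      have h2 : ringKrullDim (MvPolynomial (Fin n) k ⧸ Q.asIdeal) ≤ ((n - c : ℕ) : WithBot ℕ∞) := by
        rw [← hdim, ← ringKrullDim_eq_of_ringEquiv (RingHom.quotientKerEquivOfSurjective hφ)]
        exact ringKrullDim_le_of_surjective (Ideal.Quotient.factor hQr) (Ideal.Quotient.factor_surjective hQr)
      rw [MvPolynomial.ringKrullDim_of_isNoetherianRing, ringKrullDim_eq_zero_of_field, zero_add,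
        Nat.card_eq_fintype_card, Fintype.card_fin] at h1
      rw [show J.height = Q.asIdeal.height from (IsLocalization.height_under P'.primeCompl J).symm]
      simp only [xs, List.length_map, List.length_ofFn]
      obtain ⟨a, ha⟩ := ENat.ne_top_iff_exists.mp (Ideal.height_ne_top (I := Q.asIdeal) Q.2.ne_top)
      rw [← ha, Nat.cast_le]
      rw [← ha] at h1
      have h3 : (n : WithBot ℕ∞) ≤ ((a : ℕ) : WithBot ℕ∞) + ((n - c : ℕ) : WithBot ℕ∞) :=
        h1.ge.trans (add_le_add le_rfl h2)
      have : n ≤ a + (n - c) := by exact_mod_cast h3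
      omega)
  let ψ : A →+* Localization.AtPrime q := Localization.localRingHom P' q φ.toRingHom rfl
  have hM : Submonoid.map φ.toRingHom P'.primeCompl = q.primeCompl := by
    ext t
    constructor
    · rintro ⟨u, hu, rfl⟩; exact hu
    · intro ht
      obtain ⟨u, rfl⟩ := hφ t
      exact ⟨u, ht, rfl⟩
  have hψs : Function.Surjective ψ := by
    intro z
    obtain ⟨t, s, rfl⟩ := IsLocalization.exists_mk'_eq q.primeCompl z
    obtain ⟨a, rfl⟩ := hφ t
    obtain ⟨b, hb⟩ := hφ (s : T)
    refine ⟨IsLocalization.mk' A a (⟨b, fun hbP => s.2 (hb ▸ hbP)⟩ : P'.primeCompl), ?_⟩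
    exact (Localization.localRingHom_mk' P' q φ.toRingHom rfl a _).trans (by congr 1; exact Subtype.ext hb)
  have hψk : RingHom.ker ψ = Ideal.ofList xs := by
    rw [hxs]
    exact IsLocalization.ker_map (S := A) (Localization.AtPrime q) φ.toRingHom hM
  exact @Groth.Agent.CMChart.isCohenMacaulayLocalRing_of_ringEquiv _ _ _ _
    ((Ideal.quotEquivOfEq hψk.symm).trans (RingHom.quotientKerEquivOfSurjective hψs)) hcm

end Groth.Agent.S9142
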