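import Groth.Statements.S9367
import Groth.Agent.LocalDimBC.Smooth
import Groth.Agent.S9142
import Groth.Agent.CMFlat.BaseChange
import Groth.Agent.CMChart.Locus

set_option autoImplicit false
universe u
open Synt

set_option backward.isDefEq.respectTransparency false
open TensorProduct

namespace Groth.Agent.S9367

open AlgebraicGeometry CategoryTheory in
/-- If f : X → S is syntomic, then x ↦ dim_x(X_{f x}) is locally constant on X. -/
theorem result {X S : Scheme.{u}} (f : X ⟶ S) (hf : Synt.IsSyntomicMor f) :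
    IsLocallyConstant (fun x : ↑X => FlatMor.fibreDimAt f x) := by
  refine (IsLocallyConstant.iff_exists_open _).mpr fun x => ?_
  obtain ⟨U, V, e, hxU, hsyn⟩ := hf x
  algebraize [(f.appLE V.1 U.1 e).hom]
  obtain ⟨hflat, hfp, hfib⟩ := hsyn
  let φ := CommRingCat.ofHom (algebraMap Γ(S, V.1) Γ(X, U.1))
  let p := Spec.map φ
  haveI : LocallyOfFinitePresentation p :=
    (HasRingHomProperty.Spec_iff (P := @LocallyOfFinitePresentation)).mpr
      (RingHom.finitePresentation_algebraMap.mpr hfp)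
  haveI : Flat p := Flat.SpecMap_iff.mpr (RingHom.flat_algebraMap_iff.mpr hflat)
  have hcm : ∀ z, MoreMor.IsCMAt p z := by
    intro z
    let P : PrimeSpectrum Γ(S, V.1) := PrimeSpectrum.comap (algebraMap Γ(S, V.1) Γ(X, U.1)) z
    let κ := P.asIdeal.ResidueField
    have sq := (isPullback_SpecMap_of_isPushout _ _ _ _
      (CommRingCat.isPushout_tensorProduct Γ(S, V.1) κ Γ(X, U.1))).flip
    have hp : Spec.map (CommRingCat.ofHom (algebraMap Γ(S, V.1) κ)) (IsLocalRing.closedPoint κ) = p z := by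
      refine PrimeSpectrum.ext ?_
      show (IsLocalRing.maximalIdeal κ).comap (algebraMap Γ(S, V.1) κ) = P.asIdeal
      rw [IsLocalRing.maximalIdeal_eq_bot, ← RingHom.ker_eq_comap_bot, Ideal.ker_algebraMap_residueField]
    obtain ⟨z', hz', -⟩ := Scheme.exists_preimage_of_isPullback sq z (IsLocalRing.closedPoint κ) hp.symm
    have hft : Algebra.FiniteType κ (κ ⊗[Γ(S, V.1)] Γ(X, U.1)) := (hfib P).1
    haveI : LocallyOfFiniteType (Spec.map (CommRingCat.ofHom (algebraMap κ (κ ⊗[Γ(S, V.1)] Γ(X, U.1))))) :=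
      (HasRingHomProperty.Spec_iff (P := @LocallyOfFiniteType)).mpr (RingHom.finiteType_algebraMap.mpr hft)
    haveI : Flat (Spec.map (CommRingCat.ofHom (algebraMap κ (κ ⊗[Γ(S, V.1)] Γ(X, U.1))))) :=
      Flat.SpecMap_iff.mpr (RingHom.flat_algebraMap_iff.mpr inferInstance)
    haveI : LocallyOfFiniteType (p.fiberToSpecResidueField (Spec.map (CommRingCat.ofHom (algebraMap Γ(S, V.1) κ))
        ((Spec.map (CommRingCat.ofHom (algebraMap κ (κ ⊗[Γ(S, V.1)] Γ(X, U.1))))) z'))) :=
      MorphismProperty.pullback_snd _ _ inferInstance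
    haveI := LocallyOfFiniteType.isLocallyNoetherian (p.fiberToSpecResidueField
      (Spec.map (CommRingCat.ofHom (algebraMap Γ(S, V.1) κ))
        ((Spec.map (CommRingCat.ofHom (algebraMap κ (κ ⊗[Γ(S, V.1)] Γ(X, U.1))))) z')))
    rw [← hz']
    refine Groth.Agent.CMFlat.isCMAt_of_baseChange sq z' (Or.inr inferInstance) (Flat.stalkMap p _) ?_
    refine (Groth.Agent.CMChart.isCMAt_iff_stalk _ z').mpr ?_
    haveI := Groth.Agent.S9142.result κ (κ ⊗[Γ(S, V.1)] Γ(X, U.1)) (hfib P)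
    let z'' : PrimeSpectrum (κ ⊗[Γ(S, V.1)] Γ(X, U.1)) := z'
    exact @Groth.Agent.CMChart.isCohenMacaulayLocalRing_of_ringEquiv _ _ _ _
      (AlgebraicGeometry.StructureSheaf.stalkIso (κ ⊗[Γ(S, V.1)] Γ(X, U.1)) z'').toRingEquiv
      (LocCoh.IsCohenMacaulayRing.isCohenMacaulayLocalRing_localization z''.asIdeal)
  have hd : ∀ z, FlatMor.fibreDimAt p z = FlatMor.fibreDimAt f (U.2.fromSpec z) := fun z => by
    rw [← Groth.Agent.LocalDimBC.fibreDimAt_openImmersion_comp U.2.fromSpec f z,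
      ← IsAffineOpen.SpecMap_appLE_fromSpec f V.2 U.2 e, ← Groth.Agent.LocalDimBC.fibreDimAt_comp_openImmersion]
    rfl
  obtain ⟨z, hz⟩ : x ∈ Set.range U.2.fromSpec := U.2.range_fromSpec.ge hxU
  obtain ⟨W, hW, hzW, hWc⟩ := (IsLocallyConstant.iff_exists_open _).mp
    (Groth.Agent.CMChart.isLocallyConstant_fibreDimAt p hcm) z
  refine ⟨U.2.fromSpec '' W, U.2.fromSpec.isOpenMap _ hW, ⟨z, hzW, hz⟩, ?_⟩
  rintro _ ⟨w, hw, rfl⟩
  subst hz
  exact (hd w).symm.trans ((hWc w hw).trans (hd z))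

end Groth.Agent.S9367
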