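import Groth.Statements.S2235
import Groth.Agent.Wiebe.Cone
import Mathlib.LinearAlgebra.TensorProduct.Pi
import Mathlib.LinearAlgebra.TensorProduct.RightExactness

set_option autoImplicit false
universe u
open TensorProduct
open Disc

namespace Groth.Agent.S2235

open Wiebe in
/-- Acyclicity of the Koszul complex is preserved by tensoring with a flat module over the base. -/
theorem acyclic_baseChange {A P B : Type u} [CommRing A] [CommRing P] [CommRing B] [Algebra A P] [Algebra A B]
    [Module.Flat A B] {n : ℕ} {f : Fin n → P} (hf : Acyclic f) :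
    Acyclic (fun i => f i ⊗ₜ[A] (1 : B)) := by
  classical
  let R := P ⊗[A] B
  let φ : P →+* R := Algebra.TensorProduct.includeLeftRingHom
  let j : ∀ {m : ℕ}, X P m → X R m := fun z s => φ (z s)
  have hd : ∀ {m : ℕ} (g : Fin m → P) (z : X P m), d (fun i => φ (g i)) (j z) = j (d g z) := by
    intro m
    induction m with
    | zero => intro g z; funext s; simp [d, j]
    | succ m ih =>
      intro g z
      have e : ∀ (k : ℕ) (y : X P (k + 1)), p0 (j y) = j (p0 y) ∧ p1 (j y) = j (p1 y) :=
        fun k y => ⟨rfl, rfl⟩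
      apply Wiebe.ext'
      · rw [p0_d, (e m _).1, (e m _).1, (e m _).2, p0_d]
        erw [ih (Fin.tail g)]
        funext s
        simp [j]
      · rw [p1_d, (e m _).2, (e m _).2, p1_d]
        erw [ih (Fin.tail g)]
        funext s
        simp [j]
  have hbot : ∀ m, bot R m = j (bot P m) := by
    intro m
    induction m with
    | zero => funext s; simp [bot, j]
    | succ m ih =>
      apply Wiebe.ext'
      · simp only [bot, p0_mk, ih]
        funext s
        exact congrArg φ (congrFun (p0_mk (bot P m, (0 : X P m))) s).symm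
      · simp only [bot, p1_mk]
        funext s
        exact ((congrArg φ (congrFun (p1_mk (bot P m, (0 : X P m))) s)).trans (map_zero φ)).symm
  let e : X P n ⊗[A] B ≃ₗ[A] X R n := TensorProduct.piLeft A B (fun _ => P)
  have he : ∀ (z : X P n) (b : B), e (z ⊗ₜ b) = ((1 : P) ⊗ₜ[A] b : R) • j z := by
    intro z b
    funext s
    have h1 : φ (z s) = z s ⊗ₜ[A] (1 : B) := rfl
    have h2 : e (z ⊗ₜ b) s = z s ⊗ₜ[A] b := by simp [e]
    rw [h2]
    show z s ⊗ₜ[A] b = ((1 : P) ⊗ₜ[A] b : R) * φ (z s)
    rw [h1, Algebra.TensorProduct.tmul_mul_tmul, one_mul, mul_one]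
  let v : X P n →ₗ[A] X P n := (d f).restrictScalars A
  let u : (X P n × P) →ₗ[A] X P n :=
    ((d f).coprod (LinearMap.toSpanSingleton P _ (bot P n))).restrictScalars A
  have hex : Function.Exact u v := by
    intro z
    constructor
    · intro hz
      obtain ⟨w, r, rfl⟩ := hf z hz
      exact ⟨(w, r), rfl⟩
    · rintro ⟨⟨w, r⟩, rfl⟩
      have hdd : d f (d f w) = 0 := d_d f w
      simp [u, v, hdd, d_bot]
  have hev : ∀ ζ, e (v.rTensor B ζ) = d (fun i => φ (f i)) (e ζ) := by
    intro ζ
    induction ζ with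
    | zero => simp
    | add x y hx hy => simp [map_add, hx, hy]
    | tmul z b => rw [LinearMap.rTensor_tmul, he, he, map_smul, hd]; rfl
  intro z hz
  obtain ⟨ζ, rfl⟩ := e.surjective z
  have hζ : v.rTensor B ζ = 0 := e.injective ((hev ζ).trans (hz.trans (map_zero e).symm))
  obtain ⟨η, rfl⟩ := (Module.Flat.rTensor_exact B hex ζ).1 hζ
  clear hζ hz
  induction η with
  | zero => exact ⟨0, 0, by simp⟩
  | add x y hx hy =>
    obtain ⟨a, r, h⟩ := hx
    obtain ⟨a', r', h'⟩ := hy
    exact ⟨a + a', r + r', by simp [map_add, h, h', add_smul]; abel⟩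
  | tmul x b =>
    refine ⟨((1 : P) ⊗ₜ[A] b : R) • j x.1, ((1 : P) ⊗ₜ[A] b : R) * φ x.2, ?_⟩
    rw [LinearMap.rTensor_tmul, he, map_smul, mul_smul, ← smul_add]
    congr 1
    erw [hd f x.1]
    rw [hbot]
    funext s
    simp [u, j]

/-- Let A -> P be a ring map, f_1, ..., f_n a Koszul-regular sequence in P with B = P/(f_1, ..., f_n)
flat over A, and g_1, ..., g_n a Koszul-regular sequence in P tensor_A B generating the kernel of
the multiplication map P tensor_A B -> B. Write f_i tensor 1 = sum_j c_ij g_j. Then the annihilator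
of the kernel of B tensor_A B -> B is the principal ideal generated by the image of det(c_ij). -/
theorem result {A P : Type u} [CommRing A] [CommRing P] [Algebra A P]
    {n : ℕ} (f : Fin n → P) (hf : LCI.IsKoszulRegularSeq P (List.ofFn f))
    [Module.Flat A (P ⧸ Ideal.span (Set.range f))]
    (g : Fin n → P ⊗[A] (P ⧸ Ideal.span (Set.range f)))
    (hg : LCI.IsKoszulRegularSeq (P ⊗[A] (P ⧸ Ideal.span (Set.range f))) (List.ofFn g))
    (hgker : Ideal.span (Set.range g) = RingHom.ker (Algebra.TensorProduct.productMap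
      (Ideal.Quotient.mkₐ A (Ideal.span (Set.range f))) (AlgHom.id A (P ⧸ Ideal.span (Set.range f)))))
    (c : Matrix (Fin n) (Fin n) (P ⊗[A] (P ⧸ Ideal.span (Set.range f))))
    (hc : ∀ i, f i ⊗ₜ[A] (1 : P ⧸ Ideal.span (Set.range f)) = ∑ j, c i j * g j) :
    Submodule.annihilator (RingHom.ker
        (Algebra.TensorProduct.lmul' (S := P ⧸ Ideal.span (Set.range f)) A)) =
      Ideal.span {Algebra.TensorProduct.map (Ideal.Quotient.mkₐ A (Ideal.span (Set.range f)))
        (AlgHom.id A (P ⧸ Ideal.span (Set.range f))) (Matrix.det c)} := by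
  classical
  let I := Ideal.span (Set.range f)
  let R := P ⊗[A] (P ⧸ I)
  let f' : Fin n → R := fun i => f i ⊗ₜ[A] 1
  have hac' : Wiebe.Acyclic f' := acyclic_baseChange (Wiebe.acyclic_of_isKoszulRegularSeq hf)
  let q : R →ₐ[A] (P ⧸ I) ⊗[A] (P ⧸ I) :=
    Algebra.TensorProduct.map (Ideal.Quotient.mkₐ A I) (AlgHom.id A (P ⧸ I))
  have hqs : Function.Surjective q :=
    TensorProduct.map_surjective (Ideal.Quotient.mkₐ_surjective A I) Function.surjective_id
  have hkq : RingHom.ker q = Ideal.span (Set.range f') := by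
    rw [Algebra.TensorProduct.map_ker _ _ (Ideal.Quotient.mkₐ_surjective A I) Function.surjective_id]
    have h1 : RingHom.ker (Ideal.Quotient.mkₐ A I) = I := Ideal.Quotient.mkₐ_ker A I
    have h2 : RingHom.ker (AlgHom.id A (P ⧸ I)) = ⊥ :=
      (RingHom.injective_iff_ker_eq_bot _).1 Function.injective_id
    rw [h1, h2, Ideal.map_bot, sup_bot_eq, Ideal.map_span, ← Set.range_comp]
    rfl
  have hcomp : (Algebra.TensorProduct.lmul' (S := P ⧸ I) A).comp q =
      Algebra.TensorProduct.productMap (Ideal.Quotient.mkₐ A I) (AlgHom.id A (P ⧸ I)) := by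
    ext x <;> simp [q]
  have hker : RingHom.ker (Algebra.TensorProduct.lmul' (S := P ⧸ I) A) = Ideal.span (Set.range (q ∘ g)) := by
    rw [← Ideal.map_comap_of_surjective q hqs (RingHom.ker (Algebra.TensorProduct.lmul' (S := P ⧸ I) A)),
      Set.range_comp, ← Ideal.map_span]
    congr 1
    rw [hgker, ← hcomp]
    rfl
  have hcf : ∀ i, f' i = ∑ j, c i j * g j := hc
  apply le_antisymm
  · intro t ht
    obtain ⟨a, rfl⟩ := hqs t
    have ha : ∀ j, a * g j ∈ Ideal.span (Set.range f') := fun j => by
      rw [← hkq, RingHom.mem_ker, map_mul]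
      exact Submodule.mem_annihilator.1 ht _ (hker ▸ Ideal.subset_span ⟨j, rfl⟩)
    have := Ideal.mem_map_of_mem q (Wiebe.mem_of_mul_mem hac' c hcf ha)
    rw [Ideal.map_sup, Ideal.map_span q {c.det}, Set.image_singleton,
      show Ideal.map q (Ideal.span (Set.range f')) = ⊥ from (Ideal.map_eq_bot_iff_le_ker _).2 hkq.ge, bot_sup_eq] at this
    exact this
  · rw [Ideal.span_singleton_le_iff_mem, Submodule.mem_annihilator, hker]
    intro x hx
    induction hx using Submodule.span_induction with
    | mem x hx =>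
      obtain ⟨j, rfl⟩ := hx
      show q c.det * q (g j) = 0
      rw [← map_mul, ← RingHom.mem_ker, hkq]
      exact Wiebe.det_mul_mem c hcf j
    | zero => exact smul_zero _
    | add x y _ _ hx hy => rw [smul_add, hx, hy, add_zero]
    | smul r x _ hx => rw [smul_comm, hx, smul_zero]

end Groth.Agent.S2235
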