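import Groth.Statements.S9254
import Groth.Agent.SyntLib.Rel
import Groth.Agent.KoszulLib.Iff

set_option autoImplicit false
universe u
attribute [local instance] HasDerivedCategory.standard
open CategoryTheory
open Synt

namespace Groth.Agent.S9254

/-- Let R be a ring and F_1, ..., F_c polynomials in R[x_1, ..., x_n] that present R[x_1, ...,
x_n]/(F_1, ..., F_c) as a relative global complete intersection over R. Then the Koszul complex of
F_1, ..., F_c over the polynomial ring is exact outside degree zero, that is, F_1, ..., F_c form a
Koszul-regular sequence. -/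
theorem result (R : Type u) [CommRing R] (n c : ℕ)
    (F : Fin c → MvPolynomial (Fin n) R) (h : Synt.IsRelGCI R n c F) :
    LCI.IsKoszulRegularSeq (MvPolynomial (Fin n) R) (List.ofFn F) := by
  refine KoszulLib.isKoszulRegularSeq_of_acyclic (KoszulLib.acyclic_of_local fun P hP => ?_)
  by_cases hJ : Ideal.span (Set.range F) ≤ P
  · have h1 := (SyntLib.relGCI_regular h P hJ).1.toIsWeaklyRegular
    rw [List.map_ofFn] at h1
    exact KoszulLib.acyclic_of_isWeaklyRegular' h1
  · refine KoszulLib.acyclic_of_span_eq_top ?_
    obtain ⟨x, hx, hxP⟩ := SetLike.not_le_iff_exists.mp hJ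
    rw [Set.range_comp, ← Ideal.map_span]
    exact Ideal.eq_top_of_isUnit_mem _ (Ideal.mem_map_of_mem _ hx)
      (IsLocalization.map_units (Localization.AtPrime P) (⟨x, hxP⟩ : P.primeCompl))

end Groth.Agent.S9254
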