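import Groth.Statements.S8670
import Groth.Agent.BlowCech.IdealPow
import Groth.Agent.AVMukai.Conc
import Groth.Agent.K0ResLF.RpushChi
import Groth.Agent.RatBlow.Sections
import Groth.Agent.ProjForm.Perfect
import Groth.Agent.PerfHom.Basic
import Groth.Agent.PerfLocal.K0
import Groth.Agent.DQCoh.RelPerf
import Groth.Agent.DQPush.Basic
-- import your own Groth.Agent.* helpers here

set_option autoImplicit false
universe v u
open CategoryTheory CategoryTheory.Limits AlgebraicGeometry
attribute [local instance] HasDerivedCategory.standard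
set_option linter.style.haveILetI false
set_option backward.isDefEq.respectTransparency false
set_option backward.isDefEq.respectTransparency.types false
open SGA6

namespace Groth.Agent.S8670

open Groth.Agent

/-- `Rf_* Lf^* K ≅ K` as soon as `Rf_* O = O`. -/
theorem nonempty_push_pull {X X' : Scheme.{u}} (f : X' ⟶ X) [DCoh.HasRpush f] [DCoh.HasLpull f]
    (e₀ : Nonempty ((DCoh.Rpush f).obj (DCoh.inD X' (Coh.structureModule X')) ≅ DCoh.inD X (Coh.structureModule X)))
    (K : DCoh.D X) (hK : DCoh.IsPerfect K) :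
    Nonempty ((DCoh.Rpush f).obj ((DCoh.Lpull f).obj K) ≅ K) := by
  obtain ⟨P, hP, -, ⟨ε⟩⟩ := KFlat.exists_isKFlat_rep K
  have hM : DCoh.IsKFlat ((ProjForm.qC f).obj P) := KFlat.isKFlat_pullback f hP
  haveI := KFlat.hasLTensorCx P
  haveI := KFlat.hasLTensorCx ((ProjForm.qC f).obj P)
  obtain ⟨e₀⟩ := e₀
  obtain ⟨a⟩ := ProjForm.nonempty_projFormula_perfect f P hP (DQCoh.perfect_of_iso ε.symm hK)
    (DCoh.inD X' (Coh.structureModule X'))
  obtain ⟨u₁⟩ := PerfHom.nonempty_unit_ltensor (X := X) hP
  obtain ⟨u₂⟩ := PerfHom.nonempty_unit_ltensor (X := X') hM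
  exact ⟨(DCoh.Rpush f).mapIso ((DCoh.Lpull f).mapIso ε.symm ≪≫ ProjForm.lpullIso f hP ≪≫ u₂.symm) ≪≫ a.symm ≪≫
    (DCoh.LTensorCx P).mapIso e₀ ≪≫ u₁ ≪≫ ε⟩

/-- Let X be a scheme carrying an ample invertible O_X-module, i : Y ⟶ X a Koszul-regular closed
immersion whose image is nowhere dense in X (the complement of the image is dense, i.e. Y has
codimension ≥ 1 in X at each of its points) and f : X' ⟶ X the blowing up of X along Y. On K^• = K₀
of perfect complexes let f^* be induced by Lf^* and f_* by Rf_* (both total derived functors assumed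
to exist, with their triangulated structures carried as instance hypotheses, and to preserve perfect
complexes, hypotheses hpull and hpush). Then f_* ∘ f^* is the identity of K^•(X). (The published
statement has no codimension condition: where Y contains a nonempty open subset of X the blowing up
is empty over it and f_* f^* is not the identity — for X a point and Y = X, K^•(X') = 0 while [O_X]
≠ 0; the published proof rests on f_*(1) = 1, i.e. R f_* O_{X'} = O_X, which holds when the image of
i is nowhere dense and fails over any nonempty open subset of X contained in Y; this row assumes the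
image nowhere dense.) -/
theorem result {X Y X' : Scheme.{u}} (L : X.Modules) (hL : CohB1.IsAmple L)
    (i : Y ⟶ X) [IsClosedImmersion i] (hi : RegImm.IsRegularImmersion .koszul i) (hdense : Dense (Set.range i)ᶜ)
    (f : X' ⟶ X) (hf : BlowUp.IsBlowUp f i.ker)
    [DCoh.HasLpull f] [(DCoh.Lpull f).CommShift ℤ] [(DCoh.Lpull f).IsTriangulated]
    (hpull : ∀ K : DCoh.D X, DCoh.IsPerfect K → DCoh.IsPerfect ((DCoh.Lpull f).obj K))
    [DCoh.HasRpush f] [(DCoh.Rpush f).CommShift ℤ] [(DCoh.Rpush f).IsTriangulated]
    (hpush : ∀ K : DCoh.D X', DCoh.IsPerfect K → DCoh.IsPerfect ((DCoh.Rpush f).obj K)) (x : SGA6.Kperf X) :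
    SGA6.mapTr (DCoh.Rpush f) (SGA6.perfP X') (SGA6.perfP X) hpush (SGA6.mapTr (DCoh.Lpull f) (SGA6.perfP X) (SGA6.perfP X') hpull x) = x := by
  haveI := DQPush.hasInj X'
  have hJ := BlowCech.locData_of_koszul i hi hdense
  haveI := BlowCech.isIso_unit hJ hf
  obtain ⟨t⟩ := RatBlow.nonempty_idealMod_top (X := X')
  have hzero : ∀ n : ℕ, n ≠ 0 → IsZero ((Coh.Rpush f n).obj (Coh.structureModule X')) := fun n hn => by
    refine K0ResLF.isZero_rpush_of_ab f (Coh.structureModule X') n ?_
    have h := BlowCech.isZero_rpush_idealPow hJ hf 0 n (Nat.one_le_iff_ne_zero.2 hn)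
    rw [pow_zero] at h
    exact h.of_iso ((Coh.RpushAb f n).mapIso ((SheafOfModules.toSheaf _).mapIso t)).symm
  obtain ⟨e⟩ := AVMukai.nonempty_rpush_shift f (Coh.structureModule X') (Coh.structureModule X) 0 hzero
    ⟨(Coh.push f).rightDerivedZeroIsoSelf.app _ ≪≫
      (asIso ((Scheme.Modules.pullbackPushforwardAdjunction f).unit.app (Coh.structureModule X)) ≪≫
        (Scheme.Modules.pushforward f).mapIso (PicLoc.pullbackStructureIso f)).symm⟩
  have e₀ : Nonempty ((DCoh.Rpush f).obj (DCoh.inD X' (Coh.structureModule X')) ≅ DCoh.inD X (Coh.structureModule X)) :=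
    ⟨e ≪≫ (shiftFunctorZero' (DCoh.D X) (-((0 : ℕ) : ℤ)) (by simp)).app _⟩
  induction x using QuotientAddGroup.induction_on with
  | H a =>
    induction a using FreeAbelianGroup.induction_on with
    | zero => rw [QuotientAddGroup.mk_zero, map_zero, map_zero]
    | of K =>
      obtain ⟨φ⟩ := nonempty_push_pull f e₀ K.1 K.2
      have h := PerfLocal.clTr_eq_of_iso (P := SGA6.perfP X) φ DQCoh.perfect_zero (hpush _ (hpull _ K.2)) K.2
      simp only [KZero.clTr, dif_pos K.2, dif_pos (hpush _ (hpull _ K.2))] at h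
      exact h.symm
    | neg K hK => rw [QuotientAddGroup.mk_neg, map_neg, map_neg, hK]
    | add a b ha hb => rw [QuotientAddGroup.mk_add, map_add, map_add, ha, hb]

end Groth.Agent.S8670
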