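import Groth.Statements.S3750
import Groth.Agent.K0ResLF.PushK
import Groth.Agent.SGA6Ext.Pull
import Groth.Agent.K0Dev.Scheme
-- import your own Groth.Agent.* helpers here

set_option autoImplicit false
set_option backward.isDefEq.respectTransparency false
set_option backward.isDefEq.respectTransparency.types false
set_option linter.style.haveILetI false
universe v u
open CategoryTheory CategoryTheory.Limits AlgebraicGeometry
attribute [local instance] HasDerivedCategory.standard
open KRR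

namespace Groth.Agent.S3750

/-- Let F : P ⟶ M and f : X ⟶ Y be regular closed imbeddings whose conormal sheaves are locally free of
the same rank d, fitting in a cartesian square with φ : Y ⟶ M and ψ : X ⟶ P (so X = Y ×_M P), all
these schemes Noetherian and connected and Y, M having enough locally free sheaves. Let k : Z ⟶ Y be
a morphism from a connected Noetherian scheme whose image is disjoint from f(X), and h = k ≫ φ : Z ⟶
M. Then, on models of the λ-rings K(P), K(M) and K(Z), the pull-back h^K : K(M) → K(Z) kills the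
image of the push-forward F_K : K(P) → K(M): h^K(F_K(p)) = 0 for every p ∈ K(P). -/
theorem result {X Y P M Z : Scheme.{u}} (F : P ⟶ M) (φ : Y ⟶ M) (f : X ⟶ Y) (ψ : X ⟶ P)
    (hsq : IsPullback f ψ φ F) (hF : Mor2.IsRegularClosedImmersion F) (hf : Mor2.IsRegularClosedImmersion f) (d : ℕ)
    (hcF : FlatMod.IsFinLocFreeOfRank d (Omega.conormal F)) (hcf : FlatMod.IsFinLocFreeOfRank d (Omega.conormal f))
    (k : Z ⟶ Y) (hk : Disjoint (Set.range k.base) (Set.range f.base))
    [IsNoetherian X] [ConnectedSpace ↥X] [IsNoetherian P] [ConnectedSpace ↥P] [IsNoetherian Z] [ConnectedSpace ↥Z] [IsNoetherian Y] [ConnectedSpace ↥Y] (hYe : KRR.HasEnoughLocFree Y) [IsNoetherian M] [ConnectedSpace ↥M] (hMe : KRR.HasEnoughLocFree M)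
    (KP : Type v) [CommRing KP] [LambdaRing.LambdaOps KP] (PP : LambdaRing.PosStructure KP) (φP : SGA6.Kvb P →+ KP) (hKP : KRR.IsModel P KP PP φP)
    (KM : Type v) [CommRing KM] [LambdaRing.LambdaOps KM] (PM : LambdaRing.PosStructure KM) (φM : SGA6.Kvb M →+ KM) (hKM : KRR.IsModel M KM PM φM)
    (KZ : Type v) [CommRing KZ] [LambdaRing.LambdaOps KZ] (PZ : LambdaRing.PosStructure KZ) (φZ : SGA6.Kvb Z →+ KZ) (hKZ : KRR.IsModel Z KZ PZ φZ)
    (gh : KM →+ KZ) (hgh : KRR.IsPull (k ≫ φ) φM φZ gh)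
    (gF : KP →+ KM) (hgF : KRR.IsPushCl F φP φM gF) (p : KP) : gh (gF p) = 0 := by
  classical
  haveI := hF.1
  let U : M.Opens := ⟨(Set.range F)ᶜ, F.isClosedEmbedding.isClosed_range.isOpen_compl⟩
  have hU : Set.range (k ≫ φ).base ⊆ Set.range U.ι.base := by
    rintro _ ⟨z, rfl⟩
    rw [Scheme.Opens.range_ι]
    rintro ⟨w, hw⟩
    obtain ⟨x, hx1, -⟩ := Scheme.Pullback.exists_preimage_pullback (f := φ) (g := F) (k.base z) w hw.symm
    refine Set.disjoint_left.1 hk ⟨z, rfl⟩ ⟨hsq.isoPullback.inv x, ?_⟩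
    rw [← hx1, ← hsq.isoPullback_inv_fst]
    rfl
  let h' : Z ⟶ (U : Scheme.{u}) := IsOpenImmersion.lift U.ι (k ≫ φ) hU
  have hfac : h' ≫ U.ι = k ≫ φ := IsOpenImmersion.lift_fac _ _ _
  refine DFunLike.congr_fun (K0ResLF.model_hom_ext hKP.bijective (a := gh.comp gF) (b := 0) fun Q hQ => ?_) p
  obtain ⟨n, L, π, hL⟩ := (K0ResLF.hasLFRes_push hMe hF hQ).2
  haveI := hL.quasiIso
  let R := Scheme.Modules.restrictFunctor U.ι
  have hzero : IsZero (R.obj ((Scheme.Modules.pushforward F).obj Q)) := by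
    refine (K0Dev.isZero_iff_stalks _).2 fun v => (ClSubLib.notMem_support_iff_isZero _ v).1 fun hv => ?_
    have h0 : U.ι v ∉ CohB1.support ((Scheme.Modules.pushforward F).obj Q) := fun hs =>
      hs (KFlat.subsingleton_stalk_push F Q v.2)
    exact h0 ((ClSubLib.support_pullback_subset U.ι _) (by
      rwa [← ClSubLib.support_congr ((Scheme.Modules.restrictFunctorIsoPullback U.ι).app _)]))
  let π' := (R.mapHomologicalComplex _).map π ≫
    ((HomologicalComplex.singleMapHomologicalComplex R (ComplexShape.down ℕ) 0).app _).hom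
  have hLU : ∀ i, FlatMod.IsFinLocFree (R.obj (L.X i)) := fun i =>
    DQCoh.isFinLocFree_restrict U.ι (hL.finLocFree i)
  have hsum := K0ResLF.cl_eq_sum (K0ResLF.LF (U : Scheme.{u})) (fun _ hS => K0ResLF.isFinLocFree_left hS)
    (DQCoh.isFinLocFree_of_isZero hzero) n _ π' (fun i hi => R.map_isZero (hL.isZero i hi)) hLU
  have h0 : KZero.clSub (K0ResLF.LF (U : Scheme.{u})) (R.obj ((Scheme.Modules.pushforward F).obj Q)) = 0 :=
    K0Dev.cl_zero hzero
  rw [h0] at hsum
  rw [AddMonoidHom.comp_apply, hgF Q hQ n L π hL, map_sum, AddMonoidHom.zero_apply]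
  refine Eq.trans ?_ ((congrArg (fun s => φZ (SGA6Ext.pullK h' s)) hsum).symm.trans (by simp))
  simp only [map_sum]
  refine Finset.sum_congr rfl fun i _ => ?_
  rw [map_zsmul, map_zsmul, map_zsmul, hgh _ (hL.finLocFree i)]
  refine congrArg (fun a => (-1 : ℤ) ^ i • φZ a) ?_
  refine Eq.trans ?_ (SGA6Ext.pullK_cls h' (hLU i)).symm
  exact SGA6Ext.cls_iso ((Scheme.Modules.pullbackCongr hfac.symm).app _ ≪≫
    ((Scheme.Modules.pullbackComp h' U.ι).app (L.X i)).symm ≪≫
    (Scheme.Modules.pullback h').mapIso (((Scheme.Modules.restrictFunctorIsoPullback U.ι).app (L.X i)).symm))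
    (SGA6Ext.isFinLocFree_pullback _ (hL.finLocFree i))

end Groth.Agent.S3750
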