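import Groth.Statements.S8283
import Groth.Agent.CMFlat.Scheme
import Groth.Agent.CMFlat.RegImm

set_option autoImplicit false
set_option backward.isDefEq.respectTransparency false
set_option backward.isDefEq.respectTransparency.types false
set_option maxHeartbeats 1000000
universe u
open CategoryTheory CategoryTheory.Limits AlgebraicGeometry TopologicalSpace IsLocalRing
open EGA2

namespace Groth.Agent.S8283

/-- A noetherian local ring with non-nilpotent principal maximal ideal is a DVR. -/
theorem isDVR_of_principal {A : Type*} [CommRing A] [IsLocalRing A] [IsNoetherianRing A] (t : A)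
    (ht : maximalIdeal A = Ideal.span {t}) (hnil : ¬ IsNilpotent t) :
    ∃ _ : IsDomain A, IsDiscreteValuationRing A := by
  classical
  have hrep : ∀ a : A, a ≠ 0 → ∃ (k : ℕ) (v : Aˣ), a = (v : A) * t ^ k := by
    intro a ha
    by_contra hno
    push Not at hno
    have hall : ∀ k : ℕ, a ∈ maximalIdeal A ^ k := by
      intro k
      induction k with
      | zero => rw [pow_zero, Ideal.one_eq_top]; exact Submodule.mem_top
      | succ k ih =>
        rw [ht, Ideal.span_singleton_pow, Ideal.mem_span_singleton'] at ih ⊢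
        obtain ⟨c, hc⟩ := ih
        have hc' : c ∈ maximalIdeal A := fun hu => hno k hu.unit hc.symm
        rw [ht, Ideal.mem_span_singleton'] at hc'
        obtain ⟨d, rfl⟩ := hc'
        exact ⟨d, by rw [← hc]; ring⟩
    refine ha (Ideal.mem_bot.mp ?_)
    rw [← Ideal.iInf_pow_eq_bot_of_isLocalRing (maximalIdeal A) (maximalIdeal.isMaximal A).ne_top]
    exact (Submodule.mem_iInf _).mpr hall
  have hpow : ∀ k : ℕ, t ^ k ≠ 0 := fun k h => hnil ⟨k, h⟩
  haveI : NoZeroDivisors A := ⟨fun {a b} hab => by
    by_contra hno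
    push Not at hno
    obtain ⟨k, v, rfl⟩ := hrep a hno.1
    obtain ⟨l, w, rfl⟩ := hrep b hno.2
    refine hpow (k + l) ((v * w).isUnit.mul_right_eq_zero.mp ?_)
    rw [← hab, Units.val_mul, pow_add]; ring⟩
  haveI hdom : IsDomain A := NoZeroDivisors.to_isDomain A
  have hirr : Irreducible t := by
    refine ((Ideal.span_singleton_prime (fun h => hnil (by rw [h]; exact IsNilpotent.zero))).1 ?_).irreducible
    rw [← ht]; exact (maximalIdeal.isMaximal A).isPrime
  exact ⟨hdom, IsDiscreteValuationRing.ofHasUnitMulPowIrreducibleFactorization ⟨t, hirr, fun {x} hx => by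
    obtain ⟨k, v, hv⟩ := hrep x hx
    exact ⟨k, ⟨v, by rw [hv, mul_comm]⟩⟩⟩⟩

/-- The algebra of a section with principal kernel. -/
theorem section_algebra {B O C : Type*} [CommRing B] [CommRing O] [CommRing C] [IsLocalRing B] [IsLocalRing O]
    [IsLocalRing C] (σ : B →+* O) [IsLocalHom σ] (ρ : O →+* C) [IsLocalHom ρ]
    (hb : Function.Bijective (ρ.comp σ)) (t : O) (ht : t ∈ nonZeroDivisors O) (hker : RingHom.ker ρ = Ideal.span {t}) :
    (∀ k : ℕ, t ^ k ∉ (maximalIdeal B).map σ) ∧ maximalIdeal O = (maximalIdeal B).map σ ⊔ Ideal.span {t} := by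
  set I := (maximalIdeal B).map σ
  have hdecomp : ∀ v : O, ∃ b w, v = σ b + t * w := fun v => by
    obtain ⟨b, hb'⟩ := hb.2 (ρ v)
    have : v - σ b ∈ RingHom.ker ρ := by rw [RingHom.mem_ker, map_sub, sub_eq_zero]; exact hb'.symm
    rw [hker, Ideal.mem_span_singleton'] at this
    obtain ⟨w, hw⟩ := this
    exact ⟨b, w, by linear_combination -hw⟩
  have hI : ∀ v ∈ I, ∃ a ∈ maximalIdeal B, ∃ w ∈ I, v = σ a + t * w := by
    intro v hv
    induction hv using Submodule.span_induction with
    | mem v hv => obtain ⟨a, ha, rfl⟩ := hv; exact ⟨a, ha, 0, I.zero_mem, by ring⟩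
    | zero => exact ⟨0, zero_mem _, 0, I.zero_mem, by simp⟩
    | add v v' _ _ h h' =>
      obtain ⟨a, ha, w, hw, rfl⟩ := h
      obtain ⟨a', ha', w', hw', rfl⟩ := h'
      exact ⟨a + a', add_mem ha ha', w + w', add_mem hw hw', by rw [map_add]; ring⟩
    | smul c v _ h =>
      obtain ⟨a, ha, w, hw, rfl⟩ := h
      obtain ⟨b, c', rfl⟩ := hdecomp c
      refine ⟨b * a, Ideal.mul_mem_left _ _ ha, c' * σ a + (σ b + t * c') * w,
        add_mem (Ideal.mul_mem_left _ _ (Ideal.mem_map_of_mem σ ha)) (Ideal.mul_mem_left _ _ hw), ?_⟩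
      rw [smul_eq_mul, map_mul]; ring
  constructor
  · intro k
    induction k with
    | zero =>
      rw [pow_zero]
      exact fun h => (maximalIdeal.isMaximal O).ne_top (top_le_iff.mp fun x _ => by
        have := Ideal.mul_mem_left _ x h
        rw [mul_one] at this
        refine Ideal.map_le_iff_le_comap.mpr ?_ this
        exact fun a ha => (map_mem_nonunits_iff σ a).mpr ha)
    | succ k ih =>
      intro h
      obtain ⟨a, -, w, hw, he⟩ := hI _ h
      have h0 : ρ (σ a) = ρ (σ 0) := by
        have := congrArg ρ he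
        rw [pow_succ, map_mul, show ρ t = 0 from RingHom.mem_ker.mp (hker.ge (Ideal.mem_span_singleton_self t)),
          mul_zero, map_add, map_mul, RingHom.mem_ker.mp (hker.ge (Ideal.mem_span_singleton_self t)), zero_mul,
          add_zero] at this
        rw [← this, map_zero, map_zero]
      rw [hb.1 h0, map_zero, zero_add, pow_succ'] at he
      exact ih ((mul_cancel_left_mem_nonZeroDivisors ht).mp he ▸ hw)
  · refine le_antisymm (fun v hv => ?_) (sup_le ?_ ?_)
    · obtain ⟨b, w, rfl⟩ := hdecomp v
      refine add_mem (Ideal.mem_sup_left (Ideal.mem_map_of_mem σ ?_))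
        (Ideal.mem_sup_right (Ideal.mul_mem_right _ _ (Ideal.mem_span_singleton_self t)))
      intro hu
      refine hv (isUnit_of_map_unit ρ _ ?_)
      rw [map_add, map_mul, RingHom.mem_ker.mp (hker.ge (Ideal.mem_span_singleton_self t)), zero_mul, add_zero]
      exact (hu.map σ).map ρ
    · exact Ideal.map_le_iff_le_comap.mpr fun a ha => (map_mem_nonunits_iff σ a).mpr ha
    · rw [← hker]
      exact IsLocalRing.le_maximalIdeal (RingHom.ker_ne_top ρ)

/-- Let π : V → X be locally of finite type and j : X → V a section of π that is a closed immersion with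
invertible ideal sheaf. Then for every x ∈ X the local ring at j(x) of the fibre π⁻¹(π(j(x))) =
π⁻¹(x) is a regular local ring of dimension one, i.e. a discrete valuation ring (so j(x) lies on a
single irreducible component of the fibre; the completion of that local ring is then a power-series
ring in one variable over the residue field of x). (The published statement assumes π of finite
type; this row assumes only that π is locally of finite type, which is all the proof uses: it needs
no more than the Noetherian property of the local rings of the fibre.) -/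
theorem result {X V : Scheme.{u}} (π : V ⟶ X) [LocallyOfFiniteType π]
    (j : X ⟶ V) [IsClosedImmersion j] (hj : j ≫ π = 𝟙 X) (hJ : BlowUp.IsEffCartierIdeal j.ker) (x : X) :
    ∃ _ : IsDomain ((π.fiber (π.base (j.base x))).presheaf.stalk (π.asFiber (j.base x))),
      IsDiscreteValuationRing ((π.fiber (π.base (j.base x))).presheaf.stalk (π.asFiber (j.base x))) := by
  let v := j.base x
  let σ := (π.stalkMap v).hom
  let ρ := (j.stalkMap x).hom
  have hb : Function.Bijective (ρ.comp σ) := by
    have h : π.stalkMap (j x) ≫ j.stalkMap x = (j ≫ π).stalkMap x := (Scheme.Hom.stalkMap_comp j π x).symm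
    haveI : IsIso (j ≫ π) := by rw [hj]; infer_instance
    haveI : IsIso (π.stalkMap (j x) ≫ j.stalkMap x) := by rw [h]; infer_instance
    exact ConcreteCategory.bijective_of_isIso (π.stalkMap (j x) ≫ j.stalkMap x)
  obtain ⟨U, hxU, f, hf, hfU⟩ := hJ v
  have hker : RingHom.ker ρ = Ideal.span {(V.presheaf.germ U.1 v hxU).hom f} := by
    rw [CMFlat.ker_stalkMap_eq j x U hxU, ← Scheme.Hom.ker_apply, hfU, Ideal.map_span, Set.image_singleton]
  have hnzd : (V.presheaf.germ U.1 v hxU).hom f ∈ nonZeroDivisors (V.presheaf.stalk v) := by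
    letI := (V.presheaf.germ U.1 v hxU).hom.toAlgebra
    haveI := U.2.isLocalization_stalk ⟨v, hxU⟩
    exact IsLocalization.map_nonZeroDivisors_le (U.2.primeIdealOf ⟨v, hxU⟩).asIdeal.primeCompl _
      ⟨f, hf, rfl⟩
  obtain ⟨hnil, hmax⟩ := section_algebra σ ρ hb _ hnzd hker
  obtain ⟨e⟩ := CMFlat.nonempty_fiberStalk_equiv π v
  haveI : LocallyOfFiniteType (π.fiberToSpecResidueField (π v)) :=
    MorphismProperty.pullback_snd (P := @LocallyOfFiniteType) π _ inferInstance
  haveI : IsLocallyNoetherian (π.fiber (π v)) := LocallyOfFiniteType.isLocallyNoetherian (π.fiberToSpecResidueField (π v))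
  let q := e.toRingHom.comp (Ideal.Quotient.mk ((maximalIdeal (X.presheaf.stalk (π v))).map σ))
  have hq : Function.Surjective q := e.surjective.comp Ideal.Quotient.mk_surjective
  have hqker : ∀ w, q w = 0 ↔ w ∈ (maximalIdeal (X.presheaf.stalk (π v))).map σ := fun w => by
    rw [← Ideal.Quotient.eq_zero_iff_mem]
    exact map_eq_zero_iff e.toRingHom e.injective
  refine isDVR_of_principal (q ((V.presheaf.germ U.1 v hxU).hom f)) (le_antisymm (fun a ha => ?_) ?_) ?_
  · obtain ⟨w, rfl⟩ := hq a
    have hw : w ∈ maximalIdeal (V.presheaf.stalk v) := fun hu => ha (hu.map q)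
    rw [hmax, Submodule.mem_sup] at hw
    obtain ⟨a₀, ha₀, b₀, hb₀, rfl⟩ := hw
    rw [map_add, (hqker a₀).mpr ha₀, zero_add]
    obtain ⟨c, rfl⟩ := Ideal.mem_span_singleton'.mp hb₀
    exact Ideal.mem_span_singleton'.mpr ⟨q c, (map_mul q _ _).symm⟩
  · rw [Ideal.span_singleton_le_iff_mem]
    intro hu
    haveI := IsLocalHom.of_surjective q hq
    have h2 : (V.presheaf.germ U.1 v hxU).hom f ∈ maximalIdeal (V.presheaf.stalk v) := by
      rw [hmax]; exact Ideal.mem_sup_right (Ideal.mem_span_singleton_self _)
    exact h2 (isUnit_of_map_unit q _ hu)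
  · rintro ⟨k, hk⟩
    rw [← map_pow, hqker] at hk
    exact hnil k hk

end Groth.Agent.S8283
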