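import Groth.Statements.S7603
import Mathlib
import Groth.Agent.GeomConn.Basic
import Groth.Agent.UnibranchEtale.Components
open CategoryTheory CategoryTheory.Limits AlgebraicGeometry

set_option autoImplicit false
universe u
open CategoryTheory CategoryTheory.Limits AlgebraicGeometry
open Variety

set_option backward.isDefEq.respectTransparency false
namespace Groth.Agent.S7603


/-- A connected Noetherian scheme whose local rings are domains is irreducible. -/
theorem irreducibleSpace_of_domains (Y : Scheme.{u}) [IsNoetherian Y] [ConnectedSpace Y]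
    (h : ∀ y : Y, IsDomain (Y.presheaf.stalk y)) : IrreducibleSpace Y := by
  have uniq : ∀ (y : Y) (C : Set Y), C ∈ irreducibleComponents Y → y ∈ C →
      C = closure {Y.fromSpecStalk y (haveI := h y; ⟨⊥, Ideal.isPrime_bot⟩ : PrimeSpectrum (Y.presheaf.stalk y))} := by
    intro y C hC hy
    haveI := h y
    obtain ⟨c, hc, hmax⟩ := Groth.Agent.UnibranchEtale.exists_generic hC
    obtain ⟨p, hp⟩ : c ∈ Set.range (Y.fromSpecStalk y) := by
      rw [Scheme.range_fromSpecStalk]; exact hc.specializes hy
    have h1 : Y.fromSpecStalk y (⟨⊥, Ideal.isPrime_bot⟩ : PrimeSpectrum (Y.presheaf.stalk y)) ⤳ c :=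
      hp ▸ ((PrimeSpectrum.le_iff_specializes _ p).1 bot_le).map (Y.fromSpecStalk y).continuous
    rw [hmax _ h1, hc.def]
  obtain ⟨y⟩ := (inferInstance : Nonempty Y)
  have hfin : (irreducibleComponents Y).Finite := TopologicalSpace.NoetherianSpace.finite_irreducibleComponents
  have hZ := irreducibleComponent_mem_irreducibleComponents y
  have hop : IsOpen (irreducibleComponent y) := by
    have e : (irreducibleComponent y)ᶜ = ⋃₀ (irreducibleComponents Y \ {irreducibleComponent y}) := by
      ext z
      constructor
      · intro hz
        exact ⟨irreducibleComponent z, ⟨irreducibleComponent_mem_irreducibleComponents z,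
          fun e => hz ((Set.mem_singleton_iff.1 e) ▸ mem_irreducibleComponent)⟩, mem_irreducibleComponent⟩
      · rintro ⟨C, ⟨hC, hne⟩, hz⟩ hz'
        exact hne (Set.mem_singleton_iff.2 ((uniq z C hC hz).trans (uniq z _ hZ hz').symm))
    rw [← isClosed_compl_iff, e]
    rw [Set.sUnion_eq_biUnion]
    exact Set.Finite.isClosed_biUnion hfin.sdiff fun C hC => isClosed_of_mem_irreducibleComponents C hC.1
  refine (irreducibleSpace_def _).2 ?_
  rw [Set.top_eq_univ, show (Set.univ : Set Y) = irreducibleComponent y from
    (IsClopen.eq_univ ⟨isClosed_irreducibleComponent, hop⟩ ⟨y, mem_irreducibleComponent⟩).symm]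
  exact isIrreducible_irreducibleComponent

/-- (2) ⇔ (3): let X be a proper scheme over a field k which is geometrically normal (X_K is a normal
scheme for every extension field K of k). Then X is geometrically connected over k exactly when it
is geometrically irreducible over k. (The published statement lists geometric integrality as a
further equivalent condition; given geometric normality it is equivalent to geometric irreducibility
by a direct argument, so this row omits it.) -/
theorem result (k : Type u) [Field k] (X : Scheme.{u}) [X.Over (Spec (CommRingCat.of k))] [IsProper (X ↘ (Spec (CommRingCat.of k)))]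
    (hX : ∀ (K : Type u) [Field K] [Algebra k K], Pi1.IsNormalScheme (Curv2.bc k X K)) :
    GeometricallyConnected (X ↘ (Spec (CommRingCat.of k))) ↔ GeometricallyIrreducible (X ↘ (Spec (CommRingCat.of k))) := by
  refine ⟨fun hc => ?_, fun hi => @Groth.Agent.GeomConn.geometricallyConnected_of_irreducible _ _ _ hi⟩
  refine ⟨geometrically_iff_of_commRing_of_isClosedUnderIsomorphisms.mpr fun K _ _ => ?_⟩
  show IrreducibleSpace ↥(Curv2.bc k X K)
  haveI : IsProper (pullback.snd (X ↘ (Spec (CommRingCat.of k))) (Spec.map (CommRingCat.ofHom (algebraMap k K)))) := inferInstance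
  haveI : IsLocallyNoetherian (Curv2.bc k X K) := LocallyOfFiniteType.isLocallyNoetherian
    (pullback.snd (X ↘ (Spec (CommRingCat.of k))) (Spec.map (CommRingCat.ofHom (algebraMap k K))))
  haveI : CompactSpace ↥(Curv2.bc k X K) := QuasiCompact.compactSpace_of_compactSpace
    (pullback.snd (X ↘ (Spec (CommRingCat.of k))) (Spec.map (CommRingCat.ofHom (algebraMap k K))))
  haveI : IsNoetherian (Curv2.bc k X K) := ⟨⟩
  haveI : ConnectedSpace ↥(Curv2.bc k X K) :=
    hc.geometrically_connectedSpace (Spec.map (CommRingCat.ofHom (algebraMap k K))) _ _ (IsPullback.of_hasPullback _ _)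
  exact irreducibleSpace_of_domains _ fun y => (hX K y).1

end Groth.Agent.S7603
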