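import Groth.Statements.S5778
import Groth.Agent.RegLoc.Order
import Groth.Agent.HilbSam.Main
import Mathlib.Algebra.Order.Antidiag.FinsuppEquiv
import Mathlib.RingTheory.Polynomial.HilbertPoly
import Mathlib.RingTheory.RegularLocalRing.Defs

set_option autoImplicit false
universe u
open EGA41 Groth.Agent IsLocalRing

namespace Groth.Agent.S5778

/-- Let A be a Noetherian local ring with maximal ideal m, residue field k, and let r be the dimension
of the k-vector space m/m². Then A is regular if and only if the canonical surjection of graded
k-algebras from the symmetric algebra of m/m² onto the associated graded ring of A for the m-adic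
filtration is bijective. Since that surjection is bijective exactly when source and target have the
same length in every degree, the condition is expressed here as: length_A(A/m^(s+1)) equals the
binomial coefficient C(s+r, r) for every s ≥ 0. -/
theorem result (A : Type u) [CommRing A] [IsLocalRing A]
    [IsNoetherianRing A] :
    IsRegularLocalRing A ↔
      ∀ s : ℕ, Module.length A (A ⧸ IsLocalRing.maximalIdeal A ^ (s + 1)) =
        ((s + Module.finrank (IsLocalRing.ResidueField A) (IsLocalRing.CotangentSpace A)).choose s : ℕ∞) := by
  classical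
  set m := maximalIdeal A with hm
  set r := Module.finrank (ResidueField A) (CotangentSpace A) with hr
  have hres : Module.length A (A ⧸ m) = 1 := by
    haveI : IsSimpleModule A (A ⧸ m) := isSimpleModule_iff_quot_maximal.2 ⟨m, maximalIdeal.isMaximal A, ⟨LinearEquiv.refl _ _⟩⟩
    exact Module.length_eq_one A _
  constructor
  · intro hreg
    obtain ⟨d, x, hx, hdim⟩ := RegLoc.exists_rsop A
    have hdr : d = r := by
      have h1 : (m.spanFinrank : WithBot ℕ∞) = (d : WithBot ℕ∞) :=
        IsRegularLocalRing.spanFinrank_maximalIdeal.trans hdim
      rw [hr, ← IsLocalRing.spanFinrank_maximalIdeal_eq_finrank_cotangentSpace]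
      exact_mod_cast h1.symm
    subst hdr
    have hgr : ∀ s : ℕ, Module.length A (A ⧸ m ^ (s + 1)) =
        Module.length A (A ⧸ m ^ s) + ((r + s - 1).choose s : ℕ∞) := by
      intro s
      set D := (Finset.univ : Finset (Fin r)).finsuppAntidiag s with hD
      have hdeg : ∀ e ∈ D, Finsupp.degree e = s := fun e he => by
        rw [Finsupp.degree_eq_sum]; exact (Finset.mem_finsuppAntidiag.1 he).1
      let ψ : (D → A) →ₗ[A] A ⧸ m ^ (s + 1) :=
        (Submodule.mkQ (m ^ (s + 1) : Submodule A A)) ∘ₗ Fintype.linearCombination A (fun e : D => RegLoc.monEval x e.1)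
      have hmemm : ∀ c : D → A, ∑ e : D, c e • RegLoc.monEval x e.1 ∈ m ^ s := fun c =>
        Submodule.sum_mem _ fun e _ => Submodule.smul_mem _ _ (hdeg e.1 e.2 ▸ RegLoc.monEval_mem hx e.1)
      let q : (A ⧸ m ^ (s + 1)) →ₗ[A] A ⧸ m ^ s :=
        Submodule.mapQ _ _ LinearMap.id (Ideal.pow_le_pow_right (Nat.le_succ s))
      have hq : Function.Surjective q := fun z => by
        obtain ⟨a, rfl⟩ := Submodule.mkQ_surjective (m ^ s : Submodule A A) z
        exact ⟨Submodule.Quotient.mk a, rfl⟩
      have hrange : LinearMap.range ψ = LinearMap.ker q := by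
        refine le_antisymm ?_ fun z hz => ?_
        · rintro _ ⟨c, rfl⟩
          exact (Submodule.Quotient.mk_eq_zero _).2 (hmemm c)
        · obtain ⟨a, rfl⟩ := Submodule.mkQ_surjective (m ^ (s + 1) : Submodule A A) z
          have ha : a ∈ m ^ s := (Submodule.Quotient.mk_eq_zero _).1 hz
          obtain ⟨G, hG, rfl⟩ := RegLoc.exists_homogeneous_eval x s (by rw [hx]; exact ha)
          refine ⟨fun e => G.coeff e.1, ?_⟩
          refine congrArg (Submodule.mkQ _) ?_
          rw [Fintype.linearCombination_apply, MvPolynomial.eval_eq']
          simp only [smul_eq_mul]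
          rw [Finset.sum_coe_sort D (fun e => G.coeff e * RegLoc.monEval x e)]
          refine (Finset.sum_subset (fun e he => ?_) fun e _ he => ?_).symm
          · rw [hD, Finset.mem_finsuppAntidiag, ← Finsupp.degree_eq_sum]
            exact ⟨(hG.degree_eq_sum_deg_support he).symm, Finset.subset_univ _⟩
          · rw [MvPolynomial.notMem_support_iff.1 he, zero_mul]
      have hker : LinearMap.ker ψ = LinearMap.ker
          (LinearMap.pi fun e : D => (Submodule.mkQ (m : Submodule A A)) ∘ₗ LinearMap.proj e) := by
        ext c
        simp only [LinearMap.mem_ker, funext_iff, LinearMap.pi_apply, LinearMap.comp_apply, LinearMap.proj_apply,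
          Pi.zero_apply, Submodule.mkQ_apply, Submodule.Quotient.mk_eq_zero]
        constructor
        · intro hc e
          let G : MvPolynomial (Fin r) A := ∑ e : D, MvPolynomial.monomial e.1 (c e)
          have hG : G.IsHomogeneous s := MvPolynomial.IsHomogeneous.sum _ _ _ fun e _ =>
            MvPolynomial.isHomogeneous_monomial _ (hdeg e.1 e.2)
          have hev : MvPolynomial.eval x G ∈ m ^ (s + 1) := by
            have : MvPolynomial.eval x G = Fintype.linearCombination A (fun e : D => RegLoc.monEval x e.1) c := by
              simp [G, RegLoc.monEval, Fintype.linearCombination_apply, MvPolynomial.eval_monomial, Finsupp.prod_pow]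
            rw [this]
            exact (Submodule.Quotient.mk_eq_zero _).1 hc
          have := RegLoc.coeff_mem_of_eval_mem hx hdim hG hev e.1
          have he : G.coeff e.1 = c e := by
            simp only [G, MvPolynomial.coeff_sum, MvPolynomial.coeff_monomial]
            rw [Finset.sum_eq_single e] <;> simp +contextual [Subtype.coe_inj]
          rwa [he] at this
        · intro hc
          refine (Submodule.Quotient.mk_eq_zero _).2 ?_
          rw [Fintype.linearCombination_apply]
          exact Submodule.sum_mem _ fun e _ => by
            rw [pow_succ']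
            exact Ideal.mul_mem_mul (hc e) (hdeg e.1 e.2 ▸ RegLoc.monEval_mem hx e.1)
      have hlen : Module.length A (LinearMap.range ψ) = ((r + s - 1).choose s : ℕ∞) := by
        rw [← (LinearMap.quotKerEquivRange ψ).length_eq, (Submodule.quotEquivOfEq _ _ hker).length_eq,
          (LinearMap.quotKerEquivOfSurjective _ ?_).length_eq, Module.length_pi_of_fintype]
        · rw [Finset.sum_congr rfl (fun _ _ => hres)]
          simp [hD, Finset.card_finsuppAntidiag_nat_eq_choose]
        · intro z
          choose a ha using fun e : D => Submodule.mkQ_surjective (m : Submodule A A) (z e)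
          exact ⟨a, funext ha⟩
      rw [Module.length_eq_add_of_exact (LinearMap.range ψ).subtype q Subtype.val_injective hq
        (LinearMap.exact_iff.2 (by rw [Submodule.range_subtype, hrange])), hlen, add_comm]
    intro s
    induction s with
    | zero => rw [zero_add, pow_one]; simpa using hres
    | succ s ih =>
      rw [hgr (s + 1), ih, ← Nat.cast_add, show r + (s + 1) - 1 = s + r by omega,
        show s + 1 + r = (s + r) + 1 by omega, Nat.choose_succ_succ]
  · intro h
    obtain ⟨P, ⟨N, hN⟩, hdeg⟩ := HilbSam.main (A := A) (M := A)
    have hj : Ring.jacobson A = m := IsLocalRing.ringJacobson_eq_maximalIdeal A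
    have hP : P = Polynomial.preHilbertPoly ℚ r 1 := by
      refine Polynomial.eq_of_infinite_eval_eq _ _ (Set.Infinite.mono ?_
        ((Set.Ici_infinite (N + 1)).image Nat.cast_injective.injOn))
      rintro _ ⟨n, hn, rfl⟩
      have hn' : N + 1 ≤ n := hn
      obtain ⟨l, hl, hl'⟩ := hN n (by omega)
      obtain ⟨k, rfl⟩ : ∃ k, n = k + 1 := ⟨n - 1, by omega⟩
      rw [hj, Ideal.smul_top_eq_map, Algebra.algebraMap_self, Ideal.map_id, Submodule.restrictScalars_self, h k] at hl
      show Polynomial.eval ((k + 1 : ℕ) : ℚ) P = _
      rw [← hl', Polynomial.preHilbertPoly_eq_choose_sub_add ℚ r (by omega), Nat.add_sub_cancel]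
      have hl2 : (k + r).choose k = l := by exact_mod_cast hl
      rw [← hl2, Nat.choose_symm_add]
    rw [hP, Polynomial.natDegree_preHilbertPoly, Module.supportDim_self_eq_ringKrullDim] at hdeg
    refine IsRegularLocalRing.of_spanFinrank_maximalIdeal_le A (le_of_eq ?_)
    rw [← hdeg, hr, ← IsLocalRing.spanFinrank_maximalIdeal_eq_finrank_cotangentSpace]

end Groth.Agent.S5778
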