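import Groth.Statements.S16765
-- import your own Groth.Agent.* helpers here
import Groth.Agent.FibCrit.Props
import Groth.Agent.UnramPt.Basic

set_option autoImplicit false
universe u
open Unram17

namespace Groth.Agent.S16765

open AlgebraicGeometry CategoryTheory CategoryTheory.Limits in
/-- Let g : Y → S and h : X → S be locally of finite presentation, f : X → Y an S-morphism (f ≫ g = h;
in particular f is locally of finite presentation, so unramified amounts to formally unramified),
and x a point of X with image s = h(x). Then f is unramified at x (formally unramified on an open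
neighbourhood of x) if and only if the induced morphism of fibres X_s → Y_s is unramified at the
point of X_s lying over x. No flatness is needed. -/
theorem result {X Y S : Scheme.{u}} (g : Y ⟶ S) (h : X ⟶ S)
    [LocallyOfFinitePresentation g] [LocallyOfFinitePresentation h] (f : X ⟶ Y) (w : f ≫ g = h)
    (x : ↥X)
    (x' : ↥(h.fiber (h x))) (hx' : (h.fiberι (h x)) x' = x) :
    (∃ U : X.Opens, x ∈ U ∧ FormallyUnramified (U.ι ≫ f)) ↔
      ∃ V : (h.fiber (h x)).Opens, x' ∈ V ∧ FormallyUnramified (V.ι ≫ CohIII.fiberMapOver f h g w (h x)) := by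
  subst w
  obtain ⟨s, hs⟩ : ∃ s, s = (f ≫ g) x := ⟨_, rfl⟩
  revert x' hx'
  rw [← hs]
  intro x' hx'
  have sq : IsPullback ((f ≫ g).fiberι s) (CohIII.fiberMapOver f (f ≫ g) g rfl s) f (g.fiberι s) :=
    FibCrit.isPullback_fiberMap f g s
  constructor
  · rintro ⟨U, hxU, hU⟩
    exact ⟨(f ≫ g).fiberι s ⁻¹ᵁ U, by show (f ≫ g).fiberι s x' ∈ U; rw [hx']; exact hxU,
      MorphismProperty.of_isPullback
        ((isPullback_morphismRestrict ((f ≫ g).fiberι s) U).paste_vert sq) hU⟩
  · rintro ⟨V, hxV, hV⟩
    let e := sq.isoPullback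
    have h1 : e.inv (e.hom x') = x' := by rw [← Scheme.Hom.comp_apply, e.hom_inv_id]; rfl
    have hU : FormallyUnramified ((e.inv ⁻¹ᵁ V).ι ≫ pullback.snd f (g.fiberι s)) := by
      have h2 : (e.inv ⁻¹ᵁ V).ι ≫ pullback.snd f (g.fiberι s) =
          (e.inv ∣_ V) ≫ V.ι ≫ CohIII.fiberMapOver f (f ≫ g) g rfl s := by
        rw [← Category.assoc, morphismRestrict_ι, Category.assoc, sq.isoPullback_inv_snd]
      rw [h2]
      exact MorphismProperty.comp_mem @FormallyUnramified _ _ inferInstance hV
    haveI : LocallyOfFiniteType f := locallyOfFiniteType_of_comp f g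
    obtain ⟨U, hxU, hU'⟩ := UnramPt.exists_nhd_of_baseChange f (g.fiberι s) (e.hom x') (e.inv ⁻¹ᵁ V)
      (by show e.inv (e.hom x') ∈ V; rw [h1]; exact hxV) hU
    refine ⟨U, ?_, hU'⟩
    rwa [← Scheme.Hom.comp_apply, sq.isoPullback_hom_fst, hx'] at hxU

end Groth.Agent.S16765
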