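import Groth.Statements.S7408
import Groth.Agent.EquidimPt.FlatChart
import Groth.Agent.Unibranch.FibreChains
import Groth.Agent.UnivInjMor.MonoUnram
import Groth.Agent.CMChart.Locus

set_option autoImplicit false
universe u
open CategoryTheory AlgebraicGeometry
open Desc
set_option backward.isDefEq.respectTransparency false
open CategoryTheory Limits AlgebraicGeometry

namespace Groth.Agent.S7408

/-- The local dimension of the fibre at a point is étale local on the source-and-target: for a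
commutative square with horizontal maps `h' : U' → V'`, `h : U → V`, étale vertical maps `a : U' →
U`, `b : V' → V` and `u' ∈ U'`, the local dimension at `a(u')` of the fibre of `h` equals the local
dimension at `u'` of the fibre of `h'`. -/
theorem result {U U' V V' : Scheme.{u}} (h : U ⟶ V) (h' : U' ⟶ V') (a : U' ⟶ U)
    (b : V' ⟶ V) [Etale a] [Etale b] (comm : h' ≫ b = a ≫ h) (u' : U') :
    FlatMor.fibreDimAt h (a u') = FlatMor.fibreDimAt h' u' := by
  haveI : LocallyQuasiFinite a := Groth.Agent.UnivInjMor.lqf_of_unramified a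
  haveI : LocallyQuasiFinite b := Groth.Agent.UnivInjMor.lqf_of_unramified b
  have hc' : ∀ z, b (h' z) = h (a z) := fun z => congrArg (fun k => k z) comm
  -- isolate the point downstairs
  have hopen : IsOpen ({b.asFiber (h' u')} : Set (b.fiber (b (h' u')))) :=
    Scheme.Hom.quasiFiniteAt_iff_isOpen_singleton_asFiber.mp (b.quasiFiniteAt _)
  obtain ⟨W, hW, hWeq⟩ := (b.fiberι (b (h' u'))).isEmbedding.isInducing.isOpen_iff.mp hopen
  have hWmem : h' u' ∈ W := by
    have h1 : b.asFiber (h' u') ∈ b.fiberι (b (h' u')) ⁻¹' W := hWeq ▸ rfl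
    simpa [b.fiberι_asFiber] using h1
  have hWv : ∀ w ∈ W, b w = b (h' u') → w = h' u' := by
    intro w hw hbw
    obtain ⟨z, rfl⟩ : w ∈ Set.range (b.fiberι (b (h' u'))) := by rw [Scheme.Hom.range_fiberι]; exact hbw
    have hz : z ∈ b.fiberι (b (h' u')) ⁻¹' W := hw
    rw [hWeq] at hz
    rw [show z = b.asFiber (h' u') from hz]
    exact b.fiberι_asFiber _
  refine le_antisymm (Groth.Agent.Unibranch.le_of_forall_natCast_le fun n hn => ?_)
    (Groth.Agent.Unibranch.le_of_forall_natCast_le fun n hn => ?_)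
  · refine (Groth.Agent.Unibranch.natCast_le_fibreDimAt_iff h' u').mpr fun O hO => ?_
    let O' : U'.Opens := O ⊓ (h' ⁻¹ᵁ ⟨W, hW⟩)
    obtain ⟨c, hc, hcc⟩ := (Groth.Agent.Unibranch.natCast_le_fibreDimAt_iff h (a u')).mp hn
      ⟨a '' O', a.isOpenMap _ O'.2⟩ ⟨u', ⟨hO, hWmem⟩, rfl⟩
    obtain ⟨d, hd, hdd⟩ := Groth.Agent.EquidimPt.exists_lift (ι := 𝟙 U') (O := O') a c hcc fun i => by
      obtain ⟨z, hz, hza⟩ := (hc i).1
      exact ⟨z, hz, hza⟩
    refine ⟨d, fun i => ⟨(hd i).1.1, hWv _ (hd i).1.2 ?_⟩, fun i => ⟨hdd i, fun e => (hcc i).2 ?_⟩⟩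
    · have h1 : h (a (d i)) = h (a u') := (congrArg h (hd i).2).trans (hc i).2
      exact (hc' _).trans (h1.trans (hc' u').symm)
    · exact (hd i.castSucc).2.symm.trans ((congrArg a e).trans (hd i.succ).2)
  · refine (Groth.Agent.Unibranch.natCast_le_fibreDimAt_iff h (a u')).mpr fun O hO => ?_
    obtain ⟨c, hc, hcc⟩ := (Groth.Agent.Unibranch.natCast_le_fibreDimAt_iff h' u').mp hn (a ⁻¹ᵁ O) hO
    refine ⟨fun i => a (c i), fun i => ⟨(hc i).1, ?_⟩, fun i => ⟨(hcc i).1.map a.continuous,
      fun e => (hcc i).2 (Groth.Agent.EquidimPt.eq_of_specializes a (hcc i).1 e)⟩⟩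
    exact (hc' _).symm.trans ((congrArg b (hc i).2).trans (hc' u'))

end Groth.Agent.S7408
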