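import Groth.Statements.S2178
import Groth.Agent.NumType.Form

set_option autoImplicit false
open Finset
open Models Models.NumericalType

namespace Groth.Agent.S2178

/-- The Picard group of a numerical type (the cokernel of the matrix (a i j / w i) acting on Z^n) has
free rank one: its rank as a Z-module is 1. -/
theorem result {n : ℕ} (T : Models.NumericalType n) : Module.finrank ℤ T.Pic = 1 := by
  open Groth.Agent.NumType in
  open Finset in
  have hker : ∀ x, T.picMatrix.mulVec x = 0 → ∀ i, T.m ⟨0, T.pos⟩ * x i = x ⟨0, T.pos⟩ * T.m i := by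
    intro x hx i
    have ha : ∀ i, ∑ j, T.a i j * x j = 0 := fun i => by
      have h := congrFun hx i
      simp only [Matrix.mulVec, dotProduct, Pi.zero_apply, Models.NumericalType.picMatrix] at h
      calc ∑ j, T.a i j * x j = T.w i * ∑ j, T.a i j / T.w i * x j := by
            rw [mul_sum]
            exact sum_congr rfl fun j _ => by rw [← mul_assoc, Int.mul_ediv_cancel' (T.w_dvd i j)]
        _ = 0 := by rw [h, mul_zero]
    have hm : ∀ i, (0 : ℝ) < T.m i := fun i => by exact_mod_cast T.m_pos i
    set y : Fin n → ℝ := fun i => (x i : ℝ) / T.m i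
    have hxy : ∀ i, (T.m i : ℝ) * y i = x i := fun i => by simp [y, mul_div_cancel₀ _ (hm i).ne']
    have hform := form_nonpos (aR_symm T) (fun i j h => by simpa [aR] using T.offDiag_nonneg i j h)
      hm (fun i => (aR_mul_m T i).le) y
    simp only [aR, hxy] at hform
    have h0 : ∑ i, ∑ j, (T.a i j : ℝ) * x i * x j = 0 := by
      refine sum_eq_zero fun i _ => ?_
      calc ∑ j, (T.a i j : ℝ) * x i * x j = x i * ((∑ j, T.a i j * x j : ℤ) : ℝ) := by
            rw [Int.cast_sum, mul_sum]; exact sum_congr rfl fun j _ => by push_cast; ring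
        _ = 0 := by rw [ha, Int.cast_zero, mul_zero]
    have := const_of_connected (A := fun i j => (T.a i j : ℝ))
      (fun I h1 h2 => by simpa using T.connected I h1 h2) y (hform.2 h0).2 ⟨0, T.pos⟩ i
    simp only [y, div_eq_div_iff (hm i).ne' (hm ⟨0, T.pos⟩).ne'] at this
    have h' : x i * T.m ⟨0, T.pos⟩ = x ⟨0, T.pos⟩ * T.m i := by exact_mod_cast this
    linarith
  set L := Matrix.mulVecLin T.picMatrix
  have h1 := Submodule.finrank_quotient_add_finrank (LinearMap.range L)
  have h2 := Submodule.finrank_quotient_add_finrank (LinearMap.ker L)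
  have h3 := L.quotKerEquivRange.finrank_eq
  rw [Module.finrank_fin_fun] at h1 h2
  suffices Module.finrank ℤ (LinearMap.ker L) = 1 by
    show Module.finrank ℤ ((Fin n → ℤ) ⧸ LinearMap.range L) = 1
    omega
  refine le_antisymm ?_ ?_
  · let φ := (LinearMap.proj (R := ℤ) (φ := fun _ : Fin n => ℤ) ⟨0, T.pos⟩).comp (LinearMap.ker L).subtype
    refine (LinearMap.finrank_le_finrank_of_injective (f := φ) ?_).trans (Module.finrank_self ℤ).le
    rw [← LinearMap.ker_eq_bot, LinearMap.ker_eq_bot']
    intro x hx
    ext i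
    have := hker x x.2 i
    simp only [φ, LinearMap.comp_apply, LinearMap.proj_apply, Submodule.subtype_apply] at hx
    simpa [hx, (T.m_pos ⟨0, T.pos⟩).ne'] using this
  · have hm : T.m ∈ LinearMap.ker L := by
      rw [LinearMap.mem_ker, Matrix.mulVecLin_apply]
      funext i
      have h := congrFun T.mulVec_m i
      simp only [Matrix.mulVec, dotProduct, Pi.zero_apply, Models.NumericalType.picMatrix] at h ⊢
      apply mul_left_cancel₀ (T.w_pos i).ne'
      rw [mul_sum, mul_zero, ← h]
      exact sum_congr rfl fun j _ => by rw [← mul_assoc, Int.mul_ediv_cancel' (T.w_dvd i j)]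
    have : Nontrivial (LinearMap.ker L) := ⟨⟨T.m, hm⟩, 0, fun e =>
      (T.m_pos ⟨0, T.pos⟩).ne' (congrFun (congrArg Subtype.val e) _)⟩
    exact Module.finrank_pos

end Groth.Agent.S2178
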