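import Groth.Statements.S2183
import Groth.Agent.NumType.Genus

set_option autoImplicit false
open Finset
open Models Models.NumericalType

namespace Groth.Agent.S2183

open Classical in
/-- Let T be a minimal numerical type with n > 1 indices and genus g at least 2, and let J be the set of
indices which are not (-2)-indices. Then J has at most 2g - 2 elements, and for j in J one has g j <
g, m j * |a j j| at most 6g - 6, and m i * a i j at most 6g - 6 for every index i. -/
theorem result {n : ℕ} (T : Models.NumericalType n) (hmin : T.IsMinimal) (hn : 1 < n) (hg : 2 ≤ T.genus) :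
    ((univ.filter fun j => ¬T.IsMinusTwo j).card : ℤ) ≤ 2 * T.genus - 2 ∧
      ∀ j, ¬T.IsMinusTwo j →
        T.g j < T.genus ∧ T.m j * |T.a j j| ≤ 6 * T.genus - 6 ∧
          ∀ i, T.m i * T.a i j ≤ 6 * T.genus - 6 := by
  open Groth.Agent.NumType in
  open Finset in
  set c : Fin n → ℤ := fun i => T.m i * (2 * T.w i * (T.g i - 1) - T.a i i)
  have hsum : ∑ i, c i = 2 * T.genus - 2 := by rw [← two_genus]; ring
  have hc0 : ∀ i, 0 ≤ c i := contrib_nonneg T hmin hn
  have hJ : ∀ j, ¬T.IsMinusTwo j → 1 ≤ c j := fun j hj => by
    rcases contrib_cases T hn j with h | h | h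
    · exact absurd h (hmin j)
    · exact absurd h hj
    · exact h
  refine ⟨?_, fun j hj => ?_⟩
  · rw [← hsum, card_filter, Nat.cast_sum]
    refine sum_le_sum fun i _ => ?_
    split_ifs with h <;> simp only [Nat.cast_one, Nat.cast_zero] <;> first | exact hJ i h | exact hc0 i
  have hcj : c j ≤ 2 * T.genus - 2 := hsum ▸ single_le_sum (fun i _ => hc0 i) (mem_univ j)
  have hm := T.m_pos j; have hw := T.w_pos j; have hg0 := T.g_nonneg j
  have hd := diag_neg T hn j
  obtain ⟨k, hk⟩ := T.w_dvd j j
  have hK : T.m j * |T.a j j| ≤ 6 * T.genus - 6 := by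
    rw [abs_of_neg hd]
    rcases hg0.eq_or_lt with h0 | h0
    · have hk3 : k ≤ -3 := by
        have : k < 0 := by nlinarith
        by_contra hk'
        rcases (show k = -1 ∨ k = -2 by omega) with e | e
        · exact hmin j ⟨h0.symm, by rw [hk, e]; ring⟩
        · exact hj ⟨h0.symm, by rw [hk, e]; ring⟩
      have : T.m j * -T.a j j ≤ 3 * c j := by
        simp only [c, ← h0, hk]
        nlinarith [mul_pos hm hw]
      linarith
    · have : T.m j * -T.a j j ≤ 3 * c j := by
        simp only [c]
        nlinarith [mul_nonneg (mul_pos hm hw).le (show (0 : ℤ) ≤ T.g j - 1 by omega)]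
      linarith
  refine ⟨?_, hK, fun i => ?_⟩
  · by_contra hlt
    push Not at hlt
    have h1 : T.g j - 1 ≤ T.m j * T.w j * (T.g j - 1) :=
      le_mul_of_one_le_left (by omega) (one_le_mul_of_one_le_of_one_le hm hw)
    have : c j = 2 * (T.m j * T.w j * (T.g j - 1)) - T.a j j * T.m j := by simp only [c]; ring
    nlinarith
  · rcases eq_or_ne i j with rfl | hij
    · nlinarith
    · refine le_trans ?_ hK
      have h1 := term_le T (i := j) (j := i) hij
      have h2 := row_eq T j
      rw [T.symm.apply i j] at h1
      rw [abs_of_neg hd]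
      linarith

end Groth.Agent.S2183
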