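import Groth.Statements.S2184
import Groth.Agent.S2174
import Groth.Agent.S2183
import Mathlib

set_option autoImplicit false
open Finset
open Models Models.NumericalType

namespace Groth.Agent.S2184

/-- For a minimal numerical type of genus g at least 2 one has m i * |a i j| at most 768 g for all
indices i, j. -/
theorem result {n : ℕ} (T : Models.NumericalType n) (hmin : T.IsMinimal) (hg : 2 ≤ T.genus) (i j : Fin n) :
    T.m i * |T.a i j| ≤ 768 * T.genus := by
  classical
  have hm := T.m_pos
  have hw := T.w_pos
  rcases Nat.eq_or_lt_of_le (Nat.one_le_iff_ne_zero.2 T.pos.ne') with hn1 | hn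
  · subst hn1
    have h0 := congrFun T.mulVec_m i
    rw [Matrix.mulVec, dotProduct, Fin.sum_univ_one] at h0
    obtain rfl : j = 0 := Subsingleton.elim _ _
    obtain rfl : i = 0 := Subsingleton.elim _ _
    have ha : T.a 0 0 = 0 := (mul_eq_zero.1 h0).resolve_right (hm 0).ne'
    rw [ha, abs_zero, mul_zero]
    omega
  have hdiag : ∀ p, T.a p p < 0 := fun p => Groth.Agent.S2174.result T hn p
  obtain ⟨-, hJ⟩ := Groth.Agent.S2183.result T hmin hn hg
  set q : Fin n → ℤ := fun p => T.m p * T.w p with hq
  have qdef : ∀ p, q p = T.m p * T.w p := fun p => rfl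
  have hqpos : ∀ p, 0 < q p := fun p => mul_pos (hm p) (hw p)
  have hsum : ∀ p, ∑ l ∈ univ.filter (fun l => 0 < T.a p l), T.a p l * T.m l = T.m p * |T.a p p| := by
    intro p
    have h0 : ∑ l, T.a p l * T.m l = 0 := congrFun T.mulVec_m p
    rw [← Finset.sum_erase_add _ _ (mem_univ p)] at h0
    have h1 : ∑ l ∈ univ.filter (fun l => 0 < T.a p l), T.a p l * T.m l =
        ∑ l ∈ univ.erase p, T.a p l * T.m l := by
      refine Finset.sum_subset (fun l hl => ?_) (fun l hl hl' => ?_)
      · simp only [mem_filter, mem_univ, true_and] at hl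
        exact mem_erase.2 ⟨fun h => by rw [h] at hl; linarith [hdiag p], mem_univ _⟩
      · simp only [mem_filter, mem_univ, true_and, not_lt] at hl'
        have := T.offDiag_nonneg p l (Ne.symm (mem_erase.1 hl).1)
        rw [le_antisymm hl' this, zero_mul]
    rw [h1, abs_of_neg (hdiag p)]
    linarith
  have hm2 : ∀ p, T.IsMinusTwo p →
      ∑ l ∈ univ.filter (fun l => 0 < T.a p l), T.a p l * T.m l = 2 * q p := by
    intro p hp
    rw [hsum, hp.2, abs_of_neg (by linarith [hw p]), qdef]
    ring
  -- a term of the equation is a positive multiple of `q`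
  have hterm : ∀ p l, 0 < T.a p l → ∃ r : ℤ, 1 ≤ r ∧ T.a p l * T.m l = r * q l := by
    intro p l hpl
    obtain ⟨r, hr⟩ := T.w_dvd l p
    rw [T.symm.apply] at hr
    refine ⟨r, ?_, by rw [hr, qdef]; ring⟩
    nlinarith [hw l]
  have hterm' : ∀ p l, 0 < T.a p l → q l ≤ T.a p l * T.m l := by
    intro p l hpl
    obtain ⟨r, hr, he⟩ := hterm p l hpl
    nlinarith [hqpos l]
  have hsymm : ∀ p l, 0 < T.a p l → 0 < T.a l p := fun p l h => by rwa [T.symm.apply]
  have hdouble : ∀ p l, T.IsMinusTwo p → 0 < T.a p l → q l ≤ 2 * q p := by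
    intro p l hp hpl
    rw [← hm2 p hp]
    refine (hterm' p l hpl).trans (Finset.single_le_sum (f := fun l => T.a p l * T.m l) ?_ ?_)
    · intro x hx
      simp only [mem_filter, mem_univ, true_and] at hx
      exact mul_nonneg hx.le (hm x).le
    · simp [hpl]
  -- distance to the indices which are not (-2)
  obtain ⟨j0, hj0⟩ : ∃ j0, ¬T.IsMinusTwo j0 := by
    by_contra h
    push Not at h
    have h1 : ∑ p, T.m p * T.a p p = 2 * ∑ p, T.m p * T.w p * (T.g p - 1) := by
      rw [mul_sum]
      exact sum_congr rfl fun p _ => by rw [(h p).1, (h p).2]; ring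
    have := hg
    rw [Models.NumericalType.genus, h1, Int.mul_ediv_cancel_left _ (by norm_num)] at this
    omega
  let S : ℕ → Finset (Fin n) := fun d => Nat.rec (univ.filter fun p => ¬T.IsMinusTwo p)
    (fun _ s => univ.filter fun p => p ∈ s ∨ ∃ l ∈ s, 0 < T.a p l) d
  have hS0 : ∀ p, p ∈ S 0 ↔ ¬T.IsMinusTwo p := fun p => by simp [S]
  have hSsucc : ∀ d p, p ∈ S (d + 1) ↔ p ∈ S d ∨ ∃ l ∈ S d, 0 < T.a p l := fun d p => by simp [S]
  have hreach : ∀ p, ∃ d, p ∈ S d := by
    by_contra h
    push Not at h
    obtain ⟨p0, hp0⟩ := h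
    let I : Finset (Fin n) := @Finset.filter _ (fun p : Fin n => ∀ d : ℕ, p ∉ S d) (Classical.decPred _) univ
    have hI0 : p0 ∈ I := by simp [I, hp0]
    have hI1 : I ≠ univ := fun he => by
      have : j0 ∈ I := he ▸ mem_univ _
      simp only [I, mem_filter, mem_univ, true_and] at this
      exact this 0 ((hS0 j0).2 hj0)
    obtain ⟨p, hp, l, hl, hpl⟩ := T.connected I ⟨p0, hI0⟩ hI1
    simp only [I, mem_filter, mem_univ, true_and] at hp hl
    push Not at hl
    obtain ⟨d, hd⟩ := hl
    have hne : p ≠ l := fun he => hp d (he ▸ hd)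
    exact hp (d + 1) ((hSsucc d p).2 (Or.inr ⟨l, hd,
      lt_of_le_of_ne (T.offDiag_nonneg p l hne) (Ne.symm hpl)⟩))
  let D : Fin n → ℕ := fun p => @Nat.find _ (Classical.decPred _) (hreach p)
  have hD0 : ∀ p, D p = 0 ↔ ¬T.IsMinusTwo p := fun p => by
    simp only [D, Nat.find_eq_zero, hS0]
  have hDm2 : ∀ p, 1 ≤ D p → T.IsMinusTwo p := fun p hp => by
    by_contra h
    have := (hD0 p).2 h
    omega
  have hDnb : ∀ p l, 0 < T.a p l → D p ≤ D l + 1 := fun p l h =>
    @Nat.find_le _ _ (Classical.decPred _) (hreach _) ((hSsucc _ p).2 (Or.inr ⟨l, @Nat.find_spec _ (Classical.decPred _) (hreach l), h⟩))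
  have hDnext : ∀ p d, D p = d + 1 → ∃ l, 0 < T.a p l ∧ D l = d := by
    intro p d hd
    have h1 : p ∈ S (d + 1) := hd ▸ @Nat.find_spec _ (Classical.decPred _) (hreach p)
    have h2 : p ∉ S d := @Nat.find_min _ (Classical.decPred _) (hreach p) d (show d < D p by omega)
    obtain ⟨l, hl, hpl⟩ := ((hSsucc d p).1 h1).resolve_left h2
    exact ⟨l, hpl, le_antisymm (@Nat.find_le _ _ (Classical.decPred _) (hreach _) hl) (by have := hDnb p l hpl; show d ≤ D l; omega)⟩
  -- positivity along a geodesic
  have hconc : ∀ d p l, D p = d + 1 → 0 < T.a p l → D l = d → (d : ℤ) * q p < (d + 1) * q l := by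
    intro d
    induction d with
    | zero =>
      intro p l _ _ _
      simpa using hqpos l
    | succ d ih =>
      intro p l hp hpl hl
      obtain ⟨h, hlh, hh⟩ := hDnext l d hl
      have hlp := hsymm p l hpl
      have hne : h ≠ p := fun he => by rw [he] at hh; omega
      have h1 := ih l h hl hlh hh
      have h2 : q p + q h ≤ 2 * q l := by
        rw [← hm2 l (hDm2 l (by omega))]
        have hsub : ({p, h} : Finset (Fin n)) ⊆ univ.filter (fun x => 0 < T.a l x) := by
          intro x hx
          simp only [mem_insert, mem_singleton] at hx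
          rcases hx with rfl | rfl <;> simp [hlp, hlh]
        refine le_trans ?_ (Finset.sum_le_sum_of_subset_of_nonneg hsub (fun x hx _ => ?_))
        · rw [Finset.sum_pair (Ne.symm hne)]
          exact add_le_add (hterm' l p hlp) (hterm' l h hlh)
        · simp only [mem_filter, mem_univ, true_and] at hx
          exact mul_nonneg hx.le (hm x).le
      push_cast
      nlinarith [mul_le_mul_of_nonneg_left h2 (by positivity : (0 : ℤ) ≤ (d : ℤ) + 1)]
  set B : ℤ := 6 * T.genus - 6 with hB
  have hB0 : 0 ≤ B := by omega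
  have hnear : ∀ d p, D p = d → q p ≤ 2 ^ (d - 1) * B := by
    intro d
    induction d with
    | zero =>
      intro p hp
      have hp' := (hD0 p).1 hp
      obtain ⟨r, hr⟩ := T.w_dvd p p
      have hr1 : r ≤ -1 := by nlinarith [hdiag p, hw p]
      have h1 := (hJ p hp').2.1
      rw [abs_of_neg (hdiag p), hr] at h1
      have h2 := hqpos p
      rw [qdef] at h2 ⊢
      simp only [Nat.zero_sub, pow_zero, one_mul]
      nlinarith
    | succ d ih =>
      intro p hp
      obtain ⟨l, hpl, hl⟩ := hDnext p d hp
      rcases d with _ | e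
      · have hl' := (hD0 l).1 hl
        have h1 := (hJ l hl').2.2 p
        obtain ⟨r, hr⟩ := T.w_dvd p l
        have hr1 : 1 ≤ r := by nlinarith [hw p]
        rw [hr] at h1
        have h2 := hqpos p
        rw [qdef] at h2 ⊢
        simp only [Nat.add_one_sub_one, pow_zero, one_mul]
        nlinarith
      · have h1 := ih l hl
        have h2 := hdouble l p (hDm2 l (by omega)) (hsymm p l hpl)
        simp only [Nat.add_one_sub_one] at h1 ⊢
        rw [pow_succ]
        linarith
  -- the maximum is attained at distance at most seven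
  haveI : Nonempty (Fin n) := ⟨⟨0, T.pos⟩⟩
  obtain ⟨k0, -, hk0⟩ := Finset.exists_max_image univ q univ_nonempty
  obtain ⟨k, hk, hkmin⟩ := Finset.exists_min_image (univ.filter fun p => q p = q k0) D ⟨k0, by simp⟩
  simp only [mem_filter, mem_univ, true_and] at hk hkmin
  have hmax : ∀ p, q p ≤ q k := fun p => hk ▸ hk0 p (mem_univ p)
  have hDk : D k ≤ 7 := by
    by_contra hlt
    push Not at hlt
    obtain ⟨d, hd⟩ : ∃ d, D k = d + 1 := ⟨D k - 1, by omega⟩
    obtain ⟨l, hkl, hl⟩ := hDnext k d hd
    have hlk : q l < q k := by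
      refine lt_of_le_of_ne (hmax l) fun he => ?_
      have := hkmin l (he.trans hk)
      omega
    have h7 : 7 * q k < 8 * q l := by
      have h1 := hconc d k l hd hkl hl
      have h2 : (7 : ℤ) ≤ d := by
        have : 7 ≤ d := by omega
        exact_mod_cast this
      nlinarith
    have hK := hm2 k (hDm2 k (by omega))
    set N := (univ.filter (fun x => 0 < T.a k x)).erase l with hN
    rw [← Finset.add_sum_erase _ _ (show l ∈ univ.filter (fun x => 0 < T.a k x) by simp [hkl]),
      ← hN] at hK
    have hmemN : ∀ x ∈ N, 0 < T.a k x := fun x hx => by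
      simpa using (mem_erase.1 hx).2
    have hlow : ∀ x ∈ N, q k ≤ 2 * q x := fun x hx =>
      hdouble x k (hDm2 x (by have := hDnb k x (hmemN x hx); omega)) (hsymm k x (hmemN x hx))
    have hlowc : ∀ x ∈ N, q k ≤ 2 * (T.a k x * T.m x) := fun x hx =>
      (hlow x hx).trans (by have := hterm' k x (hmemN x hx); linarith)
    have hleaf : ∀ x ∈ N, 3 * q x < 2 * q k → 2 * q x = q k := by
      intro x hx hsmall
      have hxk := hsymm k x (hmemN x hx)
      have hDx : D k ≤ D x + 1 := hDnb k x (hmemN x hx)
      have hX := hm2 x (hDm2 x (by omega))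
      rw [← Finset.add_sum_erase _ _ (show k ∈ univ.filter (fun y => 0 < T.a x y) by simp [hxk])] at hX
      obtain ⟨s, hs, hse⟩ := hterm x k hxk
      have hs2 : s ≤ 1 := by
        by_contra hs2
        push Not at hs2
        have : 0 ≤ ∑ y ∈ (univ.filter (fun y => 0 < T.a x y)).erase k, T.a x y * T.m y :=
          Finset.sum_nonneg fun y hy => by
            have hy' : 0 < T.a x y := by simpa using (mem_erase.1 hy).2
            exact mul_nonneg hy'.le (hm y).le
        nlinarith [hqpos k]
      obtain rfl : s = 1 := le_antisymm hs2 hs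
      rcases ((univ.filter (fun y => 0 < T.a x y)).erase k).eq_empty_or_nonempty with he | ⟨y, hy⟩
      · rw [he, Finset.sum_empty, hse] at hX
        linarith
      · exfalso
        have hy' : 0 < T.a x y := by simpa using (mem_erase.1 hy).2
        have hDy : D x ≤ D y + 1 := hDnb x y hy'
        have h1 := hdouble y x (hDm2 y (by omega)) (hsymm x y hy')
        have h2 := hterm' x y hy'
        have h3 := Finset.single_le_sum (f := fun z => T.a x z * T.m z)
          (fun z hz => by
            have hz' : 0 < T.a x z := by simpa using (mem_erase.1 hz).2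
            exact mul_nonneg hz'.le (hm z).le) hy
        nlinarith
    obtain ⟨r, hr, hre⟩ := hterm k l hkl
    rw [hre] at hK
    have hsumN : 0 ≤ ∑ x ∈ N, T.a k x * T.m x :=
      Finset.sum_nonneg fun x hx => mul_nonneg (hmemN x hx).le (hm x).le
    rcases lt_trichotomy r 2 with hr2 | rfl | hr2
    · obtain rfl : r = 1 := by omega
      have hcard : N.card < 3 := by
        by_contra h3
        push Not at h3
        have h4 := Finset.card_nsmul_le_sum N (fun x => 2 * (T.a k x * T.m x)) (q k) hlowc
        rw [nsmul_eq_mul, ← Finset.mul_sum] at h4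
        have h5 : (3 : ℤ) ≤ (N.card : ℤ) := by exact_mod_cast h3
        nlinarith [hqpos k]
      interval_cases hc : N.card
      · rw [Finset.card_eq_zero.1 hc, Finset.sum_empty] at hK
        linarith
      · obtain ⟨x, hx⟩ := Finset.card_eq_one.1 hc
        rw [hx, Finset.sum_singleton] at hK
        have hxN : x ∈ N := by simp [hx]
        obtain ⟨s, hs, hse⟩ := hterm k x (hmemN x hxN)
        rw [hse] at hK
        rcases lt_trichotomy s 2 with hs2 | rfl | hs2
        · obtain rfl : s = 1 := by omega
          linarith [hmax x]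
        · have := hleaf x hxN (by linarith)
          linarith
        · nlinarith [hlow x hxN, hqpos x]
      · obtain ⟨x, y, hxy, hx⟩ := Finset.card_eq_two.1 hc
        rw [hx, Finset.sum_pair hxy] at hK
        have hxN : x ∈ N := by simp [hx]
        have hyN : y ∈ N := by simp [hx]
        obtain ⟨s, hs, hse⟩ := hterm k x (hmemN x hxN)
        obtain ⟨t, ht, hte⟩ := hterm k y (hmemN y hyN)
        have hcx := hlowc x hxN
        have hcy := hlowc y hyN
        rw [hse] at hK hcx
        rw [hte] at hK hcy
        have hs1 : s ≤ 1 := by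
          by_contra hs1
          push Not at hs1
          nlinarith [hlow x hxN, hqpos x]
        have ht1 : t ≤ 1 := by
          by_contra ht1
          push Not at ht1
          nlinarith [hlow y hyN, hqpos y]
        obtain rfl : s = 1 := le_antisymm hs1 hs
        obtain rfl : t = 1 := le_antisymm ht1 ht
        have hx1 := hleaf x hxN (by linarith)
        have hy1 := hleaf y hyN (by linarith)
        linarith
    · rcases N.eq_empty_or_nonempty with he | ⟨x, hx⟩
      · rw [he, Finset.sum_empty] at hK
        linarith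
      · have h3 := Finset.single_le_sum (f := fun z => T.a k z * T.m z)
          (fun z hz => mul_nonneg (hmemN z hz).le (hm z).le) hx
        linarith [hlowc x hx, h3]
    · nlinarith [hqpos k, hqpos l]
  have hq64 : ∀ p, q p ≤ 64 * B := fun p => by
    refine (hmax p).trans ((hnear (D k) k rfl).trans ?_)
    have : (2 : ℤ) ^ (D k - 1) ≤ 2 ^ 6 := pow_le_pow_right₀ (by norm_num) (by omega)
    nlinarith
  have hself : ∀ p, T.m p * |T.a p p| ≤ 128 * B := fun p => by
    by_cases hp : T.IsMinusTwo p
    · rw [hp.2, abs_of_neg (by linarith [hw p])]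
      have := hq64 p
      rw [qdef] at this
      nlinarith
    · have := (hJ p hp).2.1
      linarith
  rcases eq_or_ne i j with rfl | hij
  · linarith [hself i]
  rcases (T.offDiag_nonneg i j hij).lt_or_eq with hpos | hzero
  · rw [abs_of_pos hpos]
    have h1 := Finset.single_le_sum (f := fun z => T.a j z * T.m z)
      (fun z hz => by
        simp only [mem_filter, mem_univ, true_and] at hz
        exact mul_nonneg hz.le (hm z).le)
      (show i ∈ univ.filter (fun z => 0 < T.a j z) by simp [hsymm i j hpos])
    rw [hsum j] at h1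
    have h2 : T.a j i = T.a i j := T.symm.apply i j
    rw [h2] at h1
    linarith [hself j, mul_comm (T.m i) (T.a i j)]
  · rw [← hzero, abs_zero, mul_zero]
    omega

end Groth.Agent.S2184
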