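import Groth.Statements.S7318
import Groth.Agent.NumType.Genus
import Mathlib.Combinatorics.SimpleGraph.Acyclic

set_option autoImplicit false
open Finset
open Models Models.NumericalType

namespace Groth.Agent.S7318

/-- For a numerical type T on n indices with e pairs i < j such that a_ij > 0, the topological genus 1 -
n + e is ≥ 0. -/
theorem result {n : ℕ} (T : Models.NumericalType n) : 0 ≤ T.topGenus := by
  open Finset in
  classical
  let G : SimpleGraph (Fin n) := SimpleGraph.fromRel fun i j => 0 < T.a i j
  have hconn : G.Connected := by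
    have : Nonempty (Fin n) := ⟨⟨0, T.pos⟩⟩
    refine SimpleGraph.Connected.mk fun a b => ?_
    by_contra h
    let I := univ.filter fun c => G.Reachable a c
    obtain ⟨i, hi, j, hj, hij⟩ := T.connected I ⟨a, mem_filter.2 ⟨mem_univ _, .refl a⟩⟩
      fun e => h (mem_filter.1 (e ▸ mem_univ b : b ∈ I)).2
    have hne : i ≠ j := fun e => hj (e ▸ hi)
    refine hj (mem_filter.2 ⟨mem_univ _, (mem_filter.1 hi).2.trans (SimpleGraph.Adj.reachable ?_)⟩)
    exact ⟨hne, Or.inl (lt_of_le_of_ne (T.offDiag_nonneg i j hne) hij.symm)⟩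
  have h1 := hconn.card_vert_le_card_edgeSet_add_one
  have h2 : Nat.card G.edgeSet ≤ T.edgeCount := by
    rw [Models.NumericalType.edgeCount, ← SimpleGraph.coe_edgeFinset, Nat.card_coe_set_eq,
      Set.ncard_coe_finset]
    refine le_trans (card_le_card (t := (univ.filter fun p : Fin n × Fin n => p.1 < p.2 ∧
      0 < T.a p.1 p.2).image fun p => s(p.1, p.2)) ?_) card_image_le
    intro e he
    induction e using Sym2.ind with
    | h a b =>
      rw [SimpleGraph.mem_edgeFinset, SimpleGraph.mem_edgeSet] at he
      obtain ⟨hne, hor⟩ := he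
      have hab : 0 < T.a a b := hor.elim id fun (h : 0 < T.a b a) => by rwa [T.symm.apply a b] at h
      rcases lt_or_gt_of_ne hne with h | h
      · exact mem_image.2 ⟨(a, b), mem_filter.2 ⟨mem_univ _, h, hab⟩, rfl⟩
      · exact mem_image.2 ⟨(b, a), mem_filter.2 ⟨mem_univ _, h, by rwa [T.symm.apply] at hab⟩,
          Sym2.eq_swap⟩
  rw [Nat.card_fin] at h1
  rw [Models.NumericalType.topGenus]
  omega

end Groth.Agent.S7318
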