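import Groth.Statements.S3440
import Groth.Agent.CMFlat.Quotient
import Groth.Agent.FlatLift.RegSeq
import Groth.Agent.DimFormula.Open
import Groth.Agent.FibreDim.Basic
import Groth.Agent.FibreFlat.Stalk
import Groth.Agent.ConsEngine.Core
import Groth.Agent.SerreReg.MiracleFinite

set_option autoImplicit false
open CategoryTheory AlgebraicGeometry
universe u
open EGA43

namespace Groth.Agent.S3440

theorem flat_of_dim {R S : Type u} [CommRing R] [CommRing S] [IsRegularLocalRing R]
    [LocCoh.IsCohenMacaulayLocalRing S] [Algebra R S] [IsLocalHom (algebraMap R S)]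
    (h : ringKrullDim S = ringKrullDim R + ringKrullDim (S ⧸ (IsLocalRing.maximalIdeal R).map (algebraMap R S))) :
    Module.Flat R S := by
  obtain ⟨d, hd⟩ := SerreReg.exists_dim_nat R
  obtain ⟨rs, hlen, hreg, hspan⟩ := SerreReg.exists_regular_rsop d R hd
  have hI : Ideal.ofList (rs.map (algebraMap R S)) = (IsLocalRing.maximalIdeal R).map (algebraMap R S) := by
    rw [← hspan, Ideal.map_ofList]
  have hne : Ideal.ofList (rs.map (algebraMap R S)) ≠ ⊤ := by
    rw [hI]
    exact fun e => (IsLocalRing.maximalIdeal.isMaximal S).ne_top (top_le_iff.mp (e.ge.trans CMFlat.map_le))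
  have hw := FlatLift.isWeaklyRegular_of_dim_cm (rs.map (algebraMap R S)) hne (by
    rw [List.length_map, hlen, ← hd, h, ringKrullDim_eq_of_ringEquiv (Ideal.quotEquivOfEq hI)])
  exact SerreReg.flat_of_regular_rsop d R hd rs hlen hreg hspan S
    ((RingTheory.Sequence.isWeaklyRegular_map_algebraMap_iff (S := S) S rs).1 hw)

/-- Let Y be locally Noetherian, f : X ⟶ Y locally of finite type, x a point of X and y = f x; suppose
O_{Y,y} is regular and O_{X,x} is Cohen–Macaulay. The following are equivalent: a) O_{Y,y} ⟶ O_{X,x}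
is flat and the local ring of X_y at x is Cohen–Macaulay; b) O_{Y,y} ⟶ O_{X,x} is flat; c) the
restriction of f to some open neighbourhood of x is universally open; d) f is open at the generic
point of every irreducible component of X_y through x; e') dim O_{X,x} = dim O_{Y,y} + dim
O_{X_y,x}. -/
theorem result {X Y : Scheme.{u}} [IsLocallyNoetherian Y] (f : X ⟶ Y)
    [LocallyOfFiniteType f] (x : X) (hreg : IsRegularLocalRing (Y.presheaf.stalk (f.base x)))
    (hCM : LocCoh.IsCohenMacaulayLocalRing (X.presheaf.stalk x)) :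
    List.TFAE [
      (f.stalkMap x).hom.Flat ∧ LocCoh.IsCohenMacaulayLocalRing ((f.fiber (f.base x)).presheaf.stalk (f.asFiber x)),
      (f.stalkMap x).hom.Flat,
      ∃ U : X.Opens, x ∈ U ∧ UniversallyOpen (U.ι ≫ f),
      (∀ z : ↥(f.fiber (f.base x)), f.asFiber x ∈ closure {z} →
          (∀ z' : ↥(f.fiber (f.base x)), z ∈ closure {z'} → z' = z) →
          EGA43.IsOpenAt f.base ((f.fiberι (f.base x)).base z)),
      ringKrullDim (X.presheaf.stalk x) =
        ringKrullDim (Y.presheaf.stalk (f.base x)) + ringKrullDim ((f.fiber (f.base x)).presheaf.stalk (f.asFiber x)) ] := by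
  haveI : IsLocallyNoetherian X := LocallyOfFiniteType.isLocallyNoetherian f
  letI : Algebra (Y.presheaf.stalk (f.base x)) (X.presheaf.stalk x) := (f.stalkMap x).hom.toAlgebra
  haveI : IsLocalHom (algebraMap (Y.presheaf.stalk (f.base x)) (X.presheaf.stalk x)) :=
    inferInstanceAs (IsLocalHom (f.stalkMap x).hom)
  obtain ⟨e⟩ := CMFlat.nonempty_fiberStalk_equiv f x
  tfae_have 1 → 2 := fun h => h.1
  tfae_have 2 → 3 := by
    intro h
    haveI : LocallyOfFinitePresentation f := ConsEngine.lfp_of_lft f
    refine ⟨FibreFlat.flatOpen f, FibreFlat.mem_flatOpen.mpr h, ?_⟩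
    haveI := FibreFlat.flat_flatOpen f
    infer_instance
  tfae_have 3 → 4 := by
    rintro ⟨U, hxU, hU⟩ z hz -
    have hzx : f.fiberι (f.base x) z ⤳ x := by
      have := (specializes_iff_mem_closure.mpr hz).map (f.fiberι (f.base x)).continuous
      rwa [f.fiberι_asFiber x] at this
    have hzU : f.fiberι (f.base x) z ∈ U := hzx.mem_open U.2 hxU
    intro N hN
    obtain ⟨V, hVN, hV, hzV⟩ := mem_nhds_iff.mp hN
    refine Filter.mem_of_superset ?_ (Set.image_mono (Set.inter_subset_left.trans hVN : V ∩ U ⊆ N))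
    refine IsOpen.mem_nhds ?_ ⟨_, ⟨hzV, hzU⟩, rfl⟩
    have h2 : IsOpen ((U.ι ≫ f) '' (U.ι ⁻¹' V)) := (U.ι ≫ f).isOpenMap _ (hV.preimage U.ι.continuous)
    convert h2 using 1
    rw [Scheme.Hom.comp_base, TopCat.coe_comp, Set.image_comp, Set.image_preimage_eq_inter_range, U.range_ι]
  tfae_have 4 → 5 := by
    intro h
    refine le_antisymm (FibreDim.ringKrullDim_stalk_le_add_fiber f x) (DimFormula.dim_le_of_isOpenAt f x ?_)
    intro z hfz hzx hmax
    obtain ⟨z0, rfl⟩ : z ∈ Set.range (f.fiberι (f.base x)) := by rw [Scheme.Hom.range_fiberι]; exact hfz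
    refine h z0 (specializes_iff_mem_closure.mp ((f.fiberι (f.base x)).isEmbedding.isInducing.specializes_iff.mp
      (by rw [f.fiberι_asFiber x]; exact hzx))) fun z' hz' => ?_
    refine (f.fiberι (f.base x)).isEmbedding.injective (hmax _ ?_
      ((specializes_iff_mem_closure.mpr hz').map (f.fiberι (f.base x)).continuous))
    have hmem : ∀ w, f (f.fiberι (f.base x) w) = f x := fun w => by
      have : f.fiberι (f.base x) w ∈ Set.range (f.fiberι (f.base x)) := ⟨w, rfl⟩
      rwa [Scheme.Hom.range_fiberι] at this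
    exact (hmem z').trans hfz.symm
  tfae_have 5 → 1 := by
    intro h
    haveI : Module.Flat (Y.presheaf.stalk (f.base x)) (X.presheaf.stalk x) :=
      flat_of_dim (h.trans (congrArg _ (ringKrullDim_eq_of_ringEquiv e).symm))
    refine ⟨‹Module.Flat _ _›, @CMChart.isCohenMacaulayLocalRing_of_ringEquiv _ _ _ _ e
      (CMFlat.isCohenMacaulayLocalRing_descend (R := Y.presheaf.stalk (f.base x))).2⟩
  tfae_finish

end Groth.Agent.S3440
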