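import Groth.Statements.S0041
import Groth.Agent.FormFin.Cover
import Groth.Agent.W7Alg.Subscheme
import Groth.Agent.W7Exist.Induct

set_option autoImplicit false
set_option backward.isDefEq.respectTransparency false
set_option backward.isDefEq.respectTransparency.types false
set_option maxHeartbeats 1000000
set_option linter.style.haveILetI false

universe u
open Coherent

namespace Groth.Agent.S0041

open AlgebraicGeometry CategoryTheory CategoryTheory.Limits in
/-- Let A be a Noetherian ring complete with respect to an ideal I, X a scheme separated and of finite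
type over Spec A, and X_n = X ×_{Spec A} Spec(A/I^{n+1}) with the closed immersions X_n → X_{n+1}.
Suppose given schemes Y_n with finite morphisms Y_n → X_n and morphisms Y_n → Y_{n+1} making each
square over X_n → X_{n+1} cartesian, such that Y_0 is proper over Spec(A/I). Then there are a scheme
W, a finite morphism W → X with W proper over Spec A, and morphisms Y_n → W compatible with the
transitions which identify each Y_n with W ×_X X_n. -/
theorem result (A : Type u) [CommRing A] [IsNoetherianRing A]
    (I : Ideal A) [IsAdicComplete I A] {X : Scheme.{u}} (f : X ⟶ Spec (CommRingCat.of A))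
    [IsSeparated f] [LocallyOfFiniteType f] [QuasiCompact f]
    (Y : ℕ → Scheme.{u}) (y : (n : ℕ) → (Y n ⟶ CohB1.thick f I n)) (t : (n : ℕ) → (Y n ⟶ Y (n + 1)))
    (hy : ∀ n, IsFinite (y n))
    (ht : ∀ n, IsPullback (t n) (y n) (y (n + 1)) (CohB1.thickTrans f I n))
    (hp : IsProper (y 0 ≫ CohB1.thickToBase f I 0)) :
    ∃ (W : Scheme.{u}) (i : W ⟶ X) (w : (n : ℕ) → (Y n ⟶ W)), IsFinite i ∧
      IsProper (i ≫ f) ∧ (∀ n, w n = t n ≫ w (n + 1)) ∧ ∀ n, IsPullback (w n) (y n) i (CohB1.thickι f I n) := by
  letI : X.Over (Spec (CommRingCat.of A)) := ⟨f⟩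
  haveI : IsSeparated (X ↘ Spec (CommRingCat.of A)) := ‹IsSeparated f›
  haveI : LocallyOfFiniteType (X ↘ Spec (CommRingCat.of A)) := ‹LocallyOfFiniteType f›
  haveI : QuasiCompact (X ↘ Spec (CommRingCat.of A)) := ‹QuasiCompact f›
  haveI : IsLocallyNoetherian X := LocallyOfFiniteType.isLocallyNoetherian f
  haveI hcl : ∀ n, IsClosedImmersion (CohB1.thickι f I n) := fun n => by
    haveI : IsClosedImmersion (CohB1.specQuot I n) :=
      IsClosedImmersion.spec_of_surjective _ Ideal.Quotient.mk_surjective
    exact MorphismProperty.pullback_fst _ _ inferInstance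
  let J := (CohB1.thickι f I 0).ker
  have hJ : ∀ V : X.affineOpens, J.ideal V = I.map (W7Cech.secRing A V.1) := fun V => by
    refine (Groth.Agent.W7Alg.ker_thickι I f 0 V).trans ?_
    rw [zero_add, pow_one]
  have hpow : ∀ n, (J ^ (n + 1)) = (CohB1.thickι f I n).ker := fun n =>
    Scheme.IdealSheafData.ext (funext fun V => by
      rw [Groth.Agent.FormFin.Sys.ideal_pow hJ]; exact (Groth.Agent.W7Alg.ker_thickι I f n V).symm)
  have hw1 : ∀ n, CohB1.thickTrans f I n ≫ CohB1.thickι f I (n + 1) = CohB1.thickι f I n :=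
    fun n => Groth.Agent.W7Alg.thickTrans_fst I f n
  have hsq : ∀ n, IsPullback (CohB1.thickTrans f I n) (𝟙 _) (CohB1.thickι f I (n + 1)) (CohB1.thickι f I n) :=
    fun n => IsPullback.of_iso_pullback ⟨by rw [Category.id_comp, hw1]⟩
      { hom := pullback.lift (CohB1.thickTrans f I n) (𝟙 _) (by rw [Category.id_comp, hw1])
        inv := pullback.snd _ _
        hom_inv_id := pullback.lift_snd _ _ _
        inv_hom_id := pullback.hom_ext (by
          rw [← cancel_mono (CohB1.thickι f I (n + 1)), Category.assoc, Category.assoc, pullback.lift_fst_assoc, hw1,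
            Category.id_comp, pullback.condition]) (by simp) }
      (pullback.lift_fst _ _ _) (pullback.lift_snd _ _ _)
  have hcart : ∀ n, IsPullback (t n) (y n) (y (n + 1) ≫ CohB1.thickι f I (n + 1)) (CohB1.thickι f I n) := fun n => by
    have h := (ht n).paste_vert (hsq n)
    rwa [Category.comp_id] at h
  have hw : ∀ n, t n ≫ y (n + 1) ≫ CohB1.thickι f I (n + 1) = y n ≫ CohB1.thickι f I n := fun n => (hcart n).w
  let S : Groth.Agent.FormFin.Sys J :=
    { T := Y
      q := fun n => y n ≫ CohB1.thickι f I n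
      i := t
      w := hw
      fin := fun n => by haveI := hy n; infer_instance
      closed := fun n => MorphismProperty.of_isPullback (hcart n).flip (hcl n)
      ker := fun n => by
        rw [hpow, ← Scheme.IdealSheafData.ker_fst_of_isClosedImmersion, ← (hcart n).isoPullback_hom_fst,
          Scheme.Hom.ker_comp_of_isIso]
      killed := fun n => by
        rw [hpow, ← Scheme.IdealSheafData.ker_fst_of_isClosedImmersion]
        have : pullback.lift (𝟙 (Y n)) (y n) (Category.id_comp _) ≫
            pullback.fst (y n ≫ CohB1.thickι f I n) (CohB1.thickι f I n) = 𝟙 (Y n) := pullback.lift_fst _ _ _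
        exact le_bot_iff.1 ((Scheme.Hom.le_ker_comp (pullback.lift (𝟙 (Y n)) (y n) (Category.id_comp _))
          (pullback.fst (y n ≫ CohB1.thickι f I n) (CohB1.thickι f I n))).trans
            (by rw [this, Scheme.Hom.ker_eq_bot_of_isIso])) }
  let q0 := y 0 ≫ CohB1.thickι f I 0
  haveI : IsFinite (y 0) := hy 0
  haveI : IsFinite q0 := inferInstance
  haveI : IsProper (q0 ≫ f) := by
    haveI : IsClosedImmersion (CohB1.specQuot I 0) :=
      IsClosedImmersion.spec_of_surjective _ Ideal.Quotient.mk_surjective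
    haveI := hp
    have e : q0 ≫ f = (y 0 ≫ CohB1.thickToBase f I 0) ≫ CohB1.specQuot I 0 := by
      rw [Category.assoc, Category.assoc]; exact congrArg (y 0 ≫ ·) pullback.condition
    rw [e]; infer_instance
  have hG := S.isCohFormal_formalFun hJ
  have hsupp : ClSub.IsProperOver (X ↘ Spec (CommRingCat.of A)) (CohB1.support (S.formalFun.obj (Opposite.op 0))) := by
    refine ClSubLib.mono (ClSubLib.isProperOver_range f q0) (Groth.Agent.QC.isClosed_support (hG.1 0).2)
      fun x hx => ?_
    by_contra hx'
    refine (Groth.Agent.QC.notMem_support_iff x).2 (fun U hxU s => ?_) hx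
    let O : X.Opens := ⟨(Set.range q0)ᶜ, q0.isClosedMap.isClosed_range.isOpen_compl⟩
    exact ⟨U ⊓ O, inf_le_left, ⟨hxU, hx'⟩,
      Groth.Agent.W7Exist.eq_zero_of_support (N := Coh.structureModule (Y 0)) (W := q0 ⁻¹ᵁ (U ⊓ O))
        (fun z hz => absurd ⟨z, rfl⟩ hz.2) _⟩
  obtain ⟨E, hE, hEs, ⟨α⟩⟩ :=
    Groth.Agent.W7Exist.exists_algebraization_properSupport A I S.formalFun hG hsupp
  obtain ⟨R, hm, h1⟩ := S.exists_algData hJ α hE hEs
  let D := S.algSys hJ α hE.1
  haveI : ∀ n, IsAffineHom (D.q n) := fun n => by haveI := S.fin n; exact inferInstanceAs (IsAffineHom (S.q n))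
  choose k hk hkc hker hsec using fun n => Groth.Agent.FormFin.AlgSysSec.exists_closed_sec D R hE.1 hm h1 n
  have hsq' : ∀ n, IsPullback (k n) (y n) (R.π hE.1) (CohB1.thickι f I n) := fun n => by
    haveI := hkc n
    let c := CohB1.thickι f I n
    have hc : c.ker = J ^ (n + 1) := (hpow n).symm
    let e : CohB1.thick f I n ⟶ (J ^ (n + 1)).subscheme :=
      IsClosedImmersion.lift (J ^ (n + 1)).subschemeι c (by rw [Scheme.IdealSheafData.ker_subschemeι, hc])
    have he : e ≫ (J ^ (n + 1)).subschemeι = c := IsClosedImmersion.lift_fac _ _ _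
    let e' : (J ^ (n + 1)).subscheme ⟶ CohB1.thick f I n :=
      IsClosedImmersion.lift c (J ^ (n + 1)).subschemeι (by rw [Scheme.IdealSheafData.ker_subschemeι, hc])
    have he' : e' ≫ c = (J ^ (n + 1)).subschemeι := IsClosedImmersion.lift_fac _ _ _
    let ee : CohB1.thick f I n ≅ (J ^ (n + 1)).subscheme :=
      ⟨e, e', by rw [← cancel_mono c, Category.assoc, he', he, Category.id_comp],
        by rw [← cancel_mono (J ^ (n + 1)).subschemeι, Category.assoc, he, he', Category.id_comp]⟩
    have h := Groth.Agent.LefEssSurj.isPullback_of_ker_eq_comap (R.π hE.1) (k n) _ (hker n) (y n ≫ e)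
      (by rw [Category.assoc, he]; exact (hk n).symm)
    exact h.of_iso (Iso.refl _) (Iso.refl _) ee.symm (Iso.refl _) (by simp)
      (by simp [ee, show e ≫ e' = 𝟙 _ from ee.hom_inv_id]) (by simp) (by simp [ee]; exact he'.symm)
  refine ⟨R.spec hE.1, R.π hE.1, k, Groth.Agent.FormFin.isFinite_π R hE,
    Groth.Agent.FormFin.isProper_π R hE f hEs, fun n => ?_, hsq'⟩
  exact Groth.Agent.FormFin.AlgSysSec.comp_eq D R hE.1 hm h1 n (k n) (k (n + 1)) (hk n) (hk (n + 1)) (hsec n) (hsec (n + 1))

end Groth.Agent.S0041
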