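import Groth.Statements.S1964
-- import your own Groth.Agent.* helpers here
import Groth.Agent.Hensel.Branches

set_option autoImplicit false
universe u
open EtAlg

namespace Groth.Agent.S1964

/-- A domain B integral over a henselian local ring A is itself henselian local, and the structure map A
-> B is local; if the residue field of A is separably closed, so is that of B, and the residue field
extension is purely inseparable. -/
theorem result (A B : Type u) [CommRing A] [HenselianLocalRing A] [CommRing B]
    [IsDomain B] [Algebra A B] [Algebra.IsIntegral A B] :
    ∃ _ : HenselianLocalRing B, IsLocalHom (algebraMap A B) ∧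
      (IsSepClosed (IsLocalRing.ResidueField A) →
        IsSepClosed (IsLocalRing.ResidueField B) ∧
        ∀ _ : IsLocalHom (algebraMap A B),
          letI := (IsLocalRing.ResidueField.map (algebraMap A B)).toAlgebra
          IsPurelyInseparable (IsLocalRing.ResidueField A) (IsLocalRing.ResidueField B)) := by
  haveI : IsLocalRing B := Hensel.isLocalRing_of_integral_domain A B
  haveI hB : HenselianLocalRing B := Hensel.henselianLocalRing_finite A B
  haveI hloc : IsLocalHom (algebraMap A B) := ((IsLocalRing.local_hom_TFAE (algebraMap A B)).out 0 4).2
    (IsLocalRing.eq_maximalIdeal (Ideal.isMaximal_comap_of_isIntegral_of_isMaximal (R := A) (IsLocalRing.maximalIdeal B)))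
  refine ⟨hB, hloc, fun hs => ?_⟩
  haveI halg : Algebra.IsAlgebraic (IsLocalRing.ResidueField A) (IsLocalRing.ResidueField B) := by
    refine ⟨fun x => ?_⟩
    obtain ⟨b, rfl⟩ := IsLocalRing.residue_surjective x
    exact ((Algebra.IsIntegral.isIntegral (R := A) b).map (IsScalarTower.toAlgHom A B _)).tower_top.isAlgebraic
  haveI : IsPurelyInseparable (IsLocalRing.ResidueField A) (IsLocalRing.ResidueField B) := inferInstance
  refine ⟨Algebra.IsAlgebraic.isSepClosed (F := IsLocalRing.ResidueField A), fun _ => ?_⟩
  convert this using 1
  exact Algebra.algebra_ext _ _ fun r => by obtain ⟨a, rfl⟩ := IsLocalRing.residue_surjective r; rfl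

end Groth.Agent.S1964
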