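import Groth.Statements.S5167
import Groth.Agent.CotT.RegQuot
import Groth.Agent.SGA2Fin.Affine
-- import your own Groth.Agent.* helpers here

set_option autoImplicit false
universe u
open LocCoh

namespace Groth.Agent.S5167

/-- Let A be a Noetherian local ring which is a quotient of a regular local ring, m its maximal ideal, M
a finite A-module and n ≥ 0. Then H^i_m(M) is of finite length for all i ≤ n if and only if
depth(M_p) > n − dim(A/p) for every prime p ≠ m. -/
theorem result (R : Type u) [CommRing R] [IsRegularLocalRing R] (A : Type u) [CommRing A] [IsLocalRing A] [IsNoetherianRing A] (π : R →+* A) (hπ : Function.Surjective π) (M : Type u) [AddCommGroup M] [Module A M] [Module.Finite A M] (n : ℕ) : (∀ i : ℕ, i ≤ n → IsFiniteLength A (LocCoh.H (IsLocalRing.maximalIdeal A) i M)) ↔ ∀ p : PrimeSpectrum A, p.asIdeal ≠ IsLocalRing.maximalIdeal A → ∀ e : ℕ, ringKrullDim (A ⧸ p.asIdeal) = e → (n : ℕ∞) < LocCoh.depth (Localization.AtPrime p.asIdeal) (LocalizedModule p.asIdeal.primeCompl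 M) + e := by
  have : IsRegularRing R := CotT.isRegularRing_of_local R
  have key : ∀ p : PrimeSpectrum A, p.asIdeal ≠ IsLocalRing.maximalIdeal A ↔ ¬ IsLocalRing.maximalIdeal A ≤ p.asIdeal :=
    fun p => ⟨fun hne hle => hne (le_antisymm (IsLocalRing.le_maximalIdeal p.isPrime.ne_top) hle), fun h e => h e.ge⟩
  have hdim : ∀ (p : PrimeSpectrum A) (e : ℕ), ringKrullDim (A ⧸ p.asIdeal) = e ↔
      SGA2.relCodim (IsLocalRing.maximalIdeal A) p = e := fun p e => by
    rw [← SGA2Fin.relCodim_maximalIdeal]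
    exact WithBot.coe_inj
  refine ⟨fun h p hp e he => ?_, fun h i hi => (SGA2Fin.isFiniteLength_H_iff M i).2
    (SGA2Fin.finite_of_le_depth π hπ _ M (fun p hIp h1 => ?_) i hi)⟩
  · rw [← (hdim p e).1 he]
    refine SGA2Fin.lt_depth_add_relCodim π hπ _ M (fun p' hIp' h1 => ?_) p ((key p).1 hp)
    obtain ⟨q, hIq, hpq⟩ := SGA2Fin.exists_covBy_of_relCodim_eq_one h1
    exact SGA2Fin.le_depth_of_finite (fun i hi => (SGA2Fin.isFiniteLength_H_iff M i).1 (h i hi)) hIp' hIq hpq
  · have h2 := h p ((key p).2 hIp) 1 ((hdim p 1).2 (by exact_mod_cast h1))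
    rw [Nat.cast_one] at h2
    exact SGA2Fin.le_of_lt_add_one h2

end Groth.Agent.S5167
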