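import Groth.Statements.S5452
import Groth.Agent.RootSys.Weyl

set_option autoImplicit false
open RootPairing
open scoped Pointwise
open RootD

namespace Groth.Agent.S5452

open Groth.Agent.RootSys

/-- The Weyl group of a root datum acts faithfully on the set of roots. -/
theorem result {ι M N : Type*} [AddCommGroup M] [AddCommGroup N]
    (P : RootPairing ι ℤ M N) [Finite ι] :
    Function.Injective P.weylGroupToPerm := by
  haveI := Fintype.ofFinite ι
  refine (injective_iff_map_eq_one _).mpr fun g hg => Subtype.ext (aut_ext fun x => ?_)
  have hfix : ∀ i : ι, (g : P.Aut) • i = i := fun i => Equiv.ext_iff.mp hg i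
  have hmem : ∀ h : P.Aut, h ∈ P.weylGroup → h • x - x ∈ P.rootSpan ℤ := by
    intro h hh
    induction hh using RootPairing.weylGroup.induction with
    | mem i =>
      rw [RootPairing.Equiv.reflection_smul, P.reflection_apply, sub_sub_cancel_left, ← neg_smul]
      exact Submodule.smul_mem _ _ (Submodule.subset_span ⟨i, rfl⟩)
    | one => simp
    | mul u v hu hv ihu ihv =>
      have hroot : ∀ y ∈ P.rootSpan ℤ, u • y ∈ P.rootSpan ℤ := fun y hy => by
        induction hy using Submodule.span_induction with
        | mem z hz =>
          obtain ⟨i, rfl⟩ := hz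
          rw [← root_smul]
          exact Submodule.subset_span ⟨_, rfl⟩
        | zero => simp
        | add a b _ _ ha hb => rw [smul_add]; exact add_mem ha hb
        | smul c a _ ha => rw [smul_comm]; exact Submodule.smul_mem _ _ ha
      have e : (u * v) • x - x = u • (v • x - x) + (u • x - x) := by
        rw [mul_smul, smul_sub]; abel
      rw [e]
      exact add_mem (hroot _ ihv) ihu
  have h0 : ∀ i, P.coroot' i ((g : P.Aut) • x - x) = 0 := fun i => by
    rw [map_sub]
    conv_lhs => arg 1; rw [← hfix i, coroot'_smul]
    exact sub_self _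
  have hy := P.eq_zero_of_mem_rootSpan_of_rootForm_self_eq_zero (hmem _ g.2) (by
    rw [RootPairing.rootForm_apply_apply]
    exact Finset.sum_eq_zero fun i _ => by rw [h0 i, zero_mul])
  rw [OneMemClass.coe_one, one_smul]
  exact sub_eq_zero.mp hy

end Groth.Agent.S5452
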