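import Mathlib.RingTheory.LocalRing.Module
import Groth.Agent.SerreReg.Basic

/-!
Projective dimension over a quotient ring bounds projective dimension over the ring.
-/

universe u

namespace Groth.Agent.PdQuot

open CategoryTheory SerreReg

theorem pdLE_prod {R : Type u} [CommRing R] {M N : Type u} [AddCommGroup M] [Module R M] [AddCommGroup N]
    [Module R N] {n : ℕ} (hM : PdLE R M n) (hN : PdLE R N n) : PdLE R (M × N) n :=
  (LinearMap.shortExact_shortComplexKer
    (f := LinearMap.snd R M N) LinearMap.snd_surjective).hasProjectiveDimensionLT_X₂ _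
    (pdLE_of_equiv (LinearEquiv.ofBijective
      ((LinearMap.inl R M N).codRestrict (LinearMap.ker (LinearMap.snd R M N)) fun x => by simp)
      ⟨fun x y h => congrArg Prod.fst (congrArg Subtype.val h),
       fun x => ⟨x.1.1, Subtype.ext (Prod.ext rfl (LinearMap.mem_ker.1 x.2).symm)⟩⟩) hM) hN

theorem pdLE_pi {R : Type u} [CommRing R] {M : Type u} [AddCommGroup M] [Module R M] {n : ℕ}
    (hM : PdLE R M n) : ∀ k : ℕ, PdLE R (Fin k → M) n
  | 0 => pdLE_mono (Nat.zero_le n) ((pdLE_zero_iff _).2 (Module.Projective.of_free))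
  | k + 1 => pdLE_of_equiv (Fin.consLinearEquiv R fun _ : Fin (k + 1) => M) (pdLE_prod hM (pdLE_pi hM k))

theorem pdLE_restrict {R S : Type u} [CommRing R] [CommRing S] [IsLocalRing S] [IsNoetherianRing S]
    [Algebra R S] {a : ℕ} (ha : PdLE R S a) : ∀ (b : ℕ) (E : Type u) [AddCommGroup E] [Module S E]
    [Module R E] [IsScalarTower R S E] [Module.Finite S E], PdLE S E b → PdLE R E (a + b) := by
  intro b
  induction b with
  | zero =>
    intro E _ _ _ _ _ h
    haveI := (pdLE_zero_iff E).1 h
    haveI : Module.Free S E := Module.free_of_flat_of_isLocalRing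
    obtain ⟨k, ⟨e⟩⟩ : ∃ k, Nonempty (E ≃ₗ[S] (Fin k → S)) :=
      ⟨_, ⟨(Module.finBasis S E).equivFun⟩⟩
    exact pdLE_of_equiv (e.symm.restrictScalars R) (pdLE_pi ha k)
  | succ b ih =>
    intro E _ _ _ _ _ h
    obtain ⟨k, f, hf⟩ := Module.Finite.exists_fin' S E
    have hK : PdLE R (LinearMap.ker f) (a + b) := ih _ ((pdLE_succ_iff f hf b).1 h)
    have hX₂ : PdLE R (Fin k → S) (a + b) := pdLE_mono (by omega) (pdLE_pi ha k)
    exact (LinearMap.shortExact_shortComplexKer
      (f := f.restrictScalars R) hf).hasProjectiveDimensionLT_X₃ _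
      (pdLE_of_equiv (LinearEquiv.refl R _) hK)
      (pdLE_mono (n := a + b) (m := a + (b + 1)) (by omega) hX₂)

end Groth.Agent.PdQuot
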