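import Mathlib

/-! The perfect closure is faithfully flat when Frobenius is. -/

set_option autoImplicit false
universe u

namespace Groth.Agent.PerfectClosureFF

variable (p : ℕ) [Fact p.Prime] (R : Type u) [CommRing R] [CharP R p]

lemma ff_of_bijective {S : Type u} [CommRing S] [Nontrivial S] {κ : Type u} [Nonempty κ] (g : R →+* S) (v : κ → S)
    (h : Function.Bijective fun c : κ →₀ R => c.sum fun e r => g r * v e) : g.FaithfullyFlat := by
  letI := g.toAlgebra
  show Module.FaithfullyFlat R S
  have hb : Function.Bijective (Finsupp.linearCombination R v) := h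
  haveI := Module.Free.of_basis (Module.Basis.ofRepr (LinearEquiv.ofBijective _ hb).symm)
  infer_instance

omit [Fact p.Prime] [CharP R p] in
lemma exists_relation {S : Type u} [CommRing S] (g : R →+* S) (h : g.Flat) {l : ℕ} (f : Fin l → R) (y : Fin l → S)
    (h0 : ∑ s, g (f s) * y s = 0) : ∃ (k : ℕ) (c : Fin l → Fin k → R) (z : Fin k → S),
      (∀ s, y s = ∑ t, g (c s t) * z t) ∧ ∀ t, ∑ s, f s * c s t = 0 := by
  letI := g.toAlgebra
  haveI : Module.Flat R S := h
  obtain ⟨k, c, z, hz, hc⟩ := Module.Flat.isTrivialRelation_of_sum_smul_eq_zero (R := R) (M := S) h0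
  exact ⟨k, c, z, hz, hc⟩

lemma frobenius_ff_of_pBasis (ι : Type u) (x : ι → R)
    (hx : Function.Bijective (fun c : {e : ι →₀ ℕ // ∀ i, e i < p} →₀ R =>
      c.sum (fun e r => r ^ p * e.1.prod (fun i n => x i ^ n)))) :
    (frobenius R p).FaithfullyFlat := by
  haveI : Nontrivial R := CharP.nontrivial_of_char_ne_one (R := R) (Fact.out : p.Prime).ne_one
  haveI : Nonempty {e : ι →₀ ℕ // ∀ i, e i < p} := ⟨⟨0, fun _ => (Fact.out : p.Prime).pos⟩⟩
  exact ff_of_bijective R (κ := {e : ι →₀ ℕ // ∀ i, e i < p}) (frobenius R p) _ hx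

variable {p R}

lemma iterate_ff (h : (frobenius R p).FaithfullyFlat) : ∀ n, (iterateFrobenius R p n).FaithfullyFlat
  | 0 => by rw [iterateFrobenius_zero]; exact RingHom.FaithfullyFlat.of_bijective Function.bijective_id
  | n + 1 => by
    rw [show iterateFrobenius R p (n + 1) = (frobenius R p).comp (iterateFrobenius R p n) from
      RingHom.ext fun a => by simp [iterateFrobenius_def, frobenius_def, pow_succ, pow_mul]]
    exact RingHom.FaithfullyFlat.stableUnderComposition _ _ (iterate_ff h n) h

lemma of_ff (h : (frobenius R p).FaithfullyFlat) : (PerfectClosure.of R p).FaithfullyFlat := by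
  set j := PerfectClosure.of R p
  have hinj : ∀ z, j z = 0 → z = 0 := fun z hz => by
    obtain ⟨n, hn⟩ := mem_pNilradical.1 (IsPRadical.ker_le j p (RingHom.mem_ker.2 hz))
    exact (iterate_ff h n).injective (by rw [iterateFrobenius_def, hn, map_zero])
  letI := j.toAlgebra
  show Module.FaithfullyFlat R (PerfectClosure R p)
  have hflat : Module.Flat R (PerfectClosure R p) := by
    refine Module.Flat.of_forall_isTrivialRelation fun {l f x} hfx => ?_
    choose n y hy using fun s => IsPRadical.pow_mem j p (x s)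
    let N := Finset.univ.sup n
    have hN : ∀ s, j (y s ^ p ^ (N - n s)) = x s ^ p ^ N := fun s => by
      rw [map_pow, hy, ← pow_mul, ← pow_add, Nat.add_sub_cancel' (Finset.le_sup (Finset.mem_univ s))]
    have h0 : ∑ s, f s ^ p ^ N * y s ^ p ^ (N - n s) = 0 := hinj _ <| by
      simp only [map_sum, map_mul, hN, map_pow, ← mul_pow]
      rw [← sum_pow_char_pow, show ∑ s, j (f s) * x s = 0 from hfx,
        zero_pow (pow_ne_zero _ (Fact.out : p.Prime).ne_zero)]
    obtain ⟨k, c, z, hz, hc⟩ := exists_relation R (iterateFrobenius R p N) (iterate_ff h N).flat f _ h0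
    refine ⟨k, c, fun t => (iterateFrobeniusEquiv (PerfectClosure R p) p N).symm (j (z t)), fun s => ?_, hc⟩
    apply (iterateFrobeniusEquiv (PerfectClosure R p) p N).injective
    rw [map_sum, iterateFrobeniusEquiv_def, ← hN, show y s ^ p ^ (N - n s) = _ from hz s, map_sum]
    refine Finset.sum_congr rfl fun t _ => ?_
    rw [Algebra.smul_def, show algebraMap R (PerfectClosure R p) = j from rfl, iterateFrobenius_def]
    rw [map_mul, map_mul, RingEquiv.apply_symm_apply, iterateFrobeniusEquiv_def, map_pow]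
  haveI : Algebra.IsIntegral R (PerfectClosure R p) := ⟨fun z => by
    obtain ⟨n, y, hy⟩ := IsPRadical.pow_mem j p z
    refine IsIntegral.of_pow (pow_pos (Fact.out : p.Prime).pos n) ?_
    rw [← hy]
    exact isIntegral_algebraMap⟩
  refine Module.FaithfullyFlat.of_comap_surjective fun P => ?_
  obtain ⟨Q, -, hQp, hQc⟩ := Ideal.exists_ideal_over_prime_of_isIntegral P.asIdeal (⊥ : Ideal (PerfectClosure R p)) (by
    intro z hz
    rw [hinj z hz]
    exact zero_mem _)
  exact ⟨⟨Q, hQp⟩, PrimeSpectrum.ext hQc⟩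

end Groth.Agent.PerfectClosureFF
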