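import Mathlib

/-!
# Flatness of the map induced on perfect closures
-/

set_option autoImplicit false
universe u

namespace Groth.Agent.PerfectClosureFlat

variable (p : ℕ) [Fact p.Prime] {A B A' B' : Type u} [CommRing A] [CommRing B] [CommRing A'] [CommRing B']
  [CharP A p] [CharP B p] [CharP A' p] [CharP B' p] [PerfectRing A' p] [PerfectRing B' p]
  (φ : A →+* B) (i : A →+* A') (j : B →+* B') [IsPerfectClosure i p] [IsPerfectClosure j p] (φ' : A' →+* B')

omit [Fact p.Prime] [CharP A p] [CharP A' p] [PerfectRing A' p] in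
lemma exists_common {C C' : Type u} [CommRing C] [CommRing C'] (k : C →+* C') [IsPRadical k p] {l : ℕ}
    (x : Fin l → C') : ∃ (N : ℕ), ∀ M ≥ N, ∀ s, x s ^ p ^ M ∈ k.range := by
  choose n y hy using fun s ↦ IsPRadical.pow_mem k p (x s)
  refine ⟨Finset.univ.sup n, fun M hM s ↦ ?_⟩
  obtain ⟨c, rfl⟩ := Nat.exists_eq_add_of_le ((Finset.le_sup (Finset.mem_univ s)).trans hM)
  exact ⟨y s ^ p ^ c, by rw [map_pow, hy, ← pow_mul, ← pow_add]⟩

include p i j in
lemma flat (hflat : φ.Flat) (hφ : φ'.comp i = j.comp φ) : φ'.Flat := by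
  letI := φ'.toAlgebra
  show Module.Flat A' B'
  refine Module.Flat.of_forall_isTrivialRelation fun {l f x} hfx ↦ ?_
  obtain ⟨N₁, h₁⟩ := exists_common p i f
  obtain ⟨N₂, h₂⟩ := exists_common p j x
  let N := max N₁ N₂
  choose a ha using fun s ↦ h₁ N (le_max_left _ _) s
  choose b hb using fun s ↦ h₂ N (le_max_right _ _) s
  have hj : j (∑ s, φ (a s) * b s) = 0 := by
    calc j (∑ s, φ (a s) * b s) = ∑ s, (f s • x s) ^ p ^ N := by
          rw [map_sum]
          refine Finset.sum_congr rfl fun s _ ↦ ?_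
          rw [map_mul, ← RingHom.comp_apply j φ, ← hφ, RingHom.comp_apply, ha, hb, Algebra.smul_def,
            mul_pow, map_pow]
          rfl
      _ = 0 := by rw [← sum_pow_char_pow, hfx, zero_pow (pow_ne_zero _ (Fact.out : p.Prime).ne_zero)]
  obtain ⟨r, hr⟩ := mem_pNilradical.mp (IsPRadical.ker_le j p (RingHom.mem_ker.mpr hj))
  rw [sum_pow_char_pow] at hr
  letI := φ.toAlgebra
  haveI : Module.Flat A B := hflat
  obtain ⟨k, c, y, hy, hc⟩ := Module.Flat.isTrivialRelation_of_sum_smul_eq_zero (R := A) (M := B)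
    (f := fun s ↦ a s ^ p ^ r) (x := fun s ↦ b s ^ p ^ r) (by
      rw [← hr]
      exact Finset.sum_congr rfl fun s _ ↦ by rw [Algebra.smul_def, mul_pow, map_pow]; rfl)
  refine ⟨k, fun s t ↦ (iterateFrobeniusEquiv A' p (N + r)).symm (i (c s t)),
    fun t ↦ (iterateFrobeniusEquiv B' p (N + r)).symm (j (y t)), fun s ↦ ?_, fun t ↦ ?_⟩
  · apply (iterateFrobeniusEquiv B' p (N + r)).injective
    rw [map_sum, iterateFrobeniusEquiv_def, pow_add, pow_mul, ← hb, ← map_pow, show b s ^ p ^ r = _ from hy s, map_sum]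
    refine Finset.sum_congr rfl fun t _ ↦ ?_
    rw [Algebra.smul_def, Algebra.smul_def, map_mul, map_mul, RingEquiv.apply_symm_apply]
    congr 1
    rw [iterateFrobeniusEquiv_def]
    show j (φ (c s t)) = φ' _ ^ _
    rw [← map_pow, ← iterateFrobeniusEquiv_def, RingEquiv.apply_symm_apply, ← RingHom.comp_apply j, ← hφ]
    rfl
  · apply (iterateFrobeniusEquiv A' p (N + r)).injective
    rw [map_sum, map_zero]
    calc _ = i (∑ s, a s ^ p ^ r * c s t) := by
          rw [map_sum]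
          refine Finset.sum_congr rfl fun s _ ↦ ?_
          rw [map_mul, RingEquiv.apply_symm_apply, iterateFrobeniusEquiv_def, pow_add, pow_mul, ← ha, map_mul, map_pow]
      _ = 0 := by rw [hc t, map_zero]

include p i j in
lemma comap_surjective (h : Function.Surjective (PrimeSpectrum.comap φ)) (hφ : φ'.comp i = j.comp φ) :
    Function.Surjective (PrimeSpectrum.comap φ') := by
  intro P
  obtain ⟨Q, hQ⟩ := h (PrimeSpectrum.comap i P)
  have hker : RingHom.ker j ≤ Q.asIdeal := fun z hz ↦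
    nilradical_le_prime Q.asIdeal (pNilradical_le_nilradical (IsPRadical.ker_le j p hz))
  letI := j.toAlgebra
  haveI : Algebra.IsIntegral B B' := ⟨fun z ↦ by
    obtain ⟨n, y, hy⟩ := IsPRadical.pow_mem j p z
    refine IsIntegral.of_pow (pow_pos (Fact.out : p.Prime).pos n) ?_
    rw [← hy]
    exact isIntegral_algebraMap⟩
  obtain ⟨Q', hQ'⟩ := Ideal.exists_ideal_over_prime_of_isIntegral Q.asIdeal (⊥ : Ideal B') (by
    simpa [RingHom.ker] using! hker)
  obtain ⟨-, hQ'p, hQ'c⟩ := hQ'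
  refine ⟨⟨Q', hQ'p⟩, PrimeSpectrum.ext ?_⟩
  ext z
  obtain ⟨n, w, hw⟩ := IsPRadical.pow_mem i p z
  have hQ'' : ∀ b, j b ∈ Q' ↔ b ∈ Q.asIdeal := fun b ↦ by rw [← hQ'c]; rfl
  have e := congrArg PrimeSpectrum.asIdeal hQ
  rw [PrimeSpectrum.comap_asIdeal, Ideal.mem_comap, ← hQ'p.pow_mem_iff_mem (p ^ n) (pow_pos (Fact.out : p.Prime).pos n),
    ← P.2.pow_mem_iff_mem (p ^ n) (pow_pos (Fact.out : p.Prime).pos n), ← map_pow, ← hw,
    ← RingHom.comp_apply φ', hφ, RingHom.comp_apply, hQ'']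
  exact Iff.of_eq (congrArg (w ∈ ·) e)

end Groth.Agent.PerfectClosureFlat
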