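import Groth.Statements.S15168
import Mathlib
import Groth.Agent.Brauer.Module
import Groth.Agent.Brauer.SplitField
-- import your own Groth.Agent.* helpers here

set_option autoImplicit false
universe u v
open Polynomial
open BddFin

namespace Groth.Agent.S15168
open scoped TensorProduct

theorem finrank_subfield_dvd (k : Type u) [Field k] (D : Type v) [DivisionRing D] [Algebra k D]
    [Algebra.IsCentral k D] [FiniteDimensional k D] {n : ℕ} (hd : Module.finrank k D = n ^ 2)
    (K : Subalgebra k D) (hKc : ∀ x ∈ K, ∀ y ∈ K, x * y = y * x) :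
    Module.finrank k K ∣ n := by
  classical
  letI : CommRing K := { (inferInstance : Ring K) with mul_comm := fun a b => Subtype.ext (hKc a a.2 b b.2) }
  letI : Field K := (Algebra.IsIntegral.isField_iff_isField (R := k) (S := K)
    (FaithfulSMul.algebraMap_injective k K)).mp (Field.toIsField k) |>.toField
  have : Module.Finite K D := Module.Finite.of_restrictScalars_finite k K D
  let φ₀ : Dᵐᵒᵖ →ₐ[k] Module.End K D :=
    { toFun := fun a => { toFun := fun x => x * a.unop
                          map_add' := fun x y => add_mul x y _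
                          map_smul' := fun c x => mul_assoc (c : D) x a.unop }
      map_one' := LinearMap.ext mul_one
      map_mul' := fun a b => LinearMap.ext fun x => (mul_assoc x b.unop a.unop).symm
      map_zero' := LinearMap.ext mul_zero
      map_add' := fun a b => LinearMap.ext fun x => mul_add x a.unop b.unop
      commutes' := fun r => LinearMap.ext fun x => by
        show x * algebraMap k D r = r • x
        rw [Algebra.smul_def, Algebra.commutes] }
  let ρ : K ⊗[k] Dᵐᵒᵖ →ₐ[K] Module.End K D :=
    Algebra.TensorProduct.lift (Algebra.ofId K _) φ₀ fun l x => Algebra.commutes l _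
  have : IsSimpleRing (K ⊗[k] Dᵐᵒᵖ) := by
    have : IsSimpleRing (Dᵐᵒᵖ ⊗[k] K) := Azumaya.isSimpleRing_tensor k Dᵐᵒᵖ K
    exact IsSimpleRing.of_ringEquiv (Algebra.TensorProduct.comm k Dᵐᵒᵖ K).toRingEquiv this
  have : IsArtinianRing (K ⊗[k] Dᵐᵒᵖ) := IsArtinianRing.of_finite k _
  obtain ⟨m, hm, E, _, _, hE, ⟨e⟩⟩ :=
    IsSimpleRing.exists_algEquiv_matrix_divisionRing_finite K (K ⊗[k] Dᵐᵒᵖ)
  have h1 := Groth.Agent.Brauer.dvd_finrank_of_algEquiv e ρ
  have hD : Module.finrank k Dᵐᵒᵖ = n ^ 2 := by
    rw [← hd]; exact (MulOpposite.opLinearEquiv k).finrank_eq.symm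
  have h2 : n ^ 2 = m * m * Module.finrank K E := by
    rw [← hD, ← Module.finrank_baseChange (R := K) (S := k) (M' := Dᵐᵒᵖ), e.toLinearEquiv.finrank_eq,
      Module.finrank_matrix, Fintype.card_fin]
  have h3 := Module.finrank_mul_finrank k K D
  rw [hd, h2] at h3
  obtain ⟨c, hc⟩ := h1
  have hEpos : 0 < Module.finrank K E := Module.finrank_pos
  have hm0 : 0 < m := Nat.pos_of_ne_zero hm.1
  have h4 : Module.finrank k K * c = m := by
    refine Nat.eq_of_mul_eq_mul_right (Nat.mul_pos hm0 hEpos) ?_
    calc Module.finrank k K * c * (m * Module.finrank K E)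
        = Module.finrank k K * Module.finrank K D := by rw [hc]; ring
      _ = m * (m * Module.finrank K E) := by rw [h3]; ring
  have h5 : m ∣ n := (Nat.pow_dvd_pow_iff two_ne_zero).mp ⟨Module.finrank K E, by rw [h2]; ring⟩
  exact (Dvd.intro c h4).trans h5

end Groth.Agent.S15168

namespace Groth.Agent.S15168

/-- Let K be a field such that K contains all roots of unity (for every n ≥ 1 the polynomial X^n − 1
splits into linear factors over K), A a central division algebra of dimension n ^ 2 over K, and x an
element of A some power x ^ m (m ≥ 1) of which lies in K. Then x ^ n lies in K; that is, the order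
of the class of x in the quotient of the unit group of A by that of K divides n. -/
theorem result
    (K : Type u) [Field K] (hK : ∀ n : ℕ, 0 < n → (X ^ n - 1 : K[X]).Splits)
    (A : Type v) [DivisionRing A] [Algebra K A] [Algebra.IsCentral K A] [FiniteDimensional K A]
    (n : ℕ) (hn : Module.finrank K A = n ^ 2)
    (x : A) (hxm : ∃ m : ℕ, 0 < m ∧ x ^ m ∈ (algebraMap K A).range) :
    x ^ n ∈ (algebraMap K A).range := by
  classical
  rcases eq_or_ne x 0 with rfl | hx0
  · rcases Nat.eq_zero_or_pos n with rfl | h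
    · exact ⟨1, by simp⟩
    · exact ⟨0, by simp [zero_pow h.ne']⟩
  obtain ⟨m, hm, a, ha⟩ := hxm
  let L := Algebra.adjoin K ({x} : Set A)
  have hc : ∀ p ∈ L, ∀ q ∈ L, p * q = q * p := fun p hp q hq =>
    congrArg Subtype.val (((Algebra.adjoinCommRingOfComm K (s := ({x} : Set A)) (by
      rintro _ rfl _ rfl; rfl)).mul_comm ⟨p, hp⟩ ⟨q, hq⟩))
  have hdvd := finrank_subfield_dvd K A hn L hc
  letI : CommRing L := { (inferInstance : Ring L) with mul_comm := fun a b => Subtype.ext (hc a a.2 b b.2) }
  letI : Field L := (Algebra.IsIntegral.isField_iff_isField (R := K) (S := L)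
    (FaithfulSMul.algebraMap_injective K L)).mp (Field.toIsField K) |>.toField
  have hint : IsIntegral K x := Algebra.IsIntegral.isIntegral x
  have hdeg : (minpoly K x).natDegree ∣ n := by
    let y : L := ⟨x, Algebra.self_mem_adjoin_singleton K x⟩
    have hy : IsIntegral K y := Algebra.IsIntegral.isIntegral y
    have htop : Algebra.adjoin K ({y} : Set L) = ⊤ := by
      apply Subalgebra.map_injective (f := L.val) Subtype.val_injective
      rw [AlgHom.map_adjoin, Set.image_singleton, Algebra.map_top, Subalgebra.range_val]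
      rfl
    have h1 : Module.finrank K L = (minpoly K y).natDegree := by
      rw [← (Algebra.adjoin.powerBasis hy).finrank.trans (Algebra.adjoin.powerBasis_dim hy),
        htop, Subalgebra.topEquiv.toLinearEquiv.finrank_eq]
    rw [← minpoly.algHom_eq L.val Subtype.val_injective y] at h1
    exact h1 ▸ hdvd
  obtain ⟨c, hc'⟩ := hdeg
  suffices h : x ^ (minpoly K x).natDegree ∈ (algebraMap K A).range by
    rw [hc', pow_mul]; exact Subring.pow_mem _ h c
  let y : L := ⟨x, Algebra.self_mem_adjoin_singleton K x⟩
  have hy0 : y ≠ 0 := fun h => hx0 (congrArg Subtype.val h)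
  have hym : y ^ m = algebraMap K L a := Subtype.ext (by simpa [y] using ha.symm)
  have hmin : minpoly K y = minpoly K x := (minpoly.algHom_eq L.val Subtype.val_injective y).symm
  let f := (minpoly K x).map (algebraMap K L)
  have hroots : ∀ ζ : L, ζ ^ m = 1 → ∃ c : K, algebraMap K L c = ζ := fun ζ hζ => by
    have h1 := (hK m hm).mem_range_of_isRoot (f := (X ^ m - 1 : K[X])) (i := algebraMap K L) (x := ζ)
      (by simpa using (monic_X_pow_sub_C (1 : K) hm.ne').ne_zero) (by simp [IsRoot, hζ])
    exact h1
  have hfd : f ∣ (X ^ m - C (algebraMap K L a) : L[X]) := by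
    have := Polynomial.map_dvd (algebraMap K L) (minpoly.dvd K x (p := X ^ m - C a) (by simp [ha]))
    simpa [f] using this
  have hsp : (X ^ m - C (algebraMap K L a) : L[X]).Splits := by
    have h1 : (X ^ m - 1 : L[X]).Splits := by simpa using (hK m hm).map (algebraMap K L)
    have h2 := (h1.comp_of_natDegree_le_one_of_invertible (g := C y⁻¹ * X)
      ((natDegree_C_mul_le _ _).trans natDegree_X_le) (invertibleOfNonzero (by simp [hy0]))).C_mul (y ^ m)
    suffices h3 : (X ^ m - C (algebraMap K L a) : L[X]) = C (y ^ m) * ((X ^ m - 1 : L[X]).comp (C y⁻¹ * X)) by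
      rw [h3]; exact h2
    rw [← hym, sub_comp, one_comp, pow_comp, X_comp, mul_pow, ← map_pow, mul_sub, ← mul_assoc, ← map_mul, ← mul_pow,
      mul_inv_cancel₀ hy0, one_pow, map_one, one_mul, mul_one]
  have hf := hsp.of_dvd (monic_X_pow_sub_C _ hm.ne').ne_zero hfd
  have hfm : f.Monic := (minpoly.monic hint).map _
  have h0 := hf.coeff_zero_eq_prod_roots_of_monic hfm
  have hfdeg : f.natDegree = (minpoly K x).natDegree := natDegree_map _
  have hprod : ∀ s : Multiset L, (∀ r ∈ s, r ^ m = y ^ m) → ∃ c : K, c ≠ 0 ∧ s.prod = algebraMap K L c * y ^ s.card := by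
    intro s
    induction s using Multiset.induction_on with
    | empty => exact fun _ => ⟨1, one_ne_zero, by simp⟩
    | cons r s ih =>
      intro h
      obtain ⟨c, hc0, hc⟩ := ih fun q hq => h q (Multiset.mem_cons_of_mem hq)
      obtain ⟨ζ, hζ⟩ := hroots (r / y) (by rw [div_pow, h r (Multiset.mem_cons_self r s), div_self (pow_ne_zero _ hy0)])
      have hr : r = algebraMap K L ζ * y := by rw [hζ, div_mul_cancel₀ _ hy0]
      refine ⟨ζ * c, mul_ne_zero (fun h0 => ?_) hc0, by rw [Multiset.prod_cons, hc, hr, Multiset.card_cons, map_mul]; ring⟩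
      have hr0 : r = 0 := by rw [hr, h0, map_zero, zero_mul]
      have := h r (Multiset.mem_cons_self r s)
      rw [hr0, zero_pow hm.ne'] at this
      exact pow_ne_zero m hy0 this.symm
  obtain ⟨z, hz0, hz⟩ := hprod f.roots fun r hr => by
    have hr1 := (isRoot_of_mem_roots hr).dvd hfd
    rw [hym]
    simpa [IsRoot, sub_eq_zero] using hr1
  rw [hz, ← hf.natDegree_eq_card_roots, hfdeg, show f.coeff 0 = algebraMap K L ((minpoly K x).coeff 0) from coeff_map _ _] at h0
  refine ⟨(-1) ^ (minpoly K x).natDegree * (minpoly K x).coeff 0 / z, ?_⟩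
  have h6 : y ^ (minpoly K x).natDegree = algebraMap K L ((-1) ^ (minpoly K x).natDegree * (minpoly K x).coeff 0 / z) := by
    rw [map_div₀, map_mul, map_pow, map_neg, map_one, h0, eq_div_iff ((_root_.map_ne_zero _).mpr hz0), ← mul_assoc, ← mul_pow]
    simp [mul_comm]
  exact (congrArg Subtype.val h6).symm

end Groth.Agent.S15168
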