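import Groth.Statements.S15184
import Groth.Agent.BddFin.DivisionDegreeP
import Mathlib.Tactic.NoncommRing

set_option autoImplicit false
universe u v
open BddFin

namespace Groth.Agent.S15184

/-- Let K be a field with char K = p > 0 and A a central division K-algebra with dim_K A = p ^ 2. If p =
2 or p = 3, then some element of A is not separable over K. -/
theorem result
    (K : Type u) [Field K] (p : ℕ) [Fact p.Prime] [CharP K p]
    (A : Type v) [DivisionRing A] [Algebra K A] [Algebra.IsCentral K A] [FiniteDimensional K A]
    (hA : Module.finrank K A = p ^ 2) (hp : p = 2 ∨ p = 3) :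
    ∃ v : A, ¬ IsSeparable K v := by
  classical
  by_contra hall
  push Not at hall
  obtain ⟨x, y, hxy⟩ : ∃ x y : A, y * x ≠ x * y := by
    by_contra h
    push Not at h
    have h1 : (⊥ : Subalgebra K A) = ⊤ := top_le_iff.1 fun v _ => by
      have := Algebra.IsCentral.out (K := K) (D := A) (Subalgebra.mem_center_iff.2 fun w => h v w)
      simpa using this
    have h2 := Subalgebra.bot_eq_top_iff_finrank_eq_one.1 h1
    rw [hA] at h2
    rcases hp with rfl | rfl <;> norm_num at h2
  obtain ⟨hdeg, hcent⟩ := Groth.Agent.BddFin.natDegree_and_centralizer p hA hxy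
  have hint : IsIntegral K x := Algebra.IsIntegral.isIntegral x
  haveI : Fact (Irreducible (minpoly K x)) := ⟨minpoly.irreducible hint⟩
  set f := minpoly K x with hf
  have hroot : ((minpoly K x).map (algebraMap K (AdjoinRoot (minpoly K x)))).eval
      (AdjoinRoot.root (minpoly K x)) = 0 := by
    rw [Polynomial.eval_map_algebraMap, AdjoinRoot.aeval_eq, AdjoinRoot.mk_self]
  suffices hsp : ((minpoly K x).map (algebraMap K (AdjoinRoot (minpoly K x)))).Splits by
    obtain ⟨v, hv⟩ := Groth.Agent.BddFin.exists_not_isSeparable_of_splits p hA (hall x) hdeg hsp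
    exact hv (hall v)
  rcases hp with rfl | rfl
  · exact Polynomial.Splits.of_natDegree_eq_two (by rw [Polynomial.natDegree_map]; exact hdeg) hroot
  set a := -(minpoly K x).coeff 2 with ha
  set b := (minpoly K x).coeff 1 with hb
  set c := -(minpoly K x).coeff 0 with hc
  have hcoeff : ∀ z : A, Polynomial.aeval z (minpoly K x) = z * z * z - a • (z * z) + b • z - c • (1 : A) := by
    intro z
    have h3 : (minpoly K x).coeff 3 = 1 := hdeg ▸ (minpoly.monic hint).coeff_natDegree
    rw [Polynomial.aeval_eq_sum_range, hdeg]
    simp only [Finset.sum_range_succ, Finset.sum_range_zero, h3, pow_succ, pow_zero, one_mul, ha, hb, hc]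
    module
  have hx : Groth.Agent.BddFin.Cub a b c x := (hcoeff x).symm.trans (minpoly.aeval K x)
  have hy0 : y ≠ 0 := fun h => hxy (by simp [h])
  set x' := y * x * y⁻¹
  have hconj : x' * y = y * x := inv_mul_cancel_right₀ hy0 _
  have hx' : Groth.Agent.BddFin.Cub a b c x' := by
    refine (mul_eq_zero.1 (?_ : _ * y = 0)).resolve_right hy0
    have h' : ∀ t : A, x' * (y * t) = y * (x * t) := fun t => by
      rw [← mul_assoc, hconj, mul_assoc]
    have := congrArg (y * ·) hx
    simpa [add_mul, sub_mul, mul_add, mul_sub, mul_assoc, h', hconj] using this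
  have hne : x' - x ≠ 0 := fun h => hxy (by rw [← hconj, sub_eq_zero.1 h])
  set x2 := (x' - x) * x' * (x' - x)⁻¹
  have h12 : Groth.Agent.BddFin.Rel a b x x2 := Groth.Agent.BddFin.rel_of_root hx hx' hne
  have hx2 := Groth.Agent.BddFin.cub_of_rel hx h12
  by_cases hcomm : x * x2 = x2 * x
  · obtain ⟨r, hr⟩ := hcent x2 hcomm
    by_cases hrr : x2 = x
    · exfalso
      rw [hrr] at h12
      unfold Groth.Agent.BddFin.Rel at h12
      haveI : CharP A 3 := charP_of_injective_algebraMap (algebraMap K A).injective 3
      have h30 : (3 : A) = 0 := CharP.cast_eq_zero A 3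
      have h4 : a • x + b • (1 : A) = 0 := by
        have h3z : ∀ v : A, v + v + v = 0 := fun v => by
          rw [show v + v + v = (3 : A) * v by noncomm_ring, h30, zero_mul]
        have h5 := h3z (x * x)
        have h6 := h3z (a • x)
        linear_combination (norm := module) h12 - h5 + h6
      have ha0 : a = 0 := by
        by_contra hne'
        have h7 : x = algebraMap K A (-(a⁻¹ * b)) := by
          rw [← inv_smul_smul₀ hne' x, eq_neg_of_add_eq_zero_left h4, smul_neg, smul_smul,
            Algebra.algebraMap_eq_smul_one, neg_smul]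
        exact hxy (by rw [h7]; exact (Algebra.commutes _ y).symm)
      have hb0 : b = 0 := by
        rw [ha0, zero_smul, zero_add, smul_eq_zero] at h4
        exact h4.resolve_right one_ne_zero
      have h8 : x ^ 3 = algebraMap K A c := by
        have := sub_eq_zero.1 (show x * x * x - c • (1 : A) = 0 by
          simpa [Groth.Agent.BddFin.Cub, ha0, hb0] using hx)
        rw [Algebra.algebraMap_eq_smul_one, ← this, pow_succ, pow_two]
      exact hxy (Groth.Agent.BddFin.commute_of_isSeparable_of_pow 3 (hall x)
        (by rw [h8]; exact (Algebra.commutes c y).symm))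
    · have hrne : r ≠ AdjoinRoot.root (minpoly K x) := fun h =>
        hrr (by rw [← hr, h, Groth.Agent.BddFin.evalHom_root])
      have hr0 : ((minpoly K x).map (algebraMap K (AdjoinRoot (minpoly K x)))).eval r = 0 := by
        refine Groth.Agent.BddFin.evalHom_injective x ?_
        rw [Polynomial.eval_map_algebraMap, map_zero, ← Polynomial.aeval_algHom_apply, hr, hcoeff]
        exact hx2
      obtain ⟨q, hq⟩ := Polynomial.dvd_iff_isRoot.2 hroot
      rw [hq] at hr0 ⊢
      refine (Polynomial.Splits.X_sub_C _).mul (Polynomial.Splits.of_natDegree_eq_two ?_ (x := r) ?_)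
      · have := congrArg Polynomial.natDegree hq
        rw [Polynomial.natDegree_map, hdeg] at this
        have hq0 : q ≠ 0 := fun h => by simp [h] at this
        rw [Polynomial.natDegree_mul (Polynomial.X_sub_C_ne_zero _) hq0, Polynomial.natDegree_X_sub_C] at this
        omega
      · rw [Polynomial.eval_mul, mul_eq_zero] at hr0
        refine hr0.resolve_left ?_
        simpa [sub_eq_zero] using hrne
  · exfalso
    set u := x * x2 - x2 * x with hu
    have hu0 : u ≠ 0 := sub_ne_zero.2 hcomm
    set x3 := a • (1 : A) - x - x2 with hx3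
    have h23 : Groth.Agent.BddFin.Rel a b x2 x3 := Groth.Agent.BddFin.rel_next h12
    have h31 : Groth.Agent.BddFin.Rel a b x3 x := by
      have := Groth.Agent.BddFin.rel_next h23
      rwa [show a • (1 : A) - x2 - x3 = x by rw [hx3]; abel] at this
    have hx3c := Groth.Agent.BddFin.cub_of_rel hx2 h23
    have e1 := Groth.Agent.BddFin.comm_rel hx h12
    have e2 := Groth.Agent.BddFin.comm_rel hx2 h23
    have e3 := Groth.Agent.BddFin.comm_rel hx3c h31
    have u2 : x2 * x3 - x3 * x2 = u := by
      simp only [hx3, hu, mul_sub, sub_mul, mul_smul_comm, smul_mul_assoc, mul_one, one_mul]; abel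
    have u3 : x3 * x - x * x3 = u := by
      simp only [hx3, hu, mul_sub, sub_mul, mul_smul_comm, smul_mul_assoc, mul_one, one_mul]; abel
    rw [← hu] at e1; rw [u2] at e2; rw [u3] at e3
    have hcube : x * u ^ 3 = u ^ 3 * x := by
      rw [pow_succ, pow_two]
      calc x * (u * u * u) = (x * u) * u * u := by simp only [mul_assoc]
        _ = u * (x3 * u) * u := by rw [← e3]; simp only [mul_assoc]
        _ = u * u * (x2 * u) := by rw [← e2]; simp only [mul_assoc]
        _ = u * u * u * x := by rw [← e1]; simp only [mul_assoc]
    have := Groth.Agent.BddFin.commute_of_isSeparable_of_pow 3 (hall u) hcube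
    rw [e1] at this
    exact hcomm (by rw [mul_right_cancel₀ hu0 this])

end Groth.Agent.S15184
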