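import Groth.Statements.S7190
import Groth.Agent.S7198
import Groth.Agent.PhGlue.Basic

set_option autoImplicit false
universe w u
open FlatMor

namespace Groth.Agent.S7190

open AlgebraicGeometry CategoryTheory Limits in
/-- An fppf covering {T_i → T} of schemes (flat, locally of finite presentation, jointly surjective) is
a ph covering. -/
theorem result {T : Scheme.{u}} (E : PreZeroHypercover.{w} T)
    (hflat : ∀ i, Flat (E.f i)) (hfp : ∀ i, LocallyOfFinitePresentation (E.f i))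
    (hsurj : ∀ t : T, ∃ (i : E.I₀) (x : E.X i), E.f i x = t) : HTop.IsPhCover E := by
  refine ⟨fun i => by haveI := hfp i; infer_instance, fun U => ?_⟩
  have hU : IsAffineOpen (U : T.Opens) := U.2
  let R := Γ(T, (U : T.Opens))
  let c : Spec R ⟶ T := hU.fromSpec
  -- first step: a finite surjective `δ` which locally lands in a finite locally free cover
  obtain ⟨Y, δ, hδ, hδs, hY⟩ := Groth.Agent.PhGlue.exists_glued (R := R)
    (fun {Z} z => ∀ x : Z, ∃ (O : Z.Opens) (T' : Scheme.{u}) (ρ : T' ⟶ O.toScheme) (i : E.I₀) (r : T' ⟶ E.X i),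
      x ∈ O ∧ IsFinite ρ ∧ Surjective ρ ∧ r ≫ E.f i = ρ ≫ O.ι ≫ z ≫ c)
    (by
      intro Z' Z k z hz x
      obtain ⟨O, T', ρ, i, r, hxO, hρ, hρs, hr⟩ := hz (k x)
      refine ⟨k ⁻¹ᵁ O, pullback (k ∣_ O) ρ, pullback.fst _ _, i, pullback.snd _ _ ≫ r, hxO,
        inferInstance, inferInstance, ?_⟩
      rw [Category.assoc, hr, ← pullback.condition_assoc, morphismRestrict_ι_assoc]
      simp only [Category.assoc])
    (by
      intro s
      obtain ⟨V, W, π, hsV, hπ, hπs, hW⟩ := Groth.Agent.S7198.result E hflat hfp hsurj (c s)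
      obtain ⟨_, ⟨_, ⟨g, rfl⟩, rfl⟩, hsg, hgV⟩ :=
        PrimeSpectrum.isBasis_basic_opens.exists_subset_of_mem_open (show s ∈ c ⁻¹ᵁ V from hsV) (c ⁻¹ᵁ V).2
      let e : Scheme.Opens.toScheme (X := Spec R) (PrimeSpectrum.basicOpen g) ⟶ V.toScheme :=
        (Spec R).homOfLE hgV ≫ (c ∣_ V)
      haveI := hπ.1
      refine ⟨g, pullback e π, pullback.fst e π, hsg, inferInstance, inferInstance, fun x => ?_⟩
      obtain ⟨W', T', ρ, i, r, hw, hρ, hρs, hr⟩ := hW (pullback.snd e π x)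
      haveI := hρ.1
      haveI := hρs
      refine ⟨pullback.snd e π ⁻¹ᵁ W', pullback (pullback.snd e π ∣_ W') ρ, pullback.fst _ _, i,
        pullback.snd _ _ ≫ r, hw, inferInstance, inferInstance, ?_⟩
      rw [Category.assoc, hr, ← pullback.condition_assoc, morphismRestrict_ι_assoc,
        ← pullback.condition_assoc]
      simp only [e, Category.assoc, morphismRestrict_ι, Scheme.homOfLE_ι_assoc])
  haveI := hδ
  haveI : IsAffine Y := isAffine_of_isAffineHom δ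
  let d : Spec Γ(Y, ⊤) ⟶ T := Y.isoSpec.inv ≫ δ ≫ c
  -- second step
  obtain ⟨Y', δ', hδ', hδs', hY'⟩ := Groth.Agent.PhGlue.exists_glued (R := Γ(Y, ⊤))
    (fun {Z} z => ∃ (i : E.I₀) (r : Z ⟶ E.X i), r ≫ E.f i = z ≫ d)
    (by
      intro Z' Z k z ⟨i, r, hr⟩
      exact ⟨i, k ≫ r, by rw [Category.assoc, hr, Category.assoc]⟩)
    (by
      intro s
      obtain ⟨O, hyO, hO⟩ := hY (Y.isoSpec.inv s)
      obtain ⟨O', T', ρ, i, r, hyO', hρ, hρs, hr⟩ := hO ⟨Y.isoSpec.inv s, hyO⟩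
      let O₁ : (Spec Γ(Y, ⊤)).Opens := Y.isoSpec.inv ⁻¹ᵁ (O.ι ''ᵁ O')
      obtain ⟨_, ⟨_, ⟨g, rfl⟩, rfl⟩, hsg, hgV⟩ :=
        PrimeSpectrum.isBasis_basic_opens.exists_subset_of_mem_open
          (show s ∈ O₁ from ⟨⟨Y.isoSpec.inv s, hyO⟩, hyO', rfl⟩) O₁.2
      have hgV' : (show (Spec Γ(Y, ⊤)).Opens from PrimeSpectrum.basicOpen g) ≤ O₁ := hgV
      let e : Scheme.Opens.toScheme (X := Spec Γ(Y, ⊤)) (PrimeSpectrum.basicOpen g) ⟶ O'.toScheme :=
        (Spec Γ(Y, ⊤)).homOfLE hgV' ≫ (Y.isoSpec.inv ∣_ (O.ι ''ᵁ O')) ≫ (O.ι.isoImage O').inv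
      have he : e ≫ O'.ι ≫ O.ι =
          Scheme.Opens.ι (X := Spec Γ(Y, ⊤)) (PrimeSpectrum.basicOpen g) ≫ Y.isoSpec.inv := by
        simp only [e, Category.assoc, Scheme.Hom.isoImage_inv_ι, morphismRestrict_ι]
        exact Scheme.homOfLE_ι_assoc (Spec Γ(Y, ⊤)) hgV' Y.isoSpec.inv
      refine ⟨g, pullback e ρ, pullback.fst e ρ, hsg, inferInstance, inferInstance, i,
        pullback.snd e ρ ≫ r, ?_⟩
      rw [Category.assoc, hr, ← pullback.condition_assoc]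
      simp only [d, Category.assoc]
      rw [reassoc_of% he])
  haveI := hδ'
  haveI := hδs'
  haveI := hδs
  haveI : IsAffine Y' := isAffine_of_isAffineHom δ'
  -- affine opens of `Y'` lifting to the covering
  have hpt : ∀ y : Y', ∃ (A : Y'.Opens) (i : E.I₀) (r : A.toScheme ⟶ E.X i), y ∈ A ∧ IsAffineOpen A ∧
      r ≫ E.f i = A.ι ≫ δ' ≫ d := by
    intro y
    obtain ⟨O, hyO, i, r, hr⟩ := hY' y
    obtain ⟨A, hA, hyA, hAO⟩ := exists_isAffineOpen_mem_and_subset hyO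
    refine ⟨A, i, Y'.homOfLE hAO ≫ r, hyA, hA, ?_⟩
    rw [Category.assoc, hr, Category.assoc, Scheme.homOfLE_ι_assoc]
  choose A idx r hyA hA hr using hpt
  obtain ⟨t, ht⟩ := CompactSpace.elim_nhds_subcover (fun y : Y' => (A y : Set Y'))
    (fun y => (A y).2.mem_nhds (hyA y))
  let q : Fin t.card → Y' := fun k => (t.equivFin.symm k).1
  let f : Y' ⟶ (U : T.Opens).toScheme := δ' ≫ Y.isoSpec.inv ≫ δ ≫ hU.isoSpec.inv
  let F : PreZeroHypercover.{0} ((U : T.Opens).toScheme) :=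
    { I₀ := Fin t.card
      X := fun k => (A (q k)).toScheme
      f := fun k => (A (q k)).ι ≫ f }
  refine ⟨F, ⟨hU, inferInstanceAs (Finite (Fin t.card)), fun k => hA (q k),
    ⟨Y', f, fun k => (A (q k)).ι, inferInstance, inferInstance, fun k => inferInstance, fun k => rfl, ?_⟩⟩,
    fun k => ⟨idx (q k), r (q k), ?_⟩⟩
  · intro x
    obtain ⟨y, hy, hxy⟩ := Set.mem_iUnion₂.mp (ht.ge (Set.mem_univ x))
    refine ⟨t.equivFin ⟨y, hy⟩, ?_⟩
    have hq : q (t.equivFin ⟨y, hy⟩) = y := congrArg Subtype.val (t.equivFin.symm_apply_apply _)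
    exact ⟨⟨x, hq.symm ▸ hxy⟩, rfl⟩
  · rw [hr]
    simp [F, f, d, c, IsAffineOpen.isoSpec_inv_ι]

end Groth.Agent.S7190
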