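import Groth.Statements.S10514
import Groth.Agent.S7190
import Groth.Agent.AlgSpLib.Covers

set_option autoImplicit false
universe u
open CategoryTheory CategoryTheory.Limits AlgebraicGeometry
open AlgSp

namespace Groth.Agent.S10514

/-- An fppf covering of an algebraic space `X` over `S` by algebraic spaces is a ph covering of `X`: its
members are locally of finite type and every morphism from an affine scheme `Z` to `X` admits a
standard ph covering of `Z` whose members lift through members of the family. -/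
theorem result {S : Scheme.{u}} (X : AlgSp.Space S) {ι : Type u}
    (Xi : ι → AlgSp.Space S) (g : ∀ i, Xi i ⟶ X)
    (h : AlgSp.IsFppfCover (fun i => (Xi i).obj) (fun i => (g i).hom)) :
    AlgSp.IsPhCover (fun i => (Xi i).obj) (fun i => (g i).hom) := by
  refine ⟨fun i U V a b k ha hb hk => ?_, fun Z hZ t => ?_⟩
  · haveI := (h.1 i).2 a b k ha hb hk
    infer_instance
  obtain ⟨A, fA, c, h1, h2, h3, hl⟩ := Groth.Agent.AlgSpLib.exists_fppf_pieces X.property (fun i => (Xi i).property) h t
  let E : PreZeroHypercover.{u} Z.left :=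
    { I₀ := ι, X := A, f := fun i => Sigma.ι A i ≫ c.left }
  haveI := hZ
  obtain ⟨-, hE⟩ := Groth.Agent.S7190.result E (fun i => MorphismProperty.comp_mem @Flat _ _ inferInstance h1)
    (fun i => MorphismProperty.comp_mem @LocallyOfFinitePresentation _ _ inferInstance h3) (fun y => by
      obtain ⟨w, hw⟩ := c.left.surjective y
      obtain ⟨i, a, rfl⟩ : ∃ i a, Sigma.ι A i a = w := (sigmaOpenCover A).exists_eq w
      exact ⟨i, a, hw⟩)
  obtain ⟨F, hF, href⟩ := hE ⟨⊤, isAffineOpen_top Z.left⟩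
  obtain ⟨hFa, hFi, hFX, U, f, e, hf, hfs, he, hef, hcov⟩ := hF
  let F' : PreZeroHypercover.{0} Z.left :=
    { I₀ := F.I₀, X := F.X, f := fun j => F.f j ≫ (⊤ : Z.left.Opens).ι }
  haveI : IsIso (⊤ : Z.left.Opens).ι := by rw [← Scheme.topIso_hom]; infer_instance
  refine ⟨F', ⟨hZ, hFi, hFX, U, f ≫ (⊤ : Z.left.Opens).ι, e, inferInstance, inferInstance, he,
    fun j => by rw [← Category.assoc, hef j], hcov⟩, fun j => ?_⟩
  obtain ⟨i, k, hk⟩ := href j
  obtain ⟨l, hl⟩ := hl i
  have hw : (k ≫ fA i) = (F'.f j ≫ Z.hom) := by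
    have : Sigma.ι A i ≫ c.left ≫ Z.hom = fA i := by rw [Over.w c]; exact Sigma.ι_desc fA i
    have h4 : (k ≫ (Sigma.ι A i ≫ c.left)) ≫ Z.hom = F'.f j ≫ Z.hom :=
      congrArg (fun q => q ≫ Z.hom) hk
    rw [← this]
    simpa only [Category.assoc] using h4
  refine ⟨i, (AlgSp.yon S).map (Over.homMk k hw : Over.mk (F'.f j ≫ Z.hom) ⟶ Over.mk (fA i)) ≫ l, ?_⟩
  refine (Category.assoc _ _ _).trans ((congrArg _ hl).trans ?_)
  refine (Category.assoc _ _ _).symm.trans (congrArg (· ≫ t) ?_)
  rw [← Functor.map_comp]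
  congr 1
  ext1
  exact hk

end Groth.Agent.S10514
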