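import Groth.Statements.S10964
import Groth.Agent.LocGen.Basic

set_option autoImplicit false
universe u
open CategoryTheory AlgebraicGeometry TopologicalSpace Opposite
open PicF
open Groth.Agent.QC (res resO res_res res_smul resO_resO)

set_option backward.isDefEq.respectTransparency false
set_option backward.isDefEq.respectTransparency.types false

namespace Groth.Agent.S10964

/-- Let X be a scheme with an open cover (U_i)_{i ∈ ι}. Let L and L' be O_X-modules with sections s_i of
L and s'_i of L' over U_i that generate there (for every open V ⊆ U_i, r ↦ r · s_i|_V is a bijection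
from functions on V onto sections of L over V, and likewise for s'_i), and let η_ij, η'_ij be the
functions on U_i ∩ U_j with s_i = η_ij · s_j and s'_i = η'_ij · s'_j there. Then L and L' are
isomorphic as O_X-modules if and only if there is a family of units u_i of the rings of functions on
the U_i with η'_ij · u_i|_{U_i ∩ U_j} = u_j|_{U_i ∩ U_j} · η_ij for all i, j. (So two invertible
modules trivialised by the cover are isomorphic exactly when their transition cocycles define the
same Čech cohomology class.) -/
theorem result (X : Scheme.{u}) {ι : Type u} (U : ι → X.Opens)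
    (hU : iSup U = ⊤) (L L' : X.Modules) (s : ∀ i : ι, Γ(L, U i)) (s' : ∀ i : ι, Γ(L', U i))
    (hs : ∀ (i : ι) (V : X.Opens) (h : V ≤ U i),
        Function.Bijective (fun r : Γ(X, V) => r • L.presheaf.map (homOfLE h).op (s i)))
    (hs' : ∀ (i : ι) (V : X.Opens) (h : V ≤ U i),
        Function.Bijective (fun r : Γ(X, V) => r • L'.presheaf.map (homOfLE h).op (s' i)))
    (η η' : ∀ i j : ι, Γ(X, U i ⊓ U j))
    (hη : ∀ i j : ι, L.presheaf.map (homOfLE (inf_le_left : U i ⊓ U j ≤ U i)).op (s i) =
        η i j • L.presheaf.map (homOfLE (inf_le_right : U i ⊓ U j ≤ U j)).op (s j))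
    (hη' : ∀ i j : ι, L'.presheaf.map (homOfLE (inf_le_left : U i ⊓ U j ≤ U i)).op (s' i) =
        η' i j • L'.presheaf.map (homOfLE (inf_le_right : U i ⊓ U j ≤ U j)).op (s' j)) :
    Nonempty (L ≅ L') ↔ ∃ u : ∀ i : ι, (Γ(X, U i))ˣ, ∀ i j : ι,
      η' i j * X.presheaf.map (homOfLE (inf_le_left : U i ⊓ U j ≤ U i)).op (u i : Γ(X, U i)) =
        X.presheaf.map (homOfLE (inf_le_right : U i ⊓ U j ≤ U j)).op (u j : Γ(X, U j)) * η i j := by
  have bij : ∀ (i : ι) (V : X.Opens) (h : V ≤ U i),
      Function.Bijective (fun r : Γ(X, V) => r • res L h (s i)) := hs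
  have bij' : ∀ (i : ι) (V : X.Opens) (h : V ≤ U i),
      Function.Bijective (fun r : Γ(X, V) => r • res L' h (s' i)) := hs'
  constructor
  · rintro ⟨φ⟩
    have ha : ∀ i, ∃ a : Γ(X, U i), φ.hom.app (U i) (s i) = a • s' i := fun i => by
      obtain ⟨a, ha⟩ := (bij' i (U i) le_rfl).2 (φ.hom.app (U i) (s i))
      exact ⟨a, ha.symm.trans (congrArg (a • ·) (Groth.Agent.QC.res_self _ _ _))⟩
    have hb : ∀ i, ∃ b : Γ(X, U i), φ.inv.app (U i) (s' i) = b • s i := fun i => by
      obtain ⟨b, hb⟩ := (bij i (U i) le_rfl).2 (φ.inv.app (U i) (s' i))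
      exact ⟨b, hb.symm.trans (congrArg (b • ·) (Groth.Agent.QC.res_self _ _ _))⟩
    choose a ha using ha
    choose b hb using hb
    have hab : ∀ i, a i * b i = 1 := fun i => by
      refine (bij i (U i) le_rfl).1 ?_
      have e : φ.inv.app (U i) (φ.hom.app (U i) (s i)) = s i := by
        rw [← ConcreteCategory.comp_apply, ← Scheme.Modules.Hom.comp_app, φ.hom_inv_id]
        rfl
      rw [ha i, Scheme.Modules.Hom.app_smul, hb i, smul_smul] at e
      simpa only [Groth.Agent.QC.res_self, one_smul] using e
    refine ⟨fun i => ⟨a i, b i, hab i, (mul_comm _ _).trans (hab i)⟩, fun i j => ?_⟩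
    have hh := hη i j
    have hh' := hη' i j
    change res L inf_le_left (s i) = η i j • res L inf_le_right (s j) at hh
    change res L' inf_le_left (s' i) = η' i j • res L' inf_le_right (s' j) at hh'
    have e := congrArg (φ.hom.app (U i ⊓ U j)) hh
    rw [Scheme.Modules.Hom.app_smul, ← Groth.Agent.QC.app_res, ← Groth.Agent.QC.app_res, ha i, ha j,
      res_smul, res_smul, hh', smul_smul, smul_smul] at e
    refine (bij' j _ inf_le_right).1 ?_
    rw [mul_comm (η' i j), mul_comm _ (η i j)]
    exact e
  · rintro ⟨w, hw⟩
    have hc : ∀ i j, ∃ c : Γ(X, U i ⊓ U j),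
        res L (inf_le_right : U i ⊓ U j ≤ U j) (s j) = c • res L (inf_le_left : U i ⊓ U j ≤ U i) (s i) ∧
        res L' (inf_le_right : U i ⊓ U j ≤ U j) ((w j : Γ(X, U j)) • s' j) =
          c • res L' (inf_le_left : U i ⊓ U j ≤ U i) ((w i : Γ(X, U i)) • s' i) := by
      intro i j
      have h : U i ⊓ U j ≤ U j ⊓ U i := le_of_eq (inf_comm _ _)
      refine ⟨resO X h (η j i), ?_, ?_⟩
      · have := congrArg (res L h) (hη j i)
        change res L h (res L inf_le_left (s j)) = res L h (η j i • res L inf_le_right (s i)) at this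
        simpa only [res_smul, res_res] using this
      · have hh := congrArg (res L' h) (hη' j i)
        change res L' h (res L' inf_le_left (s' j)) = res L' h (η' j i • res L' inf_le_right (s' i)) at hh
        have hw' := congrArg (resO X h) (hw j i)
        change resO X h (η' j i * resO X inf_le_left (w j : Γ(X, U j))) =
          resO X h (resO X inf_le_right (w i : Γ(X, U i)) * η j i) at hw'
        simp only [res_smul, res_res] at hh ⊢
        simp only [map_mul, resO_resO] at hw'
        rw [hh, smul_smul, smul_smul, mul_comm, hw', mul_comm]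
    let P : TMul.LocGenPair L L' ι :=
      { U := U
        cover := fun x => Opens.mem_iSup.mp (hU ▸ trivial)
        e := s
        f := fun i => (w i : Γ(X, U i)) • s' i
        he := hs
        hf := fun i V hV => by
          have hu : IsUnit (resO X hV (w i : Γ(X, U i))) := (w i).isUnit.map _
          have e : (fun r : Γ(X, V) => r • res L' hV ((w i : Γ(X, U i)) • s' i)) =
              (fun r : Γ(X, V) => r • res L' hV (s' i)) ∘ (fun r => r * resO X hV (w i : Γ(X, U i))) := by
            funext r; simp [res_smul, smul_smul]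
          change Function.Bijective (fun r : Γ(X, V) => r • res L' hV ((w i : Γ(X, U i)) • s' i))
          rw [e]
          exact (bij' i V hV).comp hu.unit.mulRight.bijective
        hc := hc }
    exact ⟨P.iso⟩

end Groth.Agent.S10964
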