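import Groth.Statements.S7485
import Groth.Agent.SchDescent.FiniteFlat
import Mathlib.AlgebraicGeometry.Morphisms.QuasiFinite
import Groth.Agent.TMul.AmpleBasis

set_option autoImplicit false
open CategoryTheory CategoryTheory.Limits AlgebraicGeometry
universe u
open Desc

namespace Groth.Agent.S7485

/-- Let p : X -> Y be a surjective finite locally free morphism and V a scheme over X which has an ample
invertible module. Then every descent datum on V relative to p is effective. (Descent data are taken
in functor-of-points form.) -/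
theorem result {X Y : Scheme.{u}} (p : X ⟶ Y) [Surjective p] [IsFinite p] [Flat p] [LocallyOfFinitePresentation p] (D : Desc.SchDD p) (L : D.obj.left.Modules) (hL : CohB1.IsAmple L) : ∃ W : Over Y, Nonempty ((Desc.toDD p).obj W ≅ D) := by
  refine SchDescent.effective_of_finite_flat fun e ↦ ?_
  let σ := SchDescent.tr D (pullback.fst p (D.obj.hom ≫ p)) (pullback.snd p (D.obj.hom ≫ p))
    (by rw [Category.assoc, pullback.condition])
  have hZ : (σ '' ((pullback.snd p (D.obj.hom ≫ p)) ⁻¹' {e})).Finite :=
    ((pullback.snd p (D.obj.hom ≫ p)).finite_preimage_singleton e).image _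
  obtain ⟨n, t, h1, -, h3⟩ := TMul.exists_finite_le hL hZ (U := ⊤) (fun _ _ ↦ trivial)
  exact ⟨CohB1.genLocus _ t, h3, fun r hr ↦ h1 ⟨r, hr, rfl⟩⟩

end Groth.Agent.S7485
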