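import Groth.Statements.S8848
import Groth.Agent.RelCartier.Basic

set_option autoImplicit false
set_option linter.style.haveILetI false
set_option backward.isDefEq.respectTransparency false
universe u
open CategoryTheory CategoryTheory.Limits AlgebraicGeometry TopologicalSpace
open SDiv

open Groth.Agent

namespace Groth.Agent.S8848

/-- Let φ : X ⟶ S be flat and locally of finite presentation and let 𝓘 be a quasi-coherent ideal sheaf
on X which is locally principal (generated by one section on some affine open neighbourhood of each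
point of its support). If for every point s of S the inverse image ideal of 𝓘 on the
scheme-theoretic fibre X_s is the ideal sheaf of an effective Cartier divisor of X_s, then 𝓘 is the
ideal sheaf of an effective Cartier divisor of X and its closed subscheme is flat over S (a relative
effective Cartier divisor). -/
theorem result {X S : Scheme.{u}} (φ : X ⟶ S) [Flat φ] [LocallyOfFinitePresentation φ]
    (𝓘 : X.IdealSheafData) (hZ : Curv2.IsLocPrincipal 𝓘)
    (hfib : ∀ s : ↥S, BlowUp.IsEffCartierIdeal (𝓘.comap (φ.fiberι s))) :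
    BlowUp.IsEffCartierIdeal 𝓘 ∧ Flat (𝓘.subschemeι ≫ φ) := by
  have hch : ∀ x : X, ∃ (V : S.Opens) (_ : IsAffineOpen V) (U : X.affineOpens) (_ : x ∈ U.1) (e : U.1 ≤ φ ⁻¹ᵁ V)
      (g : Γ(X, U.1)), g ∈ nonZeroDivisors Γ(X, U.1) ∧ 𝓘.ideal U = Ideal.span {g} ∧
        letI : Algebra Γ(S, V) Γ(X, U.1) := (φ.appLE V U.1 e).hom.toAlgebra
        Module.Flat Γ(S, V) (Γ(X, U.1) ⧸ Ideal.span {g}) := by
    intro x
    obtain ⟨W, hxW, a, hW⟩ : ∃ W : X.affineOpens, x ∈ W.1 ∧ ∃ a : Γ(X, W.1), 𝓘.ideal W = Ideal.span {a} := by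
      by_cases hx : x ∈ 𝓘.support
      · exact hZ x hx
      · obtain ⟨O, hO, hxO, hOc⟩ := exists_isAffineOpen_mem_and_subset (X := X) (x := x) (U := 𝓘.support.compl) hx
        refine ⟨⟨O, hO⟩, hxO, 1, ?_⟩
        rw [Ideal.span_singleton_one, ← PrimeSpectrum.zeroLocus_empty_iff_eq_top]
        refine Set.eq_empty_of_forall_notMem fun q hq => ?_
        have h1 : hO.fromSpec q ∈ (𝓘.support : Set X) ∩ O := by
          rw [Scheme.IdealSheafData.coe_support_inter (U := ⟨O, hO⟩), ← hO.fromSpec_image_zeroLocus]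
          exact ⟨q, hq, rfl⟩
        exact hOc h1.2 h1.1
    obtain ⟨c', hc', hspan⟩ := RelCartier.exists_fibre_generator φ 𝓘 hfib hxW
    have hst : RelCartier.stI 𝓘 hxW = Ideal.span {(X.presheaf.germ W.1 x hxW).hom a} := by
      rw [RelCartier.stI, hW, Ideal.map_span, Set.image_singleton]
    rw [hst, Ideal.map_span, Set.image_singleton] at hspan
    exact RelCartier.exists_chart φ 𝓘 (hW ▸ Submodule.fg_span_singleton a) hxW _ hst
      (RelCartier.isSMulRegular_of_span_eq hc' hspan)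
  refine ⟨fun x => ?_, ?_⟩
  · obtain ⟨V, -, U, hxU, -, g, hg, hU, -⟩ := hch x
    exact ⟨U, hxU, g, hg, hU⟩
  · rw [HasRingHomProperty.iff_exists_appLE (P := @Flat) (fun R S' T _ _ _ _ r _ f hf =>
      RingHom.Flat.comp (RingHom.flat_algebraMap_iff.2 (IsLocalization.flat S' (Submonoid.powers r))) hf)]
    intro z
    obtain ⟨V, hV, U, hxU, e, g, -, hU, hflat⟩ := hch (𝓘.subschemeι z)
    have hle : 𝓘.subschemeι ⁻¹ᵁ U.1 ≤ (𝓘.subschemeι ≫ φ) ⁻¹ᵁ V := fun y hy => e hy
    refine ⟨⟨V, hV⟩, ⟨𝓘.subschemeι ⁻¹ᵁ U.1, U.2.preimage _⟩, hxU, hle, ?_⟩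
    letI : Algebra Γ(S, V) Γ(X, U.1) := (φ.appLE V U.1 e).hom.toAlgebra
    letI : Algebra Γ(S, V) Γ(𝓘.subscheme, 𝓘.subschemeι ⁻¹ᵁ U.1) :=
      ((𝓘.subschemeι ≫ φ).appLE V (𝓘.subschemeι ⁻¹ᵁ U.1) hle).hom.toAlgebra
    have hcomm : ∀ s : Γ(S, V), (𝓘.subschemeι.app U.1).hom (algebraMap Γ(S, V) Γ(X, U.1) s) =
        algebraMap Γ(S, V) Γ(𝓘.subscheme, 𝓘.subschemeι ⁻¹ᵁ U.1) s := fun s => by
      change (φ.appLE V U.1 e ≫ 𝓘.subschemeι.app U.1) s = _
      rw [Scheme.Hom.app_eq_appLE, Scheme.Hom.appLE_comp_appLE]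
      rfl
    let π : Γ(X, U.1) →ₐ[Γ(S, V)] Γ(𝓘.subscheme, 𝓘.subschemeι ⁻¹ᵁ U.1) :=
      { (𝓘.subschemeι.app U.1).hom with commutes' := hcomm }
    have hker : Ideal.span {g} = RingHom.ker π.toRingHom :=
      hU.symm.trans (Scheme.IdealSheafData.ker_subschemeι_app (I := 𝓘) U).symm
    change Module.Flat Γ(S, V) Γ(𝓘.subscheme, 𝓘.subschemeι ⁻¹ᵁ U.1)
    haveI := hflat
    exact Module.Flat.of_linearEquiv ((Ideal.quotientEquivAlgOfEq Γ(S, V) hker).trans
      (Ideal.quotientKerAlgEquivOfSurjective (f := π) (Scheme.IdealSheafData.subschemeι_app_surjective (I := 𝓘) U))).toLinearEquiv.symm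

end Groth.Agent.S8848
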