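import Groth.Statements.S4963
import Groth.Agent.GeomRedAt.Open
import Groth.Agent.S0386

set_option autoImplicit false
open CategoryTheory AlgebraicGeometry
universe u v w
open EGA43

namespace Groth.Agent.S4963

/-- Let f : X ⟶ Y be a morphism locally of finite presentation. The set of points x of X such that f is
flat at x and the fibre of f through x is geometrically reduced at x over the residue field of f x
(f is a reduced morphism at x) is open in X. -/
theorem result {X Y : Scheme.{u}} (f : X ⟶ Y)
    [LocallyOfFinitePresentation f] :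
    IsOpen {x : X | (f.stalkMap x).hom.Flat ∧ FBase.IsGeomReducedAt (f.fiberToSpecResidueField (f.base x)) (f.asFiber x)} := by
  simp only [GeomRedAt.isGeomReducedAt_iff]
  let U : X.Opens := ⟨_, S0386.result f⟩
  have : Flat (U.ι ≫ f) := Flat.of_stalkMap _ fun u ↦ by
    rw [Scheme.Hom.stalkMap_comp]
    exact RingHom.Flat.comp (f := (f.stalkMap (U.ι u)).hom) (g := (U.ι.stalkMap u).hom) u.2 (Flat.stalkMap U.ι u)
  have h := U.ι.isOpenEmbedding.isOpenMap _ (GeomRedAt.isOpen_setOf_gr (U.ι ≫ f))
  convert h using 1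
  ext x
  constructor
  · rintro ⟨hx, hgr⟩
    exact ⟨⟨x, hx⟩, (GeomRedAt.gr_source_iff f U.ι ⟨x, hx⟩).mpr hgr, rfl⟩
  · rintro ⟨u, hu, rfl⟩
    exact ⟨u.2, (GeomRedAt.gr_source_iff f U.ι u).mp hu⟩

end Groth.Agent.S4963
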