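import Mathlib.RingTheory.PicardGroup
import Mathlib.RingTheory.Polynomial.Content
import Mathlib.RingTheory.Valuation.ValuationRing
import Mathlib.RingTheory.PrincipalIdealDomain
import Mathlib.Algebra.MvPolynomial.Equiv
import Mathlib.Algebra.MvPolynomial.NoZeroDivisors

/-! Picard group of polynomial rings over products of GCD domains. -/

set_option autoImplicit false
universe u

open MvPolynomial TensorProduct

noncomputable section

namespace Groth.Agent.PicPolyProd

theorem isGCDMonoid_mulEquiv {R S : Type*} [CommMonoidWithZero R] [CommMonoidWithZero S] (e : R ≃* S)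
    [h : IsGCDMonoid R] : IsGCDMonoid S := by
  classical
  rw [isGCDMonoid_iff_exists_gcd] at h ⊢
  refine ⟨?_, fun a b => ?_⟩
  · have := h.1
    exact Function.Injective.isCancelMulZero (f := (e.symm : S → R)) e.symm.injective (map_zero e.symm) (fun x y => map_mul e.symm x y)
  · obtain ⟨c, hc⟩ := h.2 (e.symm a) (e.symm b)
    refine ⟨e c, fun d => ?_⟩
    rw [← map_dvd_iff e.symm, ← map_dvd_iff e.symm (a := d) (b := b), ← map_dvd_iff e.symm (a := d) (b := e c),
      MulEquiv.symm_apply_apply]
    exact hc _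

theorem isGCDMonoid_mvPolynomial (R : Type*) [CommRing R] [IsDomain R] [IsGCDMonoid R] (n : ℕ) :
    IsGCDMonoid (MvPolynomial (Fin n) R) := by
  induction n with
  | zero => exact isGCDMonoid_mulEquiv (MvPolynomial.isEmptyAlgEquiv R (Fin 0)).toMulEquiv.symm
  | succ n ih => exact isGCDMonoid_mulEquiv (MvPolynomial.finSuccEquiv R n).toMulEquiv.symm

variable {ι : Type u} {R : ι → Type u} [∀ i, CommRing (R i)] [∀ i, IsDomain (R i)] [∀ i, IsGCDMonoid (R i)]

/-- the exponent vectors bounded by `D` -/
def expVec {n D : ℕ} (f : Fin n → Fin (D + 1)) : Fin n →₀ ℕ := Finsupp.equivFunOnFinite.symm fun j => (f j : ℕ)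

theorem expVec_injective {n D : ℕ} : Function.Injective (expVec (n := n) (D := D)) := fun f g h =>
  funext fun j => Fin.ext (congrArg (fun m : Fin n →₀ ℕ => m j) h)

/-- glue a family of polynomials of bounded degree -/
def glue {n : ℕ} (D : ℕ) (p : ∀ i, MvPolynomial (Fin n) (R i)) : MvPolynomial (Fin n) (∀ i, R i) :=
  ∑ f : Fin n → Fin (D + 1), monomial (expVec f) fun i => coeff (expVec f) (p i)

omit [∀ i, IsDomain (R i)] [∀ i, IsGCDMonoid (R i)] in
theorem map_glue {n : ℕ} (D : ℕ) (p : ∀ i, MvPolynomial (Fin n) (R i)) (i : ι)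
    (hD : (p i).totalDegree ≤ D) : MvPolynomial.map (Pi.evalRingHom R i) (glue D p) = p i := by
  classical
  rw [glue, map_sum]
  simp only [MvPolynomial.map_monomial, Pi.evalRingHom_apply]
  refine MvPolynomial.ext _ _ fun m => ?_
  rw [coeff_sum]
  simp only [coeff_monomial]
  by_cases hm : ∀ j, m j ≤ D
  · rw [Finset.sum_eq_single (fun j => (⟨m j, Nat.lt_succ_of_le (hm j)⟩ : Fin (D + 1)))]
    · have he : expVec (fun j => (⟨m j, Nat.lt_succ_of_le (hm j)⟩ : Fin (D + 1))) = m := Finsupp.ext fun j => rfl
      rw [if_pos he, he]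
    · intro f _ hf
      rw [if_neg]
      rintro rfl
      exact hf (funext fun j => Fin.ext rfl)
    · simp
  · push Not at hm
    obtain ⟨j, hj⟩ := hm
    rw [Finset.sum_eq_zero fun f _ => if_neg fun e => ?_]
    · symm
      by_contra hc
      have h1 : m.sum (fun _ e => e) ≤ D := (le_totalDegree (MvPolynomial.mem_support_iff.2 hc)).trans hD
      have h2 : m j ≤ m.sum (fun _ e => e) := by
        by_cases h0 : m j = 0
        · omega
        · exact Finset.single_le_sum (f := fun j => m j) (fun _ _ => Nat.zero_le _) (Finsupp.mem_support_iff.2 h0)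
      omega
    · subst e
      exact absurd hj (not_lt.2 (Nat.lt_succ_iff.1 (f j).2))

theorem subsingleton_pic (n : ℕ) : Subsingleton (CommRing.Pic (MvPolynomial (Fin n) (∀ i, R i))) := by
  classical
  rw [CommRing.Pic.subsingleton_iff]
  intro P _ _ hP
  let A := MvPolynomial (Fin n) (∀ i, R i)
  obtain ⟨N, π, hπ⟩ := Module.Finite.exists_fin' A P
  obtain ⟨s, hs⟩ := Module.projective_lifting_property π LinearMap.id hπ
  have hπs : ∀ p, π (s p) = p := fun p => LinearMap.congr_fun hs p
  let ev : Fin N → Fin N → A := fun j => Pi.single j 1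
  have hsum : ∀ y : Fin N → A, y = ∑ b, y b • ev b := fun y => pi_eq_sum_univ' y
  let e : Fin N → Fin N → A := fun a b => s (π (ev b)) a
  let D : ℕ := Finset.univ.sup fun ab : Fin N × Fin N => (e ab.1 ab.2).totalDegree
  have key : ∀ i, ∃ v w : Fin N → MvPolynomial (Fin n) (R i),
      (∀ a b, v a * w b = MvPolynomial.map (Pi.evalRingHom R i) (e a b)) ∧ ∑ a, w a * v a = 1 ∧
      (∀ a, (v a).totalDegree ≤ D) ∧ (∀ a, (w a).totalDegree ≤ D) := by
    intro i
    let B := MvPolynomial (Fin n) (R i)
    letI : Algebra A B := (MvPolynomial.map (Pi.evalRingHom R i)).toAlgebra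
    haveI : IsGCDMonoid B := isGCDMonoid_mvPolynomial (R i) n
    haveI : Module.Free B (B ⊗[A] P) := inferInstance
    obtain ⟨θ⟩ := (Module.Invertible.free_iff_linearEquiv (R := B) (M := B ⊗[A] P)).1 inferInstance
    let S : Fin N → (B ⊗[A] P →ₗ[B] B) := fun a =>
      LinearMap.liftBaseChange B ((Algebra.linearMap A B).comp ((LinearMap.proj a).comp s))
    have hS : ∀ a p, S a ((1 : B) ⊗ₜ[A] p) = algebraMap A B (s p a) := fun a p => by
      simp [S, LinearMap.liftBaseChange_tmul]
    let v : Fin N → B := fun a => S a (θ.symm 1)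
    let w : Fin N → B := fun b => θ ((1 : B) ⊗ₜ[A] π (ev b))
    have hvw : ∀ a b, v a * w b = algebraMap A B (e a b) := fun a b => by
      rw [mul_comm, ← smul_eq_mul, ← map_smul, ← map_smul, smul_eq_mul, mul_one, LinearEquiv.symm_apply_apply, hS]
    have hid : ∀ q : B ⊗[A] P, ∑ a, S a q • ((1 : B) ⊗ₜ[A] π (ev a)) = q := by
      intro q
      induction q using TensorProduct.induction_on with
      | zero => simp
      | add x y hx hy => simp only [map_add, add_smul, Finset.sum_add_distrib, hx, hy]
      | tmul b p =>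
        rw [show b ⊗ₜ[A] p = b • ((1 : B) ⊗ₜ[A] p) by rw [TensorProduct.smul_tmul', smul_eq_mul, mul_one]]
        simp only [map_smul, smul_assoc, ← Finset.smul_sum, hS, algebraMap_smul]
        simp only [← TensorProduct.tmul_smul, ← TensorProduct.tmul_sum, ← map_smul, ← map_sum, ← hsum, hπs]
    have h1 : ∑ a, w a * v a = 1 := by
      have h2 := congrArg θ (hid (θ.symm 1))
      rw [map_sum, LinearEquiv.apply_symm_apply] at h2
      simp only [map_smul, smul_eq_mul] at h2
      rw [← h2]
      exact Finset.sum_congr rfl fun a _ => mul_comm _ _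
    obtain ⟨a₀, -, ha₀⟩ : ∃ a ∈ Finset.univ, w a * v a ≠ 0 :=
      Finset.exists_ne_zero_of_sum_ne_zero (by rw [h1]; exact one_ne_zero)
    have hbd : ∀ a b, (algebraMap A B (e a b)).totalDegree ≤ D := fun a b => by
      refine le_trans ?_ (Finset.le_sup (f := fun ab : Fin N × Fin N => (e ab.1 ab.2).totalDegree) (Finset.mem_univ (a, b)))
      refine Finset.sup_mono ?_
      exact MvPolynomial.support_map_subset _ _
    refine ⟨v, w, hvw, h1, fun a => ?_, fun b => ?_⟩
    · by_cases hva : v a = 0
      · simp [hva]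
      · have := hbd a a₀
        rw [← hvw, totalDegree_mul_of_isDomain hva (left_ne_zero_of_mul ha₀)] at this
        omega
    · by_cases hwb : w b = 0
      · simp [hwb]
      · have := hbd a₀ b
        rw [← hvw, totalDegree_mul_of_isDomain (right_ne_zero_of_mul ha₀) hwb] at this
        omega
  choose v w hvw hwv hv hw using key
  let V : Fin N → A := fun a => glue D fun i => v i a
  let W : Fin N → A := fun a => glue D fun i => w i a
  have hV : ∀ a i, MvPolynomial.map (Pi.evalRingHom R i) (V a) = v i a := fun a i => map_glue D _ i (hv i a)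
  have hW : ∀ a i, MvPolynomial.map (Pi.evalRingHom R i) (W a) = w i a := fun a i => map_glue D _ i (hw i a)
  have hext : ∀ p q : A, (∀ i, MvPolynomial.map (Pi.evalRingHom R i) p = MvPolynomial.map (Pi.evalRingHom R i) q) →
      p = q := fun p q h => MvPolynomial.ext _ _ fun m => funext fun i => by
    have := congrArg (coeff m) (h i)
    rwa [coeff_map, coeff_map] at this
  have hVW : ∀ a b, V a * W b = e a b := fun a b => hext _ _ fun i => by rw [map_mul, hV, hW, hvw]
  have hWV : ∑ a, W a * V a = 1 := hext _ _ fun i => by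
    rw [map_sum, map_one]
    simp only [map_mul, hV, hW, hwv]
  -- `s ∘ π` is `y ↦ V * (W · y)`
  have hsπ : ∀ y a, s (π y) a = V a * ∑ b, W b * y b := fun y a => by
    conv_lhs => rw [hsum y]
    simp only [map_sum, map_smul, Finset.sum_apply, Pi.smul_apply, smul_eq_mul]
    rw [Finset.mul_sum]
    refine Finset.sum_congr rfl fun b _ => ?_
    rw [← mul_assoc, hVW, mul_comm]
  let F : A →ₗ[A] P := LinearMap.toSpanSingleton A P (π V)
  let G : P →ₗ[A] A := (∑ b, W b • LinearMap.proj b).comp s
  have hG : ∀ p, G p = ∑ b, W b * s p b := fun p => by simp [G]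
  refine Module.Free.of_equiv (LinearEquiv.ofLinearMap F G ?_ ?_)
  · refine LinearMap.ext fun p => ?_
    show G p • π V = p
    rw [← map_smul, ← hπs p, hπs]
    conv_rhs => rw [← hπs p]
    congr 1
    funext a
    rw [Pi.smul_apply, smul_eq_mul, hG, mul_comm, ← hsπ, hπs]
  · refine LinearMap.ext fun r => ?_
    show G (r • π V) = r
    rw [map_smul, hG, smul_eq_mul]
    simp only [hsπ, hWV, mul_one]

end Groth.Agent.PicPolyProd
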