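import Groth.Statements.S3852
import Groth.Agent.ThickSys.Sys

set_option linter.style.haveILetI false

set_option autoImplicit false
universe u
open FCompl

namespace Groth.Agent.S3852

open AlgebraicGeometry in
/-- Second assertion; stated for quasi-coherent ideal sheaves, with the condition on supports as an
inclusion, which is what the proof uses: Let X be a Noetherian scheme and I, J ideal sheaves such
that the zero locus of J is contained in the zero locus of I. Then I^n ≤ J for some n ≥ 1. -/
theorem result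
    (X : Scheme.{u}) [IsNoetherian X] (I J : X.IdealSheafData)
    (h : (J.support : Set X) ⊆ I.support) :
    ∃ n : ℕ, I ^ (n + 1) ≤ J := by
  classical
  obtain ⟨s, -, hs, hscov⟩ := (isCompact_univ (X := X)).elim_finite_subcover_image (b := Set.univ)
    (c := fun U : X.affineOpens => (U.1 : Set X)) (fun U _ => U.1.2) (fun x _ => by
      obtain ⟨U, hU, hx, -⟩ := exists_isAffineOpen_mem_and_subset (U := (⊤ : X.Opens)) (x := x) trivial
      exact Set.mem_iUnion₂.2 ⟨⟨U, hU⟩, trivial, hx⟩)
  have key : ∀ U : X.affineOpens, ∃ n, I.ideal U ^ n ≤ J.ideal U := fun U => by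
    haveI := IsLocallyNoetherian.component_noetherian U
    refine Ideal.exists_pow_le_of_le_radical_of_fg ?_ (IsNoetherian.noetherian _)
    rw [Ideal.radical_eq_sInf]
    refine le_sInf fun P ⟨hJP, hP⟩ a ha => ?_
    let p : PrimeSpectrum Γ(X, U.1) := ⟨P, hP⟩
    have hpU : U.2.fromSpec p ∈ U.1 := U.2.range_fromSpec.le ⟨p, rfl⟩
    have h1 : U.2.fromSpec p ∈ J.support := by
      rw [Scheme.IdealSheafData.mem_support_iff_of_mem hpU]
      show p ∈ U.2.fromSpec ⁻¹' X.zeroLocus (J.ideal U : Set Γ(X, U.1))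
      rw [U.2.fromSpec_preimage_zeroLocus]
      exact hJP
    have h2 := (Scheme.IdealSheafData.mem_support_iff_of_mem hpU).1 (h h1)
    have h3 : p ∈ U.2.fromSpec ⁻¹' X.zeroLocus (I.ideal U : Set Γ(X, U.1)) := h2
    rw [U.2.fromSpec_preimage_zeroLocus] at h3
    exact h3 ha
  choose n hn using key
  refine ⟨hs.toFinset.sup n, ?_⟩
  refine Scheme.IdealSheafData.le_of_iSup_eq_top (fun U : s => U.1) ?_ fun U => ?_
  · exact eq_top_iff.2 fun x _ => by
      obtain ⟨U, hU, hx⟩ := Set.mem_iUnion₂.1 (hscov (Set.mem_univ x))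
      exact TopologicalSpace.Opens.mem_iSup.2 ⟨⟨U, hU⟩, hx⟩
  · rw [Scheme.IdealSheafData.ideal_pow, Pi.pow_apply]
    exact (Ideal.pow_le_pow_right ((Finset.le_sup (f := n) (hs.mem_toFinset.2 U.2)).trans (Nat.le_succ _))).trans (hn U.1)

end Groth.Agent.S3852
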