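import Groth.Statements.S1152
import Groth.Agent.AmpleDesc.Basic
import Groth.Agent.TMul.RelAmpleOps

set_option autoImplicit false
set_option backward.isDefEq.respectTransparency false
set_option backward.isDefEq.respectTransparency.types false
open CategoryTheory CategoryTheory.Limits AlgebraicGeometry Opposite
universe u
open Desc

namespace Groth.Agent.S1152

/-- Single quasi-compact flat surjective cover; the converse direction is base change: Let f : X ⟶ S be
a morphism, L an invertible O_X-module, g : S' ⟶ S quasi-compact, flat and surjective, X' = X ×_S S'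
with projections to X and S', and L' the pullback of L to X'. If L' is ample on X' relative to S',
then L is ample on X relative to S. -/
theorem result {X S S' : Scheme.{u}} (f : X ⟶ S) (L : X.Modules) (hL : PicF.IsInvertible L)
    (g : S' ⟶ S) [QuasiCompact g] [Flat g] [Surjective g]
    (h : RelAmple.IsRelAmple (pullback.snd f g) ((Scheme.Modules.pullback (pullback.fst f g)).obj L)) :
    RelAmple.IsRelAmple f L := by
  haveI : QuasiCompact (pullback.snd f g) := h.1
  haveI : Surjective (pullback.fst f g) := inferInstance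
  haveI : QuasiCompact f := ⟨fun U hU hUc => by
    have h1 := QuasiCompact.isCompact_preimage (f := pullback.snd f g) _ (g.continuous.isOpen_preimage _ hU)
      (QuasiCompact.isCompact_preimage (f := g) U hU hUc)
    have h2 := h1.image (pullback.fst f g).continuous
    rwa [← Set.preimage_comp, ← TopCat.coe_comp, ← Scheme.Hom.comp_base, ← pullback.condition,
      Scheme.Hom.comp_base, TopCat.coe_comp, Set.preimage_comp,
      Set.image_preimage_eq _ (pullback.fst f g).surjective] at h2⟩
  refine TMul.isRelAmple_of_exists hL fun y => ?_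
  obtain ⟨V, hV, hyV, -⟩ := exists_isAffineOpen_mem_and_subset (x := y) (U := (⊤ : S.Opens)) trivial
  haveI : IsAffine V.toScheme := hV
  refine ⟨V, hyV, ?_⟩
  choose W hW hsW hWV using fun s : g ⁻¹ᵁ V =>
    exists_isAffineOpen_mem_and_subset (X := S') (x := s.1) (U := g ⁻¹ᵁ V) s.2
  obtain ⟨F, hF⟩ := (g.isCompact_preimage hV.isCompact).elim_finite_subcover (fun s => (W s : Set S'))
    (fun s => (W s).2) (fun s hs => Set.mem_iUnion.2 ⟨⟨s, hs⟩, hsW _⟩)
  haveI : ∀ i : F, IsAffine (W i.1).toScheme := fun i => hW i.1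
  let T : Scheme.{u} := ∐ fun i : F => (W i.1).toScheme
  haveI : IsAffine T := inferInstance
  let a : T ⟶ S' := Sigma.desc fun i : F => (W i.1).ι
  let t : T ⟶ V.toScheme := Sigma.desc fun i : F => g.resLE V (W i.1) (hWV i.1)
  have hta : t ≫ V.ι = a ≫ g := Sigma.hom_ext _ _ fun i =>
    by simp only [t, a, Sigma.ι_desc_assoc]; exact Scheme.Hom.resLE_comp_ι _ _
  haveI : Flat t := IsZariskiLocalAtSource.sigmaDesc (P := @Flat) fun i => inferInstance
  haveI : Surjective t := ⟨fun v => by
    obtain ⟨s', hs'⟩ := g.surjective v.1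
    have hm : s' ∈ g ⁻¹ᵁ V := show g.base s' ∈ V by rw [hs']; exact v.2
    obtain ⟨i, hi, hsi⟩ := Set.mem_iUnion₂.1 (hF hm)
    refine ⟨(Sigma.ι (fun i : F => (W i.1).toScheme) ⟨i, hi⟩).base ⟨s', hsi⟩, V.ι.injective ?_⟩
    have e : (Sigma.ι (fun i : F => (W i.1).toScheme) ⟨i, hi⟩ ≫ t) ≫ V.ι = (W i).ι ≫ g := by
      rw [Category.assoc, hta]; exact Sigma.ι_desc_assoc _ _ _
    exact (congrArg (fun k : (W i).toScheme ⟶ S => k.base ⟨s', hsi⟩) e).trans hs'⟩
  let q := pullback.snd f g
  let b : pullback q a ⟶ X := pullback.fst q a ≫ pullback.fst f g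
  have hsq : IsPullback b (pullback.snd q a) f (a ≫ g) :=
    (IsPullback.of_hasPullback q a).paste_horiz (IsPullback.of_hasPullback f g)
  let b' : pullback q a ⟶ (f ⁻¹ᵁ V).toScheme := IsOpenImmersion.lift (f ⁻¹ᵁ V).ι b (by
    rw [Scheme.Opens.range_ι]
    rintro _ ⟨z, rfl⟩
    show (b ≫ f).base z ∈ V
    rw [hsq.w, ← hta, ← Category.assoc, Scheme.Hom.comp_apply]
    exact (((pullback.snd q a ≫ t).base z)).2)
  have hb : b' ≫ (f ⁻¹ᵁ V).ι = b := IsOpenImmersion.lift_fac _ _ _
  have H : IsPullback b' (pullback.snd q a) (f ∣_ V) t := by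
    refine IsPullback.of_right (t := (isPullback_morphismRestrict f V).flip) ?_ ?_
    · rw [hb, hta]; exact hsq
    · rw [← cancel_mono V.ι, Category.assoc, Category.assoc, morphismRestrict_ι, reassoc_of% hb, hta, hsq.w]
  refine Groth.Agent.AmpleDesc.isAmple_of_pullback H (TMul.isInvertible_restrict _ hL) ?_
  refine TMul.isAmple_congr ?_ (TMul.isRelAmple_iff_isAmple.1 (TMul.isRelAmple_baseChange a h))
  exact (Scheme.Modules.pullbackComp _ _).app L ≪≫ (Scheme.Modules.pullbackCongr hb.symm).app L ≪≫
    ((Scheme.Modules.pullbackComp _ _).app L).symm ≪≫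
    (Scheme.Modules.pullback b').mapIso ((Scheme.Modules.restrictFunctorIsoPullback (f ⁻¹ᵁ V).ι).app L).symm

end Groth.Agent.S1152
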