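import Groth.Statements.S14812
import Groth.Agent.Nakai.FlatEuler

set_option autoImplicit false
universe u
open CategoryTheory CategoryTheory.Limits AlgebraicGeometry
open Pic13

set_option backward.isDefEq.respectTransparency false
set_option backward.isDefEq.respectTransparency.types false

namespace Groth.Agent.S14812

/-- Take any field k, a proper k-scheme X and an invertible O_X-module L. Then L is numerically trivial
(degree 0 on every closed subscheme of X which is integral of dimension one) if and only if χ(F ⊗ L)
= χ(F) for every coherent O_X-module F; here χ is the alternating sum of the dimensions dim_k H^i(X,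
·) over 0 ≤ i ≤ d, for any natural number d bounding the dimension of X. The field k is not assumed
algebraically closed. -/
theorem result (k : Type u) [Field k] (X : Scheme.{u})
    [X.Over (Spec (CommRingCat.of k))] [IsProper (X ↘ Spec (CommRingCat.of k))] (L : X.Modules) (hL : PicF.IsInvertible L) :
    Pic13.IsNumEquivZero k X L ↔
      ∀ (F : X.Modules), Coh.IsCoh F → ∀ d : ℕ, topologicalKrullDim X ≤ d →
        FGA.eulerCharLE k X (CohB1.tensorMod F L) d = FGA.eulerCharLE k X F d := by
  have hcoh : ∀ F : X.Modules, Coh.IsCoh F → ∀ d : ℕ, topologicalKrullDim X ≤ d →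
      (FGA.eulerCharLE k X (CohB1.tensorMod F L) d = FGA.eulerCharLE k X F d ↔
        Curv2.euler k X (CohB1.tensorMod F L) = Curv2.euler k X F) := fun F _ d hd => by
    rw [Groth.Agent.Intersect.eulerCharLE_eq k d hd, Groth.Agent.Intersect.eulerCharLE_eq k d hd]
  constructor
  · intro h F hF d hd
    exact (hcoh F hF d hd).2 (Groth.Agent.Nakai.inv_of_degFlat k hL
      (fun G hG hG1 => Groth.Agent.Nakai.D_one_of_numTriv k hL h hG hG1) hF)
  · intro h
    obtain ⟨d, hd⟩ := Groth.Agent.Nakai.exists_dim_bound k (X := X)
    refine Groth.Agent.Nakai.isNumEquivZero_of_degFlat k hL fun G hG _ => ?_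
    rw [Groth.Agent.Nakai.D_one, sub_eq_zero]
    exact_mod_cast ((hcoh G hG d hd).1 (h G hG d hd)).symm

end Groth.Agent.S14812
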