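import Groth.Statements.S14811
import Groth.Agent.PlaneBlow.NefBC
import Groth.Agent.W7Hull.InvDual

set_option autoImplicit false
universe u
open CategoryTheory CategoryTheory.Limits AlgebraicGeometry
open Pic13

namespace Groth.Agent.S14811

/-- Let X be a proper scheme over a field k, L an invertible O_X-module and k ⊆ E an arbitrary field
extension. Then L is numerically trivial on X (degree 0 on every closed subscheme of X which is
integral of dimension one) if and only if the pullback of L to X_E = X ×_k Spec E is numerically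
trivial on X_E regarded as a scheme over E. -/
theorem result (k : Type u) [Field k] (X : Scheme.{u})
    [X.Over (Spec (CommRingCat.of k))] [IsProper (X ↘ Spec (CommRingCat.of k))] (L : X.Modules) (hL : PicF.IsInvertible L)
    (E : Type u) [Field E] [Algebra k E] :
    Pic13.IsNumEquivZero k X L ↔
      @Pic13.IsNumEquivZero E _ (pullback (X ↘ Spec (CommRingCat.of k)) (Spec.map (CommRingCat.ofHom (algebraMap k E))))
        ⟨pullback.snd (X ↘ Spec (CommRingCat.of k)) (Spec.map (CommRingCat.ofHom (algebraMap k E)))⟩
        ((Scheme.Modules.pullback (pullback.fst (X ↘ Spec (CommRingCat.of k)) (Spec.map (CommRingCat.ofHom (algebraMap k E))))).obj L) := by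
  obtain ⟨L', hL', ⟨e⟩⟩ := Groth.Agent.W7Hull.exists_tensor_inverse hL
  let p := pullback.fst (X ↘ Spec (CommRingCat.of k)) (Spec.map (CommRingCat.ofHom (algebraMap k E)))
  obtain ⟨a⟩ := TMul.nonempty_pullTensorIso p L L'
  letI : (pullback (X ↘ Spec (CommRingCat.of k)) (Spec.map (CommRingCat.ofHom (algebraMap k E)))).Over
      (Spec (CommRingCat.of E)) := ⟨pullback.snd _ _⟩
  haveI : IsProper (pullback (X ↘ Spec (CommRingCat.of k)) (Spec.map (CommRingCat.ofHom (algebraMap k E))) ↘
      Spec (CommRingCat.of E)) := Groth.Agent.PlaneBlow.isProper_snd k E X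
  rw [Groth.Agent.PlaneBlow.numTriv_iff_nef k hL hL' ⟨e⟩,
    Groth.Agent.PlaneBlow.numTriv_iff_nef E (PicLoc.isInvertible_pullback p hL) (PicLoc.isInvertible_pullback p hL')
      ⟨a ≪≫ (Scheme.Modules.pullback p).mapIso e ≪≫ Groth.Agent.DerPerf.pullUnitIso p⟩,
    Groth.Agent.PlaneBlow.nef_iff_baseChange k E hL, Groth.Agent.PlaneBlow.nef_iff_baseChange k E hL']

end Groth.Agent.S14811
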