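import Groth.Statements.S4667
import Mathlib
import Groth.Agent.FpqcDescent.IdealGlue

set_option autoImplicit false
open CategoryTheory AlgebraicGeometry
universe u
open FDesc

set_option backward.isDefEq.respectTransparency false
namespace Groth.Agent.S4667

section
open CategoryTheory Limits TensorProduct

theorem mem_map_ker {A C B : CommRingCat.{u}} (φ : A ⟶ C) (ψ : A ⟶ B) (hψ : ψ.hom.Flat) (b : B)
    (h : pushout.inr φ ψ b = 0) : b ∈ (RingHom.ker φ.hom).map ψ.hom := by
  algebraize [φ.hom, ψ.hom]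
  have : Module.Flat A B := hψ
  let d : pushout φ ψ ⟶ CommRingCat.of (C ⊗[A] B) :=
    pushout.desc (CommRingCat.ofHom Algebra.TensorProduct.includeLeftRingHom)
      (CommRingCat.ofHom Algebra.TensorProduct.includeRight.toRingHom)
      (CommRingCat.isPushout_tensorProduct A C B).w
  have h1 : (1 : C) ⊗ₜ[A] b = 0 := by
    have := congrArg d.hom h
    rw [map_zero, ← CommRingCat.comp_apply, pushout.inr_desc] at this
    exact this
  set K := RingHom.ker (algebraMap A C)
  have hinj : Function.Injective (Ideal.Quotient.liftₐ K (Algebra.ofId A C) fun _ ha ↦ ha).toLinearMap := by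
    rw [injective_iff_map_eq_zero]
    intro x hx
    obtain ⟨x, rfl⟩ := Ideal.Quotient.mk_surjective x
    exact Ideal.Quotient.eq_zero_iff_mem.mpr hx
  have h2 : (1 : A ⧸ K) ⊗ₜ[A] b = 0 := by
    refine Module.Flat.rTensor_preserves_injective_linearMap (M := B) _ hinj ?_
    rw [map_zero, LinearMap.rTensor_tmul, AlgHom.toLinearMap_apply, map_one, h1]
  have h3 : b ∈ K • (⊤ : Submodule A B) := by
    rw [← Submodule.Quotient.mk_eq_zero]
    have := congrArg (TensorProduct.quotTensorEquivQuotSMul B K) h2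
    rw [map_zero, show (1 : A ⧸ K) = Ideal.Quotient.mk K 1 from rfl, TensorProduct.quotTensorEquivQuotSMul_mk_tmul, one_smul] at this
    exact this
  rw [Ideal.smul_top_eq_map] at h3
  exact h3

end

open CategoryTheory.Limits in
/-- Let f : X → Y be a quasi-compact morphism of schemes and g : Y' → Y a flat morphism, and let f' : X
×_Y Y' → Y' be the base change of f. Then the scheme-theoretic image of f' is the inverse image
under g of the scheme-theoretic image of f: the quasi-coherent ideal sheaf cutting out the former is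
the pull-back along g of the one cutting out the latter. (One published statement is phrased for a
quasi-compact and quasi-separated S-morphism f and a flat base change S′ → S, which reduces to this
case; quasi-compactness of f suffices.) -/
theorem result {X Y Y' : Scheme.{u}} (f : X ⟶ Y) (g : Y' ⟶ Y)
    [QuasiCompact f] [Flat g] :
    (pullback.snd f g).ker = f.ker.comap g := by
  set p := pullback.snd f g with hp
  set q := pullback.fst f g with hq
  apply le_antisymm
  · intro W
    rw [Scheme.Hom.ker_apply]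
    intro b hb
    let T := {V : Y'.affineOpens // V.1 ≤ W.1 ∧ ∃ U : Y.affineOpens, V.1 ≤ g ⁻¹ᵁ U.1}
    refine Groth.Agent.FpqcDescent.mem_of_flat_cover' (T := T) W (fun _ ↦ Y') (fun t ↦ t.1) (fun _ ↦ 𝟙 Y')
      (fun t ↦ t.2.1) (fun y hy ↦ ?_) _ b fun t ↦ ?_
    · obtain ⟨U, hU, hyU, -⟩ := TopologicalSpace.Opens.isBasis_iff_nbhd.mp Y.isBasis_affineOpens (show g y ∈ (⊤ : Y.Opens) from trivial)
      obtain ⟨V, hV, hyV, hle⟩ := TopologicalSpace.Opens.isBasis_iff_nbhd.mp Y'.isBasis_affineOpens
        (show y ∈ W.1 ⊓ g ⁻¹ᵁ U from ⟨hy, hyU⟩)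
      exact ⟨⟨⟨V, hV⟩, hle.trans inf_le_left, ⟨⟨U, hU⟩, hle.trans inf_le_right⟩⟩, y, hyV, rfl⟩
    obtain ⟨V, hVW, U, hVU⟩ := t
    rw [← Groth.Agent.FpqcDescent.ideal_comap_appLE (f.ker.comap g) (𝟙 Y') W V hVW, Scheme.IdealSheafData.comap_id,
      Groth.Agent.FpqcDescent.ideal_comap_appLE f.ker g U V hVU, Scheme.Hom.ker_apply]
    have hb' : (p.app V.1).hom (((𝟙 Y' : Y' ⟶ Y').appLE W.1 V.1 hVW).hom b) = 0 := by
      have e : (𝟙 Y' : Y' ⟶ Y').appLE W.1 V.1 hVW = Y'.presheaf.map (homOfLE hVW).op := by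
        simp [Scheme.Hom.appLE]
      rw [e, ← CommRingCat.comp_apply, p.naturality, CommRingCat.comp_apply,
        show (p.app W.1).hom b = 0 from hb, map_zero]
    set b' := ((𝟙 Y' : Y' ⟶ Y').appLE W.1 V.1 hVW).hom b
    have hmono := mono_pushoutSection_of_isCompact_of_flat_right (IsPullback.of_hasPullback f g)
      (US := U.1) (UT := V.1) (UX := f ⁻¹ᵁ U.1) hVU le_rfl
      (UY := p ⁻¹ᵁ V.1) (by
        refine (inf_eq_right.mpr fun z hz ↦ ?_).symm
        show (q ≫ f) z ∈ U.1
        rw [hq, pullback.condition]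
        exact hVU hz) U.2 V.2 (f.isCompact_preimage U.2.isCompact)
    have hinr : pushout.inr (f.appLE U.1 (f ⁻¹ᵁ U.1) le_rfl) (g.appLE U.1 V.1 hVU) b' = 0 := by
      apply ConcreteCategory.injective_of_mono_of_preservesPullback (pushoutSection (IsPullback.of_hasPullback f g) hVU le_rfl (UY := p ⁻¹ᵁ V.1) _)
      rw [map_zero, ← CommRingCat.comp_apply, pushoutSection, pushout.inr_desc]
      rw [Scheme.Hom.appLE_eq_app]
      exact hb'
    rw [← Scheme.Hom.appLE_eq_app]
    exact mem_map_ker (f.appLE U.1 (f ⁻¹ᵁ U.1) le_rfl) (g.appLE U.1 V.1 hVU) (Scheme.Hom.flat_appLE g U.2 V.2 hVU) b' hinr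
  · rw [← Scheme.IdealSheafData.le_map_iff_comap_le, ← Scheme.Hom.ker_comp, ← pullback.condition]
    exact Scheme.Hom.le_ker_comp _ _

end Groth.Agent.S4667
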