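import Groth.Statements.S14698
import Groth.Agent.PlaneBlow.TotalTransform
import Groth.Agent.BiratNormal.Scheme

set_option backward.isDefEq.respectTransparency false
set_option linter.style.haveILetI false

set_option autoImplicit false
universe u
open CategoryTheory CategoryTheory.Limits AlgebraicGeometry TopologicalSpace
open Resolve

namespace Groth.Agent.S14698

/-- Let k be an algebraically closed field and X an integral normal scheme of dimension two admitting a
closed immersion into some P^n_k over k. Let φ : Y → X be a k-morphism from an integral scheme Y of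
dimension two with all local rings regular, itself admitting a closed immersion into some P^m_k over
k, which restricts to an isomorphism over an open subset U of X with finite complement. Then for
every point x of X at which the local ring is not regular, the fibre φ⁻¹(x) (with the topology
induced from Y) is nonempty and every irreducible component of it has dimension one: such a
desingularization is a monoidal model. (The published statement takes φ an isomorphism exactly over
the complement of the singular points; this row allows any open U with finite complement over which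
φ is an isomorphism.) -/
theorem result (k : Type u) [Field k] [IsAlgClosed k] (X : Scheme.{u}) [X.Over (Spec (CommRingCat.of k))]
    [IsIntegral X] (hdim : topologicalKrullDim X = 2)
    (hproj : ∃ (n : ℕ) (ι : X ⟶ CohB1.ProjSpace n k), IsClosedImmersion ι ∧ ι ≫ CohB1.ProjSpace.toSpec n k = (X ↘ (Spec (CommRingCat.of k))))
    (hnorm : Pi1.IsNormalScheme X) (U : X.Opens) (hU : ((U : Set X)ᶜ).Finite)
    (Y : Scheme.{u}) (φ : Y ⟶ X) [IsIntegral Y] (hdimY : topologicalKrullDim Y = 2)
    (hregY : ∀ y : Y, IsRegularLocalRing (Y.presheaf.stalk y))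
    (hprojY : ∃ (n : ℕ) (ι : Y ⟶ CohB1.ProjSpace n k), IsClosedImmersion ι ∧ ι ≫ CohB1.ProjSpace.toSpec n k = φ ≫ (X ↘ (Spec (CommRingCat.of k))))
    (hisoY : IsIso (φ ∣_ U))
    (x : X) (hx : ¬ IsRegularLocalRing (X.presheaf.stalk x)) :
    (φ.base ⁻¹' ({x} : Set X)).Nonempty ∧
      ∀ Z ∈ irreducibleComponents ↥(φ.base ⁻¹' ({x} : Set X)), topologicalKrullDim ↥Z = 1 := by
  letI : Y.Over (Spec (CommRingCat.of k)) := ⟨φ ≫ (X ↘ (Spec (CommRingCat.of k)))⟩
  obtain ⟨n, ι, hι, hιk⟩ := hproj
  obtain ⟨m, κ, hκ, hκk⟩ := hprojY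
  haveI := ProjMor.isProper_toSpec n k
  haveI := ProjMor.isProper_toSpec m k
  haveI : IsProper (X ↘ Spec (CommRingCat.of k)) := by rw [← hιk]; infer_instance
  haveI : IsProper (φ ≫ (X ↘ Spec (CommRingCat.of k))) := by rw [← hκk]; infer_instance
  haveI : IsProper (Y ↘ Spec (CommRingCat.of k)) := inferInstanceAs (IsProper (φ ≫ (X ↘ Spec (CommRingCat.of k))))
  haveI : IsProper φ := IsProper.of_comp φ (X ↘ Spec (CommRingCat.of k))
  haveI : JacobsonSpace X := LocallyOfFiniteType.jacobsonSpace (X ↘ Spec (CommRingCat.of k))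
  haveI := CurveRR.isNoetherian_of_proper k Y
  -- an isomorphism near a point transfers regularity
  have hregiso : ∀ (D : X.Opens) (p : Y), IsIso (φ ∣_ D) → φ p ∈ D → IsRegularLocalRing (X.presheaf.stalk (φ p)) := by
    intro D p hD hp
    haveI := hD
    haveI : IsIso (φ.stalkMap p) := by
      rw [← MorphismProperty.isomorphisms.iff, ← (MorphismProperty.isomorphisms CommRingCat).arrow_mk_iso_iff
        (morphismRestrictStalkMap φ D ⟨p, hp⟩)]
      exact inferInstanceAs (IsIso ((φ ∣_ D).stalkMap _))
    haveI := hregY p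
    exact IsRegularLocalRing.of_ringEquiv (asIso (φ.stalkMap p)).commRingCatIsoToRingEquiv.symm
  have hxU : x ∉ U := fun h => by
    haveI := hisoY
    obtain ⟨z, hz⟩ := (φ ∣_ U).surjective ⟨x, h⟩
    have hzx : φ z.1 = x := (morphismRestrict_base_coe φ U z).symm.trans (congrArg Subtype.val hz)
    subst hzx
    exact hx (hregiso U z.1 hisoY h)
  have hxc := PlaneBlow.isClosed_of_notMem U hU hxU
  have hηU : genericPoint X ∈ U := by
    by_contra hn
    have hc := PlaneBlow.isClosed_of_notMem U hU hn
    have h : ∀ c : X, c = genericPoint X := fun c =>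
      Set.mem_singleton_iff.1 (hc.closure_eq ▸ ((genericPoint_closure (α := X)).ge trivial))
    haveI : Subsingleton X := ⟨fun a b => by rw [h a, h b]⟩
    have h0 := topologicalKrullDim_zero_of_discreteTopology (X := X)
    rw [hdim] at h0
    exact absurd h0 (by norm_num)
  haveI := hisoY
  obtain ⟨z₀, hz₀⟩ := (φ ∣_ U).surjective ⟨genericPoint X, hηU⟩
  have h0 : φ z₀.1 = genericPoint X := (morphismRestrict_base_coe φ U z₀).symm.trans (congrArg Subtype.val hz₀)
  have hφη : φ (genericPoint Y) = genericPoint X := by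
    have h1 : φ (genericPoint Y) ⤳ genericPoint X := h0 ▸ (genericPoint_specializes z₀.1).map φ.continuous
    exact (h1.antisymm (genericPoint_specializes _)).eq
  refine ⟨?_, fun Z hZ => ?_⟩
  · have hr : closure ({genericPoint X} : Set X) ⊆ Set.range φ :=
      closure_minimal (Set.singleton_subset_iff.2 ⟨_, hφη⟩) φ.isClosedMap.isClosed_range
    obtain ⟨p, hp⟩ := hr ((genericPoint_closure (α := X)).ge (trivial : x ∈ Set.univ))
    exact ⟨p, hp⟩
  let F : Set Y := φ.base ⁻¹' ({x} : Set X)
  have hFc : IsClosed F := hxc.preimage φ.continuous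
  have hgF : genericPoint Y ∉ F := fun h => hxU ((show φ (genericPoint Y) = x from h) ▸ hφη ▸ hηU)
  have hFd : topologicalKrullDim F < ((2 : ℕ) : WithBot ℕ∞) := FreeJ.dim_lt_of_proper (n := 2)
    (by rw [hdimY]; norm_cast) F hFc fun hu => hgF (hu ▸ Set.mem_univ _)
  have hle : topologicalKrullDim Z ≤ ((1 : ℕ) : WithBot ℕ∞) := by
    refine (Topology.IsEmbedding.subtypeVal.topologicalKrullDim_le).trans (Order.le_of_lt_succ (hFd.trans_le ?_))
    norm_cast
  by_contra hne
  have hlt : topologicalKrullDim Z < ((0 + 1 : ℕ) : WithBot ℕ∞) := lt_of_le_of_ne hle (by simpa using hne)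
  haveI : IrreducibleSpace Z := Subtype.irreducibleSpace hZ.1
  have hsing : ∀ a b : Z, a = b := by
    have key : ∀ a : Z, closure {a} = Set.univ := fun a => by
      by_contra hu
      have h := FreeJ.dim_lt_of_proper hlt (closure {a}) isClosed_closure hu
      haveI : Nonempty (closure ({a} : Set Z)) := ⟨⟨a, subset_closure rfl⟩⟩
      haveI : Nonempty (IrreducibleCloseds (closure ({a} : Set Z))) :=
        ⟨⟨closure {⟨a, subset_closure rfl⟩}, isIrreducible_singleton.closure, isClosed_closure⟩⟩
      exact absurd h (not_lt.2 (by simpa [topologicalKrullDim] using Order.krullDim_nonneg))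
    intro a b
    exact (inseparable_iff_specializes_and.2 ⟨specializes_iff_mem_closure.2 (by rw [key a]; trivial),
      specializes_iff_mem_closure.2 (by rw [key b]; trivial)⟩).eq
  haveI : NoetherianSpace F := Topology.IsEmbedding.subtypeVal.isInducing.noetherianSpace
  obtain ⟨O, hO, hOne, hOZ⟩ := NoetherianSpace.exists_isOpen_nonempty_subset_irreducibleComponent Z hZ
  obtain ⟨p, hp⟩ := hOne
  have hOp : O = {p} := Set.Subset.antisymm
    (fun q hq => congrArg Subtype.val (hsing ⟨q, hOZ hq⟩ ⟨p, hOZ hp⟩)) (Set.singleton_subset_iff.2 hp)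
  have hpx : φ p.1 = x := p.2
  have hqf : φ.QuasiFiniteAt p.1 := by
    rw [Scheme.Hom.quasiFiniteAt_iff_isOpen_singleton_asFiber, ← (φ.fiberHomeo (φ p.1)).isOpen_image,
      Set.image_singleton, Scheme.Hom.asFiber, Homeomorph.apply_symm_apply]
    obtain ⟨Ω, hΩ, hΩO⟩ := isOpen_induced_iff.1 hO
    refine isOpen_induced_iff.2 ⟨Ω, hΩ, ?_⟩
    ext ⟨q, hq⟩
    have h := Set.ext_iff.1 (hΩO.trans hOp) ⟨q, (show φ q = x from (show φ q = φ p.1 from hq).trans hpx)⟩
    simp only [Set.mem_preimage, Set.mem_singleton_iff] at h ⊢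
    exact h.trans ⟨fun e => Subtype.ext (congrArg Subtype.val e :), fun e => Subtype.ext (congrArg Subtype.val e :)⟩
  have hbir : IsIso (φ.stalkMap (genericPoint Y)) := by
    rw [← MorphismProperty.isomorphisms.iff, ← (MorphismProperty.isomorphisms CommRingCat).arrow_mk_iso_iff
      (morphismRestrictStalkMap φ U ⟨genericPoint Y, show φ (genericPoint Y) ∈ U from hφη ▸ hηU⟩)]
    exact inferInstanceAs (IsIso ((φ ∣_ U).stalkMap _))
  obtain ⟨D, V, e, hxD, hpV, hres⟩ := BiratNormal.exists_nhd_isIso φ hbir p.1 (hnorm _).2 hqf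
  exact hx (hpx ▸ hregiso D p.1 (BiratNormal.isIso_morphismRestrict_of_nhd φ D V e ⟨_, hpV⟩) hxD)

end Groth.Agent.S14698
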