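import Groth.Statements.S14700
import Groth.Agent.PlaneBlow.CurveUnion
import Groth.Agent.Castel.SurfRes

set_option autoImplicit false
set_option linter.style.haveILetI false
universe u
open CategoryTheory CategoryTheory.Limits AlgebraicGeometry
open Surf

namespace Groth.Agent.S14700

/-- Let k be an algebraically closed field and X an integral scheme of dimension two with all local
rings regular, admitting a closed immersion into some P^n_k over k. Let C_1, …, C_n be pairwise
distinct integral one-dimensional closed subschemes of X with ideal sheaves I_1, …, I_n, and let Y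
be the reduced closed subscheme with ideal I_1 ∩ ⋯ ∩ I_n (their union); assume Y is connected. Then
χ(O_Y) ≤ 1, i.e. the arithmetic genus 1 - χ(O_Y) of Y is nonnegative. If moreover χ(O_Y) = 1, then
χ(O_{C_i}) = 1 for every i (each C_i has arithmetic genus zero) and Σ_{i<j} (C_i · C_j) = n - 1, so
that the incidence graph of the C_i, which is connected with Σ_{i<j} (C_i · C_j) edges, contains no
cycle; here (C_i · C_j) = χ(O_X) - χ(I_i) - χ(I_j) + χ(I_i ⊗ I_j) is the intersection number
(packaged as FGA.intNum). (The published statement allows any integral projective surface regular in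
codimension one; this row takes X with all local rings regular, where the intersection numbers used
by the proof are defined.) -/
theorem result (k : Type u) [Field k] [IsAlgClosed k] (X : Scheme.{u}) [X.Over (Spec (CommRingCat.of k))]
    [IsIntegral X] (hdim : topologicalKrullDim X = 2)
    (hproj : ∃ (n : ℕ) (ι : X ⟶ CohB1.ProjSpace n k), IsClosedImmersion ι ∧ ι ≫ CohB1.ProjSpace.toSpec n k = (X ↘ (Spec (CommRingCat.of k))))
    (hreg : ∀ x : X, IsRegularLocalRing (X.presheaf.stalk x))
    (n : ℕ) (C : Fin n → X.IdealSheafData) (hCint : ∀ i, IsIntegral (C i).subscheme)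
    (hCdim : ∀ i, topologicalKrullDim ((C i).support : Set X) = 1)
    (hCinj : Function.Injective fun i => ((C i).support : Set X))
    (hconn : _root_.IsConnected ((⨅ i, C i).support : Set X)) :
    Curv2.euler k X (ClSub.quotMod (⨅ i, C i)) ≤ 1 ∧
      (Curv2.euler k X (ClSub.quotMod (⨅ i, C i)) = 1 →
        (∀ i, Curv2.euler k X (ClSub.quotMod (C i)) = 1) ∧
          (∑ i : Fin n, ∑ j : Fin n,
              if i < j then FGA.intNum k X 2 ![ClSub.idealMod (C i), ClSub.idealMod (C j)] (Coh.structureModule X) else 0) =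
            (n : ℤ) - 1) := by
  obtain ⟨m, ι, hι, hιk⟩ := hproj
  haveI := ProjMor.isProper_toSpec m k
  haveI : IsProper (X ↘ Spec (CommRingCat.of k)) := by rw [← hιk]; infer_instance
  haveI : Smooth (X ↘ Spec (CommRingCat.of k)) := Castel.smooth_of_regular_stalks _ hreg
  haveI := CurveRR.isNoetherian_of_proper k X
  obtain ⟨h2, hvan⟩ := PlaneBlow.h2_quot_union k hdim C hCint hCdim hCinj
  obtain ⟨-, -, -, -, hform⟩ := PlaneBlow.finset_prod k hdim C hCint hCdim hCinj Finset.univ
  rw [← PlaneBlow.iInf_eq_prod k hdim C hCint hCdim hCinj] at hform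
  have hred : IsReduced (⨅ i, C i).subscheme := by
    rw [iInf_congr fun i => (haveI := hCint i; PlaneBlow.eq_vanishingIdeal_support (C i)),
      ← Scheme.IdealSheafData.vanishingIdeal_iSup]
    exact DvrDom.isReduced_vanishingIdeal_subscheme _
  haveI : ConnectedSpace (⨅ i, C i).subscheme := by
    rw [← Scheme.IdealSheafData.range_subschemeι] at hconn
    haveI := isConnected_iff_connectedSpace.1 hconn
    exact (⨅ i, C i).subschemeι.isClosedEmbedding.isEmbedding.toHomeomorph.symm.surjective.connectedSpace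
      (⨅ i, C i).subschemeι.isClosedEmbedding.isEmbedding.toHomeomorph.symm.continuous
  letI : (⨅ i, C i).subscheme.Over (Spec (CommRingCat.of k)) :=
    ⟨(⨅ i, C i).subschemeι ≫ (X ↘ Spec (CommRingCat.of k))⟩
  haveI : IsProper ((⨅ i, C i).subscheme ↘ Spec (CommRingCat.of k)) :=
    inferInstanceAs (IsProper ((⨅ i, C i).subschemeι ≫ (X ↘ Spec (CommRingCat.of k))))
  have h0 : CurveRR.h k (ClSub.quotMod (⨅ i, C i)) 0 = 1 :=
    (ConnDiv.h0_quot (k := k) _).trans ConnDiv.h0_of_connected
  have hχ := SurfAdj.euler_eq3 k hdim (ClSub.quotMod (⨅ i, C i))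
  rw [h0, h2] at hχ
  refine ⟨by omega, fun h1 => ?_⟩
  have hh1 : CurveRR.h k (ClSub.quotMod (⨅ i, C i)) 1 = 0 := by omega
  have hone : ∀ i, Curv2.euler k X (ClSub.quotMod (C i)) = 1 := by
    classical
    intro a
    haveI := hCint a
    obtain ⟨hr, -⟩ := PlaneBlow.finset_prod k hdim C hCint hCdim hCinj (Finset.univ.erase a)
    have hca := Nakai.cartier_of_curve k hdim (C a) (hCdim a)
    have hY : ⨅ i, C i = (∏ i ∈ Finset.univ.erase a, C i) * C a := by
      rw [PlaneBlow.iInf_eq_prod k hdim C hCint hCdim hCinj, Finset.prod_erase_mul _ _ (Finset.mem_univ a)]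
    have hle : (∏ i ∈ Finset.univ.erase a, C i) * C a ≤ C a := fun U => by
      rw [Scheme.IdealSheafData.ideal_mul, Pi.mul_apply]; exact Ideal.mul_le_right
    obtain ⟨S, hS, ⟨a₁⟩, a₂, a₃, -⟩ := Castel.exists_shortExact_restrict hca hr hle
    have hI := (Groth.Agent.S8914.result (C a)).2 hca
    let b₁ := a₁ ≪≫ TMul.commIso _ _
    have hs₁ : Subsingleton (Coh.HH X S.X₁ 2) := by
      have hM : Coh.IsCoh (CohB1.tensorMod (ClSub.quotMod (∏ i ∈ Finset.univ.erase a, C i)) (ClSub.idealMod (C a))) :=
        CurveRR.isCoh_tensor' (CurveRR.isCoh_idealMod _).2 (CurveRR.isCoh_of_inv hI)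
      have := hvan _ hM (Intersect.support_tensor_subset (TopologicalSpace.Closeds.isClosed _) ((CurveRR.support_quotMod _).trans (by
        rw [hY, Scheme.IdealSheafData.support_mul, TopologicalSpace.Closeds.coe_sup]
        exact Set.subset_union_left)) _)
      exact (ExtShX.hhIso (A := k) b₁ 2).toEquiv.subsingleton
    have hs2 : Subsingleton (Coh.HH X S.X₂ 1) := by
      haveI : Module.Finite k (Coh.HH X (ClSub.quotMod (⨅ i, C i)) 1) :=
        CohFinite.finite_proper k X _ (CurveRR.isCoh_idealMod _).2 1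
      haveI := (Module.finrank_zero_iff (R := k) (M := Coh.HH X (ClSub.quotMod (⨅ i, C i)) 1)).1 hh1
      exact (ExtShX.hhIso (A := k) (a₂ ≪≫ eqToIso (congrArg (ClSub.quotMod (X := X)) hY.symm)) 1).toEquiv.subsingleton
    have hs3 : Subsingleton (Coh.HH X S.X₃ 1) := (H1Triv.surjective_of_h_next k hS 1 hs₁).subsingleton
    have hq1 : CurveRR.h k (ClSub.quotMod (C a)) 1 = 0 :=
      (CurveRR.h_eq_of_iso (k := k) a₃ 1).symm.trans (CurveRR.h_eq_zero hs3)
    have hq2 : CurveRR.h k (ClSub.quotMod (C a)) 2 = 0 := CurveRR.h_eq_zero (hvan _ (CurveRR.isCoh_idealMod _).2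
      ((CurveRR.support_quotMod _).trans (by
        rw [hY, Scheme.IdealSheafData.support_mul, TopologicalSpace.Closeds.coe_sup]
        exact Set.subset_union_right)))
    letI : (C a).subscheme.Over (Spec (CommRingCat.of k)) := ⟨(C a).subschemeι ≫ (X ↘ Spec (CommRingCat.of k))⟩
    haveI : IsProper ((C a).subscheme ↘ Spec (CommRingCat.of k)) :=
      inferInstanceAs (IsProper ((C a).subschemeι ≫ (X ↘ Spec (CommRingCat.of k))))
    have hq0 : CurveRR.h k (ClSub.quotMod (C a)) 0 = 1 := (ConnDiv.h0_quot (k := k) _).trans ConnDiv.h0_structure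
    rw [SurfAdj.euler_eq3 k hdim, hq0, hq1, hq2]
    rfl
  refine ⟨hone, ?_⟩
  rw [h1, Finset.sum_congr rfl (fun i _ => hone i), Finset.sum_const, Finset.card_univ, Fintype.card_fin,
    nsmul_one] at hform
  omega

end Groth.Agent.S14700
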