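import Groth.Statements.S15544
import Groth.Agent.SteinGen.GeomConn
import Groth.Agent.SteinGen.NormalBase
import Groth.Agent.Birat.Generic

set_option autoImplicit false
open CategoryTheory AlgebraicGeometry
universe u
open Coherent

set_option backward.isDefEq.respectTransparency false
set_option linter.style.haveILetI false
namespace Groth.Agent.S15544

/-- Let X and Y be integral schemes, Y locally Noetherian with all local rings integrally closed, and f
: X ⟶ Y a proper birational morphism (the generic point of X maps to that of Y and the stalk map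
there is an isomorphism). Then every fibre of f is connected and nonempty. (The published statement
takes X and Y Noetherian; over a locally Noetherian Y this is the same assertion fibre by fibre.) -/
theorem result {X Y : Scheme.{u}} [IsIntegral X]
    [IsIntegral Y] [IsLocallyNoetherian Y] (hY : Pi1.IsNormalScheme Y) (f : X ⟶ Y) [IsProper f]
    (hgen : f.base (genericPoint X) = genericPoint Y) (hbir : IsIso (f.stalkMap (genericPoint X)))
    (y : Y) : ConnectedSpace ↥(f.fiber y) := by
  let η := genericPoint X
  let ξ := genericPoint Y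
  have hgen' : f η = ξ := hgen
  have hfin : (irreducibleComponents (Y : Type u)).Finite := by
    haveI := Set.Subsingleton.finite (α := Set Y) (s := irreducibleComponents (Y : Type u))
    refine this fun a ha b hb => ?_
    rw [irreducibleComponents_eq_singleton] at ha hb
    rw [Set.mem_singleton_iff] at ha hb
    rw [ha, hb]
  have hmax : closure ({f η} : Set Y) ∈ irreducibleComponents (Y : Type u) := by
    rw [hgen', (genericPoint_spec Y).def, irreducibleComponents_eq_singleton]
    rfl
  haveI : IsIso (f.stalkMap η) := hbir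
  obtain ⟨U, hηU, V, hξV, f', hf', -, -, hf'c⟩ := Groth.Agent.Birat.exists_local_iso f hfin hmax
    (Or.inl ⟨inferInstance, inferInstance⟩) ⊤ trivial ⊤ trivial
  let V' : Y.Opens := V ⊓ ⟨(f '' (U : Set X)ᶜ)ᶜ, (f.isClosedMap _ U.2.isClosed_compl).isOpen_compl⟩
  have hξV' : ξ ∈ V' := by
    refine ⟨hgen' ▸ hξV, ?_⟩
    rintro ⟨x, hx, hfx⟩
    exact hx (Groth.Agent.Birat.eq_of_specializes_of_isIso f
      ((genericPoint_spec X).specializes (Set.mem_univ x)) (hfx.trans hgen'.symm) ▸ hηU)
  have hle : f ⁻¹ᵁ V' ≤ U := fun x hx => by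
    by_contra h
    exact hx.2 ⟨x, h, rfl⟩
  haveI := hf'
  have hrest : IsIso (f ∣_ V') := by
    have e : (f ∣_ V') ≫ Y.homOfLE (inf_le_left : V' ≤ V) = X.homOfLE hle ≫ f' := by
      rw [← cancel_mono V.ι, Category.assoc, Category.assoc, Scheme.homOfLE_ι, morphismRestrict_ι, hf'c, Scheme.homOfLE_ι_assoc]
    haveI : IsOpenImmersion (f ∣_ V') := by
      haveI : IsOpenImmersion ((f ∣_ V') ≫ Y.homOfLE (inf_le_left : V' ≤ V)) := by
        rw [e]; infer_instance
      exact IsOpenImmersion.of_comp _ (Y.homOfLE (inf_le_left : V' ≤ V))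
    haveI : Surjective (f ∣_ V') := ⟨fun v => by
      obtain ⟨u, hu⟩ := f'.homeomorph.surjective ⟨v.1, v.2.1⟩
      have hfu : f u.1 = v.1 := by
        have h1 := congrArg (fun g => g u) hf'c
        exact (h1.symm.trans (congrArg Subtype.val hu) :)
      have hu' : u.1 ∈ f ⁻¹ᵁ V' := by
        show f u.1 ∈ V'
        rw [hfu]; exact v.2
      exact ⟨⟨u.1, hu'⟩, Subtype.ext ((congrArg (fun g => g ⟨u.1, hu'⟩) (morphismRestrict_ι f V')).trans hfu)⟩⟩
    haveI : Epi (f ∣_ V').base := (TopCat.epi_iff_surjective _).2 (f ∣_ V').surjective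
    exact IsOpenImmersion.isIso (f ∣_ V')
  have hr : Set.range (Y.fromSpecResidueField ξ) ⊆ Set.range V'.ι := by
    rw [Scheme.range_fromSpecResidueField, Scheme.Opens.range_ι]
    exact Set.singleton_subset_iff.2 hξV'
  have hr' : Set.range (f.fiberι ξ) ⊆ Set.range (f ⁻¹ᵁ V').ι := by
    rw [f.range_fiberι, Scheme.Opens.range_ι]
    intro x hx
    show f x ∈ V'
    rw [show f x = ξ from hx]
    exact hξV'
  let g := IsOpenImmersion.lift (f ⁻¹ᵁ V').ι (f.fiberι ξ) hr'
  let l := IsOpenImmersion.lift V'.ι (Y.fromSpecResidueField ξ) hr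
  have hsq : IsPullback g (f.fiberToSpecResidueField ξ) (f ∣_ V') l := by
    refine IsPullback.of_right ?_ ?_ (isPullback_morphismRestrict f V').flip
    · rw [IsOpenImmersion.lift_fac, IsOpenImmersion.lift_fac]
      exact IsPullback.of_hasPullback _ _
    · rw [← cancel_mono V'.ι]
      simp only [Category.assoc, morphismRestrict_ι, g, l, IsOpenImmersion.lift_fac, IsOpenImmersion.lift_fac_assoc]
      exact Limits.pullback.condition
  haveI : IsIso (f.fiberToSpecResidueField ξ) :=
    MorphismProperty.of_isPullback (P := MorphismProperty.isomorphisms Scheme.{u}) hsq hrest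
  have h0 : Function.Bijective ((f.fiberToSpecResidueField ξ).appTop) :=
    (ConcreteCategory.isIso_iff_bijective _).1 inferInstance
  have hcomp : ∀ Z ∈ irreducibleComponents ↥X, ∀ x : X, IsGenericPoint x Z → f x = ξ := fun Z hZ x hx => by
    rw [irreducibleComponents_eq_singleton] at hZ
    rw [Set.mem_singleton_iff] at hZ
    subst hZ
    rw [hx.eq (genericPoint_spec X)]
    exact hgen'
  haveI := Groth.Agent.SteinGen.geometricallyConnected_of_isIso_app f
    (Groth.Agent.SteinGen.isIso_app_of_normal f hY hcomp h0)
  infer_instance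

end Groth.Agent.S15544
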