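import Groth.Statements.S4362
import Mathlib

set_option autoImplicit false
universe u
open FinCond

namespace Groth.Agent.S4362

open AlgebraicGeometry in
open CategoryTheory in
/-- If X is a Noetherian scheme, every increasing sequence of quasi-coherent sheaves of ideals of the
structure sheaf is eventually constant; equivalently the ordered set of quasi-coherent ideal sheaves
of X is well-founded for the reverse order. (On a locally Noetherian scheme quasi-coherent and
coherent ideal sheaves coincide.) -/
theorem result
    (X : Scheme.{u}) [IsNoetherian X] : WellFoundedGT X.IdealSheafData := by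
  haveI : ∀ U : X.affineOpens, IsNoetherianRing Γ(X, U.1) := fun U =>
    IsLocallyNoetherian.component_noetherian U
  obtain ⟨s, hs, hsf, hcov⟩ :=
    X.isBasis_affineOpens.exists_finite_of_isCompact (U := (⊤ : X.Opens)) isCompact_univ
  let t : Set X.affineOpens := {U | U.1 ∈ s}
  have htf : t.Finite := hsf.preimage Subtype.val_injective.injOn
  haveI : Finite t := htf.to_subtype
  have htop : ⨆ U : t, U.1.1 = (⊤ : X.Opens) := by
    rw [eq_top_iff, hcov, sSup_le_iff]
    intro V hV
    exact le_iSup_of_le (⟨⟨V, hs hV⟩, hV⟩ : t) le_rfl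
  let F : X.IdealSheafData → ((U : t) → Ideal Γ(X, U.1.1)) := fun I U => I.ideal U.1
  have hF : StrictMono F := fun I J hIJ => lt_of_le_of_ne (fun U => hIJ.le U.1) fun h =>
    hIJ.ne (Scheme.IdealSheafData.ext_of_iSup_eq_top (fun U : t => U.1) htop fun U => congrFun h U)
  haveI : ∀ U : t, WellFoundedLT (Ideal Γ(X, U.1.1))ᵒᵈ := fun U => inferInstance
  have hw : WellFounded (fun I J : (U : t) → (Ideal Γ(X, U.1.1))ᵒᵈ => I < J) :=
    (inferInstance : WellFoundedLT ((U : t) → (Ideal Γ(X, U.1.1))ᵒᵈ)).wf
  exact ⟨Subrelation.wf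
    (fun {I J} (h : J < I) => ((hF h : F J < F I) :
      (fun U => OrderDual.toDual (F I U) : (U : t) → (Ideal Γ(X, U.1.1))ᵒᵈ) <
        fun U => OrderDual.toDual (F J U)))
    (InvImage.wf (fun I U => OrderDual.toDual (F I U)) hw)⟩

end Groth.Agent.S4362
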