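import Groth.Statements.S5969
import Groth.Agent.BlowUpLib.Cartier

set_option autoImplicit false
universe u
open CategoryTheory CategoryTheory.Limits AlgebraicGeometry TopologicalSpace Opposite
open Nrm16

set_option backward.isDefEq.respectTransparency false
set_option backward.isDefEq.respectTransparency.types false

namespace Groth.Agent.S5969

theorem comap_pow {X Y : Scheme.{u}} (I : Y.IdealSheafData) (g : X ⟶ Y) (m : ℕ) :
    (I ^ (m + 1)).comap g = (I.comap g) ^ (m + 1) := by
  induction m with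
  | zero => simp
  | succ m ih => rw [pow_succ I, pow_succ (I.comap g), BlowUpLib.comap_mul, ih]

/-- Let f : X ⟶ S be a morphism of schemes and n a natural number. On the order-n infinitesimal
thickening of the diagonal of f there is an endomorphism σ which is compatible, under the immersion
into X ×_S X, with the symmetry exchanging the two factors; σ is an involution, it exchanges the two
projections to X (so it exchanges the two O_X-algebra structures of P^n_{X/S}) and it fixes the
diagonal section. -/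
theorem result {X S : Scheme.{u}} (f : X ⟶ S) (n : ℕ) :
    ∃ σ : PrinPart.nbhd f n ⟶ PrinPart.nbhd f n,
      σ ≫ PrinPart.nbhdι f n = PrinPart.nbhdι f n ≫ (pullbackSymmetry f f).hom ∧
      σ ≫ σ = 𝟙 (PrinPart.nbhd f n) ∧
      σ ≫ PrinPart.pr1 f n = PrinPart.pr2 f n ∧ σ ≫ PrinPart.pr2 f n = PrinPart.pr1 f n ∧
      PrinPart.toNbhd f n ≫ σ = PrinPart.toNbhd f n := by
  let Δ := pullback.diagonal f
  let W := Δ.coborderRange
  let s := (pullbackSymmetry f f).hom
  have hΔs : Δ ≫ s = Δ := by
    apply pullback.hom_ext <;> simp [Δ, s]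
  have hss : s ≫ s = 𝟙 _ := by
    apply pullback.hom_ext <;> simp [s]
  have hfix : ∀ z, z ∈ Set.range Δ → s z ∈ Set.range Δ := by
    rintro _ ⟨x, rfl⟩
    exact ⟨x, by rw [← Scheme.Hom.comp_apply, hΔs]⟩
  have hs2 : ∀ z, s (s z) = z := fun z ↦ by rw [← Scheme.Hom.comp_apply, hss]; rfl
  have hpre : s ⁻¹' Set.range Δ = Set.range Δ :=
    Set.ext fun z ↦ ⟨fun h ↦ hs2 z ▸ hfix _ h, hfix z⟩
  have hW : ∀ z, z ∈ W → s z ∈ W := fun z hz ↦ by
    change s z ∈ coborder (Set.range Δ)
    have hcb : s ⁻¹' coborder (Set.range Δ) = coborder (Set.range Δ) := by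
      simp only [coborder, Set.preimage_compl, Set.preimage_sdiff]
      rw [show s ⁻¹' closure (Set.range Δ) = closure (s ⁻¹' Set.range Δ) from
        (Scheme.homeoOfIso (pullbackSymmetry f f)).preimage_closure _, hpre]
    exact (Set.ext_iff.mp hcb z).mpr hz
  let sW : W.toScheme ⟶ W.toScheme := IsOpenImmersion.lift W.ι (W.ι ≫ s) (by
    rintro _ ⟨z, rfl⟩
    rw [Scheme.Opens.range_ι, Scheme.Hom.comp_apply]
    exact hW _ z.2)
  have hsW : sW ≫ W.ι = W.ι ≫ s := IsOpenImmersion.lift_fac _ _ _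
  have hsWsW : sW ≫ sW = 𝟙 _ := by
    rw [← cancel_mono W.ι, Category.assoc, hsW, ← Category.assoc, hsW, Category.assoc, hss,
      Category.comp_id, Category.id_comp]
  haveI : IsIso sW := ⟨sW, hsWsW, hsWsW⟩
  have hd : PrinPart.diagCl f ≫ sW = PrinPart.diagCl f := by
    rw [← cancel_mono W.ι, Category.assoc, hsW, ← Category.assoc, Scheme.Hom.liftCoborder_ι, hΔs]
  set I := (PrinPart.diagCl f).ker with hI
  have h1 : I.comap sW ≤ I := by
    rw [← Scheme.IdealSheafData.le_map_iff_comap_le, Scheme.IdealSheafData.map]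
    refine le_of_eq ?_
    rw [← Scheme.Hom.ker_comp_of_isIso (PrinPart.diagCl f).toImage
      ((PrinPart.diagCl f).ker.subschemeι ≫ sW), ← Category.assoc]
    rw [show (PrinPart.diagCl f).toImage ≫ (PrinPart.diagCl f).ker.subschemeι = PrinPart.diagCl f from
      (PrinPart.diagCl f).toImage_imageι, hd]
  have h2 : I ^ (n + 1) ≤ (I ^ (n + 1)).map sW := by
    rw [Scheme.IdealSheafData.le_map_iff_comap_le, comap_pow]
    intro U
    simp only [Scheme.IdealSheafData.ideal_pow, Pi.pow_apply]
    exact Ideal.pow_right_mono (h1 U) _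
  let σ : PrinPart.nbhd f n ⟶ PrinPart.nbhd f n :=
    (PrinPart.infNbhdι (PrinPart.diagCl f) n ≫ sW).toImage ≫ Scheme.IdealSheafData.inclusion h2
  have hσ : σ ≫ PrinPart.infNbhdι (PrinPart.diagCl f) n =
      PrinPart.infNbhdι (PrinPart.diagCl f) n ≫ sW := by
    simp only [σ, PrinPart.infNbhdι, Category.assoc]
    rw [Scheme.IdealSheafData.inclusion_subschemeι]
    exact Scheme.Hom.toImage_imageι _
  haveI : Mono (PrinPart.infNbhdι (PrinPart.diagCl f) n) :=
    inferInstanceAs (Mono (I ^ (n + 1)).subschemeι)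
  have hσι : σ ≫ PrinPart.nbhdι f n = PrinPart.nbhdι f n ≫ s := by
    simp only [PrinPart.nbhdι, Category.assoc]
    rw [reassoc_of% hσ, hsW]
  refine ⟨σ, hσι, ?_, ?_, ?_, ?_⟩
  · rw [← cancel_mono (PrinPart.infNbhdι (PrinPart.diagCl f) n), Category.assoc, hσ, ← Category.assoc, hσ,
      Category.assoc, hsWsW, Category.comp_id, Category.id_comp]
  · rw [PrinPart.pr1, PrinPart.pr2, reassoc_of% hσι, pullbackSymmetry_hom_comp_fst]
  · rw [PrinPart.pr1, PrinPart.pr2, reassoc_of% hσι, pullbackSymmetry_hom_comp_snd]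
  · rw [← cancel_mono (PrinPart.infNbhdι (PrinPart.diagCl f) n), Category.assoc, hσ, ← Category.assoc,
      PrinPart.toInfNbhd_ι, hd]

end Groth.Agent.S5969
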