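import Groth.Statements.S5965
import Groth.Agent.FinFibImage.Main

set_option autoImplicit false
universe u
open CategoryTheory CategoryTheory.Limits AlgebraicGeometry TopologicalSpace Opposite
open Nrm16

namespace Groth.Agent.S5965

/-- Let g : X ⟶ Y be a morphism locally of finite type with a section f : Y ⟶ X which is a closed
immersion. Then for every n the n-th infinitesimal neighbourhood of Y in X, mapped to Y through its
inclusion into X followed by g, is finite over Y. (The published statement allows any section f and
says that the structure sheaf of the neighbourhood is a quasi-coherent O_Y-algebra which is an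
O_Y-module of finite type; this row assumes f a closed immersion and states the conclusion as
finiteness of the morphism to Y.) -/
theorem result {X Y : Scheme.{u}} (g : X ⟶ Y) [LocallyOfFiniteType g] (f : Y ⟶ X)
    [IsClosedImmersion f] (hf : f ≫ g = 𝟙 Y) (n : ℕ) :
    IsFinite (PrinPart.infNbhdι f n ≫ g) := by
  let i := PrinPart.toInfNbhd f n
  let q := PrinPart.infNbhdι f n ≫ g
  haveI : Surjective i := ⟨PrinPart.toInfNbhd_surjective f n⟩
  have hiq : i ≫ q = 𝟙 Y := by
    have h1 : i ≫ PrinPart.infNbhdι f n = f := by
      change (f.toImage ≫ Scheme.IdealSheafData.inclusion (PrinPart.ker_pow_succ_le f n)) ≫ (f.ker ^ (n + 1)).subschemeι = f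
      rw [Category.assoc, Scheme.IdealSheafData.inclusion_subschemeι]
      exact f.toImage_imageι
    rw [← Category.assoc, h1, hf]
  haveI : Surjective (pullback.diagonal q) := by
    have h : pullback.diagonal (i ≫ q) ≫ pullback.map (i ≫ q) (i ≫ q) q q i i (𝟙 _) (Category.comp_id _) (Category.comp_id _) =
        i ≫ pullback.diagonal q := by
      apply pullback.hom_ext
      · rw [Category.assoc, pullback.lift_fst, ← Category.assoc, pullback.diagonal_fst, Category.id_comp,
          Category.assoc, pullback.diagonal_fst, Category.comp_id]
      · rw [Category.assoc, pullback.lift_snd, ← Category.assoc, pullback.diagonal_snd, Category.id_comp,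
          Category.assoc, pullback.diagonal_snd, Category.comp_id]
    haveI : IsIso (i ≫ q) := by rw [hiq]; infer_instance
    haveI : Surjective (pullback.map (i ≫ q) (i ≫ q) q q i i (𝟙 _) (Category.comp_id _) (Category.comp_id _)) :=
      MorphismProperty.pullback_map (P := @Surjective) ‹_› ‹_› rfl rfl
    haveI : Surjective (i ≫ pullback.diagonal q) := by
      rw [← h]; infer_instance
    exact Surjective.of_comp i (pullback.diagonal q)
  haveI : IsSeparated q := ⟨IsClosedImmersion.of_isPreimmersion _ (by
    rw [(pullback.diagonal q).surjective.range_eq]; exact isClosed_univ)⟩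
  haveI : IsIntegralHom (i ≫ q) := by rw [hiq]; infer_instance
  haveI : IsIntegralHom q := FinFibImage.isIntegralHom_of_surjective_of_finite_fibres i q fun s => by
    rw [hiq]
    exact (Set.finite_singleton s).subset fun y hy => hy
  haveI : LocallyOfFiniteType (PrinPart.infNbhdι f n) := inferInstanceAs (LocallyOfFiniteType (f.ker ^ (n + 1)).subschemeι)
  exact (IsFinite.iff_isIntegralHom_and_locallyOfFiniteType q).mpr ⟨inferInstance, inferInstance⟩


end Groth.Agent.S5965
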