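import Groth.Statements.S5968
import Groth.Agent.S5965
import Groth.Agent.QC.Localisation
import Groth.Agent.QC.Pullback

set_option autoImplicit false
universe u
open CategoryTheory CategoryTheory.Limits AlgebraicGeometry TopologicalSpace Opposite
open Nrm16

set_option backward.isDefEq.respectTransparency false
set_option backward.isDefEq.respectTransparency.types false

namespace Groth.Agent.S5968

theorem isFinite_pr1 {X S : Scheme.{u}} (f : X ⟶ S) [LocallyOfFiniteType f] (n : ℕ) :
    IsFinite (PrinPart.pr1 f n) := by
  have h : PrinPart.diagCl f ≫ ((pullback.diagonal f).coborderRange.ι ≫ pullback.fst f f) = 𝟙 X := by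
    rw [← Category.assoc, Scheme.Hom.liftCoborder_ι, pullback.diagonal_fst]
  have := S5965.result ((pullback.diagonal f).coborderRange.ι ≫ pullback.fst f f)
    (PrinPart.diagCl f) h n
  simpa [PrinPart.pr1, PrinPart.nbhdι] using this

/-- Consider a morphism f : X ⟶ S that is locally of finite type, fix a natural number n, and suppose F
is an O_X-module which is quasi-coherent and of finite type. Regarded as an O_X-module through its
left structure, the sheaf of principal parts P^n_{X/S}(F) is again quasi-coherent and of finite
type. (The published result covers both O_X-module structures on P^n_{X/S}(F); here only the left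
one is treated, since that is the structure the sheaf of principal parts is given in this
formalization.) -/
theorem result {X S : Scheme.{u}} (f : X ⟶ S) [LocallyOfFiniteType f] (n : ℕ)
    (F : X.Modules) (hF : Coh.IsCoh F) :
    Coh.IsCoh (PrinPart.PMod f n F) := by
  haveI := isFinite_pr1 f n
  have h := QC.isCoh_pullback (PrinPart.pr2 f n) hF
  haveI := h.1
  exact QC.isCoh_pushforward_of_isFinite (PrinPart.pr1 f n) h.2

end Groth.Agent.S5968
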