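import Groth.Statements.S0679
import Groth.Agent.WContr.Finite
import Groth.Agent.WContr.Necessity
import Groth.Agent.WContr.Sufficiency

set_option autoImplicit false
open CategoryTheory CategoryTheory.Limits AlgebraicGeometry Opposite Topology
universe u
open ProEtW

namespace Groth.Agent.S0679

/-- If A → B is a finite ring map of finite presentation and A is w-contractible, then B is
w-contractible. -/
theorem result (A B : Type u) [CommRing A] [CommRing B]
    [Algebra A B] [Module.Finite A B] [Algebra.FinitePresentation A B]
    (h : EtPBC.IsWContractible A) : EtPBC.IsWContractible B := by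
  have hw := Groth.Agent.WContr.isWLocal h
  have hA := fun (m : Ideal A) [m.IsMaximal] => Groth.Agent.WContr.isStrictlyHenselian h m
  haveI := Groth.Agent.WContr.extremallyDisconnected h
  haveI := Groth.Agent.WContr.extremallyDisconnected_finite hA (B := B) hw
  intro C _ _ hff het
  exact Groth.Agent.WContr.nonempty_retraction (Groth.Agent.WContr.isWLocal_finite hA hw) fun n _ =>
    ⟨Groth.Agent.WContr.henselianLocalRing_atPrime hA n, Groth.Agent.WContr.isSepClosed_residueField hA n⟩

end Groth.Agent.S0679
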