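import Groth.Statements.S0778
import Groth.Agent.WContr.Exists

set_option autoImplicit false
open CategoryTheory CategoryTheory.Limits AlgebraicGeometry Opposite Topology
universe u
open ProEtW

namespace Groth.Agent.S0778

/-- A ring A is w-contractible (retractions for faithfully flat weakly etale algebras) if and only if
every faithfully flat ind-etale A-algebra has an A-algebra retraction. -/
theorem result (A : Type u) [CommRing A] :
    EtPBC.IsWContractible A ↔ ProEtW.HasIndEtaleRetractions A := by
  refine ⟨fun h B _ _ hff hind => h B hff (Groth.Agent.IndEtLib.weaklyEtale hind), fun h B _ _ hff het => ?_⟩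
  obtain ⟨D, _, _, hDff, hDind, hDw⟩ := Groth.Agent.WContr.exists_wContractible A
  obtain ⟨r⟩ := h D hDff hDind
  haveI := hff
  haveI := het
  obtain ⟨s⟩ := hDw (TensorProduct A D B) inferInstance inferInstance
  exact ⟨r.comp ((s.restrictScalars A).comp Algebra.TensorProduct.includeRight)⟩

end Groth.Agent.S0778
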