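import Groth.Statements.S5815
import Mathlib

set_option autoImplicit false
universe u
open EGA41

namespace Groth.Agent.S5815

/-- Discrete case. A commutative A-algebra B is formally smooth if and only if every A-extension of B by
a B-module L is trivial (has an A-algebra section). A and B are taken in one universe and L ranges
over that universe. (The published statement is for topological rings, with direct-limit classes of
extensions; this row is its discrete case.) -/
theorem result (A B : Type u) [CommRing A] [CommRing B] [Algebra A B] :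
    Algebra.FormallySmooth A B ↔
      ∀ (L : Type u) [AddCommGroup L] [Module B L] (X : Exal.Ext A B L), X.IsTrivial := by
  constructor
  · intro h L _ _ X
    have hsq : RingHom.ker X.proj ^ 2 = ⊥ := by
      rw [pow_two, ← le_bot_iff, Ideal.mul_le]
      intro r hr s hs
      obtain ⟨z, rfl⟩ := (X.isExtension.exact r).mp hr
      obtain ⟨w, rfl⟩ := (X.isExtension.exact s).mp hs
      rw [Ideal.mem_bot, X.isExtension.mul_incl, show X.proj (X.incl z) = 0 from hr, zero_smul,
        map_zero]
    let e := Ideal.quotientKerAlgEquivOfSurjective (f := X.proj) X.isExtension.proj_surjective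
    obtain ⟨s, hs⟩ := Algebra.FormallySmooth.iff_comp_surjective.mp h (RingHom.ker X.proj) hsq e.symm.toAlgHom
    refine ⟨s, fun b => ?_⟩
    have := congrArg e (AlgHom.congr_fun hs b)
    simpa [e] using this
  · intro h
    refine Algebra.FormallySmooth.iff_comp_surjective.mpr ?_
    intro C _ _ J hJ g
    have htor : Module.IsTorsionBySet C J (J : Set C) := by
      intro z a
      apply Subtype.ext
      have : (a : C) * (z : C) ∈ J ^ 2 := by
        rw [pow_two]; exact Ideal.mul_mem_mul a.2 z.2
      rw [hJ, Ideal.mem_bot] at this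
      simpa using this
    letI : Module (C ⧸ J) J := htor.module
    letI : Module B J := Module.compHom J g.toRingHom
    let E := AlgHom.equalizer ((Ideal.Quotient.mkₐ A J).comp (AlgHom.fst A C B))
      (g.comp (AlgHom.snd A C B))
    have hE : ∀ {x : C × B}, x ∈ E ↔ Ideal.Quotient.mkₐ A J x.1 = g x.2 := fun {x} => by
      simp [E, AlgHom.mem_equalizer]
    let p : E →ₐ[A] B := (AlgHom.snd A C B).comp E.val
    let i : J →+ E :=
      { toFun := fun z => ⟨((z : C), 0), hE.mpr (by simpa using Ideal.Quotient.eq_zero_iff_mem.mpr z.2)⟩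
        map_zero' := rfl
        map_add' := fun z w => by ext <;> simp }
    have hext : Exal.IsExtension p i := by
      refine ⟨fun b => ?_, fun z w hzw => ?_, fun x => ⟨fun hx => ?_, ?_⟩, fun x z => ?_⟩
      · obtain ⟨c, hc⟩ := Ideal.Quotient.mk_surjective (g b)
        exact ⟨⟨(c, b), hE.mpr hc⟩, rfl⟩
      · exact Subtype.ext (congrArg (fun t : E => t.1.1) hzw)
      · have h1 := hE.mp x.2
        have h2 : x.1.2 = 0 := hx
        rw [h2, map_zero] at h1
        exact ⟨⟨x.1.1, Ideal.Quotient.eq_zero_iff_mem.mp h1⟩, Subtype.ext (Prod.ext rfl h2.symm)⟩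
      · rintro ⟨z, rfl⟩; rfl
      · refine Subtype.ext (Prod.ext ?_ (mul_zero _))
        show x.1.1 * (z : C) = ((g (p x) • z : J) : C)
        have h1 : Ideal.Quotient.mk J x.1.1 = g (p x) := hE.mp x.2
        rw [← h1]
        rfl
    obtain ⟨s, hs⟩ := h J ⟨E, p, i, hext⟩
    let s' : B →ₐ[A] E := s
    refine ⟨(AlgHom.fst A C B).comp (E.val.comp s'), AlgHom.ext fun b => ?_⟩
    have h1 := hE.mp (s' b).2
    have h2 : (s' b).1.2 = b := hs b
    show Ideal.Quotient.mkₐ A J (s' b).1.1 = g b
    rw [h1, h2]

end Groth.Agent.S5815
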