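import Groth.Statements.S2039
-- import your own Groth.Agent.* helpers here
import Groth.Agent.GRingCpl.FSFlat
import Groth.Agent.GRingCpl.RegFS
import Groth.Agent.GRingCpl.Andre

set_option autoImplicit false
universe u
open CAlg

namespace Groth.Agent.S2039

/-- A local homomorphism `A → B` of Noetherian complete local rings is a regular ring map (flat with
Noetherian geometrically regular fibres) if and only if it is formally smooth for the adic topology
of the maximal ideal of `B`. -/
theorem result {A B : Type u} [CommRing A] [CommRing B]
    [IsLocalRing A] [IsLocalRing B] [IsNoetherianRing A] [IsNoetherianRing B]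
    [IsAdicComplete (IsLocalRing.maximalIdeal A) A] [IsAdicComplete (IsLocalRing.maximalIdeal B) B]
    [Algebra A B] [IsLocalHom (algebraMap A B)] :
    CAlg.IsRegularHom A B ↔ CAlgX.IsAdicFormallySmooth A B (IsLocalRing.maximalIdeal B) := by
  have hle : (IsLocalRing.maximalIdeal A).map (algebraMap A B) ≤ IsLocalRing.maximalIdeal B :=
    Ideal.map_le_iff_le_comap.mpr fun a ha => map_nonunit (algebraMap A B) a ha
  refine ⟨fun h => ?_, fun h => ?_⟩
  · haveI := h.1
    exact GRingCpl.isAdicFormallySmooth_of_maximal _ _ hle
      (GRingCpl.isFormallySmoothAdic_of_closedFibre (h.2 (IsLocalRing.maximalIdeal A)).2)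
  · haveI := GRingCpl.flat_of_adicFormallySmooth h
    exact GRingCpl.isRegularHom_of_closedFibre (GRingCpl.geomRegular_closedFibre_of_adicFormallySmooth h)

end Groth.Agent.S2039
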