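import Groth.Statements.S4533
-- import your own Groth.Agent.* helpers here
import Groth.Agent.EGA41FS.PowerSeries

set_option autoImplicit false
universe u
open EGA41

namespace Groth.Agent.S4533

/-- Let A carry the 𝔞-adic topology and let B = A[[T_1, …, T_n]] carry the product topology, i.e. the
adic topology of the ideal 𝔞B + (T_1, …, T_n) (the kernel of the constant-coefficient map added to
the extension of 𝔞). Then B is a formally smooth A-algebra for these topologies. (The published
statement allows any linearly topologized base ring and any set of indeterminates with the product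
topology; this row takes an adic base and finitely many indeterminates, where the product topology
is adic.) -/
theorem result (A : Type u) [CommRing A] (𝔞 : Ideal A) (n : ℕ) :
    EGA41.IsFormallySmoothAdic A 𝔞 (MvPowerSeries (Fin n) A)
      (𝔞.map (MvPowerSeries.C : A →+* MvPowerSeries (Fin n) A) ⊔
        RingHom.ker (MvPowerSeries.constantCoeff : MvPowerSeries (Fin n) A →+* A)) := by
  intro C _ _ J hJ hC u hu
  choose z hz using fun i => Ideal.Quotient.mk_surjective (u (MvPowerSeries.X i))
  obtain ⟨r, hr⟩ := hJ
  have hnil : ∀ i, IsNilpotent (z i) := fun i => by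
    obtain ⟨m, hm⟩ := Groth.Agent.EGA41FS.isNilpotent_of_continuous 𝔞 u hu i
    refine ⟨m * r, ?_⟩
    rw [← hz i, ← map_pow, Ideal.Quotient.eq_zero_iff_mem] at hm
    have := Ideal.pow_mem_pow hm r
    rw [← pow_mul, hr] at this
    exact this
  refine ⟨Groth.Agent.ArtPow.evalNil z hnil, (Groth.Agent.EGA41FS.algHom_ext_nilpotent
    (fun i => Groth.Agent.EGA41FS.isNilpotent_of_continuous 𝔞 u hu i) fun i => ?_).symm⟩
  rw [AlgHom.comp_apply, Groth.Agent.ArtPow.evalNil_X, ← hz i]
  rfl

end Groth.Agent.S4533
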