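import Groth.Statements.S6283
import Mathlib.RingTheory.Flat.Basic
import Mathlib.LinearAlgebra.TensorProduct.RightExactness
import Mathlib.LinearAlgebra.TensorProduct.Pi
import Mathlib.RingTheory.Finiteness.Basic

set_option autoImplicit false
universe u
open scoped TensorProduct
open CAlg

namespace Groth.Agent.S6283

/-- Let R → S be a flat ring map, M an R-module and m ∈ M. Then Ann_R(m)S = Ann_S(1 ⊗ m), the
annihilator in S of the element 1 ⊗ m of S ⊗_R M. If moreover M is a finite R-module then Ann_R(M)S
= Ann_S(S ⊗_R M). -/
theorem result {R S : Type u} [CommRing R] [CommRing S] [Algebra R S] [Module.Flat R S] (M : Type u) [AddCommGroup M] [Module R M] : (∀ m : M, ((Submodule.span R {m}).annihilator).map (algebraMap R S) = (Submodule.span S {(1 : S) ⊗ₜ[R] m}).annihilator) ∧ (Module.Finite R M → (Module.annihilator R M).map (algebraMap R S) = Module.annihilator S (S ⊗[R] M)) := by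
  have one : ∀ (X : Type u) [AddCommGroup X] [Module R X] (x : X),
      ((Submodule.span R {x}).annihilator).map (algebraMap R S) = (Submodule.span S {(1 : S) ⊗ₜ[R] x}).annihilator := by
    intro X _ _ x
    let φ : R →ₗ[R] X := LinearMap.toSpanSingleton R X x
    refine le_antisymm ?_ fun s hs => ?_
    · rw [Ideal.map_le_iff_le_comap]
      intro r hr
      rw [Ideal.mem_comap, Submodule.mem_annihilator_span_singleton, TensorProduct.smul_tmul', algebraMap_smul,
        TensorProduct.smul_tmul, Submodule.mem_annihilator_span_singleton _ _ |>.1 hr, TensorProduct.tmul_zero]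
    · rw [Submodule.mem_annihilator_span_singleton, TensorProduct.smul_tmul', smul_eq_mul, mul_one] at hs
      have hexact := Module.Flat.lTensor_exact S (LinearMap.exact_subtype_ker_map φ)
      obtain ⟨z, hz⟩ := (hexact (s ⊗ₜ[R] (1 : R))).1 (by rw [LinearMap.lTensor_tmul]; show s ⊗ₜ[R] ((1 : R) • x) = 0; rw [one_smul]; exact hs)
      have key : ∀ w, TensorProduct.rid R S ((LinearMap.ker φ).subtype.lTensor S w) ∈
          ((Submodule.span R {x}).annihilator).map (algebraMap R S) := fun w => by
        induction w using TensorProduct.induction_on with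
        | zero => rw [map_zero, map_zero]; exact zero_mem _
        | tmul a b =>
          rw [LinearMap.lTensor_tmul, TensorProduct.rid_tmul, Algebra.smul_def]
          exact Ideal.mul_mem_right _ _ (Ideal.mem_map_of_mem _ ((Submodule.mem_annihilator_span_singleton _ _).2 b.2))
        | add a b ha hb => rw [map_add, map_add]; exact add_mem ha hb
      have h := key z
      rwa [hz, TensorProduct.rid_tmul, one_smul] at h
  refine ⟨one M, fun hfin => ?_⟩
  classical
  obtain ⟨n, v, hv⟩ := Module.Finite.exists_fin (R := R) (M := M)
  have h1 : Module.annihilator R M = (Submodule.span R {v}).annihilator := by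
    ext r
    rw [Submodule.mem_annihilator_span_singleton, Module.mem_annihilator]
    refine ⟨fun h => funext fun i => h (v i), fun h x => ?_⟩
    obtain ⟨c, rfl⟩ := (Submodule.mem_span_range_iff_exists_fun R).1 (hv.ge (Submodule.mem_top (x := x)))
    rw [Finset.smul_sum]
    exact Finset.sum_eq_zero fun i _ => by rw [smul_comm, show r • v i = 0 from congr_fun h i, smul_zero]
  rw [h1, one]
  ext s
  rw [Submodule.mem_annihilator_span_singleton, Module.mem_annihilator]
  refine ⟨fun h z => ?_, fun h => (TensorProduct.piRight R S S (fun _ : Fin n => M)).injective (funext fun i => ?_)⟩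
  · have hi : ∀ i, s • ((1 : S) ⊗ₜ[R] v i) = 0 := fun i => by
      have h2 := congr_fun (congrArg (TensorProduct.piRight R S S (fun _ : Fin n => M)) h) i
      rw [map_smul, map_zero, Pi.smul_apply, TensorProduct.piRight_apply] at h2
      simpa using h2
    induction z using TensorProduct.induction_on with
    | zero => rw [smul_zero]
    | tmul a x =>
      obtain ⟨c, rfl⟩ := (Submodule.mem_span_range_iff_exists_fun R).1 (hv.ge (Submodule.mem_top (x := x)))
      rw [TensorProduct.tmul_sum, Finset.smul_sum]
      refine Finset.sum_eq_zero fun i _ => ?_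
      rw [show a ⊗ₜ[R] (c i • v i) = (c i • a) • ((1 : S) ⊗ₜ[R] v i) by
        rw [TensorProduct.tmul_smul, TensorProduct.smul_tmul', TensorProduct.smul_tmul', smul_eq_mul, mul_one],
        smul_comm, hi i, smul_zero]
    | add a b ha hb => rw [smul_add, ha, hb, add_zero]
  · rw [map_smul, map_zero, Pi.smul_apply, TensorProduct.piRight_apply]
    simpa using h ((1 : S) ⊗ₜ[R] v i)

end Groth.Agent.S6283
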