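import Mathlib

/-!
# Isometries of finite order of anisotropic quadratic forms
-/

set_option autoImplicit false
universe u v
open Polynomial

namespace Groth.Agent.QuadAniso

variable {K : Type u} [Field K] {V : Type v} [AddCommGroup V] [Module K V]

/-- An isometry of an anisotropic form has no non-trivial Jordan block. -/
theorem fixed_of_sub_fixed (h2 : (2 : K) ≠ 0) (q : QuadraticForm K V) (hq : q.Anisotropic)
    (h : V →ₗ[K] V) (hh : ∀ x, q (h x) = q x) (x y : V) (hx : h x = x + y) (hy : h y = y) : y = 0 := by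
  have h1 : q (x + y) = q x := by rw [← hx]; exact hh x
  have h3 : q (x + y + y) = q (x + y) := by
    have := hh (x + y)
    rwa [map_add, hx, hy] at this
  rw [QuadraticMap.map_add (f := q) (x + y) y, QuadraticMap.polar_add_left, h1, QuadraticMap.polar_self] at h3
  rw [QuadraticMap.map_add (f := q) x y] at h1
  refine hq y ?_
  have h4 : (2 : K) * q y = 0 := by
    simp only [nsmul_eq_mul, Nat.cast_ofNat] at h3
    linear_combination h3 - h1
  exact (mul_eq_zero.1 h4).resolve_left h2

theorem sq_eq_one (hK : ∀ n : ℕ, 0 < n → (X ^ n - 1 : K[X]).Splits) (h2 : (2 : K) ≠ 0)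
    (q : QuadraticForm K V) (hq : q.Anisotropic) (g : V ≃ₗ[K] V) (hg : ∀ x : V, q (g x) = q x) (d : ℕ)
    (hd : 0 < d) (hgd : g ^ d = 1) : g ^ 2 = 1 := by
  classical
  let T : Module.End K V := g.toLinearMap
  have hT : ∀ x, T x = g x := fun _ => rfl
  have key : ∀ (s : Multiset K) (x : V), aeval T (s.map fun a => X - C a).prod x = 0 → g (g x) = x := by
    intro s
    induction s using Multiset.induction_on with
    | empty => intro x hx; simp at hx; simp [hx]
    | cons a s ih =>
      intro x hx
      rw [Multiset.map_cons, Multiset.prod_cons, mul_comm, map_mul, Module.End.mul_apply] at hx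
      have h1 := ih _ hx
      simp [Module.algebraMap_end_apply, hT] at h1
      set y := g (g x) - x with hy
      have hgy : g y = a • y := by
        rw [hy, map_sub, smul_sub]
        linear_combination (norm := abel) h1
      suffices hy0 : y = 0 from sub_eq_zero.1 hy0
      by_cases ha : a * a = 1
      · refine fixed_of_sub_fixed h2 q hq (g.toLinearMap ∘ₗ g.toLinearMap) (fun z => by simp [hg]) x y ?_ ?_
        · simp [hy]
        · simp [hgy, smul_smul, ha]
      · refine hq y ?_
        have h3 := hg y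
        rw [hgy, QuadraticMap.map_smul, smul_eq_mul] at h3
        have h4 : (a * a - 1) * q y = 0 := by linear_combination h3
        exact (mul_eq_zero.1 h4).resolve_left (sub_ne_zero.2 ha)
  ext x
  rw [pow_two]
  refine key (X ^ d - 1 : K[X]).roots x ?_
  rw [← (hK d hd).eq_prod_roots_of_monic (show (X ^ d - 1 : K[X]).Monic by simpa using monic_X_pow_sub_C (1 : K) hd.ne')]
  have hpow : ∀ (n : ℕ) (z : V), (T ^ n) z = (g ^ n) z := by
    intro n
    induction n with
    | zero => intro z; rfl
    | succ n ih => intro z; rw [pow_succ, pow_succ, Module.End.mul_apply, ih]; rfl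
  simp [map_sub, hpow, hgd]

/-- A finite group of isometries of exponent two has at most `2 ^ dim` elements. -/
theorem card_le (K : Type u) [Field K] (h2 : (2 : K) ≠ 0) : ∀ (n : ℕ) (V : Type v) [AddCommGroup V] [Module K V]
    [FiniteDimensional K V] (_ : Module.finrank K V ≤ n) (S : Set (V →ₗ[K] V)) (_ : S.Finite)
    (_ : ∀ g ∈ S, g ∘ₗ g = LinearMap.id) (_ : ∀ g ∈ S, ∀ h ∈ S, g ∘ₗ h = h ∘ₗ g),
    S.ncard ≤ 2 ^ Module.finrank K V := by
  classical
  intro n
  induction n with
  | zero =>
    intro V _ _ _ hn S _ _ _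
    have hsub : Subsingleton V := Module.finrank_zero_iff.1 (Nat.le_zero.1 hn)
    calc S.ncard ≤ 1 := Set.ncard_le_one_of_subsingleton S
      _ ≤ _ := Nat.one_le_two_pow
  | succ n ih =>
    intro V _ _ _ hn S hfin hsq hcomm
    by_cases hs : ∀ g ∈ S, g = LinearMap.id ∨ g = -LinearMap.id
    · rcases Nat.eq_zero_or_pos (Module.finrank K V) with h0 | h0
      · have hsub : Subsingleton V := Module.finrank_zero_iff.1 h0
        exact (Set.ncard_le_one_of_subsingleton S).trans Nat.one_le_two_pow
      · calc S.ncard ≤ ({LinearMap.id, -LinearMap.id} : Set (V →ₗ[K] V)).ncard :=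
              Set.ncard_le_ncard (fun g hg => by simpa using hs g hg) (Set.toFinite _)
          _ ≤ 2 := (Set.ncard_insert_le _ _).trans (by simp)
          _ ≤ _ := Nat.le_self_pow h0.ne' 2
    push Not at hs
    obtain ⟨g, hg, hg1, hg2⟩ := hs
    have hgg : ∀ x, g (g x) = x := fun x => LinearMap.congr_fun (hsq g hg) x
    let P := LinearMap.ker (g - LinearMap.id)
    let N := LinearMap.ker (g + LinearMap.id)
    have hP : ∀ {x}, x ∈ P ↔ g x = x := by intro x; simp [P, sub_eq_zero]
    have hN : ∀ {x}, x ∈ N ↔ g x = -x := by intro x; simp [N, add_eq_zero_iff_eq_neg]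
    have hdec : ∀ x : V, ∃ a ∈ P, ∃ b ∈ N, x = a + b := fun x =>
      ⟨(2 : K)⁻¹ • (x + g x), hP.2 (by simp [hgg, add_comm]), (2 : K)⁻¹ • (x - g x),
        hN.2 (by simp [hgg, ← smul_neg]), by
        rw [← smul_add, show x + g x + (x - g x) = (2 : K) • x by rw [two_smul]; abel, inv_smul_smul₀ h2]⟩
    have hinf : P ⊓ N = ⊥ := by
      rw [eq_bot_iff]
      rintro x ⟨hxP, hxN⟩
      have : (2 : K) • x = 0 := by
        rw [two_smul]
        nth_rewrite 1 [← hP.1 hxP]
        rw [hN.1 hxN, neg_add_cancel]
      simpa [h2] using this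
    have hsup : P ⊔ N = ⊤ := eq_top_iff.2 fun x _ => by
      obtain ⟨a, ha, b, hb, rfl⟩ := hdec x
      exact Submodule.add_mem_sup ha hb
    have hdim : Module.finrank K P + Module.finrank K N = Module.finrank K V := by
      have := Submodule.finrank_sup_add_finrank_inf_eq P N
      rw [hinf, hsup, finrank_bot, finrank_top] at this
      omega
    have hPlt : Module.finrank K P < Module.finrank K V := Submodule.finrank_lt fun h => hg1
      (LinearMap.ext fun x => hP.1 (h ▸ Submodule.mem_top))
    have hNlt : Module.finrank K N < Module.finrank K V := Submodule.finrank_lt fun h => hg2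
      (LinearMap.ext fun x => by simpa using hN.1 (h ▸ Submodule.mem_top))
    have hPmem : ∀ h ∈ S, ∀ x ∈ P, h x ∈ P := fun h hh x hx => hP.2 (by
      have := LinearMap.congr_fun (hcomm g hg h hh) x
      simpa [hP.1 hx] using this)
    have hNmem : ∀ h ∈ S, ∀ x ∈ N, h x ∈ N := fun h hh x hx => hN.2 (by
      have := LinearMap.congr_fun (hcomm g hg h hh) x
      simpa [hN.1 hx] using this)
    let rP : S → (P →ₗ[K] P) := fun h => h.1.restrict (hPmem h.1 h.2)
    let rN : S → (N →ₗ[K] N) := fun h => h.1.restrict (hNmem h.1 h.2)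
    haveI := hfin.to_subtype
    have bP := ih P (by omega) (Set.range rP) (Set.finite_range _)
      (by rintro _ ⟨h, rfl⟩; ext x; exact LinearMap.congr_fun (hsq h.1 h.2) x)
      (by rintro _ ⟨a, rfl⟩ _ ⟨b, rfl⟩; ext x; exact LinearMap.congr_fun (hcomm a.1 a.2 b.1 b.2) x)
    have bN := ih N (by omega) (Set.range rN) (Set.finite_range _)
      (by rintro _ ⟨h, rfl⟩; ext x; exact LinearMap.congr_fun (hsq h.1 h.2) x)
      (by rintro _ ⟨a, rfl⟩ _ ⟨b, rfl⟩; ext x; exact LinearMap.congr_fun (hcomm a.1 a.2 b.1 b.2) x)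
    have hinj : Function.Injective fun h : S => ((⟨rP h, h, rfl⟩ : Set.range rP), (⟨rN h, h, rfl⟩ : Set.range rN)) := by
      intro a b hab
      simp only [Prod.mk.injEq, Subtype.mk.injEq] at hab
      refine Subtype.ext (LinearMap.ext fun x => ?_)
      obtain ⟨u, hu, w, hw, rfl⟩ := hdec x
      have e1 := congrArg Subtype.val (LinearMap.congr_fun hab.1 ⟨u, hu⟩)
      have e2 := congrArg Subtype.val (LinearMap.congr_fun hab.2 ⟨w, hw⟩)
      simp only [map_add]
      exact congrArg₂ (· + ·) e1 e2
    rw [← hdim, pow_add]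
    refine le_trans ?_ (Nat.mul_le_mul bP bN)
    rw [← Nat.card_coe_set_eq, ← Nat.card_coe_set_eq, ← Nat.card_coe_set_eq, ← Nat.card_prod]
    exact Nat.card_le_card_of_injective _ hinj

end Groth.Agent.QuadAniso
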