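import Groth.Statements.S9839
import Groth.Agent.FpqcDescent.Props

set_option autoImplicit false
open CategoryTheory CategoryTheory.Limits AlgebraicGeometry Opposite
universe u
open Desc

namespace Groth.Agent.S9839

/-- Let f i : T i ⟶ T be an fpqc covering family of a scheme T (a family in the fpqc precoverage) and W
i ⊆ T i open subsets such that for all i, j the inverse images of W i and W j under the two
projections of T i ×_T T j coincide. Then there is a unique open subset W ⊆ T with (f i)⁻¹(W) = W i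
for every i. -/
theorem result {ι : Type u} {T : Scheme.{u}} {Ti : ι → Scheme.{u}}
    (f : ∀ i, Ti i ⟶ T) (hf : Presieve.ofArrows Ti f ∈ Scheme.fpqcPrecoverage T)
    (W : ∀ i, (Ti i).Opens)
    (hW : ∀ i j, (pullback.fst (f i) (f j)) ⁻¹ᵁ (W i) = (pullback.snd (f i) (f j)) ⁻¹ᵁ (W j)) :
    ∃! V : T.Opens, ∀ i, (f i) ⁻¹ᵁ V = W i := by
  obtain ⟨V, hVo, hV⟩ : ∃ V : Set T, IsOpen V ∧ ∀ i, (f i) ⁻¹' V = W i := by
    have hV : ∀ i, (f i) ⁻¹' (⋃ j, (f j) '' (W j : Set (Ti j))) = W i := by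
      intro i
      ext x
      refine ⟨fun hx ↦ ?_, fun hx ↦ Set.mem_iUnion.mpr ⟨i, x, hx, rfl⟩⟩
      obtain ⟨j, y, hy, e⟩ := Set.mem_iUnion.mp hx
      obtain ⟨z, hz₁, hz₂⟩ := Scheme.Pullback.exists_preimage_pullback (f := f i) (g := f j) x y e.symm
      have hz : z ∈ (pullback.snd (f i) (f j)) ⁻¹ᵁ (W j) := by
        change pullback.snd (f i) (f j) z ∈ W j
        rw [hz₂]; exact hy
      rw [← hW i j] at hz
      change pullback.fst (f i) (f j) z ∈ W i at hz
      rwa [hz₁] at hz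
    exact ⟨_, Groth.Agent.FpqcDescent.isOpen_of_fpqcPrecoverage hf _
      (fun S' g hg ↦ by cases hg with | mk i => rw [hV i]; exact (W i).2), hV⟩
  refine ⟨⟨V, hVo⟩, fun i ↦ TopologicalSpace.Opens.ext (hV i), fun V' hV' ↦ ?_⟩
  obtain ⟨hsurj, -⟩ := (Scheme.ofArrows_mem_precoverage_iff _).mp hf.2
  ext t
  obtain ⟨i, y, hy⟩ := hsurj t
  subst hy
  change f i y ∈ V' ↔ f i y ∈ V
  rw [← Set.mem_preimage (s := V), hV i, ← hV' i]
  rfl

end Groth.Agent.S9839
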