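import Groth.Statements.S12243
import Groth.Agent.RG.Dev.DevBCFamily
import Groth.Agent.RG.Dev.DevBC
import Groth.Agent.RG.Dev.Spread

set_option autoImplicit false
open Groth.Agent
open TensorProduct
attribute [local instance] Algebra.TensorProduct.rightAlgebra
set_option maxHeartbeats 1000000
universe u
open FlatMor

namespace Groth.Agent.S12243

open TensorProduct in
/-- All schemes are affine; the base-changed complete dévissage is asserted to exist with its pieces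
pinned as base changes. Let R → S be of finite type, N a finite S-module, p a prime of R and 𝒟 a
complete dévissage of N/S/R over p in the prelude's algebraic form (rings A_i, smooth R-algebras B_i
with pB_i prime and geometrically irreducible fibres, finite A_i-modules M_i with N ≅ M_0, maps α_i
from finite free B_i-modules, bijective on the fibre at pB_i, whose cokernels are the next modules,
the last one surjective; steps indexed by i below the length). Let R → R' be a ring map, p' a prime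
of R' over p, S' the base change of S and N' = N ⊗_S S'. Then N'/S'/R' has a complete dévissage 𝒟'
over p' of the same length and the same ranks whose pieces are base changes of those of 𝒟: for the
steps i below the length there are algebra structures making A'_i and B'_i the base changes of A_i
and B_i along R → R', compatibly with B_i → A_i, with B_i → A_{i+1}, with S → A_0 and with S' →
A'_0, and A_i-linear base-change maps M_i → M'_i (M'_i ≅ M_i ⊗_{A_i} A'_i) carrying N ≅ M_0 to N' ≅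
M'_0 and the image of α_i onto a generating set of the image of α'_i. (The published statement
base-changes all the data functorially; here the identifications of cokernels inside 𝒟' are not
required to be the base-changed ones.) -/
theorem result
    (R S : Type u) [CommRing R] [CommRing S] [Algebra R S] [Algebra.FiniteType R S]
    (N : Type u) [AddCommGroup N] [Module S N] [Module.Finite S N]
    (p : Ideal R) [p.IsPrime] (𝒟 : FlatCA.CompleteDevissage R S N p)
    (R' : Type u) [CommRing R'] [Algebra R R'] (p' : Ideal R') [p'.IsPrime] [p'.LiesOver p]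
    (S' : Type u) [CommRing S'] [Algebra R' S'] [Algebra R S'] [Algebra S S'] [IsScalarTower R R' S']
    [IsScalarTower R S S'] [Algebra.IsPushout R R' S S']
    (N' : Type u) [AddCommGroup N'] [Module S' N'] [Module S N'] [IsScalarTower S S' N']
    (f : N →ₗ[S] N') (hf : IsBaseChange S' f) :
    ∃ (𝒟' : FlatCA.CompleteDevissage R' S' N' p')
      (aA : ∀ i : Fin 𝒟.n, Algebra (𝒟.A i) (𝒟'.A i)) (rA : ∀ i : Fin 𝒟.n, Algebra R (𝒟'.A i))
      (_t1 : ∀ i : Fin 𝒟.n, IsScalarTower R (R') (𝒟'.A i)) (_t2 : ∀ i : Fin 𝒟.n, IsScalarTower R (𝒟.A i) (𝒟'.A i))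
      (aB : ∀ i : Fin 𝒟.n, Algebra (𝒟.B i) (𝒟'.B i)) (rB : ∀ i : Fin 𝒟.n, Algebra R (𝒟'.B i))
      (_t3 : ∀ i : Fin 𝒟.n, IsScalarTower R (R') (𝒟'.B i)) (_t4 : ∀ i : Fin 𝒟.n, IsScalarTower R (𝒟.B i) (𝒟'.B i))
      (bA : ∀ i : Fin 𝒟.n, Algebra (𝒟.B i) (𝒟'.A i)) (_t5 : ∀ i : Fin 𝒟.n, IsScalarTower (𝒟.B i) (𝒟.A i) (𝒟'.A i))
      (_t6 : ∀ i : Fin 𝒟.n, IsScalarTower (𝒟.B i) (𝒟'.B i) (𝒟'.A i))
      (bA' : ∀ i : Fin 𝒟.n, Algebra (𝒟.B i) (𝒟'.A (i + 1)))
      (_t7 : ∀ i : Fin 𝒟.n, IsScalarTower (𝒟.B i) (𝒟'.B i) (𝒟'.A (i + 1)))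
      (sA : Algebra S (𝒟'.A 0)) (_t8 : IsScalarTower S (S') (𝒟'.A 0))
      (mA : ∀ i : Fin 𝒟.n, Module (𝒟.A i) (𝒟'.M i)) (_t9 : ∀ i : Fin 𝒟.n, IsScalarTower (𝒟.A i) (𝒟'.A i) (𝒟'.M i))
      (gM : ∀ i : Fin 𝒟.n, 𝒟.M i →ₗ[𝒟.A i] 𝒟'.M i),
      𝒟'.n = 𝒟.n ∧ 𝒟'.r = 𝒟.r ∧
      (letI := aA ⟨0, 𝒟.pos⟩; IsScalarTower S (𝒟.A 0) (𝒟'.A 0)) ∧
      (∀ x : N, 𝒟'.isoN (f x) = gM ⟨0, 𝒟.pos⟩ (𝒟.isoN x)) ∧
      (∀ (i : Fin 𝒟.n) (h : (i : ℕ) + 1 < 𝒟.n),
        letI := aA ⟨i + 1, h⟩; IsScalarTower (𝒟.B i) (𝒟.A (i + 1)) (𝒟'.A (i + 1))) ∧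
      ∀ i : Fin 𝒟.n,
        Algebra.IsPushout R R' (𝒟.A i) (𝒟'.A i) ∧ Algebra.IsPushout R R' (𝒟.B i) (𝒟'.B i) ∧
        IsBaseChange (𝒟'.A i) (gM i) ∧
        LinearMap.range (𝒟'.α i) =
          Submodule.span (𝒟'.B i) ((gM i) '' (LinearMap.range (𝒟.α i) : Set (𝒟.M i))) := by
  classical
  let n := 𝒟.n
  obtain ⟨F⟩ := RG.Dev.DevBC.exists_family R R' p' n 𝒟.A 𝒟.B
  let gA : ∀ i, 𝒟.M i →ₗ[𝒟.A i] F.A' i ⊗[𝒟.A i] 𝒟.M i := fun i => TensorProduct.mk (𝒟.A i) (F.A' i) (𝒟.M i) 1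
  have hA := F.pA
  let ψ : S' →ₐ[R'] F.A' 0 :=
    (haveI := hA 0 𝒟.pos
     (Algebra.IsPushout.equiv R R' (𝒟.A 0) (F.A' 0)).toAlgHom).comp
    ((Algebra.TensorProduct.map (AlgHom.id R' R') (IsScalarTower.toAlgHom R S (𝒟.A 0))).comp
      (Algebra.IsPushout.equiv R R' S S').symm.toAlgHom)
  letI aSA : Algebra S' (F.A' 0) := ψ.toRingHom.toAlgebra
  haveI tSA : IsScalarTower R' S' (F.A' 0) := IsScalarTower.of_algebraMap_eq fun r => (ψ.commutes r).symm
  letI bAo : ∀ i, Algebra (𝒟.B i) (F.A' i) := fun i =>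
    ((algebraMap (𝒟.A i) (F.A' i)).comp (algebraMap (𝒟.B i) (𝒟.A i))).toAlgebra
  haveI tAo : ∀ i, IsScalarTower (𝒟.B i) (𝒟.A i) (F.A' i) := fun i => IsScalarTower.of_algebraMap_eq fun _ => rfl
  letI bAo' : ∀ i, Algebra (𝒟.B i) (F.A' (i + 1)) := fun i =>
    ((algebraMap (𝒟.A (i + 1)) (F.A' (i + 1))).comp (algebraMap (𝒟.B i) (𝒟.A (i + 1)))).toAlgebra
  haveI tAo' : ∀ i, IsScalarTower (𝒟.B i) (𝒟.A (i + 1)) (F.A' (i + 1)) := fun i =>
    IsScalarTower.of_algebraMap_eq fun _ => rfl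
  letI sAo : Algebra S (F.A' 0) := ((algebraMap (𝒟.A 0) (F.A' 0)).comp (algebraMap S (𝒟.A 0))).toAlgebra
  haveI hS0' : IsScalarTower S (𝒟.A 0) (F.A' 0) := IsScalarTower.of_algebraMap_eq fun _ => rfl
  haveI : ∀ i, SMulCommClass (𝒟.A i) (F.B' i) (F.A' i) := fun i => ⟨fun a b x => by
    simp only [Algebra.smul_def]; exact mul_left_comm _ _ _⟩
  haveI : ∀ i, SMulCommClass (𝒟.A (i + 1)) (F.B' i) (F.A' (i + 1)) := fun i => ⟨fun a b x => by
    simp only [Algebra.smul_def]; exact mul_left_comm _ _ _⟩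
  haveI : SMulCommClass (𝒟.A 0) S' (F.A' 0) := ⟨fun a b x => by simp only [Algebra.smul_def]; exact mul_left_comm _ _ _⟩
  choose bB tB pB cB cB' using F.pB
  have hcoord : ∀ i (hi : i < n), letI := bB i hi; ∃ e : F.B' i ⊗[𝒟.B i] 𝒟.M i ≃ₗ[F.B' i] F.A' i ⊗[𝒟.A i] 𝒟.M i,
      ∀ m, e ((1 : F.B' i) ⊗ₜ m) = (1 : F.A' i) ⊗ₜ m := by
    intro i hi
    letI := bB i hi
    haveI := tB i hi
    haveI := pB i hi
    haveI := hA i hi
    haveI : IsScalarTower (𝒟.B i) (F.B' i) (F.A' i) := IsScalarTower.of_algebraMap_eq fun b => by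
      rw [cB i hi b, ← IsScalarTower.algebraMap_apply]
    haveI : IsScalarTower R (F.B' i) (F.A' i) := IsScalarTower.of_algebraMap_eq fun r => by
      rw [IsScalarTower.algebraMap_apply R R' (F.B' i), ← IsScalarTower.algebraMap_apply R' (F.B' i) (F.A' i),
        ← IsScalarTower.algebraMap_apply R R' (F.A' i)]
    haveI : Algebra.IsPushout R (𝒟.A i) R' (F.A' i) := Algebra.IsPushout.symm inferInstance
    haveI : Algebra.IsPushout R (𝒟.B i) R' (F.B' i) := Algebra.IsPushout.symm inferInstance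
    haveI : Algebra.IsPushout (𝒟.B i) (𝒟.A i) (F.B' i) (F.A' i) :=
      (Algebra.IsPushout.comp_iff R (𝒟.B i) R' (F.B' i) (T := 𝒟.A i) (T' := F.A' i)).1 inferInstance
    haveI : Algebra.IsPushout (𝒟.B i) (F.B' i) (𝒟.A i) (F.A' i) := Algebra.IsPushout.symm inferInstance
    exact ⟨(Algebra.IsPushout.cancelBaseChange (𝒟.B i) (F.B' i) (𝒟.A i) (F.A' i) (𝒟.M i)).symm, fun m => by
      rw [Algebra.IsPushout.cancelBaseChange_symm_tmul, map_one]⟩
  choose eM heM using hcoord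
  let α' : ∀ i, (Fin (𝒟.r i) → F.B' i) →ₗ[F.B' i] F.A' i ⊗[𝒟.A i] 𝒟.M i := fun i =>
    if hi : i < n then (letI := bB i hi; RG.Dev.DevBC.mapFree (eM i hi) (𝒟.α i)) else 0
  have hp' : ∀ i, (p'.map (algebraMap R' (F.B' i))).IsPrime := fun i => by
    by_cases hi : i < n
    · letI := bB i hi
      haveI := tB i hi
      haveI := pB i hi
      haveI := 𝒟.smooth i hi
      haveI : Algebra.Smooth R' (F.B' i) := Algebra.Smooth.of_equiv (Algebra.IsPushout.equiv R R' (𝒟.B i) (F.B' i))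
      have hp := AlgebraicGeometry.isPullback_SpecMap_of_isPushout _ _ _ _
        (CommRingCat.isPushout_of_isPushout R R' (𝒟.B i) (F.B' i))
      exact RG.Dev.DevBC.map_isPrime (CategoryTheory.MorphismProperty.of_isPullback
        (P := @AlgebraicGeometry.GeometricallyIrreducible) hp.flip (𝒟.geomIrred i hi)) p'
    · exact F.prime i (not_lt.1 hi)
  haveI hS0 : IsScalarTower S (𝒟.A 0) (F.A' 0) := inferInstance
  haveI tSS : IsScalarTower S S' (F.A' 0) := IsScalarTower.of_algebraMap_eq fun s => by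
    have h3 : (Algebra.IsPushout.equiv R R' S S').symm (algebraMap S S' s) = (1 : R') ⊗ₜ[R] s := by
      rw [AlgEquiv.symm_apply_eq, Algebra.IsPushout.equiv_tmul, map_one, one_mul]
    haveI := hA 0 𝒟.pos
    show algebraMap S (F.A' 0) s = Algebra.IsPushout.equiv R R' (𝒟.A 0) (F.A' 0)
      (Algebra.TensorProduct.map (AlgHom.id R' R') (IsScalarTower.toAlgHom R S (𝒟.A 0))
        ((Algebra.IsPushout.equiv R R' S S').symm (algebraMap S S' s)))
    rw [h3, Algebra.TensorProduct.map_tmul, Algebra.IsPushout.equiv_tmul, map_one, map_one, one_mul]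
    rfl
  haveI := hA 0 𝒟.pos
  haveI : IsScalarTower R S' (F.A' 0) := IsScalarTower.of_algebraMap_eq fun r => by
    rw [IsScalarTower.algebraMap_apply R R' S', ← IsScalarTower.algebraMap_apply R' S' (F.A' 0),
      ← IsScalarTower.algebraMap_apply R R' (F.A' 0)]
  haveI : Algebra.IsPushout R S R' S' := Algebra.IsPushout.symm inferInstance
  haveI : Algebra.IsPushout R (𝒟.A 0) R' (F.A' 0) := Algebra.IsPushout.symm inferInstance
  haveI : Algebra.IsPushout S (𝒟.A 0) S' (F.A' 0) :=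
    (Algebra.IsPushout.comp_iff R S R' S' (T := 𝒟.A 0) (T' := F.A' 0)).1 inferInstance
  haveI : Algebra.IsPushout S S' (𝒟.A 0) (F.A' 0) := Algebra.IsPushout.symm inferInstance
  let iso' : N' ≃ₗ[S'] F.A' 0 ⊗[𝒟.A 0] 𝒟.M 0 :=
    hf.equiv.symm ≪≫ₗ TensorProduct.AlgebraTensorModule.congr (LinearEquiv.refl S' S') 𝒟.isoN ≪≫ₗ
      (Algebra.IsPushout.cancelBaseChange S S' (𝒟.A 0) (F.A' 0) (𝒟.M 0)).symm
  have hcok : ∀ i (hi : i + 1 < n), Nonempty
      (((F.A' i ⊗[𝒟.A i] 𝒟.M i) ⧸ LinearMap.range (α' i)) ≃ₗ[F.B' i] F.A' (i + 1) ⊗[𝒟.A (i + 1)] 𝒟.M (i + 1)) := by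
    intro i hi
    have hi' : i < n := by omega
    letI := bB i hi'
    haveI := tB i hi'
    haveI := pB i hi'
    haveI := hA (i + 1) hi
    haveI : IsScalarTower (𝒟.B i) (F.B' i) (F.A' (i + 1)) := IsScalarTower.of_algebraMap_eq fun b => by
      rw [cB' i hi' b, ← IsScalarTower.algebraMap_apply]
    haveI : IsScalarTower R (F.B' i) (F.A' (i + 1)) := IsScalarTower.of_algebraMap_eq fun r => by
      rw [IsScalarTower.algebraMap_apply R R' (F.B' i), ← IsScalarTower.algebraMap_apply R' (F.B' i) (F.A' (i + 1)),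
        ← IsScalarTower.algebraMap_apply R R' (F.A' (i + 1))]
    haveI : Algebra.IsPushout R (𝒟.A (i + 1)) R' (F.A' (i + 1)) := Algebra.IsPushout.symm inferInstance
    haveI : Algebra.IsPushout R (𝒟.B i) R' (F.B' i) := Algebra.IsPushout.symm inferInstance
    haveI : Algebra.IsPushout (𝒟.B i) (𝒟.A (i + 1)) (F.B' i) (F.A' (i + 1)) :=
      (Algebra.IsPushout.comp_iff R (𝒟.B i) R' (F.B' i) (T := 𝒟.A (i + 1)) (T' := F.A' (i + 1))).1 inferInstance
    haveI : Algebra.IsPushout (𝒟.B i) (F.B' i) (𝒟.A (i + 1)) (F.A' (i + 1)) := Algebra.IsPushout.symm inferInstance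
    rw [show α' i = RG.Dev.DevBC.mapFree (eM i hi') (𝒟.α i) from dif_pos hi']
    exact RG.Dev.DevBC.exists_coker_equiv (eM i hi') (𝒟.α i) (𝒟.isoCoker i hi)
      (Algebra.IsPushout.cancelBaseChange (𝒟.B i) (F.B' i) (𝒟.A (i + 1)) (F.A' (i + 1)) (𝒟.M (i + 1))).symm
  have t6 : ∀ i : Fin 𝒟.n, letI := bB i i.2; IsScalarTower (𝒟.B i) (F.B' i) (F.A' i) := fun i => by
    letI := bB i i.2
    exact IsScalarTower.of_algebraMap_eq fun b => by rw [cB i i.2 b, ← IsScalarTower.algebraMap_apply]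
  have t7 : ∀ i : Fin 𝒟.n, letI := bB i i.2; IsScalarTower (𝒟.B i) (F.B' i) (F.A' (i + 1)) := fun i => by
    letI := bB i i.2
    exact IsScalarTower.of_algebraMap_eq fun b => by rw [cB' i i.2 b, ← IsScalarTower.algebraMap_apply]
  have hx : ∀ x : N, iso' (f x) = gA 0 (𝒟.isoN x) := fun x => by
    show iso' (f x) = (1 : F.A' 0) ⊗ₜ 𝒟.isoN x
    have h1 : hf.equiv.symm (f x) = (1 : S') ⊗ₜ[S] x := by
      rw [LinearEquiv.symm_apply_eq, IsBaseChange.equiv_tmul, one_smul]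
    simp [iso', h1, Algebra.IsPushout.cancelBaseChange_symm_tmul]
  have hlast : ∀ i : Fin 𝒟.n, letI := bB i i.2
      Algebra.IsPushout R R' (𝒟.A i) (F.A' i) ∧ Algebra.IsPushout R R' (𝒟.B i) (F.B' i) ∧
      IsBaseChange (F.A' i) (gA i) ∧
      LinearMap.range (α' i) = Submodule.span (F.B' i) ((gA i) '' (LinearMap.range (𝒟.α i) : Set (𝒟.M i))) := by
    intro i
    refine ⟨hA i i.2, pB i i.2, TensorProduct.isBaseChange (𝒟.A i) (𝒟.M i) (F.A' i), ?_⟩
    letI := bB i i.2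
    rw [show α' i = RG.Dev.DevBC.mapFree (eM i i.2) (𝒟.α i) from dif_pos i.2,
      RG.Dev.DevBC.range_mapFree_eq_span]
    congr 1
    exact Set.image_congr fun m _ => heM i i.2 m
  refine ⟨{
    n := n
    pos := 𝒟.pos
    A := F.A'
    B := F.B'
    M := fun i => F.A' i ⊗[𝒟.A i] 𝒟.M i
    r := 𝒟.r
    hp := hp'
    α := α'
    surjSA := ?_
    fpSA := ?_
    surjBA' := ?_
    fpBA' := ?_
    finiteBA := ?_
    smooth := ?_
    geomIrred := ?_
    finiteM := ?_
    isoN := iso'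
    isoCoker := fun i hi => (hcok i hi).some
    fibreIso := ?_
    cokerLast := ?_ }, fun i => (inferInstance : Algebra (𝒟.A i) (F.A' i)), fun i => (inferInstance : Algebra R (F.A' i)),
    fun i => (inferInstance : IsScalarTower R R' (F.A' i)), fun i => (inferInstance : IsScalarTower R (𝒟.A i) (F.A' i)),
    fun i => bB i i.2, fun i => (inferInstance : Algebra R (F.B' i)),
    fun i => (inferInstance : IsScalarTower R R' (F.B' i)), fun i => tB i i.2,
    fun i => bAo i,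
    fun i => (inferInstance : IsScalarTower (𝒟.B i) (𝒟.A i) (F.A' i)), t6,
    fun i => bAo' i, t7,
    sAo, tSS, fun i => (inferInstance : Module (𝒟.A i) (F.A' i ⊗[𝒟.A i] 𝒟.M i)),
    fun i => (inferInstance : IsScalarTower (𝒟.A i) (F.A' i) (F.A' i ⊗[𝒟.A i] 𝒟.M i)), fun i => gA i,
    rfl, rfl, hS0', hx, fun i h => (inferInstance : IsScalarTower (𝒟.B i) (𝒟.A (i + 1)) (F.A' (i + 1))), hlast⟩
  · exact @RingHom.surjective_isStableUnderBaseChange S (𝒟.A 0) S' (F.A' 0) _ _ _ _ _ _ _ _ _ _ _ ‹_› 𝒟.surjSA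
  · haveI := 𝒟.fpSA
    exact Algebra.FinitePresentation.equiv (Algebra.IsPushout.equiv S S' (𝒟.A 0) (F.A' 0))
  · intro i hi
    have hi' : i < n := by omega
    letI := bB i hi'
    haveI := tB i hi'
    haveI := pB i hi'
    haveI := hA (i + 1) hi
    haveI : IsScalarTower (𝒟.B i) (F.B' i) (F.A' (i + 1)) := IsScalarTower.of_algebraMap_eq fun b => by
      rw [cB' i hi' b, ← IsScalarTower.algebraMap_apply]
    haveI : IsScalarTower R (F.B' i) (F.A' (i + 1)) := IsScalarTower.of_algebraMap_eq fun r => by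
      rw [IsScalarTower.algebraMap_apply R R' (F.B' i), ← IsScalarTower.algebraMap_apply R' (F.B' i) (F.A' (i + 1)),
        ← IsScalarTower.algebraMap_apply R R' (F.A' (i + 1))]
    haveI : Algebra.IsPushout R (𝒟.A (i + 1)) R' (F.A' (i + 1)) := Algebra.IsPushout.symm inferInstance
    haveI : Algebra.IsPushout R (𝒟.B i) R' (F.B' i) := Algebra.IsPushout.symm inferInstance
    haveI : Algebra.IsPushout (𝒟.B i) (𝒟.A (i + 1)) (F.B' i) (F.A' (i + 1)) :=
      (Algebra.IsPushout.comp_iff R (𝒟.B i) R' (F.B' i) (T := 𝒟.A (i + 1)) (T' := F.A' (i + 1))).1 inferInstance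
    exact @RingHom.surjective_isStableUnderBaseChange (𝒟.B i) (𝒟.A (i + 1)) (F.B' i) (F.A' (i + 1))
      _ _ _ _ _ _ _ _ _ _ _ (by first | exact ‹_› | exact Algebra.IsPushout.symm inferInstance) (𝒟.surjBA' i hi)
  · intro i hi
    have hi' : i < n := by omega
    letI := bB i hi'
    haveI := tB i hi'
    haveI := pB i hi'
    haveI := hA (i + 1) hi
    haveI : IsScalarTower (𝒟.B i) (F.B' i) (F.A' (i + 1)) := IsScalarTower.of_algebraMap_eq fun b => by
      rw [cB' i hi' b, ← IsScalarTower.algebraMap_apply]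
    haveI : IsScalarTower R (F.B' i) (F.A' (i + 1)) := IsScalarTower.of_algebraMap_eq fun r => by
      rw [IsScalarTower.algebraMap_apply R R' (F.B' i), ← IsScalarTower.algebraMap_apply R' (F.B' i) (F.A' (i + 1)),
        ← IsScalarTower.algebraMap_apply R R' (F.A' (i + 1))]
    haveI : Algebra.IsPushout R (𝒟.A (i + 1)) R' (F.A' (i + 1)) := Algebra.IsPushout.symm inferInstance
    haveI : Algebra.IsPushout R (𝒟.B i) R' (F.B' i) := Algebra.IsPushout.symm inferInstance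
    haveI : Algebra.IsPushout (𝒟.B i) (𝒟.A (i + 1)) (F.B' i) (F.A' (i + 1)) :=
      (Algebra.IsPushout.comp_iff R (𝒟.B i) R' (F.B' i) (T := 𝒟.A (i + 1)) (T' := F.A' (i + 1))).1 inferInstance
    haveI := 𝒟.fpBA' i hi
    haveI : Algebra.IsPushout (𝒟.B i) (F.B' i) (𝒟.A (i + 1)) (F.A' (i + 1)) := Algebra.IsPushout.symm inferInstance
    exact Algebra.FinitePresentation.equiv (Algebra.IsPushout.equiv (𝒟.B i) (F.B' i) (𝒟.A (i + 1)) (F.A' (i + 1)))
  · intro i hi
    letI := bB i hi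
    haveI := tB i hi
    haveI := pB i hi
    haveI := hA i hi
    haveI : IsScalarTower (𝒟.B i) (F.B' i) (F.A' i) := IsScalarTower.of_algebraMap_eq fun b => by
      rw [cB i hi b, ← IsScalarTower.algebraMap_apply]
    haveI : IsScalarTower R (F.B' i) (F.A' i) := IsScalarTower.of_algebraMap_eq fun r => by
      rw [IsScalarTower.algebraMap_apply R R' (F.B' i), ← IsScalarTower.algebraMap_apply R' (F.B' i) (F.A' i),
        ← IsScalarTower.algebraMap_apply R R' (F.A' i)]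
    haveI : Algebra.IsPushout R (𝒟.A i) R' (F.A' i) := Algebra.IsPushout.symm inferInstance
    haveI : Algebra.IsPushout R (𝒟.B i) R' (F.B' i) := Algebra.IsPushout.symm inferInstance
    haveI : Algebra.IsPushout (𝒟.B i) (𝒟.A i) (F.B' i) (F.A' i) :=
      (Algebra.IsPushout.comp_iff R (𝒟.B i) R' (F.B' i) (T := 𝒟.A i) (T' := F.A' i)).1 inferInstance
    haveI := 𝒟.finiteBA i hi
    haveI : Algebra.IsPushout (𝒟.B i) (F.B' i) (𝒟.A i) (F.A' i) := Algebra.IsPushout.symm inferInstance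
    exact Module.Finite.equiv (Algebra.IsPushout.equiv (𝒟.B i) (F.B' i) (𝒟.A i) (F.A' i)).toLinearEquiv
  · intro i hi
    letI := bB i hi
    haveI := tB i hi
    haveI := pB i hi
    haveI := 𝒟.smooth i hi
    exact Algebra.Smooth.of_equiv (Algebra.IsPushout.equiv R R' (𝒟.B i) (F.B' i))
  · intro i hi
    letI := bB i hi
    haveI := tB i hi
    haveI := pB i hi
    have hp := AlgebraicGeometry.isPullback_SpecMap_of_isPushout _ _ _ _
      (CommRingCat.isPushout_of_isPushout R R' (𝒟.B i) (F.B' i))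
    exact CategoryTheory.MorphismProperty.of_isPullback
      (P := @AlgebraicGeometry.GeometricallyIrreducible) hp.flip (𝒟.geomIrred i hi)
  · intro i hi
    haveI := 𝒟.finiteM i hi
    exact (inferInstance : Module.Finite (F.A' i) (F.A' i ⊗[𝒟.A i] 𝒟.M i))
  · intro i hi
    letI := bB i hi
    haveI := tB i hi
    haveI := pB i hi
    haveI := hp' i
    haveI := 𝒟.smooth i hi
    haveI : Module.Flat R (𝒟.B i) := Algebra.Smooth.flat R (𝒟.B i)
    have hξ := RG.Dev.DevBC.comap_map_eq (B := 𝒟.B i) (B' := F.B' i) p p'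
    letI : Algebra (p.map (algebraMap R (𝒟.B i))).ResidueField (p'.map (algebraMap R' (F.B' i))).ResidueField :=
      (Ideal.ResidueField.map _ _ (algebraMap (𝒟.B i) (F.B' i)) hξ.symm).toAlgebra
    haveI : IsScalarTower (𝒟.B i) (p.map (algebraMap R (𝒟.B i))).ResidueField
        (p'.map (algebraMap R' (F.B' i))).ResidueField := IsScalarTower.of_algebraMap_eq fun b => by
      rw [RingHom.algebraMap_toAlgebra, Ideal.ResidueField.map_algebraMap, ← IsScalarTower.algebraMap_apply]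
    simp only [α', dif_pos hi]
    exact RG.Dev.DevBC.baseChange_mapFree_bijective (eM i hi) (𝒟.α i) _ _ (𝒟.fibreIso i hi)
  · have hi : n - 1 < n := Nat.sub_lt 𝒟.pos Nat.one_pos
    simp only [α', dif_pos hi]
    letI := bB (n - 1) hi
    exact RG.Dev.DevBC.mapFree_surjective _ _ 𝒟.cokerLast

end Groth.Agent.S12243
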