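import Groth.Statements.S9470
import Mathlib
import Groth.Agent.UnramLib.FlatUnram
import Groth.Agent.FlatMonoRep.Alg
import Groth.Agent.Hensel.HenselizationProps
import Groth.Agent.Hensel.PairHenselization
import Groth.Agent.Hensel.PairEnvelopeStage
import Groth.Agent.Hensel.Local
import Groth.Agent.Hensel.EtNbhd
-- import your own Groth.Agent.* helpers here

set_option autoImplicit false
universe u
open Hensel

namespace Groth.Agent.S9470

/-- Let R be a ring, p a prime of R and R^h a henselization of the local ring R_p, regarded as an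
R-algebra through R_p. For pairs (S, q) with S an étale R-algebra and q a prime of S over p such
that κ(p) → κ(q) is bijective: (a) there is exactly one R-algebra map f : S → R^h under which the
maximal ideal pulls back to q; (b) every element of R^h is f(s) for some such pair, map f and s ∈ S;
(c) if such an f sends s to 0, then some R-algebra map S → S' to another such pair (S', q'), pulling
q' back to q, already sends s to 0. Together with filteredness of the category of pairs this
expresses that R^h is canonically the colimit of S over all pairs (S, q). (The published statement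
also records the equal colimit of the local rings S_q.) -/
theorem result (R : Type u) [CommRing R]
    (p : Ideal R) [p.IsPrime] (Rh : Type u) [CommRing Rh] [IsLocalRing Rh]
    [Algebra (Localization.AtPrime p) Rh] [IsLocalHom (algebraMap (Localization.AtPrime p) Rh)]
    [Hensel.IsHenselization (Localization.AtPrime p) Rh] [Algebra R Rh]
    [IsScalarTower R (Localization.AtPrime p) Rh] :
    (∀ (S : Type u) [CommRing S] [Algebra R S] [Algebra.Etale R S] (q : Ideal S) [q.IsPrime]
        (hq : p = q.comap (algebraMap R S)),
        Function.Bijective (Ideal.ResidueField.map p q (algebraMap R S) hq) →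
          ∃! f : S →ₐ[R] Rh, (IsLocalRing.maximalIdeal Rh).comap f.toRingHom = q) ∧
    (∀ x : Rh, ∃ (S : Type u) (_ : CommRing S) (_ : Algebra R S) (_ : Algebra.Etale R S) (q : Ideal S)
        (_ : q.IsPrime) (hq : p = q.comap (algebraMap R S)),
        Function.Bijective (Ideal.ResidueField.map p q (algebraMap R S) hq) ∧
          ∃ (f : S →ₐ[R] Rh) (s : S), (IsLocalRing.maximalIdeal Rh).comap f.toRingHom = q ∧ f s = x) ∧
    (∀ (S : Type u) [CommRing S] [Algebra R S] [Algebra.Etale R S] (q : Ideal S) [q.IsPrime]
        (hq : p = q.comap (algebraMap R S)),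
        Function.Bijective (Ideal.ResidueField.map p q (algebraMap R S) hq) →
          ∀ (f : S →ₐ[R] Rh), (IsLocalRing.maximalIdeal Rh).comap f.toRingHom = q → ∀ s : S, f s = 0 →
            ∃ (S' : Type u) (_ : CommRing S') (_ : Algebra R S') (_ : Algebra.Etale R S') (q' : Ideal S')
              (_ : q'.IsPrime) (hq' : p = q'.comap (algebraMap R S')),
              Function.Bijective (Ideal.ResidueField.map p q' (algebraMap R S') hq') ∧
                ∃ φ : S →ₐ[R] S', q'.comap φ.toRingHom = q ∧ φ s = 0) := by
  haveI hflat : Module.Flat R Rh :=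
    haveI := Hensel.henselization_flat (Localization.AtPrime p) Rh
    haveI : Module.Flat R (Localization.AtPrime p) := IsLocalization.flat _ p.primeCompl
    Module.Flat.trans R (Localization.AtPrime p) Rh
  haveI : HenselianLocalRing Rh := _root_.Hensel.IsHenselization.henselian (R := Localization.AtPrime p)
  let e := RingEquiv.ofBijective _ (Hensel.henselization_residue_bijective (Localization.AtPrime p) Rh)
  let θ : Rh →+* p.ResidueField := e.symm.toRingHom.comp (IsLocalRing.residue Rh)
  have hθ : θ.comp (algebraMap R Rh) = algebraMap R p.ResidueField := by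
    ext r
    apply e.injective
    simp only [θ, RingHom.comp_apply, RingEquiv.toRingHom_eq_coe, RingEquiv.coe_toRingHom, RingEquiv.apply_symm_apply]
    rw [IsScalarTower.algebraMap_apply R (Localization.AtPrime p) Rh,
      IsScalarTower.algebraMap_apply R (Localization.AtPrime p) p.ResidueField]
    exact (IsLocalRing.ResidueField.map_residue _ _).symm
  have hθk : RingHom.ker θ = IsLocalRing.maximalIdeal Rh := by
    rw [RingHom.ker_comp_of_injective _ e.symm.injective, IsLocalRing.ker_residue]
  let π : Rh →ₐ[R] p.ResidueField := { θ with commutes' := RingHom.congr_fun hθ }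
  have hπs : Function.Surjective π := e.symm.surjective.comp IsLocalRing.residue_surjective
  have hπk : RingHom.ker π.toRingHom = IsLocalRing.maximalIdeal Rh := hθk
  have hK : HenselianRing Rh (RingHom.ker π.toRingHom) := by
    rw [hπk]; exact (Hensel.henselianLocalRing_iff Rh).1 inferInstance
  refine ⟨fun S _ _ _ q _ hq hb => ?_, fun x => ?_, fun S _ _ _ q _ hq hb f hf s hs => ?_⟩
  · obtain ⟨θS, hθS, hθSk, huniq⟩ := Hensel.exists_hom_of_residueMap_bijective p hq hb
    let σ : S →ₐ[R] p.ResidueField := { θS with commutes' := RingHom.congr_fun hθS }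
    obtain ⟨f, hf, hfu⟩ := Hensel.existsUnique_algHom_of_quotient π hπs hK σ
    refine ⟨f, ?_, fun g hg => hfu g (AlgHom.ext fun z => ?_)⟩
    · show (IsLocalRing.maximalIdeal Rh).comap f.toRingHom = q
      rw [← hπk, RingHom.comap_ker]
      exact (congrArg (fun φ : S →ₐ[R] p.ResidueField => RingHom.ker φ.toRingHom) hf).trans hθSk
    · refine RingHom.congr_fun (huniq (θ.comp g.toRingHom) ?_ ?_) z
      · rw [RingHom.comp_assoc, AlgHom.toRingHom_eq_coe, AlgHom.comp_algebraMap, hθ]
      · rw [← RingHom.comap_ker, hθk, hg]
  · obtain ⟨A', _, _, _, -, φ, s, hs⟩ := Hensel.exists_nhd_mem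
      ((Hensel.isPairHenselization_iff (Localization.AtPrime p) Rh).2 inferInstance) x
    letI : Algebra R A' := ((algebraMap (Localization.AtPrime p) A').comp (algebraMap R _)).toAlgebra
    haveI : IsScalarTower R (Localization.AtPrime p) A' := IsScalarTower.of_algebraMap_eq fun _ => rfl
    obtain ⟨S₀, _, _, _, ρ, hρ⟩ := FlatMonoRep.exists_etale_model p.primeCompl (Localization.AtPrime p) A'
    obtain ⟨t, ht, x₀, hx₀⟩ := hρ.1 s
    let g : S₀ →ₐ[R] Rh := (φ.restrictScalars R).comp ρ
    have hu : IsUnit (g (algebraMap R S₀ t)) := by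
      rw [g.commutes, IsScalarTower.algebraMap_apply R (Localization.AtPrime p) Rh]
      exact (IsLocalization.map_units _ (⟨t, ht⟩ : p.primeCompl)).map _
    let f : Localization.Away (algebraMap R S₀ t) →ₐ[R] Rh := IsLocalization.Away.liftAlgHom _ (f := g) hu
    haveI : Algebra.Etale S₀ (Localization.Away (algebraMap R S₀ t)) :=
      Algebra.Etale.of_isLocalizationAway (algebraMap R S₀ t)
    haveI : Algebra.Etale R (Localization.Away (algebraMap R S₀ t)) := Algebra.Etale.comp R S₀ _
    have hker : RingHom.ker (θ.comp f.toRingHom) = (IsLocalRing.maximalIdeal Rh).comap f.toRingHom := by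
      rw [← RingHom.comap_ker, hθk]
    have hθf : (θ.comp f.toRingHom).comp (algebraMap R _) = algebraMap R p.ResidueField := by
      rw [RingHom.comp_assoc, AlgHom.toRingHom_eq_coe, AlgHom.comp_algebraMap, hθ]
    have hp : p = ((IsLocalRing.maximalIdeal Rh).comap f.toRingHom).comap (algebraMap R _) := by
      rw [← hker, RingHom.comap_ker, hθf, Ideal.ker_algebraMap_residueField]
    haveI : ((IsLocalRing.maximalIdeal Rh).comap f.toRingHom).IsPrime := Ideal.IsPrime.comap _
    refine ⟨Localization.Away (algebraMap R S₀ t), inferInstance, inferInstance, inferInstance,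
      (IsLocalRing.maximalIdeal Rh).comap f.toRingHom, inferInstance, hp,
      Hensel.residueMap_bijective_of_hom p (θ.comp f.toRingHom) hθf hker hp, f,
      IsLocalization.mk' (M := Submonoid.powers (algebraMap R S₀ t)) _ x₀
        ⟨algebraMap R S₀ t, Submonoid.mem_powers _⟩, rfl, ?_⟩
    refine hu.mul_left_inj.1 ?_
    have hf₀ : ∀ z, f (algebraMap S₀ _ z) = g z := fun z => IsLocalization.Away.lift_eq _ hu z
    rw [← hf₀, ← map_mul, IsLocalization.mk'_spec, hf₀, hf₀, g.commutes]
    change φ (ρ x₀) = x * algebraMap R Rh t
    rw [← hx₀, ← hs]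
    change (φ.restrictScalars R) (t • s) = _
    rw [map_smul, Algebra.smul_def, mul_comm]
    rfl
  · letI : Algebra S Rh := f.toRingHom.toAlgebra
    haveI : IsScalarTower R S Rh := IsScalarTower.of_algebraMap_eq fun r => (f.commutes r).symm
    haveI hS : Module.Flat S Rh := UnramLib.flat_of_formallyUnramified R S Rh
    have hrel : ∑ i : Fin 1, (fun _ => s) i • (fun _ : Fin 1 => (1 : Rh)) i = 0 := by
      simp only [Fin.sum_univ_one, Algebra.smul_def, mul_one]
      exact hs
    obtain ⟨k, a, y, hy, ha⟩ := (Module.Flat.iff_forall_isTrivialRelation.mp hS) hrel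
    obtain ⟨j, hj⟩ : ∃ j, a 0 j ∉ q := by
      by_contra hall
      push Not at hall
      refine (IsLocalRing.maximalIdeal.isMaximal Rh).ne_top ((Ideal.eq_top_iff_one _).2 ?_)
      rw [show (1 : Rh) = ∑ j, a 0 j • y j from hy 0]
      refine Ideal.sum_mem _ fun j _ => ?_
      rw [Algebra.smul_def]
      exact Ideal.mul_mem_right _ _ (by rw [← hf] at hall; exact hall j)
    obtain ⟨θS, hθS, hθSk, -⟩ := Hensel.exists_hom_of_residueMap_bijective p hq hb
    have hunit : IsUnit (θS (a 0 j)) :=
      isUnit_iff_ne_zero.2 fun h0 => hj (hθSk ▸ RingHom.mem_ker.2 h0)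
    let θ' : Localization.Away (a 0 j) →+* p.ResidueField := IsLocalization.Away.lift (a 0 j) hunit
    have hθ' : θ'.comp (algebraMap S _) = θS := IsLocalization.Away.lift_comp (a 0 j) hunit
    haveI : Algebra.Etale S (Localization.Away (a 0 j)) := Algebra.Etale.of_isLocalizationAway (a 0 j)
    haveI : Algebra.Etale R (Localization.Away (a 0 j)) := Algebra.Etale.comp R S _
    have hθR : θ'.comp (algebraMap R (Localization.Away (a 0 j))) = algebraMap R p.ResidueField := by
      rw [IsScalarTower.algebraMap_eq R S (Localization.Away (a 0 j)), ← RingHom.comp_assoc, hθ', hθS]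
    have hp : p = (RingHom.ker θ').comap (algebraMap R (Localization.Away (a 0 j))) := by
      rw [RingHom.comap_ker, hθR, Ideal.ker_algebraMap_residueField]
    haveI : (RingHom.ker θ').IsPrime := RingHom.ker_isPrime _
    refine ⟨Localization.Away (a 0 j), inferInstance, inferInstance, inferInstance, RingHom.ker θ', inferInstance,
      hp, Hensel.residueMap_bijective_of_hom p θ' hθR rfl hp, IsScalarTower.toAlgHom R S _, ?_, ?_⟩
    · change (RingHom.ker θ').comap (algebraMap S _) = q
      rw [RingHom.comap_ker, hθ', hθSk]
    · have h2 := ha j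
      simp only [Fin.sum_univ_one] at h2
      exact (IsLocalization.Away.algebraMap_isUnit (a 0 j)).mul_left_eq_zero.1
        (by change algebraMap S _ s * algebraMap S _ (a 0 j) = 0; rw [← map_mul, h2, map_zero])

end Groth.Agent.S9470
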