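import Groth.Statements.S2351
import Groth.Agent.NormVar
import Mathlib

set_option autoImplicit false
set_option linter.style.haveILetI false
universe u
open CategoryTheory CategoryTheory.Limits AlgebraicGeometry
open EGA2

namespace Groth.Agent.S2351

theorem isIntegrallyClosed_sections (X : Scheme.{u}) [IsIntegral X] {U : X.Opens} (hU : IsAffineOpen U) [Nonempty U]
    [QuasiCompact (X.fromSpecStalk (genericPoint X))] [QuasiSeparated (X.fromSpecStalk (genericPoint X))]
    (g : Spec (CommRingCat.of X.functionField) ⟶ X)
    (hg : g = Spec.map (CommRingCat.ofHom (RingHom.id X.functionField)) ≫ X.fromSpecStalk (genericPoint X)) :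
    letI := (g.app U).hom.toAlgebra
    IsDomain (integralClosure Γ(X, U) Γ(Spec (CommRingCat.of X.functionField), g ⁻¹ᵁ U)) ∧
      IsIntegrallyClosed (integralClosure Γ(X, U) Γ(Spec (CommRingCat.of X.functionField), g ⁻¹ᵁ U)) := by
  letI := (g.app U).hom.toAlgebra
  obtain ⟨e, he⟩ := Groth.Agent.CurveNorm.exists_equiv (RingHom.id X.functionField) g hg U
  haveI := functionField_isFractionRing_of_isAffineOpen X U hU
  let ψ : Γ(Spec (CommRingCat.of X.functionField), g ⁻¹ᵁ U) ≃ₐ[Γ(X, U)] X.functionField :=
    AlgEquiv.ofRingEquiv (f := e.commRingCatIsoToRingEquiv) fun a => congrArg (fun h => h.hom a) he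
  let ψ' := ψ.mapIntegralClosure
  haveI : IsIntegrallyClosed (integralClosure Γ(X, U) X.functionField) :=
    integralClosure.isIntegrallyClosedOfFiniteExtension (R := Γ(X, U)) X.functionField
  exact ⟨ψ'.toRingEquiv.toMulEquiv.isDomain _, IsIntegrallyClosed.of_equiv ψ'.symm.toRingEquiv⟩

/-- Let X be an integral scheme and X' → X its normalization (integral closure of X in its function
field). Then X' is integral with integrally closed local rings, the morphism X' → X is surjective,
maps the generic point to the generic point and induces a bijection between the residue fields of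
the generic points. (The quasi-compactness/quasi-separatedness binders on Spec K(X) → X always hold;
they are only needed to form Mathlib's relative normalization.) -/
theorem result (X : Scheme.{u}) [IsIntegral X]
    [QuasiCompact (X.fromSpecStalk (genericPoint X))] [QuasiSeparated (X.fromSpecStalk (genericPoint X))] :
    ∃ (_ : IsIntegral (Curv2.normalization X)), Pi1.IsNormalScheme (Curv2.normalization X) ∧ Surjective (Curv2.normalizationι X) ∧
      ∃ hgen : (Curv2.normalizationι X).base (genericPoint (Curv2.normalization X)) = genericPoint X,
        Function.Bijective ((Curv2.normalizationι X).residueFieldMap (genericPoint (Curv2.normalization X))).hom := by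
  let η := genericPoint X
  let g : Spec (CommRingCat.of X.functionField) ⟶ X := X.fromSpecStalk η
  haveI hint' : IsIntegral (Spec (X.presheaf.stalk η)) := inferInstanceAs (IsIntegral (Spec (CommRingCat.of X.functionField)))
  let f := X.fromSpecStalk η
  haveI hi : IsIntegral (Curv2.normalization X) := inferInstanceAs (IsIntegral f.normalization)
  have hdom : IsDominant f := ⟨by
    rw [denseRange_iff_closure_range]
    refine Set.eq_univ_of_univ_subset ?_
    rw [← (genericPoint_spec X).def]
    refine closure_mono (Set.singleton_subset_iff.2 ?_)
    exact ⟨IsLocalRing.closedPoint _, Scheme.fromSpecStalk_closedPoint⟩⟩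
  let pt : Spec (X.presheaf.stalk η) := IsLocalRing.closedPoint _
  have hη : f.fromNormalization (f.toNormalization pt) = η := by
    rw [← Scheme.Hom.comp_apply, Scheme.Hom.toNormalization_fromNormalization]
    exact Scheme.fromSpecStalk_closedPoint
  have hgenpt : f.toNormalization pt = genericPoint f.normalization := by
    refine ((genericPoint_spec f.normalization).eq ?_).symm
    rw [IsGenericPoint, ← f.toNormalization.denseRange.closure_range]
    congr 1
    refine Set.Subset.antisymm (Set.singleton_subset_iff.2 ⟨pt, rfl⟩) ?_
    rintro _ ⟨q, rfl⟩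
    haveI : Subsingleton (Spec (CommRingCat.of X.functionField)) := inferInstanceAs (Subsingleton (PrimeSpectrum X.functionField))
    exact congrArg f.toNormalization (Subsingleton.elim (α := Spec (CommRingCat.of X.functionField)) q pt)
  refine ⟨hi, ?_, ?_, ?_, ?_⟩
  · -- normality
    intro x'
    have hpt : ∀ x' : g.normalization, ∃ (U : X.affineOpens) (P : PrimeSpectrum (g.normalizationDiagram.obj (.op U.1))),
        g.normalizationOpenCover.f U P = x' ∧ g.fromNormalization x' ∈ U.1 := fun x' => by
      obtain ⟨U, hU, hxU, -⟩ := exists_isAffineOpen_mem_and_subset (U := (⊤ : X.Opens)) (x := g.fromNormalization x') trivial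
      have hx' : x' ∈ g.fromNormalization ⁻¹ᵁ U := hxU
      rw [g.fromNormalization_preimage ⟨U, hU⟩] at hx'
      obtain ⟨P, hP⟩ := hx'
      exact ⟨⟨U, hU⟩, P, hP, hxU⟩
    obtain ⟨⟨U, hU⟩, P, rfl, hxU⟩ := hpt x'
    letI := (g.app U).hom.toAlgebra
    haveI : Nonempty U := ⟨⟨_, hxU⟩⟩
    obtain ⟨h1, h2⟩ := isIntegrallyClosed_sections X hU g (by simp [g, η])
    haveI : IsDomain (g.normalizationDiagram.obj (.op U)) := h1
    haveI : IsIntegrallyClosed (g.normalizationDiagram.obj (.op U)) := h2
    obtain ⟨e⟩ := Groth.Agent.NormVar.stalk_facts (g.normalizationDiagram.obj (.op U)) (g.normalizationOpenCover.f ⟨U, hU⟩) (g.normalizationOpenCover.map_prop ⟨U, hU⟩) P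
    haveI : IsDomain (Localization.AtPrime P.asIdeal) := inferInstance
    haveI : IsIntegrallyClosed (Localization.AtPrime P.asIdeal) :=
      isIntegrallyClosed_of_isLocalization _ P.asIdeal.primeCompl P.asIdeal.primeCompl_le_nonZeroDivisors
    exact ⟨e.toMulEquiv.isDomain _, IsIntegrallyClosed.of_equiv e.symm⟩
  · refine ⟨fun x => ?_⟩
    haveI : IsDominant (f.toNormalization ≫ f.fromNormalization) := by
      rw [Scheme.Hom.toNormalization_fromNormalization]; exact hdom
    haveI : IsDominant f.fromNormalization := IsDominant.of_comp f.toNormalization f.fromNormalization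
    have hc : IsClosed (Set.range f.fromNormalization) := f.fromNormalization.isClosedMap.isClosed_range
    have := f.fromNormalization.denseRange.closure_range
    rw [hc.closure_eq] at this
    exact this.ge trivial
  · change f.fromNormalization (genericPoint f.normalization) = η
    rw [← hgenpt]; exact hη
  · change Function.Bijective (f.fromNormalization.residueFieldMap (genericPoint f.normalization)).hom
    rw [← hgenpt]
    refine ⟨RingHom.injective _, fun z => ?_⟩
    haveI : IsPreimmersion (f.toNormalization ≫ f.fromNormalization) := by
      rw [Scheme.Hom.toNormalization_fromNormalization]; infer_instance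
    obtain ⟨w, hw⟩ := IsLocalRing.residue_surjective ((f.toNormalization.residueFieldMap pt).hom z)
    obtain ⟨v, hv⟩ := (f.toNormalization ≫ f.fromNormalization).stalkMap_surjective pt w
    refine ⟨X.residue _ v, (f.toNormalization.residueFieldMap pt).hom.injective ?_⟩
    have h1 := congrArg (fun φ => φ.hom v) (Scheme.residue_residueFieldMap (f.toNormalization ≫ f.fromNormalization) pt)
    simp only [Scheme.residueFieldMap_comp, CommRingCat.hom_comp, RingHom.comp_apply] at h1
    refine h1.trans ?_
    rw [← hw]
    exact congrArg _ hv

end Groth.Agent.S2351
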