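import Groth.Statements.S4448
import Groth.Agent.CurveNorm.Generic
import Groth.Agent.S4454

set_option autoImplicit false
universe u
set_option linter.style.haveILetI false
set_option backward.isDefEq.respectTransparency false
set_option maxHeartbeats 2000000
open CategoryTheory CategoryTheory.Limits AlgebraicGeometry
open EGA2

namespace Groth.Agent.S4448

/-- Let X be an integral scheme with field of rational functions k(ξ), K a field extension of k(ξ) (an
embedding φ), and X' the integral closure of X relative to K, i.e. the normalization of X along the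
morphism g : Spec K ⟶ X through the generic point. Then X' is integral and normal, the generic point
ξ' of X' is the only point over ξ, the canonical morphism Spec K ⟶ X' hits ξ', and the field of
rational functions of X' (the local ring at ξ') maps isomorphically onto the algebraic closure of
k(ξ) in K. (The quasi-compactness and quasi-separatedness binders on g always hold; they are needed
only to form the normalization.) -/
theorem result (X : Scheme.{u}) [IsIntegral X] (K : Type u) [Field K]
    (φ : X.functionField →+* K) (g : Spec (CommRingCat.of K) ⟶ X)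
    (hg : g = Spec.map (CommRingCat.ofHom φ) ≫ X.fromSpecStalk (genericPoint X)) [QuasiCompact g] [QuasiSeparated g] :
    ∃ (_ : IsIntegral g.normalization), Pi1.IsNormalScheme g.normalization ∧
      g.fromNormalization.base ⁻¹' {genericPoint X} = {genericPoint g.normalization} ∧
      g.toNormalization.base (IsLocalRing.closedPoint K) = genericPoint g.normalization ∧
      Function.Injective (Scheme.stalkClosedPointTo g.toNormalization).hom ∧
      Set.range (Scheme.stalkClosedPointTo g.toNormalization).hom =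
        {y : K | ∃ q : Polynomial X.functionField, q.Monic ∧ Polynomial.eval₂ φ y q = 0} := by
  haveI hint : IsIntegral g.normalization := inferInstance
  let R := CommRingCat.of K
  let h := g.toNormalization
  let π := g.fromNormalization
  have hcomp : h ≫ π = g := g.toNormalization_fromNormalization
  have hpt : h (IsLocalRing.closedPoint K) = genericPoint g.normalization := by
    refine ((genericPoint_spec g.normalization).eq ?_).symm
    show closure {h (IsLocalRing.closedPoint K)} = Set.univ
    have hr : Set.range h = {h (IsLocalRing.closedPoint K)} := by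
      ext z
      refine ⟨fun ⟨w, hw⟩ => ?_, fun hz => ⟨_, hz.symm⟩⟩
      rw [← hw, Set.mem_singleton_iff]
      congr 1
      exact Subsingleton.elim (α := PrimeSpectrum K) _ _
    rw [← hr]
    exact h.denseRange.closure_range
  have hgη : π (genericPoint g.normalization) = genericPoint X := by
    rw [← hpt, ← Scheme.Hom.comp_apply, hcomp, hg, Scheme.Hom.comp_apply]
    exact (congrArg (X.fromSpecStalk (genericPoint X))
      (Subsingleton.elim (α := PrimeSpectrum X.functionField) _ (IsLocalRing.closedPoint _))).trans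
      Scheme.fromSpecStalk_closedPoint
  have hne : ∀ (U : X.Opens), (∃ x, x ∈ U) → Nonempty U := fun U ⟨x, hx⟩ => ⟨⟨x, hx⟩⟩
  -- integral closures in a field
  have hfacts : ∀ (U : X.Opens) (_ : IsAffineOpen U) [Nonempty U],
      letI := (g.app U).hom.toAlgebra
      IsDomain (integralClosure Γ(X, U) Γ(Spec (CommRingCat.of K), g ⁻¹ᵁ U)) ∧
        IsIntegrallyClosed (integralClosure Γ(X, U) Γ(Spec (CommRingCat.of K), g ⁻¹ᵁ U)) ∧
        Function.Injective (algebraMap Γ(X, U) (integralClosure Γ(X, U) Γ(Spec (CommRingCat.of K), g ⁻¹ᵁ U))) := by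
    intro U hU _
    letI := (g.app U).hom.toAlgebra
    obtain ⟨e, he⟩ := Groth.Agent.CurveNorm.exists_equiv φ g hg U
    letI : Algebra Γ(X, U) K := (φ.comp (X.germToFunctionField U).hom).toAlgebra
    let ψ : Γ(Spec (CommRingCat.of K), g ⁻¹ᵁ U) ≃ₐ[Γ(X, U)] K :=
      AlgEquiv.ofRingEquiv (f := e.commRingCatIsoToRingEquiv) fun a => congrArg (fun h => h.hom a) he
    let ψ' := ψ.mapIntegralClosure
    haveI : IsIntegrallyClosed (integralClosure Γ(X, U) K) := by
      let C := integralClosure Γ(X, U) K
      refine (isIntegrallyClosed_iff (FractionRing C)).2 fun {z} hz => ?_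
      have hCinj : Function.Injective (algebraMap C K) := fun a b h => Subtype.ext h
      let ι : FractionRing C →+* K := IsFractionRing.lift hCinj
      have hι : ι.comp (algebraMap C (FractionRing C)) = algebraMap C K :=
        RingHom.ext fun c => IsFractionRing.lift_algebraMap hCinj c
      have hz' : IsIntegral C (ι z) := by
        obtain ⟨p, hp, hev⟩ := hz
        refine ⟨p, hp, ?_⟩
        rw [← hι, ← Polynomial.hom_eval₂, hev, map_zero]
      haveI : Algebra.IsIntegral Γ(X, U) C := inferInstance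
      refine ⟨⟨ι z, isIntegral_trans (R := Γ(X, U)) (ι z) hz'⟩, ι.injective ?_⟩
      exact IsFractionRing.lift_algebraMap hCinj _
    refine ⟨ψ'.toRingEquiv.toMulEquiv.isDomain _, IsIntegrallyClosed.of_equiv ψ'.symm.toRingEquiv, fun a b h => ?_⟩
    have h1 : algebraMap Γ(X, U) K a = algebraMap Γ(X, U) K b := by
      rw [← ψ.commutes a, ← ψ.commutes b]
      exact congrArg ψ (congrArg Subtype.val h)
    exact X.germToFunctionField_injective U (φ.injective h1)
  have hchart : ∀ x' : g.normalization, ∃ (U : X.affineOpens) (P : PrimeSpectrum (g.normalizationDiagram.obj (.op U.1))),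
      g.normalizationOpenCover.f U P = x' ∧ π x' ∈ U.1 := fun x' => by
    obtain ⟨U, hU, hxU, -⟩ := exists_isAffineOpen_mem_and_subset (U := (⊤ : X.Opens)) (x := π x') trivial
    have hx' : x' ∈ π ⁻¹ᵁ U := hxU
    rw [show π ⁻¹ᵁ U = _ from g.fromNormalization_preimage ⟨U, hU⟩] at hx'
    obtain ⟨P, hP⟩ := hx'
    exact ⟨⟨U, hU⟩, P, hP, hxU⟩
  refine ⟨hint, fun x' => ?_, Set.ext fun x' => ⟨fun hx' => ?_, fun hx' => ?_⟩, hpt, ?_, ?_⟩
  · obtain ⟨⟨U, hU⟩, P, rfl, hxU⟩ := hchart x'
    letI := (g.app U).hom.toAlgebra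
    haveI := hne U ⟨_, hxU⟩
    obtain ⟨h1, h2, -⟩ := hfacts U hU
    haveI : IsDomain (g.normalizationDiagram.obj (.op U)) := h1
    haveI : IsIntegrallyClosed (g.normalizationDiagram.obj (.op U)) := h2
    obtain ⟨e⟩ := Groth.Agent.S4454.stalk_facts (g.normalizationDiagram.obj (.op U))
      (g.normalizationOpenCover.f ⟨U, hU⟩) (g.normalizationOpenCover.map_prop ⟨U, hU⟩) P
    haveI : IsDomain (Localization.AtPrime P.asIdeal) := inferInstance
    haveI : IsIntegrallyClosed (Localization.AtPrime P.asIdeal) :=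
      isIntegrallyClosed_of_isLocalization _ P.asIdeal.primeCompl P.asIdeal.primeCompl_le_nonZeroDivisors
    exact ⟨e.toMulEquiv.isDomain _, IsIntegrallyClosed.of_equiv e.symm⟩
  · -- only the generic point lies over the generic point
    rw [Set.mem_singleton_iff]
    obtain ⟨⟨U, hU⟩, P, rfl, hxU⟩ := hchart x'
    letI := (g.app U).hom.toAlgebra
    haveI := hne U ⟨_, hxU⟩
    obtain ⟨h1, -, h3⟩ := hfacts U hU
    haveI := h1
    haveI : IsDomain Γ(X, U) := inferInstance
    let C := integralClosure Γ(X, U) Γ(Spec (CommRingCat.of K), g ⁻¹ᵁ U)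
    let P' : Ideal C := P.asIdeal
    let p : PrimeSpectrum Γ(X, U) := PrimeSpectrum.comap (algebraMap Γ(X, U) C) P
    have hx'' : π (g.normalizationOpenCover.f ⟨U, hU⟩ P) = genericPoint X := hx'
    have hxp : hU.fromSpec p = genericPoint X :=
      (congrArg (fun h : _ ⟶ X => h P) (g.ι_fromNormalization ⟨U, hU⟩)).symm.trans hx''
    have hp0 : p.asIdeal = ⊥ := by
      have hb : hU.fromSpec ⟨⊥, Ideal.isPrime_bot⟩ ⤳ hU.fromSpec p :=
        ((PrimeSpectrum.le_iff_specializes (⟨⊥, Ideal.isPrime_bot⟩ : PrimeSpectrum Γ(X, U)) p).1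
          (bot_le (a := p.asIdeal))).map hU.fromSpec.continuous
      rw [hxp] at hb
      have h5 := hU.fromSpec.isOpenEmbedding.injective
        (hxp.trans (hb.antisymm ((genericPoint_spec X).specializes trivial)).eq.symm)
      exact congrArg PrimeSpectrum.asIdeal h5
    haveI : P'.IsPrime := P.isPrime
    have hP0 : P' = ⊥ := Ideal.eq_bot_of_comap_eq_bot (R := Γ(X, U)) hp0
    let f := g.normalizationOpenCover.f ⟨U, hU⟩
    obtain ⟨Q, hQ⟩ : genericPoint g.normalization ∈ Set.range f := by
      have := ((genericPoint_spec g.normalization).mem_open_set_iff f.isOpenEmbedding.isOpen_range).2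
        (by simpa using ⟨f P, P, rfl⟩)
      exact this
    have h6 : (P : PrimeSpectrum _) ⤳ Q := (PrimeSpectrum.le_iff_specializes P Q).1
      (show P' ≤ (Q.asIdeal : Ideal C) from hP0 ▸ bot_le)
    have h7 := h6.map f.continuous
    rw [hQ] at h7
    exact (h7.antisymm ((genericPoint_spec g.normalization).specializes trivial)).eq
  · rw [Set.mem_singleton_iff] at hx'
    subst hx'
    exact hgη
  · haveI hF : IsField (g.normalization.presheaf.stalk (h (IsLocalRing.closedPoint K))) := by
      rw [hpt]; exact Field.toIsField g.normalization.functionField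
    letI := hF.toField
    exact RingHom.injective _
  -- the function field is the algebraic closure
  let θ₀ : g.normalization.functionField ⟶ R :=
    (g.normalization.presheaf.stalkCongr (.of_eq hpt.symm)).hom ≫ Scheme.stalkClosedPointTo h
  have hrange : Set.range (Scheme.stalkClosedPointTo h).hom = Set.range θ₀.hom := by
    ext y
    constructor
    · rintro ⟨a, rfl⟩
      obtain ⟨b, rfl⟩ := (ConcreteCategory.bijective_of_isIso
        (g.normalization.presheaf.stalkCongr (.of_eq hpt.symm)).hom).2 a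
      exact ⟨b, rfl⟩
    · rintro ⟨a, rfl⟩; exact ⟨_, rfl⟩
  refine hrange.trans ?_
  have hθ : ∀ (V : g.normalization.Opens) (hV : genericPoint g.normalization ∈ V),
      g.normalization.presheaf.germ V _ hV ≫ θ₀ =
        g.normalization.presheaf.germ V _ (hpt ▸ hV) ≫ Scheme.stalkClosedPointTo h := fun V hV => by
    simp only [θ₀, TopCat.Presheaf.stalkCongr_hom, ← Category.assoc]
    exact congrArg (· ≫ _) (TopCat.Presheaf.germ_stalkSpecializes _ _ _)
  obtain ⟨U₀, hU₀, hxU₀, -⟩ := exists_isAffineOpen_mem_and_subset (U := (⊤ : X.Opens)) (x := genericPoint X) trivial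
  haveI : Nonempty U₀ := ⟨⟨_, hxU₀⟩⟩
  letI := (g.app U₀).hom.toAlgebra
  have hη : genericPoint g.normalization ∈ π ⁻¹ᵁ U₀ := by
    show π _ ∈ U₀
    rw [hgη]; exact hxU₀
  have e2 := Scheme.germ_stalkClosedPointTo h (π ⁻¹ᵁ U₀) (hpt ▸ hη)
  rw [g.toNormalization_app_preimage ⟨U₀, hU₀⟩, ← hθ _ hη, Category.assoc, Category.assoc] at e2
  obtain ⟨ρ, hρ, e4⟩ : ∃ ρ : Γ(Spec (CommRingCat.of K), g ⁻¹ᵁ U₀) ⟶ R, IsIso ρ ∧
      g.normalization.presheaf.germ (π ⁻¹ᵁ U₀) _ hη ≫ θ₀ =
        (g.normalizationObjIso hU₀).hom ≫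
          CommRingCat.ofHom (integralClosure Γ(X, U₀) Γ(Spec (CommRingCat.of K), g ⁻¹ᵁ U₀)).val.toRingHom ≫ ρ :=
    ⟨_, inferInstance, e2⟩
  letI : Algebra X.functionField K := φ.toAlgebra
  letI : Algebra Γ(X, U₀) K := (φ.comp (X.germToFunctionField U₀).hom).toAlgebra
  haveI : IsScalarTower Γ(X, U₀) X.functionField K := IsScalarTower.of_algebraMap_eq fun _ => rfl
  haveI := functionField_isFractionRing_of_isAffineOpen X U₀ hU₀
  have e3 : g.app U₀ ≫ ρ = X.germToFunctionField U₀ ≫ CommRingCat.ofHom φ := by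
    have h1 : (h ≫ π) (IsLocalRing.closedPoint R) ∈ U₀ := by
      show π (h (IsLocalRing.closedPoint K)) ∈ U₀
      rw [hpt]; exact hη
    have e1 : X.presheaf.germ U₀ _ h1 ≫ Scheme.stalkClosedPointTo (h ≫ π) =
        X.germToFunctionField U₀ ≫ CommRingCat.ofHom φ := by
      revert h1
      rw [hcomp, hg]
      intro h1
      exact Scheme.germ_stalkClosedPointTo_Spec_fromSpecStalk (CommRingCat.ofHom φ) U₀ h1
    have e5 : π.app U₀ ≫ g.normalization.presheaf.germ _ _ hη ≫ θ₀ =
        X.germToFunctionField U₀ ≫ CommRingCat.ofHom φ := by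
      rw [hθ, ← e1, Scheme.stalkClosedPointTo_comp]
      exact (Scheme.Hom.germ_stalkMap_assoc _ U₀ _ _ _).symm
    rw [e4, show π.app U₀ = _ from g.fromNormalization_app hU₀] at e5
    simp only [Category.assoc, Iso.inv_hom_id_assoc] at e5
    exact e5
  let ψ : Γ(Spec (CommRingCat.of K), g ⁻¹ᵁ U₀) ≃ₐ[Γ(X, U₀)] K :=
    AlgEquiv.ofRingEquiv (f := (asIso ρ).commRingCatIsoToRingEquiv) fun a => congrArg (fun m => m.hom a) e3
  let L := algebraicClosure X.functionField K
  have hL : {y : K | ∃ q : Polynomial X.functionField, q.Monic ∧ Polynomial.eval₂ φ y q = 0} = (L : Set K) := by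
    ext y
    exact ⟨fun hy => mem_algebraicClosure_iff.2 (show IsIntegral X.functionField y from hy).isAlgebraic,
      fun hy => (mem_algebraicClosure_iff.1 hy).isIntegral⟩
  rw [hL]
  have hgerm : ∀ c : Γ(g.normalization, π ⁻¹ᵁ U₀),
      θ₀.hom (g.normalization.presheaf.germ (π ⁻¹ᵁ U₀) _ hη c) ∈ L := fun c => by
    have h9 := congrArg (fun m => m.hom c) e4
    refine mem_algebraicClosure_iff.2 ?_
    rw [show θ₀.hom (g.normalization.presheaf.germ (π ⁻¹ᵁ U₀) _ hη c) = _ from h9]
    have h10 : IsIntegral Γ(X, U₀) (ψ (((g.normalizationObjIso hU₀).hom c :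
        integralClosure Γ(X, U₀) Γ(Spec (CommRingCat.of K), g ⁻¹ᵁ U₀)) : Γ(Spec (CommRingCat.of K), g ⁻¹ᵁ U₀))) :=
      IsIntegral.map ψ.toAlgHom (((g.normalizationObjIso hU₀).hom c :
        integralClosure Γ(X, U₀) Γ(Spec (CommRingCat.of K), g ⁻¹ᵁ U₀))).2
    exact h10.tower_top.isAlgebraic
  apply Set.Subset.antisymm
  · rintro _ ⟨a, rfl⟩
    haveI : Nonempty (π ⁻¹ᵁ U₀ : g.normalization.Opens) := ⟨⟨_, hη⟩⟩
    haveI : IsAffineHom π := inferInstance
    haveI := functionField_isFractionRing_of_isAffineOpen g.normalization (π ⁻¹ᵁ U₀) (hU₀.preimage π)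
    obtain ⟨c, d, -, rfl⟩ := IsFractionRing.div_surjective Γ(g.normalization, π ⁻¹ᵁ U₀) a
    rw [map_div₀]
    exact div_mem (hgerm c) (hgerm d)
  · intro y hy
    obtain ⟨⟨s, hs⟩, hsy⟩ := IsIntegral.exists_multiple_integral_of_isLocalization
      (nonZeroDivisors Γ(X, U₀)) y (mem_algebraicClosure_iff.1 hy).isIntegral
    have himg : ∀ b : integralClosure Γ(X, U₀) K, (b : K) ∈ θ₀.hom.range := fun b => by
      obtain ⟨c, hc⟩ := ψ.mapIntegralClosure.surjective b
      refine ⟨g.normalization.presheaf.germ (π ⁻¹ᵁ U₀) _ hη ((g.normalizationObjIso hU₀).inv c), ?_⟩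
      refine (congrArg (fun m => m.hom ((g.normalizationObjIso hU₀).inv c)) e4).trans ?_
      have h3 : (g.normalizationObjIso hU₀).hom ((g.normalizationObjIso hU₀).inv c) = c :=
        congrArg (fun m => m.hom c) (g.normalizationObjIso hU₀).inv_hom_id
      subst hc
      exact (congrArg (fun w => ρ.hom ((integralClosure Γ(X, U₀) Γ(Spec (CommRingCat.of K), g ⁻¹ᵁ U₀)).val w)) h3).trans rfl
    obtain ⟨za, hza⟩ := himg ⟨_, hsy⟩
    obtain ⟨zb, hzb⟩ := himg ⟨_, isIntegral_algebraMap (R := Γ(X, U₀)) (A := K) (x := s)⟩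
    refine ⟨za / zb, ?_⟩
    rw [map_div₀, hza, hzb]
    show (s • y) / algebraMap Γ(X, U₀) K s = y
    have hs0 : algebraMap Γ(X, U₀) K s ≠ 0 := fun h0 => nonZeroDivisors.ne_zero hs
      (X.germToFunctionField_injective U₀ (φ.injective (by rw [map_zero, map_zero]; exact h0)))
    rw [Algebra.smul_def, mul_div_cancel_left₀ _ hs0]

end Groth.Agent.S4448
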