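import Groth.Statements.S9688
import Groth.Agent.CurveNorm.Basic

set_option autoImplicit false
set_option linter.style.haveILetI false
universe u
open CategoryTheory CategoryTheory.Limits AlgebraicGeometry
open Mor

namespace Groth.Agent.S9688

/-- Let X be an integral Japanese scheme (every nonempty affine open has Japanese, i.e. N-2, coordinate
ring). Then the normalization morphism X^ν ⟶ X is finite. (The quasi-compactness and
quasi-separatedness binders on Spec K(X) ⟶ X always hold; they are only needed to form the
normalization.) -/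
theorem result (X : Scheme.{u}) [IsIntegral X] [QuasiCompact (X.fromSpecStalk (genericPoint ↥X))] [QuasiSeparated (X.fromSpecStalk (genericPoint ↥X))]
    (hJ : ∀ (U : X.Opens), IsAffineOpen U → ∀ (hne : Nonempty ↥U),
      @CAlg.IsN2 ↑Γ(X, U) _ (@IsIntegral.component_integral X _ U hne)) :
    IsFinite (Curv2.normalizationι X) := by
  let g := X.fromSpecStalk (genericPoint ↥X)
  show IsFinite g.fromNormalization
  refine { finite_app := fun U hU => ?_ }
  letI := (g.app U).hom.toAlgebra
  rw [g.fromNormalization_app hU, CommRingCat.hom_comp, CommRingCat.hom_ofHom]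
  refine RingHom.Finite.comp (RingHom.Finite.of_surjective _
    (g.normalizationObjIso hU).symm.commRingCatIsoToRingEquiv.surjective) ?_
  rw [RingHom.finite_algebraMap]
  by_cases hU0 : Nonempty U
  · let φ : X.functionField →+* X.functionField := RingHom.id _
    have hg : g = Spec.map (CommRingCat.ofHom φ) ≫ X.fromSpecStalk (genericPoint X) := by
      simp [φ, g]
    obtain ⟨e, he⟩ := Groth.Agent.CurveNorm.exists_equiv φ g hg U
    haveI := functionField_isFractionRing_of_isAffineOpen X U hU
    letI : Algebra (FractionRing Γ(X, U)) X.functionField :=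
      (FractionRing.algEquiv Γ(X, U) X.functionField).toAlgHom.toRingHom.toAlgebra
    haveI : IsScalarTower Γ(X, U) (FractionRing Γ(X, U)) X.functionField :=
      IsScalarTower.of_algebraMap_eq fun a => ((FractionRing.algEquiv Γ(X, U) X.functionField).commutes a).symm
    haveI : FiniteDimensional (FractionRing Γ(X, U)) X.functionField :=
      Module.Finite.of_surjective (Algebra.linearMap _ _) (FractionRing.algEquiv Γ(X, U) X.functionField).surjective
    haveI := hJ U hU hU0 X.functionField inferInstance
    let ψ : Γ(Spec (X.presheaf.stalk (genericPoint X)), g ⁻¹ᵁ U) ≃ₐ[Γ(X, U)] X.functionField :=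
      AlgEquiv.ofRingEquiv (f := e.commRingCatIsoToRingEquiv) fun a => congrArg (fun h => h.hom a) he
    exact Module.Finite.equiv ψ.mapIntegralClosure.symm.toLinearEquiv
  · obtain rfl : U = ⊥ := TopologicalSpace.Opens.ext (Set.eq_empty_iff_forall_notMem.2 fun x hx => hU0 ⟨⟨x, hx⟩⟩)
    haveI : Subsingleton Γ(X, (⊥ : X.Opens)) :=
      CommRingCat.subsingleton_of_isTerminal (Scheme.sheaf X).isTerminalOfEmpty
    haveI := Module.subsingleton Γ(X, (⊥ : X.Opens)) (integralClosure Γ(X, (⊥ : X.Opens)) Γ(Spec (X.presheaf.stalk (genericPoint X)), g ⁻¹ᵁ (⊥ : X.Opens)))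
    infer_instance

end Groth.Agent.S9688
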