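import Groth.Statements.S19560
import Mathlib.Tactic

set_option autoImplicit false
set_option linter.style.haveILetI false
open Polynomial
universe u
open W4c1limliniiii

namespace Groth.Agent.S19560

open Polynomial in
/-- Let k be an algebraically closed field of characteristic p (a prime or zero) and let F, G be
polynomials spanning a base-point-free pencil V of degree d (a two-dimensional space of polynomials
of degree at most d containing one of degree d and with no common zero in k), so that V encodes a
degree-d self-map F/G of the projective line up to automorphisms of the target. Suppose the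
Wronskian W = F′G − FG′ is non-zero and vanishes at the point a to order exactly e − 1 with e ≥ 1,
and that p = 0 or e − 1 < p. Then the map is tamely ramified at a with index e: the largest order of
vanishing at a of a non-zero member of V is e, and p does not divide e. (The hypothesis W ≠ 0 makes
the order of vanishing meaningful; for W = 0 the map is inseparable.) -/
theorem result
    (k : Type u) [Field k] [IsAlgClosed k] (p : ℕ) [CharP k p]
    (d : ℕ) (F G : k[X]) (hV : W4c1limliniiii.IsPencil d (Submodule.span k {F, G}))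
    (hW : Polynomial.wronskian F G ≠ 0) (a : k) (e : ℕ)
    (he : (Polynomial.wronskian F G).rootMultiplicity a + 1 = e) (hp : p = 0 ∨ e - 1 < p) :
    W4c1limliniiii.HasRamIdx (Submodule.span k {F, G}) a e ∧ ¬ p ∣ e := by
  set V := Submodule.span k {F, G} with hVdef
  obtain ⟨hdeg, hrk, ⟨s₀, hs₀V, -⟩, hbpf⟩ := hV
  -- coefficients
  have hexp : ∀ s ∈ V, ∃ α β : k, s = C α * F + C β * G := by
    intro s hs
    obtain ⟨α, β, rfl⟩ := Submodule.mem_span_pair.mp hs
    exact ⟨α, β, by simp [smul_eq_C_mul]⟩
  obtain ⟨t, htV, hta⟩ := hbpf a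
  have hF : F ∈ V := Submodule.subset_span (by simp)
  have hG : G ∈ V := Submodule.subset_span (by simp)
  -- maximal order
  have hbdd : ∀ s ∈ V, s ≠ 0 → rootMultiplicity a s ≤ d := fun s hs hs0 => by
    have h := natDegree_le_iff_degree_le.mpr (mem_degreeLE.mp (hdeg hs))
    have h' := natDegree_le_of_dvd (pow_rootMultiplicity_dvd s a) hs0
    simp at h'
    omega
  let P : ℕ → Prop := fun m => ∃ s ∈ V, s ≠ 0 ∧ m ≤ rootMultiplicity a s
  haveI : DecidablePred P := Classical.decPred _
  have hF0 : F ≠ 0 := by rintro rfl; simp [wronskian] at hW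
  have hP0 : P 0 := ⟨F, hF, hF0, Nat.zero_le _⟩
  set m := Nat.findGreatest P d with hm
  obtain ⟨s, hsV, hs0, hsm⟩ : P m := Nat.findGreatest_spec (Nat.zero_le d) hP0
  have hmax : ∀ s' ∈ V, s' ≠ 0 → rootMultiplicity a s' ≤ m := fun s' h h0 =>
    Nat.le_findGreatest (hbdd s' h h0) ⟨s', h, h0, le_rfl⟩
  have hsm' : rootMultiplicity a s = m := le_antisymm (hmax s hsV hs0) hsm
  have hm1 : 1 ≤ m := by
    -- F(a) • t - t(a) • F vanishes at a
    by_contra hcon
    have hz : ∀ r ∈ V, r.eval a = 0 → r = 0 := by
      intro r hr hra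
      by_contra hr0
      have := hmax r hr hr0
      have := (rootMultiplicity_pos hr0).mpr hra
      omega
    have e1 := hz (F.eval a • t - t.eval a • F) (V.sub_mem (V.smul_mem _ htV) (V.smul_mem _ hF))
      (by simp [mul_comm])
    have e2 := hz (G.eval a • t - t.eval a • G) (V.sub_mem (V.smul_mem _ htV) (V.smul_mem _ hG))
      (by simp [mul_comm])
    rw [sub_eq_zero] at e1 e2
    apply hW
    have hFt : F = C ((t.eval a)⁻¹ * F.eval a) * t := by
      rw [C_mul, mul_assoc, ← smul_eq_C_mul (F.eval a), e1, smul_eq_C_mul, ← mul_assoc, ← C_mul,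
        inv_mul_cancel₀ hta, C_1, one_mul]
    have hGt : G = C ((t.eval a)⁻¹ * G.eval a) * t := by
      rw [C_mul, mul_assoc, ← smul_eq_C_mul (G.eval a), e2, smul_eq_C_mul, ← mul_assoc, ← C_mul,
        inv_mul_cancel₀ hta, C_1, one_mul]
    rw [hFt, hGt]
    simp [wronskian, derivative_mul]
    ring
  -- Wronskian of (s, t)
  obtain ⟨α, β, hs⟩ := hexp s hsV
  obtain ⟨γ, δ, ht⟩ := hexp t htV
  set D := α * δ - β * γ with hD
  have hWst : wronskian s t = C D * wronskian F G := by
    rw [hs, ht, hD]
    simp only [wronskian, derivative_add, derivative_mul, derivative_C, zero_mul, zero_add, C_sub, C_mul]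
    ring
  obtain ⟨u, hu⟩ := dvd_iff_exists_eq_mul_left.mp (pow_rootMultiplicity_dvd s a)
  have hu' : s = (X - C a) ^ m * u := by rw [← hsm']; rw [mul_comm]; exact hu
  have hua : u.eval a ≠ 0 := by
    intro h
    have h2 : (X - C a) ^ (m + 1) ∣ s := by
      rw [hu', pow_succ]; exact mul_dvd_mul_left _ (dvd_iff_isRoot.mpr h)
    have := (le_rootMultiplicity_iff hs0).mpr h2
    omega
  have hD0 : D ≠ 0 := by
    intro h0
    have hsa : s.eval a = 0 := by
      rw [hu']; simp [zero_pow (by omega : m ≠ 0)]
    have hkey : C δ * s - C β * t = C D * F ∧ C α * t - C γ * s = C D * G := by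
      rw [hs, ht, hD]; constructor <;> simp only [C_sub, C_mul] <;> ring
    rw [h0, C_0, zero_mul, zero_mul] at hkey
    have hb : β = 0 := by
      have := congrArg (eval a) hkey.1
      simpa [hsa, hta] using this
    have hα : α = 0 := by
      have := congrArg (eval a) hkey.2
      simpa [hsa, hta] using this
    apply hs0; rw [hs, hα, hb]; simp
  have hrm : rootMultiplicity a (wronskian s t) + 1 = e := by
    rw [hWst, rootMultiplicity_mul (mul_ne_zero (C_ne_zero.mpr hD0) hW), rootMultiplicity_C, zero_add, he]
  have hWne : wronskian s t ≠ 0 := by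
    rw [hWst]; exact mul_ne_zero (C_ne_zero.mpr hD0) hW
  set R : k[X] := u * derivative t - derivative u * t with hR
  have hfac : wronskian s t = (X - C a) ^ (m - 1) * ((X - C a) * R - C (m : k) * u * t) := by
    obtain ⟨m', hm'⟩ : ∃ m', m = m' + 1 := ⟨m - 1, by omega⟩
    rw [hu', hR, hm', wronskian, derivative_mul, derivative_X_sub_C_pow, Nat.add_sub_cancel, pow_succ]
    ring
  have hple : ¬ p ∣ m := by
    intro hdvd
    have hmk : (m : k) = 0 := (CharP.cast_eq_zero_iff k p m).mpr hdvd
    rw [hmk, C_0, zero_mul, zero_mul, sub_zero, ← mul_assoc, ← pow_succ,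
      Nat.sub_add_cancel hm1] at hfac
    have hle := (le_rootMultiplicity_iff hWne).mpr (Dvd.intro R hfac.symm)
    rcases hp with hp | hp
    · subst hp; rw [zero_dvd_iff] at hdvd; omega
    · have := Nat.le_of_dvd (by omega) hdvd; omega
  have hmk : (m : k) ≠ 0 := fun h => hple ((CharP.cast_eq_zero_iff k p m).mp h)
  have hne2 : ((X - C a) * R - C (m : k) * u * t).eval a ≠ 0 := by
    simp [hmk, hua, hta]
  have hne3 : (X - C a) * R - C (m : k) * u * t ≠ 0 := fun h => hne2 (by rw [h]; simp)
  have hval : rootMultiplicity a (wronskian s t) = m - 1 := by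
    rw [hfac, rootMultiplicity_mul (mul_ne_zero (pow_ne_zero _ (X_sub_C_ne_zero a)) hne3),
      rootMultiplicity_X_sub_C_pow, rootMultiplicity_eq_zero hne2, add_zero]
  have hem : e = m := by omega
  subst hem
  exact ⟨⟨⟨s, hsV, hs0, hsm⟩, hmax⟩, hple⟩

end Groth.Agent.S19560
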