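import Groth.Statements.S6381
import Mathlib.FieldTheory.Minpoly.Field
import Mathlib.RingTheory.AdjoinRoot
import Mathlib.RingTheory.Polynomial.ScaleRoots
import Mathlib.Algebra.Polynomial.Lifts
import Mathlib.FieldTheory.IntermediateField.Adjoin.Basic
import Mathlib.Tactic.Ring
import Mathlib.Tactic.FieldSimp

set_option autoImplicit false
universe u
open CAlg

namespace Groth.Agent.S6381

/-- Let R be a ring, p ⊆ R a prime and L a finite extension of the residue field κ(p). Then one can find
a ring map R → S, with S finite free over R, for which q = pS is a prime of S and the residue field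
κ(q) is isomorphic to L over κ(p) (stated as a ring isomorphism κ(q) ≅ L compatible with the maps
from R, which determines compatibility with κ(p)). -/
theorem result (R : Type u) [CommRing R] (p : Ideal R) [p.IsPrime]
    (L : Type u) [Field L] [Algebra p.ResidueField L] [FiniteDimensional p.ResidueField L]
    [Algebra R L] [IsScalarTower R p.ResidueField L] :
    ∃ (S : Type u) (_ : CommRing S) (_ : Algebra R S) (_ : Module.Finite R S) (_ : Module.Free R S)
      (_ : (p.map (algebraMap R S)).IsPrime)
      (e : (p.map (algebraMap R S)).ResidueField ≃+* L),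
      ∀ r : R, e (algebraMap R (p.map (algebraMap R S)).ResidueField r) = algebraMap R L r := by
  classical
  let K := p.ResidueField
  -- `Good E`: a finite free model of `E`
  let Good : IntermediateField p.ResidueField L → Prop := fun E =>
    ∃ (S : Type u) (_ : CommRing S) (_ : Algebra R S) (_ : Module.Finite R S) (_ : Module.Free R S) (φ : S →ₐ[R] L),
      RingHom.ker φ.toRingHom = p.map (algebraMap R S) ∧ (∀ s, φ s ∈ E) ∧
      ∀ e ∈ E, ∃ a b : S, φ b ≠ 0 ∧ e * φ b = φ a
  have hbot : Good ⊥ := by
    refine ⟨R, inferInstance, inferInstance, inferInstance, inferInstance, Algebra.ofId R L, ?_, ?_, ?_⟩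
    · rw [Algebra.algebraMap_self, Ideal.map_id]
      ext r
      rw [RingHom.mem_ker, AlgHom.toRingHom_eq_coe, RingHom.coe_coe, Algebra.ofId_apply,
        IsScalarTower.algebraMap_apply R p.ResidueField L,
        map_eq_zero_iff _ (algebraMap p.ResidueField L).injective, Ideal.algebraMap_residueField_eq_zero]
    · intro r
      rw [Algebra.ofId_apply, IsScalarTower.algebraMap_apply R p.ResidueField L]
      exact IntermediateField.algebraMap_mem _ _
    · intro e he
      obtain ⟨k, rfl⟩ := IntermediateField.mem_bot.mp he
      obtain ⟨a, b, hb, hk⟩ := IsFractionRing.div_surjective (A := R ⧸ p) k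
      obtain ⟨a, rfl⟩ := Ideal.Quotient.mk_surjective a
      obtain ⟨b, rfl⟩ := Ideal.Quotient.mk_surjective b
      have hb' : algebraMap R p.ResidueField b ≠ 0 := by
        rw [Ne, Ideal.algebraMap_residueField_eq_zero]
        exact fun h => nonZeroDivisors.ne_zero hb (Ideal.Quotient.eq_zero_iff_mem.mpr h)
      refine ⟨a, b, ?_, ?_⟩
      · rw [Algebra.ofId_apply, IsScalarTower.algebraMap_apply R p.ResidueField L, Ne,
          map_eq_zero_iff _ (algebraMap p.ResidueField L).injective]
        exact hb'
      · rw [Algebra.ofId_apply, Algebra.ofId_apply, IsScalarTower.algebraMap_apply R p.ResidueField L,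
          IsScalarTower.algebraMap_apply R p.ResidueField L, ← map_mul, ← hk]
        congr 1
        rw [IsScalarTower.algebraMap_apply R (R ⧸ p) p.ResidueField b,
          IsScalarTower.algebraMap_apply R (R ⧸ p) p.ResidueField a, Ideal.Quotient.algebraMap_eq,
          div_mul_cancel₀]
        rw [← Ideal.Quotient.algebraMap_eq, ← IsScalarTower.algebraMap_apply]
        exact hb'
  have hstep : ∀ (E : IntermediateField p.ResidueField L) (x : L), Good E →
      Good ((IntermediateField.adjoin E ({x} : Set L)).restrictScalars p.ResidueField) := by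
    rintro E x ⟨S, _, _, _, _, φ, hker, hmem, hfrac⟩
    let E' := (IntermediateField.adjoin E ({x} : Set L))
    let φE : S →+* E := φ.toRingHom.codRestrict E.toSubfield.toSubring hmem
    have hint : IsIntegral E x := IsIntegral.of_finite E x
    -- clear denominators of the minimal polynomial
    have hden : ∀ s : Finset ℕ, ∃ b : S, φ b ≠ 0 ∧ ∀ i ∈ s, ∃ a : S, ((minpoly E x).coeff i : L) * φ b = φ a := by
      intro s
      induction s using Finset.induction_on with
      | empty => exact ⟨1, by simp, by simp⟩
      | @insert i s _ ih =>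
        obtain ⟨b, hb, hbs⟩ := ih
        obtain ⟨a, b', hb', hab⟩ := hfrac _ ((minpoly E x).coeff i).2
        refine ⟨b * b', by simp [hb, hb'], fun j hj => ?_⟩
        rcases Finset.mem_insert.mp hj with rfl | hj
        · exact ⟨b * a, by rw [map_mul, map_mul, ← hab]; ring⟩
        · obtain ⟨a', ha'⟩ := hbs j hj
          exact ⟨a' * b', by rw [map_mul, map_mul, ← ha', mul_assoc]⟩
    obtain ⟨b, hb, hbs⟩ := hden (Finset.range (minpoly E x).natDegree)
    let x' : L := φ b * x
    have hbE : (φE b) ≠ 0 := fun h => hb (congrArg Subtype.val h)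
    let f : Polynomial E := (minpoly E x).scaleRoots (φE b)
    have hf : f.Monic := (Polynomial.monic_scaleRoots_iff _).mpr (minpoly.monic hint)
    have hfirr : f = minpoly E x' := by
      have h0 : Polynomial.aeval x' f = 0 := Polynomial.scaleRoots_aeval_eq_zero (r := φE b) (minpoly.aeval E x)
      have h1 : Polynomial.aeval x ((minpoly E x').scaleRoots (φE b)⁻¹) = 0 := by
        have := Polynomial.scaleRoots_aeval_eq_zero (r := (φE b)⁻¹) (minpoly.aeval E x')
        have e : algebraMap E L (φE b)⁻¹ * x' = x := by
          rw [map_inv₀]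
          exact inv_mul_cancel_left₀ hb x
        rwa [e] at this
      have h2 := Polynomial.natDegree_le_of_dvd (minpoly.dvd E x h1)
        ((Polynomial.monic_scaleRoots_iff _).mpr (minpoly.monic (IsIntegral.of_finite E x'))).ne_zero
      rw [Polynomial.natDegree_scaleRoots] at h2
      exact (Polynomial.eq_of_monic_of_dvd_of_natDegree_le (minpoly.monic (IsIntegral.of_finite E x')) hf
        (minpoly.dvd E x' h0) (by rw [Polynomial.natDegree_scaleRoots]; exact h2)).symm.symm
    have hlift : f ∈ Polynomial.lifts φE := by
      rw [Polynomial.lifts_iff_coeff_lifts]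
      intro i
      rw [Polynomial.coeff_scaleRoots]
      rcases lt_trichotomy i (minpoly E x).natDegree with hi | hi | hi
      · obtain ⟨a, ha⟩ := hbs i (Finset.mem_range.mpr hi)
        refine ⟨a * b ^ ((minpoly E x).natDegree - i - 1), Subtype.ext ?_⟩
        show φ (a * b ^ ((minpoly E x).natDegree - i - 1)) = ((minpoly E x).coeff i : L) * φ b ^ ((minpoly E x).natDegree - i)
        rw [map_mul, map_pow, ← ha, mul_assoc, ← pow_succ']
        congr 2
        omega
      · subst hi
        exact ⟨1, by simp [(minpoly.monic hint).coeff_natDegree]⟩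
      · exact ⟨0, by simp [Polynomial.coeff_eq_zero_of_natDegree_lt hi]⟩
    obtain ⟨F, hF, hFdeg, hFm⟩ := Polynomial.lifts_and_natDegree_eq_and_monic hlift hf
    have hFeval : F.eval₂ (φ.toRingHom) x' = 0 := by
      have h0 : Polynomial.aeval x' f = 0 := hfirr ▸ minpoly.aeval E x'
      rw [← hF, Polynomial.aeval_def, Polynomial.eval₂_map] at h0
      exact h0
    let S' := AdjoinRoot F
    haveI : Module.Finite S S' := hFm.finite_adjoinRoot
    haveI : Module.Free S S' := hFm.free_adjoinRoot
    haveI : Module.Finite R S' := Module.Finite.trans S S'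
    haveI : Module.Free R S' := Module.Free.trans (S := S)
    let φ' : S' →ₐ[R] L :=
      { AdjoinRoot.lift φ.toRingHom x' hFeval with
        commutes' := fun r => by
          show AdjoinRoot.lift φ.toRingHom x' hFeval (algebraMap R (AdjoinRoot F) r) = _
          rw [IsScalarTower.algebraMap_apply R S (AdjoinRoot F), AdjoinRoot.algebraMap_eq, AdjoinRoot.lift_of]
          exact φ.commutes r }
    have hφ'of : ∀ s : S, φ' (AdjoinRoot.of F s) = φ s := fun s => AdjoinRoot.lift_of hFeval
    have hφ'root : φ' (AdjoinRoot.root F) = x' := AdjoinRoot.lift_root hFeval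
    refine ⟨S', inferInstance, inferInstance, inferInstance, inferInstance, φ', ?_, ?_, ?_⟩
    · have hmap : p.map (algebraMap R S') = (RingHom.ker φ.toRingHom).map (AdjoinRoot.of F) := by
        rw [hker, Ideal.map_map, ← AdjoinRoot.algebraMap_eq, ← IsScalarTower.algebraMap_eq]
      refine le_antisymm (fun z hz => ?_) ?_
      · obtain ⟨g, rfl⟩ := AdjoinRoot.mk_surjective z
        have hz' : g.eval₂ φ.toRingHom x' = 0 := by
          have : φ' (AdjoinRoot.mk F g) = g.eval₂ φ.toRingHom x' := AdjoinRoot.lift_mk hFeval g
          rw [← this]; exact hz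
        have hr0 : (g %ₘ F).map φE = 0 := by
          by_contra hne
          have h1 : Polynomial.aeval x' ((g %ₘ F).map φE) = 0 := by
            rw [Polynomial.aeval_def, Polynomial.eval₂_map]
            show (g %ₘ F).eval₂ φ.toRingHom x' = 0
            have := congrArg (Polynomial.eval₂ φ.toRingHom x') (Polynomial.modByMonic_add_div g F)
            rw [Polynomial.eval₂_add, Polynomial.eval₂_mul, hFeval, zero_mul, add_zero, hz'] at this
            exact this
          have h2 := minpoly.degree_le_of_ne_zero E x' hne h1
          rw [← hfirr, ← hF, Polynomial.degree_map_eq_of_leadingCoeff_ne_zero φE (by simp [hFm.leadingCoeff])] at h2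
          haveI : Nontrivial S := φ.toRingHom.domain_nontrivial
          exact absurd (h2.trans Polynomial.degree_map_le) (not_le.mpr (Polynomial.degree_modByMonic_lt g hFm))
        have h4 : AdjoinRoot.mk F g = AdjoinRoot.mk F (g %ₘ F) := by
          conv_lhs => rw [← Polynomial.modByMonic_add_div g F]
          rw [map_add, map_mul, AdjoinRoot.mk_self, zero_mul, add_zero]
        rw [h4, hmap, Polynomial.as_sum_support (g %ₘ F), map_sum]
        refine Ideal.sum_mem _ fun i _ => ?_
        rw [← Polynomial.C_mul_X_pow_eq_monomial, map_mul, AdjoinRoot.mk_C]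
        refine Ideal.mul_mem_right _ _ (Ideal.mem_map_of_mem _ ?_)
        have := congrArg (fun q => ((Polynomial.coeff q i : E) : L)) hr0
        rw [RingHom.mem_ker]
        simpa [φE] using this
      · rw [hmap, Ideal.map_le_iff_le_comap]
        intro s hs
        rw [Ideal.mem_comap, RingHom.mem_ker]
        show φ' (AdjoinRoot.of F s) = 0
        rw [hφ'of]; exact hs
    · intro z
      obtain ⟨g, rfl⟩ := AdjoinRoot.mk_surjective z
      have : φ' (AdjoinRoot.mk F g) = g.eval₂ φ.toRingHom x' := AdjoinRoot.lift_mk hFeval g
      rw [this, Polynomial.eval₂_eq_sum, Polynomial.sum]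
      refine sum_mem fun i _ => mul_mem ?_ (pow_mem (mul_mem ?_ (IntermediateField.mem_adjoin_simple_self E x)) _)
      · exact IntermediateField.algebraMap_mem E' (φE (g.coeff i))
      · exact IntermediateField.algebraMap_mem E' (φE b)
    · intro e he
      have he' : e ∈ IntermediateField.adjoin E ({x} : Set L) := he
      clear he
      induction he' using IntermediateField.adjoin_induction with
      | mem y hy =>
        rw [Set.mem_singleton_iff] at hy
        subst hy
        exact ⟨AdjoinRoot.root F, AdjoinRoot.of F b, by rwa [hφ'of], by rw [hφ'of, hφ'root, mul_comm]⟩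
      | algebraMap c =>
        obtain ⟨a, b', hb', hab⟩ := hfrac _ c.2
        exact ⟨AdjoinRoot.of F a, AdjoinRoot.of F b', by rwa [hφ'of], by rw [hφ'of, hφ'of]; exact hab⟩
      | add u v _ _ hu hv =>
        obtain ⟨a, c, hc, hu⟩ := hu
        obtain ⟨a', c', hc', hv⟩ := hv
        exact ⟨a * c' + a' * c, c * c', by simp [hc, hc'], by simp only [map_mul, map_add, ← hu, ← hv]; ring⟩
      | inv u _ hu =>
        obtain ⟨a, c, hc, hu⟩ := hu
        rcases eq_or_ne u 0 with rfl | hu0
        · exact ⟨0, 1, by simp, by simp⟩
        · exact ⟨c, a, by rw [← hu]; exact mul_ne_zero hu0 hc, by rw [← hu]; field_simp⟩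
      | mul u v _ _ hu hv =>
        obtain ⟨a, c, hc, hu⟩ := hu
        obtain ⟨a', c', hc', hv⟩ := hv
        exact ⟨a * a', c * c', by simp [hc, hc'], by simp only [map_mul, ← hu, ← hv]; ring⟩
  haveI : FiniteDimensional p.ResidueField L := ‹_›
  obtain ⟨S, hSring, hSalg, hSfin, hSfree, φ, hker, -, hfrac⟩ :=
    IntermediateField.induction_on_adjoin Good hbot (fun E x h => hstep E x h) ⊤
  have hprime : (p.map (algebraMap R S)).IsPrime := hker ▸ RingHom.ker_isPrime φ.toRingHom
  let q := p.map (algebraMap R S)
  haveI : q.IsPrime := hprime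
  let e : q.ResidueField →+* L := Ideal.ResidueField.lift q φ.toRingHom hker.ge (fun s hs => by
    rw [Submonoid.mem_comap, IsUnit.mem_submonoid_iff, isUnit_iff_ne_zero]
    intro h
    have h' : s ∈ RingHom.ker φ.toRingHom := h
    rw [hker] at h'
    exact hs h')
  have he : ∀ s, e (algebraMap S q.ResidueField s) = φ s := fun s => Ideal.ResidueField.lift_algebraMap q _ _ _ s
  refine ⟨S, hSring, hSalg, hSfin, hSfree, hprime, RingEquiv.ofBijective e ⟨e.injective, fun y => ?_⟩, fun r => ?_⟩
  · obtain ⟨a, b, hb, hab⟩ := hfrac y IntermediateField.mem_top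
    exact ⟨algebraMap S q.ResidueField a / algebraMap S q.ResidueField b, by
      rw [map_div₀, he, he, ← hab, mul_div_assoc, div_self hb, mul_one]⟩
  · show e (algebraMap R q.ResidueField r) = _
    rw [IsScalarTower.algebraMap_apply R S q.ResidueField, he, φ.commutes]

end Groth.Agent.S6381
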