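import Groth.Statements.S2454
-- import your own Groth.Agent.* helpers here
import Groth.Agent.EGA41FS.FlatFibre
import Groth.Agent.S2451

set_option autoImplicit false
universe u
open EGA41

namespace Groth.Agent.S2454

open IsLocalRing in
/-- Let A → B be a local homomorphism of Noetherian local rings making B a Cohen A-algebra. Then B, with
its adic topology, is formally smooth over A with its adic topology. -/
theorem result {A B : Type u} [CommRing A] [IsLocalRing A] [CommRing B] [IsLocalRing B]
    [Algebra A B] [IsLocalHom (algebraMap A B)] (h : EGA41.IsCohenAlgebra A B) :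
    EGA41.IsFormallySmoothAdic A (maximalIdeal A) B (maximalIdeal B) := by
  obtain ⟨hA, hBn, hc, hflat, hmax, hsep⟩ := h
  haveI := hflat; haveI := hsep
  haveI : Algebra.FormallySmooth (ResidueField A) (ResidueField B) := Groth.Agent.S2451.result.mpr inferInstance
  letI : Algebra (A ⧸ maximalIdeal A) (ResidueField B) := inferInstanceAs (Algebra (ResidueField A) (ResidueField B))
  haveI hK : Algebra.FormallySmooth (A ⧸ maximalIdeal A) (ResidueField B) :=
    inferInstanceAs (Algebra.FormallySmooth (ResidueField A) (ResidueField B))
  let r : ResidueField B ≃+* B ⧸ (maximalIdeal A).map (algebraMap A B) := Ideal.quotEquivOfEq hmax.symm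
  let e : ResidueField B ≃ₐ[A ⧸ maximalIdeal A] B ⧸ (maximalIdeal A).map (algebraMap A B) :=
    { r with
      commutes' := fun x => by
        obtain ⟨x, rfl⟩ := Ideal.Quotient.mk_surjective x
        rfl }
  haveI : Algebra.FormallySmooth (A ⧸ maximalIdeal A) (B ⧸ (maximalIdeal A).map (algebraMap A B)) :=
    Algebra.FormallySmooth.of_equiv e
  intro C _ _ J hJ hk u _
  exact Groth.Agent.EGA41FS.lift_of_flat_fibre (maximalIdeal A) J hJ hk u

end Groth.Agent.S2454
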