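import Groth.Statements.S4543
-- import your own Groth.Agent.* helpers here
import Mathlib

set_option autoImplicit false
universe u
open EGA41

namespace Groth.Agent.S4543

open IsLocalRing in
/-- Let A be a Noetherian ring, J an ideal of A, B and B' two A-algebras which are Noetherian local
rings, the structure maps being continuous for the J-adic topology on A (JB and JB' lie in the
maximal ideals); suppose B and B' are complete for the J-adic topologies, B is a formally smooth
A-algebra for the J-adic topology on A and the JB-adic topology on B (nilpotent test ideals, test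
algebras killed by a power of J, test maps killing a power of JB), and B' is a flat A-module. Then
every (A/J)-algebra isomorphism u₀ : B/JB ≅ B'/JB' comes from an A-algebra isomorphism u : B ≅ B' by
passing to quotients. (B is taken formally smooth for the JB-adic topology, the topology along which
the argument lifts B → B'/JB' to B'; read with the convention that a local ring carries the adic
topology of its maximal ideal, the published hypothesis would be formal smoothness for the
maximal-ideal topology on B, a weaker condition when JB is strictly smaller than the maximal ideal,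
and that reading is not what the argument establishes.) -/
theorem result {A B B' : Type u} [CommRing A] [IsNoetherianRing A] (J : Ideal A)
    [CommRing B] [IsLocalRing B] [IsNoetherianRing B] [Algebra A B]
    [CommRing B'] [IsLocalRing B'] [IsNoetherianRing B'] [Algebra A B']
    (hB : J.map (algebraMap A B) ≤ maximalIdeal B) (hB' : J.map (algebraMap A B') ≤ maximalIdeal B')
    [IsAdicComplete (J.map (algebraMap A B)) B] [IsAdicComplete (J.map (algebraMap A B')) B']
    (hfs : EGA41.IsFormallySmoothAdic A J B (J.map (algebraMap A B))) [Module.Flat A B']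
    (u₀ : (B ⧸ J.map (algebraMap A B)) ≃ₐ[A ⧸ J] (B' ⧸ J.map (algebraMap A B'))) :
    ∃ u : B ≃ₐ[A] B', ∀ b : B,
      Ideal.Quotient.mk (J.map (algebraMap A B')) (u b) = u₀ (Ideal.Quotient.mk (J.map (algebraMap A B)) b) := by
  classical
  set K := J.map (algebraMap A B) with hK
  set I := J.map (algebraMap A B') with hI
  haveI : IsLocalRing B' := inferInstance
  let u1 : B →ₐ[A] B' ⧸ I := (u₀.toAlgHom.restrictScalars A).comp (Ideal.Quotient.mkₐ A K)
  have hpow : ∀ m, (J ^ m).map (algebraMap A (B' ⧸ I ^ m)) = ⊥ := fun m => by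
    rw [IsScalarTower.algebraMap_eq A B' (B' ⧸ I ^ m), ← Ideal.map_map, Ideal.map_pow]
    exact Ideal.map_quotient_self _
  have hkill : ∀ (m : ℕ) (w : B →ₐ[A] B' ⧸ I ^ m), ∀ x ∈ K ^ m, w x = 0 := fun m w x hx => by
    have hle : (K ^ m).map w.toRingHom ≤ ⊥ := by
      rw [show K ^ m = (J ^ m).map (algebraMap A B) from (Ideal.map_pow _ _ _).symm, Ideal.map_map,
        show w.toRingHom.comp (algebraMap A B) = algebraMap A (B' ⧸ I ^ m) from RingHom.ext w.commutes, hpow]
    exact (Submodule.mem_bot _).mp (hle (Ideal.mem_map_of_mem _ hx))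
  have step : ∀ n (w : B →ₐ[A] B' ⧸ I ^ (n + 1)), ∃ w' : B →ₐ[A] B' ⧸ I ^ (n + 1 + 1),
      (Ideal.Quotient.factorPow I (show n + 1 ≤ n + 1 + 1 by omega)).comp w'.toRingHom = w.toRingHom := by
    intro n w
    have hle : I ^ (n + 1 + 1) ≤ I ^ (n + 1) := Ideal.pow_le_pow_right (by omega)
    let φ : B' ⧸ I ^ (n + 1 + 1) →ₐ[A] B' ⧸ I ^ (n + 1) := Ideal.Quotient.factorₐ A hle
    have hs : Function.Surjective φ := Ideal.Quotient.factor_surjective hle
    have hker : RingHom.ker φ = (I ^ (n + 1)).map (Ideal.Quotient.mk (I ^ (n + 1 + 1))) :=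
      Ideal.Quotient.factor_ker hle
    have hnil : IsNilpotent (RingHom.ker φ) := by
      refine ⟨2, ?_⟩
      rw [hker, ← Ideal.map_pow (Ideal.Quotient.mk (I ^ (n + 1 + 1))), Ideal.zero_eq_bot, Ideal.map_eq_bot_iff_le_ker, Ideal.mk_ker, ← pow_mul]
      exact Ideal.pow_le_pow_right (by omega)
    let e := Ideal.quotientKerAlgEquivOfSurjective hs
    obtain ⟨v, hv⟩ := hfs _ (RingHom.ker φ) hnil ⟨_, hpow (n + 1 + 1)⟩ (e.symm.toAlgHom.comp w)
      ⟨n + 1, fun x hx => by simp [hkill _ w x hx]⟩
    refine ⟨v, RingHom.ext fun x => ?_⟩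
    have := congrArg e (DFunLike.congr_fun hv x)
    simp only [AlgHom.comp_apply, AlgEquiv.coe_toAlgHom, AlgEquiv.apply_symm_apply] at this
    exact this
  choose next hnext using step
  let e0 : B' ⧸ I →ₐ[A] B' ⧸ I ^ (0 + 1) :=
    (Ideal.quotientEquivAlgOfEq A (by rw [zero_add, pow_one] : I = I ^ (0 + 1))).toAlgHom
  let w : ∀ n, B →ₐ[A] B' ⧸ I ^ (n + 1) := fun n => n.rec (e0.comp u1) fun n a => next n a
  have hmono : StrictMono (fun n : ℕ => n + 1) := fun a b h => Nat.succ_lt_succ h
  have hcompat : ∀ {j : ℕ}, (Ideal.Quotient.factorPow I (Nat.succ_le_succ j.le_succ)).comp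
      (w (j + 1)).toRingHom = (w j).toRingHom := fun {j} => by
    exact hnext j (w j)
  have hv := fun n => IsAdicComplete.StrictMono.mk_liftRingHom I hmono (fun n => (w n).toRingHom) hcompat (n := n)
  let u : B →ₐ[A] B' :=
    { IsAdicComplete.StrictMono.liftRingHom I hmono (fun n => (w n).toRingHom) hcompat with
      commutes' := fun r => by
        refine eq_of_sub_eq_zero (IsHausdorff.haus (I := I) inferInstance _ fun n => ?_)
        rw [SModEq.sub_mem, sub_zero, smul_eq_mul, Ideal.mul_top]
        refine Ideal.pow_le_pow_right (show n ≤ n + 1 by omega) (Ideal.Quotient.eq.mp ?_)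
        exact (hv n (algebraMap A B r)).trans ((w n).commutes r) }
  have hu0 : ∀ b, Ideal.Quotient.mk I (u b) = u₀ (Ideal.Quotient.mk K b) := fun b =>
    (Ideal.quotientEquivAlgOfEq A (by rw [zero_add, pow_one] : I = I ^ (0 + 1))).injective (hv 0 b)
  have huK : K.map u.toRingHom = I := by
    rw [hK, Ideal.map_map, show u.toRingHom.comp (algebraMap A B) = algebraMap A B' from RingHom.ext u.commutes]
  have hsurj : Function.Surjective u := by
    haveI : IsHausdorff (K.map u.toRingHom) B' := by rw [huK]; infer_instance
    refine surjective_of_mk_map_comp_surjective (I := K) u.toRingHom fun z => ?_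
    obtain ⟨z, rfl⟩ := Ideal.Quotient.mk_surjective z
    obtain ⟨c, hc⟩ := Ideal.Quotient.mk_surjective (u₀.symm (Ideal.Quotient.mk I z))
    refine ⟨c, ?_⟩
    rw [RingHom.comp_apply, Ideal.Quotient.eq, huK, ← Ideal.Quotient.eq]
    exact (hu0 c).trans (by rw [hc, AlgEquiv.apply_symm_apply])
  have hinj : Function.Injective u := by
    show Function.Injective u.toRingHom
    rw [RingHom.injective_iff_ker_eq_bot]
    refine Submodule.eq_bot_of_le_smul_of_le_jacobson_bot K _ (IsNoetherian.noetherian _) (fun x hx => ?_)
      (hB.trans (IsLocalRing.maximalIdeal_le_jacobson ⊥))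
    have hux : u x = 0 := RingHom.mem_ker.mp hx
    have hxK : x ∈ K := by
      rw [← Ideal.Quotient.eq_zero_iff_mem]
      apply u₀.injective
      rw [← hu0, hux, map_zero, map_zero]
    have hxJ : x ∈ J • (⊤ : Submodule A B) := by rw [Ideal.smul_top_eq_map]; exact hxK
    rw [← Submodule.span_univ, ← Subtype.range_coe (s := (Set.univ : Set B)),
      Submodule.mem_ideal_smul_span_iff_exists_sum] at hxJ
    obtain ⟨a, ha, hax⟩ := hxJ
    let fA : a.support → A := fun i => a i
    let xB : a.support → B' := fun i => u (i : Set.univ).1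
    have hrel : ∑ i, fA i • xB i = 0 := by
      rw [← hux, ← hax, map_finsuppSum, Finsupp.sum, ← Finset.sum_coe_sort a.support]
      exact Finset.sum_congr rfl fun i _ => (map_smul u (a i) _).symm
    obtain ⟨κ, c, y, hy, hc⟩ := Module.Flat.isTrivialRelation_of_sum_smul_eq_zero (R := A) (M := B') hrel
    choose z hz using fun j => hsurj (y j)
    have hmem : ∀ i : a.support, (i : Set.univ).1 - ∑ j, c i j • z j ∈ RingHom.ker u.toRingHom := fun i => by
      rw [RingHom.mem_ker]
      show u _ = 0
      rw [map_sub, map_sum, show u (i : Set.univ).1 = _ from hy i, sub_eq_zero]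
      exact Finset.sum_congr rfl fun j _ => by rw [map_smul, hz]
    have hxe : x = ∑ i : a.support, algebraMap A B (a i) * ((i : Set.univ).1 - ∑ j, c i j • z j) := by
      rw [← hax, Finsupp.sum, ← Finset.sum_coe_sort]
      simp only [← Algebra.smul_def, smul_sub, Finset.sum_sub_distrib, Finset.smul_sum, smul_smul]
      rw [Finset.sum_comm]
      have hc' : ∀ j, ∑ i : a.support, a i * c i j = 0 := hc
      simp only [← Finset.sum_smul, hc', zero_smul, Finset.sum_const_zero, sub_zero]
    rw [hxe]
    exact sum_mem fun i _ => Submodule.smul_mem_smul (Ideal.mem_map_of_mem _ (ha _)) (hmem i)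
  exact ⟨AlgEquiv.ofBijective u ⟨hinj, hsurj⟩, hu0⟩

end Groth.Agent.S4543
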