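import Groth.Statements.S2455
-- import your own Groth.Agent.* helpers here
import Groth.Agent.S2363
import Groth.Agent.S0543
import Groth.Agent.S2454
import Groth.Agent.S4543

set_option autoImplicit false
universe u
open EGA41

namespace Groth.Agent.S2455

open IsLocalRing in
/-- Let A be a Noetherian local ring with residue field k and K a separable extension field of k. Then
there is a Cohen A-algebra B whose residue field is k-isomorphic to K; and two Cohen A-algebras
whose residue fields are k-isomorphic to K are isomorphic as A-algebras. -/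
theorem result {A : Type u} [CommRing A] [IsLocalRing A] [IsNoetherianRing A]
    (K : Type u) [Field K] [Algebra (ResidueField A) K] [Algebra.IsGeometricallyReduced (ResidueField A) K] :
    (∃ (B : Type u) (_ : CommRing B) (_ : IsLocalRing B) (_ : Algebra A B) (_ : IsLocalHom (algebraMap A B)),
      EGA41.IsCohenAlgebra A B ∧ Nonempty (ResidueField B ≃ₐ[ResidueField A] K)) ∧
    ∀ (B B' : Type u) [CommRing B] [IsLocalRing B] [Algebra A B] [IsLocalHom (algebraMap A B)]
      [CommRing B'] [IsLocalRing B'] [Algebra A B'] [IsLocalHom (algebraMap A B')],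
      EGA41.IsCohenAlgebra A B → EGA41.IsCohenAlgebra A B' →
      Nonempty (ResidueField B ≃ₐ[ResidueField A] K) → Nonempty (ResidueField B' ≃ₐ[ResidueField A] K) →
      Nonempty (B ≃ₐ[A] B') := by
  constructor
  · obtain ⟨B, _, _, hBn, hBl, hloc, hflat, e, he⟩ := Groth.Agent.S2363.result (A := A) K
    haveI := hBn; haveI := hBl; haveI := hloc; haveI := hflat
    have hmaxB : (maximalIdeal A).map (algebraMap A B) = maximalIdeal B :=
      eq_maximalIdeal (Ideal.Quotient.maximal_of_isField _ (e.toMulEquiv.isField (Field.toIsField K)))
    let B' := AdicCompletion (maximalIdeal B) B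
    haveI : IsNoetherianRing B' := Groth.Agent.S0543.result B (maximalIdeal B)
    haveI : IsLocalHom (algebraMap A B') := by
      rw [IsScalarTower.algebraMap_eq A B B']
      exact RingHom.isLocalHom_comp _ _
    haveI : Module.Flat A B' := Module.Flat.trans A B B'
    have hmax' : (maximalIdeal A).map (algebraMap A B') = maximalIdeal B' := by
      rw [IsScalarTower.algebraMap_eq A B B', ← Ideal.map_map, hmaxB, ← AdicCompletion.maximalIdeal_eq_map]
    let r : ResidueField B ≃+* ResidueField B' :=
      RingEquiv.ofBijective _ (AdicCompletion.residueField_map_bijective_of_fg (IsNoetherian.noetherian _))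
    let e' : ResidueField B ≃+* K := (Ideal.quotEquivOfEq hmaxB.symm).trans e
    have he' : ∀ x : ResidueField A, (r.symm.trans e') (algebraMap (ResidueField A) (ResidueField B') x) =
        algebraMap (ResidueField A) K x := fun x => by
      obtain ⟨a, rfl⟩ := residue_surjective x
      have h1 : r (residue B (algebraMap A B a)) = algebraMap (ResidueField A) (ResidueField B') (residue A a) := by
        show residue B' (algebraMap B B' (algebraMap A B a)) = residue B' (algebraMap A B' a)
        rw [← IsScalarTower.algebraMap_apply]
      rw [RingEquiv.trans_apply, ← h1, RingEquiv.symm_apply_apply]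
      exact he a
    let E : ResidueField B' ≃ₐ[ResidueField A] K := AlgEquiv.ofRingEquiv (f := r.symm.trans e') he'
    exact ⟨B', inferInstance, inferInstance, inferInstance, inferInstance,
      ⟨inferInstance, inferInstance, inferInstance, inferInstance, hmax',
        Algebra.IsGeometricallyReduced.of_injective E.toAlgHom E.injective⟩, ⟨E⟩⟩
  · intro B B' _ _ _ _ _ _ _ _ hB hB' ⟨eB⟩ ⟨eB'⟩
    have hfs := Groth.Agent.S2454.result hB
    obtain ⟨-, hBn, hBc, hBf, hBm, -⟩ := hB
    obtain ⟨-, hBn', hBc', hBf', hBm', -⟩ := hB'
    haveI := hBn; haveI := hBn'; haveI := hBf'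
    haveI : IsAdicComplete ((maximalIdeal A).map (algebraMap A B)) B := by rw [hBm]; exact hBc
    haveI : IsAdicComplete ((maximalIdeal A).map (algebraMap A B')) B' := by rw [hBm']; exact hBc'
    let q : (B ⧸ (maximalIdeal A).map (algebraMap A B)) ≃+* (B' ⧸ (maximalIdeal A).map (algebraMap A B')) :=
      ((Ideal.quotEquivOfEq hBm).trans (eB.trans eB'.symm).toRingEquiv).trans (Ideal.quotEquivOfEq hBm'.symm)
    let u₀ : (B ⧸ (maximalIdeal A).map (algebraMap A B)) ≃ₐ[A ⧸ maximalIdeal A]
        (B' ⧸ (maximalIdeal A).map (algebraMap A B')) :=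
      { q with
        commutes' := fun x => by
          obtain ⟨a, rfl⟩ := Ideal.Quotient.mk_surjective x
          show Ideal.quotEquivOfEq hBm'.symm
            ((eB.trans eB'.symm) (algebraMap (ResidueField A) (ResidueField B) (residue A a))) = _
          rw [AlgEquiv.commutes]
          rfl }
    obtain ⟨u, -⟩ := Groth.Agent.S4543.result (maximalIdeal A) hBm.le hBm'.le (by rw [hBm]; exact hfs) u₀
    exact ⟨u⟩

end Groth.Agent.S2455
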