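import Groth.Statements.S4534
-- import your own Groth.Agent.* helpers here
import Mathlib

set_option autoImplicit false
universe u
open EGA41

namespace Groth.Agent.S4534

/-- Let A → B → C be continuous homomorphisms of adic rings (A with the 𝔞-adic, B the 𝔟-adic, C the
𝔠-adic topology; continuity: a power of 𝔞 maps into 𝔟 and a power of 𝔟 into 𝔠). If B is formally
smooth over A and C formally smooth over B, then C is formally smooth over A. -/
theorem result {A B C : Type u} [CommRing A] [CommRing B] [CommRing C] [Algebra A B] [Algebra B C]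
    [Algebra A C] [IsScalarTower A B C] (𝔞 : Ideal A) (𝔟 : Ideal B) (𝔠 : Ideal C)
    (hAB : ∃ k : ℕ, (𝔞 ^ k).map (algebraMap A B) ≤ 𝔟) (hBC : ∃ k : ℕ, (𝔟 ^ k).map (algebraMap B C) ≤ 𝔠)
    (hB : EGA41.IsFormallySmoothAdic A 𝔞 B 𝔟) (hC : EGA41.IsFormallySmoothAdic B 𝔟 C 𝔠) :
    EGA41.IsFormallySmoothAdic A 𝔞 C 𝔠 := by
  intro E _ _ J hJ hE u hu
  obtain ⟨m, hm⟩ := hu
  obtain ⟨k, hk⟩ := hBC
  have huB : ∃ n : ℕ, ∀ x ∈ 𝔟 ^ n, (u.comp (IsScalarTower.toAlgHom A B C)) x = 0 := by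
    refine ⟨k * m, fun x hx => hm _ ?_⟩
    have h1 : algebraMap B C x ∈ (𝔟 ^ (k * m)).map (algebraMap B C) := Ideal.mem_map_of_mem _ hx
    rw [pow_mul, Ideal.map_pow] at h1
    exact Ideal.pow_right_mono hk m h1
  obtain ⟨v, hv⟩ := hB E J hJ hE (u.comp (IsScalarTower.toAlgHom A B C)) huB
  obtain ⟨n, hn⟩ := huB
  obtain ⟨N, hN⟩ := hJ
  have hvB : (𝔟 ^ (n * N)).map v.toRingHom = ⊥ := by
    rw [pow_mul, Ideal.map_pow, eq_bot_iff]
    refine (Ideal.pow_right_mono ?_ N).trans hN.le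
    rw [Ideal.map_le_iff_le_comap]
    intro x hx
    refine Ideal.mem_comap.mpr <| Ideal.Quotient.eq_zero_iff_mem.mp ?_
    exact (congrArg (fun g : B →ₐ[A] E ⧸ J => g x) hv).trans (hn x hx)
  letI : Algebra B E := v.toRingHom.toAlgebra
  haveI : IsScalarTower A B E := IsScalarTower.of_algebraMap_eq fun a => (v.commutes a).symm
  let u' : C →ₐ[B] E ⧸ J :=
    { u.toRingHom with
      commutes' := fun b => (congrArg (fun g : B →ₐ[A] E ⧸ J => g b) hv).symm }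
  obtain ⟨w, hw⟩ := hC E J ⟨N, hN⟩ ⟨n * N, hvB⟩ u' ⟨m, hm⟩
  exact ⟨w.restrictScalars A, AlgHom.ext fun c =>
    congrArg (fun g : C →ₐ[B] E ⧸ J => g c) hw⟩

end Groth.Agent.S4534
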