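import Groth.Statements.S1855
import Groth.Agent.CycDim.PushRat

set_option autoImplicit false
universe u
open CategoryTheory AlgebraicGeometry
open Cyc

namespace Groth.Agent.S1855

/-- Proper pushforward preserves rational equivalence: for p : X → Y proper and k-cycles α, β on X that
are rationally equivalent, p_*α and p_*β are rationally equivalent k-cycles on Y. Here a pair (X, δ)
with Cyc.IsSetup plays the role of a scheme locally of finite type over a fixed base with a
dimension function (X locally Noetherian with universally catenary local rings, δ a dimension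
function), and Cyc.DeltaCompat records that the dimension function upstairs is the induced one. -/
theorem result (X Y : Scheme.{u}) (δX : X → ℤ) (δY : Y → ℤ) (hX : Cyc.IsSetup X δX) (hY : Cyc.IsSetup Y δY) (p : X ⟶ Y) [IsProper p] (hδ : Cyc.DeltaCompat p δX δY) (k : ℤ) (α β : AlgebraicCycle X ℤ) (hα : α ∈ Cyc.Zk X δX k) (hβ : β ∈ Cyc.Zk X δX k) (h : Cyc.RatEquiv δX k α β) : Cyc.RatEquiv δY k (AlgebraicCycle.map p δX δY α) (AlgebraicCycle.map p δX δY β) := by

  classical
  haveI := hX.1; haveI := hY.1
  refine Groth.Agent.CycPush.ratEquivZero_map p hX.2.2 hY.2.2 hδ k (α - β) h _ fun y => ?_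
  obtain ⟨V, hV, hyV, -⟩ := exists_isAffineOpen_mem_and_subset (x := y) (U := (⊤ : Y.Opens)) trivial
  let w : X → ℤ := fun x => (AlgebraicCycle.mapCoeff p δX δY x : ℤ)
  have hfib : ∀ c : AlgebraicCycle X ℤ,
      ((p ⁻¹' {y} : Set X) ∩ Function.support fun x => c x * w x).Finite := fun c =>
    (c.locallyFiniteSupport.finite_inter_support_of_isCompact
      (QuasiCompact.isCompact_preimage (f := p) V V.2 hV.isCompact)).subset
      fun x hx => ⟨show p x ∈ (V : Set Y) by rw [show p x = y from hx.1]; exact hyV, left_ne_zero_of_mul hx.2⟩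
  show (∑ᶠ x ∈ (p ⁻¹' {y} : Set X), α x * w x) - (∑ᶠ x ∈ (p ⁻¹' {y} : Set X), β x * w x) =
    ∑ᶠ x ∈ (p ⁻¹' {y} : Set X), (α - β) x * w x
  rw [sub_eq_iff_eq_add, ← finsum_mem_add_distrib' (hfib (α - β)) (hfib β)]
  exact finsum_mem_congr rfl fun x _ => by
    show α x * w x = (α x - β x) * w x + β x * w x
    ring

end Groth.Agent.S1855
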