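import Groth.Statements.S1274
import Groth.Agent.RZExt.Extend
-- import your own Groth.Agent.* helpers here

set_option autoImplicit false
universe u
open FlatMor

namespace Groth.Agent.S1274

open AlgebraicGeometry CategoryTheory Limits in
/-- Let φ : X → S be proper with S quasi-compact and quasi-separated, and U ⊆ S a quasi-compact open
over which φ is an isomorphism. Then there is a U-admissible blow-up b : S' → S which dominates X,
i.e. b factors as S' → X → S. -/
theorem result {X S : Scheme.{u}} [CompactSpace S] [QuasiSeparatedSpace S]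
    (φ : X ⟶ S) [IsProper φ] (U : S.Opens) (hU : IsCompact (U : Set S)) [IsIso (φ ∣_ U)] :
    ∃ (𝓘 : S.IdealSheafData) (S' : Scheme.{u}) (b : S' ⟶ S), BlowUp.IsBlowUp b 𝓘 ∧ BlowUp.IsAdmissibleFor U 𝓘 ∧
      ∃ h : S' ⟶ X, h ≫ φ = b := by
  have hs' : (inv (φ ∣_ U) ≫ (φ ⁻¹ᵁ U).ι) ≫ φ = U.ι := by
    rw [Category.assoc, ← morphismRestrict_ι, IsIso.inv_hom_id_assoc]
  have hex : ValuativeCriterion.Existence φ := by
    have h : (ValuativeCriterion ⊓ @QuasiCompact ⊓ @QuasiSeparated ⊓ @LocallyOfFiniteType : MorphismProperty Scheme) φ :=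
      IsProper.eq_valuativeCriterion ▸ ‹IsProper φ›
    exact (ValuativeCriterion.iff.1 h.1.1.1).1
  obtain ⟨I, h, hf, -⟩ := Groth.Agent.RZExt.exists_extension (f := φ) hU hs' (W₁ := (⊤ : S.Opens)) isCompact_univ
    (fun sq _ => hex sq)
  refine ⟨I.ideal, I.T, I.b, I.isBlowUp, ⟨I.ft, ?_⟩, I.T.topIso.inv ≫ h, ?_⟩
  · rw [I.supp]; exact disjoint_compl_left
  · refine (Category.assoc _ _ _).trans ((congrArg (I.T.topIso.inv ≫ ·) hf).trans ?_)
    exact I.T.topIso.inv_hom_id_assoc _


end Groth.Agent.S1274
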