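import Groth.Statements.S10855
import Groth.Agent.BlowUpLib.Cartier
import Mathlib

set_option autoImplicit false
universe u
open BlowUp

namespace Groth.Agent.S10855

open AlgebraicGeometry CategoryTheory in
/-- Let f : X → Y be a flat morphism of schemes and 𝓘 the quasi-coherent ideal sheaf of an effective
Cartier divisor on Y (near every point generated on an affine open by one non-zero-divisor). Then
the inverse image ideal sheaf of 𝓘 on X is again the ideal of an effective Cartier divisor: the
subscheme f⁻¹(Z) is an effective Cartier divisor on X. (The published corollary also identifies this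
divisor with the pullback of Z as a divisor; that clause is not included here.) -/
theorem result {X Y : Scheme.{u}} (f : X ⟶ Y) [Flat f]
    (𝓘 : Y.IdealSheafData) (hD : BlowUp.IsEffCartierIdeal 𝓘) :
    BlowUp.IsEffCartierIdeal (𝓘.comap f) := by
  intro x
  obtain ⟨U, hxU, g, hg, he⟩ := hD (f.base x)
  obtain ⟨W, hW, hxW, hle⟩ := exists_isAffineOpen_mem_and_subset (X := X) (U := f ⁻¹ᵁ U.1) hxU
  refine ⟨⟨W, hW⟩, hxW, (f.appLE U.1 W hle).hom g, ?_, ?_⟩
  · have hfl : (f.appLE U.1 W hle).hom.Flat := HasRingHomProperty.appLE @Flat f inferInstance U ⟨W, hW⟩ hle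
    algebraize [(f.appLE U.1 W hle).hom]
    have hreg : IsSMulRegular Γ(Y, U.1) g := fun a b h =>
      sub_eq_zero.1 ((mem_nonZeroDivisors_iff.1 hg).1 _ (by simp only [smul_eq_mul] at h; rw [mul_sub, h, sub_self]))
    have hreg' := IsSMulRegular.of_flat (S := Γ(X, W)) hreg
    exact mem_nonZeroDivisors_iff_right.2 fun z hz => hreg' (show _ • z = _ • (0 : Γ(X, W)) by
      rw [smul_zero, smul_eq_mul, mul_comm]; exact hz)
  · rw [Groth.Agent.FpqcDescent.ideal_comap_appLE 𝓘 f U ⟨W, hW⟩ hle, he, Ideal.map_span, Set.image_singleton]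

end Groth.Agent.S10855
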