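import Groth.Statements.S7338
import Groth.Agent.ModLeray1.Basic
import Groth.Agent.ModLeray1.Support
import Groth.Agent.PerfPush.Split
import Groth.Agent.FibVan.Noeth
import Groth.Agent.W7Fib.Birat
import Groth.Agent.DimAffMap.Basic
import Groth.Agent.CohFinite.RPushCoh
import Groth.Agent.RefStalk.Refl

set_option autoImplicit false
universe u
open CategoryTheory CategoryTheory.Limits AlgebraicGeometry
open Resolve

set_option backward.isDefEq.respectTransparency false
set_option backward.isDefEq.respectTransparency.types false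

namespace Groth.Agent.S7338

/-- Let (A, m) be a Noetherian normal local domain of dimension two, and X, X' integral schemes proper
over Spec A, each an isomorphism over some nonempty open of Spec A (modifications), with X normal,
and g : X' → X a morphism over Spec A. Then R^1 g_* O_{X'} is generated by global sections and its
support is a finite set of closed points of X, and there is a short exact sequence 0 → H^1(X, O_X) →
H^1(X', O_{X'}) → H^0(X, R^1 g_* O_{X'}) → 0, recorded here as the additivity of A-lengths. (R^1 g_*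
is the right derived functor of g_* on O-modules; that O_{X'}-modules have injective resolutions is
carried as an instance hypothesis.) -/
theorem result (A : Type u) [CommRing A] [IsDomain A] [IsLocalRing A] [IsNoetherianRing A]
    [IsIntegrallyClosed A] (hdim : ringKrullDim A = 2)
    (X X' : Scheme.{u}) [X.Over (Spec (CommRingCat.of A))] [X'.Over (Spec (CommRingCat.of A))]
    [IsProper (X ↘ Spec (CommRingCat.of A))] [IsProper (X' ↘ Spec (CommRingCat.of A))] [IsIntegral X] [IsIntegral X']
    (hX : ∃ U : (Spec (CommRingCat.of A)).Opens, (U : Set (Spec (CommRingCat.of A))).Nonempty ∧ IsIso ((X ↘ Spec (CommRingCat.of A)) ∣_ U))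
    (hX' : ∃ U : (Spec (CommRingCat.of A)).Opens, (U : Set (Spec (CommRingCat.of A))).Nonempty ∧ IsIso ((X' ↘ Spec (CommRingCat.of A)) ∣_ U))
    (hXn : Pi1.IsNormalScheme X) (g : X' ⟶ X) (hg : g ≫ (X ↘ Spec (CommRingCat.of A)) = X' ↘ Spec (CommRingCat.of A))
    [HasInjectiveResolutions X'.Modules] :
    Curv2.IsGloballyGenerated ((Coh.Rpush g 1).obj (Coh.structureModule X')) ∧
      {x : X | Nontrivial (((Coh.Rpush g 1).obj (Coh.structureModule X')).presheaf.stalk x)}.Finite ∧
      (∀ x : X, Nontrivial (((Coh.Rpush g 1).obj (Coh.structureModule X')).presheaf.stalk x) → IsClosed ({x} : Set X)) ∧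
      Module.length A (Coh.HH X' (Coh.structureModule X') 1) =
        Module.length A (Coh.HH X (Coh.structureModule X) 1) +
          Module.length A (Coh.HH X ((Coh.Rpush g 1).obj (Coh.structureModule X')) 0) := by
  haveI : IsLocallyNoetherian X := LocallyOfFiniteType.isLocallyNoetherian (X ↘ Spec (CommRingCat.of A))
  haveI : CompactSpace X := QuasiCompact.compactSpace_of_compactSpace (X ↘ Spec (CommRingCat.of A))
  haveI : AlgebraicGeometry.IsNoetherian X := {}
  haveI : IsLocallyNoetherian X' := LocallyOfFiniteType.isLocallyNoetherian (X' ↘ Spec (CommRingCat.of A))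
  haveI : IsProper g := by
    haveI : IsProper (g ≫ (X ↘ Spec (CommRingCat.of A))) := by rw [hg]; infer_instance
    exact IsProper.of_comp g (X ↘ Spec (CommRingCat.of A))
  obtain ⟨U₁, hU₁, hU₁i⟩ := hX
  obtain ⟨U₂, hU₂, hU₂i⟩ := hX'
  obtain ⟨U, hU, hUX, hUX'⟩ : ∃ U : (Spec (CommRingCat.of A)).Opens, (U : Set (Spec (CommRingCat.of A))).Nonempty ∧
      IsIso ((X ↘ Spec (CommRingCat.of A)) ∣_ U) ∧ IsIso ((X' ↘ Spec (CommRingCat.of A)) ∣_ U) := by
    refine ⟨U₁ ⊓ U₂, nonempty_preirreducible_inter U₁.2 U₂.2 hU₁ hU₂, ?_, ?_⟩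
    · exact ModLeray1.isIso_restrict_of_le_isoLocus _ (inf_le_left.trans (PtBlow.le_isoLocus hU₁i))
    · exact ModLeray1.isIso_restrict_of_le_isoLocus _ (inf_le_right.trans (PtBlow.le_isoLocus hU₂i))
  haveI := hUX
  have hV : (((X ↘ Spec (CommRingCat.of A)) ⁻¹ᵁ U : X.Opens) : Set X).Nonempty := PtBlow.nonempty_preimage hU hUX
  haveI hVg : IsIso (g ∣_ (X ↘ Spec (CommRingCat.of A)) ⁻¹ᵁ U) := PtBlow.isIso_restrict_left hg U hUX' hUX
  have hdA : topologicalKrullDim ↥(Spec (CommRingCat.of A)) ≤ 2 := by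
    rw [← hdim]
    exact le_of_eq (PrimeSpectrum.topologicalKrullDim_eq_ringKrullDim A)
  have hstalk : ∀ x : X, ringKrullDim (X.presheaf.stalk x) ≤ 2 := by
    intro x
    obtain ⟨a, ha⟩ : ∃ a, ringKrullDim (X.presheaf.stalk x) = a := ⟨_, rfl⟩
    obtain ⟨b, hb⟩ : ∃ b, ringKrullDim ((Spec (CommRingCat.of A)).presheaf.stalk
      ((X ↘ Spec (CommRingCat.of A)) x)) = b := ⟨_, rfl⟩
    obtain ⟨r, hr⟩ := SpDimTrdeg.exists_resTrdeg_eq_nat (X ↘ Spec (CommRingCat.of A)) x
    have h2 := SpDimTrdeg.dim_stalk_le (X ↘ Spec (CommRingCat.of A)) x ha hb hr (E := 0) fun ξ hξm _ => by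
      rw [show ξ = genericPoint X from (hξm _ (genericPoint_specializes ξ)).symm]
      exact (BiratCodimTwo.resTrdeg_genericPoint _ U
        (((genericPoint_spec X).mem_open_set_iff ((X ↘ Spec (CommRingCat.of A)) ⁻¹ᵁ U).2).2 (by simpa using hV))).le
    rw [map_zero] at h2
    rw [ha]
    calc a ≤ a + ((Cardinal.toENat (r : Cardinal.{u}) : ℕ∞) : WithBot ℕ∞) :=
          le_add_of_nonneg_right (WithBot.coe_le_coe.2 bot_le)
      _ ≤ b + ((0 : ℕ∞) : WithBot ℕ∞) := h2
      _ ≤ 2 := by
          rw [← hb]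
          exact (le_of_eq (by simp)).trans ((RegDual.ringKrullDim_stalk_le_topologicalKrullDim ((X ↘ Spec (CommRingCat.of A)) x)).trans hdA)
  have hdX : topologicalKrullDim X ≤ 2 := by
    letI := specializationOrder X
    rw [DimAffMap.topologicalKrullDim_eq_krullDim, Order.krullDim_eq_iSup_coheight]
    exact iSup_le fun x => by
      rw [← ringKrullDim_stalk_eq_coheight x]; exact hstalk x
  obtain ⟨hfin, hcl⟩ := PtBlow.compl_isoLocus g hXn hdX ⟨_, hV, hVg⟩
  have hO : Coh.IsCoh (Coh.structureModule X') := RefStalk.isCoh_structureModule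
  have hsupp := ModLeray1.section_rpush_eq_zero g (Coh.structureModule X') hO.1 0
  have hmem := ModLeray1.nontrivial_stalk_mem (PtBlow.isoLocus g).isOpen.isClosed_compl hsupp
  refine ⟨ModLeray1.isGloballyGenerated_of_finite_supp hfin (fun x hx => (hcl x hx).1) hsupp,
    hfin.subset hmem, fun x hx => (hcl x (hmem x hx)).1, ?_⟩
  haveI : EnoughInjectives X'.Modules := inferInstance
  obtain ⟨e⟩ := PerfPush.nonempty_unit_iso_push g fun V =>
    (ConcreteCategory.isIso_iff_bijective _).2 (PtBlow.bijective_app_of_birational g hXn _ hV V)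
  have hfib := W7Fib.dim_closedFibre_le (X ↘ Spec (CommRingCat.of A)) U hU (d := 1) (le_of_eq (hdim.trans rfl))
  have h2 : Subsingleton (Coh.HH X ((Coh.push g).obj (Coh.structureModule X')) 2) :=
    FibVan.subsingleton_hh_coh 1 hfib _ (CohFinite.isCoh_of_iso e RefStalk.isCoh_structureModule) 2 (by norm_num)
  rw [ModLeray1.length_h1_eq A g hg (Coh.structureModule X') h2,
    (CohFinite.hhEquiv A e 1).length_eq]

end Groth.Agent.S7338
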