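import Groth.Statements.S7300
import Groth.Agent.ExcVanish.BoundLen

set_option autoImplicit false
universe u
open CategoryTheory CategoryTheory.Limits AlgebraicGeometry
open Resolve

set_option backward.isDefEq.respectTransparency false
set_option backward.isDefEq.respectTransparency.types false

namespace Groth.Agent.S7300

/-- Let (A, m) be a local normal Nagata domain of dimension two and a ∈ A nonzero. There is an integer N
such that for every proper morphism X → Spec A from an integral normal scheme which is an
isomorphism over some nonempty open (a normal modification), the A-module of a-torsion elements of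
H^1(X, O_X) has length at most N. (The published statement bounds the length of the cokernel of A →
H^0(Z, O_Z), where Z ⊂ X is the closed subscheme cut out by a; this row bounds the a-torsion of
H^1(X, O_X), which is the same module by the exact sequence 0 → O_X → O_X → O_Z → 0 given by
multiplication by a and H^0(X, O_X) = A.) -/
theorem result (A : Type u) [CommRing A] [IsDomain A] [IsLocalRing A] [IsNoetherianRing A]
    [IsIntegrallyClosed A] (hN : CAlg.IsNagata A) (hdim : ringKrullDim A = 2) (a : A) (ha : a ≠ 0) :
    ∃ N : ℕ, ∀ (X : Scheme.{u}) [X.Over (Spec (CommRingCat.of A))], IsProper (X ↘ Spec (CommRingCat.of A)) →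
      IsIntegral X → Pi1.IsNormalScheme X →
      (∃ U : (Spec (CommRingCat.of A)).Opens, (U : Set (Spec (CommRingCat.of A))).Nonempty ∧ IsIso ((X ↘ Spec (CommRingCat.of A)) ∣_ U)) →
      Module.length A ↥(Submodule.torsionBy A (Coh.HH X (Coh.structureModule X) 1) a) ≤ (N : ℕ∞) := by
  classical
  by_cases hu : IsUnit a
  · refine ⟨0, fun X _ _ _ _ _ => ?_⟩
    haveI : Subsingleton ↥(Submodule.torsionBy A (Coh.HH X (Coh.structureModule X) 1) a) := by
      refine ⟨fun x y => Subtype.ext ?_⟩
      have h : ∀ z : ↥(Submodule.torsionBy A (Coh.HH X (Coh.structureModule X) 1) a), (z : Coh.HH X (Coh.structureModule X) 1) = 0 :=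
        fun z => (hu.smul_eq_zero).1 ((Submodule.mem_torsionBy_iff _ _).1 z.2)
      rw [h x, h y]
    rw [Module.length_eq_zero]
    exact zero_le
  have ham : a ∈ IsLocalRing.maximalIdeal A := hu
  obtain ⟨D⟩ := ExcVanish.nonempty_data hdim hN ham ha
  obtain ⟨N, hN'⟩ := ENat.ne_top_iff_exists.1
    (ExcVanish.length_quot_ne_top hdim ha D (∑ P ∈ D.S, D.n P))
  refine ⟨N, fun X _ hp hi hXn hb => ?_⟩
  haveI := hp
  haveI := hi
  exact (ExcVanish.length_torsion_le hdim hb hXn ha D).trans hN'.symm.le

end Groth.Agent.S7300
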