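import Groth.Statements.S5259
import Groth.Agent.SubLocus.Transporter
-- import your own Groth.Agent.* helpers here

set_option autoImplicit false
open CategoryTheory MonoidalCategory CartesianMonoidalCategory MonObj GrpObj AlgebraicGeometry
universe u
open SGA3x

namespace Groth.Agent.S5259

/-- Centralizer: Let G be an S-group locally of finite type and quasi-separated over S, H an S-group
which is smooth and of finite presentation over S with connected fibres, and i : H ⟶ G a
homomorphism which is a monomorphism. Then the centralizer of H in G is representable by a closed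
subgroup scheme of G whose immersion into G is of finite presentation. -/
theorem result {S : Scheme.{u}} (G H : Over S) [GrpObj G] [GrpObj H]
    [LocallyOfFiniteType G.hom] [QuasiSeparated G.hom] [Smooth H.hom] [QuasiCompact H.hom] [QuasiSeparated H.hom]
    (hconn : ∀ s : S, ConnectedSpace ↥(Limits.pullback H.hom (S.fromSpecResidueField s)))
    (i : H ⟶ G) [IsMonHom i] [Mono i] :
    ∃ (Z : Over S) (_ : GrpObj Z) (j : Z ⟶ G), Red.IsCentralizerOf i j ∧ IsClosedImmersion j.left ∧
      LocallyOfFinitePresentation j.left := by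
  have : GeometricallyIrreducible H.hom :=
    Groth.Agent.GrpField.geometricallyIrreducible_of_connected_fibres H fun s => by
      have : ConnectedSpace (H.hom.fiber s) := hconn s
      exact isConnected_iff_connectedSpace.mpr ((H.hom.fiberHomeo s).surjective.connectedSpace (H.hom.fiberHomeo s).continuous)
  obtain ⟨Z, t, ht, htf, hZ⟩ := Groth.Agent.SubLocus.exists_centralizer i
  have : Mono t.left := inferInstance
  have : Mono t := Over.mono_of_mono_left t
  have hdiv : ∀ (T : Over S) (k₁ k₂ : T ⟶ Z), ∃ k₃ : T ⟶ Z, k₃ ≫ t = (k₁ ≫ t)⁻¹ * (k₂ ≫ t) := by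
    intro T k₁ k₂
    rw [hZ]
    intro X' x h
    have e₁ : Commute (x ≫ k₁ ≫ t) (h ≫ i) := (hZ _ _).mp ⟨k₁, rfl⟩ X' x h
    have e₂ : Commute (x ≫ k₂ ≫ t) (h ≫ i) := (hZ _ _).mp ⟨k₂, rfl⟩ X' x h
    simp only [MonObj.comp_mul, GrpObj.comp_inv]
    exact e₁.inv_left.mul_left e₂
  have he : ∃ e : 𝟙_ (Over S) ⟶ Z, e ≫ t = η[G] := by
    rw [hZ]
    intro X' x h
    rw [show x ≫ η[G] = (1 : X' ⟶ G) by rw [Hom.one_def, toUnit_unique (toUnit X') x]]
    simp
  obtain ⟨hg, hm⟩ := Groth.Agent.MTBridge.exists_grpObj_of_div t he hdiv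
  exact ⟨Z, hg, t, ⟨hm, inferInstance, hZ⟩, ht, htf⟩

end Groth.Agent.S5259
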