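import Mathlib

/-!
The union of two basic opens of an affine integral scheme that is not affine.
-/

set_option linter.style.haveILetI false
set_option backward.isDefEq.respectTransparency false
universe u
open CategoryTheory AlgebraicGeometry TopologicalSpace Opposite

namespace Groth.Agent.RedSepPlane

variable {X : Scheme.{u}} [IsIntegral X] [IsAffine X]

theorem span_eq_top_of_isAffineOpen {g h : Γ(X, ⊤)} (hg : Prime g) (hgh : ¬ g ∣ h) (hh0 : h ≠ 0)
    (hU : IsAffineOpen (X.basicOpen g ⊔ X.basicOpen h)) : Ideal.span {g, h} = ⊤ := by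
  set U := X.basicOpen g ⊔ X.basicOpen h
  let r : Γ(X, ⊤) →+* Γ(X, U) := (X.presheaf.map (homOfLE (le_top : U ≤ ⊤)).op).hom
  have htop := isAffineOpen_top X
  have hneg : ∀ a : Γ(X, ⊤), a ≠ 0 → (X.basicOpen a : Set X).Nonempty := fun a ha => by
    rw [Set.nonempty_iff_ne_empty]
    intro he
    exact ha ((AlgebraicGeometry.basicOpen_eq_bot_iff a).1 (SetLike.coe_injective (by simpa using he)))
  have hghne : (X.basicOpen (g * h) : Set X).Nonempty := hneg _ (mul_ne_zero hg.ne_zero hh0)
  have ext : ∀ c : Γ(X, U), ∃ w : Γ(X, ⊤), r w = c := by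
    intro c
    haveI := htop.isLocalization_basicOpen g
    haveI := htop.isLocalization_basicOpen h
    obtain ⟨⟨a, ⟨_, n, rfl⟩⟩, ha⟩ := IsLocalization.surj (Submonoid.powers g)
      (X.presheaf.map (homOfLE (le_sup_left : X.basicOpen g ≤ U)).op c)
    obtain ⟨⟨b, ⟨_, m, rfl⟩⟩, hb⟩ := IsLocalization.surj (Submonoid.powers h)
      (X.presheaf.map (homOfLE (le_sup_right : X.basicOpen h ≤ U)).op c)
    let W := X.basicOpen (g * h)
    have hWg : W ≤ X.basicOpen g := by rw [show W = _ from X.basicOpen_mul g h]; exact inf_le_left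
    have hWh : W ≤ X.basicOpen h := by rw [show W = _ from X.basicOpen_mul g h]; exact inf_le_right
    let ρ : Γ(X, ⊤) →+* Γ(X, W) := (X.presheaf.map (homOfLE (le_top : W ≤ ⊤)).op).hom
    haveI : Nonempty ↥(W : Scheme.{u}) := hghne.to_subtype
    have hρ : Function.Injective ρ := map_injective_of_isIntegral (X := X) (homOfLE (le_top : W ≤ ⊤))
    have hres : ∀ {V : X.Opens} (hV : W ≤ V) (x : Γ(X, ⊤)),
        X.presheaf.map (homOfLE hV).op (algebraMap Γ(X, ⊤) Γ(X, ⊤) x |> X.presheaf.map (homOfLE (le_top : V ≤ ⊤)).op) = ρ x := by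
      intro V hV x
      simp only [Algebra.algebraMap_self, RingHom.id_apply]
      exact (congr($(X.presheaf.map_comp (homOfLE (le_top : V ≤ ⊤)).op (homOfLE hV).op).hom x)).symm
    have ha' := congrArg (X.presheaf.map (homOfLE hWg).op) ha
    have hb' := congrArg (X.presheaf.map (homOfLE hWh).op) hb
    simp only [map_mul, RingHom.algebraMap_toAlgebra] at ha' hb'
    have hc : X.presheaf.map (homOfLE hWg).op (X.presheaf.map (homOfLE (le_sup_left : X.basicOpen g ≤ U)).op c) =
        X.presheaf.map (homOfLE hWh).op (X.presheaf.map (homOfLE (le_sup_right : X.basicOpen h ≤ U)).op c) := by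
      rw [← ConcreteCategory.comp_apply, ← ConcreteCategory.comp_apply, ← Functor.map_comp, ← Functor.map_comp]
      rfl
    have e1 : ρ (a * h ^ m) = ρ (b * g ^ n) := by
      have A := hres hWg
      have B := hres hWh
      simp only [Algebra.algebraMap_self, RingHom.id_apply] at A B
      rw [map_mul, map_mul, ← A a, ← B b]
      erw [← ha', ← hb']
      rw [hc]
      erw [A (g ^ n), B (h ^ m)]
      ring
    have e2 : a * h ^ m = b * g ^ n := hρ e1
    have hdvd : g ^ n ∣ a * h ^ m := ⟨b, by rw [e2, mul_comm]⟩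
    obtain ⟨w, rfl⟩ := hg.pow_dvd_of_dvd_mul_right n (fun hd => hgh (hg.dvd_of_dvd_pow hd)) hdvd
    refine ⟨w, ?_⟩
    haveI : Nonempty ↥((X.basicOpen g) : Scheme.{u}) := (hneg g hg.ne_zero).to_subtype
    apply map_injective_of_isIntegral (X := X) (homOfLE (le_sup_left : X.basicOpen g ≤ U))
    refine ((IsLocalization.map_units Γ(X, X.basicOpen g) (⟨g ^ n, n, rfl⟩ : Submonoid.powers g)).mul_left_inj).1 ?_
    erw [ha]
    simp only [map_mul, RingHom.algebraMap_toAlgebra]
    rw [mul_comm]
    congr 1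
    exact (congr($(X.presheaf.map_comp (homOfLE (le_top : U ≤ ⊤)).op (homOfLE (le_sup_left : X.basicOpen g ≤ U)).op).hom w)).symm
  have hspan : Ideal.span ({r g, r h} : Set Γ(X, U)) = ⊤ := by
    rw [← hU.self_le_iSup_basicOpen_iff]
    intro x hx
    rw [Opens.mem_iSup]
    rcases hx with hx | hx
    · exact ⟨⟨r g, Set.mem_insert _ _⟩, by
        show x ∈ X.basicOpen (r g)
        rw [show r g = X.presheaf.map (homOfLE (le_top : U ≤ ⊤)).op g from rfl, Scheme.basicOpen_res]
        exact ⟨Or.inl hx, hx⟩⟩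
    · exact ⟨⟨r h, Set.mem_insert_of_mem _ rfl⟩, by
        show x ∈ X.basicOpen (r h)
        rw [show r h = X.presheaf.map (homOfLE (le_top : U ≤ ⊤)).op h from rfl, Scheme.basicOpen_res]
        exact ⟨Or.inr hx, hx⟩⟩
  obtain ⟨a, b, hab⟩ := Ideal.mem_span_pair.1 ((Ideal.eq_top_iff_one _).1 hspan)
  obtain ⟨a', rfl⟩ := ext a
  obtain ⟨b', rfl⟩ := ext b
  haveI : Nonempty ↥(U : Scheme.{u}) := ((hneg g hg.ne_zero).mono fun x hx => Or.inl hx).to_subtype
  have hr : Function.Injective r := map_injective_of_isIntegral (X := X) (homOfLE (le_top : U ≤ ⊤))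
  rw [Ideal.eq_top_iff_one, Ideal.mem_span_pair]
  exact ⟨a', b', hr (by rw [map_add, map_mul, map_mul, map_one]; exact hab)⟩

end Groth.Agent.RedSepPlane
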