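import Groth.Statements.S7125
import Groth.Agent.S14359
import Mathlib.RingTheory.DiscreteValuationRing.TFAE
import Mathlib.RingTheory.Flat.EquationalCriterion
import Mathlib.RingTheory.Ideal.Height
import Mathlib.RingTheory.KrullDimension.Field
import Mathlib.RingTheory.Flat.FaithfullyFlat.Algebra
import Mathlib.RingTheory.Localization.AtPrime.Basic

set_option autoImplicit false
universe u
open CAlg

namespace Groth.Agent.S7125

section
variable {A B : Type u} [CommRing A] [IsDomain A] [IsNoetherianRing A] [IsIntegrallyClosed A]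

theorem dvr_of_height_one (p : Ideal A) [p.IsPrime] (hp : p.height = 1) :
    IsDiscreteValuationRing (Localization.AtPrime p) := by
  haveI : IsIntegrallyClosed (Localization.AtPrime p) :=
    isIntegrallyClosed_of_isLocalization _ p.primeCompl p.primeCompl_le_nonZeroDivisors
  have hdim : ringKrullDim (Localization.AtPrime p) = 1 := by
    rw [IsLocalization.AtPrime.ringKrullDim_eq_height p, hp]; rfl
  have hnf : ¬ IsField (Localization.AtPrime p) := fun hF => by
    letI := hF.toField
    exact zero_ne_one ((ringKrullDim_eq_zero_of_isField hF).symm.trans hdim)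
  haveI : Ring.KrullDimLE 1 (Localization.AtPrime p) := Ring.krullDimLE_iff.2 hdim.le
  refine ((IsDiscreteValuationRing.TFAE _ hnf).out 0 3 :).2 (⟨inferInstance, ?_⟩ : IsIntegrallyClosed _ ∧ ∃! P : Ideal _, P ≠ ⊥ ∧ P.IsPrime)
  refine ⟨IsLocalRing.maximalIdeal _, ⟨fun e => hnf (IsLocalRing.isField_iff_maximalIdeal_eq.2 e), inferInstance⟩, ?_⟩
  rintro P ⟨hP0, hPp⟩
  exact IsLocalRing.eq_maximalIdeal (hPp.isMaximal_of_ne_bot hP0)

theorem local_power [CommRing B] [IsDomain B] [IsNoetherianRing B] [IsIntegrallyClosed B] [Algebra A B]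
    (f : A) (h : B) (n : ℕ) (w : Bˣ) (hf : algebraMap A B f = (w : B) * h ^ n) (hf0 : f ≠ 0)
    (p : Ideal A) [p.IsPrime] (q : Ideal B) [q.IsPrime] (hp : p.height = 1) (hq : q.height = 1)
    (hqp : q.comap (algebraMap A B) = p)
    (hmax : Ideal.map (algebraMap B (Localization.AtPrime q)) (Ideal.map (algebraMap A B) p) =
      IsLocalRing.maximalIdeal (Localization.AtPrime q)) :
    ∃ (π : Localization.AtPrime p) (m : ℕ) (u : (Localization.AtPrime p)ˣ), π ≠ 0 ∧
        algebraMap A (Localization.AtPrime p) f = u * π ^ (n * m) := by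
  haveI := dvr_of_height_one p hp
  haveI := dvr_of_height_one q hq
  obtain ⟨π, hπ⟩ := IsDiscreteValuationRing.exists_irreducible (Localization.AtPrime p)
  have hne : algebraMap A (Localization.AtPrime p) f ≠ 0 := fun e =>
    hf0 (IsLocalization.injective (Localization.AtPrime p) p.primeCompl_le_nonZeroDivisors (by rw [e, map_zero]))
  obtain ⟨v, u, hu⟩ := IsDiscreteValuationRing.eq_unit_mul_pow_irreducible hne hπ
  let φ : Localization.AtPrime p →+* Localization.AtPrime q := Localization.localRingHom p q (algebraMap A B) hqp.symm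
  have hφ : φ.comp (algebraMap A (Localization.AtPrime p)) = (algebraMap B (Localization.AtPrime q)).comp (algebraMap A B) :=
    RingHom.ext fun x => Localization.localRingHom_to_map p q (algebraMap A B) hqp.symm x
  have hπm : IsLocalRing.maximalIdeal (Localization.AtPrime p) = Ideal.span {π} := hπ.maximalIdeal_eq
  have hφπ : Irreducible (φ π) := by
    rw [IsDiscreteValuationRing.irreducible_iff_uniformizer, ← hmax, Ideal.map_map, ← hφ, ← Ideal.map_map,
      Localization.AtPrime.map_eq_maximalIdeal, hπm, Ideal.map_span, Set.image_singleton]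
  have hh0 : h ≠ 0 ∨ n = 0 := or_iff_not_imp_right.2 fun hn e => by
    rw [e, zero_pow hn, mul_zero] at hf
    have h2 : algebraMap B (Localization.AtPrime q) (algebraMap A B f) = 0 := by rw [hf, map_zero]
    rw [← RingHom.comp_apply, ← hφ, RingHom.comp_apply, hu, map_mul, map_pow] at h2
    exact mul_ne_zero (u.isUnit.map φ).ne_zero (pow_ne_zero _ hφπ.ne_zero) h2
  refine ⟨π, ?_⟩
  rcases hh0 with hh0 | rfl
  · have hne2 : algebraMap B (Localization.AtPrime q) h ≠ 0 := fun e =>
      hh0 (IsLocalization.injective (Localization.AtPrime q) q.primeCompl_le_nonZeroDivisors (by rw [e, map_zero]))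
    obtain ⟨m, u', hu'⟩ := IsDiscreteValuationRing.eq_unit_mul_pow_irreducible hne2 hφπ
    have h3 := congrArg (algebraMap B (Localization.AtPrime q)) hf
    rw [← RingHom.comp_apply, ← hφ, RingHom.comp_apply, hu, map_mul, map_pow, map_mul, map_pow, hu', mul_pow, ← pow_mul, ← mul_assoc] at h3
    have h4 := IsDiscreteValuationRing.unit_mul_pow_congr_pow hφπ hφπ
      (Units.map φ.toMonoidHom u) (Units.map (algebraMap B (Localization.AtPrime q)).toMonoidHom w * u' ^ n) v (m * n)
      (by simpa using h3)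
    exact ⟨m, u, hπ.ne_zero, by rw [hu, h4, mul_comm n]⟩
  · refine ⟨0, u, hπ.ne_zero, ?_⟩
    have h3 := congrArg (algebraMap B (Localization.AtPrime q)) hf
    rw [← RingHom.comp_apply, ← hφ, RingHom.comp_apply, hu, map_mul, map_pow, pow_zero, mul_one] at h3
    have h4 := IsDiscreteValuationRing.unit_mul_pow_congr_pow hφπ hφπ
      (Units.map φ.toMonoidHom u) (Units.map (algebraMap B (Localization.AtPrime q)).toMonoidHom w) v 0
      (by simpa using h3)
    rw [hu, h4, Nat.zero_mul]

omit [IsNoetherianRing A] [IsIntegrallyClosed A] in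
theorem pow_dvd_of_local (f : A) (n : ℕ) (hn : 0 < n) (P : Ideal A) [P.IsPrime] (π : Localization.AtPrime P)
    (m : ℕ) (u : (Localization.AtPrime P)ˣ) (hπ : π ≠ 0) (hu : algebraMap A (Localization.AtPrime P) f = u * π ^ (n * m))
    (a : A) (ha : ∀ k, f ^ (n - 1) ∣ k ^ n → f ∣ a * k) : ∃ s, s ∉ P ∧ f ∣ s * a ^ n := by
  let ψ := algebraMap A (Localization.AtPrime P)
  obtain ⟨n, rfl⟩ : ∃ i, n = i + 1 := ⟨n - 1, by omega⟩
  simp only [Nat.add_sub_cancel] at ha
  obtain ⟨⟨k, s⟩, hks⟩ := IsLocalization.surj P.primeCompl (π ^ (n * m))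
  simp only at hks
  have hψf : ψ f = u * π ^ ((n + 1) * m) := hu
  -- make `k` satisfy the divisibility
  obtain ⟨e, he⟩ : ψ (f ^ n) ∣ ψ (k ^ (n + 1)) := by
    refine ⟨(↑(u ^ n)⁻¹ : Localization.AtPrime P) * ψ s ^ (n + 1), ?_⟩
    have hu1 : (u : Localization.AtPrime P) ^ n * (↑(u ^ n)⁻¹ : Localization.AtPrime P) = 1 := by
      rw [← Units.val_pow_eq_pow_val, Units.mul_inv]
    rw [map_pow, map_pow, hψf, show ψ k = π ^ (n * m) * ψ s from hks.symm, mul_pow, mul_pow,
      ← pow_mul, ← pow_mul, show (n + 1) * m * n = n * m * (n + 1) by ring]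
    linear_combination (-(π ^ (n * m * (n + 1)) * ψ s ^ (n + 1))) * hu1
  obtain ⟨⟨c, t⟩, hct⟩ := IsLocalization.surj P.primeCompl e
  obtain ⟨t', ht'⟩ : ∃ t' : P.primeCompl, (t' : A) * (k ^ (n + 1) * t) = t' * (f ^ n * c) := by
    apply (IsLocalization.eq_iff_exists P.primeCompl (Localization.AtPrime P)).1
    rw [map_mul, map_mul, show algebraMap A _ (k ^ (n + 1)) = ψ (f ^ n) * e from he, ← hct]
    ring
  have hk' : f ^ n ∣ (k * t * t') ^ (n + 1) :=
    ⟨c * t ^ n * t' ^ (n + 1), by linear_combination ((t : A) ^ n * (t' : A) ^ n) * ht'⟩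
  obtain ⟨r, hr⟩ := ha _ hk'
  -- so `a` is divisible by `π ^ m`
  have h2 : ψ a * π ^ (n * m) * (ψ s * ψ t * ψ t') = u * π ^ ((n + 1) * m) * ψ r := by
    have := congrArg ψ hr
    rw [map_mul, map_mul, map_mul, map_mul, hψf, show ψ k = π ^ (n * m) * ψ s from hks.symm] at this
    linear_combination this
  obtain ⟨d, hd⟩ : π ^ m ∣ ψ a := by
    have hu' : IsUnit (ψ s * ψ t * ψ t') := ((IsLocalization.map_units _ s).mul (IsLocalization.map_units _ t)).mul
      (IsLocalization.map_units _ t')
    refine (IsUnit.dvd_mul_right hu').1 ⟨u * ψ r, mul_left_cancel₀ (pow_ne_zero (n * m) hπ) ?_⟩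
    rw [← mul_assoc (π ^ (n * m)) (π ^ m), ← pow_add, show n * m + m = (n + 1) * m by ring]
    linear_combination h2
  obtain ⟨⟨c', s'⟩, hcs⟩ := IsLocalization.surj P.primeCompl ((↑u⁻¹ : Localization.AtPrime P) * d ^ (n + 1))
  obtain ⟨t'', ht''⟩ : ∃ t'' : P.primeCompl, (t'' : A) * (a ^ (n + 1) * s') = t'' * (f * c') := by
    apply (IsLocalization.eq_iff_exists P.primeCompl (Localization.AtPrime P)).1
    rw [map_mul, map_mul, map_pow, ← hcs, show algebraMap A _ f = _ from hψf, show algebraMap A _ a = _ from hd, mul_pow, ← pow_mul, mul_comm m]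
    have hu2 : (u : Localization.AtPrime P) * (↑u⁻¹ : Localization.AtPrime P) = 1 := u.mul_inv
    linear_combination (-(π ^ ((n + 1) * m) * d ^ (n + 1) * algebraMap A (Localization.AtPrime P) s')) * hu2
  exact ⟨t'' * s', fun hmem => ((inferInstance : P.IsPrime).mem_or_mem hmem).elim t''.2 s'.2, t'' * c',
    by linear_combination ht''⟩

omit [IsNoetherianRing A] [IsIntegrallyClosed A] [IsDomain A] in
theorem mem_colon_map [CommRing B] [Algebra A B] [Module.Flat A B] (f : A) (h : B) (K : Ideal A)
    (hKfg : ∃ S : Set A, S.Finite ∧ Submodule.span A S = K) (hK : ∀ k ∈ K, algebraMap A B f ∣ h * algebraMap A B k) :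
    ∃ J : Set A, (∀ a ∈ J, ∀ k ∈ K, f ∣ a * k) ∧
      ∃ (l : ℕ) (c : Fin l → B) (a : Fin l → A), (∀ j, a j ∈ J) ∧ h = ∑ j, c j * algebraMap A B (a j) := by
  classical
  obtain ⟨S, hS, rfl⟩ := hKfg
  haveI := hS.fintype
  choose b hb using fun k : S => hK k (Submodule.subset_span k.2)
  let x : (Option S → A) →ₗ[A] B := Fintype.linearCombination A (fun o => o.elim h b)
  let g : (S → A) →ₗ[A] (Option S → A) := Fintype.linearCombination A
    (fun i : S => (i : A) • Pi.single none 1 - f • Pi.single (some i) 1)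
  have hxg : x ∘ₗ g = 0 := by
    refine LinearMap.pi_ext fun i r => ?_
    simp only [x, g, LinearMap.comp_apply, LinearMap.single_apply, Fintype.linearCombination_apply_single, map_smul,
      map_sub, Option.elim, one_smul, LinearMap.zero_apply]
    simp only [Algebra.smul_def]
    linear_combination (algebraMap A B r) * hb i
  obtain ⟨κ, a, y, hxy, hag⟩ := Module.Flat.exists_factorization_of_comp_eq_zero_of_free hxg
  refine ⟨{r | ∀ k ∈ Submodule.span A S, f ∣ r * k}, fun r hr => hr, κ, fun j => y (Finsupp.single j 1),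
    fun j => a (Pi.single none 1) j, fun j k hk => ?_, ?_⟩
  · induction hk using Submodule.span_induction with
    | mem k hk =>
      have h0 := DFunLike.congr_fun (LinearMap.congr_fun hag (Pi.single (⟨k, hk⟩ : S) 1)) j
      simp [g, Fintype.linearCombination_apply_single, sub_eq_zero] at h0
      exact ⟨_, (mul_comm _ _).trans h0⟩
    | zero => simp
    | add u v _ _ hu hv => rw [mul_add]; exact dvd_add hu hv
    | smul r u _ hu => rw [smul_eq_mul, mul_left_comm]; exact dvd_mul_of_dvd_right hu _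
  · have hx : x (Pi.single none 1) = h := by simp [x, Fintype.linearCombination_apply_single]
    rw [← hx, hxy, LinearMap.comp_apply, ← Finsupp.univ_sum_single (a (Pi.single none 1)), map_sum]
    refine Finset.sum_congr rfl fun j _ => ?_
    rw [← Finsupp.smul_single_one, map_smul, Algebra.smul_def, mul_comm]
    simp

end

/-- Let A and B be Noetherian local normal domains and A → B a flat homomorphism that is local, and let
f in A, h in B, n > 1 and a unit w of B satisfy f = w·hⁿ in B. Assume that for every height-one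
prime p of A there is a height-one prime q of B lying over p such that A_p ⊆ B_q is weakly
unramified, i.e. p generates the maximal ideal of B_q. Then f = u·gⁿ for some g in A and some unit u
of A. -/
theorem result (A B : Type u) [CommRing A] [IsDomain A]
    [IsNoetherianRing A] [IsLocalRing A] [IsIntegrallyClosed A] [CommRing B] [IsDomain B] [IsNoetherianRing B]
    [IsLocalRing B] [IsIntegrallyClosed B] [Algebra A B] [IsLocalHom (algebraMap A B)] [Module.Flat A B]
    (f : A) (h : B) (n : ℕ) (hn : 1 < n) (w : Bˣ) (hf : algebraMap A B f = (w : B) * h ^ n)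
    (hram : ∀ (p : Ideal A) [p.IsPrime], p.height = 1 →
      ∃ (q : Ideal B) (_ : q.IsPrime), q.height = 1 ∧ q.comap (algebraMap A B) = p ∧
        Ideal.map (algebraMap B (Localization.AtPrime q)) (Ideal.map (algebraMap A B) p) =
          IsLocalRing.maximalIdeal (Localization.AtPrime q)) :
    ∃ (g : A) (u : Aˣ), f = (u : A) * g ^ n := by
  classical
  haveI : Module.FaithfullyFlat A B := Module.FaithfullyFlat.of_flat_of_isLocalHom
  have hinj : Function.Injective (algebraMap A B) := FaithfulSMul.algebraMap_injective A B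
  by_cases hf0 : f = 0
  · exact ⟨0, 1, by rw [hf0, zero_pow (by omega), mul_zero]⟩
  have hh0 : h ≠ 0 := fun e => hf0 (hinj (by rw [hf, e, zero_pow (by omega), mul_zero, map_zero]))
  -- `f` is an `n`-th power in each localization at a height one prime
  have hdiv : ∀ (p : Ideal A) [p.IsPrime], p.height = 1 →
      ∃ (π : Localization.AtPrime p) (m : ℕ) (u : (Localization.AtPrime p)ˣ), π ≠ 0 ∧
        algebraMap A (Localization.AtPrime p) f = u * π ^ (n * m) := by
    intro p _ hp
    obtain ⟨q, hq, hq1, hqp, hmax⟩ := hram p hp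
    exact local_power f h n w hf hf0 p q hp hq1 hqp hmax
  let K : Ideal A := Ideal.span {k | f ^ (n - 1) ∣ k ^ n}
  have hK : ∀ k ∈ K, algebraMap A B f ∣ h * algebraMap A B k := fun k hk => by
    induction hk using Submodule.span_induction with
    | mem k hk =>
      obtain ⟨t, ht⟩ := (hk : f ^ (n - 1) ∣ k ^ n)
      apply (IsIntegrallyClosed.pow_dvd_pow_iff (show n ≠ 0 by omega)).1
      refine ⟨algebraMap A B t * (↑w⁻¹ : B), ?_⟩
      have h1 : h ^ n = (↑w⁻¹ : B) * algebraMap A B f := by rw [hf, ← mul_assoc, Units.inv_mul, one_mul]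
      have hfn : f ^ n = f * f ^ (n - 1) := by rw [← pow_succ', Nat.sub_add_cancel (by omega)]
      rw [mul_pow, h1, ← map_pow, ← map_pow, ht, hfn, map_mul, map_mul]; ring
    | zero => simp
    | add x y _ _ hx hy => rw [map_add, mul_add]; exact dvd_add hx hy
    | smul c x _ hx => rw [smul_eq_mul, map_mul, mul_left_comm]; exact dvd_mul_of_dvd_right hx _
  have hKJ : ∀ a : A, (∀ k ∈ K, f ∣ a * k) → f ∣ a ^ n := by
    intro a ha
    by_contra hna
    have hne : Ideal.Quotient.mk (Ideal.span {f}) (a ^ n) ≠ 0 := fun e =>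
      hna (Ideal.mem_span_singleton.1 (Ideal.Quotient.eq_zero_iff_mem.1 e))
    obtain ⟨P, hP, hle⟩ := exists_le_isAssociatedPrime_of_isNoetherianRing A _ hne
    have := hP.isPrime
    have hP1 : P.height = 1 := Groth.Agent.S14359.result A f hf0 P hP
    obtain ⟨π, m, u, hπ, hu⟩ := hdiv P hP1
    obtain ⟨s, hs, hsa⟩ := pow_dvd_of_local f n (by omega) P π m u hπ hu a
      (fun k hk => ha k (Ideal.subset_span hk))
    exact hs (hle (by
      rw [Submodule.mem_colon_singleton, Submodule.mem_bot]
      exact Ideal.Quotient.eq_zero_iff_mem.2 (Ideal.mem_span_singleton.2 hsa)))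
  obtain ⟨J, hJ1, hJ2⟩ := mem_colon_map f h K ((Submodule.fg_def.1 (IsNoetherian.noetherian K))) hK
  -- `h` lies in the extension of the ideal of `n`-th roots
  obtain ⟨l, c, a, ha, hsum⟩ : ∃ (l : ℕ) (c : Fin l → B) (a : Fin l → A), (∀ j, a j ∈ J) ∧ h = ∑ j, c j * algebraMap A B (a j) := hJ2
  have hd : ∀ j, h ∣ algebraMap A B (a j) := fun j => by
    obtain ⟨t, ht⟩ := hKJ (a j) (hJ1 (a j) (ha j))
    apply (IsIntegrallyClosed.pow_dvd_pow_iff (show n ≠ 0 by omega)).1
    exact ⟨(w : B) * algebraMap A B t, by rw [← map_pow, ht, map_mul, hf]; ring⟩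
  choose d hd using hd
  have h1 : ∑ j, c j * d j = 1 := by
    apply mul_left_cancel₀ hh0
    rw [mul_one, Finset.mul_sum]
    conv_rhs => rw [hsum]
    exact Finset.sum_congr rfl fun j _ => by rw [hd j]; ring
  obtain ⟨j, hj⟩ : ∃ j, IsUnit (d j) := by
    by_contra! hnu
    refine (IsLocalRing.maximalIdeal.isMaximal B).ne_top ((Ideal.eq_top_iff_one _).2 ?_)
    rw [← h1]
    exact sum_mem fun j _ => Ideal.mul_mem_left _ _ (hnu j)
  obtain ⟨t, ht⟩ := hKJ (a j) (hJ1 (a j) (ha j))
  have htu : IsUnit t := by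
    apply IsUnit.of_map (algebraMap A B)
    have : (w : B) * algebraMap A B t * h ^ n = (d j) ^ n * h ^ n := by
      rw [← mul_pow, mul_comm (d j), ← hd j, ← map_pow, ht, map_mul, hf]; ring
    have h' := mul_right_cancel₀ (pow_ne_zero n hh0) this
    exact isUnit_of_mul_isUnit_right (h' ▸ hj.pow n)
  exact ⟨a j, htu.unit⁻¹, by rw [ht, mul_comm f, ← mul_assoc, show ((htu.unit⁻¹ : Aˣ) : A) * t = 1 from htu.val_inv_mul, one_mul]⟩

end Groth.Agent.S7125
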