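import Groth.Statements.S4447
import Mathlib

set_option autoImplicit false
universe u
open CategoryTheory CategoryTheory.Limits AlgebraicGeometry
open EGA2

namespace Groth.Agent.S4447

/-- Let p : X ⟶ Y be a morphism, x a point of X, y = p(x) and y' a specialization of y distinct from y.
Then there are a valuation ring A which is not a field, with field of fractions the residue field
k(x), and a morphism Spec A ⟶ Y mapping the closed point to y' and restricting on Spec k(x) to the
canonical morphism Spec k(x) ⟶ X ⟶ Y (in particular the generic point of Spec A goes to y). -/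
theorem result {X Y : Scheme.{u}} (p : X ⟶ Y) (x : X) (y' : Y)
    (hsp : p.base x ⤳ y') (hne : y' ≠ p.base x) :
    ∃ (A : ValuationSubring (X.residueField x)) (h : Spec (CommRingCat.of A) ⟶ Y), A ≠ ⊤ ∧
      h.base (IsLocalRing.closedPoint A) = y' ∧
      Spec.map (CommRingCat.ofHom A.subtype) ≫ h = X.fromSpecResidueField x ≫ p := by
  let φ : Y.presheaf.stalk y' ⟶ X.residueField x :=
    Y.presheaf.stalkSpecializes hsp ≫ p.stalkMap x ≫ X.residue x
  obtain ⟨A, hA, hA_local⟩ := IsLocalRing.exists_factor_valuationRing φ.hom
  let ψ : Y.presheaf.stalk y' ⟶ CommRingCat.of A := CommRingCat.ofHom (φ.hom.codRestrict _ hA)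
  have w : Spec.map (CommRingCat.ofHom A.subtype) ≫ Spec.map ψ ≫ Y.fromSpecStalk y' =
      X.fromSpecResidueField x ≫ p := by
    rw [Scheme.fromSpecResidueField, Category.assoc, ← Scheme.SpecMap_stalkMap_fromSpecStalk,
      ← Scheme.SpecMap_stalkSpecializes_fromSpecStalk hsp]
    simp_rw [← Spec.map_comp_assoc]
    rfl
  have hpt : (Spec.map ψ ≫ Y.fromSpecStalk y') (IsLocalRing.closedPoint A) = y' := by
    have : Spec.map ψ (IsLocalRing.closedPoint A) = IsLocalRing.closedPoint (Y.presheaf.stalk y') :=
      IsLocalRing.comap_closedPoint (S := A) (φ.hom.codRestrict A.toSubring hA)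
    exact ((Scheme.Hom.comp_apply _ _ _).trans (congrArg _ this)).trans Y.fromSpecStalk_closedPoint
  refine ⟨A, Spec.map ψ ≫ Y.fromSpecStalk y', ?_, hpt, w⟩
  intro hA'
  apply hne
  have hc : Spec.map (CommRingCat.ofHom A.subtype) (IsLocalRing.closedPoint (X.residueField x)) =
      IsLocalRing.closedPoint A := by
    subst hA'
    haveI : IsLocalHom (⊤ : ValuationSubring (X.residueField x)).subtype := ⟨fun a ha => by
      obtain ⟨u, hu⟩ := ha
      refine IsUnit.of_mul_eq_one ⟨(u⁻¹ : (X.residueField x)ˣ), trivial⟩ (Subtype.ext ?_)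
      change (a : X.residueField x) * _ = 1
      rw [show (a : X.residueField x) = u from hu.symm]
      exact u.mul_inv⟩
    exact IsLocalRing.comap_closedPoint _
  have := congr($(w).base (IsLocalRing.closedPoint (X.residueField x)))
  have e := (Scheme.Hom.comp_apply _ _ _).symm.trans (this.trans (Scheme.Hom.comp_apply _ _ _))
  rw [hc, hpt] at e
  exact e.trans (congrArg p (Scheme.fromSpecResidueField_apply x _))

end Groth.Agent.S4447
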