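import Groth.Statements.S2105
import Mathlib.Tactic.Ring
import Mathlib.Tactic.Abel
import Mathlib.LinearAlgebra.Pi
import Mathlib.RingTheory.Ideal.Quotient.Operations
import Mathlib.Algebra.Algebra.Tower
import Mathlib.Algebra.BigOperators.Fin

set_option autoImplicit false
universe u
open CAlg

namespace Groth.Agent.S2105

/-- Appending to an `H_1`-regular sequence `f` a sequence `g` whose image modulo the ideal `(f)` is
`H_1`-regular yields an `H_1`-regular sequence. -/
theorem result {A : Type u} [CommRing A] {n m : ℕ} (f : Fin n → A)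
    (g : Fin m → A) (hf : CAlgX.IsH1Regular f)
    (hg : CAlgX.IsH1Regular (fun j => Ideal.Quotient.mk (Ideal.span (Set.range f)) (g j))) :
    CAlgX.IsH1Regular (Fin.append f g) := by
  classical
  intro c hc
  let I := Ideal.span (Set.range f)
  let T := Submodule.span A {v : Fin (n + m) → A | ∃ i j, v = Pi.single i (Fin.append f g j) - Pi.single j (Fin.append f g i)}
  let p : (Fin n → A) →ₗ[A] (Fin (n + m) → A) := ∑ i, (LinearMap.single A (fun _ => A) (Fin.castAdd m i)).comp (LinearMap.proj i)
  let q : (Fin m → A) →ₗ[A] (Fin (n + m) → A) := ∑ i, (LinearMap.single A (fun _ => A) (Fin.natAdd n i)).comp (LinearMap.proj i)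
  have hp : ∀ i x, p (Pi.single i x) = Pi.single (Fin.castAdd m i) x := fun i x => by
    simp only [p, LinearMap.sum_apply, LinearMap.comp_apply, LinearMap.proj_apply, LinearMap.coe_single]
    rw [Finset.sum_eq_single i (fun b _ hb => by simp [hb]) (fun h => absurd (Finset.mem_univ i) h), Pi.single_eq_same]
  have hq : ∀ i x, q (Pi.single i x) = Pi.single (Fin.natAdd n i) x := fun i x => by
    simp only [q, LinearMap.sum_apply, LinearMap.comp_apply, LinearMap.proj_apply, LinearMap.coe_single]
    rw [Finset.sum_eq_single i (fun b _ hb => by simp [hb]) (fun h => absurd (Finset.mem_univ i) h), Pi.single_eq_same]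
  let a : Fin n → A := fun i => c (Fin.castAdd m i)
  let b : Fin m → A := fun i => c (Fin.natAdd n i)
  have hcd : p a + q b = c := by
    conv_rhs => rw [← Finset.univ_sum_single c, Fin.sum_univ_add]
    simp [p, q, a, b, Finset.sum_apply]
  have hsum : ∑ i, a i * f i + ∑ j, b j * g j = 0 := by
    rw [← hc, Fin.sum_univ_add]; simp [a, b]
  let π : (Fin m → A) →ₗ[A] (Fin m → A ⧸ I) := LinearMap.compLeft (Submodule.mkQ I) (Fin m)
  have hb : (π b) ∈ Submodule.span (A ⧸ I) {v : Fin m → A ⧸ I | ∃ i j, v = Pi.single i (Ideal.Quotient.mk I (g j)) - Pi.single j (Ideal.Quotient.mk I (g i))} := by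
    refine hg (π b) ?_
    have h0 : Ideal.Quotient.mk I (∑ i, a i * f i) = 0 :=
      Ideal.Quotient.eq_zero_iff_mem.mpr (Ideal.sum_mem _ fun i _ => I.mul_mem_left _ (Ideal.subset_span ⟨i, rfl⟩))
    have := congrArg (Ideal.Quotient.mk I) hsum
    rw [map_add, h0, zero_add, map_zero, map_sum] at this
    simpa [π, map_mul] using this
  obtain ⟨t, ht, htb⟩ : ∃ t ∈ Submodule.span A {v : Fin m → A | ∃ i j, v = Pi.single i (g j) - Pi.single j (g i)}, π t = π b := by
    replace hb := (Submodule.restrictScalars_span A (A ⧸ I) Ideal.Quotient.mk_surjective _).le hb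
    have hle : Submodule.span A {v : Fin m → A ⧸ I | ∃ i j, v = Pi.single i (Ideal.Quotient.mk I (g j)) - Pi.single j (Ideal.Quotient.mk I (g i))} ≤
        Submodule.map π (Submodule.span A {v : Fin m → A | ∃ i j, v = Pi.single i (g j) - Pi.single j (g i)}) := by
      refine Submodule.span_le.mpr ?_
      rintro v ⟨i, j, rfl⟩
      refine ⟨_, Submodule.subset_span ⟨i, j, rfl⟩, funext fun k => ?_⟩
      simp [π, Pi.single_apply, apply_ite (Ideal.Quotient.mk I), map_zero]
    exact hle hb
  let e := b - t
  have he : ∀ j, e j ∈ I := fun j => by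
    rw [← Submodule.Quotient.mk_eq_zero]
    have := congrFun htb j
    show Submodule.Quotient.mk (b j - t j) = 0
    rw [Submodule.Quotient.mk_sub]
    exact sub_eq_zero.mpr this.symm
  choose d hd using fun j => Ideal.mem_span_range_iff_exists_fun.mp (he j)
  have htg : ∑ j, t j * g j = 0 := by
    clear htb e he hd d
    induction ht using Submodule.span_induction with
    | mem v hv => obtain ⟨i, j, rfl⟩ := hv; simp [sub_mul, Finset.sum_sub_distrib, Pi.single_apply, ite_mul]; ring
    | zero => simp
    | add x y _ _ hx hy => simp [add_mul, Finset.sum_add_distrib, hx, hy]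
    | smul r x _ hx => simp [mul_assoc, ← Finset.mul_sum, hx]
  have ha : (a + fun i => ∑ j, d j i * g j) ∈ Submodule.span A {v : Fin n → A | ∃ i j, v = Pi.single i (f j) - Pi.single j (f i)} := by
    refine hf _ ?_
    have e1 : ∑ j, b j * g j = ∑ j, e j * g j := by simp [e, sub_mul, Finset.sum_sub_distrib, htg]
    have e2 : ∑ i, (∑ j, d j i * g j) * f i = ∑ j, e j * g j := by
      simp only [Finset.sum_mul, ← hd]
      rw [Finset.sum_comm]
      exact Finset.sum_congr rfl fun j _ => Finset.sum_congr rfl fun i _ => by ring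
    simp only [Pi.add_apply, add_mul, Finset.sum_add_distrib, e2, ← e1, hsum]
  have hpT : ∀ v ∈ Submodule.span A {v : Fin n → A | ∃ i j, v = Pi.single i (f j) - Pi.single j (f i)}, p v ∈ T := by
    intro v hv
    refine (Submodule.span_le.mpr ?_ : _ ≤ T.comap p) hv
    rintro v ⟨i, j, rfl⟩
    exact Submodule.subset_span ⟨Fin.castAdd m i, Fin.castAdd m j, by rw [map_sub, hp, hp, Fin.append_left, Fin.append_left]⟩
  have hqT : q t ∈ T := by
    refine (Submodule.span_le.mpr ?_ : _ ≤ T.comap q) ht
    rintro v ⟨i, j, rfl⟩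
    exact Submodule.subset_span ⟨Fin.natAdd n i, Fin.natAdd n j, by rw [map_sub, hq, hq, Fin.append_right, Fin.append_right]⟩
  have key : q e - p (fun i => ∑ j, d j i * g j) ∈ T := by
    have e3 : q e - p (fun i => ∑ j, d j i * g j) =
        ∑ j, ∑ i, d j i • (Pi.single (Fin.natAdd n j) (Fin.append f g (Fin.castAdd m i))
          - Pi.single (Fin.castAdd m i) (Fin.append f g (Fin.natAdd n j))) := by
      simp only [Fin.append_left, Fin.append_right, smul_sub, Finset.sum_sub_distrib, ← Pi.single_smul]
      congr 1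
      · rw [← Finset.univ_sum_single e, map_sum]
        exact Finset.sum_congr rfl fun j _ => by rw [hq, ← hd j]; simp [smul_eq_mul]; exact (map_sum (AddMonoidHom.single (fun _ => A) (Fin.natAdd n j)) _ _)
      · rw [Finset.sum_comm, ← Finset.univ_sum_single (fun i => ∑ j, d j i * g j), map_sum]
        exact Finset.sum_congr rfl fun i _ => by rw [hp]; exact (map_sum (AddMonoidHom.single (fun _ => A) (Fin.castAdd m i)) _ _)
    rw [e3]
    exact sum_mem fun j _ => sum_mem fun i _ => T.smul_mem _ (Submodule.subset_span ⟨_, _, rfl⟩)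
  have hfin : c = p (a + fun i => ∑ j, d j i * g j) + q t + (q e - p (fun i => ∑ j, d j i * g j)) := by
    rw [← hcd, map_add, show e = b - t from rfl, map_sub]; abel
  show c ∈ T
  rw [hfin]
  exact add_mem (add_mem (hpT _ ha) hqT) key

end Groth.Agent.S2105
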