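import Groth.Statements.S10908
import Groth.Agent.GrT.Affine
import Groth.Agent.GrT.Twist
import Mathlib.RingTheory.IntegralClosure.IsIntegral.AlmostIntegral

set_option autoImplicit false
universe u
open ProjDeg

set_option backward.isDefEq.respectTransparency false
set_option backward.isDefEq.respectTransparency.types false

set_option backward.isDefEq.respectTransparency false

open Groth.Agent

namespace Groth.Agent.S10908

/-- Let S be a Noetherian graded integral domain, graded by the natural numbers as an algebra over a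
ring R, generated by its degree-one part over S_0 (S_1 S_i = S_{i+1}) with S_1 ≠ 0, and integrally
closed in its field of fractions (so that X = Proj S is projectively normal). Then for every d ≥ 0
the canonical map from S_d to the global sections of the twisting sheaf O_X(d), sending a to the
section a/1, is bijective. (The underlying lemma: every global section of O_X(d) is an element of
the homogeneous fraction ring integral over S.) (The published corollary takes the degree-zero part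
to be a finitely generated algebra over a field; this row assumes only that the ring is Noetherian,
which is all the argument uses.) -/
theorem result {R A : Type u} [CommRing R] [CommRing A] [IsDomain A]
    [IsNoetherianRing A] [Algebra R A] (𝒜 : ℕ → Submodule R A) [GradedAlgebra 𝒜]
    (hgen : ∀ i : ℕ, 𝒜 1 * 𝒜 i = 𝒜 (i + 1)) (h1 : 𝒜 1 ≠ ⊥) (hint : IsIntegrallyClosed A) (d : ℕ) :
    Function.Bijective (fun a : ↥(𝒜 d) => Twist.globalOf 𝒜 a) := by
  classical
  -- degrees are detected after multiplying by a nonzero homogeneous element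
  have hcancel : ∀ {i j : ℕ} {b f : A}, f ∈ 𝒜 j → f ≠ 0 → b * f ∈ 𝒜 (i + j) → b ∈ 𝒜 i := by
    intro i j b f hf hf0 hb
    have h := DirectSum.coe_decompose_mul_of_right_mem_of_le 𝒜 (a := b) hf (Nat.le_add_left j i)
    rw [DirectSum.decompose_of_mem_same 𝒜 hb, Nat.add_sub_cancel] at h
    rw [mul_right_cancel₀ hf0 h]
    exact SetLike.coe_mem _
  let I : Ideal A := Ideal.span (𝒜 1 : Set A)
  have hA : ∀ n, ∀ a ∈ 𝒜 n, a ∈ I ^ n := by
    intro n
    induction n with
    | zero => intro a _; rw [pow_zero, Ideal.one_eq_top]; trivial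
    | succ n ih =>
      intro a ha
      rw [← hgen n] at ha
      refine Submodule.mul_induction_on ha (fun x hx y hy => ?_) (fun x y hx hy => add_mem hx hy)
      rw [pow_succ']
      exact Ideal.mul_mem_mul (Ideal.subset_span hx) (ih y hy)
  obtain ⟨t, htA, htI⟩ := (Submodule.fg_span_iff_fg_span_finset_subset (R := A) (𝒜 1 : Set A)).1
    (IsNoetherian.noetherian _)
  have hI : I = Ideal.span (t : Set A) := htI
  obtain ⟨f₀, hf₀, hf₀0⟩ := Submodule.exists_mem_ne_zero_of_ne_bot h1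
  have hI0 : (HomogeneousIdeal.irrelevant 𝒜).toIdeal ≤ I := by
    rw [HomogeneousIdeal.toIdeal_irrelevant_le]
    intro n hn a ha
    exact Ideal.pow_le_self (by omega) (hA n a ha)
  -- the generic point
  let η : ProjectiveSpectrum 𝒜 := ⟨⊥, by simpa using Ideal.isPrime_bot, fun h => hf₀0 ((Submodule.mem_bot A).1
    (h (show f₀ ∈ HomogeneousIdeal.irrelevant 𝒜 from HomogeneousIdeal.mem_irrelevant_of_mem 𝒜 one_pos hf₀)))⟩
  have hη : ∀ a : A, a ≠ 0 → a ∉ η.asHomogeneousIdeal := fun a ha h => ha ((Submodule.mem_bot A).1 h)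
  have hcov : ∀ x : ProjectiveSpectrum 𝒜, ∃ f ∈ t, f ∉ x.asHomogeneousIdeal := fun x => by
    by_contra hc
    push Not at hc
    refine x.not_irrelevant_le fun a ha => ?_
    exact (Ideal.span_le.2 hc : Ideal.span (t : Set A) ≤ x.asHomogeneousIdeal.toIdeal) (hI ▸ hI0 ha)
  have hne : ∀ {x : ProjectiveSpectrum 𝒜} {f : A}, f ∉ x.asHomogeneousIdeal → f ≠ 0 := fun hf h =>
    hf (h ▸ zero_mem _)
  refine ⟨fun a b hab => Subtype.ext ?_, fun s => ?_⟩
  · have h := congrArg (fun w : GrTilde.sect 𝒜 𝒜 (d : ℤ) (Opposite.op ⊤) => (w.1 ⟨η, trivial⟩).1) hab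
    change GrT.fr 𝒜 η a.1 1 _ = GrT.fr 𝒜 η b.1 1 _ at h
    obtain ⟨u, hu, hu0⟩ := (GrT.fr_eq_iff 𝒜 η _ _).1 h
    simpa [sub_eq_zero, hne hu] using hu0
  let s' : GrTilde.sect 𝒜 𝒜 (d : ℤ) (Opposite.op ⊤) := s
  have hfrac : ∀ f : {f // f ∈ t}, ∃ (k : ℕ) (m : A), m ∈ 𝒜 (k + d) ∧
      ∀ (x : ProjectiveSpectrum 𝒜) (hx : f.1 ^ k ∉ x.asHomogeneousIdeal), f.1 ∉ x.asHomogeneousIdeal →
        (s'.1 ⟨x, trivial⟩).1 = GrT.fr 𝒜 x m (f.1 ^ k) hx := fun f => by
    obtain ⟨k, i, m, hi, hm, hs⟩ := GrT.exists_frac_basicOpen 𝒜 𝒜 (d : ℤ) one_pos (htA f.2)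
      (Groth.Agent.QC.res (GrTilde.tilde 𝒜 𝒜 (d : ℤ)) (le_top : ProjectiveSpectrum.basicOpen 𝒜 f.1 ≤ ⊤) s')
    refine ⟨k, m, (show i = k + d by push_cast at hi; omega) ▸ hm, fun x hx hfx => ?_⟩
    exact hs ⟨x, (ProjectiveSpectrum.mem_basicOpen 𝒜 _ x).2 hfx⟩ hx
  choose k m hm hs using hfrac
  have hagree : ∀ f g : {f // f ∈ t}, f.1 ≠ 0 → g.1 ≠ 0 → m f * g.1 ^ k g = m g * f.1 ^ k f := fun f g hf hg => by
    obtain ⟨u, hu, hu0⟩ := (GrT.fr_eq_iff 𝒜 η _ _).1
      ((hs f η (hη _ (pow_ne_zero _ hf)) (hη _ hf)).symm.trans (hs g η (hη _ (pow_ne_zero _ hg)) (hη _ hg)))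
    have := (mul_eq_zero.1 (show u * _ = 0 from hu0)).resolve_left (hne hu)
    rw [sub_eq_zero] at this
    simpa [smul_eq_mul, mul_comm] using this
  obtain ⟨g₀, hg₀t, hg₀⟩ := hcov η
  have hg₀0 : g₀ ≠ 0 := hne hg₀
  let g : {f // f ∈ t} := ⟨g₀, hg₀t⟩
  let K := FractionRing A
  let z : K := algebraMap A K (m g) / algebraMap A K (g₀ ^ k g)
  have hden : algebraMap A K (g₀ ^ k g) ≠ 0 :=
    (map_ne_zero_iff _ (IsFractionRing.injective A K)).2 (pow_ne_zero _ hg₀0)
  have hz : ∀ f : {f // f ∈ t}, f.1 ≠ 0 → algebraMap A K (f.1 ^ k f) * z = algebraMap A K (m f) := fun f hf => by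
    rw [← mul_div_assoc, div_eq_iff hden, ← map_mul, ← map_mul, hagree f g hf hg₀0, mul_comm]
  let J : Ideal A := Ideal.span (Set.range fun f : {f // f ∈ t} => f.1 ^ (k f + 1))
  have hJ : ∀ a ∈ J, ∃ b, algebraMap A K a * z = algebraMap A K b := fun a ha => by
    induction ha using Submodule.span_induction with
    | mem a ha =>
      obtain ⟨f, rfl⟩ := ha
      by_cases hf : f.1 = 0
      · exact ⟨0, by simp [hf]⟩
      · exact ⟨f.1 * m f, by
          show algebraMap A K (f.1 ^ (k f + 1)) * z = _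
          rw [pow_succ', map_mul, map_mul, mul_assoc, hz f hf]⟩
    | zero => exact ⟨0, by simp⟩
    | add a b _ _ iha ihb =>
      obtain ⟨a', ha'⟩ := iha
      obtain ⟨b', hb'⟩ := ihb
      exact ⟨a' + b', by rw [map_add, map_add, add_mul, ha', hb']⟩
    | smul c a _ iha =>
      obtain ⟨a', ha'⟩ := iha
      exact ⟨c * a', by rw [smul_eq_mul, map_mul, map_mul, mul_assoc, ha']⟩
  have hrad : I ≤ J.radical := by
    rw [hI, Ideal.span_le]
    exact fun f hf => ⟨k ⟨f, hf⟩ + 1, Ideal.subset_span ⟨⟨f, hf⟩, rfl⟩⟩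
  obtain ⟨M, hM⟩ := Ideal.exists_pow_le_of_le_radical_of_fg hrad (IsNoetherian.noetherian _)
  -- multiplication by `z` raises large degrees by `d`
  have hstep : ∀ n, M ≤ n → ∀ a ∈ 𝒜 n, ∃ b ∈ 𝒜 (n + d), algebraMap A K a * z = algebraMap A K b := fun n hn a ha => by
    obtain ⟨b, hb⟩ := hJ a (hM (Ideal.pow_le_pow_right hn (hA n a ha)))
    refine ⟨b, hcancel (SetLike.pow_mem_graded (k g) (htA hg₀t)) (pow_ne_zero _ hg₀0) ?_, hb⟩
    have e : b * g₀ ^ k g = a * m g := IsFractionRing.injective A K (by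
      rw [map_mul, map_mul, ← hb, mul_assoc, mul_comm z, hz g hg₀0])
    rw [e, smul_eq_mul, mul_one]
    exact (show n + d + k g = n + (k g + d) by omega) ▸ SetLike.mul_mem_graded ha (hm g)
  have hpow : ∀ j, ∃ b ∈ 𝒜 (M + j * d), algebraMap A K (f₀ ^ M) * z ^ j = algebraMap A K b := fun j => by
    induction j with
    | zero => exact ⟨f₀ ^ M, by simpa using SetLike.pow_mem_graded M hf₀, by simp⟩
    | succ j ih =>
      obtain ⟨b, hb, hbz⟩ := ih
      obtain ⟨c, hc, hcz⟩ := hstep _ (Nat.le_add_right M _) b hb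
      exact ⟨c, (show M + j * d + d = M + (j + 1) * d by ring) ▸ hc, by rw [pow_succ, ← mul_assoc, hbz, hcz]⟩
  have hint' : IsIntegral A z := IsAlmostIntegral.isIntegral
    ⟨f₀ ^ M, mem_nonZeroDivisors_of_ne_zero (pow_ne_zero _ hf₀0), fun j => by
      obtain ⟨b, -, hb⟩ := hpow j
      exact ⟨b, by rw [Algebra.smul_def, hb]⟩⟩
  haveI := hint
  obtain ⟨a, ha⟩ := IsIntegrallyClosed.isIntegral_iff.1 hint'
  have hmul : ∀ f : {f // f ∈ t}, f.1 ≠ 0 → a * f.1 ^ k f = m f := fun f hf =>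
    IsFractionRing.injective A K (by rw [map_mul, ha, mul_comm, hz f hf])
  have had : a ∈ 𝒜 d := hcancel (SetLike.pow_mem_graded (k g) (htA hg₀t)) (pow_ne_zero _ hg₀0) (by
    rw [hmul g hg₀0, smul_eq_mul, mul_one]
    exact add_comm (k g) d ▸ hm g)
  refine ⟨⟨a, had⟩, Subtype.ext (funext fun x => Subtype.ext ?_)⟩
  obtain ⟨f, hft, hfx⟩ := hcov x.1
  have hfk : f ^ k ⟨f, hft⟩ ∉ x.1.asHomogeneousIdeal := fun h => hfx (x.1.isPrime.mem_of_pow_mem _ h)
  refine Eq.trans ?_ (hs ⟨f, hft⟩ x.1 hfk hfx).symm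
  exact GrT.fr_congr 𝒜 x.1 _ _ (by rw [smul_eq_mul, smul_eq_mul, one_mul, mul_comm, hmul ⟨f, hft⟩ (hne hfx)])

end Groth.Agent.S10908
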