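import Groth.Statements.S10444
import Groth.Agent.SpQS.FibreQF

set_option autoImplicit false
universe u
open CategoryTheory CategoryTheory.Limits AlgebraicGeometry Topology TopologicalSpace
open AlgSp

set_option backward.isDefEq.respectTransparency false

namespace Groth.Agent.S10444

/-- Take f : X ⟶ Y locally of finite type between algebraic spaces over a scheme S, a field-valued point
Spec k ⟶ Y whose class y ∈ |Y| lies in the image of |f|, the fibre product X_k = Spec k ×_Y X, and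
the fibre F = |f|⁻¹(y) ⊆ |X| with the induced topology. Numbering the conditions (1) F finite, (2) F
discrete, (3) dim F = 0, (4) |X_k| finite, (5) |X_k| discrete, (6) dim |X_k| = 0, (7) dim X_k = 0,
(8) f quasi-finite at all points over y: (5) ⇔ (7) ⇔ (8); (5) ⇒ (6), with the converse when X_k is
decent; (4) ⇒ (5) when X_k is decent; (4) ⇒ (1); (2) ⇒ (3); if Y is decent then (2) ⇔ (5); if X and
Y are decent then (3) ⇒ (2) and (1) ⇒ (2). (The published statement asserts (5) ⇔ (6) for every f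
and (2) ⇔ (3) whenever Y is decent, and does not exclude an empty fibre; for the quotient of the
affine line over a field of characteristic zero by an infinite cyclic group of translations, mapping
to the point, the space of points is infinite and indiscrete, so (3) and (6) hold while (2) and (5)
fail, and for y outside the image (5) holds while (6) and (7) fail; hence the decency hypotheses on
those two converses and the hypothesis that y is in the image. Finiteness of |X_k| for an arbitrary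
field k in the class of y is not derived here from (1).) -/
theorem result {S : Scheme.{u}} {X Y : AlgSp.Space S} (f : X ⟶ Y)
    (hf : AlgSp.LocP @LocallyOfFiniteType f.hom) (r : AlgSp.FieldPt Y.obj)
    (hy : AlgSp.Points.mk r ∈ Set.range (AlgSp.Points.map f.hom)) (Xk : AlgSp.Space S) (fst : Xk ⟶ X)
    (snd : Xk.obj ⟶ (AlgSp.yon S).obj r.pt) (hsq : IsPullback fst.hom snd f.hom r.toHom) :
    (DiscreteTopology (AlgSp.Points Xk.obj) ↔ AlgSp.dim Xk.obj = 0) ∧
    (AlgSp.dim Xk.obj = 0 ↔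
      ∀ x : AlgSp.Points X.obj, AlgSp.Points.map f.hom x = AlgSp.Points.mk r → AlgSp.HasAtMor (fun U _ h u => ∃ W : U.Opens, u ∈ W ∧ LocallyQuasiFinite (W.ι ≫ h) ∧ LocallyOfFiniteType (W.ι ≫ h)) f.hom x) ∧
    (DiscreteTopology (AlgSp.Points Xk.obj) → topologicalKrullDim (AlgSp.Points Xk.obj) = 0) ∧
    (AlgSp.IsDecent Xk.obj → topologicalKrullDim (AlgSp.Points Xk.obj) = 0 →
      DiscreteTopology (AlgSp.Points Xk.obj)) ∧
    (AlgSp.IsDecent Xk.obj → Finite (AlgSp.Points Xk.obj) → DiscreteTopology (AlgSp.Points Xk.obj)) ∧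
    (Finite (AlgSp.Points Xk.obj) → (AlgSp.Points.map f.hom ⁻¹' {AlgSp.Points.mk r}).Finite) ∧
    (DiscreteTopology ↥(AlgSp.Points.map f.hom ⁻¹' {AlgSp.Points.mk r}) → topologicalKrullDim ↥(AlgSp.Points.map f.hom ⁻¹' {AlgSp.Points.mk r}) = 0) ∧
    (AlgSp.IsDecent Y.obj → (DiscreteTopology ↥(AlgSp.Points.map f.hom ⁻¹' {AlgSp.Points.mk r}) ↔ DiscreteTopology (AlgSp.Points Xk.obj))) ∧
    (AlgSp.IsDecent Y.obj → AlgSp.IsDecent X.obj →
      (topologicalKrullDim ↥(AlgSp.Points.map f.hom ⁻¹' {AlgSp.Points.mk r}) = 0 → DiscreteTopology ↥(AlgSp.Points.map f.hom ⁻¹' {AlgSp.Points.mk r})) ∧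
        ((AlgSp.Points.map f.hom ⁻¹' {AlgSp.Points.mk r}).Finite → DiscreteTopology ↥(AlgSp.Points.map f.hom ⁻¹' {AlgSp.Points.mk r}))) := by
  obtain ⟨h'⟩ : Nonempty (AlgSp.IsAlgSpace X.obj → AlgSp.IsAlgSpace Y.obj →
      AlgSp.LocP @LocallyOfFiniteType snd ∧
      (∀ z : AlgSp.Points Xk.obj, IsOpen ({z} : Set (AlgSp.Points Xk.obj)) ↔
        SpQS.QFAtPt f.hom (AlgSp.Points.map fst.hom z)) ∧
      (∀ x, AlgSp.HasAtMor (fun U _ h u => ∃ W : U.Opens, u ∈ W ∧ LocallyQuasiFinite (W.ι ≫ h) ∧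
        LocallyOfFiniteType (W.ι ≫ h)) f.hom x ↔ SpQS.QFAtPt f.hom x)) := ⟨fun hA hB =>
    ⟨AlgSpLib.locP_baseChange AlgSpLib.etST_lft hA hB
        (AlgSpLib.isAlgSpace_of_isPullback_space hB hA (AlgSp.IsAlgSpace.yon_obj _) hsq) (AlgSp.IsAlgSpace.yon_obj _) hsq hf,
      fun z => SpQS.isOpen_fibre_point_iff hA hB f.hom hf hsq z,
      fun x => SpQS.hasAtMor_nhd_iff hA hB f.hom hf x⟩⟩
  obtain ⟨hsnd, h1, h3⟩ := h' X.property Y.property
  obtain ⟨x₀, hx₀⟩ := hy
  obtain ⟨z₀, -⟩ := SpQS.exists_fibre_lift hsq hx₀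
  have : Nonempty (AlgSp.Points Xk.obj) := ⟨z₀⟩
  obtain ⟨c1, c2, c3, c4⟩ := SpQS.space_conditions Xk.property snd hsnd
  have hdisc : DiscreteTopology (AlgSp.Points Xk.obj) ↔
      ∀ x, AlgSp.Points.map f.hom x = AlgSp.Points.mk r → SpQS.QFAtPt f.hom x := by
    rw [discreteTopology_iff_isOpen_singleton]
    refine ⟨fun h x hx => ?_, fun h z => (h1 z).2 (h _ (SpQS.map_fibre_point hsq z))⟩
    obtain ⟨z, rfl⟩ := SpQS.exists_fibre_lift hsq hx
    exact (h1 z).1 (h z)
  have hne : Nonempty ↥(AlgSp.Points.map f.hom ⁻¹' {AlgSp.Points.mk r}) := ⟨⟨x₀, hx₀⟩⟩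
  refine ⟨c1, c1.symm.trans (hdisc.trans (forall₂_congr fun x _ => (h3 x).symm)), c2, c3,
    fun hd hfin => c1.2 (c4 hd hfin), fun hfin => (Set.finite_range (AlgSp.Points.map fst.hom)).subset fun x hx => ?_,
    fun hd => le_antisymm (topologicalKrullDim_zero_of_discreteTopology _)
      (have := SpQS.exists_irreducibleCloseds (α := ↥(AlgSp.Points.map f.hom ⁻¹' {AlgSp.Points.mk r}))
       Order.krullDim_nonneg),
    fun hY => ?_, fun hY hX => ?_⟩
  · exact SpQS.exists_fibre_lift hsq hx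
  · rw [hdisc, discreteTopology_iff_isOpen_singleton]
    exact ⟨fun h x hx => (SpQS.fibre_conditions f hf hY _ ⟨x, hx⟩).1.1 (h _),
      fun h x => (SpQS.fibre_conditions f hf hY _ x).1.2 (h x.1 x.2)⟩
  · obtain ⟨K, _, str, y₀, Xk', fst', snd', sq, hXk', e, -⟩ := SpQS.exists_fibre_model f hY (AlgSp.Points.mk r)
    obtain ⟨g⟩ : Nonempty (AlgSp.IsAlgSpace X.obj → AlgSp.IsAlgSpace Y.obj →
        AlgSp.LocP @LocallyOfFiniteType snd' ∧ AlgSp.IsDecent Xk') := ⟨fun hA hB =>
      ⟨AlgSpLib.locP_baseChange AlgSpLib.etST_lft hA hB hXk' (AlgSp.IsAlgSpace.yon_obj _) sq hf,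
        SpQS.isDecent_of_isPullback hB hA (AlgSp.IsAlgSpace.yon_obj _) sq hX (SpQS.isDecent_yon _)⟩⟩
    obtain ⟨hl, hd⟩ := g X.property Y.property
    have : Nonempty (AlgSp.Points Xk') := ⟨e.symm ⟨x₀, hx₀⟩⟩
    obtain ⟨d1, -, d3, d4⟩ := SpQS.space_conditions hXk' snd' hl
    refine ⟨fun h => ?_, fun h => ?_⟩
    · have := d3 hd (e.isHomeomorph.topologicalKrullDim_eq.trans h)
      exact e.symm.isEmbedding.discreteTopology
    · have := h.to_subtype
      have := d1.2 (d4 hd (Finite.of_equiv _ e.symm.toEquiv))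
      exact e.symm.isEmbedding.discreteTopology

end Groth.Agent.S10444
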