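import Groth.Statements.S16833
import Groth.Agent.SpRelDim.FiniteDense
import Groth.Agent.AlgSpLib.QCompact

set_option autoImplicit false
universe u
open AlgSp

namespace Groth.Agent.S16833

open CategoryTheory AlgebraicGeometry in
/-- Let p : U → X and f : X → Y be morphisms of algebraic spaces over a scheme S with p etale and
surjective and f separated. If the composite U → Y is finite, then f is finite. -/
theorem result {S : Scheme.{u}}
    {U X Y : AlgSp.Space S} (p : U ⟶ X) (f : X ⟶ Y)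
    (hp : AlgSp.IsEtaleMor p.hom) (hps : AlgSp.IsSurjectiveMor p.hom)
    (hf : AlgSp.IsSeparatedMor f.hom) (h : AlgSp.IsFiniteMor (p ≫ f).hom) :
    AlgSp.IsFiniteMor f.hom := by
  obtain ⟨hU⟩ : Nonempty (AlgSp.IsAlgSpace U.obj) := ⟨U.property⟩
  obtain ⟨hX⟩ : Nonempty (AlgSp.IsAlgSpace X.obj) := ⟨X.property⟩
  obtain ⟨hY⟩ : Nonempty (AlgSp.IsAlgSpace Y.obj) := ⟨Y.property⟩
  have h' : AlgSp.IsFiniteMor (p.hom ≫ f.hom) := h
  obtain ⟨-, -, ⟨hlft, hqc⟩, huc⟩ := (Groth.Agent.AlgSpLib.isFiniteMor_iff hU hY _).1 h'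
  have hr := (Groth.Agent.AlgSpLib.isFiniteMor_iff_repWith _).1 h'
  have hlqf : AlgSp.LocP (@LocallyQuasiFinite ⊓ @LocallyOfFiniteType) (p.hom ≫ f.hom) :=
    (Groth.Agent.AlgSpLib.locP_iff_repWith Groth.Agent.AlgSpLib.etST_lqf hY hr.1).2
      (Groth.Agent.AlgSpLib.repWith_mono (fun _ _ r hr' => by
        have : IsFinite r := hr'
        exact ⟨inferInstance, inferInstance⟩) hr)
  obtain ⟨W, w, hw, hws⟩ := hU.atlas
  have hq : AlgSp.LocP (@LocallyQuasiFinite ⊓ @LocallyOfFiniteType) f.hom := by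
    refine Groth.Agent.AlgSpLib.locP_of_comp_surjective Groth.Agent.AlgSpLib.etST_lqf hX (hp w hw)
      ?_ ?_
    · have hsur : AlgSp.IsSurjectiveMor (w ≫ p.hom) := fun x => by
        obtain ⟨y, rfl⟩ := hps x
        obtain ⟨z, rfl⟩ := Groth.Agent.AlgSpLib.isSurjectiveMor_of_repWith hws y
        exact ⟨z, AlgSp.Points.map_comp _ _ _⟩
      refine ⟨(hp w hw).1, fun A B b c v sq => ⟨fun t => ?_⟩⟩
      obtain ⟨z, hz⟩ := Groth.Agent.AlgSpLib.isSurjectiveMor_baseChange sq hsur (AlgSp.Points.ofScheme _ t)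
      obtain ⟨a, rfl⟩ := (AlgSp.Points.schemeEquiv _).surjective z
      refine ⟨a, (AlgSp.Points.schemeEquiv _).injective ?_⟩
      exact (Groth.Agent.AlgSpLib.ofScheme_map _ _).symm.trans hz
    · have hid : AlgSp.LocP (@LocallyQuasiFinite ⊓ @LocallyOfFiniteType) w :=
        (Groth.Agent.AlgSpLib.locP_iff_repWith Groth.Agent.AlgSpLib.etST_lqf hU hw.1).2
          (Groth.Agent.AlgSpLib.repWith_mono (fun _ _ r hr' => Groth.Agent.AlgSpLib.etST_lqf.of_etale r hr') hw)
      rw [Category.assoc]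
      exact Groth.Agent.AlgSpLib.locP_comp Groth.Agent.AlgSpLib.etST_lqf hU hY hid hlqf
  refine Groth.Agent.SpRelDim.isFiniteMor_of_lqf_proper hX hY f.hom hq ⟨hf, ⟨?_,
    Groth.Agent.AlgSpLib.isQuasiCompactMor_of_surjective hX hY p.hom f.hom hps hqc⟩, ?_⟩
  · intro A B a b m ha hb comm
    exact (hq a b m ha hb comm).2
  · intro Z Z' hZ g fst snd sq C hC
    have sq' := IsPullback.of_hasPullback p.hom fst
    have hcl := huc hZ g _ _ (sq'.paste_vert sq)
      (AlgSp.Points.map (Limits.pullback.snd p.hom fst) ⁻¹' C)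
      (hC.preimage (AlgSp.Points.continuous_map _))
    have e : AlgSp.Points.map (Limits.pullback.snd p.hom fst ≫ snd) ''
        (AlgSp.Points.map (Limits.pullback.snd p.hom fst) ⁻¹' C) = AlgSp.Points.map snd '' C := by
      ext z
      constructor
      · rintro ⟨y, hy, rfl⟩
        exact ⟨_, hy, (AlgSp.Points.map_comp _ _ _).symm⟩
      · rintro ⟨x, hx, rfl⟩
        obtain ⟨y, rfl⟩ := Groth.Agent.AlgSpLib.isSurjectiveMor_baseChange sq' hps x
        exact ⟨y, hx, AlgSp.Points.map_comp _ _ _⟩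
    rwa [e] at hcl

end Groth.Agent.S16833
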