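import Groth.Statements.S6992
import Groth.Agent.RelFP.Basic

set_option autoImplicit false
universe u
open CAlg Groth.Agent

namespace Groth.Agent.S6992

/-- Let R be a commutative ring, A → B a finite homomorphism of finite type R-algebras, M a B-module,
and α : R[x_1, ..., x_n] → A, β : R[y_1, ..., y_k] → B surjective R-algebra homomorphisms. Then M is
finitely presented as an R[x_1, ..., x_n]-module through α and A → B (M is finitely presented
relative to R as an A-module) if and only if M is finitely presented as an R[y_1, ..., y_k]-module
through β (M is finitely presented relative to R as a B-module). -/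
theorem result {R A B : Type u} [CommRing R] [CommRing A] [CommRing B]
    [Algebra R A] [Algebra A B] [Algebra R B] [IsScalarTower R A B] [Algebra.FiniteType R A]
    [Algebra.FiniteType R B] [Module.Finite A B] (M : Type u) [AddCommGroup M] [Module B M] [Module A M]
    [IsScalarTower A B M] {n k : ℕ} (α : MvPolynomial (Fin n) R →ₐ[R] A) (hα : Function.Surjective α)
    (β : MvPolynomial (Fin k) R →ₐ[R] B) (hβ : Function.Surjective β) :
    @Module.FinitePresentation (MvPolynomial (Fin n) R) M _ _ (Module.compHom M α.toRingHom) ↔
      @Module.FinitePresentation (MvPolynomial (Fin k) R) M _ _ (Module.compHom M β.toRingHom) := by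
  letI : Algebra (MvPolynomial (Fin n) R) B := (((algebraMap A B).comp α.toRingHom)).toAlgebra
  letI : Algebra (MvPolynomial (Fin k) R) B := β.toRingHom.toAlgebra
  letI : Module (MvPolynomial (Fin n) R) M := Module.compHom M α.toRingHom
  letI : Module (MvPolynomial (Fin k) R) M := Module.compHom M β.toRingHom
  haveI : IsScalarTower (MvPolynomial (Fin n) R) B M :=
    IsScalarTower.of_algebraMap_smul fun a m => algebraMap_smul B (α a) m
  haveI : IsScalarTower (MvPolynomial (Fin k) R) B M := IsScalarTower.of_algebraMap_smul fun _ _ => rfl
  haveI : IsScalarTower R (MvPolynomial (Fin n) R) B := IsScalarTower.of_algebraMap_eq fun a => by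
    change _ = algebraMap A B (α (algebraMap R _ a))
    rw [α.commutes, ← IsScalarTower.algebraMap_apply]
  haveI : IsScalarTower R (MvPolynomial (Fin k) R) B := IsScalarTower.of_algebraMap_eq fun a => (β.commutes a).symm
  haveI : Algebra.IsIntegral (MvPolynomial (Fin k) R) B :=
    haveI := RelFP.finite_of_surjective_algebraMap (P := MvPolynomial (Fin k) R) (A := B) hβ
    Algebra.IsIntegral.of_finite _ _
  haveI : Algebra.IsIntegral (MvPolynomial (Fin n) R) B := by
    have h : ((algebraMap A B).comp α.toRingHom).IsIntegral :=
      RingHom.IsIntegral.trans _ _ (α.toRingHom.isIntegral_of_surjective hα) (algebraMap_isIntegral_iff.2 inferInstance)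
    exact ⟨h⟩
  exact RelFP.fp_iff R (MvPolynomial (Fin n) R) (MvPolynomial (Fin k) R) B M

end Groth.Agent.S6992
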