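import Groth.Statements.S3951
import Groth.Agent.RootBase.BigCell
-- import your own Groth.Agent.* helpers here

set_option autoImplicit false
open CategoryTheory MonoidalCategory CartesianMonoidalCategory MonObj GrpObj AlgebraicGeometry
universe u
open RedSub

set_option backward.isDefEq.respectTransparency false

namespace Groth.Agent.S3951

/-- Let G be a split reductive S-group (splitting D) and b a system of simple roots of its root datum,
with positive roots R_+ and negative roots R_-. For enumerations e⁻ of R_- and e⁺ of R_+ in any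
order, the morphism G_a^{R_-} x_S T x_S G_a^{R_+} ⟶ G given by the ordered product of the root
homomorphisms and the torus is an open immersion, and its image (the big cell) does not depend on
the chosen orderings. -/
theorem result {S : Scheme.{u}} {G : Over S} [GrpObj G] (D : Red.SplitRed G) (b : D.P.Base)
    {n m : ℕ} (eneg : Fin n → D.idx) (epos : Fin m → D.idx)
    (hneg : RedSub.Enumerates (RedSub.negRoots D.P b) eneg) (hpos : RedSub.Enumerates (RedSub.posRoots D.P b) epos) :
    IsOpenImmersion (RedSub.cellMap D eneg epos).left ∧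
      ∀ (eneg' : Fin n → D.idx) (epos' : Fin m → D.idx), RedSub.Enumerates (RedSub.negRoots D.P b) eneg' →
        RedSub.Enumerates (RedSub.posRoots D.P b) epos' →
        Set.range (RedSub.cellMap D eneg' epos').left.base = Set.range (RedSub.cellMap D eneg epos).left.base := by
  letI := D.grpT
  letI := D.acgM
  letI := D.fintypeIdx
  letI := D.finiteM
  letI := D.freeM
  obtain ⟨mu, hp, hn, hmu⟩ := RootBase.exists_pos_hom D.P b
  have hpe : {a | 0 < mu (D.P.root a)} = RedSub.posRoots D.P b := Set.ext hp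
  have hne : {a | 0 < (-mu) (D.P.root a)} = RedSub.negRoots D.P b := Set.ext hn
  have F := RootBase.frame_of_splitRed D
  let ψ : D.T ≅ Red.DS S D.M := RootBase.isoOf D.split
  have hψ : ψ.hom ≫ D.split.inv.hom.hom ≫ D.i = D.i := ψ.hom_inv_id_assoc D.i
  have hcell : ∀ (e₁ : Fin n → D.idx) (e₂ : Fin m → D.idx),
      (𝟙 (RedSub.pow (Red.Ga S) n) ⊗ₘ (ψ.hom ⊗ₘ 𝟙 (RedSub.pow (Red.Ga S) m))) ≫
        RootBase.cellC (D.split.inv.hom.hom ≫ D.i) (fun l => D.u (e₁ l)) (fun l => D.u (e₂ l)) =
      RedSub.cellMap D e₁ e₂ := fun e₁ e₂ => by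
    rw [RootBase.cellC, RedSub.cellMap, MonObj.comp_mul, MonObj.comp_mul]
    simp only [tensorHom_fst_assoc, tensorHom_snd_assoc, Category.id_comp, hψ]
  let φ := (𝟙 (RedSub.pow (Red.Ga S) n) ⊗ₘ (ψ.hom ⊗ₘ 𝟙 (RedSub.pow (Red.Ga S) m))).left
  haveI : IsIso φ := inferInstanceAs (IsIso ((Over.forget S).map
    (𝟙 (RedSub.pow (Red.Ga S) n) ⊗ₘ (ψ.hom ⊗ₘ 𝟙 (RedSub.pow (Red.Ga S) m)))))
  refine ⟨?_, fun eneg' epos' hneg' hpos' => ?_⟩
  · obtain ⟨h, -⟩ := F.cell mu hmu eneg eneg epos epos (hne ▸ hneg) (hpe ▸ hpos) (hne ▸ hneg) (hpe ▸ hpos)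
    haveI := h
    rw [← hcell, Over.comp_left]
    infer_instance
  · obtain ⟨-, h⟩ := F.cell mu hmu eneg eneg' epos epos' (hne ▸ hneg) (hpe ▸ hpos) (hne ▸ hneg') (hpe ▸ hpos')
    rw [← hcell, ← hcell, Over.comp_left, Over.comp_left]
    exact ((RootBase.range_iso_comp φ _).trans h).trans (RootBase.range_iso_comp φ _).symm

end Groth.Agent.S3951
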