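import Groth.Statements.S3954
import Groth.Agent.RootBase.BruhatSplit
-- import your own Groth.Agent.* helpers here

set_option autoImplicit false
open CategoryTheory MonoidalCategory CartesianMonoidalCategory MonObj GrpObj AlgebraicGeometry
universe u
open RedSub

set_option backward.isDefEq.respectTransparency false

namespace Groth.Agent.S3954

/-- Let G be a split reductive S-group (splitting D), b a system of simple roots with enumerations e⁻,
e⁺ of the negative and positive roots, and n a family of S-points of G normalising the torus and
realising the reflections s_a of all roots a. Then G is covered by the translates n_w Ω of the big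
cell Ω (image of the big cell map) by the products n_w = n_{a_1} ⋯ n_{a_k} of these points: every
point of the underlying space of G lies in the image of the left translate by some such product of
the big cell map. -/
theorem result {S : Scheme.{u}} {G : Over S} [GrpObj G] (D : Red.SplitRed G)
    (b : D.P.Base) {n m : ℕ} (eneg : Fin n → D.idx) (epos : Fin m → D.idx)
    (hneg : RedSub.Enumerates (RedSub.negRoots D.P b) eneg) (hpos : RedSub.Enumerates (RedSub.posRoots D.P b) epos)
    (nr : D.idx → (𝟙_ (Over S) ⟶ G)) (hnr : RedSub.RealisesReflections D nr) (x : ↥G.left) :
    ∃ w : List D.idx,
      x ∈ Set.range ((toUnit _ ≫ (w.map nr).prod) * RedSub.cellMap D eneg epos).left.base := by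
  obtain ⟨l, -, hl⟩ := RootBase.exists_simple_translate D b eneg epos hneg hpos (nr := nr)
    (fun a _ => hnr a) x
  exact ⟨l, hl⟩

end Groth.Agent.S3954
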