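import Groth.Statements.S19548
import Groth.Agent.RootSys.PosRoots

set_option autoImplicit false
universe u
open CategoryTheory AlgebraicGeometry
open RedSub

namespace Groth.Agent.S19548

/-- Let Φ be a finite reduced root system (a reduced root pairing over ℤ on a finite index set) with a
base b, let w = σ_{α_1} ⋯ σ_{α_ℓ} be a reduced decomposition of a Weyl group element into simple
reflections (every α_j in the base, and no shorter word in the simple reflections gives the same
permutation of the roots), and let γ be a positive root with w⁻¹(γ) negative. Then for some i with 1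
≤ i ≤ ℓ one has σ_γ σ_{α_1} ⋯ σ_{α_i} = σ_{α_1} ⋯ σ_{α_{i-1}}. (Indices are shifted by one below:
the word is a list and the prefixes are its first i + 1 and first i letters.) -/
theorem result {idx M N : Type}
    [AddCommGroup M] [AddCommGroup N] [Finite idx]
    (P : RootPairing idx ℤ M N) [P.IsReduced] (b : P.Base) (l : List idx)
    (hl : ∀ a ∈ l, a ∈ b.support)
    (hred : ∀ l' : List idx, (∀ a ∈ l', a ∈ b.support) →
      RedSub.wordPerm P l' = RedSub.wordPerm P l → l.length ≤ l'.length)
    (c : idx) (hc : c ∈ RedSub.posRoots P b) (hneg : (RedSub.wordPerm P l).symm c ∈ RedSub.negRoots P b) :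
    ∃ i : ℕ, i < l.length ∧
      P.reflectionPerm c * RedSub.wordPerm P (l.take (i + 1)) = RedSub.wordPerm P (l.take i) := by
  classical
  have hpos : ∀ i, i ∈ RedSub.posRoots P b ↔ b.IsPos i := RootSys.mem_posRoots_iff b
  rw [RootSys.mem_negRoots_iff] at hneg
  rw [hpos] at hc
  have hzero : ∀ i, i < 1 → b.IsPos ((RedSub.wordPerm P (l.take i)).symm c) := fun i hi => by
    rw [Nat.lt_one_iff.mp hi]
    exact hc
  have hex : ∃ n, ¬ b.IsPos ((RedSub.wordPerm P (l.take n)).symm c) :=
    ⟨l.length, by rwa [List.take_length]⟩
  obtain ⟨i, hi⟩ : ∃ i, Nat.find hex = i + 1 := Nat.exists_eq_succ_of_ne_zero fun h0 =>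
    (Nat.find_spec hex) (by rw [h0]; exact hzero 0 Nat.one_pos)
  have hlt : i < l.length := by
    have := Nat.find_min' hex (m := l.length) (by rwa [List.take_length])
    omega
  have hy : b.IsPos ((RedSub.wordPerm P (l.take i)).symm c) :=
    not_not.mp (Nat.find_min hex (by omega))
  have hn := Nat.find_spec hex
  rw [hi] at hn
  have hsucc : RedSub.wordPerm P (l.take (i + 1)) =
      RedSub.wordPerm P (l.take i) * P.reflectionPerm l[i] := by
    simp only [RedSub.wordPerm]
    rw [List.take_succ_eq_append_getElem hlt, List.map_append, List.prod_append]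
    simp
  set u := RedSub.wordPerm P (l.take i) with hu
  have hcj : u l[i] = c := by
    by_contra hne
    refine hn ?_
    rw [hsucc, show (u * P.reflectionPerm l[i]).symm c = P.reflectionPerm l[i] (u.symm c) from ?_]
    · exact hy.reflectionPerm (hl _ (List.getElem_mem hlt)) fun h => hne (by rw [← h, Equiv.apply_symm_apply])
    · rw [Equiv.Perm.mul_def, Equiv.symm_trans_apply, P.reflectionPerm_symm]
  refine ⟨i, hlt, ?_⟩
  rw [hsucc, ← hcj, ← mul_assoc, hu, ← RootSys.wordPerm_mul_reflectionPerm, mul_assoc]
  convert mul_one (RedSub.wordPerm P (l.take i)) using 2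
  refine Equiv.ext fun x => ?_
  exact P.reflectionPerm_self _ x

end Groth.Agent.S19548
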