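import Groth.Statements.S5509
import Groth.Agent.RootBase.Gen
-- import your own Groth.Agent.* helpers here

set_option autoImplicit false
open CategoryTheory MonoidalCategory CartesianMonoidalCategory MonObj GrpObj AlgebraicGeometry
universe u
open RedSub

set_option backward.isDefEq.respectTransparency false

namespace Groth.Agent.S5509

open RootBase in
/-- A point of the cell carrying the values of a regular cocharacter into the torus lies in the torus. -/
theorem torus_of_normalizes {S : Scheme.{u}} {G : Over S} [GrpObj G] {M : Type} [AddCommGroup M]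
    [Module.Free ℤ M] [Module.Finite ℤ M] {c : Red.DS S M ⟶ G} {idx : Type} [Fintype idx] {root : idx → M}
    {u : idx → (Red.Ga S ⟶ G)} (F : RootBase.Frame c root u) {n m : ℕ} (en : Fin n → idx) (ep : Fin m → idx)
    (ho : IsOpenImmersion (cellC c (fun l => u (en l)) (fun l => u (ep l))).left) (mu : M →+ ℤ)
    (hmu : ∀ a, mu (root a) ≠ 0) {X : Over S} (y : X ⟶ RedSub.pow (Red.Ga S) n) (s : X ⟶ Red.DS S M)
    (y' : X ⟶ RedSub.pow (Red.Ga S) m)
    (h : ∀ (X' : Over S) (ρ : X' ⟶ X) (t : X' ⟶ Red.DS S M), ∃ t₁ : X' ⟶ Red.DS S M,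
      (ρ ≫ lift y (lift s y') ≫ cellC c (fun l => u (en l)) (fun l => u (ep l))) * (t ≫ c) *
        (ρ ≫ lift y (lift s y') ≫ cellC c (fun l => u (en l)) (fun l => u (ep l)))⁻¹ = t₁ ≫ c) :
    lift y (lift s y') ≫ cellC c (fun l => u (en l)) (fun l => u (ep l)) = s ≫ c := by
  haveI := F.hc.1
  haveI : Mono (cellC c (fun l => u (en l)) (fun l => u (ep l))) := by haveI := ho; exact Over.mono_of_mono_left _
  obtain ⟨h0, h1⟩ := F.eq_one_of_commute en ep ho y s y' mu fun X' ρ r => by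
    obtain ⟨t₀, ht₀⟩ : ∃ t₀, t₀ = r ≫ Red.DSmap S mu := ⟨_, rfl⟩
    rw [← ht₀]
    obtain ⟨t₁, ht'⟩ := h X' ρ t₀
    suffices t₁ = t₀ by
      rw [this] at ht'
      exact mul_inv_eq_iff_eq_mul.1 ht'
    have hc := mul_inv_eq_iff_eq_mul.1 ht'
    rw [← Category.assoc, comp_lift, comp_lift, comp_cellC] at hc
    have hmove : ∀ {k : ℕ} (e : Fin k → idx) (t : X' ⟶ Red.DS S M) (w : X' ⟶ RedSub.pow (Red.Ga S) k),
        ∃ w' : X' ⟶ RedSub.pow (Red.Ga S) k, w' ≫ RedSub.prodMap (Red.Ga S) k (fun l => u (e l)) =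
          (t ≫ c) * (w ≫ RedSub.prodMap (Red.Ga S) k fun l => u (e l)) * (t ≫ c)⁻¹ := by
      intro k e t w
      choose z hz1 _hz2 using fun l => (F.hu (e l)).2.2 X' t (w ≫ proj S k l)
      obtain ⟨w', -, hw'⟩ := exists_pow_prod (fun l => u (e l)) z
      refine ⟨w', ?_⟩
      rw [hw', comp_prodMap_eq, conj_ofFn_prod]
      congr 2
      funext l
      exact hz1 l
    obtain ⟨v, hv⟩ := hmove en t₁ (ρ ≫ y)
    obtain ⟨v', hv'⟩ := hmove ep t₀⁻¹ (ρ ≫ y')
    have hi : t₀⁻¹ ≫ c = (t₀ ≫ c)⁻¹ := GrpObj.inv_comp t₀ c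
    rw [hi, _root_.inv_inv] at hv'
    have e : lift v (lift (t₁ * (ρ ≫ s)) (ρ ≫ y')) ≫ cellC c (fun l => u (en l)) (fun l => u (ep l)) =
        lift (ρ ≫ y) (lift ((ρ ≫ s) * t₀) v') ≫ cellC c (fun l => u (en l)) (fun l => u (ep l)) := by
      rw [comp_cellC, comp_cellC, MonObj.mul_comp, MonObj.mul_comp, hv, hv']
      simpa only [_root_.mul_assoc, inv_mul_cancel_left, mul_inv_cancel_left] using hc.symm
    have e4 := congrArg (fun w => w ≫ snd _ _ ≫ fst _ _)
      ((cancel_mono (cellC c (fun l => u (en l)) (fun l => u (ep l)))).1 e)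
    simp only [lift_snd_assoc, lift_fst] at e4
    rw [show (ρ ≫ s) * t₀ = t₀ * (ρ ≫ s) from HomDiag.ch_ext fun m => by
      rw [HomDiag.ch_mul, HomDiag.ch_mul, mul_comm]] at e4
    refine HomDiag.ch_ext fun k => ((Group.isUnit k).map (HomDiag.ch (ρ ≫ s))).mul_right_cancel ?_
    rw [← HomDiag.ch_mul, ← HomDiag.ch_mul, e4]
  rw [comp_cellC, prodMap_one _ (fun k => (F.hu _).1) y fun l => h0 l (hmu _),
    prodMap_one _ (fun k => (F.hu _).1) y' fun l => h1 l (hmu _), _root_.one_mul, _root_.mul_one]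

/-- Let G be a split reductive S-group (splitting D), b a system of simple roots with enumerations of
the negative and positive roots, and x a point (with values in some X) of the big cell G_a^{R_-} x_S
T x_S G_a^{R_+}. If the image g of x in G satisfies g t g⁻¹ ∈ T for every point t of T (after every
base change), then g lies in T: g is the image of the T-component of x (so the two unipotent
components of x are trivial). In other words the big cell meets the normaliser of T in T. -/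
theorem result {S : Scheme.{u}} {G : Over S} [GrpObj G] (D : Red.SplitRed G)
    (b : D.P.Base) {n m : ℕ} (eneg : Fin n → D.idx) (epos : Fin m → D.idx)
    (hneg : RedSub.Enumerates (RedSub.negRoots D.P b) eneg) (hpos : RedSub.Enumerates (RedSub.posRoots D.P b) epos)
    (X : Over S) (x : X ⟶ RedSub.pow (Red.Ga S) n ⊗ (D.T ⊗ RedSub.pow (Red.Ga S) m))
    (hnorm : ∀ (X' : Over S) (y : X' ⟶ X) (t : X' ⟶ D.T), ∃ t' : X' ⟶ D.T,
      (y ≫ x ≫ RedSub.cellMap D eneg epos) * (t ≫ D.i) * (y ≫ x ≫ RedSub.cellMap D eneg epos)⁻¹ = t' ≫ D.i) :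
    x ≫ RedSub.cellMap D eneg epos = (x ≫ snd _ _ ≫ fst _ _) ≫ D.i := by
  letI := D.grpT
  letI := D.acgM
  letI := D.fintypeIdx
  letI := D.finiteM
  letI := D.freeM
  classical
  obtain ⟨mu, hp, hn, hmu⟩ := RootBase.exists_pos_hom D.P b
  have hpe : {a | 0 < mu (D.P.root a)} = RedSub.posRoots D.P b := Set.ext hp
  have hne : {a | 0 < (-mu) (D.P.root a)} = RedSub.negRoots D.P b := Set.ext hn
  have F := RootBase.frame_of_splitRed D
  haveI := F.hc.1
  obtain ⟨ho, -⟩ := F.cell mu hmu eneg eneg epos epos (hne ▸ hneg) (hpe ▸ hpos) (hne ▸ hneg) (hpe ▸ hpos)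
  have hinv : D.split.hom.hom.hom ≫ D.split.inv.hom.hom = 𝟙 _ := congrArg (fun z => z.hom.hom) D.split.hom_inv_id
  have hψ : D.split.hom.hom.hom ≫ D.split.inv.hom.hom ≫ D.i = D.i := by rw [← Category.assoc, hinv, Category.id_comp]
  obtain ⟨y, hy⟩ : ∃ y, y = x ≫ fst _ _ := ⟨_, rfl⟩
  obtain ⟨s, hs⟩ : ∃ s, s = (x ≫ snd _ _ ≫ fst _ _) ≫ D.split.hom.hom.hom := ⟨_, rfl⟩
  obtain ⟨y', hy'⟩ : ∃ y', y' = x ≫ snd _ _ ≫ snd _ _ := ⟨_, rfl⟩
  have hs' : s ≫ D.split.inv.hom.hom ≫ D.i = (x ≫ snd _ _ ≫ fst _ _) ≫ D.i := by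
    rw [hs, Category.assoc, hψ]
  have hx : x ≫ RedSub.cellMap D eneg epos = lift y (lift s y') ≫
      RootBase.cellC (D.split.inv.hom.hom ≫ D.i) (fun l => D.u (eneg l)) (fun l => D.u (epos l)) := by
    rw [RootBase.comp_cellC, hs', hy, hy', RedSub.cellMap, MonObj.comp_mul, MonObj.comp_mul]
    simp only [Category.assoc]
  rw [hx, torus_of_normalizes F eneg epos ho mu hmu y s y' fun X' ρ t => ?_, hs']
  obtain ⟨t', ht'⟩ := hnorm X' ρ (t ≫ D.split.inv.hom.hom)
  refine ⟨t' ≫ D.split.hom.hom.hom, ?_⟩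
  rw [← hx]
  simp only [Category.assoc, hψ] at ht' ⊢
  exact ht'

end Groth.Agent.S5509
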