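import Groth.Statements.S5523
import Groth.Agent.RootBase.TypeRSplit
-- import your own Groth.Agent.* helpers here

set_option autoImplicit false
open CategoryTheory MonoidalCategory CartesianMonoidalCategory MonObj GrpObj AlgebraicGeometry
universe u
open RedSub

set_option backward.isDefEq.respectTransparency false

namespace Groth.Agent.S5523

/-- Let S be connected, G a split reductive S-group (splitting D), and H, H'' two subgroups of type (R)
of G containing the torus T of the splitting, with root sets R' and R'' (the roots whose root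
homomorphism factors through the subgroup). Then H ⊆ H'' if and only if R' ⊆ R''. -/
theorem result {S : Scheme.{u}} [ConnectedSpace S] {G H : Over S} [GrpObj G] [GrpObj H]
    (D : Red.SplitRed G) (h : H ⟶ G) (hH : RedSub.IsTypeR h) (t : D.T ⟶ H) (ht : t ≫ h = D.i) (R' : Set D.idx)
    (hR' : ∀ a : D.idx, (∃ v : Red.Ga S ⟶ H, v ≫ h = D.u a) ↔ a ∈ R')
    {H'' : Over S} [GrpObj H''] (h'' : H'' ⟶ G) (hH'' : RedSub.IsTypeR h'') (t'' : D.T ⟶ H'') (ht'' : t'' ≫ h'' = D.i)
    (R'' : Set D.idx) (hR'' : ∀ a : D.idx, (∃ v : Red.Ga S ⟶ H'', v ≫ h'' = D.u a) ↔ a ∈ R'') :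
    (∃ f : H ⟶ H'', f ≫ h'' = h) ↔ R' ⊆ R'' := by
  constructor
  · rintro ⟨f, hf⟩ a ha
    obtain ⟨v, hv⟩ := (hR' a).2 ha
    exact (hR'' a).1 ⟨v ≫ f, by rw [Category.assoc, hf, hv]⟩
  · intro hsub
    exact RootBase.exists_le_split D h hH t ht h'' hH'' t'' ht'' fun a s hs =>
      (RootBase.rootSet_iff D h'' hH'' t'' ht'' hR'' a s).2 (hsub ((RootBase.rootSet_iff D h hH t ht hR' a s).1 hs))

end Groth.Agent.S5523
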