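import Groth.Statements.S8446
import Groth.Agent.RedR1.Gen
import Groth.Agent.RedR1.GaSpace
import Groth.Agent.GrpField.Kernel
import Groth.Agent.MTBridge.ActTrivGeo

set_option autoImplicit false
universe u
open CategoryTheory MonoidalCategory CartesianMonoidalCategory MonObj GrpObj AlgebraicGeometry CategoryTheory.Limits
open Red

namespace Groth.Agent.S8446

open RedR1 in
open Groth.Agent.BGaNotS (gaPt gaFn_gaPt) in
/-- With commuting root groups the cell is stable under `c⁻¹ d`. -/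
theorem inCell_inv_mul {S : Scheme.{u}} {G T : Over S} [GrpObj G] [GrpObj T] {i : T ⟶ G} [IsMonHom i]
    {α : T ⟶ Red.Gm S} {pp pm : Red.Ga S ⟶ G} [IsMonHom pp] [IsMonHom pm] (hP : NormP i α pp) (hM : NormM i α pm)
    {X : Over S} (hc : ∀ x y : X ⟶ Red.Ga S, (x ≫ pp) * (y ≫ pm) = (y ≫ pm) * (x ≫ pp)) {c d : X ⟶ G}
    (h : InCell i pp pm c) (h' : InCell i pp pm d) : InCell i pp pm (c⁻¹ * d) := by
  obtain ⟨y, t, x, rfl⟩ := h
  obtain ⟨y', t', x', rfl⟩ := h'
  obtain ⟨Y, hY, -⟩ := hM X t⁻¹ (y⁻¹ * y')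
  obtain ⟨Z, hZ, -⟩ := hP X (t⁻¹ * t')⁻¹ x⁻¹
  refine ⟨Y, t⁻¹ * t', Z * x', ?_⟩
  rw [GrpObj.inv_comp, _root_.inv_inv, MonObj.mul_comp, GrpObj.inv_comp] at hY
  rw [GrpObj.inv_comp, _root_.inv_inv, MonObj.mul_comp, GrpObj.inv_comp, GrpObj.inv_comp] at hZ
  have hc' := hc x⁻¹ Y
  rw [GrpObj.inv_comp, hY] at hc'
  rw [MonObj.mul_comp t⁻¹, GrpObj.inv_comp, MonObj.mul_comp Z, hY, hZ]
  calc _ = (x ≫ pp)⁻¹ * ((t ≫ i)⁻¹ * ((y ≫ pm)⁻¹ * (y' ≫ pm)) * (t ≫ i)) * ((t ≫ i)⁻¹ * (t' ≫ i) * (x' ≫ pp)) := by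
        group
    _ = _ := by rw [hc']; group


/-- Let G be a reductive S-group, i : T ⟶ G a maximal torus, α a character of T non-trivial on every
geometric fibre, and p₊, p₋ : 𝔾_a ⟶ G monomorphisms of groups normalised by T with multipliers α and
α⁻¹ such that 𝔾_a ×_S T ×_S 𝔾_a ⟶ G, (y, t, x) ↦ p₋(y) i(t) p₊(x), is an open immersion (a rank-one
system: G has semisimple rank 1 and p₊, p₋ trivialise the root groups of α and -α). Then on no
geometric fibre of S do the images of p₊ and p₋ commute: for every s there are points x, y of 𝔾_a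
with values in some scheme over the geometric point at s such that p₊(x) p₋(y) ≠ p₋(y) p₊(x). -/
theorem result (S : Scheme.{u}) (G T : Over S) [GrpObj G] [GrpObj T] (i : T ⟶ G) [IsMonHom i] [Mono i] (hG : Red.IsReductive G) (hTm : Red.IsMaximalTorus i)
    (α : T ⟶ Red.Gm S) [IsMonHom α] (hα : ∀ s : S, (Over.pullback (Red.geomPt s)).map α ≠ 1)
    (pp pm : Red.Ga S ⟶ G) [IsMonHom pp] [Mono pp] [IsMonHom pm] [Mono pm]
    (hpp : ∀ (X : Over S) (t : X ⟶ T) (x : X ⟶ Red.Ga S), ∃ x' : X ⟶ Red.Ga S,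
      x' ≫ pp = (t ≫ i) * (x ≫ pp) * (t ≫ i)⁻¹ ∧ Red.gaFn x' = Red.gmFn (t ≫ α) * Red.gaFn x)
    (hpm : ∀ (X : Over S) (t : X ⟶ T) (y : X ⟶ Red.Ga S), ∃ y' : X ⟶ Red.Ga S,
      y' ≫ pm = (t ≫ i) * (y ≫ pm) * (t ≫ i)⁻¹ ∧ Red.gaFn y' * Red.gmFn (t ≫ α) = Red.gaFn y)
    (hΩ : IsOpenImmersion (((pm ⊗ₘ i) ⊗ₘ pp) ≫ (μ[G] ▷ G) ≫ μ[G]).left) (s : S) :
    ∃ (X : Over (Spec (CommRingCat.of (AlgebraicClosure (S.residueField s)))))
      (x y : X ⟶ Red.bc (Red.geomPt s) (Red.Ga S)),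
      (x ≫ (Over.pullback (Red.geomPt s)).map pp) * (y ≫ (Over.pullback (Red.geomPt s)).map pm) ≠
        (y ≫ (Over.pullback (Red.geomPt s)).map pm) * (x ≫ (Over.pullback (Red.geomPt s)).map pp) := by
  by_contra hno
  push Not at hno
  let k := AlgebraicClosure (S.residueField s)
  set j := Red.geomPt s
  haveI : IsOpenImmersion (RedR1.cellMap i pp pm).left := hΩ
  have hc : ∀ (X : Over (Spec (CommRingCat.of k))) (x y : (Over.map j).obj X ⟶ Red.Ga S),
      (x ≫ pp) * (y ≫ pm) = (y ≫ pm) * (x ≫ pp) := fun X x y => by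
    apply ((Over.mapPullbackAdj j).homEquiv X G).injective
    change MTBridge.toBC j _ = MTBridge.toBC j _
    rw [MTBridge.toBC_mul, MTBridge.toBC_mul, MTBridge.toBC_comp, MTBridge.toBC_comp]
    exact hno X _ _
  have hcell : ∀ (X : Over (Spec (CommRingCat.of k))) (g : (Over.map j).obj X ⟶ G), RedR1.InCell i pp pm g := by
    intro X g
    obtain ⟨X', f, c, hf, hs, -, hc', hd⟩ := RedR1.exists_translate (i := i) (pp := pp) (pm := pm) hG ![g]
    haveI := hs
    refine RedR1.InCell.of_comp f ?_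
    have hcomm : ∀ x y : X' ⟶ Red.Ga S, (x ≫ pp) * (y ≫ pm) = (y ≫ pm) * (x ≫ pp) := fun x y => by
      obtain ⟨ε⟩ : Nonempty ((Over.map j).obj (Over.mk (f.left ≫ X.hom)) ≅ X') :=
        ⟨Over.isoMk (Iso.refl _) (((Category.id_comp _).trans (Over.w f).symm).trans (Category.assoc _ _ _).symm)⟩
      rw [← cancel_epi ε.hom, MonObj.comp_mul, MonObj.comp_mul, ← Category.assoc, ← Category.assoc, hc]
    have e : f ≫ g = c⁻¹ * (c * (f ≫ g)) := by group
    rw [e]
    exact inCell_inv_mul hpp hpm hcomm hc' (hd 0)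
  obtain ⟨hA, hsm, -, hU⟩ := hG.2.2 s
  haveI := hA
  haveI : IsMonHom ((Over.pullback j).map pp) := inferInstance
  haveI : Mono ((Over.pullback j).map pp) := inferInstance
  let e := RedR1.gaBC S j
  haveI : IsIso e.hom.hom.hom := inferInstanceAs (IsIso ((Grp.forget _).map e.hom))
  haveI : IsIso e.hom.hom.hom.left := inferInstanceAs (IsIso ((Over.forget _).map e.hom.hom.hom))
  haveI : MorphismProperty.RespectsIso @Smooth.{u} :=
    HasRingHomProperty.eq_affineLocally (P := @Smooth.{u}) ▸ affineLocally_respectsIso (P := RingHom.Smooth) RingHom.Smooth.propertyIsLocal.respectsIso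
  have hsmU : Smooth (Red.bc j (Red.Ga S)).hom := by
    rw [← Over.w e.hom.hom.hom, MorphismProperty.cancel_left_of_respectsIso @Smooth.{u}]
    exact RedR1.smooth_ga k
  haveI : LocallyOfFiniteType (Red.bc j (Red.Ga S)).hom := inferInstance
  haveI : LocallyOfFiniteType (Red.bc j G).hom := inferInstance
  haveI : QuasiCompact ((Over.pullback j).map pp).left := by
    haveI : IsAffineHom ((Red.bc j G).hom) := isAffineHom_of_isAffine _
    haveI : IsAffineHom (((Over.pullback j).map pp).left ≫ (Red.bc j G).hom) := by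
      haveI : IsAffineHom (Red.Ga (Spec (CommRingCat.of k))).hom := by
        haveI : IsAffine Red.GaZ.{u}.left := inferInstanceAs (IsAffine (Spec _))
        haveI : IsAffineHom Red.GaZ.{u}.hom := isAffineHom_of_isAffine _
        exact inferInstanceAs (IsAffineHom (Limits.pullback.snd Red.GaZ.hom _))
      rw [Over.w, ← Over.w e.hom.hom.hom]; infer_instance
    haveI : IsAffineHom ((Over.pullback j).map pp).left := IsAffineHom.of_comp _ (Red.bc j G).hom
    infer_instance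
  haveI : IsNoetherianRing k := inferInstance
  have hcl : IsClosedImmersion ((Over.pullback j).map pp).left := GrpField.isClosedImmersion_of_mono _
  haveI hcon : ConnectedSpace ↥(Red.bc j (Red.Ga S)).left := by
    haveI := RedR1.connectedSpace_ga k
    exact Function.Surjective.connectedSpace (f := (inv e.hom.hom.hom.left))
      (inv e.hom.hom.hom.left).homeomorph.surjective (Scheme.Hom.continuous _)
  have hnorm : AlgGrp.IsNormalHom ((Over.pullback j).map pp) := by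
    intro X g n
    set g₀ := MTBridge.fromBC j g with hg₀
    set n₀ := MTBridge.fromBC j n with hn₀
    obtain ⟨y, t, x, h⟩ := hcell X g₀
    obtain ⟨n₁, h1, -⟩ := hpp _ t n₀
    refine ⟨MTBridge.toBC j n₁, ?_⟩
    rw [← MTBridge.toBC_comp, ← MTBridge.toBC_fromBC j g, ← MTBridge.toBC_fromBC j n, ← MTBridge.toBC_comp]
    have hinv : (MTBridge.toBC j g₀)⁻¹ = MTBridge.toBC j g₀⁻¹ :=
      (map_inv (MonoidHom.mk' (MTBridge.toBC j) (MTBridge.toBC_mul j) : ((Over.map j).obj X ⟶ G) →* _) g₀).symm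
    rw [← hg₀, ← hn₀, hinv, ← MTBridge.toBC_mul, ← MTBridge.toBC_mul]
    congr 1
    have hxn : (x ≫ pp) * (n₀ ≫ pp) = (n₀ ≫ pp) * (x ≫ pp) := by
      refine (MonObj.mul_comp x n₀ pp).symm.trans (Eq.trans ?_ (MonObj.mul_comp n₀ x pp))
      congr 1
      exact BGaNotS.gaPt_ext (by rw [BGaNotS.gaFn_mul, BGaNotS.gaFn_mul, add_comm])
    rw [h]
    calc (y ≫ pm) * (t ≫ i) * (x ≫ pp) * (n₀ ≫ pp) * ((y ≫ pm) * (t ≫ i) * (x ≫ pp))⁻¹
        = (y ≫ pm) * (t ≫ i) * ((x ≫ pp) * (n₀ ≫ pp)) * (x ≫ pp)⁻¹ * (t ≫ i)⁻¹ * (y ≫ pm)⁻¹ := by group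
      _ = (y ≫ pm) * ((t ≫ i) * (n₀ ≫ pp) * (t ≫ i)⁻¹) * (y ≫ pm)⁻¹ := by rw [hxn]; group
      _ = n₁ ≫ pp := by rw [← h1, ← hc]; group
  have htriv : IsIso (Red.bc j (Red.Ga S)).hom :=
    hU (Red.bc j (Red.Ga S)) ((Over.pullback j).map pp) hcl hsmU hcon hnorm (RedR1.hasNoSubtorus_bc_ga S j)
  haveI : IsIso (Red.Ga (Spec (CommRingCat.of k))).hom := by
    rw [← Over.w (CategoryTheory.inv e.hom.hom.hom)]
    haveI : IsIso (CategoryTheory.inv e.hom.hom.hom).left :=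
      inferInstanceAs (IsIso ((Over.forget _).map (CategoryTheory.inv e.hom.hom.hom)))
    infer_instance
  let Z : Over (Spec (CommRingCat.of k)) := 𝟙_ _
  have h01 : (BGaNotS.gaPt (0 : Γ(Z.left, ⊤)) : Z ⟶ _) = BGaNotS.gaPt 1 := Over.OverMorphism.ext (by
    rw [← cancel_mono (Red.Ga (Spec (CommRingCat.of k))).hom, Over.w, Over.w])
  have h := congrArg Red.gaFn h01
  rw [BGaNotS.gaFn_gaPt, BGaNotS.gaFn_gaPt] at h
  have h' := congrArg (Scheme.ΓSpecIso (CommRingCat.of k)).hom h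
  rw [map_zero, map_one] at h'
  exact zero_ne_one h'

end Groth.Agent.S8446
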