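import Groth.Statements.S8451
import Groth.Agent.RedR1.Invert

set_option autoImplicit false
universe u
open CategoryTheory MonoidalCategory CartesianMonoidalCategory MonObj GrpObj AlgebraicGeometry CategoryTheory.Limits
open Red

namespace Groth.Agent.S8451

/-- Let G be a reductive S-group, i : T ⟶ G a maximal torus, α a character of T non-trivial on every
geometric fibre, p₊, p₋ : 𝔾_a ⟶ G monomorphisms of groups normalised by T with multipliers α and α⁻¹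
whose cell map (y, t, x) ↦ p₋(y) i(t) p₊(x) is an open immersion 𝔾_a ×_S T ×_S 𝔾_a ⟶ G, and α^* :
𝔾_m ⟶ T the coroot: α ∘ α^* is the squaring map and p₊(x) p₋(y) = p₋(y/(1+xy)) · i(α^*(1+xy)) ·
p₊(x/(1+xy)) whenever 1 + xy is invertible (so p₊ and p₋ are dual to each other). Let e₁, em be the
S-points of 𝔾_a with coordinates 1 and -1, u = p₊(e₁) and w₀ = p₊(e₁) p₋(em) p₊(e₁). Let n be a
non-zero integer. If an S-point w of G satisfies w · i(α^*(z))^n · w⁻¹ = i(α^*(z))^{-n} for all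
points z of 𝔾_m (after base change) and w u w⁻¹ = u⁻¹ w u⁻¹, then w = w₀. (The published statement
has the condition (w u)³ = e in place of w u w⁻¹ = u⁻¹ w u⁻¹, and also asserts that w₀ has both
properties. The cube condition does not determine w when the centre of G contains a non-trivial cube
root of unity: for G = GL₂ over a field containing a primitive cube root of unity ζ, the point ζ·w₀
inverts the coroot and satisfies (ζ w₀ u)³ = e. The published proof uses the conjugation identity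
stated here, which is equivalent to (w u)³ = e once w² = i(α^*(-1)).) -/
theorem result (S : Scheme.{u}) (G T : Over S) [GrpObj G] [GrpObj T] (i : T ⟶ G) [IsMonHom i] [Mono i] (hG : Red.IsReductive G) (hTm : Red.IsMaximalTorus i)
    (α : T ⟶ Red.Gm S) [IsMonHom α] (hα : ∀ s : S, (Over.pullback (Red.geomPt s)).map α ≠ 1)
    (pp pm : Red.Ga S ⟶ G) [IsMonHom pp] [Mono pp] [IsMonHom pm] [Mono pm]
    (hpp : ∀ (X : Over S) (t : X ⟶ T) (x : X ⟶ Red.Ga S), ∃ x' : X ⟶ Red.Ga S,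
      x' ≫ pp = (t ≫ i) * (x ≫ pp) * (t ≫ i)⁻¹ ∧ Red.gaFn x' = Red.gmFn (t ≫ α) * Red.gaFn x)
    (hpm : ∀ (X : Over S) (t : X ⟶ T) (y : X ⟶ Red.Ga S), ∃ y' : X ⟶ Red.Ga S,
      y' ≫ pm = (t ≫ i) * (y ≫ pm) * (t ≫ i)⁻¹ ∧ Red.gaFn y' * Red.gmFn (t ≫ α) = Red.gaFn y)
    (hΩ : IsOpenImmersion (((pm ⊗ₘ i) ⊗ₘ pp) ≫ (μ[G] ▷ G) ≫ μ[G]).left)
    (av : Red.Gm S ⟶ T) [IsMonHom av] (h2 : av ≫ α = (𝟙 (Red.Gm S)) ^ 2)
    (hF : ∀ (X : Over S) (x y : X ⟶ Red.Ga S), IsUnit (1 + Red.gaFn x * Red.gaFn y) →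
      ∃ (x' y' : X ⟶ Red.Ga S) (z : X ⟶ Red.Gm S), Red.gmFn z = 1 + Red.gaFn x * Red.gaFn y ∧
        Red.gaFn x' * Red.gmFn z = Red.gaFn x ∧ Red.gaFn y' * Red.gmFn z = Red.gaFn y ∧
        (x ≫ pp) * (y ≫ pm) = (y' ≫ pm) * (z ≫ av ≫ i) * (x' ≫ pp))
    (e₁ em : 𝟙_ (Over S) ⟶ Red.Ga S) (he₁ : Red.gaFn e₁ = 1) (hem : Red.gaFn em = -1)
    (n : ℤ) (hn : n ≠ 0) (w : 𝟙_ (Over S) ⟶ G)
    (hw : ∀ (X : Over S) (z : X ⟶ Red.Gm S),
      (toUnit X ≫ w) * (((z ≫ av) ^ n) ≫ i) * (toUnit X ≫ w)⁻¹ = ((((z ≫ av) ^ n) ≫ i))⁻¹)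
    (hconj : w * (e₁ ≫ pp) * w⁻¹ = (e₁ ≫ pp)⁻¹ * w * (e₁ ≫ pp)⁻¹) :
    w = (e₁ ≫ pp) * (em ≫ pm) * (e₁ ≫ pp) := by
  haveI : IsOpenImmersion (RedR1.cellMap i pp pm).left := hΩ
  have s : RedR1.Sys i α pp pm av := ⟨‹_›, ‹_›, ‹_›, ‹_›, ‹_›, h2, hpp, hpm, hF⟩
  have hT : Red.IsTorus T := hTm.2.2.1
  set C := s.calc' (𝟙_ (Over S))
  have hw' : ∀ (X' : Over S) (f : X' ⟶ 𝟙_ (Over S)) (v : (Γ(X'.left, ⊤))ˣ),
      (f ≫ w) * (s.calc' X').H (v ^ n) * (f ≫ w)⁻¹ = ((s.calc' X').H (v ^ n))⁻¹ := fun X' f v => by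
    have h1 := hw X' (GmPts.ptOfUnit v)
    rw [s.zpow_eq_H, GmPts.unitOfPt_ptOfUnit, toUnit_unique (toUnit X') f] at h1
    exact h1
  have hem' : Red.gaFn em = -(↑((1 : (Γ((𝟙_ (Over S)).left, ⊤))ˣ))⁻¹ : Γ((𝟙_ (Over S)).left, ⊤)) := by
    rw [hem, inv_one, Units.val_one]
  rw [s.calc'_w e₁ em 1 (by rw [he₁, Units.val_one]) hem']
  obtain ⟨t, ht⟩ := s.eq_torus_mul_w hG hT hα hn w hw' 1
  rw [ht] at hconj ⊢
  rw [s.calc'_P e₁ he₁] at hconj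
  set a := RedR1.Sys.rt α t
  set A : Γ((𝟙_ (Over S)).left, ⊤) := (a : Γ((𝟙_ (Over S)).left, ⊤))
  set Ai : Γ((𝟙_ (Over S)).left, ⊤) := (↑a⁻¹ : Γ((𝟙_ (Over S)).left, ⊤))
  have hw1 := s.w_conj_P (𝟙_ (Over S)) 1
  have hM : ∀ b, (t ≫ i) * C.M b * (t ≫ i)⁻¹ = C.M (Ai * b) := fun b => s.conj_M t b
  have hP : ∀ b, (t ≫ i) * C.P b * (t ≫ i)⁻¹ = C.P (A * b) := fun b => s.conj_P t b
  have hl : (t ≫ i) * C.w 1 * C.P 1 * ((t ≫ i) * C.w 1)⁻¹ = C.M (-Ai) := by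
    calc (t ≫ i) * C.w 1 * C.P 1 * ((t ≫ i) * C.w 1)⁻¹ = (t ≫ i) * (C.w 1 * C.P 1 * (C.w 1)⁻¹) * (t ≫ i)⁻¹ := by group
      _ = _ := by rw [hw1, hM]; congr 1; rw [inv_one, Units.val_one]; ring
  have hr : (C.P 1)⁻¹ * ((t ≫ i) * C.w 1) * (C.P 1)⁻¹ = C.P (A - 1) * C.M (-Ai) * (t ≫ i) := by
    calc (C.P 1)⁻¹ * ((t ≫ i) * C.w 1) * (C.P 1)⁻¹
        = (C.P 1)⁻¹ * ((t ≫ i) * C.P 1 * (t ≫ i)⁻¹) * ((t ≫ i) * C.M (-1) * (t ≫ i)⁻¹) * (t ≫ i) := by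
          simp only [RedR1.Calc.w, inv_one, Units.val_one]; group
      _ = _ := by
          rw [hP, hM, _root_.mul_one, mul_neg, _root_.mul_one, sub_eq_add_neg, add_comm A, C.P_add, C.P_neg]
  rw [hl, hr] at hconj
  -- `M(1/a) P(1-a) M(-1/a) = t`
  have h3 : C.M Ai * C.P (1 - A) * C.M (-Ai) = t ≫ i := by
    rw [show (1 - A) = -(A - 1) by ring, C.P_neg]
    conv_lhs => rw [hconj]
    rw [C.M_neg]
    group
  have h4 : C.P (1 - A) = C.M (-Ai) * ((t ≫ i) * C.M Ai) := by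
    rw [← h3, C.M_neg]; group
  have h5 : (t ≫ i) * C.M Ai = C.M (Ai * Ai) * (t ≫ i) := by rw [← hM]; group
  rw [h5, ← _root_.mul_assoc, ← C.M_add] at h4
  have h6 := RedR1.cell_inj (i := i) (pp := pp) (pm := pm) (y := (1 : 𝟙_ (Over S) ⟶ Red.Ga S)) (t := 1)
    (x := BGaNotS.gaPt (1 - A)) (y' := BGaNotS.gaPt (-Ai + Ai * Ai)) (t' := t) (x' := 1)
    (by rw [MonObj.one_comp, MonObj.one_comp, MonObj.one_comp, _root_.one_mul, _root_.one_mul, _root_.mul_one]; exact h4)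
  rw [← h6.2.1, MonObj.one_comp, _root_.one_mul]

end Groth.Agent.S8451
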