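import Groth.Statements.S3037
import Groth.Agent.GrpField.Kernel

set_option autoImplicit false
universe u
open CategoryTheory MonoidalCategory CartesianMonoidalCategory MonObj GrpObj AlgebraicGeometry TensorProduct
open SGA3

namespace Groth.Agent.S3037

open Groth.Agent.GrpField Limits

/-- (iii) ⟺ (v): let A be a local artinian ring and u : G → H a quasi-compact homomorphism between group
schemes locally of finite type over A. Then u is finite if and only if the kernel of u (the fibre of
u over the unit section) is a discrete space. -/
theorem result (A : Type u) [CommRing A] [IsArtinianRing A] [IsLocalRing A]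
    (G H : Over (Spec (CommRingCat.of A))) [GrpObj G] [GrpObj H] [LocallyOfFiniteType G.hom] [LocallyOfFiniteType H.hom]
    (u : G ⟶ H) [IsMonHom u] [QuasiCompact u.left] :
    IsFinite u.left ↔ DiscreteTopology ↥(Limits.pullback u.left (η[H] : 𝟙_ (Over (Spec (CommRingCat.of A))) ⟶ H).left) := by
  haveI := subsingleton_spec_local_artin A
  haveI : Nonempty (Spec (CommRingCat.of A)) := inferInstanceAs (Nonempty (PrimeSpectrum A))
  set κ := (η[H] : 𝟙_ (Over (Spec (CommRingCat.of A))) ⟶ H).left
  constructor
  · intro h
    haveI : IsFinite (pullback.snd u.left κ) := MorphismProperty.pullback_snd _ _ h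
    haveI : Subsingleton ↥(𝟙_ (Over (Spec (CommRingCat.of A)))).left := subsingleton_spec_local_artin A
    have := (pullback.snd u.left κ).isDiscrete_preimage (s := Set.univ) (Set.subsingleton_univ.isDiscrete)
    rw [Set.preimage_univ] at this
    exact isDiscrete_univ_iff.1 this
  · intro h
    haveI : CompactSpace (𝟙_ (Over (Spec (CommRingCat.of A)))).left :=
      inferInstanceAs (CompactSpace (Spec (CommRingCat.of A)))
    haveI : CompactSpace ↥(pullback u.left κ) := QuasiCompact.compactSpace_of_compactSpace (pullback.snd u.left κ)
    haveI : Finite ↥(pullback u.left κ) := finite_of_compact_of_discrete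
    haveI : LocallyOfFiniteType (u.left ≫ H.hom) := by rw [Over.w u]; infer_instance
    haveI : LocallyOfFiniteType u.left := locallyOfFiniteType_of_comp _ H.hom
    haveI hK : LocallyQuasiFinite (pullback.snd u.left κ) :=
      .of_finite_preimage_singleton _ fun _ => Set.toFinite _
    haveI : IsLocallyArtinian (𝟙_ (Over (Spec (CommRingCat.of A)))).left :=
      inferInstanceAs (IsLocallyArtinian (Spec (CommRingCat.of A)))
    haveI : IsFinite (pullback.snd u.left κ) := IsFinite.of_locallyQuasiFinite _
    haveI := isProper_of_kernel u
    haveI := LocallyQuasiFinite.of_finite_preimage_singleton u.left (finite_preimage_singleton u hK)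
    exact IsFinite.of_isProper_of_locallyQuasiFinite _

end Groth.Agent.S3037
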