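import Groth.Statements.S5480
import Groth.Agent.RootSys.PMor
import Groth.Agent.S5452

set_option autoImplicit false
open RootD

namespace Groth.Agent.S5480

open Groth.Agent.RootSys

/-- For a p-morphism of reduced root data with root bijection u and radicial exponents q: (a) for all
roots α, β one has q(s_α(β)) = q(β) and u(s_α(β)) = s_{u(α)}(u(β)); (b) the exponents are invariant
under the Weyl group, q(w(α)) = q(α); (c) there is an isomorphism ū from the Weyl group of the first
datum to that of the second with ū(s_α) = s_{u(α)} and u(w(α)) = ū(w)(u(α)) for every Weyl group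
element w and every root α. -/
theorem result {ι M N ι' M' N' : Type*} [AddCommGroup M] [AddCommGroup N] [AddCommGroup M'] [AddCommGroup N']
    (P : RootPairing ι ℤ M N) (P' : RootPairing ι' ℤ M' N') [Finite ι] [Finite ι'] [P.IsReduced] [P'.IsReduced]
    (p : ℕ) (hp : 0 < p) (f : M' →ₗ[ℤ] M) (g : N →ₗ[ℤ] N')
    (hfg : ∀ (m' : M') (n : N), P.toLinearMap (f m') n = P'.toLinearMap m' (g n))
    (u : ι ≃ ι') (q : ι → ℕ) (hq : ∀ i, ∃ e : ℕ, q i = p ^ e)
    (hroot : ∀ i : ι, f (P'.root (u i)) = (q i : ℤ) • P.root i)
    (hcoroot : ∀ i : ι, g (P.coroot i) = (q i : ℤ) • P'.coroot (u i)) :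
    (∀ i j : ι, q (P.reflectionPerm i j) = q j ∧ u (P.reflectionPerm i j) = P'.reflectionPerm (u i) (u j)) ∧
      (∀ w ∈ P.weylGroup, ∀ i : ι, q (w • i) = q i) ∧
      ∃ ubar : P.weylGroup ≃* P'.weylGroup,
        (∀ i : ι, ubar (RootPairing.weylGroup.ofIdx P i) = RootPairing.weylGroup.ofIdx P' (u i)) ∧
        ∀ (w : P.weylGroup) (i : ι), u ((w : P.Aut) • i) = ((ubar w : P'.weylGroup) : P'.Aut) • u i := by
  classical
  have hpos : ∀ i, 0 < q i := fun i => by obtain ⟨e, he⟩ := hq i; rw [he]; exact pow_pos hp e
  have h : PData P P' f g u q := ⟨hfg, hpos, hroot, hcoroot⟩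
  refine ⟨h.reflection_compat, fun w hw => ?_, ?_⟩
  · induction hw using RootPairing.weylGroup.induction with
    | mem i => exact fun j => (h.reflection_compat i j).1
    | one => exact fun j => by rw [one_smul]
    | mul x y hx hy ihx ihy => exact fun j => by rw [mul_smul, ihx, ihy]
  · let ψ : P.weylGroup →* Equiv.Perm ι' := (u.permCongrHom.toMonoidHom).comp P.weylGroupToPerm
    have hψ : Function.Injective ψ := u.permCongrHom.injective.comp (Groth.Agent.S5452.result P)
    have hgen : u.permCongrHom '' Set.range P.reflectionPerm = Set.range P'.reflectionPerm := by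
      rw [← Set.range_comp, ← u.surjective.range_comp P'.reflectionPerm]
      refine congrArg Set.range (funext fun i => Equiv.ext fun b => ?_)
      obtain ⟨j, rfl⟩ := u.surjective b
      show u (P.reflectionPerm i (u.symm (u j))) = P'.reflectionPerm (u i) (u j)
      rw [Equiv.symm_apply_apply, (h.reflection_compat i j).2]
    have hrange : ψ.range = P'.weylGroupToPerm.range := by
      rw [MonoidHom.range_comp, P.range_weylGroupToPerm, P'.range_weylGroupToPerm, MonoidHom.map_closure]
      exact congrArg Subgroup.closure hgen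
    let e' := MonoidHom.ofInjective (Groth.Agent.S5452.result P')
    let ubar : P.weylGroup ≃* P'.weylGroup :=
      (MonoidHom.ofInjective hψ).trans ((MulEquiv.subgroupCongr hrange).trans e'.symm)
    have key : ∀ w, P'.weylGroupToPerm (ubar w) = ψ w := fun w => by
      have e1 : ((e' (ubar w) : P'.weylGroupToPerm.range) : Equiv.Perm ι') = ψ w := by
        simp [ubar, MonoidHom.ofInjective_apply]
      exact e1
    have hact : ∀ (w : P.weylGroup) (i : ι), u ((w : P.Aut) • i) = ((ubar w : P'.weylGroup) : P'.Aut) • u i := by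
      intro w i
      have := congrArg (fun σ : Equiv.Perm ι' => σ (u i)) (key w)
      refine Eq.trans ?_ this.symm
      show _ = u (P.weylGroupToPerm w (u.symm (u i)))
      rw [Equiv.symm_apply_apply]
      rfl
    refine ⟨ubar, fun i => Groth.Agent.S5452.result P' ?_, hact⟩
    rw [key]
    refine Equiv.ext fun b => ?_
    obtain ⟨j, rfl⟩ := u.surjective b
    show u (P.reflectionPerm i (u.symm (u j))) = P'.reflectionPerm (u i) (u j)
    rw [Equiv.symm_apply_apply, (h.reflection_compat i j).2]

end Groth.Agent.S5480
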