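import Groth.Statements.S3952
import Groth.Agent.RootBase.Borel
-- import your own Groth.Agent.* helpers here

set_option autoImplicit false
open CategoryTheory MonoidalCategory CartesianMonoidalCategory MonObj GrpObj AlgebraicGeometry
universe u
open RedSub

set_option backward.isDefEq.respectTransparency false

namespace Groth.Agent.S3952

/-- Let G be a split reductive S-group (splitting D), b a system of simple roots and e an enumeration of
the positive roots in any order. Then the morphism T x_S G_a^{R_+} ⟶ G, (t, x) ↦ i(t) u_{e 0}(x_0) ⋯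
u_{e (m-1)}(x_{m-1}), is a closed immersion, and its image is a Borel subgroup of G: there are a
Borel subgroup B ⟶ G (closed, smooth, with Borel geometric fibres) and an isomorphism of T x_S
G_a^{R_+} with B over G. -/
theorem result {S : Scheme.{u}} {G : Over S} [GrpObj G] (D : Red.SplitRed G)
    (b : D.P.Base) {m : ℕ} (epos : Fin m → D.idx) (hpos : RedSub.Enumerates (RedSub.posRoots D.P b) epos) :
    IsClosedImmersion (RedSub.borelMap D epos).left ∧
      ∃ (B : Over S) (_ : GrpObj B) (i : B ⟶ G) (e : D.T ⊗ RedSub.pow (Red.Ga S) m ≅ B),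
        Red.IsBorel i ∧ e.hom ≫ i = RedSub.borelMap D epos := by
  letI := D.grpT
  letI := D.acgM
  letI := D.fintypeIdx
  letI := D.finiteM
  letI := D.freeM
  obtain ⟨mu, hp, hn, hmu⟩ := RootBase.exists_pos_hom D.P b
  have hpe : {a | 0 < mu (D.P.root a)} = RedSub.posRoots D.P b := Set.ext hp
  have F := RootBase.frame_of_splitRed D
  haveI := F.hG.1
  haveI := F.hc.1
  let ψ : D.T ≅ Red.DS S D.M := RootBase.isoOf D.split
  have hψ : ψ.hom ≫ D.split.inv.hom.hom ≫ D.i = D.i := ψ.hom_inv_id_assoc D.i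
  obtain ⟨P, hPg, p, hP⟩ := DynPar.exists_isP (G := G) (Red.DSmap S mu ≫ D.split.inv.hom.hom ≫ D.i)
  obtain ⟨φ, hφ⟩ := F.exists_iso_isP mu hmu epos (hpe ▸ hpos) hP
  let e : D.T ⊗ RedSub.pow (Red.Ga S) m ≅ P :=
    tensorIso ψ (Iso.refl (RedSub.pow (Red.Ga S) m)) ≪≫ φ
  have he : e.hom ≫ p = RedSub.borelMap D epos := by
    show ((ψ.hom ⊗ₘ 𝟙 _) ≫ φ.hom) ≫ p = _
    rw [Category.assoc, hφ, RootBase.borelC, RedSub.borelMap, MonObj.comp_mul]
    simp only [tensorHom_fst_assoc, tensorHom_snd_assoc, Category.id_comp, hψ]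
  refine ⟨?_, P, hPg, p, e, F.isBorel mu hmu hP, he⟩
  haveI := hP.2.1
  haveI : IsIso e.hom.left := inferInstanceAs (IsIso ((Over.forget S).map e.hom))
  rw [← he, Over.comp_left]
  infer_instance

end Groth.Agent.S3952
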