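import Groth.Statements.S0351
import Groth.Agent.GrpField.Translate

set_option autoImplicit false
universe u v
open CategoryTheory MonoidalCategory CartesianMonoidalCategory MonObj GrpObj AlgebraicGeometry
open GrpSch

namespace Groth.Agent.S0351

open Groth.Agent.GrpField

/-- A homomorphism of group schemes over a field which is an immersion is a closed immersion. -/
theorem result (K : Type u) [Field K] (H G : Over (Spec (CommRingCat.of K))) [GrpObj H] [GrpObj G] (i : H ⟶ G) [IsMonHom i] [IsImmersion i.left] : IsClosedImmersion i.left := by
  haveI : Nonempty (Spec (CommRingCat.of K)) := inferInstanceAs (Nonempty (PrimeSpectrum K))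
  have h := (isSubgroupSet_range i).isClosed_of_isLocallyClosed i.left.isLocallyClosed_range
  exact IsClosedImmersion.of_isPreimmersion i.left h

end Groth.Agent.S0351
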