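import Groth.Statements.S8472
import Groth.Agent.RootBase.ChevSys
-- import your own Groth.Agent.* helpers here

set_option autoImplicit false
universe u
open CategoryTheory MonoidalCategory CartesianMonoidalCategory MonObj GrpObj AlgebraicGeometry CategoryTheory.Limits
open Red

set_option backward.isDefEq.respectTransparency false

namespace Groth.Agent.S8472

/-- Existence of a Chevalley system extending a pinning: at the level of root groups. Let G be a pinned
reductive S-group: a splitting D (maximal torus T ≅ D_S(M), root datum with root homomorphisms u_c :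
𝔾_a ⟶ G for all roots c, system of simple roots Δ) such that for every simple root a the root
homomorphisms of a and -a are dual to each other: u_a(x) u_{-a}(y) = u_{-a}(y/(1+xy)) · a^∨(1+xy) ·
u_a(x/(1+xy)) whenever 1 + xy is invertible, where a^∨ : 𝔾_m ⟶ T is the coroot of a read through the
splitting. For a root a put w_a = u_a(1) u_{-a}(-1) u_a(1) (an S-point of G). Then the pinning
extends to a Chevalley system: there is a family (v_c)_{c} of root homomorphisms v_c : 𝔾_a ⟶ G, one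
for each root c, normalised by T through the character of c, with v_a = u_a for every simple root a,
such that every v_c admits a dual root homomorphism v_c⁻ (v_c(x) v_c⁻(y) = v_c⁻(y/(1+xy)) c^∨(1+xy)
v_c(x/(1+xy)) for 1 + xy invertible) for which, writing n_c = v_c(1) v_c⁻(1)⁻¹ v_c(1), one has for
every root b a sign ε ∈ {1, -1} with n_c v_b(x) n_c⁻¹ = v_{s_c(b)}(ε x) for all points x of 𝔾_a. -/
theorem result (S : Scheme.{u}) (e₁ : 𝟙_ (Over S) ⟶ Red.Ga S) (he₁ : Red.gaFn e₁ = 1)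
    (G : Over S) [GrpObj G] (D : Red.Pinning G)
    (avc : D.idx → (Red.Gm S ⟶ D.T))
    (havc : ∀ a, avc a = Red.DSmap S (D.P.coroot a).toAddMonoidHom ≫ D.split.inv.hom.hom)
    (hpair : ∀ a ∈ D.base.support, ∀ (X : Over S) (x y : X ⟶ Red.Ga S), IsUnit (1 + Red.gaFn x * Red.gaFn y) →
        ∃ (x' y' : X ⟶ Red.Ga S) (z : X ⟶ Red.Gm S), Red.gmFn z = 1 + Red.gaFn x * Red.gaFn y ∧
          Red.gaFn x' * Red.gmFn z = Red.gaFn x ∧ Red.gaFn y' * Red.gmFn z = Red.gaFn y ∧
          (x ≫ D.u a) * (y ≫ D.u (D.P.reflectionPerm a a)) = (y' ≫ D.u (D.P.reflectionPerm a a)) * (z ≫ avc a ≫ D.i) * (x' ≫ D.u a)) :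
    ∃ v : D.idx → (Red.Ga S ⟶ G),
      (∀ c, Red.IsRootHom D.i (D.split.hom.hom.hom ≫ Red.chi S (D.P.root c)) (v c)) ∧
      (∀ a ∈ D.base.support, v a = D.u a) ∧
      ∀ c, ∃ vd : Red.Ga S ⟶ G, IsMonHom vd ∧
        (∀ (X : Over S) (x y : X ⟶ Red.Ga S), IsUnit (1 + Red.gaFn x * Red.gaFn y) →
        ∃ (x' y' : X ⟶ Red.Ga S) (z : X ⟶ Red.Gm S), Red.gmFn z = 1 + Red.gaFn x * Red.gaFn y ∧
          Red.gaFn x' * Red.gmFn z = Red.gaFn x ∧ Red.gaFn y' * Red.gmFn z = Red.gaFn y ∧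
          (x ≫ v c) * (y ≫ vd) = (y' ≫ vd) * (z ≫ avc c ≫ D.i) * (x' ≫ v c)) ∧
        ∀ b, ∃ ε : ℤ, (ε = 1 ∨ ε = -1) ∧ ∀ (X : Over S) (x y : X ⟶ Red.Ga S), Red.gaFn y = (ε : Γ(X.left, ⊤)) * Red.gaFn x →
          (toUnit X ≫ ((e₁ ≫ v c) * (e₁ ≫ vd)⁻¹ * (e₁ ≫ v c))) * (x ≫ v b) *
              (toUnit X ≫ ((e₁ ≫ v c) * (e₁ ≫ vd)⁻¹ * (e₁ ≫ v c)))⁻¹ = y ≫ v (D.P.reflectionPerm c b) := by
  letI := D.grpT
  letI := D.acgM
  letI := D.fintypeIdx
  letI := D.finiteM
  letI := D.freeM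
  rcases isEmpty_or_nonempty S with hS | hS
  · refine ⟨D.u, fun c => D.rootHom c, fun a _ => rfl, fun c =>
      ⟨D.u c, (D.rootHom c).1, fun X x y _ => ?_, fun b => ⟨1, Or.inl rfl, fun X x y _ => ?_⟩⟩⟩
    · haveI : IsEmpty X.left := Function.isEmpty X.hom
      exact ⟨x, y, 1, @Subsingleton.elim _ (RootBase.subsingleton_gamma X) _ _,
        @Subsingleton.elim _ (RootBase.subsingleton_gamma X) _ _,
        @Subsingleton.elim _ (RootBase.subsingleton_gamma X) _ _,
        Over.OverMorphism.ext (isInitialOfIsEmpty.hom_ext _ _)⟩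
    · haveI : IsEmpty X.left := Function.isEmpty X.hom
      exact Over.OverMorphism.ext (isInitialOfIsEmpty.hom_ext _ _)
  haveI := RootBase.isReduced_of_splitRed D.toSplitRed
  let w : D.idx → (𝟙_ (Over S) ⟶ G) := fun a =>
    (e₁ ≫ D.u a) * (e₁ ≫ D.u (D.P.reflectionPerm a a))⁻¹ * (e₁ ≫ D.u a)
  have H := RootBase.pinned_weylSys D e₁ he₁ avc havc hpair w fun _ => rfl
  choose l a hl ha hr hsimp using RootBase.exists_word_conj D.base
  let v : D.idx → (Red.Ga S ⟶ G) := fun r => RootBase.cj ((l r).map w).prod (D.u (a r))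
  have hinv : D.split.hom.hom.hom ≫ D.split.inv.hom.hom = 𝟙 _ := congrArg (fun z => z.hom.hom) D.split.hom_inv_id
  refine ⟨v, fun r => ?_, fun r hr' => ?_, fun r => ⟨RootBase.cj ((l r).map w).prod (D.u (D.P.reflectionPerm (a r) (a r))),
    (H.rootHom_word (H.frame.hu _) (l r) (hl r)).1, fun X x y hxy => ?_, fun b => ?_⟩⟩
  · obtain ⟨h1, h2, h3⟩ := H.rootHom_word (H.frame.hu (a r)) (l r) (hl r)
    rw [hr r] at h3
    refine ⟨h1, h2, fun X t x => ?_⟩
    obtain ⟨y, hy, hy'⟩ := h3 X (t ≫ D.split.hom.hom.hom) x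
    rw [Category.assoc, reassoc_of% hinv] at hy
    rw [Category.assoc] at hy'
    exact ⟨y, hy, hy'⟩
  · obtain ⟨h1, h2⟩ := hsimp r hr'
    simp only [v, h1, h2, List.map_nil, List.prod_nil, RootBase.one_cj]
  · obtain ⟨x', y', z, e1, e2, e3, e4⟩ := hpair (a r) (ha r) X x y hxy
    refine ⟨x', y', z, e1, e2, e3, ?_⟩
    simp only [v, RootBase.comp_cj, ← RootBase.cj_mul, e4]
    rw [RootBase.cj_mul, RootBase.cj_mul, havc, havc]
    congr 2
    have h := H.cj_coroot_word (a r) z (l r) (hl r)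
    rw [hr r] at h
    simpa only [Category.assoc] using h
  · obtain ⟨t, ⟨k, hk, rfl⟩, hm⟩ := H.smove_conj (hl r) (hl b) (hl (D.P.reflectionPerm r b)) (ha r) (ha b)
      (ha (D.P.reflectionPerm r b)) (by rw [hr, hr, hr])
    refine ⟨k, hk, fun X x y hy => ?_⟩
    have hn : (e₁ ≫ v r) * (e₁ ≫ RootBase.cj ((l r).map w).prod (D.u (D.P.reflectionPerm (a r) (a r))))⁻¹ * (e₁ ≫ v r) =
        ((l r).map w).prod * w (a r) * (((l r).map w).prod)⁻¹ := by
      simp only [v, RootBase.comp_cj, ← RootBase.cj_inv, ← RootBase.cj_mul]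
      exact RootBase.cj_unit _ _
    rw [hn]
    refine (hm X x).trans ?_
    congr 1
    exact BGaNotS.gaPt_ext (by rw [RootBase.gaFn_scl, map_intCast, hy])

end Groth.Agent.S8472
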