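import Groth.Statements.S0287
import Groth.Agent.CodimOneExt.Glue

set_option autoImplicit false
universe u
open Pi1

namespace Groth.Agent.S0287

open AlgebraicGeometry CategoryTheory CategoryTheory.Limits in
/-- Let X be locally Noetherian, U a dense open, Y a finite etale cover of U such that the local rings
of X at points outside U are regular and, at each such point of dimension one, the restriction of Y
to the punctured local scheme extends over the local scheme (Y is unramified over X in codimension
1). Then Y extends to a finite etale cover of X. -/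
theorem result {X : Scheme.{u}} [IsLocallyNoetherian X] (U : X.Opens) (hU : Dense (U : Set X))
    (Y : FEt.Cat (U : Scheme.{u}))
    (hreg : ∀ x : X, x ∉ U → IsRegularLocalRing (X.presheaf.stalk x))
    (hunr : ∀ ξ : X, ξ ∉ U → ringKrullDim (X.presheaf.stalk ξ) = 1 →
      ∃ Yξ : FEt.Cat (Spec (X.presheaf.stalk ξ)),
        Nonempty ((FEt.restrict (pullback.snd U.ι (X.fromSpecStalk ξ))).obj Yξ ≅
          (FEt.restrict (pullback.fst U.ι (X.fromSpecStalk ξ))).obj Y)) :
    ∃ Y' : FEt.Cat X, Nonempty ((FEt.restrict U.ι).obj Y' ≅ Y) := by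
  obtain ⟨Z, g, q, hg, hpb⟩ := Groth.Agent.CodimOneExt.exists_extension U hU Y.hom Y.prop hreg
    fun ξ hξ hd => by
      obtain ⟨F, ⟨e⟩⟩ := hunr ξ hξ hd
      exact ⟨F, ⟨e.hom.left, e.inv.left, congrArg (·.left) e.hom_inv_id, congrArg (·.left) e.inv_hom_id⟩,
        MorphismProperty.Over.w e.hom⟩
  refine ⟨MorphismProperty.Over.mk ⊤ g hg, ⟨MorphismProperty.Over.isoMk
    ((IsPullback.of_hasPullback g U.ι).isoIsPullback _ _ hpb) ?_⟩⟩
  exact IsPullback.isoIsPullback_hom_snd _ _ _ _

end Groth.Agent.S0287
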