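import Groth.Statements.S0008
import Groth.Agent.CohQC.CechVanish

set_option autoImplicit false
universe u
open Coherent

namespace Groth.Agent.S0008

open AlgebraicGeometry in
/-- For a ring A, an A-module M and elements f_1, …, f_n generating the unit ideal, the Čech cohomology
of the associated module on Spec A with respect to the covering by the basic opens D(f_i) vanishes
in every positive degree. -/
theorem result (A : Type u) [CommRing A] (M : ModuleCat.{u} A)
    (n : ℕ) (f : ULift.{u} (Fin n) → A) (hf : Ideal.span (Set.range f) = ⊤) (p : ℕ) (hp : 0 < p) :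
    CategoryTheory.Limits.IsZero (CohB1.cechH (fun i => PrimeSpectrum.basicOpen (f i)) (tilde (R := CommRingCat.of A) M) p) := by
  obtain ⟨q, rfl⟩ := Nat.exists_eq_succ_of_ne_zero hp.ne'
  refine (Groth.Agent.SiteCoh.isZero_cech_iff _ _ q).mpr ?_
  let X := Spec (CommRingCat.of A)
  let g : ULift.{u} (Fin n) → Γ(X, ⊤) := fun i => (Scheme.ΓSpecIso (CommRingCat.of A)).inv (f i)
  have hg : Ideal.span (Set.range g) = ⊤ := by
    have := congr_arg (Ideal.map (Scheme.ΓSpecIso (CommRingCat.of A)).inv.hom) hf
    rw [Ideal.map_span, ← Set.range_comp, Ideal.map_top] at this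
    exact this
  have hV : (fun i => PrimeSpectrum.basicOpen (f i)) = fun i => X.basicOpen (g i) :=
    funext fun i => (basicOpen_eq_of_affine (R := CommRingCat.of A) (f i)).symm
  rw [hV]
  exact Groth.Agent.CohQC.cechExact_qcoh g (isAffineOpen_top X) (tilde M) hg q

end Groth.Agent.S0008
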