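import Groth.Statements.S0013
import Groth.Agent.CohQC.Relative

set_option autoImplicit false
universe u
open Coherent

namespace Groth.Agent.S0013

open AlgebraicGeometry in
/-- Let X be a scheme with an open covering all of whose nonempty finite intersections are affine. For a
quasi-coherent module M and every degree p, Čech cohomology with respect to this covering is
isomorphic to sheaf cohomology; only the existence of an isomorphism of additive groups is asserted
(the published statement gives an isomorphism of modules over the global sections). -/
theorem result (X : Scheme.{u}) {ι : Type u}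
    (U : ι → X.Opens) (hcov : ⨆ i, U i = ⊤)
    (hU : ∀ s : Finset ι, s.Nonempty → IsAffineOpen (⨅ i ∈ s, U i))
    (M : X.Modules) [Coh.IsQCoh M] (p : ℕ) :
    Nonempty (↑(CohB1.cechH U M p) ≃+ Coh.HH X M p) := by
  classical
  have hU' : ∀ (n : ℕ) (a : Fin (n + 1) → ι), IsAffineOpen (⨅ k, U (a k)) := fun n a => by
    have h := hU (Finset.univ.image a) (Finset.univ_nonempty.image a)
    rw [Finset.iInf_finset_image] at h
    simpa using h
  obtain ⟨e⟩ := Groth.Agent.CohQC.cech_equiv_affine M U hU' p
  rw [hcov] at e
  exact ⟨e.trans (Groth.Agent.SiteCoh.huTerminalEquiv _ CategoryTheory.Limits.isTerminalTop _ _).symm⟩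

end Groth.Agent.S0013
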