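import Groth.Statements.S0015
-- import your own Groth.Agent.* helpers here

set_option autoImplicit false
universe u
open Coherent

namespace Groth.Agent.S0015

open AlgebraicGeometry in
/-- Let X be quasi-compact and quasi-separated and P a property of opens of X. If P holds for affine
opens, and P(U ∪ V) follows from P(U), P(V), P(U ∩ V) whenever U is quasi-compact open and V affine
open, then P holds for every quasi-compact open, in particular for X. -/
theorem result (X : Scheme.{u}) [CompactSpace X] [QuasiSeparatedSpace X]
    (P : X.Opens → Prop) (h₁ : ∀ U : X.Opens, IsAffineOpen U → P U)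
    (h₂ : ∀ U V : X.Opens, IsCompact (U : Set X) → IsAffineOpen V → P U → P V → P (U ⊓ V) →
      P (U ⊔ V))
    (U : X.Opens) (hU : IsCompact (U : Set X)) : P U := by
  have key : ∀ (V : X.Opens) (hV : IsAffineOpen V) (n : ℕ) (s : Finset Γ(X, V)), s.card ≤ n →
      P (⨆ g ∈ s, X.basicOpen g) := by
    intro V hV n
    induction n with
    | zero =>
      intro s hs
      rw [Finset.card_eq_zero.mp (Nat.le_zero.mp hs)]
      simpa using h₁ ⊥ (isAffineOpen_bot _)
    | succ n ih =>
      intro s hs
      classical
      rcases s.eq_empty_or_nonempty with rfl | ⟨f, hf⟩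
      · exact ih _ (by simp)
      rw [← Finset.insert_erase hf, Finset.iSup_insert, sup_comm]
      have hc : (s.erase f).card ≤ n := by rw [Finset.card_erase_of_mem hf]; omega
      refine h₂ _ _ ?_ (hV.basicOpen f) (ih _ hc) (h₁ _ (hV.basicOpen f)) ?_
      · simpa only [TopologicalSpace.Opens.coe_iSup] using (s.erase f).isCompact_biUnion fun g _ => (hV.basicOpen g).isCompact
      · have : (⨆ g ∈ s.erase f, X.basicOpen g) ⊓ X.basicOpen f =
            ⨆ g ∈ (s.erase f).image (· * f), X.basicOpen g := by
          rw [Finset.iSup_finset_image, iSup₂_inf_eq]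
          simp [Scheme.basicOpen_mul]
        rw [this]
        exact ih _ ((Finset.card_image_le).trans hc)
  have inAff : ∀ (V W : X.Opens), IsAffineOpen V → IsCompact (W : Set X) → W ≤ V → P W := by
    intro V W hV hW hle
    choose g hg1 hg2 using fun x : W => hV.exists_basicOpen_le x (hle x.2)
    obtain ⟨t, ht⟩ := hW.elim_finite_subcover (fun x : W => (X.basicOpen (g x) : Set X))
      (fun x => (X.basicOpen (g x)).2) (fun x hx => Set.mem_iUnion.2 ⟨⟨x, hx⟩, hg2 ⟨x, hx⟩⟩)
    classical
    have := key V hV _ (t.image g) le_rfl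
    rw [Finset.iSup_finset_image] at this
    convert this
    refine le_antisymm (fun x hx => ?_) (iSup₂_le fun x _ => hg1 x)
    simpa using ht hx
  refine compact_open_induction_on (P := fun W => P W) U hU (h₁ ⊥ (isAffineOpen_bot _)) fun S hS V hPS => ?_
  refine h₂ _ _ hS V.2 hPS (h₁ _ V.2) (inAff V _ V.2 ?_ inf_le_right)
  rw [TopologicalSpace.Opens.coe_inf]
  exact hS.inter_of_isOpen V.2.isCompact S.2 V.1.2

end Groth.Agent.S0015
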