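import Groth.Statements.S0037
import Groth.Agent.CohFinite.RPushVanish
import Mathlib.AlgebraicGeometry.ZariskisMainTheorem

set_option autoImplicit false
universe u
open Coherent

namespace Groth.Agent.S0037

open AlgebraicGeometry CategoryTheory in
/-- Let Y be locally Noetherian, f : X → Y proper and y a point whose fibre f⁻¹{y} is finite. Then for
every coherent F on X and every p > 0 the stalk of R^p f_* F at y vanishes. -/
theorem result {X Y : Scheme.{u}} (f : X ⟶ Y) [IsProper f]
    [IsLocallyNoetherian Y] (y : Y) (hy : (f.base ⁻¹' {y}).Finite) (M : X.Modules) (hM : Coh.IsCoh M)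
    (p : ℕ) (hp : 0 < p) :
    Limits.IsZero (TopCat.Presheaf.stalk ((Coh.RpushAb f p).obj (Coh.toAb M)).obj y) := by
  obtain ⟨U, hyU, hfin⟩ := exists_isFinite_morphismRestrict_of_finite_preimage_singleton f y hy
  let F := (Coh.RpushAb f p).obj (Coh.toAb M)
  have hzero : ∀ W : Y.Opens, IsAffineOpen W → W ≤ U → Subsingleton ↑(F.obj.obj (Opposite.op W)) := fun W hW hWU => by
    obtain ⟨e⟩ := Groth.Agent.CohFinite.hu_equiv_sections f M hM.1 hW p
    have hU' : IsAffineOpen ((f ∣_ U) ⁻¹ᵁ (U.ι ⁻¹ᵁ W)) :=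
      IsAffineHom.isAffine_preimage _ (by
        rw [← U.ι.isAffineOpen_iff_of_isOpenImmersion, Scheme.Hom.image_preimage_eq_opensRange_inf,
          Scheme.Opens.opensRange_ι, inf_eq_right.mpr hWU]
        exact hW)
    have haff : IsAffineOpen (f ⁻¹ᵁ W) := by
      have h := (f ⁻¹ᵁ U).ι.isAffineOpen_iff_of_isOpenImmersion.mpr hU'
      rwa [image_morphismRestrict_preimage, Scheme.Hom.image_preimage_eq_opensRange_inf,
        Scheme.Opens.opensRange_ι, inf_eq_right.mpr hWU] at h
    have : M.IsQuasicoherent := hM.1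
    obtain ⟨q, rfl⟩ : ∃ q, p = q + 1 := ⟨p - 1, by omega⟩
    have := Groth.Agent.CohQC.hu_vanish_of_isAffineOpen M haff q
    exact e.toEquiv.symm.subsingleton
  refine @AddCommGrpCat.isZero_of_subsingleton _ (subsingleton_of_forall_eq 0 fun t => ?_)
  obtain ⟨O, hyO, s, rfl⟩ := TopCat.Presheaf.exists_germ_eq (C := AddCommGrpCat.{u}) F.obj t
  obtain ⟨W, hW, hyW, hWle⟩ := exists_isAffineOpen_mem_and_subset (x := y) (U := O ⊓ U) ⟨hyO, hyU⟩
  have hWO : W ≤ O := fun z hz => (hWle hz).1
  have hWU : W ≤ U := fun z hz => (hWle hz).2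
  refine (TopCat.Presheaf.germ_res_apply F.obj (homOfLE hWO) y hyW s).symm.trans ?_
  exact (congrArg (TopCat.Presheaf.germ F.obj W y hyW) ((hzero W hW hWU).elim _ 0)).trans (map_zero _)

end Groth.Agent.S0037
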