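import Groth.Statements.S0047
import Groth.Agent.QC.Support
import Groth.Agent.S0453

set_option autoImplicit false
universe u
open Coherent

namespace Groth.Agent.S0047

open AlgebraicGeometry in
/-- On a locally Noetherian scheme, a coherent module whose support consists of closed points (i.e. has
dimension ≤ 0) satisfies H^i(X, F) = 0 for all i > 0. (Global generation is not stated.) -/
theorem result (X : Scheme.{u}) [IsLocallyNoetherian X]
    (M : X.Modules) (hM : Coh.IsCoh M) (h0 : ∀ x ∈ CohB1.support M, IsClosed ({x} : Set X))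
    (i : ℕ) (hi : 0 < i) : Subsingleton (Coh.HH X M i) := by
  open CategoryTheory AlgebraicGeometry TopologicalSpace Opposite in
  have hS : IsClosed (CohB1.support M) := Groth.Agent.QC.isClosed_support hM.2
  have hclosed : ∀ S : Set X, S ⊆ CohB1.support M → IsClosed S := fun S hSsub => by
    refine isOpen_compl_iff.mp (isOpen_iff_forall_mem_open.mpr fun x hx => ?_)
    obtain ⟨U, hU, hxU⟩ := Groth.Agent.QC.exists_affine_mem x
    have : IsNoetherianRing Γ(X, U) := IsLocallyNoetherian.component_noetherian ⟨U, hU⟩
    have hns : NoetherianSpace (U : Set X) :=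
      (noetherianSpace_set_iff _).mpr fun t ht =>
        ((noetherianSpace_set_iff _).mp (noetherianSpace_of_isAffineOpen U hU)) t ht
    have : NoetherianSpace (CohB1.support M ∩ U : Set X) :=
      (noetherianSpace_set_iff _).mpr fun t ht =>
        (noetherianSpace_set_iff _).mp hns t (ht.trans Set.inter_subset_right)
    have : DiscreteTopology (CohB1.support M ∩ U : Set X) := by
      refine discreteTopology_iff_isOpen_singleton.mpr ?_
      have hfin : (irreducibleComponents (CohB1.support M ∩ U : Set X)).Finite :=
        NoetherianSpace.finite_irreducibleComponents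
      have : Finite (CohB1.support M ∩ U : Set X) := by
        refine Set.finite_univ_iff.mp ?_
        rw [← sUnion_irreducibleComponents]
        refine hfin.sUnion fun Z hZ => Set.Subsingleton.finite ?_
        have hirr : IsIrreducible (closure (Subtype.val '' Z : Set X)) :=
          (hZ.1.image _ continuous_subtype_val.continuousOn).closure
        obtain ⟨g, hg⟩ := QuasiSober.sober hirr isClosed_closure
        have hgS : g ∈ CohB1.support M :=
          closure_minimal (by rintro _ ⟨w, -, rfl⟩; exact w.2.1) hS hg.mem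
        have hg' : closure (Subtype.val '' Z : Set X) = {g} := hg.def.symm.trans (h0 g hgS).closure_eq
        intro v hv w hw
        have hv' : (v : X) ∈ ({g} : Set X) := hg' ▸ subset_closure ⟨v, hv, rfl⟩
        have hw' : (w : X) ∈ ({g} : Set X) := hg' ▸ subset_closure ⟨w, hw, rfl⟩
        exact Subtype.ext ((Set.mem_singleton_iff.mp hv').trans (Set.mem_singleton_iff.mp hw').symm)
      intro z
      have : T1Space (CohB1.support M ∩ U : Set X) := ⟨fun w => by
        have h1 : IsClosed ({(w : X)} : Set X) := h0 w w.2.1
        rw [show ({w} : Set _) = Subtype.val ⁻¹' ({(w : X)} : Set X) from Set.ext fun _ => Subtype.ext_iff]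
        exact h1.preimage continuous_subtype_val⟩
      exact isOpen_discrete _
    have hfinite : (CohB1.support M ∩ U : Set X).Finite := Set.finite_coe_iff.mp finite_of_compact_of_discrete
    refine ⟨(U : Set X) \ (S ∩ U), fun y hy h => hy.2 ⟨h, hy.1⟩, U.2.sdiff ?_, hxU, fun h => hx h.1⟩
    have hfin' : (S ∩ U : Set X).Finite :=
      hfinite.subset (Set.inter_subset_inter_left _ hSsub)
    rw [show (S ∩ U : Set X) = ⋃ z ∈ (S ∩ U : Set X), {z} from (Set.biUnion_of_singleton _).symm]
    exact hfin'.isClosed_biUnion fun z hz => h0 z (hSsub hz.1)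
  have hext : ∀ (U : X.Opens) (s : Γ(M, U)), ∃ a : Γ(M, ⊤), Groth.Agent.QC.res M le_top a = s := by
    intro U s
    let C : X.Opens := ⟨(CohB1.support M ∩ U)ᶜ, (hclosed _ Set.inter_subset_left).isOpen_compl⟩
    have hUC : ∀ (W : X.Opens) (h1 : W ≤ U) (_ : W ≤ C), Groth.Agent.QC.res M h1 s = 0 :=
      fun W h1 h2 => Groth.Agent.QC.section_eq_of_locally fun y hy => by
        have hn : y ∉ CohB1.support M := fun h => h2 hy ⟨h, h1 hy⟩
        obtain ⟨W', hW', hyW', e⟩ := (Groth.Agent.QC.notMem_support_iff y).mp hn _ hy
          (Groth.Agent.QC.res M h1 s)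
        exact ⟨W', hW', hyW', e.trans (map_zero _).symm⟩
    obtain ⟨a, ha, -⟩ := TopCat.Sheaf.existsUnique_gluing' (Groth.Agent.QC.abSheaf M)
      (fun b : Bool => if b then U else C) ⊤ (fun b => homOfLE le_top)
      (fun y _ => Opens.mem_iSup.mpr (by
        by_cases hy : y ∈ U
        · exact ⟨true, hy⟩
        · exact ⟨false, fun h => hy h.2⟩))
      (fun b => match b with | true => s | false => (0 : Γ(M, C)))
      (by
        rintro (_ | _) (_ | _)
        · rfl
        · exact (map_zero _).trans (hUC _ inf_le_right inf_le_left).symm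
        · exact (hUC _ inf_le_left inf_le_right).trans (map_zero _).symm
        · rfl)
    exact ⟨a, ha true⟩
  have : TopCat.Sheaf.IsFlasque (Coh.toAb M) := ⟨fun {V W} i => by
    refine (AddCommGrpCat.epi_iff_surjective _).mpr fun s => ?_
    obtain ⟨a, ha⟩ := hext W.unop s
    refine ⟨Groth.Agent.QC.res M (le_top : V.unop ≤ ⊤) a, ?_⟩
    change Groth.Agent.QC.res M i.unop.le (Groth.Agent.QC.res M (le_top : V.unop ≤ ⊤) a) = s
    rw [Groth.Agent.QC.res_res]
    exact ha⟩
  obtain ⟨j, rfl⟩ : ∃ j, i = j + 1 := ⟨i - 1, by omega⟩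
  exact Groth.Agent.S0453.result (Coh.toAb M) j

end Groth.Agent.S0047
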