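import Groth.Statements.S0048
import Groth.Agent.QC.Support
import Groth.Agent.QC.Local
import Groth.Agent.TMul.GlobGen

set_option autoImplicit false
universe u
open Coherent

namespace Groth.Agent.S0048

open AlgebraicGeometry in
/-- Let U ⊆ X be open and T ⊆ U a subset closed in X. If F is a coherent (quasi-coherent of finite type,
i.e. `Coh.IsCoh`) module on U with support contained in T, then its direct image along U ↪ X is
again coherent in the same sense. (The published statement is for coherent modules in the usual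
sense; here both hypothesis and conclusion use the notion `Coh.IsCoh`.) -/
theorem result (X : Scheme.{u}) (U : X.Opens) (T : Set X)
    (hT : IsClosed T) (hTU : T ⊆ (U : Set X)) (F : (↑U : Scheme.{u}).Modules) (hF : Coh.IsCoh F)
    (hs : ∀ x : ↥U, x ∈ CohB1.support F → (x : X) ∈ T) : Coh.IsCoh ((Coh.push U.ι).obj F) := by
  open CategoryTheory CategoryTheory.Limits AlgebraicGeometry in
  let V : X.Opens := ⟨Tᶜ, hT.isOpen_compl⟩
  have hzero : ∀ (W : X.Opens), W ≤ V → ∀ s : Γ(F, U.ι ⁻¹ᵁ W), s = 0 := fun W hW s =>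
    Groth.Agent.QC.section_eq_of_locally fun y hy => by
      have hn : y ∉ CohB1.support F := fun h => hW hy (hs y h)
      obtain ⟨W', hW', hyW', e⟩ := (Groth.Agent.QC.notMem_support_iff y).mp hn _ hy s
      exact ⟨W', hW', hyW', e.trans (map_zero _).symm⟩
  have hV : IsZero (((Coh.push U.ι).obj F).restrict V.ι) := by
    rw [IsZero.iff_id_eq_zero]
    refine Scheme.Modules.hom_ext _ _ fun W => ?_
    ext s
    exact (hzero (V.ι ''ᵁ W) (V.ι_image_le W) s).trans rfl
  have hzq : Coh.IsCoh (((Coh.push U.ι).obj F).restrict V.ι) := by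
    let O := Coh.structureModule (V : Scheme.{u})
    have hO := Groth.Agent.QC.isQCoh_unit (V : Scheme.{u})
    have hk : IsZero (kernel (𝟙 O)) := isZero_kernel_of_mono _
    refine ⟨Groth.Agent.QC.isQCoh_of_iso (hk.iso hV) (Groth.Agent.QC.isQCoh_kernel hO hO _), ?_⟩
    have : Epi (0 : O ⟶ ((Coh.push U.ι).obj F).restrict V.ι) :=
      ⟨fun g h _ => hV.eq_of_src g h⟩
    exact Groth.Agent.QC.isFT_of_epi (0 : O ⟶ _) (TMul.isFT_structureModule _)
  have hU : Coh.IsCoh (((Coh.push U.ι).obj F).restrict U.ι) :=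
    ⟨Groth.Agent.QC.isQCoh_of_iso ((Scheme.Modules.restrictFunctorAdjCounitIso U.ι).app F).symm hF.1,
      Groth.Agent.QC.isFT_of_epi ((Scheme.Modules.restrictFunctorAdjCounitIso U.ι).app F).inv hF.2⟩
  refine ⟨Groth.Agent.QC.isQCoh_of_local fun x => ?_, Groth.Agent.QC.isFT_of_local fun x => ?_⟩ <;>
    by_cases hx : x ∈ U
  · exact ⟨_, U.ι, inferInstance, by rwa [Scheme.Opens.range_ι], hU.1⟩
  · exact ⟨_, V.ι, inferInstance, by rw [Scheme.Opens.range_ι]; exact fun h => hx (hTU h), hzq.1⟩
  · exact ⟨_, U.ι, inferInstance, by rwa [Scheme.Opens.range_ι], hU.2⟩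
  · exact ⟨_, V.ι, inferInstance, by rw [Scheme.Opens.range_ι]; exact fun h => hx (hTU h), hzq.2⟩

end Groth.Agent.S0048
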