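import Groth.Statements.S0055
import Groth.Agent.W7Hull.RelVanish
import Groth.Agent.CohFinite.Ample
import Groth.Agent.CohQC.Restrict
import Groth.Agent.TMul.RelAmple
import Groth.Agent.TMul.GlobGen

set_option autoImplicit false
universe u
open Coherent

set_option backward.isDefEq.respectTransparency false
namespace Groth.Agent.S0055

open AlgebraicGeometry CategoryTheory in
/-- Let S be Noetherian, f : X → S proper, F coherent on X and L invertible on X, ample on f⁻¹(W) for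
every affine open W of S (relatively ample). Then there is n₀ with R^p f_*(F ⊗ L^{⊗n}) = 0 for all n
≥ n₀ and p > 0. -/
theorem result {X S : Scheme.{u}} (f : X ⟶ S) [IsProper f]
    [IsNoetherian S] (L : X.Modules) (hL : PicF.IsInvertible L)
    (ha : ∀ W : S.Opens, IsAffineOpen W → CohB1.IsAmple (L.restrict (f ⁻¹ᵁ W).ι))
    (M : X.Modules) (hM : Coh.IsCoh M) :
    ∃ n₀ : ℕ, ∀ n : ℕ, n₀ ≤ n → ∀ p : ℕ, 0 < p →
      Limits.IsZero ((Coh.RpushAb f p).obj (Coh.toAb (CohB1.tensorMod M (CohB1.tensorPow L n)))) := by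
  obtain ⟨ι, hι, U, hU, -, hcov⟩ := QC.exists_finite_affine_cover (X := S) (W := ⊤)
    (by simpa using isCompact_univ)
  have hv : ∀ i, ∃ n₀ : ℕ, ∀ n, n₀ ≤ n → ∀ q : ℕ, Subsingleton (CohSite.HU
      (Coh.toAb (CohB1.tensorMod M (CohB1.tensorPow L n))) (q + 1) (f ⁻¹ᵁ U i)) := fun i => by
    haveI : IsNoetherianRing Γ(S, U i) := IsLocallyNoetherian.component_noetherian ⟨U i, hU i⟩
    obtain ⟨n₀, h₀⟩ := CohFinite.vanish_ample (R := Γ(S, U i)) ((f ∣_ U i) ≫ (hU i).isoSpec.hom)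
      (ha (U i) (hU i)) (M := M.restrict (f ⁻¹ᵁ U i).ι)
      ⟨QC.isQCoh_restrict _ hM.1, QC.isFT_restrict _ hM.2⟩
    refine ⟨n₀, fun n hn q => ?_⟩
    obtain ⟨a⟩ := TMul.nonempty_restrictPowIso (f ⁻¹ᵁ U i).ι L n
    obtain ⟨b⟩ := TMul.nonempty_restrictTensorIso (f ⁻¹ᵁ U i).ι M (CohB1.tensorPow L n)
    obtain ⟨c⟩ := CohQC.hu_restrict (CohB1.tensorMod M (CohB1.tensorPow L n)) (f ⁻¹ᵁ U i) (q + 1)
    haveI := CohQC.hh_subsingleton_of_iso
      (PicGrp.tensorModIso (Iso.refl (M.restrict (f ⁻¹ᵁ U i).ι)) a ≪≫ b) (q + 1) (h₀ n hn q)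
    exact c.toEquiv.subsingleton
  choose n₀ hn₀ using hv
  refine ⟨Finset.univ.sup n₀, fun n hn p hp => ?_⟩
  obtain ⟨q, rfl⟩ : ∃ q, p = q + 1 := ⟨p - 1, by omega⟩
  haveI : Coh.IsQCoh M := hM.1
  refine W7Hull.isZero_rpushAb_of_cover f _
    (TMul.isQCoh_tensor (TMul.isInvertible_tensorPow hL n)) (q + 1) fun y => ?_
  obtain ⟨i, hi⟩ := hcov y trivial
  exact ⟨U i, hU i, hi, hn₀ i n ((Finset.le_sup (Finset.mem_univ i)).trans hn) q⟩

end Groth.Agent.S0055
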