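import Groth.Statements.S0061
-- import your own Groth.Agent.* helpers here
import Groth.Agent.W7Exist.Algebraize
import Groth.Agent.TMul.RelAmple
import Groth.Agent.GrT.Ample

set_option autoImplicit false
universe u
open Coherent

set_option backward.isDefEq.respectTransparency false
set_option backward.isDefEq.respectTransparency.types false

namespace Groth.Agent.S0061

open AlgebraicGeometry CategoryTheory in
/-- Grothendieck's existence Theorem in the projective case, essential-surjectivity half. Let A be a
Noetherian ring complete for an ideal I and X a closed subscheme of P^n_A, compatibly with the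
structure maps to Spec A. Then every coherent formal module on X with respect to I
(`Formal.IsCohFormal`) is isomorphic to the completion system (M/I^nM)_n of some coherent O_X-module
M. (Full faithfulness of completion is stated separately.) -/
theorem result (A : Type u) [CommRing A] [IsNoetherianRing A]
    (I : Ideal A) [IsAdicComplete I A] (n : ℕ) (X : Scheme.{u}) [X.Over (Spec (CommRingCat.of A))]
    (i : X ⟶ CohB1.ProjSpace n A) [IsClosedImmersion i]
    (hi : i ≫ CohB1.ProjSpace.toSpec n A = X ↘ Spec (CommRingCat.of A))
    (G : ℕᵒᵖ ⥤ X.Modules) (hG : Formal.IsCohFormal I G) :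
    ∃ M : X.Modules, Coh.IsCoh M ∧ Nonempty (Formal.completion I M ≅ G) := by
  classical
  haveI : IsProper (CohB1.ProjSpace.toSpec n A) := ProjMor.isProper_toSpec n A
  haveI : IsProper (X ↘ Spec (CommRingCat.of A)) := by rw [← hi]; infer_instance
  have hcov := Groth.Agent.CohFinite.cov_one n A
  have hO : CohB1.IsAmple (Twist.twistProjSpace n A 1) :=
    GrT.isAmple_twist_one (Finset.univ.image fun j : Fin (n + 1) => (MvPolynomial.X j : MvPolynomial (Fin (n + 1)) A))
      (fun f hf => by
        obtain ⟨j, -, rfl⟩ := Finset.mem_image.1 hf
        exact MvPolynomial.isHomogeneous_X A j)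
      (fun x => by
        obtain ⟨j, hj⟩ := TopologicalSpace.Opens.mem_iSup.1 ((Groth.Agent.S9576.result n A).1.ge (trivial : x ∈ ⊤))
        exact ⟨_, Finset.mem_image.2 ⟨j, Finset.mem_univ _, rfl⟩, hj⟩)
  exact Groth.Agent.W7Exist.exists_algebraization A I (TMul.isAmple_pullback_of_isAffineHom i hO) G hG

end Groth.Agent.S0061
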