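import Groth.Statements.S0068
import Groth.Agent.EtPushStalk.Counit
import Groth.Agent.EtStalk.Applications

set_option autoImplicit false
open CategoryTheory CategoryTheory.Limits AlgebraicGeometry Opposite
universe u
open EtBase

set_option backward.isDefEq.respectTransparency false

namespace Groth.Agent.S0068

theorem exists_lift {Z X : Scheme.{u}} (i : Z ⟶ X) [IsClosedImmersion i] {Ω : Type u} [Field Ω]
    (ξ : Spec (CommRingCat.of Ω) ⟶ X) (h : ξ (default : Spec (CommRingCat.of Ω)) ∈ Set.range i) :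
    ∃ ζ : Spec (CommRingCat.of Ω) ⟶ Z, ζ ≫ i = ξ := by
  obtain ⟨z, hz⟩ := h
  obtain ⟨p, -, -⟩ := Scheme.Pullback.exists_preimage_pullback (f := i) (g := ξ) z (default : Spec (CommRingCat.of Ω)) hz
  have : Surjective (pullback.snd i ξ) := ⟨fun q => ⟨p, Subsingleton.elim (α := Spec (CommRingCat.of Ω)) _ _⟩⟩
  have : IsIso (pullback.snd i ξ) := isIso_of_isClosedImmersion_of_surjective _
  exact ⟨inv (pullback.snd i ξ) ≫ pullback.fst i ξ, by
    rw [Category.assoc, pullback.condition, IsIso.inv_hom_id_assoc]⟩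

theorem isZero_stalk {Z X : Scheme.{u}} (i : Z ⟶ X) [IsClosedImmersion i] (F : EtCoh.Ab X)
    (hF : ∀ U : X.Etale, Disjoint (Set.range U.hom.base) (Set.range i.base) → IsZero (F.obj.obj (op U)))
    {Ω : Type u} [Field Ω] [IsSepClosed Ω] (ξ : Spec (CommRingCat.of Ω) ⟶ X)
    (h : ξ (default : Spec (CommRingCat.of Ω)) ∉ Set.range i) : IsZero ((EtCoh.stalk ξ).obj F) := by
  have : Subsingleton ((EtCoh.stalk ξ).obj F) := by
    refine subsingleton_of_forall_eq 0 fun p => ?_
    obtain ⟨U, x, z, rfl⟩ :=
      (Scheme.pointSmallEtale ξ).toPresheafFiber_jointly_surjective (P := F.obj) p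
    let x' : Over.mk ξ ⟶ (Scheme.Etale.forget X).obj U := x
    let φ : U.left ⟶ X := U.hom
    have : Etale φ := U.prop
    let V : U.left.Opens := ⟨φ ⁻¹' (Set.range i)ᶜ, i.isClosedEmbedding.isClosed_range.isOpen_compl.preimage φ.continuous⟩
    let U' : X.Etale := Scheme.Etale.mk (V.ι ≫ φ)
    let g : U' ⟶ U := MorphismProperty.Over.homMk V.ι rfl
    have hw : x'.left ≫ φ = ξ := Over.w x'
    have hr : Set.range x'.left ⊆ Set.range V.ι := by
      rintro - ⟨q, rfl⟩
      rw [Scheme.Opens.range_ι]
      show φ (x'.left q) ∉ Set.range i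
      have h5 : φ (x'.left q) = ξ q := congr($hw q)
      rw [h5]
      convert h using 4
      exact Subsingleton.elim (α := Spec (CommRingCat.of Ω)) _ _
    let y : (Scheme.pointSmallEtale ξ).fiber.obj U' :=
      (Over.homMk (IsOpenImmersion.lift V.ι x'.left hr) (by
        change IsOpenImmersion.lift V.ι x'.left hr ≫ V.ι ≫ φ = ξ
        rw [IsOpenImmersion.lift_fac_assoc, hw]) : Over.mk ξ ⟶ (Scheme.Etale.forget X).obj U')
    have hz := hF U' (by
      rw [Set.disjoint_left]
      rintro _ ⟨q, rfl⟩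
      let q' : V.toScheme := q
      exact q'.2)
    rw [AddCommGrpCat.isZero_iff_subsingleton] at hz
    refine Eq.trans ?_ (map_zero ((Scheme.pointSmallEtale ξ).toPresheafFiber U x F.obj).hom)
    refine ((Scheme.pointSmallEtale ξ).toPresheafFiber_eq_iff' _ _ _ _).mpr
      ⟨U', g, y, Over.OverMorphism.ext (IsOpenImmersion.lift_fac _ _ _), Subsingleton.elim _ _⟩
  exact AddCommGrpCat.isZero_of_subsingleton _


/-- Part (2), second half — an abelian étale sheaf is a pushforward from a closed subscheme exactly when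
its sections vanish over every étale scheme mapping into the open complement. -/
theorem result {Z X : Scheme.{u}} (i : Z ⟶ X) [IsClosedImmersion i] [EtCoh.BCCont i]
    (F : EtCoh.Ab X) :
    (EtCoh.push i).essImage F ↔
      ∀ U : X.Etale, Disjoint (Set.range U.hom.base) (Set.range i.base) → IsZero (F.obj.obj (op U)) := by
  constructor
  · rintro ⟨G, ⟨e⟩⟩ U hU
    have hW : IsEmpty ((EtCoh.bc i).obj U).left := ⟨fun w => by
      let w' : (pullback U.hom i : Scheme.{u}) := w
      have h := congr($(pullback.condition (f := U.hom) (g := i)) w')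
      exact Set.disjoint_left.mp hU ⟨_, h⟩ ⟨_, rfl⟩⟩
    have := Groth.Agent.EtStalk.subsingleton_of_isEmpty G _ hW
    have hz : IsZero (((EtCoh.push i).obj G).obj.obj (op U)) :=
      @AddCommGrpCat.isZero_of_subsingleton _ this
    exact hz.of_iso (((sheafToPresheaf _ _).mapIso e.symm).app (op U))
  · intro hF
    have hL := Groth.Agent.EtPushStalk.liftProp_of_closedImmersion i
    suffices IsIso ((EtCoh.pullPushAdj i).unit.app F) from ⟨_, ⟨(asIso ((EtCoh.pullPushAdj i).unit.app F)).symm⟩⟩
    refine (Groth.Agent.EtStalk.isIso_iff _).mpr fun Ω _ _ ξ => ?_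
    by_cases h : ξ (default : Spec (CommRingCat.of Ω)) ∈ Set.range i
    · have hk := Groth.Agent.S0068.exists_lift i ξ h
      obtain ⟨ζ, rfl⟩ := hk
      have hc := Groth.Agent.EtPushStalk.isIso_counit i hL ((EtCoh.pull i).obj F)
      have h1 : IsIso ((EtCoh.pull i).map ((EtCoh.pullPushAdj i).unit.app F)) := by
        have h2 := (EtCoh.pullPushAdj i).left_triangle_components F
        have : IsIso ((EtCoh.pull i).map ((EtCoh.pullPushAdj i).unit.app F) ≫
            (EtCoh.pullPushAdj i).counit.app ((EtCoh.pull i).obj F)) := by rw [h2]; exact IsIso.id _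
        exact IsIso.of_isIso_comp_right _ ((EtCoh.pullPushAdj i).counit.app ((EtCoh.pull i).obj F))
      exact (NatIso.isIso_map_iff (Groth.Agent.EtStalk.stalkPullIso i ζ) _).mpr
        (inferInstanceAs (IsIso ((EtCoh.stalk ζ).map ((EtCoh.pull i).map ((EtCoh.pullPushAdj i).unit.app F)))))
    · have hd : Disjoint (Set.range ξ.base) (Set.range i.base) := by
        rw [Set.disjoint_left]
        rintro _ ⟨z, rfl⟩
        rw [Subsingleton.elim (α := Spec (CommRingCat.of Ω)) z (default : Spec (CommRingCat.of Ω))]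
        exact h
      have h0 : IsZero ((EtCoh.stalk ξ).obj F) := Groth.Agent.S0068.isZero_stalk i F hF ξ h
      exact h0.isIso (Groth.Agent.EtStalk.isZero_stalk_push i _ ξ hd) _

end Groth.Agent.S0068
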