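import Groth.Statements.S0073
import Groth.Agent.EtHens.Basic
import Mathlib

set_option autoImplicit false
open CategoryTheory CategoryTheory.Limits AlgebraicGeometry Opposite
universe u
open EtBase

set_option backward.isDefEq.respectTransparency false

namespace Groth.Agent.S0073

/-- Étale cohomology of any abelian sheaf on the spectrum of a strictly henselian local ring vanishes in
positive degrees. -/
theorem result (R : Type u) [CommRing R] [HenselianLocalRing R]
    [IsSepClosed (IsLocalRing.ResidueField R)] (F : EtCoh.Ab (Spec (CommRingCat.of R)))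
    (p : ℕ) (hp : 1 ≤ p) : Subsingleton (EtCoh.H (Spec (CommRingCat.of R)) F p) := by
  have : Projective (AddCommGrpCat.of (ULift.{u + 1} ℤ)) := ⟨fun {E X} f e he => by
    obtain ⟨y, hy⟩ := (AddCommGrpCat.epi_iff_surjective e).mp he (f ⟨1⟩)
    refine ⟨AddCommGrpCat.ofHom ((zmultiplesHom E y).comp AddEquiv.ulift.toAddMonoidHom), ?_⟩
    ext ⟨n⟩
    change e (n • y) = f ⟨n⟩
    rw [map_zsmul, hy, ← map_zsmul]
    congr 1
    ext
    simp⟩
  have := Groth.Agent.EtHens.projective_const R (AddCommGrpCat.of (ULift.{u + 1} ℤ))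
  obtain ⟨n, rfl⟩ : ∃ n, p = n + 1 := ⟨p - 1, by omega⟩
  exact Abelian.Ext.subsingleton_of_projective _ _ _

end Groth.Agent.S0073
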