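import Groth.Statements.S0075
import Groth.Agent.EtInvariance.SchemeCase

set_option autoImplicit false
open CategoryTheory CategoryTheory.Limits AlgebraicGeometry Opposite
universe u
open EtBase

set_option backward.isDefEq.respectTransparency false

namespace Groth.Agent.S0075

/-- Topological invariance of the small étale site — base change along an integral, universally
injective, surjective morphism (a universal homeomorphism) is an equivalence between the categories
of étale schemes. -/
theorem result {X Y : Scheme.{u}} (f : X ⟶ Y) [IsIntegralHom f] [UniversallyInjective f]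
    [Surjective f] : (EtCoh.bc f).IsEquivalence := by
    have key : ∀ (E₁ E₂ : Y.Etale) (φ : (EtCoh.bc f).obj E₁ ⟶ (EtCoh.bc f).obj E₂),
        ∃! ψ : E₁.left ⟶ E₂.left, ψ ≫ E₂.hom = E₁.hom ∧
          pullback.fst E₁.hom f ≫ ψ = φ.left ≫ pullback.fst E₂.hom f := fun E₁ E₂ φ => by
      have : Etale E₂.hom := E₂.prop
      exact EtInvariance.existsUnique_extend_scheme f E₁.hom E₂.hom (pullback.fst E₁.hom f) (pullback.snd E₁.hom f)
        (IsPullback.of_hasPullback _ _).flip (φ.left ≫ pullback.fst E₂.hom f) (by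
          have hw : φ.left ≫ pullback.snd E₂.hom f = pullback.snd E₁.hom f := MorphismProperty.Over.w φ
          rw [Category.assoc, pullback.condition, ← Category.assoc, hw, ← pullback.condition])
    have hmap : ∀ (E₁ E₂ : Y.Etale) (ψ : E₁ ⟶ E₂),
        ((EtCoh.bc f).map ψ).left ≫ pullback.fst E₂.hom f = pullback.fst E₁.hom f ≫ ψ.left :=
      fun E₁ E₂ ψ => (EtCoh.isPullback_bc_map f ψ).w
    have hF : (EtCoh.bc f).Faithful := ⟨fun {E₁ E₂} {ψ₁ ψ₂} h => MorphismProperty.Over.Hom.ext
      ((key E₁ E₂ _).unique ⟨MorphismProperty.Over.w ψ₁, (hmap _ _ ψ₁).symm⟩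
        ⟨MorphismProperty.Over.w ψ₂, (hmap _ _ ψ₂).symm.trans (by rw [h])⟩)⟩
    have hFull : (EtCoh.bc f).Full := ⟨fun {E₁ E₂} φ => by
      obtain ⟨ψ, ⟨h₁, h₂⟩, -⟩ := key E₁ E₂ φ
      refine ⟨MorphismProperty.Over.homMk ψ h₁, MorphismProperty.Over.Hom.ext (pullback.hom_ext ?_ ?_)⟩
      · exact (hmap _ _ _).trans h₂
      · set_option backward.isDefEq.respectTransparency false in
      exact (MorphismProperty.Over.w ((EtCoh.bc f).map (MorphismProperty.Over.homMk ψ h₁))).trans
        (MorphismProperty.Over.w φ).symm⟩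
    have hE : (EtCoh.bc f).EssSurj := ⟨fun E => by
      have : Etale E.hom := E.prop
      obtain ⟨W, a, c, ha, sq⟩ := EtInvariance.exists_descend_scheme f E.hom
      refine ⟨MorphismProperty.Over.mk ⊤ a ha, ⟨MorphismProperty.Over.isoMk sq.flip.isoPullback.symm ?_⟩⟩
      show sq.flip.isoPullback.inv ≫ E.hom = pullback.snd a f
      rw [Iso.inv_comp_eq]
      exact sq.flip.isoPullback_hom_snd.symm⟩
    exact { }

end Groth.Agent.S0075
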