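import Groth.Statements.S0093
import Groth.Agent.GabAcyc.Cover
-- import your own Groth.Agent.* helpers here

set_option autoImplicit false
set_option backward.isDefEq.respectTransparency false
set_option backward.isDefEq.respectTransparency.types false
open CategoryTheory CategoryTheory.Limits AlgebraicGeometry Opposite
universe u
open EtBase

namespace Groth.Agent.S0093

/-- Part (1) — every affine scheme admits an integral surjective morphism from a scheme all of whose
closed subschemes have vanishing positive-degree étale cohomology with finite constant coefficients. -/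
theorem result (X : Scheme.{u}) [IsAffine X] :
    ∃ (X' : Scheme.{u}) (π : X' ⟶ X) (_ : IsIntegralHom π) (_ : Surjective π),
      ∀ (Z' : Scheme.{u}) (i : Z' ⟶ X') (_ : IsClosedImmersion i)
        (M : Type) (_ : AddCommGroup M) (_ : Finite M) (q : ℕ), 1 ≤ q →
        Subsingleton (EtCoh.H Z' (EtCoh.const Z' M) q) := by
  obtain ⟨X', Y, π, j, _, _, hint, hsur, hj, hN, hsc⟩ := Groth.Agent.GabAcyc.exists_cover X
  refine ⟨X', π, hint, hsur, fun Z' i hi M _ _ q hq => ?_⟩
  exact Groth.Agent.GabAcyc.subsingleton_H hN (i ≫ j) M q hq

end Groth.Agent.S0093

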