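import Groth.Statements.S0095
import Groth.Agent.S0629
import Groth.Agent.EtShLib.FieldExt

set_option autoImplicit false
open CategoryTheory CategoryTheory.Limits AlgebraicGeometry Opposite
universe u
open EtBase

namespace Groth.Agent.S0095

/-- For a scheme over a separably closed field k and a field extension K of k, global sections of an
abelian étale sheaf do not change under base change to K (the source proves this for sheaves of
sets; the abelian case is stated). -/
theorem result {k K : Type u} [Field k] [IsSepClosed k] [Field K] [Algebra k K]
    {S : Scheme.{u}} (a : S ⟶ Spec (CommRingCat.of k))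
    [EtCoh.BCCont (pullback.fst a (Spec.map (CommRingCat.ofHom (algebraMap k K))))]
    (F : EtCoh.Ab S) :
    Function.Bijective (((EtCoh.pullPushAdj
      (pullback.fst a (Spec.map (CommRingCat.ofHom (algebraMap k K))))).unit.app F).hom.app
        (op (EtCoh.top S))) := by
  refine Groth.Agent.EtConnFib.bijective_unit _ (fun S' g => ?_) (fun Ω _ _ s => ?_) F
  · haveI : Flat (Spec.map (CommRingCat.ofHom (algebraMap k K))) := by
      rw [HasRingHomProperty.Spec_iff (P := @Flat)]
      exact RingHom.flat_algebraMap_iff.mpr inferInstance
    haveI : Surjective (Spec.map (CommRingCat.ofHom (algebraMap k K))) :=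
      ⟨fun x => ⟨(default : Spec (CommRingCat.of K)), Subsingleton.elim (α := Spec (CommRingCat.of k)) _ _⟩⟩
    haveI : Flat (pullback.fst a (Spec.map (CommRingCat.ofHom (algebraMap k K)))) :=
      MorphismProperty.pullback_fst _ _ inferInstance
    haveI : Surjective (pullback.fst a (Spec.map (CommRingCat.ofHom (algebraMap k K)))) :=
      MorphismProperty.pullback_fst _ _ inferInstance
    haveI : QuasiCompact (pullback.fst a (Spec.map (CommRingCat.ofHom (algebraMap k K)))) :=
      MorphismProperty.pullback_fst _ _ inferInstance
    exact Groth.Agent.EtShLib.isQuotientMap_snd_of_flat _ S' g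
  · exact Groth.Agent.EtShLib.connectedSpace_fst_of a _ s (Groth.Agent.EtShLib.connectedSpace_field_ext _)

end Groth.Agent.S0095
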