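import Groth.Statements.S0096
-- import your own Groth.Agent.* helpers here
import Groth.Agent.TwConst.UnramifiedNbhd

set_option autoImplicit false
open CategoryTheory CategoryTheory.Limits AlgebraicGeometry Opposite
universe u
open EtBase

namespace Groth.Agent.S0096

/-- A finite unramified morphism becomes, after base change to a suitable étale neighbourhood of any
point of the base, a finite disjoint union of closed immersions. -/
theorem result {X S : Scheme.{u}} (f : X ⟶ S) [IsFinite f] [FormallyUnramified f] (s : S) :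
    ∃ (U : Scheme.{u}) (g : U ⟶ S) (_ : AlgebraicGeometry.Etale g) (u : U) (_ : g.base u = s)
      (n : ℕ) (V : Fin n → Scheme.{u}) (c : ∀ j, V j ⟶ U) (_ : ∀ j, IsClosedImmersion (c j))
      (e : (∐ V) ≅ pullback f g), ∀ j, Sigma.ι V j ≫ e.hom ≫ pullback.snd f g = c j := by
  classical
  have hfib := f.finite_preimage_singleton s
  obtain ⟨n, ⟨ν⟩⟩ := @Finite.exists_equiv_fin ↥(f ⁻¹' {s}) hfib.to_subtype
  obtain ⟨U, g, u, hg, hu, K, hK, lab, V, v, hV, hv, hall, hsep⟩ :=
    TwConst.exists_unramified_split f s (fun i : Fin n => (ν.symm i).1) (fun i => (ν.symm i).2)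
      (fun _ => ⟨⊤, trivial, inferInstance, MorphismProperty.comp_mem _ _ _ inferInstance ‹FormallyUnramified f›⟩)
  haveI := hK
  obtain ⟨hc, hdis⟩ := hsep inferInstance
  -- every point over `u` lies in a piece
  have hcov : ∀ w : ↥(pullback f g), pullback.snd f g w = u → ∃ k, w ∈ V k := fun w hw => by
    have hwf : f (pullback.fst f g w) = s := by
      rw [← Scheme.Hom.comp_apply, pullback.condition, Scheme.Hom.comp_apply, hw, hu]
    obtain ⟨k, hk⟩ := hall w (ν ⟨_, hwf⟩) hw (congrArg Subtype.val (ν.symm_apply_apply ⟨_, hwf⟩)).symm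
    exact ⟨k, hk ▸ (hV k).1⟩
  let C : Set ↥(pullback f g) := (⋃ k, (V k : Set _))ᶜ
  have hC : IsClosed C := (isOpen_iUnion fun k => (V k).2).isClosed_compl
  let N : U.Opens := ⟨(pullback.snd f g '' C)ᶜ, ((pullback.snd f g).isClosedMap C hC).isOpen_compl⟩
  have huN : u ∈ N := by
    rintro ⟨w, hw, hwu⟩
    obtain ⟨k, hk⟩ := hcov w hwu
    exact hw (Set.mem_iUnion.2 ⟨k, hk⟩)
  let g' : N.toScheme ⟶ S := N.ι ≫ g
  let m : pullback f g' ⟶ pullback f g := Weighting.bcMap N.ι rfl
  have hm₂ : m ≫ pullback.snd f g = pullback.snd f g' ≫ N.ι := Weighting.bcMap_snd _ _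
  have hall' : ∀ z : ↥(pullback f g'), ∃ k, m z ∈ V k := fun z => by
    by_contra h
    have h1 : pullback.snd f g (m z) ∈ N := by
      rw [← Scheme.Hom.comp_apply, hm₂, Scheme.Hom.comp_apply]
      exact (pullback.snd f g' z).2
    exact h1 ⟨m z, fun hz => h (Set.mem_iUnion.1 hz), rfl⟩
  obtain ⟨p, ⟨e⟩⟩ := Finite.exists_equiv_fin K
  let V' : Fin p → Scheme.{u} := fun j => (m ⁻¹ᵁ V (e.symm j)).toScheme
  let c : ∀ j, V' j ⟶ N.toScheme := fun j => (m ⁻¹ᵁ V (e.symm j)).ι ≫ pullback.snd f g'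
  have hci : ∀ j, IsClosedImmersion (c j) := fun j =>
    MorphismProperty.of_isPullback (P := @IsClosedImmersion)
      ((isPullback_morphismRestrict m (V (e.symm j))).paste_vert (Weighting.isPullback_bcMap _ _)) (hV (e.symm j)).2.1
  let α : ∀ j, V' j ⟶ pullback f g' := fun j => (m ⁻¹ᵁ V (e.symm j)).ι
  haveI : ∀ j, IsOpenImmersion (α j) := fun j => inferInstanceAs (IsOpenImmersion (m ⁻¹ᵁ V (e.symm j)).ι)
  let σ : (∐ V') ⟶ pullback f g' := Sigma.desc α
  haveI : IsOpenImmersion σ := isOpenImmersion_sigmaDesc V' α (by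
    intro a b hab
    refine Set.disjoint_left.2 ?_
    rintro _ ⟨x, rfl⟩ ⟨y, hy⟩
    have hne : e.symm a ≠ e.symm b := fun h => hab (e.symm.injective h)
    refine (disjoint_iff_inf_le.1 (hdis _ _ hne)) (show m (α a x) ∈ V (e.symm a) ⊓ V (e.symm b) from ⟨x.2, ?_⟩)
    rw [← hy]; exact y.2)
  haveI : Surjective σ := Surjective.sigmaDesc_of_union_range_eq_univ (Set.eq_univ_of_forall fun z => by
    obtain ⟨k, hk⟩ := hall' z
    refine Set.mem_iUnion.2 ⟨e k, ⟨z, ?_⟩, rfl⟩
    change m z ∈ V (e.symm (e k))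
    rw [e.symm_apply_apply]; exact hk)
  haveI : IsIso σ := (isIso_iff_isOpenImmersion_and_surjective _).2 ⟨inferInstance, inferInstance⟩
  haveI := hg
  refine ⟨N, g', inferInstance, ⟨u, huN⟩, ?_, p, V', c, hci, asIso σ, fun j => ?_⟩
  · change g (N.ι ⟨u, huN⟩) = s
    exact hu
  · rw [asIso_hom, ← Category.assoc, show Sigma.ι V' j ≫ σ = α j from Sigma.ι_desc _ _]

end Groth.Agent.S0096
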