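import Groth.Statements.S0098
-- import your own Groth.Agent.* helpers here
import Groth.Agent.TwConst.Structure

set_option autoImplicit false
open CategoryTheory CategoryTheory.Limits AlgebraicGeometry Opposite
universe u
open EtBase

namespace Groth.Agent.S0098

/-- A finite étale morphism whose fibre over a point s is a single point with the same residue field is
an isomorphism over an open neighbourhood of s. -/
theorem result {X S : Scheme.{u}} (f : X ⟶ S) [IsFinite f] [AlgebraicGeometry.Etale f] (s : S) (x : X)
    (hx : f.base ⁻¹' {s} = {x}) (hκ : Function.Surjective (f.residueFieldMap x)) :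
    ∃ U : S.Opens, s ∈ U ∧ IsIso (f ∣_ U) := by
  obtain rfl : f.base x = s := by
    have h : x ∈ f.base ⁻¹' {s} := hx ▸ rfl
    exact h
  haveI : IsIso (f.residueFieldMap x) := (ConcreteCategory.isIso_iff_bijective _).2
    ⟨(f.residueFieldMap x).hom.injective, hκ⟩
  let p : pullback f (S.fromSpecResidueField (f x)) ⟶ Spec (S.residueField (f x)) := pullback.snd _ _
  let a : Spec (S.residueField (f x)) ⟶ X := Spec.map (inv (f.residueFieldMap x)) ≫ X.fromSpecResidueField x
  have ha : a ≫ f = S.fromSpecResidueField (f x) := by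
    simp only [a, Category.assoc]
    rw [← Scheme.Hom.SpecMap_residueFieldMap_fromSpecResidueField, ← Category.assoc, ← Spec.map_comp,
      IsIso.hom_inv_id, Spec.map_id, Category.id_comp]
  let a' : Spec (S.residueField (f x)) ⟶ pullback f (S.fromSpecResidueField (f x)) :=
    pullback.lift a (𝟙 _) (by rw [ha, Category.id_comp])
  have ha' : a' ≫ p = 𝟙 _ := pullback.lift_snd _ _ _
  haveI : IsOpenImmersion a' := EtaleSections.isOpenImmersion_section p a' ha'
  haveI : Subsingleton ↥(pullback f (S.fromSpecResidueField (f x))) := by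
    haveI : Subsingleton ↥(f ⁻¹' {f x}) := (hx ▸ Set.subsingleton_singleton : (f.base ⁻¹' {f.base x}).Subsingleton).coe_sort
    exact (f.fiberHomeo (f x)).injective.subsingleton
  haveI : Surjective a' := ⟨fun z => ⟨IsLocalRing.closedPoint _, Subsingleton.elim _ _⟩⟩
  haveI : IsIso a' := (isIso_iff_isOpenImmersion_and_surjective a').2 ⟨inferInstance, inferInstance⟩
  haveI : IsIso p := by
    haveI : IsIso (a' ≫ p) := by rw [ha']; infer_instance
    exact IsIso.of_isIso_comp_left a' _
  have h1 : f.finrank (f x) = 1 := by
    have h1 := congrFun (Scheme.Hom.finrank_eq_one_of_isIso p) (IsLocalRing.closedPoint _)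
    simp only [p] at h1
    rw [Scheme.Hom.finrank_pullback_snd, Scheme.fromSpecResidueField_apply] at h1
    exact h1
  refine ⟨⟨f.finrank ⁻¹' {1}, (Scheme.Hom.isLocallyConstant_finrank f).isOpen_fiber 1⟩, h1, ?_⟩
  rw [Scheme.Hom.isIso_iff_finrank_eq]
  funext t
  rw [Scheme.Hom.finrank_of_isPullback _ _ _ _ (isPullback_morphismRestrict f _).flip t]
  exact t.2

end Groth.Agent.S0098
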