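import Groth.Statements.S0105
import Groth.Agent.EtFLC.Serre
import Mathlib.AlgebraicGeometry.Morphisms.UniversallyOpen
import Mathlib.AlgebraicGeometry.Morphisms.Etale

set_option autoImplicit false
open CategoryTheory CategoryTheory.Limits AlgebraicGeometry Opposite
universe u
open EtBase

namespace Groth.Agent.S0105

/-- On a connected scheme X, a finite locally constant abelian sheaf F on the small étale site is, étale
locally, constant with one and the same finite group everywhere: there are a finite abelian group M
and an étale covering (U_i) of X such that the restriction of F to every U_i is isomorphic to the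
constant sheaf with value M. (The published statement covers arbitrary locally constant sheaves of
modules; stated here for finite locally constant abelian sheaves.) -/
theorem result {X : Scheme.{u}} [ConnectedSpace X] (F : EtCoh.Ab X) (h : EtCoh.IsFiniteLocallyConstant F) :
    ∃ (M : Type) (_ : AddCommGroup M) (_ : Finite M) (ι : Type u) (U : ι → X.Etale), EtCoh.Covers U ∧
      ∀ i, Nonempty (EtCoh.restr F (U i) ≅
        (constantSheaf (X.smallEtaleTopology.over (U i)) AddCommGrpCat.{u + 1}).obj
          (AddCommGrpCat.of (ULift.{u + 1} M))) := by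
  classical
  rw [EtFLC.isFLC_iff] at h
  choose U y M hM hMf σ hy hσ using h
  -- the group at a point is well defined
  have huniq : ∀ (a b : X) (u : (U a).left) (v : (U b).left), (U a).hom u = (U b).hom v →
      Nonempty (M a ≃+ M b) := by
    intro a b u v huv
    obtain ⟨W, g₁, g₂, w, -, -⟩ := EtFLC.exists_common u v huv
    obtain ⟨V, g, p, f, -, hf⟩ :=
      EtFLC.exists_local_hom (𝟙 F) (σ := (EtFLC.res F g₁).comp (σ a)) ((hσ b).comap g₂) w
    obtain ⟨V', g', p', f', -, hf'⟩ :=
      EtFLC.exists_local_hom (𝟙 F) (σ := (EtFLC.res F g₂).comp (σ b)) ((hσ a).comap g₁) w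
    have hfi : Function.Injective f := (injective_iff_map_eq_zero f).2 fun m hm => by
      refine ((hσ a).comap g₁).inj g m ((hf m).trans ?_) p
      rw [hm, map_zero, map_zero]
    have hfi' : Function.Injective f' := (injective_iff_map_eq_zero f').2 fun m hm => by
      refine ((hσ b).comap g₂).inj g' m ((hf' m).trans ?_) p'
      rw [hm, map_zero, map_zero]
    haveI := hMf a
    haveI := hMf b
    have hcard : Nat.card (M a) = Nat.card (M b) :=
      le_antisymm (Nat.card_le_card_of_injective f hfi) (Nat.card_le_card_of_injective f' hfi')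
    exact ⟨AddEquiv.ofBijective f ((Nat.bijective_iff_injective_and_card f).2 ⟨hfi, hcard⟩)⟩
  have hopen : ∀ a : X, IsOpen (Set.range (U a).hom.base) := fun a => by
    haveI : Etale (U a).hom := (U a).prop
    exact IsOpenMap.isOpen_range (Scheme.Hom.isOpenMap (U a).hom)
  obtain ⟨x₀⟩ : Nonempty X := inferInstance
  let A : Set X := {x | Nonempty (M x ≃+ M x₀)}
  have hA : IsClopen A := by
    constructor
    · rw [← isOpen_compl_iff, isOpen_iff_forall_mem_open]
      exact fun x hx => ⟨Set.range (U x).hom.base, fun z ⟨u, hu⟩ ⟨e⟩ =>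
        hx ⟨((huniq x z u (y z) (hu.trans (hy z).symm)).some).trans e⟩, hopen x, y x, hy x⟩
    · exact isOpen_iff_forall_mem_open.2 fun x ⟨e⟩ =>
        ⟨Set.range (U x).hom.base, fun z ⟨u, hu⟩ => ⟨((huniq x z u (y z) (hu.trans (hy z).symm)).some).symm.trans e⟩, hopen x, y x, hy x⟩
  have huniv : A = Set.univ := hA.eq_univ ⟨x₀, ⟨AddEquiv.refl _⟩⟩
  refine ⟨M x₀, hM x₀, hMf x₀, X, U, fun x => ⟨x, y x, hy x⟩, fun x => ?_⟩
  obtain ⟨e⟩ : x ∈ A := huniv ▸ Set.mem_univ x
  exact EtFLC.iso_iff.2 ⟨_, (hσ x).congr (AddEquiv.ulift.trans e.symm)⟩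

end Groth.Agent.S0105
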