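import Groth.Statements.S0120
import Mathlib.RingTheory.Ideal.KrullsHeightTheorem
import Mathlib.AlgebraicGeometry.Morphisms.FormallyUnramified
import Mathlib.AlgebraicGeometry.Morphisms.Flat

set_option autoImplicit false
open CategoryTheory CategoryTheory.Limits AlgebraicGeometry Opposite
universe u
open EtBase

namespace Groth.Agent.S0120

/-- For an étale morphism X → Y with Y locally Noetherian and a point x of X, the local ring of X at x
and the local ring of Y at the image of x have the same Krull dimension. -/
theorem result {X Y : Scheme.{u}} (f : X ⟶ Y) [AlgebraicGeometry.Etale f]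
    [IsLocallyNoetherian Y] (x : X) :
    ringKrullDim (X.presheaf.stalk x) = ringKrullDim (Y.presheaf.stalk (f.base x)) := by
  have : IsLocallyNoetherian X := LocallyOfFiniteType.isLocallyNoetherian f
  algebraize [(f.stalkMap x).hom]
  let R := Y.presheaf.stalk (f x)
  let S := X.presheaf.stalk x
  have : IsLocalHom (algebraMap R S) := inferInstanceAs <| IsLocalHom (f.stalkMap x).hom
  have : Algebra.EssFiniteType R S := by
    rw [← RingHom.essFiniteType_algebraMap, RingHom.algebraMap_toAlgebra]
    exact LocallyOfFiniteType.stalkMap f x
  have : Algebra.FormallyUnramified R S := by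
    rw [← RingHom.formallyUnramified_algebraMap, RingHom.algebraMap_toAlgebra]
    exact AlgebraicGeometry.FormallyUnramified.stalkMap f x
  have : Module.Flat R S := Flat.stalkMap f x
  have : IsNoetherianRing S := inferInstanceAs (IsNoetherianRing (X.presheaf.stalk x))
  have : Algebra.HasGoingDown R S := .of_flat
  have h := Ideal.height_eq_height_add_of_liesOver_of_hasGoingDown
    (IsLocalRing.maximalIdeal R) (IsLocalRing.maximalIdeal S)
  rw [Algebra.FormallyUnramified.map_maximalIdeal, Ideal.map_quotient_self] at h
  have h0 : (⊥ : Ideal (S ⧸ IsLocalRing.maximalIdeal S)).height = 0 :=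
    Ideal.height_bot
  rw [h0, add_zero] at h
  change ringKrullDim S = ringKrullDim R
  rw [← IsLocalRing.maximalIdeal_height_eq_ringKrullDim,
    ← IsLocalRing.maximalIdeal_height_eq_ringKrullDim, h]

end Groth.Agent.S0120
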