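import Groth.Statements.S0136
import Groth.Agent.EtCons.PushStratum
import Groth.Agent.EtFLC.PushFlc
import Groth.Agent.EtIntegral.BaseChange
-- import your own Groth.Agent.* helpers here

set_option autoImplicit false
universe u
open CategoryTheory CategoryTheory.Limits AlgebraicGeometry Opposite
open EtPBC

namespace Groth.Agent.S0136

/-- Abelian case: if f : X -> Y is finite etale and F is a constructible abelian sheaf on X_et then f_*
F is constructible on Y_et. -/
theorem result {X Y : Scheme.{u}} (f : X ⟶ Y) [IsFinite f] [Etale f]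
    [EtCoh.BCCont f] (F : EtCoh.Ab X) (hF : EtPBC.IsConstructible F) :
    EtPBC.IsConstructible ((EtCoh.push f).obj F) := by
  rw [EtCons.isConstructible_iff]
  intro y
  obtain ⟨D, T, c, hD, hc, hyD, hyc, hC, hflc⟩ := EtCons.exists_flc_stratum f hF y
  refine ⟨D, hD, hyD, T, c, _, hc, hC, ⟨hyD, hyc⟩, Set.image_preimage_subset _ _, ?_⟩
  have hb := EtIntegral.isIso_baseChange0 (f := f) (g := c) (f' := pullback.snd f c) (g' := pullback.fst f c)
    (IsPullback.of_hasPullback f c) F
  exact EtCons.isFLC_of_iso (asIso (EtCoh.baseChange0 f c (pullback.snd f c) (pullback.fst f c) pullback.condition F)).symm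
    (EtFLC.isFLC_push (pullback.snd f c) hflc)

end Groth.Agent.S0136
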