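import Groth.Statements.S0138
import Groth.Agent.EtCons.Presentation
-- import your own Groth.Agent.* helpers here

set_option autoImplicit false
universe u
open CategoryTheory CategoryTheory.Limits AlgebraicGeometry Opposite
open EtPBC

namespace Groth.Agent.S0138

/-- For Lambda = Z/n: on a quasi-compact quasi-separated X, a constructible abelian sheaf killed by n >
0 (that is, a constructible sheaf of Z/n-modules) is isomorphic to the cokernel of a map between
finite direct sums of sheaves j_{U!} Z/n with U affine and etale over X. (The source also proves the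
converse; we state the presentation direction.) -/
theorem result (X : Scheme.{u}) [CompactSpace X] [QuasiSeparatedSpace X]
    (n : ℕ) (hn : 0 < n) (F : EtCoh.Ab X) (hF : EtPBC.IsConstructible F) (hFn : EtCoh.KilledBy n F) :
    ∃ (a b : ℕ) (V : Fin a → X.Etale) (U : Fin b → X.Etale) (_ : ∀ j, IsAffine (V j).left)
      (_ : ∀ i, IsAffine (U i).left)
      (φ : (⨁ fun j => EtPBC.extZeroConst (V j) (ZMod n)) ⟶ ⨁ fun i => EtPBC.extZeroConst (U i) (ZMod n)),
      Nonempty (F ≅ cokernel φ) := by
  classical
  obtain ⟨b, U, hU, g, hg⟩ := EtCons.exists_generators_killed F hF n hn hFn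
  have hP : EtPBC.IsConstructible (⨁ fun i => EtPBC.extZeroConst (U i) (ZMod n)) :=
    EtCons.isConstructible_biproduct _ fun i => by haveI := hU i; exact EtCons.isConstructible_extConst (U i) n hn
  have hK : EtCoh.KilledBy n (kernel g) :=
    EtCons.killedBy_of_mono (kernel.ι g) (EtCons.killedBy_biproduct _ n fun i => EtCons.killedBy_extConst (U i) n)
  obtain ⟨a, V, hV, h, hh⟩ := EtCons.exists_generators_killed (kernel g)
    (EtCons.isConstructible_kernel_cokernel g hP hF).1 n hn hK
  haveI := hg
  haveI := hh
  refine ⟨a, b, V, U, hV, hU, h ≫ kernel.ι g, ⟨?_⟩⟩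
  refine IsColimit.coconePointUniqueUpToIso (Abelian.epiIsCokernelOfKernel _ (kernelIsKernel g))
    (cokernelIsCokernel (kernel.ι g)) ≪≫ (cokernelEpiComp h (kernel.ι g)).symm


end Groth.Agent.S0138
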