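import Groth.Statements.S0152
import Groth.Agent.WLocalPi0.Basic

set_option autoImplicit false
universe u
open EtPBC

set_option backward.isDefEq.respectTransparency false

namespace Groth.Agent.S0152

/-- Let X be a spectral space and Z a closed subset such that Z meets the closure of every point of X in
a connected (nonempty) set. If Z is the disjoint union of two closed subsets Z_1, Z_2 then X is the
disjoint union of closed subsets X_1, X_2 with Z_i = Z ∩ X_i. -/
theorem result (X : Type u) [TopologicalSpace X] [SpectralSpace X]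
    (Z : Set X) (hZ : IsClosed Z)
    (hconn : ∀ x : X, IsConnected (Z ∩ closure {x}))
    (Z₁ Z₂ : Set X) (h₁ : IsClosed Z₁) (h₂ : IsClosed Z₂) (hdisj : Disjoint Z₁ Z₂) (hunion : Z₁ ∪ Z₂ = Z) :
    ∃ X₁ X₂ : Set X, IsClosed X₁ ∧ IsClosed X₂ ∧ Disjoint X₁ X₂ ∧ X₁ ∪ X₂ = Set.univ ∧
      Z₁ = Z ∩ X₁ ∧ Z₂ = Z ∩ X₂ := by
  have hsub₁ : Z₁ ⊆ Z := hunion ▸ Set.subset_union_left
  have hsub₂ : Z₂ ⊆ Z := hunion ▸ Set.subset_union_right
  obtain ⟨U, V, hU, hV, hU₁, hV₂, hUV⟩ := Groth.Agent.WLocalPi0.separatedNhds h₁.isCompact h₂.isCompact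
    fun d hd e he => Groth.Agent.WLocalPi0.exists_disjoint_nhds fun x hxd hxe => by
      have hc := (hconn x).isPreconnected
      rw [isPreconnected_closed_iff] at hc
      obtain ⟨y, -, hy₁, hy₂⟩ := hc Z₁ Z₂ h₁ h₂ (fun y hy => hunion.ge hy.1)
        ⟨d, ⟨hsub₁ hd, hxd.mem_closure⟩, hd⟩ ⟨e, ⟨hsub₂ he, hxe.mem_closure⟩, he⟩
      exact Set.disjoint_left.mp hdisj hy₁ hy₂
  have hcov : U ∪ V = Set.univ := Set.eq_univ_of_forall fun x => by
    obtain ⟨z, hz, hxz⟩ := (hconn x).nonempty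
    rcases hunion.ge hz with h | h
    · exact Or.inl ((specializes_iff_mem_closure.mpr hxz).mem_open hU (hU₁ h))
    · exact Or.inr ((specializes_iff_mem_closure.mpr hxz).mem_open hV (hV₂ h))
  have eU : Vᶜ = U := Set.Subset.antisymm (fun x hx => (hcov.ge (Set.mem_univ x)).resolve_right hx)
    (fun x hxU hxV => Set.disjoint_left.mp hUV hxU hxV)
  have eV : Uᶜ = V := Set.Subset.antisymm (fun x hx => (hcov.ge (Set.mem_univ x)).resolve_left hx)
    (fun x hxV hxU => Set.disjoint_left.mp hUV hxU hxV)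
  refine ⟨U, V, eU ▸ hV.isClosed_compl, eV ▸ hU.isClosed_compl, hUV, hcov, ?_, ?_⟩
  · refine Set.Subset.antisymm (fun x hx => ⟨hsub₁ hx, hU₁ hx⟩) fun x hx => (hunion.ge hx.1).resolve_right fun h =>
      Set.disjoint_left.mp hUV hx.2 (hV₂ h)
  · refine Set.Subset.antisymm (fun x hx => ⟨hsub₂ hx, hV₂ hx⟩) fun x hx => (hunion.ge hx.1).resolve_left fun h =>
      Set.disjoint_left.mp hUV (hU₁ h) hx.2

end Groth.Agent.S0152
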