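import Groth.Statements.S0155
import Groth.Agent.ShriekH0c.Main

set_option autoImplicit false
set_option backward.isDefEq.respectTransparency false
set_option backward.isDefEq.respectTransparency.types false
set_option linter.style.haveILetI false
universe u
open CategoryTheory CategoryTheory.Limits AlgebraicGeometry Opposite
open EtPBC

namespace Groth.Agent.S0155

theorem isProperOver_of_isProper {X S : Scheme.{u}} (f : X ⟶ S) [IsProper f] {Z : Set X} (hZ : IsClosed Z) :
    ClSub.IsProperOver f Z := by
  haveI : IsProper (𝟙 X ≫ f) := by rw [Category.id_comp]; infer_instance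
  exact ClSubLib.isProperOver_of_subset f (𝟙 X) Z hZ fun x _ => ⟨x, by simp⟩

theorem shriekSubgroup_eq_top {X Y : Scheme.{u}} (f : X ⟶ Y) [IsProper f] (F : EtCoh.Ab X) (V : Y.Etale) :
    EtShriek.shriekSubgroup f F V = ⊤ := by
  refine eq_top_iff.mpr fun s _ => ?_
  rw [ShriekLQF.mem_shriekSubgroup_iff]
  haveI : IsProper (EtShriek.prV f V) := MorphismProperty.pullback_fst _ _ ‹_›
  exact isProperOver_of_isProper _ (EtSect.isClosed_sectSupp F _)

theorem H0c_eq_top {k : Type u} [Field k] {W : Scheme.{u}} (p : W ⟶ Spec (CommRingCat.of k)) [IsProper p]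
    (G : EtCoh.Ab W) : EtShriek.H0c p G = ⊤ := by
  refine eq_top_iff.mpr fun s _ => ?_
  rw [ShriekH0c.mem_H0c_iff]
  exact isProperOver_of_isProper p (EtSect.isClosed_sectSupp G _)

theorem isIso_lowerShriekToPush {X Y : Scheme.{u}} (f : X ⟶ Y) [IsProper f] (F : EtCoh.Ab X) :
    IsIso (EtShriek.lowerShriekToPush f F) := by
  haveI : IsIso (EtShriek.lowerShriekPreι f F) := by
    haveI : ∀ V, IsIso ((EtShriek.lowerShriekPreι f F).app V) := fun V =>
      (ConcreteCategory.isIso_iff_bijective _).mpr
        ⟨Subtype.val_injective, fun s => ⟨⟨s, by rw [shriekSubgroup_eq_top]; exact AddSubgroup.mem_top _⟩, rfl⟩⟩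
    exact NatIso.isIso_of_isIso_app _
  rw [EtShriek.lowerShriekToPush, Adjunction.homEquiv_counit]
  infer_instance

/-- Let f : X ⟶ Y be a proper morphism of schemes, ȳ : Spec Ω ⟶ Y a geometric point (Ω a separably
closed field) and F an abelian sheaf on the small étale site of X. Then the stalk (f_* F)_ȳ is
isomorphic to the group of global sections Γ(X_ȳ, F|X_ȳ) of the pullback of F to the geometric fibre
X_ȳ = X ×_Y Spec Ω. The published statement is stronger: it asserts that the canonical map is
bijective (for sheaves of sets as well); only the existence of an isomorphism of abelian groups is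
asserted here. -/
theorem result {X Y : Scheme.{u}} (f : X ⟶ Y) [IsProper f] [EtCoh.BCCont f]
    {Ω : Type u} [Field Ω] [IsSepClosed Ω] (ξ : Spec (CommRingCat.of Ω) ⟶ Y)
    [EtCoh.BCCont (pullback.fst f ξ)] (F : EtCoh.Ab X) :
    Nonempty ((EtCoh.stalk ξ).obj ((EtCoh.push f).obj F) ≅
      ((EtCoh.pull (pullback.fst f ξ)).obj F).obj.obj (op (EtCoh.top (pullback f ξ)))) := by
  haveI := isIso_lowerShriekToPush f F
  obtain ⟨e⟩ := ShriekH0c.nonempty_stalk_iso_H0c f ξ F
  have h : EtShriek.H0c (pullback.snd f ξ) ((EtCoh.pull (pullback.fst f ξ)).obj F) = ⊤ := H0c_eq_top _ _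
  exact ⟨((EtCoh.stalk ξ).mapIso (asIso (EtShriek.lowerShriekToPush f F))).symm ≪≫ e ≪≫
    ((AddEquiv.addSubgroupCongr h).trans AddSubgroup.topEquiv).toAddCommGrpIso⟩

end Groth.Agent.S0155
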