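import Groth.Statements.S0169
import Groth.Agent.EtCons.CommonStratum
import Groth.Agent.EtCons.Strata
import Groth.Agent.EtCons.ReducedRange
import Groth.Agent.FpqcDescent.Sep
-- import your own Groth.Agent.* helpers here

set_option autoImplicit false
universe u
open CategoryTheory CategoryTheory.Limits AlgebraicGeometry Opposite
open EtPBC

namespace Groth.Agent.S0169

/-- For j : U -> X an etale morphism of quasi-compact quasi-separated schemes there are finitely many
immersions T_i -> X with pairwise disjoint constructible images covering X such that U x_X T_i ->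
T_i is finite (etale) for each i. -/
theorem result {U X : Scheme.{u}} [CompactSpace U] [QuasiSeparatedSpace U]
    [CompactSpace X] [QuasiSeparatedSpace X] (j : U ⟶ X) [Etale j] :
    ∃ (n : ℕ) (T : Fin n → Scheme.{u}) (g : ∀ i, T i ⟶ X),
      (∀ i, IsImmersion (g i)) ∧ (∀ i, Topology.IsConstructible (Set.range (g i))) ∧
      Pairwise (fun i i' => Disjoint (Set.range (g i)) (Set.range (g i'))) ∧
      (⋃ i, Set.range (g i)) = Set.univ ∧ ∀ i, IsFinite (pullback.snd j (g i)) := by
  classical
  have hD : ∀ x : X, ∃ (T : Scheme.{u}) (c : T ⟶ X), IsImmersion c ∧ x ∈ Set.range c ∧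
      Topology.IsConstructible (Set.range c) ∧ IsFinite (pullback.snd j c) := by
    intro x
    obtain ⟨D, hD, hxD, -⟩ := exists_isAffineOpen_mem_and_subset (x := x) (U := ⊤) trivial
    haveI : QuasiCompact j := quasiCompact_of_compactSpace j
    haveI : LocallyQuasiFinite j := FpqcDescent.locallyQuasiFinite_of_etale j
    obtain ⟨T, c, hc, -, hfin, hxc, hcD, hC⟩ := EtCons.exists_finite_stratum j hD
      (QuasiCompact.isCompact_preimage (f := j) _ D.isOpen hD.isCompact) hxD
    refine ⟨T, c, hc, hxc, ?_, hfin⟩
    have hr : IsRetrocompact (Set.range (Subtype.val : ↥(D : Set X) → X)) := by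
      rw [Subtype.range_coe]
      exact fun V hVc hVo => QuasiSeparatedSpace.inter_isCompact _ _ D.isOpen hD.isCompact hVo hVc
    have h := hC.image_of_isOpenEmbedding D.isOpen.isOpenEmbedding_subtypeVal hr
    rwa [Set.image_preimage_eq_of_subset (by rw [Subtype.range_coe]; exact hcD)] at h
  choose T₀ c₀ hc₀ hx₀ hC₀ hf₀ using hD
  obtain ⟨t, ht⟩ := EtCons.exists_finite_constructible_cover (fun x => Set.range (c₀ x)) hC₀ hx₀
  obtain ⟨n, A, k, hA, hdisj, hcov⟩ := EtCons.exists_partition (fun x : t => Set.range (c₀ x.1))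
    (fun x => hC₀ x.1) (fun y => by obtain ⟨x, hx, hy⟩ := ht y; exact ⟨⟨x, hx⟩, hy⟩)
  choose T g hg hr hred using fun i => EtCons.exists_reduced_immersion_range (hA i).2.1
  refine ⟨n, T, g, hg, fun i => by rw [hr]; exact (hA i).1, fun i i' h => by simpa only [hr] using hdisj h,
    by simp only [hr]; exact hcov, fun i => ?_⟩
  haveI := hred i; haveI := hc₀ (k i).1; haveI := hf₀ (k i).1; haveI := hg i
  let c := c₀ (k i).1
  haveI : Surjective (pullback.snd c (g i)) := ⟨fun o => by
    obtain ⟨p, hp⟩ := (hA i).2.2 ((hr i).subset (Set.mem_range_self o))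
    obtain ⟨q, -, hq⟩ := Scheme.Pullback.exists_preimage_pullback (f := c) (g := g i) p o hp
    exact ⟨q, hq⟩⟩
  haveI : IsClosedImmersion (pullback.snd c (g i)) := .of_isPreimmersion _ (by
    rw [Set.range_eq_univ.2 (pullback.snd c (g i)).surjective]; exact isClosed_univ)
  haveI := isIso_of_isClosedImmersion_of_surjective (pullback.snd c (g i))
  let l := inv (pullback.snd c (g i)) ≫ pullback.fst c (g i)
  have hl : l ≫ c₀ (k i).1 = g i := by
    show (inv (pullback.snd c (g i)) ≫ pullback.fst c (g i)) ≫ c = g i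
    rw [Category.assoc, pullback.condition, IsIso.inv_hom_id_assoc]
  rw [← hl, ← pullbackLeftPullbackSndIso_inv_snd_snd j (c₀ (k i).1) l]
  infer_instance

end Groth.Agent.S0169
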