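import Groth.Statements.S0170
import Groth.Agent.EtThickSplit

set_option autoImplicit false
universe u
open CategoryTheory CategoryTheory.Limits AlgebraicGeometry Opposite
open EtPBC

namespace Groth.Agent.S0170

/-- For f : Y -> X quasi-finite and of finite presentation with X and Y affine, one can find an affine
X' mapping onto X such that the base change Y' = X' x_X Y contains a closed subscheme Z' with the
same underlying space (a thickening) for which the composite Z' -> Y' -> X' is finite etale. -/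
theorem result {Y X : Scheme.{u}} [IsAffine X] [IsAffine Y] (f : Y ⟶ X)
    [LocallyQuasiFinite f] [LocallyOfFinitePresentation f] :
    ∃ (X' : Scheme.{u}) (_ : IsAffine X') (a : X' ⟶ X) (_ : Surjective a) (Z' : Scheme.{u})
      (c : Z' ⟶ pullback a f) (_ : IsClosedImmersion c) (_ : Surjective c),
      IsFinite (c ≫ pullback.fst a f) ∧ Etale (c ≫ pullback.fst a f) := by
  classical
  let φ : Γ(X, ⊤) ⟶ Γ(Y, ⊤) := f.appTop
  algebraize [φ.hom]
  haveI : Algebra.FinitePresentation Γ(X, ⊤) Γ(Y, ⊤) :=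
    (HasRingHomProperty.iff_of_isAffine (P := @LocallyOfFinitePresentation)).1 ‹_›
  haveI : Algebra.QuasiFinite Γ(X, ⊤) Γ(Y, ⊤) :=
    (HasRingHomProperty.iff_of_isAffine (P := @LocallyQuasiFinite)).1 ‹_›
  let K : PrimeSpectrum Γ(X, ⊤) → Type u := fun P => AlgebraicClosure P.asIdeal.ResidueField
  let A' : Type u := ∀ P, K P
  let B : Type u := TensorProduct Γ(X, ⊤) A' Γ(Y, ⊤)
  obtain ⟨hfin, het⟩ := Groth.Agent.EtThickSplit.finite_etale (A := A') (B := B)
    (Groth.Agent.EtThickSplit.pi_vonNeumann K) (fun p _ => Groth.Agent.EtThickSplit.pi_isAlgClosed K p)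
  let m₁ := Spec.map (CommRingCat.ofHom (algebraMap Γ(X, ⊤) A'))
  let m₂ := Spec.map (CommRingCat.ofHom (algebraMap Γ(X, ⊤) Γ(Y, ⊤)))
  let a : Spec (CommRingCat.of A') ⟶ X := m₁ ≫ X.isoSpec.inv
  have hnat : m₂ ≫ X.isoSpec.inv = Y.isoSpec.inv ≫ f := Scheme.isoSpec_inv_naturality f
  haveI : Surjective m₁ := ⟨fun (x : PrimeSpectrum Γ(X, ⊤)) => ⟨PrimeSpectrum.comap (Pi.evalRingHom K x) ⟨⊥, Ideal.isPrime_bot⟩,
    PrimeSpectrum.ext (by
      show Ideal.comap (algebraMap Γ(X, ⊤) A') (Ideal.comap (Pi.evalRingHom K x) ⊥) = x.asIdeal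
      rw [Ideal.comap_comap]
      show RingHom.ker (algebraMap Γ(X, ⊤) (K x)) = _
      rw [IsScalarTower.algebraMap_eq Γ(X, ⊤) x.asIdeal.ResidueField (K x), RingHom.ker_comp_of_injective _ (RingHom.injective _)]
      exact x.asIdeal.ker_algebraMap_residueField)⟩⟩
  let e : pullback m₁ m₂ ⟶ pullback a f :=
    pullback.map m₁ m₂ a f (𝟙 _) Y.isoSpec.inv X.isoSpec.inv (by simp [a]) hnat
  let c : Spec (CommRingCat.of (B ⧸ nilradical B)) ⟶ pullback a f :=
    Spec.map (CommRingCat.ofHom (R := B) (S := B ⧸ nilradical B) (Ideal.Quotient.mk (nilradical B))) ≫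
      (pullbackSpecIso Γ(X, ⊤) A' Γ(Y, ⊤)).inv ≫ e
  haveI : Surjective (Spec.map (CommRingCat.ofHom (R := B) (S := B ⧸ nilradical B) (Ideal.Quotient.mk (nilradical B)))) := ⟨fun (x : PrimeSpectrum B) => by
    have : x ∈ PrimeSpectrum.zeroLocus (nilradical B : Set B) := fun z hz => nilradical_le_prime x.asIdeal hz
    rw [← Ideal.mk_ker (I := nilradical B), ← range_comap_of_surjective _ _ Ideal.Quotient.mk_surjective] at this
    exact this⟩
  haveI : IsClosedImmersion (Spec.map (CommRingCat.ofHom (R := B) (S := B ⧸ nilradical B) (Ideal.Quotient.mk (nilradical B)))) :=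
    IsClosedImmersion.spec_of_surjective _ Ideal.Quotient.mk_surjective
  have hc : c ≫ pullback.fst a f = Spec.map (CommRingCat.ofHom (algebraMap A' (B ⧸ nilradical B))) := by
    simp only [c, e, Category.assoc, pullback.lift_fst, Category.comp_id]
    rw [pullbackSpecIso_inv_fst', ← Spec.map_comp]
    rfl
  refine ⟨_, inferInstance, a, inferInstance, _, c, inferInstance, inferInstance, ?_, ?_⟩
  · rw [hc]
    exact (IsFinite.SpecMap_iff _).2 hfin
  · rw [hc]
    exact (HasRingHomProperty.Spec_iff (P := @Etale)).2 het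

end Groth.Agent.S0170
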