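import Groth.Statements.S0174
import Groth.Agent.EtPBC.AffineLefRel

set_option autoImplicit false
universe u
open CategoryTheory CategoryTheory.Limits AlgebraicGeometry Opposite
open EtPBC

namespace Groth.Agent.S0174

/-- Let K be a field, X and Y K-schemes of finite type, f : X → Y an affine morphism over K, and F a
torsion abelian sheaf on X_ét whose support consists of points of transcendence degree at most a
over K. Then R^q f_* F is supported on points of transcendence degree at most a − q over K.
Formally, for natural numbers a, q, b with q + b = a, the conclusion is that the support of R^q f_*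
F lies in points of transcendence degree at most b; the case q > a, where the published statement
gives empty support, is not covered. -/
theorem result (K : Type u) [Field K] {X Y : Scheme.{u}} (aX : X ⟶ Spec (CommRingCat.of K))
    (aY : Y ⟶ Spec (CommRingCat.of K)) [LocallyOfFiniteType aX] [QuasiCompact aX]
    [LocallyOfFiniteType aY] [QuasiCompact aY] (f : X ⟶ Y) (w : f ≫ aY = aX) [IsAffineHom f] [EtCoh.BCCont f]
    (a q b : ℕ) (hqb : q + b = a)
    (F : EtCoh.Ab X) (hF : EtCoh.IsTorsion F) (hsupp : ∀ x ∈ EtPBC.supp F, EtPBC.ResTrdegLE aX x a) :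
    ∀ y ∈ EtPBC.supp ((EtCoh.Rpush f q).obj F), EtPBC.ResTrdegLE aY y b := by
  intro y hy
  rw [Groth.Agent.EtPBC.resDim_iff]
  by_contra hb
  have h0 : ∀ x, ¬ Groth.Agent.EtPBC.ResDim aX x a → Groth.Agent.EtPBC.ZeroAt F x := fun x hx =>
    Groth.Agent.EtPBC.zeroAt_of_notMem_supp F fun h => hx ((Groth.Agent.EtPBC.resDim_iff aX x a).1 (hsupp x h))
  obtain ⟨Ω, _, _, ξ, hξ, hne⟩ := hy
  refine hne ((Groth.Agent.EtPBC.isZero_stalk_iff_zeroAt
    (Set.eq_singleton_iff_unique_mem.1 hξ |>.2 _ ⟨default, rfl⟩) _).2 ?_)
  rcases Nat.eq_zero_or_pos q with rfl | hq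
  · obtain rfl : b = a := by omega
    exact Groth.Agent.EtPBC.zeroAt_Rpush_zero aX aY f w F h0 y hb
  · refine Groth.Agent.EtPBC.zeroAt_Rpush_affine aX aY f w F hF h0 y (Or.inr ⟨hq, by omega, ?_⟩)
    rwa [show a - q = b by omega]

end Groth.Agent.S0174
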