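import Groth.Statements.S0175
import Groth.Agent.EtPushStalk.UnivInj
import Groth.Agent.EtPushStalk.Lift
-- import your own Groth.Agent.* helpers here

set_option autoImplicit false
universe u
open CategoryTheory CategoryTheory.Limits AlgebraicGeometry Opposite
open EtPBC

namespace Groth.Agent.S0175

/-- Let i : Z → X be a closed immersion of schemes with open complement j : U → X, and I an injective
abelian sheaf on X_ét. Then the subsheaf H_Z(I) of sections supported on Z (the kernel of I → j_*
j^* I), viewed on Z_ét via i^*, is an injective abelian sheaf on Z_ét. -/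
theorem result {Z X U : Scheme.{u}} (i : Z ⟶ X) [IsClosedImmersion i]
    (j : U ⟶ X) [IsOpenImmersion j] (hZU : Set.range j = (Set.range i)ᶜ)
    [EtCoh.BCCont i] [EtCoh.BCCont j] (I : EtCoh.Ab X) [Injective I] :
    Injective ((EtCoh.pull i).obj (kernel ((EtCoh.pullPushAdj j).unit.app I))) := by
  let η := (EtCoh.pullPushAdj j).unit.app I
  let K := kernel η
  haveI hji : ∀ G : EtCoh.Ab U, IsIso ((EtCoh.pullPushAdj j).counit.app G) :=
    EtPushStalk.isIso_counit j (EtPushStalk.liftProp_of_openImmersion j)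
  have hU : ∀ (Ω : Type u) [Field Ω] (ξ : Spec (CommRingCat.of Ω) ⟶ X),
      ξ (default : Spec (CommRingCat.of Ω)) ∉ Set.range i → Set.range ξ ⊆ Set.range j := by
    intro Ω _ ξ h
    rintro _ ⟨z, rfl⟩
    rw [hZU, Subsingleton.elim (α := Spec (CommRingCat.of Ω)) z default]
    exact h
  have hK : ∀ (Ω : Type u) [Field Ω] [IsSepClosed Ω] (ξ : Spec (CommRingCat.of Ω) ⟶ X),
      ξ (default : Spec (CommRingCat.of Ω)) ∉ Set.range i → IsZero ((EtCoh.stalk ξ).obj K) := by
    intro Ω _ _ ξ h
    let ζ := IsOpenImmersion.lift j ξ (hU Ω ξ h)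
    have hζ : ζ ≫ j = ξ := IsOpenImmersion.lift_fac _ _ _
    rw [← hζ]
    have h1 : IsIso ((EtCoh.pull j).map η) := by
      have h2 := (EtCoh.pullPushAdj j).left_triangle_components I
      haveI : IsIso ((EtCoh.pull j).map η ≫ (EtCoh.pullPushAdj j).counit.app ((EtCoh.pull j).obj I)) := by
        rw [h2]; exact IsIso.id _
      exact IsIso.of_isIso_comp_right _ ((EtCoh.pullPushAdj j).counit.app ((EtCoh.pull j).obj I))
    haveI : IsIso ((EtCoh.stalk (ζ ≫ j)).map η) :=
      (NatIso.isIso_map_iff (EtStalk.stalkPullIso j ζ) _).mpr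
        (inferInstanceAs (IsIso ((EtCoh.stalk ζ).map ((EtCoh.pull j).map η))))
    haveI : Mono ((EtCoh.stalk (ζ ≫ j)).map (kernel.ι η)) := (AddCommGrpCat.mono_iff_injective _).2
      ((EtStalk.mono_iff (kernel.ι η)).1 inferInstance Ω (ζ ≫ j))
    have h0 : (EtCoh.stalk (ζ ≫ j)).map (kernel.ι η) = 0 := by
      rw [← cancel_mono ((EtCoh.stalk (ζ ≫ j)).map η), ← Functor.map_comp, kernel.condition, zero_comp, Functor.map_zero]
    exact IsZero.of_mono_eq_zero _ h0
  haveI hu : IsIso ((EtCoh.pullPushAdj i).unit.app K) := by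
    haveI : (EtCoh.push i).Full := (EtPushStalk.push_fullyFaithful i (EtPushStalk.liftProp_of_closedImmersion i)).1
    haveI : (EtCoh.push i).Faithful := (EtPushStalk.push_fullyFaithful i (EtPushStalk.liftProp_of_closedImmersion i)).2
    exact (EtCoh.pullPushAdj i).isIso_unit_app_iff_mem_essImage.2
      ((EtPushStalk.essImage_closedImmersion i K).2 hK)
  refine ⟨fun {A B} f a _ => ?_⟩
  haveI : IsIso ((EtCoh.pullPushAdj i).counit.app A) := EtPushStalk.isIso_counit i (EtPushStalk.liftProp_of_closedImmersion i) A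
  haveI : IsIso ((EtCoh.pullPushAdj i).counit.app B) := EtPushStalk.isIso_counit i (EtPushStalk.liftProp_of_closedImmersion i) B
  haveI : (EtCoh.push i).IsRightAdjoint := (EtCoh.pullPushAdj i).isRightAdjoint
  let f' : (EtCoh.push i).obj A ⟶ K := (EtCoh.push i).map f ≫ inv ((EtCoh.pullPushAdj i).unit.app K)
  let g : (EtCoh.push i).obj B ⟶ I := Injective.factorThru (f' ≫ kernel.ι η) ((EtCoh.push i).map a)
  have hg : g ≫ η = 0 := by
    have hn := (EtCoh.pullPushAdj j).unit.naturality g
    have hz : IsZero ((EtCoh.pull j).obj ((EtCoh.push i).obj B)) := by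
      rw [IsZero.iff_id_eq_zero]
      haveI : Mono (0 : (EtCoh.pull j).obj ((EtCoh.push i).obj B) ⟶ (EtCoh.pull j).obj ((EtCoh.push i).obj B)) := by
        refine (EtStalk.mono_iff _).2 fun Ω _ _ ζ => ?_
        have hd : Disjoint (Set.range (ζ ≫ j)) (Set.range i) := by
          rw [Set.disjoint_left]
          rintro _ ⟨z, rfl⟩ hz'
          have : (ζ ≫ j) z ∈ Set.range j := ⟨ζ z, rfl⟩
          rw [hZU] at this
          exact this hz'
        have := (EtStalk.isZero_stalk_push i B (ζ ≫ j) hd).of_iso ((EtStalk.stalkPullIso j ζ).app _).symm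
        rw [AddCommGrpCat.isZero_iff_subsingleton] at this
        exact fun x y _ => this.elim x y
      rw [← cancel_mono (0 : (EtCoh.pull j).obj ((EtCoh.push i).obj B) ⟶ (EtCoh.pull j).obj ((EtCoh.push i).obj B))]
      simp
    refine (hn : g ≫ η = _).trans ?_
    show (EtCoh.pullPushAdj j).unit.app ((EtCoh.push i).obj B) ≫ (EtCoh.push j).map ((EtCoh.pull j).map g) = 0
    haveI : (EtCoh.push j).IsRightAdjoint := (EtCoh.pullPushAdj j).isRightAdjoint
    haveI : (EtCoh.push j).Additive := Functor.additive_of_preserves_binary_products _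
    rw [hz.eq_of_src ((EtCoh.pull j).map g) 0, Functor.map_zero, comp_zero]
  let k : (EtCoh.push i).obj B ⟶ K := kernel.lift η g hg
  refine ⟨inv ((EtCoh.pullPushAdj i).counit.app B) ≫ (EtCoh.pull i).map k, ?_⟩
  have hk : (EtCoh.push i).map a ≫ k = f' := by
    rw [← cancel_mono (kernel.ι η), Category.assoc, kernel.lift_ι, Injective.comp_factorThru]
  rw [← cancel_epi ((EtCoh.pullPushAdj i).counit.app A), ← Category.assoc, ← Category.assoc]
  have hn : (EtCoh.pull i).map ((EtCoh.push i).map a) ≫ (EtCoh.pullPushAdj i).counit.app B = (EtCoh.pullPushAdj i).counit.app A ≫ a :=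
    (EtCoh.pullPushAdj i).counit.naturality a
  rw [← hn, Category.assoc _ ((EtCoh.pullPushAdj i).counit.app B), IsIso.hom_inv_id, Category.comp_id, ← Functor.map_comp, hk]
  have ht : (EtCoh.pull i).map ((EtCoh.pullPushAdj i).unit.app K) ≫ (EtCoh.pullPushAdj i).counit.app ((EtCoh.pull i).obj K) = 𝟙 _ :=
    (EtCoh.pullPushAdj i).left_triangle_components K
  rw [Functor.map_comp, Functor.map_inv, IsIso.inv_eq_of_hom_inv_id ht]
  exact (EtCoh.pullPushAdj i).counit.naturality f

end Groth.Agent.S0175
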