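import Groth.Statements.S0179
import Groth.Agent.WLocalPi0.Basic
import Groth.Agent.S7566

set_option autoImplicit false
universe u
open EtPBC

set_option backward.isDefEq.respectTransparency false

namespace Groth.Agent.S0179

/-- For a spectral space X with set of closed points X_0, the following are equivalent: (1) any open
cover of X admits a refinement by finitely many pairwise disjoint open-and-closed pieces; (2) the
map from X_0 to the space of connected components pi_0(X) is a bijection. -/
theorem result (X : Type u) [TopologicalSpace X] [SpectralSpace X] :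
    (∀ (ι : Type u) (U : ι → Set X), (∀ i, IsOpen (U i)) → (⋃ i, U i) = Set.univ →
      ∃ (n : ℕ) (V : Fin n → Set X), (∀ k, IsClopen (V k)) ∧
        Pairwise (fun k l => Disjoint (V k) (V l)) ∧ (⋃ k, V k) = Set.univ ∧ ∀ k, ∃ i, V k ⊆ U i) ↔
    Function.Bijective (fun x : {x : X // IsClosed ({x} : Set X)} => _root_.ConnectedComponents.mk x.1) := by
  constructor
  · intro h
    refine ⟨fun n n' e => ?_, fun c => ?_⟩
    · by_contra hne
      have hne' : n.1 ≠ n'.1 := fun e' => hne (Subtype.ext e')
      obtain ⟨m, V, hV, -, hcov, href⟩ := h (ULift.{u} Bool) (fun b => if b.down then {n.1}ᶜ else {n'.1}ᶜ)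
        (fun b => by split <;> first | exact n.2.isOpen_compl | exact n'.2.isOpen_compl)
        (Set.eq_univ_of_forall fun x => by
          by_cases hx : x = n.1
          · exact Set.mem_iUnion.mpr ⟨⟨false⟩, fun hx' => hne' (hx.symm.trans hx')⟩
          · exact Set.mem_iUnion.mpr ⟨⟨true⟩, hx⟩)
      obtain ⟨k, hk⟩ := Set.mem_iUnion.mp (hcov.ge (Set.mem_univ n.1))
      obtain ⟨b, hb⟩ := href k
      have hk' : n'.1 ∈ V k := (hV k).connectedComponent_subset hk (ConnectedComponents.coe_eq_coe'.mp e.symm)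
      obtain ⟨b⟩ := b
      cases b
      · exact hb hk' rfl
      · exact hb hk rfl
    · obtain ⟨x, rfl⟩ := ConnectedComponents.surjective_coe c
      obtain ⟨y, hy, hyc⟩ := (isClosed_connectedComponent (x := x)).exists_closed_singleton ⟨x, mem_connectedComponent⟩
      exact ⟨⟨y, hyc⟩, ConnectedComponents.coe_eq_coe'.mpr hy⟩
  · intro hbij ι U hU hcov
    have key : ∀ x : X, ∃ W : Set X, IsClopen W ∧ x ∈ W ∧ ∃ i, W ⊆ U i := by
      intro x
      obtain ⟨n, hn⟩ := hbij.2 (ConnectedComponents.mk x)
      obtain ⟨i, hi⟩ := Set.mem_iUnion.mp (hcov.ge (Set.mem_univ n.1))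
      have hsub : connectedComponent n.1 ⊆ U i := by
        intro y hy
        obtain ⟨z, hz, hzc⟩ := (isClosed_closure (s := {y})).exists_closed_singleton ⟨y, subset_closure rfl⟩
        have hzn : z ∈ connectedComponent n.1 :=
          (closure_minimal (Set.singleton_subset_iff.mpr hy) isClosed_connectedComponent) hz
        have e : (⟨z, hzc⟩ : {x : X // IsClosed ({x} : Set X)}) = n :=
          hbij.1 (ConnectedComponents.coe_eq_coe'.mpr hzn)
        exact (specializes_iff_mem_closure.mpr hz).mem_open (hU i) (by rw [show z = n.1 from congrArg Subtype.val e]; exact hi)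
      rw [Groth.Agent.S7566.result n.1, Set.sInter_eq_iInter] at hsub
      obtain ⟨t, ht⟩ := isCompact_univ.inter_right (hU i).isClosed_compl |>.elim_finite_subfamily_closed
        (fun W : {Z : Set X // IsClopen Z ∧ n.1 ∈ Z} => W.1) (fun W => W.2.1.isClosed) (by
          rw [Set.eq_empty_iff_forall_notMem]
          rintro y ⟨⟨-, hyU⟩, hy⟩
          exact hyU (hsub hy))
      refine ⟨⋂ W ∈ t, W.1, isClopen_biInter_finset fun W _ => W.2.1, ?_, i, fun y hy => ?_⟩
      · refine Set.mem_iInter₂.mpr fun W _ => W.2.1.connectedComponent_subset W.2.2 ?_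
        exact ConnectedComponents.coe_eq_coe'.mp hn.symm
      · by_contra hyU
        exact (ht.le ⟨⟨Set.mem_univ y, hyU⟩, hy⟩ : y ∈ (∅ : Set X))
    choose W hW hxW hWU using key
    obtain ⟨t, ht⟩ := isCompact_univ.elim_finite_subcover W (fun x => (hW x).isOpen)
      fun x _ => Set.mem_iUnion.mpr ⟨x, hxW x⟩
    classical
    let e := t.equivFin.symm
    let W' : Fin t.card → Set X := fun k => W (e k : X)
    let V : Fin t.card → Set X := fun k => W' k \ ⋃ j, ⋃ (_ : j < k), W' j
    have hdis : ∀ k l, k < l → Disjoint (V k) (V l) := fun k l hkl =>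
      Set.disjoint_left.mpr fun x hxk hxl => hxl.2 (Set.mem_iUnion₂.mpr ⟨k, hkl, hxk.1⟩)
    refine ⟨t.card, V, fun k => (hW _).diff (isClopen_iUnion_of_finite fun j => isClopen_iUnion_of_finite fun _ => hW _),
      fun k l hkl => ?_, Set.eq_univ_of_forall fun x => ?_, fun k => ?_⟩
    · rcases lt_or_gt_of_ne hkl with h | h
      · exact hdis k l h
      · exact (hdis l k h).symm
    · obtain ⟨y, hy, hxy⟩ := Set.mem_iUnion₂.mp (ht (Set.mem_univ x))
      have hne : (Finset.univ.filter fun k => x ∈ W' k).Nonempty :=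
        ⟨t.equivFin ⟨y, hy⟩, Finset.mem_filter.mpr ⟨Finset.mem_univ _, by simpa [W', e] using hxy⟩⟩
      refine Set.mem_iUnion.mpr ⟨_, (Finset.mem_filter.mp (Finset.min'_mem _ hne)).2, fun hx => ?_⟩
      obtain ⟨j, hj, hxj⟩ := Set.mem_iUnion₂.mp hx
      exact absurd (Finset.min'_le _ j (Finset.mem_filter.mpr ⟨Finset.mem_univ _, hxj⟩)) (not_le.mpr hj)
    · obtain ⟨i, hi⟩ := hWU (e k : X)
      exact ⟨i, Set.sdiff_subset.trans hi⟩

end Groth.Agent.S0179
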