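import Groth.Statements.S0180
import Groth.Agent.ConsTop.Basic

set_option autoImplicit false
universe u
open EtPBC

set_option backward.isDefEq.respectTransparency false

namespace Groth.Agent.S0180

/-- Final assertion: if X is spectral, the set X_0 of closed points is closed, and every point of X
specializes to exactly one closed point, then X_0 -> pi_0(X) is bijective (so X satisfies the
equivalent conditions of the lemma; such X are called w-local). -/
theorem result (X : Type u) [TopologicalSpace X]
    [SpectralSpace X] (h0 : IsClosed {x : X | IsClosed ({x} : Set X)})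
    (huniq : ∀ x : X, ∃! z : X, IsClosed ({z} : Set X) ∧ x ⤳ z) :
    Function.Bijective (fun x : {x : X // IsClosed ({x} : Set X)} => _root_.ConnectedComponents.mk x.1) := by
  refine ⟨?_, ?_⟩
  · -- injective
    choose π hπ hu using huniq
    have hpi : ∀ x : X, IsClosed ({x} : Set X) → π x = x := fun x hx ↦
      (hu x x ⟨hx, specializes_rfl⟩).symm
    have hsp : ∀ z w : X, z ⤳ w → π z = π w := fun z w h ↦
      (hu z (π w) ⟨(hπ w).1, h.trans (hπ w).2⟩).symm
    have hcl : ∀ K : Set X, @IsClosed X (constructibleTopology X) K →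
        (∀ z w : X, z ⤳ w → z ∈ K → w ∈ K) → IsClosed K := by
      intro K hK hst
      refine isClosed_of_closure_subset fun x hx ↦ ?_
      have hKc : @IsCompact X (constructibleTopology X) K :=
        @IsCompact.of_isClosed_subset X (constructibleTopology X) _ _
          (Groth.Agent.ConsTop.isCompact_cons isOpen_univ CompactSpace.isCompact_univ) hK
          (Set.subset_univ K)
      let ι := {W : Set X // IsOpen W ∧ IsCompact W ∧ x ∈ W}
      have hne : (K ∩ ⋂ i : ι, (i : Set X)).Nonempty := by
        refine @IsCompact.inter_iInter_nonempty X (constructibleTopology X) K ι hKc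
          (fun i ↦ (i : Set X)) (fun i ↦ ?_) fun t ↦ ?_
        · exact (@isOpen_compl_iff X _ (constructibleTopology X)).1
            (Groth.Agent.ConsTop.isOpen_compl_of_isCompact i.2.1 i.2.2.1)
        · have ho : IsOpen (⋂ i ∈ t, ((i : ι) : Set X)) := isOpen_biInter_finset fun i _ ↦ i.2.1
          obtain ⟨y, hy, hyK⟩ := mem_closure_iff.1 hx _ ho (Set.mem_iInter₂.2 fun i _ ↦ i.2.2.2)
          exact ⟨y, hyK, hy⟩
      obtain ⟨z, hzK, hz⟩ := hne
      refine hst z x ?_ hzK
      rw [specializes_iff_forall_open]
      intro U hU hxU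
      obtain ⟨W, ⟨hW, hWc⟩, hxW, hWU⟩ :=
        PrespectralSpace.isTopologicalBasis.exists_subset_of_mem_open hxU hU
      exact hWU (Set.mem_iInter.1 hz ⟨W, hW, hWc, hxW⟩)
    -- generalizations of a closed set of closed points are closed
    have hG : ∀ A : Set X, IsClosed A → (∀ a ∈ A, IsClosed ({a} : Set X)) →
        IsClosed (π ⁻¹' A) := by
      intro A hA hAp
      refine hcl _ ?_ fun z w h hz ↦ by
        simp only [Set.mem_preimage, ← hsp z w h] at hz ⊢; exact hz
      have e : π ⁻¹' A = ⋂ W ∈ {W : Set X | IsOpen W ∧ IsCompact W ∧ A ⊆ W}, W := by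
        ext z
        constructor
        · intro hz
          refine Set.mem_iInter₂.2 fun W hW ↦ ?_
          exact (hπ z).2.mem_open hW.1 (hW.2.2 hz)
        · intro hz
          by_contra hzA
          have hdis : A ⊆ (closure {z})ᶜ := by
            intro a ha haz
            refine hzA ?_
            show π z ∈ A
            rw [← hu z a ⟨hAp a ha, specializes_iff_mem_closure.2 haz⟩]
            exact ha
          obtain ⟨S, hS, hSe⟩ := PrespectralSpace.isTopologicalBasis.open_eq_sUnion
            (isClosed_closure (s := ({z} : Set X))).isOpen_compl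
          obtain ⟨T, hTS, hTf, hT⟩ := hA.isCompact.elim_finite_subcover_image
            (b := S) (c := fun W ↦ W) (fun W hW ↦ (hS hW).1)
            (by rw [← Set.sUnion_eq_biUnion, ← hSe]; exact hdis)
          have hzW : z ∈ ⋃ W ∈ T, W := Set.mem_iInter₂.1 hz (⋃ W ∈ T, W)
            ⟨isOpen_biUnion fun W hW ↦ (hS (hTS hW)).1,
              hTf.isCompact_biUnion fun W hW ↦ (hS (hTS hW)).2, hT⟩
          obtain ⟨W, hW, hzW⟩ := Set.mem_iUnion₂.1 hzW
          have : z ∈ (closure ({z} : Set X))ᶜ := by
            rw [hSe]; exact ⟨W, hTS hW, hzW⟩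
          exact this (subset_closure rfl)
      rw [e]
      refine @isClosed_biInter X _ (constructibleTopology X) _ _ fun W hW ↦ ?_
      exact (@isOpen_compl_iff X _ (constructibleTopology X)).1
        (Groth.Agent.ConsTop.isOpen_compl_of_isCompact hW.1 hW.2.1)
    rintro ⟨x, hx⟩ ⟨y, hy⟩ hxy
    refine Subtype.ext ?_
    by_contra hne
    obtain ⟨U, ⟨hU, hUc⟩, hxU, hyU⟩ :=
      PrespectralSpace.isTopologicalBasis.exists_subset_of_mem_open
        (show x ∈ ({y} : Set X)ᶜ from hne) hy.isOpen_compl
    let X₀ := {x : X | IsClosed ({x} : Set X)}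
    have hA : IsClosed (X₀ ∩ U) := by
      refine hcl _ ?_ fun z w h hz ↦ by
        have : w ∈ ({z} : Set X) := by
          rw [← hz.1.closure_eq]; exact h.mem_closure
        rw [Set.mem_singleton_iff.1 this]; exact hz
      refine @IsClosed.inter X _ _ (constructibleTopology X) ?_ ?_
      · exact (@isOpen_compl_iff X _ (constructibleTopology X)).1
          (Groth.Agent.ConsTop.isOpen_cons_of_isOpen h0.isOpen_compl)
      · exact (@isOpen_compl_iff X _ (constructibleTopology X)).1
          (Groth.Agent.ConsTop.isOpen_compl_of_isCompact hU hUc)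
    have hB : IsClosed (X₀ \ U) := h0.sdiff hU
    have h1 := hG _ hA fun a ha ↦ ha.1
    have h2 := hG _ hB fun a ha ↦ ha.1
    have hcompl : (π ⁻¹' (X₀ ∩ U))ᶜ = π ⁻¹' (X₀ \ U) := by
      ext z
      have := (hπ z).1
      simp [X₀, this]
    have hclopen : IsClopen (π ⁻¹' (X₀ ∩ U)) :=
      ⟨h1, by rw [← isClosed_compl_iff, hcompl]; exact h2⟩
    have hxm : x ∈ π ⁻¹' (X₀ ∩ U) := by
      show π x ∈ X₀ ∩ U
      rw [hpi x hx]; exact ⟨hx, hxU⟩
    have := hclopen.connectedComponent_subset hxm
      (show y ∈ connectedComponent x by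
        rw [ConnectedComponents.coe_eq_coe.1 hxy]; exact mem_connectedComponent)
    have hy' : π y ∈ X₀ ∩ U := this
    rw [hpi y hy] at hy'
    exact hyU hy'.2 rfl
  · intro c
    obtain ⟨x, rfl⟩ := ConnectedComponents.surjective_coe c
    obtain ⟨z, hz, -⟩ := huniq x
    refine ⟨⟨z, hz.1⟩, ConnectedComponents.coe_eq_coe.2 (connectedComponent_eq ?_)⟩
    exact (isPreconnected_singleton.closure).subset_connectedComponent hz.2.mem_closure
      (subset_closure rfl)

end Groth.Agent.S0180
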