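import Groth.Statements.S0183
import Groth.Agent.WContr.WLocalIndZar
import Groth.Agent.S0695

set_option autoImplicit false
set_option backward.isDefEq.respectTransparency false
set_option linter.style.haveILetI false
set_option maxHeartbeats 800000
set_option synthInstance.maxHeartbeats 200000
universe u
open CategoryTheory CategoryTheory.Limits AlgebraicGeometry Opposite
open EtPBC

namespace Groth.Agent.S0183

/-- Suppose A -> B identifies local rings (A_p -> B_q bijective for every prime q of B over p). Then B
can be enlarged along a faithfully flat ind-Zariski extension B' so that B' is already ind-Zariski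
over A; ind-Zariski means: a filtered colimit of local isomorphisms in the sense of Mathlib's
Algebra.IsLocalIso (Zariski-locally on the source a standard open immersion). -/
theorem result (A B : Type u) [CommRing A] [CommRing B] [Algebra A B]
    (h : EtPBC.IdentifiesLocalRings A B) :
    ∃ (B' : Type u) (_ : CommRing B') (_ : Algebra B B') (_ : Algebra A B') (_ : IsScalarTower A B B'),
      Module.FaithfullyFlat B B' ∧ EtPBC.IsIndZariski B B' ∧ EtPBC.IsIndZariski A B' := by
  obtain ⟨Bw, _, _, hff, hzar, hwl, -⟩ := Groth.Agent.S0695.result B
  letI : Algebra A Bw := ((algebraMap B Bw).comp (algebraMap A B)).toAlgebra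
  haveI : IsScalarTower A B Bw := IsScalarTower.of_algebraMap_eq fun _ => rfl
  refine ⟨Bw, inferInstance, inferInstance, inferInstance, inferInstance,
    hff, hzar, Groth.Agent.WContr.isIndZariski_of_identifiesLocalRings_of_isWLocal (fun q => ?_) hwl⟩
  have h2 := Groth.Agent.WContr.identifiesLocalRings hzar
  let r : PrimeSpectrum B := PrimeSpectrum.comap (algebraMap B Bw) q
  let I : Ideal A := r.asIdeal.comap (algebraMap A B)
  have e : Localization.localRingHom I q.asIdeal (algebraMap A Bw) rfl =
      (Localization.localRingHom r.asIdeal q.asIdeal (algebraMap B Bw) rfl).comp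
        (Localization.localRingHom I r.asIdeal (algebraMap A B) rfl) :=
    IsLocalization.ringHom_ext I.primeCompl (RingHom.ext fun a => by
      simp only [RingHom.comp_apply, Localization.localRingHom_to_map]
      rw [IsScalarTower.algebraMap_apply A B Bw])
  change Function.Bijective (Localization.localRingHom I q.asIdeal (algebraMap A Bw) rfl)
  rw [e, RingHom.coe_comp]
  exact (h2 q).comp (h r)

end Groth.Agent.S0183
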