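import Groth.Statements.S0184
import Groth.Agent.EtConsPush.AnyBase
-- import your own Groth.Agent.* helpers here

set_option autoImplicit false
set_option backward.isDefEq.respectTransparency false
set_option backward.isDefEq.respectTransparency.types false
universe u
open CategoryTheory CategoryTheory.Limits AlgebraicGeometry Opposite
open EtPBC

namespace Groth.Agent.S0184

/-- Let f : X → S be proper and locally of finite presentation, n > 0, and F a constructible abelian
sheaf on X_ét killed by n (a constructible sheaf of ℤ/n-modules). Then R^q f_* F is a constructible
abelian sheaf on S_ét for every q ≥ 0. (The published statement allows any left Noetherian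
ℤ/n-algebra as ring of coefficients and also treats sheaves of sets and of groups in degrees 0 and
1.) -/
theorem result {X S : Scheme.{u}} (f : X ⟶ S) [IsProper f]
    [LocallyOfFinitePresentation f] [EtCoh.BCCont f] (n : ℕ) (hn : 0 < n)
    (F : EtCoh.Ab X) (hF : EtPBC.IsConstructible F) (hFn : EtCoh.KilledBy n F) (q : ℕ) :
    EtPBC.IsConstructible ((EtCoh.Rpush f q).obj F) := by
  exact EtConsPush.isConstructible_Rpush_proper f hn F hF hFn q

end Groth.Agent.S0184

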