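import Groth.Statements.S0191
-- import your own Groth.Agent.* helpers here

set_option autoImplicit false
universe u v w
open scoped TensorProduct
open Curves TensorProduct

namespace Groth.Agent.S0191

/-- If K is a skew field with center k, every two-sided ideal of A ⊗ K is generated by the elements a ⊗
1 it contains. -/
theorem result (k : Type u) [Field k] (A : Type v) [Ring A] [Algebra k A]
    (K : Type w) [DivisionRing K] [Algebra k K] [Algebra.IsCentral k K]
    (I : TwoSidedIdeal (A ⊗[k] K)) :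
    I = TwoSidedIdeal.span ((fun a : A => a ⊗ₜ[k] (1 : K)) '' {a : A | a ⊗ₜ[k] (1 : K) ∈ I}) := by
  classical
  let J : TwoSidedIdeal (A ⊗[k] K) :=
    TwoSidedIdeal.span ((fun a : A => a ⊗ₜ[k] (1 : K)) '' {a : A | a ⊗ₜ[k] (1 : K) ∈ I})
  have hJI : J ≤ I := TwoSidedIdeal.span_le.mpr (by rintro _ ⟨a, ha, rfl⟩; exact ha)
  refine le_antisymm ?_ hJI
  let A₀ : Submodule k A :=
    { carrier := {a | a ⊗ₜ[k] (1 : K) ∈ I}
      zero_mem' := by simp only [Set.mem_setOf_eq, zero_tmul]; exact I.zero_mem
      add_mem' := fun {a b} ha hb => by simp only [Set.mem_setOf_eq, add_tmul]; exact I.add_mem ha hb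
      smul_mem' := fun r a ha => by
        have h := I.mul_mem_left (algebraMap k (A ⊗[k] K) r) _ ha
        rw [← Algebra.smul_def, TensorProduct.smul_tmul'] at h
        exact h }
  obtain ⟨C, hC⟩ := Submodule.exists_isCompl A₀
  let bC := Module.Basis.ofVectorSpace k C
  let T : _ → K → A ⊗[k] K := fun i d => (bC i : A) ⊗ₜ[k] d
  let Φ := fun c : Module.Basis.ofVectorSpaceIndex k C →₀ K => c.sum T
  have hT0 : ∀ i, T i 0 = 0 := fun i => tmul_zero _ _
  have hTadd : ∀ i a b, T i (a + b) = T i a + T i b := fun i a b => tmul_add _ _ _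
  have hΦadd : ∀ c c', Φ (c + c') = Φ c + Φ c' := fun c c' => Finsupp.sum_add_index' hT0 hTadd
  have hdec : ∀ x : A ⊗[k] K, ∃ y ∈ J, ∃ c, x = y + Φ c := by
    intro x
    induction x using TensorProduct.induction_on with
    | zero => exact ⟨0, J.zero_mem, 0, by simp [Φ]⟩
    | tmul a d =>
      obtain ⟨a₀, ha₀, a₁, ha₁, rfl⟩ := Submodule.mem_sup.mp
        (hC.sup_eq_top.ge (Submodule.mem_top (x := a)))
      refine ⟨a₀ ⊗ₜ[k] d, ?_, (bC.repr ⟨a₁, ha₁⟩).mapRange (fun r => r • d) (zero_smul k d), ?_⟩
      · have h : a₀ ⊗ₜ[k] (1 : K) ∈ J := TwoSidedIdeal.subset_span ⟨a₀, ha₀, rfl⟩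
        have := J.mul_mem_right _ ((1 : A) ⊗ₜ[k] d) h
        rwa [Algebra.TensorProduct.tmul_mul_tmul, mul_one, one_mul] at this
      · have h1 : (bC.repr ⟨a₁, ha₁⟩).sum (fun i r => r • (bC i : A)) = a₁ := by
          have := congrArg (C.subtype) (bC.linearCombination_repr ⟨a₁, ha₁⟩)
          rw [Finsupp.linearCombination_apply, map_finsuppSum] at this
          simpa only [map_smul, Submodule.subtype_apply] using this
        rw [add_tmul]
        congr 1
        simp only [Φ, Finsupp.sum_mapRange_index (h := T) hT0]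
        conv_lhs => rw [← h1]
        rw [Finsupp.sum, TensorProduct.sum_tmul, Finsupp.sum]
        exact Finset.sum_congr rfl fun i _ => TensorProduct.smul_tmul _ _ _
    | add x y hx hy =>
      obtain ⟨u, hu, c, rfl⟩ := hx
      obtain ⟨u', hu', c', rfl⟩ := hy
      exact ⟨u + u', J.add_mem hu hu', c + c', by rw [hΦadd]; abel⟩
  have hmap : ∀ (g : K → K) (hg : g 0 = 0) (c : Module.Basis.ofVectorSpaceIndex k C →₀ K), Φ (c.mapRange g hg) = c.sum fun i d => T i (g d) :=
    fun g hg c => Finsupp.sum_mapRange_index hT0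
  have key : ∀ (n : ℕ) c, c.support.card = n → Φ c ∈ I → c = 0 := by
    intro n
    induction n using Nat.strong_induction_on with
    | _ n ih =>
    intro c hn hc
    by_contra hne
    obtain ⟨i₀, hi₀⟩ := Finsupp.support_nonempty_iff.mpr hne
    have hci : c i₀ ≠ 0 := Finsupp.mem_support_iff.mp hi₀
    let c' := c.mapRange (fun d => (c i₀)⁻¹ * d) (mul_zero _)
    have hc' : Φ c' ∈ I := by
      have h := I.mul_mem_left ((1 : A) ⊗ₜ[k] (c i₀)⁻¹) _ hc
      simp only [c', hmap]
      simpa [Φ, T, Finsupp.mul_sum, Algebra.TensorProduct.tmul_mul_tmul] using h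
    have hc'i : c' i₀ = 1 := by simp [c', hci]
    have hcard : c'.support.card ≤ n := hn ▸ Finset.card_le_card Finsupp.support_mapRange
    have hcen : ∀ i, c' i ∈ Subalgebra.center k K := fun i => Subalgebra.mem_center_iff.mpr fun d => by
      let e := c'.mapRange (fun x => d * x - x * d) (by simp)
      have he : Φ e ∈ I := by
        have h := I.sub_mem (I.mul_mem_left ((1 : A) ⊗ₜ[k] d) _ hc')
          (I.mul_mem_right _ ((1 : A) ⊗ₜ[k] d) hc')
        simp only [e, hmap]
        simpa [Φ, T, Finsupp.mul_sum, Finsupp.sum_mul, ← Finsupp.sum_sub,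
          Algebra.TensorProduct.tmul_mul_tmul, tmul_sub] using h
      have hlt : e.support.card < n := by
        refine lt_of_lt_of_le (Finset.card_lt_card ⟨Finsupp.support_mapRange, fun hsub => ?_⟩) hcard
        have h1 := hsub (Finsupp.mem_support_iff.mpr (by rw [hc'i]; exact one_ne_zero))
        simp [e, hc'i] at h1
      have := DFunLike.congr_fun (ih _ hlt e rfl he) i
      simpa [e, sub_eq_zero] using this
    choose r hr using fun i => Algebra.mem_bot.1 (Algebra.IsCentral.out (K := k) (hcen i))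
    let a : A := c'.sum fun i _ => r i • (bC i : A)
    have hΦ : Φ c' = a ⊗ₜ[k] (1 : K) := by
      simp only [Φ, a, Finsupp.sum, TensorProduct.sum_tmul]
      refine Finset.sum_congr rfl fun i _ => ?_
      simp only [T]
      rw [TensorProduct.smul_tmul, ← Algebra.algebraMap_eq_smul_one, hr i]
    have ha : a = 0 := Submodule.disjoint_def.mp hC.disjoint a (show a ⊗ₜ[k] (1 : K) ∈ I from hΦ ▸ hc')
      (C.sum_mem fun i _ => C.smul_mem _ (bC i).2)
    have h0 : (c'.support.sum fun i => r i • bC i) = 0 := Subtype.ext (by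
      rw [ZeroMemClass.coe_zero, Submodule.coe_sum]
      exact ha)
    have hri := linearIndependent_iff'.mp bC.linearIndependent c'.support r h0 i₀
      (Finsupp.mem_support_iff.mpr (by rw [hc'i]; exact one_ne_zero))
    have := hr i₀
    rw [hri, map_zero, hc'i] at this
    exact one_ne_zero this.symm
  intro x hx
  obtain ⟨y, hy, c, rfl⟩ := hdec x
  have hc : Φ c ∈ I := by
    have := I.sub_mem hx (hJI hy)
    rwa [add_sub_cancel_left] at this
  rw [key _ c rfl hc]
  simp only [Φ, Finsupp.sum_zero_index, add_zero]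
  exact hy

end Groth.Agent.S0191
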