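import Groth.Statements.S0195
import Groth.Agent.CSALib.Separable

set_option autoImplicit false
universe u v w
open scoped TensorProduct
open Curves

namespace Groth.Agent.S0195

/-- A finite extension k' of k splits a finite central simple algebra A exactly when some algebra
similar to A contains k' with dim equal to [k':k]^2. Uses Mathlib's bundled CSA and Brauer
equivalence. -/
theorem result (k : Type u) [Field k] (A : CSA.{u, u} k)
    (k' : Type u) [Field k'] [Algebra k k'] [FiniteDimensional k k'] :
    Curves.Splits k A k' ↔ ∃ (B : CSA.{u, u} k) (_ : k' →ₐ[k] B), IsBrauerEquivalent A B ∧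
      Module.finrank k B = Module.finrank k k' ^ 2 := by
  have hA : Brauer.IsCSA k A := ⟨inferInstance, inferInstance, inferInstance⟩
  constructor
  · intro h
    obtain ⟨d, -, -, m, D, _, _, hm, hD, hd, ⟨eA⟩⟩ := Brauer.exists_index (k := k) hA
    have : NeZero m := ⟨hm.ne'⟩
    have hsD : Curves.Splits k D k' :=
      (CSALib.splits_matrix_iff hD m).mp (CSALib.splits_congr eA h)
    obtain ⟨j, hj, ⟨ι⟩⟩ := CSALib.exists_embedding hD hd hsD
    have : NeZero j := ⟨fun h0 => by
      rw [h0, mul_zero] at hj
      exact absurd hj Module.finrank_pos.ne'⟩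
    have hB := CSALib.isCSA_matrix hD j
    have := hB.central; have := hB.simple; have := hB.finite
    refine ⟨{ toAlgCat := AlgCat.of k (Matrix (Fin j) (Fin j) D)
              isCentral := hB.central, isSimple := hB.simple, fin_dim := hB.finite }, ι,
      ⟨j, m, NeZero.ne j, hm.ne', ⟨?_⟩⟩, ?_⟩
    · exact (eA.mapMatrix).trans <| (Matrix.compAlgEquiv (Fin j) (Fin m) D k).trans <|
        (Matrix.reindexAlgEquiv k D (Equiv.prodComm (Fin j) (Fin m))).trans
          (Matrix.compAlgEquiv (Fin m) (Fin j) D k).symm
    · show Module.finrank k (Matrix (Fin j) (Fin j) D) = _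
      rw [Module.finrank_matrix, Fintype.card_fin, hd, hj]
      ring
  · rintro ⟨B, ι, ⟨n, m, hn, hm, ⟨e⟩⟩, hdim⟩
    have hB : Brauer.IsCSA k B := ⟨inferInstance, inferInstance, inferInstance⟩
    have : NeZero n := ⟨hn⟩
    have : NeZero m := ⟨hm⟩
    exact (CSALib.splits_matrix_iff hA n).mp (CSALib.splits_congr e.symm
      ((CSALib.splits_matrix_iff hB m).mpr (CSALib.splits_of_subfield B hB k' ι hdim)))

end Groth.Agent.S0195
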