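import Groth.Statements.S0200
import Groth.Agent.Azumaya.Fibre

set_option autoImplicit false
universe u v w
open scoped TensorProduct
open Curves

namespace Groth.Agent.S0200

/-- A k-algebra is finite central simple exactly when its base change to the separable closure of k is a
matrix algebra of positive size. -/
theorem result (k : Type u) [Field k] (A : Type v) [Ring A] [Algebra k A] :
    (Algebra.IsCentral k A ∧ IsSimpleRing A ∧ FiniteDimensional k A) ↔
      Curves.Splits k A (SeparableClosure k) := by
  constructor
  · rintro ⟨h1, h2, h3⟩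
    have := Groth.Agent.Azumaya.isAzumaya_of_csa k A
    have : IsAzumaya (SeparableClosure k) (SeparableClosure k ⊗[k] A) :=
      Groth.Agent.Azumaya.isAzumaya_baseChange (R := k) (A := A) (SeparableClosure k)
    obtain ⟨_, _⟩ := Groth.Agent.Azumaya.csa_of_isAzumaya (SeparableClosure k) (SeparableClosure k ⊗[k] A)
    obtain ⟨n, hn, e⟩ :=
      Groth.Agent.Azumaya.matrix_of_isSepClosed (SeparableClosure k) (SeparableClosure k ⊗[k] A)
    exact ⟨n, hn.out, e⟩
  · rintro ⟨n, hn, ⟨e⟩⟩
    have : IsAzumaya k A :=
      Groth.Agent.Azumaya.isAzumaya_of_split (SeparableClosure k) n (Nat.pos_of_ne_zero hn) e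
    obtain ⟨h1, h2⟩ := Groth.Agent.Azumaya.csa_of_isAzumaya k A
    exact ⟨h1, h2, inferInstance⟩

end Groth.Agent.S0200
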