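import Groth.Statements.S0204
import Groth.Agent.EtPBC.AffineCurve

set_option autoImplicit false
universe u
open CategoryTheory CategoryTheory.Limits AlgebraicGeometry
open Curves

namespace Groth.Agent.S0204

/-- An affine finite type scheme of dimension at most one over an algebraically closed field has étale
cohomological dimension at most one for torsion abelian sheaves. -/
theorem result (k : Type u) [Field k] [IsAlgClosed k] (X : Scheme.{u}) [IsAffine X]
    (f : X ⟶ Spec (CommRingCat.of k)) [LocallyOfFiniteType f]
    (hdim : topologicalKrullDim X ≤ 1) : EtCoh.CohDimLE X 1 := by
  exact EtPBC.cohDimLE_affine_curve X f hdim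

end Groth.Agent.S0204
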