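import Groth.Statements.S0207
import Groth.Agent.EtPBC.ArtinSchreier
import Groth.Agent.EtPBC.CdPGaCompare
import Groth.Agent.S0469

set_option autoImplicit false
universe u
open CategoryTheory CategoryTheory.Limits AlgebraicGeometry
open Curves
set_option backward.isDefEq.respectTransparency false
set_option backward.isDefEq.respectTransparency.types false
attribute [local instance 100000] EtCoh.H._proof_1 Groth.Agent.EtMV.hext

namespace Groth.Agent.S0207

/-- On a quasi-compact quasi-separated scheme of dimension d on which the prime p is zero, étale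
cohomology with Z/p coefficients vanishes from degree d+2 on. -/
theorem result (p : ℕ) [Fact p.Prime] (S : Scheme.{u}) [CompactSpace S] [QuasiSeparatedSpace S]
    (hp : (p : Γ(S, ⊤)) = 0) (d : ℕ) (hd : topologicalKrullDim S = d) (q : ℕ) (hq : 2 + d ≤ q) :
    Subsingleton (EtCoh.H S (EtCoh.const S (ZMod p)) q) := by
  obtain ⟨r, rfl⟩ : ∃ r, q = r + 1 := ⟨q - 1, by omega⟩
  haveI : SpectralSpace S := {}
  have hGa : ∀ i, d < i → Subsingleton (EtCoh.H S (EtCoh.Ga S) i) := fun i hi => by
    obtain ⟨E, -⟩ := Groth.Agent.EtPBC.exists_gaEquiv S i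
    haveI : Subsingleton (Coh.HH S (Coh.structureModule S) i) :=
      @Groth.Agent.S0469.result S.toTopCat (inferInstanceAs (SpectralSpace ↥S)) d hd.le (Coh.toAb (Coh.structureModule S)) i hi
    exact E.toEquiv.subsingleton
  refine subsingleton_of_forall_eq 0 fun x => ?_
  obtain ⟨y, hy⟩ := Abelian.Ext.covariant_sequence_exact₁ (EtCoh.const S ℤ) (Groth.Agent.EtPBC.as_shortExact p hp) x
    (@Subsingleton.elim (EtCoh.H S (EtCoh.Ga S) (r + 1)) (hGa (r + 1) (by omega)) _ _)
    (n₀ := r) rfl
  rw [← hy, show y = 0 from @Subsingleton.elim (EtCoh.H S (EtCoh.Ga S) r) (hGa r (by omega)) _ _,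
    Abelian.Ext.zero_comp]

end Groth.Agent.S0207
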