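import Groth.Statements.S0218
import Mathlib

set_option autoImplicit false
universe u
open Curves

namespace Groth.Agent.S0218

/-- Over an algebraically closed field k, a commutative k-algebra with exactly two k-subalgebras is
isomorphic to k × k or to the dual numbers over k. -/
theorem result (k : Type u) [Field k] [IsAlgClosed k] (A : Type u) [CommRing A] [Algebra k A]
    (h : Nat.card (Subalgebra k A) = 2) :
    Nonempty (A ≃ₐ[k] (k × k)) ∨ Nonempty (A ≃ₐ[k] DualNumber k) := by
  classical
  obtain ⟨S₁, S₂, hne, huniv⟩ := Nat.card_eq_two_iff.1 h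
  have htwo : ∀ S : Subalgebra k A, S = ⊥ ∨ S = ⊤ := by
    haveI : Finite (Subalgebra k A) := Nat.finite_of_card_ne_zero (by rw [h]; norm_num)
    have hbt : (⊥ : Subalgebra k A) ≠ ⊤ := by
      intro e
      haveI : Subsingleton (Subalgebra k A) := subsingleton_of_bot_eq_top e
      exact hne (Subsingleton.elim _ _)
    intro S
    have hm : ∀ T : Subalgebra k A, T = S₁ ∨ T = S₂ := fun T => by
      simpa using (huniv.symm ▸ Set.mem_univ T : T ∈ ({S₁, S₂} : Set (Subalgebra k A)))
    rcases hm S with rfl | rfl <;> rcases hm ⊥ with h1 | h1 <;> rcases hm ⊤ with h2 | h2 <;>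
      first
        | exact Or.inl h1.symm
        | exact Or.inr h2.symm
        | exact absurd (h1.trans h2.symm) hbt
  have hbt : (⊥ : Subalgebra k A) ≠ ⊤ := fun e => by
    rcases htwo S₁ with h1 | h1 <;> rcases htwo S₂ with h2 | h2 <;>
      exact hne (by rw [h1, h2] <;> first | rfl | exact e | exact e.symm)
  haveI : Nontrivial A := by
    by_contra hA
    rw [not_nontrivial_iff_subsingleton] at hA
    exact hbt (SetLike.ext fun a => ⟨fun _ => trivial, fun _ => by
      rw [Subsingleton.elim a 0]; exact zero_mem _⟩)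
  -- some element is not a scalar
  obtain ⟨x, hx⟩ : ∃ x : A, x ∉ (⊥ : Subalgebra k A) := by
    by_contra hn
    push_neg at hn
    exact hbt (SetLike.ext fun a => ⟨fun _ => trivial, fun _ => hn a⟩)
  -- every proper nonzero ideal is a hyperplane complementary to the scalars
  have hideal : ∀ J : Ideal A, J ≠ ⊤ → J ≠ ⊥ → ∀ a : A, ∃ c : k, a - algebraMap k A c ∈ J := by
    intro J hJt hJb a
    let S : Subalgebra k A :=
      { carrier := {a | ∃ c : k, a - algebraMap k A c ∈ J}
        mul_mem' := by
          rintro a b ⟨c, hc⟩ ⟨d, hd⟩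
          refine ⟨c * d, ?_⟩
          have e : a * b - algebraMap k A (c * d) = (a - algebraMap k A c) * b + algebraMap k A c * (b - algebraMap k A d) := by
            rw [map_mul]; ring
          rw [e]
          exact J.add_mem (J.mul_mem_right _ hc) (J.mul_mem_left _ hd)
        add_mem' := by
          rintro a b ⟨c, hc⟩ ⟨d, hd⟩
          refine ⟨c + d, ?_⟩
          rw [map_add, add_sub_add_comm]
          exact J.add_mem hc hd
        algebraMap_mem' := fun c => ⟨c, by rw [sub_self]; exact J.zero_mem⟩ }
    rcases htwo S with hS | hS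
    · exfalso
      obtain ⟨m, hm, hm0⟩ := Submodule.exists_mem_ne_zero_of_ne_bot hJb
      have hmS : m ∈ S := ⟨0, by rw [map_zero, sub_zero]; exact hm⟩
      rw [hS, Algebra.mem_bot] at hmS
      obtain ⟨c, rfl⟩ := hmS
      have hc : c ≠ 0 := fun e => hm0 (by rw [e, map_zero])
      exact hJt (Ideal.eq_top_of_isUnit_mem _ hm ((isUnit_iff_ne_zero.2 hc).map (algebraMap k A)))
    · exact (show a ∈ S from hS ▸ trivial)
  have huniq : ∀ (J : Ideal A), J ≠ ⊤ → ∀ c d : k, algebraMap k A c - algebraMap k A d ∈ J → c = d := by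
    intro J hJ c d hcd
    by_contra hne'
    rw [← map_sub] at hcd
    exact hJ (Ideal.eq_top_of_isUnit_mem _ hcd ((isUnit_iff_ne_zero.2 (sub_ne_zero.2 hne')).map (algebraMap k A)))
  -- `A` is not a field
  have hnf : ¬ IsField A := by
    intro hf
    letI := hf.toField
    by_cases halg : IsIntegral k x
    · refine hx ?_
      haveI : Algebra.IsIntegral k (IntermediateField.adjoin k ({x} : Set A)) := by
        haveI := IntermediateField.adjoin.finiteDimensional halg
        exact Algebra.IsIntegral.of_finite k _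
      obtain ⟨c, hc⟩ := (IsAlgClosed.algebraMap_bijective_of_isIntegral (k := k)
        (K := IntermediateField.adjoin k ({x} : Set A))).2 ⟨x, IntermediateField.mem_adjoin_simple_self k x⟩
      exact Algebra.mem_bot.2 ⟨c, congrArg Subtype.val hc⟩
    · have htr : Function.Injective (Polynomial.aeval x : Polynomial k →ₐ[k] A) :=
        transcendental_iff_injective.1 (fun ha => halg ha.isIntegral)
      rcases htwo (Algebra.adjoin k {x ^ 2}) with h2 | h2
      · have hmem : x ^ 2 ∈ Algebra.adjoin k ({x ^ 2} : Set A) := Algebra.subset_adjoin rfl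
        rw [h2, Algebra.mem_bot] at hmem
        obtain ⟨c, hc⟩ := hmem
        have := htr (a₁ := Polynomial.X ^ 2) (a₂ := Polynomial.C c) (by simp [hc])
        have := congrArg Polynomial.natDegree this
        simp at this
      · have hmem : x ∈ Algebra.adjoin k ({x ^ 2} : Set A) := h2 ▸ trivial
        rw [Algebra.adjoin_singleton_eq_range_aeval] at hmem
        obtain ⟨p, hp⟩ := hmem
        have := htr (a₁ := p.comp (Polynomial.X ^ 2)) (a₂ := Polynomial.X)
          (by rw [Polynomial.aeval_comp, map_pow, Polynomial.aeval_X]; exact hp)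
        have := congrArg Polynomial.natDegree this
        simp [Polynomial.natDegree_comp] at this
  obtain ⟨M, hM0, hMt⟩ : ∃ M : Ideal A, ⊥ < M ∧ M < ⊤ := Ring.not_isField_iff_exists_ideal_bot_lt_and_lt_top.1 hnf
  obtain ⟨m, hm, hm0⟩ := Submodule.exists_mem_ne_zero_of_ne_bot hM0.ne'
  have hspan : Ideal.span {m} ≠ ⊤ ∧ Ideal.span {m} ≠ ⊥ :=
    ⟨fun e => hMt.ne (top_le_iff.1 (e ▸ (Ideal.span_singleton_le_iff_mem M).2 hm)),
      fun e => hm0 (Ideal.span_singleton_eq_bot.1 e)⟩
  have hdec := hideal _ hspan.1 hspan.2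
  by_cases hsq : m * m = 0
  · right
    have hkill : ∀ z : A, z ∈ Ideal.span {m} → ∃ c : k, z = algebraMap k A c * m := by
      intro z hz
      obtain ⟨a, rfl⟩ := Ideal.mem_span_singleton'.1 hz
      obtain ⟨c, hc⟩ := hdec a
      obtain ⟨b, hb⟩ := Ideal.mem_span_singleton'.1 hc
      exact ⟨c, by rw [show a = algebraMap k A c + b * m by rw [hb]; ring, add_mul, mul_assoc, hsq, mul_zero, add_zero]⟩
    let φ : DualNumber k →ₐ[k] A := DualNumber.lift ⟨⟨Algebra.ofId k A, m⟩, hsq, fun _ => Commute.all _ _⟩
    have hφ : ∀ z, φ z = algebraMap k A z.fst + algebraMap k A z.snd * m := fun z => by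
      simp [φ, DualNumber.lift_apply_apply, Algebra.ofId_apply]
    refine ⟨(AlgEquiv.ofBijective φ ⟨(injective_iff_map_eq_zero φ).2 fun z hz => ?_, fun a => ?_⟩).symm⟩
    · rw [hφ] at hz
      have h1 : z.fst = 0 := huniq _ hspan.1 _ _ (by
        rw [map_zero, sub_zero]
        have e : algebraMap k A z.fst = (-algebraMap k A z.snd) * m := by linear_combination hz
        rw [e]
        exact Ideal.mul_mem_left _ _ (Ideal.mem_span_singleton_self m))
      rw [h1, map_zero, zero_add] at hz
      have h2 : z.snd = 0 := by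
        by_contra hne'
        exact hm0 (((isUnit_iff_ne_zero.2 hne').map (algebraMap k A)).mul_right_eq_zero.1 hz)
      exact TrivSqZeroExt.ext h1 h2
    · obtain ⟨c, hc⟩ := hdec a
      obtain ⟨d, hd⟩ := hkill _ hc
      exact ⟨TrivSqZeroExt.inl c + TrivSqZeroExt.inr d, by rw [hφ]; simp; linear_combination -hd⟩
  · left
    have hlt : Ideal.span {m * m} ≠ ⊤ ∧ Ideal.span {m * m} ≠ ⊥ :=
      ⟨fun e => hspan.1 (top_le_iff.1 (e ▸ Ideal.span_singleton_le_span_singleton.2 (dvd_mul_right m m))),
        fun e => hsq (Ideal.span_singleton_eq_bot.1 e)⟩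
    obtain ⟨c, hc⟩ := hideal _ hlt.1 hlt.2 m
    have hc0 : c = 0 := huniq _ hspan.1 _ _ (by
      rw [map_zero, sub_zero]
      have h1 := Ideal.span_singleton_le_span_singleton.2 (dvd_mul_right m m) hc
      exact ((Ideal.span {m}).sub_mem_iff_right (Ideal.mem_span_singleton_self m)).1 h1)
    rw [hc0, map_zero, sub_zero] at hc
    obtain ⟨a, ha⟩ := Ideal.mem_span_singleton'.1 hc
    let e := a * m
    have hee : e * e = e := by show a * m * (a * m) = a * m; linear_combination a * ha
    have hem : e * m = m := by show a * m * m = m; linear_combination ha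
    have hidem : ∀ f : A, f * f = f → f ≠ 1 → Ideal.span {f} ≠ ⊤ := fun f hf hf1 ht => hf1 <| by
      have hu := Ideal.span_singleton_eq_top.1 ht
      exact (hu.mul_right_inj).1 (hf.trans (mul_one f).symm)
    have he1 : e ≠ 1 := fun e1 => hspan.1 (Ideal.eq_top_of_isUnit_mem _
      (Ideal.mem_span_singleton_self m) (IsUnit.of_mul_eq_one a (by rw [mul_comm]; exact e1)))
    have he0 : e ≠ 0 := fun e0 => hm0 (by rw [← hem, e0, zero_mul])
    have hd1 := hideal _ (hidem e hee he1) (fun hb => he0 (Ideal.span_singleton_eq_bot.1 hb))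
    have hf : (1 - e) * (1 - e) = 1 - e := by linear_combination hee
    have hf1 : 1 - e ≠ 1 := fun e' => he0 (by linear_combination -e')
    have hd2 := hideal _ (hidem _ hf hf1) (fun hb => he1 (by linear_combination -(Ideal.span_singleton_eq_bot.1 hb)))
    let φ : k × k →ₐ[k] A :=
      { toFun := fun p => algebraMap k A p.1 * (1 - e) + algebraMap k A p.2 * e
        map_one' := by simp
        map_zero' := by simp
        map_add' := fun p q => by simp; ring
        map_mul' := fun p q => by
          simp only [Prod.fst_mul, Prod.snd_mul, map_mul]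
          linear_combination (-(algebraMap k A p.1 * algebraMap k A q.1)) * hf +
            (-(algebraMap k A p.2 * algebraMap k A q.2)) * hee +
            (algebraMap k A p.1 * algebraMap k A q.2 + algebraMap k A p.2 * algebraMap k A q.1) * hee
        commutes' := fun r => by simp; ring }
    refine ⟨(AlgEquiv.ofBijective φ ⟨(injective_iff_map_eq_zero φ).2 fun p hp => ?_, fun z => ?_⟩).symm⟩
    · change algebraMap k A p.1 * (1 - e) + algebraMap k A p.2 * e = 0 at hp
      refine Prod.ext (huniq _ (hidem e hee he1) _ _ ?_) (huniq _ (hidem _ hf hf1) _ _ ?_) <;>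
        simp only [Prod.fst_zero, Prod.snd_zero, map_zero, sub_zero]
      · refine Ideal.mem_span_singleton'.2 ⟨algebraMap k A p.1 - algebraMap k A p.2, ?_⟩
        linear_combination -hp
      · refine Ideal.mem_span_singleton'.2 ⟨algebraMap k A p.2 - algebraMap k A p.1, ?_⟩
        linear_combination -hp
    · obtain ⟨c1, hc1⟩ := hd1 z
      obtain ⟨c2, hc2⟩ := hd2 z
      obtain ⟨u, hu⟩ := Ideal.mem_span_singleton'.1 hc1
      obtain ⟨v, hv⟩ := Ideal.mem_span_singleton'.1 hc2
      refine ⟨(c1, c2), ?_⟩
      show algebraMap k A c1 * (1 - e) + algebraMap k A c2 * e = z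
      linear_combination (1 - e) * hu + e * hv - (u + v) * (-1 : A) * hee

end Groth.Agent.S0218
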