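import Groth.Statements.S0222
import Groth.Agent.S0026
import Groth.Agent.S0458
import Groth.Agent.Lich.Compact
import Groth.Agent.CohFinite.Proper
import Groth.Agent.CohFinite.PushLinear
import Groth.Agent.CohFinite.Linear
import Groth.Agent.QC.Coherent
import Groth.Agent.NegTwist.Connected
import Groth.Agent.PnHodge.Seq

set_option autoImplicit false
universe u
open CategoryTheory CategoryTheory.Limits AlgebraicGeometry
open Curves

set_option backward.isDefEq.respectTransparency false
set_option backward.isDefEq.respectTransparency.types false

namespace Groth.Agent.S0222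

/-- For a separated scheme of finite type and dimension d over a field k and a coherent module F, the
top cohomology H^d(X, F) is finite-dimensional over k (no properness needed). -/
theorem result (k : Type u) [Field k] (X : Scheme.{u}) [X.Over (Spec (CommRingCat.of k))]
    [IsSeparated (X ↘ Spec (CommRingCat.of k))] [LocallyOfFiniteType (X ↘ Spec (CommRingCat.of k))]
    [QuasiCompact (X ↘ Spec (CommRingCat.of k))]
    (F : X.Modules) (hF : Coh.IsCoh F) (d : ℕ) (hd : topologicalKrullDim X = d) :
    Module.Finite k (Coh.HH X F d) := by
  haveI hn : IsNoetherian X := by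
    haveI : IsLocallyNoetherian X := LocallyOfFiniteType.isLocallyNoetherian (X ↘ Spec (CommRingCat.of k))
    haveI : CompactSpace X := QuasiCompact.compactSpace_of_compactSpace (X ↘ Spec (CommRingCat.of k))
    exact {}
  obtain ⟨m, G, φ, h0, ⟨em⟩, hc, hstep⟩ := Groth.Agent.S0026.result X F hF
  have key : ∀ j ≤ m, Module.Finite k (Coh.HH X (G j) d) := by
    intro j hj
    induction j with
    | zero =>
      haveI : Subsingleton (Coh.HH X (G 0) d) := Groth.Agent.PnHodge.subsingleton_hh_of_isZero h0 d
      infer_instance
    | succ j ih =>
      obtain ⟨hmono, Z, i, hi, hZ, I, ι, hι, hIq, -, ⟨e⟩⟩ := hstep j (Nat.lt_of_succ_le hj)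
      haveI := hmono; haveI := hi; haveI := hZ; haveI := hι
      letI : Z.Over (Spec (CommRingCat.of k)) := ⟨i ≫ (X ↘ Spec (CommRingCat.of k))⟩
      haveI : IsNoetherian Z := by
        haveI : IsLocallyNoetherian Z := LocallyOfFiniteType.isLocallyNoetherian i
        haveI : CompactSpace Z := QuasiCompact.compactSpace_of_compactSpace i
        exact {}
      haveI : I.IsQuasicoherent := hIq
      have hI : Coh.IsCoh I := Groth.Agent.QC.isCoh_of_mono ι Groth.Agent.NegTwist.isCoh_structureModule hIq
      have hle : topologicalKrullDim Z ≤ (d : WithBot ℕ∞) :=
        (Topology.IsInducing.topologicalKrullDim_le i.isClosedEmbedding.isInducing).trans hd.le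
      haveI hfin : Module.Finite k (Coh.HH Z I d) := by
        by_cases hp : IsProper (i ≫ (X ↘ Spec (CommRingCat.of k)))
        · haveI : IsProper (Z ↘ Spec (CommRingCat.of k)) := hp
          exact Groth.Agent.CohFinite.finite_proper (A := k) Z I hI d
        · haveI : Subsingleton (Coh.HH Z I d) := by
            rcases hle.lt_or_eq with hlt | heq
            · rcases d with _ | e
              · haveI : Nonempty (TopologicalSpace.IrreducibleCloseds Z) := ⟨⟨Set.univ, IrreducibleSpace.isIrreducible_univ _, isClosed_univ⟩⟩
                exact absurd hlt (not_lt.2 (by exact_mod_cast Order.krullDim_nonneg))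
              · have hle' : topologicalKrullDim Z ≤ (e : WithBot ℕ∞) := by
                  revert hlt
                  cases topologicalKrullDim Z with
                  | bot => intro _; exact bot_le
                  | coe x =>
                    intro hlt
                    have h1 : x < (e : ℕ∞) + 1 := by exact_mod_cast hlt
                    exact_mod_cast (ENat.lt_add_one_iff (ENat.coe_ne_top e)).1 h1
                exact Groth.Agent.S0458.result (X := Z.carrier) e hle' _ _ (Nat.lt_succ_self e)
            · exact Groth.Agent.Lich.subsingleton_hh_of_not_isProper Z _ I hI d heq hp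
          infer_instance
      haveI := ih (Nat.le_of_succ_le hj)
      haveI : Module.Finite k (Coh.HH X (CategoryTheory.Limits.cokernel (φ j)) d) := by
        haveI := (Groth.Agent.CohFinite.finite_push_iff k i rfl I (Groth.Agent.CohQC.directAcyclic_of_isAffineHom i I) d).1 hfin
        exact Module.Finite.equiv (Groth.Agent.CohFinite.hhEquiv k e.symm d)
      have hS : (CategoryTheory.ShortComplex.mk (φ j) (CategoryTheory.Limits.cokernel.π (φ j))
          (CategoryTheory.Limits.cokernel.condition (φ j))).ShortExact :=
        { exact := CategoryTheory.ShortComplex.exact_of_g_is_cokernel _ (CategoryTheory.Limits.cokernelIsCokernel (φ j)) }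
      exact Groth.Agent.CohFinite.finite_of_shortExact_mid (A := k) (S := CategoryTheory.ShortComplex.mk (φ j) (CategoryTheory.Limits.cokernel.π (φ j)) (CategoryTheory.Limits.cokernel.condition (φ j))) hS d
  haveI := key m le_rfl
  exact Module.Finite.equiv (Groth.Agent.CohFinite.hhEquiv k em d)

end Groth.Agent.S0222
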