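import Groth.Statements.S0226
import Groth.Agent.UFDLib.Basic

set_option autoImplicit false
universe u
open Curves

namespace Groth.Agent.S0226

/-- In a regular local ring of dimension two, an ideal inside the maximal ideal with reduced quotient is
zero, the maximal ideal, or principal. -/
theorem result (A : Type u) [CommRing A] [IsRegularLocalRing A] (hdim : ringKrullDim A = 2)
    (I : Ideal A) (hI : I ≤ IsLocalRing.maximalIdeal A) [IsReduced (A ⧸ I)] :
    I = ⊥ ∨ I = IsLocalRing.maximalIdeal A ∨ ∃ f ∈ IsLocalRing.maximalIdeal A, f ≠ 0 ∧ I = Ideal.span {f} := by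
  have : IsDomain A := Groth.Agent.RegLoc.isDomain A
  rcases eq_or_ne I ⊥ with rfl | hI0
  · exact Or.inl rfl
  rcases eq_or_ne I (IsLocalRing.maximalIdeal A) with hIm | hIm
  · exact Or.inr (Or.inl hIm)
  have hrad : I.IsRadical := (Ideal.isRadical_iff_quotient_reduced I).2 inferInstance
  have hmin : ∀ p ∈ I.minimalPrimes, p.IsPrincipal := fun p hp => by
    have := hp.1.1
    refine Groth.Agent.UFDLib.isPrincipal_of_ne_maximal hdim p fun h => hIm (le_antisymm hI ?_)
    intro a ha
    rw [← hrad.radical, ← Ideal.sInf_minimalPrimes]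
    refine Submodule.mem_sInf.2 fun q hq => ?_
    have := hq.1.1
    exact hp.2 ⟨hq.1.1, hq.1.2⟩ (h ▸ IsLocalRing.le_maximalIdeal this.ne_top) (h ▸ ha)
  obtain ⟨f, hf0, hf⟩ := Groth.Agent.UFDLib.isPrincipal_of_isRadical I hrad hI0 hmin
  exact Or.inr (Or.inr ⟨f, hI (hf ▸ Ideal.mem_span_singleton_self f), hf0, hf⟩)

end Groth.Agent.S0226
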