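import Groth.Statements.S0232
import Groth.Agent.LBDesc.SpecGamma
import Groth.Agent.CohFinite.AmpleFinite
import Mathlib

set_option autoImplicit false
universe u
open CategoryTheory CategoryTheory.Limits AlgebraicGeometry
open Curves

namespace Groth.Agent.S0232

/-- For a quasi-compact quasi-separated scheme X over a field k with finite-dimensional H^0(X, O_X), an
invertible module on X that becomes trivial after base change to a field extension k' is already
trivial (injectivity of Pic(X) → Pic(X_{k'}), stated on classes without a group structure). The base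
change is given as any pullback square. -/
theorem result (k : Type u) [Field k] (X : Scheme.{u}) [X.Over (Spec (CommRingCat.of k))]
    [CompactSpace X] [QuasiSeparatedSpace X]
    (hfin : Module.Finite k (Coh.HH X (Coh.structureModule X) 0))
    (k' : Type u) [Field k'] [Algebra k k'] (X' : Scheme.{u}) (g : X' ⟶ X) (q : X' ⟶ Spec (CommRingCat.of k'))
    (hpb : IsPullback g q (X ↘ Spec (CommRingCat.of k)) (Spec.map (CommRingCat.ofHom (algebraMap k k'))))
    (L : X.Modules) (hL : PicF.IsInvertible L) (htriv : PicF.IsTrivialCl (PicF.pullCl g (PicF.cl L))) :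
    PicF.IsTrivialCl (PicF.cl L) := by
  obtain ⟨M, hM⟩ : ∃ M : X.Modules, M = L := ⟨L, rfl⟩
  subst hM
  obtain ⟨e, he⟩ := CohFinite.exists_zero_equiv k (X := X) (Coh.structureModule X)
  letI : Algebra k Γ(X, ⊤) := (Coh.toGlobal (X ↘ Spec (CommRingCat.of k))).toAlgebra
  let e' : Coh.HH X (Coh.structureModule X) 0 →ₗ[k] Γ(X, ⊤) :=
    { toFun := fun x => e x, map_add' := e.map_add, map_smul' := fun a x => he a x }
  haveI : Module.Finite k Γ(X, ⊤) := Module.Finite.of_surjective e' e.surjective
  haveI : IsArtinianRing Γ(X, ⊤) := IsArtinianRing.of_finite k Γ(X, ⊤)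
  haveI : Flat (Spec.map (CommRingCat.ofHom (algebraMap k k'))) :=
    HasRingHomProperty.Spec_iff.2 (RingHom.flat_algebraMap_iff.2 inferInstance)
  haveI : Surjective (Spec.map (CommRingCat.ofHom (algebraMap k k'))) :=
    ⟨PrimeSpectrum.comap_surjective_of_faithfullyFlat⟩
  let g₀ := pullback.fst (X ↘ Spec (CommRingCat.of k)) (Spec.map (CommRingCat.ofHom (algebraMap k k')))
  obtain ⟨i⟩ := (PicGrp.cl_eq_cl_iff _ _).mp htriv
  let j : (Scheme.Modules.pullback g₀).obj M ≅ Coh.structureModule _ :=
    (Scheme.Modules.pullbackCongr (show g₀ = hpb.isoPullback.inv ≫ g from hpb.isoPullback_inv_fst.symm)).app M ≪≫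
      ((Scheme.Modules.pullbackComp _ g).app M).symm ≪≫
      (Scheme.Modules.pullback hpb.isoPullback.inv).mapIso i ≪≫ PicLoc.pullbackStructureIso _
  obtain ⟨t⟩ := LBDesc.nonempty_trivial_of_faithfullyFlat (X ↘ Spec (CommRingCat.of k)) _ hL ⟨j⟩
  exact Quot.sound ⟨t⟩

end Groth.Agent.S0232
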