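import Groth.Statements.S0237
import Groth.Agent.EtaleSections.Basic
import Mathlib.AlgebraicGeometry.Morphisms.UniversallyOpen

set_option autoImplicit false
universe u
open Pi1

namespace Groth.Agent.S0237

open AlgebraicGeometry CategoryTheory in
/-- If a morphism of schemes has dense image, pulling back finite etale covers along it is faithful. -/
theorem result {X Y : Scheme.{u}} (f : X ⟶ Y)
    (h : DenseRange f.base) : (FEt.restrict f).Faithful := by
  refine ⟨fun {A B} g k e => ?_⟩
  have : IsFinite B.hom := B.prop.1
  have : Etale B.hom := B.prop.2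
  have : Etale A.hom := A.prop.2
  have hπ : g.left ≫ B.hom = k.left ≫ B.hom := (MorphismProperty.Over.w g).trans (MorphismProperty.Over.w k).symm
  have h1 : Limits.pullback.fst A.hom f ≫ g.left = Limits.pullback.fst A.hom f ≫ k.left := by
    have := congrArg (fun m => m.left ≫ Limits.pullback.fst B.hom f) e
    simp only [FEt.restrict] at this
    change Limits.pullback.lift _ _ _ ≫ Limits.pullback.fst B.hom f = Limits.pullback.lift _ _ _ ≫ Limits.pullback.fst B.hom f at this
    erw [Limits.pullback.lift_fst, Limits.pullback.lift_fst] at this
    exact this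
  have hsub : A.hom ⁻¹' Set.range f.base ⊆ EtaleSections.eqLocus B.hom g.left k.left hπ := by
    rintro a ⟨x, hx⟩
    obtain ⟨z, hz, -⟩ := Scheme.Pullback.exists_preimage_pullback (f := A.hom) (g := f) a x hx.symm
    exact hz ▸ EtaleSections.range_subset_eqLocus _ _ _ _ _ h1 ⟨z, rfl⟩
  have hO : EtaleSections.eqLocus B.hom g.left k.left hπ = Set.univ := by
    refine Set.univ_subset_iff.mp ?_
    rw [← (EtaleSections.isClosed_eqLocus B.hom g.left k.left hπ).closure_eq]
    refine le_trans ?_ (closure_mono hsub)
    rw [← A.hom.isOpenMap.preimage_closure_eq_closure_preimage A.hom.continuous,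
      show closure (Set.range f.base) = Set.univ from h.closure_range, Set.preimage_univ]
  exact MorphismProperty.Over.Hom.ext (EtaleSections.eq_of_eqLocus_eq_univ B.hom g.left k.left hπ hO)

end Groth.Agent.S0237
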