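import Groth.Statements.S0243
-- import your own Groth.Agent.* helpers here
import Groth.Agent.EtaleSections.Basic

set_option autoImplicit false
universe u
open Pi1

namespace Groth.Agent.S0243

open AlgebraicGeometry CategoryTheory CategoryTheory.Limits in
/-- If a closed subscheme meets every connected component of the ambient scheme, restricting finite
etale covers to it is a faithful functor. -/
theorem result {X Y : Scheme.{u}} (i : Y ⟶ X) [IsClosedImmersion i]
    (h : ∀ x : X, (connectedComponent x ∩ Set.range i.base).Nonempty) :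
    (FEt.restrict i).Faithful := by
  refine ⟨fun {A B} {u v} e => MorphismProperty.Over.Hom.ext ?_⟩
  haveI : IsFinite A.hom := A.prop.1
  haveI : Etale A.hom := A.prop.2
  haveI : IsFinite B.hom := B.prop.1
  haveI : Etale B.hom := B.prop.2
  have huv : u.left ≫ B.hom = v.left ≫ B.hom :=
    (MorphismProperty.Over.w u).trans (MorphismProperty.Over.w v).symm
  have hfst : pullback.fst A.hom i ≫ u.left = pullback.fst A.hom i ≫ v.left := by
    have h1 : ((FEt.restrict i).map u).left ≫ pullback.fst B.hom i = pullback.fst A.hom i ≫ u.left :=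
      pullback.lift_fst _ _ _
    have h2 : ((FEt.restrict i).map v).left ≫ pullback.fst B.hom i = pullback.fst A.hom i ≫ v.left :=
      pullback.lift_fst _ _ _
    rw [← h1, ← h2, e]
  have hsub := Groth.Agent.EtaleSections.range_subset_eqLocus B.hom u.left v.left huv _ hfst
  refine Groth.Agent.EtaleSections.eq_of_eqLocus_eq_univ B.hom u.left v.left huv (Set.eq_univ_of_forall fun z => ?_)
  by_contra hz
  have himg : IsClopen (A.hom '' (Groth.Agent.EtaleSections.eqLocus B.hom u.left v.left huv)ᶜ) :=
    ⟨A.hom.isClosedMap _ (Groth.Agent.EtaleSections.isOpen_eqLocus _ _ _ huv).isClosed_compl,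
      A.hom.isOpenMap _ (Groth.Agent.EtaleSections.isClosed_eqLocus _ _ _ huv).isOpen_compl⟩
  obtain ⟨w, hw, y, rfl⟩ := h (A.hom z)
  obtain ⟨a, ha, hay⟩ := himg.connectedComponent_subset ⟨z, hz, rfl⟩ hw
  obtain ⟨t, ht, -⟩ := Scheme.Pullback.exists_preimage_pullback (f := A.hom) (g := i) a y hay
  exact ha (hsub ⟨t, ht⟩)

end Groth.Agent.S0243
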