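import Groth.Statements.S0244
-- import your own Groth.Agent.* helpers here
import Groth.Agent.Purity.SectionsNormal

set_option autoImplicit false
universe u
open Pi1

namespace Groth.Agent.S0244

open AlgebraicGeometry CategoryTheory CategoryTheory.Limits in
/-- Let X be a normal integral scheme and U ⊆ X a nonempty open subscheme. Then the restriction functor
from finite étale covers of X to finite étale covers of U is full and faithful. -/
theorem result {X : Scheme.{u}} [IsIntegral X] (hX : Pi1.IsNormalScheme X) (U : X.Opens)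
    (hU : (U : Set X).Nonempty) : (FEt.restrict U.ι).Full ∧ (FEt.restrict U.ι).Faithful := by
  haveI : Nonempty U.toScheme := hU.to_subtype
  haveI : IsIntegral U.toScheme := isIntegral_of_isOpenImmersion U.ι
  have hηU : U.ι (genericPoint U.toScheme) = genericPoint X :=
    genericPoint_eq_of_isOpenImmersion U.ι
  have hUn : ∀ x : U.toScheme, IsIntegrallyClosed (U.toScheme.presheaf.stalk x) := fun x => by
    haveI := (hX (U.ι x)).2
    exact IsIntegrallyClosed.of_equiv (asIso (U.ι.stalkMap x)).commRingCatIsoToRingEquiv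
  obtain ⟨hF, hF'⟩ := Purity.restrict_full_faithful_genericPoint U.toScheme hUn
  obtain ⟨hG, hG'⟩ := Purity.restrict_full_faithful_genericPoint X fun x => (hX x).2
  let f := U.toScheme.fromSpecStalk (genericPoint U.toScheme)
  have hcomp : (FEt.restrict (f ≫ U.ι)).Full ∧ (FEt.restrict (f ≫ U.ι)).Faithful := by
    have key : ∀ (x : X), x = genericPoint X →
        (FEt.restrict (X.fromSpecStalk x)).Full ∧ (FEt.restrict (X.fromSpecStalk x)).Faithful := by
      rintro _ rfl
      exact ⟨hG, hG'⟩
    obtain ⟨k1, k2⟩ := key _ hηU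
    let i := Spec.map (U.ι.stalkMap (genericPoint U.toScheme))
    obtain ⟨i1, i2⟩ := Purity.restrict_full_faithful_of_app i fun V _ => by
      haveI : IsIso (i.app V) := inferInstance
      exact ConcreteCategory.bijective_of_isIso _
    have e := MorphismProperty.Over.pullbackComp (P := FEt.prop.{u}) (Q := ⊤) i
      (X.fromSpecStalk (U.ι (genericPoint U.toScheme))) (f ≫ U.ι)
      (Scheme.SpecMap_stalkMap_fromSpecStalk U.ι).symm
    exact ⟨Functor.Full.of_iso (F := FEt.restrict (X.fromSpecStalk _) ⋙ FEt.restrict i) e.symm,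
      Functor.Faithful.of_iso (F := FEt.restrict (X.fromSpecStalk _) ⋙ FEt.restrict i) e.symm⟩
  have e' : FEt.restrict U.ι ⋙ FEt.restrict f ≅ FEt.restrict (f ≫ U.ι) :=
    (MorphismProperty.Over.pullbackComp (P := FEt.prop.{u}) (Q := ⊤) f U.ι).symm
  haveI := hcomp.1
  haveI := hcomp.2
  haveI := hF'
  exact ⟨Functor.Full.of_comp_faithful_iso e', Functor.Faithful.of_comp_iso e'⟩

end Groth.Agent.S0244
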