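import Groth.Statements.S0246
-- import your own Groth.Agent.* helpers here
import Groth.Agent.EtaleLocalProps.Basic
import Groth.Agent.EquidimPt.Affine

set_option autoImplicit false
universe u
open Pi1

namespace Groth.Agent.S0246

open AlgebraicGeometry CategoryTheory CategoryTheory.Limits in
/-- If Y is finite etale over a normal integral scheme X and Y is connected, then Y is an integral
scheme all of whose local rings are integrally closed domains. -/
theorem result {X : Scheme.{u}} [IsIntegral X] (hX : Pi1.IsNormalScheme X) (Y : FEt.Cat X)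
    [ConnectedSpace Y.left] : IsIntegral Y.left ∧ Pi1.IsNormalScheme Y.left := by
  haveI : IsFinite Y.hom := Y.prop.1
  haveI : Etale Y.hom := Y.prop.2
  have hn : Pi1.IsNormalScheme Y.left := fun y => (Groth.Agent.EtaleLocalProps.isNormal_stalk_iff Y.hom y).2 (hX _)
  haveI : ∀ y : Y.left, IsDomain (Y.left.presheaf.stalk y) := fun y => (hn y).1
  haveI : IsReduced Y.left := isReduced_of_isReduced_stalk _
  -- the maximal generisation of a point
  let g : Y.left → Y.left := fun z =>
    Y.left.fromSpecStalk z (⟨⊥, Ideal.isPrime_bot⟩ : PrimeSpectrum (Y.left.presheaf.stalk z))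
  have hg : ∀ z, g z ⤳ z := fun z => by
    have : g z ∈ Set.range (Y.left.fromSpecStalk z) := ⟨_, rfl⟩
    rwa [Scheme.range_fromSpecStalk] at this
  have hg' : ∀ z y, y ⤳ z → g z ⤳ y := fun z y hy => by
    obtain ⟨p, rfl⟩ : y ∈ Set.range (Y.left.fromSpecStalk z) := by rwa [Scheme.range_fromSpecStalk]
    exact ((PrimeSpectrum.le_iff_specializes _ p).1 bot_le).map (Y.left.fromSpecStalk z).continuous
  have hη : ∀ z, Y.hom (g z) = genericPoint X := fun z => by
    obtain ⟨y, hy, hyη⟩ := AlgebraicGeometry.Flat.generalizingMap Y.hom ((genericPoint_spec X).specializes (Set.mem_univ (Y.hom z)))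
    exact (hyη ▸ (hg' z y hy).map Y.hom.continuous : Y.hom (g z) ⤳ genericPoint X).antisymm
      ((genericPoint_spec X).specializes (Set.mem_univ _)) |>.eq
  have hcls : ∀ w, {z | g z = g w} = closure {g w} := fun w => Set.ext fun z => by
    refine ⟨fun h => specializes_iff_mem_closure.1 (h ▸ hg z), fun h => ?_⟩
    exact Groth.Agent.EquidimPt.eq_of_specializes Y.hom (hg' z _ (specializes_iff_mem_closure.2 h)) ((hη z).trans (hη w).symm)
  have hfin : (Set.range g).Finite :=
    (Scheme.Hom.finite_preimage_singleton Y.hom (genericPoint X)).subset fun _ ⟨z, hz⟩ => hz ▸ hη z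
  obtain ⟨z₀⟩ : Nonempty Y.left := inferInstance
  have hclopen : IsClopen {z | g z = g z₀} := by
    refine ⟨(hcls z₀).symm ▸ isClosed_closure, ?_⟩
    rw [← isClosed_compl_iff]
    have : {z | g z = g z₀}ᶜ = ⋃ p ∈ Set.range g \ {g z₀}, closure {p} := by
      ext z
      simp only [Set.mem_compl_iff, Set.mem_setOf_eq, Set.mem_iUnion, Set.mem_diff, Set.mem_range,
        Set.mem_singleton_iff, exists_prop]
      refine ⟨fun hz => ⟨g z, ⟨⟨z, rfl⟩, hz⟩, hcls z ▸ rfl⟩, ?_⟩
      rintro ⟨_, ⟨⟨w, rfl⟩, hw⟩, hz⟩ h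
      rw [← hcls w] at hz
      exact hw (hz.symm.trans h)
    rw [this]
    exact hfin.sdiff.isClosed_biUnion fun _ _ => isClosed_closure
  haveI : IrreducibleSpace Y.left := by
    refine (irreducibleSpace_def _).2 ?_
    rw [Set.top_eq_univ, ← hclopen.eq_univ ⟨z₀, rfl⟩, hcls]
    exact isIrreducible_singleton.closure
  exact ⟨isIntegral_of_irreducibleSpace_of_isReduced _, hn⟩

end Groth.Agent.S0246
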