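import Groth.Statements.S0249
-- import your own Groth.Agent.* helpers here
import Groth.Agent.Purity.FlatDim

set_option autoImplicit false
universe u
open Pi1

namespace Groth.Agent.S0249

open AlgebraicGeometry CategoryTheory CategoryTheory.Limits in
/-- Let A be a Noetherian local ring of dimension at least 1 and f an element of its maximal ideal. Then
some prime ideal of height exactly 1 contains f. -/
theorem result (A : Type u) [CommRing A] [IsNoetherianRing A] [IsLocalRing A]
    (h : (1 : WithBot ℕ∞) ≤ ringKrullDim A) (f : A) (hf : f ∈ IsLocalRing.maximalIdeal A) :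
    ∃ p : Ideal A, p.IsPrime ∧ f ∈ p ∧ p.height = 1 := by
  obtain ⟨d, hd⟩ : ∃ d : ℕ, ringKrullDim A = d := by
    cases hk : ringKrullDim A with
    | bot => rw [hk] at h; simp at h
    | coe k =>
      cases k with
      | top => exact absurd hk (ringKrullDim_lt_top (R := A)).ne
      | coe k => exact ⟨k, rfl⟩
  have hd1 : 1 ≤ d := by rw [hd] at h; exact_mod_cast h
  obtain ⟨p, hfp, hp, -⟩ := Groth.Agent.Purity.exists_height_one hd hd1 f hf
  exact ⟨p.asIdeal, p.2, hfp, by rw [PrimeSpectrum.height_eq_orderHeight]; exact hp⟩

end Groth.Agent.S0249
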