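import Groth.Statements.S0252
-- import your own Groth.Agent.* helpers here
import Groth.Agent.WLocalFib.Basic
import Mathlib.AlgebraicGeometry.Morphisms.FlatMono

set_option autoImplicit false
universe u
open Pi1

namespace Groth.Agent.S0252

open AlgebraicGeometry CategoryTheory CategoryTheory.Limits in
/-- Let f be a morphism between quasi-compact quasi-separated schemes such that base change of finite
etale covers along f is an equivalence. Then the induced map on connected components is a
homeomorphism. -/
theorem result {X Y : Scheme.{u}} [CompactSpace X] [QuasiSeparatedSpace X] [CompactSpace Y] [QuasiSeparatedSpace Y]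
    (f : X ⟶ Y) (h : (FEt.restrict f).IsEquivalence) :
    IsHomeomorph f.continuous.connectedComponentsMap := by
  haveI := h
  let O : ∀ (Z : Scheme.{u}) (W : TopologicalSpace.Clopens Z), FEt.Cat Z := fun Z W =>
    MorphismProperty.Over.mk ⊤ (Scheme.Opens.ι (X := Z) ⟨(W : Set Z), W.2.2⟩)
      ⟨(by
        haveI : IsClosedImmersion (Scheme.Opens.ι (X := Z) ⟨(W : Set Z), W.2.2⟩) :=
          IsClosedImmersion.of_isPreimmersion _ (by rw [Scheme.Opens.range_ι]; exact W.2.1)
        infer_instance), (inferInstance : Etale (Scheme.Opens.ι (X := Z) ⟨(W : Set Z), W.2.2⟩))⟩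
  have hiso : ∀ {Z : Scheme.{u}} {A B : FEt.Cat Z}, (A ≅ B) → Set.range A.hom = Set.range B.hom := by
    intro Z A B e
    refine Set.Subset.antisymm ?_ ?_
    · rintro _ ⟨a, rfl⟩
      exact ⟨e.hom.left a, by rw [← Scheme.Hom.comp_apply]; exact congrArg (fun k => k a) (MorphismProperty.Over.w e.hom)⟩
    · rintro _ ⟨a, rfl⟩
      exact ⟨e.inv.left a, by rw [← Scheme.Hom.comp_apply]; exact congrArg (fun k => k a) (MorphismProperty.Over.w e.inv)⟩
  have hO : ∀ (Z : Scheme.{u}) (W : TopologicalSpace.Clopens Z), Set.range (O Z W).hom = (W : Set Z) := fun Z W =>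
    Scheme.Opens.range_ι _
  have hres : ∀ A : FEt.Cat Y, Set.range ((FEt.restrict f).obj A).hom = f ⁻¹' Set.range A.hom := fun A =>
    Scheme.Pullback.range_snd A.hom f
  -- clopen subsets correspond
  have hinj : ∀ W W' : TopologicalSpace.Clopens Y, f ⁻¹' (W : Set Y) = f ⁻¹' (W' : Set Y) → W = W' := by
    intro W W' hW
    have key : ∀ V : TopologicalSpace.Clopens Y, ∀ C : TopologicalSpace.Clopens X, (C : Set X) = f ⁻¹' (V : Set Y) →
        Nonempty ((FEt.restrict f).obj (O Y V) ≅ O X C) := fun V C hC => by
      haveI : IsOpenImmersion (O Y V).hom := (inferInstance : IsOpenImmersion (Scheme.Opens.ι (X := Y) ⟨(V : Set Y), V.2.2⟩))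
      haveI : IsOpenImmersion ((FEt.restrict f).obj (O Y V)).hom :=
        (inferInstance : IsOpenImmersion (pullback.snd (O Y V).hom f))
      haveI : IsOpenImmersion (O X C).hom := (inferInstance : IsOpenImmersion (Scheme.Opens.ι (X := X) ⟨(C : Set X), C.2.2⟩))
      exact ⟨MorphismProperty.Over.isoMk (IsOpenImmersion.isoOfRangeEq ((FEt.restrict f).obj (O Y V)).hom (O X C).hom
        (by rw [hres, hO, hO, hC])) (IsOpenImmersion.isoOfRangeEq_hom_fac _ _ _)⟩
    let C : TopologicalSpace.Clopens X := ⟨f ⁻¹' (W : Set Y), W.2.preimage f.continuous⟩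
    obtain ⟨e⟩ := key W C rfl
    obtain ⟨e'⟩ := key W' C hW
    have := hiso ((FEt.restrict f).preimageIso (e ≪≫ e'.symm))
    rw [hO, hO] at this
    exact SetLike.ext' this
  have hsurj : ∀ C : TopologicalSpace.Clopens X, ∃ W : TopologicalSpace.Clopens Y, f ⁻¹' (W : Set Y) = (C : Set X) := by
    intro C
    let E := (FEt.restrict f).objPreimage (O X C)
    let e : (FEt.restrict f).obj E ≅ O X C := (FEt.restrict f).objObjPreimageIso (O X C)
    haveI : IsFinite E.hom := E.prop.1
    haveI : Etale E.hom := E.prop.2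
    haveI : Mono (O X C).hom := (inferInstance : Mono (Scheme.Opens.ι (X := X) ⟨(C : Set X), C.2.2⟩))
    let T : FEt.Cat Y := MorphismProperty.Over.mk ⊤ (pullback.fst E.hom E.hom ≫ E.hom)
      (FEt.prop.comp_mem _ _ ⟨inferInstance, inferInstance⟩ E.prop)
    let p₁ : T ⟶ E := MorphismProperty.Over.homMk (pullback.fst E.hom E.hom) rfl
    let p₂ : T ⟶ E := MorphismProperty.Over.homMk (pullback.snd E.hom E.hom) pullback.condition.symm
    have hp : p₁ = p₂ := by
      apply (FEt.restrict f).map_injective
      rw [← cancel_mono e.hom]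
      exact MorphismProperty.Over.Hom.ext ((cancel_mono (O X C).hom).1
        ((MorphismProperty.Over.w ((FEt.restrict f).map p₁ ≫ e.hom)).trans
          (MorphismProperty.Over.w ((FEt.restrict f).map p₂ ≫ e.hom)).symm))
    haveI : Mono E.hom := ⟨fun a b hab => by
      have h1 : pullback.fst E.hom E.hom = pullback.snd E.hom E.hom := congrArg (fun k => k.left) hp
      calc a = pullback.lift a b hab ≫ pullback.fst E.hom E.hom := (pullback.lift_fst _ _ _).symm
        _ = pullback.lift a b hab ≫ pullback.snd E.hom E.hom := by rw [h1]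
        _ = b := pullback.lift_snd _ _ _⟩
    haveI : IsOpenImmersion E.hom := IsOpenImmersion.of_flat_of_mono E.hom
    refine ⟨⟨Set.range E.hom, E.hom.isClosedMap.isClosed_range, E.hom.isOpenEmbedding.isOpen_range⟩, ?_⟩
    show f ⁻¹' Set.range E.hom = _
    rw [← hres, hiso e, hO]
  -- passing to components
  haveI := Groth.Agent.WLocalFib.t2Space_connectedComponents (X := Y)
  have hy : ∀ y : Y, ∀ y' : Y, (∀ W : TopologicalSpace.Clopens Y, y ∈ W → y' ∈ W) →
      (ConnectedComponents.mk y' : ConnectedComponents Y) = ConnectedComponents.mk y := fun y y' hyy' => by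
    rw [ConnectedComponents.coe_eq_coe', Groth.Agent.S7566.result y, Set.mem_sInter]
    rintro W ⟨hW, hyW⟩
    exact hyy' ⟨W, hW⟩ hyW
  have hbij : Function.Bijective f.continuous.connectedComponentsMap := by
    constructor
    · intro a b hab
      obtain ⟨x, rfl⟩ := ConnectedComponents.surjective_coe a
      obtain ⟨x', rfl⟩ := ConnectedComponents.surjective_coe b
      rw [Continuous.connectedComponentsMap_mk, Continuous.connectedComponentsMap_mk,
        ConnectedComponents.coe_eq_coe'] at hab
      rw [ConnectedComponents.coe_eq_coe', Groth.Agent.S7566.result x', Set.mem_sInter]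
      rintro C ⟨hC, hxC⟩
      obtain ⟨W, hW⟩ := hsurj ⟨C, hC⟩
      change f ⁻¹' (W : Set Y) = C at hW
      rw [← hW] at hxC ⊢
      exact W.2.connectedComponent_subset hxC hab
    · intro b
      obtain ⟨y, rfl⟩ := ConnectedComponents.surjective_coe b
      let ι := {W : TopologicalSpace.Clopens Y // y ∈ W}
      haveI : Nonempty ι := ⟨⟨⊤, trivial⟩⟩
      obtain ⟨x, hx⟩ := IsCompact.nonempty_iInter_of_directed_nonempty_isCompact_isClosed
        (fun W : ι => f ⁻¹' (W.1 : Set Y))
        (fun W W' => ⟨⟨W.1 ⊓ W'.1, W.2, W'.2⟩, Set.preimage_mono Set.inter_subset_left,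
          Set.preimage_mono Set.inter_subset_right⟩)
        (fun W => by
          by_contra hne
          rw [Set.not_nonempty_iff_eq_empty] at hne
          have := hinj W.1 ⊥ (hne.trans Set.preimage_empty.symm)
          exact (this ▸ W.2 : y ∈ (⊥ : TopologicalSpace.Clopens Y)))
        (fun W => (W.1.2.1.preimage f.continuous).isCompact)
        (fun W => W.1.2.1.preimage f.continuous)
      rw [Set.mem_iInter] at hx
      exact ⟨ConnectedComponents.mk x, hy y (f x) fun W hW => hx ⟨W, hW⟩⟩
  exact isHomeomorph_iff_continuous_bijective.2 ⟨f.continuous.connectedComponentsMap_continuous, hbij⟩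

end Groth.Agent.S0252
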