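import Groth.Statements.S0257
-- import your own Groth.Agent.* helpers here
import Groth.Agent.Purity.FlatPurity
import Groth.Agent.FieldPow.Etale

set_option autoImplicit false
universe u
open Pi1

namespace Groth.Agent.S0257

open AlgebraicGeometry CategoryTheory CategoryTheory.Limits in
/-- Let f be flat and locally of finite type between locally Noetherian schemes, x a point of X which is
not a generic point of an irreducible component (its local ring has dimension at least 1), with f
quasi-finite at x and unramified at all points of dimension one specializing to x. Then f is etale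
on an open neighbourhood of x. -/
theorem result {X Y : Scheme.{u}} (f : X ⟶ Y) [LocallyOfFiniteType f] [Flat f] [IsLocallyNoetherian X]
    [IsLocallyNoetherian Y] (x : X) (hq : f.QuasiFiniteAt x)
    (hdim1 : (1 : WithBot ℕ∞) ≤ ringKrullDim (X.presheaf.stalk x))
    (hunr : ∀ x' : X, x' ⤳ x → ringKrullDim (X.presheaf.stalk x') = 1 →
      (f.stalkMap x').hom.FormallyUnramified) :
    ∃ U : X.Opens, x ∈ U ∧ Etale (U.ι ≫ f) := by
  haveI : LocallyOfFinitePresentation f := LocallyOfFinitePresentation.iff_locallyOfFiniteType.2 inferInstance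
  obtain ⟨V, hV, hxV, -⟩ := exists_isAffineOpen_mem_and_subset (X := Y) (x := f x) (U := ⊤) trivial
  obtain ⟨W, hW, hxW, eW⟩ := exists_isAffineOpen_mem_and_subset (X := X) (x := x) (U := f ⁻¹ᵁ V) hxV
  let φ : Γ(Y, V) ⟶ Γ(X, W) := f.appLE V W eW
  letI : Algebra Γ(Y, V) Γ(X, W) := φ.hom.toAlgebra
  haveI : Algebra.FiniteType Γ(Y, V) Γ(X, W) := RingHom.finiteType_algebraMap.1
    (HasRingHomProperty.appLE @LocallyOfFiniteType f ‹_› ⟨V, hV⟩ ⟨W, hW⟩ eW)
  haveI : IsNoetherianRing Γ(Y, V) := IsLocallyNoetherian.component_noetherian ⟨V, hV⟩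
  -- the algebra of a point of the chart
  have key : ∀ x' : X, ∀ hx' : x' ∈ W, ∀ (hxV' : f x' ∈ V),
      (f.stalkMap x').hom.FormallyUnramified →
        Algebra.FormallyUnramified Γ(Y, V) (Localization.AtPrime (hW.primeIdealOf ⟨x', hx'⟩).asIdeal) := by
    intro x' hx' hxV' hu
    letI := TopCat.Presheaf.algebra_section_stalk X.presheaf (⟨x', hx'⟩ : W)
    have hlx := hW.isLocalization_stalk ⟨x', hx'⟩
    letI : Algebra Γ(Y, V) (X.presheaf.stalk x') :=
      ((algebraMap Γ(X, W) (X.presheaf.stalk x')).comp (algebraMap Γ(Y, V) Γ(X, W))).toAlgebra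
    haveI : IsScalarTower Γ(Y, V) Γ(X, W) (X.presheaf.stalk x') := .of_algebraMap_eq fun _ => rfl
    letI := TopCat.Presheaf.algebra_section_stalk Y.presheaf (⟨f x', hxV'⟩ : V)
    have hly := hV.isLocalization_stalk ⟨f x', hxV'⟩
    letI : Algebra (Y.presheaf.stalk (f x')) (X.presheaf.stalk x') := (f.stalkMap x').hom.toAlgebra
    haveI : IsScalarTower Γ(Y, V) (Y.presheaf.stalk (f x')) (X.presheaf.stalk x') :=
      .of_algebraMap_eq' <| by
        have h : φ ≫ X.presheaf.germ W x' hx' = Y.presheaf.germ V (f x') hxV' ≫ f.stalkMap x' := by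
          rw [Scheme.Hom.germ_stalkMap]
          simp [φ, Scheme.Hom.appLE]
        exact congrArg CommRingCat.Hom.hom h
    haveI : Algebra.FormallyUnramified (Y.presheaf.stalk (f x')) (X.presheaf.stalk x') :=
      RingHom.formallyUnramified_algebraMap.1 hu
    haveI : Algebra.FormallyUnramified Γ(Y, V) (Y.presheaf.stalk (f x')) :=
      Algebra.FormallyUnramified.of_isLocalization (hV.primeIdealOf ⟨f x', hxV'⟩).asIdeal.primeCompl
    haveI := Algebra.FormallyUnramified.comp Γ(Y, V) (Y.presheaf.stalk (f x')) (X.presheaf.stalk x')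
    exact Algebra.FormallyUnramified.of_equiv ((IsLocalization.algEquiv (hW.primeIdealOf ⟨x', hx'⟩).asIdeal.primeCompl
      (X.presheaf.stalk x') (Localization.AtPrime (hW.primeIdealOf ⟨x', hx'⟩).asIdeal)).restrictScalars Γ(Y, V))
  -- the point x
  letI := TopCat.Presheaf.algebra_section_stalk X.presheaf (⟨x, hxW⟩ : W)
  have hlx := hW.isLocalization_stalk ⟨x, hxW⟩
  set q := (hW.primeIdealOf ⟨x, hxW⟩).asIdeal
  letI := TopCat.Presheaf.algebra_section_stalk Y.presheaf (⟨f x, hxV⟩ : V)
  have hly := hV.isLocalization_stalk ⟨f x, hxV⟩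
  set p := (hV.primeIdealOf ⟨f x, hxV⟩).asIdeal
  haveI : q.LiesOver p :=
    ⟨(congrArg PrimeSpectrum.asIdeal (IsAffineOpen.comap_primeIdealOf_appLE V hV W hW eW hxW)).symm⟩
  letI : Algebra Γ(Y, V) (X.presheaf.stalk x) :=
    ((algebraMap Γ(X, W) (X.presheaf.stalk x)).comp (algebraMap Γ(Y, V) Γ(X, W))).toAlgebra
  haveI : IsScalarTower Γ(Y, V) Γ(X, W) (X.presheaf.stalk x) := .of_algebraMap_eq fun _ => rfl
  letI : Algebra (Y.presheaf.stalk (f x)) (X.presheaf.stalk x) := (f.stalkMap x).hom.toAlgebra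
  haveI : IsScalarTower Γ(Y, V) (Y.presheaf.stalk (f x)) (X.presheaf.stalk x) :=
    .of_algebraMap_eq' <| by
      have h : φ ≫ X.presheaf.germ W x hxW = Y.presheaf.germ V (f x) hxV ≫ f.stalkMap x := by
        rw [Scheme.Hom.germ_stalkMap]
        simp [φ, Scheme.Hom.appLE]
      exact congrArg CommRingCat.Hom.hom h
  haveI : Algebra.QuasiFiniteAt Γ(Y, V) q :=
    AlgebraicGeometry.Scheme.Hom.QuasiFiniteAt.quasiFiniteAt hq hW hV eW hxW
  haveI : Module.Flat (Y.presheaf.stalk (f x)) (X.presheaf.stalk x) :=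
    RingHom.flat_algebraMap_iff.1 (AlgebraicGeometry.Flat.stalkMap f x)
  haveI : Module.Flat Γ(Y, V) (Y.presheaf.stalk (f x)) := IsLocalization.flat _ p.primeCompl
  haveI : Module.Flat Γ(Y, V) (X.presheaf.stalk x) := Module.Flat.trans Γ(Y, V) (Y.presheaf.stalk (f x)) _
  let ex := (IsLocalization.algEquiv q.primeCompl (X.presheaf.stalk x) (Localization.AtPrime q))
  haveI : Module.Flat Γ(Y, V) (Localization.AtPrime q) :=
    Module.Flat.of_linearEquiv (ex.restrictScalars Γ(Y, V)).symm.toLinearEquiv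
  have hu := Groth.Agent.Purity.unramified_of_flat_quasiFiniteAt (R := Γ(Y, V)) (B := Γ(X, W)) p q
    (by rw [← ringKrullDim_eq_of_ringEquiv ex.toRingEquiv]; exact hdim1)
    (fun P hP hPq h1 => by
      obtain ⟨x', hx', hspec, hPx⟩ : ∃ x', ∃ hx' : x' ∈ W, x' ⤳ x ∧
          (hW.primeIdealOf ⟨x', hx'⟩).asIdeal = P := by
        have hx' : hW.fromSpec ⟨P, hP⟩ ∈ W := by
          rw [← SetLike.mem_coe, ← hW.range_fromSpec]; exact ⟨_, rfl⟩
        refine ⟨_, hx', ?_, congrArg PrimeSpectrum.asIdeal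
          (hW.fromSpec.isOpenEmbedding.injective (hW.fromSpec_primeIdealOf ⟨_, hx'⟩))⟩
        have := ((PrimeSpectrum.le_iff_specializes ⟨P, hP⟩ (hW.primeIdealOf ⟨x, hxW⟩)).1 hPq).map
          hW.fromSpec.continuous
        rwa [hW.fromSpec_primeIdealOf ⟨x, hxW⟩] at this
      subst hPx
      refine key x' hx' (eW hx') (hunr x' hspec ?_)
      · letI := TopCat.Presheaf.algebra_section_stalk X.presheaf (⟨x', hx'⟩ : W)
        have := hW.isLocalization_stalk ⟨x', hx'⟩
        rw [ringKrullDim_eq_of_ringEquiv (IsLocalization.algEquiv (hW.primeIdealOf ⟨x', hx'⟩).asIdeal.primeCompl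
          (X.presheaf.stalk x') (Localization.AtPrime (hW.primeIdealOf ⟨x', hx'⟩).asIdeal)).toRingEquiv]
        exact h1)
  let e := (IsLocalization.algEquiv q.primeCompl (Localization.AtPrime q) (X.presheaf.stalk x)).restrictScalars Γ(Y, V)
  haveI := hu
  haveI : Algebra.FormallyUnramified Γ(Y, V) (X.presheaf.stalk x) := .of_equiv e
  refine Groth.Agent.FieldPow.exists_etale_nhd f x (AlgebraicGeometry.Flat.stalkMap f x) ?_
  exact RingHom.formallyUnramified_algebraMap.2
    (Algebra.FormallyUnramified.of_restrictScalars Γ(Y, V) _ _)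

end Groth.Agent.S0257
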