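import Groth.Statements.S0260
import Groth.Agent.VdimThree.HyperFF
import Groth.Agent.Hensel.Ops
import Groth.Agent.LocH.Depth

set_option autoImplicit false
universe u
open Pi1

namespace Groth.Agent.S0260

open AlgebraicGeometry CategoryTheory CategoryTheory.Limits in
/-- Let A be a henselian Noetherian local ring of depth at least 3 and f an element of the maximal
ideal. Then restricting finite etale covers from the punctured spectrum of A to the punctured
spectrum of A/fA is fully faithful. -/
theorem result (A : Type u) [CommRing A] [IsNoetherianRing A] [HenselianLocalRing A] (hA : (3 : ℕ∞) ≤ LocCoh.depth A A)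
    (f : A) (hf : f ∈ IsLocalRing.maximalIdeal A) :
    (FEt.restrict (pullback.fst (FEt.puncturedSpec A).ι
      (Spec.map (CommRingCat.ofHom (Ideal.Quotient.mk (Ideal.span {f})))))).Full ∧
    (FEt.restrict (pullback.fst (FEt.puncturedSpec A).ι
      (Spec.map (CommRingCat.ofHom (Ideal.Quotient.mk (Ideal.span {f})))))).Faithful := by
  have key : ∀ i : ℕ, i < 3 → ∃ n : ℕ, ∀ x : LocCoh.H (IsLocalRing.maximalIdeal A) i A, (f ^ n) • x = 0 :=
    fun i hi => ⟨0, fun x => by
      haveI := (Groth.Agent.LocH.le_idealDepth_iff (IsLocalRing.maximalIdeal A) A 3).1 hA i hi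
      exact Subsingleton.elim _ _⟩
  haveI : HenselianRing A (Ideal.span {f}) := Groth.Agent.Hensel.henselianRing_mono
    (J := IsLocalRing.maximalIdeal A) ((Ideal.span_singleton_le_iff_mem _).2 hf)
  exact Groth.Agent.VdimThree.full_faithful_of_torsion hf (key 1 (by norm_num)) (key 2 (by norm_num))

end Groth.Agent.S0260
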