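import Groth.Statements.S0262
import Groth.Agent.VdimThree.Extend

set_option autoImplicit false
universe u
open Pi1

namespace Groth.Agent.S0262

open AlgebraicGeometry CategoryTheory CategoryTheory.Limits in
/-- Let A be a Noetherian local ring with completion A^, U the punctured spectrum of A and U' its base
change to Spec A^. A finite etale cover V of U is the restriction of a finite etale cover of Spec A
if and only if the base change of V to U' is the restriction of a finite etale cover of Spec A^. -/
theorem result (A : Type u) [CommRing A] [IsNoetherianRing A] [IsLocalRing A]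
    (V : FEt.Cat (FEt.puncturedSpec A : Scheme.{u})) :
    (∃ Y : FEt.Cat (Spec (CommRingCat.of A)),
      Nonempty ((FEt.restrict (FEt.puncturedSpec A).ι).obj Y ≅ V)) ↔
    (∃ Y' : FEt.Cat (Spec (CommRingCat.of (AdicCompletion (IsLocalRing.maximalIdeal A) A))),
      Nonempty ((FEt.restrict (pullback.snd (FEt.puncturedSpec A).ι
        (Spec.map (CommRingCat.ofHom
          (algebraMap A (AdicCompletion (IsLocalRing.maximalIdeal A) A)))))).obj Y' ≅
        (FEt.restrict (pullback.fst (FEt.puncturedSpec A).ι
        (Spec.map (CommRingCat.ofHom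
          (algebraMap A (AdicCompletion (IsLocalRing.maximalIdeal A) A)))))).obj V)) := by
  constructor
  · rintro ⟨Y, ⟨η⟩⟩
    let g := Spec.map (CommRingCat.ofHom (algebraMap A (AdicCompletion (IsLocalRing.maximalIdeal A) A)))
    let U := FEt.puncturedSpec A
    refine ⟨(FEt.restrict g).obj Y, ⟨((Groth.Agent.LefEssSurj.restrictComp (pullback.snd U.ι g) g _
      pullback.condition.symm).app Y).symm ≪≫
      (Groth.Agent.LefEssSurj.restrictComp (pullback.fst U.ι g) U.ι _ rfl).app Y ≪≫
      (FEt.restrict (pullback.fst U.ι g)).mapIso η⟩⟩
  · rintro ⟨Y', ⟨e⟩⟩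
    exact Groth.Agent.VdimThree.exists_extension_of_completion A V Y' e

end Groth.Agent.S0262
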