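import Groth.Statements.S0263
-- import your own Groth.Agent.* helpers here
import Groth.Agent.Purity.DepthApps

set_option autoImplicit false
universe u
open Pi1

namespace Groth.Agent.S0263

open AlgebraicGeometry CategoryTheory CategoryTheory.Limits in
/-- Let A be a Noetherian local ring of depth at least 2 and V a finite étale cover of the punctured
spectrum of A which is isomorphic to the restriction of some finite étale cover of Spec A. Then the
ring of global sections Γ(V, O_V) is finite and étale over A, via the ring map A → Γ(V, O_V) induced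
by the composite V → Spec A. (Only this implication of the published statement is asserted here; its
converse is not.) -/
theorem result (A : Type u) [CommRing A] [IsNoetherianRing A] [IsLocalRing A] (hA : (2 : ℕ∞) ≤ LocCoh.depth A A)
    (V : FEt.Cat (FEt.puncturedSpec A : Scheme.{u}))
    (hV : ∃ Y : FEt.Cat (Spec (CommRingCat.of A)),
      Nonempty ((FEt.restrict (FEt.puncturedSpec A).ι).obj Y ≅ V)) :
    ((Scheme.ΓSpecIso (CommRingCat.of A)).inv ≫ (V.hom ≫ (FEt.puncturedSpec A).ι).appTop).hom.Finite ∧
    ((Scheme.ΓSpecIso (CommRingCat.of A)).inv ≫ (V.hom ≫ (FEt.puncturedSpec A).ι).appTop).hom.Etale := by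
  obtain ⟨E, ⟨e⟩⟩ := hV
  haveI : IsFinite E.hom := E.prop.1
  haveI : Etale E.hom := E.prop.2
  have hT : IsAffineOpen (⊤ : (Spec (CommRingCat.of A)).Opens) := isAffineOpen_top _
  have hpair := Groth.Agent.Purity.exists_pair_chart_of_depth (FEt.puncturedSpec A) (fun x hx => by
    obtain rfl : x = IsLocalRing.closedPoint A := not_not.1 hx
    rw [Groth.Agent.Purity.depth_stalk_closedPoint A]
    exact hA) ⊤ hT
  haveI : AlgebraicGeometry.IsNoetherian (Spec (CommRingCat.of A)) := inferInstance
  let ei : V.left ≅ pullback E.hom (FEt.puncturedSpec A).ι :=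
    ((MorphismProperty.Over.forget _ _ _ ⋙ CategoryTheory.Over.forget _).mapIso e).symm
  have hw : ei.hom ≫ pullback.snd E.hom (FEt.puncturedSpec A).ι = V.hom := MorphismProperty.Over.w e.inv
  have hfac : V.hom ≫ (FEt.puncturedSpec A).ι = ei.hom ≫ pullback.fst E.hom (FEt.puncturedSpec A).ι ≫ E.hom := by
    have hc : pullback.fst E.hom (FEt.puncturedSpec A).ι ≫ E.hom =
        pullback.snd E.hom (FEt.puncturedSpec A).ι ≫ (FEt.puncturedSpec A).ι := pullback.condition
    rw [← hw, Category.assoc]
    exact congrArg (ei.hom ≫ ·) hc.symm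
  obtain ⟨hF, hE⟩ := Groth.Agent.Purity.finite_etale_sections (FEt.puncturedSpec A) hT hpair E.hom ei
    (V.hom ≫ (FEt.puncturedSpec A).ι) hfac
  exact ⟨(RingHom.finite_respectsIso.cancel_left_isIso _ _).2 hF,
    (RingHom.Etale.respectsIso.cancel_left_isIso _ _).2 hE⟩

end Groth.Agent.S0263
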