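import Groth.Statements.S0268
-- import your own Groth.Agent.* helpers here
import Groth.Agent.Purity.ConnFibFF

set_option autoImplicit false
universe u
open Pi1

namespace Groth.Agent.S0268

open AlgebraicGeometry CategoryTheory CategoryTheory.Limits in
/-- Functor form of the surjectivity of pi_1(X) -> pi_1(Spec k): Let X be quasi-compact and
quasi-separated over a field k with X_{kbar} connected. Then the functor pulling back finite etale
k-schemes to X is full and faithful. -/
theorem result (k : Type u) [Field k] {X : Scheme.{u}} (f : X ⟶ Spec (CommRingCat.of k)) [CompactSpace X]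
    [QuasiSeparatedSpace X]
    [ConnectedSpace ↥(pullback f (Spec.map (CommRingCat.ofHom (algebraMap k (AlgebraicClosure k)))))] :
    (FEt.restrict f).Full ∧ (FEt.restrict f).Faithful := by
  have h := Groth.Agent.Purity.geomConnFibres_of_algClosure f
  haveI := Groth.Agent.Purity.surjective_of_geomConnFibres f h
  haveI : Subsingleton (Spec (CommRingCat.of k)) := inferInstanceAs (Subsingleton (PrimeSpectrum k))
  exact Groth.Agent.Purity.restrict_full_faithful_of_connFibres f
    (Groth.Agent.Purity.univSubmersive_of_universallyOpen f) h

end Groth.Agent.S0268
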