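import Groth.Statements.S0271
import Groth.Agent.InertiaEtale.Coord
import Mathlib.Algebra.Polynomial.GroupRingAction

set_option autoImplicit false
universe u
open Pi1

namespace Groth.Agent.S0271

open AlgebraicGeometry CategoryTheory CategoryTheory.Limits in
/-- Let a finite group G act on a ring R, let q be a prime of R with inertia subgroup I (elements acting
trivially modulo q). Then the ring of I-invariants is etale over the ring of G-invariants at the
prime below q: some principal localization of the I-invariants at an element outside that prime is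
an etale algebra over the G-invariants. -/
theorem result (G R : Type u) [Group G] [Finite G] [CommRing R] [MulSemiringAction G R]
    (q : Ideal R) [q.IsPrime] :
    ∃ g : FixedPoints.subring R (q.inertia G),
      g ∉ q.comap (FixedPoints.subring R (q.inertia G)).subtype ∧
      Algebra.Etale (FixedPoints.subring R G) (Localization.Away g) := by
  classical
  haveI : Fintype G := Fintype.ofFinite G
  let I := q.inertia G
  let R' := FixedPoints.subring R I
  let B := FixedPoints.subring R G
  let C := G ⧸ I
  haveI : Fintype C := Fintype.ofFinite C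
  have hI : ∀ (τ : I) (z : R), τ • z ∈ q → z ∈ q := fun τ z hz => by
    have := Ideal.sub_mem q hz (τ.2 z)
    rwa [Subgroup.smul_def, sub_sub_cancel] at this
  -- separating invariant elements
  have hsep : ∀ σ : G, σ ∉ I → ∃ y : R', σ • (y : R) - y ∉ q := by
    intro σ hσ
    by_contra! hall
    refine hσ fun x => ?_
    let P : Polynomial R := ∏ τ : I, (Polynomial.X - Polynomial.C (τ • x))
    have hP : ∀ τ₀ : I, τ₀ • P = P := fun τ₀ => by
      simp only [P, Finset.smul_prod', smul_sub, Polynomial.smul_X, Polynomial.smul_C, smul_smul]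
      exact Fintype.prod_equiv (Equiv.mulLeft τ₀) _ _ fun τ => rfl
    have hc : ∀ k, σ • P.coeff k - P.coeff k ∈ q := fun k =>
      hall ⟨P.coeff k, fun τ₀ => by rw [← Polynomial.coeff_smul, hP]⟩
    have heq : (σ • P).map (Ideal.Quotient.mk q) = P.map (Ideal.Quotient.mk q) :=
      Polynomial.ext fun k => by
        rw [Polynomial.coeff_map, Polynomial.coeff_map, Polynomial.coeff_smul, Ideal.Quotient.eq]
        exact hc k
    have h0 := congrArg (Polynomial.eval (Ideal.Quotient.mk q (σ • x))) heq
    simp only [P, Finset.smul_prod', smul_sub, Polynomial.smul_X, Polynomial.smul_C, Polynomial.map_prod,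
      Polynomial.map_sub, Polynomial.map_X, Polynomial.map_C, Polynomial.eval_prod, Polynomial.eval_sub,
      Polynomial.eval_X, Polynomial.eval_C] at h0
    have hl : ∏ τ : I, (Ideal.Quotient.mk q (σ • x) - Ideal.Quotient.mk q (σ • τ • x)) = 0 :=
      Finset.prod_eq_zero (Finset.mem_univ 1) (by simp)
    rw [hl, eq_comm, Finset.prod_eq_zero_iff] at h0
    obtain ⟨τ, -, hτ⟩ := h0
    rw [← map_sub, Ideal.Quotient.eq_zero_iff_mem] at hτ
    have hτx : τ • x - x ∈ q := τ.2 x
    simpa using q.add_mem hτ hτx
  let C' := {c : C // c ≠ ((1 : G) : C)}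
  have hout : ∀ c : C', (c.1.out : G) ∉ I := fun c hc => c.2 (by
    rw [← QuotientGroup.out_eq' c.1]
    exact QuotientGroup.eq.2 (by simpa using I.inv_mem hc))
  choose yy hyy using fun c : C' => hsep _ (hout c)
  let P : C' → Polynomial R := fun c => ∏ τ : I, (Polynomial.X - Polynomial.C (τ • (c.1.out • (yy c : R))))
  have hP : ∀ c (τ₀ : I), τ₀ • P c = P c := fun c τ₀ => by
    simp only [P, Finset.smul_prod', smul_sub, Polynomial.smul_X, Polynomial.smul_C, smul_smul]
    exact Fintype.prod_equiv (Equiv.mulLeft τ₀) _ _ fun τ => by simp [smul_smul]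
  let a : C' → ℕ → R' := fun c k => ⟨(P c).coeff k, fun τ₀ => by rw [← Polynomial.coeff_smul, hP]⟩
  let n := Fintype.card I + 1
  have hdeg : ∀ c, (P c).natDegree < n := fun c => Nat.lt_succ_of_le <|
    (Polynomial.natDegree_prod_le _ _).trans ((Finset.sum_le_sum fun τ _ => Polynomial.natDegree_X_sub_C_le _).trans
      (by simp))
  let ι := C' → Fin n
  let x : ι → R' := fun f => ∏ c, a c (f c)
  let y : ι → R' := fun f => ∏ c, yy c ^ (f c : ℕ)
  -- the action of a coset on invariants
  let act : C → R' → R := fun c r => Quotient.liftOn' c (fun σ : G => σ • (r : R)) fun σ τ h => by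
    rw [QuotientGroup.leftRel_apply] at h
    change σ • (r : R) = τ • (r : R)
    conv_rhs => rw [show τ = σ * (σ⁻¹ * τ) by group, mul_smul]
    congr 1
    exact (r.2 ⟨_, h⟩).symm
  have hact : ∀ (σ : G) (r : R'), act (σ : C) r = σ • (r : R) := fun σ r => rfl
  have hactsmul : ∀ (σ : G) (c : C) (r : R'), σ • act c r = act (σ • c) r := fun σ c r => by
    induction c using QuotientGroup.induction_on with
    | _ τ => rw [hact, smul_smul]; exact (hact (σ * τ) r).symm
  let T : R' →ₗ[B] B :=
    { toFun := fun r => ⟨∑ c, act c r, fun σ => by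
        rw [Finset.smul_sum]
        exact Fintype.sum_equiv (MulAction.toPerm σ) _ _ fun c => hactsmul σ c r⟩
      map_add' := fun r s => Subtype.ext (by
        change ∑ c, act c (r + s) = ∑ c, act c r + ∑ c, act c s
        rw [← Finset.sum_add_distrib]
        refine Finset.sum_congr rfl fun c _ => ?_
        induction c using QuotientGroup.induction_on with
        | _ τ => exact smul_add τ (r : R) (s : R))
      map_smul' := fun b r => Subtype.ext (by
        change ∑ c, act c (b • r) = (b : R) * ∑ c, act c r
        rw [Finset.mul_sum]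
        refine Finset.sum_congr rfl fun c _ => ?_
        induction c using QuotientGroup.induction_on with
        | _ τ =>
          change τ • ((b : R) * (r : R)) = (b : R) * τ • (r : R)
          rw [smul_mul']
          congr 1
          exact b.2 τ) }
  have hF : ∀ σ : G, ∑ f : ι, (x f : R) * σ • (y f : R) = ∏ c, (P c).eval (σ • (yy c : R)) := fun σ => by
    simp only [fun c => Polynomial.eval_eq_sum_range' (hdeg c) (σ • (yy c : R)), ← Fin.sum_univ_eq_sum_range,
      Fintype.prod_sum]
    refine Finset.sum_congr rfl fun f _ => ?_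
    simp only [x, y, a, SubmonoidClass.coe_finsetProd, SubmonoidClass.coe_pow, Finset.smul_prod', smul_pow',
      Finset.prod_mul_distrib]
  have hzero : ∀ σ : G, (σ : C) ≠ ((1 : G) : C) → ∑ f : ι, (x f : R) * σ • (y f : R) = 0 := fun σ hσ => by
    rw [hF]
    refine Finset.prod_eq_zero (Finset.mem_univ (⟨_, hσ⟩ : C')) ?_
    simp only [P, Polynomial.eval_prod, Polynomial.eval_sub, Polynomial.eval_X, Polynomial.eval_C]
    refine Finset.prod_eq_zero (Finset.mem_univ 1) ?_
    rw [one_smul, sub_eq_zero, ← hact, ← hact, QuotientGroup.out_eq']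
  let d : R' := ∑ f, x f * y f
  have hd : (d : R) = ∑ f, (x f : R) * y f := by simp [d]
  have hdq : (d : R) ∉ q := by
    rw [hd, show ∑ f, (x f : R) * y f = ∑ f, (x f : R) * (1 : G) • (y f : R) by simp, hF]
    intro h
    obtain ⟨c, -, hc⟩ := (Ideal.IsPrime.prod_mem_iff (p := q)).1 h
    simp only [P, Polynomial.eval_prod, Polynomial.eval_sub, Polynomial.eval_X, Polynomial.eval_C,
      one_smul] at hc
    obtain ⟨τ, -, hτ⟩ := (Ideal.IsPrime.prod_mem_iff (p := q)).1 hc
    refine hyy c ?_
    rw [← neg_sub, Ideal.neg_mem_iff]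
    refine hI τ _ ?_
    rw [smul_sub, (yy c).2 τ]
    exact hτ
  refine ⟨d, hdq, InertiaEtale.etale_away (x := x) (y := y) (T := T) (fun r => Subtype.ext ?_) rfl⟩
  have hsum : ((∑ f, T (y f * r) • x f : R') : R) = ∑ f, (∑ c, act c (y f * r)) * (x f : R) := by
    rw [AddSubmonoidClass.coe_finsetSum]; rfl
  rw [hsum]
  simp only [Finset.sum_mul]
  rw [Finset.sum_comm, Finset.sum_eq_single_of_mem ((1 : G) : C) (Finset.mem_univ _)]
  · simp only [hact, one_smul, Subring.coe_mul, hd, Finset.sum_mul]
    exact Finset.sum_congr rfl fun f _ => by ring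
  · intro c _ hc
    induction c using QuotientGroup.induction_on with
    | _ σ =>
      simp only [hact, Subring.coe_mul, smul_mul']
      calc ∑ f, σ • (y f : R) * σ • (r : R) * (x f : R)
          = σ • (r : R) * ∑ f, (x f : R) * σ • (y f : R) := by
            rw [Finset.mul_sum]; exact Finset.sum_congr rfl fun f _ => by ring
        _ = 0 := by rw [hzero σ hc, mul_zero]

end Groth.Agent.S0271
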