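import Groth.Agent.PurFS.Smooth
import Groth.Agent.PureExtend.LocNoeth
import Groth.Agent.Purity.DepthRestrict
import Groth.Agent.FpqcDescent.Immersion
import Groth.Prelude.Def_Pi1

set_option autoImplicit false
universe u
open Pi1

namespace Groth.Agent.S0273

open AlgebraicGeometry CategoryTheory CategoryTheory.Limits in
/-- Let f : X -> S be smooth with S Noetherian and U an open of X such that U contains the whole fibre
over every point of S whose local ring has depth at most 1, and U is dense in every fibre. Then
restricting finite etale covers from X to U is an equivalence of categories. -/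
theorem result {X S : Scheme.{u}} (f : X ⟶ S) [Smooth f] [IsNoetherian S] (U : X.Opens)
    (h3 : ∀ s : S, LocCoh.depth (S.presheaf.stalk s) (S.presheaf.stalk s) ≤ 1 → f.base ⁻¹' {s} ⊆ (U : Set X))
    (h4 : ∀ s : S, f.base ⁻¹' {s} ⊆ closure ((U : Set X) ∩ f.base ⁻¹' {s})) :
    (FEt.restrict U.ι).IsEquivalence := by
  haveI : IsLocallyNoetherian X := LocallyOfFiniteType.isLocallyNoetherian f
  have hpur : ∀ x : X, x ∉ U → (2 : ℕ∞) ≤ LocCoh.depth (X.presheaf.stalk x) (X.presheaf.stalk x) ∧
      FEt.PurityHolds (X.presheaf.stalk x) := fun x hx => by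
    refine Groth.Agent.PurFS.depth_purity_stalk f x (le_of_not_gt fun h => hx (h3 (f x) ?_ rfl)) ?_
    · exact Order.le_of_lt_succ (lt_of_lt_of_le h (le_of_eq (by rw [Order.succ_eq_add_one]; rfl)))
    by_contra hd
    let ι := f.fiberι (f x)
    haveI : IsLocallyNoetherian (f.fiber (f x)) := by
      haveI : LocallyOfFiniteType (f.fiberToSpecResidueField (f x)) :=
        inferInstanceAs (LocallyOfFiniteType (pullback.snd f _))
      exact LocallyOfFiniteType.isLocallyNoetherian (f.fiberToSpecResidueField (f x))
    let W : (f.fiber (f x)).Opens := ι ⁻¹ᵁ U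
    have hιx : ι (f.asFiber x) = x := f.fiberι_asFiber x
    have hz : f.asFiber x ∈ closure (Set.range W.ι) := by
      rw [Scheme.Opens.range_ι, ι.isEmbedding.closure_eq_preimage_closure_image, Set.mem_preimage, hιx]
      refine closure_mono ?_ (h4 (f x) rfl)
      rintro y ⟨hyU, hy⟩
      obtain ⟨w, hw⟩ := (f.range_fiberι (f x)).ge hy
      exact ⟨w, show ι w ∈ U by rw [hw]; exact hyU, hw⟩
    obtain ⟨⟨u, hu⟩, hus⟩ := Groth.Agent.FpqcDescent.exists_specializes_of_mem_closure W.ι hz
    have hmax : IsMax (f.asFiber x) := by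
      rw [← Order.coheight_eq_zero]
      by_contra h0
      refine hd ?_
      rw [ringKrullDim_stalk_eq_coheight]
      exact WithBot.coe_le_coe.2 (ENat.one_le_iff_ne_zero.2 h0)
    refine hx ?_
    have he : u = f.asFiber x := ((show u ⤳ f.asFiber x from hus).antisymm
      (hmax (show f.asFiber x ≤ u from hus))).eq
    have h5 : ι u ∈ U := hu
    rwa [he, hιx] at h5
  haveI : QuasiCompact U.ι := inferInstance
  obtain ⟨hF, hFa⟩ := Groth.Agent.Purity.restrict_full_faithful_of_depth U (fun x hx => (hpur x hx).1)
  haveI := hF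
  haveI := hFa
  haveI : (FEt.restrict U.ι).EssSurj := Groth.Agent.PureExtend.essSurj_restrict_locallyNoetherian U
    (fun x hx => (hpur x hx).1) fun V x hx =>
      Groth.Agent.LefEssSurj.purityHolds_congr (asIso (V.ι.stalkMap x)).symm.commRingCatIsoToRingEquiv (hpur _ hx).2
  exact { }

end Groth.Agent.S0273
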