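import Groth.Statements.S0283
import Groth.Agent.EtInvariance.SchemeCase

set_option autoImplicit false
set_option backward.isDefEq.respectTransparency false
universe u
open Pi1

namespace Groth.Agent.S0283

open AlgebraicGeometry CategoryTheory CategoryTheory.Limits in
/-- Let f : X → Y be a morphism of schemes which is integral, universally injective and surjective (that
is, a universal homeomorphism). Then base change along f, from finite étale covers of Y to finite
étale covers of X, is a full and faithful functor. -/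
theorem result {X Y : Scheme.{u}} (f : X ⟶ Y) [IsIntegralHom f] [UniversallyInjective f] [Surjective f] :
    (FEt.restrict f).Full ∧ (FEt.restrict f).Faithful := by
    have key : ∀ (E₁ E₂ : FEt.Cat Y) (φ : (FEt.restrict f).obj E₁ ⟶ (FEt.restrict f).obj E₂),
        ∃! ψ : E₁.left ⟶ E₂.left, ψ ≫ E₂.hom = E₁.hom ∧
          pullback.fst E₁.hom f ≫ ψ = φ.left ≫ pullback.fst E₂.hom f := fun E₁ E₂ φ => by
      have : Etale E₂.hom := E₂.prop.2
      exact EtInvariance.existsUnique_extend_scheme f E₁.hom E₂.hom (pullback.fst E₁.hom f) (pullback.snd E₁.hom f)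
        (IsPullback.of_hasPullback _ _).flip (φ.left ≫ pullback.fst E₂.hom f) (by
          have hw : φ.left ≫ pullback.snd E₂.hom f = pullback.snd E₁.hom f := MorphismProperty.Over.w φ
          rw [Category.assoc, pullback.condition, ← Category.assoc, hw, ← pullback.condition])
    have hmap : ∀ (E₁ E₂ : FEt.Cat Y) (ψ : E₁ ⟶ E₂),
        ((FEt.restrict f).map ψ).left ≫ pullback.fst E₂.hom f = pullback.fst E₁.hom f ≫ ψ.left :=
      fun E₁ E₂ ψ => pullback.lift_fst _ _ _
    have hF : (FEt.restrict f).Faithful := ⟨fun {E₁ E₂} {ψ₁ ψ₂} h => MorphismProperty.Over.Hom.ext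
      ((key E₁ E₂ _).unique ⟨MorphismProperty.Over.w ψ₁, (hmap _ _ ψ₁).symm⟩
        ⟨MorphismProperty.Over.w ψ₂, (hmap _ _ ψ₂).symm.trans (by rw [h])⟩)⟩
    have hFull : (FEt.restrict f).Full := ⟨fun {E₁ E₂} φ => by
      obtain ⟨ψ, ⟨h₁, h₂⟩, -⟩ := key E₁ E₂ φ
      refine ⟨MorphismProperty.Over.homMk ψ h₁, MorphismProperty.Over.Hom.ext (pullback.hom_ext ?_ ?_)⟩
      · exact (hmap _ _ _).trans h₂
      · set_option backward.isDefEq.respectTransparency false in
          exact (MorphismProperty.Over.w ((FEt.restrict f).map (MorphismProperty.Over.homMk ψ h₁))).trans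
            (MorphismProperty.Over.w φ).symm⟩
    exact ⟨hFull, hF⟩

end Groth.Agent.S0283
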