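import Groth.Statements.S0286
import Groth.Agent.S0289

set_option autoImplicit false
universe u
open Pi1

set_option backward.isDefEq.respectTransparency false

namespace Groth.Agent.S0286

open AlgebraicGeometry CategoryTheory CategoryTheory.Limits in
/-- For a scheme X over a field k of characteristic p (p a prime), pulling back finite étale covers
along the projection X ×_{Spec k} Spec(k^perf) → X, where k^perf is the perfect closure of k, is an
equivalence of categories. -/
theorem result (k : Type u) [Field k] (p : ℕ) [Fact p.Prime] [CharP k p] {X : Scheme.{u}}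
    (f : X ⟶ Spec (CommRingCat.of k)) :
    (FEt.restrict (pullback.fst f
      (Spec.map (CommRingCat.ofHom (PerfectClosure.of k p))))).IsEquivalence := by
  let c : k →+* PerfectClosure k p := PerfectClosure.of k p
  let g : Spec (CommRingCat.of (PerfectClosure k p)) ⟶ Spec (CommRingCat.of k) :=
    Spec.map (CommRingCat.ofHom c)
  haveI : ExpChar k p := ExpChar.prime (Fact.out : p.Prime)
  haveI : IsIntegralHom g := by
    rw [IsIntegralHom.SpecMap_iff]
    intro x
    obtain ⟨n, y, hy⟩ := IsPRadical.pow_mem c p x
    letI := c.toAlgebra
    refine IsIntegral.of_pow (n := p ^ n) (pow_pos (Fact.out : p.Prime).pos n) ?_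
    rw [← hy]
    exact isIntegral_algebraMap (x := y)
  haveI : UniversallyInjective g := by
    refine ((tfae_universallyInjective g).out 1 0).1 ?_
    intro L _ a b hab
    obtain ⟨a', rfl⟩ := Spec.map_surjective a
    obtain ⟨b', rfl⟩ := Spec.map_surjective b
    simp only [g, ← Spec.map_comp] at hab
    have h := Spec.map_injective hab
    congr 1
    refine CommRingCat.hom_ext (RingHom.ext fun x => ?_)
    obtain ⟨n, y, hy⟩ := IsPRadical.pow_mem c p x
    haveI : ExpChar L p := expChar_of_injective_ringHom (a'.hom.comp c).injective p
    apply iterateFrobenius_inj L p n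
    rw [iterateFrobenius_def, iterateFrobenius_def, ← map_pow, ← map_pow, ← hy]
    exact congrArg (fun φ => φ.hom y) h
  haveI : Surjective g := ⟨fun x => ⟨IsLocalRing.closedPoint (PerfectClosure k p),
    Subsingleton.elim (α := PrimeSpectrum k) _ _⟩⟩
  haveI : UniversallyInjective (pullback.fst f g) := MorphismProperty.pullback_fst _ _ inferInstance
  haveI : IsIntegralHom (pullback.fst f g) := MorphismProperty.pullback_fst _ _ inferInstance
  haveI : Surjective (pullback.fst f g) := MorphismProperty.pullback_fst _ _ inferInstance
  exact Groth.Agent.S0289.result (pullback.fst f g)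

end Groth.Agent.S0286
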