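import Groth.Statements.S0288
-- import your own Groth.Agent.* helpers here
import Groth.Agent.UnibranchEtale.Scheme
import Groth.Agent.S9812

set_option autoImplicit false
universe u
open Pi1

namespace Groth.Agent.S0288

open AlgebraicGeometry CategoryTheory CategoryTheory.Limits in
/-- Let X be a normal integral scheme with function field K, L a finite field extension of K and Y -> X
the normalization of X in Spec L. If Y -> X is unramified (formally unramified and locally of finite
type), then it is etale, and finite. -/
theorem result {X : Scheme.{u}} [IsIntegral X] (hX : Pi1.IsNormalScheme X) (L : Type u) [Field L]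
    [Algebra X.functionField L] [FiniteDimensional X.functionField L]
    [QuasiCompact (Spec.map (CommRingCat.ofHom (algebraMap X.functionField L)) ≫ X.fromSpecStalk (genericPoint X))]
    [QuasiSeparated (Spec.map (CommRingCat.ofHom (algebraMap X.functionField L)) ≫ X.fromSpecStalk (genericPoint X))]
    [FormallyUnramified (Spec.map (CommRingCat.ofHom (algebraMap X.functionField L)) ≫ X.fromSpecStalk (genericPoint X)).fromNormalization]
    [LocallyOfFiniteType (Spec.map (CommRingCat.ofHom (algebraMap X.functionField L)) ≫ X.fromSpecStalk (genericPoint X)).fromNormalization] :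
    Etale (Spec.map (CommRingCat.ofHom (algebraMap X.functionField L)) ≫ X.fromSpecStalk (genericPoint X)).fromNormalization ∧
    IsFinite (Spec.map (CommRingCat.ofHom (algebraMap X.functionField L)) ≫ X.fromSpecStalk (genericPoint X)).fromNormalization := by
  set g := Spec.map (CommRingCat.ofHom (algebraMap X.functionField L)) ≫ X.fromSpecStalk (genericPoint X) with hg
  haveI : IsIntegral (Spec (CommRingCat.of L)) := inferInstance
  haveI : ConnectedSpace g.normalization := inferInstance
  have hY : ∀ y : X, CAlg2.IsGeomUnibranch (X.presheaf.stalk y) := fun y => by
    haveI := (hX y).1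
    haveI := (hX y).2
    exact S9812.result _
  have hdom : ∃ z, g.fromNormalization z = genericPoint X := by
    obtain ⟨l⟩ : Nonempty (Spec (CommRingCat.of L)) := inferInstance
    refine ⟨g.toNormalization l, ?_⟩
    rw [← Scheme.Hom.comp_apply, g.toNormalization_fromNormalization]
    have h1 : g l ∈ Set.range (X.fromSpecStalk (genericPoint X)) := ⟨Spec.map (CommRingCat.ofHom (algebraMap X.functionField L)) l, rfl⟩
    rw [Scheme.range_fromSpecStalk] at h1
    exact (Specializes.antisymm h1 ((genericPoint_spec X).specializes trivial)).eq
  obtain ⟨hE, -, -⟩ := UnibranchEtale.main_connected g.fromNormalization hY hdom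
  exact ⟨hE, (IsFinite.iff_isIntegralHom_and_locallyOfFiniteType _).2 ⟨inferInstance, inferInstance⟩⟩

end Groth.Agent.S0288
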