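import Groth.Statements.S0291
-- import your own Groth.Agent.* helpers here
import Groth.Agent.Purity.DepthApps

set_option autoImplicit false
universe u
open Pi1

namespace Groth.Agent.S0291

open AlgebraicGeometry CategoryTheory CategoryTheory.Limits in
/-- Let A be a Noetherian local ring and B a finite A-algebra such that the local rings of Spec B at all
closed points have depth at least 2. Then restriction from global sections of Spec B to sections
over the preimage of the punctured spectrum of A is an isomorphism. -/
theorem result (A B : Type u) [CommRing A] [IsNoetherianRing A] [IsLocalRing A] [CommRing B] [Algebra A B]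
    [Module.Finite A B]
    (h : ∀ (m : Ideal B) (_ : m.IsMaximal), (2 : ℕ∞) ≤ LocCoh.depth (Localization.AtPrime m) (Localization.AtPrime m)) :
    IsIso ((Spec (CommRingCat.of B)).presheaf.map (homOfLE (le_top :
      Spec.map (CommRingCat.ofHom (algebraMap A B)) ⁻¹ᵁ FEt.puncturedSpec A ≤ ⊤)).op) := by
  haveI : IsNoetherianRing B := IsNoetherianRing.of_finite A B
  haveI : Algebra.IsIntegral A B := Algebra.IsIntegral.of_finite A B
  set φ := Spec.map (CommRingCat.ofHom (algebraMap A B))
  set W : (Spec (CommRingCat.of B)).Opens := φ ⁻¹ᵁ FEt.puncturedSpec A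
  have hV : IsAffineOpen (⊤ : (Spec (CommRingCat.of B)).Opens) := isAffineOpen_top _
  refine (ConcreteCategory.isIso_iff_bijective _).2 (Groth.Agent.Purity.bijective_ι_app_top W hV ?_)
  refine Groth.Agent.Purity.exists_pair_chart_of_depth W (fun x hx => ?_) ⊤ hV
  have hx' : φ x = IsLocalRing.closedPoint A := not_not.1 hx
  let y : PrimeSpectrum B := x
  haveI : y.asIdeal.IsMaximal := by
    refine Ideal.isMaximal_of_isIntegral_of_isMaximal_comap (R := A) _ ?_
    rw [show y.asIdeal.comap (algebraMap A B) = IsLocalRing.maximalIdeal A from congrArg PrimeSpectrum.asIdeal hx']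
    exact IsLocalRing.maximalIdeal.isMaximal A
  haveI : IsLocalization.AtPrime ((Spec.structureSheaf B).presheaf.stalk y) y.asIdeal := inferInstance
  haveI : IsNoetherianRing ((Spec.structureSheaf B).presheaf.stalk y) :=
    IsLocalization.isNoetherianRing y.asIdeal.primeCompl _ inferInstance
  haveI : IsNoetherianRing (Localization.AtPrime y.asIdeal) :=
    IsLocalization.isNoetherianRing y.asIdeal.primeCompl _ inferInstance
  haveI : IsLocalRing ((Spec.structureSheaf B).presheaf.stalk y) :=
    IsLocalization.AtPrime.isLocalRing _ y.asIdeal
  exact (h y.asIdeal inferInstance).trans_eq (Groth.Agent.Purity.depth_eq_of_ringEquiv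
    (IsLocalization.algEquiv y.asIdeal.primeCompl (Localization.AtPrime y.asIdeal)
      ((Spec.structureSheaf B).presheaf.stalk y)).toRingEquiv).symm

end Groth.Agent.S0291
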