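import Groth.Statements.S0304
import Mathlib
import Groth.Agent.InjHull.Noetherian
-- import your own Groth.Agent.* helpers here

set_option autoImplicit false
universe u v
open InjHull

namespace Groth.Agent.S0304

/-- Let R be a commutative ring and E an indecomposable injective R-module. Then any two nonzero
submodules of E have nonzero intersection, and the set of elements r ∈ R such that r·x = 0 for some
nonzero x ∈ E is a prime ideal of R. -/
theorem result (R : Type u) [CommRing R] (E : Type u) [AddCommGroup E] [Module R E] (hE : InjHull.IsIndecomposable R E) (hinj : Module.Injective R E) : (∀ N N' : Submodule R E, N ≠ ⊥ → N' ≠ ⊥ → N ⊓ N' ≠ ⊥) ∧ ∃ p : Ideal R, p.IsPrime ∧ (p : Set R) = {r : R | ∃ x : E, x ≠ 0 ∧ r • x = 0} := by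
  have := hE.1
  refine ⟨fun N N' hN hN' => Groth.Agent.InjHull.inf_ne_bot_of_indecomposable hE hN hN', ?_⟩
  let p : Ideal R :=
    { carrier := {r : R | ∃ x : E, x ≠ 0 ∧ r • x = 0}
      add_mem' := by
        rintro r s ⟨x, hx, hrx⟩ ⟨y, hy, hsy⟩
        obtain ⟨z, hz, hz0⟩ := Submodule.exists_mem_ne_zero_of_ne_bot
          (Groth.Agent.InjHull.inf_ne_bot_of_indecomposable hE
            (N := Submodule.span R {x}) (N' := Submodule.span R {y})
            (by simpa [Submodule.span_singleton_eq_bot] using hx)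
            (by simpa [Submodule.span_singleton_eq_bot] using hy))
        obtain ⟨a, rfl⟩ := Submodule.mem_span_singleton.1 hz.1
        obtain ⟨b, hb⟩ := Submodule.mem_span_singleton.1 hz.2
        refine ⟨a • x, hz0, ?_⟩
        rw [add_smul, smul_comm r, hrx, smul_zero, zero_add, ← hb, smul_comm, hsy, smul_zero]
      zero_mem' := by
        obtain ⟨x, hx⟩ := exists_ne (0 : E)
        exact ⟨x, hx, zero_smul _ _⟩
      smul_mem' := by
        rintro c r ⟨x, hx, hrx⟩
        exact ⟨x, hx, by rw [smul_eq_mul, mul_smul, hrx, smul_zero]⟩ }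
  refine ⟨p, ⟨?_, ?_⟩, rfl⟩
  · rw [Ideal.ne_top_iff_one]
    rintro ⟨x, hx, h⟩
    exact hx (by simpa using h)
  · rintro r s ⟨x, hx, h⟩
    rw [mul_smul] at h
    by_cases h0 : s • x = 0
    · exact Or.inr ⟨x, hx, h0⟩
    · exact Or.inl ⟨s • x, h0, h⟩

end Groth.Agent.S0304
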