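import Groth.Statements.S0307
import Mathlib
import Groth.Agent.InjHull.Noetherian
-- import your own Groth.Agent.* helpers here

set_option autoImplicit false
universe u v
open InjHull

namespace Groth.Agent.S0307

open Classical in
/-- Over a Noetherian ring every injective module is an internal direct sum of indecomposable injective
submodules. -/
theorem result (R : Type u) [CommRing R] [IsNoetherianRing R] (I : Type u) [AddCommGroup I] [Module R I] (hI : Module.Injective R I) : ∃ (ι : Type u) (E : ι → Submodule R I), DirectSum.IsInternal E ∧ ∀ i, InjHull.IsIndecomposable R ↥(E i) ∧ Module.Injective R ↥(E i) := by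
  let good : Set (Set (Submodule R I)) :=
    {S | sSupIndep S ∧ ∀ N ∈ S, InjHull.IsIndecomposable R ↥N ∧ Module.Injective R ↥N}
  obtain ⟨S, hS⟩ := zorn_subset good fun c hc hchain => by
    refine ⟨⋃₀ c, ⟨?_, ?_⟩, fun s hs => Set.subset_sUnion_of_mem hs⟩
    · rw [sSupIndep_iff_finite]
      intro t ht
      rcases c.eq_empty_or_nonempty with rfl | hne
      · rw [Set.sUnion_empty, Set.subset_empty_iff] at ht
        rw [ht]
        exact sSupIndep_empty
      · obtain ⟨s, hs, hts⟩ := hchain.directedOn.exists_mem_subset_of_finset_subset_biUnion (f := id) hne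
          (by simpa [Set.sUnion_eq_biUnion] using ht)
        exact (hc hs).1.mono hts
    · rintro N ⟨s, hs, hN⟩
      exact (hc hs).2 N hN
  obtain ⟨hind, hmem⟩ := hS.prop
  have hi : iSupIndep (fun N : S => (N : Submodule R I)) := (sSupIndep_iff S).mp hind
  refine ⟨S, fun N => (N : Submodule R I), ?_, fun N => hmem N N.2⟩
  suffices htop : ⨆ N : S, (N : Submodule R I) = ⊤ by
    convert DirectSum.isInternal_submodule_of_iSupIndep_of_iSup_eq_top hi htop
  rw [← sSup_eq_iSup']
  by_contra hne
  let T : Submodule R I := sSup S
  haveI : Module.Injective R ↥T := by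
    haveI : Module.Injective R (DirectSum S fun N => ↥(N : Submodule R I)) :=
      InjHull.injective_directSum _ fun N => (hmem N N.2).2
    let g := DirectSum.coeLinearMap (fun N : S => (N : Submodule R I))
    have hg : Function.Injective g := hi.dfinsupp_lsum_injective
    have hr : LinearMap.range g = T := by
      rw [DirectSum.range_coeLinearMap, ← sSup_eq_iSup']
    exact InjHull.injective_of_linearEquiv ((LinearEquiv.ofInjective g hg).trans (LinearEquiv.ofEq _ _ hr))
  obtain ⟨C, hC⟩ := InjHull.exists_isCompl_of_injective T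
  have hC0 : C ≠ ⊥ := fun h => hne (by simpa [h] using hC.sup_eq_top)
  haveI : Module.Injective R ↥C := InjHull.injective_of_retract C.subtype (C.projectionOnto T hC.symm)
    (LinearMap.ext fun x => Submodule.projectionOnto_apply_left hC.symm x)
  haveI : Nontrivial ↥C := Submodule.nontrivial_iff_ne_bot.mpr hC0
  obtain ⟨p, hp⟩ := associatedPrimes.nonempty R ↥C
  haveI := hp.isPrime
  obtain ⟨j, hj⟩ := (isAssociatedPrime_iff_exists_injective_linearMap p ↥C).mp hp |>.2
  obtain ⟨E, _, _, f, hf⟩ := InjHull.exists_isInjectiveHull R (R ⧸ p)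
  haveI : Module.Injective R E := hf.isInjective
  obtain ⟨α, hα, -⟩ := InjHull.exists_injective_extend hf.toIsEssentialInj j hj
  let N : Submodule R I := LinearMap.range (C.subtype.comp α)
  have hαi : Function.Injective (C.subtype.comp α) := C.injective_subtype.comp hα
  let e : E ≃ₗ[R] ↥N := LinearEquiv.ofInjective _ hαi
  have hNind : InjHull.IsIndecomposable R ↥N :=
    InjHull.isIndecomposable_of_quotient_prime (InjHull.isEssentialInj_comp (InjHull.isEssentialInj_equiv e) hf.toIsEssentialInj)
  have hNC : N ≤ C := by rintro _ ⟨x, rfl⟩; exact (α x).2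
  have hdisj : Disjoint N T := hC.symm.disjoint.mono_left hNC
  have hNS : N ∉ S := fun h => by
    haveI := hNind.1
    exact (Submodule.nontrivial_iff_ne_bot.mp hNind.1) (hdisj.eq_bot_of_le (le_sSup h))
  have hins : insert N S ∈ good := by
    refine ⟨fun a ha => ?_, ?_⟩
    · rcases Set.mem_insert_iff.mp ha with rfl | haS
      · exact hdisj.mono_right (sSup_le_sSup fun x hx => (Set.mem_insert_iff.mp hx.1).resolve_left hx.2)
      · have hsub : insert N S \ {a} ⊆ insert N (S \ {a}) := by
          rintro x ⟨hx | hx, hxa⟩
          · exact Or.inl hx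
          · exact Or.inr ⟨hx, hxa⟩
        refine Disjoint.mono_right ((sSup_le_sSup hsub).trans (sSup_insert).le) ?_
        rw [Submodule.disjoint_def]
        intro x hxa hx
        obtain ⟨n, hn, y, hy, rfl⟩ := Submodule.mem_sup.mp hx
        have hy' : y ∈ T := (sSup_le_sSup (Set.sdiff_subset (t := {a})) : sSup (S \ {a}) ≤ sSup S) hy
        have hnT : n ∈ T := by simpa using T.sub_mem (le_sSup haS hxa) hy'
        have hn0 : n = 0 := Submodule.disjoint_def.mp hdisj n hn hnT
        subst hn0
        rw [zero_add] at hxa ⊢
        exact Submodule.disjoint_def.mp (hind haS) y hxa hy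
    · intro M hM
      rcases Set.mem_insert_iff.mp hM with rfl | hM
      · exact ⟨hNind, InjHull.injective_of_linearEquiv e⟩
      · exact hmem M hM
  exact hNS (hS.le_of_ge hins (Set.subset_insert N S) (Set.mem_insert N S))

end Groth.Agent.S0307
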