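import Groth.Statements.S0312
import Mathlib
import Groth.Agent.InjHull.FlatTensor
-- import your own Groth.Agent.* helpers here

set_option autoImplicit false
universe u v
open Matlis

namespace Groth.Agent.S0312

open scoped TensorProduct

/-- For a flat local homomorphism A → B of Noetherian local rings with m_A B equal to the maximal ideal
of B, tensoring an injective hull of the residue field of A with B gives an injective hull of the
residue field of B. -/
theorem result (A : Type u) [CommRing A] [IsLocalRing A] [IsNoetherianRing A] (B : Type u) [CommRing B] [IsLocalRing B] [IsNoetherianRing B] [Algebra A B] [IsLocalHom (algebraMap A B)] [Module.Flat A B] (hm : (IsLocalRing.maximalIdeal A).map (algebraMap A B) = IsLocalRing.maximalIdeal B) (E : Type u) [AddCommGroup E] [Module A E] (f : IsLocalRing.ResidueField A →ₗ[A] E) (hf : InjHull.IsInjectiveHull f) : ∃ g : IsLocalRing.ResidueField B →ₗ[B] TensorProduct A B E, InjHull.IsInjectiveHull g := by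
  classical
  have hFF : Module.FaithfullyFlat A B := Module.FaithfullyFlat.of_flat_of_isLocalHom
  have htors : LocCoh.IsPowerTorsion (IsLocalRing.maximalIdeal A) E :=
    Groth.Agent.InjHull.isPowerTorsion_hull (f := f) hf
  have htB : ∀ z : B ⊗[A] E, ∃ n : ℕ, ∀ a ∈ IsLocalRing.maximalIdeal B ^ n, a • z = 0 := by
    intro z
    induction z using TensorProduct.induction_on with
    | zero => exact ⟨0, by simp⟩
    | add u v hu hv =>
      obtain ⟨n, hn⟩ := hu
      obtain ⟨n', hn'⟩ := hv
      exact ⟨n + n', fun a ha => by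
        rw [smul_add, hn a (Ideal.pow_le_pow_right (by omega) ha),
          hn' a (Ideal.pow_le_pow_right (by omega) ha), add_zero]⟩
    | tmul b e =>
      obtain ⟨n, hn⟩ := htors e
      refine ⟨n, fun a ha => ?_⟩
      rw [← hm, ← Ideal.map_pow] at ha
      change a ∈ Ideal.span _ at ha
      induction ha using Submodule.span_induction with
      | mem r hr =>
        obtain ⟨r, hr, rfl⟩ := hr
        rw [algebraMap_smul, ← TensorProduct.tmul_smul, hn r hr, TensorProduct.tmul_zero]
      | zero => simp
      | add u v _ _ hu hv => rw [add_smul, hu, hv, add_zero]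
      | smul t u _ hu => rw [smul_eq_mul, mul_smul, hu, smul_zero]
  have hinj : Module.Injective B (B ⊗[A] E) := by
    haveI := hf.isInjective
    refine Groth.Agent.InjHull.injective_of_prime_local _ fun q hq φ => ?_
    by_cases hqm : q = IsLocalRing.maximalIdeal B
    · obtain ⟨x, hx⟩ := Groth.Agent.H4Easy.injective_flatTensor_hom_surjective A B
        (IsLocalRing.maximalIdeal A) E (φ ∘ₗ Submodule.inclusion (by rw [hm, hqm]))
      refine ⟨x, 1, hq.one_notMem, fun c => ?_⟩
      rw [one_smul]
      have hc : (c : B) ∈ (IsLocalRing.maximalIdeal A).map (algebraMap A B) := by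
        rw [hm, ← hqm]; exact c.2
      exact (LinearMap.congr_fun hx ⟨c, hc⟩).symm
    · obtain ⟨G, hG⟩ := Module.Finite.fg_top (R := B) (M := q)
      choose n hn using fun c : q => htB (φ c)
      have hnle : ¬ IsLocalRing.maximalIdeal B ^ G.sup n ≤ q := fun hle =>
        hqm (le_antisymm (IsLocalRing.le_maximalIdeal hq.ne_top) (hq.le_of_pow_le hle))
      obtain ⟨a, ha, haq⟩ := SetLike.not_le_iff_exists.mp hnle
      refine ⟨0, a, haq, fun c => ?_⟩
      rw [smul_zero]
      have hc : c ∈ Submodule.span B (G : Set q) := hG ▸ Submodule.mem_top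
      induction hc using Submodule.span_induction with
      | mem d hd => exact hn d a (Ideal.pow_le_pow_right (Finset.le_sup (f := n) hd) ha)
      | zero => simp
      | add u v _ _ hu hv => rw [map_add, smul_add, hu, hv, add_zero]
      | smul t u _ hu => rw [map_smul, smul_comm, hu, smul_zero]
  have hk0 : ∀ r ∈ IsLocalRing.maximalIdeal A, ∀ y : IsLocalRing.ResidueField A, r • y = 0 :=
    fun r hr y => Groth.Agent.InjHull.smul_quotient_eq_zero hr y
  let ι : B →ₗ[B] B ⊗[A] E := LinearMap.toSpanSingleton B _ (1 ⊗ₜ f 1)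
  have hιker : IsLocalRing.maximalIdeal B ≤ LinearMap.ker ι := by
    rw [← hm, Ideal.map_le_iff_le_comap]
    intro r hr
    change algebraMap A B r • ((1 : B) ⊗ₜ[A] f 1) = 0
    rw [algebraMap_smul, ← TensorProduct.tmul_smul, ← map_smul,
      hk0 r hr, map_zero, TensorProduct.tmul_zero]
  let g : IsLocalRing.ResidueField B →ₗ[B] B ⊗[A] E :=
    (IsLocalRing.maximalIdeal B).liftQ ι hιker
  have hne : (1 : B) ⊗ₜ[A] f 1 ≠ 0 := fun h0 =>
    one_ne_zero (hf.injective (((Module.FaithfullyFlat.one_tmul_eq_zero_iff A E (A := B) (f 1)).mp h0).trans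
      (map_zero f).symm))
  have hginj : Function.Injective g := by
    rw [← LinearMap.ker_eq_bot, eq_bot_iff]
    intro u hu
    obtain ⟨b, rfl⟩ := Submodule.mkQ_surjective _ u
    have hu' : b • ((1 : B) ⊗ₜ[A] f 1) = 0 := hu
    refine (Submodule.Quotient.mk_eq_zero _).mpr ((IsLocalRing.mem_maximalIdeal _).mpr fun hb => hne ?_)
    exact hb.smul_eq_zero.mp hu'
  have hsoc : ∀ z : B ⊗[A] E, (∀ a ∈ IsLocalRing.maximalIdeal B, a • z = 0) → ∃ u, g u = z := by
    intro z hz
    obtain ⟨k, a, ha⟩ := Submodule.fg_iff_exists_fin_generating_family.1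
      ((isNoetherianRing_iff_ideal_fg A).mp inferInstance (IsLocalRing.maximalIdeal A))
    let u : E →ₗ[A] (Fin k → E) := LinearMap.pi fun i => a i • LinearMap.id
    have hex : Function.Exact f u := by
      refine fun e => ⟨fun he => ?_, ?_⟩
      · refine Groth.Agent.InjHull.mem_range_of_smul_eq_zero (f := f) hf fun r hr => ?_
        rw [← ha] at hr
        induction hr using Submodule.span_induction with
        | mem r hr =>
          obtain ⟨i, rfl⟩ := hr
          exact congrFun he i
        | zero => simp
        | add u v _ _ hu hv => rw [add_smul, hu, hv, add_zero]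
        | smul t u _ hu => rw [smul_eq_mul, mul_smul, hu, smul_zero]
      · rintro ⟨y, rfl⟩
        funext i
        change a i • f y = 0
        rw [← map_smul, hk0 _ (ha ▸ Submodule.subset_span ⟨i, rfl⟩),
          map_zero]
    have hπu : ∀ w i, TensorProduct.piRight A A B (fun _ : Fin k => E) (u.lTensor B w) i = a i • w := by
      intro w i
      induction w using TensorProduct.induction_on with
      | zero => simp
      | add x y hx hy => simp only [map_add, Pi.add_apply, hx, hy, smul_add]
      | tmul r e => simp [u, TensorProduct.tmul_smul]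
    have huz : u.lTensor B z = 0 := by
      apply (TensorProduct.piRight A A B (fun _ : Fin k => E)).injective
      funext i
      rw [hπu, map_zero, Pi.zero_apply, ← algebraMap_smul B (a i) z]
      exact hz _ (hm ▸ Ideal.mem_map_of_mem _ (ha ▸ Submodule.subset_span ⟨i, rfl⟩))
    obtain ⟨w, rfl⟩ := (Module.Flat.lTensor_exact B hex z).1 huz
    clear hz huz
    induction w using TensorProduct.induction_on with
    | zero => exact ⟨0, by simp⟩
    | add x y hx hy =>
      obtain ⟨u1, h1⟩ := hx
      obtain ⟨u2, h2⟩ := hy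
      exact ⟨u1 + u2, by simp [h1, h2]⟩
    | tmul b y =>
      obtain ⟨r, rfl⟩ := Ideal.Quotient.mk_surjective y
      refine ⟨Submodule.mkQ _ (algebraMap A B r * b), ?_⟩
      change (algebraMap A B r * b) • ((1 : B) ⊗ₜ[A] f 1) = b ⊗ₜ[A] f (Ideal.Quotient.mk (IsLocalRing.maximalIdeal A) r)
      have e : f (Ideal.Quotient.mk (IsLocalRing.maximalIdeal A) r) = r • f 1 := by
        refine Eq.trans (congrArg f ?_) (f.map_smul r 1)
        change Submodule.Quotient.mk r = Submodule.Quotient.mk (r • (1 : A))
        rw [smul_eq_mul, mul_one]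
      rw [e, TensorProduct.tmul_smul, mul_smul, TensorProduct.smul_tmul', smul_eq_mul, mul_one,
        algebraMap_smul]
  refine ⟨g, ⟨Groth.Agent.InjHull.isEssentialInj_iff.2 ⟨hginj, fun z hz => ?_⟩, hinj⟩⟩
  have hn := htB z
  let n := Nat.find hn
  have hn0 : n ≠ 0 := fun h0 => hz (by
    have := Nat.find_spec hn 1 (by rw [show Nat.find hn = 0 from h0]; simp)
    simpa using this)
  obtain ⟨r, hr, hr0⟩ : ∃ r ∈ IsLocalRing.maximalIdeal B ^ (n - 1), r • z ≠ 0 := by
    by_contra hh
    push Not at hh
    exact Nat.find_min hn (Nat.sub_one_lt hn0) hh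
  refine ⟨r, ?_, hr0⟩
  obtain ⟨u, hu⟩ := hsoc (r • z) fun a ha => by
    rw [smul_smul]
    refine Nat.find_spec hn _ ?_
    have := Ideal.mul_mem_mul ha hr
    rwa [← pow_succ', Nat.sub_one_add_one hn0] at this
  exact ⟨u, hu⟩

end Groth.Agent.S0312
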