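import Groth.Statements.S0315
import Mathlib
import Groth.Agent.InjHull.Matlis
-- import your own Groth.Agent.* helpers here

set_option autoImplicit false
universe u v
open Matlis

namespace Groth.Agent.S0315

/-- Over a Noetherian local ring a module has the descending chain condition exactly when it is killed
elementwise by powers of the maximal ideal and its socle is finite-dimensional over the residue
field. -/
theorem result (R : Type u) [CommRing R] [IsLocalRing R] [IsNoetherianRing R] (M : Type u) [AddCommGroup M] [Module R M] : IsArtinian R M ↔ (LocCoh.IsPowerTorsion (IsLocalRing.maximalIdeal R) M ∧ Module.Finite (R ⧸ IsLocalRing.maximalIdeal R) ↥(LocCoh.torsionBy (IsLocalRing.maximalIdeal R) M)) := by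
  refine ⟨fun h => ⟨Groth.Agent.InjHull.isPowerTorsion_of_isArtinian M,
    Groth.Agent.InjHull.finite_socle_of_isArtinian M⟩, fun ⟨ht, hfin⟩ => ?_⟩
  obtain ⟨E, _, _, f, hf⟩ :=
    Groth.Agent.InjHull.exists_isInjectiveHull R (R ⧸ IsLocalRing.maximalIdeal R)
  have := Groth.Agent.InjHull.isArtinian_hull (m := IsLocalRing.maximalIdeal R) hf
  obtain ⟨s, hs⟩ := Groth.Agent.InjHull.exists_socle_embedding (m := IsLocalRing.maximalIdeal R) hf
    (V := LocCoh.torsionBy (IsLocalRing.maximalIdeal R) M)
    (Module.finrank (R ⧸ IsLocalRing.maximalIdeal R)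
      ↥(LocCoh.torsionBy (IsLocalRing.maximalIdeal R) M)) rfl
  obtain ⟨g, hg⟩ := Groth.Agent.InjHull.exists_embedding_of_socle (m := IsLocalRing.maximalIdeal R) hf ht _ s hs
  exact isArtinian_of_injective g hg

end Groth.Agent.S0315
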