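import Groth.Statements.S0316
import Mathlib
import Groth.Agent.InjHull.Duality
-- import your own Groth.Agent.* helpers here

set_option autoImplicit false
universe u v
open Matlis

namespace Groth.Agent.S0316

/-- Over a complete Noetherian local ring with E an injective hull of the residue field, the E-dual of a
finite module is Artinian and the evaluation map into the double E-dual is bijective. -/
theorem result (R : Type u) [CommRing R] [IsLocalRing R] [IsNoetherianRing R] [IsAdicComplete (IsLocalRing.maximalIdeal R) R] (E : Type u) [AddCommGroup E] [Module R E] (f : IsLocalRing.ResidueField R →ₗ[R] E) (hf : InjHull.IsInjectiveHull f) (M : Type u) [AddCommGroup M] [Module R M] [Module.Finite R M] : IsArtinian R (M →ₗ[R] E) ∧ Function.Bijective (LinearMap.applyₗ : M →ₗ[R] (M →ₗ[R] E) →ₗ[R] E) := by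
  refine ⟨?_, Groth.Agent.InjHull.apply_bijective_of_finite (m := IsLocalRing.maximalIdeal R) hf rfl⟩
  have := Groth.Agent.InjHull.isArtinian_hull (m := IsLocalRing.maximalIdeal R) hf
  obtain ⟨r, g, hg⟩ := Module.Finite.exists_fin (R := R) (M := M)
  refine isArtinian_of_injective (LinearMap.pi fun i => LinearMap.applyₗ (g i) :
    (M →ₗ[R] E) →ₗ[R] (Fin r → E)) fun a b hab => ?_
  exact LinearMap.ext_on_range hg fun i => congrFun hab i

end Groth.Agent.S0316
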