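import Groth.Statements.S0319
import Mathlib
import Groth.Agent.LocH.DepthExt
-- import your own Groth.Agent.* helpers here

set_option autoImplicit false
universe u v
open CategoryTheory
open LocCoh

namespace Groth.Agent.S0319

/-- Part (1): =(2): for a finite module M over a Noetherian ring and an ideal I with IM ≠ M, the I-depth
of M is the least i with Ext^i(R/I, M) nonzero. (Close to Mathlib's Rees criterion; kept at low
weight to pin our depth to Mathlib's Ext.) -/
theorem result (R : Type u) [CommRing R] [IsNoetherianRing R] (I : Ideal R) (M : Type u) [AddCommGroup M] [Module R M] [Module.Finite R M] (hIM : I • (⊤ : Submodule R M) ≠ ⊤) (n : ℕ) : LocCoh.idealDepth I M = n ↔ ((∀ i : ℕ, i < n → Subsingleton (Abelian.Ext (ModuleCat.of R (R ⧸ I)) (ModuleCat.of R M) i)) ∧ Nontrivial (Abelian.Ext (ModuleCat.of R (R ⧸ I)) (ModuleCat.of R M) n)) := by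
  have hsupp : Module.support R (R ⧸ I) = PrimeSpectrum.zeroLocus (I : Set R) := by
    ext p
    exact Groth.Agent.LocH.mem_support_quotient_iff
  have key : ∀ k : ℕ, (∀ i < k, Subsingleton (LocCoh.H I i M)) ↔
      ∀ i < k, Subsingleton (Abelian.Ext (ModuleCat.of R (R ⧸ I)) (ModuleCat.of R M) i) := fun k =>
    ⟨fun h i hi => Groth.Agent.LocH.ext_subsingleton_of_H _ ((Groth.Agent.S7038.result I _).2 (IsNoetherian.noetherian I) hsupp.le)
        i _ fun j hj => h j (lt_of_le_of_lt hj hi),
      fun h i hi => Groth.Agent.LocH.H_subsingleton_of_ext (R ⧸ I) hsupp i (ModuleCat.of R M) fun j hj => h j (lt_of_le_of_lt hj hi)⟩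
  have hstep : ∀ (P : ℕ → Prop), (∀ i < n + 1, P i) ↔ (∀ i < n, P i) ∧ P n := fun P =>
    ⟨fun h => ⟨fun i hi => h i (by omega), h n (by omega)⟩, fun h i hi => by
      rcases Nat.lt_succ_iff_lt_or_eq.1 hi with hi' | rfl
      exacts [h.1 i hi', h.2]⟩
  rw [Groth.Agent.LocH.idealDepth_eq_iff, key n, ← not_subsingleton_iff_nontrivial, ← not_subsingleton_iff_nontrivial]
  refine and_congr_right fun hlow => not_congr ?_
  have h2 := key (n + 1)
  rw [hstep, hstep, key n] at h2
  exact ⟨fun h => (h2.1 ⟨hlow, h⟩).2, fun h => (h2.2 ⟨hlow, h⟩).2⟩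

end Groth.Agent.S0319
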