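import Groth.Statements.S0321
import Mathlib
import Groth.Agent.LocH.Depth
-- import your own Groth.Agent.* helpers here

set_option autoImplicit false
universe u v
open LocCoh

open CategoryTheory

namespace Groth.Agent.S0321

/-- Depth inequalities along a short exact sequence 0 → N' → N → N'' → 0 of finite modules over a
Noetherian ring: depth N ≥ min(depth N', depth N''), depth N'' ≥ min(depth N, depth N' − 1), depth
N' ≥ min(depth N, depth N'' + 1). -/
theorem result (R : Type u) [CommRing R] [IsNoetherianRing R] (I : Ideal R) (N' : Type u) [AddCommGroup N'] [Module R N'] [Module.Finite R N'] (N : Type u) [AddCommGroup N] [Module R N] [Module.Finite R N] (N'' : Type u) [AddCommGroup N''] [Module R N''] [Module.Finite R N''] (f : N' →ₗ[R] N) (g : N →ₗ[R] N'') (hf : Function.Injective f) (hg : Function.Surjective g) (hfg : Function.Exact f g) : min (LocCoh.idealDepth I N') (LocCoh.idealDepth I N'') ≤ LocCoh.idealDepth I N ∧ min (LocCoh.idealDepth I N) (LocCoh.idealDepth I N' - 1) ≤ LocCoh.idealDepth I N'' ∧ min (LocCoh.idealDepth I N)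 (LocCoh.idealDepth I N'' + 1) ≤ LocCoh.idealDepth I N' := by
  let S : ShortComplex (ModuleCat.{u} R) :=
    ShortComplex.mk (X₁ := ModuleCat.of R N') (X₂ := ModuleCat.of R N) (X₃ := ModuleCat.of R N'')
      (ModuleCat.ofHom f) (ModuleCat.ofHom g) (by ext x; exact (hfg (f x)).2 ⟨x, rfl⟩)
  have hS : S.ShortExact :=
    { exact := by
        rw [ShortComplex.moduleCat_exact_iff]
        intro y hy
        exact (hfg y).1 hy
      mono_f := (ModuleCat.mono_iff_injective _).2 hf
      epi_g := (ModuleCat.epi_iff_surjective _).2 hg }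
  refine ⟨?_, ?_, ?_⟩
  · refine ENat.forall_natCast_le_iff_le.1 fun n hn => ?_
    rw [le_min_iff, Groth.Agent.LocH.le_idealDepth_iff, Groth.Agent.LocH.le_idealDepth_iff] at hn
    rw [Groth.Agent.LocH.le_idealDepth_iff]
    exact fun i hi => Groth.Agent.LocH.subsingleton_X₂ hS i (hn.1 i hi) (hn.2 i hi)
  · refine ENat.forall_natCast_le_iff_le.1 fun n hn => ?_
    rw [Groth.Agent.LocH.le_idealDepth_iff]
    intro i hi
    rw [le_min_iff, Groth.Agent.LocH.le_idealDepth_iff] at hn
    have h1 : ((i + 2 : ℕ) : ℕ∞) ≤ LocCoh.idealDepth I N' := by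
      have : ((i + 1 : ℕ) : ℕ∞) ≤ LocCoh.idealDepth I N' - 1 := le_trans (by exact_mod_cast hi) hn.2
      revert this
      generalize LocCoh.idealDepth I N' = d
      intro this
      cases d with
      | top => exact le_top
      | coe d =>
        have : i + 1 ≤ d - 1 := by exact_mod_cast this
        exact_mod_cast (show i + 2 ≤ d by omega)
    rw [Groth.Agent.LocH.le_idealDepth_iff] at h1
    exact Groth.Agent.LocH.subsingleton_X₃ hS i (hn.1 i hi) (h1 (i + 1) (by omega))
  · refine ENat.forall_natCast_le_iff_le.1 fun n hn => ?_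
    rw [Groth.Agent.LocH.le_idealDepth_iff]
    intro i hi
    rw [le_min_iff, Groth.Agent.LocH.le_idealDepth_iff] at hn
    cases i with
    | zero =>
      have h2 : DRing.torsionSub I N = ⊥ := Groth.Agent.LocH.torsionSub_eq_bot_of_subsingleton (hn.1 0 hi)
      have : Subsingleton ↑((DRing.gammaI I).obj (ModuleCat.of R N')) := ⟨fun a b => by
        have key : ∀ c : DRing.torsionSub I N', f c.1 = 0 := fun c =>
          (Submodule.mem_bot R).1 (h2 ▸ DRing.map_mem_torsionSub I f c.2)
        exact Subtype.ext (hf ((key a).trans (key b).symm))⟩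
      exact ((Groth.Agent.LocH.zeroIso I).app (ModuleCat.of R N')).toLinearEquiv.toEquiv.subsingleton
    | succ k =>
      have h1 : ((k + 1 : ℕ) : ℕ∞) ≤ LocCoh.idealDepth I N'' := by
        have : ((k + 1 + 1 : ℕ) : ℕ∞) ≤ LocCoh.idealDepth I N'' + 1 := le_trans (by exact_mod_cast hi) hn.2
        revert this
        generalize LocCoh.idealDepth I N'' = d
        intro this
        cases d with
        | top => exact le_top
        | coe d =>
          have : k + 1 + 1 ≤ d + 1 := by exact_mod_cast this
          exact_mod_cast (show k + 1 ≤ d by omega)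
      rw [Groth.Agent.LocH.le_idealDepth_iff] at h1
      exact Groth.Agent.LocH.subsingleton_X₁ hS k (hn.1 (k + 1) hi) (h1 k (by omega))

end Groth.Agent.S0321
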