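import Groth.Statements.S0328
import Mathlib
import Groth.Agent.LocH.TopDegree
-- import your own Groth.Agent.* helpers here

set_option autoImplicit false
universe u v
open LocCoh

namespace Groth.Agent.S0328

/-- In a Noetherian local ring, if a prime p and a proper ideal I together have radical the maximal
ideal and dim R/p = d ≥ 1, then local cohomology with support in I does not vanish in all degrees ≥
d. -/
theorem result (R : Type u) [CommRing R] [IsLocalRing R] [IsNoetherianRing R] (I : Ideal R) (hI : I ≠ ⊤) (p : Ideal R) [p.IsPrime] (hpI : (p ⊔ I).radical = IsLocalRing.maximalIdeal R) (d : ℕ) (hd : ringKrullDim (R ⧸ p) = d) (hd1 : 1 ≤ d) : ¬ LocCoh.CdLE R I (d - 1) := by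
  intro h
  have h1 : Subsingleton (LocCoh.H I d (R ⧸ p)) := h (R ⧸ p) d (by omega)
  rw [Groth.Agent.LocH.subsingleton_sup_iff (p := p) (R ⧸ p) (Groth.Agent.LocH.isPowerTorsion_quotient p) d,
    Groth.Agent.LocH.subsingleton_iff_of_radical_eq (K := IsLocalRing.maximalIdeal R)
      (by rw [sup_comm, hpI, (IsLocalRing.maximalIdeal.isMaximal R).isPrime.radical])] at h1
  exact not_subsingleton_iff_nontrivial.2 (Groth.Agent.LocH.nontrivial_at_supportDim (R ⧸ p) d
    ((Module.supportDim_quotient_eq_ringKrullDim p).trans hd)) h1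

end Groth.Agent.S0328
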