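import Groth.Statements.S0329
import Groth.Agent.LocH.FiniteH
import Mathlib
-- import your own Groth.Agent.* helpers here

set_option autoImplicit false
universe u v
open LocCoh

namespace Groth.Agent.S0329

/-- Part (1): ⇔(2) with T = V(I) (Faltings): for a finite module M over a Noetherian ring, the local
cohomology modules H^i_I(M) for i ≤ n are all finitely generated exactly when some ideal J with I
contained in the radical of J kills all of them. -/
theorem result (R : Type u) [CommRing R] [IsNoetherianRing R] (I : Ideal R) (M : Type u) [AddCommGroup M] [Module R M] [Module.Finite R M] (n : ℕ) : (∀ i : ℕ, i ≤ n → Module.Finite R (LocCoh.H I i M)) ↔ ∃ J : Ideal R, I ≤ J.radical ∧ ∀ i : ℕ, i ≤ n → ∀ a ∈ J, ∀ x : LocCoh.H I i M, a • x = 0 := by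
  classical
  refine ⟨fun h => ?_, fun ⟨J, hJ, hk⟩ => ?_⟩
  · have h' : ∀ i : ℕ, ∃ k : ℕ, i ≤ n → ∀ a ∈ I ^ k, ∀ x : LocCoh.H I i M, a • x = 0 := fun i => by
      by_cases hi : i ≤ n
      · have : Module.Finite R ↑((localCohomology I i).obj (ModuleCat.of R M)) := h i hi
        obtain ⟨k, hk⟩ := LocH.exists_pow_killed_of_finite I i (ModuleCat.of R M)
        exact ⟨k, fun _ => hk⟩
      · exact ⟨0, fun h' => absurd h' hi⟩
    choose k hk using h'
    refine ⟨I ^ ((Finset.range (n + 1)).sup k + 1), ?_, fun i hi a ha => hk i hi a (Ideal.pow_le_pow_right ?_ ha)⟩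
    · rw [Ideal.radical_pow _ (Nat.succ_ne_zero _)]
      exact Ideal.le_radical
    · exact (Finset.le_sup (f := k) (Finset.mem_range.2 (Nat.lt_succ_of_le hi))).trans (Nat.le_succ _)
  · obtain ⟨m, hm⟩ := Ideal.exists_pow_le_of_le_radical_of_fg hJ (IsNoetherian.noetherian I)
    exact LocH.finite_of_killed I M n fun i hi => ⟨m, fun a ha => hk i hi a (hm ha)⟩

end Groth.Agent.S0329
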