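import Groth.Statements.S0330
import Groth.Agent.LocH.FiniteH
import Mathlib
-- import your own Groth.Agent.* helpers here

set_option autoImplicit false
universe u v
open LocCoh

namespace Groth.Agent.S0330

/-- For a finite module M over a Noetherian ring, finiteness of the local cohomology modules H^i_I(M)
for i ≤ n can be checked after localizing at each prime. -/
theorem result (R : Type u) [CommRing R] [IsNoetherianRing R] (I : Ideal R) (M : Type u) [AddCommGroup M] [Module R M] [Module.Finite R M] (n : ℕ) : (∀ i : ℕ, i ≤ n → Module.Finite R (LocCoh.H I i M)) ↔ ∀ (p : Ideal R) [p.IsPrime], ∀ i : ℕ, i ≤ n → Module.Finite (Localization.AtPrime p) (LocalizedModule p.primeCompl (LocCoh.H I i M)) := by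
  refine ⟨fun h p _ i hi => ?_, fun h i => ?_⟩
  · have := h i hi
    exact Module.Finite.of_isLocalizedModule p.primeCompl (LocalizedModule.mkLinearMap p.primeCompl (LocCoh.H I i M))
  induction i using Nat.strong_induction_on with
  | _ i ih =>
    intro hi
    let T : ℕ → Submodule R (LocCoh.H I i M) := fun k =>
      Submodule.torsionBySet R (LocCoh.H I i M) ((I ^ k : Ideal R) : Set R)
    have hmem : ∀ k (x : LocCoh.H I i M), x ∈ T k ↔ ∀ a ∈ I ^ k, a • x = 0 := fun k x =>
      (Submodule.mem_torsionBySet_iff _ _).trans ⟨fun h a ha => h ⟨a, ha⟩, fun h a => h a a.2⟩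
    have hT : ∀ k, (T k).FG := LocH.fg_torsion_pow I M (fun j hj => ih j hj (by omega))
    have hmono : ∀ {k l}, k ≤ l → T k ≤ T l := fun hkl x hx =>
      (hmem _ _).2 fun a ha => (hmem _ _).1 hx a (Ideal.pow_le_pow_right hkl ha)
    let K : ℕ →o Ideal R := ⟨fun k => (T k).colon (T (k + 1) : Set (LocCoh.H I i M)), monotone_nat_of_le_succ fun k a ha => by
      refine Submodule.mem_colon.2 fun x hx => (hmem _ _).2 fun b hb => ?_
      rw [pow_succ'] at hb
      induction hb using Submodule.mul_induction_on' with
      | mem_mul_mem c hc e he =>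
        have h1 : c • x ∈ T (k + 1) := (hmem _ _).2 fun f hf => by
          rw [← mul_smul]
          exact (hmem _ _).1 hx _ (pow_succ I (k + 1) ▸ Ideal.mul_mem_mul hf hc)
        have h2 := (hmem _ _).1 (Submodule.mem_colon.1 ha _ h1) e he
        rw [← mul_smul, show c * e * a = e * (a * c) by ring, mul_smul, mul_smul]
        exact h2
      | add x _ y _ hx hy => rw [add_smul, hx, hy, add_zero]⟩
    obtain ⟨N, hN⟩ := monotone_stabilizes_iff_noetherian.2 (inferInstance : IsNoetherian R R) K
    have htop : K N = ⊤ := by
      by_contra hne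
      obtain ⟨p, hp, hle⟩ := Ideal.exists_le_maximal _ hne
      have := h p i hi
      obtain ⟨t, ht⟩ := Module.Finite.fg_top (R := Localization.AtPrime p) (M := LocalizedModule p.primeCompl (LocCoh.H I i M))
      have hrep : ∀ z : LocalizedModule p.primeCompl (LocCoh.H I i M), ∃ (m : LocCoh.H I i M) (k : ℕ) (s : p.primeCompl),
          m ∈ T k ∧ z = LocalizedModule.mk m s := fun z => by
        induction z using LocalizedModule.induction_on with
        | h m s =>
          obtain ⟨k, hk⟩ := LocH.isPowerTorsion I i (ModuleCat.of R M) m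
          exact ⟨m, k, s, (hmem _ _).2 hk, rfl⟩
      choose m k s hk hz using hrep
      let L := max N (t.sup k)
      have hloc : ∀ x : LocCoh.H I i M, ∃ c : p.primeCompl, c • x ∈ T L := by
        intro x
        have hx : LocalizedModule.mk x (1 : p.primeCompl) ∈ (T L).localized p.primeCompl := by
          have : LocalizedModule.mk x (1 : p.primeCompl) ∈ Submodule.span (Localization.AtPrime p) (t : Set _) := ht ▸ Submodule.mem_top
          refine Submodule.span_le.2 (fun z hz' => ?_) this
          exact ⟨m z, hmono ((Finset.le_sup (Finset.mem_coe.1 hz')).trans (le_max_right _ _)) (hk z), s z, by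
            rw [← IsLocalizedModule.mk_eq_mk']; exact (hz z).symm⟩
        obtain ⟨y, hy, c, hc⟩ := hx
        rw [← IsLocalizedModule.mk_eq_mk', LocalizedModule.mk_eq] at hc
        obtain ⟨w, hw⟩ := hc
        refine ⟨w * c, ?_⟩
        rw [mul_smul, ← hw, one_smul]
        exact (T L).smul_mem (w : R) hy
      obtain ⟨u, hu⟩ := hT (L + 1)
      choose c hc using hloc
      have hprod : ∏ y ∈ u, (c y : R) ∉ p := fun hmem' => by
        obtain ⟨y, -, hy⟩ := (hp.isPrime.prod_mem_iff).1 hmem'
        exact (c y).2 hy
      refine hprod (hle ?_)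
      rw [hN L (le_max_left _ _)]
      refine Submodule.mem_colon.2 fun x hx => ?_
      rw [SetLike.mem_coe, ← hu] at hx
      induction hx using Submodule.span_induction with
      | mem y hy =>
        obtain ⟨e, he⟩ := Finset.dvd_prod_of_mem (fun y => (c y : R)) hy
        rw [he, mul_comm, mul_smul]
        exact (T L).smul_mem e (hc y)
      | zero => rw [smul_zero]; exact (T L).zero_mem
      | add a b _ _ ha hb => rw [smul_add]; exact (T L).add_mem ha hb
      | smul r a _ ha => rw [smul_comm]; exact (T L).smul_mem r ha
    have hstep : ∀ d, T (N + d) = T N := fun d => by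
      induction d with
      | zero => rfl
      | succ d ihd =>
        refine le_antisymm (fun x hx => ?_) (hmono (Nat.le_add_right _ _))
        rw [← ihd]
        have h1 : (1 : R) ∈ K (N + d) := by rw [← hN (N + d) (Nat.le_add_right _ _), htop]; exact Submodule.mem_top
        simpa using Submodule.mem_colon.1 h1 x hx
    have : T N = ⊤ := eq_top_iff.2 fun x _ => by
      obtain ⟨k, hk⟩ := LocH.isPowerTorsion I i (ModuleCat.of R M) x
      exact hstep k ▸ hmono (Nat.le_add_left _ _) ((hmem _ _).2 hk)
    exact ⟨this ▸ hT N⟩

end Groth.Agent.S0330
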