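import Groth.Statements.S1743
import Groth.Agent.LocH.Killing
import Mathlib
-- import your own Groth.Agent.* helpers here

set_option autoImplicit false
universe u
open LocCoh

namespace Groth.Agent.S1743

/-- Let A be a Noetherian ring, J ⊆ I ideals and i ≥ 0. If H^i_I(A) is annihilated by J^n for some n,
then for every finite A-module M such that M_f is a projective A_f-module for every f in I, the
module H^i_I(M) is annihilated by J^m for some m. (The source allows any ring with finitely
generated ideals and finitely presented M.) -/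
theorem result (A : Type u) [CommRing A] [IsNoetherianRing A] (J I : Ideal A) (hJI : J ≤ I) (i n : ℕ) (hA : ∀ a ∈ J ^ n, ∀ x : LocCoh.H I i A, a • x = 0) (M : Type u) [AddCommGroup M] [Module A M] [Module.Finite A M] (hM : ∀ f ∈ I, Module.Projective (Localization.Away f) (LocalizedModule (Submonoid.powers f) M)) : ∃ m : ℕ, ∀ a ∈ J ^ m, ∀ x : LocCoh.H I i M, a • x = 0 := by
  let K : Ideal A := (Module.annihilator A (LocCoh.H I i M)).colon ((J ^ n : Ideal A) : Set A)
  have hK : I ≤ K.radical := by
    intro f hf
    obtain ⟨k, π, hπ⟩ := Module.Finite.exists_fin' A M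
    have : Module.Projective (Localization (Submonoid.powers f)) (LocalizedModule (Submonoid.powers f) M) := hM f hf
    obtain ⟨g, r, ⟨m, rfl⟩, hgr⟩ := LocH.exists_factor M (Submonoid.powers f) π hπ
    refine ⟨m, Submodule.mem_colon.2 fun b hb => Module.mem_annihilator.2 fun x => ?_⟩
    rw [smul_eq_mul, mul_comm]
    exact LocH.killed_of_factor g π hgr (LocH.H_pi_killed I i k b (hA b hb)) x
  obtain ⟨N, hN⟩ := Ideal.exists_pow_le_of_le_radical_of_fg hK (IsNoetherian.noetherian I)
  refine ⟨N + n, fun a ha x => Module.mem_annihilator.1 ((?_ : J ^ (N + n) ≤ Module.annihilator A (LocCoh.H I i M)) ha) x⟩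
  rw [pow_add]
  refine Ideal.mul_le.2 fun r hr b hb => ?_
  exact Submodule.mem_colon.1 (hN (Ideal.pow_right_mono hJI N hr)) b hb

end Groth.Agent.S1743
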