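import Groth.Statements.S0331
import Groth.Agent.LocH.FiniteH
import Groth.Agent.S1743
import Mathlib
-- import your own Groth.Agent.* helpers here

set_option autoImplicit false
universe u v
open LocCoh

namespace Groth.Agent.S0331

/-- Over a Noetherian ring, if H^i_I(R) is finitely generated for i ≤ n, then so is H^i_I(M) for i ≤ n
for every finite module M that becomes finite projective after inverting any single element of I. -/
theorem result (R : Type u) [CommRing R] [IsNoetherianRing R] (I : Ideal R) (n : ℕ) (hR : ∀ i : ℕ, i ≤ n → Module.Finite R (LocCoh.H I i R)) (M : Type u) [AddCommGroup M] [Module R M] [Module.Finite R M] (hM : ∀ f ∈ I, Module.Projective (Localization.Away f) (LocalizedModule (Submonoid.powers f) M)) (i : ℕ) (hi : i ≤ n) : Module.Finite R (LocCoh.H I i M) := by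
  have hfin : ∀ j, j ≤ n → ∃ k : ℕ, ∀ a ∈ I ^ k, ∀ x : LocCoh.H I j M, a • x = 0 := fun j hj => by
    have : Module.Finite R ↑((localCohomology I j).obj (ModuleCat.of R R)) := hR j hj
    obtain ⟨m, hm⟩ := LocH.exists_pow_killed_of_finite I j (ModuleCat.of R R)
    exact Groth.Agent.S1743.result R I I le_rfl j m hm M hM
  exact LocH.finite_of_killed I M n hfin i hi

end Groth.Agent.S0331
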