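import Groth.Statements.S0333
import Groth.Agent.HLVT.Complete
-- import your own Groth.Agent.* helpers here

set_option autoImplicit false
universe u v
open LocCoh

namespace Groth.Agent.S0333

open scoped Pointwise

/-- Over a Noetherian ring of dimension d, if H^d_I(M) = 0 for one finite module M whose support
contains every minimal prime p with dim R/p = d, then H^i_I vanishes in degrees ≥ d on all modules. -/
theorem result (R : Type u) [CommRing R] [IsNoetherianRing R] (I : Ideal R) (d : ℕ) (hd : ringKrullDim R = d) (M : Type u) [AddCommGroup M] [Module R M] [Module.Finite R M] (hsupp : ∀ p ∈ minimalPrimes R, ringKrullDim (R ⧸ p) = d → ∀ hp : p.IsPrime, (⟨p, hp⟩ : PrimeSpectrum R) ∈ Module.support R M) (hvan : Subsingleton (LocCoh.H I d M)) (N : Type u) [AddCommGroup N] [Module R N] (i : ℕ) (hi : d ≤ i) : Subsingleton (LocCoh.H I i N) := by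
  refine HLVT.subsingleton_of_forall_prime I hd.le (fun q hq hqd => ?_) N i hi
  haveI := hq
  have hmin : q ∈ minimalPrimes R := by
    rw [← Ideal.height_eq_zero_iff]
    have h1 := CMFlat.ringKrullDim_quotient_add_le q
    rw [hqd, hd] at h1
    have h2 : ((d : ℕ∞) + q.height : ℕ∞) ≤ (d : ℕ∞) := by exact_mod_cast h1
    cases hh : q.height with
    | top => rw [hh] at h2; simp at h2
    | coe k =>
      rw [hh] at h2
      have h3 : d + k ≤ d := by exact_mod_cast h2
      exact_mod_cast show k = 0 by omega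
  obtain ⟨φ, hφ⟩ := LocH.exists_hom_ne_zero ⟨q, hq⟩ (hsupp q hmin hqd hq)
  let J : Submodule R (R ⧸ q) := LinearMap.range φ
  have hJ : Subsingleton (LocCoh.H I d J) := subsingleton_of_forall_eq 0 fun y => by
    obtain ⟨x, rfl⟩ := LocH.map_surjective_of_surjective (I := I) φ.rangeRestrict φ.surjective_rangeRestrict d
      ((Module.supportDim_le_ringKrullDim R M).trans hd.le |>.trans_lt (by exact_mod_cast Nat.lt_succ_self d)) y
    exact (congrArg _ (hvan.elim x 0)).trans (map_zero _)
  obtain ⟨m, hm⟩ : ∃ m, φ m ≠ 0 := by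
    by_contra! h
    exact hφ (LinearMap.ext h)
  obtain ⟨x, hx⟩ := Ideal.Quotient.mk_surjective (φ m)
  have hxq : x ∉ q := fun h => hm (hx ▸ Ideal.Quotient.eq_zero_iff_mem.2 h)
  have hxJ : x • (⊤ : Submodule R (R ⧸ q)) ≤ J := by
    intro z hz
    rw [Submodule.mem_smul_pointwise_iff_exists] at hz
    obtain ⟨w, -, rfl⟩ := hz
    obtain ⟨r, rfl⟩ := Ideal.Quotient.mk_surjective w
    refine ⟨r • m, ?_⟩
    rw [map_smul, ← hx]
    show Ideal.Quotient.mk q (r * x) = Ideal.Quotient.mk q (x * r)
    rw [mul_comm]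
  have hQ : Subsingleton (LocCoh.H I d ((R ⧸ q) ⧸ J)) :=
    LocH.subsingleton_of_supportDim_lt I d _ ((Module.supportDim_le_of_surjective (Submodule.factor hxJ)
      (Submodule.factor_surjective hxJ)).trans_lt (LocH.supportDim_quotient_lt hxq hqd.le))
  refine subsingleton_of_forall_eq 0 fun z => ?_
  let S : CategoryTheory.ShortComplex (ModuleCat.{u} R) := CategoryTheory.ShortComplex.mk
    (ModuleCat.ofHom J.subtype) (ModuleCat.ofHom J.mkQ) (by ext w; exact (Submodule.Quotient.mk_eq_zero _).2 w.2)
  have hS : S.ShortExact :=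
    { exact := by
        rw [CategoryTheory.ShortComplex.moduleCat_exact_iff]
        intro y hy
        exact ⟨⟨y, (Submodule.Quotient.mk_eq_zero _).1 hy⟩, rfl⟩
      mono_f := (ModuleCat.mono_iff_injective _).2 J.injective_subtype
      epi_g := (ModuleCat.epi_iff_surjective _).2 J.mkQ_surjective }
  obtain ⟨w, rfl⟩ := LocH.exact₂ hS d (x := z) (hQ.elim _ _)
  exact (congrArg _ (hJ.elim w 0)).trans (map_zero _)

end Groth.Agent.S0333
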