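import Groth.Statements.S16368
import Mathlib

set_option autoImplicit false
universe u v
open TensorProduct
open FrobAlg

namespace Groth.Agent.S16368

/-- Let R be a local ring of prime characteristic p and M a finitely presented R-module. Write R' for R
regarded as an R-algebra through its Frobenius a ↦ a^p, so that R' ⊗_R M is the pull-back of M along
the absolute Frobenius of Spec R, an R'-module. If this pull-back is isomorphic to M — there is a
bijective map e : R' ⊗_R M → M, additive and semilinear for the identification R' = R — then M is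
free. -/
theorem result
    (p : ℕ) [Fact p.Prime] (R : Type u) [CommRing R] [IsLocalRing R] [CharP R p]
    (M : Type v) [AddCommGroup M] [Module R M] [Module.FinitePresentation R M]
    (e : (FrobAlg.Twist p R ⊗[R] M) →ₛₗ[((FrobAlg.toTwist p R).symm : FrobAlg.Twist p R →+* R)] M)
    (he : Function.Bijective e) :
    Module.Free R M := by
  classical
  let τ := FrobAlg.toTwist p R
  obtain ⟨n, ⟨π, hπ⟩, hmin⟩ : ∃ n, (∃ π : (Fin n → R) →ₗ[R] M, Function.Surjective π) ∧
      ∀ m < n, ¬ ∃ π : (Fin m → R) →ₗ[R] M, Function.Surjective π := by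
    have h : ∃ n, ∃ π : (Fin n → R) →ₗ[R] M, Function.Surjective π := Module.Finite.exists_fin' R M
    exact ⟨Nat.find h, Nat.find_spec h, fun m hm => Nat.find_min h hm⟩
  set m := IsLocalRing.maximalIdeal R with hm
  have hker : ∀ v, π v = 0 → ∀ i, v i ∈ m := by
    intro v hv i
    by_contra hi
    obtain ⟨u, hu⟩ : IsUnit (v i) := by simpa [hm, IsLocalRing.mem_maximalIdeal] using hi
    cases n with
    | zero => exact i.elim0
    | succ n =>
      refine hmin n (Nat.lt_succ_self n) ⟨π ∘ₗ ⟨⟨fun y => Fin.insertNth i (0 : R) y, ?_⟩, ?_⟩, ?_⟩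
      · intro a b; simp [← Fin.insertNth_add]
      · intro a b
        funext j
        refine Fin.succAboveCases i ?_ (fun j => ?_) j <;> simp
      · intro x
        obtain ⟨y, rfl⟩ := hπ x
        refine ⟨Fin.removeNth i (y - (y i * ↑u⁻¹) • v), ?_⟩
        show π (Fin.insertNth i (0 : R) _) = π y
        have h0 : (0 : R) = (y - (y i * ↑u⁻¹) • v) i := by
          simp [← hu, mul_assoc]
        rw [h0, Fin.insertNth_self_removeNth, map_sub, map_smul, hv, smul_zero, sub_zero]
  let K := LinearMap.ker π
  have hKfg : K.FG := Module.FinitePresentation.fg_ker π hπ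
  let I : Ideal R := ⨆ i : Fin n, K.map (LinearMap.proj i)
  have hI : ∀ v ∈ K, ∀ i, v i ∈ I := fun v hv i => Submodule.mem_iSup_of_mem i ⟨v, hv, rfl⟩
  let E : (Fin n → R) →ₗ[R] (Fin n → R) := LinearMap.id
  let π' : (Fin n → R) →ₗ[R] M :=
    { toFun := fun x => e (∑ i, τ (x i) ⊗ₜ[R] π (Pi.single i 1))
      map_add' := fun x y => by simp only [Pi.add_apply, map_add, TensorProduct.add_tmul, Finset.sum_add_distrib]
      map_smul' := fun c x => by
        simp only [Pi.smul_apply, smul_eq_mul, map_mul, RingHom.id_apply]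
        rw [show (∑ i, (τ c * τ (x i)) ⊗ₜ[R] π (Pi.single i 1)) = τ c • ∑ i, τ (x i) ⊗ₜ[R] π (Pi.single i 1) by
          rw [Finset.smul_sum]; rfl, e.map_smulₛₗ]
        rfl }
  have hsingle : ∀ y : Fin n → R, π y = ∑ i, y i • π (Pi.single i 1) := fun y => by
    conv_lhs => rw [pi_eq_sum_univ' y]
    simp [map_sum]
  have hπ' : Function.Surjective π' := by
    intro x
    obtain ⟨z, rfl⟩ := he.2 x
    induction z using TensorProduct.induction_on with
    | zero => exact ⟨0, by rw [map_zero, map_zero]⟩
    | tmul t z =>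
      obtain ⟨y, rfl⟩ := hπ z
      refine ⟨fun i => τ.symm (y i • t), ?_⟩
      show e _ = _
      rw [hsingle y, TensorProduct.tmul_sum]
      congr 1
      refine Finset.sum_congr rfl fun i _ => ?_
      rw [RingEquiv.apply_symm_apply, TensorProduct.smul_tmul]
    | add a b ha hb =>
      obtain ⟨a', ha⟩ := ha
      obtain ⟨b', hb⟩ := hb
      exact ⟨a' + b', by rw [map_add, map_add, ha, hb]⟩
  have hker' : ∀ x, π' x = 0 → ∀ i, x i ∈ m * I := by
    intro x hx i
    let z : FrobAlg.Twist p R ⊗[R] (Fin n → R) := ∑ j, τ (x j) ⊗ₜ Pi.single j 1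
    have hz0 : π.lTensor (FrobAlg.Twist p R) z = 0 := he.1 (by
      rw [map_zero]
      refine Eq.trans ?_ hx
      show e _ = e _
      simp [z])
    obtain ⟨w, hw⟩ := (lTensor_exact (FrobAlg.Twist p R) (f := K.subtype) (LinearMap.exact_subtype_ker_map π) hπ z).1 hz0
    have hcoord : ∀ w : FrobAlg.Twist p R ⊗[R] K, ∀ i,
        τ.symm (TensorProduct.piScalarRight R R (FrobAlg.Twist p R) (Fin n) (K.subtype.lTensor _ w) i) ∈ m * I := by
      intro w i
      induction w using TensorProduct.induction_on with
      | zero => simp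
      | tmul t v =>
        rw [LinearMap.lTensor_tmul, TensorProduct.piScalarRight_apply, TensorProduct.piScalarRightHom_tmul]
        show τ.symm ((v.1 i) • t) ∈ _
        rw [Algebra.smul_def, FrobAlg.algebraMap_twist, map_mul, RingEquiv.symm_apply_apply]
        refine Ideal.mul_mem_right _ _ ?_
        rw [← Nat.sub_add_cancel (Fact.out : p.Prime).one_le, pow_succ]
        exact Ideal.mul_mem_mul (Ideal.pow_mem_of_mem _ (hker _ v.2 i) _ (Nat.sub_pos_of_lt (Fact.out : p.Prime).one_lt))
          (hI _ v.2 i)
      | add a b ha hb => simp only [map_add, Pi.add_apply]; exact add_mem ha hb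
    have := hcoord w i
    rw [hw, map_sum, Finset.sum_apply, Finset.sum_eq_single i
      (fun j _ hj => by simp [TensorProduct.piScalarRight_apply, Pi.single_eq_of_ne hj.symm]) (by simp),
      TensorProduct.piScalarRight_apply, TensorProduct.piScalarRightHom_tmul] at this
    simpa only [Pi.single_eq_same, one_smul, RingEquiv.symm_apply_apply] using this
  obtain ⟨α, hα⟩ := Module.projective_lifting_property π π' hπ
  obtain ⟨β, hβ⟩ := Module.projective_lifting_property π' π hπ'
  let D : (Fin n → R) →ₗ[R] (Fin n → R) := α ∘ₗ β - LinearMap.id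
  have hD : ∀ v, π (D v) = 0 := fun v => by
    rw [LinearMap.sub_apply, map_sub, LinearMap.comp_apply, ← LinearMap.comp_apply π α, hα, ← LinearMap.comp_apply π' β, hβ]
    simp
  have key : I ≤ m * I := by
    refine iSup_le fun i => ?_
    rintro _ ⟨v, hv, rfl⟩
    have h1 : ∀ j, (α (β v)) j ∈ m * I := fun j => by
      have hb := hker' (β v) (by rw [← LinearMap.comp_apply π' β, hβ]; exact hv)
      rw [show β v = ∑ l, β v l • Pi.single l (1 : R) from pi_eq_sum_univ' _, map_sum, Finset.sum_apply]
      exact Ideal.sum_mem _ fun l _ => by rw [map_smul, Pi.smul_apply, smul_eq_mul]; exact Ideal.mul_mem_right _ _ (hb l)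
    have h2 : ∀ j, D v j ∈ m * I := fun j => by
      rw [show v = ∑ l, v l • Pi.single l (1 : R) from pi_eq_sum_univ' _, map_sum, Finset.sum_apply]
      exact Ideal.sum_mem _ fun l _ => by
        rw [map_smul, Pi.smul_apply, smul_eq_mul, mul_comm (v l)]
        exact Ideal.mul_mem_mul (hker _ (hD _) j) (hI v hv l)
    have : v i = α (β v) i - D v i := by simp [D]
    show v i ∈ m * I
    rw [this]
    exact sub_mem (h1 i) (h2 i)
  have hIfg : I.FG := Submodule.fg_iSup _ fun i => hKfg.map _
  have hI0 : I = ⊥ := Submodule.eq_bot_of_le_smul_of_le_jacobson_bot m I hIfg key (IsLocalRing.maximalIdeal_le_jacobson ⊥)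
  refine Module.Free.of_equiv (LinearEquiv.ofBijective π ⟨?_, hπ⟩)
  rw [← LinearMap.ker_eq_bot, Submodule.eq_bot_iff]
  intro v hv
  funext i
  simpa [hI0] using hI v hv i

end Groth.Agent.S16368
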