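import Groth.Statements.S0337
import Mathlib
import Groth.Agent.S16368
import Groth.Prelude.Def_FrobAlg

set_option autoImplicit false
universe u v
open CategoryTheory
open LocCoh

namespace Groth.Agent.S0337

/-- Over a Noetherian local ring of prime characteristic p, a finite module isomorphic to its own base
change along Frobenius is free. -/
theorem result (p : ℕ) [Fact p.Prime] (R : Type u) [CommRing R] [IsLocalRing R] [IsNoetherianRing R] [CharP R p] (M : Type u) [AddCommGroup M] [Module R M] [Module.Finite R M] (h : Nonempty ((ModuleCat.extendScalars (frobenius R p)).obj (ModuleCat.of R M) ≅ ModuleCat.of R M)) : Module.Free R M := by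
  obtain ⟨iso⟩ := h
  let L := iso.toLinearEquiv
  let e : (TensorProduct R (FrobAlg.Twist p R) M) →ₛₗ[((FrobAlg.toTwist p R).symm : FrobAlg.Twist p R →+* R)] M :=
    { toFun := fun x => L x
      map_add' := fun x y => L.map_add x y
      map_smul' := fun c x => L.map_smul ((FrobAlg.toTwist p R).symm c) x }
  haveI := Module.finitePresentation_of_finite R M
  exact S16368.result p R M e ⟨fun x y hxy => L.injective hxy, fun m => L.surjective m⟩

end Groth.Agent.S0337
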