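import Groth.Statements.S0349
import Groth.Agent.GrpField.Translate

set_option autoImplicit false
universe u v
open CategoryTheory MonoidalCategory CartesianMonoidalCategory MonObj GrpObj AlgebraicGeometry
open GrpSch

namespace Groth.Agent.S0349

open Groth.Agent.GrpField

/-- An irreducible group scheme over a field is quasi-compact. -/
theorem result (K : Type u) [Field K] (G : Over (Spec (CommRingCat.of K))) [GrpObj G] [IrreducibleSpace G.left] : CompactSpace G.left := by
  haveI : Subsingleton (Spec (CommRingCat.of K)) := inferInstanceAs (Subsingleton (PrimeSpectrum K))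
  obtain ⟨x⟩ : Nonempty G.left := inferInstance
  obtain ⟨U, hU, hx, -⟩ := exists_isAffineOpen_mem_and_subset (X := G.left) (x := x) (U := ⊤) trivial
  have hd : Dense (U : Set G.left) := U.2.dense ⟨x, hx⟩
  haveI : IsAffine U.toScheme := hU
  let j := Limits.pullback.map (U.ι ≫ G.hom) (U.ι ≫ G.hom) G.hom G.hom U.ι U.ι (𝟙 _) (by simp) (by simp)
  refine ⟨?_⟩
  have : (Set.univ : Set G.left) = Set.range (j ≫ μ[G].left) := by
    refine (Set.eq_univ_of_forall fun g => ?_).symm
    obtain ⟨z, h1, h2, h3⟩ := exists_mul_eq U.2 hd U.2 hd g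
    obtain ⟨w, hw⟩ : z ∈ Set.range j := by
      rw [Scheme.Pullback.range_map]
      exact ⟨by simpa [Scheme.Opens.range_ι] using h1, by simpa [Scheme.Opens.range_ι] using h2⟩
    exact ⟨w, by rw [Scheme.Hom.comp_apply, hw]; exact h3⟩
  rw [this]
  exact isCompact_range (j ≫ μ[G].left).continuous

end Groth.Agent.S0349
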