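import Groth.Statements.S0350
import Groth.Agent.GrpComp.Field

set_option autoImplicit false
universe u v
open CategoryTheory MonoidalCategory CartesianMonoidalCategory MonObj GrpObj AlgebraicGeometry
open GrpSch

namespace Groth.Agent.S0350

/-- Let G be a group scheme over a field K. Then for every point x of G the local ring O_{G,x} has at
most one (hence exactly one) minimal prime, and there is exactly one irreducible component of G
passing through the identity point. The published statement also asserts that this component is
geometrically irreducible, which is not asserted here. -/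
theorem result (K : Type u) [Field K] (G : Over (Spec (CommRingCat.of K))) [GrpObj G] : (∀ x : G.left, (minimalPrimes (G.left.presheaf.stalk x)).Subsingleton) ∧ ∃! Z : Set G.left, Z ∈ irreducibleComponents (G.left : Type u) ∧ η[G].left (IsLocalRing.closedPoint K) ∈ Z := by

  refine ⟨fun x => ?_, irreducibleComponent (Groth.Agent.GrpComp.ept G),
    ⟨irreducibleComponent_mem_irreducibleComponents _, mem_irreducibleComponent⟩,
    fun Z hZ => Groth.Agent.GrpComp.eq_irreducibleComponent' G hZ.1 hZ.2⟩
  have hI : IsIrreducible (irreducibleComponent x) := isIrreducible_irreducibleComponent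
  have hg : closure ({hI.genericPoint} : Set G.left) = irreducibleComponent x :=
    hI.closure_genericPoint isClosed_irreducibleComponent
  obtain ⟨q, hq⟩ : hI.genericPoint ∈ Set.range (G.left.fromSpecStalk x) := by
    rw [Scheme.range_fromSpecStalk]
    exact specializes_iff_mem_closure.2 (hg.symm ▸ mem_irreducibleComponent)
  let qI : Ideal (G.left.presheaf.stalk x) := PrimeSpectrum.asIdeal q
  have key : ∀ p ∈ minimalPrimes (G.left.presheaf.stalk x), p = qI := by
    intro p hp
    haveI : p.IsPrime := hp.1.1
    let P : Spec (G.left.presheaf.stalk x) := ⟨p, hp.1.1⟩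
    have hPx : G.left.fromSpecStalk x P ⤳ x := by
      have : G.left.fromSpecStalk x P ∈ Set.range (G.left.fromSpecStalk x) := ⟨P, rfl⟩
      rwa [Scheme.range_fromSpecStalk] at this
    have hmem : G.left.fromSpecStalk x P ∈ irreducibleComponent x := by
      rw [Groth.Agent.GrpComp.eq_irreducibleComponent' G
        (irreducibleComponent_mem_irreducibleComponents (G.left.fromSpecStalk x P))
        (hPx.mem_closed isClosed_irreducibleComponent mem_irreducibleComponent) |>.symm]
      exact mem_irreducibleComponent
    have hsp : hI.genericPoint ⤳ G.left.fromSpecStalk x P :=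
      specializes_iff_mem_closure.2 (hg.symm ▸ hmem)
    rw [← hq, (G.left.fromSpecStalk x).isEmbedding.isInducing.specializes_iff] at hsp
    have hle : qI ≤ p := (PrimeSpectrum.le_iff_specializes q P).2 hsp
    exact le_antisymm (hp.2 ⟨PrimeSpectrum.isPrime q, bot_le⟩ hle) hle
  exact fun p hp p' hp' => (key p hp).trans (key p' hp').symm

end Groth.Agent.S0350
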