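import Groth.Statements.S0357
import Groth.Agent.Lich.Compact
import Groth.Agent.S0027
import Groth.Agent.GrpAct.Stabilizer
import Groth.Agent.DualGeneric.Basic

set_option autoImplicit false
universe u v
open CategoryTheory AlgebraicGeometry
open Dual

set_option backward.isDefEq.respectTransparency false
set_option backward.isDefEq.respectTransparency.types false

open Groth.Agent

namespace Groth.Agent.S0357

/-- (1)⇔(3): let X be nonempty, separated and of finite type over a field, of dimension d. Then H^d(X,
F) vanishes for every coherent F exactly when no irreducible closed subscheme of X of dimension d is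
proper over the field. ((3) is phrased with irreducible closed subschemes of dimension d, which are
the same as irreducible components of dimension d.) -/
theorem result (k : Type u) [Field k] (X : Scheme.{u}) (f : X ⟶ Spec (CommRingCat.of k)) [IsSeparated f] [LocallyOfFiniteType f] [QuasiCompact f] [Nonempty X] (d : ℕ) (hd : topologicalKrullDim X = d) : (∀ M : X.Modules, Coh.IsCoh M → Subsingleton (Coh.HH X M d)) ↔ ∀ (Z : Scheme.{u}) (i : Z ⟶ X) [IsClosedImmersion i] [IrreducibleSpace Z], topologicalKrullDim Z = d → ¬ IsProper (i ≫ f) := by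
  classical
  haveI : IsLocallyNoetherian X := LocallyOfFiniteType.isLocallyNoetherian f
  haveI : CompactSpace X := QuasiCompact.compactSpace_of_compactSpace f
  haveI : IsNoetherian X := {}
  constructor
  · intro h Z i _ _ hZ hp
    obtain ⟨R, r, hr, hRred, hrange⟩ :=
      GrpAct.exists_reduced_subscheme (A := (Set.univ : Set Z)) isClosed_univ.isLocallyClosed
    haveI : IsClosedImmersion r := IsClosedImmersion.of_isPreimmersion r (hrange ▸ isClosed_univ)
    have hho : IsHomeomorph r :=
      isHomeomorph_iff_isEmbedding_surjective.2 ⟨r.isEmbedding, Set.range_eq_univ.1 hrange⟩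
    haveI : IrreducibleSpace R := by
      haveI : Nonempty R := (Set.range_eq_univ.1 hrange (Nonempty.some inferInstance)).nonempty
      exact { toPreirreducibleSpace := hho.homeomorph.symm.surjective.preirreducibleSpace hho.homeomorph.symm.continuous, toNonempty := inferInstance }
    haveI : IsIntegral R := isIntegral_of_irreducibleSpace_of_isReduced R
    letI : R.Over (Spec (CommRingCat.of k)) := ⟨r ≫ i ≫ f⟩
    haveI : IsProper (R ↘ Spec (CommRingCat.of k)) := inferInstanceAs (IsProper (r ≫ i ≫ f))
    have hR : topologicalKrullDim R = (d : WithBot ℕ∞) := hho.topologicalKrullDim_eq.trans hZ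
    obtain ⟨ω, t, hω, ht⟩ := DCohShriek.exists_coh_isRDual k (X := R) d hR.le
    obtain ⟨eη⟩ := DualGeneric.exists_generic_equiv (k := k) (r := d) hR hω t (fun F hF => ht.2 F hF.1)
    haveI : Coh.IsQCoh ω := hω.1
    haveI : ω.IsQuasicoherent := hω.1
    have hpush : Coh.IsCoh ((Coh.push (r ≫ i)).obj ω) :=
      QC.isCoh_pushforward_of_isFinite (hM := hω.1) (r ≫ i) hω.2
    obtain ⟨e⟩ := S0012.result (r ≫ i) ω d
    haveI : Subsingleton (Coh.HH R ω d) := (e.toEquiv.subsingleton_congr).2 (h _ hpush)
    have hz : 𝟙 ω = 0 := (ht.2 ω hω.1).1 (LinearMap.ext fun x => by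
      rw [Subsingleton.elim x 0, map_zero, map_zero])
    have hs : Subsingleton (ω.presheaf.stalk (genericPoint R)) := subsingleton_of_forall_eq 0 fun v => by
      obtain ⟨V, hV, s, rfl⟩ := ω.presheaf.exists_germ_eq (x := genericPoint R) v
      have h1 : (𝟙 ω : ω ⟶ ω).app V s = (0 : ω ⟶ ω).app V s := by rw [hz]
      refine (congrArg (WeakAssLib.mgerm ω hV) (show s = 0 from h1)).trans ?_
      exact map_zero _
    haveI : Subsingleton (R.presheaf.stalk (genericPoint R)) := eη.symm.toEquiv.subsingleton
    exact false_of_nontrivial_of_subsingleton (R.presheaf.stalk (genericPoint R))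
  · intro h M hM
    refine S0027.result X (fun M => Subsingleton (Coh.HH X M d)) ?_ ?_ ?_ M hM
    · rintro A B ⟨e⟩ hA
      let e' : Coh.HH X A d → Coh.HH X B d := Sheaf.H.map ((SheafOfModules.toSheaf X.ringCatSheaf).map e.hom) d
      refine Function.Surjective.subsingleton (f := e') fun x => ⟨Sheaf.H.map ((SheafOfModules.toSheaf X.ringCatSheaf).map e.inv) d x, ?_⟩
      show Sheaf.H.map _ d (Sheaf.H.map _ d x) = x
      rw [← Sheaf.H.map_comp_apply, ← Functor.map_comp, Iso.inv_hom_id, CategoryTheory.Functor.map_id]
      exact Sheaf.H.map_id_apply _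
    · intro S hS _ _ _ h1 h3
      refine subsingleton_of_forall_eq 0 fun x => ?_
      obtain ⟨y, rfl⟩ := (CohFinite.map_g_eq_zero_iff (CohFinite.shortExact_toAb hS) d x).1 (h3.elim _ _)
      rw [h1.elim y 0]
      exact map_zero _
    · intro Z i hi hZint I ι _ hI
      haveI : IsLocallyNoetherian Z := LocallyOfFiniteType.isLocallyNoetherian (i ≫ f)
      have hIcoh : Coh.IsCoh I := QC.isCoh_of_mono ι RefStalk.isCoh_structureModule hI
      haveI : Coh.IsQCoh I := hI
      obtain ⟨e⟩ := S0012.result i I d
      haveI : CompactSpace Z := QuasiCompact.compactSpace_of_compactSpace (i ≫ f)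
      haveI : IsNoetherian Z := {}
      obtain ⟨n, hn⟩ : ∃ n : ℕ, topologicalKrullDim Z = n := ⟨_, Rigid.topologicalKrullDim_eq_pdim (i ≫ f)⟩
      have hnd : n ≤ d := by
        have := i.isClosedEmbedding.isEmbedding.isInducing.topologicalKrullDim_le
        rw [hn, hd] at this
        exact_mod_cast this
      haveI : Subsingleton (Coh.HH Z I d) := by
        rcases hnd.lt_or_eq with hlt | rfl
        · exact S0458.result (X := Z.toPresheafedSpace.carrier) n hn.le (Coh.toAb I) d hlt
        · exact Lich.subsingleton_hh_of_not_isProper Z (i ≫ f) I hIcoh n hn (h Z i hn)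
      exact e.symm.toEquiv.subsingleton

end Groth.Agent.S0357
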