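import Groth.Statements.S0358
import Mathlib
import Groth.Agent.S5774
import Groth.Agent.CMFlat.Localization

set_option autoImplicit false
universe u v
open LocCoh

namespace Groth.Agent.S0358

open IsLocalRing RingTheory.Sequence

/-- In a Cohen–Macaulay local ring every ideal contains a regular sequence as long as its codimension. -/
theorem exists_regular_of_ideal : ∀ (n : ℕ) (R : Type u) [CommRing R] [LocCoh.IsCohenMacaulayLocalRing R],
    ringKrullDim R = (n : WithBot ℕ∞) → ∀ (J : Ideal R), J ≠ ⊤ →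
      ∃ rs : List R, IsWeaklyRegular R rs ∧ (∀ r ∈ rs, r ∈ J) ∧
        (n : WithBot ℕ∞) ≤ ringKrullDim (R ⧸ J) + (rs.length : WithBot ℕ∞) := by
  intro n
  induction n with
  | zero =>
    intro R _ _ hn J hJ
    haveI : Nontrivial (R ⧸ J) := Ideal.Quotient.nontrivial_iff.mpr hJ
    refine ⟨[], IsWeaklyRegular.nil R R, by simp, ?_⟩
    rw [List.length_nil, Nat.cast_zero, add_zero]
    exact ringKrullDim_nonneg_of_nontrivial
  | succ n ih =>
    intro R _ _ hn J hJ
    by_cases hq : ∃ q ∈ associatedPrimes R R, J ≤ q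
    · obtain ⟨q, hq, hJq⟩ := hq
      refine ⟨[], IsWeaklyRegular.nil R R, by simp, ?_⟩
      rw [List.length_nil, Nat.cast_zero, add_zero]
      exact (CMSop.le_ringKrullDim_quotient_of_hasRegSeq (n + 1) inferInstance (CMFlat.hasRegSeq_of_cm hn) q hq).trans
        (ringKrullDim_le_of_surjective _ (Ideal.Quotient.factor_surjective hJq))
    push Not at hq
    obtain ⟨x, hxp, hx⟩ : ∃ x ∈ J, ∀ q ∈ associatedPrimes R R, x ∉ q := by
      by_contra hcon
      push Not at hcon
      have hfin := associatedPrimes.finite R R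
      obtain ⟨q, hq', hle⟩ := (Ideal.subset_union_prime (s := hfin.toFinset) (f := id) ⊥ ⊥
        (fun i hi _ _ => IsAssociatedPrime.isPrime (hfin.mem_toFinset.mp hi))).mp
        (show (J : Set R) ⊆ _ from fun z hz => by
          obtain ⟨q, hq', hzq⟩ := hcon z hz
          exact Set.mem_iUnion₂.mpr ⟨q, hfin.mem_toFinset.mpr hq', hzq⟩)
      exact hq q (hfin.mem_toFinset.mp hq') hle
    have hreg : IsSMulRegular R x := CMSop.isSMulRegular_of_forall fun q hq' => hx q hq'
    have hxm : x ∈ maximalIdeal R := le_maximalIdeal hJ hxp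
    obtain ⟨hcm, hdim⟩ := CMFlat.isCohenMacaulayLocalRing_quotient R hxm hreg hn
    have hker : Ideal.span {x} ≤ J := (Ideal.span_singleton_le_iff_mem _).2 hxp
    have hJ' : J.map (Ideal.Quotient.mk (Ideal.span {x})) ≠ ⊤ := fun h => hJ (by
      have h2 := congrArg (Ideal.comap (Ideal.Quotient.mk (Ideal.span {x}))) h
      rwa [Ideal.comap_map_mk hker, Ideal.comap_top] at h2)
    obtain ⟨rs', hw', hm', hlen'⟩ := @ih (R ⧸ Ideal.span {x}) _ hcm hdim _ hJ'
    obtain ⟨rs, rfl⟩ : ∃ rs : List R, rs.map (Ideal.Quotient.mk (Ideal.span {x})) = rs' :=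
      ⟨rs'.map (Function.surjInv Ideal.Quotient.mk_surjective), by
        rw [List.map_map]; exact List.map_id'' (Function.surjInv_eq _) rs'⟩
    refine ⟨x :: rs, ?_, fun r hr => ?_, ?_⟩
    · have e : QuotSMulTop x R ≃ₗ[R] R ⧸ Ideal.span {x} := Submodule.quotEquivOfEq _ _ (by
        rw [← Submodule.ideal_span_singleton_smul, smul_eq_mul, Ideal.mul_top])
      exact IsWeaklyRegular.cons hreg ((e.isWeaklyRegular_congr rs).2
        ((isWeaklyRegular_map_algebraMap_iff (S := R ⧸ Ideal.span {x}) (R ⧸ Ideal.span {x}) rs).1 hw'))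
    · rcases List.mem_cons.mp hr with rfl | hr
      · exact hxp
      · have h := hm' _ (List.mem_map_of_mem (f := Ideal.Quotient.mk (Ideal.span {x})) hr)
        rwa [← Ideal.mem_comap, Ideal.comap_map_mk hker] at h
    · rw [ringKrullDim_eq_of_ringEquiv (DoubleQuot.quotQuotEquivQuotOfLE hker), List.length_map] at hlen'
      rw [List.length_cons, Nat.cast_add, Nat.cast_add, ← add_assoc, Nat.cast_one]
      exact add_le_add hlen' le_rfl

/-- For a flat local homomorphism R → S of Noetherian local rings whose closed fibre S/m_R S is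
Cohen–Macaulay, and a proper ideal I of S, the I-depth of S is at least dim(S/m_R S) − dim(S/(m_R S
+ I)); stated additively. -/
theorem result (R : Type u) [CommRing R] [IsLocalRing R] [IsNoetherianRing R] (S : Type u) [CommRing S] [IsLocalRing S] [IsNoetherianRing S] [Algebra R S] [IsLocalHom (algebraMap R S)] [Module.Flat R S] (hCM : LocCoh.IsCohenMacaulayLocalRing (S ⧸ (IsLocalRing.maximalIdeal R).map (algebraMap R S))) (I : Ideal S) (hI : I ≠ ⊤) : ringKrullDim (S ⧸ (IsLocalRing.maximalIdeal R).map (algebraMap R S)) ≤ ringKrullDim (S ⧸ ((IsLocalRing.maximalIdeal R).map (algebraMap R S) ⊔ I)) + ((LocCoh.idealDepth I S : ℕ∞) : WithBot ℕ∞) := by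
  classical
  let 𝔪 := (IsLocalRing.maximalIdeal R).map (algebraMap R S)
  let mk : S →+* S ⧸ 𝔪 := Ideal.Quotient.mk 𝔪
  haveI := hCM
  obtain ⟨n, hn⟩ := SerreReg.exists_dim_nat (S ⧸ 𝔪)
  have hIm : 𝔪 ⊔ I ≤ IsLocalRing.maximalIdeal S := sup_le (IsLocalRing.map_maximalIdeal_le (algebraMap R S))
    (IsLocalRing.le_maximalIdeal hI)
  have hJ : I.map mk ≠ ⊤ := fun h => (IsLocalRing.maximalIdeal.isMaximal S).ne_top (top_le_iff.1 (by
    have h2 := congrArg (Ideal.comap mk) h
    rw [Ideal.comap_map_of_surjective mk Ideal.Quotient.mk_surjective, ← RingHom.ker_eq_comap_bot, Ideal.mk_ker,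
      Ideal.comap_top] at h2
    rw [← h2, sup_comm]
    exact hIm))
  obtain ⟨rs', hw, hm, hlen⟩ := exists_regular_of_ideal n (S ⧸ 𝔪) hn (I.map mk) hJ
  obtain ⟨rs, hrs, hrsI⟩ : ∃ rs : List S, rs.map mk = rs' ∧ ∀ r ∈ rs, r ∈ I := by
    clear hw hlen
    induction rs' with
    | nil => exact ⟨[], rfl, by simp⟩
    | cons a l ih =>
      obtain ⟨rs, h1, h2⟩ := ih fun r hr => hm r (List.mem_cons_of_mem _ hr)
      obtain ⟨b, hb, hba⟩ := (Ideal.mem_map_iff_of_surjective mk Ideal.Quotient.mk_surjective).1 (hm a List.mem_cons_self)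
      exact ⟨b :: rs, by rw [List.map_cons, h1, hba], by
        rintro r (_ | ⟨_, hr⟩); exacts [hb, h2 r hr]⟩
  subst hrs
  have hw1 : RingTheory.Sequence.IsWeaklyRegular (S ⧸ 𝔪) rs :=
    (RingTheory.Sequence.isWeaklyRegular_map_algebraMap_iff (S := S ⧸ 𝔪) (S ⧸ 𝔪) rs).1 hw
  let e : (S ⧸ (𝔪 • (⊤ : Submodule S S))) ≃ₗ[S] S ⧸ 𝔪 :=
    Submodule.quotEquivOfEq _ _ (by rw [smul_eq_mul, Ideal.mul_top])
  obtain ⟨hreg, -⟩ := S5774.result R S S rs ((e.isWeaklyRegular_congr rs).2 hw1)
  have hdepth : (rs.length : ℕ∞) ≤ LocCoh.idealDepth I S := by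
    rw [LocCoh.idealDepth, if_neg (by rw [smul_eq_mul, Ideal.mul_top]; exact hI)]
    exact le_iSup₂_of_le rs ⟨hreg, hrsI⟩ le_rfl
  rw [List.length_map] at hlen
  rw [hn]
  refine hlen.trans (add_le_add (le_of_eq (ringKrullDim_eq_of_ringEquiv ?_)) (WithBot.coe_le_coe.2 hdepth))
  exact DoubleQuot.quotQuotEquivQuotSup 𝔪 I

end Groth.Agent.S0358
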