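import Groth.Statements.S0359
import Groth.Agent.FlatDepth.SkQuotient
import Groth.Agent.SkOneMod.Basic

set_option autoImplicit false
universe u v
open LocCoh

namespace Groth.Agent.S0359

theorem cancel_one {a b : ℕ∞} (h : a + 1 = b + 1) : a = b :=
  (WithTop.add_right_inj ENat.one_ne_top).1 h

open RingTheory.Sequence IsLocalRing in
theorem depth_step {R : Type u} [CommRing R] [IsNoetherianRing R] (M : Type u) [AddCommGroup M] [Module R M]
    [Module.Finite R M] (q : Ideal R) [q.IsPrime] (x : R) (hxq : x ∈ q)
    (hx : IsSMulRegular (LocalizedModule q.primeCompl M) (algebraMap R (Localization.AtPrime q) x)) :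
    LocCoh.depth (Localization.AtPrime q) (LocalizedModule q.primeCompl M) =
      LocCoh.depth (Localization.AtPrime q)
        (LocalizedModule q.primeCompl (M ⧸ (Ideal.ofList [x] • (⊤ : Submodule R M)))) + 1 := by
  let A := Localization.AtPrime q
  let Mp := LocalizedModule q.primeCompl M
  let J := Ideal.ofList ([x].map (algebraMap R A))
  haveI : IsNoetherianRing A := IsLocalization.isNoetherianRing q.primeCompl _ inferInstance
  haveI : Module.Finite A Mp := Module.Finite.of_isLocalizedModule q.primeCompl (LocalizedModule.mkLinearMap q.primeCompl M)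
  let e : LocalizedModule q.primeCompl (M ⧸ (Ideal.ofList [x] • (⊤ : Submodule R M))) ≃ₗ[A]
      Mp ⧸ (J • (⊤ : Submodule A Mp)) := (localizedQuotientEquiv _ _).symm ≪≫ₗ Submodule.quotEquivOfEq _ _ (by
    rw [Submodule.localized, Submodule.localized'_smul, Ideal.localized'_eq_map, Submodule.localized'_top, Ideal.map_ofList])
  have hJm : ∀ r ∈ [x].map (algebraMap R A), r ∈ maximalIdeal A := fun r hr => by
    obtain ⟨y, hy, rfl⟩ := List.mem_map.1 hr
    rw [List.mem_singleton.1 hy]
    exact (IsLocalization.AtPrime.to_map_mem_maximal_iff A q x).2 hxq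
  have hJ : J ≤ maximalIdeal A := Ideal.span_le.2 hJm
  rw [show LocCoh.depth A (LocalizedModule q.primeCompl (M ⧸ (Ideal.ofList [x] • (⊤ : Submodule R M)))) =
    LocCoh.depth A (Mp ⧸ (J • (⊤ : Submodule A Mp))) from LocH.idealDepth_congr e _]
  rcases subsingleton_or_nontrivial Mp with h0 | h0
  · have h1 : LocCoh.depth A Mp = ⊤ := by
      rw [LocCoh.depth, LocCoh.idealDepth, if_pos (Subsingleton.elim _ _)]
    have h2 : LocCoh.depth A (Mp ⧸ (J • (⊤ : Submodule A Mp))) = ⊤ := by
      rw [LocCoh.depth, LocCoh.idealDepth, if_pos (Subsingleton.elim _ _)]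
    rw [h2, top_add]
    exact h1
  haveI : Nontrivial (Mp ⧸ (J • (⊤ : Submodule A Mp))) := Submodule.Quotient.nontrivial_iff.2 fun h =>
    top_ne_bot (α := Submodule A Mp) (Submodule.eq_bot_of_le_smul_of_le_jacobson_bot J ⊤ Module.Finite.fg_top h.ge
      (hJ.trans (maximalIdeal_le_jacobson _)))
  obtain ⟨n, hn⟩ := FlatDepth.exists_socSeq (R := A) (Mp ⧸ (J • (⊤ : Submodule A Mp)))
  have hd := (FlatDepth.socSeq_append ([x].map (algebraMap R A)) Mp
    ((isWeaklyRegular_singleton_iff Mp _).2 hx) hJm hn).depth_eq.1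
  rw [hn.depth_eq.1]
  refine hd.trans ?_
  simp

/-- the statement, by induction on the depth -/
theorem aux {R : Type u} [CommRing R] [IsNoetherianRing R] (p : Ideal R) [p.IsPrime] : ∀ (e : ℕ) (M : Type u)
    [AddCommGroup M] [Module R M] [Module.Finite R M],
    LocCoh.depth (Localization.AtPrime p) (LocalizedModule p.primeCompl M) = e →
    ∃ f : R, f ∉ p ∧ (∀ (q : Ideal R) [q.IsPrime], p ≤ q → f ∉ q →
      (e : ℕ∞) ≤ LocCoh.depth (Localization.AtPrime q) (LocalizedModule q.primeCompl M)) ∧
      {q : PrimeSpectrum R | p ≤ q.asIdeal ∧ f ∉ q.asIdeal ∧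
        LocCoh.depth (Localization.AtPrime q.asIdeal) (LocalizedModule q.asIdeal.primeCompl M) = e}.Finite := by
  intro e
  induction e with
  | zero =>
    intro M _ _ _ _
    refine ⟨1, fun h => ‹p.IsPrime›.ne_top ((Ideal.eq_top_iff_one p).2 h), fun q _ _ _ => by simp, ?_⟩
    refine ((associatedPrimes.finite R M).preimage (f := PrimeSpectrum.asIdeal)
      fun a _ b _ h => PrimeSpectrum.ext h).subset fun q hq => ?_
    exact (SkOneMod.mem_associatedPrimes_iff q.asIdeal).2 (by simpa using hq.2.2)
  | succ e ih =>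
    intro M _ _ _ he
    have hpA : p ∉ associatedPrimes R M := fun h => by
      rw [SkOneMod.mem_associatedPrimes_iff p, he] at h
      simp at h
    obtain ⟨x, hxp, hxA⟩ : ∃ x ∈ p, ∀ q ∈ associatedPrimes R M, q ≤ p → x ∉ q := by
      by_contra hno
      push Not at hno
      have hsub : (p : Set R) ⊆ ⋃ q ∈ {q ∈ associatedPrimes R M | q ≤ p}, (q : Set R) := fun x hx => by
        obtain ⟨q, hq, hqp, hxq⟩ := hno x hx
        exact Set.mem_biUnion ⟨hq, hqp⟩ hxq
      obtain ⟨q, hq, hpq⟩ := (Ideal.subset_union_prime_finite ((associatedPrimes.finite R M).subset fun q hq => hq.1)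
        ⊥ ⊥ (fun q hq _ _ => IsAssociatedPrime.isPrime hq.1)).1 hsub
      exact hpA (le_antisymm hq.2 hpq ▸ hq.1)
    let K : Submodule R M := LinearMap.ker (x • (LinearMap.id : M →ₗ[R] M))
    have hK : (⟨p, inferInstance⟩ : PrimeSpectrum R) ∉ Module.support R K := fun h => by
      rw [Module.support_eq_zeroLocus] at h
      obtain ⟨q, hq, hqp⟩ := Ideal.exists_minimalPrimes_le (J := p) (I := Module.annihilator R K) h
      have hqK := Module.associatedPrimes.minimalPrimes_annihilator_subset_associatedPrimes R K hq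
      refine hxA q (associatedPrimes.subset_of_injective K.injective_subtype hqK) hqp (hq.1.2 ?_)
      exact Module.mem_annihilator.2 fun y => Subtype.ext y.2
    rw [Module.support_eq_zeroLocus, PrimeSpectrum.mem_zeroLocus, SetLike.coe_subset_coe] at hK
    obtain ⟨g, hgK, hgp⟩ := SetLike.not_le_iff_exists.1 hK
    have hreg : ∀ (q : Ideal R) [q.IsPrime], g ∉ q →
        IsSMulRegular (LocalizedModule q.primeCompl M) (algebraMap R (Localization.AtPrime q) x) := by
      intro q _ hgq
      refine IsSMulRegular.of_right_eq_zero_of_smul fun z hz => ?_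
      induction z using LocalizedModule.induction_on with
      | _ m s =>
        rw [algebraMap_smul, LocalizedModule.smul'_mk, ← LocalizedModule.zero_mk 1, LocalizedModule.mk_eq] at hz
        obtain ⟨t, ht⟩ := hz
        simp only [one_smul, smul_zero, Submonoid.smul_def] at ht
        have htK : (t : R) • m ∈ K := by
          show x • ((t : R) • m) = 0
          rw [smul_comm]; exact ht
        have h0 : (g * t : R) • m = 0 := by
          rw [mul_smul]
          exact congrArg Subtype.val (Module.mem_annihilator.1 hgK ⟨_, htK⟩)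
        rw [← LocalizedModule.zero_mk 1, LocalizedModule.mk_eq]
        refine ⟨⟨g * t, fun h => (‹q.IsPrime›.mem_or_mem h).elim hgq t.2⟩, ?_⟩
        simp only [one_smul, smul_zero, Submonoid.smul_def]
        exact h0
    let M' := M ⧸ (Ideal.ofList [x] • (⊤ : Submodule R M))
    have he' : LocCoh.depth (Localization.AtPrime p) (LocalizedModule p.primeCompl M') = e := by
      have h := depth_step M p x hxp (hreg p hgp)
      rw [he, Nat.cast_succ] at h
      exact cancel_one h.symm
    obtain ⟨f, hf, h1, h2⟩ := ih M' he'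
    refine ⟨f * g, fun h => (‹p.IsPrime›.mem_or_mem h).elim hf hgp, fun q _ hpq hfg => ?_, h2.subset fun q hq => ?_⟩
    · rw [depth_step M q x (hpq hxp) (hreg q fun h => hfg (q.mul_mem_left f h)), Nat.cast_succ]
      exact add_le_add (h1 q hpq fun h => hfg (q.mul_mem_right g h)) le_rfl
    · obtain ⟨hpq, hfg, hd⟩ := hq
      rw [depth_step M q.asIdeal x (hpq hxp) (hreg q.asIdeal fun h => hfg (q.asIdeal.mul_mem_left f h)), Nat.cast_succ] at hd
      exact ⟨hpq, fun h => hfg (q.asIdeal.mul_mem_right g h), cancel_one hd⟩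

/-- For a finite module M over a Noetherian ring and a prime p with depth(M_p) = e finite, there is a
basic open neighbourhood of p in V(p) on which the depth of the localizations of M is at least e,
and it exceeds e at all but finitely many of those primes. -/
theorem result (R : Type u) [CommRing R] [IsNoetherianRing R] (M : Type u) [AddCommGroup M] [Module R M] [Module.Finite R M] (p : Ideal R) [p.IsPrime] (e : ℕ) (he : LocCoh.depth (Localization.AtPrime p) (LocalizedModule p.primeCompl M) = e) : ∃ f : R, f ∉ p ∧ (∀ (q : Ideal R) [q.IsPrime], p ≤ q → f ∉ q → (e : ℕ∞) ≤ LocCoh.depth (Localization.AtPrime q) (LocalizedModule q.primeCompl M)) ∧ {q : PrimeSpectrum R | p ≤ q.asIdeal ∧ f ∉ q.asIdeal ∧ LocCoh.depth (Localization.AtPrime q.asIdeal) (LocalizedModule q.asIdeal.primeCompl M) = e}.Finite := by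
  exact aux p e M he

end Groth.Agent.S0359
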