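import Groth.Statements.S0361
import Groth.Agent.TorUnif.Poly

set_option autoImplicit false
universe u v
open CategoryTheory
open LocCoh

namespace Groth.Agent.S0361

/-- For an ideal I of a Noetherian ring generated by at most t elements there are N, c ≥ 0 such that for
every module M and every n ≥ N the map Tor_{t+1}(M, R/I^n) → Tor_{t+1}(M, R/I^{n−c}) is zero. -/
theorem result (R : Type u) [CommRing R] [IsNoetherianRing R] (I : Ideal R) (t : ℕ) (s : Finset R) (hs : I = Ideal.span (s : Set R)) (ht : s.card ≤ t) : ∃ N c : ℕ, ∀ (M : Type u) [AddCommGroup M] [Module R M], ∀ n : ℕ, N ≤ n → (((Tor (ModuleCat.{u} R) (t + 1)).obj (ModuleCat.of R M)).map (ModuleCat.ofHom (Submodule.mapQ (I ^ n) (I ^ (n - c)) LinearMap.id (Ideal.pow_le_pow_right (Nat.sub_le n c))))) = 0 := by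
  classical
  let x : Fin t → R := fun i => if h : (i : ℕ) < s.card then (s.equivFin.symm ⟨i, h⟩ : R) else 0
  have hI : I = Ideal.span (Set.range x) := by
    rw [hs]
    refine le_antisymm (Ideal.span_le.2 fun a ha => ?_) (Ideal.span_le.2 ?_)
    · refine Ideal.subset_span ⟨⟨s.equivFin ⟨a, ha⟩, lt_of_lt_of_le (Fin.is_lt _) ht⟩, ?_⟩
      simp [x]
    · rintro _ ⟨i, rfl⟩
      by_cases h : (i : ℕ) < s.card
      · simp only [x, dif_pos h]
        exact Ideal.subset_span (Subtype.coe_prop _)
      · simp only [x, dif_neg h]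
        exact Submodule.zero_mem _
  obtain ⟨c, hc⟩ := Groth.Agent.TorUnif.exists_uniform_of_gens x I hI
  exact ⟨c, c, fun M _ _ n hn => hc M n (n - c) (Nat.sub_le n c) (by omega)⟩

end Groth.Agent.S0361
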