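import Groth.Statements.S0362
import Mathlib

set_option autoImplicit false
universe u v
open CategoryTheory
open Dual

namespace Groth.Agent.S0362

open IsLocalRing

variable {A : Type u} [CommRing A]

lemma isFiniteLength_exists_pow [IsLocalRing A] {M : Type u} [AddCommGroup M] [Module A M]
    (h : IsFiniteLength A M) :
    ∃ n : ℕ, ∀ a ∈ maximalIdeal A ^ n, ∀ x : M, a • x = 0 := by
  induction h with
  | of_subsingleton => exact ⟨0, fun a _ x ↦ Subsingleton.elim _ _⟩
  | @of_simple_quotient M _ _ N _ _ ih =>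
    obtain ⟨n, hn⟩ := ih
    obtain ⟨m, hm, ⟨e⟩⟩ := isSimpleModule_iff_quot_maximal.mp ‹IsSimpleModule A (M ⧸ N)›
    obtain rfl := eq_maximalIdeal hm
    refine ⟨n + 1, fun a ha x ↦ ?_⟩
    rw [pow_succ] at ha
    induction ha using Submodule.mul_induction_on' with
    | mem_mul_mem b hb c hc =>
      have hcx : c • x ∈ N := by
        rw [← Submodule.Quotient.mk_eq_zero]
        apply e.injective
        rw [map_zero, Submodule.Quotient.mk_smul, map_smul]
        obtain ⟨y, hy⟩ := Submodule.Quotient.mk_surjective _ (e (Submodule.Quotient.mk x))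
        rw [← hy, ← Submodule.Quotient.mk_smul, Submodule.Quotient.mk_eq_zero]
        exact Ideal.mul_mem_right _ _ hc
      rw [mul_smul]
      exact congrArg Subtype.val (hn b hb ⟨c • x, hcx⟩)
    | add a _ b _ ha hb => rw [add_smul, ha, hb, add_zero]

lemma isFiniteLength_quot_pow [IsLocalRing A] [IsNoetherianRing A] (n : ℕ) :
    IsFiniteLength A (A ⧸ maximalIdeal A ^ (n + 1)) := by
  have hI : maximalIdeal A ^ (n + 1) ≠ ⊤ := fun h ↦
    (maximalIdeal.isMaximal A).ne_top (top_le_iff.mp (h ▸ Ideal.pow_le_self (Nat.succ_ne_zero n)))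
  have : Nontrivial (A ⧸ maximalIdeal A ^ (n + 1)) := Ideal.Quotient.nontrivial_iff.mpr hI
  have := IsLocalRing.of_surjective' (Ideal.Quotient.mk (maximalIdeal A ^ (n + 1)))
    Ideal.Quotient.mk_surjective
  have : IsArtinianRing (A ⧸ maximalIdeal A ^ (n + 1)) := by
    rw [isArtinianRing_iff_isNilpotent_maximalIdeal]
    refine ⟨n + 1, ?_⟩
    have h : maximalIdeal (A ⧸ maximalIdeal A ^ (n + 1)) =
        (maximalIdeal A).map (Ideal.Quotient.mk (maximalIdeal A ^ (n + 1))) := by
      ext x
      obtain ⟨x, rfl⟩ := Ideal.Quotient.mk_surjective x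
      have := IsLocalHom.of_surjective (Ideal.Quotient.mk (maximalIdeal A ^ (n + 1)))
        Ideal.Quotient.mk_surjective
      rw [Ideal.mem_quotient_iff_mem (Ideal.pow_le_self (Nat.succ_ne_zero n))]
      simp
    rw [h, ← Ideal.map_pow, Ideal.map_quotient_self]
    rfl
  exact isFiniteLength_iff_isNoetherian_isArtinian.mpr ⟨inferInstance,
    isArtinian_of_surjective_algebraMap (R := A ⧸ maximalIdeal A ^ (n + 1))
      Ideal.Quotient.mk_surjective⟩

/-- morphisms of `FinLen` are epi iff surjective -/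
lemma surjective_of_epi {M N : FinLen A} (f : M ⟶ N) [Epi f] : Function.Surjective f.hom.hom := by
  let Q : FinLen A := ⟨ModuleCat.of A (N.obj ⧸ LinearMap.range f.hom.hom),
    N.property.of_surjective (Submodule.mkQ_surjective _)⟩
  let q : N ⟶ Q := ObjectProperty.homMk (ModuleCat.ofHom (LinearMap.range f.hom.hom).mkQ)
  have h : f ≫ q = f ≫ 0 := by
    ext x
    exact (Submodule.Quotient.mk_eq_zero _).mpr (LinearMap.mem_range_self f.hom.hom x)
  rw [cancel_epi] at h
  intro y
  have := congrArg (fun g : N ⟶ Q ↦ g.hom.hom y) h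
  exact (Submodule.Quotient.mk_eq_zero _).mp this

lemma epi_of_surjective {M N : FinLen A} (f : M ⟶ N) (h : Function.Surjective f.hom.hom) :
    Epi f where
  left_cancellation g g' hg := by
    ext x
    obtain ⟨y, rfl⟩ := h x
    exact congrArg (fun t : M ⟶ _ ↦ t.hom.hom y) hg

lemma hom_smul_apply {M N : FinLen A} (a : A) (f : M ⟶ N) (x : M.obj) :
    (a • f).hom.hom x = a • f.hom.hom x := rfl

section

variable [IsLocalRing A] [IsNoetherianRing A]

/-- `A ⧸ m^(n+1)` as an object of finite length -/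
noncomputable def R (A : Type u) [CommRing A] [IsLocalRing A] [IsNoetherianRing A] (n : ℕ) :
    FinLen A :=
  ⟨ModuleCat.of A (A ⧸ maximalIdeal A ^ (n + 1)), isFiniteLength_quot_pow n⟩

noncomputable def one (n : ℕ) : (R A n).obj := Submodule.Quotient.mk (1 : A)

lemma one_span (n : ℕ) (x : (R A n).obj) : ∃ a : A, x = a • one n := by
  obtain ⟨a, rfl⟩ := Submodule.Quotient.mk_surjective _ x
  refine ⟨a, ?_⟩
  exact congrArg Submodule.Quotient.mk (mul_one a).symm

lemma smul_one_eq_zero_iff (n : ℕ) (a : A) :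
    a • one n = (0 : (R A n).obj) ↔ a ∈ maximalIdeal A ^ (n + 1) := by
  change (Submodule.Quotient.mk (a * 1) : A ⧸ maximalIdeal A ^ (n + 1)) = 0 ↔ _
  rw [Submodule.Quotient.mk_eq_zero, mul_one]

lemma R_killed (n : ℕ) (a : A) (ha : a ∈ maximalIdeal A ^ (n + 1)) (x : (R A n).obj) :
    a • x = 0 := by
  obtain ⟨b, rfl⟩ := one_span n x
  rw [smul_comm, (smul_one_eq_zero_iff n a).mpr ha, smul_zero]

lemma hom_ext_one {n : ℕ} {M : FinLen A} (f g : R A n ⟶ M)
    (h : f.hom.hom (one n) = g.hom.hom (one n)) : f = g := by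
  ext x
  obtain ⟨a, rfl⟩ := one_span n x
  exact (map_smul f.hom.hom a _).trans ((congrArg (a • ·) h).trans (map_smul g.hom.hom a _).symm)

noncomputable def toHom (n : ℕ) (M : FinLen A) (x : M.obj)
    (h : ∀ a ∈ maximalIdeal A ^ (n + 1), a • x = 0) : R A n ⟶ M :=
  ObjectProperty.homMk (ModuleCat.ofHom
    (Submodule.liftQ (maximalIdeal A ^ (n + 1)) (LinearMap.toSpanSingleton A M.obj x)
      (fun a ha ↦ h a ha)))

lemma toHom_one (n : ℕ) (M : FinLen A) (x : M.obj)
    (h : ∀ a ∈ maximalIdeal A ^ (n + 1), a • x = 0) : (toHom n M x h).hom.hom (one n) = x := by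
  change (LinearMap.toSpanSingleton A M.obj x) 1 = x
  simp

noncomputable def proj {n m : ℕ} (h : n ≤ m) : R A m ⟶ R A n :=
  toHom m (R A n) (one n) (fun a ha ↦ R_killed n a (Ideal.pow_le_pow_right (by omega) ha) _)

lemma proj_one {n m : ℕ} (h : n ≤ m) : (proj (A := A) h).hom.hom (one m) = one n := toHom_one ..

lemma proj_surjective {n m : ℕ} (h : n ≤ m) : Function.Surjective (proj (A := A) h).hom.hom := by
  intro x
  obtain ⟨a, rfl⟩ := one_span n x
  exact ⟨a • one m, (map_smul (proj (A := A) h).hom.hom a _).trans (congrArg (a • ·) (proj_one h))⟩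

end

lemma exists_smul_eq {M : Type u} [AddCommGroup M] [Module A M] {g : M}
    (h : Submodule.span A {g} = ⊤) (y : M) : ∃ a : A, a • g = y :=
  Submodule.mem_span_singleton.mp (h.symm.le Submodule.mem_top)

section

variable (F : FinLen A ≌ FinLen A) [F.functor.Additive] [F.functor.Linear A]

lemma id_smul_eq_zero_iff (M : FinLen A) (a : A) :
    a • 𝟙 M = 0 ↔ ∀ x : M.obj, a • x = 0 := by
  constructor
  · intro h x
    exact congrArg (fun f : M ⟶ M ↦ f.hom.hom x) h
  · intro h
    ext x
    exact h x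

lemma killed_iff (M : FinLen A) (a : A) :
    (∀ x : (F.functor.obj M).obj, a • x = 0) ↔ ∀ x : M.obj, a • x = 0 := by
  rw [← id_smul_eq_zero_iff, ← id_smul_eq_zero_iff, ← F.functor.map_id, ← F.functor.map_smul,
    Functor.map_eq_zero_iff]

lemma killed_pre (V : FinLen A) (a : A) (h : ∀ x : V.obj, a • x = 0) :
    ∀ x : (F.inverse.obj V).obj, a • x = 0 := by
  rw [← killed_iff F]
  intro x
  have hx := h ((F.counitIso.hom.app V).hom.hom x)
  rw [← map_smul] at hx
  have := congrArg (F.counitIso.inv.app V).hom.hom hx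
  rw [map_zero] at this
  exact ((congrArg (fun f : (F.inverse ⋙ F.functor).obj V ⟶ (F.inverse ⋙ F.functor).obj V ↦
    f.hom.hom (a • x)) (F.counitIso.hom_inv_id_app V)).symm.trans this)

variable [IsLocalRing A] [IsNoetherianRing A]

lemma exists_cyclic_zero : ∃ u : (F.functor.obj (R A 0)).obj,
    Submodule.span A {u} = ⊤ := by
  have hne : ∃ u : (F.functor.obj (R A 0)).obj, u ≠ 0 := by
    by_contra! hc
    have := (killed_iff F (R A 0) 1).mp (fun x ↦ by rw [one_smul]; exact hc x) (one 0)
    rw [smul_one_eq_zero_iff] at this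
    exact (maximalIdeal.isMaximal A).ne_top
      ((Ideal.eq_top_iff_one _).mpr (by simpa using this))
  obtain ⟨u, hu⟩ := hne
  have hkill : ∀ a ∈ maximalIdeal A ^ (0 + 1), a • u = 0 := fun a ha ↦
    (killed_iff F (R A 0) a).mpr (R_killed 0 a ha) u
  let s := toHom 0 (F.functor.obj (R A 0)) u hkill
  obtain ⟨g, hg⟩ := F.functor.map_surjective ((F.counitIso.hom.app (R A 0)) ≫ s)
  have hg0 : g ≠ 0 := by
    intro h
    rw [h, F.functor.map_zero] at hg
    have hs : s = 0 := by
      rw [← cancel_epi (F.counitIso.hom.app (R A 0))]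
      exact hg.symm.trans Limits.comp_zero.symm
    exact hu ((toHom_one 0 _ u hkill).symm.trans
      (congrArg (fun f : R A 0 ⟶ _ ↦ f.hom.hom (one 0)) hs))
  have : Epi g := by
    apply epi_of_surjective
    intro y
    obtain ⟨z, hz⟩ : ∃ z, g.hom.hom z ≠ 0 := by
      by_contra! hc
      exact hg0 (by ext z; exact hc z)
    obtain ⟨a, ha⟩ := one_span 0 (g.hom.hom z)
    have hau : IsUnit a := by
      by_contra hna
      exact hz (ha.trans ((smul_one_eq_zero_iff 0 a).mpr (by simpa using hna)))
    obtain ⟨b, hb⟩ := one_span 0 y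
    refine ⟨(b * hau.unit⁻¹.val) • z, ?_⟩
    rw [map_smul, ha, smul_smul, mul_assoc, IsUnit.val_inv_mul, mul_one, ← hb]
  have : Epi ((F.counitIso.hom.app (R A 0)) ≫ s) := hg ▸ inferInstance
  have : Epi s := epi_of_epi (F.counitIso.hom.app (R A 0)) s
  refine ⟨u, eq_top_iff.mpr fun y _ ↦ ?_⟩
  obtain ⟨x, rfl⟩ := surjective_of_epi s y
  obtain ⟨a, rfl⟩ := one_span 0 x
  rw [map_smul, toHom_one]
  exact Submodule.smul_mem _ _ (Submodule.mem_span_singleton_self u)

/-- `ker (F π₀) ≤ m N` -/
lemma ker_le (n : ℕ) (y : (F.functor.obj (R A n)).obj)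
    (hy : (F.functor.map (proj (Nat.zero_le n))).hom.hom y = 0) :
    y ∈ maximalIdeal A • (⊤ : Submodule A (F.functor.obj (R A n)).obj) := by
  let P := maximalIdeal A • (⊤ : Submodule A (F.functor.obj (R A n)).obj)
  let V : FinLen A := ⟨ModuleCat.of A ((F.functor.obj (R A n)).obj ⧸ P),
    (F.functor.obj (R A n)).property.of_surjective P.mkQ_surjective⟩
  let φ : F.functor.obj (R A n) ⟶ V := ObjectProperty.homMk (ModuleCat.ofHom P.mkQ)
  obtain ⟨f, hf⟩ := F.functor.map_surjective (φ ≫ F.counitIso.inv.app V)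
  have hV : ∀ a ∈ maximalIdeal A ^ (0 + 1), ∀ x : V.obj, a • x = 0 := by
    intro a ha x
    obtain ⟨x, rfl⟩ := P.mkQ_surjective x
    change a • P.mkQ x = 0
    rw [← map_smul]
    exact (Submodule.Quotient.mk_eq_zero _).mpr
      (Submodule.smul_mem_smul (by simpa using ha) trivial)
  let f' := toHom 0 (F.inverse.obj V) (f.hom.hom (one n))
    (fun a ha ↦ killed_pre F V a (hV a ha) _)
  have hff : f = proj (Nat.zero_le n) ≫ f' := hom_ext_one _ _
    ((toHom_one 0 _ _ _).symm.trans (congrArg f'.hom.hom (proj_one (Nat.zero_le n)).symm))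
  rw [hff, F.functor.map_comp] at hf
  have hz : (F.counitIso.inv.app V).hom.hom (φ.hom.hom y) = 0 := by
    refine (congrArg (fun t : F.functor.obj (R A n) ⟶ _ ↦ t.hom.hom y) hf).symm.trans ?_
    exact (congrArg (F.functor.map f').hom.hom hy).trans (map_zero _)
  have := congrArg (F.counitIso.hom.app V).hom.hom hz
  rw [map_zero] at this
  exact (Submodule.Quotient.mk_eq_zero _).mp
    (((congrArg (fun t : V ⟶ V ↦ t.hom.hom (φ.hom.hom y))
      (F.counitIso.inv_hom_id_app V)).symm).trans this)

lemma exists_generator (n : ℕ) : ∃ g : (F.functor.obj (R A n)).obj,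
    Submodule.span A {g} = ⊤ := by
  obtain ⟨u, hu⟩ := exists_cyclic_zero F
  have := epi_of_surjective _ (proj_surjective (A := A) (Nat.zero_le n))
  obtain ⟨g, hg⟩ := surjective_of_epi (F.functor.map (proj (Nat.zero_le n))) u
  refine ⟨g, top_le_iff.mp ?_⟩
  have hN := (F.functor.obj (R A n)).property
  have := (isFiniteLength_iff_isNoetherian_isArtinian.mp hN).1
  refine Submodule.le_of_le_smul_of_le_jacobson_bot (IsNoetherian.noetherian _)
    (maximalIdeal_le_jacobson ⊥) ?_
  intro y _
  obtain ⟨a, ha⟩ := exists_smul_eq hu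
    ((F.functor.map (proj (Nat.zero_le n))).hom.hom y)
  refine Submodule.mem_sup.mpr ⟨a • g, Submodule.smul_mem _ _
    (Submodule.mem_span_singleton_self g), y - a • g, ker_le F n _ ?_, by abel⟩
  rw [map_sub, map_smul, hg, ha, sub_self]

lemma exists_next (n : ℕ) (e : (F.functor.obj (R A n)).obj) (he : Submodule.span A {e} = ⊤) :
    ∃ e' : (F.functor.obj (R A (n + 1))).obj, Submodule.span A {e'} = ⊤ ∧
      (F.functor.map (proj (Nat.le_succ n))).hom.hom e' = e := by
  obtain ⟨g, hg⟩ := exists_generator F (n + 1)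
  have := epi_of_surjective _ (proj_surjective (A := A) (Nat.le_succ n))
  obtain ⟨y, hy⟩ := surjective_of_epi (F.functor.map (proj (Nat.le_succ n))) e
  obtain ⟨a, rfl⟩ := exists_smul_eq hg y
  obtain ⟨b, hb⟩ := exists_smul_eq he
    ((F.functor.map (proj (Nat.le_succ n))).hom.hom g)
  rw [map_smul, ← hb, smul_smul] at hy
  have hz : (1 - a * b) • e = 0 := by rw [sub_smul, one_smul, hy, sub_self]
  have hau : IsUnit a := by
    by_contra hna
    have h1 : IsUnit (1 - a * b) :=
      isUnit_one_sub_self_of_mem_nonunits _ (fun h ↦ hna (isUnit_of_mul_isUnit_left h))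
    have he0 : e = 0 := h1.smul_eq_zero.mp hz
    rw [he0, Submodule.span_zero_singleton] at he
    have hall : ∀ x : (F.functor.obj (R A n)).obj, (1 : A) • x = 0 := fun x ↦ by
      rw [one_smul]; exact (Submodule.mem_bot A).mp (he.symm.le Submodule.mem_top)
    have h10 := (killed_iff F (R A n) 1).mp hall (one n)
    rw [smul_one_eq_zero_iff] at h10
    exact (maximalIdeal.isMaximal A).ne_top
      ((Ideal.eq_top_iff_one _).mpr (Ideal.pow_le_self (Nat.succ_ne_zero n) h10))
  refine ⟨a • g, ?_, ?_⟩
  · rw [Submodule.span_singleton_smul_eq hau, hg]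
  · rw [map_smul, ← hb, smul_smul]; exact hy

noncomputable def gen : (n : ℕ) →
    {e : (F.functor.obj (R A n)).obj // Submodule.span A {e} = ⊤}
  | 0 => ⟨(exists_cyclic_zero F).choose, (exists_cyclic_zero F).choose_spec⟩
  | n + 1 => ⟨(exists_next F n (gen n).1 (gen n).2).choose,
      (exists_next F n (gen n).1 (gen n).2).choose_spec.1⟩

lemma gen_compat {n m : ℕ} (h : n ≤ m) :
    (F.functor.map (proj h)).hom.hom (gen F m).1 = (gen F n).1 := by
  induction h with
  | refl =>
    have : proj (A := A) (le_refl n) = 𝟙 _ := hom_ext_one _ _ ((proj_one _).trans rfl)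
    rw [this, F.functor.map_id]
    rfl
  | @step m h ih =>
    have : proj (A := A) (Nat.le.step h) = proj (Nat.le_succ m) ≫ proj h := hom_ext_one _ _
      ((proj_one _).trans ((proj_one h).symm.trans
        (congrArg (proj h).hom.hom (proj_one (Nat.le_succ m)).symm)))
    rw [this, F.functor.map_comp]
    exact (congrArg (F.functor.map (proj h)).hom.hom
      (exists_next F m (gen F m).1 (gen F m).2).choose_spec.2).trans ih

noncomputable def idx (M : FinLen A) : ℕ := (isFiniteLength_exists_pow M.property).choose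

lemma idx_spec (M : FinLen A) (a : A) (ha : a ∈ maximalIdeal A ^ (idx M + 1)) (x : M.obj) :
    a • x = 0 :=
  (isFiniteLength_exists_pow M.property).choose_spec a
    (Ideal.pow_le_pow_right (Nat.le_succ _) ha) x

noncomputable def phi (M : FinLen A) (x : M.obj) : R A (idx M) ⟶ M :=
  toHom (idx M) M x (fun a ha ↦ idx_spec M a ha x)

noncomputable def eta (M : FinLen A) : M.obj →ₗ[A] (F.functor.obj M).obj where
  toFun x := (F.functor.map (phi M x)).hom.hom (gen F (idx M)).1
  map_add' x y := by
    have : phi M (x + y) = phi M x + phi M y := hom_ext_one _ _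
      ((toHom_one ..).trans (congrArg₂ (· + ·) (toHom_one ..).symm (toHom_one ..).symm))
    rw [this, F.functor.map_add]
    rfl
  map_smul' a x := by
    have : phi M (a • x) = a • phi M x := hom_ext_one _ _
      ((toHom_one ..).trans (congrArg (a • ·) (toHom_one ..).symm))
    rw [this, F.functor.map_smul]
    rfl

lemma eta_eq (M : FinLen A) (x : M.obj) {N : ℕ} (hN : idx M ≤ N) :
    eta F M x = (F.functor.map (proj hN ≫ phi M x)).hom.hom (gen F N).1 := by
  rw [F.functor.map_comp]
  exact (congrArg (F.functor.map (phi M x)).hom.hom (gen_compat F hN)).symm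

lemma eta_natural {M M' : FinLen A} (f : M ⟶ M') (x : M.obj) :
    eta F M' (f.hom.hom x) = (F.functor.map f).hom.hom (eta F M x) := by
  rw [eta_eq F M x (le_max_left (idx M) (idx M')),
    eta_eq F M' _ (le_max_right (idx M) (idx M'))]
  have : proj (le_max_right (idx M) (idx M')) ≫ phi M' (f.hom.hom x) =
      (proj (le_max_left (idx M) (idx M')) ≫ phi M x) ≫ f := hom_ext_one _ _
    ((congrArg (phi M' (f.hom.hom x)).hom.hom (proj_one (le_max_right (idx M) (idx M')))).trans ((toHom_one ..).trans
      (congrArg f.hom.hom ((toHom_one ..).symm.trans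
        (congrArg (phi M x).hom.hom (proj_one (le_max_left (idx M) (idx M'))).symm)))))
  rw [this, F.functor.map_comp _ f]
  rfl

lemma eta_bijective (M : FinLen A) : Function.Bijective (eta F M) := by
  constructor
  · rw [injective_iff_map_eq_zero]
    intro x hx
    have hz : F.functor.map (phi M x) = 0 := by
      ext y
      obtain ⟨a, rfl⟩ := exists_smul_eq (gen F (idx M)).2 y
      rw [map_smul]
      exact (congrArg (a • ·) hx).trans (smul_zero a)
    rw [Functor.map_eq_zero_iff] at hz
    exact (toHom_one ..).symm.trans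
      (congrArg (fun t : R A (idx M) ⟶ M ↦ t.hom.hom (one (idx M))) hz)
  · intro y
    have hann : ∀ a : A, a • (gen F (idx M)).1 = 0 → a • (one (A := A) (idx M)) = 0 := by
      intro a ha
      refine (killed_iff F _ a).mp (fun z ↦ ?_) _
      obtain ⟨b, rfl⟩ := exists_smul_eq (gen F (idx M)).2 z
      rw [smul_comm, ha, smul_zero]
    let s : R A (idx M) ⟶ F.functor.obj (R A (idx M)) :=
      toHom _ _ (gen F (idx M)).1 (fun a ha ↦ (killed_iff F _ a).mpr (R_killed _ a ha) _)
    have hs : Function.Bijective s.hom.hom := by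
      constructor
      · rw [injective_iff_map_eq_zero]
        intro z hz
        obtain ⟨a, rfl⟩ := one_span _ z
        rw [map_smul, toHom_one] at hz
        exact hann a hz
      · intro z
        obtain ⟨b, rfl⟩ := exists_smul_eq (gen F (idx M)).2 z
        exact ⟨b • one _, by rw [map_smul, toHom_one]⟩
    let ei : F.functor.obj (R A (idx M)) ⟶ R A (idx M) :=
      ObjectProperty.homMk (ModuleCat.ofHom (LinearEquiv.ofBijective s.hom.hom hs).symm.toLinearMap)
    let t := toHom (idx M) (F.functor.obj M) y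
      (fun a ha ↦ (killed_iff F M a).mpr (idx_spec M a ha) y)
    obtain ⟨f, hf⟩ := F.functor.map_surjective (ei ≫ t)
    have hs1 : s.hom.hom (one _) = (gen F (idx M)).1 := toHom_one ..
    refine ⟨f.hom.hom (one _), ?_⟩
    have hphi : phi M (f.hom.hom (one _)) = f := hom_ext_one _ _ (toHom_one ..)
    change (F.functor.map (phi M (f.hom.hom (one _)))).hom.hom _ = y
    rw [hphi, hf]
    change t.hom.hom ((LinearEquiv.ofBijective s.hom.hom hs).symm (gen F (idx M)).1) = y
    have h1 : (LinearEquiv.ofBijective s.hom.hom hs).symm (gen F (idx M)).1 = one _ :=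
      (LinearEquiv.symm_apply_eq _).mpr (hs1.symm)
    rw [h1]
    exact toHom_one ..

end

/-- Over a Noetherian local ring A, an additive A-linear equivalence from the category of finite length
A-modules to itself is naturally isomorphic to the identity. -/
theorem result (A : Type u) [CommRing A] [IsLocalRing A] [IsNoetherianRing A] (F : Dual.FinLen A ≌ Dual.FinLen A) [F.functor.Additive] [F.functor.Linear A] : Nonempty (F.functor ≅ 𝟭 (Dual.FinLen A)) :=
  ⟨(NatIso.ofComponents
    (fun M ↦ ObjectProperty.isoMk _ (LinearEquiv.ofBijective (eta F M) (eta_bijective F M)).toModuleIso)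
    (fun {M M'} f ↦ by ext x; exact eta_natural F f x)).symm⟩

end Groth.Agent.S0362
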