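import Groth.Statements.S0363
import Groth.Agent.GorTor.Basic

set_option autoImplicit false
universe u v
open CategoryTheory
open Goren

namespace Groth.Agent.S0363

/-- Over a Gorenstein local ring of dimension d with E an injective hull of the residue field κ,
Tor_i(E, κ) vanishes for i ≠ d and Tor_d(E, κ) is isomorphic to κ. -/
theorem result (A : Type u) [CommRing A] [LocCoh.IsGorensteinLocalRing A] (d : ℕ) (hd : ringKrullDim A = d) (E : Type u) [AddCommGroup E] [Module A E] (f : IsLocalRing.ResidueField A →ₗ[A] E) (hf : InjHull.IsInjectiveHull f) : (∀ i : ℕ, i ≠ d → Limits.IsZero (((Tor (ModuleCat.{u} A) i).obj (ModuleCat.of A E)).obj (ModuleCat.of A (IsLocalRing.ResidueField A)))) ∧ Nonempty ((((Tor (ModuleCat.{u} A) d).obj (ModuleCat.of A E)).obj (ModuleCat.of A (IsLocalRing.ResidueField A))) ≅ ModuleCat.of A (IsLocalRing.ResidueField A)) := by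
  have hL := fun i => Groth.Agent.GorTor.L_hull (f := f) hf d hd i
  refine ⟨fun i hi => ?_, ?_⟩
  · have h0 : Module.length A ((Groth.Agent.GorTor.T A i).obj (ModuleCat.of A E)) = 0 := by
      rw [show Module.length A ((Groth.Agent.GorTor.T A i).obj (ModuleCat.of A E)) = _ from hL i]
      unfold Groth.Agent.GorTor.expect
      split_ifs with h
      · rw [Nat.choose_eq_zero_of_lt (by omega)]; rfl
      · rfl
    haveI := Module.length_eq_zero_iff.1 h0
    exact @ModuleCat.isZero_of_subsingleton _ _ _ this
  · have h1 : Module.length A ((Groth.Agent.GorTor.T A d).obj (ModuleCat.of A E)) = 1 := by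
      rw [show Module.length A ((Groth.Agent.GorTor.T A d).obj (ModuleCat.of A E)) = _ from hL d]
      simp [Groth.Agent.GorTor.expect]
    rw [Module.length_eq_one_iff, isSimpleModule_iff_quot_maximal] at h1
    obtain ⟨J, hJ, ⟨e⟩⟩ := h1
    obtain rfl := IsLocalRing.eq_maximalIdeal hJ
    exact ⟨e.toModuleIso⟩

end Groth.Agent.S0363
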