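import Groth.Statements.S0370
import Groth.Agent.DualCx.Apps

set_option autoImplicit false
universe u v
open CategoryTheory
attribute [local instance] HasDerivedCategory.standard
open Dual

namespace Groth.Agent.S0370

/-- A Noetherian ring admitting a finite module which, placed in degree 0, is a dualizing complex, is
Cohen–Macaulay. -/
theorem result (A : Type u) [CommRing A] [IsNoetherianRing A] (W : Type u) [AddCommGroup W] [Module A W] [Module.Finite A W] (h : Dual.IsDualizing A (Dual.inD A W)) : LocCoh.IsCohenMacaulayRing A := by
  refine { isCohenMacaulayLocalRing_localization := fun p _ => ?_ }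
  refine (DualCx.isCohenMacaulayLocalRing_iff h ⟨p, inferInstance⟩).2 fun i i' hi hi' => ?_
  have h0 : ∀ j : ℤ, j ≠ 0 → DualCx.Van (Dual.inD A W) p A j := fun j hj =>
    DualCx.van_of_subsingleton (Ideal.IsPrime.ne_top inferInstance)
      ((DualCx.homEquiv (Dual.inD A W) j).toEquiv.subsingleton_congr.2 (DualCx.subsingleton_hd_inD W hj))
  rw [show i = 0 from by_contra fun hne => hi (h0 i hne), show i' = 0 from by_contra fun hne => hi' (h0 i' hne)]

end Groth.Agent.S0370
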