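import Groth.Statements.S0372
import Groth.Agent.DualCx.Apps

set_option autoImplicit false
universe u v
open CategoryTheory
attribute [local instance] HasDerivedCategory.standard
open Dual

namespace Groth.Agent.S0372

/-- If a Noetherian ring has a dualizing complex then the set of primes at which the localization is
Cohen–Macaulay is open and dense in the prime spectrum. -/
theorem result (A : Type u) [CommRing A] [IsNoetherianRing A] (ω : Dual.D A) (hω : Dual.IsDualizing A ω) : IsOpen {p : PrimeSpectrum A | LocCoh.IsCohenMacaulayLocalRing (Localization.AtPrime p.asIdeal)} ∧ Dense {p : PrimeSpectrum A | LocCoh.IsCohenMacaulayLocalRing (Localization.AtPrime p.asIdeal)} := by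
  simp only [DualCx.isCohenMacaulayLocalRing_iff hω]
  refine ⟨DualCx.isOpen_cm hω A, fun q => closure_mono Set.inter_subset_left (DualCx.subset_closure_cm hω A ?_)⟩
  rw [Module.support_eq_zeroLocus, Module.annihilator_eq_bot.2 inferInstance]
  exact fun x hx => by rw [(Submodule.mem_bot A).1 hx]; exact q.asIdeal.zero_mem

end Groth.Agent.S0372
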