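import Groth.Statements.S0375
import Groth.Agent.DualCx.Matlis

set_option autoImplicit false
universe u v
open CategoryTheory
attribute [local instance] HasDerivedCategory.standard
open Dual

namespace Groth.Agent.S0375

/-- Over a Noetherian local ring of dimension 0, a normalized dualizing complex is isomorphic in D(A) to
an injective hull of the residue field placed in degree 0. -/
theorem result (A : Type u) [CommRing A] [IsLocalRing A] [IsNoetherianRing A] (h0 : ringKrullDim A = 0) (ω : Dual.D A) (hω : Dual.IsDualizing A ω) (hn : Dual.IsNormalized A ω) (E : Type u) [AddCommGroup E] [Module A E] (f : IsLocalRing.ResidueField A →ₗ[A] E) (hf : InjHull.IsInjectiveHull f) : Nonempty (ω ≅ Dual.inD A E) := by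
  haveI : IsArtinianRing A := isArtinianRing_iff_krullDimLE_zero.2
    ⟨show ringKrullDim A ≤ ((0 : ℕ) : WithBot ℕ∞) by rw [h0]; rfl⟩
  have hA : IsFiniteLength A A := (isArtinianRing_iff_isFiniteLength (R := A)).1 inferInstance
  have hH : ∀ i : ℤ, i ≠ 0 → Limits.IsZero ((DerivedCategory.homologyFunctor (ModuleCat.{u} A) i).obj ω) := fun i hi => by
    haveI : Subsingleton ((DerivedCategory.homologyFunctor (ModuleCat.{u} A) i).obj ω) :=
      (DualCx.homEquiv ω i).toEquiv.subsingleton_congr.1 (DualCx.subsingleton_T_finiteLength hω hn hA hi)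
    exact ModuleCat.isZero_of_subsingleton _
  haveI : ω.IsGE 0 := (DerivedCategory.isGE_iff ω 0).2 fun i hi => hH i (by lia)
  haveI : ω.IsLE 0 := (DerivedCategory.isLE_iff ω 0).2 fun i hi => hH i (by lia)
  obtain ⟨Y, ⟨e⟩⟩ := DerivedCategory.exists_iso_singleFunctor_obj_of_isGE_of_isLE ω 0
  obtain ⟨e₁⟩ := DualCx.exists_iso hω hn (f := f) hf hA
  have e₂ : (Y : Type u) ≃ₗ[A] E :=
    (((DerivedCategory.homologyFunctor (ModuleCat.{u} A) 0).mapIso e ≪≫
      (DerivedCategory.singleFunctorCompHomologyFunctorIso (ModuleCat.{u} A) 0).app Y).toLinearEquiv.symm.trans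
      ((DualCx.homEquiv ω 0).symm.trans (e₁.trans (LinearMap.ringLmapEquivSelf A A E))))
  exact ⟨e ≪≫ (DerivedCategory.singleFunctor (ModuleCat.{u} A) 0).mapIso e₂.toModuleIso⟩

end Groth.Agent.S0375
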