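import Groth.Statements.S0395
import Groth.Agent.LocalCrit.Criterion

set_option autoImplicit false
universe u
open FlatMor

namespace Groth.Agent.S0395

open TensorProduct nonZeroDivisors in
/-- For a flat local homomorphism R → S of Noetherian local rings and an element f of S that is regular
on the fibre ring S/mS, the quotient of S by f is again R-flat and f is regular on S. -/
theorem result {R S : Type u} [CommRing R] [CommRing S] [IsLocalRing R] [IsLocalRing S] [IsNoetherianRing R] [IsNoetherianRing S] [Algebra R S] [IsLocalHom (algebraMap R S)] [Module.Flat R S]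
    (f : S) (hf : Ideal.Quotient.mk ((IsLocalRing.maximalIdeal R).map (algebraMap R S)) f ∈ nonZeroDivisors (S ⧸ ((IsLocalRing.maximalIdeal R).map (algebraMap R S)))) :
    Module.Flat R (S ⧸ Ideal.span {f}) ∧ f ∈ nonZeroDivisors S := by
  have hm : ∀ x : S, x ∈ IsLocalRing.maximalIdeal R • (⊤ : Submodule R S) ↔
      x ∈ (IsLocalRing.maximalIdeal R).map (algebraMap R S) := fun x => by
    rw [Ideal.smul_top_eq_map]; rfl
  have hinj : Function.Injective
      ((LinearMap.mulLeft R f).lTensor (IsLocalRing.ResidueField R)) := by
    refine (Groth.Agent.LocalCrit.quot_lTensor_injective_iff _ _).2 fun x hx => ?_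
    rw [hm, LinearMap.mulLeft_apply, ← Ideal.Quotient.eq_zero_iff_mem, map_mul] at hx
    rw [hm, ← Ideal.Quotient.eq_zero_iff_mem]
    exact (mem_nonZeroDivisors_iff.1 hf).1 _ hx
  obtain ⟨h1, h2⟩ := Groth.Agent.LocalCrit.injective_and_flat_of_residue_injective S
    (LinearMap.mulLeft R f) hinj
  have e : LinearMap.range (LinearMap.mulLeft R f) = (Ideal.span {f}).restrictScalars R := by
    ext y
    simp [LinearMap.mem_range, Ideal.mem_span_singleton', mul_comm f, eq_comm]
  refine ⟨Module.Flat.of_linearEquiv ((Submodule.Quotient.restrictScalarsEquiv R (Ideal.span {f})).symm.trans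
    (Submodule.quotEquivOfEq _ _ e.symm)), mem_nonZeroDivisors_iff.2
    ⟨fun x hx => h1 (by simpa using hx), fun x hx => h1 (by simpa [mul_comm f] using hx)⟩⟩

end Groth.Agent.S0395
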