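import Groth.Statements.S0397
import Mathlib


set_option autoImplicit false
universe u
open FlatMor TensorProduct

namespace Groth.Agent.S0397

theorem eq_top_of_sup_smul_eq_top {R M : Type u} [CommRing R] [AddCommGroup M] [Module R M]
    (I : Ideal R) {n : ℕ} (hn : I ^ n = 0) (N : Submodule R M) (h : N ⊔ I • ⊤ = ⊤) :
    ⊤ ≤ N := by
  have : ∀ j : ℕ, N ⊔ (I ^ j) • (⊤ : Submodule R M) = ⊤ := by
    intro j
    induction j with
    | zero => simp
    | succ j ih =>
      refine top_le_iff.mp ?_
      conv_lhs => rw [← h, ← ih]
      refine sup_le le_sup_left ?_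
      rw [Submodule.smul_sup, ← Submodule.smul_assoc, smul_eq_mul, ← pow_succ']
      exact sup_le (le_sup_of_le_left Submodule.smul_le_right) le_sup_right
  rw [← this n, hn, Ideal.zero_eq_bot, Submodule.bot_smul, sup_bot_eq]

/-- Over a local ring whose maximal ideal is nilpotent, every flat module (not necessarily finitely
generated) is free. -/
theorem result {R M : Type u} [CommRing R] [IsLocalRing R] (hR : IsNilpotent (IsLocalRing.maximalIdeal R))
    [AddCommGroup M] [Module R M] [Module.Flat R M] : Module.Free R M := by
  obtain ⟨n, hn⟩ := hR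
  let k := IsLocalRing.ResidueField R
  let b := Module.Free.chooseBasis k (k ⊗[R] M)
  have hs : Function.Surjective (TensorProduct.mk R k M 1) :=
    TensorProduct.mk_surjective R M k Ideal.Quotient.mk_surjective
  choose v hv using fun i => hs (b i)
  have hv' : TensorProduct.mk R k M 1 ∘ v = b := funext hv
  refine Module.Free.of_basis (Module.Basis.mk (Module.IsLocalRing.linearIndependent_of_flat v ?_) ?_)
  · rw [hv']; exact b.linearIndependent
  set N := Submodule.span R (Set.range v) with hN
  have key : (⊤ : Submodule R M) = N ⊔ IsLocalRing.maximalIdeal R • ⊤ := by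
    refine (top_le_iff.mp ?_).symm
    have h1 : N.map (TensorProduct.mk R k M 1) = ⊤ := by
      rw [hN, Submodule.map_span, ← Set.range_comp, hv',
        ← Submodule.restrictScalars_span R k Ideal.Quotient.mk_surjective, b.span_eq,
        Submodule.restrictScalars_top]
    intro m _
    obtain ⟨x, hx, hxm⟩ := h1.ge (Submodule.mem_top (x := TensorProduct.mk R k M 1 m))
    have hk : m - x ∈ LinearMap.ker (TensorProduct.mk R k M 1) := by simp [map_sub, hxm]
    have hk' : m - x ∈ (IsLocalRing.maximalIdeal R • ⊤ : Submodule R M) := by
      rw [← LinearMap.ker_tensorProductMk]; exact hk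
    simpa using Submodule.add_mem_sup hx hk'
  exact eq_top_of_sup_smul_eq_top _ hn N key.symm

end Groth.Agent.S0397
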