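import Groth.Statements.S0400
import Mathlib
import Groth.Agent.LocalCrit.Criterion

set_option autoImplicit false
universe u
open FlatMor

namespace Groth.Agent.S0400

set_option linter.style.haveILetI false

open TensorProduct in
/-- Flatness along a nilpotent ideal. -/
theorem flat_of_nilpotent {S M : Type u} [CommRing S] [AddCommGroup M] [Module S M] (J : Ideal S) (n : ℕ)
    (hn : J ^ n = ⊥) (h1 : Function.Injective (LocalCrit.mulMap J M))
    (h2 : Module.Flat (S ⧸ J) ((S ⧸ J) ⊗[S] M)) : Module.Flat S M := by
  obtain ⟨K, _, _, ι, π, hι, hπ, hex⟩ : ∃ (K : Type u) (_ : AddCommGroup K) (_ : Module S K)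
      (ι : K →ₗ[S] (M →₀ S)) (π : (M →₀ S) →ₗ[S] M),
      Function.Injective ι ∧ Function.Surjective π ∧ Function.Exact ι π :=
    ⟨LinearMap.ker (Finsupp.linearCombination S (id : M → M)), inferInstance, inferInstance, _,
      Finsupp.linearCombination S (id : M → M), Submodule.injective_subtype _,
      Finsupp.linearCombination_id_surjective S M, LinearMap.exact_subtype_ker_map _⟩
  haveI := h2
  have hinj : Function.Injective (ι.baseChange (S ⧸ J)) :=
    (LocalCrit.quot_lTensor_injective_iff J ι).2 fun _ hx =>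
      LocalCrit.mem_smul_of_map_mem_of_mulMap_injective ι hι π hπ hex J h1 hx
  have hV : ∀ (V : Type u) [AddCommGroup V] [Module S V], (∀ a ∈ J, ∀ v : V, a • v = 0) →
      Function.Injective (ι.lTensor V) := by
    intro V _ _ hV
    have hT : Module.IsTorsionBySet S V (J : Set S) := fun v a => hV a a.2 v
    letI : Module (S ⧸ J) V := hT.module
    haveI : IsScalarTower S (S ⧸ J) V := hT.isScalarTower
    let eK := AlgebraTensorModule.cancelBaseChange S (S ⧸ J) (S ⧸ J) V K
    let eF := AlgebraTensorModule.cancelBaseChange S (S ⧸ J) (S ⧸ J) V (M →₀ S)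
    have hk : Function.Injective ((ι.baseChange (S ⧸ J)).lTensor V) :=
      LinearMap.lTensor_injective_of_exact_of_flat (π.baseChange (S ⧸ J)) (LinearMap.lTensor_surjective _ hπ)
        (ι.baseChange (S ⧸ J)) hinj (lTensor_exact (S ⧸ J) hex hπ) V
    have hc : ∀ z, ι.lTensor V (eK z) = eF ((ι.baseChange (S ⧸ J)).lTensor V z) := by
      intro z
      induction z with
      | zero => simp
      | tmul v w =>
        induction w with
        | zero => simp
        | tmul c m => simp [eK, eF]
        | add x y hx hy => simp only [tmul_add, map_add, hx, hy]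
      | add x y hx hy => simp only [map_add, hx, hy]
    intro a b hab
    obtain ⟨a, rfl⟩ := eK.surjective a
    obtain ⟨b, rfl⟩ := eK.surjective b
    rw [hc, hc] at hab
    rw [hk (eF.injective hab)]
  refine LocalCrit.flat_of_exact ι hι π hπ hex fun A _ x hx => ?_
  have h3 := LocalCrit.mem_pow_sup_smul_of_map_mem' ι hV hx n
  rwa [hn, bot_sup_eq] at h3

open TensorProduct in
/-- Fibrewise criterion of flatness, nilpotent form: let R → S be a ring map, I a nilpotent ideal of R,
and M an S-module that is flat over R and such that M/IM is flat over S/IS. Then M is flat over S.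
The published statement also determines the primes of S at which S is flat over R; that part is not
stated here. -/
theorem result {R S M : Type u} [CommRing R] [CommRing S] [Algebra R S] (I : Ideal R) (hI : IsNilpotent I)
    [AddCommGroup M] [Module S M] [Module R M] [IsScalarTower R S M] [Module.Flat R M]
    (h : Module.Flat (S ⧸ I.map (algebraMap R S)) ((S ⧸ I.map (algebraMap R S)) ⊗[S] M)) : Module.Flat S M := by
  obtain ⟨n, hn⟩ := hI
  let J := I.map (algebraMap R S)
  have hJn : J ^ n = ⊥ := by rw [← Ideal.map_pow, hn, Ideal.zero_eq_bot, Ideal.map_bot]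
  refine flat_of_nilpotent J n hJn ?_ h
  let θ : I ⊗[R] M →ₗ[R] J ⊗[S] M := TensorProduct.lift (LinearMap.mk₂ R
    (fun a m => (⟨algebraMap R S a, Ideal.mem_map_of_mem _ a.2⟩ : J) ⊗ₜ[S] m)
    (fun a b m => by rw [← add_tmul]; congr 1; exact Subtype.ext (map_add _ _ _))
    (fun r a m => by
      rw [TensorProduct.smul_tmul']; congr 1
      exact Subtype.ext (by simp [Algebra.smul_def]))
    (fun a m m' => tmul_add _ _ _)
    (fun r a m => by rw [← tmul_smul]))
  have hθ : ∀ a m, θ (a ⊗ₜ m) = (⟨algebraMap R S a, Ideal.mem_map_of_mem _ a.2⟩ : J) ⊗ₜ[S] m := fun _ _ => rfl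
  have hsurj : Function.Surjective θ := by
    intro z
    induction z with
    | zero => exact ⟨0, map_zero _⟩
    | tmul j m =>
      obtain ⟨j, hj⟩ := j
      induction hj using Submodule.span_induction generalizing m with
      | mem x hx =>
        obtain ⟨a, ha, rfl⟩ := hx
        exact ⟨⟨a, ha⟩ ⊗ₜ m, rfl⟩
      | zero => exact ⟨0, by rw [map_zero]; exact (zero_tmul J m).symm⟩
      | add x y hx hy ihx ihy =>
        obtain ⟨a, ha⟩ := ihx m
        obtain ⟨b, hb⟩ := ihy m
        exact ⟨a + b, by rw [map_add, ha, hb, ← add_tmul]; rfl⟩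
      | smul s x hx ih =>
        obtain ⟨a, ha⟩ := ih (s • m)
        exact ⟨a, by rw [ha, tmul_smul, TensorProduct.smul_tmul']; rfl⟩
    | add a b ha hb =>
      obtain ⟨a, rfl⟩ := ha
      obtain ⟨b, rfl⟩ := hb
      exact ⟨a + b, map_add _ _ _⟩
  have hc : ∀ w, LocalCrit.mulMap J M (θ w) = LocalCrit.mulMap I M w := by
    intro w
    induction w with
    | zero => simp
    | tmul a m => rw [hθ, LocalCrit.mulMap_tmul, LocalCrit.mulMap_tmul]; exact algebraMap_smul S (a : R) m
    | add a b ha hb => simp only [map_add, ha, hb]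
  intro a b hab
  obtain ⟨a, rfl⟩ := hsurj a
  obtain ⟨b, rfl⟩ := hsurj b
  rw [hc, hc] at hab
  rw [LocalCrit.mulMap_injective I hab]

end Groth.Agent.S0400
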