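import Groth.Statements.S0401
import Mathlib

set_option autoImplicit false
universe u
open FlatMor

namespace Groth.Agent.S0401

/-- For a finite type ring map R → S quasi-finite at a prime q lying over p, the dimension of S_q is at
most the dimension of R_p. -/
theorem result {R S : Type u} [CommRing R] [CommRing S] [Algebra R S] [Algebra.FiniteType R S] (q : Ideal S) [q.IsPrime] [Algebra.QuasiFiniteAt R q] :
    ringKrullDim (Localization.AtPrime q) ≤ ringKrullDim (Localization.AtPrime (q.under R)) := by
  let f : PrimeSpectrum (Localization.AtPrime q) → PrimeSpectrum R := fun P =>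
    PrimeSpectrum.comap (algebraMap R (Localization.AtPrime q)) P
  have hq : ∀ P : PrimeSpectrum (Localization.AtPrime q), P.asIdeal.under S ≤ q := fun P => by
    refine le_trans (Ideal.comap_mono (IsLocalRing.le_maximalIdeal P.2.ne_top)) ?_
    exact (Localization.AtPrime.under_maximalIdeal (I := q)).le
  have hf : ∀ P, (f P).asIdeal ≤ q.under R := fun P => by
    show P.asIdeal.comap _ ≤ _
    rw [IsScalarTower.algebraMap_eq R S (Localization.AtPrime q), ← Ideal.comap_comap]
    exact Ideal.comap_mono (hq P)
  let e := IsLocalization.AtPrime.primeSpectrumOrderIso (Localization.AtPrime (q.under R)) (q.under R)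
  refine Order.krullDim_le_of_strictMono (fun P => e.symm ⟨f P, hf P⟩) (e.symm.strictMono.comp ?_)
  intro P Q h
  have hle : P.asIdeal.under S ≤ Q.asIdeal.under S := Ideal.comap_mono h.le
  refine lt_of_le_of_ne (Ideal.comap_mono h.le) fun he => ?_
  have he' : (P.asIdeal.under S).under R = (Q.asIdeal.under S).under R := by
    simpa [Ideal.under, f, Ideal.comap_comap, ← IsScalarTower.algebraMap_eq] using
      congrArg (fun x : _ => PrimeSpectrum.asIdeal (Subtype.val x)) he
  haveI : Algebra.QuasiFiniteAt R (Q.asIdeal.under S) := Algebra.QuasiFiniteAt.of_le (Q := q) (hq Q)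
  have := Algebra.QuasiFiniteAt.eq_of_le_of_under_eq (R := R) hle he'
  exact h.ne (PrimeSpectrum.ext ((IsLocalization.orderEmbedding q.primeCompl
    (Localization.AtPrime q)).injective this))

end Groth.Agent.S0401
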