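import Groth.Statements.S0411
import Groth.Agent.QA.Props
import Groth.Agent.QA.GenLocus
import Groth.Agent.TMul.AmpleBasis

set_option autoImplicit false
universe u
open FlatMor Groth.Agent

namespace Groth.Agent.S0411

open AlgebraicGeometry CategoryTheory Limits in
/-- For a separated, locally quasi-finite morphism (locally of finite type with discrete fibres) to an
affine scheme, every finite set of points of the source lies in an affine open. -/
theorem result {X Y : Scheme.{u}} (f : X ⟶ Y) [IsAffine Y] [IsSeparated f] [LocallyQuasiFinite f] [LocallyOfFiniteType f] (T : Finset ↑X) :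
    ∃ U : X.Opens, IsAffineOpen U ∧ ∀ x ∈ T, x ∈ U := by
  classical
  have key : ∀ x : X, ∃ V : X.Opens, IsAffineOpen V ∧ x ∈ V := fun x => by
    obtain ⟨V, hV, hx, -⟩ := exists_isAffineOpen_mem_and_subset (U := (⊤ : X.Opens))
      (show x ∈ (⊤ : X.Opens) from trivial)
    exact ⟨V, hV, hx⟩
  choose V hV hxV using key
  let U : X.Opens := ⨆ x ∈ T, V x
  have hU : IsCompact (U : Set X) := by
    simp only [U, TopologicalSpace.Opens.coe_iSup]
    exact T.finite_toSet.isCompact_biUnion fun x _ => (hV x).isCompact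
  have hTU : ∀ x ∈ T, x ∈ U := fun x hx => (le_iSup₂ (f := fun x _ => V x) x hx) (hxV x)
  haveI : CompactSpace U.toScheme := isCompact_iff_compactSpace.mp hU
  haveI : QuasiCompact (U.ι ≫ f) := (quasiCompact_iff_compactSpace (U.ι ≫ f)).mpr inferInstance
  have hqa := (QA.of_locallyQuasiFinite (U.ι ≫ f)).2 ⊤ (isAffineOpen_top Y)
  haveI : U.toScheme.IsQuasiAffine :=
    haveI : (⊤ : U.toScheme.Opens).toScheme.IsQuasiAffine := by simpa using hqa
    Scheme.IsQuasiAffine.of_isImmersion (Scheme.topIso U.toScheme).inv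
  obtain ⟨s, hs, hTs, -⟩ := TMul.exists_finite_le_of_isQuasiAffine
    (TMul.isInvertible_structureModule (X := U.toScheme))
    (Z := U.ι.base ⁻¹' (T : Set X)) (T.finite_toSet.preimage U.ι.isOpenEmbedding.injective.injOn)
    (W := ⊤) (fun _ _ => trivial)
  refine ⟨_, hs.image_of_isOpenImmersion U.ι, fun x hx => ?_⟩
  exact ⟨⟨x, hTU x hx⟩, hTs hx, rfl⟩

end Groth.Agent.S0411
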