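import Groth.Statements.S0416
import Groth.Agent.WeakNorm.AwnFactor
import Mathlib.AlgebraicGeometry.Morphisms.Immersion

set_option autoImplicit false
universe u
open FlatMor

set_option backward.isDefEq.respectTransparency false

namespace Groth.Agent.S0416

open AlgebraicGeometry CategoryTheory Limits in
/-- When a composite of two morphisms is a universal homeomorphism and so is either factor, the
remaining factor is a universal homeomorphism as well. -/
theorem result {X Y Z : Scheme.{u}} (g : X ⟶ Y) (h : Y ⟶ Z) :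
    (FlatMor.IsUnivHomeo (g ≫ h) → FlatMor.IsUnivHomeo g → FlatMor.IsUnivHomeo h) ∧
    (FlatMor.IsUnivHomeo (g ≫ h) → FlatMor.IsUnivHomeo h → FlatMor.IsUnivHomeo g) := by
  refine ⟨fun hgh hg => ?_, fun hgh hh => ?_⟩
  · obtain ⟨hgi, hgu, hgs⟩ := (Groth.Agent.WeakNorm.isUnivHomeo_iff g).mp hg
    haveI := hgi
    haveI := hgs
    haveI := ((Groth.Agent.WeakNorm.isUnivHomeo_iff _).mp hgh).1
    let p : Limits.pullback (g ≫ h) (g ≫ h) ⟶ Limits.pullback h h :=
      Limits.pullback.map _ _ _ _ g g (𝟙 Z) (by simp) (by simp)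
    haveI : UniversallyClosed p :=
      MorphismProperty.pullbackMap (P := @UniversallyClosed) inferInstance inferInstance (by simp) (by simp)
    have hp : Limits.pullback.diagonal (g ≫ h) ≫ p = g ≫ Limits.pullback.diagonal h := by
      apply Limits.pullback.hom_ext <;> simp [p]
    have hcl : IsClosed (Set.range (Limits.pullback.diagonal h)) := by
      have h1 : Set.range (Limits.pullback.diagonal (g ≫ h) ≫ p) = Set.range (g ≫ Limits.pullback.diagonal h) := by
        rw [hp]
      rw [Scheme.Hom.comp_base, Scheme.Hom.comp_base, TopCat.coe_comp, TopCat.coe_comp, Set.range_comp,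
        Set.range_comp, g.surjective.range_eq, Set.image_univ] at h1
      rw [← h1]
      exact p.isClosedMap _ (Limits.pullback.diagonal (g ≫ h)).isClosedEmbedding.isClosed_range
    haveI : IsSeparated h := ⟨IsClosedImmersion.of_isPreimmersion _ hcl⟩
    exact Groth.Agent.WeakNorm.isUnivHomeo_of_surjective_comp hgh
  · obtain ⟨hi, hu, hs⟩ := (Groth.Agent.WeakNorm.isUnivHomeo_iff _).mp hgh
    obtain ⟨hhi, hhu, hhs⟩ := (Groth.Agent.WeakNorm.isUnivHomeo_iff _).mp hh
    haveI := hhi
    haveI := hi
    haveI := hhu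
    refine (Groth.Agent.WeakNorm.isUnivHomeo_iff g).mpr
      ⟨IsIntegralHom.of_comp g h, ?_, ⟨fun y => ?_⟩⟩
    · haveI : Surjective (Limits.pullback.diagonal (g ≫ h)) := (UniversallyInjective.iff_diagonal _).mp hu
      rw [UniversallyInjective.iff_diagonal]
      let i : Limits.pullback g g ⟶ Limits.pullback (g ≫ h) (g ≫ h) :=
        Limits.pullback.map _ _ _ _ (𝟙 X) (𝟙 X) h (by simp) (by simp)
      haveI : Mono i := ⟨fun a b hab => Limits.pullback.hom_ext
        (by simpa [i] using hab =≫ Limits.pullback.fst _ _)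
        (by simpa [i] using hab =≫ Limits.pullback.snd _ _)⟩
      have hi' : Limits.pullback.diagonal g ≫ i = Limits.pullback.diagonal (g ≫ h) := by
        apply Limits.pullback.hom_ext <;> simp [i]
      refine ⟨fun z => ?_⟩
      obtain ⟨x, hx⟩ := (Limits.pullback.diagonal (g ≫ h)).surjective (i z)
      refine ⟨x, i.injective ?_⟩
      rw [← hx, ← hi', Scheme.Hom.comp_apply]
    obtain ⟨x, hx⟩ := hs.surj (h y)
    exact ⟨x, h.injective (by rw [← hx, Scheme.Hom.comp_apply])⟩

end Groth.Agent.S0416
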