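import Groth.Statements.S0418
import Mathlib
import Groth.Agent.WeakNorm.AwnLoc
import Groth.Agent.Tower.Geom

set_option autoImplicit false
universe u
open FlatMor

namespace Groth.Agent.S0418

open AlgebraicGeometry TensorProduct

set_option linter.style.haveILetI false

section
variable {A B : Type u} [CommRing A] [CommRing B] [Algebra A B] (p : ℕ)

/-- Some `p`-power multiple and some `p`-power power lie in the base. -/
def Good (b : B) : Prop :=
  ∃ n : ℕ, (p ^ n : B) * b ∈ (⊥ : Subalgebra A B) ∧ b ^ (p ^ n) ∈ (⊥ : Subalgebra A B)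

theorem natCast_pow_mem (n : ℕ) : (p ^ n : B) ∈ (⊥ : Subalgebra A B) := pow_mem (natCast_mem _ p) n

theorem Good.exists_ge {b : B} {n m : ℕ} (hnm : n ≤ m)
    (h : (p ^ n : B) * b ∈ (⊥ : Subalgebra A B) ∧ b ^ (p ^ n) ∈ (⊥ : Subalgebra A B)) :
    (p ^ m : B) * b ∈ (⊥ : Subalgebra A B) ∧ b ^ (p ^ m) ∈ (⊥ : Subalgebra A B) := by
  obtain ⟨d, rfl⟩ := Nat.exists_eq_add_of_le hnm
  refine ⟨?_, ?_⟩
  · rw [pow_add, mul_comm ((p : B) ^ n), mul_assoc]
    exact mul_mem (natCast_pow_mem p d) h.1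
  · rw [pow_add, pow_mul]
    exact pow_mem h.2 _

theorem pow_mem_of_good (hp : p.Prime) {x : B} {n : ℕ}
    (h : (p ^ n : B) * x ∈ (⊥ : Subalgebra A B) ∧ x ^ (p ^ n) ∈ (⊥ : Subalgebra A B)) (i : ℕ) :
    (p ^ (n * p ^ n) : B) * x ^ i ∈ (⊥ : Subalgebra A B) := by
  have hr : i % p ^ n < p ^ n := Nat.mod_lt _ (pow_pos hp.pos n)
  have e : (p ^ (n * p ^ n) : B) * x ^ i = (p ^ (n * (p ^ n - i % p ^ n)) : B) *
      ((p ^ n : B) * x) ^ (i % p ^ n) * (x ^ p ^ n) ^ (i / p ^ n) := by
    rw [mul_pow, ← pow_mul, ← pow_mul, mul_assoc, mul_assoc, ← pow_add, Nat.mod_add_div, ← mul_assoc, ← pow_add,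
      ← Nat.mul_add, Nat.sub_add_cancel hr.le]
  rw [e]
  exact mul_mem (mul_mem (natCast_pow_mem p _) (pow_mem h.1 _)) (pow_mem h.2 _)

theorem Good.mul {x y : B} (hx : Good (A := A) p x) (hy : Good (A := A) p y) : Good (A := A) p (x * y) := by
  obtain ⟨n, hn⟩ := hx
  obtain ⟨m, hm⟩ := hy
  obtain ⟨hn1, hn2⟩ := Good.exists_ge p (le_max_left n m) hn
  obtain ⟨hm1, hm2⟩ := Good.exists_ge p (le_max_right n m) hm
  refine ⟨max n m + max n m, ?_, ?_⟩
  · rw [pow_add, show ∀ a : B, a * a * (x * y) = (a * x) * (a * y) from fun a => by ring]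
    exact mul_mem hn1 hm1
  · rw [pow_add, pow_mul, mul_pow]
    exact pow_mem (mul_mem hn2 hm2) _

theorem Good.add (hp : p.Prime) {x y : B} (hx : Good (A := A) p x) (hy : Good (A := A) p y) :
    Good (A := A) p (x + y) := by
  obtain ⟨n, hn⟩ := hx
  obtain ⟨m, hm⟩ := hy
  set N := max n m
  have hn' := Good.exists_ge p (le_max_left n m) hn
  have hm' := Good.exists_ge p (le_max_right n m) hm
  let L := N * p ^ N + N * p ^ N
  let B' := Algebra.adjoin A ({x, y} : Set B)
  have hB' : ∀ c ∈ B', (p ^ L : B) * c ∈ (⊥ : Subalgebra A B) := by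
    intro c hc
    have hc' : c ∈ Submodule.span A (Submonoid.closure ({x, y} : Set B) : Set B) := by
      rw [← Algebra.adjoin_eq_span]; exact hc
    induction hc' using Submodule.span_induction with
    | mem c hc2 =>
      obtain ⟨i, j, rfl⟩ := (Submonoid.mem_closure_pair x y c).1 hc2
      rw [pow_add, show ∀ a b c : B, a * a * (b * c) = (a * b) * (a * c) from fun a b c => by ring]
      exact mul_mem (pow_mem_of_good p hp hn' i) (pow_mem_of_good p hp hm' j)
    | zero => simp
    | add a b ha hb iha ihb =>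
      rw [mul_add]
      exact add_mem (iha (by rw [← Subalgebra.mem_toSubmodule, Algebra.adjoin_eq_span]; exact ha))
        (ihb (by rw [← Subalgebra.mem_toSubmodule, Algebra.adjoin_eq_span]; exact hb))
    | smul r a ha iha =>
      rw [mul_smul_comm]
      exact Subalgebra.smul_mem _ (iha (by rw [← Subalgebra.mem_toSubmodule, Algebra.adjoin_eq_span]; exact ha)) r
  let x' : B' := ⟨x, Algebra.subset_adjoin (by simp)⟩
  let y' : B' := ⟨y, Algebra.subset_adjoin (by simp)⟩
  obtain ⟨r, hr⟩ := exists_add_pow_prime_pow_eq hp x' y' N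
  obtain ⟨c, hc⟩ := dvd_sub_pow_of_dvd_sub (R := B') (p := p) (a := (x' + y') ^ p ^ N)
    (b := x' ^ p ^ N + y' ^ p ^ N) ⟨x' * y' * r, by rw [hr]; ring⟩ L
  have hc' := congrArg (Subtype.val : B' → B) hc
  push_cast at hc'
  refine ⟨max N (N + L), ?_, ?_⟩
  · rw [mul_add]
    exact add_mem (Good.exists_ge p (le_max_left _ _) hn').1 (Good.exists_ge p (le_max_left _ _) hm').1
  · rw [max_eq_right (Nat.le_add_right N L), pow_add, pow_mul, sub_eq_iff_eq_add.1 hc', pow_succ', mul_assoc]
    exact add_mem (mul_mem (natCast_mem _ p) (hB' _ c.2)) (pow_mem (add_mem hn'.2 hm'.2) _)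

theorem mem_all (hp : p.Prime) (hk : ∀ b : B, ∃ k : ℕ, (p ^ k : B) * b ∈ (⊥ : Subalgebra A B))
    (hu : FlatMor.IsUnivHomeo (Spec.map (CommRingCat.ofHom (algebraMap A B)))) (b : B) : Good (A := A) p b := by
  let T : Subalgebra A B :=
    { carrier := {b | Good (A := A) p b}
      mul_mem' := Good.mul p
      add_mem' := Good.add p hp
      algebraMap_mem' := fun a => ⟨0, by simp, by simp⟩ }
  have hpT : ∀ {e : B}, e ^ p ∈ T → e ∈ T := fun {e} ⟨n, _, hn⟩ => by
    obtain ⟨k, hk⟩ := hk e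
    refine ⟨k + (n + 1), ?_, ?_⟩
    · rw [pow_add, mul_comm ((p : B) ^ k), mul_assoc]
      exact mul_mem (natCast_pow_mem p _) hk
    · rw [Nat.add_comm, pow_add, pow_mul, pow_succ', pow_mul]
      exact pow_mem hn _
  obtain ⟨l, hbl, hl⟩ := Tower.towers_of_isUnivHomeo hu ({b} : Finset B)
  have hgen : ∀ i, Tower.gen A (l.take i) ≤ T := by
    intro i
    induction i with
    | zero => exact Algebra.adjoin_le (fun e he => by simp at he)
    | succ i ih =>
      by_cases hi : i < l.length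
      · refine Algebra.adjoin_le fun e he => ?_
        rw [Set.mem_setOf_eq, List.take_add_one, List.getElem?_eq_getElem hi, List.mem_append] at he
        rcases he with he | he
        · exact ih (Algebra.subset_adjoin he)
        · obtain rfl : e = l[i] := by simpa using he
          rcases hl i hi with ⟨h2, h3⟩ | ⟨q, hq, h1, h2⟩
          · refine hpT ?_
            rcases hp.eq_two_or_odd' with rfl | ⟨j, hj⟩
            · exact ih h2
            · obtain ⟨j, rfl⟩ : ∃ t, j = t + 1 := ⟨j - 1, by have := hp.two_le; omega⟩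
              rw [show p = 3 + 2 * j by omega, pow_add, pow_mul]
              exact T.mul_mem (ih h3) (pow_mem (ih h2) _)
          · by_cases hqp : q = p
            · exact hpT (hqp ▸ ih h2)
            · obtain ⟨k, hk⟩ := hk l[i]
              have hkT : (p ^ k : B) * l[i] ∈ T := (bot_le : ⊥ ≤ T) hk
              have hco : IsCoprime (q : ℤ) ((p : ℤ) ^ k) :=
                (Int.isCoprime_iff_nat_coprime.2 (by simpa using (Nat.coprime_primes hq hp).2 hqp)).pow_right
              obtain ⟨u, v, huv⟩ := hco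
              have huv' := congrArg (fun z : ℤ => (z : B)) huv
              push_cast at huv'
              rw [show l[i] = (u : B) * ((q : B) * l[i]) + (v : B) * ((p ^ k : B) * l[i]) by
                rw [← mul_assoc, ← mul_assoc, ← add_mul, huv', one_mul]]
              exact add_mem (mul_mem (intCast_mem T u) (ih h1)) (mul_mem (intCast_mem T v) hkT)
      · rw [List.take_of_length_le (by omega)] at ih ⊢
        exact ih
  exact (hgen l.length) (by rw [List.take_length]; exact hbl (by simp))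

end

open AlgebraicGeometry in
/-- For a prime number p and a ring map A → B that becomes an isomorphism after inverting p, Spec B →
Spec A is a universal homeomorphism if and only if the kernel consists of nilpotents and every
element of B has some p-power multiple and p-power power in the image. -/
theorem result {A B : Type u} [CommRing A] [CommRing B] (φ : A →+* B) (p : ℕ) (hp : p.Prime)
    (h : Function.Bijective (Localization.awayMap φ (p : A))) :
    FlatMor.IsUnivHomeo (Spec.map (CommRingCat.ofHom φ)) ↔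
      (∀ a ∈ RingHom.ker φ, IsNilpotent a) ∧ ∀ b : B, ∃ n : ℕ, (p ^ n : B) * b ∈ φ.range ∧ b ^ (p ^ n) ∈ φ.range := by
  algebraize [φ]
  have hk : ∀ b : B, ∃ k : ℕ, (p ^ k : B) * b ∈ (⊥ : Subalgebra A B) := by
    intro b
    obtain ⟨z, hz⟩ := h.2 (algebraMap B (Localization.Away (φ (p : A))) b)
    obtain ⟨⟨a, ⟨_, j, rfl⟩⟩, hza⟩ := IsLocalization.surj (Submonoid.powers (p : A)) z
    have h1 : algebraMap B (Localization.Away (φ (p : A))) (b * φ ((p : A) ^ j)) =
        algebraMap B (Localization.Away (φ (p : A))) (φ a) := by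
      have h2 := congrArg (Localization.awayMap φ (p : A)) hza
      simp only [Localization.awayMap, IsLocalization.Away.map, map_mul, IsLocalization.map_eq] at h2 hz ⊢
      rw [hz] at h2
      exact h2
    obtain ⟨⟨_, m, rfl⟩, hm⟩ := (IsLocalization.eq_iff_exists (Submonoid.powers (φ (p : A))) _).1 h1
    refine ⟨m + j, Algebra.mem_bot.2 ⟨(p : A) ^ m * a, ?_⟩⟩
    simp only [map_natCast, map_pow] at hm
    rw [RingHom.algebraMap_toAlgebra, map_mul, map_pow, map_natCast, ← hm, pow_add, mul_assoc, mul_comm b]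
  rw [show Spec.map (CommRingCat.ofHom φ) = Spec.map (CommRingCat.ofHom (algebraMap A B)) from rfl,
    WeakNorm.isUnivHomeo_iff]
  constructor
  · intro hu
    have hu' := (WeakNorm.isUnivHomeo_iff _).2 hu
    refine ⟨fun a ha => ?_, fun b => ?_⟩
    · rw [← mem_nilradical, nilradical_eq_sInf, Ideal.mem_sInf]
      intro P hP
      obtain ⟨Q, hQ⟩ := hu.2.2.surj ⟨P, hP⟩
      have : P = Q.asIdeal.comap φ := (congrArg PrimeSpectrum.asIdeal hQ).symm
      rw [this, Ideal.mem_comap, RingHom.mem_ker.1 ha]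
      exact Q.asIdeal.zero_mem
    · obtain ⟨n, h1, h2⟩ := mem_all p hp hk hu' b
      obtain ⟨x, hx⟩ := Algebra.mem_bot.1 h1
      obtain ⟨y, hy⟩ := Algebra.mem_bot.1 h2
      exact ⟨n, ⟨x, hx⟩, ⟨y, hy⟩⟩
  · rintro ⟨hker, hpow⟩
    have hint : φ.IsIntegral := fun b => by
      obtain ⟨n, -, a, ha⟩ := hpow b
      exact IsIntegral.of_pow (pow_pos hp.pos n) (ha ▸ isIntegral_algebraMap (x := a))
    refine ⟨IsIntegralHom.SpecMap_iff.2 hint, ?_, ⟨fun P => ?_⟩⟩
    · rw [WeakNorm.universallyInjective_iff_isNilpotent]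
      intro s
      obtain ⟨n, ⟨a, ha⟩, ⟨c, hc⟩⟩ := hpow s
      rw [← RingHom.algebraMap_toAlgebra φ] at ha hc
      rw [← mem_nilradical, nilradical_eq_sInf, Ideal.mem_sInf]
      intro P hP
      haveI : P.IsPrime := hP
      let d : B ⊗[A] B := s ⊗ₜ 1 - 1 ⊗ₜ s
      have hl : ∀ x : A, (algebraMap A B x) ⊗ₜ[A] (1 : B) = (1 : B) ⊗ₜ[A] algebraMap A B x := fun x => by
        rw [Algebra.algebraMap_eq_smul_one, smul_tmul]
      have h1 : (p : B ⊗[A] B) ^ n * d = 0 := by
        have e1 : (p : B ⊗[A] B) ^ n = ((p : B) ^ n) ⊗ₜ[A] (1 : B) := by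
          rw [← Algebra.TensorProduct.includeLeft_apply (S := A), map_pow, map_natCast]
        have e2 : ((p : B) ^ n) ⊗ₜ[A] (1 : B) = (1 : B) ⊗ₜ[A] ((p : B) ^ n) := by
          have := hl ((p : A) ^ n)
          simpa only [map_pow, map_natCast] using this
        rw [mul_sub, e1, Algebra.TensorProduct.tmul_mul_tmul, mul_one, e2, Algebra.TensorProduct.tmul_mul_tmul,
          one_mul, ← ha, hl, sub_self]
      rcases hP.mem_or_mem (h1 ▸ P.zero_mem) with h3 | h3
      · have hpP : (p : B ⊗[A] B) ∈ P := hP.mem_of_pow_mem n h3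
        have hx : (p : B ⊗[A] B) ∣ (s ⊗ₜ[A] (1 : B)) ^ p ^ n - ((1 : B) ⊗ₜ[A] s) ^ p ^ n - d ^ p ^ n := by
          obtain ⟨r, hr⟩ := exists_add_pow_prime_pow_eq hp d ((1 : B) ⊗ₜ[A] s) n
          refine ⟨d * (1 ⊗ₜ s) * r, ?_⟩
          simp only [d, sub_add_cancel] at hr ⊢
          rw [hr]; ring
        have hz : (s ⊗ₜ[A] (1 : B)) ^ p ^ n - ((1 : B) ⊗ₜ[A] s) ^ p ^ n = 0 := by
          rw [Algebra.TensorProduct.tmul_pow, Algebra.TensorProduct.tmul_pow, one_pow, ← hc, hl, sub_self]
        rw [hz, zero_sub] at hx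
        obtain ⟨r, hr⟩ := hx
        refine hP.mem_of_pow_mem (p ^ n) ?_
        have : d ^ p ^ n = -((p : B ⊗[A] B) * r) := by rw [← hr, neg_neg]
        change d ^ p ^ n ∈ P
        rw [this]
        exact P.neg_mem (P.mul_mem_right _ hpP)
      · exact h3
    · haveI : Algebra.IsIntegral A B := ⟨hint⟩
      obtain ⟨Q, -, hQ, hQP⟩ := Ideal.exists_ideal_over_prime_of_isIntegral P.asIdeal (⊥ : Ideal B)
        fun a ha => P.2.mem_of_pow_mem _ ((hker a ha).choose_spec ▸ P.asIdeal.zero_mem)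
      exact ⟨⟨Q, hQ⟩, PrimeSpectrum.ext hQP⟩

end Groth.Agent.S0418
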