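import Groth.Statements.S0421
import Groth.Agent.GoingDown.Scheme
import Groth.Agent.GeomFib.FieldExt

set_option autoImplicit false
universe u
open FlatMor

open TensorProduct

namespace Groth.Agent.S0421

open AlgebraicGeometry CategoryTheory Limits in
/-- For a flat morphism from a connected scheme to the spectrum of a discrete valuation ring with
reduced closed fibre, the generic fibre is connected. -/
theorem result {R : Type u} [CommRing R] [IsDomain R] [IsDiscreteValuationRing R] {X : Scheme.{u}}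
    (f : X ⟶ Spec (CommRingCat.of R)) [Flat f] [ConnectedSpace ↑X]
    (hred : IsReduced (f.fiber (IsLocalRing.closedPoint R))) :
    ConnectedSpace ↑(f.fiber (⟨⊥, Ideal.isPrime_bot⟩ : PrimeSpectrum R)) := by
  obtain ⟨t, ht⟩ := IsDiscreteValuationRing.exists_irreducible R
  have hmax : IsLocalRing.maximalIdeal R = Ideal.span {t} := ht.maximalIdeal_eq
  have ht0 : t ≠ 0 := ht.ne_zero
  let η : ↥(Spec (CommRingCat.of R)) := (⟨⊥, Ideal.isPrime_bot⟩ : PrimeSpectrum R)
  let c : ↥(Spec (CommRingCat.of R)) := IsLocalRing.closedPoint R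
  have hgen : ∀ q : PrimeSpectrum R, t ∉ q.asIdeal → q = (⟨⊥, Ideal.isPrime_bot⟩ : PrimeSpectrum R) := fun q hq => by
    by_contra h
    have : q.asIdeal.IsMaximal := q.2.isMaximal fun h0 => h (PrimeSpectrum.ext h0)
    exact hq (IsLocalRing.eq_maximalIdeal this ▸ (hmax ▸ Ideal.mem_span_singleton_self t))
  -- the reduced special fibre in terms of the quotient by the maximal ideal
  let k := R ⧸ IsLocalRing.maximalIdeal R
  let : Field k := Ideal.Quotient.field _
  let g : Spec (CommRingCat.of k) ⟶ Spec (CommRingCat.of R) := Spec.map (CommRingCat.ofHom (algebraMap R k))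
  have hgc : g (IsLocalRing.closedPoint k) = c := by
    refine PrimeSpectrum.ext ?_
    show (IsLocalRing.maximalIdeal k).comap (Ideal.Quotient.mk _) = IsLocalRing.maximalIdeal R
    rw [IsLocalRing.maximalIdeal_eq_bot, ← RingHom.ker_eq_comap_bot, Ideal.mk_ker]
  obtain ⟨φ, hφ⟩ := Groth.Agent.GeomFib.exists_fac_residueField g c hgc
  have hφbij : Function.Bijective φ.hom := by
    refine ⟨φ.hom.injective, fun z => ?_⟩
    obtain ⟨r, rfl⟩ := Ideal.Quotient.mk_surjective z
    let j := Spec.preimage ((Spec (CommRingCat.of R)).fromSpecResidueField c)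
    have hj : CommRingCat.ofHom (algebraMap R k) = j ≫ φ := Spec.map_injective (by
      rw [Spec.map_comp, show Spec.map j = _ from Spec.map_preimage _, hφ])
    exact ⟨j.hom r, (congr($(hj).hom r)).symm⟩
  have : IsIso φ := (ConcreteCategory.isIso_iff_bijective φ).mpr hφbij
  have hred' : AlgebraicGeometry.IsReduced (pullback f g) := by
    let e : pullback f g ⟶ f.fiber c := pullback.map f g f ((Spec (CommRingCat.of R)).fromSpecResidueField c)
      (𝟙 _) (Spec.map φ) (𝟙 _) (by simp) (by rw [hφ, Category.comp_id])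
    have : IsIso (Spec.map φ) := inferInstance
    have : IsIso e := pullback.map_isIso _ _ _ _ _ _ _ _ _
    exact isReduced_of_isOpenImmersion e
  -- the affine statements
  have key : ∀ (U : X.Opens), IsAffineOpen U →
      (∀ x ∈ U, ∃ ζ, ζ ⤳ x ∧ f ζ = η) ∧ ∀ s : Set X, s ⊆ f ⁻¹' {η} →
        (∃ s' : Set X, IsOpen s' ∧ s = s' ∩ f ⁻¹' {η}) → (∃ s' : Set X, IsClosed s' ∧ s = s' ∩ f ⁻¹' {η}) →
        ∃ O : Set X, IsOpen O ∧ (O ∩ U : Set X) = closure s ∩ U := by
    intro U hU
    let ψ : CommRingCat.of R ⟶ Γ(X, U) := Spec.preimage (hU.fromSpec ≫ f)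
    have hψ : Spec.map ψ = hU.fromSpec ≫ f := Spec.map_preimage _
    letI : Algebra R Γ(X, U) := ψ.hom.toAlgebra
    have : Module.Flat R Γ(X, U) := (HasRingHomProperty.Spec_iff (P := @Flat)).mp
      (show Flat (Spec.map ψ) from hψ ▸ inferInstance)
    let tB := algebraMap R Γ(X, U) t
    have hreg : ∀ z, tB * z = 0 → z = 0 := fun z hz => by
      have h := Module.Flat.lTensor_preserves_injective_linearMap (M := Γ(X, U)) (LinearMap.lsmul R R t)
        (fun a b hab => mul_left_cancel₀ ht0 hab)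
      have h2 : (z ⊗ₜ[R] (1 : R)) = 0 := h (by
        rw [LinearMap.lTensor_tmul, map_zero, LinearMap.lsmul_apply, ← TensorProduct.smul_tmul,
          Algebra.smul_def, show algebraMap R Γ(X, U) t * z = 0 from hz, TensorProduct.zero_tmul])
      have h3 := congrArg (TensorProduct.rid R Γ(X, U)) h2
      rwa [TensorProduct.rid_tmul, one_smul, map_zero] at h3
    have hrad : (Ideal.span {tB}).IsRadical := by
      obtain ⟨j, hj, -⟩ := Groth.Agent.GoingDown.exists_chart (f := f) (g := g) (A := R) (B := Γ(X, U)) (D := k)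
        hU.fromSpec (𝟙 _) (𝟙 _) (by rw [Category.comp_id]; exact hψ.symm) (by rw [Category.id_comp, Category.comp_id])
      have := isReduced_of_isOpenImmersion j
      have hR : _root_.IsReduced (k ⊗[R] Γ(X, U)) := (affine_isReduced_iff (CommRingCat.of (k ⊗[R] Γ(X, U)))).mp this
      have hmap : (IsLocalRing.maximalIdeal R).map (algebraMap R Γ(X, U)) = Ideal.span {tB} := by
        rw [hmax, Ideal.map_span, Set.image_singleton]
      intro z ⟨n, hn⟩
      let π := Algebra.TensorProduct.includeRight (R := R) (A := k) (B := Γ(X, U))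
      have h0 : π (z ^ n) = 0 := by
        obtain ⟨w, hw⟩ := Ideal.mem_span_singleton'.mp hn
        rw [← hw, map_mul, show π tB = algebraMap R _ t from π.commutes t, IsScalarTower.algebraMap_apply R k (k ⊗[R] Γ(X, U)),
          show algebraMap R k t = 0 from Ideal.Quotient.eq_zero_iff_mem.mpr (hmax ▸ Ideal.mem_span_singleton_self t),
          map_zero, mul_zero]
      have h1 : π z = 0 := (IsNilpotent.eq_zero ⟨n, by rw [← map_pow]; exact h0⟩)
      let L : k ⊗[R] Γ(X, U) →ₐ[R] Γ(X, U) ⧸ (IsLocalRing.maximalIdeal R).map (algebraMap R Γ(X, U)) :=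
        Algebra.TensorProduct.lift (Ideal.Quotient.liftₐ _ (Algebra.ofId R _) (fun a ha =>
          Ideal.Quotient.eq_zero_iff_mem.mpr (Ideal.mem_map_of_mem _ ha)))
          (Ideal.Quotient.mkₐ R _) fun _ _ => Commute.all _ _
      have h2 : L ((1 : k) ⊗ₜ[R] z) = 0 := by rw [show ((1 : k) ⊗ₜ[R] z) = π z from rfl, h1, map_zero]
      rw [Algebra.TensorProduct.lift_tmul, map_one, one_mul] at h2
      rw [← hmap]
      exact Ideal.Quotient.eq_zero_iff_mem.mp h2
    have hover : ∀ q : PrimeSpectrum Γ(X, U), f (hU.fromSpec q) = η ↔ tB ∉ q.asIdeal := by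
      intro q
      rw [← Scheme.Hom.comp_apply, ← hψ]
      refine ⟨fun h h' => ht0 ?_, fun h => hgen _ h⟩
      have h1 : t ∈ q.asIdeal.comap (algebraMap R Γ(X, U)) := h'
      rwa [show q.asIdeal.comap (algebraMap R Γ(X, U)) = ⊥ from congrArg PrimeSpectrum.asIdeal h, Ideal.mem_bot] at h1
    have hdense : ∀ q : PrimeSpectrum Γ(X, U), ∃ q' : PrimeSpectrum Γ(X, U), q'.asIdeal ≤ q.asIdeal ∧ tB ∉ q'.asIdeal := by
      intro q
      obtain ⟨Q, hQ, hQq⟩ := Ideal.exists_minimalPrimes_le (I := (⊥ : Ideal Γ(X, U))) (J := q.asIdeal) bot_le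
      exact ⟨⟨Q, hQ.1.1⟩, hQq, fun h => Ideal.disjoint_nonZeroDivisors_of_mem_minimalPrimes hQ |>.notMem_of_mem_left h
        (mem_nonZeroDivisors_iff_right.mpr fun z hz => hreg z (by rw [mul_comm]; exact hz))⟩
    refine ⟨fun x hx => ?_, fun s hs ⟨sO, hsO, hsOeq⟩ ⟨sC, hsC, hsCeq⟩ => ?_⟩
    · obtain ⟨q', hle, hq'⟩ := hdense (hU.primeIdealOf ⟨x, hx⟩)
      have := ((PrimeSpectrum.le_iff_specializes _ _).mp hle).map hU.fromSpec.continuous
      rw [hU.fromSpec_primeIdealOf] at this
      exact ⟨_, this, (hover q').mpr hq'⟩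
    -- the clopen of the generic part extends
    let Bt := Localization.Away tB
    let ι : Spec (CommRingCat.of Bt) ⟶ X := Spec.map (CommRingCat.ofHom (algebraMap Γ(X, U) Bt)) ≫ hU.fromSpec
    have hιη : ∀ P : PrimeSpectrum Bt, f (ι P) = η := fun P => (hover _).mpr fun h =>
      P.2.ne_top (Ideal.eq_top_of_isUnit_mem _ h (IsLocalization.Away.algebraMap_isUnit tB))
    have hclop : IsClopen (ι ⁻¹' s : Set (PrimeSpectrum Bt)) := by
      refine ⟨?_, ?_⟩
      · show IsClosed (ι ⁻¹' s)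
        rw [show ι ⁻¹' s = ι ⁻¹' sC from Set.ext fun P => by
          rw [hsCeq]; exact ⟨fun h => h.1, fun h => ⟨h, hιη P⟩⟩]
        exact hsC.preimage ι.continuous
      · show IsOpen (ι ⁻¹' s)
        rw [show ι ⁻¹' s = ι ⁻¹' sO from Set.ext fun P => by
          rw [hsOeq]; exact ⟨fun h => h.1, fun h => ⟨h, hιη P⟩⟩]
        exact hsO.preimage ι.continuous
    obtain ⟨e, e', hee, hee1, hs'⟩ := PrimeSpectrum.isClopen_iff_mul_add.mp hclop
    have he : IsIdempotentElem e := (IsIdempotentElem.of_mul_add hee hee1).1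
    have hinj : Function.Injective (algebraMap Γ(X, U) Bt) := IsLocalization.injective Bt
      (Submonoid.powers_le.mpr (mem_nonZeroDivisors_iff_right.mpr fun z hz => hreg z (by rw [mul_comm]; exact hz)))
    have hdescend : ∀ n : ℕ, ∀ b : Γ(X, U), e * algebraMap Γ(X, U) Bt (tB ^ n) = algebraMap Γ(X, U) Bt b →
        ∃ b₀, algebraMap Γ(X, U) Bt b₀ = e := by
      intro n
      induction n with
      | zero => exact fun b hb => ⟨b, by rw [← hb, pow_zero, map_one, mul_one]⟩
      | succ n ih =>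
        intro b hb
        have h2 : b * b = tB ^ (n + 1) * b := hinj (by
          rw [map_mul, map_mul, ← hb]
          linear_combination (algebraMap Γ(X, U) Bt (tB ^ (n + 1))) ^ 2 * he.eq)
        obtain ⟨b', rfl⟩ := Ideal.mem_span_singleton'.mp (hrad ⟨2, by
          rw [sq, h2, pow_succ, mul_assoc, mul_comm tB b, ← mul_assoc]
          exact Ideal.mul_mem_left _ _ (Ideal.mem_span_singleton_self tB)⟩ : b ∈ Ideal.span {tB})
        refine ih b' ((IsLocalization.Away.algebraMap_isUnit tB (S := Bt)).mul_right_cancel ?_)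
        rw [← map_mul, ← hb, mul_assoc, ← map_mul, pow_succ]
    obtain ⟨n, b, hb⟩ := IsLocalization.Away.surj tB e
    rw [← map_pow] at hb
    obtain ⟨b₀, rfl⟩ := hdescend n b hb
    have hb₀ : IsIdempotentElem b₀ := hinj (by rw [map_mul]; exact he)
    let O : Set X := hU.fromSpec '' {q : PrimeSpectrum Γ(X, U) | b₀ ∉ q.asIdeal}
    refine ⟨O, hU.fromSpec.isOpenEmbedding.isOpenMap _ (PrimeSpectrum.basicOpen b₀).2, ?_⟩
    have hmem : ∀ q : PrimeSpectrum Γ(X, U), tB ∉ q.asIdeal → (hU.fromSpec q ∈ s ↔ b₀ ∉ q.asIdeal) := by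
      intro q hq
      obtain ⟨P, rfl⟩ : q ∈ Set.range (PrimeSpectrum.comap (algebraMap Γ(X, U) Bt)) := by
        rw [PrimeSpectrum.localization_away_comap_range Bt tB]; exact hq
      exact Set.ext_iff.mp hs' P
    ext z
    refine ⟨fun ⟨⟨q, hq, hqz⟩, hz⟩ => ⟨?_, hz⟩, fun ⟨hzs, hz⟩ => ⟨?_, hz⟩⟩
    · obtain ⟨q', hle, hq'⟩ := hdense q
      have h1 : hU.fromSpec q' ∈ s := (hmem q' hq').mpr fun h => hq (hle h)
      exact hqz ▸ (((PrimeSpectrum.le_iff_specializes q' q).mp hle).map hU.fromSpec.continuous).mem_closed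
        isClosed_closure (subset_closure h1)
    · obtain ⟨q, rfl⟩ : z ∈ Set.range hU.fromSpec := by rw [hU.range_fromSpec]; exact hz
      by_contra hzO
      have hbq : b₀ ∈ q.asIdeal := by_contra fun h => hzO ⟨q, h, rfl⟩
      have hq1 : 1 - b₀ ∉ q.asIdeal := fun h => q.2.ne_top ((Ideal.eq_top_iff_one _).mpr (by
        simpa using q.asIdeal.add_mem h hbq))
      obtain ⟨w, hw, hws⟩ := mem_closure_iff.mp hzs
        (hU.fromSpec '' {q : PrimeSpectrum Γ(X, U) | 1 - b₀ ∉ q.asIdeal})
        (hU.fromSpec.isOpenEmbedding.isOpenMap _ (PrimeSpectrum.basicOpen (1 - b₀)).2) ⟨q, hq1, rfl⟩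
      obtain ⟨q', hq', rfl⟩ := hw
      have hb1 := (hmem q' ((hover q').mp (hs hws))).mp hws
      exact hq' ((q'.2.mem_or_mem (show b₀ * (1 - b₀) ∈ q'.asIdeal by
        rw [mul_sub, mul_one, hb₀.eq, sub_self]; exact zero_mem _)).resolve_left hb1)
  -- globalise
  have hne : (f ⁻¹' {η}).Nonempty := by
    obtain ⟨x⟩ := (inferInstance : Nonempty X)
    obtain ⟨U, hU, hxU, -⟩ := exists_isAffineOpen_mem_and_subset (X := X) (U := ⊤) (x := x) trivial
    obtain ⟨ζ, -, hζ⟩ := (key U hU).1 x hxU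
    exact ⟨ζ, hζ⟩
  have hpre : _root_.IsPreconnected (f ⁻¹' {η}) := by
    rw [isPreconnected_iff_preconnectedSpace, preconnectedSpace_iff_clopen]
    intro T hT
    obtain ⟨sO, hsO, hOe⟩ := isOpen_induced_iff.mp hT.2
    obtain ⟨sC, hsC, hCe⟩ := isClosed_induced_iff.mp hT.1
    let s : Set X := Subtype.val '' T
    have hso : s = sO ∩ f ⁻¹' {η} := by
      show Subtype.val '' T = _
      rw [← hOe, Subtype.image_preimage_coe, Set.inter_comm]
    have hsc : s = sC ∩ f ⁻¹' {η} := by
      show Subtype.val '' T = _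
      rw [← hCe, Subtype.image_preimage_coe, Set.inter_comm]
    have hclop : IsClopen (closure s) := by
      refine ⟨isClosed_closure, isOpen_iff_forall_mem_open.mpr fun x hx => ?_⟩
      obtain ⟨U, hU, hxU, -⟩ := exists_isAffineOpen_mem_and_subset (X := X) (U := ⊤) (x := x) trivial
      obtain ⟨O, hO, hOU⟩ := (key U hU).2 s (by rw [hso]; exact Set.inter_subset_right) ⟨sO, hsO, hso⟩ ⟨sC, hsC, hsc⟩
      exact ⟨O ∩ U, fun z hz => (hOU.le hz).1, hO.inter U.2, hOU.ge ⟨hx, hxU⟩⟩
    have hs_closed : ∀ z, f z = η → z ∈ closure s → z ∈ s := fun z hz hzs =>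
      hsc ▸ ⟨hsC.closure_subset_iff.mpr (hsc ▸ Set.inter_subset_left) hzs, hz⟩
    rcases preconnectedSpace_iff_clopen.mp inferInstance _ hclop with h | h
    · refine .inl (Set.eq_empty_of_forall_notMem fun z hz => ?_)
      exact (h ▸ subset_closure ⟨z, hz, rfl⟩ : z.1 ∈ (∅ : Set X))
    · refine .inr (Set.eq_univ_of_forall fun z => ?_)
      obtain ⟨w, hw, hwz⟩ := hs_closed z.1 z.2 (h ▸ trivial)
      exact Subtype.ext hwz ▸ hw
  exact (f.fiberHomeo η).connectedSpace_iff.mpr (isConnected_iff_connectedSpace.mp ⟨hne, hpre⟩)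

end Groth.Agent.S0421
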