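import Groth.Statements.S0422
import Mathlib
import Groth.Agent.FibCrit.Nilp

set_option autoImplicit false
set_option linter.style.haveILetI false
universe u
open FlatMor

namespace Groth.Agent.S0422

open TensorProduct in
/-- Fibrewise criterion of flatness modulo a locally nilpotent ideal: let R → S be of finite type, S' an
S-algebra which is of finite presentation over R, I an ideal of R all of whose elements are
nilpotent, and M a finitely presented S'-module which is flat over R and such that M/IM is flat over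
S/IS. Then M is flat over S. (The published statement also asserts flatness over R of suitable
localizations of S; that part is not stated here.) -/
theorem result {R S S' M : Type u} [CommRing R] [CommRing S] [CommRing S'] [Algebra R S] [Algebra S S'] [Algebra R S'] [IsScalarTower R S S']
    [Algebra.FiniteType R S] [Algebra.FinitePresentation R S'] (I : Ideal R) (hI : ∀ a ∈ I, IsNilpotent a)
    [AddCommGroup M] [Module S' M] [Module S M] [Module R M] [IsScalarTower S S' M] [IsScalarTower R S M]
    [Module.FinitePresentation S' M] [Module.Flat R M]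
    (h : Module.Flat (S ⧸ I.map (algebraMap R S)) ((S ⧸ I.map (algebraMap R S)) ⊗[S] M)) : Module.Flat S M := by
  classical
  let 𝔞 := I.map (algebraMap R S)
  haveI : Module.Flat (S ⧸ 𝔞) ((S ⧸ 𝔞) ⊗[S] M) := h
  haveI : ∀ (P : Ideal S') [P.IsMaximal], IsLocalizedModule P.primeCompl
      (TensorProduct.mk S' (Localization.AtPrime P) M 1) := fun P _ =>
    (isLocalizedModule_iff_isBaseChange P.primeCompl (Localization.AtPrime P) _).mpr
      (TensorProduct.isBaseChange S' M (Localization.AtPrime P))
  refine Module.flat_of_isLocalized_maximal (R := S) (S := S') M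
    (fun P => Localization.AtPrime P ⊗[S'] M) (fun P => TensorProduct.mk S' (Localization.AtPrime P) M 1) fun q _ => ?_
  let Q' := Localization.AtPrime q
  let p := q.comap (algebraMap R S')
  let y := q.comap (algebraMap S S')
  let R' := Localization.AtPrime p
  let Sy := Localization.AtPrime y
  have hpy : p = y.comap (algebraMap R S) := by
    rw [Ideal.comap_comap, ← IsScalarTower.algebraMap_eq]
  letI : Algebra R' Sy := (Localization.localRingHom p y (algebraMap R S) hpy).toAlgebra
  letI : Algebra Sy Q' := (Localization.localRingHom y q (algebraMap S S') rfl).toAlgebra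
  letI : Algebra R' Q' := ((algebraMap Sy Q').comp (algebraMap R' Sy)).toAlgebra
  haveI : IsScalarTower R' Sy Q' := IsScalarTower.of_algebraMap_eq fun _ => rfl
  haveI : IsScalarTower R R' Sy := IsScalarTower.of_algebraMap_eq fun a => by
    rw [IsScalarTower.algebraMap_apply R S Sy]
    exact (Localization.localRingHom_to_map _ _ _ hpy a).symm
  haveI : IsScalarTower S Sy Q' := IsScalarTower.of_algebraMap_eq fun a => by
    rw [IsScalarTower.algebraMap_apply S S' Q']
    exact (Localization.localRingHom_to_map _ _ _ rfl a).symm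
  change Module.Flat S (Q' ⊗[S'] M)
  rcases subsingleton_or_nontrivial (Q' ⊗[S'] M) with hX | hX
  · infer_instance
  haveI : IsScalarTower R S' M := IsScalarTower.of_algebraMap_smul fun r m => by
    rw [IsScalarTower.algebraMap_apply R S S', algebraMap_smul, algebraMap_smul]
  haveI : Module.Flat S' Q' := IsLocalization.flat Q' q.primeCompl
  have hflat : Module.Flat R (Q' ⊗[S'] M) := FlatRes.flat_tensor
  let J := (IsLocalRing.maximalIdeal R').map (algebraMap R' Sy)
  have hJ : 𝔞 ≤ Ideal.comap (algebraMap S (Sy ⧸ J)) ⊥ := by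
    refine Ideal.map_le_iff_le_comap.2 fun a ha => ?_
    change algebraMap S (Sy ⧸ J) (algebraMap R S a) = 0
    rw [IsScalarTower.algebraMap_apply S Sy (Sy ⧸ J), ← IsScalarTower.algebraMap_apply R S Sy,
      IsScalarTower.algebraMap_apply R R' Sy]
    exact Ideal.Quotient.eq_zero_iff_mem.2 (Ideal.mem_map_of_mem _
      ((IsLocalRing.mem_maximalIdeal _).2 ((hI a ha).map (algebraMap R R')).not_isUnit))
  letI : Algebra (S ⧸ 𝔞) (Sy ⧸ J) :=
    (Ideal.Quotient.lift 𝔞 (algebraMap S (Sy ⧸ J)) fun a ha => by simpa using hJ ha).toAlgebra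
  haveI : IsScalarTower S (S ⧸ 𝔞) (Sy ⧸ J) :=
    IsScalarTower.of_algebraMap_eq (R := S) (S := S ⧸ 𝔞) (A := Sy ⧸ J) fun _ => rfl
  haveI : Module.Flat (S ⧸ 𝔞) ((S ⧸ 𝔞) ⊗[S] (Q' ⊗[S'] M)) := FibCrit.flat_baseChange_tensor
  haveI : Module.Flat (Sy ⧸ J) ((Sy ⧸ J) ⊗[S] (Q' ⊗[S'] M)) :=
    Module.Flat.of_linearEquiv
      (AlgebraTensorModule.cancelBaseChange S (S ⧸ 𝔞) (Sy ⧸ J) (Sy ⧸ J) (Q' ⊗[S'] M)).symm
  have hfib : Module.Flat (Sy ⧸ J) ((Sy ⧸ J) ⊗[Sy] (Q' ⊗[S'] M)) :=
    Module.Flat.of_linearEquiv
      (haveI := IsLocalization.tensorProduct_compatibleSMul y.primeCompl Sy (Sy ⧸ J) (Q' ⊗[S'] M)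
      TensorProduct.equivOfCompatibleSMul S Sy (Sy ⧸ J) (Sy ⧸ J) (Q' ⊗[S'] M))
  haveI := (FibCrit.ft_fibre (R := R) (S := S) (Q := S') (R' := R') (S' := Sy) (Q' := Q') (M := M)
    q hflat hX hfib).1
  exact Module.Flat.trans S Sy (Q' ⊗[S'] M)

end Groth.Agent.S0422
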