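import Groth.Statements.S0423
import Mathlib

set_option autoImplicit false
universe u
open FlatMor TensorProduct

namespace Groth.Agent.S0423

open AlgebraicGeometry CategoryTheory Limits in
/-- A weakly étale morphism of schemes (flat with flat diagonal) is formally unramified. -/
theorem result {X Y : Scheme.{u}} (f : X ⟶ Y) [WeaklyEtale f] : FormallyUnramified f := by
  change id _
  wlog hY : ∃ R, Y = Spec R generalizing X Y
  · rw [id_eq, IsZariskiLocalAtTarget.iff_of_openCover (P := @FormallyUnramified) Y.affineCover]
    exact fun i => this (pullback.snd _ _) ⟨_, rfl⟩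
  obtain ⟨R, rfl⟩ := hY
  wlog hX : ∃ S, X = Spec S generalizing X
  · rw [id_eq, IsZariskiLocalAtSource.iff_of_openCover (P := @FormallyUnramified) X.affineCover]
    exact fun i => this (X.affineCover.f i ≫ f) ⟨_, rfl⟩
  obtain ⟨S, rfl⟩ := hX
  obtain ⟨φ, rfl⟩ := Spec.map_surjective f
  rw [id_eq, HasRingHomProperty.Spec_iff (P := @FormallyUnramified)]
  algebraize [φ.hom]
  have hd : Flat (pullback.diagonal (Spec.map φ)) := inferInstance
  have hF : ((Algebra.TensorProduct.lmul' R (S := S)).toRingHom).Flat := by
    have h : Flat (Spec.map (CommRingCat.ofHom (Algebra.TensorProduct.lmul' R (S := S)).toRingHom)) := by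
      rwa [← MorphismProperty.cancel_right_of_respectsIso (P := @Flat) _
        (pullbackSpecIso R S S).inv, ← AlgebraicGeometry.diagonal_SpecMap R S]
    exact (HasRingHomProperty.Spec_iff (P := @Flat)).mp h
  let q := (Algebra.TensorProduct.lmul' R (S := S)).toRingHom
  have hq : Function.Surjective q := fun x => ⟨x ⊗ₜ 1, by simp [q]⟩
  have hI : (RingHom.ker q).Pure := by
    letI := q.toAlgebra
    haveI : Module.Flat (S ⊗[R] S) S := hF
    exact Module.Flat.of_linearEquiv
      ((Ideal.quotientKerAlgEquivOfSurjective (f := Algebra.ofId (S ⊗[R] S) S) hq).toLinearEquiv)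
  have hid : IsIdempotentElem (KaehlerDifferential.ideal R S) :=
    @Ideal.isIdempotentElem_of_pure _ _ (RingHom.ker q) hI
  show Algebra.FormallyUnramified R S
  constructor
  show Subsingleton (KaehlerDifferential.ideal R S).Cotangent
  exact (Ideal.cotangent_subsingleton_iff _).mpr hid

end Groth.Agent.S0423
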