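import Groth.Statements.S0429
import Groth.Agent.RG.FiniteType

set_option autoImplicit false
open Groth.Agent
universe u
open FlatMor

namespace Groth.Agent.S0429

open AlgebraicGeometry CategoryTheory Limits in
/-- A flat morphism locally of finite type to an integral scheme is locally of finite presentation. -/
theorem result {X S : Scheme.{u}} (f : X ⟶ S) [IsIntegral S] [Flat f] [LocallyOfFiniteType f] : LocallyOfFinitePresentation f := by
  refine ⟨fun {U} hU {V} hV e => ?_⟩
  by_cases hne : Nonempty U
  · haveI := hne
    haveI : IsDomain Γ(S, U) := IsIntegral.component_integral U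
    algebraize [(f.appLE U V e).hom]
    haveI : Algebra.FiniteType Γ(S, U) Γ(X, V) := f.finiteType_appLE hU hV e
    haveI : Module.Flat Γ(S, U) Γ(X, V) := f.flat_appLE hU hV e
    exact RG.algebra_finitePresentation_of_flat
  · have hU0 : U = ⊥ := by
      ext x
      exact ⟨fun hx => absurd ⟨⟨x, hx⟩⟩ hne, fun hx => hx.elim⟩
    have hV0 : V = ⊥ := eq_bot_iff.2 (e.trans (by rw [hU0]; simp))
    subst hU0
    subst hV0
    haveI : Subsingleton Γ(X, ⊥) := CommRingCat.subsingleton_of_isTerminal X.sheaf.isTerminalOfEmpty
    haveI : Subsingleton Γ(S, ⊥) := CommRingCat.subsingleton_of_isTerminal S.sheaf.isTerminalOfEmpty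
    exact RingHom.FinitePresentation.of_bijective ⟨fun _ _ _ => Subsingleton.elim _ _, fun x => ⟨0, Subsingleton.elim _ _⟩⟩

end Groth.Agent.S0429
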