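import Groth.Statements.S0433
import Groth.Agent.Pinch.Spec

set_option autoImplicit false
universe u
open FlatMor

open CategoryTheory Limits AlgebraicGeometry
namespace Groth.Agent.S0433

open AlgebraicGeometry CategoryTheory Limits in
/-- For a surjective ring map A' → A and any ring map B → A, the spectra of A, A', B and of the fibre
product ring B ×_A A' form a pushout square of schemes. -/
theorem result {A A' B : Type u} [CommRing A] [CommRing A'] [CommRing B] (p : A' →+* A) (hp : Function.Surjective p) (q : B →+* A) :
    IsPushout (Spec.map (CommRingCat.ofHom p)) (Spec.map (CommRingCat.ofHom q))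
      (Spec.map (pullback.snd (CommRingCat.ofHom q) (CommRingCat.ofHom p)))
      (Spec.map (pullback.fst (CommRingCat.ofHom q) (CommRingCat.ofHom p))) := by
  have h := (IsPullback.of_hasPullback (CommRingCat.ofHom q) (CommRingCat.ofHom p)).map (forget CommRingCat.{u})
  refine Groth.Agent.Pinch.isPushout_of_isPinch (Groth.Agent.Pinch.spec_isPinch
    (pullback.fst (CommRingCat.ofHom q) (CommRingCat.ofHom p)) (pullback.snd (CommRingCat.ofHom q) (CommRingCat.ofHom p))
    (CommRingCat.ofHom q) (CommRingCat.ofHom p) pullback.condition.symm hp
    (fun b a e => Types.exists_of_isPullback h b a e) fun r r' h1 h2 => Types.ext_of_isPullback h h1 h2)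

end Groth.Agent.S0433
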