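import Groth.Statements.S0434
import Groth.Agent.GeomRedSpread.Constructible

set_option autoImplicit false
universe u
open FlatMor

namespace Groth.Agent.S0434

open AlgebraicGeometry CategoryTheory Limits in
/-- For a morphism of finite type to an irreducible scheme whose generic fibre is geometrically reduced,
all fibres over some nonempty open of the target are geometrically reduced. -/
theorem result {X Y : Scheme.{u}} (f : X ⟶ Y) [IrreducibleSpace ↑Y] [LocallyOfFiniteType f] [QuasiCompact f]
    (h : GeometricallyReduced (f.fiberToSpecResidueField (genericPoint ↑Y))) :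
    ∃ V : Y.Opens, (V : Set ↑Y).Nonempty ∧ GeometricallyReduced (f ∣_ V) := by
  obtain ⟨O, hO, hiff⟩ := Groth.Agent.GeomRedSpread.exists_open_geometricallyReduced_iff f (genericPoint ↑Y)
  refine ⟨O, ⟨_, hO⟩, (Groth.Agent.GeomRedSpread.geometricallyReduced_iff_forall_fiber _).mpr fun y => ?_⟩
  rw [Groth.Agent.GeomRedSpread.fiber_baseChange_iff (isPullback_morphismRestrict f O).flip]
  exact (hiff _ y.2 (genericPoint_specializes _)).mpr h

end Groth.Agent.S0434
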