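import Groth.Statements.S0435
import Groth.Agent.GeomRedAt.Open

set_option autoImplicit false
universe u
open FlatMor

namespace Groth.Agent.S0435

open AlgebraicGeometry CategoryTheory Limits in
/-- For a flat proper morphism of finite presentation, the points of the target whose fibre is
geometrically reduced form an open subset. -/
theorem result {X Y : Scheme.{u}} (f : X ⟶ Y) [Flat f] [IsProper f] [LocallyOfFinitePresentation f] :
    IsOpen {y : ↑Y | GeometricallyReduced (f.fiberToSpecResidueField y)} := by
  have h : {y : ↑Y | GeometricallyReduced (f.fiberToSpecResidueField y)} = (f '' {x | GeomRedAt.GR f x}ᶜ)ᶜ := by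
    ext y
    rw [Set.mem_setOf_eq, GeomRedAt.geometricallyReduced_fiber_iff_forall]
    simp only [Set.mem_compl_iff, Set.mem_image, Set.mem_setOf_eq, not_exists, not_and]
    exact ⟨fun h x hx hxy ↦ hx (h x hxy), fun h x hxy ↦ Classical.byContradiction fun hx ↦ h x hx hxy⟩
  rw [h]
  exact (f.isClosedMap _ (GeomRedAt.isOpen_setOf_gr f).isClosed_compl).isOpen_compl

end Groth.Agent.S0435
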