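import Groth.Statements.S0436
import Mathlib
-- import your own Groth.Agent.* helpers here

set_option autoImplicit false
universe u
open FlatMor

namespace Groth.Agent.S0436
open AlgebraicGeometry CategoryTheory Limits
open scoped TensorProduct

theorem ring_part {R A : Type u} [CommRing R] [IsDomain R] [IsDiscreteValuationRing R] [CommRing A]
    [Algebra R A] [Module.Flat R A] [IsNoetherianRing A]
    (p : PrimeSpectrum R) (hp : p = IsLocalRing.closedPoint R)
    (hfib : _root_.IsReduced (p.asIdeal.Fiber A)) (Q : Ideal A) [Q.IsPrime]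
    (hQ : (IsLocalRing.maximalIdeal R).map (algebraMap R A) ≤ Q) :
    ∀ a : A, IsNilpotent a → ∃ c : A, c ∉ Q ∧ c * a = 0 := by
  obtain ⟨ϖ, hϖ⟩ := IsDiscreteValuationRing.exists_irreducible R
  have hm : IsLocalRing.maximalIdeal R = Ideal.span {ϖ} := hϖ.maximalIdeal_eq
  have hred : ∀ a : A, IsNilpotent a → a ∈ (IsLocalRing.maximalIdeal R).map (algebraMap R A) := by
    intro a ha
    have hmP : p.asIdeal = IsLocalRing.maximalIdeal R := by rw [hp]; rfl
    haveI : p.asIdeal.IsMaximal := hmP ▸ IsLocalRing.maximalIdeal.isMaximal R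
    let g : (R ⧸ p.asIdeal) ⊗[R] A →ₐ[R] p.asIdeal.Fiber A :=
      Algebra.TensorProduct.map (IsScalarTower.toAlgHom R (R ⧸ p.asIdeal) p.asIdeal.ResidueField) (AlgHom.id R A)
    have hinj : Function.Injective g := by
      have : Function.Bijective (IsScalarTower.toAlgHom R (R ⧸ p.asIdeal) p.asIdeal.ResidueField) :=
        Ideal.bijective_algebraMap_quotient_residueField p.asIdeal
      exact (Algebra.TensorProduct.congr (AlgEquiv.ofBijective _ this) AlgEquiv.refl).injective
    haveI : _root_.IsReduced ((R ⧸ p.asIdeal) ⊗[R] A) := isReduced_of_injective g hinj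
    let e := (Algebra.TensorProduct.quotIdealMapEquivTensorQuot A p.asIdeal).toRingEquiv.trans
      (Algebra.TensorProduct.comm R A (R ⧸ p.asIdeal)).toRingEquiv
    haveI : _root_.IsReduced (A ⧸ p.asIdeal.map (algebraMap R A)) := isReduced_of_injective e e.injective
    rw [← hmP]
    exact Ideal.Quotient.eq_zero_iff_mem.mp (IsReduced.eq_zero _ (ha.map (Ideal.Quotient.mk _)))
  have hreg : IsSMulRegular A ϖ := IsSMulRegular.of_right_eq_zero_of_smul fun y hy => by
    exact (smul_eq_zero_iff_right hϖ.ne_zero).mp hy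
  let N : Submodule A A := nilradical A
  have hN : N ≤ (IsLocalRing.maximalIdeal R).map (algebraMap R A) • N := by
    intro a ha
    have ha' : IsNilpotent a := mem_nilradical.mp ha
    have h1 := hred a ha'
    rw [hm, Ideal.map_span, Set.image_singleton, Ideal.mem_span_singleton'] at h1
    obtain ⟨b, hb⟩ := h1
    have hb' : IsNilpotent b := by
      obtain ⟨k, hk⟩ := ha'
      refine ⟨k, (hreg.pow k) ?_⟩
      show ϖ ^ k • b ^ k = ϖ ^ k • (0 : A)
      rw [smul_zero, ← smul_pow, Algebra.smul_def, mul_comm, hb, hk]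
    rw [← hb, mul_comm]
    exact Submodule.smul_mem_smul (Ideal.mem_map_of_mem _ (hm ▸ Ideal.mem_span_singleton_self ϖ))
      (show b ∈ N from mem_nilradical.mpr hb')
  obtain ⟨c, hc1, hc0⟩ := Submodule.exists_sub_one_mem_and_smul_eq_zero_of_fg_of_le_smul
    ((IsLocalRing.maximalIdeal R).map (algebraMap R A)) N (IsNoetherian.noetherian N) hN
  intro a ha
  refine ⟨c, fun hcQ => Ideal.IsPrime.ne_top ‹_› ?_, hc0 a (mem_nilradical.mpr ha)⟩
  rw [Ideal.eq_top_iff_one]
  simpa using sub_mem hcQ (hQ hc1)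

theorem isReduced_fiber_ring {R : Type u} [CommRing R] {X : Scheme.{u}}
    (f : X ⟶ Spec (CommRingCat.of R)) (U : X.Opens) (hU : IsAffineOpen U) (p : PrimeSpectrum R)
    (hred : AlgebraicGeometry.IsReduced (f.fiber p)) (φ : CommRingCat.of R ⟶ Γ(X, U))
    (hφ : hU.fromSpec ≫ f = Spec.map φ) :
    letI := φ.hom.toAlgebra
    _root_.IsReduced (p.asIdeal.Fiber Γ(X, U)) := by
  letI := φ.hom.toAlgebra
  let q : (Spec.map (CommRingCat.ofHom (algebraMap R Γ(X, U)))).fiber p ⟶ f.fiber p :=
    pullback.map _ _ _ _ hU.fromSpec (𝟙 _) (𝟙 _) (by rw [Category.comp_id]; exact hφ.symm) (by simp)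
  haveI : IsOpenImmersion q :=
    @Scheme.pullback_map_isOpenImmersion _ _ _ _ _ _ _ _ _ _ hU.fromSpec _ _ _ _ inferInstance inferInstance inferInstance
  haveI : AlgebraicGeometry.IsReduced ((Spec.map (CommRingCat.ofHom (algebraMap R Γ(X, U)))).fiber p) :=
    isReduced_of_isOpenImmersion q
  let e := Arrow.leftFunc.mapIso (Spec.fiberToSpecResidueFieldIso R Γ(X, U) p)
  haveI : AlgebraicGeometry.IsReduced (Spec (CommRingCat.of (p.asIdeal.Fiber Γ(X, U)))) :=
    isReduced_of_isOpenImmersion
      (show Spec (CommRingCat.of (p.asIdeal.Fiber Γ(X, U))) ⟶ (Spec.map (CommRingCat.ofHom (algebraMap R Γ(X, U)))).fiber p from e.inv)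
  exact isReduced_of_injective (Scheme.ΓSpecIso (CommRingCat.of (p.asIdeal.Fiber Γ(X, U)))).inv.hom
    (ConcreteCategory.bijective_of_isIso (Scheme.ΓSpecIso (CommRingCat.of (p.asIdeal.Fiber Γ(X, U)))).inv).1

end Groth.Agent.S0436

namespace Groth.Agent.S0436

open AlgebraicGeometry CategoryTheory Limits in
/-- For a proper flat morphism to the spectrum of a discrete valuation ring whose special fibre is
reduced, both the total space and the generic fibre are reduced. (The published statement is
stronger: instead of flatness it only needs every irreducible component of the total space to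
dominate the base.) -/
theorem result {R : Type u} [CommRing R] [IsDomain R] [IsDiscreteValuationRing R] {X : Scheme.{u}}
    (f : X ⟶ Spec (CommRingCat.of R)) [IsProper f] [Flat f]
    (hred : IsReduced (f.fiber (IsLocalRing.closedPoint R))) :
    IsReduced X ∧ IsReduced (f.fiber (⟨⊥, Ideal.isPrime_bot⟩ : PrimeSpectrum R)) := by
  classical
  haveI : IsLocallyNoetherian X := LocallyOfFiniteType.isLocallyNoetherian f
  have hX : AlgebraicGeometry.IsReduced X := by
    haveI : ∀ x : X, _root_.IsReduced (X.presheaf.stalk x) := by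
      intro x
      haveI : CompactSpace X := QuasiCompact.compactSpace_of_compactSpace f
      obtain ⟨y, hy, hyc⟩ := IsClosed.exists_closed_singleton (isClosed_closure (s := ({x} : Set X))) ⟨x, subset_closure rfl⟩
      have hfy : f y = IsLocalRing.closedPoint R := by
        have h1 := f.isClosedMap _ hyc
        rw [Set.image_singleton] at h1
        exact PrimeSpectrum.ext (IsLocalRing.eq_maximalIdeal ((PrimeSpectrum.isClosed_singleton_iff_isMaximal _).mp h1))
      obtain ⟨U, hU, hyU, -⟩ := exists_isAffineOpen_mem_and_subset (U := (⊤ : X.Opens)) (x := y) trivial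
      have hxy : x ⤳ y := specializes_iff_mem_closure.mpr hy
      have hxU : x ∈ U := hxy.mem_open U.2 hyU
      obtain ⟨φ, hφ⟩ := Spec.map_surjective (hU.fromSpec ≫ f)
      letI := φ.hom.toAlgebra
      haveI : Module.Flat R Γ(X, U) := by
        have : Flat (Spec.map φ) := hφ ▸ inferInstance
        rw [HasRingHomProperty.Spec_iff (P := @Flat)] at this
        exact this
      haveI : IsNoetherianRing Γ(X, U) := IsLocallyNoetherian.component_noetherian ⟨U, hU⟩
      have hfib := isReduced_fiber_ring f U hU (IsLocalRing.closedPoint R) hred φ hφ.symm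
      let P := hU.primeIdealOf ⟨x, hxU⟩
      let Q := hU.primeIdealOf ⟨y, hyU⟩
      have hPy : hU.fromSpec Q = y := hU.fromSpec_primeIdealOf _
      have hPx : hU.fromSpec P = x := hU.fromSpec_primeIdealOf _
      have hQ : (IsLocalRing.maximalIdeal R).map (algebraMap R Γ(X, U)) ≤ Q.asIdeal := by
        rw [Ideal.map_le_iff_le_comap]
        have h1 : f (hU.fromSpec Q) = Spec.map φ Q := by rw [← Scheme.Hom.comp_apply, hφ]
        rw [hPy, hfy] at h1
        exact (congrArg PrimeSpectrum.asIdeal h1).le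
      have hPQ : P.asIdeal ≤ Q.asIdeal := by
        refine (PrimeSpectrum.le_iff_specializes _ _).mpr (hU.fromSpec.isOpenEmbedding.isInducing.specializes_iff.mp ?_)
        rwa [hPx, hPy]
      letI := X.presheaf.algebra_section_stalk ⟨x, hxU⟩
      haveI := hU.isLocalization_stalk ⟨x, hxU⟩
      refine ⟨fun z hz => ?_⟩
      obtain ⟨a, s, rfl⟩ := IsLocalization.exists_mk'_eq P.asIdeal.primeCompl z
      obtain ⟨k, hk⟩ := hz
      rw [← IsLocalization.mk'_pow, IsLocalization.mk'_eq_zero_iff] at hk
      obtain ⟨t, ht⟩ := hk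
      have hta : IsNilpotent ((t : Γ(X, U)) * a) := ⟨k + 1, by
        rw [mul_pow, pow_succ, pow_succ, show (t : Γ(X, U)) ^ k * t * (a ^ k * a) = t ^ k * a * ((t : Γ(X, U)) * a ^ k) by ring, ht, mul_zero]⟩
      obtain ⟨c, hcQ, hc⟩ := ring_part (IsLocalRing.closedPoint R) rfl hfib Q.asIdeal hQ _ hta
      rw [IsLocalization.mk'_eq_zero_iff]
      exact ⟨⟨c * t, fun h => (P.2.mem_or_mem h).elim (fun h' => hcQ (hPQ h')) t.2⟩, by rw [mul_assoc]; exact hc⟩
    exact isReduced_of_isReduced_stalk X
  refine ⟨hX, ?_⟩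
  let b : ↥(Spec (CommRingCat.of R)) := ⟨⊥, Ideal.isPrime_bot⟩
  obtain ⟨ϖ, hϖ⟩ := IsDiscreteValuationRing.exists_irreducible R
  let K := (⊥ : Ideal R).ResidueField
  have hinj : Function.Injective (algebraMap R K) := by
    rw [injective_iff_map_eq_zero]
    intro a ha
    exact Ideal.mem_bot.mp (Ideal.algebraMap_residueField_eq_zero.mp ha)
  haveI : IsLocalization.Away ϖ K := by
    refine { map_units := ?_, surj := ?_, exists_of_eq := fun h => ⟨1, by simpa using hinj h⟩ }
    · rintro ⟨_, n, rfl⟩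
      exact (IsUnit.mk0 _ fun h => pow_ne_zero n hϖ.ne_zero (hinj (h.trans (map_zero _).symm)))
    · intro z
      obtain ⟨a, c, hc, rfl⟩ := IsFractionRing.div_surjective (A := R ⧸ (⊥ : Ideal R)) z
      obtain ⟨a, rfl⟩ := Ideal.Quotient.mk_surjective a
      obtain ⟨c, rfl⟩ := Ideal.Quotient.mk_surjective c
      have hc0 : c ≠ 0 := fun h => nonZeroDivisors.ne_zero hc (by rw [h, map_zero])
      obtain ⟨n, u, rfl⟩ := IsDiscreteValuationRing.eq_unit_mul_pow_irreducible hc0 hϖ
      refine ⟨⟨(↑u⁻¹ : R) * a, ⟨ϖ ^ n, n, rfl⟩⟩, ?_⟩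
      show algebraMap R K a / algebraMap R K (↑u * ϖ ^ n) * algebraMap R K (ϖ ^ n) = algebraMap R K ((↑u⁻¹ : R) * a)
      have hu : algebraMap R K ((↑u⁻¹ : R)) * algebraMap R K (u : R) = 1 := by rw [← map_mul, Units.inv_mul, map_one]
      have hn : algebraMap R K (ϖ ^ n) ≠ 0 := fun h => pow_ne_zero n hϖ.ne_zero (hinj (h.trans (map_zero _).symm))
      have hu0 : algebraMap R K (u : R) ≠ 0 := fun h => by rw [h, mul_zero] at hu; exact zero_ne_one hu
      rw [map_mul, map_mul]
      rw [div_mul_eq_mul_div, div_eq_iff (mul_ne_zero hu0 hn)]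
      linear_combination (algebraMap R K a * algebraMap R K (ϖ ^ n)) * hu.symm
  haveI : IsOpenImmersion (Spec.map (CommRingCat.ofHom (algebraMap R K))) := IsOpenImmersion.of_isLocalization ϖ
  haveI : IsOpenImmersion ((Spec (CommRingCat.of R)).fromSpecResidueField b) := by
    rw [← Scheme.Spec.map_residueFieldIso_inv_eq_fromSpecResidueField]
    exact IsOpenImmersion.comp _ (Spec.map (CommRingCat.ofHom (algebraMap R K)))
  haveI : IsOpenImmersion (f.fiberι b) := MorphismProperty.pullback_fst (P := @IsOpenImmersion) _ _ inferInstance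
  exact isReduced_of_isOpenImmersion (f.fiberι b)

end Groth.Agent.S0436
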