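import Groth.Statements.S0439
import Mathlib

set_option autoImplicit false
universe u
open FlatMor

namespace Groth.Agent.S0439

open Topology

theorem isNowhereDense_union {α : Type*} [TopologicalSpace α] {s t : Set α}
    (hs : IsNowhereDense s) (ht : IsNowhereDense t) : IsNowhereDense (s ∪ t) := by
  rw [IsNowhereDense, closure_union, interior_union_isClosed_of_interior_empty isClosed_closure ht]
  exact hs

theorem isNowhereDense_biUnion {α : Type*} [TopologicalSpace α] {ι : Type*} {s : Set ι}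
    (hs : s.Finite) {t : ι → Set α} (h : ∀ i ∈ s, IsNowhereDense (t i)) :
    IsNowhereDense (⋃ i ∈ s, t i) := by
  induction s, hs using Set.Finite.induction_on with
  | empty => simp
  | @insert a s _ _ ih =>
    rw [Set.biUnion_insert]
    exact isNowhereDense_union (h a (Set.mem_insert a s)) (ih fun i hi => h i (Set.mem_insert_of_mem a hi))

/-- The finite case: a finite morphism of affine schemes. -/
theorem finite_case {A B : Type u} [CommRing A] [CommRing B] [Algebra A B] [Module.Finite A B]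
    {T : Set (PrimeSpectrum B)} (hT : IsClosed T) (hT' : IsNowhereDense T) :
    IsNowhereDense (PrimeSpectrum.comap (algebraMap A B) '' T) := by
  classical
  have himg : IsClosed (PrimeSpectrum.comap (algebraMap A B) '' T) :=
    PrimeSpectrum.isClosedMap_comap_of_isIntegral _ (algebraMap_isIntegral_iff.mpr inferInstance) T hT
  rw [himg.isNowhereDense_iff]
  by_contra hne
  obtain ⟨p₀, hp₀⟩ := Set.nonempty_iff_ne_empty.mpr hne
  obtain ⟨_, ⟨a, rfl⟩, hap, haU⟩ :=
    PrimeSpectrum.isTopologicalBasis_basic_opens.exists_subset_of_mem_open hp₀ isOpen_interior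
  have hsub : ∀ p : PrimeSpectrum A, a ∉ p.asIdeal → p ∈ PrimeSpectrum.comap (algebraMap A B) '' T :=
    fun p hp => interior_subset (haU hp)
  let I : Ideal B := PrimeSpectrum.vanishingIdeal T
  have hTI : T = PrimeSpectrum.zeroLocus (I : Set B) := by
    rw [PrimeSpectrum.zeroLocus_vanishingIdeal_eq_closure, hT.closure_eq]
  let P : Finset B → A → Prop := fun e c => ∀ x : B, ∃ (k : ℕ) (u : B → A),
    algebraMap A B c ^ k * x - ∑ i ∈ e, algebraMap A B (u i) * i ∈ I
  have hex : ∃ n : ℕ, ∃ c : A, a ∣ c ∧ ¬ IsNilpotent c ∧ ∃ e : Finset B, e.card = n ∧ P e c := by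
    obtain ⟨w, hw⟩ := (Module.Finite.fg_top : (⊤ : Submodule A B).FG)
    refine ⟨w.card, a, dvd_rfl, fun h => hap ?_, w, rfl, fun x => ?_⟩
    · exact nilradical_le_prime p₀.asIdeal h
    · obtain ⟨u, hu⟩ := Submodule.mem_span_finset.mp (hw.ge (Submodule.mem_top (x := x)))
      refine ⟨0, u, ?_⟩
      rw [pow_zero, one_mul, ← hu.2]
      simp [Algebra.smul_def]
  obtain ⟨c, hac, hc, e, he, hP⟩ := Nat.find_spec hex
  have hind : ∀ u : B → A, ∑ i ∈ e, algebraMap A B (u i) * i ∈ I →
      ∀ i ∈ e, IsNilpotent (c * u i) := by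
    intro u hu i hi
    by_contra hn
    refine Nat.find_min hex (m := (e.erase i).card) (he ▸ Finset.card_erase_lt_of_mem hi)
      ⟨c * u i, dvd_mul_of_dvd_left hac _, hn, _, rfl, fun x => ?_⟩
    obtain ⟨k, v, hv⟩ := hP x
    refine ⟨k + 1, fun j => c * u i ^ (k + 1) * v j - c * (u i ^ k * v i) * u j, ?_⟩
    have key : algebraMap A B (c * u i) ^ (k + 1) * x -
        ∑ j ∈ e.erase i, algebraMap A B (c * u i ^ (k + 1) * v j - c * (u i ^ k * v i) * u j) * j =
        algebraMap A B (c * u i ^ (k + 1)) * (algebraMap A B c ^ k * x - ∑ j ∈ e, algebraMap A B (v j) * j)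
        + algebraMap A B (c * (u i ^ k * v i)) * ∑ j ∈ e, algebraMap A B (u j) * j := by
      rw [← Finset.add_sum_erase e _ hi, ← Finset.add_sum_erase e _ hi]
      simp only [mul_add, mul_sub, Finset.mul_sum, sub_mul, Finset.sum_sub_distrib, map_sub, map_mul,
        map_pow, mul_pow, mul_assoc]
      ring
    rw [key]
    exact I.add_mem (I.mul_mem_left _ hv) (I.mul_mem_left _ hu)
  obtain ⟨w, hw⟩ := (Module.Finite.fg_top : (⊤ : Submodule A B).FG)
  choose k r hj using fun x : B => hP x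
  obtain ⟨N, hN⟩ : ∃ N, ∀ l ∈ w, k l ≤ N := ⟨w.sup k, fun l hl => Finset.le_sup hl⟩
  let J : Ideal B := Ideal.span ↑(w.image fun l => algebraMap A B c ^ N * l -
    ∑ i ∈ e, algebraMap A B (c ^ (N - k l) * r l i) * i)
  have hJmem : ∀ l ∈ w, algebraMap A B c ^ N * l -
      ∑ i ∈ e, algebraMap A B (c ^ (N - k l) * r l i) * i ∈ J := fun l hl =>
    Ideal.subset_span (Finset.mem_image_of_mem _ hl)
  have hJI : J ≤ I := by
    refine Ideal.span_le.mpr ?_
    intro y hy
    obtain ⟨l, hl, rfl⟩ := Finset.mem_image.mp hy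
    have := I.mul_mem_left (algebraMap A B c ^ (N - k l)) (hj l)
    rw [mul_sub, ← mul_assoc, ← pow_add, Nat.sub_add_cancel (hN l hl), Finset.mul_sum] at this
    simpa [mul_assoc] using this
  have hIJ : ∀ x ∈ I, algebraMap A B c ^ (N + 1) * x ∈ J.radical := by
    intro x hx
    obtain ⟨s, hs⟩ := Submodule.mem_span_finset.mp (hw.ge (Submodule.mem_top (x := x)))
    let u : B → A := fun i => ∑ l ∈ w, s l * (c ^ (N - k l) * r l i)
    have h1 : algebraMap A B c ^ N * x - ∑ i ∈ e, algebraMap A B (u i) * i ∈ J := by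
      have : algebraMap A B c ^ N * x - ∑ i ∈ e, algebraMap A B (u i) * i =
          ∑ l ∈ w, algebraMap A B (s l) * (algebraMap A B c ^ N * l -
            ∑ i ∈ e, algebraMap A B (c ^ (N - k l) * r l i) * i) := by
        rw [← hs.2]
        simp only [u, map_sum, Finset.sum_mul, mul_sub, Finset.sum_sub_distrib, Finset.mul_sum,
          Algebra.smul_def, map_mul]
        rw [Finset.sum_comm]
        congr 1
        · exact Finset.sum_congr rfl fun l _ => by ring
        · exact Finset.sum_congr rfl fun l _ => Finset.sum_congr rfl fun i _ => by ring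
      rw [this]
      exact J.sum_mem fun l hl => J.mul_mem_left _ (hJmem l hl)
    have h2 : ∑ i ∈ e, algebraMap A B (u i) * i ∈ I := by
      have := I.sub_mem (I.mul_mem_left (algebraMap A B c ^ N) hx) (hJI h1)
      simpa using this
    have h3 : algebraMap A B c * ∑ i ∈ e, algebraMap A B (u i) * i ∈ J.radical := by
      rw [Finset.mul_sum]
      refine Ideal.sum_mem _ fun i hi => ?_
      rw [← mul_assoc, ← map_mul]
      refine Ideal.mul_mem_right _ _ ?_
      obtain ⟨m, hm⟩ := hind u h2 i hi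
      exact ⟨m, by rw [← map_pow, hm, map_zero]; exact J.zero_mem⟩
    have h4 := J.radical.add_mem (J.radical.mul_mem_left (algebraMap A B c) (J.le_radical h1)) h3
    convert h4 using 1
    ring
  obtain ⟨q, hq, hcq⟩ : ∃ q ∈ minimalPrimes A, c ∉ q := by
    by_contra! hall
    refine hc (show c ∈ nilradical A from ?_)
    rw [nilradical_eq_sInf]
    refine Submodule.mem_sInf.mpr fun Q hQ => ?_
    haveI : Ideal.IsPrime Q := hQ
    obtain ⟨q, hq, hle⟩ := Ideal.exists_minimalPrimes_le (show (⊥ : Ideal A) ≤ Q from bot_le)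
    exact hle (hall q hq)
  obtain ⟨t, htT, ht⟩ := hsub ⟨q, hq.1.1⟩ fun haq => hcq (q.mem_of_dvd hac haq)
  have htq : t.asIdeal.comap (algebraMap A B) = q := congrArg PrimeSpectrum.asIdeal ht
  have htmin : t.asIdeal ∈ minimalPrimes B := by
    refine ⟨⟨t.2, bot_le⟩, fun Q hQ hle => ?_⟩
    haveI := hQ.1
    by_contra hnle
    have hlt := Ideal.IsIntegral.comap_lt_comap (R := A) (lt_of_le_not_ge hle hnle)
    rw [htq] at hlt
    exact hlt.not_ge (hq.2 ⟨inferInstance, bot_le⟩ hlt.le)
  have hJt : J ≤ t.asIdeal := hJI.trans fun x hx => (PrimeSpectrum.mem_vanishingIdeal _ _).mp hx t htT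
  have hnil : ∀ x ∈ J, ∃ b : B, b ∉ t.asIdeal ∧ IsNilpotent (b * x) := by
    intro x hx
    let L := Localization.AtPrime t.asIdeal
    have hxn : IsNilpotent (algebraMap B L x) := by
      refine nilpotent_iff_mem_prime.mpr fun Q hQ => ?_
      have hle : Q.comap (algebraMap B L) ≤ t.asIdeal :=
        (Ideal.comap_mono (IsLocalRing.le_maximalIdeal hQ.ne_top)).trans
          (Localization.AtPrime.under_maximalIdeal (I := t.asIdeal)).le
      exact htmin.2 ⟨hQ.comap _, bot_le⟩ hle (hJt hx)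
    obtain ⟨m, hm⟩ := hxn
    rw [← map_pow, IsLocalization.map_eq_zero_iff t.asIdeal.primeCompl L] at hm
    obtain ⟨⟨b, hb⟩, hbx⟩ := hm
    refine ⟨b, hb, m + 1, ?_⟩
    calc (b * x) ^ (m + 1) = (b ^ m * x) * (b * x ^ m) := by ring
    _ = 0 := by rw [show b * x ^ m = 0 from hbx, mul_zero]
  choose! β hβ1 hβ2 using hnil
  obtain ⟨G, hG⟩ : ∃ G : Finset B, Ideal.span ↑G = J := ⟨_, rfl⟩
  let b := algebraMap A B c * ∏ x ∈ G, β x
  have hb : b ∉ t.asIdeal := by
    intro hbt
    rcases t.2.mem_or_mem hbt with h | h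
    · exact hcq (htq ▸ h)
    · obtain ⟨x, hx, hxt⟩ := (Ideal.IsPrime.prod_mem_iff (hp := t.2)).mp h
      exact hβ1 x (hG ▸ Ideal.subset_span hx) hxt
  have hop : (PrimeSpectrum.basicOpen b : Set (PrimeSpectrum B)) ⊆ T := by
    intro Q hQ
    have hQJ : J ≤ Q.asIdeal := by
      rw [← hG, Ideal.span_le]
      intro x hx
      obtain ⟨m, hm⟩ := hβ2 x (hG ▸ Ideal.subset_span hx)
      refine (Q.2.mem_or_mem (Q.2.mem_of_pow_mem m (hm ▸ Q.asIdeal.zero_mem))).resolve_left fun hβQ => hQ ?_
      exact Q.asIdeal.mul_mem_left _ ((Ideal.IsPrime.prod_mem_iff (hp := Q.2)).mpr ⟨x, hx, hβQ⟩)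
    rw [hTI, PrimeSpectrum.mem_zeroLocus]
    intro x hx
    have h := (Q.2.radical_le_iff.mpr hQJ) (hIJ x hx)
    refine (Q.2.mem_or_mem h).resolve_left fun hcQ => hQ ?_
    exact Q.asIdeal.mul_mem_right _ (Q.2.mem_of_pow_mem _ hcQ)
  have hint : interior T = ∅ := (hT.isNowhereDense_iff).mp hT'
  have : t ∈ interior T := interior_maximal hop (PrimeSpectrum.basicOpen b).2 hb
  rw [hint] at this
  exact this

/-- The affine case. -/
theorem affine_case {A B : Type u} [CommRing A] [CommRing B] [Algebra A B] [Algebra.FiniteType A B]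
    [Algebra.QuasiFinite A B] {T : Set (PrimeSpectrum B)} (hT : IsClosed T) (hT' : IsNowhereDense T) :
    IsNowhereDense (PrimeSpectrum.comap (algebraMap A B) '' T) := by
  classical
  choose S' hS' r hr hbij using fun q : PrimeSpectrum B =>
    Algebra.QuasiFiniteAt.exists_fg_and_exists_notMem_and_awayMap_bijective (R := A) q.asIdeal
  obtain ⟨s, hs⟩ := (isCompact_univ (X := PrimeSpectrum B)).elim_finite_subcover
    (fun q => (PrimeSpectrum.basicOpen (r q).1 : Set (PrimeSpectrum B)))
    (fun q => (PrimeSpectrum.basicOpen (r q).1).2) (fun q _ => Set.mem_iUnion.mpr ⟨q, hr q⟩)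
  refine IsNowhereDense.mono (t := PrimeSpectrum.comap (algebraMap A B) '' T) (s :=
    ⋃ q ∈ (↑s : Set (PrimeSpectrum B)), PrimeSpectrum.comap (algebraMap A B) ''
      (T ∩ PrimeSpectrum.basicOpen (r q).1)) ?_ (isNowhereDense_biUnion s.finite_toSet fun q _ => ?_)
  · rintro _ ⟨z, hz, rfl⟩
    obtain ⟨q, hq, hzq⟩ := Set.mem_iUnion₂.mp (hs (Set.mem_univ z))
    exact Set.mem_biUnion hq ⟨z, ⟨hz, hzq⟩, rfl⟩
  haveI : Module.Finite A (S' q) := ⟨(Submodule.fg_top _).mpr (hS' q)⟩
  let j := PrimeSpectrum.comap (algebraMap B (Localization.Away (r q).1))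
  have hj := PrimeSpectrum.localization_away_isOpenEmbedding (Localization.Away (r q).1) (r q).1
  let e := PrimeSpectrum.comapEquiv (RingEquiv.ofBijective _ (hbij q))
  let j' := PrimeSpectrum.comap (algebraMap (S' q) (Localization.Away (r q)))
  have hj' := PrimeSpectrum.localization_away_isOpenEmbedding (Localization.Away (r q)) (r q)
  have hT1 : IsNowhereDense (j ⁻¹' T) := by
    rw [(hT.preimage hj.continuous).isNowhereDense_iff,
      ← hj.isOpenMap.preimage_interior_eq_interior_preimage hj.continuous, hT.isNowhereDense_iff.mp hT',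
      Set.preimage_empty]
  have hhe : Topology.IsOpenEmbedding (PrimeSpectrum.comap
      (Localization.awayMap (S' q).val.toRingHom (r q))) :=
    (PrimeSpectrum.homeomorphOfRingEquiv (RingEquiv.ofBijective _ (hbij q))).symm.isOpenEmbedding
  let g := fun z => j' (PrimeSpectrum.comap (Localization.awayMap (S' q).val.toRingHom (r q)) z)
  have hg : Topology.IsInducing g := hj'.isInducing.comp hhe.isInducing
  have hT2 : IsNowhereDense (closure (g '' (j ⁻¹' T))) := (hg.isNowhereDense_image hT1).closure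
  refine IsNowhereDense.mono ?_ (finite_case (A := A) isClosed_closure hT2)
  rintro _ ⟨z, ⟨hzT, hzr⟩, rfl⟩
  obtain ⟨z', rfl⟩ : z ∈ Set.range j :=
    (PrimeSpectrum.localization_away_comap_range (Localization.Away (r q).1) (r q).1).ge hzr
  refine ⟨g z', subset_closure ⟨z', hzT, rfl⟩, ?_⟩
  simp only [g, j, j', ← PrimeSpectrum.comap_comp_apply]
  congr 1
  refine RingHom.ext fun x => ?_
  simp only [RingHom.comp_apply, Localization.awayMap, IsLocalization.Away.map]
  exact IsLocalization.map_eq _ (algebraMap A (S' q) x)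

open AlgebraicGeometry CategoryTheory Limits in
/-- A quasi-finite morphism (locally of finite type, quasi-compact, with discrete fibres) maps closed
nowhere dense subsets to nowhere dense subsets. -/
theorem result {Y X : Scheme.{u}} (f : Y ⟶ X) [LocallyQuasiFinite f] [LocallyOfFiniteType f] [QuasiCompact f]
    (T : Set ↑Y) (hT : IsClosed T) (hT' : IsNowhereDense T) : IsNowhereDense (f '' T) := by
  rw [IsNowhereDense]
  by_contra hne
  obtain ⟨x, hx⟩ := Set.nonempty_iff_ne_empty.mpr hne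
  obtain ⟨U, hU, hxU, hUi⟩ := exists_isAffineOpen_mem_and_subset
    (U := ⟨interior (closure (f '' T)), isOpen_interior⟩) hx
  obtain ⟨Vs, hVs, hVf, hVc⟩ := Y.isBasis_affineOpens.exists_finite_of_isCompact
    (U := f ⁻¹ᵁ U) (f.isCompact_preimage hU.isCompact)
  have hnd : IsNowhereDense ((f '' T) ∩ U) := by
    refine IsNowhereDense.mono (s := ⋃ W ∈ Vs, f '' (T ∩ (W : Set Y))) ?_ ?_
    · rintro _ ⟨⟨z, hz, rfl⟩, hzU⟩
      have : z ∈ (f ⁻¹ᵁ U : Set Y) := hzU
      rw [hVc, TopologicalSpace.Opens.coe_sSup] at this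
      obtain ⟨W, hW, hzW⟩ := Set.mem_iUnion₂.mp this
      exact Set.mem_biUnion hW ⟨z, ⟨hz, hzW⟩, rfl⟩
    refine isNowhereDense_biUnion hVf fun W hWV => ?_
    have hW : IsAffineOpen W := hVs hWV
    have hWU : W ≤ f ⁻¹ᵁ U := hVc ▸ le_sSup hWV
    let φ := f.appLE U W hWU
    have hft : φ.hom.FiniteType := HasRingHomProperty.appLE @LocallyOfFiniteType f inferInstance ⟨U, hU⟩ ⟨W, hW⟩ hWU
    have hqf : φ.hom.QuasiFinite := HasRingHomProperty.appLE @LocallyQuasiFinite f inferInstance ⟨U, hU⟩ ⟨W, hW⟩ hWU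
    algebraize [φ.hom]
    have hT1 : IsNowhereDense (hW.fromSpec ⁻¹' T) := by
      rw [(hT.preimage hW.fromSpec.continuous).isNowhereDense_iff,
        ← hW.fromSpec.isOpenEmbedding.isOpenMap.preimage_interior_eq_interior_preimage
          hW.fromSpec.continuous, hT.isNowhereDense_iff.mp hT', Set.preimage_empty]
    have h := hU.fromSpec.isOpenEmbedding.isInducing.isNowhereDense_image
      (affine_case (A := Γ(X, U)) (B := Γ(Y, W)) (T := hW.fromSpec ⁻¹' T)
        (hT.preimage hW.fromSpec.continuous) hT1)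
    refine IsNowhereDense.mono ?_ h
    rintro _ ⟨z, ⟨hzT, hzW⟩, rfl⟩
    obtain ⟨z', rfl⟩ : z ∈ Set.range hW.fromSpec := hW.range_fromSpec.ge hzW
    refine ⟨_, ⟨z', hzT, rfl⟩, ?_⟩
    have := congrArg (fun k : Spec Γ(Y, W) ⟶ X => k z') (IsAffineOpen.SpecMap_appLE_fromSpec f hU hW hWU)
    exact (Scheme.Hom.comp_apply _ _ _).symm.trans (this.trans (Scheme.Hom.comp_apply _ _ _))
  have hxc : x ∈ interior (closure ((f '' T) ∩ U)) := by
    refine interior_maximal ?_ U.2 hxU
    intro y hy
    have := interior_subset (hUi hy)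
    exact closure_mono (Set.inter_comm _ _).le (U.2.inter_closure ⟨hy, this⟩)
  rw [hnd] at hxc
  exact hxc

end Groth.Agent.S0439
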