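import Groth.Statements.S0443
import Mathlib

set_option autoImplicit false
universe u
open FlatMor

namespace Groth.Agent.S0443

open AlgebraicGeometry CategoryTheory in
theorem finite_middle {A B C D : CommRingCat.{u}} (a : A ⟶ B) (b : B ⟶ C) (c : C ⟶ D) [IsIso a]
    [IsIso c] (h : ((a ≫ b) ≫ c).hom.Finite) : b.hom.Finite := by
  rw [CommRingCat.hom_comp, RingHom.finite_respectsIso.cancel_right_isIso, CommRingCat.hom_comp,
    RingHom.finite_respectsIso.cancel_left_isIso] at h
  exact h

open AlgebraicGeometry CategoryTheory Limits in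
/-- For a finite morphism π : X → Y and a point x of X that is the only point of its fibre, the induced
homomorphism of local rings O_{Y,π(x)} → O_{X,x} is finite. (The published lemma has further parts,
not stated here.) -/
theorem result {X Y : Scheme.{u}} (π : X ⟶ Y) [IsFinite π] (x : X) (hx : ∀ x' : ↑X, π x' = π x → x' = x) :
    (π.stalkMap x).hom.Finite := by
  wlog hY : IsAffine Y generalizing X Y π
  · obtain ⟨U, hU, hxU, -⟩ := exists_isAffineOpen_mem_and_subset (U := ⊤) (TopologicalSpace.Opens.mem_top (π x))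
    have h : ((π ∣_ U).stalkMap ⟨x, hxU⟩).hom.Finite :=
      this (π ∣_ U) ⟨x, hxU⟩ (fun x' hx' => Subtype.ext (hx x'.1
        ((morphismRestrict_base_coe π U x').symm.trans
          ((congrArg Subtype.val hx').trans (morphismRestrict_base_coe π U ⟨x, hxU⟩))))) hU
    exact (RingHom.finite_respectsIso.arrow_mk_iso_iff (morphismRestrictStalkMap π U ⟨x, hxU⟩)).mp h
  haveI : IsAffine X := isAffine_of_isAffineHom π
  wlog hXY : ∃ R S, Y = Spec R ∧ X = Spec S generalizing X Y π
  · have h : ((X.isoSpec.inv ≫ π ≫ Y.isoSpec.hom).stalkMap (X.isoSpec.hom x)).hom.Finite := by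
      refine this (X.isoSpec.inv ≫ π ≫ Y.isoSpec.hom) (X.isoSpec.hom x) (fun x' hx' => ?_) inferInstance inferInstance
        ⟨Γ(Y, ⊤), Γ(X, ⊤), rfl, rfl⟩
      simp only [Scheme.Hom.comp_apply] at hx'
      have h1 := hx _ ((Y.isoSpec.hom.homeomorph.injective hx').trans (congrArg π (by simp)))
      rw [← h1]; simp
    rw [Scheme.Hom.stalkMap_comp, Scheme.Hom.stalkMap_comp] at h
    replace h := finite_middle (Y.isoSpec.hom.stalkMap _) (π.stalkMap _) (X.isoSpec.inv.stalkMap _) h
    have heq : (X.isoSpec.inv (X.isoSpec.hom x)) = x := by simp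
    rwa [RingHom.finite_respectsIso.arrow_mk_iso_iff (π.arrowStalkMapIsoOfEq heq)] at h
  obtain ⟨R, S, rfl, rfl⟩ := hXY
  obtain ⟨φ, rfl⟩ := Spec.map_surjective π
  rw [RingHom.finite_respectsIso.arrow_mk_iso_iff (Scheme.arrowStalkMapSpecIso φ _)]
  have hfin : φ.hom.Finite := (IsFinite.SpecMap_iff φ).mp inferInstance
  algebraize [φ.hom]
  let q : Ideal S := x.asIdeal
  let p : Ideal R := q.comap (algebraMap R S)
  let N := Algebra.algebraMapSubmonoid S p.primeCompl
  have hdvd : ∀ s ∈ q.primeCompl, ∃ m ∈ N, s ∣ m := by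
    intro s hs
    by_contra! hc
    have hle : (Ideal.span {s}).comap (algebraMap R S) ≤ p := fun r hr => by
      by_contra hrp
      exact hc _ ⟨r, hrp, rfl⟩ (Ideal.mem_span_singleton.mp hr)
    obtain ⟨Q, hsQ, hQ, hQp⟩ := Ideal.exists_ideal_over_prime_of_isIntegral p (Ideal.span {s}) hle
    have := hx ⟨Q, hQ⟩ (PrimeSpectrum.ext hQp)
    exact hs (show s ∈ x.asIdeal from congrArg PrimeSpectrum.asIdeal this ▸ hsQ (Ideal.mem_span_singleton_self s))
  have hNle : N ≤ q.primeCompl := by
    rintro _ ⟨r, hr, rfl⟩
    exact hr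
  haveI : IsLocalization q.primeCompl (Localization N) := IsLocalization.of_le_of_exists_dvd N _ hNle hdvd
  haveI : IsLocalization N (Localization.AtPrime q) := IsLocalization.isLocalization_of_algEquiv N
    (IsLocalization.algEquiv q.primeCompl (Localization N) (Localization.AtPrime q))
  letI : Algebra (Localization.AtPrime p) (Localization.AtPrime q) :=
    (Localization.localRingHom p q (algebraMap R S) rfl).toAlgebra
  haveI : IsScalarTower R (Localization.AtPrime p) (Localization.AtPrime q) :=
    IsScalarTower.of_algebraMap_eq fun r => by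
      rw [RingHom.algebraMap_toAlgebra, Localization.localRingHom_to_map]
      exact IsScalarTower.algebraMap_apply R S (Localization.AtPrime q) r
  haveI : IsLocalizedModule p.primeCompl (IsScalarTower.toAlgHom R S (Localization.AtPrime q)).toLinearMap :=
    isLocalizedModule_iff_isLocalization.mpr inferInstance
  show Module.Finite (Localization.AtPrime p) (Localization.AtPrime q)
  exact Module.Finite.of_isLocalizedModule p.primeCompl (IsScalarTower.toAlgHom R S (Localization.AtPrime q)).toLinearMap

end Groth.Agent.S0443
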