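import Groth.Statements.S0444
import Groth.Agent.Unibranch.ValuationBase

set_option autoImplicit false
set_option linter.style.haveILetI false
set_option backward.isDefEq.respectTransparency false
open Groth.Agent CategoryTheory CategoryTheory.Limits AlgebraicGeometry TensorProduct
universe u
open FlatMor

namespace Groth.Agent.S0444

open TensorProduct in
/-- Let R be a valuation ring with residue field κ and fraction field K, and S a domain of finite type
over R with R → S injective. If the special fibre κ ⊗_R S is nonzero, then its Krull dimension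
equals the Krull dimension of the generic fibre K ⊗_R S. (The published statement also asserts that
the special fibre is equidimensional; that is not stated here.) -/
theorem result {R S : Type u} [CommRing R] [IsDomain R] [ValuationRing R] [CommRing S] [IsDomain S] [Algebra R S]
    (hinj : Function.Injective (algebraMap R S)) [Algebra.FiniteType R S]
    [Nontrivial (IsLocalRing.ResidueField R ⊗[R] S)] :
    ringKrullDim (IsLocalRing.ResidueField R ⊗[R] S) = ringKrullDim (FractionRing R ⊗[R] S) := by
  classical
  let f : Spec (CommRingCat.of S) ⟶ Spec (CommRingCat.of R) := Spec.map (CommRingCat.ofHom (algebraMap R S))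
  haveI : IsDomain (CommRingCat.of R) := inferInstanceAs (IsDomain R)
  haveI : ValuationRing (CommRingCat.of R) := inferInstanceAs (ValuationRing R)
  haveI : LocallyOfFiniteType f := by
    rw [HasRingHomProperty.Spec_iff (P := @LocallyOfFiniteType)]
    exact RingHom.finiteType_algebraMap.mpr inferInstance
  -- the fibres
  have hdim : ∀ p : PrimeSpectrum R, topologicalKrullDim ↥(f.fiber p) = ringKrullDim (p.asIdeal.ResidueField ⊗[R] S) := fun p => by
    have e := Arrow.leftFunc.mapIso (Spec.fiberToSpecResidueFieldIso R S p)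
    rw [← PrimeSpectrum.topologicalKrullDim_eq_ringKrullDim]
    exact IsHomeomorph.topologicalKrullDim_eq _ e.hom.homeomorph.isHomeomorph
  have hch : ∀ (p : PrimeSpectrum R) (k : ℕ), (k : WithBot ℕ∞) ≤ topologicalKrullDim ↥(f.fiber p) ↔
      Unibranch.HasChain f Set.univ p k := fun p k =>
    Unibranch.natCast_le_topologicalKrullDim_iff f (f.fiberι p).isEmbedding
      (by rw [Scheme.Hom.range_fiberι, Set.univ_inter])
  have hK : ∀ (p : PrimeSpectrum R) (K : Type u) [Field K] [Algebra R K] (_ : RingHom.ker (algebraMap R K) = p.asIdeal)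
      (_ : ∀ z : K, ∃ a b : R, algebraMap R K b ≠ 0 ∧ z * algebraMap R K b = algebraMap R K a),
      ringKrullDim (K ⊗[R] S) = ringKrullDim (p.asIdeal.ResidueField ⊗[R] S) := fun p K _ _ hker hsurj => by
    let L := Ideal.ResidueField.liftₐ p.asIdeal (Algebra.ofId R K) hker.ge fun b hb => IsUnit.mk0 _ fun h =>
      hb (hker.le (RingHom.mem_ker.2 h))
    have hL : Function.Bijective L := ⟨RingHom.injective L.toRingHom, fun z => by
      obtain ⟨a, b, hb, hz⟩ := hsurj z
      refine ⟨algebraMap R _ a / algebraMap R _ b, ?_⟩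
      rw [map_div₀, AlgHom.commutes, AlgHom.commutes, ← hz, mul_div_assoc, div_self hb, mul_one]⟩
    exact ringKrullDim_eq_of_ringEquiv
      (Algebra.TensorProduct.congr (AlgEquiv.ofBijective L hL).symm AlgEquiv.refl).toRingEquiv
  let m : PrimeSpectrum R := IsLocalRing.closedPoint R
  let η : PrimeSpectrum R := ⟨⊥, Ideal.isPrime_bot⟩
  rw [hK m (IsLocalRing.ResidueField R) IsLocalRing.ker_residue (fun z => by
      obtain ⟨a, rfl⟩ := IsLocalRing.residue_surjective z
      exact ⟨a, 1, by simp, by simp⟩),
    hK η (FractionRing R) ((RingHom.injective_iff_ker_eq_bot _).1 (IsFractionRing.injective R _)) (fun z => by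
      obtain ⟨a, b, hb, rfl⟩ := IsFractionRing.div_surjective (A := R) z
      have hb' : algebraMap R (FractionRing R) b ≠ 0 :=
        IsFractionRing.to_map_ne_zero_of_mem_nonZeroDivisors hb
      exact ⟨a, b, hb', div_mul_cancel₀ _ hb'⟩),
    ← hdim, ← hdim]
  -- the generic point and a point of the special fibre
  have hηgen : genericPoint ↥(Spec (CommRingCat.of R)) = η :=
    genericPoint_eq_bot_of_affine (CommRingCat.of R)
  let ζ : ↥(Spec (CommRingCat.of S)) := (⟨⊥, Ideal.isPrime_bot⟩ : PrimeSpectrum S)
  have hζ : ∀ y : ↥(Spec (CommRingCat.of S)), ζ ⤳ y := fun y => (PrimeSpectrum.le_iff_specializes _ _).1 bot_le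
  have hfζ : f ζ = η := PrimeSpectrum.ext ((RingHom.ker_eq_comap_bot (algebraMap R S)).symm.trans
    ((RingHom.injective_iff_ker_eq_bot _).1 hinj))
  have hnt : Nontrivial (m.asIdeal.ResidueField ⊗[R] S) := by
    have h := hK m (IsLocalRing.ResidueField R) IsLocalRing.ker_residue (fun z => by
      obtain ⟨a, rfl⟩ := IsLocalRing.residue_surjective z
      exact ⟨a, 1, by simp, by simp⟩)
    by_contra hc
    rw [not_nontrivial_iff_subsingleton] at hc
    have h2 : ringKrullDim (m.asIdeal.ResidueField ⊗[R] S) = ⊥ := ringKrullDim_eq_bot_of_subsingleton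
    exact absurd ((ringKrullDim_nonneg_of_nontrivial).trans_eq (h.trans h2)) (by simp)
  obtain ⟨x, hx⟩ := (PrimeSpectrum.nontrivial_iff_mem_rangeComap m).1 hnt
  refine le_antisymm (Unibranch.le_of_forall_natCast_le fun k hk => ?_) (Unibranch.le_of_forall_natCast_le fun k hk => ?_)
  · rw [hch] at hk ⊢
    obtain ⟨c, hc, hcc⟩ := hk
    have hsp : ∀ i, c 0 ⤳ c i := fun i => by
      induction i using Fin.induction with
      | zero => exact specializes_rfl
      | succ i ih => exact ih.trans (hcc i).1
    rw [← hηgen]
    exact Unibranch.hasChain_of_specializes_generic f (ζ := ζ) (hζ (c 0)) (hfζ.trans hηgen.symm)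
      ⟨c, fun i => ⟨specializes_iff_mem_closure.1 (hsp i), (hc i).2.trans (hc 0).2.symm⟩, hcc⟩
  · by_contra hlt
    rw [hch] at hk hlt
    rcases k with _ | k
    · exact hlt ⟨fun _ => x, fun _ => ⟨trivial, hx⟩, fun i => i.elim0⟩
    have hfx : f x = m := hx
    have hle : Unibranch.ChainsLE f ((⊤ : (Spec (CommRingCat.of S)).Opens) ∩ closure {ζ}) (f x) k := fun j c hc hcc => by
      by_contra hj
      exact hlt (Unibranch.HasChain.anti ⟨c, fun i => ⟨trivial, (hc i).2.trans hfx⟩, hcc⟩ (by omega))
    obtain ⟨c, hc, hcc⟩ := hk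
    have := Unibranch.chainsLE_of_specializes f (hζ x) (U := ⊤) trivial hle (k + 1) c
      (fun i => ⟨specializes_iff_mem_closure.1 (hζ _), (hc i).2.trans hfζ.symm⟩) hcc
    omega

end Groth.Agent.S0444
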