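import Groth.Statements.S1202
import Groth.Agent.RG.Loc.Models

set_option autoImplicit false
open Groth.Agent
universe u
open FlatMor

namespace Groth.Agent.S1202

open TensorProduct in
/-- Ring form, X = Spec S and S = Spec R affine: let S be a finitely presented R-algebra, N a finitely
presented S-module and q a prime of S over p such that N_q is flat over R. Then there are an étale
R-algebra R' with a prime p' over p having the same residue field, an étale S-algebra S' with a
prime q' over q having the same residue field, and a compatible R'-algebra structure on S' with q'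
over p', such that S' ⊗_S N is a projective R'-module. -/
theorem result {R S : Type u} [CommRing R] [CommRing S] [Algebra R S] [Algebra.FinitePresentation R S]
    (N : Type u) [AddCommGroup N] [Module S N] [Module R N] [IsScalarTower R S N] [Module.FinitePresentation S N]
    (p : Ideal R) [p.IsPrime] (q : Ideal S) [q.IsPrime] [q.LiesOver p] (hflat : FlatCA.FlatAt R q N) :
    ∃ (R' S' : Type u) (_ : CommRing R') (_ : CommRing S') (_ : Algebra R R') (_ : Algebra S S') (_ : Algebra R' S')
      (_ : Algebra R S') (_ : IsScalarTower R R' S') (_ : IsScalarTower R S S')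
      (p' : Ideal R') (q' : Ideal S') (_ : p'.IsPrime) (_ : q'.IsPrime),
      FlatCA.IsEtaleNhd R R' p p' ∧ FlatCA.IsEtaleNhd S S' q q' ∧ q'.LiesOver p' ∧
      Module.Projective R' (RestrictScalars R' S' (S' ⊗[S] N)) := by
  classical
  have hq : q.comap (algebraMap R S) = p := (q.over_def p).symm
  obtain ⟨R', _, _, p', _, hn, h, q₀, hq₀, hq₀p, hq₀q, hh, hproj⟩ :=
    RG.Loc.projPiece_of_flat p q hq N hflat
  haveI := hq₀
  obtain ⟨q', _, hn', hq'p⟩ := RG.Loc.isEtaleNhd_open hn hq h q₀ hq₀p hq₀q hh
  letI : Algebra S (R' ⊗[R] S) := Algebra.TensorProduct.rightAlgebra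
  let C := Localization.Away h
  haveI : IsScalarTower R S C := IsScalarTower.of_algebraMap_eq fun r => by
    rw [IsScalarTower.algebraMap_apply S (R' ⊗[R] S) C, IsScalarTower.algebraMap_apply R (R' ⊗[R] S) C]
    congr 1
    change algebraMap R R' r ⊗ₜ[R] (1 : S) = (1 : R') ⊗ₜ[R] algebraMap R S r
    rw [Algebra.algebraMap_eq_smul_one, Algebra.algebraMap_eq_smul_one (A := S), smul_tmul]
  haveI := hproj
  exact ⟨R', C, inferInstance, inferInstance, inferInstance, inferInstance, inferInstance, inferInstance,
    inferInstance, inferInstance, p', q', inferInstance, inferInstance, hn, hn', ⟨hq'p.symm⟩,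
    RG.Loc.projective_restrictScalars hproj⟩

end Groth.Agent.S1202
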