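import Groth.Statements.S0446
import Groth.Agent.S1202
import Groth.Agent.EtaPt.UnivHomeo

set_option autoImplicit false
open Groth.Agent
open scoped TensorProduct
universe u
open FlatMor

namespace Groth.Agent.S0446

open AlgebraicGeometry CategoryTheory Limits in
/-- For a morphism locally of finite presentation which is flat at a point x, there are affine étale
neighbourhoods (X', x') of (X, x) and (S', s') of (S, f x) with trivial residue field extensions and
a compatible morphism X' → S' such that the ring of global sections of X' is a projective module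
over that of S'. -/
theorem result {X S : Scheme.{u}} (f : X ⟶ S) [LocallyOfFinitePresentation f] (x : X) (hx : (f.stalkMap x).hom.Flat) :
    ∃ (X' S' : Scheme.{u}) (g : X' ⟶ X) (e : S' ⟶ S) (f' : X' ⟶ S') (x' : X'),
      IsAffine X' ∧ IsAffine S' ∧ Etale g ∧ Etale e ∧ g ≫ f = f' ≫ e ∧ g x' = x ∧ e (f' x') = f x ∧
      Function.Surjective (g.residueFieldMap x') ∧ Function.Surjective (e.residueFieldMap (f' x')) ∧
      @Module.Projective Γ(S', ⊤) _ Γ(X', ⊤) _ (f'.appTop).hom.toAlgebra.toModule := by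
  obtain ⟨V, hV, hxV, -⟩ := exists_isAffineOpen_mem_and_subset (U := (⊤ : S.Opens)) (x := f x) trivial
  obtain ⟨U, hU, hxU, e₀⟩ := exists_isAffineOpen_mem_and_subset (U := f ⁻¹ᵁ V) (x := x) hxV
  have e : U ≤ f ⁻¹ᵁ V := e₀
  letI := (f.appLE V U e).hom.toAlgebra
  haveI : Algebra.FinitePresentation Γ(S, V) Γ(X, U) :=
    HasRingHomProperty.appLE @LocallyOfFinitePresentation f inferInstance ⟨V, hV⟩ ⟨U, hU⟩ e
  let qp := hU.primeIdealOf ⟨x, hxU⟩
  let pp := hV.primeIdealOf ⟨f x, e hxU⟩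
  letI a1 : Algebra Γ(S, V) (S.presheaf.stalk (f x)) := S.presheaf.algebra_section_stalk ⟨f x, e hxU⟩
  haveI := hV.isLocalization_stalk ⟨f x, e hxU⟩
  letI a2 : Algebra Γ(X, U) (X.presheaf.stalk x) := X.presheaf.algebra_section_stalk ⟨x, hxU⟩
  haveI := hU.isLocalization_stalk ⟨x, hxU⟩
  letI a3 : Algebra (S.presheaf.stalk (f x)) (X.presheaf.stalk x) := (f.stalkMap x).hom.toAlgebra
  letI a4 : Algebra Γ(S, V) (X.presheaf.stalk x) :=
    ((algebraMap Γ(X, U) (X.presheaf.stalk x)).comp (algebraMap Γ(S, V) Γ(X, U))).toAlgebra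
  haveI : IsScalarTower Γ(S, V) Γ(X, U) (X.presheaf.stalk x) := IsScalarTower.of_algebraMap_eq fun _ => rfl
  haveI : IsScalarTower Γ(S, V) (S.presheaf.stalk (f x)) (X.presheaf.stalk x) := by
    refine IsScalarTower.of_algebraMap_eq fun r => ?_
    change (X.presheaf.germ U x hxU).hom ((f.appLE V U e).hom r) =
      (f.stalkMap x).hom ((S.presheaf.germ V (f x) (e hxU)).hom r)
    rw [← CommRingCat.comp_apply, ← CommRingCat.comp_apply]
    congr 2
    rw [Scheme.Hom.appLE]
    simp [Scheme.Hom.germ_stalkMap, TopCat.Presheaf.germ_res]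
  haveI : IsLocalizedModule qp.asIdeal.primeCompl (Algebra.linearMap Γ(X, U) (X.presheaf.stalk x)) :=
    (isLocalizedModule_iff_isLocalization' _ _).2 inferInstance
  let ee := (IsLocalizedModule.iso qp.asIdeal.primeCompl
      (Algebra.linearMap Γ(X, U) (X.presheaf.stalk x))).restrictScalars Γ(S, V)
  have hflat : FlatCA.FlatAt Γ(S, V) qp.asIdeal Γ(X, U) := by
    rw [FlatCA.FlatAt, Module.Flat.equiv_iff ee]
    exact (Module.flat_iff_of_isLocalization (R := Γ(S, V)) (S := S.presheaf.stalk (f x)) (M := X.presheaf.stalk x)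
      pp.asIdeal.primeCompl).1 hx
  have hfq : pp.asIdeal = qp.asIdeal.comap (algebraMap Γ(S, V) Γ(X, U)) := by
    have h1 : Spec.map (f.appLE V U e) qp = pp := by
      refine hV.fromSpec.isOpenEmbedding.injective ?_
      rw [← Scheme.Hom.comp_apply, IsAffineOpen.SpecMap_appLE_fromSpec f hV hU e, Scheme.Hom.comp_apply,
        hU.fromSpec_primeIdealOf, hV.fromSpec_primeIdealOf]
    exact (congrArg PrimeSpectrum.asIdeal h1).symm
  haveI : qp.asIdeal.LiesOver pp.asIdeal := ⟨hfq⟩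
  obtain ⟨R', C, _, _, _, _, _, _, _, _, p', q', _, _, hn, hn', hqp', hproj⟩ :=
    Groth.Agent.S1202.result Γ(X, U) pp.asIdeal qp.asIdeal hflat
  have key : ∀ {Y : Scheme.{u}} {W : Y.Opens} (hW : IsAffineOpen W) (B : Type u) [CommRing B] [Algebra Γ(Y, W) B]
      (y : W) (b : Ideal B) [b.IsPrime], FlatCA.IsEtaleNhd Γ(Y, W) B (hW.primeIdealOf y).asIdeal b →
      let g := Spec.map (CommRingCat.ofHom (algebraMap Γ(Y, W) B)) ≫ hW.fromSpec
      Etale g ∧ g ⟨b, ‹_›⟩ = y.1 ∧ Function.Surjective (g.residueFieldMap ⟨b, ‹_›⟩) := by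
    intro Y W hW B _ _ y b _ hb
    haveI := hb.1
    haveI : Etale (Spec.map (CommRingCat.ofHom (algebraMap Γ(Y, W) B))) :=
      (HasRingHomProperty.Spec_iff (P := @Etale)).2 (RingHom.etale_algebraMap.2 inferInstance)
    have hpt : PrimeSpectrum.comap (algebraMap Γ(Y, W) B) ⟨b, ‹_›⟩ = hW.primeIdealOf y :=
      PrimeSpectrum.ext (RG.Loc.comap_of_isEtaleNhd hb)
    refine ⟨inferInstance, ?_, ?_⟩
    · rw [Scheme.Hom.comp_apply]
      change hW.fromSpec (PrimeSpectrum.comap (algebraMap Γ(Y, W) B) ⟨b, ‹_›⟩) = _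
      rw [hpt, hW.fromSpec_primeIdealOf]
    · haveI : IsIso ((Spec.map (CommRingCat.ofHom (algebraMap Γ(Y, W) B))).residueFieldMap ⟨b, ‹_›⟩) :=
        (EtaPtLib.bijective_residueField_map_iff (algebraMap Γ(Y, W) B) ⟨b, ‹_›⟩).2 (by
          obtain ⟨-, hl, hbij⟩ := hb
          exact (show ∀ (P : PrimeSpectrum Γ(Y, W)) (h : P.asIdeal = b.comap (algebraMap Γ(Y, W) B)),
              hW.primeIdealOf y = P → Function.Bijective (Ideal.ResidueField.map P.asIdeal b (algebraMap Γ(Y, W) B) h) from by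
            rintro _ h rfl; exact hbij) _ rfl hpt.symm)
      rw [Scheme.residueFieldMap_comp]
      intro z
      let r₂ := (Spec.map (CommRingCat.ofHom (algebraMap Γ(Y, W) B))).residueFieldMap ⟨b, ‹_›⟩
      let r₁ := hW.fromSpec.residueFieldMap (Spec.map (CommRingCat.ofHom (algebraMap Γ(Y, W) B)) ⟨b, ‹_›⟩)
      obtain ⟨a, ha⟩ := (ConcreteCategory.bijective_of_isIso r₂).2 z
      obtain ⟨c, hc⟩ := (ConcreteCategory.bijective_of_isIso r₁).2 a
      exact ⟨c, (congrArg r₂ hc).trans ha⟩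
  obtain ⟨hg₁, hg₂, hg₃⟩ := key hU C ⟨x, hxU⟩ q' hn'
  obtain ⟨he₁, he₂, he₃⟩ := key hV R' ⟨f x, e hxU⟩ p' hn
  let ψ : CommRingCat.of R' ⟶ CommRingCat.of C := CommRingCat.ofHom (algebraMap R' C)
  have hpt : Spec.map ψ ⟨q', ‹_›⟩ = ⟨p', ‹_›⟩ := PrimeSpectrum.ext hqp'.over.symm
  refine ⟨Spec (CommRingCat.of C), Spec (CommRingCat.of R'), _, _, Spec.map ψ, ⟨q', ‹_›⟩, inferInstance, inferInstance,
    hg₁, he₁, ?_, hg₂, by rw [hpt]; exact he₂, hg₃, by rw [hpt]; exact he₃, ?_⟩
  · rw [Category.assoc, ← IsAffineOpen.SpecMap_appLE_fromSpec f hV hU e, ← Spec.map_comp_assoc, ← Spec.map_comp_assoc]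
    congr 2
    exact CommRingCat.hom_ext ((IsScalarTower.algebraMap_eq Γ(S, V) Γ(X, U) C).symm.trans
      (IsScalarTower.algebraMap_eq Γ(S, V) R' C))
  · letI := (Spec.map ψ).appTop.hom.toAlgebra
    haveI := hproj
    let σ : R' ≃+* Γ(Spec (CommRingCat.of R'), ⊤) := (Scheme.ΓSpecIso (CommRingCat.of R')).symm.commRingCatIsoToRingEquiv
    let τ : C ≃+* Γ(Spec (CommRingCat.of C), ⊤) := (Scheme.ΓSpecIso (CommRingCat.of C)).symm.commRingCatIsoToRingEquiv
    have hστ : ∀ r, τ (algebraMap R' C r) = (Spec.map ψ).appTop.hom (σ r) := fun r =>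
      CategoryTheory.congr_fun (Scheme.ΓSpecIso_inv_naturality ψ) r
    let b : RestrictScalars R' C (C ⊗[Γ(X, U)] Γ(X, U)) →+ C :=
      ((TensorProduct.rid Γ(X, U) C).toAddEquiv.toAddMonoidHom).comp (RestrictScalars.addEquiv R' C _).toAddMonoidHom
    haveI hC : Module.Projective R' C := Module.Projective.of_equiv (show RestrictScalars R' C (C ⊗[Γ(X, U)] Γ(X, U)) ≃ₗ[R'] C from
      { (RestrictScalars.addEquiv R' C _).trans (TensorProduct.rid Γ(X, U) C).toAddEquiv with
        map_smul' := fun r z => by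
          change TensorProduct.rid Γ(X, U) C (RestrictScalars.addEquiv R' C _ (r • z)) = r • _
          rw [RestrictScalars.addEquiv_map_smul]
          exact (LinearEquiv.map_smul (TensorProduct.AlgebraTensorModule.rid Γ(X, U) C C) _ _).trans (algebraMap_smul C r _) })
    haveI : RingHomInvPair (σ : R' →+* Γ(Spec (CommRingCat.of R'), ⊤)) σ.symm := RingHomInvPair.of_ringEquiv σ
    haveI : RingHomInvPair (σ.symm : Γ(Spec (CommRingCat.of R'), ⊤) →+* R') σ := RingHomInvPair.of_ringEquiv σ.symm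
    exact Module.Projective.of_equiv (show C ≃ₛₗ[(σ : R' →+* Γ(Spec (CommRingCat.of R'), ⊤))] Γ(Spec (CommRingCat.of C), ⊤) from
      { τ.toAddEquiv with
        map_smul' := fun r z => by
          change τ (r • z) = σ r • τ z
          rw [Algebra.smul_def, map_mul, hστ]
          rfl })

end Groth.Agent.S0446
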