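import Groth.Statements.S0449
import Mathlib.AlgebraicGeometry.Morphisms.SchemeTheoreticallyDominant
import Mathlib.AlgebraicGeometry.Morphisms.FlatMono
import Groth.Agent.FlatMonoDense.Ring

set_option autoImplicit false
universe u
open FlatMor

namespace Groth.Agent.S0449

open AlgebraicGeometry CategoryTheory Limits in
/-- A separated, flat morphism locally of finite type that is an isomorphism over a quasi-compact,
scheme-theoretically dense open of the target is an open immersion. -/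
theorem result {X S : Scheme.{u}} (f : X ⟶ S) [IsSeparated f] [LocallyOfFiniteType f] [Flat f] (U : S.Opens)
    [QuasiCompact U.ι] [IsSchemeTheoreticallyDominant U.ι] [IsIso (f ∣_ U)] : IsOpenImmersion f := by
  have hres : ∀ {P : Scheme.{u}} (l₁ l₂ : P ⟶ X) (p : P ⟶ U.toScheme),
      l₁ ≫ f = p ≫ U.ι → l₂ ≫ f = p ≫ U.ι → l₁ = l₂ := by
    intro P l₁ l₂ p e₁ e₂
    have hp := isPullback_morphismRestrict f U
    obtain ⟨m₁, a₁, b₁⟩ := hp.exists_lift p l₁ e₁.symm
    obtain ⟨m₂, a₂, b₂⟩ := hp.exists_lift p l₂ e₂.symm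
    have : m₁ = m₂ := by rw [← cancel_mono (f ∣_ U), a₁, a₂]
    rw [← b₁, ← b₂, this]
  have hmono : Mono f := by
    rw [← pullback.isIso_diagonal_iff]
    let P := pullback (pullback.fst f f ≫ f) U.ι
    let j : P ⟶ pullback f f := pullback.fst (pullback.fst f f ≫ f) U.ι
    have hj : IsSchemeTheoreticallyDominant j := inferInstance
    have e12 : j ≫ pullback.fst f f = j ≫ pullback.snd f f :=
      hres _ _ (pullback.snd (pullback.fst f f ≫ f) U.ι)
        (by rw [Category.assoc]; exact pullback.condition)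
        (by rw [Category.assoc, ← pullback.condition]; exact pullback.condition)
    have hfac : j = (j ≫ pullback.fst f f) ≫ pullback.diagonal f := by
      apply pullback.hom_ext <;> simp [e12]
    rw [IsClosedImmersion.isIso_iff_ker_eq_bot, ← le_bot_iff, ← hj.ker_eq_bot, hfac]
    exact Scheme.Hom.le_ker_comp _ _
  have hUd : Dense (U : Set S) := by
    have := U.ι.denseRange
    rwa [DenseRange, Scheme.Opens.range_ι] at this
  have hopen : IsOpenMap f := by
    intro O hO
    rw [isOpen_iff_forall_mem_open]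
    rintro _ ⟨x, hxO, rfl⟩
    obtain ⟨W, hW, hxW, -⟩ :=
      exists_isAffineOpen_mem_and_subset (U := ⊤) (show f x ∈ (⊤ : S.Opens) from trivial)
    obtain ⟨V, hV, hxV, hVW⟩ :=
      exists_isAffineOpen_mem_and_subset (U := f ⁻¹ᵁ W) (show x ∈ f ⁻¹ᵁ W from hxW)
    have e : V ≤ f ⁻¹ᵁ W := hVW
    have sq := IsAffineOpen.SpecMap_appLE_fromSpec f hW hV e
    have : Mono (hV.fromSpec ≫ f) := inferInstance
    have hm : Mono (Spec.map (f.appLE W V e)) := mono_of_mono_fac sq
    let U₀ : Set (PrimeSpectrum Γ(S, W)) := hW.fromSpec ⁻¹' (U : Set S)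
    have hUo : IsOpen U₀ := U.2.preimage hW.fromSpec.continuous
    have hUc : IsCompact U₀ := by
      refine (hW.fromSpec.isOpenEmbedding.isInducing.isCompact_iff).mpr ?_
      change IsCompact (hW.fromSpec '' (hW.fromSpec ⁻¹' (U : Set S)))
      rw [Set.image_preimage_eq_range_inter, IsAffineOpen.range_fromSpec]
      have h := (U.ι.isCompact_preimage hW.isCompact).image U.ι.continuous
      change IsCompact (U.ι '' (U.ι ⁻¹' (W : Set S))) at h
      rwa [Set.image_preimage_eq_range_inter, Scheme.Opens.range_ι, Set.inter_comm] at h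
    have hUd₀ : Dense U₀ := hUd.preimage hW.fromSpec.isOpenEmbedding.isOpenMap
    have himg : ∀ O' : Set (PrimeSpectrum Γ(X, V)), IsOpen O' →
        IsOpen (PrimeSpectrum.comap (f.appLE W V e).hom '' O' ∩ U₀) := by
      intro O' hO'
      let O'' : X.Opens := ⟨hV.fromSpec '' O', hV.fromSpec.isOpenEmbedding.isOpenMap O' hO'⟩
      have h2 : IsOpen (f '' (O'' : Set X) ∩ (U : Set S)) := by
        have h3 : IsOpen ((f ∣_ U) '' ((f ⁻¹ᵁ U).ι ⁻¹ᵁ O'' : Set (f ⁻¹ᵁ U).toScheme)) :=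
          (f ∣_ U).isOpenEmbedding.isOpenMap _ ((f ⁻¹ᵁ U).ι ⁻¹ᵁ O'').2
        convert U.ι.isOpenEmbedding.isOpenMap _ h3 using 1
        ext y
        constructor
        · rintro ⟨⟨z, hz, rfl⟩, hy⟩
          exact ⟨_, ⟨⟨z, hy⟩, hz, rfl⟩, morphismRestrict_base_coe f U ⟨z, hy⟩⟩
        · rintro ⟨_, ⟨z, hz, rfl⟩, rfl⟩
          exact ⟨⟨_, hz, (morphismRestrict_base_coe f U z).symm⟩, ((f ∣_ U) z).2⟩
      suffices heq : PrimeSpectrum.comap (f.appLE W V e).hom '' O' ∩ U₀ =
          hW.fromSpec ⁻¹' (f '' (O'' : Set X) ∩ (U : Set S)) by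
        rw [heq]; exact h2.preimage hW.fromSpec.continuous
      ext P
      constructor
      · rintro ⟨⟨Q, hQ, rfl⟩, hP⟩
        refine ⟨⟨hV.fromSpec Q, ⟨Q, hQ, rfl⟩, ?_⟩, hP⟩
        rw [← Scheme.Hom.comp_apply, ← sq]
        rfl
      · rintro ⟨⟨_, ⟨Q, hQ, rfl⟩, hy⟩, hP⟩
        refine ⟨⟨Q, hQ, hW.fromSpec.isOpenEmbedding.injective ?_⟩, hP⟩
        rw [← hy, ← Scheme.Hom.comp_apply, ← sq]
        rfl
    have hft : (f.appLE W V e).hom.FiniteType :=
      HasRingHomProperty.appLE @LocallyOfFiniteType f inferInstance ⟨W, hW⟩ ⟨V, hV⟩ e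
    have hop := Groth.Agent.FlatMonoDense.isOpenMap_comap (f.appLE W V e)
      (f.flat_appLE hW hV e) hft U₀ hUo hUc hUd₀ himg
    have hO' : IsOpen (hV.fromSpec ⁻¹' O) := hO.preimage hV.fromSpec.continuous
    refine ⟨hW.fromSpec '' (PrimeSpectrum.comap (f.appLE W V e).hom '' (hV.fromSpec ⁻¹' O)), ?_,
      hW.fromSpec.isOpenEmbedding.isOpenMap _ (hop _ hO'), ?_⟩
    · rintro _ ⟨_, ⟨Q, hQ, rfl⟩, rfl⟩
      refine ⟨hV.fromSpec Q, hQ, ?_⟩
      rw [← Scheme.Hom.comp_apply, ← sq]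
      rfl
    · obtain ⟨Q, rfl⟩ : x ∈ Set.range hV.fromSpec := by rw [IsAffineOpen.range_fromSpec]; exact hxV
      refine ⟨_, ⟨Q, hxO, rfl⟩, ?_⟩
      rw [← Scheme.Hom.comp_apply, ← sq]
      rfl
  let R : S.Opens := ⟨Set.range f, hopen.isOpen_range⟩
  have hR : IsOpenImmersion R.ι := inferInstance
  let f' : X ⟶ R.toScheme := IsOpenImmersion.lift R.ι f (by simp [R])
  have heq : f' ≫ R.ι = f := IsOpenImmersion.lift_fac _ _ _
  have hflat : Flat f' := MorphismProperty.of_postcomp (W := @Flat) f' R.ι hR (by rw [heq]; infer_instance)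
  have hm' : Mono f' := mono_of_mono_fac heq
  have hs : Surjective f' := ⟨fun ⟨y, ⟨z, hz⟩⟩ => ⟨z, R.ι.isOpenEmbedding.injective
    (by rw [← Scheme.Hom.comp_apply, heq]; exact hz)⟩⟩
  have hop' : IsOpenMap f' := fun O hO => by
    rw [R.ι.isOpenEmbedding.isOpen_iff_image_isOpen, ← Set.image_comp]
    have : (R.ι ∘ f' : X → S) = f := by
      funext z; show R.ι (f' z) = f z; rw [← Scheme.Hom.comp_apply, heq]
    rw [this]; exact hopen O hO
  have hhomeo : IsHomeomorph f' := ⟨f'.continuous, hop', f'.injective, f'.surjective⟩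
  have : QuasiCompact f' := ⟨fun A hA hc => hhomeo.homeomorph.isCompact_preimage.mpr hc⟩
  have := Flat.isIso_of_surjective_of_mono f'
  rw [← heq]
  infer_instance

end Groth.Agent.S0449
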