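import Groth.Statements.S0450
import Groth.Agent.GeomRedAt.DimZero

set_option autoImplicit false
universe u
open FlatMor

namespace Groth.Agent.S0450

open AlgebraicGeometry CategoryTheory Limits in
/-- A flat proper morphism locally of finite presentation that is finite over a dense open subset of the
target is finite (the source alternatively allows the open to be retrocompact instead of assuming
finite presentation; only this alternative is stated). -/
theorem result {X S : Scheme.{u}} (f : X ⟶ S) [Flat f] [IsProper f] [LocallyOfFinitePresentation f] (U : S.Opens)
    (hU : Dense (U : Set ↑S)) [IsFinite (f ∣_ U)] : IsFinite f := by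
  refine DimZero.isFinite_of_dim f fun y ↦ le_of_not_gt fun hy ↦ ?_
  obtain ⟨z, hz, hzU⟩ := hU.inter_open_nonempty _ (S0404.result f 0) ⟨y, hy⟩
  have hfz : topologicalKrullDim ↥(f.fiber z) ≤ 0 := by
    have := DimZero.dim_le_zero_of_finite (f ∣_ U) ⟨z, hzU⟩
    rwa [DimField.dim_fiber_eq_of_isPullback (isPullback_morphismRestrict f U).flip] at this
  exact (not_lt.mpr hfz) hz

end Groth.Agent.S0450
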