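import Groth.Statements.S0451
import Groth.Agent.RG.DenseAlg
import Mathlib.AlgebraicGeometry.Morphisms.FinitePresentation
import Mathlib.AlgebraicGeometry.Morphisms.Flat

set_option autoImplicit false
open Groth.Agent
universe u
open FlatMor

namespace Groth.Agent.S0451

open AlgebraicGeometry CategoryTheory Limits in
/-- A flat morphism locally of finite type which is locally of finite presentation over a quasi-compact
scheme-theoretically dense open of the target is locally of finite presentation. -/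
theorem result {X S : Scheme.{u}} (f : X ⟶ S) [LocallyOfFiniteType f] [Flat f] (U : S.Opens)
    [QuasiCompact U.ι] [IsSchemeTheoreticallyDominant U.ι] [LocallyOfFinitePresentation (f ∣_ U)] : LocallyOfFinitePresentation f := by
  classical
  rw [HasRingHomProperty.iff_appLE (P := @LocallyOfFinitePresentation)]
  intro V W e
  have hft := HasRingHomProperty.appLE (P := @LocallyOfFiniteType) f inferInstance V W e
  have hfl := HasRingHomProperty.appLE (P := @Flat) f inferInstance V W e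
  have hV := V.2
  have hW := W.2
  have hcpt : IsCompact ((V.1 : Set S) ∩ (U : Set S)) := by
    have h1 := (QuasiCompact.isCompact_preimage (f := U.ι) V.1 V.1.isOpen hV.isCompact).image U.ι.continuous
    rwa [Set.image_preimage_eq_inter_range, Scheme.Opens.range_ι] at h1
  choose g hgU hgx using fun x : ((V.1 : Set S) ∩ (U : Set S) : Set S) =>
    hV.exists_basicOpen_le (V := U) ⟨x.1, x.2.2⟩ x.2.1
  obtain ⟨T, hT⟩ := hcpt.elim_finite_subcover (fun x => (S.basicOpen (g x) : Set S))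
    (fun x => (S.basicOpen (g x)).isOpen) (fun x hx => Set.mem_iUnion.2 ⟨⟨x, hx⟩, hgx ⟨x, hx⟩⟩)
  let h : Fin T.card → Γ(S, V) := fun i => g (T.equivFin.symm i)
  have hdense : Function.Injective (RingHom.pi fun i => algebraMap Γ(S, V) (Localization.Away (h i))) := by
    intro a b hab
    refine U.ι.app_injective V.1 ?_
    rw [Scheme.Opens.ι_app]
    refine S.IsSheaf.section_ext fun x hx => ?_
    obtain ⟨⟨y, hyV⟩, hy, rfl⟩ := hx
    obtain ⟨z, hz, hzx⟩ := Set.mem_iUnion₂.1 (hT (show U.ι ⟨y, hyV⟩ ∈ (V.1 : Set S) ∩ U from ⟨hy, hyV⟩))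
    have hle : S.basicOpen (g z) ≤ U.ι ''ᵁ (U.ι ⁻¹ᵁ V.1) := by
      intro w hw
      exact ⟨⟨w, hgU z hw⟩, S.basicOpen_le _ hw, rfl⟩
    refine ⟨S.basicOpen (g z), hle, hzx, ?_⟩
    haveI := hV.isLocalization_basicOpen (g z)
    have key : ∀ z' : T, (algebraMap Γ(S, V) (Localization.Away (g z'.1))) a = algebraMap Γ(S, V) (Localization.Away (g z'.1)) b := by
      intro z'
      obtain ⟨i, rfl⟩ := T.equivFin.symm.surjective z'
      exact congrFun hab i
    obtain ⟨⟨_, m, rfl⟩, hc⟩ :=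
      (IsLocalization.eq_iff_exists (Submonoid.powers (g z)) (Localization.Away (g z))).1 (key ⟨z, hz⟩)
    have h2 : algebraMap Γ(S, V) Γ(S, S.basicOpen (g z)) a = algebraMap Γ(S, V) Γ(S, S.basicOpen (g z)) b :=
      (IsLocalization.eq_iff_exists (Submonoid.powers (g z)) Γ(S, S.basicOpen (g z))).2 ⟨⟨_, m, rfl⟩, hc⟩
    change (ConcreteCategory.hom (S.presheaf.map _ ≫ S.presheaf.map _)) a =
      (ConcreteCategory.hom (S.presheaf.map _ ≫ S.presheaf.map _)) b
    rw [← Functor.map_comp]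
    exact h2
  let φ := f.appLE V W e
  algebraize [φ.hom]
  haveI : Algebra.FiniteType Γ(S, V) Γ(X, W) := hft
  haveI : Module.Flat Γ(S, V) Γ(X, W) := hfl
  refine RG.algebra_fp_of_dense h hdense fun i => ?_
  let W' : X.Opens := X.basicOpen (φ (h i))
  have hW' : IsAffineOpen W' := hW.basicOpen _
  have hWW : W' ≤ W.1 := X.basicOpen_le _
  have hWU : W' ≤ f ⁻¹ᵁ U := by
    intro w hw
    refine hgU (T.equivFin.symm i).1 ?_
    have := (Scheme.basicOpen_appLE f W.1 V.1 e (h i)).le hw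
    exact this.2
  haveI : LocallyOfFinitePresentation ((f ⁻¹ᵁ U).ι ≫ f) := by
    rw [← morphismRestrict_ι]
    infer_instance
  have hW'' : IsAffineOpen ((f ⁻¹ᵁ U).ι ⁻¹ᵁ W') :=
    hW'.preimage_of_isOpenImmersion _ (hWU.trans (Scheme.Opens.opensRange_ι _).ge)
  have eW : W' ≤ f ⁻¹ᵁ V.1 := hWW.trans e
  have h1 := HasRingHomProperty.appLE (P := @LocallyOfFinitePresentation) ((f ⁻¹ᵁ U).ι ≫ f) inferInstance
    V ⟨_, hW''⟩ (show (f ⁻¹ᵁ U).ι ⁻¹ᵁ W' ≤ (f ⁻¹ᵁ U).ι ⁻¹ᵁ (f ⁻¹ᵁ V.1) from Scheme.Hom.preimage_mono _ eW)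
  rw [← Scheme.Hom.appLE_comp_appLE (f ⁻¹ᵁ U).ι f V.1 W' _ eW le_rfl, CommRingCat.hom_comp] at h1
  haveI : IsIso ((f ⁻¹ᵁ U).ι.appLE W' ((f ⁻¹ᵁ U).ι ⁻¹ᵁ W') le_rfl) := by
    rw [← Scheme.Hom.app_eq_appLE]
    exact Scheme.Hom.isIso_app _ _ (hWU.trans (Scheme.Opens.opensRange_ι _).ge)
  have h2 : (f.appLE V W' eW).hom.FinitePresentation := by
    have h3 := RingHom.finitePresentation_respectsIso.1 _
      (asIso ((f ⁻¹ᵁ U).ι.appLE W' ((f ⁻¹ᵁ U).ι ⁻¹ᵁ W') le_rfl)).symm.commRingCatIsoToRingEquiv h1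
    convert h3 using 1
    ext x
    simp
  letI : Algebra Γ(X, W) Γ(X, W') := (X.presheaf.map (homOfLE hWW).op).hom.toAlgebra
  haveI : IsLocalization.Away (φ (h i)) Γ(X, W') := hW.isLocalization_basicOpen _
  algebraize [(f.appLE V W' eW).hom]
  haveI : IsScalarTower Γ(S, V) Γ(X, W) Γ(X, W') := IsScalarTower.of_algebraMap_eq' (by
    change (f.appLE V W' eW).hom = (f.appLE V W e ≫ X.presheaf.map (homOfLE hWW).op).hom
    rw [Scheme.Hom.appLE_map])
  haveI : Algebra.FinitePresentation Γ(S, V) Γ(X, W') := h2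
  exact Algebra.FinitePresentation.equiv
    ((IsLocalization.algEquiv (Submonoid.powers (φ (h i))) Γ(X, W') (Localization.Away (φ (h i)))).restrictScalars Γ(S, V))

end Groth.Agent.S0451
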