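import Groth.Statements.S0455
import Groth.Agent.SiteCoh.Compare

set_option autoImplicit false
universe u
open CategoryTheory
open CohTop

namespace Groth.Agent.S0455

open TopologicalSpace CategoryTheory.Limits in
/-- If F is a flasque abelian sheaf on X, then for any family of opens the Cech cohomology groups of F
in positive degree are zero. -/
theorem result {X : TopCat.{u}} (F : CohTop.Ab X) [TopCat.Sheaf.IsFlasque F]
    {ι : Type u} (U : ι → Opens X) (p : ℕ) : IsZero (CohTop.cechH F.obj U (p + 1)) := by
  obtain ⟨e⟩ := Groth.Agent.SiteCoh.cech_equiv (Groth.Agent.SiteCoh.opensData U)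
    (fun I hI n => @Groth.Agent.SiteCoh.cechExact_sheaf_injective (TopologicalSpace.Opens X) _ _ _ I hI _ U n) (p + 1) F
    (fun n a q => Groth.Agent.SiteCoh.flasque_acyclic F _ q)
  exact @AddCommGrpCat.isZero_of_subsingleton _
    (@Equiv.subsingleton _ _ e.toEquiv (Groth.Agent.SiteCoh.flasque_acyclic F (iSup U) p))

end Groth.Agent.S0455
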