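import Groth.Statements.S0477
import Groth.Agent.KInj.Ops
import Groth.Agent.KInj.Existence

set_option autoImplicit false
universe v u
open CategoryTheory
open CohDer

namespace Groth.Agent.S0477

open CategoryTheory.Limits in
/-- For a Grothendieck abelian category A, the derived category D(A) has all direct sums (coproducts
indexed by small types). (The published statement also describes these direct sums as computed
termwise on representing complexes; only their existence is asserted here.) -/
theorem result {A : Type u} [Category.{v} A] [Abelian A] [IsGrothendieckAbelian.{v} A]
    [HasDerivedCategory.{v} A] : HasCoproducts.{v} (DerivedCategory A) := by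
  refine fun J => ⟨fun F => ?_⟩
  haveI := KInj.hasCoproduct_Q (A := A) (fun M => by
    obtain ⟨I, f, hI, hf, -⟩ := KInj.exists_kInjective M
    exact ⟨I, f, hI, hf⟩) (F.obj ∘ Discrete.mk)
  exact hasColimit_of_iso Discrete.natIsoFunctor

end Groth.Agent.S0477
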