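import Groth.Statements.S0478
import Groth.Agent.KInj.Ops
import Groth.Agent.KInj.Existence

set_option autoImplicit false
universe v u
open CategoryTheory
open CohDer

namespace Groth.Agent.S0478

open CategoryTheory.Limits in
/-- For a Grothendieck abelian category A the derived category D(A) has all products indexed by small
types. The published statement also computes them as termwise products of K-injective
representatives, which is not asserted here. -/
theorem result {A : Type u} [Category.{v} A] [Abelian A] [IsGrothendieckAbelian.{v} A]
    [HasDerivedCategory.{v} A] : HasProducts.{v} (DerivedCategory A) := by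
  refine fun J => ⟨fun F => ?_⟩
  choose res f hres hf _ using fun t : J =>
    KInj.exists_kInjective ((DerivedCategory.Q (C := A)).objPreimage (F.obj ⟨t⟩))
  haveI := KInj.hasProduct_Q res hres (F.obj ∘ Discrete.mk) fun t =>
    haveI := hf t
    (asIso (DerivedCategory.Q.map (f t))).symm ≪≫
      (DerivedCategory.Q (C := A)).objObjPreimageIso (F.obj ⟨t⟩)
  exact hasLimit_of_iso Discrete.natIsoFunctor.symm

end Groth.Agent.S0478
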