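import Groth.Statements.S0482
import Groth.Agent.SiteCoh.Over
import Groth.Agent.SiteCoh.ShiftCompare

set_option autoImplicit false
universe u
open CategoryTheory
open CohSite

namespace Groth.Agent.S0482

/-- For a sheaf of abelian groups F on a small site and an object U, H^n(U, F) (Ext out of the free
abelian sheaf on U) is isomorphic to the cohomology of the restriction of F to the site of objects
over U (existence of a group isomorphism). -/
theorem result {C : Type u} [SmallCategory C] (J : GrothendieckTopology C)
    (F : Sheaf J AddCommGrpCat.{u}) (U : C) (n : ℕ) :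
    Nonempty (CohSite.HU F n U ≃+ Sheaf.H.{u} (F.over U) n) := by
  obtain ⟨e⟩ := Groth.Agent.SiteCoh.hu_compare (Groth.Agent.SiteCoh.restrU J U)
    (U := U) (U' := Over.mk (𝟙 U)) (fun F => AddEquiv.refl _) (fun _ _ => rfl)
    (fun _ hS => Groth.Agent.SiteCoh.restrU_shortExact J U hS)
    (fun I hI => @Groth.Agent.SiteCoh.restrU_injective _ _ J U I hI) n F
  exact ⟨e.trans (Groth.Agent.SiteCoh.huTerminalEquiv (J.over U) Over.mkIdTerminal (F.over U) n).symm⟩

end Groth.Agent.S0482
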