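import Groth.Statements.S0492
import Groth.Agent.SiteCoh.Weakly
import Mathlib.Algebra.Category.Grp.AB
import Mathlib.CategoryTheory.Limits.Preserves.Limits

set_option autoImplicit false
universe u
open CategoryTheory
open CohSite

set_option backward.isDefEq.respectTransparency false
set_option linter.style.haveILetI false
namespace Groth.Agent.S0492

open CategoryTheory.Limits in
/-- Part (4), for sheaves of abelian groups: let B be a set of weakly contractible objects of a small
site such that every object admits a covering family by members of B. Then products in the category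
of abelian sheaves are exact (Grothendieck's AB4*). -/
theorem result {C : Type u} [SmallCategory C] (J : GrothendieckTopology C)
    (B : Set C) (hB : ∀ U ∈ B, CohSite.IsWeaklyContractible J U)
    (hcov : ∀ V : C, ∃ (ι : Type u) (U : ι → C) (f : ∀ i, U i ⟶ V), (∀ i, U i ∈ B) ∧ Sieve.ofArrows U f ∈ J V) :
    AB4Star (Sheaf J AddCommGrpCat.{u}) := by
  refine ⟨fun α => ⟨?_⟩⟩
  let L := (lim : (Discrete α ⥤ Sheaf J AddCommGrpCat.{u}) ⥤ Sheaf J AddCommGrpCat.{u})
  haveI : L.IsRightAdjoint := constLimAdj.isRightAdjoint
  haveI : PreservesFiniteLimits L := ⟨fun _ => inferInstance⟩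
  haveI : L.Additive := Functor.additive_of_preserves_binary_products _
  haveI : L.PreservesEpimorphisms := ⟨fun {X Y} φ hφ => by
    suffices Sheaf.IsLocallySurjective (L.map φ) from
      (Sheaf.isLocallySurjective_iff_epi' AddCommGrpCat.{u} (L.map φ)).1 this
    refine ⟨fun {V} s => ?_⟩
    obtain ⟨ι, U, f, hU, hf⟩ := hcov V
    refine J.superset_covering (Sieve.generate_le_iff _ _ |>.2 ?_) hf
    intro W g hg
    cases hg with | mk i => ?_
    let R := sheafToPresheaf J AddCommGrpCat.{u} ⋙ (evaluation Cᵒᵖ AddCommGrpCat.{u}).obj (Opposite.op (U i))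
    haveI : PreservesFiniteColimits R :=
      Groth.Agent.SiteCoh.preservesFiniteColimits_sections (hB _ (hU i))
    haveI : ∀ a : Discrete α, Epi (φ.app a) := fun a => inferInstance
    haveI : ∀ a : Discrete α, Epi (((Functor.whiskeringRight _ _ _).obj R |>.map φ).app a) :=
      fun a => inferInstanceAs (Epi (R.map (φ.app a)))
    haveI : Epi ((Functor.whiskeringRight _ _ _).obj R |>.map φ) := NatTrans.epi_of_epi_app _
    haveI : Epi ((R.map (L.map φ))) := by
      have e := (preservesLimitNatIso (J := Discrete α) R).hom.naturality φ
      haveI : Epi ((lim : (Discrete α ⥤ AddCommGrpCat.{u}) ⥤ _).map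
          ((Functor.whiskeringRight _ _ _).obj R |>.map φ)) :=
        haveI : PreservesFiniteColimits (lim : (Discrete α ⥤ AddCommGrpCat.{u}) ⥤ _) :=
          HasExactLimitsOfShape.preservesFiniteColimits
        inferInstance
      haveI : Epi ((lim ⋙ R).map φ) := by
        have e' : (lim ⋙ R).map φ = (preservesLimitNatIso (J := Discrete α) R).hom.app X ≫
            (lim.map ((Functor.whiskeringRight _ _ _).obj R |>.map φ)) ≫
              (preservesLimitNatIso (J := Discrete α) R).inv.app Y := by
          rw [← Category.assoc]
          exact (Iso.eq_comp_inv ((preservesLimitNatIso (J := Discrete α) R).app Y)).2 e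
        rw [e']
        infer_instance
      exact this
    exact (AddCommGrpCat.epi_iff_surjective (R.map (L.map φ))).1 this ((L.obj Y).obj.map (f i).op s)⟩
  haveI := Functor.preservesHomology_of_preservesEpis_and_kernels L
  exact Functor.preservesFiniteColimits_of_preservesHomology L

end Groth.Agent.S0492
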