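import Groth.Statements.S0495
import Mathlib
-- import your own Groth.Agent.* helpers here

set_option autoImplicit false
universe u
open Hensel

namespace Groth.Agent.S0495

/-- A local ring whose Krull dimension is zero is henselian. -/
theorem result (R : Type u) [CommRing R] [IsLocalRing R]
    (h : ringKrullDim R = 0) : HenselianLocalRing R := by
  refine ⟨fun f hf a₀ h₁ h₂ => ?_⟩
  have hdim : Ring.KrullDimLE 0 R := Ring.krullDimLE_iff.mpr (by rw [h]; rfl)
  have hnil : IsLocalRing.maximalIdeal R = nilradical R :=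
    (Ring.KrullDimLE.nilradical_eq_maximalIdeal (R := R)).symm
  have hn : IsNilpotent (Polynomial.aeval a₀ f) := by
    rw [Polynomial.coe_aeval_eq_eval, ← mem_nilradical, ← hnil]; exact h₁
  obtain ⟨a, ⟨ha, haf⟩, -⟩ := Polynomial.existsUnique_nilpotent_sub_and_aeval_eq_zero hn
    (by rwa [Polynomial.coe_aeval_eq_eval])
  refine ⟨a, by rwa [Polynomial.coe_aeval_eq_eval] at haf, ?_⟩
  rw [hnil, mem_nilradical]
  simpa using ha.neg

end Groth.Agent.S0495
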