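import Groth.Statements.S0496
import Mathlib
-- import your own Groth.Agent.* helpers here

set_option autoImplicit false
universe u
open Hensel

namespace Groth.Agent.S0496

/-- If every factorization of the reduction of a monic polynomial into two coprime factors over the
residue field lifts to a factorization over the local ring, then the local ring is henselian. -/
theorem result (R : Type u) [CommRing R] [IsLocalRing R]
    (h : ∀ f : Polynomial R, f.Monic →
      ∀ g₀ h₀ : Polynomial (IsLocalRing.ResidueField R), IsCoprime g₀ h₀ →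
      Polynomial.map (IsLocalRing.residue R) f = g₀ * h₀ →
      ∃ g h : Polynomial R, f = g * h ∧ Polynomial.map (IsLocalRing.residue R) g = g₀ ∧
        Polynomial.map (IsLocalRing.residue R) h = h₀) :
    HenselianLocalRing R := by
  classical
  refine ⟨fun f hf a₀ h₁ h₂ => ?_⟩
  let res := IsLocalRing.residue R
  let a := res a₀
  have hev : (f.map res).eval a = 0 := by
    rw [Polynomial.eval_map, Polynomial.eval₂_at_apply]
    exact Ideal.Quotient.eq_zero_iff_mem.2 h₁
  obtain ⟨q, hq⟩ := Polynomial.dvd_iff_isRoot.2 (show (f.map res).IsRoot a from hev)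
  have hqa : q.eval a = res (f.derivative.eval a₀) := by
    have h := congrArg (fun P : Polynomial (IsLocalRing.ResidueField R) => P.derivative.eval a) hq
    simp only [Polynomial.derivative_map, Polynomial.eval_map] at h
    rw [← Polynomial.eval₂_at_apply, h]
    simp
  have hcop : IsCoprime (Polynomial.X - Polynomial.C a) q := by
    rw [(Polynomial.irreducible_X_sub_C a).coprime_iff_not_dvd, Polynomial.dvd_iff_isRoot, Polynomial.IsRoot, hqa]
    exact ((h₂.map res).ne_zero)
  obtain ⟨g, k, hgk, hg, -⟩ := h f hf _ q hcop hq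
  have hcoef : ∀ j, res (g.coeff j) = (Polynomial.X - Polynomial.C a).coeff j := fun j => by
    rw [← hg, Polynomial.coeff_map]
  have hnil : ∀ j, 2 ≤ j → IsNilpotent (g.coeff j) := by
    intro j hj
    rw [nilpotent_iff_mem_prime]
    intro P hP
    by_contra hjP
    let π := Ideal.Quotient.mk P
    have : IsDomain (R ⧸ P) := Ideal.Quotient.isDomain P
    have hne : g.map π ≠ 0 := fun h0 => hjP (Ideal.Quotient.eq_zero_iff_mem.1 (by
      simpa using congrArg (fun p : Polynomial (R ⧸ P) => p.coeff j) h0))
    have hmon : (g.map π * k.map π).leadingCoeff = 1 := by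
      rw [← Polynomial.map_mul, ← hgk]; exact (hf.map π).leadingCoeff
    rw [Polynomial.leadingCoeff_mul] at hmon
    have hu : IsUnit (π (g.coeff (g.map π).natDegree)) := by
      rw [← Polynomial.coeff_map]
      exact IsUnit.of_mul_eq_one (b := (k.map π).leadingCoeff) hmon
    have hu' : res (g.coeff (g.map π).natDegree) ≠ 0 := by
      intro h0
      have hmem : g.coeff (g.map π).natDegree ∈ IsLocalRing.maximalIdeal R := Ideal.Quotient.eq_zero_iff_mem.1 h0
      obtain ⟨b, hb⟩ := Ideal.Quotient.mk_surjective (I := P) (hu.unit⁻¹ : (R ⧸ P)ˣ).1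
      have h3 : π (g.coeff (g.map π).natDegree * b) = π 1 := by
        rw [map_mul, map_one, hb]; exact hu.mul_val_inv
      exact (IsLocalRing.maximalIdeal.isMaximal R).ne_top ((Ideal.eq_top_iff_one _).2 (by
        have h4 := IsLocalRing.le_maximalIdeal hP.ne_top (Ideal.Quotient.eq.1 h3)
        simpa using sub_mem (Ideal.mul_mem_right b _ hmem) h4))
    rw [hcoef] at hu'
    have hd : (g.map π).natDegree ≤ 1 := by
      by_contra hlt
      exact hu' (Polynomial.coeff_eq_zero_of_natDegree_lt (by rw [Polynomial.natDegree_X_sub_C]; omega))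
    exact hjP (Ideal.Quotient.eq_zero_iff_mem.1 (by
      rw [← Polynomial.coeff_map]
      exact Polynomial.coeff_eq_zero_of_natDegree_lt (lt_of_le_of_lt hd (by omega))))
  have h1 : IsUnit (g.coeff 1) := (IsLocalRing.residue_ne_zero_iff_isUnit _).1 (by
    have := hcoef 1
    simp at this
    exact fun h0 => one_ne_zero (this.symm.trans h0))
  let x₀ := -(↑h1.unit⁻¹ * g.coeff 0)
  let lin := Polynomial.C (g.coeff 1) * Polynomial.X + Polynomial.C (g.coeff 0)
  have hrest : IsNilpotent (g - lin) := Polynomial.isNilpotent_iff.2 fun j => by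
    rcases j with _ | _ | j
    · simp [lin]
    · simp [lin]
    · simpa [lin, Polynomial.coeff_X, Polynomial.coeff_C] using hnil (j + 2) (by omega)
  have hP : IsNilpotent (Polynomial.aeval x₀ g) := by
    have h0 : Polynomial.aeval x₀ lin = 0 := by
      simp only [lin, x₀, map_add, map_mul, Polynomial.aeval_C, Polynomial.aeval_X, Algebra.algebraMap_self, RingHom.id_apply]
      rw [mul_neg, ← mul_assoc, IsUnit.mul_val_inv, one_mul, neg_add_cancel]
    simpa [h0] using hrest.map (Polynomial.aeval x₀)
  have hP' : IsUnit (Polynomial.aeval x₀ (Polynomial.derivative g)) := (IsLocalRing.residue_ne_zero_iff_isUnit _).1 (by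
    rw [Polynomial.coe_aeval_eq_eval, ← Polynomial.eval₂_at_apply, ← Polynomial.eval_map, ← Polynomial.derivative_map, hg]
    simp)
  obtain ⟨r, ⟨-, hr⟩, -⟩ := Polynomial.existsUnique_nilpotent_sub_and_aeval_eq_zero hP hP'
  refine ⟨r, ?_, ?_⟩
  · rw [Polynomial.IsRoot, hgk, Polynomial.eval_mul, ← Polynomial.coe_aeval_eq_eval, hr, zero_mul]
  · have h3 := congrArg res hr
    rw [map_zero, Polynomial.coe_aeval_eq_eval, ← Polynomial.eval₂_at_apply, ← Polynomial.eval_map, hg] at h3
    simp at h3
    exact Ideal.Quotient.eq.1 (sub_eq_zero.1 h3)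

end Groth.Agent.S0496
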