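import Groth.Statements.S0498
import Groth.Agent.Hensel.Local
import Mathlib
-- import your own Groth.Agent.* helpers here

set_option autoImplicit false
universe u
open Hensel

namespace Groth.Agent.S0498

/-- Over a henselian local ring, a simple root in the residue field of the reduction of an arbitrary
polynomial (monic or not) lifts to a root in the ring. -/
theorem result (R : Type u) [CommRing R] [HenselianLocalRing R]
    (f : Polynomial R) (a₀ : IsLocalRing.ResidueField R)
    (h₁ : Polynomial.eval₂ (IsLocalRing.residue R) a₀ f = 0)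
    (h₂ : Polynomial.eval₂ (IsLocalRing.residue R) a₀ (Polynomial.derivative f) ≠ 0) :
    ∃ a : R, Polynomial.IsRoot f a ∧ IsLocalRing.residue R a = a₀ := by
  classical
  obtain ⟨r, rfl⟩ := IsLocalRing.residue_surjective a₀
  rw [Polynomial.eval₂_at_apply] at h₁ h₂
  let ι : Polynomial R →ₐ[R] MvPolynomial (Fin 1) R := Polynomial.aeval (MvPolynomial.X 0)
  have hev : ∀ (g : Polynomial R) (b : Fin 1 → R), MvPolynomial.eval b (ι g) = g.eval (b 0) := fun g b => by
    induction g using Polynomial.induction_on with
    | C c => simp [ι]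
    | add p q hp hq => rw [map_add, map_add, hp, hq, Polynomial.eval_add]
    | monomial n c hn => simp [ι]
  have hd : MvPolynomial.pderiv 0 (ι f) = ι (Polynomial.derivative f) := by
    induction f using Polynomial.induction_on with
    | C c => simp [ι]
    | add p q hp hq => simp [map_add, Polynomial.derivative_add] at *; simp [ι, Derivation.map_aeval]
    | monomial n c hn => simp [ι, Derivation.map_aeval]
  have hjac : Groth.Agent.Hensel.jacDet (fun _ : Fin 1 => ι f) = ι (Polynomial.derivative f) := by
    rw [Groth.Agent.Hensel.jacDet, Matrix.det_fin_one, Matrix.of_apply, hd]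
  obtain ⟨b, ⟨hb, hb'⟩, -⟩ := Groth.Agent.Hensel.existsUnique_root_system (I := IsLocalRing.maximalIdeal R)
    (fun _ : Fin 1 => ι f) (fun _ => r)
    (fun _ => by rw [hev]; exact (IsLocalRing.residue_eq_zero_iff _).1 h₁)
    (by rw [hjac, hev]; exact ((IsLocalRing.residue_ne_zero_iff_isUnit _).1 h₂).map _)
  exact ⟨b 0, by rw [Polynomial.IsRoot, ← hev]; exact hb 0, Ideal.Quotient.eq.2 (hb' 0)⟩

end Groth.Agent.S0498
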