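import Groth.Statements.S0516
import Groth.Agent.Hensel.Decomp
import Mathlib
-- import your own Groth.Agent.* helpers here

set_option autoImplicit false
universe u
open Hensel

namespace Groth.Agent.S0516

/-- An unramified algebra `S` (formally unramified of finite type) over a strictly henselian local ring
`R` is isomorphic over `R` to a product of finitely many quotient rings of `R` and an `R`-algebra in
which the maximal ideal of `R` generates the unit ideal. -/
theorem result (R : Type u) [CommRing R]
    [HenselianLocalRing R] [IsSepClosed (IsLocalRing.ResidueField R)] (S : Type u) [CommRing S] [Algebra R S]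
    [Algebra.Unramified R S] :
    ∃ (ι : Type u) (_ : Fintype ι) (A : ι → Type u) (_ : ∀ i, CommRing (A i))
      (_ : ∀ i, Algebra R (A i)) (B : Type u) (_ : CommRing B) (_ : Algebra R B),
      (∀ i, Function.Surjective (algebraMap R (A i))) ∧
      Ideal.map (algebraMap R B) (IsLocalRing.maximalIdeal R) = ⊤ ∧
      Nonempty (S ≃ₐ[R] ((∀ i, A i) × B)) := by
  obtain ⟨e, he, hfin, hB⟩ := Hensel.exists_idempotent_quasiFinite R S
  haveI := hfin
  obtain ⟨ι, hι, ε, hε, hloc⟩ := Hensel.exists_pi_local R (S ⧸ Ideal.span ({1 - e} : Set S))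
  let A : ι → Type u := fun i => (S ⧸ Ideal.span ({1 - e} : Set S)) ⧸ Ideal.span {1 - ε i}
  refine ⟨ι, hι, A, fun i => inferInstance, fun i => inferInstance, S ⧸ Ideal.span ({e} : Set S), inferInstance,
    inferInstance, fun i => ?_, hB, ⟨?_⟩⟩
  · haveI := hloc i
    haveI : Algebra.FormallyUnramified R (S ⧸ Ideal.span ({1 - e} : Set S)) :=
      Algebra.FormallyUnramified.of_surjective (Ideal.Quotient.mkₐ R _) Ideal.Quotient.mk_surjective
    haveI : Algebra.FormallyUnramified R (A i) :=
      Algebra.FormallyUnramified.of_surjective (Ideal.Quotient.mkₐ R _) Ideal.Quotient.mk_surjective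
    exact Hensel.surjective_of_isLocalRing_unramified R (A i)
  · have h1 : (1 - e) + e = 1 := sub_add_cancel 1 e
    have h2 : (1 - e) * e = 0 := by rw [sub_mul, one_mul, he.eq, sub_self]
    let E1 := AlgEquiv.prodQuotientOfIsIdempotentElem (R := R) he.one_sub he h1 h2
    let E2 : (S ⧸ Ideal.span ({1 - e} : Set S)) ≃ₐ[R] (∀ i, A i) :=
      AlgEquiv.ofBijective (AlgHom.pi fun i => Ideal.Quotient.mkₐ R (Ideal.span {1 - ε i})) hε.bijective_pi
    exact E1.trans (E2.prodCongr AlgEquiv.refl)

end Groth.Agent.S0516
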