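import Groth.Statements.S0517
import Groth.Agent.Hensel.StrictMaps
import Mathlib
-- import your own Groth.Agent.* helpers here

set_option autoImplicit false
universe u
open Hensel

namespace Groth.Agent.S0517

/-- Given strictly henselian local rings `R` and `S`, a local ring map `φ` between them, and a square
system of `n` polynomial equations in `n` unknowns over `R` whose quotient algebra is étale over
`R`, applying `φ` coordinatewise matches the solutions of the system in `Rⁿ` bijectively with the
solutions of the transported system in `Sⁿ`. -/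
theorem result (R : Type u) [CommRing R]
    [HenselianLocalRing R] [IsSepClosed (IsLocalRing.ResidueField R)] (S : Type u) [CommRing S]
    [HenselianLocalRing S] [IsSepClosed (IsLocalRing.ResidueField S)] (φ : R →+* S) [IsLocalHom φ] (n : ℕ)
    (P : Fin n → MvPolynomial (Fin n) R)
    [Algebra.Etale R (MvPolynomial (Fin n) R ⧸ Ideal.span (Set.range P))] :
    Set.BijOn (fun r : Fin n → R => φ ∘ r)
      {r : Fin n → R | ∀ i, MvPolynomial.eval r (P i) = 0}
      {s : Fin n → S | ∀ i, MvPolynomial.eval s (MvPolynomial.map φ (P i)) = 0} := by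
  letI := φ.toAlgebra
  haveI : IsLocalHom (algebraMap R S) := ‹IsLocalHom φ›
  let E := MvPolynomial (Fin n) R ⧸ Ideal.span (Set.range P)
  obtain ⟨hinj, hsurj⟩ := Hensel.bijective_comp_of_strict R S E
  have hmap : ∀ (r : Fin n → R) (p : MvPolynomial (Fin n) R),
      MvPolynomial.eval (φ ∘ r) (MvPolynomial.map φ p) = φ (MvPolynomial.eval r p) := fun r p => by
    rw [MvPolynomial.eval_map, MvPolynomial.eval₂_comp]
  have hlift : ∀ (r : Fin n → R), (∀ i, MvPolynomial.eval r (P i) = 0) → ∀ a ∈ Ideal.span (Set.range P),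
      MvPolynomial.aeval r a = 0 := fun r hr a ha => by
    refine (Ideal.span_le (I := RingHom.ker (MvPolynomial.aeval (R := R) r))).2 ?_ ha
    rintro _ ⟨i, rfl⟩
    exact hr i
  refine ⟨fun r hr i => by rw [hmap, hr i, map_zero], fun r hr r' hr' h => ?_, fun s hs => ?_⟩
  · let fr : E →ₐ[R] R := Ideal.Quotient.liftₐ _ (MvPolynomial.aeval r) (hlift r hr)
    let fr' : E →ₐ[R] R := Ideal.Quotient.liftₐ _ (MvPolynomial.aeval r') (hlift r' hr')
    have h1 : fr = fr' := by
      refine hinj (Ideal.Quotient.algHom_ext R (MvPolynomial.algHom_ext fun i => ?_))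
      change φ (MvPolynomial.aeval r (MvPolynomial.X i)) = φ (MvPolynomial.aeval r' (MvPolynomial.X i))
      rw [MvPolynomial.aeval_X, MvPolynomial.aeval_X]
      exact congrFun h i
    funext i
    have h2 := AlgHom.congr_fun h1 (Ideal.Quotient.mk _ (MvPolynomial.X i))
    change MvPolynomial.aeval r (MvPolynomial.X i) = MvPolynomial.aeval r' (MvPolynomial.X i) at h2
    simpa using h2
  · have hs' : ∀ a ∈ Ideal.span (Set.range P), MvPolynomial.aeval s a = 0 := fun a ha => by
      refine (Ideal.span_le (I := RingHom.ker (MvPolynomial.aeval (R := R) s))).2 ?_ ha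
      rintro _ ⟨i, rfl⟩
      have := hs i
      rw [MvPolynomial.eval_map] at this
      exact this
    obtain ⟨f, hf⟩ := hsurj (Ideal.Quotient.liftₐ _ (MvPolynomial.aeval s) hs')
    refine ⟨fun i => f (Ideal.Quotient.mk _ (MvPolynomial.X i)), fun i => ?_, funext fun i => ?_⟩
    · have h1 : MvPolynomial.aeval (fun i => f (Ideal.Quotient.mk _ (MvPolynomial.X i))) =
          f.comp (Ideal.Quotient.mkₐ R (Ideal.span (Set.range P))) := MvPolynomial.algHom_ext fun i => by
        rw [MvPolynomial.aeval_X]; rfl
      change MvPolynomial.aeval (fun i => f (Ideal.Quotient.mk _ (MvPolynomial.X i))) (P i) = 0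
      rw [h1, AlgHom.comp_apply, Ideal.Quotient.mkₐ_eq_mk,
        Ideal.Quotient.eq_zero_iff_mem.2 (Ideal.subset_span (Set.mem_range_self i)), map_zero]
    · have h2 := AlgHom.congr_fun hf (Ideal.Quotient.mk _ (MvPolynomial.X i))
      change φ (f _) = MvPolynomial.aeval s (MvPolynomial.X i) at h2
      rw [MvPolynomial.aeval_X] at h2
      exact h2

end Groth.Agent.S0517
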