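import Groth.Statements.S0520
import Groth.Agent.Hensel.Ops
import Mathlib
-- import your own Groth.Agent.* helpers here

set_option autoImplicit false
universe u
open Hensel

namespace Groth.Agent.S0520

/-- A ring `A` is Henselian at an ideal `I` in Mathlib's sense (simple roots lift) exactly when `I` lies
in the Jacobson radical and every factorization of the reduction of a monic polynomial into two
comaximal monic factors over `A/I` lifts to a factorization into monic polynomials over `A`. -/
theorem result (A : Type u) [CommRing A] (I : Ideal A) :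
    HenselianRing A I ↔ (I ≤ Ideal.jacobson ⊥ ∧
      ∀ f : Polynomial A, f.Monic → ∀ g₀ h₀ : Polynomial (A ⧸ I), g₀.Monic → h₀.Monic →
        IsCoprime g₀ h₀ → Polynomial.map (Ideal.Quotient.mk I) f = g₀ * h₀ →
        ∃ g h : Polynomial A, g.Monic ∧ h.Monic ∧ f = g * h ∧
          Polynomial.map (Ideal.Quotient.mk I) g = g₀ ∧ Polynomial.map (Ideal.Quotient.mk I) h = h₀) := by
  refine ⟨fun h => ⟨h.jac, fun f hf g₀ h₀ hg hh hc hm => ?_⟩, fun ⟨hI, h⟩ => ?_⟩
  · haveI := h
    obtain ⟨g, k, h1, h2, h3, h4, h5⟩ := Groth.Agent.Hensel.exists_factor_lift (I := I) f hf g₀ h₀ hg hh hc hm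
    exact ⟨g, k, h1, h2, h3, h4, h5⟩
  · refine Groth.Agent.Hensel.henselianRing_iff_gRoot.2 ⟨hI, fun P n hP hmap => ?_⟩
    obtain ⟨g, k, hg, hkm, hPgk, -, hk⟩ := h P hP (Polynomial.X ^ n) (Polynomial.X - 1) (Polynomial.monic_X_pow n)
      (by rw [← Polynomial.C_1]; exact Polynomial.monic_X_sub_C 1) (IsCoprime.pow_left ⟨1, -1, by ring⟩) hmap
    rcases subsingleton_or_nontrivial (A ⧸ I) with hs | hs
    · refine ⟨1, ?_, by rw [sub_self]; exact I.zero_mem⟩
      have h1 : (1 : A) ∈ I := Ideal.Quotient.eq_zero_iff_mem.1 (Subsingleton.elim _ _)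
      have h0 : IsUnit (0 : A) := by
        have := Ideal.mem_jacobson_bot.1 (hI h1) (-1)
        simpa using this
      haveI := isUnit_zero_iff.1 h0
      exact (subsingleton_of_zero_eq_one this).elim _ _
    have hdeg : k.natDegree = 1 := by
      rw [← hkm.natDegree_map (Ideal.Quotient.mk I), hk, ← Polynomial.C_1, Polynomial.natDegree_X_sub_C]
    have hk' := Polynomial.Monic.eq_X_add_C hkm hdeg
    refine ⟨-k.coeff 0, ?_, ?_⟩
    · have h0 : k.eval (-k.coeff 0) = 0 := by
        conv_lhs => rw [hk']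
        simp
      rw [Polynomial.IsRoot, hPgk, Polynomial.eval_mul, h0, mul_zero]
    · have h0 := congrArg (fun p : Polynomial (A ⧸ I) => p.coeff 0) hk
      simp only [Polynomial.coeff_map, Polynomial.coeff_sub, Polynomial.coeff_X_zero, Polynomial.coeff_one_zero, zero_sub] at h0
      rw [← Ideal.Quotient.eq, map_neg, h0, neg_neg, map_one]

end Groth.Agent.S0520
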