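import Groth.Statements.S0523
import Groth.Agent.Hensel.Ops
import Mathlib
-- import your own Groth.Agent.* helpers here

set_option autoImplicit false
universe u
open Hensel

namespace Groth.Agent.S0523

/-- `A` is Henselian at `I` exactly when for every étale `A`-algebra `A'` every `A`-algebra map `A' →
A/I` lifts to an `A`-algebra map `A' → A`. -/
theorem result (A : Type u) [CommRing A] (I : Ideal A) :
    HenselianRing A I ↔ ∀ (A' : Type u) [CommRing A'] [Algebra A A'] [Algebra.Etale A A']
      (σ : A' →ₐ[A] A ⧸ I), ∃ τ : A' →ₐ[A] A, (Ideal.Quotient.mkₐ A I).comp τ = σ := by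
  constructor
  · intro h A' _ _ _ σ
    haveI := h
    obtain ⟨τ, hτ, -⟩ := Groth.Agent.Hensel.existsUnique_algHom_lift σ
    exact ⟨τ, AlgHom.ext hτ⟩
  · intro h
    refine Groth.Agent.Hensel.henselianRing_of_lift ?_ fun E _ _ _ σ => ?_
    · intro x hx
      rw [Ideal.mem_jacobson_bot]
      intro y
      haveI : Algebra.Etale A (Localization.Away (x * y + 1)) := Algebra.Etale.of_isLocalizationAway (x * y + 1)
      have hu : IsUnit (Ideal.Quotient.mk I (x * y + 1)) := by
        rw [map_add, map_mul, Ideal.Quotient.eq_zero_iff_mem.2 hx, zero_mul, zero_add, map_one]; exact isUnit_one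
      obtain ⟨τ, -⟩ := h (Localization.Away (x * y + 1))
        (IsLocalization.Away.liftAlgHom (f := Algebra.ofId A (A ⧸ I)) (x * y + 1) hu)
      have := (IsLocalization.Away.algebraMap_isUnit (S := Localization.Away (x * y + 1)) (x * y + 1)).map τ
      rwa [AlgHom.commutes] at this
    · obtain ⟨τ, hτ⟩ := h E σ
      exact ⟨τ, fun x => AlgHom.congr_fun hτ x⟩

end Groth.Agent.S0523
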