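import Groth.Statements.S0524
import Groth.Agent.Hensel.Ops
import Mathlib
-- import your own Groth.Agent.* helpers here

set_option autoImplicit false
universe u
open Hensel

namespace Groth.Agent.S0524

/-- (1) iff (5) with the uniqueness complement: `A` is Henselian at `I` exactly when `I` lies in the
Jacobson radical and, for every `n ≥ 1` and every polynomial `p` of degree at most `n` with all
coefficients in `I`, the polynomial `Tⁿ(T-1) + p` has exactly one root congruent to `1` modulo `I`. -/
theorem result (A : Type u) [CommRing A] (I : Ideal A) :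
    HenselianRing A I ↔ (I ≤ Ideal.jacobson ⊥ ∧
      ∀ (n : ℕ), 0 < n → ∀ p : Polynomial A, p.natDegree ≤ n → (∀ i, p.coeff i ∈ I) →
        ∃! α : A, α - 1 ∈ I ∧
          Polynomial.IsRoot (Polynomial.X ^ n * (Polynomial.X - 1) + p) α) := by
  constructor
  · intro h
    refine ⟨h.jac, fun n hn p hdeg hp => ?_⟩
    haveI := h
    have hP : (Polynomial.X ^ n * (Polynomial.X - 1) + p).Monic := by
      nontriviality A
      refine ((Polynomial.monic_X_pow n).mul (by rw [← Polynomial.C_1]; exact Polynomial.monic_X_sub_C 1)).add_of_left ?_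
      refine Polynomial.degree_le_natDegree.trans_lt ?_
      rw [(show (Polynomial.X - 1 : Polynomial A).Monic by rw [← Polynomial.C_1]; exact Polynomial.monic_X_sub_C 1).degree_mul, Polynomial.degree_X_pow, ← Polynomial.C_1, Polynomial.degree_X_sub_C]
      exact_mod_cast Nat.lt_succ_of_le hdeg
    have hmap : (Polynomial.X ^ n * (Polynomial.X - 1) + p).map (Ideal.Quotient.mk I) =
        Polynomial.X ^ n * (Polynomial.X - 1) := by
      have h0 : p.map (Ideal.Quotient.mk I) = 0 := by
        ext i; rw [Polynomial.coeff_map, Polynomial.coeff_zero, Ideal.Quotient.eq_zero_iff_mem]; exact hp i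
      simp [h0]
    obtain ⟨α, hα, hα1⟩ := (Groth.Agent.Hensel.gRoot_of_henselianRing (I := I)).2 _ n hP hmap
    refine ⟨α, ⟨hα1, hα⟩, fun β ⟨hβ1, hβ⟩ => ?_⟩
    have hu : IsUnit (Ideal.Quotient.mk I ((Polynomial.X ^ n * (Polynomial.X - 1) + p).derivative.eval α)) := by
      rw [Groth.Agent.Hensel.mk_eval, ← Polynomial.derivative_map, hmap, Ideal.Quotient.eq.2 hα1, map_one,
        Polynomial.derivative_mul]
      simp
    have := Groth.Agent.Hensel.simple_root_sub_mem (I := I) (J := ⊥) h.jac _ hβ
      (by rw [hα.eq_zero]; exact Submodule.zero_mem _) hu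
      (by have := I.sub_mem hβ1 hα1; rwa [sub_sub_sub_cancel_right] at this)
    exact sub_eq_zero.1 (Ideal.mem_bot.1 this)
  · rintro ⟨hI, h⟩
    refine Groth.Agent.Hensel.henselianRing_iff_gRoot.2 ⟨hI, fun P n hP hmap => ?_⟩
    rcases subsingleton_or_nontrivial (A ⧸ I) with hs | hs
    · refine ⟨1, ?_, by rw [sub_self]; exact I.zero_mem⟩
      have h1 : (1 : A) ∈ I := Ideal.Quotient.eq_zero_iff_mem.1 (Subsingleton.elim _ _)
      have h0 : IsUnit (0 : A) := by
        have := Ideal.mem_jacobson_bot.1 (hI h1) (-1)
        simpa using this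
      exact (subsingleton_of_zero_eq_one (isUnit_zero_iff.1 h0)).elim _ _
    haveI : Nontrivial A := (Ideal.Quotient.mk I).domain_nontrivial
    have hmap' : ((Polynomial.X : Polynomial A) * P - Polynomial.X ^ (n + 1) * (Polynomial.X - 1)).map
        (Ideal.Quotient.mk I) = 0 := by
      rw [Polynomial.map_sub, Polynomial.map_mul, hmap]
      simp only [Polynomial.map_mul, Polynomial.map_pow, Polynomial.map_sub, Polynomial.map_X, Polynomial.map_one]
      ring
    have hdP : P.natDegree = n + 1 := by
      rw [← hP.natDegree_map (Ideal.Quotient.mk I), hmap, (Polynomial.monic_X_pow n).natDegree_mul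
        (by rw [← Polynomial.C_1]; exact Polynomial.monic_X_sub_C 1), Polynomial.natDegree_X_pow, ← Polynomial.C_1,
        Polynomial.natDegree_X_sub_C]
    have hdeg : ((Polynomial.X : Polynomial A) * P - Polynomial.X ^ (n + 1) * (Polynomial.X - 1)).natDegree ≤ n + 1 := by
      have hm : ((Polynomial.X : Polynomial A) ^ (n + 1) * (Polynomial.X - 1)).Monic :=
        (Polynomial.monic_X_pow _).mul (by rw [← Polynomial.C_1]; exact Polynomial.monic_X_sub_C 1)
      have h1 : (Polynomial.X * P).natDegree = n + 2 := by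
        rw [Polynomial.natDegree_X_mul hP.ne_zero, hdP]
      have h2 : ((Polynomial.X : Polynomial A) ^ (n + 1) * (Polynomial.X - 1)).natDegree = n + 2 := by
        rw [(Polynomial.monic_X_pow (n + 1)).natDegree_mul (by rw [← Polynomial.C_1]; exact Polynomial.monic_X_sub_C 1),
          Polynomial.natDegree_X_pow, ← Polynomial.C_1, Polynomial.natDegree_X_sub_C]
      rw [Polynomial.natDegree_le_iff_coeff_eq_zero]
      intro m hm'
      rcases Nat.lt_or_eq_of_le (Nat.succ_le_of_lt hm') with hlt | heq
      · rw [Polynomial.coeff_sub, Polynomial.coeff_eq_zero_of_natDegree_lt (by omega),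
          Polynomial.coeff_eq_zero_of_natDegree_lt (by omega), sub_zero]
      · rw [Polynomial.coeff_sub, ← heq, show (n + 1).succ = n + 2 from rfl]
        have c1 := (Polynomial.monic_X.mul hP).coeff_natDegree
        have c2 := hm.coeff_natDegree
        rw [h1] at c1
        rw [h2] at c2
        rw [c1, c2, sub_self]
    obtain ⟨α, ⟨hα1, hα⟩, -⟩ := h (n + 1) n.succ_pos _ hdeg (fun i => by
      rw [← Ideal.Quotient.eq_zero_iff_mem, ← Polynomial.coeff_map, hmap', Polynomial.coeff_zero])
    refine ⟨α, ?_, hα1⟩
    rw [add_sub_cancel] at hα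
    have hu : IsUnit α := Groth.Agent.Hensel.isUnit_of_mk hI (by
      rw [Ideal.Quotient.eq.2 hα1, map_one]; exact isUnit_one)
    rw [Polynomial.IsRoot, Polynomial.eval_mul, Polynomial.eval_X] at hα
    exact hu.mul_right_eq_zero.1 hα

end Groth.Agent.S0524
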