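import Groth.Statements.S0545
import Mathlib.RingTheory.Filtration

set_option autoImplicit false
universe u
open CAlg

namespace Groth.Agent.S0545

theorem aux_closure {A : Type u} [CommRing A] [IsNoetherianRing A] (K N : Ideal A)
    (hK : K ≤ Ideal.jacobson ⊥) (x : A) (hx : ∀ n : ℕ, x ∈ N ⊔ K ^ n) : x ∈ N := by
  rw [← Ideal.Quotient.eq_zero_iff_mem]
  have h : (Ideal.Quotient.mk N x : A ⧸ N) ∈ (⨅ n : ℕ, K ^ n • (⊤ : Submodule A (A ⧸ N))) := by
    refine Submodule.mem_iInf _ |>.mpr fun n => ?_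
    obtain ⟨y, hy, z, hz, rfl⟩ := Submodule.mem_sup.mp (hx n)
    rw [map_add, Ideal.Quotient.eq_zero_iff_mem.mpr hy, zero_add]
    have := Submodule.smul_mem_smul hz (Submodule.mem_top (x := (1 : A ⧸ N)))
    rwa [Algebra.smul_def, mul_one] at this
  rw [Ideal.iInf_pow_smul_eq_bot_of_le_jacobson K hK] at h
  simpa using h

theorem aux_approx {A : Type u} [CommRing A] [IsNoetherianRing A] (I J : Ideal A)
    [IsPrecomplete (Ideal.map (Ideal.Quotient.mk I) J) (A ⧸ I)] :
    ∀ (m : ℕ) (a : ℕ → A), (∀ i j, i ≤ j → a j - a i ∈ J ^ i) → ∃ b, ∀ n, a n - b ∈ I ^ m ⊔ J ^ n := by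
  intro m
  induction m with
  | zero => exact fun a _ => ⟨0, fun n => by simp⟩
  | succ m ih =>
    intro a ha
    obtain ⟨L, hL⟩ := IsPrecomplete.prec' (I := Ideal.map (Ideal.Quotient.mk I) J)
      (fun n => Ideal.Quotient.mk I (a n)) (fun {i j} hij => by
        rw [SModEq.sub_mem, smul_eq_mul, Ideal.mul_top, ← Ideal.map_pow, ← map_sub]
        apply Ideal.mem_map_of_mem
        rw [← neg_sub]
        exact neg_mem (ha i j hij))
    obtain ⟨b0, rfl⟩ := Ideal.Quotient.mk_surjective L
    have h1 : ∀ n, ∃ i ∈ I, a n - b0 - i ∈ J ^ n := by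
      intro n
      have h := hL n
      rw [SModEq.sub_mem, smul_eq_mul, Ideal.mul_top, ← Ideal.map_pow, ← map_sub,
        Ideal.mem_quotient_iff_mem_sup] at h
      obtain ⟨y, hy, z, hz, e⟩ := Submodule.mem_sup.mp h
      exact ⟨z, hz, by rw [← e]; simpa using hy⟩
    choose i hiI hij using h1
    obtain ⟨c, hc⟩ := Ideal.exists_pow_inf_eq_pow_smul J (I : Submodule A A)
    obtain ⟨s, g, hg⟩ := Submodule.fg_iff_exists_fin_generating_family.mp (IsNoetherian.noetherian I)
    have h2 : ∀ n, ∃ y : Fin s → A, (∀ l, y l ∈ J ^ n) ∧ i (n + 1 + c) - i (n + c) = ∑ l, y l * g l := by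
      intro n
      have m1 : i (n + 1 + c) - i (n + c) ∈ J ^ (n + c) • (⊤ : Submodule A A) ⊓ I := by
        refine ⟨?_, sub_mem (hiI _) (hiI _)⟩
        rw [smul_eq_mul, Ideal.mul_top]
        have e : i (n + 1 + c) - i (n + c) = (a (n + 1 + c) - a (n + c)) -
            (a (n + 1 + c) - b0 - i (n + 1 + c)) + (a (n + c) - b0 - i (n + c)) := by ring
        rw [e]
        exact add_mem (sub_mem (ha _ _ (by omega)) (Ideal.pow_le_pow_right (by omega) (hij _))) (hij _)
      rw [hc (n + c) (by omega), Nat.add_sub_cancel] at m1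
      have m2 : i (n + 1 + c) - i (n + c) ∈ J ^ n • Submodule.span A (Set.range g) :=
        hg ▸ Submodule.smul_mono le_rfl inf_le_right m1
      obtain ⟨y, hy, e⟩ := (Submodule.mem_ideal_smul_span_iff_exists_sum _ g _).mp m2
      refine ⟨y, hy, e.symm.trans ?_⟩
      exact Finsupp.sum_fintype y (fun i c => c • g i) (fun _ => zero_smul _ _)
    choose y hyJ hy using h2
    have hx : ∀ l i j, i ≤ j → (∑ k ∈ Finset.range j, y k l) - (∑ k ∈ Finset.range i, y k l) ∈ J ^ i := by
      intro l i j hij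
      rw [← Finset.sum_Ico_eq_sub _ hij]
      exact sum_mem fun k hk => Ideal.pow_le_pow_right (Finset.mem_Ico.mp hk).1 (hyJ k l)
    choose b hb using fun l => ih (fun n => ∑ k ∈ Finset.range n, y k l) (hx l)
    have hsum : ∀ n, i (n + c) = i c + ∑ l, (∑ k ∈ Finset.range n, y k l) * g l := by
      intro n
      induction n with
      | zero => simp
      | succ n ihn =>
        rw [← sub_add_cancel (i (n + 1 + c)) (i (n + c)), hy n, ihn]
        simp only [Finset.sum_range_succ, add_mul, Finset.sum_add_distrib]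
        ring
    refine ⟨b0 + i c + ∑ l, b l * g l, fun n => ?_⟩
    have key : ∑ l, (∑ k ∈ Finset.range n, y k l - b l) * g l ∈ I ^ (m + 1) ⊔ J ^ n := by
      refine sum_mem fun l _ => ?_
      obtain ⟨p, hp, q, hq, e⟩ := Submodule.mem_sup.mp (hb l n)
      rw [← e, add_mul]
      refine Submodule.add_mem_sup ?_ (Ideal.mul_mem_right _ _ hq)
      rw [pow_succ]
      exact Ideal.mul_mem_mul hp (hg ▸ Submodule.subset_span ⟨l, rfl⟩)
    have e : a n - (b0 + i c + ∑ l, b l * g l) = (a (n + c) - b0 - i (n + c)) - (a (n + c) - a n) +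
        ∑ l, (∑ k ∈ Finset.range n, y k l - b l) * g l := by
      rw [hsum n]
      simp only [sub_mul, Finset.sum_sub_distrib]
      ring
    rw [e]
    exact add_mem (Submodule.mem_sup_right
      (sub_mem (Ideal.pow_le_pow_right (by omega) (hij _)) (ha _ _ (by omega)))) key

/-- For a Noetherian ring `A` with two ideals `I` and `J`, completeness of `A` along `I` together with
completeness of the quotient `A/I` along the image of `J` forces completeness of `A` along `J`. -/
theorem result (A : Type u) [CommRing A] [IsNoetherianRing A]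
    (I J : Ideal A) [IsAdicComplete I A]
    [IsAdicComplete (Ideal.map (Ideal.Quotient.mk I) J) (A ⧸ I)] : IsAdicComplete J A := by
  have hI : I ≤ Ideal.jacobson ⊥ := IsAdicComplete.le_jacobson_bot I
  have hJ : J ≤ Ideal.jacobson ⊥ := by
    intro x hx
    rw [Ideal.jacobson, Submodule.mem_sInf]
    rintro M ⟨-, hM⟩
    have hIM : I ≤ M := hI.trans (sInf_le (show M ∈ {J : Ideal A | ⊥ ≤ J ∧ J.IsMaximal} from ⟨bot_le, hM⟩))
    have h1 := IsAdicComplete.le_jacobson_bot (Ideal.map (Ideal.Quotient.mk I) J)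
      (Ideal.mem_map_of_mem _ hx)
    have hker : RingHom.ker (Ideal.Quotient.mk I) ≤ M := by rwa [Ideal.mk_ker]
    have hmax : (Ideal.map (Ideal.Quotient.mk I) M).IsMaximal :=
      Ideal.IsMaximal.map_of_surjective_of_ker_le Ideal.Quotient.mk_surjective hker
    have h2 : Ideal.Quotient.mk I x ∈ Ideal.map (Ideal.Quotient.mk I) M :=
      (sInf_le (show Ideal.map (Ideal.Quotient.mk I) M ∈ {J : Ideal (A ⧸ I) | ⊥ ≤ J ∧ J.IsMaximal} from ⟨bot_le, hmax⟩)) h1
    rw [← Ideal.mem_comap, Ideal.comap_map_of_surjective _ Ideal.Quotient.mk_surjective] at h2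
    rwa [← RingHom.ker_eq_comap_bot, sup_of_le_left hker] at h2
  refine { toIsHausdorff := ⟨fun x hx => ?_⟩, toIsPrecomplete := ⟨fun a ha => ?_⟩ }
  · refine (Submodule.mem_bot A).mp (aux_closure J ⊥ hJ x fun n => ?_)
    simpa [SModEq.sub_mem, smul_eq_mul, Ideal.mul_top] using hx n
  · have ha' : ∀ i j, i ≤ j → a j - a i ∈ J ^ i := by
      intro i j hij
      rw [← neg_sub]
      exact neg_mem (by simpa [SModEq.sub_mem, smul_eq_mul, Ideal.mul_top] using ha hij)
    choose b hb using fun m => aux_approx I J m a ha'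
    obtain ⟨L, hL⟩ := IsPrecomplete.prec' (I := I) b (fun {i j} hij => by
      rw [SModEq.sub_mem, smul_eq_mul, Ideal.mul_top]
      refine aux_closure J _ hJ _ fun n => ?_
      rw [show b i - b j = (a n - b j) - (a n - b i) by ring]
      exact sub_mem (sup_le_sup_right (α := Ideal A) (Ideal.pow_le_pow_right hij) _ (hb j n)) (hb i n))
    refine ⟨L, fun n => ?_⟩
    rw [SModEq.sub_mem, smul_eq_mul, Ideal.mul_top]
    refine aux_closure I _ hI _ fun m => ?_
    have h := hL m
    rw [SModEq.sub_mem, smul_eq_mul, Ideal.mul_top] at h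
    rw [show a n - L = (a n - b m) + (b m - L) by ring, sup_comm]
    exact add_mem (hb m n) (Submodule.mem_sup_left h)

end Groth.Agent.S0545
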