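import Groth.Statements.S0546
import Mathlib.RingTheory.AdicCompletion.Basic
import Mathlib.RingTheory.Finiteness.Basic
import Mathlib.RingTheory.Finiteness.Cardinality
import Mathlib.RingTheory.Finiteness.Ideal

set_option autoImplicit false
universe u
open CAlg

namespace Groth.Agent.S0546

/-- If `I ≤ J` are ideals with `I` finitely generated and `M` is `J`-adically complete, then `M` is
`I`-adically complete. -/
theorem result (A : Type u) [CommRing A] (I J : Ideal A) (hIJ : I ≤ J)
    (hI : I.FG) (M : Type u) [AddCommGroup M] [Module A M] [IsAdicComplete J M] :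
    IsAdicComplete I M := by
  classical
  have hle : ∀ n, (I ^ n • ⊤ : Submodule A M) ≤ J ^ n • ⊤ := fun n =>
    Submodule.smul_mono_left (Ideal.pow_right_mono hIJ n)
  refine { toIsHausdorff := ⟨fun x hx => ?_⟩, toIsPrecomplete := ⟨fun f hf => ?_⟩ }
  · exact IsHausdorff.haus (inferInstance : IsHausdorff J M) x fun n =>
      SModEq.zero.2 (hle n (SModEq.zero.1 (hx n)))
  obtain ⟨L, hL⟩ := IsPrecomplete.prec (inferInstance : IsPrecomplete J M) (f := f) fun {a b} hab => by
    rw [SModEq.sub_mem]; exact hle a (SModEq.sub_mem.1 (hf hab))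
  refine ⟨L, fun n => ?_⟩
  obtain ⟨r, g, hg⟩ := Submodule.fg_iff_exists_fin_generating_family.1 (Ideal.FG.pow (n := n) hI)
  have hgI : ∀ l, g l ∈ I ^ n := fun l => hg.le (Submodule.subset_span ⟨l, rfl⟩)
  -- split the increments along the generators
  have hdec : ∀ j, ∃ y : Fin r → M, (∀ l, y l ∈ (I ^ j • ⊤ : Submodule A M)) ∧
      f (n + (j + 1)) - f (n + j) = ∑ l, g l • y l := by
    intro j
    have h1 : f (n + (j + 1)) - f (n + j) ∈ (I ^ n • (I ^ j • ⊤) : Submodule A M) := by
      rw [← Submodule.mul_smul, ← pow_add, ← neg_sub]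
      exact Submodule.neg_mem _ (SModEq.sub_mem.1 (hf (by omega)))
    refine Submodule.smul_induction_on h1 (fun a ha v hv => ?_) ?_
    · obtain ⟨c, hc⟩ := (Submodule.mem_span_range_iff_exists_fun A).1 (hg.ge ha)
      refine ⟨fun l => c l • v, fun l => Submodule.smul_mem _ _ hv, ?_⟩
      rw [← hc, Finset.sum_smul]
      exact Finset.sum_congr rfl fun l _ => by rw [smul_eq_mul, mul_comm, mul_smul]
    · rintro p q ⟨y, hy, rfl⟩ ⟨y', hy', rfl⟩
      exact ⟨y + y', fun l => Submodule.add_mem _ (hy l) (hy' l), by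
        simp [Finset.sum_add_distrib]⟩
  choose y hy hfy using hdec
  let z : Fin r → ℕ → M := fun l k => ∑ j ∈ Finset.range k, y j l
  choose Y hY using fun l => IsPrecomplete.prec (inferInstance : IsPrecomplete J M) (f := z l)
    fun {a b} hab => by
      rw [SModEq.sub_mem, ← neg_sub, ← Finset.sum_Ico_eq_sub _ hab]
      refine Submodule.neg_mem _ (Submodule.sum_mem _ fun j hj => ?_)
      exact Submodule.smul_mono_left (Ideal.pow_le_pow_right (Finset.mem_Ico.1 hj).1) (hle j (hy j l))
  have htel : ∀ k, f (n + k) - f n = ∑ l, g l • z l k := by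
    intro k
    induction k with
    | zero => simp [z]
    | succ k ih =>
      rw [show f (n + (k + 1)) - f n = (f (n + (k + 1)) - f (n + k)) + (f (n + k) - f n) by abel,
        hfy, ih, ← Finset.sum_add_distrib]
      refine Finset.sum_congr rfl fun l _ => ?_
      rw [← smul_add]
      simp [z, Finset.sum_range_succ, add_comm]
  have hlim : L - f n - ∑ l, g l • Y l = 0 := by
    refine IsHausdorff.haus (inferInstance : IsHausdorff J M) _ fun k => SModEq.zero.2 ?_
    have e1 : L - f (n + k) ∈ (J ^ k • ⊤ : Submodule A M) := by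
      rw [← neg_sub]
      exact Submodule.neg_mem _ (Submodule.smul_mono_left (Ideal.pow_le_pow_right (by omega))
        (SModEq.sub_mem.1 (hL (n + k))))
    have e2 : ∑ l, g l • z l k - ∑ l, g l • Y l ∈ (J ^ k • ⊤ : Submodule A M) := by
      rw [← Finset.sum_sub_distrib]
      refine Submodule.sum_mem _ fun l _ => ?_
      rw [← smul_sub]
      exact Submodule.smul_mem _ _ (SModEq.sub_mem.1 (hY l k))
    rw [← htel k] at e2
    convert Submodule.add_mem _ e1 e2 using 1
    abel
  rw [SModEq.sub_mem, ← neg_sub, sub_eq_zero.1 hlim]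
  exact Submodule.neg_mem _ (Submodule.sum_mem _ fun l _ =>
    Submodule.smul_mem_smul (hgI l) Submodule.mem_top)

end Groth.Agent.S0546
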