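import Groth.Statements.S0547
import Groth.Agent.AdicBasics.Dimension

set_option autoImplicit false
universe u
open CAlg

namespace Groth.Agent.S0547

/-- The completion of a Noetherian local ring at its maximal ideal has the same Krull dimension as the
ring. -/
theorem result (A : Type u) [CommRing A] [IsLocalRing A]
    [IsNoetherianRing A] :
    ringKrullDim (AdicCompletion (IsLocalRing.maximalIdeal A) A) = ringKrullDim A := by
  exact Groth.Agent.AdicBasics.ringKrullDim_completion A

end Groth.Agent.S0547
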