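import Groth.Statements.S0553
import Groth.Agent.Catenary.Ring

set_option autoImplicit false
universe u
open CAlg

namespace Groth.Agent.S0553

/-- A Noetherian ring is universally catenary exactly when its localization at every maximal ideal is
universally catenary. -/
theorem result (R : Type u) [CommRing R]
    [IsNoetherianRing R] :
    CAlg.IsUniversallyCatenary R ↔
      ∀ (m : Ideal R) [m.IsMaximal], CAlg.IsUniversallyCatenary (Localization.AtPrime m) := by
  exact ⟨fun h m _ => Groth.Agent.Catenary.isUniversallyCatenary_of_isLocalization m.primeCompl _ h,
    Groth.Agent.Catenary.isUniversallyCatenary_of_forall_maximal⟩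

end Groth.Agent.S0553
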