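import Groth.Statements.S0556
import Groth.Agent.DvrDom.KrullAkizuki
import Mathlib.RingTheory.Algebraic.Integral
import Mathlib.RingTheory.Ideal.GoingUp
import Mathlib.RingTheory.KrullDimension.Basic

set_option autoImplicit false
universe u
open CAlg Groth.Agent

namespace Groth.Agent.S0556

/-- Any domain `A` sandwiched between a one-dimensional Noetherian domain `R` and a field `L` of finite
degree over the fraction field of `R` is itself Noetherian. -/
theorem result (R : Type u) [CommRing R]
    [IsDomain R] [IsNoetherianRing R] (hdim : ringKrullDim R = 1) (K L : Type u) [Field K] [Field L]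
    [Algebra R K] [IsFractionRing R K] [Algebra K L] [FiniteDimensional K L] [Algebra R L]
    [IsScalarTower R K L] (A : Type u) [CommRing A] [Algebra R A] [Algebra A L]
    [IsScalarTower R A L] (hA : Function.Injective (algebraMap A L)) :
    IsNoetherianRing A := by
  classical
  haveI : IsDomain A := hA.isDomain
  haveI : Ring.KrullDimLE 1 R := by
    rw [Ring.krullDimLE_iff]; exact hdim.le
  haveI : Algebra.IsAlgebraic R K := IsLocalization.isAlgebraic K (nonZeroDivisors R)
  haveI : Algebra.IsAlgebraic R L := Algebra.IsAlgebraic.trans R K L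
  have hRL : Function.Injective (algebraMap R L) := by
    rw [IsScalarTower.algebraMap_eq R K L]
    exact (algebraMap K L).injective.comp (IsFractionRing.injective R K)
  have hmul : ∀ a : A, ∃ y : R, y ≠ 0 ∧ IsIntegral R (y • algebraMap A L a) := fun a =>
    (Algebra.IsAlgebraic.isAlgebraic (R := R) (algebraMap A L a)).exists_integral_multiple
  choose y hy0 hyint using hmul
  -- a finite set of integral elements of `A` spanning the `K`-span of `A`
  obtain ⟨s, hs, hspan⟩ : ∃ s : Finset A, (∀ a ∈ s, IsIntegral R (algebraMap A L a)) ∧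
      ∀ a : A, algebraMap A L a ∈ Submodule.span K ((algebraMap A L) '' (s : Set A)) := by
    have hV : (Submodule.span K (Set.range (algebraMap A L))).FG := IsNoetherian.noetherian _
    obtain ⟨t, htsub, hteq⟩ := (Submodule.fg_span_iff_fg_span_finset_subset _).1 hV
    have htA : ∀ x ∈ t, ∃ a : A, algebraMap A L a = x := fun x hx => htsub hx
    choose! pre hpre using htA
    refine ⟨t.image (fun x => y (pre x) • pre x), fun a ha => ?_, fun a => ?_⟩
    · obtain ⟨x, -, rfl⟩ := Finset.mem_image.1 ha
      rw [Algebra.smul_def, map_mul, ← IsScalarTower.algebraMap_apply, ← Algebra.smul_def]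
      exact hyint _
    · have h1 : algebraMap A L a ∈ Submodule.span K (t : Set L) := hteq ▸ Submodule.subset_span ⟨a, rfl⟩
      refine Submodule.span_le.2 (fun x hx => ?_) h1
      have h2 : algebraMap A L (y (pre x) • pre x) = algebraMap R K (y (pre x)) • x := by
        rw [Algebra.smul_def, map_mul, ← IsScalarTower.algebraMap_apply, hpre x hx, Algebra.smul_def,
          ← IsScalarTower.algebraMap_apply]
      have hne : algebraMap R K (y (pre x)) ≠ 0 := fun h =>
        hy0 _ (IsFractionRing.injective R K (h.trans (map_zero _).symm))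
      rw [SetLike.mem_coe, ← inv_smul_smul₀ hne x, ← h2]
      exact Submodule.smul_mem _ _ (Submodule.subset_span
        ⟨_, Finset.mem_coe.2 (Finset.mem_image_of_mem _ (Finset.mem_coe.1 hx)), rfl⟩)
  let C : Subalgebra R L := Algebra.adjoin R ((algebraMap A L) '' (s : Set A))
  have hsint : ∀ x ∈ (algebraMap A L) '' (s : Set A), IsIntegral R x := by
    rintro _ ⟨a, ha, rfl⟩; exact hs a ha
  haveI : Module.Finite R C := ⟨(Submodule.fg_top _).2
    (fg_adjoin_of_finite ((Finset.finite_toSet s).image _) hsint)⟩
  haveI : IsNoetherianRing C := IsNoetherianRing.of_finite R C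
  haveI : Ring.KrullDimLE 1 C := by
    rw [Ring.krullDimLE_one_iff_of_noZeroDivisors]
    intro P hP hPp
    haveI := hPp
    refine Ideal.isMaximal_of_isIntegral_of_isMaximal_comap (R := R) P ?_
    exact Ring.krullDimLE_one_iff_of_noZeroDivisors.1 inferInstance _
      (fun h => hP (Ideal.eq_bot_of_comap_eq_bot h)) (hPp.comap _)
  have hCA : ∀ x ∈ C, ∃ a : A, algebraMap A L a = x := fun x hx => by
    refine (Algebra.adjoin_le (S := (IsScalarTower.toAlgHom R A L).range) ?_) hx
    rintro _ ⟨a, -, rfl⟩; exact ⟨a, rfl⟩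
  let φ : FractionRing C →ₐ[C] L :=
    { (IsFractionRing.lift (A := C) (K := FractionRing C) (g := C.val.toRingHom) Subtype.val_injective) with
      commutes' := fun c => IsFractionRing.lift_algebraMap _ c }
  have hrange : ∀ a : A, ∃ z, φ z = algebraMap A L a := fun a => by
    have hfield : ∀ k : K, ∃ z, φ z = algebraMap K L k := fun k => by
      obtain ⟨r, r', hr', rfl⟩ := IsFractionRing.div_surjective (A := R) k
      refine ⟨algebraMap C _ (algebraMap R C r) / algebraMap C _ (algebraMap R C r'), ?_⟩
      rw [map_div₀, map_div₀, φ.commutes, φ.commutes, ← IsScalarTower.algebraMap_apply,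
        ← IsScalarTower.algebraMap_apply]
      exact congrArg₂ (· / ·) (IsScalarTower.algebraMap_apply R K L r) (IsScalarTower.algebraMap_apply R K L r')
    refine Submodule.span_induction ?_ ⟨0, map_zero _⟩ ?_ ?_ (hspan a)
    · intro x hx
      exact ⟨algebraMap C _ ⟨x, Algebra.subset_adjoin hx⟩, φ.commutes _⟩
    · rintro _ _ _ _ ⟨z, rfl⟩ ⟨w, rfl⟩; exact ⟨z + w, map_add _ _ _⟩
    · rintro k _ _ ⟨z, rfl⟩
      obtain ⟨w, hw⟩ := hfield k
      exact ⟨w * z, by rw [map_mul, hw, Algebra.smul_def]⟩
  let D : Subalgebra C (FractionRing C) :=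
    { carrier := {z | ∃ a : A, algebraMap A L a = φ z}
      add_mem' := fun {z w} ⟨a, ha⟩ ⟨b, hb⟩ => ⟨a + b, by rw [map_add, map_add, ha, hb]⟩
      mul_mem' := fun {z w} ⟨a, ha⟩ ⟨b, hb⟩ => ⟨a * b, by rw [map_mul, map_mul, ha, hb]⟩
      algebraMap_mem' := fun c => by
        obtain ⟨a, ha⟩ := hCA c c.2
        exact ⟨a, by rw [ha, φ.commutes]; rfl⟩ }
  haveI := DvrDom.isNoetherianRing_subalgebra D
  have hD : ∀ z : D, ∃ a : A, algebraMap A L a = φ (z : FractionRing C) := fun z => z.2
  choose g hg using hD
  let gh : D →+* A :=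
    { toFun := g
      map_one' := hA (by rw [hg, map_one]; exact map_one φ)
      map_mul' := fun z w => hA (by rw [hg, map_mul, hg, hg]; exact map_mul φ _ _)
      map_zero' := hA (by rw [hg, map_zero]; exact map_zero φ)
      map_add' := fun z w => hA (by rw [hg, map_add, hg, hg]; exact map_add φ _ _) }
  refine isNoetherianRing_of_surjective D A gh fun a => ?_
  obtain ⟨z, hz⟩ := hrange a
  exact ⟨⟨z, a, hz.symm⟩, hA ((hg _).trans hz)⟩

end Groth.Agent.S0556
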