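import Groth.Statements.S0570
import Groth.Agent.Nagata.Japanese

set_option autoImplicit false
universe u
open CAlg

namespace Groth.Agent.S0570

/-- If a Noetherian domain is N-1 (resp. N-2) then so is the polynomial ring in one variable over it. -/
theorem result (R : Type u) [CommRing R] [IsDomain R] [IsNoetherianRing R] :
    (CAlg.IsN1 R → CAlg.IsN1 (Polynomial R)) ∧ (CAlg.IsN2 R → CAlg.IsN2 (Polynomial R)) := by
  refine ⟨fun h => ?_, Nagata.isN2_polynomial⟩
  classical
  let K := FractionRing R
  let A' := integralClosure R K
  haveI : Module.Finite R A' := h
  haveI : IsIntegrallyClosed A' := integralClosure.isIntegrallyClosedOfFiniteExtension K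
  haveI : IsNoetherianRing A' := IsNoetherianRing.of_finite R A'
  let P := Polynomial R
  let P' := Polynomial A'
  let σ : P →+* P' := Polynomial.mapRingHom (algebraMap R A')
  letI : Algebra P P' := σ.toAlgebra
  haveI : Module.Finite P P' := by
    obtain ⟨S, hS⟩ := (Module.Finite.fg_top : (⊤ : Submodule R A').FG)
    refine ⟨⟨S.image Polynomial.C, eq_top_iff.mpr fun f hftop => ?_⟩⟩
    clear hftop
    induction f using Polynomial.induction_on' with
    | add f g hf hg => exact add_mem hf hg
    | monomial n a =>
      have ha : a ∈ Submodule.span R (S : Set A') := hS ▸ trivial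
      induction ha using Submodule.span_induction with
      | mem s hs =>
        have h1 : Polynomial.monomial n s = (Polynomial.X ^ n : P) • Polynomial.C s := by
          rw [Algebra.smul_def, show algebraMap P P' (Polynomial.X ^ n) = Polynomial.X ^ n by
            show σ _ = _
            rw [map_pow]; exact congrArg (· ^ n) (Polynomial.map_X _), Polynomial.X_pow_mul, Polynomial.C_mul_X_pow_eq_monomial]
        rw [h1]
        refine Submodule.smul_mem _ _ (Submodule.subset_span ?_)
        rw [Finset.coe_image]
        exact ⟨s, hs, rfl⟩
      | zero => rw [map_zero]; exact zero_mem _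
      | add a b _ _ ha hb => rw [map_add]; exact add_mem ha hb
      | smul c a _ ha =>
        have h1 : Polynomial.monomial n (c • a) = (Polynomial.C c : P) • Polynomial.monomial n a := by
          rw [Algebra.smul_def c a, Algebra.smul_def, show algebraMap P P' (Polynomial.C c) = Polynomial.C (algebraMap R A' c) by
            show σ _ = _
            exact Polynomial.map_C _, Polynomial.C_mul_monomial]
        rw [h1]
        exact Submodule.smul_mem _ _ ha
  haveI : FaithfulSMul R A' := (faithfulSMul_iff_algebraMap_injective _ _).mpr fun a b hab =>
    IsFractionRing.injective R K (congrArg Subtype.val hab)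
  let Q := FractionRing P'
  have hg : Function.Injective (Algebra.ofId P Q) := by
    show Function.Injective (algebraMap P Q)
    rw [IsScalarTower.algebraMap_eq P P' Q]
    exact (IsFractionRing.injective P' Q).comp (Polynomial.map_injective _ (FaithfulSMul.algebraMap_injective R A'))
  haveI : Module.Finite P (integralClosure P Q) := by
    let g : P' →ₗ[P] integralClosure P Q :=
      ((IsScalarTower.toAlgHom P P' Q).toLinearMap).codRestrict (integralClosure P Q).toSubmodule fun f => by
        haveI : Algebra.IsIntegral P P' := Algebra.IsIntegral.of_finite _ _
        exact (Algebra.IsIntegral.isIntegral f).algebraMap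
    refine Module.Finite.of_surjective g fun z => ?_
    obtain ⟨f, hf⟩ := IsIntegrallyClosed.isIntegral_iff.mp ((z.2 : IsIntegral P (z : Q)).tower_top (A := P'))
    exact ⟨f, Subtype.ext hf⟩
  let j : FractionRing P →ₐ[P] Q := IsFractionRing.liftAlgHom hg
  exact Nagata.finite_closure_of_algHom j j.injective inferInstance

end Groth.Agent.S0570
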