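import Groth.Statements.S0571
import Groth.Agent.NormLoc.Frac

set_option autoImplicit false
universe u
open CAlg Groth.Agent

namespace Groth.Agent.S0571

/-- A Noetherian domain `R` is N-1 exactly when (a) `R_f` is integrally closed for some nonzero `f`, and
(b) the localization of `R` at every maximal ideal is N-1. -/
theorem result (R : Type u) [CommRing R] [IsDomain R]
    [IsNoetherianRing R] :
    CAlg.IsN1 R ↔ ((∃ f : R, f ≠ 0 ∧ IsIntegrallyClosed (Localization.Away f)) ∧
      ∀ (m : Ideal R) [m.IsMaximal], CAlg.IsN1 (Localization.AtPrime m)) := by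
  classical
  set N0 := LinearMap.range (Algebra.linearMap R (FractionRing R)) with hN0
  have hN0fg : N0.FG := by rw [hN0, ← Submodule.map_top]; exact Submodule.FG.map _ ⟨{1}, by simp⟩
  constructor
  · intro h
    obtain ⟨s, hs⟩ := (Module.Finite.iff_fg (N := (integralClosure R (FractionRing R)).toSubmodule)).1 h
    refine ⟨?_, fun m _ => ?_⟩
    · obtain ⟨b, hb⟩ := IsLocalization.exist_integer_multiples_of_finset (nonZeroDivisors R) s
      refine ⟨b, nonZeroDivisors.ne_zero b.2, (NormLoc.away_iff (nonZeroDivisors.ne_zero b.2)).2 fun y hy => ⟨1, ?_⟩⟩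
      have hy' : y ∈ Submodule.span R (s : Set (FractionRing R)) := hs.symm ▸ hy
      rw [pow_one]
      refine Submodule.span_induction ?_ ?_ ?_ ?_ hy'
      · intro x hx; obtain ⟨a, ha⟩ := hb x hx; exact ⟨a, ha⟩
      · simp
      · intro x y _ _ hx hy; rw [smul_add]; exact add_mem hx hy
      · intro r x _ hx; rw [smul_comm]; exact Submodule.smul_mem _ r hx
    · refine (NormLoc.isN1_iff_loc m.primeCompl m.primeCompl_le_nonZeroDivisors (Localization.AtPrime m)).2
        ⟨s, fun x hx => (show x ∈ (integralClosure R (FractionRing R)).toSubmodule from hs ▸ Submodule.subset_span hx),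
          fun y hy => ⟨1, one_mem _, ?_⟩⟩
      rw [one_smul, hs]; exact hy
  · rintro ⟨⟨f, hf, hfn⟩, hm⟩
    have h1 : f • (1 : FractionRing R) ≠ 0 := by
      rw [← Algebra.algebraMap_eq_smul_one]
      simpa using hf
    have hfy := (NormLoc.away_iff hf).1 hfn
    choose s hs hspan using fun m : MaximalSpectrum R =>
      (NormLoc.isN1_iff_loc m.asIdeal.primeCompl m.asIdeal.primeCompl_le_nonZeroDivisors
        (Localization.AtPrime m.asIdeal)).1 (hm m.asIdeal)
    let U : MaximalSpectrum R → Set (PrimeSpectrum R) := fun m =>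
      {p | NormLoc.Good (N0 ⊔ Submodule.span R (s m : Set (FractionRing R))) p.asIdeal}
    have hU : ∀ m, IsOpen (U m) := fun m => NormLoc.isOpen_good _
      (hN0fg.sup (Submodule.fg_span (s m).finite_toSet)) f h1
      fun y hy => (hfy y hy).imp fun _ h => Submodule.mem_sup_left h
    have hcover : (Set.univ : Set (PrimeSpectrum R)) ⊆ ⋃ m, U m := by
      intro p _
      obtain ⟨M, hM, hle⟩ := Ideal.exists_le_maximal p.asIdeal p.2.ne_top
      refine Set.mem_iUnion.2 ⟨⟨M, hM⟩, fun y hy => ?_⟩
      obtain ⟨r, hr, h⟩ := hspan ⟨M, hM⟩ y hy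
      exact ⟨r, fun hrp => hr (hle hrp), Submodule.mem_sup_right h⟩
    obtain ⟨t, ht⟩ := isCompact_univ.elim_finite_subcover U hU hcover
    let N := N0 ⊔ Submodule.span R ((t.biUnion s : Finset _) : Set (FractionRing R))
    have hN : N.FG := hN0fg.sup (Submodule.fg_span (t.biUnion s).finite_toSet)
    have hle : N ≤ (integralClosure R (FractionRing R)).toSubmodule := by
      refine sup_le ?_ (Submodule.span_le.2 fun x hx => ?_)
      · rintro _ ⟨a, rfl⟩; exact isIntegral_algebraMap
      · obtain ⟨m, -, hm⟩ := Finset.mem_biUnion.1 hx; exact hs m x hm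
    have hge : (integralClosure R (FractionRing R)).toSubmodule ≤ N := by
      intro y hy
      by_contra hyN
      let J : Ideal R := N.comap (LinearMap.toSpanSingleton R _ y)
      have hJ : J ≠ ⊤ := fun h => hyN (by
        have : (1 : R) • y ∈ N := (h ▸ Submodule.mem_top : (1 : R) ∈ J)
        rwa [one_smul] at this)
      obtain ⟨M, hM, hJM⟩ := Ideal.exists_le_maximal J hJ
      obtain ⟨m, hm, hMm⟩ := Set.mem_iUnion₂.1 (ht (Set.mem_univ (⟨M, hM.isPrime⟩ : PrimeSpectrum R)))
      obtain ⟨r, hr, hry⟩ := NormLoc.Good.mono (N' := N) (sup_le_sup_left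
        (Submodule.span_mono (Finset.coe_subset.2 (Finset.subset_biUnion_of_mem s hm))) _) hMm y hy
      exact hr (hJM hry)
    exact (Module.Finite.iff_fg (N := (integralClosure R (FractionRing R)).toSubmodule)).2
      (le_antisymm hle hge ▸ hN)

end Groth.Agent.S0571
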