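import Groth.Statements.S0572
import Groth.Agent.NormLoc.Frac

set_option autoImplicit false
universe u
open CAlg Groth.Agent

namespace Groth.Agent.S0572

/-- Let `R` be a Noetherian domain such that `R_f` is integrally closed for some nonzero `f`. Then the
set of primes `p` with `R_p` integrally closed is open in `Spec R`. -/
theorem result (R : Type u) [CommRing R] [IsDomain R] [IsNoetherianRing R] (f : R)
    (hf : f ≠ 0) (hn : IsIntegrallyClosed (Localization.Away f)) :
    IsOpen {p : PrimeSpectrum R | IsIntegrallyClosed (Localization.AtPrime p.asIdeal)} := by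
  have h1 : f • (1 : FractionRing R) ≠ 0 := by
    rw [← Algebra.algebraMap_eq_smul_one]
    simpa using hf
  have hset : {p : PrimeSpectrum R | IsIntegrallyClosed (Localization.AtPrime p.asIdeal)} =
      {p : PrimeSpectrum R | NormLoc.Good (LinearMap.range (Algebra.linearMap R (FractionRing R))) p.asIdeal} :=
    Set.ext fun p => (NormLoc.good_range_iff p.asIdeal).symm
  rw [hset]
  refine NormLoc.isOpen_good _ ?_ f h1 ((NormLoc.away_iff hf).1 hn)
  rw [← Submodule.map_top]
  exact Submodule.FG.map _ ⟨{1}, by simp⟩

end Groth.Agent.S0572
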