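import Groth.Statements.S0574
import Groth.Agent.Nagata.Basic

set_option autoImplicit false
universe u
open CAlg

namespace Groth.Agent.S0574

/-- For Noetherian domains of characteristic zero the conditions N-1 and N-2 coincide. -/
theorem result (R : Type u) [CommRing R] [IsDomain R] [IsNoetherianRing R]
    [CharZero R] : CAlg.IsN1 R ↔ CAlg.IsN2 R := by
  refine ⟨fun h => ?_, Nagata.isN1_of_isN2⟩
  let C := integralClosure R (FractionRing R)
  haveI : Module.Finite R C := h
  haveI : IsNoetherianRing C := IsNoetherianRing.of_finite R C
  haveI : IsFractionRing C (FractionRing R) := integralClosure.isFractionRing_of_finite_extension (FractionRing R) (FractionRing R)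
  haveI : IsIntegrallyClosed C := integralClosure.isIntegrallyClosedOfFiniteExtension (FractionRing R)
  haveI : CharZero C := charZero_of_injective_algebraMap (R := R) (A := C) fun a b hab =>
    IsFractionRing.injective R (FractionRing R) (congrArg Subtype.val hab)
  intro L _ _ _ _ hfd
  haveI : FiniteDimensional (FractionRing R) L := hfd
  haveI : IsScalarTower R C L := IsScalarTower.of_algebraMap_eq fun a => IsScalarTower.algebraMap_apply R (FractionRing R) L a
  haveI := Nagata.finite_closure_of_frac (Nagata.isN2_of_charZero (A := C)) (FractionRing R) L
  haveI : Module.Finite R (integralClosure C L) := Module.Finite.trans C _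
  haveI : IsNoetherian R (integralClosure C L) := isNoetherian_of_isNoetherianRing_of_finite R (integralClosure C L)
  let f : integralClosure R L →ₗ[R] integralClosure C L :=
    { toFun := fun z => ⟨z, IsIntegral.tower_top (z.2 : IsIntegral R (z : L))⟩
      map_add' := fun _ _ => rfl
      map_smul' := fun _ _ => rfl }
  exact Module.Finite.of_injective f fun z w hzw => Subtype.ext (congrArg Subtype.val hzw :)

end Groth.Agent.S0574
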