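import Groth.Statements.S0577
import Groth.Agent.Nagata.Unramified

set_option autoImplicit false
universe u
open CAlg
open scoped TensorProduct

namespace Groth.Agent.S0577

/-- Let `A` be a Noetherian local domain of prime characteristic `p` which is a Nagata ring. If `a ∈ A`
has a `p`-th root in the completion of `A`, then it has a `p`-th root in `A`. -/
theorem result (A : Type u) [CommRing A] [IsDomain A]
    [IsLocalRing A] (hA : CAlg.IsNagata A) (p : ℕ) [Fact p.Prime] [CharP A p] (a : A)
    (h : ∃ α : AdicCompletion (IsLocalRing.maximalIdeal A) A,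
      α ^ p = algebraMap A (AdicCompletion (IsLocalRing.maximalIdeal A) A) a) :
    ∃ b : A, b ^ p = a := by
  haveI := hA.1
  obtain ⟨α, hα⟩ := h
  let C := AdicCompletion (IsLocalRing.maximalIdeal A) A
  let K := FractionRing A
  let Kb := AlgebraicClosure K
  haveI : CharP Kb p := charP_of_injective_algebraMap
    (((algebraMap K Kb).injective).comp (IsFractionRing.injective A K) : Function.Injective ((algebraMap K Kb).comp (algebraMap A K))) p
  obtain ⟨β, hβ⟩ := IsAlgClosed.exists_pow_nat_eq (algebraMap A Kb a) (Nat.pos_of_ne_zero (NeZero.ne p))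
  let B := Algebra.adjoin A ({β} : Set Kb)
  have hint : IsIntegral A β := ⟨Polynomial.X ^ p - Polynomial.C a, Polynomial.monic_X_pow_sub_C a (NeZero.ne p), by simp [hβ]⟩
  haveI : Module.Finite A B := Module.Finite.iff_fg.2 hint.fg_adjoin_singleton
  haveI : IsDomain B := inferInstance
  haveI : Algebra.IsIntegral A B := Algebra.IsIntegral.of_finite A B
  obtain ⟨d, hd⟩ := Groth.Agent.SerreReg.exists_dim_nat A
  have hdim : ringKrullDim B ≤ ringKrullDim A :=
    Order.krullDim_le_of_strictMono (PrimeSpectrum.comap (algebraMap A B))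
      fun x y hxy => (Ideal.IsIntegral.comap_lt_comap (R := A) hxy : _)
  haveI := Groth.Agent.Nagata.isReduced_tensor hA (d + 1) B (hdim.trans_lt (by rw [hd]; exact_mod_cast Nat.lt_succ_self d))
  let b : B := ⟨β, Algebra.subset_adjoin rfl⟩
  have hb : b ^ p = algebraMap A B a := Subtype.ext hβ
  have hinjA : Function.Injective (algebraMap A B) := fun x y hxy =>
    IsFractionRing.injective A K ((algebraMap K Kb).injective (congrArg Subtype.val hxy :))
  haveI : Module.Flat A C := inferInstance
  haveI : IsLocalHom (algebraMap A C) := inferInstance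
  haveI : Module.FaithfullyFlat A C := Module.FaithfullyFlat.of_flat_of_isLocalHom
  have hinjT : Function.Injective (algebraMap A (B ⊗[A] C)) := fun x y hxy => hinjA
    (Module.FaithfullyFlat.tensorProduct_mk_injective (A := A) (B := C) B (by
      have := congrArg (Algebra.TensorProduct.comm A B C) hxy
      simpa [Algebra.TensorProduct.algebraMap_apply] using this))
  haveI : CharP (B ⊗[A] C) p := charP_of_injective_algebraMap hinjT p
  have hz : b ⊗ₜ[A] (1 : C) = (1 : B) ⊗ₜ[A] α := by
    refine sub_eq_zero.1 (eq_zero_of_pow_eq_zero (n := p) ?_)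
    rw [sub_pow_char, Algebra.TensorProduct.tmul_pow, Algebra.TensorProduct.tmul_pow, one_pow, one_pow, hb, hα,
      Algebra.algebraMap_eq_smul_one, Algebra.algebraMap_eq_smul_one, TensorProduct.smul_tmul, sub_self]
  let N : Submodule A B := LinearMap.range (Algebra.linearMap A B)
  have h0 : (N.mkQ b) ⊗ₜ[A] (1 : C) = 0 := by
    have h1 := congrArg (N.mkQ.rTensor C) hz
    rw [LinearMap.rTensor_tmul, LinearMap.rTensor_tmul,
      show N.mkQ (1 : B) = 0 from (Submodule.Quotient.mk_eq_zero N).2 ⟨1, (algebraMap A B).map_one⟩, TensorProduct.zero_tmul] at h1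
    exact h1
  have h1 : N.mkQ b = 0 := by
    have h2 : (1 : C) ⊗ₜ[A] (N.mkQ b) = 0 := by
      have := congrArg (TensorProduct.comm A (B ⧸ N) C) h0
      simpa using this
    exact Module.FaithfullyFlat.tensorProduct_mk_injective (A := A) (B := C) (B ⧸ N) (by simpa using h2)
  obtain ⟨c, hc⟩ := (Submodule.Quotient.mk_eq_zero N).1 h1
  exact ⟨c, hinjA (by rw [map_pow, show algebraMap A B c = b from hc, hb])⟩

end Groth.Agent.S0577
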