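import Groth.Statements.S0587
import Mathlib.LinearAlgebra.TensorProduct.Pi
import Mathlib.LinearAlgebra.TensorProduct.Finiteness
import Mathlib.RingTheory.Finiteness.Cardinality
import Mathlib.LinearAlgebra.TensorProduct.RightExactness

set_option autoImplicit false
universe u
open CAlg

namespace Groth.Agent.S0587

/-- A module `M` is finitely generated exactly when for every family of modules `(Qᵢ)` the natural map
from `M ⊗ ∏ Qᵢ` to `∏ (M ⊗ Qᵢ)` is surjective. -/
theorem result (R : Type u) [CommRing R] (M : Type u)
    [AddCommGroup M] [Module R M] :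
    Module.Finite R M ↔ ∀ (ι : Type u) (Q : ι → Type u) [∀ i, AddCommGroup (Q i)]
      [∀ i, Module R (Q i)], Function.Surjective (TensorProduct.piRightHom R R M Q) := by
  classical
  constructor
  · intro _ ι Q _ _ y
    obtain ⟨n, π, hπ⟩ := Module.Finite.exists_fin' R M
    have : ∀ i, ∃ q : Fin n → Q i, ∑ j, π (Pi.single j 1) ⊗ₜ[R] q j = y i := by
      intro i
      induction y i with
      | zero => exact ⟨0, by simp⟩
      | add a b ha hb =>
        obtain ⟨p, hp⟩ := ha; obtain ⟨q, hq⟩ := hb
        exact ⟨p + q, by simp [TensorProduct.tmul_add, Finset.sum_add_distrib, hp, hq]⟩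
      | tmul m q =>
        obtain ⟨c, rfl⟩ := hπ m
        refine ⟨fun j => c j • q, ?_⟩
        conv_rhs => rw [pi_eq_sum_univ' c, map_sum, TensorProduct.sum_tmul]
        simp [TensorProduct.tmul_smul, TensorProduct.smul_tmul']
    choose q hq using this
    refine ⟨∑ j, π (Pi.single j 1) ⊗ₜ[R] fun i => q i j, ?_⟩
    funext i
    rw [map_sum, Finset.sum_apply]
    simpa using hq i
  · intro h
    obtain ⟨z, hz⟩ := h M (fun _ => R) (fun m => m ⊗ₜ[R] (1 : R))
    obtain ⟨N, hN, hzN⟩ := TensorProduct.exists_finite_submodule_left_of_setFinite {z} (Set.finite_singleton z)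
    obtain ⟨w, rfl⟩ := hzN rfl
    refine ⟨?_⟩
    suffices (⊤ : Submodule R M) = N by rw [this]; exact Module.Finite.iff_fg.1 hN
    refine le_antisymm (fun m _ => ?_) le_top
    have h1 : TensorProduct.rid R M (TensorProduct.piRightHom R R M (fun _ : M => R) (N.subtype.rTensor (M → R) w) m) = m := by
      rw [hz, TensorProduct.rid_tmul, one_smul]
    rw [← h1]
    clear h1 hz hzN
    induction w with
    | zero => simp
    | add a b ha hb => simp only [map_add, Pi.add_apply]; exact add_mem ha hb
    | tmul u f => simpa using! N.smul_mem (f m) u.2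

end Groth.Agent.S0587
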