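import Groth.Statements.S0588
import Groth.Agent.S0587
import Mathlib.Algebra.Module.FinitePresentation
import Mathlib.LinearAlgebra.TensorProduct.RightExactness
import Mathlib.LinearAlgebra.TensorProduct.Finiteness

set_option autoImplicit false
universe u
open CAlg
open scoped TensorProduct

namespace Groth.Agent.S0588

/-- A module `M` is finitely presented exactly when for every family of modules `(Qᵢ)` the natural map
from `M ⊗ ∏ Qᵢ` to `∏ (M ⊗ Qᵢ)` is bijective. -/
theorem result (R : Type u) [CommRing R] (M : Type u)
    [AddCommGroup M] [Module R M] :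
    Module.FinitePresentation R M ↔ ∀ (ι : Type u) (Q : ι → Type u) [∀ i, AddCommGroup (Q i)]
      [∀ i, Module R (Q i)], Function.Bijective (TensorProduct.piRightHom R R M Q) := by
  classical
  have hfree : ∀ (n : ℕ) (ι : Type u) (Q : ι → Type u) [∀ i, AddCommGroup (Q i)] [∀ i, Module R (Q i)]
      (y : (Fin n → R) ⊗[R] (∀ i, Q i)), TensorProduct.piRightHom R R (Fin n → R) Q y = 0 → y = 0 := by
    intro n ι Q _ _ y hy
    let e := (TensorProduct.comm R (Fin n → R) (∀ i, Q i)).trans (TensorProduct.piScalarRight R R (∀ i, Q i) (Fin n))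
    let ei := fun i => (TensorProduct.comm R (Fin n → R) (Q i)).trans (TensorProduct.piScalarRight R R (Q i) (Fin n))
    have nat : ∀ (z : (Fin n → R) ⊗[R] (∀ i, Q i)) i j, ei i (TensorProduct.piRightHom R R (Fin n → R) Q z i) j = e z j i := by
      intro z i j
      induction z with
      | zero => simp
      | add a b ha hb => simp only [map_add, Pi.add_apply, ha, hb]
      | tmul f q => simp [e, ei]
    apply e.injective
    rw [map_zero]
    funext j i
    rw [← nat y i j, hy]
    simp
  have comm : ∀ (P P' : Type u) [AddCommGroup P] [Module R P] [AddCommGroup P'] [Module R P'] (g : P →ₗ[R] P')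
      (ι : Type u) (Q : ι → Type u) [∀ i, AddCommGroup (Q i)] [∀ i, Module R (Q i)] (z : P ⊗[R] (∀ i, Q i)) (i : ι),
      TensorProduct.piRightHom R R P' Q (g.rTensor _ z) i = g.rTensor (Q i) (TensorProduct.piRightHom R R P Q z i) := by
    intro P P' _ _ _ _ g ι Q _ _ z i
    induction z with
    | zero => simp
    | add a b ha hb => simp only [map_add, Pi.add_apply, ha, hb]
    | tmul f q => simp
  constructor
  · intro hM ι Q _ _
    refine ⟨(injective_iff_map_eq_zero _).2 fun x hx => ?_,
      (Groth.Agent.S0587.result R M).1 inferInstance ι Q⟩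
    obtain ⟨n, π, hπ⟩ := Module.Finite.exists_fin' R M
    haveI : Module.Finite R (LinearMap.ker π) := Module.Finite.iff_fg.2 (Module.FinitePresentation.fg_ker π hπ)
    obtain ⟨y, rfl⟩ := LinearMap.rTensor_surjective _ hπ x
    have hz : ∀ i, ∃ w : LinearMap.ker π ⊗[R] Q i,
        (LinearMap.ker π).subtype.rTensor (Q i) w = TensorProduct.piRightHom R R (Fin n → R) Q y i := by
      intro i
      refine ((@rTensor_exact R (LinearMap.ker π) (Fin n → R) M _ _ _ _ _ _ _ (Submodule.subtype _) π (Q i) _ _
        (LinearMap.exact_subtype_ker_map π) hπ) _).1 ?_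
      rw [← comm, hx]
      rfl
    choose w hw using hz
    obtain ⟨v, hv⟩ := (Groth.Agent.S0587.result R (LinearMap.ker π)).1 inferInstance ι Q w
    have hyv : y = (LinearMap.ker π).subtype.rTensor _ v := by
      rw [← sub_eq_zero]
      apply hfree
      funext i
      rw [map_sub, Pi.sub_apply, comm, hv, hw, sub_self]
      rfl
    rw [hyv, ← LinearMap.comp_apply, ← LinearMap.rTensor_comp]
    simp [LinearMap.comp_ker_subtype]
  · intro h
    haveI : Module.Finite R M := (Groth.Agent.S0587.result R M).2 fun ι Q _ _ => (h ι Q).2
    obtain ⟨n, π, hπ⟩ := Module.Finite.exists_fin' R M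
    refine Module.finitePresentation_of_surjective π hπ ?_
    let K := LinearMap.ker π
    let z : (Fin n → R) ⊗[R] (K → R) := ∑ j, Pi.single j (1 : R) ⊗ₜ[R] fun k => k.1 j
    have hzk : ∀ k : K, TensorProduct.rid R _ (TensorProduct.piRightHom R R (Fin n → R) (fun _ : K => R) z k) = k.1 := by
      intro k
      simp only [z, map_sum, Finset.sum_apply, TensorProduct.piRightHom_tmul, TensorProduct.rid_tmul]
      exact (pi_eq_sum_univ' k.1).symm
    have hπz : π.rTensor (K → R) z = 0 := by
      apply (h K (fun _ => R)).1
      rw [map_zero]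
      funext k
      rw [comm]
      apply (TensorProduct.rid R M).injective
      have hnat : ∀ t, TensorProduct.rid R M (π.rTensor R t) = π (TensorProduct.rid R _ t) := by
        intro t
        induction t with
        | zero => simp
        | add a b ha hb => simp only [map_add, ha, hb]
        | tmul f r => simp
      rw [hnat, hzk, Pi.zero_apply, map_zero]
      exact k.2
    obtain ⟨w, hw⟩ := ((@rTensor_exact R K (Fin n → R) M _ _ _ _ _ _ _ (Submodule.subtype _) π (K → R) _ _
        (LinearMap.exact_subtype_ker_map π) hπ) z).1 hπz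
    obtain ⟨N, hN, hwN⟩ := TensorProduct.exists_finite_submodule_left_of_setFinite {w} (Set.finite_singleton w)
    obtain ⟨w', rfl⟩ := hwN rfl
    suffices (⊤ : Submodule R K) = N by
      rw [← Module.Finite.iff_fg]
      refine ⟨?_⟩
      rw [this]; exact Module.Finite.iff_fg.1 hN
    refine le_antisymm (fun k _ => ?_) le_top
    have hk : TensorProduct.rid R K (TensorProduct.piRightHom R R K (fun _ : K => R) (N.subtype.rTensor (K → R) w') k) = k := by
      apply Subtype.ext
      have hnat : ∀ t, (TensorProduct.rid R K t).1 = TensorProduct.rid R _ (K.subtype.rTensor R t) := by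
        intro t
        induction t with
        | zero => simp
        | add a b ha hb => simp only [map_add, Submodule.coe_add, ha, hb]
        | tmul f r => simp
      rw [hnat]
      refine (congrArg _ (comm K (Fin n → R) K.subtype K (fun _ => R) _ k).symm).trans ?_
      rw [hw, hzk]
    rw [← hk]
    clear hk hw hwN
    induction w' with
    | zero => simp
    | add a b ha hb => simp only [map_add, Pi.add_apply]; exact add_mem ha hb
    | tmul u f => simpa using! N.smul_mem (f k) u.2

end Groth.Agent.S0588
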