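import Groth.Statements.S0608
import Mathlib.RingTheory.MvPolynomial.Homogeneous
import Mathlib.RingTheory.Regular.RegularSequence
import Mathlib.RingTheory.Polynomial.Basic
import Mathlib.Data.Fin.Tuple.Basic
import Mathlib.Tactic.LinearCombination

set_option autoImplicit false
universe u
open RRAlg

namespace Groth.Agent.S0608

section
variable {A : Type u} [CommRing A]
open MvPolynomial

/-- Each term is regular modulo the previous ones. -/
def Reg {n : ℕ} (a : Fin n → A) : Prop :=
  ∀ i, ∀ y, a i * y ∈ Ideal.span (a '' {j | j < i}) → y ∈ Ideal.span (a '' {j | j < i})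

/-- The Koszul relations. -/
noncomputable def K {n : ℕ} (a : Fin n → A) : Ideal (MvPolynomial (Fin n) A) :=
  Ideal.span {q : MvPolynomial (Fin n) A | ∃ i j : Fin n,
    q = MvPolynomial.C (a i) * MvPolynomial.X j - MvPolynomial.C (a j) * MvPolynomial.X i}

theorem eval_K {n : ℕ} (a : Fin n → A) {F : MvPolynomial (Fin n) A} (hF : F ∈ K a) : eval a F = 0 := by
  refine RingHom.mem_ker.1 ((Ideal.span_le.2 ?_) hF)
  rintro q ⟨i, j, rfl⟩
  simp [RingHom.mem_ker, mul_comm]

theorem rename_K {n : ℕ} (a : Fin (n + 1) → A) {F : MvPolynomial (Fin n) A}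
    (hF : F ∈ K fun i => a i.castSucc) : rename Fin.castSucc F ∈ K a := by
  have h : K (fun i => a i.castSucc) ≤ (K a).comap (rename Fin.castSucc).toRingHom := Ideal.span_le.2 (by
    rintro q ⟨i, j, rfl⟩
    refine Ideal.subset_span ⟨i.castSucc, j.castSucc, ?_⟩
    simp)
  exact h hF

theorem K_coeff {n : ℕ} (a : Fin n → A) {F : MvPolynomial (Fin n) A} (hF : F ∈ K a) (m : Fin n →₀ ℕ) :
    coeff m F ∈ Ideal.span (Set.range a) := by
  have h : F ∈ Ideal.map (MvPolynomial.C) (Ideal.span (Set.range a)) := by
    refine (Ideal.span_le.2 ?_) hF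
    rintro q ⟨i, j, rfl⟩
    exact sub_mem (Ideal.mul_mem_right _ _ (Ideal.mem_map_of_mem _ (Ideal.subset_span ⟨i, rfl⟩)))
      (Ideal.mul_mem_right _ _ (Ideal.mem_map_of_mem _ (Ideal.subset_span ⟨j, rfl⟩)))
  exact MvPolynomial.mem_map_C_iff.1 h m

/-- Values of forms of degree `d`. -/
noncomputable def V {n : ℕ} (a : Fin n → A) (d : ℕ) : Submodule A A :=
  (homogeneousSubmodule (Fin n) A d).map (aeval a).toLinearMap

theorem mem_V {n : ℕ} {a : Fin n → A} {d : ℕ} {x : A} :
    x ∈ V a d ↔ ∃ G : MvPolynomial (Fin n) A, G.IsHomogeneous d ∧ eval a G = x := by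
  simp [V, Submodule.mem_map, MvPolynomial.aeval_eq_eval]

theorem eq_C_of_hom_zero {n : ℕ} {F : MvPolynomial (Fin n) A} (hF : F.IsHomogeneous 0) : F = C (coeff 0 F) :=
  totalDegree_eq_zero_iff_eq_C.1 (Nat.le_zero.1 hF.totalDegree_le)

/-- A form of positive degree is a combination of the variables. -/
theorem exists_decomp {n : ℕ} {d : ℕ} {F : MvPolynomial (Fin n) A} (hF : F.IsHomogeneous (d + 1)) :
    ∃ H : Fin n → MvPolynomial (Fin n) A, (∀ i, (H i).IsHomogeneous d) ∧ F = ∑ i, X i * H i := by
  classical
  suffices h : ∀ s : Finset (Fin n →₀ ℕ), s ⊆ F.support →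
      ∃ H : Fin n → MvPolynomial (Fin n) A, (∀ i, (H i).IsHomogeneous d) ∧
        ∑ m ∈ s, monomial m (coeff m F) = ∑ i, X i * H i by
    obtain ⟨H, hH, he⟩ := h F.support le_rfl
    exact ⟨H, hH, F.as_sum.trans he⟩
  intro s
  induction s using Finset.induction_on with
  | empty => exact fun _ => ⟨fun _ => 0, fun _ => isHomogeneous_zero _ _ _, by simp⟩
  | @insert m s hm ih =>
    intro hs
    obtain ⟨H, hH, he⟩ := ih fun x hx => hs (Finset.mem_insert_of_mem hx)
    have hmF := hs (Finset.mem_insert_self m s)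
    have hdeg : m.degree = d + 1 := by
      by_contra hh
      exact mem_support_iff.1 hmF (hF.coeff_eq_zero hh)
    obtain ⟨i, hi⟩ : ∃ i, m i ≠ 0 := by
      by_contra! h
      rw [show m = 0 from Finsupp.ext h] at hdeg
      simp at hdeg
    have hmi : Finsupp.single i 1 + (m - Finsupp.single i 1) = m :=
      add_tsub_cancel_of_le (Finsupp.single_le_iff.2 (Nat.one_le_iff_ne_zero.2 hi))
    refine ⟨Function.update H i (H i + monomial (m - Finsupp.single i 1) (coeff m F)), fun j => ?_, ?_⟩
    · by_cases hj : j = i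
      · subst hj
        rw [Function.update_self]
        refine (hH j).add (isHomogeneous_monomial _ ?_)
        have h1 := congrArg Finsupp.degree hmi
        rw [map_add, Finsupp.degree_single, hdeg] at h1
        omega
      · rw [Function.update_of_ne hj]; exact hH j
    · rw [Finset.sum_insert hm, he]
      have hX : monomial m (coeff m F) = X i * monomial (m - Finsupp.single i 1) (coeff m F) := by
        rw [← pow_one (X i : MvPolynomial (Fin n) A), X_pow_eq_monomial, monomial_mul, one_mul, hmi]
      have hu : ∑ j ∈ Finset.univ.erase i, X j * Function.update H i (H i + monomial (m - Finsupp.single i 1) (coeff m F)) j =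
          ∑ j ∈ Finset.univ.erase i, X j * H j :=
        Finset.sum_congr rfl fun j hj => by rw [Function.update_of_ne (Finset.ne_of_mem_erase hj)]
      rw [hX, ← Finset.add_sum_erase _ _ (Finset.mem_univ i),
        ← Finset.add_sum_erase _ (fun j => X j * Function.update H i (H i + monomial (m - Finsupp.single i 1) (coeff m F)) j) (Finset.mem_univ i),
        Function.update_self, hu]
      ring

theorem V_succ_le {n : ℕ} (a : Fin n → A) (d : ℕ) : V a (d + 1) ≤ V a d := by
  intro x hx
  obtain ⟨G, hG, rfl⟩ := mem_V.1 hx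
  obtain ⟨H, hH, rfl⟩ := exists_decomp hG
  rw [map_sum]
  refine sum_mem fun i _ => ?_
  rw [map_mul, eval_X, ← smul_eq_mul]
  exact Submodule.smul_mem _ _ (mem_V.2 ⟨H i, hH i, rfl⟩)

theorem eval_mem_V_succ {n : ℕ} (a : Fin n → A) {d : ℕ} {G : MvPolynomial (Fin n) A} (hG : G.IsHomogeneous d)
    (hc : ∀ m, coeff m G ∈ Ideal.span (Set.range a)) : eval a G ∈ V a (d + 1) := by
  classical
  rw [G.as_sum, map_sum]
  refine sum_mem fun m hm => ?_
  rw [eval_monomial]
  have hdeg : m.degree = d := by
    by_contra hh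
    exact mem_support_iff.1 hm (hG.coeff_eq_zero hh)
  obtain ⟨r, hr⟩ := (Submodule.mem_span_range_iff_exists_fun A).1 (hc m)
  rw [← hr, Finset.sum_mul]
  refine sum_mem fun i _ => mem_V.2 ⟨C (r i) * (X i * monomial m 1), ?_, ?_⟩
  · refine IsHomogeneous.C_mul ?_ _
    rw [add_comm d 1]
    exact (isHomogeneous_X A i).mul (isHomogeneous_monomial _ hdeg)
  · simp [eval_monomial, mul_assoc]

theorem eval_rename_castSucc {n : ℕ} (a : Fin (n + 1) → A) (G : MvPolynomial (Fin n) A) :
    eval a (rename Fin.castSucc G) = eval (fun i => a i.castSucc) G := by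
  rw [eval_rename]; rfl

theorem reg_mul {n : ℕ} (a : Fin (n + 1) → A) (hreg : Reg a)
    (ih : ∀ d, ∀ F : MvPolynomial (Fin n) A, F.IsHomogeneous d → eval (fun i => a i.castSucc) F = 0 → F ∈ K fun i => a i.castSucc) :
    ∀ d x, a (Fin.last n) * x ∈ V (fun i => a i.castSucc) d → x ∈ V (fun i => a i.castSucc) d := by
  intro d
  set a' := fun i : Fin n => a i.castSucc
  have hset : a '' {j | j < Fin.last n} = Set.range a' := by
    ext z
    constructor
    · rintro ⟨j, hj, rfl⟩
      exact ⟨j.castLT (Fin.lt_def.1 hj), rfl⟩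
    · rintro ⟨i, rfl⟩
      exact ⟨_, Fin.castSucc_lt_last i, rfl⟩
  induction d with
  | zero => exact fun x _ => mem_V.2 ⟨C x, isHomogeneous_C _ _, eval_C _⟩
  | succ d ihd =>
    intro x hx
    obtain ⟨G, hG, hGx⟩ := mem_V.1 (ihd x (V_succ_le a' d hx))
    obtain ⟨E, hE, hEx⟩ := mem_V.1 hx
    obtain ⟨H, hH, rfl⟩ := exists_decomp hE
    have hG' : C (a (Fin.last n)) * G - ∑ i, C (a' i) * H i ∈ K a' := by
      refine ih d _ ((hG.C_mul _).sub (IsHomogeneous.sum _ _ _ fun i _ => (hH i).C_mul _)) ?_
      rw [map_sub, map_mul, eval_C, hGx, map_sum, sub_eq_zero, ← hEx, map_sum]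
      exact Finset.sum_congr rfl fun i _ => by simp
    rw [← hGx]
    refine eval_mem_V_succ a' hG fun m => ?_
    have hm := K_coeff a' hG' m
    rw [coeff_sub, coeff_C_mul, coeff_sum] at hm
    have hs : ∑ i, coeff m (C (a' i) * H i) ∈ Ideal.span (Set.range a') :=
      sum_mem fun i _ => by rw [coeff_C_mul]; exact Ideal.mul_mem_right _ _ (Ideal.subset_span ⟨i, rfl⟩)
    have hmul := add_mem hm hs
    rw [sub_add_cancel, ← hset] at hmul
    rw [← hset]
    exact hreg _ _ hmul

theorem split_last {n d : ℕ} {F : MvPolynomial (Fin (n + 1)) A} (hF : F.IsHomogeneous (d + 1)) :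
    ∃ (G : MvPolynomial (Fin n) A) (H : MvPolynomial (Fin (n + 1)) A),
      G.IsHomogeneous (d + 1) ∧ H.IsHomogeneous d ∧ F = rename Fin.castSucc G + X (Fin.last n) * H := by
  induction d generalizing F with
  | zero =>
    obtain ⟨H, hH, rfl⟩ := exists_decomp hF
    refine ⟨∑ i : Fin n, C (coeff 0 (H i.castSucc)) * X i, H (Fin.last n),
      IsHomogeneous.sum _ _ _ fun i _ => (isHomogeneous_X A i).C_mul _, hH _, ?_⟩
    rw [Fin.sum_univ_castSucc, map_sum]
    congr 1
    exact Finset.sum_congr rfl fun i _ => by rw [map_mul, rename_C, rename_X, ← eq_C_of_hom_zero (hH i.castSucc), mul_comm]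
  | succ d ih =>
    obtain ⟨H, hH, rfl⟩ := exists_decomp hF
    choose G H' hG hH' he using fun i => ih (hH i)
    refine ⟨∑ i : Fin n, X i * G i.castSucc, H (Fin.last n) + ∑ i : Fin n, X i.castSucc * H' i.castSucc,
      IsHomogeneous.sum _ _ _ fun i _ => by rw [add_comm (d + 1) 1]; exact (isHomogeneous_X A i).mul (hG _),
      (hH _).add (IsHomogeneous.sum _ _ _ fun i _ => by rw [add_comm d 1]; exact (isHomogeneous_X A _).mul (hH' _)), ?_⟩
    rw [Fin.sum_univ_castSucc, map_sum, mul_add, Finset.mul_sum, add_comm (X (Fin.last n) * H (Fin.last n)), ← add_assoc, ← Finset.sum_add_distrib]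
    congr 1
    exact Finset.sum_congr rfl fun i _ => by rw [map_mul, rename_X, he i.castSucc]; ring

theorem koszul : ∀ (n : ℕ) (a : Fin n → A), Reg a → ∀ d, ∀ F : MvPolynomial (Fin n) A,
    F.IsHomogeneous d → eval a F = 0 → F ∈ K a := by
  classical
  intro n
  induction n with
  | zero =>
    intro a _ d F _ h0
    rw [show F = C (F.coeff 0) from MvPolynomial.eq_C_of_isEmpty F, eval_C] at h0
    rw [show F = C (F.coeff 0) from MvPolynomial.eq_C_of_isEmpty F, h0, map_zero]
    exact zero_mem _
  | succ n ih =>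
    intro a hreg
    have hreg' : Reg fun i : Fin n => a i.castSucc := fun i y hy => by
      have hset : (fun i : Fin n => a i.castSucc) '' {j | j < i} = a '' {j | j < i.castSucc} := by
        ext z
        constructor
        · rintro ⟨j, hj, rfl⟩; exact ⟨j.castSucc, hj, rfl⟩
        · rintro ⟨j, hj, rfl⟩
          exact ⟨j.castLT (lt_trans (Fin.lt_def.1 hj) i.2), Fin.lt_def.1 hj, rfl⟩
      rw [hset] at hy ⊢
      exact hreg _ y hy
    have ih' := ih _ hreg'
    intro d
    induction d with
    | zero =>
      intro F hF h0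
      rw [eq_C_of_hom_zero hF, eval_C] at h0
      rw [eq_C_of_hom_zero hF, h0, map_zero]
      exact zero_mem _
    | succ d ihd =>
      intro F hF h0
      obtain ⟨G, H, hG, hH, rfl⟩ : ∃ (G : MvPolynomial (Fin n) A) (H : MvPolynomial (Fin (n + 1)) A),
          G.IsHomogeneous (d + 1) ∧ H.IsHomogeneous d ∧ F = rename Fin.castSucc G + X (Fin.last n) * H :=
        split_last hF
      rw [map_add, map_mul, eval_X, eval_rename_castSucc, add_eq_zero_iff_eq_neg] at h0
      obtain ⟨E, hE, hEx⟩ := mem_V.1 (reg_mul a hreg ih' (d + 1) (eval a H) (mem_V.2 ⟨-G, hG.neg, by rw [map_neg, h0, neg_neg]⟩))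
      obtain ⟨Ei, hEi, rfl⟩ := exists_decomp hE
      have h1 : H - ∑ i, C (a i.castSucc) * rename Fin.castSucc (Ei i) ∈ K a := by
        refine ihd _ (hH.sub (IsHomogeneous.sum _ _ _ fun i _ => ((hEi i).rename_isHomogeneous).C_mul _)) ?_
        rw [map_sub, sub_eq_zero, ← hEx, map_sum, map_sum]
        exact Finset.sum_congr rfl fun i _ => by rw [map_mul, map_mul, eval_C, eval_X, eval_rename_castSucc]
      have h2 : G + C (a (Fin.last n)) * ∑ i, X i * Ei i ∈ K fun i => a i.castSucc := by
        refine ih' (d + 1) _ (hG.add (hE.C_mul _)) ?_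
        rw [map_add, map_mul, eval_C, hEx, h0, neg_add_cancel]
      have h3 : ∀ i : Fin n, C (a i.castSucc) * X (Fin.last n) - C (a (Fin.last n)) * X i.castSucc ∈ K a :=
        fun i => Ideal.subset_span ⟨i.castSucc, Fin.last n, rfl⟩
      have key : rename Fin.castSucc G + X (Fin.last n) * H =
          rename Fin.castSucc (G + C (a (Fin.last n)) * ∑ i, X i * Ei i) +
          X (Fin.last n) * (H - ∑ i, C (a i.castSucc) * rename Fin.castSucc (Ei i)) +
          ∑ i, (C (a i.castSucc) * X (Fin.last n) - C (a (Fin.last n)) * X i.castSucc) * rename Fin.castSucc (Ei i) := by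
        simp only [map_add, map_mul, rename_C, map_sum, rename_X, mul_sub, Finset.mul_sum, sub_mul, Finset.sum_sub_distrib]
        simp only [mul_assoc, mul_left_comm (X (Fin.last n) : MvPolynomial (Fin (n + 1)) A)]
        abel
      rw [key]
      exact add_mem (add_mem (rename_K a h2) (Ideal.mul_mem_left _ _ h1)) (sum_mem fun i _ => Ideal.mul_mem_right _ _ (h3 i))

theorem component_eval (n : ℕ) (a : Fin n → A) (F : MvPolynomial (Fin n) A)
    (hF : aeval (R := A) (fun i : Fin n => Polynomial.C (a i) * (Polynomial.X : Polynomial A)) F = 0) (d : ℕ) :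
    eval a (homogeneousComponent d F) = 0 := by
  classical
  let f := aeval (R := A) (fun i : Fin n => Polynomial.C (a i) * (Polynomial.X : Polynomial A))
  have key : ∀ e (G : MvPolynomial (Fin n) A), G.IsHomogeneous e → f G = Polynomial.C (eval a G) * Polynomial.X ^ e := by
    intro e G hG
    conv_lhs => rw [G.as_sum, map_sum]
    conv_rhs => rw [G.as_sum, map_sum, map_sum, Finset.sum_mul]
    refine Finset.sum_congr rfl fun m hm => ?_
    have hdeg : m.degree = e := by
      by_contra hh
      exact mem_support_iff.1 hm (hG.coeff_eq_zero hh)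
    rw [aeval_monomial, eval_monomial, map_mul, Polynomial.algebraMap_eq, ← hdeg, Finsupp.degree_eq_sum,
      Finsupp.prod_fintype _ _ (fun i => pow_zero _), Finsupp.prod_fintype _ _ (fun i => pow_zero _),
      map_prod, ← Finset.prod_pow_eq_pow_sum, mul_assoc, ← Finset.prod_mul_distrib]
    simp [mul_pow]
  have h := congrArg (fun q => Polynomial.coeff q d) hF
  rw [← sum_homogeneousComponent F] at h
  simp only [map_sum, Polynomial.finsetSum_coeff, Polynomial.coeff_zero] at h
  by_cases hd : d ∈ Finset.range (F.totalDegree + 1)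
  · rw [Finset.sum_eq_single d] at h
    · rw [show aeval _ (homogeneousComponent d F) = f (homogeneousComponent d F) from rfl,
        key d _ (homogeneousComponent_isHomogeneous d F), Polynomial.coeff_C_mul, Polynomial.coeff_X_pow,
        if_pos rfl, mul_one] at h
      exact h
    · intro e _ he
      rw [show aeval _ (homogeneousComponent e F) = f (homogeneousComponent e F) from rfl,
        key e _ (homogeneousComponent_isHomogeneous e F), Polynomial.coeff_C_mul, Polynomial.coeff_X_pow,
        if_neg (Ne.symm he), mul_zero]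
    · exact fun h' => absurd hd h'
  · rw [homogeneousComponent_eq_zero _ _ (by simp at hd; omega), map_zero]

end

/-- Let a_1, …, a_n be a weakly regular sequence in a commutative ring A (each a_i is a non-zero-divisor
modulo (a_1, …, a_(i−1)); the a_i are allowed to generate the unit ideal). Then the kernel of the
A-algebra map A[X_1, …, X_n] → A[T] sending X_i to a_i·T, whose image is the Rees algebra of the
ideal (a_1, …, a_n), is the ideal generated by the elements a_i X_j − a_j X_i. (The published
statement assumes a regular sequence; only weak regularity is assumed here.) -/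
theorem result {A : Type u} [CommRing A] {n : ℕ} (a : Fin n → A)
    (ha : RingTheory.Sequence.IsWeaklyRegular A (List.ofFn a)) :
    RingHom.ker (MvPolynomial.aeval (R := A)
      (fun i : Fin n => Polynomial.C (a i) * (Polynomial.X : Polynomial A))) =
      Ideal.span {q : MvPolynomial (Fin n) A | ∃ i j : Fin n,
        q = MvPolynomial.C (a i) * MvPolynomial.X j - MvPolynomial.C (a j) * MvPolynomial.X i} := by
  classical
  have hreg : Reg a := by
    intro i y hy
    have h := ha.regular_mod_prev i (by simp)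
    have hspan : ∀ z : A, z ∈ (Ideal.ofList ((List.ofFn a).take i) • (⊤ : Submodule A A)) ↔ z ∈ Ideal.span (a '' {j | j < i}) := by
      intro z
      rw [smul_eq_mul, Ideal.mul_top]
      have : {r | r ∈ (List.ofFn a).take i} = a '' {j | j < i} := by
        ext r
        simp only [List.mem_take_iff_getElem, List.length_ofFn, List.getElem_ofFn, Set.mem_setOf_eq, Set.mem_image]
        constructor
        · rintro ⟨j, hj, rfl⟩
          exact ⟨⟨j, by omega⟩, Fin.lt_def.2 (by simp at hj ⊢; omega), rfl⟩
        · rintro ⟨j, hj, rfl⟩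
          exact ⟨j, by have := Fin.lt_def.1 hj; have := j.2; omega, rfl⟩
      rw [Ideal.ofList, this]
    have h0 : (Submodule.Quotient.mk y : A ⧸ (Ideal.ofList ((List.ofFn a).take i) • (⊤ : Submodule A A))) = 0 := by
      apply h
      show (List.ofFn a)[(i : ℕ)]'(by simp) • Submodule.Quotient.mk y = (List.ofFn a)[(i : ℕ)]'(by simp) • (0 : A ⧸ _)
      rw [smul_zero, ← Submodule.Quotient.mk_smul, Submodule.Quotient.mk_eq_zero, hspan, List.getElem_ofFn, smul_eq_mul]
      exact hy
    rwa [Submodule.Quotient.mk_eq_zero, hspan] at h0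
  refine le_antisymm (fun F hF => ?_) (Ideal.span_le.2 ?_)
  · rw [RingHom.mem_ker] at hF
    rw [← MvPolynomial.sum_homogeneousComponent F]
    refine sum_mem fun d _ => koszul n a hreg d _ (MvPolynomial.homogeneousComponent_isHomogeneous d F) ?_
    exact component_eval n a F hF d
  · rintro q ⟨i, j, rfl⟩
    simp only [SetLike.mem_coe, RingHom.mem_ker, map_sub, map_mul, MvPolynomial.aeval_C, MvPolynomial.aeval_X,
      Polynomial.algebraMap_eq]
    ring

end Groth.Agent.S0608
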