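import Groth.Statements.S0611
import Groth.Agent.CotT.CI

set_option autoImplicit false
universe u
open RRAlg

namespace Groth.Agent.S0611

/-- In a Noetherian local ring, any minimal generating set of an ideal generated by a regular sequence
is again a regular sequence: if a₁, …, aₙ is a regular sequence and b₁, …, bₙ are n elements
generating the same ideal, then b₁, …, bₙ is a regular sequence. (A regular sequence of length n
generating an ideal I is a minimal generating set of I, so "minimal" amounts to "of length n".) -/
theorem result {A : Type u} [CommRing A] [IsLocalRing A] [IsNoetherianRing A]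
    {n : ℕ} (a b : Fin n → A) (ha : RingTheory.Sequence.IsRegular A (List.ofFn a))
    (hab : Ideal.span (Set.range a) = Ideal.span (Set.range b)) :
    RingTheory.Sequence.IsRegular A (List.ofFn b) := by
  have hofList : ∀ c : Fin n → A, Ideal.ofList (List.ofFn c) = Ideal.span (Set.range c) := fun c => by
    rw [Ideal.ofList]
    congr 1
    ext y
    simp [List.mem_ofFn', Set.mem_range]
  have htop : Ideal.span (Set.range a) ≠ ⊤ := fun h => ha.top_ne_smul (by
    rw [hofList, h, Submodule.top_smul])
  have hm : Ideal.span (Set.range a) ≤ IsLocalRing.maximalIdeal A := IsLocalRing.le_maximalIdeal htop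
  have hw : Groth.Agent.CotT.IsWReg a := by
    intro i x hx
    have := Groth.Agent.CotT.isWReg_of_list _ ha.toIsWeaklyRegular ⟨i, by simpa using i.2⟩ x
    have e : (fun j : Fin (List.ofFn a).length => (List.ofFn a).get j) '' Set.Iio ⟨i, by simpa using i.2⟩ =
        a '' Set.Iio i := by
      ext y
      simp only [Set.mem_image, Set.mem_Iio, List.get_eq_getElem, List.getElem_ofFn]
      constructor
      · rintro ⟨j, hj, rfl⟩
        exact ⟨⟨j, by simpa using j.2⟩, hj, rfl⟩
      · rintro ⟨j, hj, rfl⟩
        exact ⟨⟨j, by simpa using j.2⟩, hj, rfl⟩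
    rw [e] at this
    simp only [List.get_eq_getElem, List.getElem_ofFn] at this
    exact this hx
  have hmemb : ∀ i, b i ∈ Ideal.span (Set.range a) := fun i => hab ▸ Ideal.subset_span ⟨i, rfl⟩
  have hmema : ∀ i, a i ∈ Ideal.span (Set.range b) := fun i => hab ▸ Ideal.subset_span ⟨i, rfl⟩
  choose M hM using fun i => Finsupp.mem_span_range_iff_exists_finsupp.1 (hmemb i)
  choose N hN using fun i => Finsupp.mem_span_range_iff_exists_finsupp.1 (hmema i)
  let K : (Fin n →₀ A) →ₗ[A] (Fin n →₀ A) := Finsupp.linearCombination A M
  let L : (Fin n →₀ A) →ₗ[A] (Fin n →₀ A) := Finsupp.linearCombination A N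
  have hK : ∀ x, Finsupp.linearCombination A a (K x) = Finsupp.linearCombination A b x := fun x => by
    suffices (Finsupp.linearCombination A a).comp K = Finsupp.linearCombination A b from LinearMap.congr_fun this x
    refine Finsupp.lhom_ext' fun i => LinearMap.ext_ring ?_
    simpa [K, Finsupp.linearCombination_apply] using hM i
  have hL : ∀ x, Finsupp.linearCombination A b (L x) = Finsupp.linearCombination A a x := fun x => by
    suffices (Finsupp.linearCombination A b).comp L = Finsupp.linearCombination A a from LinearMap.congr_fun this x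
    refine Finsupp.lhom_ext' fun i => LinearMap.ext_ring ?_
    simpa [L, Finsupp.linearCombination_apply] using hN i
  have hmem : ∀ (x : Fin n →₀ A), Finsupp.linearCombination A a x ∈ IsLocalRing.maximalIdeal A := fun x =>
    hm (Finsupp.mem_span_range_iff_exists_finsupp.2 ⟨x, by rw [Finsupp.linearCombination_apply]⟩)
  have htriv : Groth.Agent.CotT.trivOf a ≤ IsLocalRing.maximalIdeal A • (⊤ : Submodule A (Fin n →₀ A)) := by
    refine Submodule.span_le.2 ?_
    rintro _ ⟨x, y, rfl⟩
    exact sub_mem (Submodule.smul_mem_smul (hmem x) trivial) (Submodule.smul_mem_smul (hmem y) trivial)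
  have hKL : Function.Bijective (K.comp L) := by
    have hs : Function.Surjective (K.comp L) := by
      rw [← LinearMap.range_eq_top, eq_top_iff]
      refine Submodule.le_of_le_smul_of_le_jacobson_bot (I := IsLocalRing.maximalIdeal A) Module.Finite.fg_top
        (IsLocalRing.maximalIdeal_le_jacobson _) fun x _ => ?_
      rw [show x = K (L x) + (x - K (L x)) by abel]
      refine Submodule.add_mem_sup ⟨x, rfl⟩ (htriv (Groth.Agent.CotT.relations_trivial a hw _ ?_))
      rw [map_sub, hK, hL, sub_self]
    exact ⟨OrzechProperty.injective_of_surjective_endomorphism _ hs, hs⟩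
  have hKs : Function.Surjective K := Function.Surjective.of_comp (g := L) hKL.2
  have hKi : Function.Injective K := OrzechProperty.injective_of_surjective_endomorphism _ hKs
  have hLs : Function.Surjective L := fun y => by
    obtain ⟨x, hx⟩ := hKL.2 (K y)
    exact ⟨x, hKi hx⟩
  have hrel : ∀ g, Finsupp.linearCombination A b g = 0 → g ∈ Groth.Agent.CotT.trivOf b := fun g hg => by
    obtain ⟨h, rfl⟩ := hLs g
    rw [hL] at hg
    have hle : Groth.Agent.CotT.trivOf a ≤ (Groth.Agent.CotT.trivOf b).comap L := by
      refine Submodule.span_le.2 ?_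
      rintro _ ⟨x, y, rfl⟩
      refine Submodule.subset_span ⟨L x, L y, ?_⟩
      rw [map_sub, map_smul, map_smul, hL, hL]
    exact hle (Groth.Agent.CotT.relations_trivial a hw h hg)
  have hwb := Groth.Agent.CotT.wreg_of_relations_trivial b
    (fun i => IsLocalRing.maximalIdeal_le_jacobson _ (hm (hmemb i))) hrel
  refine ⟨Groth.Agent.CotT.isWeaklyRegular_ofFn hwb, ?_⟩
  rw [hofList, ← hab, ← hofList]
  exact ha.top_ne_smul

end Groth.Agent.S0611
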