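import Groth.Statements.S0624
import Groth.Agent.EtClosedSplit.Basic

set_option autoImplicit false
open CategoryTheory CategoryTheory.Limits AlgebraicGeometry Opposite
universe u
open EtCore

set_option backward.isDefEq.respectTransparency false
set_option linter.style.haveILetI false

namespace Groth.Agent.S0624

/-- Let X be an affine, integral and normal scheme with separably closed function field, Z -> X a closed
immersion and V -> Z etale with V affine. Then V splits, over Z, as the disjoint union of finitely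
many open subschemes of Z. -/
theorem result {V Z X : Scheme.{u}} [IsAffine X] [IsIntegral X]
    (hN : ∀ x : X, IsIntegrallyClosed (X.presheaf.stalk x)) [IsSepClosed X.functionField]
    (i : Z ⟶ X) [IsClosedImmersion i] (φ : V ⟶ Z) [AlgebraicGeometry.Etale φ] [IsAffine V] :
    ∃ (ι : Type u) (_ : Finite ι) (W : ι → Z.Opens) (e : (∐ fun k => (W k : Scheme.{u})) ≅ V),
      ∀ k, Sigma.ι (fun k => (W k : Scheme.{u})) k ≫ e.hom ≫ φ = (W k).ι := by
  obtain ⟨ι, hfin, P, hcov, hdis, hP⟩ := EtClosedSplit.exists_pieces hN i φ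
  haveI : ∀ k, IsOpenImmersion ((P k).ι ≫ φ) := hP
  obtain ⟨hc⟩ := nonempty_isColimit_cofanMk_of (fun k => (P k).ι)
    (top_le_iff.mp fun v _ => by
      obtain ⟨k, hk⟩ := hcov v
      exact TopologicalSpace.Opens.mem_iSup.mpr ⟨k, ⟨⟨v, hk⟩, rfl⟩⟩)
    (fun k l hkl => by
      rw [Function.onFun, Scheme.Opens.opensRange_ι, Scheme.Opens.opensRange_ι]
      exact hdis hkl)
  refine ⟨ι, hfin, fun k => ((P k).ι ≫ φ).opensRange,
    Limits.Sigma.mapIso (fun k => ((P k).ι ≫ φ).isoOpensRange.symm) ≪≫
      (coproductIsCoproduct _).coconePointUniqueUpToIso hc, fun k => ?_⟩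
  have h3 : Sigma.ι (fun k => (P k : Scheme.{u})) k ≫
      ((coproductIsCoproduct _).coconePointUniqueUpToIso hc).hom = (P k).ι :=
    (coproductIsCoproduct _).comp_coconePointUniqueUpToIso_hom hc ⟨k⟩
  have h4 : Sigma.ι (fun k => (((P k).ι ≫ φ).opensRange : Scheme.{u})) k ≫
      (Limits.Sigma.mapIso (fun k => ((P k).ι ≫ φ).isoOpensRange.symm)).hom =
        ((P k).ι ≫ φ).isoOpensRange.inv ≫ Sigma.ι (fun k => (P k : Scheme.{u})) k :=
    ι_colimMap _ (Discrete.mk k)
  rw [Iso.trans_hom, Category.assoc, reassoc_of% h4, reassoc_of% h3]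
  exact Scheme.Hom.isoOpensRange_inv_comp _

end Groth.Agent.S0624
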