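import Groth.Statements.S0625
import Groth.Agent.EtClosedSplit.Basic

set_option autoImplicit false
open CategoryTheory CategoryTheory.Limits AlgebraicGeometry Opposite
universe u
open EtCore

set_option backward.isDefEq.respectTransparency false
set_option linter.style.haveILetI false

namespace Groth.Agent.S0625

/-- Let X be an affine integral normal scheme whose function field is separably closed and Z -> X a
closed immersion. Every surjective finite etale morphism V -> Z has a section. -/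
theorem result {V Z X : Scheme.{u}} [IsAffine X] [IsIntegral X]
    (hN : ∀ x : X, IsIntegrallyClosed (X.presheaf.stalk x)) [IsSepClosed X.functionField]
    (i : Z ⟶ X) [IsClosedImmersion i] (φ : V ⟶ Z) [AlgebraicGeometry.Etale φ] [IsFinite φ] [Surjective φ] :
    ∃ s : Z ⟶ V, s ≫ φ = 𝟙 Z := by
  classical
  haveI : IsAffine Z := (IsClosedImmersion.isAffine_surjective_of_isAffine i).1
  haveI : IsAffine V := isAffine_of_isAffineHom φ
  obtain ⟨ι, hfin, P, hcov, hdis, hP⟩ := EtClosedSplit.exists_pieces hN i φ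
  haveI : ∀ k, IsOpenImmersion ((P k).ι ≫ φ) := hP
  obtain ⟨n, ⟨en⟩⟩ := Finite.exists_equiv_fin ι
  let j : ∀ a : Fin n, (P (en.symm a) : Scheme.{u}) ⟶ Z := fun a => (P (en.symm a)).ι ≫ φ
  haveI : ∀ a, IsOpenImmersion (j a) := fun a => hP _
  let W : Fin n → Z.Opens := fun a => (j a).opensRange
  have hWc : ∀ a, IsClosed (W a : Set Z) := fun a => by
    have hPc : IsClosed (P (en.symm a) : Set V) := by
      rw [← isOpen_compl_iff]
      refine isOpen_iff_forall_mem_open.mpr fun v hv => ?_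
      obtain ⟨k, hk⟩ := hcov v
      refine ⟨P k, fun w hw hw' => ?_, (P k).isOpen, hk⟩
      have hne : k ≠ en.symm a := by rintro rfl; exact hv hk
      exact (disjoint_iff.mp (hdis hne)).le ⟨hw, hw'⟩
    have : (W a : Set Z) = φ '' (P (en.symm a) : Set V) := by
      ext z
      exact ⟨fun ⟨w, hw⟩ => ⟨w.1, w.2, hw⟩, fun ⟨v, hv, hv'⟩ => ⟨⟨v, hv⟩, hv'⟩⟩
    rw [this]
    exact φ.isClosedMap _ hPc
  let T : Fin n → Z.Opens := fun a =>
    ⟨(W a : Set Z) \ ⋃ b : {b // b < a}, (W b.1 : Set Z), (W a).isOpen.sdiff (isClosed_iUnion_of_finite fun b => hWc _)⟩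
  have hTW : ∀ a, T a ≤ W a := fun a z hz => hz.1
  have hTd : ∀ a b, a < b → Disjoint (T a) (T b) := fun a b hab => disjoint_iff.mpr (le_bot_iff.mp
    fun z ⟨hza, hzb⟩ => hzb.2 (Set.mem_iUnion.mpr ⟨⟨a, hab⟩, hza.1⟩))
  obtain ⟨hc⟩ := nonempty_isColimit_cofanMk_of (fun a => (T a).ι)
    (top_le_iff.mp fun z _ => by
      obtain ⟨v, hv⟩ := Surjective.surj (f := φ) z
      obtain ⟨k, hk⟩ := hcov v
      have hne : ∃ a, z ∈ W a := ⟨en k, by
        show z ∈ ((P (en.symm (en k))).ι ≫ φ).opensRange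
        exact ⟨⟨v, (en.symm_apply_apply k).symm ▸ hk⟩, hv⟩⟩
      refine TopologicalSpace.Opens.mem_iSup.mpr ⟨Fin.find (fun a => z ∈ W a) hne, ⟨⟨z, Fin.find_spec hne, fun h => ?_⟩, rfl⟩⟩
      obtain ⟨b, hb⟩ := Set.mem_iUnion.mp h
      exact Fin.find_min hne b.2 hb)
    (fun a b hab => by
      rw [Function.onFun, Scheme.Opens.opensRange_ι, Scheme.Opens.opensRange_ι]
      rcases lt_or_gt_of_ne hab with h | h
      · exact hTd a b h
      · exact (hTd b a h).symm)
  refine ⟨Cofan.IsColimit.desc hc fun a => Z.homOfLE (hTW a) ≫ (j a).isoOpensRange.inv ≫ (P (en.symm a)).ι,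
    Cofan.IsColimit.hom_ext hc _ _ fun a => ?_⟩
  rw [Cofan.IsColimit.fac_assoc, Category.assoc, Category.assoc]
  show Z.homOfLE (hTW a) ≫ (j a).isoOpensRange.inv ≫ j a = (T a).ι ≫ 𝟙 Z
  rw [Category.comp_id]
  rw [Scheme.Hom.isoOpensRange_inv_comp, Scheme.homOfLE_ι]

end Groth.Agent.S0625
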