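import Groth.Statements.S0632
import Groth.Agent.EtPushStalk.Lift

set_option autoImplicit false
open CategoryTheory CategoryTheory.Limits AlgebraicGeometry Opposite
universe u
open EtCore

set_option backward.isDefEq.respectTransparency false

namespace Groth.Agent.S0632

/-- Let X -> Y be a closed immersion and U_i -> X (i in ι) a jointly surjective family of etale
morphisms. Then one can find a jointly surjective family of etale Y-schemes V_j each of which either
has empty preimage over X or, after base change to X, maps into one of the U_i over X. -/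
theorem result {X Y : Scheme.{u}} (f : X ⟶ Y) [IsClosedImmersion f]
    {ι : Type u} (U : ι → X.Etale) (hU : EtCoh.Covers U) :
    ∃ (κ : Type u) (V : κ → Y.Etale), EtCoh.Covers V ∧
      ∀ j, IsEmpty ↥(pullback (V j).hom f) ∨
        ∃ (i : ι) (h : pullback (V j).hom f ⟶ (U i).left), h ≫ (U i).hom = pullback.snd (V j).hom f := by
  choose i u hu using hU
  choose V h _ hx using fun x => Groth.Agent.EtPushStalk.liftProp_of_closedImmersion f (U (i x)) (u x)
  let O : Y.Opens := ⟨(Set.range f)ᶜ, f.isClosedEmbedding.isClosed_range.isOpen_compl⟩
  refine ⟨Option X, fun o => o.elim (Scheme.Etale.mk O.ι) V, fun y => ?_, fun o => ?_⟩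
  · by_cases hy : y ∈ Set.range f
    · obtain ⟨x, rfl⟩ := hy
      obtain ⟨p, hp⟩ := hx x
      refine ⟨some x, pullback.fst (V x).hom f p, ?_⟩
      change (pullback.fst (V x).hom f ≫ (V x).hom) p = f x
      rw [pullback.condition]
      change f (pullback.snd (V x).hom f p) = f x
      congr 1
      have hw : (h x).left ≫ (U (i x)).hom = pullback.snd (V x).hom f := MorphismProperty.Over.w (h x)
      rw [← hw]
      change (U (i x)).hom ((h x).left p) = x
      rw [hp]; exact hu x
    · exact ⟨none, (⟨y, hy⟩ : O), rfl⟩
  · cases o with
    | none =>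
      left
      refine ⟨fun p => ?_⟩
      let p' : ↥(pullback O.ι f) := p
      have := congr($(pullback.condition (f := O.ι) (g := f)) p')
      exact (pullback.fst O.ι f p').2 ⟨pullback.snd O.ι f p', this.symm⟩
    | some x => exact Or.inr ⟨i x, (h x).left, MorphismProperty.Over.w (h x)⟩

end Groth.Agent.S0632
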