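import Groth.Statements.S0634
import Groth.Agent.EtPushStalk.Unit
import Mathlib

set_option autoImplicit false
open CategoryTheory CategoryTheory.Limits AlgebraicGeometry Opposite
universe u
open EtCore

set_option backward.isDefEq.respectTransparency false

namespace Groth.Agent.S0634

/-- For an abelian sheaf F on the small etale site of S and two global sections s, t there is an open W
of S such that a morphism f : T -> S has image inside W if and only if the pullbacks of s and t
along f (images under the adjunction unit, as sections of the pullback sheaf over T) coincide. -/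
theorem result {S : Scheme.{u}} (F : EtCoh.Ab S) (s t : EtCoh.sect F (EtCoh.top S)) :
    ∃ W : S.Opens, ∀ (T : Scheme.{u}) (f : T ⟶ S),
      Set.range f.base ⊆ (W : Set S) ↔
        ((EtCoh.pullPushAdj f).unit.app F).hom.app (op (EtCoh.top S)) s =
          ((EtCoh.pullPushAdj f).unit.app F).hom.app (op (EtCoh.top S)) t := by
  refine ⟨⟨_, (Groth.Agent.EtSect.isClosed_sectSupp F (U := EtCoh.top S) (s - t)).isOpen_compl⟩, fun T f => ?_⟩
  have h := Groth.Agent.EtPushStalk.unit_eq_zero_iff f F (EtCoh.top S) (s - t)
  rw [map_sub, sub_eq_zero] at h
  rw [h]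
  have hr : Set.range (pullback.fst (EtCoh.top S).hom f) = Set.range f := by
    erw [Scheme.Pullback.range_fst]
    change (𝟙 S : S ⟶ S) ⁻¹' _ = _
    simp
  erw [hr]
  rfl

end Groth.Agent.S0634
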