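import Groth.Statements.S0635
import Groth.Agent.EtPBC.CurveFinTors

set_option autoImplicit false
open CategoryTheory CategoryTheory.Limits AlgebraicGeometry Opposite
universe u
open EtCore

namespace Groth.Agent.S0635

/-- Let k be an algebraically closed field, X separated of finite type over k of dimension at most 1,
and F a constructible abelian sheaf on the small etale site of X which is torsion of orders
invertible in k. Then every etale cohomology group H^q(X, F) is finite. -/
theorem result (k : Type u) [Field k] [IsAlgClosed k] (X : Scheme.{u})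
    (f : X ⟶ Spec (CommRingCat.of k)) [IsSeparated f] [LocallyOfFiniteType f] [QuasiCompact f]
    (hdim : topologicalKrullDim X ≤ 1) (F : EtCoh.Ab X) (hF : EtPBC.IsConstructible F)
    (hFt : EtPBC.IsTorsionInvertibleOn (Spec (CommRingCat.of k)) F) (q : ℕ) :
    Finite (EtCoh.H X F q) := by
  haveI : IsNoetherian X := Groth.Agent.EtPBC.isNoetherian_of_field f
  obtain ⟨N, hN, hFN⟩ := Groth.Agent.EtCons.exists_killedBy F hF
  obtain ⟨n, hn, hnk, hFn⟩ := Groth.Agent.EtPBC.exists_killedBy_invertible F hN hFN hFt
  exact Groth.Agent.EtPBC.finite_H_constructible X f hdim ⟨hn, Or.inr hnk⟩ F hF hFn q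

end Groth.Agent.S0635
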