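import Groth.Statements.S0643
import Mathlib.Tactic.Ring
import Mathlib.RingTheory.AdjoinRoot
import Mathlib.Algebra.Polynomial.Degree.SmallDegree

set_option autoImplicit false
universe u
open EtCore

namespace Groth.Agent.S0643

open Polynomial in
/-- Let A be a ring, assumed nonzero here (the published statement does not say so; over the zero ring
no polynomial has positive degree in Lean's sense), and a, b elements generating the unit ideal such
that some positive power of a is congruent to 1 modulo b. Then there is a monic polynomial P of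
positive degree over A such that in B = A[y]/(P) the element a - b y is a unit. -/
theorem result (A : Type u) [CommRing A] [Nontrivial A] (a b : A) (hab : IsCoprime a b)
    (hroot : ∃ n : ℕ, 0 < n ∧ a ^ n - 1 ∈ Ideal.span ({b} : Set A)) :
    ∃ P : A[X], P.Monic ∧ 0 < P.natDegree ∧
      IsUnit (algebraMap A (AdjoinRoot P) a - algebraMap A (AdjoinRoot P) b * AdjoinRoot.root P) := by
  obtain ⟨n, hn, hmem⟩ := hroot
  obtain ⟨c, hc⟩ := Ideal.mem_span_singleton'.mp hmem
  obtain ⟨u, v, huv⟩ := hab
  let R : A[X] := Polynomial.C c * (Polynomial.C u * Polynomial.X + Polynomial.C v) ^ (n - 1)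
  have hR : R.degree < n := by
    refine lt_of_le_of_lt (Polynomial.degree_mul_le _ _) ?_
    have h1 : ((Polynomial.C u * Polynomial.X + Polynomial.C v) ^ (n - 1)).degree ≤ ((n - 1 : ℕ) : WithBot ℕ) := by
      refine Polynomial.natDegree_le_iff_degree_le.mp ?_
      refine Polynomial.natDegree_pow_le.trans ?_
      have h2 := Polynomial.natDegree_linear_le (a := u) (b := v)
      calc (n - 1) * (Polynomial.C u * Polynomial.X + Polynomial.C v).natDegree ≤ (n - 1) * 1 :=
            Nat.mul_le_mul_left _ h2
        _ = n - 1 := mul_one _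
    refine lt_of_le_of_lt (add_le_add Polynomial.degree_C_le h1) ?_
    rw [zero_add, Nat.cast_lt]
    omega
  let P : A[X] := Polynomial.X ^ n - R
  have hP : P.Monic := Polynomial.monic_X_pow_sub hR
  have hdeg : P.natDegree = n := by
    apply Polynomial.natDegree_eq_of_degree_eq_some
    rw [Polynomial.degree_sub_eq_left_of_degree_lt (by rwa [Polynomial.degree_X_pow]),
      Polynomial.degree_X_pow]
  refine ⟨P, hP, hdeg ▸ hn, ?_⟩
  set φ := algebraMap A (AdjoinRoot P)
  set y := AdjoinRoot.root P
  have hy : y ^ n = φ c * (φ u * y + φ v) ^ (n - 1) := by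
    have h : AdjoinRoot.mk P P = 0 := AdjoinRoot.mk_self
    simp only [P, R, map_sub, map_mul, map_pow, map_add, AdjoinRoot.mk_X, AdjoinRoot.mk_C,
      sub_eq_zero] at h
    exact h
  set e := φ a - φ b * y
  rw [← Ideal.span_singleton_eq_top, Ideal.eq_top_iff_one]
  let π := Ideal.Quotient.mk (Ideal.span {e})
  rw [← Ideal.Quotient.eq_zero_iff_mem]
  have he : π (φ a) = π (φ b) * π y := by
    rw [← map_mul, Ideal.Quotient.mk_eq_mk_iff_sub_mem]
    exact Ideal.mem_span_singleton_self e
  have hn' : n - 1 + 1 = n := by omega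
  have h1 : π (φ a) ^ n = π (φ b) * π (φ c) := by
    calc π (φ a) ^ n = π (φ b) ^ n * π (y ^ n) := by rw [he, mul_pow, map_pow]
      _ = π (φ b) * π (φ c) * (π (φ b) * (π (φ u) * π y + π (φ v))) ^ (n - 1) := by
        rw [hy, map_mul, map_pow, map_add, map_mul, mul_pow]
        conv_lhs => rw [← hn', pow_succ]
        simp only [Nat.add_sub_cancel]
        ring
      _ = π (φ b) * π (φ c) := by
        have h2 : π (φ b) * (π (φ u) * π y + π (φ v)) = 1 := by
          calc π (φ b) * (π (φ u) * π y + π (φ v))
              = π (φ u) * (π (φ b) * π y) + π (φ v) * π (φ b) := by ring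
            _ = 1 := by rw [← he]; simpa only [map_add, map_mul, map_one] using congrArg (fun z => π (φ z)) huv
        rw [h2, one_pow, mul_one]
  have h3 : π (φ a) ^ n - 1 = π (φ b) * π (φ c) := by
    rw [← map_pow, ← map_pow, ← map_one π, ← map_one φ, ← map_sub, ← map_sub, ← hc, map_mul, map_mul, mul_comm]
  rw [h1, sub_eq_self] at h3
  exact (map_one π).trans h3

end Groth.Agent.S0643
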