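import Groth.Statements.S0644
import Mathlib

set_option autoImplicit false
open CategoryTheory CategoryTheory.Limits AlgebraicGeometry Opposite
universe u
open EtCore

set_option backward.isDefEq.respectTransparency false
open CategoryTheory CategoryTheory.Limits AlgebraicGeometry Opposite

namespace Groth.Agent.S0644

theorem nonempty_of_covered (S : Scheme.{u}) (F : Sheaf S.smallEtaleTopology (Type u))
    (hF : ∀ U : S.Etale, Subsingleton (F.obj.obj (op U))) (U : S.Etale)
    (h : ∀ x : U.left, ∃ (V : S.Etale) (v : V.left), Nonempty (F.obj.obj (op V)) ∧ V.hom v = U.hom x) :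
    Nonempty (F.obj.obj (op U)) := by
  choose V v hV hv using h
  have he : ∀ x, Etale (pullback.fst U.hom (V x).hom ≫ U.hom) := fun x => by
    have := (V x).prop; have := U.prop; infer_instance
  let Z : U.left → S.Etale := fun x => haveI := he x; Scheme.Etale.mk (pullback.fst U.hom (V x).hom ≫ U.hom)
  let f : ∀ x, Z x ⟶ U := fun x => MorphismProperty.Over.homMk (pullback.fst U.hom (V x).hom) rfl
  let g : ∀ x, Z x ⟶ V x := fun x => MorphismProperty.Over.homMk (pullback.snd U.hom (V x).hom)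
    pullback.condition.symm
  have hS : Sieve.ofArrows Z f ∈ S.smallEtaleTopology U := by
    rw [Scheme.ofArrows_mem_smallEtaleTopology_iff]
    refine Set.eq_univ_of_forall fun x => ?_
    obtain ⟨z, hz, -⟩ := Scheme.Pullback.exists_preimage_pullback x (v x) (hv x).symm
    exact Set.mem_iUnion.mpr ⟨x, z, hz⟩
  have hne : ∀ ⦃T⦄ (t : T ⟶ U), (Sieve.ofArrows Z f) t → Nonempty (F.obj.obj (op T)) := by
    rintro T t ⟨_, a, _, ⟨x⟩, -⟩
    exact (hV x).map (F.obj.map (a ≫ g x).op)
  have hs := (isSheaf_iff_isSheaf_of_type _ _).mp F.property (Sieve.ofArrows Z f) hS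
  exact ⟨(hs (fun T t ht => (hne t ht).some)
    (fun _ _ W _ _ _ _ _ _ _ => (hF W).elim _ _)).choose⟩


/-- Let F be a sheaf of sets on the small etale site of S which is a subsheaf of the final sheaf, i.e.
every set of sections has at most one element. Then there is exactly one open W of S such that F is
isomorphic to the sheaf represented by W (viewed as a scheme etale over S). -/
theorem result (S : Scheme.{u}) (F : Sheaf S.smallEtaleTopology (Type u))
    (hF : ∀ U : S.Etale, Subsingleton (F.obj.obj (op U))) :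
    ∃! W : S.Opens, Nonempty (F.obj ≅ yoneda.obj (Scheme.Etale.mk W.ι)) := by
  let W : S.Opens := ⨆ (V : {V : S.Etale // Nonempty (F.obj.obj (op V))}),
    (haveI := V.1.prop; ⟨Set.range V.1.hom, V.1.hom.isOpenMap.isOpen_range⟩)
  have key : ∀ U : S.Etale, Nonempty (F.obj.obj (op U)) ↔ Nonempty (U ⟶ Scheme.Etale.mk W.ι) := by
    intro U
    constructor
    · intro h
      have hr : Set.range U.hom ⊆ Set.range W.ι := by
        rw [Scheme.Opens.range_ι]
        intro s hs
        exact TopologicalSpace.Opens.mem_iSup.mpr ⟨⟨U, h⟩, hs⟩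
      exact ⟨MorphismProperty.Over.homMk (IsOpenImmersion.lift W.ι U.hom hr)
        (IsOpenImmersion.lift_fac _ _ _)⟩
    · rintro ⟨f⟩
      apply nonempty_of_covered S F hF U
      intro x
      have hx : U.hom x ∈ W := by
        rw [← MorphismProperty.Over.w f]
        exact (f.left x).2
      obtain ⟨⟨V, hV⟩, v, hv⟩ := TopologicalSpace.Opens.mem_iSup.mp hx
      exact ⟨V, v, hV, hv⟩
  have hsub : ∀ (W : S.Opens) (U : S.Etale), Subsingleton (U ⟶ Scheme.Etale.mk W.ι) := by
    intro W U
    refine ⟨fun a b => MorphismProperty.Over.Hom.ext ?_⟩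
    rw [← cancel_mono W.ι]
    exact (MorphismProperty.Over.w a).trans (MorphismProperty.Over.w b).symm
  refine ⟨W, ⟨NatIso.ofComponents (fun U =>
    haveI := hF U.unop; haveI := hsub W U.unop
    { hom := TypeCat.ofHom fun s => ((key U.unop).mp ⟨s⟩).some
      inv := TypeCat.ofHom fun a => ((key U.unop).mpr ⟨a⟩).some
      hom_inv_id := by ext x; exact (hF U.unop).elim _ _
      inv_hom_id := by ext x; exact (hsub W U.unop).elim _ _ })
    (fun {U V} f => by ext x; exact (hsub W V.unop).elim _ _)⟩, ?_⟩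
  intro W' ⟨e⟩
  have h2 : ∀ U : S.Etale, Nonempty (U ⟶ Scheme.Etale.mk W'.ι) ↔ Nonempty (U ⟶ Scheme.Etale.mk W.ι) :=
    fun U => by
      rw [← key U]
      exact ⟨fun ⟨a⟩ => ⟨e.inv.app (op U) a⟩, fun ⟨s⟩ => ⟨e.hom.app (op U) s⟩⟩
  have hle : ∀ A B : S.Opens, Nonempty (Scheme.Etale.mk A.ι ⟶ Scheme.Etale.mk B.ι) → A ≤ B := by
    rintro A B ⟨f⟩ x hx
    have := MorphismProperty.Over.w f
    have h3 : B.ι (f.left ⟨x, hx⟩) = x := congr($this ⟨x, hx⟩)
    rw [← h3]; exact (f.left ⟨x, hx⟩).2
  exact le_antisymm (hle _ _ ((h2 _).mp ⟨𝟙 _⟩)) (hle _ _ ((h2 _).mpr ⟨𝟙 _⟩))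

end Groth.Agent.S0644
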