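import Groth.Statements.S0645
import Groth.Agent.EtPBC.Acyclic
import Groth.Agent.S3095
import Groth.Agent.ProjMor.ProjSpaceBase

set_option autoImplicit false
open CategoryTheory CategoryTheory.Limits AlgebraicGeometry Opposite
universe u
open EtCore

namespace Groth.Agent.S0645

/-- Let A be a henselian local ring, X the projective line over A, X_0 its closed fibre (base change to
the residue field) and ℓ a prime. Let I be an abelian sheaf on the small etale site of X killed by ℓ
which is injective in the full subcategory of sheaves killed by ℓ (an injective sheaf of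
Z/ℓ-modules). Then the pullback of I to X_0 has vanishing etale cohomology in positive degrees. -/
theorem result (A : Type u) [CommRing A] [HenselianLocalRing A]
    (ℓ : ℕ) [Fact ℓ.Prime] (I : EtCoh.Ab (CohB1.ProjSpace 1 A)) (hI : EtCoh.KilledBy ℓ I)
    (hinj : Injective (ObjectProperty.FullSubcategory.mk (P := fun F : EtCoh.Ab (CohB1.ProjSpace 1 A) => EtCoh.KilledBy ℓ F) I hI))
    (q : ℕ) (hq : 1 ≤ q) :
    Subsingleton (EtCoh.H (pullback (CohB1.ProjSpace.toSpec 1 A) (Spec.map (CommRingCat.ofHom (IsLocalRing.residue A))))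
      ((EtCoh.pull (pullback.fst (CohB1.ProjSpace.toSpec 1 A)
        (Spec.map (CommRingCat.ofHom (IsLocalRing.residue A))))).obj I) q) := by
  have hinj' : Groth.Agent.EtPBC.InjKilled ℓ I := fun G hG a G' e hG' he => by
    haveI := hinj
    let P := fun F : EtCoh.Ab (CohB1.ProjSpace 1 A) => EtCoh.KilledBy ℓ F
    let e' : ObjectProperty.FullSubcategory.mk (P := P) G hG ⟶ ObjectProperty.FullSubcategory.mk (P := P) G' hG' :=
      ObjectProperty.homMk e
    haveI : Mono e' := ObjectProperty.ι P |>.mono_of_mono_map he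
    let a' : ObjectProperty.FullSubcategory.mk (P := P) G hG ⟶ ObjectProperty.FullSubcategory.mk (P := P) I hI :=
      ObjectProperty.homMk a
    exact ⟨(Injective.factorThru a' e').hom, congrArg (fun t => t.hom) (Injective.comp_factorThru a' e')⟩
  have hℓ : 0 < ℓ := (Fact.out : ℓ.Prime).pos
  let i := pullback.fst (CohB1.ProjSpace.toSpec 1 A) (Spec.map (CommRingCat.ofHom (IsLocalRing.residue A)))
  haveI : IsProper (CohB1.ProjSpace.toSpec 1 A) := _root_.ProjMor.isProper_toSpec 1 A
  haveI := Groth.Agent.EtPullExact.pull_preservesFiniteLimits i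
  haveI : EtCoh.BCCont i := inferInstance
  have hT : EtCoh.IsTorsion I := fun U s x =>
    ⟨U, 𝟙 U, ⟨x, rfl⟩, isOfFinAddOrder_iff_nsmul_eq_zero.2 ⟨ℓ, hℓ, hI U _⟩⟩
  obtain ⟨q, rfl⟩ : ∃ k, q = k + 1 := ⟨q - 1, by omega⟩
  haveI := hinj'.subsingleton_H hℓ hI q
  exact (Groth.Agent.S3095.result A _ (CohB1.ProjSpace.toSpec 1 A) I hT (q + 1)).2.subsingleton

end Groth.Agent.S0645
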