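import Groth.Statements.S0653
import Groth.Agent.ShriekLQF.Comp

set_option autoImplicit false
open CategoryTheory CategoryTheory.Limits AlgebraicGeometry Opposite
universe u
open EtCore

set_option backward.isDefEq.respectTransparency false

namespace Groth.Agent.S0653

/-- Consider a cartesian square U = X x_Y V with f : X -> Y finite, j : V -> Y an open immersion, j' : U
-> X and g : U -> V the projections. Then for every abelian sheaf F on the small etale site of U,
f_* j'_! F is isomorphic to j_! g_* F. (The source also asserts functoriality in F; only the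
objectwise isomorphism is stated.) (Continuity of the composition functor of etale sites, which
always holds, is carried as an instance hypothesis.) -/
theorem result {U X V Y : Scheme.{u}} (f : X ⟶ Y) [IsFinite f] (j : V ⟶ Y)
    [IsOpenImmersion j] [AlgebraicGeometry.Etale j] [EtShriek.JCont j] (j' : U ⟶ X) [IsOpenImmersion j']
    [AlgebraicGeometry.Etale j'] [EtShriek.JCont j'] (g : U ⟶ V) (h : IsPullback j' g f j) (F : EtCoh.Ab U) :
    Nonempty ((EtCoh.push f).obj ((EtShriek.extZero j').obj F) ≅ (EtShriek.extZero j).obj ((EtCoh.push g).obj F)) := by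
  haveI : IsProper f := inferInstance
  haveI : IsFinite g := MorphismProperty.of_isPullback h inferInstance
  haveI : IsSeparated j' := inferInstance
  haveI := Groth.Agent.FpqcDescent.locallyQuasiFinite_of_etale j'
  obtain ⟨e1⟩ := Groth.Agent.ShriekLQF.nonempty_extZero_iso_lowerShriek j'
  obtain ⟨e2⟩ := Groth.Agent.ShriekLQF.nonempty_lowerShriek_comp j' f
  obtain ⟨φ, -, -⟩ := Groth.Agent.ShriekLQF.exists_comp_iso g j
  obtain ⟨e3⟩ := Groth.Agent.ShriekLQF.nonempty_extZero_iso_lowerShriek j
  have e4 : Nonempty (EtShriek.lowerShriek g ≅ EtCoh.push g) := by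
    let a : EtShriek.lowerShriek g ⟶ EtCoh.push g :=
      { app := EtShriek.lowerShriekToPush g
        naturality := fun _ _ m => Groth.Agent.ShriekLQF.toPush_natural g m }
    haveI : ∀ F, Mono (a.app F) := fun F => Groth.Agent.ShriekLQF.mono_toPush _ F
    let b : EtCoh.push g ⟶ EtCoh.push g := 𝟙 _
    haveI : ∀ F, Mono (b.app F) := fun F => by rw [NatTrans.id_app]; infer_instance
    refine Groth.Agent.ShriekLQF.nonempty_natIso a b fun F V s => ?_
    refine ⟨fun _ => ⟨s, rfl⟩, fun _ => (Groth.Agent.ShriekLQF.range_toPush g F V s).mpr ?_⟩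
    haveI : IsProper (EtShriek.prV g V) := MorphismProperty.pullback_fst _ _ inferInstance
    exact ClSubLib.isProperOver_of_subset _ (𝟙 _) _ (Groth.Agent.EtSect.isClosed_sectSupp F _) (by simp)
  obtain ⟨e4⟩ := e4
  exact ⟨(EtCoh.push f).mapIso (e1.app F) ≪≫ e2.symm.app F ≪≫
    eqToIso (by rw [h.w]) ≪≫ φ.app F ≪≫ (EtShriek.lowerShriek j).mapIso (e4.app F) ≪≫ e3.symm.app _⟩

end Groth.Agent.S0653
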