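import Groth.Statements.S0654
import Groth.Agent.EtShriekStalk.Basic
import Groth.Agent.EtPushStalk.Unit
import Groth.Agent.EtPushStalk.UnivInj
import Groth.Agent.EtPushStalk.OpenImm

set_option autoImplicit false
open CategoryTheory CategoryTheory.Limits AlgebraicGeometry Opposite
universe u
open EtCore

set_option backward.isDefEq.respectTransparency false

set_option backward.isDefEq.respectTransparency false

namespace Groth.Agent.S0654

/-- Let i : Z -> X be a closed immersion and j : U -> X the open immersion of the complement of its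
image. For every abelian sheaf F on the small etale site of X, the counit j_! (F|_U) -> F followed
by the unit F -> i_* i^{-1} F composes to zero and the resulting three-term sequence is short exact.
(Continuity of the composition functor of etale sites, which always holds, is carried as an instance
hypothesis.) -/
theorem result {Z X : Scheme.{u}} (i : Z ⟶ X) [IsClosedImmersion i]
    (U : X.Opens) (hU : (U : Set X) = (Set.range i.base)ᶜ) [AlgebraicGeometry.Etale U.ι] [EtShriek.JCont U.ι]
    (F : EtCoh.Ab X) :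
    ∃ w : (EtShriek.extZeroAdj U.ι).counit.app F ≫ (EtCoh.pullPushAdj i).unit.app F = 0,
      (ShortComplex.mk _ _ w).ShortExact := by
  haveI : IsOpenImmersion U.ι := inferInstance
  have hd : ∀ x, x ∈ Set.range U.ι → x ∉ Set.range i := fun x hx hi => by
    rw [Scheme.Opens.range_ι, hU] at hx
    exact hx hi
  have hdisj : ∀ W : (U : Scheme.{u}).Etale, Subsingleton (((EtShriek.restrAlong U.ι).obj
      ((EtCoh.push i).obj ((EtCoh.pull i).obj F))).obj.obj (op W)) := fun W => by
    refine Groth.Agent.EtStalk.subsingleton_of_isEmpty _ ((EtCoh.bc i).obj ((EtShriek.compEtale U.ι).obj W)) ?_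
    refine ⟨fun z => ?_⟩
    let z' : (pullback (W.hom ≫ U.ι) i : Scheme.{u}) := z
    have h := congr($(pullback.condition (f := W.hom ≫ U.ι) (g := i)) z')
    exact hd _ ⟨_, h⟩ ⟨_, rfl⟩
  have hw : (EtShriek.extZeroAdj U.ι).counit.app F ≫ (EtCoh.pullPushAdj i).unit.app F = 0 := by
    apply ((EtShriek.extZeroAdj U.ι).homEquiv _ _).injective
    refine Sheaf.hom_ext (NatTrans.ext (funext fun W => ?_))
    ext t
    exact (hdisj W.unop).elim _ _
  refine ⟨hw, ?_⟩
  let S := ShortComplex.mk _ _ hw
  have hkey : ∀ (Ω : Type u) [Field Ω] [IsSepClosed Ω] (ξ : Spec (CommRingCat.of Ω) ⟶ X),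
      (IsIso ((EtCoh.stalk ξ).map S.f) ∧ IsZero ((EtCoh.stalk ξ).obj S.X₃)) ∨
        (IsZero ((EtCoh.stalk ξ).obj S.X₁) ∧ IsIso ((EtCoh.stalk ξ).map S.g)) := by
    intro Ω _ _ ξ
    by_cases h : ξ (default : Spec (CommRingCat.of Ω)) ∈ Set.range U.ι
    · left
      refine ⟨?_, ?_⟩
      · have hr : Set.range ξ ⊆ Set.range U.ι := by
          rintro _ ⟨z, rfl⟩
          rwa [Subsingleton.elim (α := Spec (CommRingCat.of Ω)) z (default : Spec (CommRingCat.of Ω))]
        rw [← IsOpenImmersion.lift_fac U.ι ξ hr]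
        let ξ' := IsOpenImmersion.lift U.ι ξ hr
        have h1 : IsIso ((EtShriek.restrAlong U.ι).map S.f) := by
          have h := (EtShriek.extZeroAdj U.ι).right_triangle_components F
          have := Groth.Agent.EtPushStalk.isIso_unit_extZero U.ι ((EtShriek.restrAlong U.ι).obj F)
          have : IsIso ((EtShriek.extZeroAdj U.ι).unit.app ((EtShriek.restrAlong U.ι).obj F) ≫
              (EtShriek.restrAlong U.ι).map S.f) := by
            rw [show _ ≫ (EtShriek.restrAlong U.ι).map S.f = 𝟙 _ from h]; exact IsIso.id _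
          exact IsIso.of_isIso_comp_left ((EtShriek.extZeroAdj U.ι).unit.app ((EtShriek.restrAlong U.ι).obj F)) _
        have h2 : IsIso ((EtCoh.pull U.ι).map S.f) :=
          (NatIso.isIso_map_iff (Groth.Agent.EtPushStalk.restrPullIso U.ι) S.f).mp h1
        exact (NatIso.isIso_map_iff (Groth.Agent.EtStalk.stalkPullIso U.ι ξ') S.f).mpr
          (inferInstanceAs (IsIso ((EtCoh.stalk ξ').map ((EtCoh.pull U.ι).map S.f))))
      · exact Groth.Agent.EtStalk.isZero_stalk_push i _ ξ
          (Groth.Agent.EtPushStalk.disjoint_of_not_mem i ξ (hd _ h))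
    · right
      refine ⟨?_, ?_⟩
      · haveI : IsEmpty (Groth.Agent.EtShriekStalk.Lifts U.ι ξ) :=
          ⟨fun u => h ⟨u.1 (default : Spec (CommRingCat.of Ω)), congr($(u.2) (default : Spec (CommRingCat.of Ω)))⟩⟩
        refine IsZero.of_iso ?_ (Groth.Agent.EtShriekStalk.stalkExtZeroIso U.ι ξ _)
        rw [IsZero.iff_id_eq_zero]
        exact Sigma.hom_ext _ _ fun u => isEmptyElim u
      · have hz : ξ (default : Spec (CommRingCat.of Ω)) ∈ Set.range i := by
          by_contra hne
          exact h (by rw [Scheme.Opens.range_ι, hU]; exact hne)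
        obtain ⟨ζ, rfl⟩ := Groth.Agent.EtPushStalk.exists_lift_point i ξ hz
        have h1 := Groth.Agent.EtPushStalk.stalkPullIso_hom_eq i ζ F
        have h2 := Groth.Agent.EtPushStalk.isIso_stalkPushHom ζ ((EtCoh.pull i).obj F)
          (Groth.Agent.EtPushStalk.liftProp_of_closedImmersion i)
        have : IsIso ((EtCoh.stalk (ζ ≫ i)).map S.g ≫
            Groth.Agent.EtPushStalk.stalkPushHom i ζ ((EtCoh.pull i).obj F)) := by
          rw [show (EtCoh.stalk (ζ ≫ i)).map S.g ≫
            Groth.Agent.EtPushStalk.stalkPushHom i ζ ((EtCoh.pull i).obj F) = _ from h1.symm]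
          infer_instance
        exact IsIso.of_isIso_comp_right _ (Groth.Agent.EtPushStalk.stalkPushHom i ζ ((EtCoh.pull i).obj F))
  have hm : Mono S.f := (Groth.Agent.EtStalk.mono_iff _).mpr fun Ω _ _ ξ => by
    rcases hkey Ω ξ with ⟨h, -⟩ | ⟨h, -⟩
    · exact ((ConcreteCategory.isIso_iff_bijective _).mp h).1
    · have := AddCommGrpCat.subsingleton_of_isZero h
      exact fun a b _ => Subsingleton.elim a b
  have he : Epi S.g := (Groth.Agent.EtStalk.epi_iff _).mpr fun Ω _ _ ξ => by
    rcases hkey Ω ξ with ⟨-, h⟩ | ⟨-, h⟩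
    · have := AddCommGrpCat.subsingleton_of_isZero h
      exact fun b => ⟨0, Subsingleton.elim _ b⟩
    · exact ((ConcreteCategory.isIso_iff_bijective _).mp h).2
  refine ShortComplex.ShortExact.mk' ((Groth.Agent.EtStalk.exact_iff S).mpr fun Ω _ _ ξ => ?_) hm he
  rw [ShortComplex.ab_exact_iff]
  intro x hx
  rcases hkey Ω ξ with ⟨h, -⟩ | ⟨-, h⟩
  · exact ((ConcreteCategory.isIso_iff_bijective _).mp h).2 x
  · refine ⟨0, ?_⟩
    rw [map_zero]
    exact ((ConcreteCategory.isIso_iff_bijective _).mp h).1 ((map_zero _).trans hx.symm)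

end Groth.Agent.S0654
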