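import Groth.Statements.S0658
import Mathlib

set_option autoImplicit false
open CategoryTheory CategoryTheory.Limits AlgebraicGeometry Opposite
universe u
open EtCore

set_option backward.isDefEq.respectTransparency false

namespace Groth.Agent.S0658

theorem piece (k : Type u) [Field k] (V : Scheme.{u}) (φ : V ⟶ Spec (CommRingCat.of k))
    [AlgebraicGeometry.Etale φ] [Subsingleton V] [Nonempty V] :
    ∃ (K : Type u) (_ : Field K) (_ : Algebra k K) (_ : FiniteDimensional k K) (_ : Algebra.IsSeparable k K)
      (e : Spec (CommRingCat.of K) ≅ V),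
        e.hom ≫ φ = Spec.map (CommRingCat.ofHom (algebraMap k K)) := by
  obtain ⟨g, hg⟩ := Spec.map_surjective (V.isoSpec.inv ≫ φ)
  algebraize [g.hom]
  have hE : AlgebraicGeometry.Etale (Spec.map g) := by rw [hg]; infer_instance
  have : Algebra.Etale k Γ(V, ⊤) := (HasRingHomProperty.Spec_iff (P := @AlgebraicGeometry.Etale)).mp hE
  have hf := Algebra.FormallyUnramified.finite_of_free k Γ(V, ⊤)
  have := Algebra.FormallyUnramified.isReduced_of_field k Γ(V, ⊤)
  have : Subsingleton (PrimeSpectrum Γ(V, ⊤)) := V.isoSpec.inv.homeomorph.injective.subsingleton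
  have : Nonempty (PrimeSpectrum Γ(V, ⊤)) := V.isoSpec.inv.homeomorph.surjective.nonempty
  have : Nontrivial Γ(V, ⊤) := PrimeSpectrum.nonempty_iff_nontrivial.mp inferInstance
  obtain ⟨m, hm⟩ := Ideal.exists_maximal Γ(V, ⊤)
  have hb : m = ⊥ := by
    rw [eq_bot_iff]
    intro x hx
    have : IsNilpotent x := (mem_nilradical).mp (by
      rw [nilradical_eq_sInf, Ideal.mem_sInf]
      intro p hp
      have := Subsingleton.elim (⟨p, hp⟩ : PrimeSpectrum _) ⟨m, hm.isPrime⟩
      rw [show p = m from congrArg PrimeSpectrum.asIdeal this]; exact hx)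
    exact this.eq_zero
  let : Field Γ(V, ⊤) := (Ring.isField_iff_maximal_bot.mpr (hb ▸ hm)).toField
  refine ⟨Γ(V, ⊤), inferInstance, inferInstance, hf, ?_, V.isoSpec.symm, hg.symm⟩
  exact (Algebra.FormallyEtale.iff_isSeparable k _).mp inferInstance

theorem discrete_aux (k : Type u) [Field k] {U : Scheme.{u}} (R : CommRingCat.{u}) (g : CommRingCat.of k ⟶ R)
    (hE : AlgebraicGeometry.Etale (Spec.map g)) (f : Spec R ⟶ U) [IsOpenImmersion f] (y : Spec R) :
    IsOpen {f y} := by
  algebraize [g.hom]
  have : Algebra.Etale k R := (HasRingHomProperty.Spec_iff (P := @AlgebraicGeometry.Etale)).mp hE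
  have := Algebra.FormallyUnramified.finite_of_free k R
  have : IsArtinianRing R := IsArtinianRing.of_finite k R
  have : DiscreteTopology (Spec R) := inferInstanceAs (DiscreteTopology (PrimeSpectrum R))
  simpa using f.isOpenEmbedding.isOpenMap _ (isOpen_discrete {y})

theorem discrete (k : Type u) [Field k] (U : Scheme.{u}) (φ : U ⟶ Spec (CommRingCat.of k))
    [AlgebraicGeometry.Etale φ] : DiscreteTopology U := by
  refine discreteTopology_iff_isOpen_singleton.mpr fun x => ?_
  obtain ⟨i, y, rfl⟩ := U.affineCover.exists_eq x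
  obtain ⟨g, hg⟩ := Spec.map_surjective (U.affineCover.f i ≫ φ)
  exact discrete_aux k _ g (by rw [hg]; infer_instance) _ y


/-- Let k be a field and φ : U → Spec k a morphism of schemes. Then φ is étale if and only if U is
isomorphic over k to a disjoint union ∐ Spec K_i with each K_i a finite separable field extension of
k. -/
theorem result (k : Type u) [Field k] (U : Scheme.{u}) (φ : U ⟶ Spec (CommRingCat.of k)) :
    AlgebraicGeometry.Etale φ ↔
      ∃ (ι : Type u) (K : ι → Type u) (_ : ∀ i, Field (K i)) (_ : ∀ i, Algebra k (K i))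
        (_ : ∀ i, FiniteDimensional k (K i)) (_ : ∀ i, Algebra.IsSeparable k (K i))
        (e : (∐ fun i => Spec (CommRingCat.of (K i))) ≅ U),
        ∀ i, Sigma.ι (fun i => Spec (CommRingCat.of (K i))) i ≫ e.hom ≫ φ =
          Spec.map (CommRingCat.ofHom (algebraMap k (K i))) := by
  constructor
  · intro h
    have : DiscreteTopology U := discrete k U φ
    let W : U → U.Opens := fun x => ⟨{x}, isOpen_discrete _⟩
    have hs : ∀ x, Subsingleton (W x).toScheme := fun x => inferInstanceAs (Subsingleton ({x} : Set U))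
    have hn : ∀ x, Nonempty (W x).toScheme := fun x => ⟨(⟨x, rfl⟩ : ({x} : Set U))⟩
    have := fun x => piece k (W x).toScheme ((W x).ι ≫ φ)
    choose K hF hA hD hS e he using this
    have hr : ∀ x, ((e x).hom ≫ (W x).ι).opensRange = W x := fun x => by
      rw [Scheme.Hom.opensRange_comp_of_isIso, Scheme.Opens.opensRange_ι]
    obtain ⟨hc⟩ := nonempty_isColimit_cofanMk_of (S := U) (fun x => (e x).hom ≫ (W x).ι)
      (by rw [eq_top_iff]; intro x _; exact TopologicalSpace.Opens.mem_iSup.mpr ⟨x, by rw [hr]; rfl⟩)
      (by intro i j hij; simp only [Function.onFun, hr]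
          rw [disjoint_iff]; ext x
          simp only [TopologicalSpace.Opens.coe_inf, TopologicalSpace.Opens.coe_bot, Set.mem_inter_iff, Set.mem_empty_iff_false, iff_false]
          rintro ⟨a, b⟩; exact hij ((show x = i from a).symm.trans b))
    refine ⟨U, K, hF, hA, hD, hS, (coproductIsCoproduct _).coconePointUniqueUpToIso hc, fun i => ?_⟩
    rw [← Category.assoc]
    erw [(coproductIsCoproduct _).comp_coconePointUniqueUpToIso_hom hc ⟨i⟩]
    simpa using he i
  · rintro ⟨ι, K, _, _, _, _, e, he⟩
    have : φ = e.inv ≫ Sigma.desc (fun i => Spec.map (CommRingCat.ofHom (algebraMap k (K i)))) := by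
      rw [Iso.eq_inv_comp]; apply Sigma.hom_ext; intro i; rw [Sigma.ι_desc]; exact he i
    rw [this]
    have hE : AlgebraicGeometry.Etale (Sigma.desc (fun i => Spec.map (CommRingCat.ofHom (algebraMap k (K i))))) := by
      apply IsZariskiLocalAtSource.sigmaDesc
      intro i
      rw [HasRingHomProperty.Spec_iff (P := @AlgebraicGeometry.Etale)]
      change (algebraMap k (K i)).Etale
      rw [RingHom.etale_algebraMap]
      have : Algebra.FormallyEtale k (K i) := Algebra.FormallyEtale.of_isSeparable k (K i)
      exact ⟨inferInstance, Algebra.FinitePresentation.of_finiteType.mp inferInstance⟩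
    infer_instance

end Groth.Agent.S0658
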