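import Groth.Statements.S0660
import Groth.Agent.EtSect.Locus
import Groth.Agent.EtaleSections.Basic
import Groth.Prelude.Def_EtBase
import Mathlib

set_option autoImplicit false
open CategoryTheory CategoryTheory.Limits AlgebraicGeometry Opposite
universe u
open EtCore

set_option backward.isDefEq.respectTransparency false

namespace Groth.Agent.S0660

/-- Let i : Z -> X be a closed immersion, U and U' schemes etale over X, and h a Z-morphism from U x_X Z
to U' x_X Z. Then there are an etale X-scheme W and X-morphisms a : W -> U, b : W -> U' such that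
the base change of a to Z is an isomorphism and h is the base change of b composed with the inverse
of the base change of a. -/
theorem result {Z X : Scheme.{u}} (i : Z ⟶ X) [IsClosedImmersion i] (U U' : X.Etale)
    (h : (EtCoh.bc i).obj U ⟶ (EtCoh.bc i).obj U') :
    ∃ (W : X.Etale) (a : W ⟶ U) (b : W ⟶ U'), IsIso ((EtCoh.bc i).map a) ∧ (EtCoh.bc i).map a ≫ h = (EtCoh.bc i).map b := by
  have := U.prop
  have := U'.prop
  have hw : h.left ≫ pullback.snd U'.hom i = pullback.snd U.hom i := MorphismProperty.Over.w h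
  let P : X.Etale := Scheme.Etale.mk (pullback.fst U.hom U'.hom ≫ U.hom)
  let pu : P ⟶ U := MorphismProperty.Over.homMk (pullback.fst U.hom U'.hom) rfl
  let pv : P ⟶ U' := MorphismProperty.Over.homMk (pullback.snd U.hom U'.hom) pullback.condition.symm
  let γ₁ : ((EtCoh.bc i).obj U).left ⟶ P.left :=
    pullback.lift (pullback.fst U.hom i) (h.left ≫ pullback.fst U'.hom i) (by
      change pullback.fst U.hom i ≫ U.hom = (h.left ≫ pullback.fst U'.hom i) ≫ U'.hom
      rw [pullback.condition, Category.assoc, pullback.condition, ← hw, Category.assoc])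
  let Γ : (EtCoh.bc i).obj U ⟶ (EtCoh.bc i).obj P := MorphismProperty.Over.homMk
    (pullback.lift γ₁ (pullback.snd U.hom i) (by
      change γ₁ ≫ pullback.fst U.hom U'.hom ≫ U.hom = pullback.snd U.hom i ≫ i
      rw [← Category.assoc, pullback.lift_fst, pullback.condition]))
    (pullback.lift_snd _ _ _)
  have hΓ₁ : Γ.left ≫ pullback.fst P.hom i = γ₁ := pullback.lift_fst _ _ _
  have hΓu : Γ ≫ (EtCoh.bc i).map pu = 𝟙 _ := by
    refine MorphismProperty.Over.Hom.ext ?_
    change Γ.left ≫ ((EtCoh.bc i).map pu).left = 𝟙 _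
    apply pullback.hom_ext
    · erw [Category.assoc, (EtCoh.isPullback_bc_map i pu).w, reassoc_of% hΓ₁, Category.id_comp]
      exact pullback.lift_fst _ _ _
    · erw [Category.assoc, MorphismProperty.Over.w ((EtCoh.bc i).map pu), Category.id_comp]
      exact pullback.lift_snd _ _ _
  have hΓv : Γ ≫ (EtCoh.bc i).map pv = h := by
    refine MorphismProperty.Over.Hom.ext ?_
    change Γ.left ≫ ((EtCoh.bc i).map pv).left = h.left
    apply pullback.hom_ext
    · erw [Category.assoc, (EtCoh.isPullback_bc_map i pv).w, reassoc_of% hΓ₁]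
      exact pullback.lift_snd _ _ _
    · erw [Category.assoc, MorphismProperty.Over.w ((EtCoh.bc i).map pv)]
      exact (pullback.lift_snd _ _ _).trans hw.symm
  have hmono : Mono Γ.left := by
    have h1 : Γ.left ≫ ((EtCoh.bc i).map pu).left = 𝟙 _ := congrArg (fun m => m.left) hΓu
    have : IsSplitMono Γ.left := ⟨⟨⟨_, h1⟩⟩⟩
    infer_instance
  have := Groth.Agent.EtSect.etale_left Γ
  have hΓo : IsOpenImmersion Γ.left :=
    Groth.Agent.EtaleSections.isOpenImmersion_section ((EtCoh.bc i).map pu).left Γ.left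
      (congrArg (fun m => m.left) hΓu)
  obtain ⟨O, hO, hOΓ⟩ := ((pullback.fst P.hom i).isEmbedding.isInducing.isOpen_iff).mp Γ.left.opensRange.2
  let O' : P.left.Opens := ⟨O, hO⟩
  have := P.prop
  let W : X.Etale := Scheme.Etale.mk (O'.ι ≫ P.hom)
  let o : W ⟶ P := MorphismProperty.Over.homMk O'.ι rfl
  let m : ((EtCoh.bc i).obj W).left ⟶ ((EtCoh.bc i).obj P).left := ((EtCoh.bc i).map o).left
  have hm : IsOpenImmersion m :=
    MorphismProperty.of_isPullback (P := @IsOpenImmersion) (EtCoh.isPullback_bc_map i o).flip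
      (inferInstanceAs (IsOpenImmersion O'.ι))
  have hrange : Set.range m = Set.range Γ.left := by
    have h2 : Set.range m = pullback.fst P.hom i ⁻¹' O := by
      have sq := (EtCoh.isPullback_bc_map i o)
      ext z
      constructor
      · rintro ⟨w, rfl⟩
        change (m ≫ pullback.fst P.hom i) w ∈ O
        rw [show m ≫ pullback.fst P.hom i = pullback.fst W.hom i ≫ O'.ι from sq.w]
        exact (pullback.fst W.hom i w).2
      · intro hz
        obtain ⟨a, ha, -⟩ := Scheme.Pullback.exists_preimage_pullback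
          (f := pullback.fst P.hom i) (g := o.left) z (⟨_, hz⟩ : O') rfl
        exact ⟨sq.isoPullback.inv a, by
          rw [← ha]
          exact congr($(sq.isoPullback_inv_fst) a)⟩
    rw [h2, hOΓ]
    rfl
  let e := IsOpenImmersion.isoOfRangeEq Γ.left m hrange.symm
  have he : e.hom ≫ m = Γ.left := IsOpenImmersion.isoOfRangeEq_hom_fac _ _ _
  have hmu : m ≫ ((EtCoh.bc i).map pu).left = e.inv := by
    rw [← cancel_epi e.hom, ← Category.assoc, he, Iso.hom_inv_id]
    exact congrArg (fun k => k.left) hΓu
  refine ⟨W, o ≫ pu, o ≫ pv, ?_, ?_⟩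
  · have : IsIso ((EtCoh.bc i).map (o ≫ pu)).left := by
      rw [Functor.map_comp]
      change IsIso (m ≫ ((EtCoh.bc i).map pu).left)
      rw [hmu]; infer_instance
    have : IsIso ((Scheme.Etale.forget Z).map ((EtCoh.bc i).map (o ≫ pu))) :=
      @isIso_of_reflects_iso _ _ _ _ _ _ _ (Over.forget Z) this _
    exact isIso_of_reflects_iso ((EtCoh.bc i).map (o ≫ pu)) (Scheme.Etale.forget Z)
  · refine MorphismProperty.Over.Hom.ext ?_
    simp only [Functor.map_comp]
    change (m ≫ ((EtCoh.bc i).map pu).left) ≫ h.left = m ≫ ((EtCoh.bc i).map pv).left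
    rw [hmu, ← cancel_epi e.hom, Iso.hom_inv_id_assoc, ← Category.assoc, he]
    exact (congrArg (fun k => k.left) hΓv).symm

end Groth.Agent.S0660
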