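import Groth.Statements.S0663
import Groth.Agent.EtPBC.CurveAffineOpen

set_option autoImplicit false
open CategoryTheory CategoryTheory.Limits AlgebraicGeometry Opposite
universe u
open EtCore

namespace Groth.Agent.S0663

/-- Let k be an algebraically closed field, Xb a smooth proper curve over k, U the open complement of r
≥ 1 closed points of Xb and n ≥ 1 invertible in k. Then the global sections of the sheaf of n-th
roots of unity on U form a group isomorphic to the n-th roots of unity of k, and H^q(U, μ_n)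
vanishes for q ≥ 2. -/
theorem result (k : Type u) [Field k] [IsAlgClosed k] (Xb : Scheme.{u})
    [Xb.Over (Spec (CommRingCat.of k))] (hXb : Curve.IsSmoothProperCurve k Xb (Xb ↘ Spec (CommRingCat.of k)))
    (U : Xb.Opens) (r : ℕ) (hr : 1 ≤ r) (hUc : ((U : Set Xb)ᶜ).Finite) (hUr : Nat.card ↥((U : Set Xb)ᶜ) = r)
    (n : ℕ) (hn : 1 ≤ n) (hnk : (n : k) ≠ 0) :
    Nonempty (EtCoh.H (↑U : Scheme.{u}) (EtCoh.mu ↑U n) 0 ≃+ Additive ↥(rootsOfUnity n k)) ∧
    ∀ q : ℕ, 2 ≤ q → Subsingleton (EtCoh.H (↑U : Scheme.{u}) (EtCoh.mu ↑U n) q) := by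
  haveI := hXb.2.2.1
  haveI : Nonempty ↥((U : Set Xb)ᶜ) := (Nat.card_pos_iff.1 (by omega)).1
  obtain ⟨⟨x, hx⟩⟩ := ‹Nonempty ↥((U : Set Xb)ᶜ)›
  refine ⟨?_, fun q hq => (Groth.Agent.EtPBC.subsingleton_hOn_open hXb U hUc hx hn hnk q hq).1⟩
  obtain ⟨e⟩ := Groth.Agent.EtPBC.nonempty_mu_equiv (Xb ↘ Spec (CommRingCat.of k)) U hn hnk 0
  obtain ⟨eT⟩ := Groth.Agent.EtPBC.card_torsion_units (Xb ↘ Spec (CommRingCat.of k)) hn hnk
    ⟨_, Groth.Agent.EtPBC.genericPoint_mem_of_finite_compl hXb U hUc⟩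
  let r := Groth.Agent.EtPBC.kRootOf (Xb ↘ Spec (CommRingCat.of k)) hn hnk
  exact ⟨(e.trans ((AddEquiv.ofBijective (Groth.Agent.EtPBC.kTors r U 0)
    ⟨Groth.Agent.EtPBC.kTors_zero_injective r U, Groth.Agent.EtPBC.kTors_surjective r U 0⟩).trans
    (Groth.Agent.EtPBC.torsCongr (Groth.Agent.EtPBC.ext0Equiv U (EtCoh.Gm Xb))).symm)).trans eT.symm⟩

end Groth.Agent.S0663
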