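import Groth.Statements.S0671
import Groth.Agent.EtSect.Locus
import Groth.Agent.EtStalk.Conservative
import Groth.Agent.EtStalk.Sheaf

set_option autoImplicit false
open CategoryTheory CategoryTheory.Limits AlgebraicGeometry Opposite
universe u
open EtCore

set_option backward.isDefEq.respectTransparency false

namespace Groth.Agent.S0671

/-- For an abelian sheaf F on the small etale site of S and a section σ over an etale S-scheme U, the
support of σ is a closed subset of U; and a point of S has a nonzero geometric stalk exactly when it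
is the image of a point lying in the support of some section over some etale S-scheme. -/
theorem result {S : Scheme.{u}} (F : EtCoh.Ab S) :
    (∀ (U : S.Etale) (σ : EtCoh.sect F U), IsClosed (EtShriek.sectSupp F U σ)) ∧
    EtPBC.supp F = ⋃ (U : S.Etale) (σ : EtCoh.sect F U), U.hom.base '' EtShriek.sectSupp F U σ := by
  refine ⟨fun U σ => Groth.Agent.EtSect.isClosed_sectSupp F σ, Set.ext fun x => ?_⟩
  simp only [Set.mem_iUnion, Set.mem_image]
  constructor
  · rintro ⟨Ω, _, _, ξ, hξ, hne⟩
    by_contra hc
    apply hne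
    rw [AddCommGrpCat.isZero_iff_subsingleton]
    suffices h : ∀ z : ((Scheme.pointSmallEtale ξ).presheafFiber (A := AddCommGrpCat.{u + 1})).obj F.obj, z = 0 from
      ⟨fun a b => (h a).trans (h b).symm⟩
    intro z
    obtain ⟨V, v, t, rfl⟩ := (Scheme.pointSmallEtale ξ).toPresheafFiber_jointly_surjective z
    let v' : Over.mk ξ ⟶ (Scheme.Etale.forget S).obj V := v
    let p : V.left := v'.left (default : Spec (CommRingCat.of Ω))
    have hp : V.hom p = x := by
      have h1 : ξ (default : Spec (CommRingCat.of Ω)) = x :=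
        Set.mem_singleton_iff.mp (hξ ▸ Set.mem_range_self _)
      rw [← h1]
      exact congr($(Over.w v') (default : Spec (CommRingCat.of Ω)))
    obtain ⟨W, g, ⟨w, hw⟩, h0⟩ := (Groth.Agent.EtSect.mem_iff F t p).mp fun hmem => hc ⟨V, t, p, hmem, hp⟩
    have := Groth.Agent.EtSect.etale_left g
    obtain ⟨l, hl⟩ := Scheme.pointSmallEtaleFiberObjToPreimage_surjective (S := V.left)
      (v'.left) (s₀ := p) rfl (Scheme.Etale.mk g.left) ⟨w, hw⟩
    let l' : Over.mk v'.left ⟶ Over.mk g.left := l
    let y : (Scheme.pointSmallEtale ξ).fiber.obj W :=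
      (Over.homMk l'.left (by
        change l'.left ≫ W.hom = ξ
        rw [← MorphismProperty.Over.w g, ← Category.assoc]
        exact (congrArg (· ≫ V.hom) (Over.w l')).trans (Over.w v')) : Over.mk ξ ⟶ (Scheme.Etale.forget S).obj W)
    refine ((GrothendieckTopology.Point.toPresheafFiber_eq_iff' _ _ _ t 0).mpr
      ⟨W, g, y, ?_, by rw [h0, map_zero]⟩).trans (map_zero _)
    exact Over.OverMorphism.ext (Over.w l')
  · rintro ⟨U, σ, u, hu, rfl⟩
    obtain ⟨Ω, _, _, η, -, hη⟩ := Groth.Agent.EtStalk.covers_all (X := U.left) u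
    refine ⟨Ω, inferInstance, inferInstance, η ≫ U.hom, ?_, fun hz => ?_⟩
    · ext z
      simp only [Set.mem_range, Set.mem_singleton_iff]
      refine ⟨fun ⟨q, hq⟩ => ?_, fun h => ⟨default, ?_⟩⟩
      · rw [← hq, ← hη, Subsingleton.elim q default]; rfl
      · rw [h, ← hη]; rfl
    · rw [AddCommGrpCat.isZero_iff_subsingleton] at hz
      have : Subsingleton (((Scheme.pointSmallEtale (η ≫ U.hom)).presheafFiber (A := AddCommGrpCat.{u + 1})).obj F.obj) := hz
      let x₀ : (Scheme.pointSmallEtale (η ≫ U.hom)).fiber.obj U :=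
        (Over.homMk η rfl : Over.mk (η ≫ U.hom) ⟶ (Scheme.Etale.forget S).obj U)
      have h0 : (Scheme.pointSmallEtale (η ≫ U.hom)).toPresheafFiber U x₀ F.obj σ =
          (Scheme.pointSmallEtale (η ≫ U.hom)).toPresheafFiber U x₀ F.obj 0 :=
        Subsingleton.elim _ _
      obtain ⟨W, g, y, hy, h2⟩ := (GrothendieckTopology.Point.toPresheafFiber_eq_iff' _ _ _ _ _).mp h0
      rw [map_zero] at h2
      let y' : Over.mk (η ≫ U.hom) ⟶ (Scheme.Etale.forget S).obj W := y
      have hy2 : y'.left ≫ g.left = η := congrArg CommaMorphism.left hy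
      exact (Groth.Agent.EtSect.mem_iff F σ u).mpr
        ⟨W, g, ⟨y'.left (default : Spec (CommRingCat.of Ω)), by
          rw [← hη]; exact congr($hy2 (default : Spec (CommRingCat.of Ω)))⟩, h2⟩ hu

end Groth.Agent.S0671
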