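import Groth.Statements.S0673
import Groth.Agent.LAcyc.FieldInv
import Groth.Agent.LAcyc.BaseChange
import Groth.Agent.EtBCQ.DegZero

set_option autoImplicit false
open CategoryTheory CategoryTheory.Limits AlgebraicGeometry Opposite
universe u
open EtCore

namespace Groth.Agent.S0673

/-- For a single sheaf, degree by degree: let K -> L be a field extension, g : T -> S a quasi-compact
quasi-separated morphism of schemes over K, and g_L : T_L -> S_L its base change to L, with
projections T_L -> T and S_L -> S forming a cartesian square. Then for every abelian sheaf F on the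
small etale site of T whose torsion orders are invertible in K and every q, the pullback to S_L of
R^q g_* F is isomorphic to R^q (g_L)_* of the pullback of F to T_L (existence of an isomorphism; in
degree 0 the canonical base change map is an isomorphism). -/
theorem result {K L : Type u} [Field K] [Field L] (φ : K →+* L)
    {T S T' S' : Scheme.{u}} (b : S ⟶ Spec (CommRingCat.of K)) (g : T ⟶ S) [QuasiCompact g] [QuasiSeparated g]
    (p : S' ⟶ S) (b' : S' ⟶ Spec (CommRingCat.of L)) (hS : IsPullback p b' b (Spec.map (CommRingCat.ofHom φ)))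
    (g' : T' ⟶ S') (p' : T' ⟶ T) (hT : IsPullback p' g' g p)
    (F : EtCoh.Ab T) (hF : EtPBC.IsTorsionInvertibleOn (Spec (CommRingCat.of K)) F) (q : ℕ) :
    Nonempty ((EtCoh.pull p).obj ((EtCoh.Rpush g q).obj F) ≅ (EtCoh.Rpush g' q).obj ((EtCoh.pull p').obj F)) ∧
      IsIso (EtCoh.baseChange0 g p g' p' hT.w F) := by
  letI : Algebra K L := φ.toAlgebra
  haveI := Groth.Agent.EtCohDesc.pull_preservesFiniteLimits p'
  let c := Spec.map (CommRingCat.ofHom φ)
  have hu : ∀ n, EtAcyc.IsULocAcyclicN p {ℓ | ℓ.Prime ∧ ℓ ≠ ringChar K} n := fun n X₁ Y₁ g₁ a' a sq =>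
    Groth.Agent.LAcyc.isULocAcyclicN_field K L n g₁ (a' ≫ b') (a ≫ b) (sq.paste_horiz hS.flip)
  have hL := Groth.Agent.LAcyc.isLTorsion_mono (Groth.Agent.LAcyc.primes_of_invertibleOn K)
    (Groth.Agent.LAcyc.isLTorsion_of_isTorsionInvertibleOn (g ≫ b) hF)
  have h : ∀ n, IsIso (EtBC.bcQ g p g' p' hT.w n F) := fun n =>
    Groth.Agent.LAcyc.isIso_bcQ_uloc g p g' p' hT (hu n) F hL le_rfl
  haveI := h 0
  exact ⟨⟨@asIso _ _ _ _ _ (h q)⟩, Groth.Agent.EtBCQ.isIso_baseChange0_of_bcQ g p g' p' hT.w F⟩

end Groth.Agent.S0673
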