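import Groth.Statements.S0676
import Groth.Agent.IndEtLib.Retract

set_option autoImplicit false
open CategoryTheory CategoryTheory.Limits AlgebraicGeometry Opposite Topology
universe u
open ProEtW

set_option backward.isDefEq.respectTransparency false

namespace Groth.Agent.S0676

/-- If every faithfully flat etale A-algebra has an A-algebra retraction, then the same holds for the
quotient ring A/I for every ideal I. -/
theorem result (A : Type u) [CommRing A]
    (h : ProEtW.HasEtaleRetractions A) (I : Ideal A) :
    ProEtW.HasEtaleRetractions (A ⧸ I) := by
  exact Groth.Agent.IndEtLib.hasEtaleRetractions_quotient I h

end Groth.Agent.S0676
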