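import Groth.Statements.S0682
import Groth.Agent.ShriekColim.Main

set_option autoImplicit false
open CategoryTheory CategoryTheory.Limits AlgebraicGeometry Opposite
universe u
open EtShriek

set_option backward.isDefEq.respectTransparency false

namespace Groth.Agent.S0682

/-- For f : X -> Y separated and locally of finite type, the functor f_! on abelian etale sheaves
commutes with direct sums (coproducts indexed by any small type). -/
theorem result {X Y : Scheme.{u}} (f : X ⟶ Y) [IsSeparated f]
    [LocallyOfFiniteType f] (ι : Type u) :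
    PreservesColimitsOfShape (Discrete ι) (EtShriek.lowerShriek f) := by
  classical
  haveI := Groth.Agent.ShriekColim.preservesFilteredColimits f
  let L := EtShriek.lowerShriek f
  haveI : PreservesFiniteCoproducts L := L.preservesFiniteCoproductsOfAdditive
  refine ⟨fun {K} => ?_⟩
  let g : ι → EtCoh.Ab X := fun i => K.obj ⟨i⟩
  suffices IsIso (sigmaComparison L g) by
    haveI : PreservesColimit (Discrete.functor g) L := PreservesCoproduct.of_iso_comparison L g
    exact preservesColimit_of_iso_diagram _ (Discrete.natIso (fun _ => Iso.refl _) : Discrete.functor g ≅ K)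
  let h1 := CoproductsFromFiniteFiltered.isColimitFiniteSubproductsCocone g
  let h2 := CoproductsFromFiniteFiltered.isColimitFiniteSubproductsCocone (fun i => L.obj (g i))
  let e : CoproductsFromFiniteFiltered.liftToFinsetObj (Discrete.functor fun i => L.obj (g i)) ≅
      CoproductsFromFiniteFiltered.liftToFinsetObj (Discrete.functor g) ⋙ L :=
    NatIso.ofComponents (fun S => (PreservesCoproduct.iso L fun x : S => g x.1.as).symm) fun {S T} h => by
      refine Sigma.hom_ext _ _ fun x => ?_
      simp [← Functor.map_comp]
  let E := h2.coconePointsIsoOfNatIso (isColimitOfPreserves L h1) e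
  suffices sigmaComparison L g = E.hom by rw [this]; infer_instance
  refine Sigma.hom_ext _ _ fun i => ?_
  rw [ι_comp_sigmaComparison]
  have := IsColimit.comp_coconePointsIsoOfNatIso_hom h2 (isColimitOfPreserves L h1) e {⟨i⟩}
  have hι : Sigma.ι (fun x : ({⟨i⟩} : Finset (Discrete ι)) => L.obj (g x.1.as)) ⟨⟨i⟩, Finset.mem_singleton_self _⟩ ≫
      (CoproductsFromFiniteFiltered.finiteSubcoproductsCocone fun i => L.obj (g i)).ι.app {⟨i⟩} =
        Sigma.ι (fun i => L.obj (g i)) i := by simp
  rw [← hι, Category.assoc]
  refine Eq.symm (Eq.trans (congrArg (fun m => Sigma.ι (fun x : ({⟨i⟩} : Finset (Discrete ι)) => L.obj (g x.1.as))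
    ⟨⟨i⟩, Finset.mem_singleton_self _⟩ ≫ m) this) ?_)
  simp [e, ← Functor.map_comp]

end Groth.Agent.S0682
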