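import Groth.Statements.S0687
import Groth.Agent.ShriekLQF.Compact

set_option autoImplicit false
set_option backward.isDefEq.respectTransparency false
open CategoryTheory CategoryTheory.Limits AlgebraicGeometry Opposite
universe u
open EtShriek

set_option backward.isDefEq.respectTransparency false

namespace Groth.Agent.S0687

/-- Let k be a field, j : X → X' an open immersion into a scheme X' proper over k, and p : X → Spec k
the composite of j with the structure morphism of X', with p separated and locally of finite type.
Then for every abelian sheaf F on X_ét the group H^0_c(X, F) of sections with compact support (the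
global sections of F whose support is proper over k) is isomorphic to the group of global sections
H^0(X', j_!F) of the extension by zero of F. (Only the existence of an isomorphism of groups is
asserted; the published statement gives a canonical one.) -/
theorem result {k : Type u} [Field k] {X Xb : Scheme.{u}} (j : X ⟶ Xb)
    [IsOpenImmersion j] (pb : Xb ⟶ Spec (CommRingCat.of k)) [IsProper pb]
    (p : X ⟶ Spec (CommRingCat.of k)) (hp : p = j ≫ pb) [IsSeparated p] [LocallyOfFiniteType p]
    [EtShriek.JCont j] (F : EtCoh.Ab X) :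
    Nonempty ((EtShriek.H0c p F) ≃+ EtCoh.sect ((EtShriek.extZero j).obj F) (EtCoh.top Xb)) := by
  subst hp
  obtain ⟨e₀⟩ := Groth.Agent.ShriekLQF.nonempty_extZero_iso_lowerShriek j
  let G := (EtShriek.lowerShriek j).obj F
  let T := EtCoh.top Xb
  let P := (EtCoh.bc j).obj T
  let a : EtCoh.top X ⟶ P := MorphismProperty.Over.homMk
    (pullback.lift j (𝟙 X) ((Category.comp_id _).trans (Category.id_comp _).symm) :
      X ⟶ pullback (𝟙 Xb) j) (pullback.lift_snd _ _ _)
  let b : P ⟶ EtCoh.top X := MorphismProperty.Over.homMk (pullback.snd (𝟙 Xb) j) (Category.comp_id _)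
  have hab : a ≫ b = 𝟙 _ := MorphismProperty.Over.Hom.ext (pullback.lift_snd _ _ _)
  have hba : b ≫ a = 𝟙 _ := by
    refine MorphismProperty.Over.Hom.ext ?_
    show pullback.snd (𝟙 Xb) j ≫ pullback.lift j (𝟙 X) _ = 𝟙 _
    apply pullback.hom_ext
    · rw [Category.assoc, pullback.lift_fst, Category.id_comp, ← pullback.condition, Category.comp_id]
    · rw [Category.assoc, pullback.lift_snd, Category.comp_id, Category.id_comp]
  haveI : IsSeparated (j ≫ pb) := ‹_›
  haveI : IsProper (EtShriek.prV pb (EtCoh.top (Spec (CommRingCat.of k)))) := MorphismProperty.pullback_fst _ _ ‹_›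
  have hmem : ∀ s : EtCoh.sect F (EtCoh.top X), s ∈ EtShriek.H0c (j ≫ pb) F ↔
      ClSub.IsProperOver (j ≫ pb) (EtShriek.sectSupp F (EtCoh.top X) s) := fun s => by
    refine Iff.trans ?_ (Groth.Agent.ShriekLQF.hasProperSupport_iff F (EtCoh.top X) s (j ≫ pb))
    refine ⟨fun h => ?_, fun h => AddSubgroup.subset_closure h⟩
    induction h using AddSubgroup.closure_induction with
    | mem x hx => exact hx
    | zero =>
      rw [Groth.Agent.ShriekLQF.hasProperSupport_iff, Groth.Agent.ShriekLQF.sectSupp_zero]
      exact ClSubLib.isProperOver_empty _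
    | add x y _ _ hx hy =>
      rw [Groth.Agent.ShriekLQF.hasProperSupport_iff] at hx hy ⊢
      exact ClSubLib.mono (ClSubLib.isProperOver_union _ hx hy) (Groth.Agent.EtSect.isClosed_sectSupp F _)
        (Groth.Agent.ShriekLQF.sectSupp_add_subset F _ x y)
    | neg x _ hx =>
      rw [Groth.Agent.ShriekLQF.hasProperSupport_iff, Groth.Agent.ShriekLQF.sectSupp_neg]
      exact (Groth.Agent.ShriekLQF.hasProperSupport_iff F _ x _).mp hx
  have hset : ∀ t : EtCoh.sect F P, ClSub.IsProperOver (EtShriek.prV j T) (EtShriek.sectSupp F P t) ↔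
      F.obj.map a.op t ∈ EtShriek.H0c (j ≫ pb) F := fun t => by
    rw [hmem, Groth.Agent.ShriekLQF.sectSupp_map, Groth.Agent.ShriekLQF.isProperOver_comp_iff j pb]
    let E : X ≅ pullback (𝟙 Xb) j := ⟨pullback.lift j (𝟙 X) ((Category.comp_id _).trans (Category.id_comp _).symm),
      pullback.snd (𝟙 Xb) j, pullback.lift_snd _ _ _, congrArg (fun m => m.left) hba⟩
    haveI : IsIso E.hom := E.isIso_hom
    haveI : IsIso E.inv := E.isIso_inv
    haveI : IsClosedImmersion E.hom := inferInstance
    haveI : IsFinite E.hom := inferInstance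
    haveI : IsClosedImmersion E.inv := inferInstance
    let S : Set ↥(pullback (𝟙 Xb) j : Scheme.{u}) := EtShriek.sectSupp F P t
    show ClSub.IsProperOver (pullback.fst (𝟙 Xb) j) S ↔ ClSub.IsProperOver j (E.hom ⁻¹' S)
    constructor
    · exact fun h => ClSubLib.isProperOver_preimage E.hom (pullback.lift_fst _ _ _) h
    · intro h
      have hinv : E.inv ≫ j = pullback.fst (𝟙 Xb) j := by
        show pullback.snd (𝟙 Xb) j ≫ j = pullback.fst (𝟙 Xb) j
        rw [← pullback.condition, Category.comp_id]
      have h' := ClSubLib.isProperOver_preimage E.inv hinv h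
      convert h' using 1
      ext x
      simp only [Set.mem_preimage]
      rw [show E.hom (E.inv x) = x from congr($(E.inv_hom_id) x)]
  let β : EtCoh.sect G T →+ EtShriek.H0c (j ≫ pb) F :=
    ((F.obj.map a.op).hom.comp ((EtShriek.lowerShriekToPush j F).hom.app (op T)).hom).codRestrict _ fun z =>
      (hset _).mp ((Groth.Agent.ShriekLQF.range_toPush j F T _).mp ⟨z, rfl⟩)
  have hrt : ∀ t : EtCoh.sect F P, F.obj.map b.op (F.obj.map a.op t) = t := fun t => by
    rw [← ConcreteCategory.comp_apply, ← Functor.map_comp, ← op_comp, hba, op_id, CategoryTheory.Functor.map_id]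
    rfl
  have hrs : ∀ s : EtCoh.sect F (EtCoh.top X), F.obj.map a.op (F.obj.map b.op s) = s := fun s => by
    rw [← ConcreteCategory.comp_apply, ← Functor.map_comp, ← op_comp, hab, op_id, CategoryTheory.Functor.map_id]
    rfl
  have hb : Function.Bijective β := by
    constructor
    · intro z z' h
      haveI := Groth.Agent.ShriekLQF.mono_toPush j F
      apply Groth.Agent.ShriekLQF.mono_iff_app_injective (EtShriek.lowerShriekToPush j F) T
      have h2 := congrArg (fun q => F.obj.map b.op q.1) h
      exact ((hrt _).symm.trans h2).trans (hrt _)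
    · rintro ⟨s, hs⟩
      obtain ⟨z, hz⟩ := (Groth.Agent.ShriekLQF.range_toPush j F T (F.obj.map b.op s)).mpr
        ((hset _).mpr ((hrs s).symm ▸ hs))
      exact ⟨z, Subtype.ext ((congrArg (F.obj.map a.op) hz).trans (hrs s))⟩
  exact ⟨(AddEquiv.ofBijective β hb).symm.trans
    ((((sheafToPresheaf _ _).mapIso (e₀.app F)).app (op T)).addCommGroupIsoToAddEquiv).symm⟩

end Groth.Agent.S0687
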