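import Groth.Statements.S0689
import Groth.Agent.ShriekLQF.Adjoint

set_option autoImplicit false
open CategoryTheory CategoryTheory.Limits AlgebraicGeometry Opposite
universe u
open EtShriek

set_option backward.isDefEq.respectTransparency false

namespace Groth.Agent.S0689

/-- Suppose f : X → Y is a separated morphism of schemes that is locally of finite type and locally
quasi-finite. Then the functor f_! of direct image with proper support on abelian étale sheaves (for
separated f, a subsheaf of the ordinary direct image) admits a right adjoint; that is, f_! is a left
adjoint. -/
theorem result {X Y : Scheme.{u}} (f : X ⟶ Y) [IsSeparated f]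
    [LocallyOfFiniteType f] [LocallyQuasiFinite f] :
    (EtShriek.lowerShriek f).IsLeftAdjoint := by
  exact Groth.Agent.ShriekLQF.isLeftAdjoint f

end Groth.Agent.S0689
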