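import Groth.Statements.S0696
import Groth.Agent.WContr.PartZariski

set_option autoImplicit false
open CategoryTheory CategoryTheory.Limits AlgebraicGeometry Opposite Topology
universe u
open ProEtW

namespace Groth.Agent.S0696

/-- Every ring A admits a faithfully flat ind-Zariski extension B whose spectrum is w-local with
extremally disconnected space of connected components. -/
theorem result (A : Type u) [CommRing A] :
    ∃ (B : Type u) (_ : CommRing B) (_ : Algebra A B),
      Module.FaithfullyFlat A B ∧ EtPBC.IsIndZariski A B ∧ ProEtW.IsWLocal (PrimeSpectrum B) ∧
        ExtremallyDisconnected (_root_.ConnectedComponents (PrimeSpectrum B)) := by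
  exact ⟨WContr.PartLoc A, inferInstance, inferInstance, WContr.faithfullyFlat_partLoc A,
    WContr.isIndZariski_partLoc A, WContr.isWLocal_partLoc A,
    WContr.extremallyDisconnected_connectedComponents_partLoc A⟩

end Groth.Agent.S0696
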