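import Groth.Statements.S0699
import Groth.Agent.WLocalPi0.Basic

set_option autoImplicit false
open CategoryTheory CategoryTheory.Limits AlgebraicGeometry Opposite Topology
universe u
open ProEtW

set_option backward.isDefEq.respectTransparency false

namespace Groth.Agent.S0699

/-- Let A -> B identify local rings, with Spec A and Spec B w-local, Spec B -> Spec A w-local, and
pi_0(Spec B) -> pi_0(Spec A) bijective. Then A -> B is bijective. -/
theorem result (A B : Type u) [CommRing A] [CommRing B]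
    [Algebra A B] (h1 : EtPBC.IdentifiesLocalRings A B) (h2 : ProEtW.IsWLocal (PrimeSpectrum A))
    (h3 : ProEtW.IsWLocal (PrimeSpectrum B))
    (h4 : ProEtW.IsWLocalMap (PrimeSpectrum.comap (algebraMap A B)))
    (h5 : Function.Bijective
      (PrimeSpectrum.continuous_comap (algebraMap A B)).connectedComponentsMap) :
    Function.Bijective (algebraMap A B) := by
  let f : PrimeSpectrum B → PrimeSpectrum A := PrimeSpectrum.comap (algebraMap A B)
  have hcont : Continuous f := PrimeSpectrum.continuous_comap (algebraMap A B)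
  have hspec : ∀ (x y : PrimeSpectrum A), x ⤳ y →
      (_root_.ConnectedComponents.mk x : _root_.ConnectedComponents _) = ConnectedComponents.mk y := fun x y hxy =>
    ConnectedComponents.coe_eq_coe'.mpr (isConnected_singleton.closure.isPreconnected.subset_connectedComponent
      hxy.mem_closure (subset_closure rfl))
  have hmaxA : ∀ m : PrimeSpectrum A, m.asIdeal.IsMaximal → IsClosed ({m} : Set (PrimeSpectrum A)) := fun m =>
    (PrimeSpectrum.isClosed_singleton_iff_isMaximal m).mpr
  -- over each closed point of `A` there is exactly one closed point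
  have huniq : ∀ n n' : PrimeSpectrum B, IsClosed ({n} : Set (PrimeSpectrum B)) →
      IsClosed ({n'} : Set (PrimeSpectrum B)) → f n = f n' → n = n' := fun n n' hn hn' e =>
    Groth.Agent.WLocalPi0.eq_of_isClosed_of_mem_connectedComponent h3 hn' hn
      (ConnectedComponents.coe_eq_coe'.mp (h5.1 (congrArg ConnectedComponents.mk e : _)))
  have hex : ∀ m : PrimeSpectrum A, IsClosed ({m} : Set (PrimeSpectrum A)) →
      ∃ n : PrimeSpectrum B, IsClosed ({n} : Set (PrimeSpectrum B)) ∧ f n = m := by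
    intro m hm
    obtain ⟨c, hc⟩ := h5.2 (ConnectedComponents.mk m)
    obtain ⟨b, rfl⟩ := ConnectedComponents.surjective_coe c
    obtain ⟨n, ⟨hn, hbn⟩, -⟩ := h3.2.2 b
    refine ⟨n, hn, Groth.Agent.WLocalPi0.eq_of_isClosed_of_mem_connectedComponent h2 hm (h4.2 n hn) ?_⟩
    refine ConnectedComponents.coe_eq_coe'.mp ?_
    rw [← hspec _ _ (hbn.map hcont)]
    exact hc
  have hlift : ∀ (m : PrimeSpectrum A) (n : PrimeSpectrum B), IsClosed ({m} : Set (PrimeSpectrum A)) →
      IsClosed ({n} : Set (PrimeSpectrum B)) → f n = m → ∀ q : PrimeSpectrum B, (f q).asIdeal ≤ m.asIdeal →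
      q.asIdeal ≤ n.asIdeal := by
    intro m n hm hn hnm q hq
    obtain ⟨n', ⟨hn', hqn'⟩, -⟩ := h3.2.2 q
    have e : f n' = m := (h2.2.2 (f q)).unique ⟨h4.2 n' hn', hqn'.map hcont⟩
      ⟨hm, (PrimeSpectrum.le_iff_specializes (f q) m).mp hq⟩
    rw [← huniq n' n hn' hn (e.trans hnm.symm)]
    exact (PrimeSpectrum.le_iff_specializes q n').mpr hqn'
  have heq : ∀ a : A, algebraMap A B a = 0 → a = 0 := by
    intro a ha
    by_contra hne
    have hne' : LinearMap.ker (LinearMap.mulRight A a) ≠ ⊤ := fun htop => hne (by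
      simpa using LinearMap.mem_ker.mp (htop ▸ Submodule.mem_top : (1 : A) ∈ LinearMap.ker (LinearMap.mulRight A a)))
    obtain ⟨M, hM, hle⟩ := Ideal.exists_le_maximal _ hne'
    let m : PrimeSpectrum A := ⟨M, hM.isPrime⟩
    obtain ⟨n, hn, hnm⟩ := hex m (hmaxA m hM)
    have h0 : algebraMap A (Localization.AtPrime (n.asIdeal.comap (algebraMap A B))) a = 0 := (h1 n).1 (by
      rw [Localization.localRingHom_to_map, ha, map_zero, map_zero])
    obtain ⟨⟨s, hs⟩, hsa⟩ := (IsLocalization.map_eq_zero_iff (n.asIdeal.comap (algebraMap A B)).primeCompl _ a).mp h0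
    refine hs ?_
    have hsM : s ∈ M := hle (LinearMap.mem_ker.mpr hsa)
    rwa [show n.asIdeal.comap (algebraMap A B) = M from congrArg PrimeSpectrum.asIdeal hnm]
  refine ⟨(injective_iff_map_eq_zero _).mpr heq, fun b => ?_⟩
  let J : Ideal A :=
    { carrier := {a | ∃ x, algebraMap A B x = algebraMap A B a * b}
      add_mem' := by
        rintro a a' ⟨x, hx⟩ ⟨x', hx'⟩
        exact ⟨x + x', by rw [map_add, map_add, add_mul, hx, hx']⟩
      zero_mem' := ⟨0, by rw [map_zero, zero_mul]⟩
      smul_mem' := by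
        rintro c a ⟨x, hx⟩
        exact ⟨c * x, by rw [smul_eq_mul, map_mul, map_mul, mul_assoc, hx]⟩ }
  suffices hJ : J = ⊤ by
    obtain ⟨x, hx⟩ := (Ideal.eq_top_iff_one J).mp hJ
    exact ⟨x, by rw [hx, map_one, one_mul]⟩
  by_contra hJ
  obtain ⟨M, hM, hle⟩ := Ideal.exists_le_maximal J hJ
  let m : PrimeSpectrum A := ⟨M, hM.isPrime⟩
  obtain ⟨n, hn, hnm⟩ := hex m (hmaxA m hM)
  obtain ⟨z, hz⟩ := (h1 n).2 (algebraMap B _ b)
  obtain ⟨⟨x, s⟩, hxs⟩ := IsLocalization.surj (n.asIdeal.comap (algebraMap A B)).primeCompl z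
  have h6 := congrArg (Localization.localRingHom _ n.asIdeal (algebraMap A B) rfl) hxs
  rw [map_mul, hz, Localization.localRingHom_to_map, Localization.localRingHom_to_map, ← map_mul] at h6
  obtain ⟨⟨t, ht⟩, htc⟩ := (IsLocalization.eq_iff_exists n.asIdeal.primeCompl _).mp h6
  let c := b * algebraMap A B s - algebraMap A B x
  have htc' : t * c = 0 := by rw [mul_sub, sub_eq_zero]; exact htc
  obtain ⟨a, haM, hac⟩ : ∃ a ∉ M, algebraMap A B a * c = 0 := by
    by_contra hno
    push Not at hno
    have hd : Disjoint ((LinearMap.ker (LinearMap.mulRight B c) : Ideal B) : Set B)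
        (Submonoid.map (algebraMap A B).toMonoidHom m.asIdeal.primeCompl : Set B) := by
      rw [Set.disjoint_left]
      rintro _ hk ⟨a, ha, rfl⟩
      exact hno a ha (LinearMap.mem_ker.mp hk)
    obtain ⟨q, hq, hkq, hqd⟩ := Ideal.exists_le_prime_disjoint _ _ hd
    refine ht (hlift m n (hmaxA m hM) hn hnm ⟨q, hq⟩ (fun a ha => ?_) (hkq (LinearMap.mem_ker.mpr htc')))
    by_contra haM
    exact Set.disjoint_left.mp hqd ha ⟨a, haM, rfl⟩
  have hsM : (s : A) ∉ M := by
    have := s.2
    exact fun hsM => this ((congrArg PrimeSpectrum.asIdeal hnm).ge hsM)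
  have hmem : a * s ∈ J := by
    refine ⟨a * x, ?_⟩
    rw [map_mul, map_mul, ← sub_eq_zero, ← neg_eq_zero, ← hac]
    ring
  exact (hM.isPrime.mem_or_mem (hle hmem)).elim haM hsM

end Groth.Agent.S0699
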