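import Groth.Statements.S0710
import Groth.Agent.EtConsPush.AnyBase
import Groth.Agent.EtPBC.ConstKilled
-- import your own Groth.Agent.* helpers here

set_option autoImplicit false
set_option backward.isDefEq.respectTransparency false
set_option backward.isDefEq.respectTransparency.types false
open CategoryTheory CategoryTheory.Limits AlgebraicGeometry Opposite
open scoped TensorProduct
universe u
open EtRest

namespace Groth.Agent.S0710

/-- Let f : X -> S be proper and smooth with geometrically connected fibres of dimension 1 (checked on
geometric fibres over algebraically closed fields) and let l be a prime. Then R^q f_* (Z/l) is a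
constructible abelian sheaf on S_et for every q. -/
theorem result {X S : Scheme.{u}} (f : X ⟶ S)
    [IsProper f] [Smooth f]
    (hconn : ∀ (Ω : Type u) [Field Ω] [IsAlgClosed Ω] (s : Spec (CommRingCat.of Ω) ⟶ S),
      ConnectedSpace ↥(pullback f s))
    (hdim : ∀ (Ω : Type u) [Field Ω] [IsAlgClosed Ω] (s : Spec (CommRingCat.of Ω) ⟶ S),
      topologicalKrullDim ↥(pullback f s) = 1)
    (ℓ : ℕ) [Fact ℓ.Prime] (q : ℕ) :
    EtPBC.IsConstructible ((EtCoh.Rpush f q).obj (EtCoh.const X (ZMod ℓ))) := by
  haveI : NeZero ℓ := ⟨(Fact.out : ℓ.Prime).ne_zero⟩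
  exact EtConsPush.isConstructible_Rpush_proper f (Fact.out : ℓ.Prime).pos _
    (EtCons.isConstructible_const _) (EtPBC.killed_const X ℓ) q

end Groth.Agent.S0710

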