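import Groth.Statements.S0713
import Groth.Agent.WContr.ProEtCover

set_option autoImplicit false
open CategoryTheory CategoryTheory.Limits AlgebraicGeometry Opposite
universe u
open ProEtS

namespace Groth.Agent.S0713

/-- Every object U of the small pro-étale site X_proét of a scheme X admits a covering {V → U} by a
single weakly contractible object V. -/
theorem result {X : Scheme.{u}} (U : X.ProEt) :
    ∃ (V : X.ProEt) (g : V ⟶ U),
      Sieve.generate (Presieve.singleton g) ∈ Scheme.ProEt.topology X U ∧ ProEtS.IsWC V := by
  obtain ⟨V, g, h1, h2⟩ := WContr.exists_cover_of_affineCover U U.left.affineCover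
  obtain ⟨W, h, h3, h4, -⟩ := WContr.exists_single_cover U V g h1 fun i => by
    haveI := (h2 i).1
    exact WContr.isWC_of_decomposable _ (WContr.decomposable_of_isWContractible _ (h2 i).2)
  exact ⟨W, h, h3, h4⟩

end Groth.Agent.S0713
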