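import Groth.Statements.S0728
import Groth.Agent.EtFLC.Serre

set_option autoImplicit false
open CategoryTheory CategoryTheory.Limits AlgebraicGeometry Opposite
universe u
open EtShriek

set_option backward.isDefEq.respectTransparency false

namespace Groth.Agent.S0728

/-- In the case where the inverse image of Z is Z' (so that the bijection is restriction): let phi : U'
-> U be a morphism of the small etale site of X and Z a closed subset of U such that phi restricted
to the inverse image Z' of Z is a bijection onto Z inducing isomorphisms of residue fields (so Z' ->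
U is a closed immersion with image Z, for the reduced structures). Then restriction along phi is a
bijection from the sections of F over U supported in Z to the sections of F over U' supported in Z'. -/
theorem result {X : Scheme.{u}} (F : EtCoh.Ab X) {U U' : X.Etale}
    (φ : U' ⟶ U) (Z : Set ↥U.left) (hZ : IsClosed Z)
    (hbij : Set.BijOn φ.left.base (φ.left.base ⁻¹' Z) Z)
    (hres : ∀ x ∈ φ.left.base ⁻¹' Z, Function.Bijective (φ.left.residueFieldMap x)) :
    Set.BijOn (F.obj.map φ.op) {s | EtShriek.sectSupp F U s ⊆ Z}
      {s' | EtShriek.sectSupp F U' s' ⊆ φ.left.base ⁻¹' Z} := by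
  -- fibre products over `U`
  have hpb : ∀ {A B : X.Etale} (a : A ⟶ U) (b : B ⟶ U), ∃ (P : X.Etale) (p : P ⟶ A) (q : P ⟶ B),
      p ≫ a = q ≫ b ∧ IsPullback p.left q.left a.left b.left := by
    intro A B a b
    haveI : Etale A.hom := A.prop
    haveI : Etale B.hom := B.prop
    haveI : Etale U.hom := U.prop
    haveI : Etale (b.left ≫ U.hom) := by rw [MorphismProperty.Over.w b]; infer_instance
    haveI : Etale b.left := Etale.of_comp b.left U.hom
    let m : pullback a.left b.left ⟶ X := pullback.fst a.left b.left ≫ A.hom
    haveI : Etale m := inferInstanceAs (Etale (pullback.fst a.left b.left ≫ A.hom))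
    refine ⟨Scheme.Etale.mk m, MorphismProperty.Over.homMk (pullback.fst a.left b.left) rfl,
      MorphismProperty.Over.homMk (pullback.snd a.left b.left) ?_, ?_, IsPullback.of_hasPullback _ _⟩
    · show pullback.snd a.left b.left ≫ B.hom = pullback.fst a.left b.left ≫ A.hom
      rw [← MorphismProperty.Over.w b, ← Category.assoc, ← pullback.condition, Category.assoc,
        MorphismProperty.Over.w a]
    · apply MorphismProperty.Over.Hom.ext
      exact pullback.condition
  have hzero : ∀ {V : X.Etale} (s : EtCoh.sect F V) (v : V.left), v ∉ EtShriek.sectSupp F V s →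
      ∃ (W : X.Etale) (g : W ⟶ V) (w : W.left), g.left w = v ∧ Groth.Agent.EtFLC.res F g s = 0 := by
    intro V s v hv
    simp only [EtShriek.sectSupp, Set.mem_setOf_eq, not_forall, not_not] at hv
    obtain ⟨W, g, ⟨w, hw⟩, h0⟩ := hv
    exact ⟨W, g, w, hw, h0⟩
  refine ⟨fun s hs x hx => ?_, fun s hs t ht hst => ?_, fun s' hs' => ?_⟩
  · -- restriction keeps the support condition
    refine hs fun W g hg h0 => ?_
    obtain ⟨w, hw⟩ := hg
    obtain ⟨P, p, q, hpq, sq⟩ := hpb g φ
    obtain ⟨e, he₁, he₂⟩ := Scheme.Pullback.exists_preimage_pullback (f := g.left) (g := φ.left) w x hw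
    refine hx P q ⟨sq.isoPullback.inv e, ?_⟩ ?_
    · show q.left (sq.isoPullback.inv e) = x
      rw [← Scheme.Hom.comp_apply, sq.isoPullback_inv_snd]
      exact he₂
    · show Groth.Agent.EtFLC.res F q (Groth.Agent.EtFLC.res F φ s) = 0
      rw [Groth.Agent.EtFLC.res_res, ← hpq, ← Groth.Agent.EtFLC.res_res,
        show Groth.Agent.EtFLC.res F g s = 0 from h0, map_zero]
  · -- injectivity
    refine Groth.Agent.EtFLC.sect_ext F fun v => ?_
    by_cases hv : v ∈ Z
    · obtain ⟨x, -, rfl⟩ := hbij.surjOn hv
      exact ⟨U', φ, x, rfl, hst⟩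
    · obtain ⟨W₁, g₁, w₁, hw₁, h₁⟩ := hzero s v fun h => hv (hs h)
      obtain ⟨W₂, g₂, w₂, hw₂, h₂⟩ := hzero t v fun h => hv (ht h)
      obtain ⟨P, p, q, hpq, sq⟩ := hpb g₁ g₂
      obtain ⟨e, he₁, he₂⟩ := Scheme.Pullback.exists_preimage_pullback (f := g₁.left) (g := g₂.left) w₁ w₂
        (hw₁.trans hw₂.symm)
      refine ⟨P, p ≫ g₁, sq.isoPullback.inv e, ?_, ?_⟩
      · rw [Groth.Agent.EtFLC.comp_left_apply, ← Scheme.Hom.comp_apply p.left] at *
        show g₁.left (p.left (sq.isoPullback.inv e)) = v
        rw [← Scheme.Hom.comp_apply sq.isoPullback.inv, sq.isoPullback_inv_fst, he₁, hw₁]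
      · rw [← Groth.Agent.EtFLC.res_res, h₁, map_zero, hpq, ← Groth.Agent.EtFLC.res_res, h₂, map_zero]
  · -- gluing with zero on the complement
    let O : U.left.Opens := ⟨Zᶜ, hZ.isOpen_compl⟩
    haveI : Etale U.hom := U.prop
    haveI : Etale U'.hom := U'.prop
    haveI : Etale (φ.left ≫ U.hom) := by rw [MorphismProperty.Over.w φ]; infer_instance
    haveI : Etale φ.left := Etale.of_comp φ.left U.hom
    let Uo : X.Etale := Scheme.Etale.mk (O.ι ≫ U.hom)
    let o : Uo ⟶ U := MorphismProperty.Over.homMk O.ι rfl
    let π : ∀ b : Bool, (bif b then U' else Uo) ⟶ U := fun b => by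
      cases b
      · exact o
      · exact φ
    let x : ∀ b : Bool, EtCoh.sect F (bif b then U' else Uo) := fun b => by
      cases b
      · exact 0
      · exact s'
    have hout : ∀ {T : X.Etale} (g : T ⟶ U') (t : T.left), φ.left (g.left t) ∉ Z →
        ∃ (W : X.Etale) (k : W ⟶ T) (w : W.left),
          k.left w = t ∧ Groth.Agent.EtFLC.res F k (Groth.Agent.EtFLC.res F g s') = 0 := by
      intro T g t ht
      obtain ⟨W, k, w, hw, h0⟩ := hzero s' (g.left t) fun h => ht (hs' h)
      obtain ⟨e, he₁, he₂⟩ := Scheme.Pullback.exists_preimage_pullback (f := g.left) (g := k.left) t w hw.symm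
      haveI : Etale W.hom := W.prop
      haveI : Etale (k.left ≫ U'.hom) := by rw [MorphismProperty.Over.w k]; infer_instance
      haveI : Etale k.left := Etale.of_comp k.left U'.hom
      haveI : Etale T.hom := T.prop
      haveI : Etale (pullback.fst g.left k.left ≫ T.hom) := inferInstance
      let P : X.Etale := Scheme.Etale.mk (pullback.fst g.left k.left ≫ T.hom)
      let p : P ⟶ T := MorphismProperty.Over.homMk (pullback.fst g.left k.left) rfl
      let q : P ⟶ W := MorphismProperty.Over.homMk (pullback.snd g.left k.left) (by
        show pullback.snd g.left k.left ≫ W.hom = pullback.fst g.left k.left ≫ T.hom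
        rw [← MorphismProperty.Over.w k, ← Category.assoc, ← pullback.condition, Category.assoc,
          MorphismProperty.Over.w g])
      refine ⟨P, p, e, he₁, ?_⟩
      rw [Groth.Agent.EtFLC.res_res, show p ≫ g = q ≫ k from
        MorphismProperty.Over.Hom.ext pullback.condition, ← Groth.Agent.EtFLC.res_res, h0, map_zero]
    have hcompat : ∀ (i j : Bool) (T : X.Etale) (gi : T ⟶ bif i then U' else Uo) (gj : T ⟶ bif j then U' else Uo),
        gi ≫ π i = gj ≫ π j → Groth.Agent.EtFLC.res F gi (x i) = Groth.Agent.EtFLC.res F gj (x j) := by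
      have hFT : ∀ (T : X.Etale) (g : T ⟶ U') (h : T ⟶ Uo), g ≫ φ = h ≫ o →
          Groth.Agent.EtFLC.res F g s' = 0 := by
        intro T g h e
        refine Groth.Agent.EtFLC.sect_ext F fun t => ?_
        obtain ⟨W, k, w, hw, h0⟩ := hout g t (by
          rw [← Groth.Agent.EtFLC.comp_left_apply, e]
          exact (h.left t).2)
        exact ⟨W, k, w, hw, by rw [h0, map_zero]⟩
      intro i j T gi gj e
      cases i <;> cases j
      · show Groth.Agent.EtFLC.res F gi (0 : EtCoh.sect F Uo) = Groth.Agent.EtFLC.res F gj 0
        rw [map_zero, map_zero]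
      · show Groth.Agent.EtFLC.res F gi (0 : EtCoh.sect F Uo) = Groth.Agent.EtFLC.res F gj s'
        exact (map_zero _).trans (hFT T gj gi e.symm).symm
      · show Groth.Agent.EtFLC.res F gi s' = Groth.Agent.EtFLC.res F gj (0 : EtCoh.sect F Uo)
        exact (hFT T gi gj e).trans (map_zero _).symm
      · show Groth.Agent.EtFLC.res F gi s' = Groth.Agent.EtFLC.res F gj s'
        have e' : gi.left ≫ φ.left = gj.left ≫ φ.left := congrArg (fun k => k.left) e
        refine Groth.Agent.EtFLC.sect_ext F fun t => ?_
        by_cases ht : φ.left (gi.left t) ∈ Z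
        · -- over the closed set the two maps agree on an open neighbourhood
          have hφt : φ.left.base (gi.left.base t) = φ.left.base (gj.left.base t) :=
            congrArg (fun k => k.base t) e'
          have htj : gj.left t = gi.left t :=
            hbij.injOn (show φ.left.base (gj.left.base t) ∈ Z from hφt ▸ ht) ht hφt.symm
          obtain ⟨⟨x₁, α⟩, hα⟩ := (Scheme.SpecToEquivOfField (T.left.residueField t) U'.left).symm.surjective
            (T.left.fromSpecResidueField t ≫ gi.left)
          obtain ⟨⟨x₂, β⟩, hβ⟩ := (Scheme.SpecToEquivOfField (T.left.residueField t) U'.left).symm.surjective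
            (T.left.fromSpecResidueField t ≫ gj.left)
          have hx₁ : x₁ = gi.left t := by
            have := congrArg (fun k => k.base (IsLocalRing.closedPoint (T.left.residueField t))) hα
            simp [Scheme.SpecToEquivOfField] at this
            exact this.trans (congrArg gi.left.base (Scheme.fromSpecResidueField_apply _ _))
          have hx₂ : x₂ = gi.left t := by
            have := congrArg (fun k => k.base (IsLocalRing.closedPoint (T.left.residueField t))) hβ
            simp [Scheme.SpecToEquivOfField] at this
            exact (this.trans (congrArg gj.left.base (Scheme.fromSpecResidueField_apply _ _))).trans htj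
          subst hx₁
          subst hx₂
          have hαβ : φ.left.residueFieldMap (gi.left t) ≫ α = φ.left.residueFieldMap (gi.left t) ≫ β := by
            have h3 : (Spec.map α ≫ U'.left.fromSpecResidueField _) ≫ φ.left =
                (Spec.map β ≫ U'.left.fromSpecResidueField _) ≫ φ.left := by
              change (Scheme.SpecToEquivOfField _ _).symm ⟨_, α⟩ ≫ φ.left =
                (Scheme.SpecToEquivOfField _ _).symm ⟨_, β⟩ ≫ φ.left
              rw [hα, hβ, Category.assoc, Category.assoc, e']
            rw [Category.assoc, Category.assoc, ← Scheme.Hom.SpecMap_residueFieldMap_fromSpecResidueField,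
              ← Category.assoc, ← Category.assoc, ← Spec.map_comp, ← Spec.map_comp, cancel_mono] at h3
            exact Spec.map_injective h3
          have : α = β := by
            ext c
            obtain ⟨d, rfl⟩ := (hres (gi.left t) ht).2 c
            exact congrArg (fun k => k.hom d) hαβ
          subst this
          have heq : T.left.fromSpecResidueField t ≫ gi.left = T.left.fromSpecResidueField t ≫ gj.left :=
            hα.symm.trans hβ
          let c : T.left ⟶ pullback φ.left φ.left := pullback.lift gi.left gj.left e'
          let E : T.left.Opens := c ⁻¹ᵁ (pullback.diagonal φ.left).opensRange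
          have htE : t ∈ E := by
            refine ⟨gi.left t, ?_⟩
            have h4 : T.left.fromSpecResidueField t ≫ c =
                (T.left.fromSpecResidueField t ≫ gi.left) ≫ pullback.diagonal φ.left := by
              refine pullback.hom_ext ?_ ?_
              · simp [c]
              · simpa [c] using heq.symm
            have := congrArg (fun k => k.base (IsLocalRing.closedPoint (T.left.residueField t))) h4
            simpa using this.symm
          let Te : X.Etale := Scheme.Etale.mk (E.ι ≫ T.hom)
          let k : Te ⟶ T := MorphismProperty.Over.homMk E.ι rfl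
          have hk : k ≫ gi = k ≫ gj := by
            apply MorphismProperty.Over.Hom.ext
            show E.ι ≫ gi.left = E.ι ≫ gj.left
            let l : E.toScheme ⟶ U'.left := IsOpenImmersion.lift (pullback.diagonal φ.left) (E.ι ≫ c) (by
              rintro _ ⟨y, rfl⟩
              exact y.2)
            have hl : l ≫ pullback.diagonal φ.left = E.ι ≫ c := IsOpenImmersion.lift_fac _ _ _
            have h1 := congrArg (· ≫ pullback.fst φ.left φ.left) hl
            have h2 := congrArg (· ≫ pullback.snd φ.left φ.left) hl
            simp only [Category.assoc, pullback.diagonal_fst, pullback.diagonal_snd, c, pullback.lift_fst,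
              pullback.lift_snd] at h1 h2
            exact h1.symm.trans h2
          exact ⟨Te, k, ⟨t, htE⟩, rfl, by rw [Groth.Agent.EtFLC.res_res, hk, Groth.Agent.EtFLC.res_res]⟩
        · obtain ⟨W, k, w, hw, h0⟩ := hout gi t ht
          obtain ⟨W', k', w', hw', h0'⟩ := hout (k ≫ gj) w (by
            rw [Groth.Agent.EtFLC.comp_left_apply, hw, ← Scheme.Hom.comp_apply, ← e', Scheme.Hom.comp_apply]
            exact ht)
          refine ⟨W', k' ≫ k, w', ?_, ?_⟩
          · rw [Groth.Agent.EtFLC.comp_left_apply, hw', hw]
          · refine ((Groth.Agent.EtFLC.res_res F k' k _).symm.trans ((congrArg (Groth.Agent.EtFLC.res F k') h0).trans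
              (map_zero _))).trans ?_
            exact ((Groth.Agent.EtFLC.res_res F k' k _).symm.trans ((congrArg (Groth.Agent.EtFLC.res F k')
              (Groth.Agent.EtFLC.res_res F k gj s')).trans h0')).symm
    have hcov : Sieve.generate (Presieve.ofArrows (fun b : Bool => bif b then U' else Uo) π) ∈
        X.smallEtaleTopology U := (Groth.Agent.EtFLC.mem_iff _).2 fun v => by
      by_cases hv : v ∈ Z
      · obtain ⟨y, -, hy⟩ := hbij.surjOn hv
        exact ⟨_, π true, y, Sieve.le_generate _ _ _ (Presieve.ofArrows.mk true), hy⟩
      · exact ⟨_, π false, ⟨v, hv⟩, Sieve.le_generate _ _ _ (Presieve.ofArrows.mk false), rfl⟩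
    have hsh : Presieve.IsSheafFor (F.obj ⋙ forget AddCommGrpCat)
        (Presieve.ofArrows (fun b : Bool => bif b then U' else Uo) π) :=
      (Presieve.isSheafFor_iff_generate _).2 ((isSheaf_iff_isSheaf_of_type _ _).1
        (Presheaf.isSheaf_comp_of_isSheaf X.smallEtaleTopology F.obj (forget AddCommGrpCat) F.property) _ hcov)
    obtain ⟨s, hs, -⟩ := (Presieve.isSheafFor_arrows_iff _ _).1 hsh x (fun i j T gi gj e => hcompat i j T gi gj e)
    refine ⟨s, fun v hv => ?_, hs true⟩
    by_contra hvZ
    exact hv Uo o ⟨⟨v, hvZ⟩, rfl⟩ (hs false)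

end Groth.Agent.S0728
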