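import Groth.Statements.S0738
import Mathlib

set_option autoImplicit false
open Topology
universe u
open ProEtW

namespace Groth.Agent.S0738

/-- A closed subset of a w-local spectral space is w-local (with the subspace topology). -/
theorem result (X : Type u) [TopologicalSpace X] (hX : ProEtW.IsWLocal X)
    (Y : Set X) (hY : IsClosed Y) : ProEtW.IsWLocal ↥Y := by
  obtain ⟨hs, hc, hu⟩ := hX
  have he : Topology.IsClosedEmbedding (Subtype.val : Y → X) := hY.isClosedEmbedding_subtypeVal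
  have key : ∀ y : Y, IsClosed ({y} : Set Y) ↔ IsClosed ({(y : X)} : Set X) := fun y => by
    rw [he.isClosed_iff_image_isClosed, Set.image_singleton]
  haveI : CompactSpace Y := isCompact_iff_compactSpace.1 hY.isCompact
  haveI : PrespectralSpace Y := PrespectralSpace.of_isClosedEmbedding _ he
  haveI : QuasiSeparatedSpace Y := by
    refine ⟨fun U V hU hUc hV hVc => ?_⟩
    obtain ⟨U', hU'c, hU'o, hUU⟩ : ∃ U' : Set X, IsCompact U' ∧ IsOpen U' ∧ Subtype.val ⁻¹' U' = U := by
      obtain ⟨W, hW, rfl⟩ := isOpen_induced_iff.1 hU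
      obtain ⟨K, hKc, hKo, h1, h2⟩ := PrespectralSpace.exists_isCompact_and_isOpen_between
        (hUc.image continuous_subtype_val) hW (by simp)
      refine ⟨K, hKc, hKo, le_antisymm (Set.preimage_mono h2) fun y hy => h1 ⟨y, hy, rfl⟩⟩
    obtain ⟨V', hV'c, hV'o, hVV⟩ : ∃ V' : Set X, IsCompact V' ∧ IsOpen V' ∧ Subtype.val ⁻¹' V' = V := by
      obtain ⟨W, hW, rfl⟩ := isOpen_induced_iff.1 hV
      obtain ⟨K, hKc, hKo, h1, h2⟩ := PrespectralSpace.exists_isCompact_and_isOpen_between
        (hVc.image continuous_subtype_val) hW (by simp)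
      refine ⟨K, hKc, hKo, le_antisymm (Set.preimage_mono h2) fun y hy => h1 ⟨y, hy, rfl⟩⟩
    subst hUU hVV
    rw [← Set.preimage_inter]
    exact he.isCompact_preimage (QuasiSeparatedSpace.inter_isCompact _ _ hU'o hU'c hV'o hV'c)
  haveI : QuasiSober Y := he.quasiSober
  refine ⟨{}, ?_, fun x => ?_⟩
  · have : {x : Y | IsClosed ({x} : Set Y)} = Subtype.val ⁻¹' {x : X | IsClosed ({x} : Set X)} := by
      ext y; exact key y
    rw [this]; exact hc.preimage continuous_subtype_val
  · obtain ⟨y, ⟨hy1, hy2⟩, huy⟩ := hu x.1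
    have hyY : y ∈ Y := hy2.mem_closed hY x.2
    refine ⟨⟨y, hyY⟩, ⟨(key _).2 hy1, (subtype_specializes_iff _ _).2 hy2⟩, fun z hz => Subtype.ext ?_⟩
    exact huy z.1 ⟨(key z).1 hz.1, (subtype_specializes_iff _ _).1 hz.2⟩

end Groth.Agent.S0738
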