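import Groth.Statements.S0744
import Groth.Agent.BigSiteLib.PiProper

set_option autoImplicit false
open CategoryTheory CategoryTheory.Limits AlgebraicGeometry Opposite
universe u
open EtFppf

set_option linter.style.haveILetI false
set_option backward.isDefEq.respectTransparency false

namespace Groth.Agent.S0744

/-- For a proper morphism f : X -> Y and an abelian sheaf F on X_et, the sheaves a_Y^{-1} (f_{small,*}
F) and f_{big,fppf,*} (a_X^{-1} F) on the big fppf site of Y are isomorphic (existence; continuity
of the comparison functors assumed as binders). -/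
theorem result {X Y : Scheme.{u}} (f : X ⟶ Y) [IsProper f] [EtFppf.ACont X]
    [EtFppf.ACont Y] (F : EtCoh.Ab X) :
    Nonempty ((EtFppf.aPull Y).obj ((EtCoh.push f).obj F) ≅
      (EtFppf.pushBig f).obj ((EtFppf.aPull X).obj F)) := by
  haveI := Groth.Agent.BigSiteLib.isIso_theta (f := f) (G := F) (Groth.Agent.BigSiteLib.geomFibreGen_of_isProper F)
  let j := (sheafToPresheaf (QuotSh.J Scheme.etalePrecoverage Y) AddCommGrpCat.{u + 1}).mapIso
    (asIso (Groth.Agent.BigSiteLib.theta f F))
  exact ⟨(Groth.Agent.BigSiteLib.piFIso Y).app _ ≪≫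
    (fullyFaithfulSheafToPresheaf (EtFppf.J Y) AddCommGrpCat.{u + 1}).preimageIso
      (X := (Groth.Agent.BigSiteLib.piF Y).obj ((EtCoh.push f).obj F))
      (Y := (EtFppf.pushBig f).obj ((Groth.Agent.BigSiteLib.piF X).obj F)) j ≪≫
    (EtFppf.pushBig f).mapIso ((Groth.Agent.BigSiteLib.piFIso X).app F).symm⟩


end Groth.Agent.S0744
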