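import Groth.Statements.S0745
import Groth.Agent.BigSiteLib.AcyclicCompare

set_option autoImplicit false
set_option linter.style.haveILetI false
set_option backward.isDefEq.respectTransparency false

open CategoryTheory CategoryTheory.Limits AlgebraicGeometry Opposite
universe u
open EtFppf

namespace Groth.Agent.S0745

/-- For a finite morphism f : X -> Y and an abelian sheaf F on X_et, for every i the sheaves a_Y^{-1}
(R^i f_{small,*} F) and R^i f_{big,fppf,*} (a_X^{-1} F) are isomorphic (existence; continuity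
binders assumed). -/
theorem result {X Y : Scheme.{u}} (f : X ⟶ Y) [IsFinite f] [EtFppf.ACont X]
    [EtFppf.ACont Y] (F : EtCoh.Ab X) (i : ℕ) :
    Nonempty ((EtFppf.aPull Y).obj ((EtCoh.Rpush f i).obj F) ≅
      (EtFppf.RpushBig f i).obj ((EtFppf.aPull X).obj F)) := by
  haveI : (EtFppf.aPull Y).IsLeftAdjoint := (EtFppf.aAdj Y).isLeftAdjoint
  haveI : (EtCoh.push f).IsRightAdjoint := (EtCoh.pullPushAdj f).isRightAdjoint
  haveI : (EtFppf.pushBig f).IsRightAdjoint :=
    (BigSite.bigAdj Scheme.fppfPrecoverage f AddCommGrpCat.{u + 1}).isRightAdjoint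
  cases i with
  | zero =>
    obtain ⟨e⟩ := Groth.Agent.BigSiteLib.nonempty_piF_push f F
    exact ⟨(EtFppf.aPull Y).mapIso ((EtCoh.push f).rightDerivedZeroIsoSelf.app F) ≪≫
      (Groth.Agent.BigSiteLib.piFIso Y).app _ ≪≫ e ≪≫
      (EtFppf.pushBig f).mapIso ((Groth.Agent.BigSiteLib.piFIso X).app F).symm ≪≫
      ((EtFppf.pushBig f).rightDerivedZeroIsoSelf.app _).symm⟩
  | succ n =>
    exact ⟨(Functor.map_isZero _ (Groth.Agent.EtIntegral.Rpush_succ_isZero f F n)).iso
      ((Groth.Agent.BigSiteLib.isZero_RpushBig_piF f F n).of_iso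
        ((EtFppf.RpushBig f (n + 1)).mapIso ((Groth.Agent.BigSiteLib.piFIso X).app F)))⟩

end Groth.Agent.S0745
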