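import Groth.Statements.S0748
import Groth.Agent.BigSiteLib.AcyclicCompare

set_option autoImplicit false
set_option linter.style.haveILetI false
set_option backward.isDefEq.respectTransparency false

open CategoryTheory CategoryTheory.Limits AlgebraicGeometry Opposite
universe u
open EtFppf

namespace Groth.Agent.S0748

/-- For an abelian sheaf F on X_et and every q, H^q(X_et, F) and H^q_fppf(X, a^{-1} F) are isomorphic
(continuity binder assumed). -/
theorem result (X : Scheme.{u}) [EtFppf.ACont X] (F : EtCoh.Ab X) (q : ℕ) :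
    Nonempty (EtCoh.H X F q ≃+ EtFppf.HF X ((EtFppf.aPull X).obj F) q) := by
  obtain ⟨e⟩ := Groth.Agent.BigSiteLib.nonempty_H_piF F q
  let i := (Groth.Agent.BigSiteLib.piFRestrictIso X).app F
  let j := ((Groth.Agent.BigSiteLib.piFIso X).app F).symm
  exact ⟨(((EtCoh.HF X q)).mapIso i).addCommGroupIsoToAddEquiv.trans
    (e.trans ((Sheaf.functorH.{u + 1, u + 1, u, u + 1} (J := EtFppf.J X) q).mapIso j).addCommGroupIsoToAddEquiv)⟩

end Groth.Agent.S0748
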