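import Groth.Statements.S0749
import Groth.Agent.EtCdAll.Basic
import Groth.Agent.EtCdAll.Sections
import Groth.Agent.EtCdAll.Complex
import Groth.Agent.EtPBC.CdFiniteType
import Groth.Agent.EtPBC.CdMain
import Groth.Agent.EtPBC.CdFibre
import Groth.Agent.KInj.Existence

set_option autoImplicit false
set_option backward.isDefEq.respectTransparency false
set_option backward.isDefEq.respectTransparency.types false
set_option linter.auxLemma false
set_option linter.style.haveILetI false
set_option maxHeartbeats 1000000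
set_option synthInstance.maxHeartbeats 400000
open CategoryTheory CategoryTheory.Limits AlgebraicGeometry Opposite
open scoped TensorProduct
universe u
attribute [local instance] HasDerivedCategory.standard
open EtRest

namespace Groth.Agent.S0749

attribute [local instance 100000] EtCoh.H._proof_1 Groth.Agent.EtMV.hext
attribute [local instance 200000] Groth.Agent.EtMV.hextAb

open scoped ZeroObject

/-- Let K be a separably closed field, X of finite type over K and Q an object of D(X_et) whose
cohomology sheaves have zero stalks at every geometric point lying over a non-closed point of X.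
Then Q = 0 if and only if H^i(X, Q) = Hom(Z, Q[i]) vanishes for all integers i. -/
theorem result {K : Type u} [Field K] [IsSepClosed K]
    {X : Scheme.{u}} (a : X ⟶ Spec (CommRingCat.of K)) [LocallyOfFiniteType a] [QuasiCompact a]
    (Q : DCoh.DEt X)
    (hQ : ∀ (x : ↥X), ¬ IsClosed ({x} : Set ↥X) → ∀ (Ω : Type u) [Field Ω] [IsSepClosed Ω]
      (ξ : Spec (CommRingCat.of Ω) ⟶ X), Set.range ξ.base = {x} →
        ∀ i : ℤ, IsZero ((EtCoh.stalk ξ).obj (DCoh.HDEt Q i))) :
    IsZero Q ↔ ∀ i : ℤ, Subsingleton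
      ((DerivedCategory.singleFunctor (EtCoh.Ab X) 0).obj (EtCoh.const X ℤ) ⟶ (shiftFunctor (DCoh.DEt X) i).obj Q) := by
  refine ⟨fun hz i => ⟨fun f g => ((shiftFunctor (DCoh.DEt X) i).map_isZero hz).eq_of_tgt f g⟩, fun h => ?_⟩
  haveI : IsLocallyNoetherian X := LocallyOfFiniteType.isLocallyNoetherian a
  haveI : CompactSpace X := QuasiCompact.compactSpace_of_compactSpace a
  haveI : IsNoetherian X := {}
  have hsep := fun x hx => EtPBC.isSepClosed_of_isClosed a x hx
  obtain ⟨d, hd⟩ := EtPBC.exists_dim_le a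
  have hN : ∀ (M : EtCoh.Ab X) (p : ℕ), d + 2 * d + 2 ≤ p →
      Subsingleton (Abelian.Ext (EtCoh.const X ℤ) M p) := fun M p hp =>
    EtCdAll.subsingleton_H_high M hd (EtPBC.kVan_finiteType a hd) p (by omega)
  have hsupp : ∀ i : ℤ, EtPBC.SuppClosed (DCoh.HDEt Q i) := fun i x hx => by
    obtain ⟨Ω, _, _, ξ, hξ⟩ := EtPBC.exists_geomPt x
    exact (EtPBC.isZero_stalk_iff_zeroAt hξ _).1 (hQ x hx Ω ξ
      (Set.eq_singleton_iff_unique_mem.2 ⟨⟨default, hξ⟩, fun y ⟨t, ht⟩ =>
        ht ▸ (congrArg ξ.base (Subsingleton.elim t default)).trans hξ⟩) i)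
  have hzero : ∀ i : ℤ, IsZero (DCoh.HDEt Q i) := by
    intro i
    let Q' := (shiftFunctor (DCoh.DEt X) i).obj Q
    let sh := fun n : ℤ => ((DerivedCategory.homologyFunctor (EtCoh.Ab X) 0).shiftIso i n (i + n) rfl).app Q
    obtain ⟨I, u, hI, hu, -, hinj⟩ := KInj.exists_kInjective (DerivedCategory.Q.objPreimage Q')
    haveI := hI
    haveI := hu
    haveI := hinj
    let e : DerivedCategory.Q.obj I ≅ Q' :=
      (asIso (DerivedCategory.Q.map u)).symm ≪≫ DerivedCategory.Q.objObjPreimageIso Q'
    let eH : ∀ n : ℤ, I.homology n ≅ DCoh.HDEt Q (i + n) := fun n =>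
      ((DerivedCategory.homologyFunctorFactors (EtCoh.Ab X) n).app I).symm ≪≫
        (DerivedCategory.homologyFunctor (EtCoh.Ab X) n).mapIso e ≪≫ sh n
    have hs : ∀ n : ℤ, EtPBC.SuppClosed (I.homology n) := fun n x hx =>
      EtPBC.zeroAt_of_iso (eH n).symm (hsupp (i + n) x hx)
    have h0 : IsZero (I.homology 0) := EtCdAll.isZero_of_suppClosed hsep _ (hs 0) fun s =>
      EtCdAll.eq_zero_of_no_maps (EtCoh.const X ℤ) _ hN I
        (fun n p hp => EtPBC.subsingleton_H_of_suppClosed hsep _ (hs n) p hp)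
        (fun φ => (cancel_mono e.hom).1 ((@Subsingleton.elim _ (h i) _ _))) s
    exact h0.of_iso ((eH 0).symm.trans (Iso.refl _) |> fun z => eqToIso (by rw [add_zero]) ≪≫ z)
  have hq : QuasiIso (0 : DerivedCategory.Q.objPreimage Q ⟶ 0) := ⟨fun n => by
    rw [quasiIsoAt_iff_isIso_homologyMap]
    refine ⟨0, ?_, ?_⟩ <;> apply IsZero.eq_of_src
    · exact (hzero n).of_iso (((DerivedCategory.homologyFunctorFactors (EtCoh.Ab X) n).app _).symm ≪≫
        (DerivedCategory.homologyFunctor (EtCoh.Ab X) n).mapIso (DerivedCategory.Q.objObjPreimageIso Q))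
    · exact (HomologicalComplex.homologyFunctor (EtCoh.Ab X) _ n).map_isZero (isZero_zero _)⟩
  exact (DerivedCategory.Q.map_isZero (isZero_zero _)).of_iso
    ((DerivedCategory.Q.objObjPreimageIso Q).symm ≪≫ asIso (DerivedCategory.Q.map (0 : DerivedCategory.Q.objPreimage Q ⟶ 0)))

end Groth.Agent.S0749
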