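import Groth.Statements.S0750
import Groth.Agent.S0677
import Groth.Agent.S0679
import Groth.Agent.S0495
import Groth.Agent.WContr.ClosedPoints
import Groth.Agent.Weighting.ZMTFP
import Groth.Agent.ProfinSpec.Basic
import Mathlib

set_option autoImplicit false
set_option backward.isDefEq.respectTransparency false
set_option backward.isDefEq.respectTransparency.types false
set_option linter.style.haveILetI false
set_option maxHeartbeats 800000
open CategoryTheory CategoryTheory.Limits AlgebraicGeometry Opposite Topology
universe u
open ProEtW

namespace Groth.Agent.S0750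

/-- Let A -> B be quasi-finite and of finite presentation. Suppose all residue fields of A (at every
prime) are separably closed, and Spec A is a Hausdorff, extremally disconnected space. Then Spec B
is also extremally disconnected. -/
theorem result (A B : Type u) [CommRing A]
    [CommRing B] [Algebra A B] [Algebra.QuasiFinite A B] [Algebra.FinitePresentation A B]
    (hres : ∀ p : PrimeSpectrum A, IsSepClosed p.asIdeal.ResidueField)
    [T2Space (PrimeSpectrum A)] [ExtremallyDisconnected (PrimeSpectrum A)] :
    ExtremallyDisconnected (PrimeSpectrum B) := by
  haveI : TotallyDisconnectedSpace (PrimeSpectrum A) := inferInstance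
  have hmax : ∀ p : PrimeSpectrum A, p.asIdeal.IsMaximal := fun p =>
    (PrimeSpectrum.isClosed_singleton_iff_isMaximal p).mp isClosed_singleton
  have hwc : EtPBC.IsWContractible A := by
    refine (Groth.Agent.S0677.result A).mpr ⟨⟨inferInstance, ?_, fun x => ⟨x, ⟨isClosed_singleton, specializes_rfl⟩,
      fun y hy => (hy.2.eq).symm⟩⟩, ?_, fun m _ => ?_⟩
    · convert isClosed_univ
      ext x
      simp
    · exact Groth.Agent.WContr.extremallyDisconnected_of_openMap (X := PrimeSpectrum A)
        (f := continuous_id.connectedComponentsLift) (Continuous.connectedComponentsLift_continuous continuous_id)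
        (fun s hs => by
          have he : continuous_id.connectedComponentsLift '' s = ConnectedComponents.mk ⁻¹' s := by
            ext x
            constructor
            · rintro ⟨c, hc, rfl⟩
              obtain ⟨y, rfl⟩ := ConnectedComponents.surjective_coe c
              exact hc
            · intro hx
              exact ⟨ConnectedComponents.mk x, hx, rfl⟩
          rw [he]
          exact ConnectedComponents.continuous_coe.isOpen_preimage s hs)
        (fun y => ⟨Set.univ, isOpen_univ, trivial, fun a _ b _ hab => by
          obtain ⟨a, rfl⟩ := ConnectedComponents.surjective_coe a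
          obtain ⟨b, rfl⟩ := ConnectedComponents.surjective_coe b
          exact congrArg ConnectedComponents.mk hab⟩)
    · have hk : ringKrullDim (Localization.AtPrime m) = 0 := by
        have hmin : m ∈ minimalPrimes A := ⟨⟨inferInstance, bot_le⟩, fun q hq hle =>
          ((hmax ⟨q, hq.1⟩).eq_of_le (Ideal.IsMaximal.ne_top ‹_›) hle).ge⟩
        haveI := Ring.KrullDimLE.of_isLocalization m hmin (Localization.AtPrime m)
        exact le_antisymm (Ring.krullDimLE_iff.mp inferInstance) ringKrullDim_nonneg_of_nontrivial
      exact ⟨Groth.Agent.S0495.result _ hk, hres ⟨m, inferInstance⟩⟩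
  obtain ⟨Z, _, _, _, _, φ, n, R, hcov, hbij⟩ := Groth.Agent.Weighting.exists_finite_fp_algHom (A := A) (B := B)
  have hZ : EtPBC.IsWContractible Z := Groth.Agent.S0679.result A Z hwc
  obtain ⟨_, hT2, _⟩ := Groth.Agent.ProfinSpec.isProfinite_of_forall_isMaximal (A := Z) fun q => by
    haveI := hmax (PrimeSpectrum.comap (algebraMap A Z) q)
    exact Ideal.isMaximal_of_isIntegral_of_isMaximal_comap (R := A) q.asIdeal this
  obtain ⟨-, hZed, -⟩ := (Groth.Agent.S0677.result Z).mp hZ
  haveI := hZed
  haveI : ExtremallyDisconnected (PrimeSpectrum Z) :=
    Groth.Agent.WContr.extremallyDisconnected_of_openMap (X := _root_.ConnectedComponents (PrimeSpectrum Z))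
      (f := ConnectedComponents.mk) ConnectedComponents.continuous_coe
      (fun s hs => by
        rw [← ConnectedComponents.isQuotientMap_coe.isOpen_preimage]
        convert hs
        ext y
        constructor
        · rintro ⟨x, hx, he⟩
          have : x ∈ connectedComponent y := ConnectedComponents.coe_eq_coe'.mp he
          rw [connectedComponent_eq_singleton] at this
          exact (Set.mem_singleton_iff.mp this) ▸ hx
        · exact fun hy => ⟨y, hy, rfl⟩)
      (fun y => ⟨Set.univ, isOpen_univ, trivial, fun a _ b _ hab => by
        have : a ∈ connectedComponent b := ConnectedComponents.coe_eq_coe'.mp hab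
        rwa [connectedComponent_eq_singleton] at this⟩)
  haveI := Groth.Agent.Weighting.isOpenImmersion_Spec_of_awayMap_bijective φ.toRingHom R hcov hbij
  have hoe := (Spec.map (CommRingCat.ofHom φ.toRingHom)).isOpenEmbedding
  exact Groth.Agent.WContr.extremallyDisconnected_of_openMap (X := PrimeSpectrum Z) hoe.continuous hoe.isOpenMap
    fun y => ⟨Set.univ, isOpen_univ, trivial, fun a _ b _ h => hoe.injective h⟩

end Groth.Agent.S0750
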