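import Groth.Statements.S0752
import Groth.Agent.EtModCons.Main
-- import your own Groth.Agent.* helpers here

set_option autoImplicit false
set_option backward.isDefEq.respectTransparency false
set_option backward.isDefEq.respectTransparency.types false
open CategoryTheory CategoryTheory.Limits AlgebraicGeometry Opposite
open scoped TensorProduct
universe u
open EtModW

namespace Groth.Agent.S0752

/-- Let f : X -> S be proper and smooth with geometrically connected fibres of dimension 1, L a
Noetherian ring and M a finite L-module killed by some positive integer. Then R^q f_* M (constant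
sheaf of L-modules) is a constructible sheaf of L-modules on S_et for every q. (Coefficient ring and
module are taken in the value universe of etale sheaves.) -/
theorem result {X S : Scheme.{u}} (f : X ⟶ S)
    [IsProper f] [Smooth f]
    (hconn : ∀ (Ω : Type u) [Field Ω] [IsAlgClosed Ω] (s : Spec (CommRingCat.of Ω) ⟶ S),
      ConnectedSpace ↥(pullback f s))
    (hdim : ∀ (Ω : Type u) [Field Ω] [IsAlgClosed Ω] (s : Spec (CommRingCat.of Ω) ⟶ S),
      topologicalKrullDim ↥(pullback f s) = 1)
    (Λ : Type (u + 1)) [CommRing Λ] [IsNoetherianRing Λ] (M : Type (u + 1)) [AddCommGroup M] [Module Λ M]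
    [Module.Finite Λ M] (n : ℕ) (hn : 0 < n) (hM : ∀ m : M, n • m = 0) (q : ℕ) :
    EtModW.IsConstructible Λ ((EtModW.Rpush Λ f q).obj (EtModW.constMod Λ X M)) := by
  exact EtModCons.isConstructible_Rpush_constMod Λ f n hn M hM q

end Groth.Agent.S0752

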