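import Groth.Statements.S14017
import Mathlib

set_option autoImplicit false
set_option backward.isDefEq.respectTransparency false
set_option backward.isDefEq.respectTransparency.types false
set_option maxHeartbeats 1000000
set_option linter.style.haveILetI false
open CategoryTheory CategoryTheory.Limits AlgebraicGeometry Opposite
universe u
open EtModW

namespace Groth.Agent.S14017

theorem surjective_of_epi {Λ : Type (u + 1)} [CommRing Λ] {X : Scheme.{u}} {A B : EtModW.ModP Λ X} (q : A ⟶ B)
    [Epi q] (U : X.ProEt) (hU : ProEtS.IsWC U) : Function.Surjective (q.hom.app (op U)).hom := by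
  haveI : Sheaf.IsLocallySurjective q := (Sheaf.isLocallySurjective_iff_epi' (ModuleCat.{u + 1} Λ) q).mpr inferInstance
  let q' := (sheafCompose (Scheme.ProEt.topology X) (forget (ModuleCat.{u + 1} Λ))).map q
  haveI : Sheaf.IsLocallySurjective q' :=
    (Presheaf.isLocallySurjective_iff_whisker_forget _ q.hom).mp ‹_›
  exact hU _ _ q' inferInstance


/-- Let X be a scheme, Λ a commutative ring and I a finitely generated ideal of Λ; let F be a sheaf of
Λ-modules on the small pro-étale site of X and p : F ⟶ Q a quotient map modulo I (Q is killed by I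
and every morphism out of F killed by I factors uniquely through p, so Q = F/IF); let U be a weakly
contractible object of the pro-étale site. Then the map on sections F(U) → Q(U) is surjective and
its kernel is exactly the submodule I·F(U): sections over a weakly contractible object commute with
forming IF and F/IF. (The published lemma is for sheaves of Λ-modules on an arbitrary site and a
weakly contractible object of it; this row states the case of the small pro-étale site of a scheme.) -/
theorem result
    (Λ : Type (u + 1)) [CommRing Λ] (I : Ideal Λ) (hI : I.FG)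
    (X : Scheme.{u}) (F Q : EtModW.ModP Λ X) (p : F ⟶ Q) (hp : ARSys.IsQuot I p)
    (U : X.ProEt) (hU : ProEtS.IsWC U) :
    Function.Surjective (p.hom.app (op U)).hom ∧
      LinearMap.ker (p.hom.app (op U)).hom = I • (⊤ : Submodule Λ (F.obj.obj (op U))) := by
  obtain ⟨r, a, ha⟩ := Submodule.fg_iff_exists_fin_generating_family.mp hI
  haveI : HasFiniteBiproducts (EtModW.ModP Λ X) := Abelian.hasFiniteBiproducts
  let σ : (⨁ fun _ : Fin r => F) ⟶ F := biproduct.desc fun i => a i • 𝟙 F
  have haI : ∀ i, a i ∈ I := fun i => ha ▸ Submodule.subset_span ⟨i, rfl⟩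
  have hσp : σ ≫ p = 0 := by
    refine biproduct.hom_ext' _ _ fun i => ?_
    rw [biproduct.ι_desc_assoc, Linear.smul_comp, Category.id_comp, comp_zero, ← Category.comp_id p,
      ← Linear.comp_smul, hp.1 _ (haI i), comp_zero]
  have hc : ARSys.HomKilledBy I (cokernel.π σ) := by
    intro b hb
    rw [← ha] at hb
    induction hb using Submodule.span_induction with
    | mem x hx =>
      obtain ⟨i, rfl⟩ := hx
      have := congrArg (fun m => biproduct.ι (fun _ : Fin r => F) i ≫ m) (cokernel.condition σ)
      rw [comp_zero, ← Category.assoc, biproduct.ι_desc, Linear.smul_comp, Category.id_comp] at this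
      exact this
    | zero => exact zero_smul _ _
    | add x y _ _ hx hy => rw [add_smul, hx, hy, add_zero]
    | smul c x _ hx => rw [smul_eq_mul, mul_smul, hx, smul_zero]
  obtain ⟨ψ, hψ, -⟩ := hp.2 _ _ hc
  let χ : cokernel σ ⟶ Q := cokernel.desc σ p hσp
  have h1 : ψ ≫ χ = 𝟙 Q := by
    obtain ⟨w, -, hu⟩ := hp.2 Q p fun b hb => by
      rw [← Category.comp_id p, ← Linear.comp_smul, hp.1 _ hb, comp_zero]
    exact (hu _ (show p ≫ ψ ≫ χ = p by rw [← Category.assoc, hψ, cokernel.π_desc])).trans (hu _ (Category.comp_id p)).symm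
  have h2 : χ ≫ ψ = 𝟙 _ := by
    rw [← cancel_epi (cokernel.π σ), cokernel.π_desc_assoc, hψ, Category.comp_id]
  haveI : IsIso χ := ⟨ψ, h2, h1⟩
  haveI : Epi p := by
    rw [← cokernel.π_desc σ p hσp]
    exact epi_comp _ _
  have hex : (ShortComplex.mk σ p hσp).Exact := by
    refine (ShortComplex.exact_iff_of_iso (ShortComplex.isoMk (Iso.refl _) (Iso.refl _) (asIso χ)
      (S₁ := ShortComplex.mk σ (cokernel.π σ) (cokernel.condition σ)) (S₂ := ShortComplex.mk σ p hσp)
      (by simp) (by simp [χ]))).mp ?_
    exact ShortComplex.exact_of_g_is_cokernel _ (cokernelIsCokernel σ)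
  haveI : Epi (kernel.lift p σ hσp) := hex.epi_kernelLift
  refine ⟨surjective_of_epi p U hU, le_antisymm ?_ ?_⟩
  · intro x hx
    let E : EtModW.ModP Λ X ⥤ ModuleCat.{u + 1} Λ :=
      sheafToPresheaf _ _ ⋙ (evaluation _ _).obj (op U)
    have hker : ((ShortComplex.mk (kernel.ι p) p (kernel.condition p)).map E).Exact :=
      ShortComplex.exact_of_f_is_kernel _ (KernelFork.mapIsLimit _ (kernelIsKernel p) E)
    obtain ⟨z, hz⟩ := (ShortComplex.moduleCat_exact_iff _).mp hker x (LinearMap.mem_ker.mp hx)
    obtain ⟨y, hy⟩ := surjective_of_epi (kernel.lift p σ hσp) U hU z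
    have hσy : (σ.hom.app (op U)).hom y = x := by
      rw [← hz, ← hy]
      exact (congrArg (fun m : (⨁ fun _ : Fin r => F) ⟶ F => (m.hom.app (op U)).hom y) (kernel.lift_ι p σ hσp)).symm
    rw [← hσy, show σ = ∑ i, biproduct.π (fun _ : Fin r => F) i ≫ (a i • 𝟙 F) from biproduct.desc_eq]
    have hsum : (E.map (∑ i, biproduct.π (fun _ : Fin r => F) i ≫ (a i • 𝟙 F))).hom y ∈
        I • (⊤ : Submodule Λ (F.obj.obj (op U))) := by
      rw [Functor.map_sum, ModuleCat.hom_sum, LinearMap.sum_apply]
      exact Submodule.sum_mem _ fun i _ => Submodule.smul_mem_smul (haI i) Submodule.mem_top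
    exact hsum
  · refine Submodule.smul_le.mpr fun b hb x _ => ?_
    rw [LinearMap.mem_ker, map_smul]
    exact congrArg (fun m : Q ⟶ Q => (m.hom.app (op U)).hom ((p.hom.app (op U)).hom x)) (hp.1 b hb)

end Groth.Agent.S14017
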