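import Groth.Statements.S0766
import Groth.Agent.WContr.DCSite
import Mathlib

set_option autoImplicit false
set_option backward.isDefEq.respectTransparency false
set_option backward.isDefEq.respectTransparency.types false
open CategoryTheory CategoryTheory.Limits AlgebraicGeometry Opposite
universe u
open ProEtDC

namespace Groth.Agent.S0766

/-- Let L be a ring (value universe), I an ideal generated by finitely many elements a_1, ..., a_r, and
F a sheaf of L-modules on X_proet which is derived complete with respect to I and satisfies F/IF = 0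
(the map F^r -> F, (s_k) |-> sum a_k s_k, is an epimorphism). Then F = 0. -/
theorem result (X : Scheme.{u}) (Λ : Type (u + 1)) [CommRing Λ]
    {r : ℕ} (a : Fin r → Λ) (F : EtModW.ModP Λ X)
    (hF : ProEtDC.IsDCSheaf Λ (Ideal.span (Set.range a)) F) (h0 : ProEtDC.ModGensIsZero Λ a F) :
    IsZero F := by
  rw [IsZero.iff_id_eq_zero]
  obtain ⟨ι, V, π, hV, hπ⟩ := Groth.Agent.WContr.DC.exists_projective_cover F
  haveI := fun i => Groth.Agent.WContr.DC.projective_PU (Λ := Λ) (V i) (hV i)
  haveI : Epi (biproduct.desc (fun k : Fin r => ProEtDC.smulHom Λ F (a k))) := h0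
  refine (cancel_epi π).mp ?_
  rw [comp_zero, Category.comp_id]
  refine Groth.Agent.WContr.DC.eq_zero_of_gens a (fun k =>
    Groth.Agent.WContr.DC.dcSec_hom_sheaf hF (Ideal.subset_span ⟨k, rfl⟩) _) (fun g => ?_) π
  obtain ⟨h, hh⟩ : ∃ h, h ≫ biproduct.desc (fun k : Fin r => ProEtDC.smulHom Λ F (a k)) = g :=
    ⟨Projective.factorThru g _, Projective.factorThru_comp g _⟩
  refine ⟨fun k => h ≫ biproduct.π _ k, ?_⟩
  rw [← hh, biproduct.desc_eq, Preadditive.comp_sum]
  refine Finset.sum_congr rfl fun k _ => ?_
  rw [Groth.Agent.WContr.DC.smulHom_eq, ← Category.assoc, Linear.comp_smul, Category.comp_id]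

end Groth.Agent.S0766
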