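import Groth.Statements.S0768
import Groth.Agent.EtRshriek.Comp

set_option backward.isDefEq.respectTransparency false
set_option backward.isDefEq.respectTransparency.types false
-- import your own Groth.Agent.* helpers here

set_option autoImplicit false
open CategoryTheory CategoryTheory.Limits AlgebraicGeometry Opposite
universe u
attribute [local instance] HasDerivedCategory.standard
open EtRest

namespace Groth.Agent.S0768

/-- For separated finite type f : X -> Y and g : Y -> Z, all three schemes quasi-compact and
quasi-separated, with compactifications c of f, d of g and e of g o f. For every bounded below K in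
D(X_et) with torsion cohomology sheaves, Rg_!(Rf_! K) (computed through d and c) is isomorphic to
R(g o f)_! K (computed through e). (Objectwise existence; the left exactness of the j_! and the
existence of the unbounded derived direct images are assumed as hypotheses.) -/
theorem result {X Y Z : Scheme.{u}} [CompactSpace ↥X] [QuasiSeparatedSpace ↥X] [CompactSpace ↥Y] [QuasiSeparatedSpace ↥Y] [CompactSpace ↥Z] [QuasiSeparatedSpace ↥Z]
    (f : X ⟶ Y) (g : Y ⟶ Z) [IsSeparated f] [LocallyOfFiniteType f] [QuasiCompact f] [IsSeparated g]
    [LocallyOfFiniteType g] [QuasiCompact g] (c : DEt.Compactification f)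
    [PreservesFiniteLimits (EtShriek.extZero c.j)] [DCoh.HasRpushEt c.Xbar c.fbar]
    (d : DEt.Compactification g) [PreservesFiniteLimits (EtShriek.extZero d.j)] [DCoh.HasRpushEt d.Xbar d.fbar]
    (e : DEt.Compactification (f ≫ g)) [PreservesFiniteLimits (EtShriek.extZero e.j)]
    [DCoh.HasRpushEt e.Xbar e.fbar] (K : DCoh.DEt X) (hb : (∃ a : ℤ, ∀ n : ℤ, n < a → IsZero (DCoh.HDEt K n)))
    (ht : (∀ n : ℤ, EtCoh.IsTorsion (DCoh.HDEt K n))) :
    Nonempty ((DEt.Rshriek d).obj ((DEt.Rshriek c).obj K) ≅ (DEt.Rshriek e).obj K) := by
  obtain ⟨a, ha⟩ := Groth.Agent.EtRshriek.isGE_of_bdd hb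
  exact Groth.Agent.EtRshriek.nonempty_Rshriek_comp c d e K a ha ht

end Groth.Agent.S0768
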