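import Groth.Statements.S0769
import Groth.Agent.EtRshriek.Coprod

set_option backward.isDefEq.respectTransparency false
set_option backward.isDefEq.respectTransparency.types false
set_option linter.style.haveILetI false
-- import your own Groth.Agent.* helpers here

set_option autoImplicit false
open CategoryTheory CategoryTheory.Limits AlgebraicGeometry Opposite
universe u
attribute [local instance] HasDerivedCategory.standard
open EtRest

namespace Groth.Agent.S0769

/-- Let f : X -> Y be separated of finite type with X, Y quasi-compact quasi-separated and c a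
compactification. For a family K_i of objects of D(X_et) with torsion cohomology sheaves, all
vanishing below a common degree a, Rf_! (computed through c) preserves the direct sum of the K_i.
(The left exactness of j_! and the existence of the unbounded derived direct image along the
compactification are assumed as hypotheses.) -/
theorem result {X Y : Scheme.{u}} [CompactSpace ↥X] [QuasiSeparatedSpace ↥X] [CompactSpace ↥Y] [QuasiSeparatedSpace ↥Y]
    (f : X ⟶ Y) [IsSeparated f] [LocallyOfFiniteType f] [QuasiCompact f] (c : DEt.Compactification f)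
    [PreservesFiniteLimits (EtShriek.extZero c.j)] [DCoh.HasRpushEt c.Xbar c.fbar]
    {ι : Type u} (K : ι → DCoh.DEt X) (a : ℤ) (hb : ∀ i, ∀ n : ℤ, n < a → IsZero (DCoh.HDEt (K i) n))
    (ht : ∀ i, ∀ n : ℤ, EtCoh.IsTorsion (DCoh.HDEt (K i) n)) :
    PreservesColimit (Discrete.functor K) (DEt.Rshriek c) := by
  let T := ULift.{u + 1} ι
  let K' : T → DCoh.DEt X := fun t => K t.down
  let E : Discrete T ≌ Discrete ι := Discrete.equivalence Equiv.ulift
  haveI : (EtShriek.extZero c.j).IsLeftAdjoint := (EtShriek.extZeroAdj c.j).isLeftAdjoint
  haveI := Groth.Agent.EtRshriek.preservesCoproducts_mapDerived (T := T) (EtShriek.extZero c.j)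
  haveI : PreservesColimit (Discrete.functor K' ⋙ DEt.extZeroD c.j) (DCoh.RpushEt c.Xbar c.fbar) :=
    haveI := Groth.Agent.EtRshriek.preservesColimit_RpushEt c.fbar (fun t => (DEt.extZeroD c.j).obj (K' t)) a
      fun t => Groth.Agent.WayOut.preservesGE_mapDerived _ _ a ((DerivedCategory.isGE_iff _ a).2 (hb t.down))
    preservesColimit_of_iso_diagram _ (Discrete.natIso fun _ => Iso.refl _ :
      Discrete.functor (fun t => (DEt.extZeroD c.j).obj (K' t)) ≅ Discrete.functor K' ⋙ DEt.extZeroD c.j)
  haveI : PreservesColimit (Discrete.functor K') (DEt.Rshriek c) := inferInstance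
  haveI : PreservesColimit (E.functor ⋙ Discrete.functor K) (DEt.Rshriek c) :=
    preservesColimit_of_iso_diagram _ (Discrete.natIso fun _ => Iso.refl _ :
      Discrete.functor K' ≅ E.functor ⋙ Discrete.functor K)
  refine ⟨fun {s} hs => ⟨?_⟩⟩
  exact (Functor.Final.isColimitWhiskerEquiv E.functor ((DEt.Rshriek c).mapCocone s))
    (isColimitOfPreserves (DEt.Rshriek c) ((Functor.Final.isColimitWhiskerEquiv E.functor s).symm hs))

end Groth.Agent.S0769
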