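import Groth.Statements.S0771
import Groth.Agent.EtConsPush.Derived
-- import your own Groth.Agent.* helpers here

set_option autoImplicit false
set_option backward.isDefEq.respectTransparency false
set_option backward.isDefEq.respectTransparency.types false
open CategoryTheory CategoryTheory.Limits AlgebraicGeometry Opposite
universe u
attribute [local instance] HasDerivedCategory.standard
open EtRest

namespace Groth.Agent.S0771

/-- For integer coefficients and bounded below complexes: let f : X -> Y be separated and of finite
presentation with X, Y quasi-compact quasi-separated and c a compactification of f. If K in D(X_et)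
is bounded below with torsion, constructible cohomology sheaves, then every cohomology sheaf of Rf_!
K (computed through c) is constructible (and torsion). (The left exactness of j_! and the existence
of the unbounded derived direct image along the compactification are assumed as hypotheses.) -/
theorem result {X Y : Scheme.{u}} [CompactSpace ↥X] [QuasiSeparatedSpace ↥X] [CompactSpace ↥Y] [QuasiSeparatedSpace ↥Y]
    (f : X ⟶ Y) [IsSeparated f] [LocallyOfFinitePresentation f] [QuasiCompact f] (c : DEt.Compactification f)
    [PreservesFiniteLimits (EtShriek.extZero c.j)] [DCoh.HasRpushEt c.Xbar c.fbar]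
    (K : DCoh.DEt X) (hb : (∃ a : ℤ, ∀ n : ℤ, n < a → IsZero (DCoh.HDEt K n))) (ht : (∀ n : ℤ, EtCoh.IsTorsion (DCoh.HDEt K n)))
    (hc : ∀ n : ℤ, EtPBC.IsConstructible (DCoh.HDEt K n)) (n : ℤ) :
    EtPBC.IsConstructible (DCoh.HDEt ((DEt.Rshriek c).obj K) n) ∧
      EtCoh.IsTorsion (DCoh.HDEt ((DEt.Rshriek c).obj K) n) := by
  haveI : LocallyOfFinitePresentation (c.j ≫ c.fbar) := by rw [c.fac]; infer_instance
  obtain ⟨a, ha⟩ := EtRshriek.isGE_of_bdd hb
  have h := EtConsPush.cohIn_Rshriek c.j c.fbar K a ha hc n
  exact ⟨h, EtConsPush.isTorsion_of_isConstructible h⟩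

end Groth.Agent.S0771

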