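import Groth.Statements.S0772
import Groth.Agent.EtRshriek.Homology
import Groth.Agent.EtPBC.ShriekProper
import Groth.Agent.ShriekLQF.Etale
-- import your own Groth.Agent.* helpers here

set_option autoImplicit false
open CategoryTheory CategoryTheory.Limits AlgebraicGeometry Opposite
universe u
attribute [local instance] HasDerivedCategory.standard
open EtRest

set_option backward.isDefEq.respectTransparency false
set_option backward.isDefEq.respectTransparency.types false
set_option linter.style.haveILetI false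
set_option maxHeartbeats 1000000

namespace Groth.Agent.S0772

/-- On a torsion abelian sheaf F in degree 0: let f : X -> Y be quasi-finite and separated with X, Y
quasi-compact quasi-separated and c a compactification. Then the degree-0 cohomology sheaf of Rf_! F
(computed through c) is isomorphic to f_! F (sections with proper support) and the other cohomology
sheaves vanish. (The left exactness of j_! and the existence of the unbounded derived direct image
along the compactification are assumed as hypotheses.) -/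
theorem result {X Y : Scheme.{u}} [CompactSpace ↥X] [QuasiSeparatedSpace ↥X] [CompactSpace ↥Y] [QuasiSeparatedSpace ↥Y]
    (f : X ⟶ Y) [IsSeparated f] [LocallyOfFiniteType f] [LocallyQuasiFinite f] [QuasiCompact f] (c : DEt.Compactification f)
    [PreservesFiniteLimits (EtShriek.extZero c.j)] [DCoh.HasRpushEt c.Xbar c.fbar]
    (F : EtCoh.Ab X) (hF : EtCoh.IsTorsion F) :
    Nonempty (DCoh.HDEt ((DEt.Rshriek c).obj ((DerivedCategory.singleFunctor (EtCoh.Ab X) 0).obj F)) 0 ≅
      (EtShriek.lowerShriek f).obj F) ∧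
    ∀ n : ℤ, n ≠ 0 → IsZero (DCoh.HDEt ((DEt.Rshriek c).obj ((DerivedCategory.singleFunctor (EtCoh.Ab X) 0).obj F)) n) := by
  let A := (EtShriek.extZero c.j).obj F
  let e₀ : (DEt.Rshriek c).obj ((DerivedCategory.singleFunctor (EtCoh.Ab X) 0).obj F) ≅
      (DCoh.RpushEt c.Xbar c.fbar).obj (EtBC.single c.Xbar A) :=
    (DCoh.RpushEt c.Xbar c.fbar).mapIso (((EtShriek.extZero c.j).mapDerivedCategorySingleFunctor 0).app F)
  obtain ⟨η⟩ := ShriekLQF.nonempty_extZero_iso_lowerShriek c.j
  haveI : IsSeparated (c.j ≫ c.fbar) := by rw [c.fac]; infer_instance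
  haveI : LocallyOfFiniteType (c.j ≫ c.fbar) := by rw [c.fac]; infer_instance
  haveI : LocallyQuasiFinite (c.j ≫ c.fbar) := by rw [c.fac]; infer_instance
  haveI := FpqcDescent.locallyQuasiFinite_of_etale c.j
  let Hn : ℤ → DCoh.DEt Y ⥤ EtCoh.Ab Y := fun n => DerivedCategory.homologyFunctor (EtCoh.Ab Y) n
  refine ⟨?_, fun n hn => ?_⟩
  · obtain ⟨e⟩ := EtRshriek.nonempty_H_single_nat c.fbar A 0
    obtain ⟨k⟩ := ShriekLQF.nonempty_lowerShriek_comp c.j c.fbar
    haveI : PreservesFiniteLimits (EtCoh.push c.fbar) :=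
      haveI := (EtCoh.pullPushAdj c.fbar).rightAdjoint_preservesLimits
      PreservesLimits.preservesFiniteLimits _
    exact ⟨(Hn 0).mapIso e₀ ≪≫ e ≪≫ ((EtCoh.push c.fbar).rightDerivedZeroIsoSelf).app A ≪≫
      (EtCoh.push c.fbar).mapIso (η.app F) ≪≫ (k.app F).symm ≪≫ eqToIso (by rw [c.fac])⟩
  · refine IsZero.of_iso ?_ ((Hn n).mapIso e₀)
    rcases lt_or_gt_of_ne hn with h | h
    · exact EtRshriek.isZero_H_single_neg c.fbar A n h
    · obtain ⟨m, rfl⟩ : ∃ m : ℕ, n = ((m + 1 : ℕ) : ℤ) := ⟨(n - 1).toNat, by omega⟩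
      obtain ⟨e⟩ := EtRshriek.nonempty_H_single_nat c.fbar A (m + 1)
      exact ((EtPBC.isZero_Rpush_lowerShriek c.j c.fbar F hF m).of_iso
        ((EtCoh.Rpush c.fbar (m + 1)).mapIso (η.app F))).of_iso e

end Groth.Agent.S0772
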