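import Groth.Statements.S0775
import Groth.Agent.EtConsPush.Proper
import Groth.Agent.EtConsPush.Field
-- import your own Groth.Agent.* helpers here

set_option autoImplicit false
set_option backward.isDefEq.respectTransparency false
set_option backward.isDefEq.respectTransparency.types false
open CategoryTheory CategoryTheory.Limits AlgebraicGeometry Opposite
universe u
attribute [local instance] HasDerivedCategory.standard
open EtRest

namespace Groth.Agent.S0775

/-- Let S be affine, Noetherian and finite-dimensional, f : X -> S separated, affine and smooth of
relative dimension 1 with a compactification c, and M a finite abelian group killed by a positive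
integer m. Then all cohomology sheaves of Rf_! M (constant abelian sheaf, the derived functors being
taken in abelian sheaves; computed through c) are constructible. (The left exactness of j_! and the
existence of the unbounded derived direct image along the compactification are assumed as
hypotheses.) -/
theorem result {X S : Scheme.{u}} [IsAffine S] [AlgebraicGeometry.IsNoetherian S]
    (hS : topologicalKrullDim ↥S ≠ ⊤) (f : X ⟶ S) [IsSeparated f] [IsAffineHom f]
    [SmoothOfRelativeDimension 1 f] (c : DEt.Compactification f)
    [PreservesFiniteLimits (EtShriek.extZero c.j)] [DCoh.HasRpushEt c.Xbar c.fbar]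
    (M : Type) [AddCommGroup M] [Finite M] (m : ℕ) (hm : 0 < m) (hM : ∀ x : M, m • x = 0) (n : ℤ) :
    EtPBC.IsConstructible (DCoh.HDEt ((DEt.Rshriek c).obj
      ((DerivedCategory.singleFunctor (EtCoh.Ab X) 0).obj (EtCoh.const X M))) n) := by
  haveI : AlgebraicGeometry.IsNoetherian c.Xbar :=
    { toIsLocallyNoetherian := LocallyOfFiniteType.isLocallyNoetherian c.fbar
      toCompactSpace := QuasiCompact.compactSpace_of_compactSpace c.fbar }
  have hc : EtPBC.IsConstructible ((EtShriek.extZero c.j).obj (EtCoh.const X M)) :=
    EtConsPush.isConstructible_extZero c.j _ (EtCons.isConstructible_const M)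
  have h := EtConsPush.cohIn_Rpush_single
    (fun F hF q => EtConsPush.preservesCons_proper c.fbar F hF (EtConsPush.isTorsion_of_isConstructible hF) q :
      EtConsPush.PreservesCons c.fbar) _ hc n
  obtain ⟨s⟩ := EtRshriek.nonempty_map_single (EtShriek.extZero c.j) (EtCoh.const X M)
  exact EtCons.isConstructible_of_iso
    ((DerivedCategory.homologyFunctor (EtCoh.Ab S) n).mapIso ((DCoh.RpushEt c.Xbar c.fbar).mapIso s)).symm h

end Groth.Agent.S0775

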