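import Groth.Statements.S0776
import Groth.Agent.WContr.DCSite
import Mathlib

set_option autoImplicit false
set_option backward.isDefEq.respectTransparency false
set_option backward.isDefEq.respectTransparency.types false
open CategoryTheory CategoryTheory.Limits AlgebraicGeometry Opposite
universe u
open ProEtDC

namespace Groth.Agent.S0776

/-- For a Noetherian ring L (value universe) and an ideal I, the sheaf L^ = lim_n L/I^n (limit of
constant sheaves) on X_proet is derived complete with respect to I. -/
theorem result (X : Scheme.{u}) (Λ : Type (u + 1)) [CommRing Λ]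
    [IsNoetherianRing Λ] (I : Ideal Λ) : ProEtDC.IsDCSheaf Λ I (ProEtDC.lambdaHat Λ X I) := by
  refine Groth.Agent.WContr.DC.isDC_limit _ fun j => Groth.Agent.WContr.DC.isDC_of_pow_killed _ fun f hf => ⟨j.unop, ?_⟩
  have hT : IsTerminal (ProEtS.topP X) := IsTerminal.ofUniqueHom
    (fun W => MorphismProperty.Over.homMk W.hom (Category.comp_id _))
    (fun W m => MorphismProperty.Over.Hom.ext ((Category.comp_id _).symm.trans (MorphismProperty.Over.w m)))
  let adj := constantSheafAdj (Scheme.ProEt.topology X) (ModuleCat.{u + 1} Λ) hT
  apply (adj.homEquiv _ _).injective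
  rw [Adjunction.homEquiv_unit, Adjunction.homEquiv_unit]
  refine ModuleCat.hom_ext (LinearMap.ext fun x => ?_)
  have hx : f ^ j.unop • x = 0 := by
    obtain ⟨x, rfl⟩ := Submodule.Quotient.mk_surjective _ x
    exact (Submodule.Quotient.mk_eq_zero _).mpr
      (Submodule.smul_mem_smul (Ideal.pow_mem_pow hf _) Submodule.mem_top)
  exact ((map_smul (adj.unit.app _).hom (f ^ j.unop) x).symm.trans
    ((congrArg _ hx).trans (map_zero _)))

end Groth.Agent.S0776
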