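import Groth.Statements.S0777
import Groth.Agent.WContr.DCEpi
import Groth.Agent.S0766
import Mathlib

set_option autoImplicit false
set_option backward.isDefEq.respectTransparency false
set_option backward.isDefEq.respectTransparency.types false
set_option linter.style.haveILetI false
set_option maxHeartbeats 800000
set_option synthInstance.maxHeartbeats 200000
open CategoryTheory CategoryTheory.Limits AlgebraicGeometry Opposite
universe u
open ProEtDC

namespace Groth.Agent.S0777

/-- Let X be an affine scheme whose ring of functions is w-contractible (a weakly contractible affine),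
L a Noetherian ring (value universe), I an ideal generated by a_1, ..., a_r, and F a sheaf of
L-modules on X_proet which is derived complete with respect to I and such that F/IF (the cokernel of
F^r -> F, (s_k) |-> sum a_k s_k) is a locally constant sheaf of finite presentation. Then for some t
there is an epimorphism (L^)^t -> F from a finite direct sum of copies of the completed constant
sheaf. -/
theorem result (X : Scheme.{u}) [IsAffine X]
    (hX : EtPBC.IsWContractible ↥(Γ(X, ⊤))) (Λ : Type (u + 1)) [CommRing Λ] [IsNoetherianRing Λ]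
    {r : ℕ} (a : Fin r → Λ) (F : EtModW.ModP Λ X)
    (hF : ProEtDC.IsDCSheaf Λ (Ideal.span (Set.range a)) F)
    (hq : EtModW.IsFPLocConstP Λ (cokernel (ProEtDC.gensMap Λ a F))) :
    ∃ (t : ℕ) (φ : (⨁ fun _ : Fin t => ProEtDC.lambdaHat Λ X (Ideal.span (Set.range a))) ⟶ F), Epi φ := by
  classical
  let T : X.ProEt := ProEtS.topP X
  haveI : IsAffine T.left := ‹IsAffine X›
  have hdec : Groth.Agent.WContr.Decomposable T := Groth.Agent.WContr.decomposable_of_isWContractible T hX
  have hwc : ProEtS.IsWC T := Groth.Agent.WContr.isWC_of_decomposable T hdec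
  obtain ⟨ι, U, hU, hloc⟩ := hq
  obtain ⟨n, W, -, hd, hc, hR⟩ := hdec _ hU
  have hfac : ∀ k, ∃ i, Nonempty (Groth.Agent.WContr.piece T (W k) ⟶ U i) := fun k => by
    obtain ⟨_, b, _, ⟨i⟩, -⟩ := hR k
    exact ⟨i, ⟨b⟩⟩
  choose i hi using hfac
  choose M _ _ _ he using fun k => hloc (i k)
  let Q := cokernel (ProEtDC.gensMap Λ a F)
  choose γ hγ using fun k => Groth.Agent.WContr.DC.exists_local_const Q (U (i k)) (ModuleCat.of Λ (M k)) (he k).some
  choose N gen hgen using fun k => Module.Finite.exists_fin (R := Λ) (M := M k)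
  let J := Scheme.ProEt.topology X
  let PQ : (X.ProEt)ᵒᵖ ⥤ Type (u + 1) := Q.obj ⋙ forget _
  have hQ : Presieve.IsSheaf J PQ :=
    (isSheaf_iff_isSheaf_of_type _ _).mp ((sheafCompose J (forget (ModuleCat.{u + 1} Λ))).obj Q).property
  let val : ∀ k, Fin (N k) → Q.obj.obj (op (Groth.Agent.WContr.piece T (W k))) := fun k l =>
    (Q.obj.map (hi k).some.op).hom (γ k (gen k l))
  have hglue : ∀ x : (Σ k, Fin (N k)), ∃ s : Q.obj.obj (op T),
      (Q.obj.map (Groth.Agent.WContr.pieceHom T (W x.1)).op).hom s = val x.1 x.2 := fun x => by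
    obtain ⟨s, hs, -⟩ := Groth.Agent.WContr.existsUnique_glue hQ W hd hc
      (fun k => if h : k = x.1 then (show PQ.obj (op (Groth.Agent.WContr.piece T (W k))) from
        h ▸ (val x.1 x.2)) else (0 : Q.obj.obj (op (Groth.Agent.WContr.piece T (W k)))))
    exact ⟨s, (hs x.1).trans (by rw [dif_pos rfl])⟩
  choose s hs using hglue
  choose f hf using fun x : (Σ k, Fin (N k)) =>
    Groth.Agent.S14017.surjective_of_epi (cokernel.π (ProEtDC.gensMap Λ a F)) T hwc (s x)
  let adj := constantSheafAdj J (ModuleCat.{u + 1} Λ) (Groth.Agent.WContr.DC.isTerminal_topP X).some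
  let g : ∀ x, (Groth.Agent.WContr.DC.cst Λ X).obj (ModuleCat.of Λ Λ) ⟶ F := fun x =>
    (adj.homEquiv _ _).symm (ModuleCat.ofHom (LinearMap.toSpanSingleton Λ _ (f x)))
  choose g' hg' using fun x => Groth.Agent.WContr.DC.exists_extend_lambdaHat hF (g x)
  let e := Fintype.equivFin (Σ k, Fin (N k))
  let L : Fin (Fintype.card (Σ k, Fin (N k))) → EtModW.ModP Λ X :=
    fun _ => ProEtDC.lambdaHat Λ X (Ideal.span (Set.range a))
  let φ : (⨁ L) ⟶ F := biproduct.desc fun j => g' (e.symm j)
  refine ⟨_, φ, Preadditive.epi_of_isZero_cokernel φ ?_⟩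
  have hdcL : ProEtDC.IsDCSheaf Λ (Ideal.span (Set.range a)) (⨁ L) :=
    Groth.Agent.WContr.DC.isDCSheaf_biproduct L fun _ =>
      Groth.Agent.WContr.DC.isDC_limit _ fun j => Groth.Agent.WContr.DC.isDC_of_pow_killed _ fun b hb => ⟨j.unop, by
        have h0 : b ^ j.unop • 𝟙 ((ProEtDC.quotTower Λ (Ideal.span (Set.range a))).obj j) = 0 :=
          ModuleCat.hom_ext (LinearMap.ext fun z => by
            obtain ⟨z, rfl⟩ := Submodule.Quotient.mk_surjective _ z
            exact (Submodule.Quotient.mk_eq_zero _).mpr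
              (Submodule.smul_mem_smul (Ideal.pow_mem_pow hb _) Submodule.mem_top))
        show b ^ j.unop • 𝟙 ((Groth.Agent.WContr.DC.cst Λ X).obj _) = 0
        rw [← CategoryTheory.Functor.map_id, ← Groth.Agent.WContr.DC.cst_map_smul, h0, Functor.map_zero]⟩
  have hdcC : ProEtDC.IsDCSheaf Λ (Ideal.span (Set.range a)) (cokernel φ) :=
    Groth.Agent.WContr.DC.isDC_coker (ShortComplex.mk φ (cokernel.π φ) (cokernel.condition φ))
      (ShortComplex.exact_of_g_is_cokernel _ (cokernelIsCokernel φ)) hdcL hF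
  refine Groth.Agent.S0766.result X Λ a _ hdcC ?_
  refine Preadditive.epi_of_isZero_cokernel _ ?_
  let σ := ProEtDC.gensMap Λ a (cokernel φ)
  have hρ : ProEtDC.gensMap Λ a F ≫ cokernel.π φ ≫ cokernel.π σ = 0 := biproduct.hom_ext' _ _ fun k => by
    have h1 := congrArg (fun m => cokernel.π φ ≫ biproduct.ι (fun _ : Fin r => cokernel φ) k ≫ m)
      (cokernel.condition σ)
    simp only [σ, biproduct.ι_desc_assoc, Groth.Agent.WContr.DC.smulHom_eq, Linear.smul_comp, Linear.comp_smul,
      Category.id_comp, comp_zero] at h1 ⊢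
    exact h1
  let χ : Q ⟶ cokernel σ := cokernel.desc _ (cokernel.π φ ≫ cokernel.π σ) hρ
  suffices hχ : χ = 0 by
    refine (IsZero.iff_id_eq_zero _).mpr ?_
    rw [← cancel_epi (cokernel.π σ), ← cancel_epi (cokernel.π φ), Category.comp_id, comp_zero, comp_zero,
      ← cokernel.π_desc (ProEtDC.gensMap Λ a F) (cokernel.π φ ≫ cokernel.π σ) hρ]
    exact (congrArg _ hχ).trans comp_zero
  refine Groth.Agent.WContr.DC.eq_zero_of_pieces χ T (Groth.Agent.WContr.DC.isTerminal_topP X).some W hc
    (fun k => U (i k)) (fun k => (hi k).some) (fun k => ModuleCat.of Λ (M k)) γ hγ fun k m => ?_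
  have hzero : ∀ x, (χ.hom.app (op T)).hom (s x) = 0 := fun x => by
    rw [← hf x]
    show ((cokernel.π (ProEtDC.gensMap Λ a F) ≫ χ).hom.app (op T)).hom (f x) = 0
    rw [cokernel.π_desc]
    have hgf : g x ≫ cokernel.π φ = 0 := by
      rw [← hg' x]
      have := congrArg (fun m => Groth.Agent.WContr.DC.iota Λ X (Ideal.span (Set.range a)) ≫
        biproduct.ι L (e x) ≫ m) (cokernel.condition φ)
      simp only [φ, biproduct.ι_desc_assoc, Equiv.symm_apply_apply, comp_zero] at this
      rw [Category.assoc]; exact this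
    have h2 : ((Groth.Agent.WContr.DC.secF (Λ := Λ) T).map (cokernel.π φ)).hom (f x) = 0 := by
      have h3 := congrArg (fun m => ((adj.homEquiv _ _) m).hom (1 : Λ)) hgf
      simp only [g, Adjunction.homEquiv_naturality_right, Equiv.apply_symm_apply] at h3
      have h4 : ((adj.homEquiv (ModuleCat.of Λ Λ) (cokernel φ)) 0).hom (1 : Λ) = 0 := by
        rw [Adjunction.homEquiv_unit]; rfl
      refine Eq.trans ?_ (h3.trans h4)
      show _ = ((Groth.Agent.WContr.DC.secF (Λ := Λ) T).map (cokernel.π φ)).hom ((1 : Λ) • f x)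
      rw [one_smul]
    exact (congrArg ((cokernel.π σ).hom.app (op T)).hom h2).trans (map_zero _)
  have hgen' : ∀ l, (χ.hom.app (op (Groth.Agent.WContr.piece T (W k)))).hom (val k l) = 0 := fun l => by
    rw [← hs ⟨k, l⟩]
    refine (congrArg (fun m => m.hom (s ⟨k, l⟩)) (χ.hom.naturality (Groth.Agent.WContr.pieceHom T (W k)).op)).trans ?_
    exact (congrArg _ (hzero ⟨k, l⟩)).trans (map_zero ((cokernel σ).obj.map (Groth.Agent.WContr.pieceHom T (W k)).op).hom)
  have hm : m ∈ Submodule.span Λ (Set.range (gen k)) := (hgen k).symm ▸ Submodule.mem_top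
  induction hm using Submodule.span_induction with
  | mem y hy => obtain ⟨l, rfl⟩ := hy; exact hgen' l
  | zero => simp
  | add y z _ _ hy hz => simp only [map_add, hy, hz, add_zero]
  | smul c y _ hy => simp only [map_smul, hy, smul_zero]

end Groth.Agent.S0777
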