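import Groth.Statements.S0782
import Groth.Agent.SchDescent.EtaleFF

set_option autoImplicit false
open CategoryTheory CategoryTheory.Limits AlgebraicGeometry Opposite
universe u
open Desc

namespace Groth.Agent.S0782

/-- Let p : X ⟶ S be a morphism such that for every scheme U étale over S the projection X ×_S U ⟶ U is
a quotient map of topological spaces (submersive; U = S is allowed). Then for U₁, U₂ étale over S,
every morphism between their canonical descent data relative to p comes from an S-morphism U₁ ⟶ U₂:
the canonical-descent-datum functor is full on schemes étale over S (injectivity of this assignment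
is a companion statement). (Descent data are taken in functor-of-points form, equivalent by the
Yoneda lemma to the usual form of an isomorphism over X ×_S X satisfying the cocycle condition.) -/
theorem result {X S : Scheme.{u}} (p : X ⟶ S)
    (hp : ∀ U : Over S, Etale U.hom → Topology.IsQuotientMap (pullback.snd p U.hom).base) (U₁ U₂ : Over S)
    [Etale U₁.hom] [Etale U₂.hom] : Function.Surjective ((Desc.toDD p).map : (U₁ ⟶ U₂) → _) := by
  have h := hp (Over.mk (𝟙 S)) (inferInstanceAs (Etale (𝟙 S)))
  have : Surjective p := ⟨fun x ↦ by
    obtain ⟨z, hz⟩ := h.surjective x
    exact ⟨pullback.fst p (𝟙 S) z, (congr($(pullback.condition (f := p) (g := 𝟙 S)) z)).trans hz⟩⟩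
  exact fun a => SchDescent.EtaleFF.exists_map_eq hp a

end Groth.Agent.S0782
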