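import Groth.Statements.S0784
import Groth.Agent.Hensel.Idempotent
import Mathlib.AlgebraicGeometry.ZariskisMainTheorem
import Groth.Agent.FpqcDescent.Sep
-- import your own Groth.Agent.* helpers here

set_option autoImplicit false
set_option linter.style.haveILetI false
open CategoryTheory CategoryTheory.Limits AlgebraicGeometry Opposite
universe u
open Desc

namespace Groth.Agent.S0784

/-- Let (A, I) be a henselian pair and g : U ⟶ Spec A quasi-compact, separated and etale such that the
base change of U to Spec(A/I) is finite over Spec(A/I). Then U is the disjoint union of an open and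
closed subscheme finite over Spec A and an open and closed subscheme with no points lying over V(I). -/
theorem result (A : Type u) [CommRing A] (I : Ideal A) [HenselianRing A I]
    {U : Scheme.{u}} (g : U ⟶ Spec (CommRingCat.of A)) [QuasiCompact g] [IsSeparated g] [Etale g]
    (hfin : IsFinite (pullback.snd g (Spec.map (CommRingCat.ofHom (Ideal.Quotient.mk I))))) :
    ∃ W : U.Opens, IsClosed (W : Set U) ∧ IsFinite (W.ι ≫ g) ∧
      ∀ u : U, u ∉ W → ¬ I ≤ (g.base u : PrimeSpectrum A).asIdeal := by
  classical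
  haveI : LocallyQuasiFinite g := Groth.Agent.FpqcDescent.locallyQuasiFinite_of_etale g
  haveI : IsAffine g.normalization := isAffine_of_isAffineHom g.fromNormalization
  let j : U ⟶ Spec Γ(g.normalization, ⊤) := g.toNormalization ≫ g.normalization.isoSpec.hom
  let h : Spec Γ(g.normalization, ⊤) ⟶ Spec (CommRingCat.of A) := g.normalization.isoSpec.inv ≫ g.fromNormalization
  have hjh : j ≫ h = g := by simp [j, h]
  haveI : IsIntegralHom h := inferInstanceAs (IsIntegralHom (g.normalization.isoSpec.inv ≫ g.fromNormalization))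
  haveI : IsOpenImmersion j := inferInstanceAs (IsOpenImmersion (g.toNormalization ≫ g.normalization.isoSpec.hom))
  obtain ⟨ρ, hρ⟩ := Spec.map_surjective h
  let C : Type u := Γ(g.normalization, ⊤)
  letI : Algebra A C := ρ.hom.toAlgebra
  haveI : Algebra.IsIntegral A C := ⟨(IsIntegralHom.SpecMap_iff.1 (hρ ▸ (inferInstance : IsIntegralHom h)) :)⟩
  let J : Ideal C := I.map (algebraMap A C)
  have hV : ∀ p : PrimeSpectrum C, J ≤ p.asIdeal ↔ I ≤ (h.base p : PrimeSpectrum A).asIdeal := by
    intro p
    rw [Ideal.map_le_iff_le_comap, ← hρ]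
    rfl
  -- the part of `U` over `V(I)` is closed
  let ι₀ := Spec.map (CommRingCat.ofHom (Ideal.Quotient.mk I))
  let m : pullback g ι₀ ⟶ Spec Γ(g.normalization, ⊤) := pullback.fst g ι₀ ≫ j
  haveI : IsFinite (pullback.snd g ι₀) := hfin
  haveI : IsClosedImmersion ι₀ := IsClosedImmersion.spec_of_surjective _ Ideal.Quotient.mk_surjective
  haveI : IsFinite (m ≫ h) := by
    rw [Category.assoc, hjh, pullback.condition]
    infer_instance
  haveI : IsFinite m := IsFinite.of_comp m h
  have hrange : Set.range m = Set.range j ∩ PrimeSpectrum.zeroLocus (J : Set C) := by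
    ext p
    constructor
    · rintro ⟨z, rfl⟩
      refine ⟨⟨pullback.fst g ι₀ z, rfl⟩, ?_⟩
      refine (PrimeSpectrum.mem_zeroLocus _ _).2 (SetLike.coe_subset_coe.2 ((hV _).2 ?_))
      have e : h (m z) = ι₀ (pullback.snd g ι₀ z) := by
        rw [← Scheme.Hom.comp_apply, ← Scheme.Hom.comp_apply, Category.assoc, hjh, pullback.condition]
      intro a ha
      rw [e]
      show Ideal.Quotient.mk I a ∈ (pullback.snd g ι₀ z : PrimeSpectrum (A ⧸ I)).asIdeal
      rw [Ideal.Quotient.eq_zero_iff_mem.2 ha]
      exact zero_mem _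
    · rintro ⟨⟨x, rfl⟩, hp⟩
      have hp' := (hV _).1 (SetLike.coe_subset_coe.1 ((PrimeSpectrum.mem_zeroLocus _ _).1 hp))
      have hx : g x ∈ Set.range ι₀ := by
        rw [← hjh]
        refine ((range_comap_of_surjective _ _ Ideal.Quotient.mk_surjective).ge ?_)
        rw [Ideal.mk_ker]
        exact (PrimeSpectrum.mem_zeroLocus _ _).2 (SetLike.coe_subset_coe.2 hp')
      obtain ⟨z, hz⟩ : x ∈ Set.range (pullback.fst g ι₀) := by
        rw [Scheme.Pullback.range_fst]; exact hx
      exact ⟨z, congrArg (fun y => j y) hz⟩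
  have hcl : IsClosed (Set.range m) := m.isClosedMap.isClosed_range
  -- the idempotent
  have hq := range_comap_of_surjective _ (Ideal.Quotient.mk J) Ideal.Quotient.mk_surjective
  rw [Ideal.mk_ker] at hq
  have hclopen : IsClopen (PrimeSpectrum.comap (Ideal.Quotient.mk J) ⁻¹' Set.range j) := by
    refine ⟨?_, j.isOpenEmbedding.isOpen_range.preimage (PrimeSpectrum.continuous_comap _)⟩
    have : PrimeSpectrum.comap (Ideal.Quotient.mk J) ⁻¹' Set.range j =
        PrimeSpectrum.comap (Ideal.Quotient.mk J) ⁻¹' Set.range m := by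
      refine Set.ext fun q => ⟨fun hh => ?_, fun hh => (hrange.le hh).1⟩
      exact hrange.ge ⟨hh, hq.le (Set.mem_range_self q)⟩
    rw [this]
    exact hcl.preimage (PrimeSpectrum.continuous_comap _)
  obtain ⟨z, hz, hzU⟩ := PrimeSpectrum.exists_idempotent_basicOpen_eq_of_isClopen hclopen
  obtain ⟨e, he, rfl⟩ := (Groth.Agent.Hensel.bijOn_idempotents (I := I) C).surjOn hz
  have hmem : ∀ p : PrimeSpectrum C, J ≤ p.asIdeal → (p ∈ Set.range j ↔ e ∉ p.asIdeal) := fun p hp => by
    obtain ⟨q, rfl⟩ : p ∈ Set.range (PrimeSpectrum.comap (Ideal.Quotient.mk J)) := by rw [hq]; exact hp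
    have := Set.ext_iff.1 hzU q
    exact this.trans (PrimeSpectrum.mem_basicOpen _ _)
  have hsub : ∀ p : PrimeSpectrum C, e ∉ p.asIdeal → p ∈ Set.range j := fun p hp => by
    obtain ⟨n, hn, hpn⟩ := Ideal.exists_le_maximal p.asIdeal p.isPrime.ne_top
    have he' : 1 - e ∈ n := by
      refine hpn ((p.isPrime.mem_or_mem ?_).resolve_left hp)
      rw [mul_sub, mul_one, he.eq, sub_self]
      exact zero_mem _
    have hen : e ∉ n := fun hh => hn.ne_top ((Ideal.eq_top_iff_one n).2 (by simpa using add_mem he' hh))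
    have hJn : J ≤ n := by
      rw [Ideal.map_le_iff_le_comap]
      haveI := hn
      have hmax := Ideal.isMaximal_comap_of_isIntegral_of_isMaximal (R := A) n
      exact (HenselianRing.jac : I ≤ _).trans (sInf_le ⟨bot_le, hmax⟩)
    have hmem' : (⟨n, hn.isPrime⟩ : PrimeSpectrum C) ∈ Set.range j := (hmem ⟨n, hn.isPrime⟩ hJn).2 hen
    exact ((PrimeSpectrum.le_iff_specializes p ⟨n, hn.isPrime⟩).1 hpn).mem_open j.isOpenEmbedding.isOpen_range hmem'
  have hWc : IsClosed ((PrimeSpectrum.basicOpen e : TopologicalSpace.Opens _) : Set (PrimeSpectrum C)) :=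
    (PrimeSpectrum.isClopen_iff.2 ⟨e, he, rfl⟩).1
  let W : U.Opens := j ⁻¹ᵁ PrimeSpectrum.basicOpen e
  refine ⟨W, hWc.preimage j.continuous, ?_, fun x hx hI => hx ?_⟩
  · haveI : IsClosedImmersion (W.ι ≫ j) := by
      refine IsClosedImmersion.of_isPreimmersion _ ?_
      have : Set.range (W.ι ≫ j) = ((PrimeSpectrum.basicOpen e : TopologicalSpace.Opens _) : Set (PrimeSpectrum C)) := by
        rw [Scheme.Hom.comp_base, TopCat.coe_comp, Set.range_comp, Scheme.Opens.range_ι]
        exact Set.image_preimage_eq_of_subset fun p hp => hsub p hp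
      rw [this]
      exact hWc
    haveI : IsIntegralHom (W.ι ≫ g) := by rw [← hjh, ← Category.assoc]; infer_instance
    exact (IsFinite.iff_isIntegralHom_and_locallyOfFiniteType _).2 ⟨inferInstance, inferInstance⟩
  · refine (hmem (j x) ((hV _).2 ?_)).1 ⟨x, rfl⟩
    show I ≤ (h (j x) : PrimeSpectrum A).asIdeal
    rw [← Scheme.Hom.comp_apply, hjh]
    exact hI

end Groth.Agent.S0784
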