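import Groth.Statements.S0785
import Groth.Agent.LocH.DepthMisc

set_option autoImplicit false
universe u
open Desc

namespace Groth.Agent.S0785

/-- Let A → B be a local homomorphism of Noetherian local rings which is etale in the sense that B is
the localization at a prime of an etale A-algebra. Then A and B have the same depth. -/
theorem result (A B : Type u) [CommRing A] [CommRing B] [IsLocalRing A] [IsLocalRing B]
    [IsNoetherianRing A] [IsNoetherianRing B] [Algebra A B] [IsLocalHom (algebraMap A B)]
    (E : Type u) [CommRing E] [Algebra A E] [Algebra.Etale A E] (P : Ideal E) [P.IsPrime]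
    [Algebra E B] [IsScalarTower A E B] [IsLocalization.AtPrime B P] :
    LocCoh.depth A A = LocCoh.depth B B := by
  haveI : Module.Flat E B := IsLocalization.flat B P.primeCompl
  haveI : Module.Flat A B := Module.Flat.trans A E B
  haveI : Module.FaithfullyFlat A B := Module.FaithfullyFlat.of_flat_of_isLocalHom
  haveI : Algebra.EssFiniteType E B := Algebra.EssFiniteType.of_isLocalization B P.primeCompl
  haveI : Algebra.EssFiniteType A B := Algebra.EssFiniteType.comp A E B
  haveI : Algebra.FormallyEtale E B := Algebra.FormallyEtale.of_isLocalization P.primeCompl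
  haveI : Algebra.FormallyEtale A B := Algebra.FormallyEtale.comp A E B
  have hm : (IsLocalRing.maximalIdeal A).map (algebraMap A B) = IsLocalRing.maximalIdeal B :=
    Algebra.FormallyUnramified.map_maximalIdeal
  have hb : LocCoh.idealDepth ((IsLocalRing.maximalIdeal A).map (algebraMap A B)) (TensorProduct A B A) =
      LocCoh.idealDepth (IsLocalRing.maximalIdeal A) A :=
    le_antisymm (LocH.idealDepth_baseChange_le _ _) (LocH.idealDepth_le_baseChange _ _)
  rw [hm, LocH.idealDepth_congr (TensorProduct.AlgebraTensorModule.rid A B B) (IsLocalRing.maximalIdeal B)] at hb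
  exact hb.symm

end Groth.Agent.S0785
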