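import Groth.Statements.S0821
import Groth.Agent.FormAlg.AlgebraizeKill
import Groth.Agent.FormAlg.Existence
import Groth.Agent.LefEssSurj.DualKill
import Groth.Agent.DualCx.GorCriterion
import Groth.Agent.DualCx.Regular

set_option autoImplicit false
universe u
open CategoryTheory
attribute [local instance] HasDerivedCategory.standard
open Formal2

namespace Groth.Agent.S0821

open AlgebraicGeometry Opposite in
/-- In the form of its final sentence (A complete). Let (A, 𝔪) be a Noetherian local ring with a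
dualizing complex, f ∈ 𝔪 a nonzerodivisor with A f-adically complete, and U the punctured spectrum.
Let (F_n) be a coherent formal module on U for the ideal (f) (indices shifted by one) with each F_n
finite locally free over O_U/f^nO_U. Assume depth (A/fA)_𝔭 + dim A/𝔭 > 1 for every non-maximal prime
𝔭 containing f, and depth A_𝔭 + dim A/𝔭 > 3 for every prime 𝔭 not containing f such that some
non-maximal prime contains 𝔭 and f. Then (F_n) is isomorphic to the system (F/f^nF) of a coherent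
O_U-module F. -/
theorem result (A : Type u) [CommRing A]
    [IsNoetherianRing A] [IsLocalRing A] (hω : ∃ ω : Dual.D A, Dual.IsDualizing A ω) (f : A)
    (hf : f ∈ IsLocalRing.maximalIdeal A) (hnzd : f ∈ nonZeroDivisors A) [IsAdicComplete (Ideal.span {f}) A]
    (G : ℕᵒᵖ ⥤ (↑(FEt.puncturedSpec A) : Scheme.{u}).Modules) (hG : Formal.IsCohFormal (Ideal.span {f}) G)
    (hfree : ∀ n : ℕ, Formal2.IsFinLocFreeMod (Ideal.span {f}) (n + 1) (G.obj (op n)))
    (h₅ : ∀ (p : Ideal A) [p.IsPrime], f ∈ p → p ≠ IsLocalRing.maximalIdeal A →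
      (1 : WithBot ℕ∞) < ((LocCoh.depth (Localization.AtPrime p)
          (LocalizedModule p.primeCompl (A ⧸ Ideal.span {f})) : ℕ∞) : WithBot ℕ∞) + ringKrullDim (A ⧸ p))
    (h₆ : ∀ (p : Ideal A) [p.IsPrime], f ∉ p →
      (∃ r : Ideal A, r.IsPrime ∧ p ≤ r ∧ f ∈ r ∧ r ≠ IsLocalRing.maximalIdeal A) →
      (3 : WithBot ℕ∞) < ((LocCoh.depth (Localization.AtPrime p) (Localization.AtPrime p) : ℕ∞) : WithBot ℕ∞) +
        ringKrullDim (A ⧸ p)) :
    ∃ F : (↑(FEt.puncturedSpec A) : Scheme.{u}).Modules, Coh.IsCoh F ∧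
      Nonempty (Formal.completion (Ideal.span {f}) F ≅ G) := by
  classical
  obtain ⟨ω, hω⟩ := hω
  obtain ⟨d, hn⟩ := DualCx.exists_normalized_shift hω
  have hnz : Ideal.Quotient.mk (⊥ : Ideal A) f ∈ nonZeroDivisors (A ⧸ (⊥ : Ideal A)) := by
    refine mem_nonZeroDivisors_iff_right.2 fun x hx => ?_
    obtain ⟨x, rfl⟩ := Ideal.Quotient.mk_surjective x
    rw [← map_mul, Ideal.Quotient.eq_zero_iff_mem, Ideal.mem_bot] at hx
    rw [mem_nonZeroDivisors_iff_right.1 hnzd x hx, map_zero]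
  have hr : ∀ p : Ideal A, p.IsPrime → (p ⊔ Ideal.span {f}).radical ≠ IsLocalRing.maximalIdeal A →
      ∃ r : Ideal A, r.IsPrime ∧ p ≤ r ∧ f ∈ r ∧ r ≠ IsLocalRing.maximalIdeal A := fun p hp hrad => by
    by_contra hcon
    refine hrad (le_antisymm ((Ideal.radical_mono (sup_le (IsLocalRing.le_maximalIdeal hp.ne_top)
      ((Ideal.span_singleton_le_iff_mem _).2 hf))).trans_eq
        (IsLocalRing.maximalIdeal.isMaximal A).isPrime.radical) ?_)
    rw [Ideal.radical_eq_sInf]
    refine le_sInf fun r hr => ?_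
    by_contra hne
    exact hcon ⟨r, hr.2, le_sup_left.trans hr.1, hr.1 (Ideal.mem_sup_right (Ideal.mem_span_singleton_self f)),
      fun h => hne h.ge⟩
  obtain ⟨c, hc⟩ := LefEssSurj.DualKill.exists_killFin_base (DualCx.isDualizing_shift hω d) hn (f := f)
    (Or.inr fun p hp hfp hrad => @h₆ p hp hfp (hr p hp hrad)) ⊥ 0
    (fun x hx => by rw [(Ideal.mem_bot).1 hx, mul_zero]) hnz
  let e : ∀ k : ℕ, ((A ⧸ (⊥ : Ideal A)) ⧸ Ideal.span {Ideal.Quotient.mk (⊥ : Ideal A) f ^ k}) ≃ₗ[A]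
      A ⧸ Ideal.span {f ^ k} := fun k =>
    let g : A →ₗ[A] (A ⧸ (⊥ : Ideal A)) ⧸ Ideal.span {Ideal.Quotient.mk (⊥ : Ideal A) f ^ k} :=
      ((Submodule.mkQ (Ideal.span {Ideal.Quotient.mk (⊥ : Ideal A) f ^ k})).restrictScalars A) ∘ₗ
        (Ideal.Quotient.mkₐ A (⊥ : Ideal A)).toLinearMap
    have hg : Function.Surjective g := (Submodule.mkQ_surjective _).comp Ideal.Quotient.mk_surjective
    have hker : LinearMap.ker g = Ideal.span {f ^ k} := by
      ext x
      rw [LinearMap.mem_ker, show g x = Submodule.Quotient.mk (Ideal.Quotient.mk ⊥ x) from rfl,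
        Submodule.Quotient.mk_eq_zero, Ideal.mem_span_singleton, Ideal.mem_span_singleton, ← map_pow]
      exact ⟨fun ⟨y, hy⟩ => by
        obtain ⟨y, rfl⟩ := Ideal.Quotient.mk_surjective y
        rw [← map_mul, Ideal.Quotient.eq, Ideal.mem_bot, sub_eq_zero] at hy
        exact ⟨y, hy⟩, fun ⟨y, hy⟩ => ⟨Ideal.Quotient.mk ⊥ y, by rw [← map_mul, hy]⟩⟩
    ((Submodule.quotEquivOfEq _ _ hker.symm).trans (g.quotKerEquivOfSurjective hg)).symm
  have hk : ∀ i, 1 ≤ i → i ≤ 2 → ∀ k, FormAlg.KillFin (f ^ c)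
      (LocCoh.H (IsLocalRing.maximalIdeal A) i (A ⧸ Ideal.span {f ^ k})) := fun i h1 h2 k =>
    (hc i h1 h2 k).equiv ((localCohomology (IsLocalRing.maximalIdeal A) i).mapIso (e k).toModuleIso).toLinearEquiv
  exact FormAlg.algebraize_free_of_kill (IsLocalRing.maximalIdeal A) f hnzd (hk 1 le_rfl one_le_two)
    (hk 2 one_le_two le_rfl) (FormAlg.puncturedSpec_eq A) G hG hfree

end Groth.Agent.S0821
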