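import Groth.Statements.S14616
import Mathlib

set_option autoImplicit false
universe u
open Formal2

namespace Groth.Agent.S14616

open CategoryTheory in
/-- Let … → G_2 → G_1 → G_0 be an inverse system of abelian groups with transition maps t_n : G_{n+1} →
G_n which satisfies the Mittag-Leffler condition: for every i there is j ≥ i such that for all k ≥ j
the images of G_k → G_i and G_j → G_i coincide. Then lim¹ G_n = 0, i.e. the map (x_n) ↦ (x_n −
t_n(x_{n+1})) on ∏ G_n is surjective. -/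
theorem result (G : ℕ → Type u) [∀ n, AddCommGroup (G n)]
    (t : ∀ n, G (n + 1) →+ G n)
    (h : (Functor.ofOpSequence (X := fun n => AddCommGrpCat.of (G n))
      (fun n => AddCommGrpCat.ofHom (t n)) ⋙ forget AddCommGrpCat).IsMittagLeffler) :
    Function.Surjective (Formal2.towerDiff G t) := by
  intro y
  let F := Functor.ofOpSequence (X := fun n => AddCommGrpCat.of (G n)) (fun n => AddCommGrpCat.ofHom (t n))
  let τ : ∀ n m : ℕ, n ≤ m → (G m →+ G n) := fun n m hnm => (F.map (homOfLE hnm).op).hom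
  have τ_self : ∀ n (x : G n), τ n n le_rfl x = x := fun n x =>
    DFunLike.congr_fun (congrArg AddCommGrpCat.Hom.hom (F.map_id (Opposite.op n))) x
  have τ_comp : ∀ (n m k : ℕ) (h1 : n ≤ m) (h2 : m ≤ k) (x : G k), τ n m h1 (τ m k h2 x) = τ n k (h1.trans h2) x := fun n m k h1 h2 x =>
    (DFunLike.congr_fun (congrArg AddCommGrpCat.Hom.hom (F.map_comp (homOfLE h2).op (homOfLE h1).op)) x).symm
  have τ_succ : ∀ n (x : G (n + 1)), τ n (n + 1) (Nat.le_succ n) x = t n x := fun n x =>
    DFunLike.congr_fun (congrArg AddCommGrpCat.Hom.hom (Functor.ofOpSequence_map_homOfLE_succ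
      (X := fun n => AddCommGrpCat.of (G n)) (fun n => AddCommGrpCat.ofHom (t n)) n)) x
  have τ_t : ∀ n m (hm : n + 1 ≤ m) (x : G m), t n (τ (n + 1) m hm x) = τ n m ((Nat.le_succ n).trans hm) x :=
    fun n m hm x => (τ_succ n _).symm.trans (τ_comp _ _ _ _ _ _)
  let E : ∀ n, AddSubgroup (G n) := fun n => ⨅ (m : ℕ) (hm : n ≤ m), (τ n m hm).range
  have hE : ∀ n, ∃ N, ∃ hN : n ≤ N, ∀ m (hm : N ≤ m) (x : G m), τ n m (hN.trans hm) x ∈ E n := by
    intro n
    obtain ⟨⟨N⟩, f, hf⟩ := h (Opposite.op n)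
    have hN : n ≤ N := leOfHom f.unop
    refine ⟨N, hN, fun m hm x => ?_⟩
    simp only [E, AddSubgroup.mem_iInf]
    intro m' hm'
    obtain ⟨z, hz⟩ := hf (k := Opposite.op m') (homOfLE hm').op ⟨τ N m hm x, rfl⟩
    exact ⟨z, (show τ n m' hm' z = τ n N hN (τ N m hm x) from hz).trans (τ_comp _ _ _ _ _ _)⟩
  choose N₀ hN₀ hN₀' using hE
  let N : ℕ → ℕ := fun n => (Finset.range (n + 1)).sup N₀ + n + 1
  have hN0 : ∀ n, N₀ n ≤ N n := fun n => by
    have := Finset.le_sup (f := N₀) (b := n) (Finset.mem_range.2 (Nat.lt_succ_self n) : n ∈ Finset.range (n + 1))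
    simp only [N]; omega
  have hNn : ∀ n, n + 1 ≤ N n := fun n => by simp only [N]; omega
  have hNs : ∀ n, N n ≤ N (n + 1) := fun n => by
    have : (Finset.range (n + 1)).sup N₀ ≤ (Finset.range (n + 1 + 1)).sup N₀ :=
      Finset.sup_mono (Finset.range_mono (Nat.le_succ _))
    simp only [N]; omega
  let term : ∀ n : ℕ, ℕ → G n := fun n m => if h : n ≤ m then τ n m h (y m) else 0
  let x' : ∀ n, G n := fun n => ∑ m ∈ Finset.Ico n (N n), term n m
  let z : ∀ n, G n := fun n => ∑ m ∈ Finset.Ico (N n) (N (n + 1)), term n m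
  have hz : ∀ n, z n ∈ E n := fun n => AddSubgroup.sum_mem _ fun m hm => by
    rw [Finset.mem_Ico] at hm
    have h1 : n ≤ m := by have := hNn n; omega
    simp only [term, dif_pos h1]
    exact hN₀' n m ((hN0 n).trans hm.1) (y m)
  have hx' : ∀ n, x' n - t n (x' (n + 1)) = y n - z n := by
    intro n
    have h1 : t n (x' (n + 1)) = ∑ m ∈ Finset.Ico (n + 1) (N (n + 1)), term n m := by
      simp only [x', map_sum]
      refine Finset.sum_congr rfl fun m hm => ?_
      rw [Finset.mem_Ico] at hm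
      simp only [term, dif_pos hm.1, dif_pos ((Nat.le_succ n).trans hm.1)]
      exact τ_t n m hm.1 (y m)
    rw [h1, ← Finset.sum_Ico_consecutive _ (hNn n) (hNs n)]
    simp only [x', z]
    rw [Finset.sum_eq_sum_Ico_succ_bot (Nat.lt_of_succ_le (hNn n))]
    simp only [term, dif_pos le_rfl, τ_self]
    abel
  have hsurj : ∀ n (a : G n), a ∈ E n → ∃ b ∈ E (n + 1), t n b = a := by
    intro n a ha
    simp only [E, AddSubgroup.mem_iInf] at ha
    obtain ⟨c, hc⟩ := ha (N (n + 1)) (by have := hNn (n + 1); omega)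
    refine ⟨τ (n + 1) (N (n + 1)) (by have := hNn (n + 1); omega) c, hN₀' _ _ (hN0 _) _, ?_⟩
    rw [τ_t]; exact hc
  choose b hb hb' using hsurj
  let w : ∀ n, {a : G n // a ∈ E n} := fun n => Nat.rec ⟨0, AddSubgroup.zero_mem _⟩
    (fun n a => ⟨b n (a.1 - z n) ((E n).sub_mem a.2 (hz n)), hb _ _ _⟩) n
  have hw : ∀ n, t n (w (n + 1)).1 = (w n).1 - z n := fun n => hb' _ _ _
  refine ⟨fun n => x' n + (w n).1, funext fun n => ?_⟩
  have := hx' n
  show x' n + (w n).1 - t n (x' (n + 1) + (w (n + 1)).1) = y n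
  rw [map_add, hw]
  rw [show x' n + (w n).1 - (t n (x' (n + 1)) + ((w n).1 - z n)) = (x' n - t n (x' (n + 1))) + z n by abel, this]
  abel

end Groth.Agent.S14616
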