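import Groth.Statements.S0823
import Groth.Agent.FFFinite.Main
import Groth.Agent.S14616

set_option autoImplicit false
universe u
open Formal2
set_option backward.isDefEq.respectTransparency false
set_option backward.isDefEq.respectTransparency.types false

namespace Groth.Agent.S0823

open CategoryTheory AlgebraicGeometry in
/-- The short exact sequences in positive degrees (the degree-0 statement H^0(X, F)^ ≅ lim H^0(X,
F/I^nF) and the vanishing of the R^1 lim term for proper X are not restated). Let A be a Noetherian
ring, I an ideal, X a Noetherian scheme over Spec A and F a coherent O_X-module such that every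
H^p(X, F) is a finite A-module. Then for every p there is a short exact sequence 0 → R^1 lim_n
H^p(X, F/I^nF) → H^(p+1)(X, F)^ → lim_n H^(p+1)(X, F/I^nF) → 0 of abelian groups, where ^ is I-adic
completion; the second map is the one induced by the maps H^(p+1)(X, F) → H^(p+1)(X, F/I^(n+1)F),
and the first map is only asserted to exist. -/
theorem result (A : Type u) [CommRing A] [IsNoetherianRing A] (I : Ideal A)
    (X : Scheme.{u}) [X.Over (Spec (CommRingCat.of A))] [IsNoetherian X] (F : X.Modules) (hF : Coh.IsCoh F)
    (hfin : ∀ p : ℕ, Module.Finite A (Coh.HH X F p)) (p : ℕ) :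
    ∃ (α : Formal2.limOne (fun n => Formal.HHmodPow I F p n) (fun n => Formal.HHmodPowTrans I F p n) →+
        AdicCompletion I (Coh.HH X F (p + 1)))
      (β : AdicCompletion I (Coh.HH X F (p + 1)) →+ Formal.HHlim I F (p + 1)),
      Function.Injective α ∧ Function.Surjective β ∧ α.range = β.ker ∧
      ∀ (x : AdicCompletion I (Coh.HH X F (p + 1))) (n : ℕ) (h : Coh.HH X F (p + 1)),
        AdicCompletion.eval I (Coh.HH X F (p + 1)) (n + 1) x = Submodule.Quotient.mk h →
          (β x : ∀ n, Formal.HHmodPow I F (p + 1) n) n = Formal.toHHmodPow I F (p + 1) n h := by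
  classical
  obtain ⟨Φ, hΦ, hΦ'⟩ := Groth.Agent.FFFinite.formal_functions hF hfin I (p + 1)
  have hsub : Subsingleton (Formal2.limOne (fun n => Formal.HHmodPow I F p n)
      (fun n => Formal.HHmodPowTrans I F p n)) := by
    rw [QuotientAddGroup.subsingleton_iff, AddMonoidHom.range_eq_top]
    refine Groth.Agent.S14616.result _ _ ?_
    set G := Functor.ofOpSequence (X := fun n => AddCommGrpCat.of (Formal.HHmodPow I F p n))
      (fun n => AddCommGrpCat.ofHom (Formal.HHmodPowTrans I F p n)) with hG
    have hmap : ∀ (a b : ℕ) (hab : a ≤ b) (x : Formal.HHmodPow I F p b),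
        (G.map (homOfLE hab).op).hom x =
          Groth.Agent.W7Rees.hm ((Formal.completion I F).map (homOfLE hab).op) p x := by
      intro a b hab
      induction b, hab using Nat.le_induction with
      | base =>
        intro x
        rw [show (homOfLE (le_refl a)).op = 𝟙 (Opposite.op a) from rfl, G.map_id, (Formal.completion I F).map_id]
        exact (Groth.Agent.FFFinite.hm_id p x).symm
      | succ k hk ih =>
        intro x
        rw [show (homOfLE (hk.trans (Nat.le_succ k))).op = (homOfLE (Nat.le_succ k)).op ≫ (homOfLE hk).op from rfl,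
          G.map_comp, (Formal.completion I F).map_comp, Groth.Agent.W7Rees.hm_comp]
        refine (ih _).trans (congrArg _ ?_)
        have h1 : G.map (homOfLE (Nat.le_succ k)).op = AddCommGrpCat.ofHom (Formal.HHmodPowTrans I F p k) :=
          Functor.ofOpSequence_map_homOfLE_succ _ k
        have h2 : (Formal.completion I F).map (homOfLE (Nat.le_succ k)).op = Formal.modPowTrans I (k + 1) F :=
          Functor.ofOpSequence_map_homOfLE_succ _ k
        rw [h1, h2]
        rfl
    intro j
    obtain ⟨j⟩ := j
    obtain ⟨n, hn, hn'⟩ := Groth.Agent.FFFinite.exists_range_subset hF hfin I p (j + 1)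
    obtain ⟨n, rfl⟩ : ∃ n', n = n' + 1 := ⟨n - 1, by omega⟩
    have hjn : j ≤ n := by omega
    refine ⟨Opposite.op n, (homOfLE hjn).op, fun {k} g => ?_⟩
    obtain ⟨k⟩ := k
    obtain ⟨g⟩ := g
    have hjk : j ≤ k := leOfHom g
    rintro _ ⟨x, rfl⟩
    obtain ⟨z, hz⟩ := hn' _ (Groth.Agent.W7Rees.π_completion_map I j n hjn) ⟨x, rfl⟩
    refine ⟨Formal.toHHmodPow I F p k z, ?_⟩
    change (G.map (Quiver.Hom.op g)).hom _ = (G.map (homOfLE hjn).op).hom x
    rw [show g = homOfLE hjk from Subsingleton.elim _ _, hmap j k hjk, hmap j n hjn]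
    refine Eq.trans ?_ hz
    exact (Groth.Agent.W7Rees.hm_comp _ _ p z).symm.trans
      (congrArg (fun ψ => Groth.Agent.W7Rees.hm ψ p z) (Groth.Agent.W7Rees.π_completion_map I j k hjk))
  refine ⟨0, Φ, Function.injective_of_subsingleton _, hΦ.2, ?_, hΦ'⟩
  rw [AddMonoidHom.range_zero, eq_comm, AddMonoidHom.ker_eq_bot_iff]
  exact hΦ.1

end Groth.Agent.S0823
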