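import Groth.Statements.S0827
import Groth.Agent.LimMilnor.Formal

set_option autoImplicit false
set_option linter.style.haveILetI false
set_option backward.isDefEq.respectTransparency false
set_option maxHeartbeats 1000000
universe u
open Formal2

namespace Groth.Agent.S0827

open CategoryTheory CategoryTheory.Limits AlgebraicGeometry Opposite in
/-- Part (3), for the ideal sheaf generated by an ideal I of a base ring A. Let X be a scheme over Spec
A and (G_n) an inverse system of quasi-coherent O_X-modules with G_n killed by I^(n+1) and G_n =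
G_{n+1}/I^(n+1)G_{n+1}. Then for every p there is a short exact sequence 0 → R^1 lim_n H^p(X, G_n) →
H^(p+1)(X, lim G_n) → lim_n H^(p+1)(X, G_n) → 0 of abelian groups, the second map being induced by
the projections lim G_n → G_n (the degree-0 statement is not restated). -/
theorem result (A : Type u) [CommRing A] (I : Ideal A) (X : Scheme.{u})
    [X.Over (Spec (CommRingCat.of A))] (G : ℕᵒᵖ ⥤ X.Modules) (hG : Formal2.IsQCohFormal I G) (p : ℕ) :
    ∃ (α : Formal2.limOne (fun n => Coh.HH X (G.obj (op n)) p) (Formal2.HHsysMap G p) →+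
        Coh.HH X (limit G) (p + 1))
      (β : Coh.HH X (limit G) (p + 1) →+
        Formal2.limZero (fun n => Coh.HH X (G.obj (op n)) (p + 1)) (Formal2.HHsysMap G (p + 1))),
      Function.Injective α ∧ Function.Surjective β ∧ α.range = β.ker ∧
      ∀ (x : Coh.HH X (limit G) (p + 1)) (n : ℕ),
        (β x : ∀ n, Coh.HH X (G.obj (op n)) (p + 1)) n =
          Sheaf.H.map ((SheafOfModules.toSheaf _).map (limit.π G (op n))) (p + 1) x := by
  obtain ⟨hsurj, ⟨eK⟩⟩ := LimMilnor.formal_milnor hG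
    ((constantSheaf (Opens.grothendieckTopology X) AddCommGrpCat.{u}).obj (AddCommGrpCat.of (ULift ℤ))) (p + 1) p rfl
  have hcomp : ∀ {B C D : Sheaf (Opens.grothendieckTopology X) AddCommGrpCat.{u}} (f : B ⟶ C) (g : C ⟶ D) (n : ℕ)
      (x : Sheaf.H B n), Sheaf.H.map g n (Sheaf.H.map f n x) = Sheaf.H.map (f ≫ g) n x := fun f g n x => by
    show (x.comp (Abelian.Ext.mk₀ f) (add_zero n)).comp (Abelian.Ext.mk₀ g) (add_zero n) = x.comp (Abelian.Ext.mk₀ (f ≫ g)) (add_zero n)
    rw [Abelian.Ext.comp_assoc_of_second_deg_zero, Abelian.Ext.mk₀_comp_mk₀]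
  have hid : ∀ {B : Sheaf (Opens.grothendieckTopology X) AddCommGrpCat.{u}} (n : ℕ) (x : Sheaf.H B n),
      Sheaf.H.map (𝟙 B) n x = x := fun n x => Abelian.Ext.comp_mk₀_id x
  let F := G ⋙ SheafOfModules.toSheaf X.ringCatSheaf
  haveI := LimMilnor.preservesLimit_toSheaf X
  let e : Coh.toAb (limit G) ≅ limit F := preservesLimitIso (SheafOfModules.toSheaf X.ringCatSheaf) G
  have heπ : ∀ n, (SheafOfModules.toSheaf X.ringCatSheaf).map (limit.π G (op n)) = e.hom ≫ limit.π F (op n) :=
    fun n => (preservesLimitIso_hom_π (SheafOfModules.toSheaf X.ringCatSheaf) G (op n)).symm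
  let pr : ∀ n, Coh.HH X (limit G) (p + 1) →+ Coh.HH X (G.obj (op n)) (p + 1) :=
    fun n => Sheaf.H.map ((SheafOfModules.toSheaf _).map (limit.π G (op n))) (p + 1)
  have hpr : ∀ x, (AddMonoidHom.pi pr) x ∈ Formal2.limZero (fun n => Coh.HH X (G.obj (op n)) (p + 1))
      (Formal2.HHsysMap G (p + 1)) := fun x => by
    rw [AddMonoidHom.mem_ker]
    funext n
    show pr n x - Formal2.HHsysMap G (p + 1) n (pr (n + 1) x) = 0
    rw [sub_eq_zero]
    show Sheaf.H.map _ (p + 1) x = Sheaf.H.map _ (p + 1) (Sheaf.H.map _ (p + 1) x)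
    rw [hcomp, ← Functor.map_comp, limit.w]
  let β := (AddMonoidHom.pi pr).codRestrict _ hpr
  let π' := AddMonoidHom.pi fun n =>
    (Abelian.Ext.mk₀ (limit.π F (op n))).postcomp
      ((constantSheaf (Opens.grothendieckTopology X) AddCommGrpCat.{u}).obj (AddCommGrpCat.of (ULift ℤ))) (add_zero (p + 1))
  let ψ : Coh.HH X (limit G) (p + 1) →+ Sheaf.H (limit F) (p + 1) := Sheaf.H.map e.hom (p + 1)
  let φ : Sheaf.H (limit F) (p + 1) →+ Coh.HH X (limit G) (p + 1) := Sheaf.H.map e.inv (p + 1)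
  have hψφ : ∀ y, ψ (φ y) = y := fun y => by
    show Sheaf.H.map e.hom (p + 1) (Sheaf.H.map e.inv (p + 1) y) = y
    rw [hcomp, e.inv_hom_id, hid]
  have hφψ : ∀ x, φ (ψ x) = x := fun x => by
    show Sheaf.H.map e.inv (p + 1) (Sheaf.H.map e.hom (p + 1) x) = x
    rw [hcomp, e.hom_inv_id, hid]
  have hprψ : ∀ x, π' (ψ x) = AddMonoidHom.pi pr x := fun x => by
    funext n
    show Sheaf.H.map (limit.π F (op n)) (p + 1) (Sheaf.H.map e.hom (p + 1) x) =
      Sheaf.H.map ((SheafOfModules.toSheaf _).map (limit.π G (op n))) (p + 1) x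
    rw [hcomp, ← heπ]
    rfl
  refine ⟨φ.comp (π'.ker.subtype.comp eK.symm.toAddMonoidHom), β, ?_, ?_, ?_, fun x n => rfl⟩
  · exact (Function.LeftInverse.injective hψφ).comp (Subtype.val_injective.comp eK.symm.injective)
  · rintro ⟨ξ, hξ⟩
    rw [AddMonoidHom.mem_ker] at hξ
    obtain ⟨η, hη⟩ := hsurj ξ fun n => (sub_eq_zero.1 (congrFun hξ n)).symm
    refine ⟨φ η, Subtype.ext ?_⟩
    show AddMonoidHom.pi pr (φ η) = ξ
    rw [← hprψ, hψφ]
    funext n
    exact hη n
  · ext x
    constructor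
    · rintro ⟨y, rfl⟩
      rw [AddMonoidHom.mem_ker]
      refine Subtype.ext ?_
      show AddMonoidHom.pi pr (φ ((eK.symm y : π'.ker) : Sheaf.H (limit F) (p + 1))) = 0
      rw [← hprψ, hψφ]
      exact (eK.symm y).2
    · intro hx
      have hx' : π' (ψ x) = 0 := by rw [hprψ]; exact congrArg Subtype.val hx
      refine ⟨eK ⟨ψ x, hx'⟩, ?_⟩
      show φ ((eK.symm (eK ⟨ψ x, hx'⟩) : π'.ker) : Sheaf.H (limit F) (p + 1)) = x
      rw [AddEquiv.symm_apply_apply]
      exact hφψ x

end Groth.Agent.S0827
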