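import Groth.Statements.S0828
import Groth.Agent.AmpleEmb.Criterion
import Groth.Agent.S4889
import Groth.Agent.RegDual.Scheme
import Groth.Agent.LocFree.SemiLocal

set_option autoImplicit false
set_option linter.style.haveILetI false
universe u
open Coherent

namespace Groth.Agent.S0828

open CategoryTheory AlgebraicGeometry in
theorem supportDim_eq {X : Scheme.{u}} {F : X.Modules} (hF : Coh.IsQCoh F) (h : CohB1.support F = Set.univ) (x : X) :
    Module.supportDim (X.presheaf.stalk x) (F.presheaf.stalk x) = ringKrullDim (X.presheaf.stalk x) := by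
  have hs : Module.support (X.presheaf.stalk x) (F.presheaf.stalk x) = Set.univ :=
    Set.eq_univ_of_forall fun P => (S4889.support_stalk hF x P).2 (h ▸ Set.mem_univ _)
  rw [Module.supportDim, hs]
  exact Order.krullDim_eq_of_orderIso OrderIso.Set.univ

open CategoryTheory AlgebraicGeometry in
/-- Let X be a regular scheme (locally Noetherian with regular local rings) and F a coherent O_X-module.
Then F has support all of X and Cohen–Macaulay stalks if and only if F is finite locally free of
positive rank near every point. -/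
theorem result (X : Scheme.{u}) [IsLocallyNoetherian X]
    (hreg : ∀ x : X, IsRegularLocalRing (X.presheaf.stalk x)) (F : X.Modules) (hF : Coh.IsCoh F) :
    (CohB1.support F = Set.univ ∧
        ∀ x : X, LocCoh.IsCohenMacaulayModule (X.presheaf.stalk x) ↑(F.presheaf.stalk x)) ↔
      ∀ x : X, ∃ (U : X.Opens) (n : ℕ), x ∈ U ∧ 0 < n ∧
        Nonempty (F.restrict U.ι ≅ FlatMod.freeMod (↑U) n) := by
  constructor
  · rintro ⟨hs, hcm⟩ x
    have hfree : ∀ y : X, Module.Free (X.presheaf.stalk y) (F.presheaf.stalk y) := fun y => by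
      haveI := hreg y
      haveI := RegDual.finite_stalk hF y
      obtain ⟨d, hd⟩ := (⟨_, (IsRegularLocalRing.spanFinrank_maximalIdeal (R := X.presheaf.stalk y)).symm⟩ :
        ∃ d : ℕ, ringKrullDim (X.presheaf.stalk y) = d)
      refine AmpleEmb.free_of_depth_ge d hd _ ?_
      have h1 := hcm y
      rw [LocCoh.IsCohenMacaulayModule, supportDim_eq hF.1 hs y, hd] at h1
      exact (WithBot.coe_inj.1 h1).le
    obtain ⟨U, n, hx, ⟨e⟩⟩ := RegDual.isFinLocFree_of_free_stalk hF hfree x
    refine ⟨U, n, hx, ?_, ⟨e⟩⟩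
    obtain ⟨b⟩ := LocFree.exists_basis_stalk e hF.1 hx
    by_contra hn
    obtain rfl : n = 0 := by omega
    have hmem : x ∈ CohB1.support F := hs ▸ Set.mem_univ x
    exact hmem (b.repr.toEquiv.subsingleton)
  · intro h
    have hs : CohB1.support F = Set.univ := Set.eq_univ_of_forall fun x => by
      obtain ⟨U, n, hx, hn, ⟨e⟩⟩ := h x
      obtain ⟨b⟩ := LocFree.exists_basis_stalk e hF.1 hx
      haveI : Nonempty (ULift.{u} (Fin n)) := ⟨⟨⟨0, hn⟩⟩⟩
      intro hsub
      haveI := hsub
      exact not_subsingleton (ULift.{u} (Fin n) →₀ X.presheaf.stalk x) b.repr.toEquiv.symm.subsingleton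
    refine ⟨hs, fun x => ?_⟩
    haveI := hreg x
    haveI := RegDual.finite_stalk hF x
    obtain ⟨d, hd⟩ := (⟨_, (IsRegularLocalRing.spanFinrank_maximalIdeal (R := X.presheaf.stalk x)).symm⟩ :
        ∃ d : ℕ, ringKrullDim (X.presheaf.stalk x) = d)
    haveI := CMFlat.isCohenMacaulayLocalRing_of_isRegularLocalRing (X.presheaf.stalk x)
    have hd' : LocCoh.depth (X.presheaf.stalk x) (X.presheaf.stalk x) = (d : ℕ∞) := by
      have h1 := LocCoh.IsCohenMacaulayLocalRing.supportDim_eq_depth (R := X.presheaf.stalk x)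
      rw [Module.supportDim_self_eq_ringKrullDim, hd] at h1
      exact (WithBot.coe_inj.1 h1).symm
    obtain ⟨U, n, hx, hn, ⟨e⟩⟩ := h x
    obtain ⟨b⟩ := LocFree.exists_basis_stalk e hF.1 hx
    haveI : Nontrivial (F.presheaf.stalk x) := not_subsingleton_iff_nontrivial.1 (show x ∈ CohB1.support F from hs ▸ Set.mem_univ x)
    haveI : Module.Free (X.presheaf.stalk x) (F.presheaf.stalk x) := Module.Free.of_basis b
    obtain ⟨t, ht, hdt⟩ := AusBuc.depth_add_pd hd' 0 (F.presheaf.stalk x)
      ((SerreReg.pdLE_zero_iff _).2 inferInstance) (fun e he => absurd he (Nat.not_lt_zero e))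
    rw [LocCoh.IsCohenMacaulayModule, supportDim_eq hF.1 hs x, hd, hdt, show t = d by omega]
    rfl

end Groth.Agent.S0828
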