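import Groth.Statements.S0831
import Groth.Agent.W7Exist.Induct

set_option autoImplicit false
universe u
open Formal2

namespace Groth.Agent.S0831

open CategoryTheory CategoryTheory.Limits AlgebraicGeometry Opposite in
/-- For the ideal sheaf J·O_Y of an ideal J of a base ring A (position n of a system holds the quotient
by J^(n+1)). Let Y be a Noetherian scheme over Spec A, K a quasi-coherent ideal sheaf on Y, and f :
X → Y a proper morphism over Spec A which restricts to an isomorphism over the complement of the
support of K. Let (G_n) be a coherent formal module for J on Y, F a coherent O_X-module, and suppose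
the pulled-back system (f^* G_n) is isomorphic to (F/J^nF). Then there is a map of systems (G_n) →
(f_*F/J^n f_*F) whose componentwise kernels and cokernels are annihilated by a fixed power of K. -/
theorem result (A : Type u) [CommRing A] (J : Ideal A) (X Y : Scheme.{u})
    [X.Over (Spec (CommRingCat.of A))] [Y.Over (Spec (CommRingCat.of A))] [IsNoetherian Y]
    (f : X ⟶ Y) [IsProper f] (hf : f ≫ (Y ↘ Spec (CommRingCat.of A)) = X ↘ Spec (CommRingCat.of A))
    (K : Y.IdealSheafData) (hV : IsIso (f ∣_ K.support.compl))
    (G : ℕᵒᵖ ⥤ Y.Modules) (hG : Formal.IsCohFormal J G) (F : X.Modules) (hF : Coh.IsCoh F)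
    (β : (G ⋙ Scheme.Modules.pullback f) ≅ Formal.completion J F) :
    ∃ α : G ⟶ Formal.completion J ((Scheme.Modules.pushforward f).obj F),
      Formal2.KerCokerKilledByPow K α := by
  haveI := hV
  refine Groth.Agent.W7Exist.exists_alpha J f hf hF (Groth.Agent.W7Exist.isCoh_push_proper f hF) hG β.symm K.support.compl K ?_
  intro V a ha x hx
  by_contra hxU
  have hxK : x ∈ K.support := not_not.1 hxU
  rw [Scheme.IdealSheafData.mem_support_iff_of_mem (U := V) (Y.basicOpen_le a hx), Scheme.mem_zeroLocus_iff] at hxK
  exact hxK a ha hx

end Groth.Agent.S0831
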