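import Groth.Statements.S0834
import Groth.Agent.FormKer.Kernel

set_option autoImplicit false
universe u
open Formal2

namespace Groth.Agent.S0834

open CategoryTheory CategoryTheory.Limits AlgebraicGeometry in
/-- Let A be a ring, I ⊆ A an ideal and X a Noetherian scheme over Spec A. Then the full subcategory of
inverse systems of 𝒪_X-modules formed by the coherent formal modules for the ideal sheaf I·𝒪_X has
kernels. (This is the kernel half of the statement that this category is abelian; cokernels are
componentwise, and abelianness itself is not asserted here.) -/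
theorem result (A : Type u) [CommRing A] (I : Ideal A) (X : Scheme.{u})
    [X.Over (Spec (CommRingCat.of A))] [IsNoetherian X] : HasKernels (Formal2.CohFormalCat I X) := by
  refine ⟨fun {P Q} α => ?_⟩
  obtain ⟨κ, _, V, hV, hcov⟩ : ∃ (κ : Type u) (_ : Finite κ) (V : κ → X.Opens),
      (∀ i, IsAffineOpen (V i)) ∧ ∀ x : X, ∃ i, x ∈ V i := by
    let C := X.affineCover.finiteSubcover
    exact ⟨C.I₀, inferInstance, fun i => (C.f i).opensRange,
      fun i => isAffineOpen_opensRange _, fun x => ⟨_, C.covers x⟩⟩
  have hP := P.property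
  have hQ := Q.property
  choose cs hcs using fun k => Groth.Agent.FormKer.exists_local hP hQ α.hom (hV k)
  obtain ⟨c, hc⟩ := Finite.exists_le cs
  obtain ⟨K, hK, ι, hι, huniv⟩ := Groth.Agent.FormKer.exists_kernel α.hom c hP hQ V hV hcov fun k => hcs k c (hc k)
  choose l hl hu using fun (T : Formal2.CohFormalCat I X) (g : T ⟶ P) (hg : g ≫ α = 0) =>
    huniv T.obj T.property g.hom (congrArg InducedCategory.Hom.hom hg)
  exact HasLimit.mk ⟨KernelFork.ofι (Z := ⟨K, hK⟩) (ObjectProperty.homMk ι) (ObjectProperty.hom_ext _ hι),
    KernelFork.IsLimit.ofι _ _ (fun {T} g hg => ObjectProperty.homMk (l T g hg))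
      (fun {T} g hg => ObjectProperty.hom_ext _ (hl T g hg))
      fun {T} g hg m hm => ObjectProperty.hom_ext _ (hu T g hg m.hom (congrArg InducedCategory.Hom.hom hm))⟩

end Groth.Agent.S0834
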