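import Groth.Statements.S0837
import Groth.Agent.W7Rees.Powers

set_option autoImplicit false
universe u
open Coherent

open Groth.Agent
open CategoryTheory CategoryTheory.Limits
set_option backward.isDefEq.respectTransparency false
set_option backward.isDefEq.respectTransparency.types false

namespace Groth.Agent.S0837

open CategoryTheory CategoryTheory.Limits AlgebraicGeometry in
/-- Let A be a Noetherian ring, I an ideal, X proper over Spec A and F a coherent O_X-module. For every
p there is c ≥ 0 such that for all n ≥ c the kernel of H^p(X, I^nF) → H^p(X, F) equals the kernel of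
H^p(X, I^nF) → H^p(X, I^(n−c)F). (Here I^nF ⊆ F is the kernel of F → F/I^nF.) -/
theorem result (A : Type u) [CommRing A] [IsNoetherianRing A]
    (I : Ideal A) (X : Scheme.{u}) [X.Over (Spec (CommRingCat.of A))] [IsProper (X ↘ Spec (CommRingCat.of A))]
    (F : X.Modules) (hF : Coh.IsCoh F) (p : ℕ) :
    ∃ c : ℕ, ∀ (n : ℕ) (h : c ≤ n),
      (Sheaf.H.map ((SheafOfModules.toSheaf _).map (Formal2.idealPowModι I n F)) p).ker =
        (Sheaf.H.map ((SheafOfModules.toSheaf _).map (Formal2.idealPowIncl I (Nat.sub_le n c) F)) p).ker := by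
  obtain ⟨c, hc⟩ := W7Rees.exists_ker_eq I hF p
  refine ⟨c, fun n h => ?_⟩
  have hι : Formal2.idealPowIncl I (Nat.sub_le n c) F ≫ Formal2.idealPowModι I (n - c) F = Formal2.idealPowModι I n F :=
    kernel.lift_ι _ _ _
  ext x
  refine ⟨fun hx => hc n h _ _ _ _ (W7Rees.isJSub_kernel hF.1 _) (W7Rees.isJSub_kernel hF.1 _) _ hι x hx, fun hx => ?_⟩
  rw [AddMonoidHom.mem_ker] at hx ⊢
  change W7Rees.hm (Formal2.idealPowModι I n F) p x = 0
  rw [← hι, W7Rees.hm_comp]
  change W7Rees.hm (Formal2.idealPowModι I (n - c) F) p (Sheaf.H.map _ p x) = 0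
  rw [hx, map_zero]

end Groth.Agent.S0837
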