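import Groth.Statements.S0841
import Groth.Agent.FormPunct.System

set_option autoImplicit false
universe u
open Formal2

namespace Groth.Agent.S0841

open CategoryTheory AlgebraicGeometry Opposite in
/-- Let A be a Noetherian ring, I ⊆ 𝔞 ideals of A and U = Spec A ∖ V(𝔞). For every coherent formal
module (F_n) for I on U there are finite A-modules M_n with I^(n+1) M_n = 0 and A-linear maps
M_{n+1} → M_n for which each induced map M_{n+1}/I^(n+1)M_{n+1} → M_n has 𝔞-power-torsion kernel and
cokernel (every element is killed by some power of 𝔞), together with an isomorphism between (F_n)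
and the inverse system of restrictions to U of the quasi-coherent modules M̃_n on Spec A. Indexing:
position n here corresponds to index n + 1 of the published statement, so that M_n is killed by
I^(n+1). Only this direction (every coherent formal module arises in this manner) is stated; the
converse, that every such system of modules yields a coherent formal module, is not stated here. -/
theorem result (A : Type u) [CommRing A] [IsNoetherianRing A]
    (I 𝔞 : Ideal A) (hI : I ≤ 𝔞) (F : ℕᵒᵖ ⥤ (↑(LocCoh.puncturedOpen A 𝔞) : Scheme.{u}).Modules)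
    (hF : Formal.IsCohFormal I F) :
    ∃ (M : ℕ → Type u) (_ : ∀ n, AddCommGroup (M n)) (_ : ∀ n, Module A (M n)) (g : ∀ n, M (n + 1) →ₗ[A] M n),
      (∀ n, Module.Finite A (M n)) ∧ (∀ n, I ^ (n + 1) • (⊤ : Submodule A (M n)) = ⊥) ∧
      (∀ n (x : M (n + 1)), g n x = 0 → ∃ m : ℕ, ∀ a ∈ 𝔞 ^ m, a • x ∈ I ^ (n + 1) • (⊤ : Submodule A (M (n + 1)))) ∧
      (∀ n (y : M n), ∃ m : ℕ, ∀ a ∈ 𝔞 ^ m, a • y ∈ LinearMap.range (g n)) ∧
      Nonempty (F ≅ Functor.ofOpSequence
        (X := fun n => (Scheme.Modules.restrictFunctor (LocCoh.puncturedOpen A 𝔞).ι).obj (Formal2.tmod A (M n)))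
        (fun n => (Scheme.Modules.restrictFunctor (LocCoh.puncturedOpen A 𝔞).ι).map (Formal2.tmodMap A (g n)))) := by
  obtain ⟨M, g, c, j, hfin, hinj, hcomm⟩ :=
    Groth.Agent.FormPunct.exists_presentation (U := LocCoh.puncturedOpen A 𝔞) (fun n => hF.1 n)
  have hkill : ∀ n, I ^ (n + 1) • (⊤ : Submodule A (M n)) = ⊥ := fun n => by
    rw [eq_bot_iff, Submodule.smul_le]
    exact fun a ha x _ => Groth.Agent.FormPunct.smul_eq_zero_of_killedBy (hF.2.1 n) (j n) (hinj n) a ha x
  let gb : ∀ n, ModuleCat.of A (M (n + 1) ⧸ (I ^ (n + 1) • ⊤ : Submodule A (M (n + 1)))) ⟶ M n := fun n =>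
    ModuleCat.ofHom ((I ^ (n + 1) • ⊤ : Submodule A (M (n + 1))).liftQ (g n).hom (by
      rw [LinearMap.le_ker_iff_map, Submodule.map_smul'', ← le_bot_iff, ← hkill n]
      exact Submodule.smul_mono le_rfl le_top))
  have hiso := fun n => Groth.Agent.FormPunct.isIso_RR_bar hF n (c (n + 1)) (c n) (g n) (hcomm n) (gb n)
    (ModuleCat.hom_ext (Submodule.liftQ_mkQ _ _ _))
  have ht := fun n => Groth.Agent.FormPunct.torsion_of_isIso 𝔞 (gb n) (hiso n)
  refine ⟨fun n => (M n : Type u), fun n => inferInstance, fun n => inferInstance, fun n => (g n).hom,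
    hfin, hkill, fun n x hx => ?_, fun n y => ?_, ⟨?_⟩⟩
  · obtain ⟨m, hm⟩ := (ht n).1 ((I ^ (n + 1) • ⊤ : Submodule A (M (n + 1))).mkQ x) hx
    exact ⟨m, fun a ha => (Submodule.Quotient.mk_eq_zero _).1 ((map_smul _ a x).trans (hm a ha))⟩
  · obtain ⟨m, hm⟩ := (ht n).2 y
    refine ⟨m, fun a ha => ?_⟩
    obtain ⟨z, hz⟩ := hm a ha
    obtain ⟨z, rfl⟩ := Submodule.mkQ_surjective _ z
    exact ⟨z, hz⟩
  · let η : Functor.ofOpSequence
        (X := fun n => (Scheme.Modules.restrictFunctor (LocCoh.puncturedOpen A 𝔞).ι).obj (Formal2.tmod A (M n)))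
        (fun n => (Scheme.Modules.restrictFunctor (LocCoh.puncturedOpen A 𝔞).ι).map
          (Formal2.tmodMap A (g n).hom)) ⟶ F :=
      NatTrans.ofOpSequence (fun n => (c n).hom) fun n => by
        rw [Functor.ofOpSequence_map_homOfLE_succ]
        exact hcomm n
    haveI : ∀ X, IsIso (η.app X) := fun X => (c X.unop).isIso_hom
    haveI := NatIso.isIso_of_isIso_app η
    exact (asIso η).symm

end Groth.Agent.S0841
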