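import Groth.Statements.S0842
import Groth.Agent.CdOneTop.Lift
import Groth.Agent.H4Easy.Batch37
import Groth.Agent.LocH.Radical

set_option autoImplicit false
set_option backward.isDefEq.respectTransparency false
universe u
open scoped BigOperators
open Formal2

namespace Groth.Agent.S0842

open CategoryTheory AlgebraicGeometry Opposite in
/-- Let A be a Noetherian ring and I an ideal of cohomological dimension exactly 1, X a Noetherian
scheme over Spec A, and (F_n) a coherent formal module for I (coherent terms with F_n =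
F_{n+1}/I^nF_{n+1}; indices shifted by one). Then for every p and m there is c such that every
compatible family x = (x_n) in the product of the H^p(X, F_n) whose component x_c vanishes is a
finite sum of products a · y with a ∈ I^m and y a compatible family. (The reverse inclusion, that
I^m times the limit dies in H^p(X, F_n) for n small, is immediate and not stated.) -/
theorem result (A : Type u) [CommRing A] [IsNoetherianRing A] (I : Ideal A)
    (h₁ : LocCoh.CdLE A I 1) (h₀ : ¬ LocCoh.CdLE A I 0) (X : Scheme.{u}) [X.Over (Spec (CommRingCat.of A))]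
    [IsNoetherian X] (G : ℕᵒᵖ ⥤ X.Modules) (hG : Formal.IsCohFormal I G) (p m : ℕ) :
    ∃ c : ℕ, ∀ x : ∀ n, Coh.HH X (G.obj (op n)) p,
      (∀ n, Formal2.HHsysMap G p n (x (n + 1)) = x n) → x c = 0 →
        ∃ (k : ℕ) (a : Fin k → A) (y : Fin k → ∀ n, Coh.HH X (G.obj (op n)) p),
          (∀ i, a i ∈ I ^ m ∧ ∀ n, Formal2.HHsysMap G p n (y i (n + 1)) = y i n) ∧ x = ∑ i, a i • y i := by
  classical
  rcases Nat.eq_zero_or_pos m with rfl | hm
  · refine ⟨0, fun x hx _ => ⟨1, fun _ => 1, fun _ => x, fun i => ⟨by rw [pow_zero, Ideal.one_eq_top]; trivial, hx⟩, ?_⟩⟩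
    simp
  obtain ⟨k, f, hf⟩ := Submodule.fg_iff_exists_fin_generating_family.1 (IsNoetherian.noetherian (I ^ m))
  have hf' : Ideal.span (Set.range f) = I ^ m := hf
  have hcd : LocCoh.CdLE A (Ideal.span (Set.range f)) 1 := fun M _ _ i hi =>
    (LocH.subsingleton_iff_of_radical_eq (by rw [hf', Ideal.radical_pow I hm.ne']) M i).1 (h₁ M i hi)
  obtain ⟨c', φ, hφ⟩ := H4Easy.exists_splitting_of_cdLE f hcd
  have he : Ideal.span (Set.range f) ^ (c' + 1) = I ^ (m * (c' + 1)) := by rw [hf', ← pow_mul]
  obtain ⟨c, hc⟩ := CdOneTop.exists_split_family hG p (m * (c' + 1))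
  refine ⟨c, fun x hx hxc => ?_⟩
  obtain ⟨z, hz, hxz⟩ := hc x hx hxc k f
    (fun i => (φ i).comp (Submodule.inclusion he.ge))
    (fun b => hφ (Submodule.inclusion he.ge b))
  exact ⟨k, f, z, fun i => ⟨hf' ▸ Ideal.subset_span ⟨i, rfl⟩, hz i⟩, hxz⟩

end Groth.Agent.S0842
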