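import Groth.Statements.S0846
import Groth.Agent.W7Proj.EpiTwist
import Groth.Agent.W7Proj.Proj
import Groth.Agent.TMul.GlobGen

set_option autoImplicit false
universe u
open Coherent

set_option backward.isDefEq.respectTransparency false
set_option backward.isDefEq.respectTransparency.types false

namespace Groth.Agent.S0846

open CategoryTheory CategoryTheory.Limits AlgebraicGeometry in
/-- Let A be a Noetherian graded ring (graded by ℕ as an R-algebra) and X = Proj A. Then every coherent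
O_X-module is a quotient of a finite coproduct of twisting modules O_X(d_1), …, O_X(d_r). -/
theorem result {R A : Type u} [CommRing R] [CommRing A] [Algebra R A]
    (𝒜 : ℕ → Submodule R A) [GradedAlgebra 𝒜] [IsNoetherianRing A] (F : (Proj 𝒜).Modules) (hF : Coh.IsCoh F) :
    ∃ (r : ℕ) (d : Fin r → ℤ) (φ : (∐ fun j : Fin r => Twist.twist 𝒜 (d j)) ⟶ F), Epi φ := by
  haveI := W7Proj.compactSpace 𝒜
  obtain ⟨E, hE, hcov⟩ := W7Proj.exists_degree 𝒜
  have hg : ∀ q : ℤ, GrT.HasFracGens 𝒜 (q * E) := fun q => GrT.hasFracGens_of_cover hcov q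
  have hA : CohB1.IsAmple (Twist.twist 𝒜 (E : ℤ)) := GrT.isAmple_twist_of_cover hE hcov
  haveI : F.IsQuasicoherent := hF.1
  obtain ⟨n₀, h⟩ := TMul.exists_forall_genOn hA (F := F) hF.2
  obtain ⟨e⟩ := W7Proj.nonempty_pow_iso 𝒜 hcov n₀
  obtain ⟨i⟩ := GrT.nonempty_twist_tensor_iso (a := -((n₀ : ℤ) * E)) (c := 0) 𝒜 (hg n₀) (by ring)
  obtain ⟨z⟩ := GrT.nonempty_twist_zero_iso (𝒜 := 𝒜)
  obtain ⟨k, φ, hφ⟩ := W7Proj.exists_epi (Q := Twist.twist 𝒜 (-((n₀ : ℤ) * E))) hF.2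
    (TMul.isInvertible_tensorPow hA.1 n₀)
    (GrT.isInvertible_twist_of_gens (by simpa using hg (-(n₀ : ℤ))))
    (PicGrp.tensorModIso e (Iso.refl _) ≪≫ i ≪≫ z) (h n₀ le_rfl)
  exact ⟨k, fun _ => -((n₀ : ℤ) * E), φ, hφ⟩

end Groth.Agent.S0846
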