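import Groth.Statements.S0847
import Groth.Agent.W7Proj.Proj
import Groth.Agent.CohFinite.Ample
import Groth.Agent.CurveRR.TmapR

set_option autoImplicit false
universe u
open Coherent

set_option backward.isDefEq.respectTransparency false
set_option backward.isDefEq.respectTransparency.types false

namespace Groth.Agent.S0847

open CategoryTheory AlgebraicGeometry in
/-- Let A be a Noetherian graded ring (graded by ℕ as an R-algebra), X = Proj A, F a coherent O_X-module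
and p > 0. Then the twists F(d) = F ⊗ O_X(d) have vanishing H^p for every sufficiently large d. -/
theorem result {R A : Type u} [CommRing R] [CommRing A] [Algebra R A]
    (𝒜 : ℕ → Submodule R A) [GradedAlgebra 𝒜] [IsNoetherianRing A] (F : (Proj 𝒜).Modules) (hF : Coh.IsCoh F)
    (p : ℕ) (hp : 0 < p) :
    ∃ d₀ : ℤ, ∀ d : ℤ, d₀ ≤ d → Subsingleton (Coh.HH (Proj 𝒜) (Twist.twistBy 𝒜 F d) p) := by
  haveI := W7Proj.compactSpace 𝒜
  haveI := W7Proj.isProper_toSpecZero 𝒜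
  haveI := W7Proj.isNoetherianRing_zero 𝒜
  haveI := W7Proj.isLocallyNoetherian 𝒜
  obtain ⟨E, hE, hcov⟩ := W7Proj.exists_degree 𝒜
  have hA : CohB1.IsAmple (Twist.twist 𝒜 (E : ℤ)) := GrT.isAmple_twist_of_cover hE hcov
  have hM : ∀ r : ℕ, Coh.IsCoh (CohB1.tensorMod F (Twist.twist 𝒜 (r : ℤ))) := fun r =>
    CurveRR.isCoh_tensor' hF (W7Proj.isCoh_twist 𝒜 _)
  choose n₀ hn₀ using fun r : ℕ => CohFinite.vanish_ample (Proj.toSpecZero 𝒜) hA (hM r)
  let Q := (Finset.range E).sup n₀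
  refine ⟨((E * Q : ℕ) : ℤ), fun d hd => ?_⟩
  obtain ⟨D, rfl⟩ := Int.eq_ofNat_of_zero_le (le_trans (Int.natCast_nonneg _) hd)
  have hq : Q ≤ D / E := (Nat.le_div_iff_mul_le hE).mpr (by rw [mul_comm]; exact_mod_cast hd)
  obtain ⟨e⟩ := W7Proj.nonempty_pow_iso 𝒜 hcov (D / E)
  obtain ⟨i⟩ := GrT.nonempty_twist_tensor_iso (a := ((D % E : ℕ) : ℤ)) (c := (D : ℤ)) 𝒜
    (GrT.hasFracGens_of_cover hcov ((D / E : ℕ) : ℤ)) (by exact_mod_cast Nat.mod_add_div' D E)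
  let t : CohB1.tensorMod (CohB1.tensorMod F (Twist.twist 𝒜 ((D % E : ℕ) : ℤ)))
      (CohB1.tensorPow (Twist.twist 𝒜 (E : ℤ)) (D / E)) ≅ Twist.twistBy 𝒜 F (D : ℤ) :=
    TMul.assocIso _ _ _ ≪≫ PicGrp.tensorModIso (Iso.refl F)
      (TMul.commIso _ _ ≪≫ PicGrp.tensorModIso e (Iso.refl _) ≪≫ i)
  obtain ⟨p, rfl⟩ : ∃ p', p = p' + 1 := ⟨p - 1, by omega⟩
  have hs := hn₀ (D % E) (D / E) ((Finset.le_sup (Finset.mem_range.mpr (Nat.mod_lt D hE))).trans hq) p
  exact CohQC.hh_subsingleton_of_iso t _ hs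

end Groth.Agent.S0847
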