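import Groth.Statements.S0849
import Groth.Agent.GrTail.Core

set_option autoImplicit false
universe u
open Coherent

namespace Groth.Agent.S0849

open CategoryTheory AlgebraicGeometry Opposite in
/-- Let A be a Noetherian graded ring generated by its degree-one part over its degree-zero part (graded
by ℕ as an R-algebra), M a finite graded A-module, and X = Proj A. Then the natural map from M_n to
the global sections of the sheaf M(n)~ (m ↦ m/1) is bijective for all sufficiently large n. -/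
theorem result {R A : Type u} [CommRing R] [CommRing A] [Algebra R A]
    (𝒜 : ℕ → Submodule R A) [GradedAlgebra 𝒜] [IsNoetherianRing A] (hgen : ∀ i : ℕ, 𝒜 (i + 1) = 𝒜 1 * 𝒜 i)
    (M : Type u) [AddCommGroup M] [Module R M] [Module A M] [IsScalarTower R A M] [Module.Finite A M]
    (ℳ : ℕ → Submodule R M) [DirectSum.Decomposition ℳ] [SetLike.GradedSMul 𝒜 ℳ] :
    ∃ n₀ : ℕ, ∀ n : ℕ, n₀ ≤ n → Function.Bijective (fun m : ℳ n => GrTilde.globalOf 𝒜 ℳ m) := by
  obtain ⟨N, hN⟩ := Groth.Agent.GrTail.exists_bound 𝒜 ℳ ⟨0, IsNoetherian.noetherian _⟩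
  refine ⟨N, fun n hn => ⟨fun m m' hmm => ?_, fun t => ?_⟩⟩
  · refine Subtype.ext (sub_eq_zero.1 ((hN n hn).1 _ ((ℳ n).sub_mem m.2 m'.2) fun x => ?_))
    have h1 : (LocalizedModule.mk (m : M) 1 : LocalizedModule x.asHomogeneousIdeal.toIdeal.primeCompl M) =
        LocalizedModule.mk (m' : M) 1 :=
      congrArg (fun t : GrTilde.sect 𝒜 ℳ (n : ℤ) (op ⊤) =>
        ((t.1 ⟨x, trivial⟩ : GrTilde.tildeAt 𝒜 ℳ (n : ℤ) x) : GrTilde.LocMod 𝒜 (M := M) x)) hmm
    have h2 := (LocalizedModule.mkLinearMap x.asHomogeneousIdeal.toIdeal.primeCompl M).map_sub (m : M) (m' : M)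
    exact h2.trans (sub_eq_zero.2 h1)
  obtain ⟨m, hm, h⟩ := (hN n hn).2
    (fun x => ((t.1 ⟨x, trivial⟩ : GrTilde.tildeAt 𝒜 ℳ (n : ℤ) x) : GrTilde.LocMod 𝒜 (M := M) x)) (by
    intro x
    obtain ⟨V, mV, iV, i, j, m, s, nin, c, w⟩ := t.2 ⟨x, trivial⟩
    refine ⟨V, mV, j, m, s, ?_, s.2, fun y hy => ⟨nin ⟨y, hy⟩, w ⟨y, hy⟩⟩⟩
    rcases c with c | c
    · have e : i = j + n := by omega
      exact e ▸ m.2
    · simp [c])
  exact ⟨⟨m, hm⟩, Subtype.ext (funext fun x => Subtype.ext (h x.1).symm)⟩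

end Groth.Agent.S0849
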