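import Groth.Statements.S0850
import Groth.Agent.GrT.Coherent
import Groth.Agent.W7Proj.EpiTwist
import Groth.Agent.TMul.GlobGen
-- import your own Groth.Agent.* helpers here

set_option autoImplicit false
universe u
open Coherent

set_option backward.isDefEq.respectTransparency false
set_option backward.isDefEq.respectTransparency.types false

namespace Groth.Agent.S0850

open CategoryTheory CategoryTheory.Limits AlgebraicGeometry in
/-- An epimorphism from copies of a negative twist factors through the tilde of a free graded module. -/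
theorem exists_free {R A : Type u} [CommRing R] [CommRing A] [Algebra R A] (𝒜 : ℕ → Submodule R A)
    [GradedAlgebra 𝒜] {F : (Proj 𝒜).Modules} {k c : ℕ}
    (φ : (∐ fun _ : Fin k => Twist.twist 𝒜 (-(c : ℤ))) ⟶ F) [Epi φ] :
    ∃ e : GrTilde.tilde 𝒜 (GrT.freePiece 𝒜 k c) 0 ⟶ F, Epi e := by
  classical
  have hp : ∀ l : Fin k, GrT.Shift (GrT.freePiece 𝒜 k c) 𝒜
      (LinearMap.proj l : (Fin k → A) →ₗ[A] A) 0 (-(c : ℤ)) := fun l i j h m hm => by
    rcases GrT.eq_zero_or_mem_shPiece 𝒜 ((GrT.mem_freePiece 𝒜).mp hm l) with h0 | ⟨h1, h2⟩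
    · exact Or.inl h0
    · exact Or.inr ⟨i - c, by omega, h2⟩
  have hi : ∀ l : Fin k, GrT.Shift 𝒜 (GrT.freePiece 𝒜 k c)
      (LinearMap.single A (fun _ : Fin k => A) l) (-(c : ℤ)) 0 := fun l i j h m hm =>
    Or.inr ⟨j, by omega, GrT.single_mem_freePiece 𝒜 l (GrT.mem_shPiece 𝒜 hm (by omega))⟩
  have congr_map : ∀ {f f' : A →ₗ[A] A} (h : GrT.Shift 𝒜 𝒜 f (-(c : ℤ)) (-(c : ℤ)))
      (h' : GrT.Shift 𝒜 𝒜 f' (-(c : ℤ)) (-(c : ℤ))), f = f' →
      GrT.mapTilde 𝒜 h = GrT.mapTilde 𝒜 h' := fun h h' e => by subst e; rfl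
  have hid : GrT.Shift 𝒜 𝒜 (LinearMap.id : A →ₗ[A] A) (-(c : ℤ)) (-(c : ℤ)) := fun i j h m hm =>
    Or.inr ⟨i, h, hm⟩
  let ψ : ∀ _l : Fin k, GrTilde.tilde 𝒜 𝒜 (-(c : ℤ)) ⟶ F := fun l =>
    (Sigma.ι (fun _ : Fin k => Twist.twist 𝒜 (-(c : ℤ))) l ≫ φ :)
  let e : GrTilde.tilde 𝒜 (GrT.freePiece 𝒜 k c) 0 ⟶ F := ∑ l, GrT.mapTilde 𝒜 (hp l) ≫ ψ l
  have hcomp : ∀ l, GrT.mapTilde 𝒜 (hi l) ≫ e = ψ l := fun l => by
    have hcc : ∀ l', GrT.Shift 𝒜 𝒜 ((LinearMap.proj l' : (Fin k → A) →ₗ[A] A) ∘ₗ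
        LinearMap.single A (fun _ : Fin k => A) l) (-(c : ℤ)) (-(c : ℤ)) := fun l' i j h m hm => by
      by_cases hl : l = l'
      · subst hl; exact Or.inr ⟨i, h, by simpa using hm⟩
      · exact Or.inl (by simp [Pi.single_eq_of_ne (Ne.symm hl)])
    simp only [e, Preadditive.comp_sum, ← Category.assoc]
    rw [Finset.sum_eq_single l]
    · rw [GrT.mapTilde_comp 𝒜 (hi l) (hp l) (hcc l),
        congr_map (hcc l) hid (LinearMap.ext fun a => by simp), GrT.mapTilde_id]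
      exact Category.id_comp _
    · intro l' _ hl
      rw [GrT.mapTilde_comp 𝒜 (hi l) (hp l') (hcc l'),
        GrT.mapTilde_eq_zero 𝒜 (hcc l') (LinearMap.ext fun a => by simp [Pi.single_eq_of_ne hl])]
      exact Limits.zero_comp
    · exact fun h => absurd (Finset.mem_univ l) h
  refine ⟨e, epi_of_epi_fac (f := Sigma.desc fun l : Fin k => GrT.mapTilde 𝒜 (hi l)) (h := φ) ?_⟩
  refine Sigma.hom_ext _ _ fun l => ?_
  rw [← Category.assoc, Sigma.ι_desc]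
  exact hcomp l

open CategoryTheory AlgebraicGeometry in
/-- The essential-surjectivity content of the equivalence (finite graded modules modulo irrelevant ones
≃ coherent modules): let A be a Noetherian graded ring (graded by ℕ as an R-algebra) and X = Proj A.
Then every coherent O_X-module is isomorphic to the sheaf M~ associated to some finite graded
A-module M (graded in nonnegative degrees). -/
theorem result {R A : Type u} [CommRing R] [CommRing A] [Algebra R A]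
    (𝒜 : ℕ → Submodule R A) [GradedAlgebra 𝒜] [IsNoetherianRing A] (F : (Proj 𝒜).Modules) (hF : Coh.IsCoh F) :
    ∃ (M : Type u) (_ : AddCommGroup M) (_ : Module R M) (_ : Module A M) (_ : IsScalarTower R A M)
      (ℳ : ℕ → Submodule R M) (_ : DirectSum.Decomposition ℳ) (_ : SetLike.GradedSMul 𝒜 ℳ),
      Module.Finite A M ∧ Nonempty (GrTilde.tilde 𝒜 ℳ 0 ≅ F) := by
  classical
  haveI := W7Proj.compactSpace 𝒜
  obtain ⟨E, hE, hcov⟩ := W7Proj.exists_degree 𝒜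
  have hg : ∀ q : ℤ, GrT.HasFracGens 𝒜 (q * E) := fun q => GrT.hasFracGens_of_cover hcov q
  have hA : CohB1.IsAmple (Twist.twist 𝒜 (E : ℤ)) := GrT.isAmple_twist_of_cover hE hcov
  haveI : F.IsQuasicoherent := hF.1
  obtain ⟨n₀, h⟩ := TMul.exists_forall_genOn hA (F := F) hF.2
  obtain ⟨ep⟩ := W7Proj.nonempty_pow_iso 𝒜 hcov n₀
  obtain ⟨i⟩ := GrT.nonempty_twist_tensor_iso (a := -((n₀ : ℤ) * E)) (c := 0) 𝒜 (hg n₀) (by ring)
  obtain ⟨z⟩ := GrT.nonempty_twist_zero_iso (𝒜 := 𝒜)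
  obtain ⟨k, φ, hφ⟩ := W7Proj.exists_epi (Q := Twist.twist 𝒜 (-(((n₀ * E : ℕ) : ℤ)))) hF.2
    (TMul.isInvertible_tensorPow hA.1 n₀)
    (GrT.isInvertible_twist_of_gens (by push_cast; simpa using hg (-(n₀ : ℤ))))
    (PicGrp.tensorModIso ep (Iso.refl _) ≪≫
      (eqToIso (by push_cast; rfl) : _ ≅ CohB1.tensorMod (Twist.twist 𝒜 ((n₀ : ℤ) * E))
        (Twist.twist 𝒜 (-((n₀ : ℤ) * E)))) ≪≫ i ≪≫ z) (h n₀ le_rfl)
  obtain ⟨e, he⟩ := exists_free 𝒜 φ
  choose g hg' hgx using hcov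
  obtain ⟨t, ht⟩ := isCompact_univ.elim_finite_subcover
    (fun x : Proj 𝒜 => ((Proj.basicOpen 𝒜 (g x) : (Proj 𝒜).Opens) : Set (Proj 𝒜)))
    (fun x => (Proj.basicOpen 𝒜 (g x)).2)
    (fun y _ => Set.mem_iUnion.mpr ⟨y, (ProjectiveSpectrum.mem_basicOpen 𝒜 _ y).mpr (hgx y)⟩)
  exact GrT.exists_tilde_iso 𝒜 (GrT.freePiece 𝒜 k (n₀ * E)) (ι := {x // x ∈ t}) (fun x => g x.1)
    (fun x => hg' x.1) e (fun y => by
      obtain ⟨x, hx, hy⟩ := Set.mem_iUnion₂.mp (ht (Set.mem_univ (y : Proj 𝒜)))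
      exact ⟨⟨x, hx⟩, (ProjectiveSpectrum.mem_basicOpen 𝒜 _ y).mp hy⟩) hF.1 hE

end Groth.Agent.S0850
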