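import Groth.Statements.S0853
import Groth.Agent.W7Rees.Powers

set_option autoImplicit false
universe u
open Coherent

open Groth.Agent
open CategoryTheory CategoryTheory.Limits
set_option backward.isDefEq.respectTransparency false
set_option backward.isDefEq.respectTransparency.types false

namespace Groth.Agent.S0853

open CategoryTheory CategoryTheory.Limits AlgebraicGeometry in
/-- Let A be a Noetherian ring, I an ideal, X proper over Spec A and F a coherent O_X-module, and fix p.
Then there is c ≥ 0 such that for all n, m with n + m ≥ c the image of H^p(X, I^(n+m)F) → H^p(X,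
I^nF) is contained in I^(m−e) H^p(X, I^nF), where e = max(0, c − n). (Here I^nF ⊆ F is the kernel of
F → F/I^nF, and H^p(X, I^nF) is an A-module through the structure morphism.) -/
theorem result (A : Type u) [CommRing A] [IsNoetherianRing A]
    (I : Ideal A) (X : Scheme.{u}) [X.Over (Spec (CommRingCat.of A))] [IsProper (X ↘ Spec (CommRingCat.of A))]
    (F : X.Modules) (hF : Coh.IsCoh F) (p : ℕ) :
    ∃ c : ℕ, ∀ (n m : ℕ), c ≤ n + m →
      Set.range (Sheaf.H.map ((SheafOfModules.toSheaf _).map (Formal2.idealPowIncl I (Nat.le_add_right n m) F)) p) ⊆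
        SetLike.coe (I ^ (m - (c - n)) • (⊤ : Submodule A (Coh.HH X (Formal2.idealPowMod I n F) p))) := by
  obtain ⟨c, hc⟩ := W7Rees.exists_range_le I hF p
  refine ⟨c, fun n m h => ?_⟩
  rintro _ ⟨x, rfl⟩
  have hι : Formal2.idealPowIncl I (Nat.le_add_right n m) F ≫ Formal2.idealPowModι I n F = Formal2.idealPowModι I (n + m) F :=
    kernel.lift_ι _ _ _
  have he : max c n + (m - (c - n)) = n + m := by omega
  exact hc (max c n) (le_max_left c n) (m - (c - n)) n (le_max_right c n) _ _ _ _
    (he.symm ▸ W7Rees.isJSub_kernel hF.1 _) (W7Rees.isJSub_kernel hF.1 _) _ hι x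

end Groth.Agent.S0853
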