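import Groth.Statements.S0871
import Groth.Agent.HDU.Compare
import Groth.Agent.HDU.Top

set_option autoImplicit false
universe u
open CategoryTheory
open CohTop

namespace Groth.Agent.S0871

open TopologicalSpace CategoryTheory.Limits in
/-- For an object K of the derived category of abelian sheaves on X and an open U, H^p(U, K) is
isomorphic to H^p(U, K|_U), where K|_U is the image of K under the functor on derived categories
induced by the (exact) restriction to U. Exactness of restriction is assumed through instance
arguments (true, but not recorded by Mathlib in this generality). -/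
theorem result {X : TopCat.{u}} (U : Opens X)
    [HasDerivedCategory.{u} (CohTop.Ab X)] [HasDerivedCategory.{u} (CohTop.Ab (TopCat.of U))]
    [PreservesFiniteLimits (CohTop.restrFunctor U)] [PreservesFiniteColimits (CohTop.restrFunctor U)]
    (K : DerivedCategory (CohTop.Ab X)) (p : ℤ) :
    Nonempty (CohCx.HDU K p U ≃+ CohCx.HDU ((CohTop.restrFunctor U).mapDerivedCategory.obj K) p ⊤) := by
  classical
  obtain ⟨I, hI, ⟨e⟩⟩ := Groth.Agent.HDU.exists_kInj_rep K
  let I' : CochainComplex (CohTop.Ab (TopCat.of U)) ℤ :=
    ((CohTop.restrFunctor U).mapHomologicalComplex (ComplexShape.up ℤ)).obj I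
  have : I'.IsKInjective := Groth.Agent.SiteCoh.kInjective_restrOpen U I
  let e' : DerivedCategory.Q.obj I' ≅ (CohTop.restrFunctor U).mapDerivedCategory.obj K :=
    ((CohTop.restrFunctor U).mapDerivedCategoryFactors.app I).symm ≪≫
      (CohTop.restrFunctor U).mapDerivedCategory.mapIso e
  obtain ⟨c⟩ := Groth.Agent.HDU.nonempty_addEquiv_of_sections I I' U (⊤ : Opens U)
    (fun n => Groth.Agent.SiteCoh.restrTop U (I.X n))
    (fun m n x => (NatTrans.naturality_apply (I.d m n).hom
      (eqToHom (Groth.Agent.SiteCoh.restr_top_eq U)) x).symm) p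
  exact ⟨(AddEquiv.mk' (((shiftFunctor _ p).mapIso e).symm.homToEquiv) (fun a b => Preadditive.add_comp _ _ _ _ _ _)).trans
    (c.trans (AddEquiv.mk' (((shiftFunctor _ p).mapIso e').homToEquiv) (fun a b => Preadditive.add_comp _ _ _ _ _ _)))⟩

end Groth.Agent.S0871
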