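import Groth.Statements.S0874
import Groth.Agent.HDU.Site

set_option autoImplicit false
universe u
open CategoryTheory
open CohTop

namespace Groth.Agent.S0874

open TopologicalSpace CategoryTheory.Limits in
/-- Let (K_n) be an inverse system in D(Ab X), the derived category of sheaves of abelian groups on X,
with derived limit L (through maps a_n : L -> K_n), x a point and m an integer. Suppose there are an
index n(x) and a fundamental system of open neighbourhoods U of x such that (1) the inverse system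
H^{m-1}(U, K_n) has vanishing R^1 lim and (2) for every n >= n(x), the transition map from H^m(U,
K_n) to H^m(U, K_{n(x)}) is one-to-one. Then a_{n(x)} induces an injection of stalks at x, from
H^m(L) into H^m(K_{n(x)}). -/
theorem result {X : TopCat.{u}} [HasDerivedCategory.{u} (CohTop.Ab X)]
    (K : ℕ → DerivedCategory (CohTop.Ab X)) (t : ∀ n, K (n + 1) ⟶ K n) [HasProduct K]
    (L : DerivedCategory (CohTop.Ab X)) (a : ∀ n, L ⟶ K n) (hL : CohCx.IsRlimVia K t L a)
    (x : X) (m : ℤ) (nx : ℕ)
    (h : ∀ V : Opens X, x ∈ V → ∃ U : Opens X, x ∈ U ∧ U ≤ V ∧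
      CohCx.LimOneIsZero (fun n => CohCx.HDU (K n) (m - 1) U)
        (fun n => Preadditive.rightComp _ ((shiftFunctor _ (m - 1)).map (t n))) ∧
      ∀ k : ℕ, Function.Injective
        (Preadditive.rightComp _ ((shiftFunctor _ m).map (CohCx.transition K t nx k)) :
          CohCx.HDU (K (nx + k)) m U → CohCx.HDU (K nx) m U)) :
    Function.Injective ((TopCat.Presheaf.stalkFunctor AddCommGrpCat.{u} x).map
      ((DerivedCategory.homologyFunctor (CohTop.Ab X) m).map (a nx)).hom) := by
  refine (injective_iff_map_eq_zero _).mpr fun g hg => ?_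
  obtain ⟨V, hxV, γ, rfl⟩ := TopCat.Presheaf.exists_germ_eq _ g
  rw [TopCat.Presheaf.stalkFunctor_map_germ_apply] at hg
  obtain ⟨W, hxW, iW, iW', hW⟩ := TopCat.Presheaf.germ_eq (F := (CohCx.HD (K nx) m).obj) x hxV hxV _ _
    (hg.trans (map_zero (TopCat.Presheaf.germ (CohCx.HD (K nx) m).obj V x hxV).hom).symm)
  let γ' := (CohCx.HD L m).obj.map iW.op γ
  have hγ' : (((DerivedCategory.homologyFunctor (CohTop.Ab X) m).map (a nx)).hom.app (Opposite.op W)) γ' = 0 :=
    (NatTrans.naturality_apply ((DerivedCategory.homologyFunctor (CohTop.Ab X) m).map (a nx)).hom iW.op γ).trans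
      (hW.trans (map_zero _))
  obtain ⟨T, hT, hT'⟩ := (Groth.Agent.HDU.abData (Opens.grothendieckTopology X)).liftKilled_mem (a nx) W m γ' hγ'
  obtain ⟨V', g', hg', hxV'⟩ := hT x hxW
  obtain ⟨U, hxU, hUV, hlim, hinj⟩ := h V' hxV'
  let gU : U ⟶ W := CategoryTheory.homOfLE (hUV.trans g'.le)
  have hgU : T gU := T.downward_closed hg' (CategoryTheory.homOfLE hUV)
  obtain ⟨y, hy, hy0⟩ := hT' U gU hgU
  have hzero : y = 0 := (Groth.Agent.HDU.abData (Opens.grothendieckTopology X)).eq_zero_of_killed hL m nx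
    (fun z => by
      obtain ⟨w, hw⟩ := hlim z
      exact ⟨w, fun n => congrFun hw n⟩)
    (fun k z hz => hinj k (hz.trans (map_zero _).symm)) y hy0
  rw [hzero, map_zero] at hy
  refine Eq.trans ?_ (map_zero (TopCat.Presheaf.germ (CohCx.HD L m).obj V x hxV).hom)
  refine TopCat.Presheaf.germ_ext (F := (CohCx.HD L m).obj) U hxU (gU ≫ iW) (gU ≫ iW) ?_
  rw [map_zero, CategoryTheory.op_comp, CategoryTheory.Functor.map_comp, CategoryTheory.ConcreteCategory.comp_apply]
  exact hy.symm

end Groth.Agent.S0874
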