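import Groth.Statements.S0875
import Groth.Agent.HDU.Cover

set_option autoImplicit false
universe u
open CategoryTheory
open CohTop

namespace Groth.Agent.S0875

open TopologicalSpace CategoryTheory.Limits in
/-- Let E be an object of the derived category of abelian sheaves on X. Assume every point x has a
function p(x, -) and a fundamental system of open neighbourhoods U with H^p(U, H^{m-p}(E)) = 0 for
all m and all p > p(x, m). Then E is a derived limit of the tower of its truncations τ_{≥ -n} E
through the canonical maps E -> τ_{≥ -n} E (equivalently, E -> R lim τ_{≥ -n} E is an isomorphism).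
The existence of the countable product of the truncations is assumed. -/
theorem result {X : TopCat.{u}}
    [HasDerivedCategory.{u} (CohTop.Ab X)] (E : DerivedCategory (CohTop.Ab X))
    [HasProduct (CohCx.truncTower E)]
    (h : ∀ x : X, ∃ p : ℤ → ℤ, ∀ V : Opens X, x ∈ V → ∃ U : Opens X, x ∈ U ∧ U ≤ V ∧
      ∀ (m : ℤ) (k : ℕ), p m < k → Subsingleton (CohTop.HU (CohCx.HD E (m - k)) k U)) :
    CohCx.IsRlimVia (CohCx.truncTower E) (CohCx.truncTowerMap E) E (CohCx.toTruncTower E) := by
  let D := Groth.Agent.HDU.abData (Opens.grothendieckTopology X)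
  refine Groth.Agent.HDU.isRlimVia_truncTower D E fun L a hL m N₀ hN₀ U γ hγ => ?_
  let S : Sieve U :=
    { arrows := fun W g => (D.HS L m).obj.map g.op γ = 0
      downward_closed := fun {W W'} g hg b => by
        change (D.HS L m).obj.map (b ≫ g).op γ = 0
        rw [CategoryTheory.op_comp, CategoryTheory.Functor.map_comp, ConcreteCategory.comp_apply, hg,
          map_zero] }
  refine D.eq_zero_of_cover L m γ (S := S) (fun x hxU => ?_) fun W g hg => hg
  obtain ⟨p, hp⟩ := h x
  let k := (p m - m).toNat
  have hγ' := Groth.Agent.HDU.killed_of_le D hL m N₀ k hN₀ U γ hγ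
  obtain ⟨T, hT, hT'⟩ := D.liftKilled_mem (a (N₀ + k)) U m γ hγ'
  obtain ⟨V, g', hg', hxV⟩ := hT x hxU
  obtain ⟨U', hxU', hU'V, hv⟩ := hp V hxV
  let g : U' ⟶ U := homOfLE (hU'V.trans g'.le)
  refine ⟨U', g, ?_, hxU'⟩
  obtain ⟨y, hy, hy0⟩ := hT' U' g (T.downward_closed hg' (homOfLE hU'V))
  have hc := Groth.Agent.HDU.tower_conditions D E (N₀ + k) m U' fun n hn => by
    have := Groth.Agent.HDU.van_of_subsingleton (Opens.grothendieckTopology X) _ _ U'
      (hv m (m + n + 1).toNat (by omega))
    rw [show m - ((m + (n : ℤ) + 1).toNat : ℤ) = -(n : ℤ) - 1 by omega,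
      show ((m + (n : ℤ) + 1).toNat : ℤ) = m + n + 1 by omega] at this
    exact this
  rw [D.eq_zero_of_killed hL m (N₀ + k) hc.1 hc.2 y hy0, map_zero] at hy
  exact hy.symm

end Groth.Agent.S0875
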