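import Groth.Statements.S0883
import Groth.Agent.HDU.Top

set_option autoImplicit false
universe u
open CategoryTheory
open CohTop

namespace Groth.Agent.S0883

open TopologicalSpace in
/-- Part (1) (abelian sheaves; the assertion about Rf_* K is not included): given a continuous map f : X
-> Y, a basis B of opens of Y and an object K of the derived category of abelian sheaves on X such
that H^i(f^{-1}V, K) = 0 for all i < 0 and V in B. Then H^i(f^{-1}V, K) = 0 for i < 0 and every open
V of Y, and the presheaf V ↦ H^0(f^{-1}V, K) is a sheaf on Y. -/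
theorem result {X Y : TopCat.{u}} (f : X ⟶ Y)
    [HasDerivedCategory.{u} (CohTop.Ab X)] (B : Set (Opens Y)) (hB : Opens.IsBasis B)
    (K : DerivedCategory (CohTop.Ab X))
    (h : ∀ V ∈ B, ∀ i : ℤ, i < 0 → Subsingleton (CohCx.HDU K i ((Opens.map f).obj V))) :
    (∀ (V : Opens Y) (i : ℤ), i < 0 → Subsingleton (CohCx.HDU K i ((Opens.map f).obj V))) ∧
    Presheaf.IsSheaf (Opens.grothendieckTopology Y) ((Opens.map f).op ⋙ CohCx.HDUPresheaf K 0) := by
  classical
  obtain ⟨I, hI, ⟨e⟩⟩ := Groth.Agent.HDU.exists_kInj_rep K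
  let G : CochainComplex (CohTop.Ab Y) ℤ := ((CohTop.push f).mapHomologicalComplex (ComplexShape.up ℤ)).obj I
  have hGK : G.IsKInjective := Groth.Agent.HDU.push_isKInjective f I
  have hzero : ∀ (W : Opens Y) (i : ℤ),
      (∀ s : (I.X i).obj.obj (Opposite.op ((Opens.map f).obj W)),
        (I.d i (i + 1)).hom.app _ s = 0 → ∃ t, (I.d (i - 1) i).hom.app _ t = s) ↔
      Subsingleton (CohCx.HDU K i ((Opens.map f).obj W)) := by
    intro W i
    constructor
    · intro hs
      refine subsingleton_of_forall_eq 0 fun x => ?_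
      obtain ⟨s, hs', hx⟩ := Groth.Agent.HDU.cls_surjective i ((Opens.map f).obj W)
        (x ≫ (shiftFunctor _ i).map e.inv)
      have h0 : Groth.Agent.HDU.cls i ((Opens.map f).obj W) s hs' = 0 :=
        (Groth.Agent.HDU.cls_eq_zero_iff i _ s hs').2 (hs s hs')
      rw [← Limits.zero_comp (f := (shiftFunctor (DerivedCategory (CohTop.Ab X)) i).map e.hom), ← h0, hx,
        Category.assoc, ← Functor.map_comp, e.inv_hom_id, CategoryTheory.Functor.map_id,
        Category.comp_id]
    · intro hs s hs'
      refine (Groth.Agent.HDU.cls_eq_zero_iff i _ s hs').1 ?_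
      rw [← cancel_mono ((shiftFunctor (DerivedCategory (CohTop.Ab X)) i).map e.hom)]
      exact hs.elim _ _
  have hG : ∀ i : ℤ, i < 0 → Limits.IsZero (G.homology i) := fun i hi => by
    refine Groth.Agent.HDU.isZero_homology_of_locally G i fun U s hs => ?_
    obtain ⟨S, hS, hSV⟩ := Groth.Agent.HDU.basisSieve_mem B hB U
    refine ⟨S, hS, fun V g hg => ?_⟩
    obtain ⟨W, hW, hVW, hWU⟩ := hSV V g hg
    obtain ⟨t, ht⟩ := (hzero W i).2 (h W hW i hi) ((G.X i).obj.map (homOfLE hWU).op s)
      ((NatTrans.naturality_apply (G.d i (i + 1)).hom (homOfLE hWU).op s).trans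
        ((congrArg ((G.X (i + 1)).obj.map (homOfLE hWU).op).hom hs).trans (map_zero _)))
    refine ⟨(G.X (i - 1)).obj.map (homOfLE hVW).op t,
      (NatTrans.naturality_apply (G.d (i - 1) i).hom (homOfLE hVW).op t).trans ?_⟩
    refine (congrArg ((G.X i).obj.map (homOfLE hVW).op).hom ht).trans ?_
    rw [← ConcreteCategory.comp_apply, ← Functor.map_comp]
    exact congrArg (fun a => (G.X i).obj.map a s) (Subsingleton.elim _ _)
  have key : ∀ (V : Opens Y) (i : ℤ), i < 0 → Subsingleton (CohCx.HDU K i ((Opens.map f).obj V)) :=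
    fun V i hi => (hzero V i).1 fun s hs =>
      Groth.Agent.HDU.exists_of_closed_of_neg G hG i hi V s hs
  refine ⟨key, ?_⟩
  let θ : (G.cycles 0).obj ⟶ (Opens.map f).op ⋙ CohCx.HDUPresheaf K 0 :=
    { app := fun V => AddCommGrpCat.ofHom (AddMonoidHom.mk'
        (fun z => Groth.Agent.HDU.cls (I := I) 0 ((Opens.map f).obj V.unop)
          ((G.iCycles 0).hom.app V z) (Groth.Agent.HDU.d_iCycles_apply G 0 (0 + 1) V.unop z) ≫
            (shiftFunctor (DerivedCategory (CohTop.Ab X)) (0 : ℤ)).map e.hom)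
        (fun a b => by
          refine (congrArg (· ≫ _) ((Groth.Agent.HDU.cls_congr (I := I) 0 _ _ ?_
            (map_add ((G.iCycles 0).hom.app V).hom a b)).trans
              (Groth.Agent.HDU.cls_add (I := I) 0 _ _ _ _ _ _))).trans (Preadditive.add_comp _ _ _ _ _ _)
          exact (congrArg ((G.d 0 (0 + 1)).hom.app V).hom (map_add ((G.iCycles 0).hom.app V).hom a b).symm).trans
            (Groth.Agent.HDU.d_iCycles_apply G 0 (0 + 1) V.unop (a + b))))
      naturality := fun U V a => by
        ext z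
        refine Eq.trans (congrArg (· ≫ _) ((Groth.Agent.HDU.cls_congr (I := I) 0 _ _ ?_
          (NatTrans.naturality_apply (G.iCycles 0).hom a z)).trans
            (Groth.Agent.HDU.cls_res (I := I) 0 ((Opens.map f).map a.unop) _
              (Groth.Agent.HDU.d_iCycles_apply G 0 (0 + 1) U.unop z) ?_))) (Category.assoc _ _ _)
        · exact (congrArg ((G.d 0 (0 + 1)).hom.app V).hom
            (NatTrans.naturality_apply (G.iCycles 0).hom a z).symm).trans
              (Groth.Agent.HDU.d_iCycles_apply G 0 (0 + 1) V.unop _)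
        · exact (congrArg ((G.d 0 (0 + 1)).hom.app V).hom
            (NatTrans.naturality_apply (G.iCycles 0).hom a z).symm).trans
              (Groth.Agent.HDU.d_iCycles_apply G 0 (0 + 1) V.unop _) }
  obtain ⟨iso⟩ := Groth.Agent.HDU.exists_iso_of_surjective (G.homologyπ 0).hom θ
    (fun V => Groth.Agent.HDU.sections_homologyπ_surjective G hG V.unop)
    (fun V x => by
      obtain ⟨s, hs, hx⟩ := Groth.Agent.HDU.cls_surjective 0 ((Opens.map f).obj V.unop)
        (x ≫ (shiftFunctor (DerivedCategory (CohTop.Ab X)) (0 : ℤ)).map e.inv)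
      obtain ⟨z, hz⟩ := Groth.Agent.HDU.exists_cycle_of_closed G 0 V.unop s hs
      refine ⟨z, (congrArg (· ≫ _) ((Groth.Agent.HDU.cls_congr (I := I) 0 _ _ hs hz).trans hx)).trans ?_⟩
      refine (Category.assoc _ _ _).trans ?_
      rw [← Functor.map_comp, e.inv_hom_id, CategoryTheory.Functor.map_id]
      exact Category.comp_id x)
    (fun V z => by
      refine Iff.trans ?_ (Iff.trans (Groth.Agent.HDU.cls_eq_zero_iff (I := I) 0 ((Opens.map f).obj V.unop)
        ((G.iCycles 0).hom.app V z) (Groth.Agent.HDU.d_iCycles_apply G 0 (0 + 1) V.unop z)).symm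
        ⟨fun h1 => (congrArg (· ≫ (shiftFunctor (DerivedCategory (CohTop.Ab X)) (0 : ℤ)).map e.hom) h1).trans
            Limits.zero_comp,
          fun h1 => (cancel_mono ((shiftFunctor (DerivedCategory (CohTop.Ab X)) (0 : ℤ)).map e.hom)).1
            (h1.trans Limits.zero_comp.symm)⟩)
      refine ⟨Groth.Agent.HDU.exists_of_homologyπ_eq_zero G hG V.unop z, ?_⟩
      rintro ⟨t, ht⟩
      have hz : (G.toCycles (0 - 1) 0).hom.app V t = z :=
        Groth.Agent.HDU.iCycles_app_injective G 0 V.unop
          ((ConcreteCategory.congr_hom (congr_arg (fun m : G.X (0 - 1) ⟶ G.X 0 => m.hom.app V)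
            (G.toCycles_i (0 - 1) 0)) t).trans ht)
      rw [← hz]
      exact ConcreteCategory.congr_hom (congr_arg (fun m : G.X (0 - 1) ⟶ G.homology 0 => m.hom.app V)
        (G.toCycles_comp_homologyπ (0 - 1) 0)) t)
  exact Presheaf.isSheaf_of_iso_iff iso |>.mp (G.homology 0).property

end Groth.Agent.S0883
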