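import Groth.Statements.S0891
import Groth.Agent.W7Baer.Local
import Groth.Agent.W7ExtZero.Basic
import Groth.Agent.S0927
import Groth.Agent.TMul.RelAmple
import Groth.Agent.TMul.Assoc

set_option autoImplicit false
universe u
open CategoryTheory
open Coh

set_option backward.isDefEq.respectTransparency false
namespace Groth.Agent.S0891

open AlgebraicGeometry in
/-- On a scheme X, let I be an injective 𝒪_X-module and E a finite locally free 𝒪_X-module. Then E ⊗ I
is an injective 𝒪_X-module. (The published statement is for ringed spaces; it is stated here for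
schemes.) -/
theorem result {X : Scheme.{u}} (I E : X.Modules) [Injective I]
    (hE : FlatMod.IsFinLocFree E) : Injective (CohB1.tensorMod E I) := by
  refine Groth.Agent.W7Baer.injective_of_locally _ fun x => ?_
  obtain ⟨U, n, hxU, ⟨eE⟩⟩ := hE x
  refine ⟨U, hxU, ?_⟩
  let J := I.restrict U.ι
  haveI : Injective J := Groth.Agent.W7ExtZero.injective_restrict U I inferInstance
  obtain ⟨e⟩ := _root_.TMul.nonempty_restrictTensorIso U.ι E I
  let T := Groth.Agent.S0927.tens (N := J)
  haveI : Limits.PreservesFiniteBiproducts T := Functor.preservesFiniteBiproductsOfAdditive T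
  haveI : Limits.HasFiniteBiproducts U.toScheme.Modules := Abelian.hasFiniteBiproducts
  let O : Fin n → U.toScheme.Modules := fun _ => Coh.structureModule U.toScheme
  haveI : ∀ i, Injective ((T.obj ∘ O) i) := fun _ =>
    Injective.of_iso (_root_.SecTwist.unitorR J).symm inferInstance
  have h1 : Injective (T.obj (∐ O)) :=
    Injective.of_iso ((T.mapIso (Limits.biproduct.isoCoproduct O).symm ≪≫ T.mapBiproduct O).symm) inferInstance
  exact Injective.of_iso ((_root_.TMul.commIso J (FlatMod.freeMod U.toScheme n)) ≪≫
    _root_.PicGrp.tensorModIso eE.symm (Iso.refl J) ≪≫ e) h1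

end Groth.Agent.S0891
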