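import Groth.Statements.S0892
import Groth.Agent.DCohLocus.FreeLocus
import Mathlib

set_option autoImplicit false
set_option backward.isDefEq.respectTransparency false
set_option backward.isDefEq.respectTransparency.types false
universe u
open CategoryTheory
attribute [local instance] HasDerivedCategory.standard
open DCoh CategoryTheory.Limits AlgebraicGeometry

namespace Groth.Agent.S0892

open AlgebraicGeometry in
/-- Let X be a scheme and E a perfect object of D(O_X). Then the set U of points x such that for every i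
the stalk H^i(E)_x is a finite free O_{X,x}-module is open, all cohomology sheaves H^i(E) are finite
locally free over U, and every open W over which all H^i(E) are finite locally free is contained in
U. (Stated for schemes; the published statement is for ringed spaces all of whose stalks of the
structure sheaf are local rings.) -/
theorem result {X : Scheme.{u}} (E : DCoh.D X) (hE : DCoh.IsPerfect E) :
    ∃ U : X.Opens,
      (U : Set X) = {x : X | ∀ i : ℤ, Module.Free (X.presheaf.stalk x) ((DCoh.HD E i).presheaf.stalk x) ∧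
        Module.Finite (X.presheaf.stalk x) ((DCoh.HD E i).presheaf.stalk x)} ∧
      (∀ i : ℤ, FlatMod.IsFinLocFree ((DCoh.HD E i).restrict U.ι)) ∧
      ∀ W : X.Opens, (∀ i : ℤ, FlatMod.IsFinLocFree ((DCoh.HD E i).restrict W.ι)) → W ≤ U := by
  let S : Set X := {x : X | ∀ i : ℤ, DCohLocus.FreeAt (DCoh.HD E i) x}
  have key : ∀ x ∈ S, ∃ (W : Scheme.{u}) (j : W ⟶ X) (_ : IsOpenImmersion j), x ∈ Set.range j.base ∧
      Set.range j.base ⊆ S ∧ ∀ i, FlatMod.IsFinLocFree ((DCoh.HD E i).restrict j) := by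
    intro x hxS
    obtain ⟨V, hxV, hV⟩ := hE x
    let F := (DerivedCategory.Q : _ ⥤ DCoh.D X).objPreimage E
    let e₀ : DCoh.toD X F ≅ E := DerivedCategory.Q.objObjPreimageIso E
    obtain ⟨P, hP, ⟨iP⟩⟩ := hV F ⟨e₀⟩
    let eH : ∀ i, P.homology i ≅ (DCoh.HD E i).restrict V.ι := fun i =>
      (KFlat.hdIso P i).symm ≪≫ (DerivedCategory.homologyFunctor _ i).mapIso iP.symm ≪≫ KFlat.hdIso _ i ≪≫
        DCohLocus.homologyRestr V.ι F i ≪≫ (Scheme.Modules.restrictFunctor V.ι).mapIso
          ((KFlat.hdIso F i).symm ≪≫ (DerivedCategory.homologyFunctor _ i).mapIso e₀)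
    obtain ⟨W, hxW, hW⟩ := DCohLocus.exists_good hP (⟨x, hxV⟩ : V) fun i =>
      DCohLocus.freeAt_of_iso (eH i).symm ((DCohLocus.freeAt_restrict_iff _ V ⟨x, hxV⟩).2 (hxS i))
    refine ⟨W, W.ι ≫ V.ι, inferInstance, ⟨⟨⟨x, hxV⟩, hxW⟩, rfl⟩, ?_, fun i => ?_⟩
    · rintro _ ⟨w, rfl⟩ i
      refine (DCohLocus.freeAt_restrict_iff _ V w.1).1 (DCohLocus.freeAt_of_iso (eH i) ?_)
      exact (DCohLocus.freeAt_restrict_iff _ W w).1 (DCohLocus.freeAt_of_isFinLocFree (hW i) w)
    · exact DQCoh.isFinLocFree_of_iso' ((Scheme.Modules.restrictFunctor W.ι).mapIso (eH i) ≪≫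
        ((Scheme.Modules.restrictFunctorComp W.ι V.ι).app (DCoh.HD E i)).symm) (hW i)
  have hopen : IsOpen S := isOpen_iff_forall_mem_open.2 fun x hx => by
    obtain ⟨W, j, hj, hxr, hsub, -⟩ := key x hx
    exact ⟨_, hsub, j.isOpenEmbedding.isOpen_range, hxr⟩
  refine ⟨⟨S, hopen⟩, rfl, fun i => ?_, fun W hW x hx i => ?_⟩
  · refine DQCoh.isFinLocFree_of_local fun u => ?_
    obtain ⟨W, j, hj, ⟨w, hw⟩, hsub, hfree⟩ := key u.1 u.2
    let O : X.Opens := ⟨S, hopen⟩
    let k : W ⟶ (O : Scheme.{u}) := IsOpenImmersion.lift O.ι j (by rw [Scheme.Opens.range_ι]; exact hsub)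
    have hk : k ≫ O.ι = j := IsOpenImmersion.lift_fac _ _ _
    haveI : IsOpenImmersion (k ≫ O.ι) := by rw [hk]; infer_instance
    haveI : IsOpenImmersion k := IsOpenImmersion.of_comp k O.ι
    refine ⟨W, k, inferInstance, w, Subtype.ext ?_, DQCoh.isFinLocFree_of_iso' ?_ (hfree i)⟩
    · refine Eq.trans ?_ hw
      change O.ι.base (k.base w) = _
      rw [← Scheme.Hom.comp_apply, hk]
    · exact (Scheme.Modules.restrictFunctorCongr hk).symm.app _ ≪≫ (Scheme.Modules.restrictFunctorComp k O.ι).app _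
  · exact (DCohLocus.freeAt_restrict_iff _ W ⟨x, hx⟩).1 (DCohLocus.freeAt_of_isFinLocFree (hW i) ⟨x, hx⟩)

end Groth.Agent.S0892
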