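import Groth.Statements.S0893
import Groth.Agent.DCohCpt.Vanish

set_option autoImplicit false
universe u
open CategoryTheory
attribute [local instance] HasDerivedCategory.standard
open DCoh

namespace Groth.Agent.S0893

open CategoryTheory.Limits in
/-- change of index universe -/
theorem finFac_ulift {D : Type*} [Category D] [Preadditive D] {K : D} {T : Type u} (Y : T → D) [HasCoproduct Y]
    [HasCoproduct fun i : ULift.{u + 1} T => Y i.down] (h : Groth.Agent.PerfGen.FinFac K Y) :
    Groth.Agent.PerfGen.FinFac K (fun i : ULift.{u + 1} T => Y i.down) := by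
  intro φ
  obtain ⟨s, p, hp⟩ := h (φ ≫ Sigma.desc fun i => Sigma.ι Y i.down)
  refine ⟨s.map ⟨ULift.up, ULift.up_injective⟩, fun i => p i.down, ?_⟩
  have e : (Sigma.desc fun i : ULift.{u + 1} T => Sigma.ι Y i.down) ≫
      (Sigma.desc fun t => Sigma.ι (fun i : ULift.{u + 1} T => Y i.down) ⟨t⟩) = 𝟙 _ :=
    Sigma.hom_ext _ _ fun i => by simp
  rw [← Category.comp_id φ, ← e, ← Category.assoc, hp, Preadditive.sum_comp, Finset.sum_map]
  exact Finset.sum_congr rfl fun t _ => by simp

open AlgebraicGeometry CategoryTheory.Limits in
/-- Schemes; a quasi-compact quasi-separated scheme satisfies the topological hypotheses of the source: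
for a perfect object K of D(O_X) on a quasi-compact quasi-separated scheme X: (a) For every family
(M_i) of objects of D(O_X) which are uniformly bounded below and whose direct sum exists, the
canonical map ⊕_i Hom(K, M_i) -> Hom(K, ⊕_i M_i) is bijective. (b) If moreover there is d with
H^i(X, F) = 0 for all i > d and all O_X-modules F, the same holds for every family whose direct sum
exists. (Index types are lifted one universe because morphism sets of this model of D(O_X) live one
universe up.) -/
theorem result {X : Scheme.{u}} [CompactSpace X] [QuasiSeparatedSpace X]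
    (K : DCoh.D X) (hK : DCoh.IsPerfect K) :
    (∀ (I : Type u) (M : I → DCoh.D X) [HasCoproduct fun i : ULift.{u + 1} I => M i.down] (a : ℤ),
      (∀ i, (M i).IsGE a) →
      Function.Bijective (CohDer.homSumToHomCoprod K (fun i : ULift.{u + 1} I => M i.down))) ∧
    ((∃ d : ℕ, ∀ (F : X.Modules) (i : ℕ), d < i → Subsingleton (Coh.HH X F i)) →
      ∀ (I : Type u) (M : I → DCoh.D X) [HasCoproduct fun i : ULift.{u + 1} I => M i.down],
      Function.Bijective (CohDer.homSumToHomCoprod K (fun i : ULift.{u + 1} I => M i.down))) := by
  refine ⟨fun I M _ a hM => ?_, fun ⟨d, hd⟩ I M _ => ?_⟩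
  · haveI : HasColimitsOfShape (Discrete I) (DCoh.D X) := Groth.Agent.DQPush.hasCoproducts_D X I
    exact (Groth.Agent.PerfGen.bijective_homSum_iff K _).2
      (finFac_ulift M (Groth.Agent.DCohCpt.cptBdd_perfect X hK a M hM))
  · haveI : HasColimitsOfShape (Discrete I) (DCoh.D X) := Groth.Agent.DQPush.hasCoproducts_D X I
    exact (Groth.Agent.PerfGen.bijective_homSum_iff K _).2
      (finFac_ulift M (Groth.Agent.DCohCpt.finFac_of_coh hd hK M))

end Groth.Agent.S0893
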