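import Groth.Statements.S0894
import Mathlib

set_option autoImplicit false
universe u
open CategoryTheory
open Hyper

set_option backward.isDefEq.respectTransparency false
set_option backward.isDefEq.respectTransparency.types false

namespace Groth.Agent.S0894

open Opposite in
/-- For a hypercovering K of an object X of a site with fibre products (a simplicial semi-representable
object over X; coskeleta are assumed to exist): (1) for each n the family K_n is a covering of X,
and (2) every face map d_i : K_{n+1} -> K_n is a covering morphism of semi-representable objects. -/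
theorem result {C : Type u} [SmallCategory C] [Limits.HasPullbacks C]
    (J : GrothendieckTopology C) (X : C) (K : SimplicialObject (Limits.FormalCoproduct.{u} (Over X)))
    [∀ (n : ℕ) (F : (SimplexCategory.Truncated n)ᵒᵖ ⥤ Limits.FormalCoproduct.{u} (Over X)),
      (SimplexCategory.Truncated.inclusion n).op.HasRightKanExtension F]
    (hK : Hyper.IsHypercovering J X K) :
    (∀ n : ℕ, Sieve.ofArrows (fun i => ((K.obj (op (SimplexCategory.mk n))).obj i).left)
      (fun i => ((K.obj (op (SimplexCategory.mk n))).obj i).hom) ∈ J X) ∧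
    ∀ (n : ℕ) (i : Fin (n + 2)), Hyper.IsSRCovering (J.over X) (K.δ i) := by
  constructor
  · intro n
    let s : K.obj (op (SimplexCategory.mk 0)) ⟶ K.obj (op (SimplexCategory.mk n)) :=
      K.map (SimplexCategory.const (SimplexCategory.mk n) (SimplexCategory.mk 0) 0).op
    refine J.superset_covering (fun V h hh => ?_) hK.1
    obtain ⟨W, w, _, ⟨i⟩, rfl⟩ := hh
    exact ⟨_, w ≫ (s.φ i).left, _, ⟨s.f i⟩, by rw [Category.assoc, Over.w]⟩ 
  · intro n i
    obtain ⟨g, hg⟩ : ∃ g : K.obj (op (SimplexCategory.mk n)) ⟶ K.obj (op (SimplexCategory.mk (n + 1))),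
        g ≫ K.δ i = 𝟙 _ := by
      induction i using Fin.lastCases with
      | last => exact ⟨K.σ (Fin.last n), by simpa using K.δ_comp_σ_succ (i := Fin.last n)⟩
      | cast j => exact ⟨K.σ j, K.δ_comp_σ_self⟩
    intro j
    obtain ⟨hf, hφ⟩ := (Limits.FormalCoproduct.hom_ext_iff' _ _).mp hg j
    refine GrothendieckTopology.superset_covering _ (fun V h _ => ?_) ((J.over X).top_mem _)
    refine ⟨_, h ≫ g.φ j, _, Presieve.ofArrows.mk (⟨g.f j, hf⟩ : {a // (K.δ i).f a = j}), ?_⟩
    simp only [Category.assoc]
    have e : g.φ j ≫ (K.δ i).φ (g.f j) ≫ eqToHom (congrArg (K.obj (op (SimplexCategory.mk n))).obj hf) = 𝟙 _ := by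
      simpa using hφ
    rw [e, Category.comp_id]

end Groth.Agent.S0894
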