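import Groth.Statements.S0898
import Mathlib
import Groth.Prelude.Def_Hyper

set_option autoImplicit false
universe u
open CategoryTheory
open Hyper

namespace Groth.Agent.S0898

open CategoryTheory in
lemma aux_cancel {C : Type*} [Category C] {Y X Z W : C} (a : Y ⟶ X) (f : X ⟶ Z) (h : Z = W) (h' : W = Z) :
    (a ≫ f ≫ eqToHom h) ≫ eqToHom h' = a ≫ f := by
  subst h; simp

open CategoryTheory.Limits in
/-- Parts (1) and (2), about covering morphisms between semi-representable objects (formal coproducts)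
of a site: (1) the composite of two covering morphisms is a covering, and (2) for a site with fibre
products, the base change of a covering K -> L along any L' -> L (which exists) is a covering L' x_L
K -> L'. -/
theorem result {C : Type u} [SmallCategory C] (J : GrothendieckTopology C) :
    (∀ {K L M : FormalCoproduct.{u} C} (f : K ⟶ L) (g : L ⟶ M),
      Hyper.IsSRCovering J f → Hyper.IsSRCovering J g → Hyper.IsSRCovering J (f ≫ g)) ∧
    (∀ [HasPullbacks C] {K L L' : FormalCoproduct.{u} C} (f : K ⟶ L) (g : L' ⟶ L),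
      Hyper.IsSRCovering J f → HasPullback g f ∧ ∀ [HasPullback g f], Hyper.IsSRCovering J (pullback.fst g f)) := by
  open CategoryTheory CategoryTheory.Limits in
  refine ⟨fun {K L M} f g hf hg j => ?_, fun {_ K L L'} f g hf => ⟨inferInstance, fun {_} j => ?_⟩⟩
  · refine J.transitive (hg j) _ fun Y h hh => ?_
    obtain ⟨⟨l, rfl⟩, a, rfl⟩ := (Sieve.mem_ofArrows_iff _ _ _).1 hh
    refine J.superset_covering (fun Z v hv => ?_) (J.pullback_stable a (hf l))
    obtain ⟨⟨i, hi⟩, b, hb⟩ := (Sieve.mem_ofArrows_iff _ _ _).1 hv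
    subst hi
    refine (Sieve.mem_ofArrows_iff _ _ _).2 ⟨⟨i, rfl⟩, b, ?_⟩
    simp only [eqToHom_refl, Category.comp_id] at hb ⊢
    rw [← Category.assoc, hb]
    simp
  · refine J.superset_covering (fun Y v hv => ?_) (J.pullback_stable (g.φ j) (hf (g.f j)))
    obtain ⟨⟨i, hi⟩, a, ha⟩ := (Sieve.mem_ofArrows_iff _ _ _).1 hv
    let p₁ : (FormalCoproduct.incl C).obj Y ⟶ L' := FormalCoproduct.Hom.fromIncl j v
    let p₂ : (FormalCoproduct.incl C).obj Y ⟶ K := FormalCoproduct.Hom.fromIncl i a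
    have hp : p₁ ≫ g = p₂ ≫ f := FormalCoproduct.hom_ext (funext fun _ => hi.symm) fun _ => by
      show (v ≫ g.φ j) ≫ _ = a ≫ f.φ i
      rw [ha]
      exact aux_cancel _ _ _ _
    obtain ⟨l, hl⟩ : ∃ l : (FormalCoproduct.incl C).obj Y ⟶ pullback g f, l ≫ pullback.fst g f = p₁ :=
      ⟨pullback.lift p₁ p₂ hp, pullback.lift_fst _ _ _⟩
    obtain ⟨h1, h2⟩ := (FormalCoproduct.hom_ext_iff _ _).1 hl
    refine (Sieve.mem_ofArrows_iff _ _ _).2 ⟨⟨l.f PUnit.unit, congrFun h1 PUnit.unit⟩, l.φ PUnit.unit, ?_⟩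
    exact (h2 PUnit.unit).symm.trans (Category.assoc _ _ _)

end Groth.Agent.S0898
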