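import Groth.Statements.S0900
import Mathlib
import Groth.Agent.RlimDer.Basic

set_option autoImplicit false
set_option backward.isDefEq.respectTransparency false
universe v u
open CategoryTheory
open CohDer

namespace Groth.Agent.S0900

open CategoryTheory.Limits in
/-- Let F : A -> B be an additive functor between abelian categories with A Grothendieck abelian, B
having exact countable products (here: ℕ-indexed products exist and preserve epimorphisms) and F
commuting with ℕ-indexed products. Then the total right derived functor RF : D(A) -> D(B) (whose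
existence is assumed as an instance argument; it exists because A has enough K-injective complexes)
sends a derived limit of an inverse system (K_n) to a derived limit of (RF K_n). The relevant
countable products in the derived categories are assumed to exist. -/
theorem result {A : Type u} [Category.{v} A] [Abelian A] [IsGrothendieckAbelian.{v} A]
    [HasDerivedCategory.{v} A] {B : Type u} [Category.{v} B] [Abelian B] [HasDerivedCategory.{v} B]
    [HasProductsOfShape ℕ B] [(lim : (Discrete ℕ ⥤ B) ⥤ B).PreservesEpimorphisms]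
    (F : A ⥤ B) [F.Additive] [PreservesLimitsOfShape (Discrete ℕ) F]
    [(F.mapHomotopyCategory (ComplexShape.up ℤ) ⋙ DerivedCategory.Qh).HasRightDerivedFunctor
      (HomotopyCategory.quasiIso A (ComplexShape.up ℤ))]
    (K : ℕ → DerivedCategory A) (t : ∀ n, K (n + 1) ⟶ K n) (L : DerivedCategory A) [HasProduct K]
    [HasProduct fun n => ((F.mapHomotopyCategory (ComplexShape.up ℤ) ⋙ DerivedCategory.Qh).totalRightDerived
      DerivedCategory.Qh (HomotopyCategory.quasiIso A (ComplexShape.up ℤ))).obj (K n)]
    (hL : DCoh.IsRlim K t L) :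
    DCoh.IsRlim
      (fun n => ((F.mapHomotopyCategory (ComplexShape.up ℤ) ⋙ DerivedCategory.Qh).totalRightDerived
        DerivedCategory.Qh (HomotopyCategory.quasiIso A (ComplexShape.up ℤ))).obj (K n))
      (fun n => ((F.mapHomotopyCategory (ComplexShape.up ℤ) ⋙ DerivedCategory.Qh).totalRightDerived
        DerivedCategory.Qh (HomotopyCategory.quasiIso A (ComplexShape.up ℤ))).map (t n))
      (((F.mapHomotopyCategory (ComplexShape.up ℤ) ⋙ DerivedCategory.Qh).totalRightDerived
        DerivedCategory.Qh (HomotopyCategory.quasiIso A (ComplexShape.up ℤ))).obj L) := by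
  haveI := RlimDer.hasExactLimitsOfShape (B := B)
  haveI : HasProductsOfShape ℕ A := inferInstance
  have hres : ∀ K : CochainComplex A ℤ, ∃ (I : CochainComplex A ℤ) (f : K ⟶ I),
      I.IsKInjective ∧ QuasiIso f := fun K => by
    obtain ⟨I, f, hI, hf, -⟩ := KInj.exists_kInjective K
    exact ⟨I, f, hI, hf⟩
  let W := HomotopyCategory.quasiIso A (ComplexShape.up ℤ)
  let G := F.mapHomotopyCategory (ComplexShape.up ℤ) ⋙ DerivedCategory.Qh
  let RF := G.totalRightDerived DerivedCategory.Qh W
  let α : G ⟶ DerivedCategory.Qh ⋙ RF := G.totalRightDerivedUnit DerivedCategory.Qh W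
  haveI : RF.IsRightDerivedFunctor α W := inferInstance
  haveI : RF.Additive := RlimDer.additive RF α hres
  haveI := RlimDer.preservesLimit RF α hres K
  obtain ⟨a, c, hT⟩ := hL
  obtain ⟨c', hT'⟩ := RlimDer.exists_triangle RF α hres _ _ _ hT
  let e := PreservesProduct.iso RF K
  let Δ' : (∏ᶜ fun n => RF.obj (K n)) ⟶ ∏ᶜ fun n => RF.obj (K n) :=
    Pi.lift fun n => Pi.π (fun n => RF.obj (K n)) n -
      Pi.π (fun n => RF.obj (K n)) (n + 1) ≫ RF.map (t n)
  let Δ : ∏ᶜ K ⟶ ∏ᶜ K := Pi.lift fun n => Pi.π K n - Pi.π K (n + 1) ≫ t n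
  have c₁ : (RF.map a ≫ e.hom) ≫ e.inv = 𝟙 _ ≫ RF.map a := by simp
  have c₂ : Δ' ≫ e.inv = e.inv ≫ RF.map Δ := by
    rw [← cancel_mono e.hom, Category.assoc, Category.assoc, Iso.inv_hom_id, Category.comp_id, ← cancel_epi e.hom,
      Iso.hom_inv_id_assoc]
    refine Pi.hom_ext _ _ fun n => ?_
    simp [e, Δ, Δ', ← Functor.map_comp, ← Functor.map_sub]
  have c₃ : (e.inv ≫ c') ≫ (shiftFunctor (DerivedCategory B) (1 : ℤ)).map (𝟙 (RF.obj L)) = e.inv ≫ c' := by
    simp
  exact ⟨RF.map a ≫ e.hom, e.inv ≫ c', Pretriangulated.isomorphic_distinguished _ hT' _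
    (Pretriangulated.Triangle.isoMk _ _ (Iso.refl _) e.symm e.symm c₁ c₂ c₃)⟩

end Groth.Agent.S0900
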