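import Groth.Statements.S0907
import Groth.Agent.HypSR.UnivOver

set_option autoImplicit false
universe u
open CategoryTheory
open Hyper

set_option backward.isDefEq.respectTransparency false
set_option backward.isDefEq.respectTransparency.types false

namespace Groth.Agent.S0907

open TopologicalSpace Opposite CategoryTheory.Limits in
/-- Phrased in the site of opens of X, with X the top open: let B be a basis for the topology of X. Then
there is a hypercovering K of X such that every open occurring in every K_n belongs to B. -/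
theorem result {X : TopCat.{u}} (B : Set (Opens X)) (hB : Opens.IsBasis B)
    [∀ (n : ℕ) (F : (SimplexCategory.Truncated n)ᵒᵖ ⥤ Limits.FormalCoproduct.{u} (Over (⊤ : Opens X))),
      (SimplexCategory.Truncated.inclusion n).op.HasRightKanExtension F] :
    ∃ K : SimplicialObject (FormalCoproduct.{u} (Over (⊤ : Opens X))),
      Hyper.IsHypercovering (Opens.grothendieckTopology X) ⊤ K ∧
      ∀ (n : ℕ) (i : (K.obj (op (SimplexCategory.mk n))).I),
        ((K.obj (op (SimplexCategory.mk n))).obj i).left ∈ B := by
  refine Groth.Agent.HypSR.exists_hypercovering_in_class B fun U => ?_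
  let S : Sieve U :=
    { arrows := fun W _ => ∃ V ∈ B, W ≤ V ∧ V ≤ U
      downward_closed := fun {W W' g} h k => by
        obtain ⟨V, hV, h1, h2⟩ := h
        exact ⟨V, hV, k.le.trans h1, h2⟩ }
  refine ⟨S, fun x hx => ?_, fun W g hg => ?_⟩
  · obtain ⟨V, hV, hxV, hVU⟩ := Opens.isBasis_iff_nbhd.1 hB hx
    exact ⟨V, homOfLE hVU, ⟨V, hV, le_rfl, hVU⟩, hxV⟩
  · obtain ⟨V, hV, h1, h2⟩ := hg
    exact ⟨V, homOfLE h1, homOfLE h2, hV, Subsingleton.elim _ _⟩

end Groth.Agent.S0907
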