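import Groth.Statements.S0917
import Mathlib
import Groth.Agent.KInj.Existence
import Groth.Agent.KInj.Lifting
import Groth.Agent.KInj.Basic

set_option autoImplicit false
set_option maxHeartbeats 800000
universe v u
open CategoryTheory
open CohDer

namespace Groth.Agent.S0917

open CategoryTheory CategoryTheory.Limits

variable {A : Type u} [Category.{v} A] [Abelian A] [IsGrothendieckAbelian.{v} A]

theorem acyclic_sigma {ι : Type v} (K : ι → CochainComplex A ℤ) (hK : ∀ i, (K i).Acyclic) :
    (∐ K).Acyclic := by
  let D : CochainComplex (Discrete ι ⥤ A) ℤ :=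
    { X := fun n => Discrete.functor fun i => (K i).X n
      d := fun p q => Discrete.natTrans fun i => (K i.as).d p q
      shape := fun p q h => by ext i; exact (K i.as).shape p q h
      d_comp_d' := fun p q r _ _ => by ext i; exact (K i.as).d_comp_d p q r }
  have hD : D.Acyclic := fun n => by
    rw [HomologicalComplex.exactAt_iff, ShortComplex.exact_iff_isZero_homology]
    refine Functor.isZero _ fun i => ?_
    refine IsZero.of_iso ?_ ((D.sc n).mapHomologyIso ((evaluation (Discrete ι) A).obj i)).symm
    exact (ShortComplex.exact_iff_isZero_homology _).1 (hK i.as n)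
  let P := ((colim (J := Discrete ι) (C := A)).mapHomologicalComplex (ComplexShape.up ℤ)).obj D
  have hP : P.Acyclic := fun n => ShortComplex.Exact.map (hD n) (colim (J := Discrete ι) (C := A))
  let c : Cofan K := Cofan.mk P fun i =>
    { f := fun n => colimit.ι (D.X n) ⟨i⟩
      comm' := fun p q _ => ι_colimMap (D.d p q) ⟨i⟩ }
  have hc : IsColimit c := by
    refine HomologicalComplex.isColimitOfEval _ _ fun n => ?_
    let w : Discrete.functor K ⋙ HomologicalComplex.eval A (ComplexShape.up ℤ) n ≅ D.X n :=
      Discrete.natIso fun i => Iso.refl _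
    exact (IsColimit.precomposeHomEquiv w (colimit.cocone (D.X n))).symm (colimit.isColimit _) |>.ofIsoColimit
      (Cocone.ext (Iso.refl _) fun i => (Category.comp_id _).trans (Category.id_comp _))
  intro n
  rw [HomologicalComplex.exactAt_iff_isZero_homology]
  exact ((P.exactAt_iff_isZero_homology n).1 (hP n)).of_iso
    ((HomologicalComplex.homologyFunctor A (ComplexShape.up ℤ) n).mapIso
      ((colimit.isColimit (Discrete.functor K)).coconePointUniqueUpToIso hc))

theorem mono_sigma_map {ι : Type v} {K L : ι → CochainComplex A ℤ} (f : ∀ i, K i ⟶ L i) [∀ i, Mono (f i)] :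
    Mono (Limits.Sigma.map f) := by
  haveI : IsGrothendieckAbelian.{v} (CochainComplex A ℤ) := inferInstance
  let α : Discrete.functor K ⟶ Discrete.functor L := Discrete.natTrans fun i => f i.as
  haveI : ∀ i, Mono (α.app i) := fun i => inferInstanceAs (Mono (f i.as))
  haveI : Mono α := NatTrans.mono_of_mono_app α
  exact inferInstanceAs (Mono (colim.map α))

/-- In a Grothendieck abelian category A, given a small family (K_i) of acyclic cochain complexes, there
are an endofunctor N of the category of cochain complexes and a natural transformation j from the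
identity to N such that for every complex M: each component of j_M is a monomorphism, j_M is a
quasi-isomorphism, and for every i and every morphism w : K_i -> M the composite w ≫ j_M is
homotopic to zero. -/
theorem result {A : Type u} [Category.{v} A] [Abelian A]
    [IsGrothendieckAbelian.{v} A] {ι : Type v} (K : ι → CochainComplex A ℤ)
    (hK : ∀ i (n : ℤ), Limits.IsZero ((K i).homology n)) :
    ∃ (N : CochainComplex A ℤ ⥤ CochainComplex A ℤ) (j : 𝟭 _ ⟶ N),
      ∀ M : CochainComplex A ℤ, (∀ n : ℤ, Mono ((j.app M).f n)) ∧ QuasiIso (j.app M) ∧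
        ∀ (i : ι) (w : K i ⟶ M), Nonempty (Homotopy (w ≫ j.app M) 0) := by
  let cone : ι → CochainComplex A ℤ := fun i => CochainComplex.mappingCone (𝟙 (K i))
  let inr : ∀ i, K i ⟶ cone i := fun i => CochainComplex.mappingCone.inr (𝟙 (K i))
  haveI : ∀ i, Mono (inr i) := fun i => by
    haveI : ∀ n, Mono ((inr i).f n) := fun n =>
      mono_of_mono_fac (CochainComplex.mappingCone.inr_f_snd_v (𝟙 (K i)) n)
    exact HomologicalComplex.mono_of_mono_f _ this
  let s : ∀ M : CochainComplex A ℤ, (∐ fun p : (Σ i, K i ⟶ M) => K p.1) ⟶ M := fun M => Sigma.desc fun p => p.2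
  let m : ∀ M : CochainComplex A ℤ, (∐ fun p : (Σ i, K i ⟶ M) => K p.1) ⟶ ∐ fun p : (Σ i, K i ⟶ M) => cone p.1 :=
    fun M => Limits.Sigma.map fun p => inr p.1
  let F : ∀ {M M' : CochainComplex A ℤ} (h : M ⟶ M'),
      (∐ fun p : (Σ i, K i ⟶ M) => cone p.1) ⟶ ∐ fun p : (Σ i, K i ⟶ M') => cone p.1 := fun {M M'} h =>
    Sigma.desc fun p => Sigma.ι (fun p : (Σ i, K i ⟶ M') => cone p.1) ⟨p.1, p.2 ≫ h⟩
  let N : CochainComplex A ℤ ⥤ CochainComplex A ℤ :=
    { obj := fun M => pushout (s M) (m M)
      map := fun {M M'} h => pushout.desc (h ≫ pushout.inl _ _) (F h ≫ pushout.inr _ _) (by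
        refine Sigma.hom_ext _ _ fun p => ?_
        have hc := congrArg (Sigma.ι (fun q : (Σ i, K i ⟶ M') => K q.1) ⟨p.1, p.2 ≫ h⟩ ≫ ·)
          (pushout.condition (f := s M') (g := m M'))
        simpa [s, m, F] using hc)
      map_id := fun M => by
        refine pushout.hom_ext ?_ ?_
        · simp [pushout.inl_desc]
        · refine Sigma.hom_ext _ _ fun p => ?_
          simp [F, pushout.inr_desc]
          rw [Category.comp_id]
      map_comp := fun {M M' M''} h h' => by
        refine pushout.hom_ext ?_ ?_
        · simp [pushout.inl_desc, pushout.inl_desc_assoc]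
        · refine Sigma.hom_ext _ _ fun p => ?_
          simp [F, pushout.inr_desc, pushout.inr_desc_assoc, Category.assoc]
          rw [Category.assoc] }
  let j : 𝟭 _ ⟶ N :=
    { app := fun M => pushout.inl _ _
      naturality := fun M M' h => (pushout.inl_desc _ _ _).symm }
  refine ⟨N, j, fun M => ?_⟩
  haveI : Mono (m M) := mono_sigma_map _
  haveI : Mono (j.app M) := inferInstanceAs (Mono (pushout.inl (s M) (m M)))
  refine ⟨fun n => inferInstanceAs (Mono ((j.app M).f n)), ?_, fun i w => ?_⟩
  · have hm : Groth.Agent.KInj.CokerAcyclic (m M) := Groth.Agent.KInj.cokerAcyclic_of_acyclic (m M)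
      (acyclic_sigma _ fun p => fun n => ((K p.1).exactAt_iff_isZero_homology n).2 (hK p.1 n))
      (acyclic_sigma _ fun p => Groth.Agent.KInj.mappingCone_id_acyclic _)
    have hS₁ : (ShortComplex.mk (m M) (cokernel.π (m M)) (cokernel.condition _)).ShortExact :=
      { exact := ShortComplex.exact_cokernel _ }
    have sq : IsPushout (m M) (s M) (pushout.inr (s M) (m M)) (j.app M) := (IsPushout.of_hasPushout (s M) (m M)).flip
    let e := cokernel.map _ _ _ _ sq.w
    haveI : IsIso e := isIso_cokernel_map_of_isPushout sq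
    have hS₂ : (ShortComplex.mk (j.app M) (cokernel.π (j.app M)) (cokernel.condition _)).ShortExact :=
      { exact := ShortComplex.exact_cokernel _ }
    refine Groth.Agent.KInj.quasiIso_of_shortExact hS₂ fun n => ?_
    rw [HomologicalComplex.exactAt_iff_isZero_homology]
    exact (((cokernel (m M)).exactAt_iff_isZero_homology n).1 ((Groth.Agent.KInj.cokerAcyclic_iff hS₁).1 hm n)).of_iso
      ((HomologicalComplex.homologyFunctor A (ComplexShape.up ℤ) n).mapIso (asIso e)).symm
  · have h0 : w ≫ j.app M = inr i ≫
        Sigma.ι (fun p : (Σ i, K i ⟶ M) => cone p.1) ⟨i, w⟩ ≫ pushout.inr (s M) (m M) := by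
      have hc := congrArg (Sigma.ι (fun q : (Σ i, K i ⟶ M) => K q.1) ⟨i, w⟩ ≫ ·)
        (pushout.condition (f := s M) (g := m M))
      simpa [s, m, j] using hc
    have h1 : Nonempty (Homotopy (inr i) 0) :=
      ⟨(Homotopy.ofEq (Category.id_comp (inr i)).symm).trans
        (HomologicalComplex.homotopyCofiber.inrCompHomotopy (𝟙 (K i)) (fun k => ⟨k - 1, by simp⟩))⟩
    exact ⟨(Homotopy.ofEq h0).trans ((h1.some.compRight _).trans (Homotopy.ofEq zero_comp))⟩

end Groth.Agent.S0917
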