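import Groth.Statements.S0919
import Mathlib

set_option autoImplicit false
universe v u
open CategoryTheory
open CohDer

namespace Groth.Agent.S0919

open CategoryTheory.Limits in
/-- Let A be a Grothendieck abelian category and F a contravariant functor from A to sets (a functor on
the opposite category). Then F is representable if and only if F turns all small colimits of A into
limits, i.e. preserves small limits as a functor on the opposite category. -/
theorem result {A : Type u} [Category.{v} A] [Abelian A]
    [IsGrothendieckAbelian.{v} A] (F : Aᵒᵖ ⥤ Type v) :
    F.IsRepresentable ↔ PreservesLimitsOfSize.{v, v} F := by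
  constructor
  · intro h
    exact preservesLimits_of_natIso F.reprW
  · intro h
    haveI : PreservesColimitsOfSize.{v, v} F.rightOp := preservesColimitsOfSize_rightOp F
    haveI := isLeftAdjoint_of_preservesColimits_of_isSeparating (isSeparator_separator A) F.rightOp
    obtain ⟨R, ⟨adj⟩⟩ := (inferInstance : F.rightOp.IsLeftAdjoint).exists_rightAdjoint
    refine Functor.RepresentableBy.isRepresentable (Y := R.obj (Opposite.op PUnit)) ⟨fun {X} => ?_, fun {X X'} f g => ?_⟩
    · exact ((adj.homEquiv X (Opposite.op PUnit)).symm.trans
        { toFun := fun t => t.unop PUnit.unit
          invFun := fun a => (TypeCat.ofHom fun _ => a).op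
          left_inv := fun t => Quiver.Hom.unop_inj (by ext ⟨⟩; rfl)
          right_inv := fun a => rfl })
    · show (ConcreteCategory.hom ((adj.homEquiv X (Opposite.op PUnit.{v + 1})).symm (f ≫ g)).unop) PUnit.unit = _
      erw [adj.homEquiv_naturality_left_symm]
      rfl

end Groth.Agent.S0919
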