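import Groth.Statements.S0923
import Groth.Agent.DQCoh.PerfCrit
import Groth.Agent.DerPerf.Tensor
import Mathlib

set_option autoImplicit false
universe u
open CategoryTheory
attribute [local instance] HasDerivedCategory.standard
open DCoh CategoryTheory.Limits AlgebraicGeometry

namespace Groth.Agent.S0923

open AlgebraicGeometry CategoryTheory.Limits in
/-- On a scheme X, an object E of D(𝒪_X) is perfect if and only if every point has an open neighbourhood
V such that the restriction to V of any complex representing E is isomorphic in D(𝒪_V) to a bounded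
complex each of whose terms is isomorphic to a finite free 𝒪_V-module. (The published statement is
for ringed spaces whose stalks are local rings and lists further equivalent conditions; here X is a
scheme and only this equivalence is stated.) -/
theorem result {X : Scheme.{u}} (E : DCoh.D X) :
    DCoh.IsPerfect E ↔ ∀ x : X, ∃ V : X.Opens, x ∈ V ∧
      ∀ F : CochainComplex X.Modules ℤ, Nonempty (DCoh.toD X F ≅ E) →
        ∃ (P : CochainComplex (V : Scheme.{u}).Modules ℤ) (a b : ℤ), DCoh.VanishesOutside P a b ∧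
          (∀ i : ℤ, ∃ n : ℕ, Nonempty (P.X i ≅ FlatMod.freeMod (V : Scheme.{u}) n)) ∧
          Nonempty (DerivedCategory.Q.obj ((DCoh.restrictCx V).obj F) ≅ DerivedCategory.Q.obj P) := by
  constructor
  · intro hE x
    obtain ⟨V, hx, hV⟩ := hE x
    let F₀ := (DerivedCategory.Q : _ ⥤ DCoh.D X).objPreimage E
    let e₀ : DCoh.toD X F₀ ≅ E := DerivedCategory.Q.objObjPreimageIso E
    obtain ⟨Ex, ⟨⟨a, b, hab⟩, hl⟩, ⟨i₀⟩⟩ := hV F₀ ⟨e₀⟩
    obtain ⟨W, hW, hfree⟩ := DerPerf.exists_common_free (Finset.Icc a b) (fun n => Ex.X n) (fun n _ => hl n)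
      (⟨x, hx⟩ : ↑(V : Scheme.{u}))
    let j : (W : Scheme.{u}) ⟶ X := W.ι ≫ V.ι
    obtain ⟨k, hk, hkj⟩ := DQCoh.exists_opens j
    let Pc := (DQCoh.rC k).obj ((DQCoh.rC W.ι).obj Ex)
    refine ⟨j.opensRange, ⟨⟨⟨x, hx⟩, hW⟩, rfl⟩, fun F ⟨eF⟩ => ⟨Pc, a, b, fun n hn => ?_, fun n => ?_, ⟨?_⟩⟩⟩
    · exact (Scheme.Modules.restrictFunctor k).map_isZero ((Scheme.Modules.restrictFunctor W.ι).map_isZero (hab n hn))
    · by_cases hn : n ∈ Finset.Icc a b
      · obtain ⟨m, ⟨g⟩⟩ := hfree n hn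
        exact ⟨m, ⟨(Scheme.Modules.restrictFunctor k).mapIso
          ((Scheme.Modules.restrictFunctorIsoPullback W.ι).app (Ex.X n) ≪≫ g) ≪≫
          (Scheme.Modules.restrictFunctorIsoPullback k).app _ ≪≫ DerPerf.pullFreeIso k m⟩⟩
      · refine ⟨0, ⟨((Scheme.Modules.restrictFunctor k).map_isZero
          ((Scheme.Modules.restrictFunctor W.ι).map_isZero (hab n (by rw [Finset.mem_Icc] at hn; omega)))).iso ?_⟩⟩
        rw [IsZero.iff_id_eq_zero]
        exact Sigma.hom_ext _ _ fun j => j.elim0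
    · exact (DQCoh.rdIso j.opensRange.ι F).symm ≪≫ (DQCoh.RD j.opensRange.ι).mapIso (eF ≪≫ e₀.symm) ≪≫
        (DQCoh.rdCongr hkj.symm).app _ ≪≫ (DQCoh.rdComp k j).app _ ≪≫
        (DQCoh.RD k).mapIso ((DQCoh.rdComp W.ι V.ι).app _ ≪≫
          (DQCoh.RD W.ι).mapIso (DQCoh.rdIso V.ι F₀ ≪≫ i₀) ≪≫ DQCoh.rdIso W.ι Ex) ≪≫ DQCoh.rdIso k _
  · intro h x
    obtain ⟨V, hx, hV⟩ := h x
    refine ⟨V, hx, fun F hF => ?_⟩
    obtain ⟨Pc, a, b, hab, hfree, hi⟩ := hV F hF
    refine ⟨Pc, ⟨⟨a, b, hab⟩, fun n => ?_⟩, hi⟩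
    obtain ⟨m, ⟨g⟩⟩ := hfree n
    exact DQCoh.isFinLocFree_of_iso' g.symm (fun y => ⟨⊤, m, trivial,
      ⟨(Scheme.Modules.restrictFunctorIsoPullback _).app _ ≪≫ DerPerf.pullFreeIso _ m⟩⟩)

end Groth.Agent.S0923
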