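import Groth.Statements.S0930
import Groth.Agent.DerPlus.Adjoint
import Groth.Agent.S0904

set_option autoImplicit false
universe u
open CategoryTheory
attribute [local instance] HasDerivedCategory.standard
open CategoryTheory.Limits CohTop

namespace Groth.Agent.S0930

/-- For continuous maps f : X -> Y and g : Y -> Z, the composite of the right derived functors Rf_* :
D^+(X) -> D^+(Y) and Rg_* : D^+(Y) -> D^+(Z) is isomorphic to R(g ∘ f)_* (existence of an
isomorphism of functors between bounded below derived categories). -/
theorem result {X Y Z : TopCat.{u}} (f : X ⟶ Y) (g : Y ⟶ Z) :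
    Nonempty ((CohTop.push f).rightDerivedFunctorPlus ⋙ (CohTop.push g).rightDerivedFunctorPlus ≅
      (CohTop.push (f ≫ g)).rightDerivedFunctorPlus) := by
  haveI : PreservesFiniteLimits (CohTop.push g) :=
    haveI : (CohTop.push g).IsRightAdjoint :=
      (TopCat.Sheaf.pullbackPushforwardAdjunction AddCommGrpCat.{u} g).isRightAdjoint
    inferInstance
  refine Groth.Agent.DerPlus.nonempty_comp_iso (CohTop.push f) (CohTop.push g) _ (Iso.refl _) fun I hI => ?_
  haveI := hI
  haveI := Groth.Agent.S0904.result f I
  refine (Groth.Agent.DerPlus.isIso_unit_single_iff _ _).2 ⟨inferInstance, fun i hi => ?_⟩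
  obtain ⟨q, rfl⟩ : ∃ q, i = q + 1 := ⟨i - 1, by omega⟩
  exact Functor.isZero_rightDerived_obj_injective_succ _ q _

end Groth.Agent.S0930
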