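import Groth.Statements.S0934
import Groth.Agent.FinLFLift.Basic

set_option autoImplicit false
universe u
open CategoryTheory
open Coh

namespace Groth.Agent.S0934

open AlgebraicGeometry in
/-- Schemes; E finite locally free, which on a scheme is locally the same as a direct summand of a
finite free module: let p : G -> F be an epimorphism of O_X-modules and φ : E -> F a morphism with E
finite locally free. Then every point has an open neighbourhood V and a morphism ψ : E|_V -> G|_V
with ψ ≫ p|_V = φ|_V. -/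
theorem result {X : Scheme.{u}} {E F G : X.Modules} (p : G ⟶ F) [Epi p] (φ : E ⟶ F)
    (hE : FlatMod.IsFinLocFree E) (x : X) :
    ∃ (V : X.Opens) (ψ : E.restrict V.ι ⟶ G.restrict V.ι), x ∈ V ∧
      ψ ≫ (Scheme.Modules.restrictFunctor V.ι).map p = (Scheme.Modules.restrictFunctor V.ι).map φ := by
  open CategoryTheory CategoryTheory.Limits AlgebraicGeometry in
  classical
  obtain ⟨U, n, hxU, ⟨e⟩⟩ := hE x
  obtain ⟨W, hxW, hW⟩ := FinLFLift.exists_lift_free ((Scheme.Modules.restrictFunctor U.ι).map p)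
    (e.inv ≫ (Scheme.Modules.restrictFunctor U.ι).map φ) ⟨x, hxU⟩
  let V : X.Opens := U.ι ''ᵁ W
  have hVU : V ≤ U := U.ι_image_le W
  let j := X.homOfLE hVU
  have hj : j.opensRange ≤ W := by
    rintro y ⟨v, rfl⟩
    obtain ⟨w, hw, hwv⟩ := v.2
    have hwv' : w = j v := Subtype.ext (hwv.trans (by simp [j]))
    exact hwv' ▸ hw
  obtain ⟨g, hg⟩ := hW j hj
  let κ : Scheme.Modules.restrictFunctor V.ι ≅
      Scheme.Modules.restrictFunctor U.ι ⋙ Scheme.Modules.restrictFunctor j :=
    Scheme.Modules.restrictFunctorCongr (X.homOfLE_ι hVU).symm ≪≫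
      Scheme.Modules.restrictFunctorComp j U.ι
  refine ⟨V, κ.hom.app E ≫ (Scheme.Modules.restrictFunctor j).map e.hom ≫ g ≫ κ.inv.app G,
    ⟨⟨x, hxU⟩, hxW, rfl⟩, ?_⟩
  simp only [Category.assoc]
  rw [← κ.inv.naturality p]
  simp only [Functor.comp_map, reassoc_of% hg, ← Functor.map_comp_assoc, ← Category.assoc e.hom,
    e.hom_inv_id, Category.id_comp]
  exact (κ.hom.naturality_assoc φ (κ.inv.app F)).symm.trans
    ((congrArg (_ ≫ ·) (κ.hom_inv_id_app F)).trans (Category.comp_id _))

end Groth.Agent.S0934
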