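import Groth.Statements.S0944
import Groth.Agent.DQCoh.PCCalc
import Mathlib

set_option autoImplicit false
set_option backward.isDefEq.respectTransparency false
set_option backward.isDefEq.respectTransparency.types false
universe u
open CategoryTheory
attribute [local instance] HasDerivedCategory.standard
open DCoh CategoryTheory.Limits AlgebraicGeometry

namespace Groth.Agent.S0944

open AlgebraicGeometry CategoryTheory.Limits in
/-- Let X be a scheme, E a strictly perfect complex of O_X-modules, F any complex of O_X-modules and α :
E → F a morphism in the derived category D(O_X). Then every point of X has an open neighbourhood V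
such that the restriction of α to D(O_V) is induced by an actual morphism of complexes E|_V → F|_V,
the two being compared through the canonical identification of restricting-then-localising with
localising-then-restricting. (Stated for schemes. The published statement has a second part, which
is not asserted here. Restriction D(O_X) → D(O_V) is the prelude's functor DCoh.restrictD, which is
available under the binder that restriction of O_X-modules to V preserves finite limits; the
conclusion is stated under that binder.) -/
theorem result {X : Scheme.{u}} {E F : CochainComplex X.Modules ℤ}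
    (hE : DCoh.IsStrictlyPerfect E) (α : DCoh.toD X E ⟶ DCoh.toD X F) (x : X) :
    ∃ V : X.Opens, x ∈ V ∧ ∀ [PreservesFiniteLimits (Scheme.Modules.restrictFunctor V.ι)],
      ∃ β : (DCoh.restrictCx V).obj E ⟶ (DCoh.restrictCx V).obj F,
        (DCoh.restrictD V.ι).map α =
          (Scheme.Modules.restrictFunctor V.ι).mapDerivedCategoryFactors.hom.app E ≫ DerivedCategory.Q.map β ≫
            (Scheme.Modules.restrictFunctor V.ι).mapDerivedCategoryFactors.inv.app F := by
  obtain ⟨F', g, s, hs, rfl⟩ := DerivedCategory.left_fac α
  obtain ⟨⟨a, b, hab⟩, hl⟩ := hE
  haveI hq : QuasiIso s := (DerivedCategory.isIso_Q_map_iff_quasiIso _ s).1 hs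
  obtain ⟨V, β, hV, ⟨H⟩⟩ := DQCoh.locally_lift g s ⟨⟨a, b, hab⟩, hl⟩ a (fun i hi => hab i (Or.inl hi))
    (fun i _ => inferInstance) inferInstance x
  refine ⟨V, hV, fun {_} => ⟨β, ?_⟩⟩
  rw [Functor.map_comp, Functor.map_inv, IsIso.comp_inv_eq, Category.assoc, Category.assoc,
    ← cancel_mono (DQCoh.rdIso V.ι F').hom]
  refine (Functor.mapDerivedCategoryFactors_hom_naturality _ g).trans ?_
  simp only [Category.assoc]
  erw [Functor.mapDerivedCategoryFactors_hom_naturality]
  erw [Iso.inv_hom_id_app_assoc, ← Functor.map_comp, DerivedCategory.Q_map_eq_of_homotopy (C := (V : Scheme.{u}).Modules) H]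

end Groth.Agent.S0944
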