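import Groth.Statements.S0947
import Groth.Agent.TopQC.GenColim

set_option autoImplicit false
universe u
open CategoryTheory
open CohTop

namespace Groth.Agent.S0947

open TopologicalSpace Opposite CategoryTheory.Limits in
/-- Let X be a spectral space, F an abelian sheaf on X, E ⊆ X a quasi-compact subset and W the set of
points of X specializing to some point of E. Then for every p the group H^p(W, F|_W) (cohomology of
the pullback of F to the subspace W) is isomorphic to the colimit of the groups H^p(U, F) over the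
quasi-compact open neighbourhoods U of E (existence of an isomorphism). -/
theorem result {X : TopCat.{u}} [SpectralSpace X] (E : Set X)
    (hE : IsCompact E) (F : CohTop.Ab X) (p : ℕ) :
    Nonempty ((colimit (ObjectProperty.ι (fun U : (Opens X)ᵒᵖ => E ⊆ (U.unop : Set X) ∧ IsCompact (U.unop : Set X)) ⋙
        (Sheaf.cohomologyPresheafFunctor (Opens.grothendieckTopology X) p).obj F) : AddCommGrpCat.{u}) ≃+
      CohTop.H ((CohTop.pull (TopCat.ofHom ⟨Subtype.val, continuous_subtype_val⟩ :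
        TopCat.of {x : X | ∃ e ∈ E, e ∈ closure {x}} ⟶ X)).obj F) p) := by
  refine (Groth.Agent.TopQC.GenEmb.nonempty_colim_H (X := X)
    (P := fun U : (Opens X)ᵒᵖ => E ⊆ (U.unop : Set X) ∧ IsCompact (U.unop : Set X))
    (ι := (TopCat.ofHom ⟨Subtype.val, continuous_subtype_val⟩ :
      TopCat.of {x : X | ∃ e ∈ E, e ∈ closure {x}} ⟶ X)) ?_ F p).map Iso.addCommGroupIsoToAddEquiv
  refine ⟨Topology.IsEmbedding.subtypeVal, fun U hU => hU.2,
    ⟨⊤, fun _ _ => trivial, by simpa using isCompact_univ⟩,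
    fun A hA B hB => ⟨A ⊓ B, ⟨fun x hx => ⟨hA.1 hx, hB.1 hx⟩,
      QuasiSeparatedSpace.inter_isCompact _ _ A.2 hA.2 B.2 hB.2⟩, le_rfl⟩, fun x => ?_⟩
  have h := Set.ext_iff.1 (Groth.Agent.SpecSpLib.generalizations_eq_sInter hE) x
  simp only [Set.mem_setOf_eq, Set.mem_sInter] at h
  constructor
  · rintro ⟨⟨x', e, he, hx⟩, rfl⟩ U hU
    exact h.1 ⟨e, he, specializes_iff_mem_closure.2 hx⟩ _ ⟨U.2, hU.2, hU.1⟩
  · intro hx
    obtain ⟨e, he, hxe⟩ := h.2 fun U ⟨hU, hUc, hEU⟩ => hx ⟨U, hU⟩ ⟨hEU, hUc⟩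
    exact ⟨⟨x, e, he, specializes_iff_mem_closure.1 hxe⟩, rfl⟩

end Groth.Agent.S0947
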