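import Groth.Statements.S0990
import Mathlib

set_option autoImplicit false
set_option backward.isDefEq.respectTransparency false
set_option backward.isDefEq.respectTransparency.types false
set_option maxHeartbeats 800000
universe w w' v v' u u'
open CategoryTheory CategoryTheory.Limits
open CohDer

namespace Groth.Agent.S0990

open CategoryTheory CategoryTheory.Limits

namespace Lift

variable {A : Type u} [Category.{v} A] [Abelian A] {Q : Type u'} [Category.{v'} Q] [Abelian Q]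
  (L : A ⥤ Q) [L.Additive] [PreservesFiniteLimits L] [PreservesFiniteColimits L]
  (Y : ℕ → Q) (dY : ∀ k, Y k ⟶ Y (k + 1))

/-- A lift of degree `k` with its incoming map. -/
structure St (k : ℕ) where
  P : A
  M : A
  g : P ⟶ M
  e : L.obj M ≅ Y k
  hg : L.map g ≫ e.hom ≫ dY k = 0

/-- One more degree. -/
structure Nx (k : ℕ) (s : St L Y dY k) where
  N : A
  d : s.M ⟶ N
  gd : s.g ≫ d = 0
  e : L.obj N ≅ Y (k + 1)
  comm : L.map d ≫ e.hom = s.e.hom ≫ dY k

variable {L Y dY}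

theorem nonempty_nx (hfr : ∀ {M B : A} (f : L.obj M ⟶ L.obj B), ∃ (N : A) (g : M ⟶ N) (t : B ⟶ N), IsIso (L.map t) ∧ f ≫ L.map t = L.map g)
    (hsurj : ∀ Z : Q, ∃ M : A, Nonempty (L.obj M ≅ Z)) (k : ℕ) (s : St L Y dY k) : Nonempty (Nx L Y dY k s) := by
  obtain ⟨B, ⟨eB⟩⟩ := hsurj (Y (k + 1))
  obtain ⟨N₀, d₀, t, ht, hd₀⟩ := hfr (s.e.hom ≫ dY k ≫ eB.inv)
  haveI := ht
  have h0 : L.map (s.g ≫ d₀) = 0 := by
    rw [L.map_comp, ← hd₀]
    simp only [Category.assoc]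
    rw [reassoc_of% s.hg, zero_comp]
  haveI : IsIso (L.map (cokernel.π (s.g ≫ d₀))) := by
    haveI : IsIso (cokernel.π (L.map (s.g ≫ d₀))) :=
      have : ∀ {a b : Q} (f : a ⟶ b) [HasCokernel f], f = 0 → IsIso (cokernel.π f) := by
        rintro a b f _ rfl; infer_instance
      this _ h0
    rw [show L.map (cokernel.π (s.g ≫ d₀)) = cokernel.π (L.map (s.g ≫ d₀)) ≫ (PreservesCokernel.iso L _).inv by
      simp]
    infer_instance
  refine ⟨⟨cokernel (s.g ≫ d₀), d₀ ≫ cokernel.π _, by rw [← Category.assoc, cokernel.condition],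
    (asIso (L.map t ≫ L.map (cokernel.π (s.g ≫ d₀)))).symm ≪≫ eB, ?_⟩⟩
  rw [L.map_comp, ← hd₀]
  simp

variable (hfr : ∀ {M B : A} (f : L.obj M ⟶ L.obj B), ∃ (N : A) (g : M ⟶ N) (t : B ⟶ N), IsIso (L.map t) ∧ f ≫ L.map t = L.map g)
  (hsurj : ∀ Z : Q, ∃ M : A, Nonempty (L.obj M ≅ Z)) (dd : ∀ k, dY k ≫ dY (k + 1) = 0) (s₀ : St L Y dY 0)

/-- The chosen next degree. -/
noncomputable def nx (k : ℕ) (s : St L Y dY k) : Nx L Y dY k s := (nonempty_nx hfr hsurj k s).some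

include dd in
theorem next_hg (k : ℕ) (s : St L Y dY k) :
    L.map (nx hfr hsurj k s).d ≫ (nx hfr hsurj k s).e.hom ≫ dY (k + 1) = 0 := by
  rw [reassoc_of% (nx hfr hsurj k s).comm, dd, comp_zero]

/-- All degrees. -/
noncomputable def sts : ∀ k, St L Y dY k
  | 0 => s₀
  | k + 1 => ⟨(sts k).M, (nx hfr hsurj k (sts k)).N, (nx hfr hsurj k (sts k)).d, (nx hfr hsurj k (sts k)).e,
      next_hg hfr hsurj dd k (sts k)⟩

/-- The objects. -/
noncomputable def obj (k : ℕ) : A := (sts hfr hsurj dd s₀ k).M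

/-- The differentials. -/
noncomputable def d (k : ℕ) : obj hfr hsurj dd s₀ k ⟶ obj hfr hsurj dd s₀ (k + 1) :=
  (nx hfr hsurj k (sts hfr hsurj dd s₀ k)).d

/-- The comparison. -/
noncomputable def e (k : ℕ) : L.obj (obj hfr hsurj dd s₀ k) ≅ Y k := (sts hfr hsurj dd s₀ k).e

theorem comm (k : ℕ) : L.map (d hfr hsurj dd s₀ k) ≫ (e hfr hsurj dd s₀ (k + 1)).hom =
    (e hfr hsurj dd s₀ k).hom ≫ dY k := (nx hfr hsurj k (sts hfr hsurj dd s₀ k)).comm

theorem init : s₀.g ≫ d hfr hsurj dd s₀ 0 = 0 := (nx hfr hsurj 0 s₀).gd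

theorem d_d (k : ℕ) : d hfr hsurj dd s₀ k ≫ d hfr hsurj dd s₀ (k + 1) = 0 :=
  (nx hfr hsurj (k + 1) (sts hfr hsurj dd s₀ (k + 1))).gd

end Lift

open scoped ZeroObject in
theorem exists_complex {A : Type u} [Category.{v} A] [Abelian A] {Q : Type u'} [Category.{v'} Q] [Abelian Q]
    (P : ObjectProperty A) [P.IsSerreClass] (L : A ⥤ Q) [L.IsLocalization P.isoModSerre] [L.Additive]
    [PreservesFiniteLimits L] [PreservesFiniteColimits L] (Y : CochainComplex Q ℤ) :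
    ∃ X : CochainComplex A ℤ, Nonempty ((L.mapHomologicalComplex (ComplexShape.up ℤ)).obj X ≅ Y) := by
  haveI : L.EssSurj := Localization.essSurj L P.isoModSerre
  haveI : PreservesFiniteLimits L.op := preservesFiniteLimits_op L
  haveI : PreservesFiniteColimits L.op := preservesFiniteColimits_op L
  have hsurj : ∀ Z : Q, ∃ M : A, Nonempty (L.obj M ≅ Z) := fun Z => ⟨_, ⟨L.objObjPreimageIso Z⟩⟩
  have hfr : ∀ {M B : A} (f : L.obj M ⟶ L.obj B), ∃ (N : A) (g : M ⟶ N) (t : B ⟶ N),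
      IsIso (L.map t) ∧ f ≫ L.map t = L.map g := by
    intro M B f
    obtain ⟨φ, hφ⟩ := Localization.exists_leftFraction L P.isoModSerre f
    exact ⟨φ.Y', φ.f, φ.s, Localization.inverts L P.isoModSerre _ φ.hs,
      hφ ▸ φ.map_comp_map_s L (Localization.inverts L P.isoModSerre)⟩
  have hfr' : ∀ {M B : Aᵒᵖ} (f : L.op.obj M ⟶ L.op.obj B), ∃ (N : Aᵒᵖ) (g : M ⟶ N) (t : B ⟶ N),
      IsIso (L.op.map t) ∧ f ≫ L.op.map t = L.op.map g := by
    intro M B f
    obtain ⟨φ, hφ⟩ := Localization.exists_rightFraction L P.isoModSerre f.unop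
    haveI : IsIso (L.map φ.s) := Localization.inverts L P.isoModSerre _ φ.hs
    refine ⟨Opposite.op φ.X', φ.f.op, φ.s.op, inferInstanceAs (IsIso (L.map φ.s).op), Quiver.Hom.unop_inj ?_⟩
    change L.map φ.s ≫ f.unop = L.map φ.f
    rw [hφ]
    exact φ.map_s_comp_map L (Localization.inverts L P.isoModSerre)
  have hsurj' : ∀ Z : Qᵒᵖ, ∃ M : Aᵒᵖ, Nonempty (L.op.obj M ≅ Z) := fun Z =>
    ⟨Opposite.op (L.objPreimage Z.unop), ⟨(L.objObjPreimageIso Z.unop).symm.op⟩⟩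
  let Yp : ℕ → Q := fun k => Y.X (Int.ofNat k)
  let dp : ∀ k, Yp k ⟶ Yp (k + 1) := fun k => Y.d _ _
  have ddp : ∀ k, dp k ≫ dp (k + 1) = 0 := fun k => Y.d_comp_d _ _ _
  let sp : Lift.St L Yp dp 0 := ⟨0, L.objPreimage (Y.X 0), 0, L.objObjPreimageIso (Y.X 0),
    by rw [L.map_zero, zero_comp]⟩
  let p := fun k => Lift.obj hfr hsurj ddp sp k
  let pd := fun k => Lift.d hfr hsurj ddp sp k
  let pe := fun k => Lift.e hfr hsurj ddp sp k
  let Yn : ℕ → Qᵒᵖ := fun k => Opposite.op (Y.X (-(k : ℤ)))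
  let dn : ∀ k, Yn k ⟶ Yn (k + 1) := fun k => (Y.d (-((k + 1 : ℕ) : ℤ)) (-(k : ℤ))).op
  have ddn : ∀ k, dn k ≫ dn (k + 1) = 0 := fun k => by
    simp [dn, ← op_comp, Y.d_comp_d]
  have hsn : L.op.map (pd 0).op ≫ (pe 0).symm.op.hom ≫ dn 0 = 0 := by
    apply Quiver.Hom.unop_inj
    change (Y.d (-((0 + 1 : ℕ) : ℤ)) (-((0 : ℕ) : ℤ)) ≫ (pe 0).inv) ≫ L.map (pd 0) = 0
    rw [Category.assoc, ← cancel_mono (pe 1).hom, Category.assoc, Category.assoc,
      Lift.comm hfr hsurj ddp sp 0, Iso.inv_hom_id_assoc, zero_comp]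
    exact Y.d_comp_d _ _ _
  let sn : Lift.St L.op Yn dn 0 := ⟨Opposite.op (p 1), Opposite.op (p 0), (pd 0).op, (pe 0).symm.op, hsn⟩
  let q := fun k => (Lift.obj hfr' hsurj' ddn sn k).unop
  let qd : ∀ k, q (k + 1) ⟶ q k := fun k => (Lift.d hfr' hsurj' ddn sn k).unop
  have qdd : ∀ k, qd (k + 1) ≫ qd k = 0 := fun k => congrArg Quiver.Hom.unop (Lift.d_d hfr' hsurj' ddn sn k)
  let qe : ∀ k, L.obj (q k) ≅ Y.X (-(k : ℤ)) := fun k => (Lift.e hfr' hsurj' ddn sn k).unop.symm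
  have qcomm : ∀ k, L.map (qd k) ≫ (qe k).hom = (qe (k + 1)).hom ≫ Y.d (-((k + 1 : ℕ) : ℤ)) (-(k : ℤ)) := by
    intro k
    rw [← cancel_epi (qe (k + 1)).inv, Iso.inv_hom_id_assoc, ← cancel_mono (qe k).inv]
    simp only [Category.assoc, Iso.hom_inv_id, Category.comp_id]
    exact congrArg Quiver.Hom.unop (Lift.comm hfr' hsurj' ddn sn k)
  let X : ℤ → A := fun n => match n with
    | Int.ofNat k => p k
    | Int.negSucc j => q (j + 1)
  let D : ∀ n, X n ⟶ X (n + 1) := fun n => match n with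
    | Int.ofNat k => pd k
    | Int.negSucc 0 => qd 0
    | Int.negSucc (j + 1) => qd (j + 1)
  have hD : ∀ n, D n ≫ D (n + 1) = 0 := fun n => match n with
    | Int.ofNat k => Lift.d_d hfr hsurj ddp sp k
    | Int.negSucc 0 => congrArg Quiver.Hom.unop (Lift.init hfr' hsurj' ddn sn)
    | Int.negSucc 1 => qdd 0
    | Int.negSucc (j + 2) => qdd (j + 1)
  let C : CochainComplex A ℤ := CochainComplex.of X D hD
  refine ⟨C, ⟨HomologicalComplex.Hom.isoOfComponents (fun n => match n with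
    | Int.ofNat k => pe k
    | Int.negSucc j => qe (j + 1)) ?_⟩⟩
  intro i j hij
  obtain rfl : i + 1 = j := hij
  change _ = L.map (C.d i (i + 1)) ≫ _
  rw [show C.d i (i + 1) = D i from CochainComplex.of_d _ _ i]
  match i with
  | Int.ofNat k => exact (Lift.comm hfr hsurj ddp sp k).symm
  | Int.negSucc 0 => exact (qcomm 0).symm
  | Int.negSucc (j + 1) => exact (qcomm (j + 1)).symm

/-- Let P be a Serre class in an abelian category A and let L : A ⥤ Q be a model of the quotient A/P,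
i.e. an exact functor to an abelian category which is a localization at the morphisms whose kernel
and cokernel satisfy P. Then the induced functor on derived categories D(A) ⥤ D(Q) is essentially
surjective. -/
theorem result {A : Type u} [Category.{v} A] [Abelian A] [HasDerivedCategory.{w} A]
    (P : ObjectProperty A) [P.IsSerreClass]
    {Q : Type u'} [Category.{v'} Q] [Abelian Q] [HasDerivedCategory.{w'} Q]
    (L : A ⥤ Q) [L.IsLocalization P.isoModSerre] [L.Additive] [PreservesFiniteLimits L] [PreservesFiniteColimits L] :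
    L.mapDerivedCategory.EssSurj := by
  refine ⟨fun Z => ?_⟩
  obtain ⟨Y, ⟨eY⟩⟩ : ∃ Y, Nonempty (DerivedCategory.Q.obj Y ≅ Z) :=
    ⟨_, ⟨(DerivedCategory.Q : _ ⥤ DerivedCategory _).objObjPreimageIso Z⟩⟩
  obtain ⟨X, ⟨eX⟩⟩ := exists_complex P L Y
  exact ⟨DerivedCategory.Q.obj X, ⟨L.mapDerivedCategoryFactors.app X ≪≫ DerivedCategory.Q.mapIso eX ≪≫ eY⟩⟩

end Groth.Agent.S0990
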