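import Groth.Statements.S10000
import Groth.Agent.FieldEmbed.Basic
import Groth.Agent.SpQS.LftField
import Groth.Agent.UnivInjMor.MonoUnram
import Groth.Agent.Weighting.Geom

set_option autoImplicit false
universe u
open CategoryTheory CategoryTheory.Limits AlgebraicGeometry
open AlgSp

namespace Groth.Agent.S10000

/-- For a morphism X ⟶ Y of algebraic spaces and an algebraically closed field k over S that is large
compared with X, X(k) surjects onto |X| ×_{|Y|} Y(k): every pair of a point x of |X| and a k-valued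
point of Y with the same image in |Y| comes from a k-valued point of X. (The published statement
measures largeness by a cardinal attached to X that bounds the residue fields of an etale atlas;
this row asks directly that every residue field of one surjective etale chart U of X have
cardinality smaller than that of k, which is how the bound enters the argument.) -/
theorem result {S : Scheme.{u}} {X Y : AlgSp.Space S} (f : X ⟶ Y)
    {U : Over S} (a : (AlgSp.yon S).obj U ⟶ X.obj) (ha : AlgSp.RepWith @Etale a) (has : AlgSp.RepWith @Surjective a)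
    (ybar : AlgSp.FieldPt Y.obj) (hy : ybar.IsGeometric)
    (hk : ∀ u : ↥U.left, Cardinal.mk ↥(U.left.residueField u) < Cardinal.mk ybar.K)
    (x : AlgSp.Points X.obj) (hx : AlgSp.Points.map f.hom x = AlgSp.Points.mk ybar) :
    ∃ xbar : (AlgSp.yon S).obj ybar.pt ⟶ X.obj, xbar ≫ f.hom = ybar.toHom ∧
      AlgSp.Points.ofPt xbar (IsLocalRing.closedPoint ybar.K) = x := by
  have : IsAlgClosed ybar.K := hy
  obtain ⟨V, b, hb, hbs⟩ := Y.property.atlas
  have hbe : AlgSp.LocP @Etale b := (Groth.Agent.AlgSpLib.isEtaleMor_iff_locP Y.property).1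
    (Groth.Agent.AlgSpLib.isEtaleMor_of_repWith' hb)
  have hbl : AlgSp.LocP @LocallyOfFiniteType b := fun A B p q h hp hq e =>
    Groth.Agent.AlgSpLib.etST_lft.of_etale _ (hbe p q h hp hq e)
  obtain ⟨η, hη⟩ := Groth.Agent.SpQS.exists_geometric_lift (AlgSp.IsAlgSpace.yon_obj V) Y.property hbl
    (Groth.Agent.AlgSpLib.isSurjectiveMor_of_repWith hbs) (str := ybar.str) ybar.toHom
  obtain ⟨m, rfl⟩ := Groth.Agent.AlgSpLib.exists_map_eq η
  obtain ⟨u, hu⟩ := Groth.Agent.AlgSpLib.ofPt_surjective has x
  obtain ⟨W, w₁, w₂, sq⟩ := Groth.Agent.AlgSpLib.exists_pullback Y.property.diag (a ≫ f.hom) b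
  have : Etale w₁.left := (Groth.Agent.AlgSpLib.repWith_yon_iff w₁).1 (Groth.Agent.AlgSpLib.repWith_baseChange sq.flip hb)
  have : LocallyQuasiFinite w₁.left := Groth.Agent.UnivInjMor.lqf_of_unramified _
  have hpt : AlgSp.Points.ofPt ybar.toHom (IsLocalRing.closedPoint ybar.K) = AlgSp.Points.mk ybar :=
    AlgSp.Points.ofPt_toHom ybar _
  obtain ⟨w, hw₁, hw₂⟩ := (Groth.Agent.AlgSpLib.ofPt_eq_iff sq u (m.left (IsLocalRing.closedPoint ybar.K))).1 (by
    rw [← Groth.Agent.AlgSpLib.ofPt_comp, hη, ← AlgSp.Points.map_ofPt, hu, hx, hpt])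
  obtain ⟨φ, hφ⟩ : ∃ φ : V.left.residueField (w₂.left w) ⟶ CommRingCat.of ybar.K,
      Spec.map φ ≫ V.left.fromSpecResidueField (w₂.left w) = m.left := by
    have key : ∀ v, v = m.left (IsLocalRing.closedPoint ybar.K) →
        ∃ φ : V.left.residueField v ⟶ CommRingCat.of ybar.K, Spec.map φ ≫ V.left.fromSpecResidueField v = m.left := by
      rintro _ rfl
      exact ⟨_, Scheme.descResidueField_stalkClosedPointTo_fromSpecResidueField ybar.K V.left m.left⟩
    exact key _ hw₂
  let _ : Algebra ↥(V.left.residueField (w₂.left w)) ↥(W.left.residueField w) := (w₂.left.residueFieldMap w).hom.toAlgebra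
  let _ : Algebra ↥(V.left.residueField (w₂.left w)) ybar.K := φ.hom.toAlgebra
  have hcard : Cardinal.mk ↥(W.left.residueField w) < Cardinal.mk ybar.K := by
    let _ : Algebra ↥(U.left.residueField (w₁.left w)) ↥(W.left.residueField w) := (w₁.left.residueFieldMap w).hom.toAlgebra
    have hfin : Module.Finite ↥(U.left.residueField (w₁.left w)) ↥(W.left.residueField w) :=
      Groth.Agent.Weighting.finite_residueFieldMap w₁.left w
    have hu' := hk (w₁.left w)
    rcases finite_or_infinite ↥(U.left.residueField (w₁.left w)) with hf | hi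
    · have : Finite ↥(W.left.residueField w) := Module.finite_of_finite ↥(U.left.residueField (w₁.left w))
      exact (Cardinal.mk_lt_aleph0).trans_le (Cardinal.aleph0_le_mk ybar.K)
    · exact (Algebra.IsAlgebraic.cardinalMk_le_max ↥(U.left.residueField (w₁.left w)) ↥(W.left.residueField w)).trans_lt
        (max_lt hu' ((Cardinal.aleph0_le_mk _).trans_lt hu'))
  obtain ⟨ψ⟩ := Groth.Agent.FieldEmbed.exists_algHom_of_card_lt ↥(V.left.residueField (w₂.left w))
    ↥(W.left.residueField w) ybar.K hcard
  have hψ : w₂.left.residueFieldMap w ≫ CommRingCat.ofHom ψ.toRingHom = φ := CommRingCat.hom_ext ψ.comp_algebraMap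
  let q := Spec.map (CommRingCat.ofHom ψ.toRingHom) ≫ W.left.fromSpecResidueField w
  have hq : q ≫ w₂.left = m.left := by
    show (Spec.map _ ≫ W.left.fromSpecResidueField w) ≫ w₂.left = m.left
    rw [Category.assoc, ← Scheme.Hom.SpecMap_residueFieldMap_fromSpecResidueField, ← Spec.map_comp_assoc]
    exact (congrArg (fun e => Spec.map e ≫ V.left.fromSpecResidueField (w₂.left w)) hψ).trans hφ
  let z : ybar.pt ⟶ W := Over.homMk q (by rw [← Over.w w₂, ← Category.assoc, hq, Over.w m])
  have hz : z ≫ w₂ = m := Over.OverMorphism.ext hq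
  refine ⟨(AlgSp.yon S).map (z ≫ w₁) ≫ a, ?_, ?_⟩
  · rw [Category.assoc, Functor.map_comp, Category.assoc, sq.w, ← Functor.map_comp_assoc, hz, hη]
  · rw [Groth.Agent.AlgSpLib.ofPt_comp, ← hu, ← hw₁]
    refine congrArg (fun p => AlgSp.Points.ofPt a (w₁.left p)) ?_
    exact (Scheme.Hom.comp_apply _ _ _).trans (Scheme.fromSpecResidueField_apply w _)

end Groth.Agent.S10000
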