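import Groth.Agent.SpDesc.EventSep
import Groth.Prelude.Def_AlgSp4
import Mathlib.AlgebraicGeometry.Morphisms.QuasiSeparated

set_option autoImplicit false
universe u
open CategoryTheory CategoryTheory.Limits AlgebraicGeometry
open AlgSp

set_option backward.isDefEq.respectTransparency false

namespace Groth.Agent.S10005

/-- Let `S` be a quasi-separated scheme and `X` the limit, in fppf sheaves over `S`, of a cofiltered
system `(X_i)` of quasi-compact algebraic spaces over `S`, each quasi-separated over `S`, whose
transition maps are affine. If `X` is separated over `S`, then `X_i` is separated over `S` for some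
`i`. (The published statement uses absolute separatedness and quasi-separatedness and puts no
condition on `S`; this row assumes `S` quasi-separated and takes both notions over `S`, which gives
the same quasi-separatedness and, when `S` is separated, the same separatedness.) -/
theorem result (S : Scheme.{u}) [QuasiSeparatedSpace S] {I : Type u} [SmallCategory I] [IsCofiltered I]
    (D : I ⥤ AlgSp.Sp S) (hD : ∀ i, AlgSp.IsAlgSpace (D.obj i))
    (hDa : ∀ (i j : I) (φ : i ⟶ j), AlgSp.IsAffineMor (D.map φ))
    (hqc : ∀ i, AlgSp.IsQuasiCompactSp (D.obj i)) (hqs : ∀ i, AlgSp.IsQuasiSeparatedSp (D.obj i))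
    (c : Cone D) (hc : IsLimit c)
    (hX : AlgSp.IsSeparatedSp c.pt) : ∃ i, AlgSp.IsSeparatedSp (D.obj i) := by
  have hiff : ∀ {F : AlgSp.Sp S} (f : F ⟶ (AlgSp.yon S).obj (Over.mk (𝟙 S))),
      AlgSp.IsSeparatedSp F ↔ AlgSp.IsSeparatedMor f := fun {F} f => by
    let e : pullback f f ≅ F ⨯ F :=
      { hom := prod.lift (pullback.fst f f) (pullback.snd f f)
        inv := pullback.lift prod.fst prod.snd (SpQS.isTerminalBase.hom_ext _ _)
        hom_inv_id := pullback.hom_ext (by simp) (by simp)
        inv_hom_id := prod.hom_ext (by simp) (by simp) }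
    have he : pullback.diagonal f ≫ e.hom = Limits.diag F := prod.hom_ext (by simp [e]) (by simp [e])
    show AlgSp.RepWith @IsClosedImmersion (Limits.diag F) ↔ AlgSp.RepWith @IsClosedImmersion (pullback.diagonal f)
    have : IsIso e.hom := e.isIso_hom
    rw [← he]
    exact AlgSpLib.repWith_comp_iso_iff _ e.hom
  obtain ⟨i₁⟩ := IsCofiltered.nonempty (C := I)
  obtain ⟨i₀, h⟩ := SpDesc.exists_eventually_separated D hD hDa c hc hqc hqs (AlgSp.IsAlgSpace.yon_obj _)
    ((repWith_diag_yon_iff @QuasiCompact _).2 (by
      show QuasiCompact (pullback.diagonal (𝟙 S))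
      infer_instance))
    (fun i => SpQS.baseStr (D.obj i)) (fun _ => SpQS.isTerminalBase.hom_ext _ _) i₁ ((hiff _).1 hX)
  exact ⟨i₀, (hiff _).2 (h i₀ (𝟙 _))⟩

end Groth.Agent.S10005
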