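import Groth.Agent.AlgSpLib.LimPres
import Groth.Prelude.Def_AlgSpRep

set_option autoImplicit false
universe u
open CategoryTheory CategoryTheory.Limits AlgebraicGeometry
open AlgSp

set_option backward.isDefEq.respectTransparency false

namespace Groth.Agent.S10026

/-- Let `a : F ⟶ G`, `b : G ⟶ H` be transformations of presheaves of sets on schemes over `S`. If `a ≫
b` and `b` are relatively limit preserving, then so is `a`. -/
theorem result (S : Scheme.{u}) {F G H : AlgSp.PSp S} (a : F ⟶ G) (b : G ⟶ H)
    (hab : AlgSp.IsRelLimitPreserving (a ≫ b)) (hb : AlgSp.IsRelLimitPreserving b) :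
    AlgSp.IsRelLimitPreserving a := by
  exact Groth.Agent.AlgSpLib.LimPres.to_isRelLimitPreserving (Groth.Agent.AlgSpLib.LimPres.of_comp (Groth.Agent.AlgSpLib.LimPres.of_isRelLimitPreserving hab) (Groth.Agent.AlgSpLib.LimPres.of_isRelLimitPreserving hb))

end Groth.Agent.S10026
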