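import Groth.Statements.S1003
import Groth.Agent.PerfGen.Results

set_option autoImplicit false
set_option backward.isDefEq.respectTransparency false
set_option backward.isDefEq.respectTransparency.types false
universe u
open CategoryTheory CategoryTheory.Limits AlgebraicGeometry
attribute [local instance] HasDerivedCategory.standard
open Perf

namespace Groth.Agent.S1003

/-- Let the scheme X be quasi-compact and quasi-separated and K an object of D_QCoh(O_X). Then K is
compact in D_QCoh(O_X) (maps from K into any small direct sum of objects of D_QCoh(O_X) are uniquely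
finite sums of maps into the summands) if and only if K is perfect. -/
theorem result (X : Scheme.{u}) [CompactSpace ↥X] [QuasiSeparatedSpace ↥X]
    (K : DCoh.D X) (hK : DCoh.IsQCohD K) :
    PerfAux.IsCompactObjRel.{u} (fun L : DCoh.D X => DCoh.IsQCohD L) K ↔ DCoh.IsPerfect K := by
  obtain ⟨hu, hc⟩ := Groth.Agent.PerfGen.isClosed_univ' (X := X)
  constructor
  · intro h
    refine Groth.Agent.PerfGen.isPerfect_of_cpt hu hc ((Groth.Agent.PerfGen.cpt_iff_bijective K
      ⟨hK, Groth.Agent.PerfGen.suppD_univ K⟩).2 ?_)
    exact fun ι Y _ hY => h ι Y fun i => (hY i).1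
  · intro h ι Y _ hY
    exact (Groth.Agent.PerfGen.bijective_homSum_iff K Y).2 (Groth.Agent.PerfGen.finFac_perfect X h Y hY)

end Groth.Agent.S1003
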