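import Groth.Statements.S10040
import Groth.Agent.SpApprox.AbsSpMain

set_option autoImplicit false
universe u
open CategoryTheory CategoryTheory.Limits AlgebraicGeometry
open AlgSp

set_option linter.style.haveILetI false
set_option backward.isDefEq.respectTransparency false
set_option maxHeartbeats 2000000


namespace Groth.Agent.S10040

/-- Over a terminal base scheme `S` (the spectrum of the integers), let `f : X ⟶ Y` be a morphism
between algebraic spaces each of which is quasi-compact and quasi-separated. Then `f` is a directed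
limit of morphisms `f_i : X_i ⟶ Y_i`, where every `X_i` and every `Y_i` is of finite type and
quasi-separated over `S` and both systems have affine transition maps (limits in fppf sheaves,
indexed by one nonempty directed preorder, compatible with `f`). -/
theorem result (S : Scheme.{u}) (hS : IsTerminal S) {X Y : AlgSp.Space S} (f : X ⟶ Y)
    (hXqc : AlgSp.IsQuasiCompactSp X.obj) (hXqs : AlgSp.IsQuasiSeparatedSp X.obj)
    (hYqc : AlgSp.IsQuasiCompactSp Y.obj) (hYqs : AlgSp.IsQuasiSeparatedSp Y.obj) :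
    ∃ (I : Type u) (_ : Preorder I) (_ : IsDirected I (fun a b => a ≤ b)) (_ : Nonempty I)
      (DX DY : Iᵒᵖ ⥤ AlgSp.Sp S) (φ : DX ⟶ DY) (cX : Cone DX) (cY : Cone DY) (_ : IsLimit cX) (_ : IsLimit cY)
      (eX : cX.pt ≅ X.obj) (eY : cY.pt ≅ Y.obj),
      (∀ i, AlgSp.IsAlgSpace (DX.obj i) ∧ AlgSp.IsAlgSpace (DY.obj i)) ∧
      (∀ (i j : Iᵒᵖ) (g : i ⟶ j), AlgSp.IsAffineMor (DX.map g) ∧ AlgSp.IsAffineMor (DY.map g)) ∧
      (∀ i, AlgSp.IsQuasiSeparatedSp (DX.obj i) ∧ AlgSp.IsQuasiSeparatedSp (DY.obj i) ∧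
        (∀ q : DX.obj i ⟶ (AlgSp.yon S).obj (Over.mk (𝟙 S)), AlgSp.IsFiniteTypeMor q) ∧
        (∀ q : DY.obj i ⟶ (AlgSp.yon S).obj (Over.mk (𝟙 S)), AlgSp.IsFiniteTypeMor q)) ∧
      (∀ i, cX.π.app i ≫ φ.app i = eX.hom ≫ f.hom ≫ eY.inv ≫ cY.π.app i) := by
  haveI := Groth.Agent.SpApprox.quasiSeparatedSpace_terminal hS
  haveI := Groth.Agent.SpApprox.isLocallyNoetherian_terminal hS
  obtain ⟨A, _, _, _, DX, πX, hlX, hDX, hDXa, -⟩ := Groth.Agent.SpApprox.hasApproxSp hS X hXqc hXqs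
  obtain ⟨B, _, _, _, DY, πY, hlY, hDY, hDYa, -⟩ := Groth.Agent.SpApprox.hasApproxSp hS Y hYqc hYqs
  haveI : IsCofiltered Aᵒᵖ := isCofiltered_op_of_isFiltered _
  let base := (AlgSp.yon S).obj (Over.mk (𝟙 S))
  have hbase : IsAlgSpace base := IsAlgSpace.yon_obj _
  have lfpY : ∀ b, LocP @LocallyOfFinitePresentation (Groth.Agent.SpQS.baseStr (DY.obj b)) := fun b =>
    Groth.Agent.SpApprox.lfp_base (hDY b).2.2.2
  have hext : ∀ {F : AlgSp.Sp S} (a b : F ⟶ base), a = b := fun a b => Groth.Agent.SpQS.isTerminalBase.hom_ext a b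
  have hstage : ∀ (a₀ : A) (b : B), ∃ (a : A) (_ : a₀ ≤ a) (φ : DX.obj (Opposite.op a) ⟶ DY.obj (Opposite.op b)),
      πX.app (Opposite.op a) ≫ φ = f.hom ≫ πY.app (Opposite.op b) := fun a₀ b => by
    obtain ⟨⟨k⟩, ψ, x', hx', -⟩ := Groth.Agent.SpApprox.exists_stage_lfp DX (fun i => (hDX i).1) hDXa (Cone.mk X.obj πX) hlX
      (i₁ := Opposite.op a₀) (hDX _).2.1 (fun i => (hDX i).2.2.1) (hDY _).1 hbase _ (lfpY (Opposite.op b))
      (f.hom ≫ πY.app (Opposite.op b)) (Groth.Agent.SpQS.baseStr _) (hext _ _)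
    exact ⟨k, leOfHom ψ.unop, x', hx'⟩
  let r : ∀ {a a' : A}, a ≤ a' → (DX.obj (Opposite.op a') ⟶ DX.obj (Opposite.op a)) := fun h => DX.map (homOfLE h).op
  let r' : ∀ {b b' : B}, b ≤ b' → (DY.obj (Opposite.op b') ⟶ DY.obj (Opposite.op b)) := fun h => DY.map (homOfLE h).op
  choose α _hα φ₀ hφ₀ using fun b : B => hstage (Classical.arbitrary A) b
  let K : Type u := Σ' p : A × B, α p.2 ≤ p.1
  let Φ : ∀ p : K, DX.obj (Opposite.op p.1.1) ⟶ DY.obj (Opposite.op p.1.2) := fun p => r p.2 ≫ φ₀ p.1.2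
  have hΦ : ∀ p : K, πX.app (Opposite.op p.1.1) ≫ Φ p = f.hom ≫ πY.app (Opposite.op p.1.2) := fun p => by
    have e1 := (Cone.mk X.obj πX).w (homOfLE p.2).op
    dsimp at e1
    show πX.app _ ≫ DX.map _ ≫ φ₀ p.1.2 = _
    rw [reassoc_of% e1]
    exact hφ₀ _
  let R : K → K → Prop := fun p q => ∃ (h : p.1.1 ≤ q.1.1) (h' : p.1.2 ≤ q.1.2), r h ≫ Φ p = Φ q ≫ r' h'
  letI : Preorder K :=
    { le := R
      lt := fun p q => R p q ∧ ¬ R q p
      lt_iff_le_not_ge := fun _ _ => Iff.rfl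
      le_refl := fun p => ⟨le_rfl, le_rfl, by simp [r, r']⟩
      le_trans := fun p q s => fun ⟨h, h', e⟩ ⟨k, k', e'⟩ => ⟨h.trans k, h'.trans k', by
        simp only [r, r'] at e e' ⊢
        rw [← homOfLE_comp h k, ← homOfLE_comp h' k', op_comp, op_comp, Functor.map_comp, Functor.map_comp,
          Category.assoc, e, reassoc_of% e']⟩ }
  haveI : Nonempty K := ⟨⟨(α (Classical.arbitrary B), Classical.arbitrary B), le_rfl⟩⟩
  have hrefine : ∀ (p q : K) (h : p.1.1 ≤ q.1.1) (h' : p.1.2 ≤ q.1.2),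
      ∃ (a' : A) (k : q.1.1 ≤ a'), r (h.trans k) ≫ Φ p = (r k ≫ Φ q) ≫ r' h' := by
    intro p q h h'
    obtain ⟨⟨a'⟩, ψ, hψ⟩ := Groth.Agent.SpApprox.exists_stage_eq DX (fun i => (hDX i).1) hDXa (Cone.mk X.obj πX) hlX
      (i₁ := Opposite.op q.1.1) (hDX _).2.1 (fun i => (hDX i).2.2.1) (hDY _).1 hbase _ (lfpY (Opposite.op p.1.2))
      (r h ≫ Φ p) (Φ q ≫ r' h') (hext _ _) (by
        show πX.app _ ≫ DX.map _ ≫ Φ p = πX.app _ ≫ Φ q ≫ DY.map _
        rw [reassoc_of% (hΦ q)]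
        have e1 := (Cone.mk X.obj πX).w (homOfLE h).op
        have e2 := (Cone.mk Y.obj πY).w (homOfLE h').op
        dsimp at e1 e2
        rw [reassoc_of% e1, e2]
        exact hΦ p)
    refine ⟨a', leOfHom ψ.unop, ?_⟩
    rw [Category.assoc]
    refine Eq.trans ?_ hψ
    show DX.map _ ≫ Φ p = DX.map ψ ≫ DX.map _ ≫ Φ p
    refine Eq.trans ?_ (DX.map_comp_assoc _ _ _)
    exact congrArg (fun t => DX.map t ≫ Φ p) (Subsingleton.elim _ _)
  haveI : IsDirected K (fun p q => p ≤ q) := ⟨fun p q => by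
    obtain ⟨b, hb, hb'⟩ := exists_ge_ge p.1.2 q.1.2
    obtain ⟨a₀, ha, ha'⟩ := exists_ge_ge p.1.1 q.1.1
    obtain ⟨a, haα, ha₀⟩ := exists_ge_ge (α b) a₀
    let m : K := ⟨(a, b), haα⟩
    obtain ⟨a₁, k₁, h₁⟩ := hrefine p m (ha.trans ha₀) hb
    obtain ⟨a₂, k₂, h₂⟩ := hrefine q m (ha'.trans ha₀) hb'
    obtain ⟨c, hc₁, hc₂⟩ := exists_ge_ge a₁ a₂
    refine ⟨⟨(c, b), haα.trans (k₁.trans hc₁)⟩, ⟨(ha.trans ha₀).trans (k₁.trans hc₁), hb, ?_⟩,
      ⟨(ha'.trans ha₀).trans (k₁.trans hc₁), hb', ?_⟩⟩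
    · have e3 := congrArg (r hc₁ ≫ ·) h₁
      simp only [r, r', Φ, m, ← Functor.map_comp_assoc, ← op_comp, homOfLE_comp, Category.assoc] at e3 ⊢
      exact e3
    · have e3 := congrArg (r hc₂ ≫ ·) h₂
      simp only [r, r', Φ, m, ← Functor.map_comp_assoc, ← op_comp, homOfLE_comp, Category.assoc] at e3 ⊢
      exact e3⟩
  let toA : K →o A := ⟨fun p => p.1.1, fun _ _ h => h.1⟩
  let toB : K →o B := ⟨fun p => p.1.2, fun _ _ h => h.2.1⟩
  haveI : toA.monotone.functor.op.Initial := Groth.Agent.AbsApprox.final_of_cofinal toA fun a₀ => by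
    obtain ⟨a, ha, ha'⟩ := exists_ge_ge (α (Classical.arbitrary B)) a₀
    exact ⟨⟨(a, _), ha⟩, ha'⟩
  haveI : toB.monotone.functor.op.Initial := Groth.Agent.AbsApprox.final_of_cofinal toB fun b₀ =>
    ⟨⟨(α b₀, b₀), le_rfl⟩, le_rfl⟩
  let φ : toA.monotone.functor.op ⋙ DX ⟶ toB.monotone.functor.op ⋙ DY :=
    { app := fun p => Φ p.unop
      naturality := fun p q m => (leOfHom m.unop).2.2 }
  refine ⟨K, inferInstance, inferInstance, inferInstance, _, _, φ, (Cone.mk X.obj πX).whisker _,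
    (Cone.mk Y.obj πY).whisker _, (Functor.Initial.isLimitWhiskerEquiv toA.monotone.functor.op _).symm hlX,
    (Functor.Initial.isLimitWhiskerEquiv toB.monotone.functor.op _).symm hlY, Iso.refl _, Iso.refl _,
    fun p => ⟨(hDX _).1, (hDY _).1⟩, fun p q m => ⟨hDXa _ _ _, hDYa _ _ _⟩,
    fun p => ⟨(hDX _).2.2.1, (hDY _).2.2.1, fun q => ?_, fun q => ?_⟩, fun p => ?_⟩
  · rw [hext q (Groth.Agent.SpQS.baseStr _)]
    exact ⟨(hDX _).2.2.2, Groth.Agent.SpQS.isQuasiCompactMor_base (hDX _).1 (hDX _).2.1 _⟩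
  · rw [hext q (Groth.Agent.SpQS.baseStr _)]
    exact ⟨(hDY _).2.2.2, Groth.Agent.SpQS.isQuasiCompactMor_base (hDY _).1 (hDY _).2.1 _⟩
  · show πX.app _ ≫ Φ p.unop = 𝟙 _ ≫ f.hom ≫ 𝟙 _ ≫ πY.app _
    rw [Category.id_comp, Category.id_comp]
    exact hΦ p.unop


end Groth.Agent.S10040
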