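import Groth.Statements.S10037
import Groth.Agent.SpApprox.AbsRel
import Groth.Agent.SpDesc.EventClosed

set_option autoImplicit false
universe u
open CategoryTheory CategoryTheory.Limits AlgebraicGeometry
open AlgSp

set_option linter.style.haveILetI false
set_option backward.isDefEq.respectTransparency false


namespace Groth.Agent.S10037

/-- Let `f : X ⟶ Y` be a morphism locally of finite type of algebraic spaces over `S`, where `X` and `Y`
are both quasi-compact and quasi-separated over `S`. Then `f` factors as a closed immersion `X ⟶ X'`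
followed by a morphism `X' ⟶ Y` of finite presentation. (The published statement allows any base
scheme and uses absolute quasi-separatedness; this row assumes the base quasi-separated, over which
quasi-separatedness relative to the base is the absolute notion.) -/
theorem result (S : Scheme.{u}) [QuasiSeparatedSpace S]
    {X Y : AlgSp.Space S} (f : X ⟶ Y) (hft : AlgSp.LocP @LocallyOfFiniteType f.hom)
    (hXqc : AlgSp.IsQuasiCompactSp X.obj) (hXqs : AlgSp.IsQuasiSeparatedSp X.obj) (hYqc : AlgSp.IsQuasiCompactSp Y.obj) (hYqs : AlgSp.IsQuasiSeparatedSp Y.obj) :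
    ∃ (X' : AlgSp.Space S) (i : X ⟶ X') (f' : X' ⟶ Y), i ≫ f' = f ∧
      AlgSp.RepWith @IsClosedImmersion i.hom ∧ AlgSp.IsFinitePresentationMor f'.hom := by
  obtain ⟨I, _, _, _, D, π, hl, t, hD, hDa, hπ⟩ := Groth.Agent.SpApprox.hasApproxRel f hXqc hXqs hYqs
  haveI : IsCofiltered Iᵒᵖ := isCofiltered_op_of_isFiltered _
  obtain ⟨i₁⟩ := IsCofiltered.nonempty (C := Iᵒᵖ)
  obtain ⟨i₀, h₀⟩ := Groth.Agent.SpDesc.exists_eventually_closed D (fun i => (hD i).1) hDa (Cone.mk X.obj π) hl
    X.property (𝟙 _) (Groth.Agent.AlgSpLib.repWith_of_isIso _) i₁ (hD i₁).2.1 (by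
      rw [Category.id_comp]
      refine Groth.Agent.SpDesc.lft_cancel (g := t.app i₁) (hD i₁).1 X.property Y.property ?_
      rw [hπ i₁]
      exact hft)
  have hc := h₀ i₀ (𝟙 _)
  rw [Category.id_comp] at hc
  exact ⟨⟨D.obj i₀, (hD i₀).1⟩, ObjectProperty.homMk (π.app i₀), ObjectProperty.homMk (t.app i₀),
    ObjectProperty.hom_ext _ (hπ i₀), hc, Groth.Agent.SpApprox.isFinitePresentationMor_stage (hD i₀).1 Y.property
      (hD i₀).2.1 (hD i₀).2.2.1 hYqs (hD i₀).2.2.2⟩


end Groth.Agent.S10037
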