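import Groth.Statements.S10038
import Groth.Agent.SpApprox.AbsRel
import Groth.Agent.SpDesc.EventClosed
import Groth.Agent.SpDesc.EventSep

set_option autoImplicit false
universe u
open CategoryTheory CategoryTheory.Limits AlgebraicGeometry
open AlgSp

set_option linter.style.haveILetI false
set_option backward.isDefEq.respectTransparency false


namespace Groth.Agent.S10038

/-- Let `f : X ⟶ Y` be a separated morphism of finite type of algebraic spaces over `S`; suppose the
target `Y` is quasi-compact and quasi-separated over `S`. Then `f` factors as a closed immersion `X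
⟶ X'` followed by a separated morphism `X' ⟶ Y` of finite presentation. (The published statement
allows any base scheme and uses absolute quasi-separatedness; this row assumes the base
quasi-separated, over which quasi-separatedness relative to the base is the absolute notion.) -/
theorem result (S : Scheme.{u}) [QuasiSeparatedSpace S]
    {X Y : AlgSp.Space S} (f : X ⟶ Y) (hft : AlgSp.IsFiniteTypeMor f.hom) (hsep : AlgSp.IsSeparatedMor f.hom) (hYqc : AlgSp.IsQuasiCompactSp Y.obj) (hYqs : AlgSp.IsQuasiSeparatedSp Y.obj) :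
    ∃ (X' : AlgSp.Space S) (i : X ⟶ X') (f' : X' ⟶ Y), i ≫ f' = f ∧
      AlgSp.RepWith @IsClosedImmersion i.hom ∧ AlgSp.IsFinitePresentationMor f'.hom ∧ AlgSp.IsSeparatedMor f'.hom := by
  have hXqc : AlgSp.IsQuasiCompactSp X.obj :=
    hft.2 Y.property hYqc (𝟙 _) (𝟙 _) f.hom (IsPullback.of_horiz_isIso ⟨by simp⟩)
  have hXqs : AlgSp.IsQuasiSeparatedSp X.obj := Groth.Agent.AlgSpLib.isQuasiSeparatedSp_of_mor
    (Groth.Agent.ValLib.isQuasiSeparatedMor_of_separated _ hsep) hYqs
  obtain ⟨I, _, _, _, D, π, hl, t, hD, hDa, hπ⟩ := Groth.Agent.SpApprox.hasApproxRel f hXqc hXqs hYqs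
  haveI : IsCofiltered Iᵒᵖ := isCofiltered_op_of_isFiltered _
  obtain ⟨i₁⟩ := IsCofiltered.nonempty (C := Iᵒᵖ)
  obtain ⟨i₀, h₀⟩ := Groth.Agent.SpDesc.exists_eventually_closed D (fun i => (hD i).1) hDa (Cone.mk X.obj π) hl
    X.property (𝟙 _) (Groth.Agent.AlgSpLib.repWith_of_isIso _) i₁ (hD i₁).2.1 (by
      rw [Category.id_comp]
      refine Groth.Agent.SpDesc.lft_cancel (g := t.app i₁) (hD i₁).1 X.property Y.property ?_
      rw [hπ i₁]
      exact hft.1)
  obtain ⟨i₂, h₂⟩ := Groth.Agent.SpDesc.exists_eventually_separated D (fun i => (hD i).1) hDa (Cone.mk X.obj π) hl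
    (fun i => (hD i).2.1) (fun i => (hD i).2.2.1) Y.property hYqs t.app
    (fun {a b} m => (t.naturality m).trans (Category.comp_id _)) i₁ (by
      show AlgSp.IsSeparatedMor (π.app i₁ ≫ t.app i₁)
      rw [hπ i₁]
      exact hsep)
  obtain ⟨k, a, b, -⟩ := IsCofilteredOrEmpty.cone_objs i₀ i₂
  have hc := h₀ k a
  rw [Category.id_comp] at hc
  exact ⟨⟨D.obj k, (hD k).1⟩, ObjectProperty.homMk (π.app k), ObjectProperty.homMk (t.app k),
    ObjectProperty.hom_ext _ (hπ k), hc, Groth.Agent.SpApprox.isFinitePresentationMor_stage (hD k).1 Y.property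
      (hD k).2.1 (hD k).2.2.1 hYqs (hD k).2.2.2, h₂ k b⟩


end Groth.Agent.S10038
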