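import Groth.Statements.S10041
import Groth.Agent.S10038
import Groth.Agent.S10035
import Groth.Agent.SpApprox.AbsProper

set_option autoImplicit false
universe u
open CategoryTheory CategoryTheory.Limits AlgebraicGeometry
open AlgSp

set_option linter.style.haveILetI false
set_option backward.isDefEq.respectTransparency false
set_option maxHeartbeats 2000000


namespace Groth.Agent.S10041

/-- Let `Y` be an algebraic space, quasi-compact and quasi-separated over the scheme `S`, and `f : X ⟶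
Y` a proper morphism from another algebraic space. Then `X` is the limit of a directed system of
algebraic spaces `X_i`, each proper and of finite presentation over `Y`, in which the transition
maps and the projections `X ⟶ X_i` are closed immersions (limit in fppf sheaves, indexed by a
nonempty directed preorder, compatible with `f`). (The published statement allows any base scheme
and uses absolute quasi-separatedness; this row assumes the base quasi-separated, over which
quasi-separatedness relative to the base is the absolute notion.) -/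
theorem result (S : Scheme.{u}) [QuasiSeparatedSpace S]
    {X Y : AlgSp.Space S} (f : X ⟶ Y) (hf : AlgSp.IsProperMor f.hom) (hYqc : AlgSp.IsQuasiCompactSp Y.obj) (hYqs : AlgSp.IsQuasiSeparatedSp Y.obj) :
    ∃ (I : Type u) (_ : Preorder I) (_ : IsDirected I (fun a b => a ≤ b)) (_ : Nonempty I) (D : Iᵒᵖ ⥤ AlgSp.Sp S)
      (t : D ⟶ (Functor.const Iᵒᵖ).obj Y.obj) (c : Cone D) (_ : IsLimit c) (e : c.pt ≅ X.obj),
      (∀ i, AlgSp.IsAlgSpace (D.obj i)) ∧ (∀ (i j : Iᵒᵖ) (φ : i ⟶ j), AlgSp.RepWith @IsClosedImmersion (D.map φ)) ∧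
      (∀ i, AlgSp.RepWith @IsClosedImmersion (c.π.app i)) ∧
      (∀ i, AlgSp.IsProperMor (t.app i) ∧ AlgSp.IsFinitePresentationMor (t.app i)) ∧
      (∀ i, e.inv ≫ c.π.app i ≫ t.app i = f.hom) := by
  have hXqc : AlgSp.IsQuasiCompactSp X.obj :=
    hf.2.1.2 Y.property hYqc (𝟙 _) (𝟙 _) f.hom (IsPullback.of_horiz_isIso ⟨by simp⟩)
  obtain ⟨X', i, f', hif, hi, hfp, hsep⟩ := Groth.Agent.S10038.result S f hf.2.1 hf.1 hYqc hYqs
  have hif' : i.hom ≫ f'.hom = f.hom := congrArg (fun m => m.hom) hif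
  have hX'q : AlgSp.IsQuasiCompactSp X'.obj :=
    hfp.2.1 Y.property hYqc (𝟙 _) (𝟙 _) f'.hom (IsPullback.of_horiz_isIso ⟨by simp⟩)
  have hX's : AlgSp.IsQuasiSeparatedSp X'.obj := Groth.Agent.AlgSpLib.isQuasiSeparatedSp_of_mor hfp.2.2 hYqs
  obtain ⟨I, _, _, _, D, t, c, hc, e, hD, hDc, ht, he⟩ := Groth.Agent.S10035.result S i hi hX'q hX's
  let π : (Functor.const Iᵒᵖ).obj X.obj ⟶ D := (Functor.const Iᵒᵖ).map e.inv ≫ c.π
  have hl : IsLimit (Cone.mk X.obj π) := hc.ofIsoLimit (Cone.ext e (fun k => (e.hom_inv_id_assoc _).symm))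
  have hπ : ∀ k, π.app k ≫ t.app k = i.hom := fun k => (Category.assoc _ _ _).trans (he k)
  obtain ⟨⟨k₀⟩, hk⟩ := Groth.Agent.SpApprox.exists_univClosed_stage f'.hom hsep
    (Groth.Agent.SpApprox.lft_of_lfp hfp.1) hYqc hYqs hX'q hX's D hD t (fun k => (ht k).1) X.property i.hom π hl hπ hi
    (by rw [hif']; exact hf)
  let I' : Type u := { k : I // k₀ ≤ k }
  haveI : Nonempty I' := ⟨⟨k₀, le_rfl⟩⟩
  haveI : IsDirected I' (fun a b => a ≤ b) := ⟨fun a b => by
    obtain ⟨m, hm, hm'⟩ := exists_ge_ge a.1 b.1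
    exact ⟨⟨m, a.2.trans hm⟩, hm, hm'⟩⟩
  let F : I' →o I := ⟨Subtype.val, fun _ _ h => h⟩
  haveI : F.monotone.functor.op.Initial := Groth.Agent.AbsApprox.final_of_cofinal F fun a => by
    obtain ⟨m, hm, hm'⟩ := exists_ge_ge a k₀
    exact ⟨⟨m, hm'⟩, hm⟩
  haveI : IsCofiltered Iᵒᵖ := isCofiltered_op_of_isFiltered _
  let t' : F.monotone.functor.op ⋙ D ⟶ (Functor.const I'ᵒᵖ).obj Y.obj :=
    { app := fun k => t.app _ ≫ f'.hom
      naturality := fun a b m => by
        show D.map _ ≫ t.app _ ≫ f'.hom = (t.app _ ≫ f'.hom) ≫ 𝟙 _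
        rw [← Category.assoc, t.naturality, Category.comp_id]
        exact congrArg (· ≫ f'.hom) (Category.comp_id _) }
  refine ⟨I', inferInstance, inferInstance, inferInstance, F.monotone.functor.op ⋙ D, t',
    (Cone.mk X.obj π).whisker F.monotone.functor.op,
    (Functor.Initial.isLimitWhiskerEquiv F.monotone.functor.op _).symm hl, Iso.refl _, fun k => hD _,
    fun a b m => hDc _ _ _, fun k => ?_, fun k => ?_, fun k => ?_⟩
  · exact Groth.Agent.AlgSpLib.repWith_of_comp (P := @IsClosedImmersion) (π.app _) i.hom (t.app _) (hπ _) hi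
      (Groth.Agent.SpApprox.isSeparatedMor_of_affine (hD _) X'.property
        (Groth.Agent.AlgSpLib.repWith_mono (P := @IsClosedImmersion) (Q := @IsAffineHom) (fun _ _ r hr => by
          have : IsClosedImmersion r := hr
          exact (inferInstance : IsAffineHom r)) (ht _).1))
  · let a : Opposite.op (F k.unop) ⟶ Opposite.op k₀ := (homOfLE k.unop.2).op
    have hfp' : AlgSp.IsFinitePresentationMor (t.app (Opposite.op (F k.unop)) ≫ f'.hom) :=
      ⟨Groth.Agent.AlgSpLib.locP_comp Groth.Agent.AlgSpLib.etST_lfp X'.property Y.property (ht _).2.1 hfp.1,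
        Groth.Agent.AlgSpLib.isQuasiCompactMor_comp X'.property Y.property (ht _).2.2.1 hfp.2.1,
        Groth.Agent.AlgSpLib.isQuasiSeparatedMor_comp (ht _).2.2.2 hfp.2.2⟩
    have hcl : ∀ {U V : AlgSp.Sp S} {m : U ⟶ V}, AlgSp.RepWith @IsClosedImmersion m →
        IsAlgSpace U → IsAlgSpace V → AlgSp.IsProperMor m := fun {U V m} h hU hV =>
      (Groth.Agent.AlgSpLib.isProperMor_iff_repWith hU hV h.1).2
        (Groth.Agent.AlgSpLib.repWith_mono (P := @IsClosedImmersion) (Q := @IsProper) (fun _ _ r hr => by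
          have : IsClosedImmersion r := hr
          exact (inferInstance : IsProper r)) h)
    refine ⟨⟨Groth.Agent.AlgSpLib.isSeparatedMor_comp (hcl (ht _).1 (hD _) X'.property).1 hsep,
      ⟨Groth.Agent.SpApprox.lft_of_lfp hfp'.1, hfp'.2.1⟩, ?_⟩, hfp'⟩
    have e1 : t.app (Opposite.op (F k.unop)) ≫ f'.hom = D.map a ≫ t.app (Opposite.op k₀) ≫ f'.hom := by
      rw [← Category.assoc, t.naturality]
      exact (congrArg (· ≫ f'.hom) (Category.comp_id _)).symm
    show AlgSp.IsUnivClosedMor (t.app (Opposite.op (F k.unop)) ≫ f'.hom)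
    rw [e1]
    exact Groth.Agent.AlgSpLib.isUnivClosedMor_comp (hD _) Y.property (hcl (hDc _ _ a) (hD _) (hD _)).2.2 hk
  · show 𝟙 _ ≫ π.app _ ≫ t.app _ ≫ f'.hom = f.hom
    rw [Category.id_comp, ← Category.assoc, hπ, hif']


end Groth.Agent.S10041
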