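import Groth.Statements.S10043
import Groth.Agent.SpChev.Results
import Groth.Agent.AlgSpLib.FpqcProps

set_option autoImplicit false
universe u
open CategoryTheory CategoryTheory.Limits AlgebraicGeometry
open AlgSp

open CategoryTheory.Limits

namespace Groth.Agent.S10043

/-- Let `f : X ⟶ Y` be a finite and surjective morphism of algebraic spaces over `S` with `X` an affine
scheme. Then `Y` is an affine scheme. -/
theorem result (S : Scheme.{u}) {X Y : AlgSp.Space S} (f : X ⟶ Y)
    (hfin : AlgSp.IsFiniteMor f.hom) (hsurj : AlgSp.IsSurjectiveMor f.hom) (hX : ∃ (T : Over S), IsAffine T.left ∧ Nonempty ((AlgSp.yon S).obj T ≅ X.obj)) :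
    ∃ (T : Over S), IsAffine T.left ∧ Nonempty ((AlgSp.yon S).obj T ≅ Y.obj) := by
  have h := (Groth.Agent.AlgSpLib.isFiniteMor_iff_repWith f.hom).1 hfin
  exact Groth.Agent.SpChev.isAff_of_univClosed_surj Y.property hX f.hom
    ((Groth.Agent.AlgSpLib.isUnivClosedMor_iff_repWith h.1).2 (Groth.Agent.AlgSpLib.repWith_mono (fun _ _ r hr => by
      have : IsFinite r := hr
      infer_instance) h)) hsurj


end Groth.Agent.S10043
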