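import Groth.Statements.S10045
import Groth.Agent.SpThick.Main
import Groth.Agent.SpDesc.SchemeStage

set_option autoImplicit false
universe u
open CategoryTheory CategoryTheory.Limits AlgebraicGeometry
open AlgSp

namespace Groth.Agent.S10045

/-- Let `X` be an algebraic space over `S` and `X_red ⟶ X` its reduction (the reduced closed subspace
with the same points). If `X_red` is a scheme, then `X` is a scheme. -/
theorem result (S : Scheme.{u}) (X Z : AlgSp.Space S) (i : Z ⟶ X)
    (hi : AlgSp.IsRedInduced Set.univ i.hom) (hZ : Z.obj.obj.IsRepresentable) : X.obj.obj.IsRepresentable := by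
  open _root_.AlgSp Groth.Agent.AlgSpLib in
  obtain ⟨hc, hr, -⟩ := hi
  open _root_.AlgSp Groth.Agent.AlgSpLib in
  have hs : RepWith @Surjective i.hom := repWith_surjective_of_isSurjectiveMor hc.1 fun x => by
    have : x ∈ Set.range (Points.map i.hom) := hr ▸ Set.mem_univ x
    exact this
  open _root_.AlgSp Groth.Agent.AlgSpLib in
  have hth : IsThickMor i.hom := ⟨hc.1, fun U V ξ a b sq => ⟨hc.2 ξ a b sq, hs.2 ξ a b sq⟩⟩
  obtain ⟨T, ⟨e⟩⟩ := Groth.Agent.SpDesc.exists_yon_iso hZ
  obtain ⟨T', ⟨e'⟩⟩ := Groth.Agent.SpThick.exists_scheme_of_thick X.property hth e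
  exact Groth.Agent.LqfRep.isRepresentable_of_iso e'.symm

end Groth.Agent.S10045
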