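import Groth.Statements.S10046
import Groth.Agent.SpChev.Bijective
import Groth.Agent.LqfRep.Main
import Groth.Agent.SpDesc.SchemeStage

set_option autoImplicit false
universe u
open CategoryTheory CategoryTheory.Limits AlgebraicGeometry
open AlgSp

open CategoryTheory.Limits

namespace Groth.Agent.S10046

/-- Let `f : X ⟶ Y`, a morphism of algebraic spaces over `S`, be integral and induce a bijection on
points. Then `X` is representable by a scheme over `S` exactly when `Y` is. -/
theorem result (S : Scheme.{u}) {X Y : AlgSp.Space S} (f : X ⟶ Y)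
    (hint : AlgSp.IsIntegralMor f.hom) (hbij : Function.Bijective (AlgSp.Points.map f.hom)) :
    X.obj.obj.IsRepresentable ↔ Y.obj.obj.IsRepresentable := by
  open _root_.AlgSp Groth.Agent.AlgSpLib in
  have hr : RepWith @IsIntegralHom f.hom := (isIntegralMor_iff_repWith f.hom).1 hint
  open _root_.AlgSp Groth.Agent.AlgSpLib in
  constructor
  · intro hX
    obtain ⟨T, ⟨e⟩⟩ := Groth.Agent.SpDesc.exists_yon_iso hX
    obtain ⟨W, ⟨e'⟩⟩ := Groth.Agent.SpChev.exists_iso_yon_of_bijective Y.property (e.hom ≫ f.hom)
      ((repWith_iso_comp_iff _ _).2 hr) (by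
        rw [show Points.map (e.hom ≫ f.hom) = Points.map f.hom ∘ Points.map e.hom from funext (Points.map_comp _ _)]
        exact hbij.comp (Function.bijective_iff_has_inverse.2 ⟨Points.map e.inv, fun x => by rw [← Points.map_comp, e.hom_inv_id, Points.map_id], fun x => by rw [← Points.map_comp, e.inv_hom_id, Points.map_id]⟩))
    exact Groth.Agent.LqfRep.isRepresentable_of_iso e'
  · intro hY
    obtain ⟨T, ⟨e⟩⟩ := Groth.Agent.SpDesc.exists_yon_iso hY
    obtain ⟨V, v, w, sq, -⟩ := exists_repWith hr e.hom
    have := sq.isIso_fst_of_isIso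
    exact Groth.Agent.LqfRep.isRepresentable_of_iso (asIso v).symm

end Groth.Agent.S10046
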