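import Groth.Statements.S10047
import Groth.Agent.EtInvariance.ThickProps
import Groth.Agent.EtInvariance.ThickLft
import Groth.Agent.SpThick.Mor
import Groth.Agent.ThickProp.Scheme
import Groth.Agent.SpDesc.ClosedTower

set_option autoImplicit false
universe u
open CategoryTheory CategoryTheory.Limits AlgebraicGeometry
open AlgSp

namespace Groth.Agent.S10047

open Groth.Agent.AlgSpLib

set_option backward.isDefEq.respectTransparency false

theorem isNilpotent_ker {W V : Scheme.{u}} [IsAffine V] (v : W ⟶ V) [IsClosedImmersion v] [Surjective v]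
    [LocallyOfFinitePresentation v] : IsNilpotent v.ker := by
  obtain ⟨n, hn⟩ := (Ideal.FG.isNilpotent_iff_le_nilradical (SpDesc.ker_top_fg v)).2
    (fun a ha => NilAffine.isNilpotent_of_mem_ker v ⟨⊤, isAffineOpen_top V⟩ ha)
  refine ⟨n, Scheme.IdealSheafData.ext_of_isAffine ?_⟩
  rw [Scheme.IdealSheafData.ideal_pow, Pi.pow_apply, hn]
  rfl

variable {S : Scheme.{u}} {X X' B B' : AlgSp.Sp S} {fst : X' ⟶ X} {snd : X' ⟶ B'} {f : X ⟶ B} {g : B' ⟶ B}

theorem locP_lft_of_lfp_thick (sqX : IsPullback fst snd f g) (hj : AlgSp.IsThickMor g)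
    (hfp : RepWith @LocallyOfFinitePresentation g) (h : AlgSp.LocP @LocallyOfFiniteType snd) :
    AlgSp.LocP @LocallyOfFiniteType f := by
  have hi : AlgSp.IsThickMor fst := repWith_baseChange sqX.flip hj
  have main : ∀ ⦃U V : Over S⦄ (a : (yon S).obj U ⟶ X) (b : (yon S).obj V ⟶ B) (k : U ⟶ V), IsAffine U.left →
      IsAffine V.left → RepWith @Etale a → RepWith @Etale b → a ≫ f = (yon S).map k ≫ b →
      LocallyOfFiniteType k.left := by
    intro U V a b k hU hV ha hb comm
    obtain ⟨V₀, y, v, sqV, hv⟩ := exists_repWith hj b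
    obtain ⟨U₀, k₀, u, sqU⟩ := exists_pullback (IsAlgSpace.yon_obj V).diag ((yon S).map v) ((yon S).map k)
    have h1 : IsPullback ((yon S).map k₀ ≫ y) ((yon S).map u) g (a ≫ f) := by
      rw [comm]
      exact sqU.paste_horiz sqV
    let x : (yon S).obj U₀ ⟶ X' := sqX.lift ((yon S).map u ≫ a) ((yon S).map k₀ ≫ y) (by
      rw [Category.assoc, ← h1.w])
    have h2 : IsPullback x ((yon S).map u) fst a :=
      IsPullback.of_right (by rw [sqX.lift_snd]; exact h1) (sqX.lift_fst _ _ _) sqX.flip
    have : LocallyOfFiniteType k₀.left :=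
      h x y k₀ (repWith_baseChange h2.flip ha) (repWith_baseChange sqV.flip hb) (sqX.lift_snd _ _ _)
    have : IsClosedImmersion v.left := hv.1
    have : Surjective v.left := hv.2
    have : LocallyOfFinitePresentation v.left := hfp.2 b y v sqV
    exact ThickProp.locallyOfFiniteType_of_finiteOrder ((isPullback_yon_iff.1 sqU).flip) (isNilpotent_ker v.left)
  intro U V a b k ha hb comm
  refine EtInvariance.lft_of_forall_affine k.left fun {W Z} w z g' hW hZ hw hz e => ?_
  let W' : Over S := Over.mk (w ≫ U.hom)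
  let Z' : Over S := Over.mk (z ≫ V.hom)
  let k' : W' ⟶ Z' := Over.homMk g' (by simp [W', Z', reassoc_of% e, Over.w k])
  refine main _ _ k' hW hZ (EtInvariance.repWith_etale_openImmersion_comp ha w)
    (EtInvariance.repWith_etale_openImmersion_comp hb z) ?_
  rw [Category.assoc, comm, ← Category.assoc, ← Category.assoc, ← Functor.map_comp, ← Functor.map_comp]
  congr 2
  exact Over.OverMorphism.ext e.symm

/-- Let `f : X ⟶ B` and `g : B' ⟶ B` be morphisms of algebraic spaces over `S` with `g` a closed
immersion inducing a bijection on points, and suppose the base change `X ×_B B' ⟶ B'` is a closed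
immersion. If `f` is of finite type or `g` is of finite presentation, then `f` is a closed
immersion. -/
theorem result (S : Scheme.{u}) {X B B' : AlgSp.Space S}
    (f : X ⟶ B) (g : B' ⟶ B) (hg : AlgSp.RepWith @IsClosedImmersion g.hom)
    (hbij : Function.Bijective (AlgSp.Points.map g.hom))
    (X' : AlgSp.Sp S) (fst : X' ⟶ X.obj) (snd : X' ⟶ B'.obj) (hX' : IsPullback fst snd f.hom g.hom)
    (hsnd : AlgSp.RepWith @IsClosedImmersion snd)
    (hor : AlgSp.IsFiniteTypeMor f.hom ∨ AlgSp.IsFinitePresentationMor g.hom) :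
    AlgSp.RepWith @IsClosedImmersion f.hom := by
  classical
  have hs : RepWith @Surjective g.hom :=
    AlgSpLib.repWith_surjective_of_isSurjectiveMor hg.1 hbij.2
  have hj : AlgSp.IsThickMor g.hom := AlgSpLib.repWith_inf_iff.2 ⟨hg, hs⟩
  have hX'a : AlgSp.IsAlgSpace X' := AlgSpLib.isAlgSpace_of_isPullback_space B.property X.property B'.property hX'
  have hi : AlgSp.IsThickMor fst := AlgSpLib.repWith_baseChange hX'.flip hj
  have hrep : AlgSp.Representable f.hom :=
    (SpThick.representable_iff_of_thick X.property B.property hi hj hX'.w).1 hsnd.1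
  have hlft : AlgSp.LocP @LocallyOfFiniteType f.hom := by
    rcases hor with h | h
    · exact h.1
    · refine locP_lft_of_lfp_thick hX' hj
        ((AlgSpLib.locP_iff_repWith AlgSpLib.etST_lfp B.property hg.1).1 h.1) ?_
      exact (AlgSpLib.locP_iff_repWith AlgSpLib.etST_lft B'.property hsnd.1).2
        (AlgSpLib.repWith_mono (fun _ _ r hr => by
          have : IsClosedImmersion r := hr
          infer_instance) hsnd)
  refine EtInvariance.repWith_of_thick hj hX' hrep @IsClosedImmersion @LocallyOfFiniteType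
    ((AlgSpLib.locP_iff_repWith AlgSpLib.etST_lft B.property hrep).1 hlft) ?_ hsnd
  intro A A' C C' a k k' b sq hb hsb hk' hk
  haveI := hb
  haveI := hsb
  haveI := hk'
  haveI := hk
  exact EtInvariance.isClosedImmersion_of_thick sq

end Groth.Agent.S10047
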