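import Groth.Statements.S10049
import Groth.Agent.SpChev.SchemeMin

set_option autoImplicit false
universe u
open CategoryTheory CategoryTheory.Limits AlgebraicGeometry
open AlgSp

namespace Groth.Agent.S10049

/-- Let `X` be an algebraic space, quasi-compact and quasi-separated over the scheme `S`, which is not a
scheme. Then there is a closed subspace `Z ⊂ X` which is not a scheme such that every proper closed
subspace `Z' ⊊ Z` is a scheme. (The published statement allows any base scheme and uses absolute
quasi-separatedness; this row assumes the base quasi-separated, over which quasi-separatedness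
relative to the base is the absolute notion.) -/
theorem result (S : Scheme.{u}) [QuasiSeparatedSpace S]
    (X : AlgSp.Space S) (hXqc : AlgSp.IsQuasiCompactSp X.obj) (hXqs : AlgSp.IsQuasiSeparatedSp X.obj) (hX : ¬ X.obj.obj.IsRepresentable) :
    ∃ (Z : AlgSp.Space S) (i : Z ⟶ X), AlgSp.RepWith @IsClosedImmersion i.hom ∧ ¬ Z.obj.obj.IsRepresentable ∧
      ∀ (Z' : AlgSp.Space S) (i' : Z' ⟶ Z), AlgSp.RepWith @IsClosedImmersion i'.hom → ¬ IsIso i' → Z'.obj.obj.IsRepresentable := by
  open Groth.Agent.SpChev in
  obtain ⟨Z, i, hZa, hi, hZ, hmin⟩ := exists_minimal_nonscheme X.property hXqc hXqs (mt isSch_iff.1 hX)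
  refine ⟨⟨Z, hZa⟩, ObjectProperty.homMk i, hi, mt Groth.Agent.SpChev.isSch_iff.2 hZ, fun Z' i' hi' hn => ?_⟩
  refine Groth.Agent.SpChev.isSch_iff.1 ((hmin i'.hom hi').resolve_left fun h => hn ?_)
  exact ⟨ObjectProperty.homMk (inv i'.hom), ObjectProperty.hom_ext _ (IsIso.hom_inv_id i'.hom),
    ObjectProperty.hom_ext _ (IsIso.inv_hom_id i'.hom)⟩

end Groth.Agent.S10049
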