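import Groth.Statements.S10050
import Groth.Agent.SpChev.TwoPieces

set_option autoImplicit false
universe u
open CategoryTheory CategoryTheory.Limits AlgebraicGeometry
open AlgSp

namespace Groth.Agent.S10050

/-- Let `X` be an algebraic space, quasi-compact and quasi-separated over the scheme `S`, which is not a
scheme although every proper closed subspace of `X` is one. Then `X` is reduced and irreducible.
(The published statement allows any base scheme and uses absolute quasi-separatedness; this row
assumes the base quasi-separated, over which quasi-separatedness relative to the base is the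
absolute notion.) -/
theorem result (S : Scheme.{u}) [QuasiSeparatedSpace S]
    (X : AlgSp.Space S) (hXqc : AlgSp.IsQuasiCompactSp X.obj) (hXqs : AlgSp.IsQuasiSeparatedSp X.obj) (hX : ¬ X.obj.obj.IsRepresentable)
    (hmin : ∀ (Z : AlgSp.Space S) (i : Z ⟶ X), AlgSp.RepWith @IsClosedImmersion i.hom → ¬ IsIso i → Z.obj.obj.IsRepresentable) :
    AlgSp.IsReducedSp X.obj ∧ IrreducibleSpace (AlgSp.Points X.obj) := by
  open _root_.AlgSp Groth.Agent.AlgSpLib Groth.Agent.SpChev in
  have hm : ∀ ⦃Z : Sp S⦄ (i : Z ⟶ X.obj), RepWith @IsClosedImmersion i → IsIso i ∨ IsSch Z := fun Z i hi => by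
    by_cases h : IsIso i
    · exact Or.inl h
    refine Or.inr (isSch_iff.2 (hmin ⟨Z, SchImg.isAlgSpace_of_closed X.property hi⟩ (ObjectProperty.homMk i) hi
      fun hiso => h ?_))
    exact (ObjectProperty.ι _).map_isIso (ObjectProperty.homMk i : (⟨Z, _⟩ : AlgSp.Space S) ⟶ X)
  have hX' := mt Groth.Agent.SpChev.isSch_iff.1 hX
  open _root_.AlgSp Groth.Agent.AlgSpLib Groth.Agent.SpChev in
  have hred : IsReducedSp X.obj := by
    obtain ⟨Z, i, hZa, hic, hir, hZr⟩ := SpQS.exists_redInduced X.property (isClosed_univ (X := Points X.obj))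
    rcases hm i hic with hiso | ⟨T, ⟨e⟩⟩
    · obtain ⟨U, a, ha, has, hU⟩ := hZr
      exact ⟨U, a ≫ i, (repWith_comp_iso_iff a i).2 ha, (repWith_comp_iso_iff a i).2 has, hU⟩
    · have his : RepWith @Surjective i := repWith_surjective_of_isSurjectiveMor hic.1 fun y =>
        (hir.symm ▸ Set.mem_univ y : y ∈ Set.range (Points.map i))
      have hth : IsThickMor i := ⟨hic.1, fun _ _ _ _ _ sq => ⟨hic.2 _ _ _ sq, his.2 _ _ _ sq⟩⟩
      exact absurd (SpThick.exists_scheme_of_thick X.property hth e) hX'
  refine ⟨hred, ?_⟩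
  open _root_.AlgSp Groth.Agent.AlgSpLib Groth.Agent.SpChev in
  have hne : Nonempty (Points X.obj) := by
    by_contra hne
    obtain ⟨T, ⟨θ⟩⟩ := exists_iso_yon_of_open_cover X.property (ι := PEmpty.{u + 1}) (fun a => a.elim)
      (fun a => a.elim) (fun a => a.elim) (fun x => (hne ⟨x⟩).elim)
    exact hX' ⟨T, ⟨θ.symm⟩⟩
  open _root_.AlgSp Groth.Agent.AlgSpLib Groth.Agent.SpChev in
  have hpre : PreirreducibleSpace (Points X.obj) := by
    refine ⟨isPreirreducible_iff_isClosed_union_isClosed.2 fun C₁ C₂ h₁ h₂ hcov => ?_⟩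
    by_contra hne'
    push Not at hne'
    let C : Bool → Set (Points X.obj) := fun k => if k then C₁ else C₂
    have hC : ∀ k, IsClosed (C k) ∧ C k ≠ Set.univ := fun k => by
      cases k
      · exact ⟨h₂, fun h => hne'.2 h.ge⟩
      · exact ⟨h₁, fun h => hne'.1 h.ge⟩
    choose Z i hZa hic hir hZr using fun k => SpQS.exists_redInduced X.property (hC k).1
    refine hX' (isSch_of_two_closed X.property i hic (fun k => ?_) fun y => ?_)
    · refine (hm (i k) (hic k)).resolve_left fun hiso => (hC k).2 ?_
      rw [← hir k]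
      exact Set.eq_univ_of_forall fun y =>
        ⟨Points.map (inv (i k)) y, by rw [← Points.map_comp, IsIso.inv_hom_id, Points.map_id]⟩
    · rcases hcov (Set.mem_univ y) with h | h
      · exact ⟨true, (hir true).symm ▸ h⟩
      · exact ⟨false, (hir false).symm ▸ h⟩
  exact { hpre with toNonempty := hne }

end Groth.Agent.S10050
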