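import Groth.Statements.S10052
import Groth.Agent.BaseIdeal.Limit
import Groth.Agent.SpQS.Basic
import Groth.Agent.LqfRep.Main

set_option autoImplicit false
universe u
open CategoryTheory CategoryTheory.Limits AlgebraicGeometry
open AlgSp

set_option backward.isDefEq.respectTransparency false

namespace Groth.Agent.S10052

/-- Let `X` be an algebraic space over `Spec A` with quasi-compact and quasi-separated structure
morphism. If `X` is not a scheme, there is an ideal `I ⊂ A` such that `X_{A/I}` is not a scheme but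
`X_{A/I'}` is a scheme for every ideal `I'` strictly containing `I`. -/
theorem result (A : CommRingCat.{u}) (X : AlgSp.Space (Spec A))
    (q : X.obj ⟶ (AlgSp.yon (Spec A)).obj (Over.mk (𝟙 (Spec A))))
    (hqc : AlgSp.IsQuasiCompactMor q) (hqs : AlgSp.IsQuasiSeparatedMor q) (hX : ¬ X.obj.obj.IsRepresentable) :
    ∃ I : Ideal A,
      (∀ (P : AlgSp.Sp (Spec A)) (fst : P ⟶ X.obj)
        (snd : P ⟶ (AlgSp.yon (Spec A)).obj (Over.mk (Spec.map (CommRingCat.ofHom (Ideal.Quotient.mk I))))),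
        IsPullback fst snd q ((AlgSp.yon (Spec A)).map (Over.homMk (Spec.map (CommRingCat.ofHom (Ideal.Quotient.mk I))))) →
          ¬ P.obj.IsRepresentable) ∧
      ∀ I' : Ideal A, I < I' →
        ∀ (P : AlgSp.Sp (Spec A)) (fst : P ⟶ X.obj)
          (snd : P ⟶ (AlgSp.yon (Spec A)).obj (Over.mk (Spec.map (CommRingCat.ofHom (Ideal.Quotient.mk I'))))),
          IsPullback fst snd q ((AlgSp.yon (Spec A)).map (Over.homMk (Spec.map (CommRingCat.ofHom (Ideal.Quotient.mk I'))))) →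
            P.obj.IsRepresentable := by
  classical
  have hT : IsTerminal ((AlgSp.yon (Spec A)).obj (Over.mk (𝟙 (Spec A)))) := Over.mkIdTerminal.isTerminalObj (AlgSp.yon _)
  have hXq : AlgSp.IsQuasiCompactSp X.obj :=
    haveI : CompactSpace (Over.mk (𝟙 (Spec A))).left := inferInstanceAs (CompactSpace (Spec A))
    hqc (AlgSp.IsAlgSpace.yon_obj _) (AlgSpLib.isQuasiCompactSp_yon _) (𝟙 _) (𝟙 _) q (IsPullback.id_horiz q)
  have hXs : AlgSp.IsQuasiSeparatedSp X.obj := (SpQS.isQuasiSeparatedSp_iff_mor q).2 hqs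
  have hP : ∀ (I : Ideal A) (P : AlgSp.Sp (Spec A)) (fst : P ⟶ X.obj)
      (snd : P ⟶ (AlgSp.yon (Spec A)).obj (Over.mk (Spec.map (CommRingCat.ofHom (Ideal.Quotient.mk I))))),
      IsPullback fst snd q ((AlgSp.yon (Spec A)).map (Over.homMk (Spec.map (CommRingCat.ofHom (Ideal.Quotient.mk I))))) →
        Nonempty (P ≅ BaseIdeal.bcq X.obj I) := fun I P fst snd sq => by
    have h := GeomPi0.isPullback_prod X.obj (BaseIdeal.Quot I)
    rw [hT.hom_ext q ((Over.mkIdTerminal.isTerminalObj (AlgSp.yon _)).from X.obj)] at sq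
    exact ⟨sq.isoIsPullback _ _ h⟩
  have hiff : ∀ {P Q : AlgSp.Sp (Spec A)}, (P ≅ Q) → P.obj.IsRepresentable → Q.obj.IsRepresentable := fun e h => by
    obtain ⟨V, ⟨φ⟩⟩ := SpDesc.exists_yon_iso h
    exact LqfRep.isRepresentable_of_iso (e.symm ≪≫ φ.symm)
  let s : Set (Ideal A) := {I | ¬ (BaseIdeal.bcq X.obj I).obj.IsRepresentable}
  have hbot : (⊥ : Ideal A) ∈ s := fun h => hX (by
    haveI : IsIso (BaseIdeal.Quot (A := A) ⊥).hom := by
      have : IsIso (CommRingCat.ofHom (Ideal.Quotient.mk (⊥ : Ideal A))) :=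
        (ConcreteCategory.isIso_iff_bijective _).2 ⟨(injective_iff_map_eq_zero _).2 fun x hx => Ideal.Quotient.eq_zero_iff_mem.1 hx, Ideal.Quotient.mk_surjective⟩
      exact inferInstanceAs (IsIso (Spec.map _))
    haveI : IsIso (Over.homMk (BaseIdeal.Quot (A := A) ⊥).hom : BaseIdeal.Quot (A := A) ⊥ ⟶ Over.mk (𝟙 (Spec A))) := by
      haveI : IsIso ((Over.forget _).map (Over.homMk (BaseIdeal.Quot (A := A) ⊥).hom : BaseIdeal.Quot (A := A) ⊥ ⟶ Over.mk (𝟙 (Spec A)))) :=
        ‹IsIso (BaseIdeal.Quot (A := A) ⊥).hom›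
      exact isIso_of_reflects_iso _ (Over.forget _)
    haveI := (GeomPi0.isPullback_prod X.obj (BaseIdeal.Quot (A := A) ⊥)).isIso_fst_of_isIso
    exact hiff (asIso Limits.prod.fst) h)
  obtain ⟨I, -, hI⟩ := zorn_le_nonempty₀ s (fun c hcs hc y hy => by
    haveI : Nonempty c := ⟨⟨y, hy⟩⟩
    haveI : IsDirectedOrder c := ⟨fun a b => by
      rcases hc.total a.2 b.2 with h | h
      · exact ⟨b, h, le_refl b⟩
      · exact ⟨a, le_refl a, h⟩⟩
    refine ⟨⨆ J : c, (J : Ideal A), fun h => ?_, fun J hJ => le_iSup (fun J : c => (J : Ideal A)) ⟨J, hJ⟩⟩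
    obtain ⟨T, ⟨e⟩⟩ := SpDesc.exists_yon_iso h
    obtain ⟨j, W, ⟨θ⟩⟩ := BaseIdeal.exists_representable_stage (fun J : c => (J : Ideal A)) (fun a b h => h)
      X.property hXq hXs e
    exact hcs j.2 (LqfRep.isRepresentable_of_iso θ)) ⊥ hbot
  refine ⟨I, fun P fst snd sq h => hI.1 (hiff (hP I P fst snd sq).some h), fun I' hlt P fst snd sq => ?_⟩
  by_contra h
  exact hlt.not_ge (hI.2 (fun h' => h (hiff (hP I' P fst snd sq).some.symm h')) hlt.le)

end Groth.Agent.S10052
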