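import Groth.Statements.S10053
import Groth.Agent.ValLib.AnCrit

set_option autoImplicit false
universe u
open CategoryTheory CategoryTheory.Limits AlgebraicGeometry
open AlgSp

set_option backward.isDefEq.respectTransparency false

namespace Groth.Agent.S10053

/-- For a quasi-compact morphism `f : X ⟶ Y` of algebraic spaces over `S` these conditions are
equivalent: (1) `f` is universally closed; (2) for every `Z ⟶ Y` locally of finite presentation,
with `Z` an algebraic space, the map `|X ×_Y Z| → |Z|` is closed; (3) for some scheme `V` with a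
surjective etale morphism `V ⟶ Y`, the maps `|X ×_Y 𝐀^n_V| → |𝐀^n_V|` are closed for all `n`. Stated
as (1) ↔ (2) and (1) ↔ (3). -/
theorem result (S : Scheme.{u}) {X Y : AlgSp.Space S} (f : X ⟶ Y)
    (hqc : AlgSp.IsQuasiCompactMor f.hom) :
    (AlgSp.IsUnivClosedMor f.hom ↔
      ∀ (Z : AlgSp.Space S) (g : Z ⟶ Y), AlgSp.LocP @LocallyOfFinitePresentation g.hom →
        ∀ (P : AlgSp.Sp S) (fst : P ⟶ X.obj) (snd : P ⟶ Z.obj), IsPullback fst snd f.hom g.hom →
          IsClosedMap (AlgSp.Points.map snd)) ∧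
    (AlgSp.IsUnivClosedMor f.hom ↔
      ∃ (V : Over S) (p : (AlgSp.yon S).obj V ⟶ Y.obj), AlgSp.RepWith @Etale p ∧ AlgSp.RepWith @Surjective p ∧
        ∀ (n : ℕ) (P : AlgSp.Sp S) (fst : P ⟶ X.obj)
          (snd : P ⟶ (AlgSp.yon S).obj (Over.mk ((𝔸(ULift.{u} (Fin n); V.left) ↘ V.left) ≫ V.hom))),
          IsPullback fst snd f.hom ((AlgSp.yon S).map (Over.homMk (𝔸(ULift.{u} (Fin n); V.left) ↘ V.left)) ≫ p) →
            IsClosedMap (AlgSp.Points.map snd)) := by
  have key : ∀ (V : Over S) (p : (AlgSp.yon S).obj V ⟶ Y.obj), AlgSp.RepWith @Etale p → ∀ n : ℕ,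
      AlgSp.LocP @LocallyOfFinitePresentation ((AlgSp.yon S).map (Over.homMk (𝔸(ULift.{u} (Fin n); V.left) ↘ V.left) :
        Over.mk ((𝔸(ULift.{u} (Fin n); V.left) ↘ V.left) ≫ V.hom) ⟶ V) ≫ p) := fun V p hp n =>
    Groth.Agent.AlgSpLib.locP_of_chart Groth.Agent.AlgSpLib.etST_lfp (AlgSp.IsAlgSpace.yon_obj _) Y.property
      (a := 𝟙 _) (b := p) (h := Over.homMk (𝔸(ULift.{u} (Fin n); V.left) ↘ V.left))
      Groth.Agent.AlgSpLib.repWith_id' (AlgSp.repWith_id _ _) hp (Category.id_comp _)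
      (show LocallyOfFinitePresentation (𝔸(ULift.{u} (Fin n); V.left) ↘ V.left) from inferInstance)
  refine ⟨⟨fun hc Z g _ P fst snd sq => hc Z.property g.hom fst snd sq, fun h => ?_⟩,
    ⟨fun hc => ?_, fun ⟨V, p, hpe, hps, H⟩ =>
      Groth.Agent.ValLib.isUnivClosedMor_of_affineSpace X.property Y.property f.hom hqc hpe hps H⟩⟩
  · obtain ⟨V, p, hpe, hps⟩ := Y.property.atlas
    have h' : ∀ (Z : AlgSp.Sp S) (hZ : AlgSp.IsAlgSpace Z) (m : Z ⟶ Y.obj),
        AlgSp.LocP @LocallyOfFinitePresentation m → ∀ (P : AlgSp.Sp S) (fst : P ⟶ X.obj) (snd : P ⟶ Z),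
          IsPullback fst snd f.hom m → IsClosedMap (AlgSp.Points.map snd) :=
      fun Z hZ m hm P fst snd sq => h ⟨Z, hZ⟩ (ObjectProperty.homMk m) hm P fst snd sq
    refine Groth.Agent.ValLib.isUnivClosedMor_of_affineSpace X.property Y.property f.hom hqc hpe hps ?_
    intro n P fst snd sq
    exact h' _ (AlgSp.IsAlgSpace.yon_obj _) _ (key V p hpe n) P fst snd sq
  · obtain ⟨V, p, hpe, hps⟩ := Y.property.atlas
    exact ⟨V, p, hpe, hps, fun n P fst snd sq => hc (AlgSp.IsAlgSpace.yon_obj _) _ fst snd sq⟩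

end Groth.Agent.S10053
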