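import Groth.Statements.S10054
import Groth.Agent.DvrDom2.Lift
import Groth.Agent.AlgSpLib.QCompact
import Groth.Agent.AlgSpLib.NoethPts
import Groth.Agent.SpQS.DecentProps

set_option autoImplicit false
universe u
open CategoryTheory CategoryTheory.Limits AlgebraicGeometry
open AlgSp

set_option backward.isDefEq.respectTransparency false

namespace Groth.Agent.S10054

/-- Let `f : X ⟶ Y` be a morphism of finite type of algebraic spaces over `S` with `Y` locally
Noetherian, and `y ∈ |Y|` a point lying in the closure of `f`'s image on points. Then one can find a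
discrete valuation ring `A` with fraction field `K` and a commutative square `Spec K ⟶ X`, `Spec A ⟶
Y` (over `f` and `Spec K ⟶ Spec A`) sending the closed point of `Spec A` to `y`. (The refinement
that the `K`-point may be taken at a codimension-0 point with `K` a residue field of an etale chart
is not included.) -/
theorem result (S : Scheme.{u}) {X Y : AlgSp.Space S} (f : X ⟶ Y)
    (hft : AlgSp.IsFiniteTypeMor f.hom) (hY : AlgSp.IsLocNoethSp Y.obj) (y : AlgSp.Points Y.obj)
    (hy : y ∈ closure (Set.range (AlgSp.Points.map f.hom))) :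
    ∃ (A : Type u) (_ : CommRing A) (_ : IsDomain A) (_ : IsDiscreteValuationRing A)
      (a : Spec (CommRingCat.of A) ⟶ S)
      (α : (AlgSp.yon S).obj (Over.mk a) ⟶ Y.obj)
      (κ : (AlgSp.yon S).obj (Over.mk (Spec.map (CommRingCat.ofHom (algebraMap A (FractionRing A))) ≫ a)) ⟶ X.obj),
      κ ≫ f.hom = (AlgSp.yon S).map (Over.homMk (Spec.map (CommRingCat.ofHom (algebraMap A (FractionRing A))))) ≫ α ∧
      AlgSp.Points.map α (AlgSp.Points.schemeEquiv (Over.mk a) (IsLocalRing.closedPoint A)) = y := by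
  obtain ⟨h'⟩ : Nonempty (AlgSp.IsAlgSpace X.obj → AlgSp.IsAlgSpace Y.obj → (∃ (A : Type u) (_ : CommRing A)
      (_ : IsDomain A) (_ : IsDiscreteValuationRing A) (a : Spec (CommRingCat.of A) ⟶ S)
      (α : (AlgSp.yon S).obj (Over.mk a) ⟶ Y.obj)
      (κ : (AlgSp.yon S).obj (Over.mk (Spec.map (CommRingCat.ofHom (algebraMap A (FractionRing A))) ≫ a)) ⟶ X.obj),
      κ ≫ f.hom = (AlgSp.yon S).map (Over.homMk (Spec.map (CommRingCat.ofHom (algebraMap A (FractionRing A))))) ≫ α ∧
      AlgSp.Points.map α (AlgSp.Points.schemeEquiv (Over.mk a) (IsLocalRing.closedPoint A)) = y)) := ⟨fun hA hB => by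
    obtain ⟨V, b, v, hV, hb, rfl, -⟩ := SpQS.exists_affine_chart_at hB y
    haveI := hV
    haveI := AlgSpLib.isLocallyNoetherian_chart hB hY hb
    obtain ⟨P, fst, snd, sq⟩ : ∃ (P : AlgSp.Sp S) (fst : P ⟶ X.obj) (snd : P ⟶ (AlgSp.yon S).obj V),
        IsPullback fst snd f.hom b := ⟨_, _, _, IsPullback.of_hasPullback f.hom b⟩
    have hP : AlgSp.IsAlgSpace P := AlgSpLib.isAlgSpace_of_isPullback_space hB hA (AlgSp.IsAlgSpace.yon_obj _) sq
    haveI : CompactSpace (AlgSp.Points ((AlgSp.yon S).obj V)) := (AlgSp.Points.schemeHomeo V).compactSpace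
    haveI := AlgSpLib.compactSpace_of_isQuasiCompactSp (hft.2 (AlgSp.IsAlgSpace.yon_obj V)
      (AlgSpLib.isQuasiCompactSp_of_compactSpace (AlgSp.IsAlgSpace.yon_obj V)) b fst snd sq)
    obtain ⟨W, q, hW, hq, hqs⟩ := AlgSpLib.exists_affine_chart_of_compact hP
    haveI := hW
    obtain ⟨k, hk⟩ := AlgSpLib.exists_map_eq (q ≫ snd)
    have comm : (q ≫ fst) ≫ f.hom = (AlgSp.yon S).map k ≫ b := by rw [hk, Category.assoc, Category.assoc, sq.w]
    haveI : LocallyOfFiniteType k.left :=
      hft.1 _ b k (AlgSpLib.repWith_comp hq (AlgSpLib.repWith_baseChange sq.flip hb)) hb comm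
    have hv : v ∈ closure (Set.range k.left) := by
      have h1 := (AlgSpLib.isOpenMap_ofPt (AlgSpLib.repWith_universallyOpen_of_etale hb)).preimage_closure_subset_closure_preimage
        (show v ∈ AlgSp.Points.ofPt b ⁻¹' closure (Set.range (AlgSp.Points.map f.hom)) from hy)
      refine closure_mono ?_ h1
      rintro z ⟨x, hx⟩
      obtain ⟨pz, hp1, hp2⟩ := AlgSpLib.exists_point_of_isPullback sq x (AlgSp.Points.ofScheme V z)
        (hx.trans (AlgSp.Points.ofPt_eq_map_ofScheme b z))
      obtain ⟨w, rfl⟩ := AlgSpLib.ofPt_surjective hqs pz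
      refine ⟨w, (AlgSp.Points.schemeEquiv V).injective ?_⟩
      rw [AlgSp.Points.map_ofPt, ← hk] at hp2
      refine Eq.trans ?_ hp2
      show AlgSp.Points.ofPt (𝟙 _) (k.left w) = _
      rw [← AlgSpLib.ofPt_comp, Category.comp_id]
    obtain ⟨A, iA, iD, iV, g, h, hg, hgh⟩ := DvrDom2.exists_dvr_of_closure k.left hv
    let a : Spec (CommRingCat.of A) ⟶ S := g ≫ V.hom
    let gV : Over.mk a ⟶ V := Over.homMk g rfl
    let η : Over.mk (Spec.map (CommRingCat.ofHom (algebraMap A (FractionRing A))) ≫ a) ⟶ Over.mk a :=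
      Over.homMk (Spec.map (CommRingCat.ofHom (algebraMap A (FractionRing A)))) rfl
    let hη : Over.mk (Spec.map (CommRingCat.ofHom (algebraMap A (FractionRing A))) ≫ a) ⟶ W := Over.homMk h (by
      show h ≫ W.hom = Spec.map _ ≫ g ≫ V.hom
      rw [← Over.w k, ← Category.assoc, hgh, Category.assoc])
    refine ⟨A, iA, iD, iV, a, (AlgSp.yon S).map gV ≫ b, (AlgSp.yon S).map hη ≫ q ≫ fst, ?_, ?_⟩
    · have e : hη ≫ k = η ≫ gV := Over.OverMorphism.ext hgh
      show ((AlgSp.yon S).map hη ≫ q ≫ fst) ≫ f.hom = (AlgSp.yon S).map η ≫ (AlgSp.yon S).map gV ≫ b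
      rw [Category.assoc, comm]
      exact ((AlgSp.yon S).map_comp_assoc hη k b).symm.trans ((congrArg (fun t => (AlgSp.yon S).map t ≫ b) e).trans ((AlgSp.yon S).map_comp_assoc η gV b))
    · show AlgSp.Points.map _ (AlgSp.Points.ofScheme _ _) = _
      rw [← AlgSp.Points.ofPt_eq_map_ofScheme, AlgSpLib.ofPt_comp]
      exact congrArg _ hg⟩
  exact h' X.property Y.property

end Groth.Agent.S10054
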