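import Groth.Agent.SpDesc.EventAffine
import Groth.Prelude.Def_AlgSp4
import Mathlib.AlgebraicGeometry.Morphisms.QuasiSeparated

set_option autoImplicit false
universe u
open CategoryTheory CategoryTheory.Limits AlgebraicGeometry
open AlgSp

set_option backward.isDefEq.respectTransparency false

namespace Groth.Agent.S10060

/-- Let `S` be a quasi-separated scheme, `Y` an algebraic space over `S` which is quasi-compact and
quasi-separated over `S`, and `X` the limit, in fppf sheaves, of a cofiltered system `(X_i)` of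
algebraic spaces over `Y`, each quasi-compact and quasi-separated over `S`, whose transition maps
are affine. If `X ⟶ Y` is affine, then `X_i ⟶ Y` is affine for all `i` mapping to some `i₀`. (The
published statement allows any base scheme and uses absolute quasi-separatedness; this row assumes
the base quasi-separated, over which quasi-separatedness relative to the base is the absolute
notion.) -/
theorem result (S : Scheme.{u}) [QuasiSeparatedSpace S] {I : Type u} [SmallCategory I] [IsCofiltered I]
    (Y : AlgSp.Space S) (D : I ⥤ AlgSp.Sp S) (hD : ∀ i, AlgSp.IsAlgSpace (D.obj i))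
    (t : D ⟶ (Functor.const I).obj Y.obj)
    (hDa : ∀ (i j : I) (φ : i ⟶ j), AlgSp.IsAffineMor (D.map φ))
    (c : Cone D) (hc : IsLimit c) (g : c.pt ⟶ Y.obj) (hg : ∀ i, c.π.app i ≫ t.app i = g)
    (hqc : ∀ i, AlgSp.IsQuasiCompactSp (D.obj i)) (hqs : ∀ i, AlgSp.IsQuasiSeparatedSp (D.obj i))
    (hYqc : AlgSp.IsQuasiCompactSp Y.obj) (hYqs : AlgSp.IsQuasiSeparatedSp Y.obj) (hX : AlgSp.IsAffineMor g) :
    ∃ i₀ : I, ∀ (i : I) (_ : i ⟶ i₀), AlgSp.IsAffineMor (t.app i) := by
  obtain ⟨i₁⟩ := IsCofiltered.nonempty (C := I)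
  obtain ⟨l₀, h⟩ := SpDesc.exists_eventually_affine D hD hDa c hc i₁ (hqc i₁) (hqs i₁) Y.property hYqc hYqs (t.app i₁)
    (by rw [hg]; exact hX)
  refine ⟨l₀.left, fun i φ => ?_⟩
  have h1 := h (Over.mk (φ ≫ l₀.hom)) (Over.homMk φ rfl)
  have h2 : D.map (φ ≫ l₀.hom) ≫ t.app i₁ = t.app i := (t.naturality _).trans (Category.comp_id _)
  exact (AlgSpLib.isAffineMor_iff_repWith _).2 (h2 ▸ h1)

end Groth.Agent.S10060
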