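import Groth.Statements.S10063
import Groth.Agent.SpApprox.GoodDiagram
import Groth.Agent.SchImg.LimSpace

set_option autoImplicit false
universe u
open CategoryTheory CategoryTheory.Limits AlgebraicGeometry
open AlgSp

set_option backward.isDefEq.respectTransparency false

namespace Groth.Agent.S10063

/-- Let `B` be the limit, in fppf sheaves over `S`, of a cofiltered system `(B_i)` of Noetherian
algebraic spaces over `S` (quasi-compact and quasi-separated over `S`, locally Noetherian) whose
transition maps are affine, and `X ⟶ B` a quasi-separated morphism of finite type. Then for some `i`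
there are `W ⟶ B_i` of finite type and `X ⟶ W` compatible with `X ⟶ B ⟶ B_i` such that `X ⟶ B
×_{B_i} W` is a closed immersion. (The published statement allows any base scheme and uses absolute
quasi-separatedness; this row assumes the base quasi-separated, over which quasi-separatedness
relative to the base is the absolute notion.) -/
theorem result (S : Scheme.{u}) [QuasiSeparatedSpace S] {I : Type u} [SmallCategory I] [IsCofiltered I]
    (D : I ⥤ AlgSp.Sp S) (hD : ∀ i, AlgSp.IsAlgSpace (D.obj i))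
    (hDa : ∀ (i j : I) (φ : i ⟶ j), AlgSp.IsAffineMor (D.map φ))
    (hqc : ∀ i, AlgSp.IsQuasiCompactSp (D.obj i)) (hqs : ∀ i, AlgSp.IsQuasiSeparatedSp (D.obj i))
    (c : Cone D) (hc : IsLimit c)
    (hln : ∀ i, AlgSp.IsLocNoethSp (D.obj i))
    (X : AlgSp.Space S) (a : X.obj ⟶ c.pt) (haqs : AlgSp.IsQuasiSeparatedMor a) (hft : AlgSp.IsFiniteTypeMor a) :
    ∃ (i : I) (W : AlgSp.Space S) (w : W.obj ⟶ D.obj i) (b : X.obj ⟶ W.obj),
      AlgSp.IsFiniteTypeMor w ∧ b ≫ w = a ≫ c.π.app i ∧
      ∀ (P : AlgSp.Sp S) (fst : P ⟶ c.pt) (snd : P ⟶ W.obj), IsPullback fst snd (c.π.app i) w →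
        ∀ k : X.obj ⟶ P, k ≫ fst = a → k ≫ snd = b → AlgSp.RepWith @IsClosedImmersion k := by
  obtain ⟨i⟩ := IsCofiltered.nonempty (C := I)
  obtain ⟨W, w, b, hw, hb, h⟩ := SpApprox.exists_good_diagram (SchImg.isAlgSpace_lim D hD hDa c hc)
    ⟨D.obj i, hD i⟩ (hqc i) (hqs i)
    ((AlgSpLib.isAffineMor_iff_repWith _).1 (SchImg.repWith_affine_lim D hDa c hc i)) X a hft.2 haqs hft.1
  exact ⟨i, W, w, b, ⟨SpApprox.lft_of_lfp hw.1, hw.2.1⟩, hb, h⟩

end Groth.Agent.S10063
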