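import Groth.Statements.S10077
import Groth.Agent.SpApprox.HomLim
import Mathlib.CategoryTheory.Limits.Types.Filtered
import Mathlib.CategoryTheory.Limits.Types.Pullbacks

set_option autoImplicit false
universe u
open CategoryTheory CategoryTheory.Limits AlgebraicGeometry
open AlgSp

set_option linter.style.haveILetI false
set_option backward.isDefEq.respectTransparency false

namespace Groth.Agent.S10077

/-- A morphism `f : X ⟶ Y` of algebraic spaces over `S` is locally of finite presentation if and only if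
for every directed limit `T = lim T_i` of algebraic spaces over `S`, each quasi-compact and
quasi-separated over `S`, with affine transition maps, the square formed by `colim Mor(T_i, X) →
Mor(T, X)`, `colim Mor(T_i, Y) → Mor(T, Y)` and composition with `f` is cartesian in sets. (The
published statement allows any base scheme and uses absolute quasi-separatedness; this row assumes
the base quasi-separated, over which quasi-separatedness relative to the base is the absolute
notion.) -/
theorem result (S : Scheme.{u}) [QuasiSeparatedSpace S]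
    {X Y : AlgSp.Space S} (f : X ⟶ Y) :
    AlgSp.LocP @LocallyOfFinitePresentation f.hom ↔
      ∀ ⦃I : Type u⦄ [SmallCategory I] [IsCofiltered I] (D : I ⥤ AlgSp.Sp S),
        (∀ i, AlgSp.IsAlgSpace (D.obj i)) → (∀ (i j : I) (φ : i ⟶ j), AlgSp.IsAffineMor (D.map φ)) →
        (∀ i, AlgSp.IsQuasiCompactSp (D.obj i)) → (∀ i, AlgSp.IsQuasiSeparatedSp (D.obj i)) →
        ∀ (c : Cone D) (_ : IsLimit c),
          IsPullback (colimMap (Functor.whiskerLeft D.op (yoneda.map f.hom)))
            (colimit.desc (D.op ⋙ yoneda.obj X.obj) ((yoneda.obj X.obj).mapCocone c.op))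
            (colimit.desc (D.op ⋙ yoneda.obj Y.obj) ((yoneda.obj Y.obj).mapCocone c.op))
            ((yoneda.map f.hom).app (Opposite.op c.pt)) := by
  classical
  refine ⟨fun hf I _ _ D hD hDa hDq hDs c hc => ?_, fun h => ?_⟩
  · haveI : IsFiltered Iᵒᵖ := isFiltered_op_of_isCofiltered I
    rw [Types.isPullback_iff]
    let FX := D.op ⋙ yoneda.obj X.obj
    let FY := D.op ⋙ yoneda.obj Y.obj
    have htop : ∀ (i : Iᵒᵖ) (a : D.obj i.unop ⟶ X.obj),
        colimMap (Functor.whiskerLeft D.op (yoneda.map f.hom)) (colimit.ι FX i a) = colimit.ι FY i (a ≫ f.hom) :=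
      fun i a => ConcreteCategory.congr_hom (ι_colimMap (Functor.whiskerLeft D.op (yoneda.map f.hom)) i) a
    have hl : ∀ (i : Iᵒᵖ) (a : D.obj i.unop ⟶ X.obj),
        colimit.desc FX ((yoneda.obj X.obj).mapCocone c.op) (colimit.ι FX i a) = c.π.app i.unop ≫ a :=
      fun i a => ConcreteCategory.congr_hom (colimit.ι_desc ((yoneda.obj X.obj).mapCocone c.op) i) a
    have hr : ∀ (i : Iᵒᵖ) (a : D.obj i.unop ⟶ Y.obj),
        colimit.desc FY ((yoneda.obj Y.obj).mapCocone c.op) (colimit.ι FY i a) = c.π.app i.unop ≫ a :=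
      fun i a => ConcreteCategory.congr_hom (colimit.ι_desc ((yoneda.obj Y.obj).mapCocone c.op) i) a
    refine ⟨colimit.hom_ext fun i => ?_, fun p q ⟨hp, hq⟩ => ?_, fun p x hpx => ?_⟩
    · ext a
      show (colimit.desc FY ((yoneda.obj Y.obj).mapCocone c.op)) ((colimMap (Functor.whiskerLeft D.op (yoneda.map f.hom))) (colimit.ι FX i a)) =
        ((colimit.desc FX ((yoneda.obj X.obj).mapCocone c.op)) (colimit.ι FX i a)) ≫ f.hom
      rw [htop, hr, hl, Category.assoc]
    · obtain ⟨i, a, rfl⟩ := Types.jointly_surjective' p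
      obtain ⟨j, b, rfl⟩ := Types.jointly_surjective' q
      rw [htop, htop, Types.FilteredColimit.colimit_eq_iff FY] at hp
      obtain ⟨k, u, v, hk⟩ := hp
      have hk' : (D.map u.unop ≫ a) ≫ f.hom = (D.map v.unop ≫ b) ≫ f.hom := by
        rw [Category.assoc, Category.assoc]; exact hk
      rw [hl, hl] at hq
      obtain ⟨m, φ, hm⟩ := SpApprox.exists_stage_eq D hD hDa c hc (hDq k.unop) hDs X.property Y.property f.hom hf _ _ hk'
        (by rw [← Category.assoc, ← Category.assoc, c.w, c.w]; exact hq)
      refine (Types.FilteredColimit.colimit_eq_iff FX).2 ⟨Opposite.op m, u ≫ φ.op, v ≫ φ.op, ?_⟩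
      show D.map (φ ≫ u.unop) ≫ a = D.map (φ ≫ v.unop) ≫ b
      rw [D.map_comp, D.map_comp, Category.assoc, Category.assoc]
      exact hm
    · obtain ⟨i, y, rfl⟩ := Types.jointly_surjective' p
      rw [hr] at hpx
      obtain ⟨k, φ, x', hx', hx'f⟩ := SpApprox.exists_stage_lfp D hD hDa c hc (hDq i.unop) hDs X.property Y.property
        f.hom hf x y hpx.symm
      refine ⟨colimit.ι FX (Opposite.op k) x', ?_, (hl (Opposite.op k) x').trans hx'⟩
      rw [htop]
      exact (Types.FilteredColimit.colimit_eq_iff FY).2 ⟨Opposite.op k, 𝟙 _, φ.op, by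
        show D.map (𝟙 k) ≫ x' ≫ f.hom = D.map φ ≫ y
        rw [D.map_id, Category.id_comp, hx'f]⟩
  · refine LfpLim.locP_lfp_of_surj X.property Y.property f.hom fun I _ _ G L hL hG hpt x i y e => ?_
    haveI : IsFiltered Iᵒᵖ := isFiltered_op_of_isCofiltered I
    haveI : IsConnected I := IsCofiltered.isConnected I
    haveI := hG
    have hlim := isLimitOfPreserves (yon S) (isLimitOfReflects (Over.forget S) hL)
    have hP := h (G ⋙ yon S) (fun j => IsAlgSpace.yon_obj _)
      (fun a b φ => (AlgSpLib.isAffineMor_iff_repWith _).2 ((AlgSpLib.repWith_yon_iff _).2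
        (inferInstanceAs (IsAffineHom (G.map φ).left))))
      (fun j => AlgSpLib.isQuasiCompactSp_yon _)
      (fun j => (AlgSp.repWith_diag_yon_iff @QuasiCompact (G.obj j)).2
        (inferInstanceAs (QuasiCompact (pullback.diagonal (G.obj j).hom)))) _ hlim
    obtain ⟨-, -, hsurj⟩ := (Types.isPullback_iff _ _ _ _).1 hP
    let FX := (G ⋙ yon S).op ⋙ yoneda.obj X.obj
    let FY := (G ⋙ yon S).op ⋙ yoneda.obj Y.obj
    obtain ⟨p, hp₁, hp₂⟩ := hsurj (colimit.ι FY (Opposite.op i) y) x (by
      refine (ConcreteCategory.congr_hom (colimit.ι_desc ((yoneda.obj Y.obj).mapCocone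
        ((yon S).mapCone L).op) (Opposite.op i)) y).trans ?_
      exact e.symm)
    obtain ⟨j, a, rfl⟩ := Types.jointly_surjective' p
    have h1 : colimit.ι FY j (a ≫ f.hom) = colimit.ι FY (Opposite.op i) y :=
      (ConcreteCategory.congr_hom (ι_colimMap (Functor.whiskerLeft (G ⋙ yon S).op (yoneda.map f.hom)) j) a).symm.trans hp₁
    obtain ⟨k, u, v, hk⟩ := (Types.FilteredColimit.colimit_eq_iff FY).1 h1
    have h2 : (yon S).map (L.π.app j.unop) ≫ a = x :=
      (ConcreteCategory.congr_hom (colimit.ι_desc ((yoneda.obj X.obj).mapCocone ((yon S).mapCone L).op) j) a).symm.trans hp₂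
    refine ⟨k.unop, v.unop, (yon S).map (G.map u.unop) ≫ a, ?_, ?_⟩
    · rw [← Functor.map_comp_assoc, L.w]; exact h2
    · rw [Category.assoc]; exact hk

end Groth.Agent.S10077
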