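import Groth.Statements.S10078
import Groth.Agent.EtQC.FPColimAll

set_option autoImplicit false
universe u
open CategoryTheory CategoryTheory.Limits AlgebraicGeometry Opposite
open AlgSp

set_option linter.style.haveILetI false
set_option backward.isDefEq.respectTransparency false

namespace Groth.Agent.S10078

/-- Let `S` be a quasi-separated scheme and `X` an algebraic space over `S`, quasi-compact and
quasi-separated over `S`. Then every quasi-coherent `O_X`-module `M` on the small etale site of `X`
is a filtered colimit of `O_X`-modules of finite presentation: some diagram of finitely presented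
modules indexed by a small filtered category has a colimit cocone with vertex `M`. (The published
statement allows any base scheme and uses absolute quasi-separatedness; this row assumes the base
quasi-separated, over which quasi-separatedness relative to the base is the absolute notion.) -/
theorem result {S : Scheme.{u}} [QuasiSeparatedSpace ↥S]
    (X : AlgSp.Space S) (hqc : AlgSp.IsQuasiCompactSp X.obj) (hqs : AlgSp.IsQuasiSeparatedSp X.obj)
    (M : AlgSp.ModEt X.obj) [M.IsQuasicoherent] :
    ∃ (J : Type (u + 1)) (_ : SmallCategory J) (_ : IsFiltered J) (D : J ⥤ AlgSp.ModEt X.obj)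
      (ι : D ⟶ (Functor.const J).obj M),
      (∀ j, (D.obj j).IsFinitePresentation) ∧ Nonempty (IsColimit (Cocone.mk M ι)) := by
  classical
  haveI := Groth.Agent.AlgSpLib.compactSpace_of_isQuasiCompactSp hqc
  obtain ⟨T, p, hT, hpe, hps⟩ := Groth.Agent.AlgSpLib.exists_affine_chart_of_compact X.property
  let E₀ : EtOver X.obj := EtOver.mk p hpe
  haveI : IsAffine E₀.obj.left.left := hT
  choose P φ hP hfp himg using fun m : sectModEt M E₀ => Groth.Agent.EtQC.exists_fp_to X hqc hqs M E₀ {m}
  haveI := hP
  haveI := Groth.Agent.EtQC.isDirected_sumIdx hqc hqs P φ E₀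
  haveI := Groth.Agent.EtQC.nonempty_sumIdx hqc hqs P φ E₀
  exact ⟨Groth.Agent.EtQC.SumIdx P φ E₀, inferInstance, inferInstance,
    Groth.Agent.EtQC.sumSys P φ E₀ hps, Groth.Agent.EtQC.sumCocone P φ E₀ hps,
    Groth.Agent.EtQC.isFinitePresentation_sumSys P φ E₀ hps (fun m => hfp m E₀),
    Groth.Agent.EtQC.nonempty_isColimit_sumSys hqc hqs P φ E₀ hps fun m =>
      ⟨m, himg m m (Finset.mem_singleton_self m)⟩⟩

end Groth.Agent.S10078
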