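import Groth.Statements.S10079
import Groth.Agent.EtQC.FTUnion
import Groth.Agent.AlgSpLib.QCompact

set_option autoImplicit false
universe u
open CategoryTheory CategoryTheory.Limits AlgebraicGeometry Opposite
open AlgSp

namespace Groth.Agent.S10079

/-- Let `S` be a quasi-separated scheme, `X` an algebraic space over `S`, quasi-compact and
quasi-separated over `S`, and `M` a quasi-coherent `O_X`-module on the small etale site of `X`. Then
the subobjects of `M` whose underlying module is quasi-coherent of finite type form a directed
(filtered, nonempty) partial order, and the cocone of their inclusion arrows exhibits `M` as the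
colimit of these submodules. (The published statement allows any base scheme and uses absolute
quasi-separatedness; this row assumes the base quasi-separated, over which quasi-separatedness
relative to the base is the absolute notion.) -/
theorem result {S : Scheme.{u}} [QuasiSeparatedSpace ↥S]
    (X : AlgSp.Space S) (hqc : AlgSp.IsQuasiCompactSp X.obj) (hqs : AlgSp.IsQuasiSeparatedSp X.obj)
    (M : AlgSp.ModEt X.obj) [M.IsQuasicoherent]
    (P : ObjectProperty (Subobject M))
    (hP : P = fun N => (Subobject.underlying.obj N).IsQuasicoherent ∧ (Subobject.underlying.obj N).IsFiniteType)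
    (ι : P.ι ⋙ Subobject.underlying ⟶ (Functor.const P.FullSubcategory).obj M)
    (hι : ∀ N : P.FullSubcategory, ι.app N = N.obj.arrow) :
    IsFiltered P.FullSubcategory ∧ Nonempty (IsColimit (Cocone.mk M ι)) := by
  haveI := Groth.Agent.AlgSpLib.compactSpace_of_isQuasiCompactSp hqc
  obtain ⟨U, p, hU, he, hs⟩ := Groth.Agent.AlgSpLib.exists_affine_chart_of_compact X.property
  let E₀ : AlgSp.EtOver X.obj := ⟨CategoryTheory.CostructuredArrow.mk p, he⟩
  haveI : IsAffine E₀.obj.left.left := hU
  subst hP
  exact ⟨Groth.Agent.EtQC.isFiltered_ftSub X hqc hqs M E₀,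
    Groth.Agent.EtQC.nonempty_isColimit_ftSub X hqc hqs M (E₀ := E₀) hs ι hι⟩

end Groth.Agent.S10079
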