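import Groth.Statements.S10080
import Groth.Agent.EtQC.FPColim

set_option autoImplicit false
universe u
open CategoryTheory CategoryTheory.Limits AlgebraicGeometry Opposite
open AlgSp

set_option linter.style.haveILetI false
set_option backward.isDefEq.respectTransparency false

namespace Groth.Agent.S10080

/-- Let `S` be a quasi-separated scheme, `X` an algebraic space over `S`, quasi-compact and
quasi-separated over `S`, and `M` a quasi-coherent `O_X`-module of finite type on the small etale
site of `X`. Then `M` is the colimit of a system of `O_X`-modules of finite presentation, indexed by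
a nonempty directed partial order, whose transition maps are all epimorphisms. (The published
statement allows any base scheme and uses absolute quasi-separatedness; this row assumes the base
quasi-separated, over which quasi-separatedness relative to the base is the absolute notion.) -/
theorem result {S : Scheme.{u}} [QuasiSeparatedSpace ↥S]
    (X : AlgSp.Space S) (hqc : AlgSp.IsQuasiCompactSp X.obj) (hqs : AlgSp.IsQuasiSeparatedSp X.obj)
    (M : AlgSp.ModEt X.obj) [M.IsQuasicoherent] [M.IsFiniteType] :
    ∃ (J : Type (u + 1)) (_ : PartialOrder J) (_ : IsDirected J (· ≤ ·)) (_ : Nonempty J)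
      (D : J ⥤ AlgSp.ModEt X.obj) (ι : D ⟶ (Functor.const J).obj M),
      Nonempty (IsColimit (Cocone.mk M ι)) ∧ (∀ j, (D.obj j).IsFinitePresentation) ∧
        ∀ (j j' : J) (h : j ⟶ j'), Epi (D.map h) := by
  classical
  haveI := Groth.Agent.AlgSpLib.compactSpace_of_isQuasiCompactSp hqc
  obtain ⟨T, p, hT, hpe, hps⟩ := Groth.Agent.AlgSpLib.exists_affine_chart_of_compact X.property
  let E₀ : EtOver X.obj := EtOver.mk p hpe
  haveI : IsAffine E₀.obj.left.left := hT
  haveI := Groth.Agent.EtQC.finite_sections_of_isFiniteType (M := M) E₀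
  obtain ⟨t, ht⟩ := (Module.Finite.fg_top : (⊤ : Submodule (Groth.Agent.EtQC.R E₀) (sectModEt M E₀)).FG)
  obtain ⟨P, φ, hP, hfp, himg⟩ := Groth.Agent.EtQC.exists_fp_to X hqc hqs M E₀ t
  haveI := hP
  have hsur : Function.Surjective (Groth.Agent.EtQC.appM φ E₀) := by
    rw [← LinearMap.range_eq_top, eq_top_iff, ← ht, Submodule.span_le]
    intro s hs'
    exact himg s hs'
  haveI : Epi φ := Groth.Agent.EtQC.epi_of_surjective_chart (E₀ := E₀) X.property hps φ hsur
  obtain ⟨K₀, -⟩ := Groth.Agent.EtQC.exists_kerIdx_mem hqc hqs (φ := φ) (E₀ := E₀) ∅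
  exact ⟨Groth.Agent.EtQC.KerIdx X φ E₀, inferInstance, Groth.Agent.EtQC.isDirected_kerIdx hqc hqs, ⟨K₀⟩,
    Groth.Agent.EtQC.kerSys hps, Groth.Agent.EtQC.kerCocone hps,
    Groth.Agent.EtQC.nonempty_isColimit_kerSys hqc hqs hps,
    Groth.Agent.EtQC.isFinitePresentation_kerSys hps (hfp E₀),
    fun j j' h => Groth.Agent.EtQC.epi_kerSys_map hps h⟩

end Groth.Agent.S10080
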