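import Groth.Statements.S1010
import Groth.Agent.PerfHom.Basic

set_option autoImplicit false
set_option backward.isDefEq.respectTransparency false
set_option backward.isDefEq.respectTransparency.types false
universe u
open CategoryTheory CategoryTheory.Limits AlgebraicGeometry
attribute [local instance] HasDerivedCategory.standard
open Perf

namespace Groth.Agent.S1010

/-- Let the scheme X be quasi-compact and quasi-separated and E a bounded object of D(O_X) with
quasi-coherent cohomology sheaves. There is an integer n₀ > 0 such that for every finite locally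
free O_X-module F and every n ≥ n₀, every morphism F ⟶ E[n] in D(O_X) (an element of Extⁿ(F, E)) is
zero. -/
theorem result (X : Scheme.{u}) [CompactSpace ↥X] [QuasiSeparatedSpace ↥X]
    (E : DCoh.D X) (hE : DCoh.IsQCohD E) (a b : ℤ) [E.IsGE a] [E.IsLE b] :
    ∃ n₀ : ℤ, 0 < n₀ ∧ ∀ (F : X.Modules), FlatMod.IsFinLocFree F → ∀ n : ℤ, n₀ ≤ n →
      ∀ φ : DCoh.inD X F ⟶ E⟦n⟧, φ = 0 := by
  obtain ⟨N, hN⟩ := Groth.Agent.PerfHom.exists_window X
  refine ⟨max 1 (b + N + 1), by omega, fun F hF n hn φ => ?_⟩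
  let S := (HomologicalComplex.single X.Modules (ComplexShape.up ℤ) 0).obj F
  let e := (DerivedCategory.singleFunctorIsoCompQ X.Modules 0).app F
  have hS : DCoh.IsPerfect (DCoh.toD X S) := fun x => by
    refine ⟨⊤, trivial, fun G ⟨eG⟩ => ?_⟩
    obtain ⟨E', -, -, hv, hl, a⟩ : ∃ (E : CochainComplex ((⊤ : X.Opens) : Scheme.{u}).Modules ℤ) (_ : True) (_ : True),
        DCoh.VanishesOutside E 0 0 ∧ (∀ n, FlatMod.IsFinLocFree (E.X n)) ∧ E = (DCoh.restrictCx ⊤).obj S :=
      ⟨_, trivial, trivial, fun i hi => (Scheme.Modules.restrictFunctor _).map_isZero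
          (HomologicalComplex.isZero_single_obj_X (ComplexShape.up ℤ) 0 F i (by omega)), fun i => by
        rcases eq_or_ne i 0 with rfl | hi
        · exact Groth.Agent.DQCoh.isFinLocFree_of_iso' (((Scheme.Modules.restrictFunctor _).mapIso
            (HomologicalComplex.singleObjXSelf (ComplexShape.up ℤ) 0 F)) ≪≫
              (Scheme.Modules.restrictFunctorIsoPullback _).app F).symm (Groth.Agent.DerPerf.isFinLocFree_pullback _ hF)
        · exact Groth.Agent.DQCoh.isFinLocFree_of_isZero ((Scheme.Modules.restrictFunctor _).map_isZero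
            (HomologicalComplex.isZero_single_obj_X (ComplexShape.up ℤ) 0 F i hi)), rfl⟩
    subst a
    exact ⟨_, ⟨⟨0, 0, hv⟩, hl⟩, ⟨(Groth.Agent.DQCoh.rdIso (⊤ : X.Opens).ι G).symm ≪≫
      (DCoh.restrictD (⊤ : X.Opens).ι).mapIso eG ≪≫ Groth.Agent.DQCoh.rdIso (⊤ : X.Opens).ι S⟩⟩
  have h := hN 0 0 S (Groth.Agent.PerfHom.locIn_single hF) hS (E⟦n⟧)
    (fun i => Groth.Agent.QC.isQCoh_of_iso
      (((DerivedCategory.homologyFunctor X.Modules 0).shiftIso n i (n + i) rfl).app E).symm (hE (n + i)))
    (fun i h1 h2 => (DerivedCategory.isZero_of_isLE E b (n + i) (by omega)).of_iso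
      (((DerivedCategory.homologyFunctor X.Modules 0).shiftIso n i (n + i) rfl).app E)) (e.inv ≫ φ)
  rw [← cancel_epi e.inv, h, comp_zero]

end Groth.Agent.S1010
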