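import Groth.Statements.S10100
import Groth.Agent.LqfRep.Main

set_option autoImplicit false
universe u
open CategoryTheory CategoryTheory.Limits AlgebraicGeometry
open AlgSp

set_option backward.isDefEq.respectTransparency false

namespace Groth.Agent.S10100

/-- Let `F` be a presheaf of sets on schemes over `S`, `X` a scheme over `S` and `h_X ⟶ F` a map which
is representable by algebraic spaces and locally quasi-finite. Then `h_X ⟶ F` is representable by
schemes. -/
theorem result (S : Scheme.{u}) (F : AlgSp.PSp S) (X : Over S)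
    (p : (AlgSp.pyon S).obj X ⟶ F)
    (hp : AlgSp.RepBySpWith (AlgSp.LocP (@LocallyQuasiFinite ⊓ @LocallyOfFiniteType)) p) :
    (AlgSp.pyon S).relativelyRepresentable p := by
  intro U ξ
  have sq := IsPullback.of_hasPullback p ξ
  obtain ⟨hF, hA, hQ⟩ := hp ξ _ _ sq
  let F' : AlgSp.Sp S := ⟨_, hF⟩
  let sndS : F' ⟶ (AlgSp.yon S).obj U := ObjectProperty.homMk (pullback.snd p ξ)
  let fstS : F' ⟶ (AlgSp.yon S).obj X := ObjectProperty.homMk (pullback.fst p ξ)
  let q : F' ⟶ (AlgSp.yon S).obj (X ⨯ U) := prod.lift fstS sndS ≫ inv (prodComparison (AlgSp.yon S) X U)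
  have hq₁ : q ≫ (AlgSp.yon S).map prod.fst = fstS := by
    rw [Category.assoc, inv_prodComparison_map_fst, prod.lift_fst]
  have hq₂ : q ≫ (AlgSp.yon S).map prod.snd = sndS := by
    rw [Category.assoc, inv_prodComparison_map_snd, prod.lift_snd]
  have : Mono q := ⟨fun {Z} a b e => by
    apply ObjectProperty.hom_ext
    refine pullback.hom_ext ?_ ?_
    · have := congrArg (fun k => (k ≫ (AlgSp.yon S).map prod.fst).hom) e
      simp only [Category.assoc, hq₁] at this
      exact this
    · have := congrArg (fun k => (k ≫ (AlgSp.yon S).map prod.snd).hom) e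
      simp only [Category.assoc, hq₂] at this
      exact this⟩
  obtain ⟨W, ⟨φ⟩⟩ := Groth.Agent.LqfRep.exists_iso_yon_of_lqf_separated hA q
    (Groth.Agent.LqfRep.locP_lqf_cancel (g := (AlgSp.yon S).map prod.snd) (AlgSp.IsAlgSpace.yon_obj U) (by rw [hq₂]; exact hQ))
    (Groth.Agent.LqfRep.isSeparatedMor_of_mono q)
  obtain ⟨s, hs⟩ := (AlgSp.yon S).map_surjective (φ.inv ≫ sndS)
  refine ⟨W, s, φ.inv.hom ≫ pullback.fst p ξ, ?_⟩
  exact sq.of_iso ((sheafToPresheaf _ _).mapIso φ) (Iso.refl _) (Iso.refl _) (Iso.refl _)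
    (by simp) (by
      have := congrArg (fun k => k.hom) hs
      simp only [sndS] at this
      simpa using! (congrArg (φ.hom.hom ≫ ·) this).symm) (by simp) (by simp)

end Groth.Agent.S10100
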