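import Groth.Statements.S10105
-- import your own Groth.Agent.* helpers here
import Groth.Agent.Bootstrap.CoprodAlg

set_option autoImplicit false
universe u
open CategoryTheory CategoryTheory.Limits AlgebraicGeometry
open AlgSp

namespace Groth.Agent.S10105

/-- Let `F` be an fppf sheaf of sets over `S` and `{S_i ⟶ S}` an fppf covering. If every `h_{S_i} × F`
is an algebraic space and the coproduct `∐ h_{S_i} × F` (in sheaves) is an algebraic space, then `F`
is an algebraic space: being an algebraic space is fppf local on the base. -/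
theorem result (S : Scheme.{u}) (F : AlgSp.Sp S) {ι : Type u} (Si : ι → Over S)
    (hfl : ∀ i, Flat (Si i).hom) (hfp : ∀ i, LocallyOfFinitePresentation (Si i).hom)
    (hsurj : ∀ x : ↥S, ∃ (i : ι) (y : ↥(Si i).left), (Si i).hom.base y = x)
    (halg : ∀ i, AlgSp.IsAlgSpace ((AlgSp.yon S).obj (Si i) ⨯ F))
    (c : Cofan (fun i => (AlgSp.yon S).obj (Si i) ⨯ F)) (hc : IsColimit c) (hcop : AlgSp.IsAlgSpace c.pt) :
    AlgSp.IsAlgSpace F := by
  refine (Bootstrap.isFppfRep_desc hc (fun i => prod.snd) (fun T ξ i => ?_) (fun T ξ y => ?_)).isAlgSpace hcop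
  · let W : Over S := Over.mk (pullback.snd (Si i).hom T.hom ≫ T.hom)
    let p₁ : W ⟶ Si i := Over.homMk (pullback.fst (Si i).hom T.hom) pullback.condition
    let p₂ : W ⟶ T := Over.homMk (pullback.snd (Si i).hom T.hom) rfl
    have sq : IsPullback (prod.lift ((AlgSp.yon S).map p₁) ((AlgSp.yon S).map p₂ ≫ ξ)) ((AlgSp.yon S).map p₂)
        (prod.snd : (AlgSp.yon S).obj (Si i) ⨯ F ⟶ F) ξ := by
      refine AlgSpLib.isPullback_of_points (prod.lift_snd _ _) fun A a b e => ?_
      obtain ⟨b, rfl⟩ := AlgSpLib.exists_map_eq b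
      obtain ⟨a₁, ha₁⟩ := AlgSpLib.exists_map_eq (a ≫ prod.fst)
      let m : A ⟶ W := Over.homMk (pullback.lift a₁.left b.left ((Over.w a₁).trans (Over.w b).symm)) (by
        show pullback.lift _ _ _ ≫ pullback.snd _ _ ≫ T.hom = A.hom
        rw [pullback.lift_snd_assoc, Over.w])
      have hm₁ : m ≫ p₁ = a₁ := Over.OverMorphism.ext (pullback.lift_fst _ _ _)
      have hm₂ : m ≫ p₂ = b := Over.OverMorphism.ext (pullback.lift_snd _ _ _)
      refine ⟨(AlgSp.yon S).map m, ⟨?_, by rw [← Functor.map_comp, hm₂]⟩, fun m' hm' => ?_⟩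
      · apply prod.hom_ext
        · rw [Category.assoc, prod.lift_fst, ← Functor.map_comp, hm₁, ha₁]
        · rw [Category.assoc, prod.lift_snd, ← Category.assoc, ← Functor.map_comp, hm₂, e]
      · obtain ⟨m', rfl⟩ := AlgSpLib.exists_map_eq m'
        have h2 := hm'.2
        rw [← Functor.map_comp] at h2
        have h1 := congrArg (· ≫ prod.fst) hm'.1
        simp only [Category.assoc, prod.lift_fst] at h1
        rw [← Functor.map_comp, ← ha₁] at h1
        congr 1
        refine Over.OverMorphism.ext (pullback.hom_ext ?_ ?_)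
        · exact (congrArg (fun k : A ⟶ Si i => k.left) ((AlgSp.yon S).map_injective h1)).trans
            (pullback.lift_fst _ _ _).symm
        · exact (congrArg (fun k : A ⟶ T => k.left) ((AlgSp.yon S).map_injective h2)).trans
            (pullback.lift_snd _ _ _).symm
    refine ⟨AlgSp.IsAlgSpace.of_iso (AlgSp.IsAlgSpace.yon_obj W) sq.isoPullback, fun V a h ha hh => ?_⟩
    obtain ⟨m, hm⟩ := AlgSpLib.exists_map_eq (a ≫ sq.isoPullback.inv)
    have hm' : AlgSp.RepWith @Etale ((AlgSp.yon S).map m) := by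
      rw [hm]
      exact (AlgSpLib.repWith_comp_iso_iff a sq.isoPullback.inv).2 ha
    obtain ⟨hm1, hm2⟩ := AlgSpLib.flat_lfp_of_etale m.left ((AlgSpLib.repWith_yon_iff m).1 hm')
    have hmh : m ≫ p₂ = h := (AlgSp.yon S).map_injective (by
      rw [Functor.map_comp, hm, Category.assoc, sq.isoPullback_inv_snd, hh])
    have := hfl i
    have := hfp i
    rw [← hmh]
    exact ⟨inferInstanceAs (Flat (m.left ≫ pullback.snd (Si i).hom T.hom)),
      inferInstanceAs (LocallyOfFinitePresentation (m.left ≫ pullback.snd (Si i).hom T.hom))⟩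
  · obtain ⟨A, ζ, t, rfl⟩ := AlgSpLib.exists_ofPt y
    obtain ⟨z, rfl⟩ := AlgSpLib.exists_map_eq ζ
    obtain ⟨i, s, hs⟩ := hsurj (T.hom (z.left t))
    obtain ⟨w, hw₁, hw₂⟩ := Scheme.Pullback.exists_preimage_pullback s (z.left t) hs
    let W : Over S := Over.mk (pullback.snd (Si i).hom T.hom ≫ T.hom)
    let p₁ : W ⟶ Si i := Over.homMk (pullback.fst (Si i).hom T.hom) pullback.condition
    let p₂ : W ⟶ T := Over.homMk (pullback.snd (Si i).hom T.hom) rfl
    refine ⟨i, Points.ofPt (pullback.lift (prod.lift ((AlgSp.yon S).map p₁) ((AlgSp.yon S).map p₂ ≫ ξ))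
      ((AlgSp.yon S).map p₂) (prod.lift_snd _ _)) w, ?_⟩
    rw [Points.map_ofPt, pullback.lift_snd, AlgSpLib.ofScheme_map, AlgSpLib.ofScheme_map]
    exact congrArg _ hw₂

end Groth.Agent.S10105
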