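import Groth.Statements.S10108
-- import your own Groth.Agent.* helpers here
import Groth.Agent.Bootstrap.EtSheafQuot

set_option autoImplicit false
universe u
open CategoryTheory CategoryTheory.Limits AlgebraicGeometry
open AlgSp

namespace Groth.Agent.S10108

/-- A presheaf of sets on schemes over `S` which is a sheaf for the etale topology, has diagonal
representable by schemes, and receives a representable surjective etale map from a scheme over `S`,
is an algebraic space (in particular an fppf sheaf): algebraic spaces defined with the etale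
topology are the same as with the fppf topology. -/
theorem result (S : Scheme.{u}) (F : AlgSp.PSp S)
    (h1 : Presheaf.IsSheaf (QuotSh.J Scheme.etalePrecoverage S) F)
    (h2 : (AlgSp.pyon S).relativelyRepresentable (Limits.diag F))
    (U : Over S) (p : (AlgSp.pyon S).obj U ⟶ F)
    (h3 : (MorphismProperty.inverseImage @Etale (Over.forget S)).relative (AlgSp.pyon S) p ∧
      (MorphismProperty.inverseImage @Surjective (Over.forget S)).relative (AlgSp.pyon S) p) :
    AlgSp.IsAlgSpaceP F := by
  refine Bootstrap.isAlgSpaceP_of_smooth_cover h1 (AlgSp.IsAlgSpace.yon_obj U) p fun T ξ F' fst snd sq => ?_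
  obtain ⟨⟨hre, hpe⟩, -, hps⟩ := h3
  obtain ⟨V, snd', fst', sq'⟩ := hre ξ
  have he : Etale snd'.left := hpe ξ fst' snd' sq'
  have hs : Surjective snd'.left := hps ξ fst' snd' sq'
  let i := sq'.isoIsPullback _ _ sq
  obtain ⟨hsh, hA⟩ := AlgSp.IsAlgSpaceP.of_iso (AlgSpLib.isAlgSpaceP_yon V) i
  let G : AlgSp.Sp S := ⟨F', hsh⟩
  let iS : (AlgSp.yon S).obj V ≅ G := (fullyFaithfulSheafToPresheaf (AlgSp.J S) _).preimageIso i
  have e : (ObjectProperty.homMk snd : G ⟶ (AlgSp.yon S).obj T) = iS.inv ≫ (AlgSp.yon S).map snd' :=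
    ObjectProperty.hom_ext _ (sq'.isoIsPullback_inv_snd _ _ sq).symm
  have h3' : AlgSp.RepWith @Etale (ObjectProperty.homMk snd : G ⟶ (AlgSp.yon S).obj T) := by
    rw [e]
    exact (AlgSpLib.repWith_iso_comp_iff iS.inv _).2 ((AlgSpLib.repWith_yon_iff _).2 he)
  have h4 : AlgSp.RepWith @Surjective (ObjectProperty.homMk snd : G ⟶ (AlgSp.yon S).obj T) := by
    rw [e]
    exact (AlgSpLib.repWith_iso_comp_iff iS.inv _).2 ((AlgSpLib.repWith_yon_iff _).2 hs)
  refine ⟨hsh, hA, AlgSpLib.isSurjectiveMor_of_repWith h4, fun W W' a b h ha hb comm => ?_⟩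
  obtain ⟨b', rfl⟩ := AlgSpLib.exists_map_eq b
  have h2' := AlgSpLib.repWith_comp ha h3'
  rw [comm, ← Functor.map_comp] at h2'
  have h5 := (AlgSpLib.repWith_yon_iff _).1 h2'
  rw [Over.comp_left] at h5
  exact AlgSpLib.etST_smooth.cancel h.left b'.left ((AlgSpLib.repWith_yon_iff _).1 hb) (AlgSpLib.etST_smooth.of_etale _ h5)

end Groth.Agent.S10108
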