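import Groth.Statements.S10109
-- import your own Groth.Agent.* helpers here
import Groth.Agent.Bootstrap.EtSheafQuot

set_option autoImplicit false
universe u
open CategoryTheory CategoryTheory.Limits AlgebraicGeometry
open AlgSp

namespace Groth.Agent.S10109

/-- A presheaf of sets on schemes over `S` which is a sheaf for the etale topology and receives a map
from an algebraic space which is representable by algebraic spaces, surjective and etale, is an
algebraic space (in particular an fppf sheaf). -/
theorem result (S : Scheme.{u}) (F : AlgSp.PSp S)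
    (h1 : Presheaf.IsSheaf (QuotSh.J Scheme.etalePrecoverage S) F) (U : AlgSp.Space S) (p : U.obj.obj ⟶ F)
    (h2 : AlgSp.RepBySpWith (AlgSp.IsSurjectiveMor ⊓ AlgSp.IsEtaleMor) p) :
    AlgSp.IsAlgSpaceP F := by
  refine Bootstrap.isAlgSpaceP_of_smooth_cover h1 U.property p fun T ξ F' fst snd sq => ?_
  obtain ⟨hsh, hA, hs, he⟩ := h2 ξ fst snd sq
  refine ⟨hsh, hA, hs, fun W V a b h ha hb comm => ?_⟩
  obtain ⟨b', rfl⟩ := AlgSpLib.exists_map_eq b
  have h2' := he a ha
  rw [comm, ← Functor.map_comp] at h2'
  have h3 := (AlgSpLib.repWith_yon_iff _).1 h2'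
  rw [Over.comp_left] at h3
  exact AlgSpLib.etST_smooth.cancel h.left b'.left ((AlgSpLib.repWith_yon_iff _).1 hb) (AlgSpLib.etST_smooth.of_etale _ h3)

end Groth.Agent.S10109
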