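import Groth.Statements.S1011
import Groth.Agent.PerfHom.Basic

set_option autoImplicit false
set_option backward.isDefEq.respectTransparency false
set_option backward.isDefEq.respectTransparency.types false
universe u
open CategoryTheory CategoryTheory.Limits AlgebraicGeometry
attribute [local instance] HasDerivedCategory.standard
open Perf

namespace Groth.Agent.S1011

/-- Let the scheme X be quasi-compact and quasi-separated and K a perfect object of D(O_X). (1) There
are integers a ≤ b such that every morphism K ⟶ L vanishes whenever L has quasi-coherent cohomology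
sheaves which are zero in all degrees of the interval [a, b]. (2) If L ∈ D_QCoh(O_X) is bounded,
then the set of n for which there is a nonzero morphism K ⟶ L[n] is finite. -/
theorem result (X : Scheme.{u}) [CompactSpace ↥X] [QuasiSeparatedSpace ↥X]
    (K : DCoh.D X) (hK : DCoh.IsPerfect K) :
    (∃ a b : ℤ, a ≤ b ∧ ∀ L : DCoh.D X, DCoh.IsQCohD L → (∀ i : ℤ, a ≤ i → i ≤ b → IsZero (DCoh.HD L i)) →
      ∀ φ : K ⟶ L, φ = 0) ∧
    ∀ (L : DCoh.D X) (a' b' : ℤ), DCoh.IsQCohD L → L.IsGE a' → L.IsLE b' →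
      {n : ℤ | ∃ φ : K ⟶ L⟦n⟧, φ ≠ 0}.Finite := by
  classical
  obtain ⟨F, -, -, ⟨e⟩⟩ := Groth.Agent.KFlat.exists_isKFlat_rep K
  have hF := Groth.Agent.DQCoh.perfect_of_iso e.symm hK
  obtain ⟨c, d, hcd, hloc⟩ := Groth.Agent.PerfHom.exists_locIn hF
  obtain ⟨N, hN⟩ := Groth.Agent.PerfHom.exists_window X
  have key : ∀ L : DCoh.D X, DCoh.IsQCohD L → (∀ i : ℤ, c - N ≤ i → i ≤ d → IsZero (DCoh.HD L i)) →
      ∀ φ : K ⟶ L, φ = 0 := fun L hL hz φ => by
    have := hN c d F hloc hF L hL hz (e.hom ≫ φ)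
    rw [← cancel_epi e.hom, this, comp_zero]
  refine ⟨⟨c - N, d, by omega, key⟩, fun L a' b' hL hge hle => ?_⟩
  refine (Set.finite_Icc (a' - d) (b' - (c - N))).subset fun n hn => ?_
  obtain ⟨φ, hφ⟩ := hn
  by_contra hc
  apply hφ
  refine key _ (fun i => Groth.Agent.QC.isQCoh_of_iso
    (((DerivedCategory.homologyFunctor X.Modules 0).shiftIso n i (n + i) rfl).app L).symm (hL (n + i))) (fun i h1 h2 => ?_) φ
  have e' : DCoh.HD (L⟦n⟧) i ≅ DCoh.HD L (n + i) := ((DerivedCategory.homologyFunctor X.Modules 0).shiftIso n i (n + i) rfl).app L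
  refine IsZero.of_iso ?_ e'
  rw [Set.mem_Icc] at hc
  haveI := hge
  haveI := hle
  by_cases h : n + i < a'
  · exact DerivedCategory.isZero_of_isGE L a' _ h
  · exact DerivedCategory.isZero_of_isLE L b' _ (by omega)

end Groth.Agent.S1011
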