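import Groth.Statements.S10112
-- import your own Groth.Agent.* helpers here
import Groth.Agent.Bootstrap.FreeAct

set_option autoImplicit false
universe u
open CategoryTheory CategoryTheory.Limits AlgebraicGeometry MonoidalCategory
open AlgSp

namespace Groth.Agent.S10112

/-- Let `G` be a group algebraic space over an algebraic space `B`, flat and locally of finite
presentation over `B`, acting freely on an algebraic space `X` over `B`. Then `X/G` is an algebraic
space, the quotient map `X ⟶ X/G` is flat, surjective and locally of finite presentation, and `(g,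
x) ↦ (g x, x)` is an isomorphism `G ×_B X ⟶ X ×_{X/G} X`, so that `X` is an fppf `G`-torsor over
`X/G`. -/
theorem result (S : Scheme.{u}) (B : AlgSp.Sp S) (hB : AlgSp.IsAlgSpace B)
    (G X : Over B) [GrpObj G] (hG : AlgSp.IsAlgSpace G.left) (hX : AlgSp.IsAlgSpace X.left)
    (a : AlgSp.GAction G X) (ha : a.IsFree)
    (hfl : AlgSp.LocP @Flat G.hom ∧ AlgSp.LocP @LocallyOfFinitePresentation G.hom) :
    AlgSp.IsAlgSpace a.quot ∧
      (AlgSp.IsSurjectiveMor a.quotπ ∧ AlgSp.LocP @Flat a.quotπ ∧ AlgSp.LocP @LocallyOfFinitePresentation a.quotπ) ∧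
      IsIso (pullback.lift a.act.left (CartesianMonoidalCategory.snd G X).left
        (AlgSp.quotSp_condition (CartesianMonoidalCategory.snd G X).left a.act.left).symm :
          (G ⊗ X).left ⟶ pullback a.quotπ a.quotπ) := by
  have h := Bootstrap.isEqvRelSp_of_isFree a ha
  have sqR : IsPullback (pullback.fst G.hom X.hom) (CartesianMonoidalCategory.snd G X).left G.hom X.hom :=
    IsPullback.of_hasPullback G.hom X.hom
  have hR : AlgSp.IsAlgSpace (G ⊗ X).left := AlgSpLib.isAlgSpace_of_isPullback_space hB hG hX sqR
  have hs : AlgSp.LocP @Flat (CartesianMonoidalCategory.snd G X).left ∧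
      AlgSp.LocP @LocallyOfFinitePresentation (CartesianMonoidalCategory.snd G X).left :=
    ⟨AlgSpLib.locP_baseChange AlgSpLib.etST_flat hG hB hR hX sqR hfl.1,
      AlgSpLib.locP_baseChange AlgSpLib.etST_lfp hG hB hR hX sqR hfl.2⟩
  have := Bootstrap.isIso_shear a
  have e : IsIso (CartesianMonoidalCategory.lift (CartesianMonoidalCategory.fst G X) a.act).left :=
    Functor.map_isIso (Over.forget B) (CartesianMonoidalCategory.lift (CartesianMonoidalCategory.fst G X) a.act)
  have hact : a.act.left = (CartesianMonoidalCategory.lift (CartesianMonoidalCategory.fst G X) a.act).left ≫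
      (CartesianMonoidalCategory.snd G X).left :=
    (congrArg CommaMorphism.left (CartesianMonoidalCategory.lift_snd
      (CartesianMonoidalCategory.fst G X) a.act)).symm
  have he := AlgSpLib.isEtaleMor_of_repWith' (AlgSpLib.repWith_of_isIso (P := @Etale)
    (CartesianMonoidalCategory.lift (CartesianMonoidalCategory.fst G X) a.act).left)
  have ht : AlgSp.LocP @Flat a.act.left ∧ AlgSp.LocP @LocallyOfFinitePresentation a.act.left := by
    rw [hact]
    exact ⟨AlgSpLib.locP_comp_isEtaleMor he hs.1, AlgSpLib.locP_comp_isEtaleMor he hs.2⟩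
  have hF := Bootstrap.isAlgSpace_quotSp hR hX h hs ht
  refine ⟨hF, ⟨Bootstrap.isSurjectiveMor_quotSpπ,
    Bootstrap.locP_quotSpπ @Flat AlgSpLib.etST_flat hR hX h hF hs.1,
    Bootstrap.locP_quotSpπ @LocallyOfFinitePresentation AlgSpLib.etST_lfp hR hX h hF hs.2⟩, ?_⟩
  have hk := Bootstrap.isPullback_quotSp (CartesianMonoidalCategory.snd G X).left a.act.left h
  suffices H : ∀ f : (G ⊗ X).left ⟶ pullback (AlgSp.quotSpπ (CartesianMonoidalCategory.snd G X).left a.act.left)
      (AlgSp.quotSpπ (CartesianMonoidalCategory.snd G X).left a.act.left),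
      f ≫ pullback.fst _ _ = a.act.left → f ≫ pullback.snd _ _ = (CartesianMonoidalCategory.snd G X).left → IsIso f from
    H _ (pullback.lift_fst _ _ _) (pullback.lift_snd _ _ _)
  intro f h1 h2
  have key : f = hk.isoPullback.hom := by
    apply pullback.hom_ext
    · exact h1.trans hk.isoPullback_hom_fst.symm
    · exact h2.trans hk.isoPullback_hom_snd.symm
  rw [key]
  infer_instance

end Groth.Agent.S10112
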