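import Groth.Statements.S10113
-- import your own Groth.Agent.* helpers here
import Groth.Agent.Bootstrap.PreQuot

set_option autoImplicit false
universe u
open CategoryTheory CategoryTheory.Limits AlgebraicGeometry
open AlgSp

namespace Groth.Agent.S10113

/-- Let `s, t : R ⟶ U` be a pre-relation of algebraic spaces, `M` an algebraic space and `U ⟶ M` a
morphism which coequalizes `s, t`, is a surjection of sheaves, and for which `(t, s) : R ⟶ U ×_M U`
is a surjection of sheaves. Then the induced map `U/R ⟶ M` is an isomorphism: `M` represents the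
quotient sheaf. -/
theorem result (S : Scheme.{u}) (R U M : AlgSp.Sp S)
    (hR : AlgSp.IsAlgSpace R) (hU : AlgSp.IsAlgSpace U) (hM : AlgSp.IsAlgSpace M) (s t : R ⟶ U)
    (q : U ⟶ M) (w : s ≫ q = t ≫ q) [Epi q] [Epi (pullback.lift t s w.symm : R ⟶ pullback q q)] :
    IsIso (AlgSp.quotSpDesc q w) := by
  have : IsRegularEpi q := IsRegularEpiCategory.regularEpiOfEpi q
  have hk : IsKernelPair q (pullback.fst q q) (pullback.snd q q) := IsPullback.of_hasPullback q q
  have hts : pullback.fst q q ≫ AlgSp.quotSpπ s t = pullback.snd q q ≫ AlgSp.quotSpπ s t := by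
    rw [← cancel_epi (pullback.lift t s w.symm : R ⟶ pullback q q), pullback.lift_fst_assoc, pullback.lift_snd_assoc,
      AlgSp.quotSp_condition]
  obtain ⟨j, hj⟩ := Cofork.IsColimit.desc' hk.toCoequalizer' (AlgSp.quotSpπ s t) hts
  replace hj : q ≫ j = AlgSp.quotSpπ s t := hj
  have : Epi (AlgSp.quotSpπ s t) := inferInstanceAs (Epi (coequalizer.π s t))
  refine ⟨j, ?_, ?_⟩
  · rw [← cancel_epi (AlgSp.quotSpπ s t), AlgSp.quotSpπ_desc_assoc, hj, Category.comp_id]
  · rw [← cancel_epi q, ← Category.assoc, hj, AlgSp.quotSpπ_desc, Category.comp_id]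

end Groth.Agent.S10113
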