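import Groth.Statements.S10115
-- import your own Groth.Agent.* helpers here
import Groth.Agent.Bootstrap.PreQuot

set_option autoImplicit false
universe u
open CategoryTheory CategoryTheory.Limits AlgebraicGeometry
open AlgSp AlgSp.GroupoidSp

namespace Groth.Agent.S10115

/-- For a groupoid `(U, R, s, t, c)` in algebraic spaces over `B`, let `(U', R', s', t', c')` be its
restriction along a morphism `g : U' ⟶ U` over `B`. Then `U'/R' ⟶ U/R` is injective; if the
composite `h : U' ×_{g, U, t} R ⟶ R ⟶ U` of the projection with `s` is a surjection of fppf sheaves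
(for instance if `g` is), then it is bijective. -/
theorem result (S : Scheme.{u}) (B : AlgSp.Sp S) (hB : AlgSp.IsAlgSpace B)
    (G G' : AlgSp.GroupoidSp B) (hU : AlgSp.IsAlgSpace G.U) (hR : AlgSp.IsAlgSpace G.R)
    (hU' : AlgSp.IsAlgSpace G'.U) (hR' : AlgSp.IsAlgSpace G'.R) (φ : AlgSp.GroupoidSp.Hom G' G)
    (hφ : φ.IsRestriction) (ψ : G'.quot ⟶ G.quot) (hψ : G'.quotπ ≫ ψ = φ.fU ≫ G.quotπ) :
    Mono ψ ∧ (Epi (pullback.snd φ.fU G.t ≫ G.s) → IsIso ψ) := by
  have hpre := Bootstrap.isPreEqvRelSp_groupoid G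
  have hm : Mono ψ := Bootstrap.mono_quot_map G.s G.t hpre φ.fU (fun T a b ⟨r, h1, h2⟩ => by
    have e : a ≫ G'.pU = b ≫ G'.pU := by
      rw [← φ.fU_over, ← reassoc_of% h1, ← reassoc_of% h2, G.t_over, G.s_over]
    have w : r ≫ G.j = pullback.lift a b e ≫ φ.prodMap := by
      apply pullback.hom_ext
      · rw [Category.assoc, Category.assoc, GroupoidSp.j_fst, h1]
        refine Eq.symm ((congrArg (pullback.lift a b e ≫ ·) (pullback.lift_fst _ _ _)).trans ?_)
        exact pullback.lift_fst_assoc _ _ _ _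
      · rw [Category.assoc, Category.assoc, GroupoidSp.j_snd, h2]
        refine Eq.symm ((congrArg (pullback.lift a b e ≫ ·) (pullback.lift_snd _ _ _)).trans ?_)
        exact pullback.lift_snd_assoc _ _ _ _
    refine ⟨hφ.lift r (pullback.lift a b e) w, ?_, ?_⟩
    · rw [← G'.j_fst, ← Category.assoc, hφ.lift_snd, pullback.lift_fst]
    · rw [← G'.j_snd, ← Category.assoc, hφ.lift_snd, pullback.lift_snd]) ψ hψ
  refine ⟨hm, fun hh => ?_⟩
  have : Epi G.quotπ := inferInstanceAs (Epi (coequalizer.π G.s G.t))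
  have key : (pullback.snd φ.fU G.t ≫ G.s) ≫ G.quotπ = pullback.fst φ.fU G.t ≫ G'.quotπ ≫ ψ := by
    rw [hψ, Category.assoc, pullback.condition_assoc]
    exact congrArg (pullback.snd φ.fU G.t ≫ ·) (AlgSp.quotSp_condition G.s G.t)
  have h2 : Epi (pullback.fst φ.fU G.t ≫ G'.quotπ ≫ ψ) := by rw [← key]; exact epi_comp _ _
  have h3 : Epi (G'.quotπ ≫ ψ) := epi_of_epi (pullback.fst φ.fU G.t) _
  have := epi_of_epi G'.quotπ ψ
  exact isIso_of_mono_of_epi ψ

end Groth.Agent.S10115
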