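import Groth.Statements.S10118
import Groth.Agent.AlgSpLib.LocPAt
import Groth.Agent.AlgSpLib.Atlas
import Groth.Agent.UnramPt.Basic
import Groth.Prelude.Def_AlgSpGpd
import Mathlib.AlgebraicGeometry.Morphisms.QuasiFinite

set_option autoImplicit false
universe u
open CategoryTheory CategoryTheory.Limits AlgebraicGeometry MonoidalCategory MonObj
open AlgSp AlgSp.GAction

namespace Groth.Agent.S10118

set_option backward.isDefEq.respectTransparency false

open Groth.Agent.AlgSpLib

variable {S : Scheme.{u}}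

theorem unram_of_self {U V : Scheme.{u}} (h : U ⟶ V) [LocallyOfFiniteType h]
    (hs : FormallyUnramified (pullback.snd h h)) : FormallyUnramified h := by
  have key : ∀ u : U, ∃ W : U.Opens, u ∈ W ∧ FormallyUnramified (W.ι ≫ h) := fun u => by
    obtain ⟨W, hu, hW⟩ := UnramPt.exists_nhd_of_baseChange h h (pullback.diagonal h u) ⊤ trivial (MorphismProperty.comp_mem @FormallyUnramified _ _ inferInstance hs)
    rw [← Scheme.Hom.comp_apply, pullback.diagonal_fst] at hu
    exact ⟨W, hu, hW⟩
  choose W hW hWu using key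
  exact IsZariskiLocalAtSource.of_iSup_eq_top W
    (top_le_iff.1 fun u _ => TopologicalSpace.Opens.mem_iSup.2 ⟨u, hW u⟩) hWu

theorem lqf_of_self {U V : Scheme.{u}} (h : U ⟶ V) [LocallyOfFiniteType h]
    (hs : LocallyQuasiFinite (pullback.snd h h)) : LocallyQuasiFinite h := by
  have key : ∀ x : U, ∃ O : U.Opens, x ∈ O ∧ LocallyQuasiFinite (O.ι ≫ h) := fun x => by
    obtain ⟨V₁, hV₁, hxV, -⟩ := exists_isAffineOpen_mem_and_subset (show h x ∈ (⊤ : V.Opens) from trivial)
    obtain ⟨O, hO, hxO, hOV⟩ := exists_isAffineOpen_mem_and_subset (show x ∈ h ⁻¹ᵁ V₁ from hxV)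
    have hle : O ≤ h ⁻¹ᵁ V₁ := hOV
    have : IsAffine O.toScheme := hO
    have : IsAffine V₁.toScheme := hV₁
    let h₁ := h.resLE V₁ O hle
    let h₂ := h.resLE V₁ (h ⁻¹ᵁ V₁) le_rfl
    have hsnd : LocallyQuasiFinite (pullback.snd h₁ h₂) := by
      let m : pullback h₁ h₂ ⟶ pullback h h :=
        pullback.map h₁ h₂ h h O.ι (h ⁻¹ᵁ V₁).ι V₁.ι (by simp [h₁]) (by simp [h₂])
      have hm : IsOpenImmersion m := inferInstance
      have : LocallyQuasiFinite (m ≫ pullback.snd h h) := MorphismProperty.comp_mem _ _ _ inferInstance hs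
      have e : m ≫ pullback.snd h h = pullback.snd h₁ h₂ ≫ (h ⁻¹ᵁ V₁).ι := pullback.lift_snd _ _ _
      rw [e] at this
      exact LocallyQuasiFinite.of_comp _ (h ⁻¹ᵁ V₁).ι
    refine ⟨O, hxO, ?_⟩
    have h₁q : LocallyQuasiFinite h₁ := by
      refine LocallyQuasiFinite.of_finite_preimage_singleton h₁ fun v => ?_
      by_cases hv : (h₁ ⁻¹' {v}).Nonempty
      · obtain ⟨o, ho⟩ := hv
        let u : (h ⁻¹ᵁ V₁).toScheme := ⟨o.1, hle o.2⟩
        have hu : h₂ u = v := by
          rw [← ho]
          refine V₁.ι.isOpenEmbedding.injective ?_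
          rw [← Scheme.Hom.comp_apply, ← Scheme.Hom.comp_apply]
          simp only [h₁, h₂, Scheme.Hom.resLE_comp_ι]
          rfl
        refine ((pullback.snd h₁ h₂).finite_preimage_singleton u |>.image (pullback.fst h₁ h₂)).subset fun o' ho' => ?_
        obtain ⟨z, hz1, hz2⟩ := Scheme.Pullback.exists_preimage_pullback o' u (by rw [hu]; exact ho')
        exact ⟨z, hz2, hz1⟩
      · rw [Set.not_nonempty_iff_eq_empty.1 hv]
        exact Set.finite_empty
    rw [← Scheme.Hom.resLE_comp_ι h hle]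
    infer_instance
  choose O hO hOq using key
  exact IsZariskiLocalAtSource.of_iSup_eq_top O
    (top_le_iff.1 fun u _ => TopologicalSpace.Opens.mem_iSup.2 ⟨u, hO u⟩) hOq

/-- a property of the self base change on every chart -/
theorem self_chart {X B : Sp S} (hX : IsAlgSpace X) (hB : IsAlgSpace B) (f : X ⟶ B)
    {P : MorphismProperty Scheme.{u}} (hP : EtST P) (hf : LocP P (pullback.snd f f))
    {U V : Over S} {a : (yon S).obj U ⟶ X} {b : (yon S).obj V ⟶ B} {h : U ⟶ V} (ha : RepWith @Etale a)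
    (hb : RepWith @Etale b) (comm : a ≫ f = (yon S).map h ≫ b) : P (pullback.snd h.left h.left) := by
  let e := pullback.fst (pullback.fst f f) a ≫ pullback.snd f f
  have sA := IsPullback.of_hasPullback (pullback.fst f f) a
  have sA' : IsPullback (pullback.snd (pullback.fst f f) a) e (a ≫ f) f :=
    sA.flip.paste_vert (IsPullback.of_hasPullback f f)
  have sB := IsPullback.of_hasPullback e a
  have sB' := sB.paste_horiz sA'
  obtain ⟨UU, r₀, r₁, sUU⟩ := exists_pullback hB.diag (a ≫ f) (a ≫ f)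
  let l : (yon S).obj UU ⟶ pullback f f :=
    (sUU.isoIsPullback _ _ sB').hom ≫ pullback.fst e a ≫ pullback.fst (pullback.fst f f) a
  have hl : RepWith @Etale l :=
    (repWith_iso_comp_iff _ _).2 (repWith_comp (repWith_baseChange sB.flip ha) (repWith_baseChange sA.flip ha))
  have hl₁ : l ≫ pullback.snd f f = (yon S).map r₁ ≫ a := by
    simp only [l, Category.assoc]
    rw [show pullback.fst e a ≫ pullback.fst (pullback.fst f f) a ≫ pullback.snd f f = _ from sB.w,
      IsPullback.isoIsPullback_hom_snd_assoc]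
  obtain ⟨V₂, p₀, p₁, sV⟩ := exists_pullback hB.diag b b
  obtain ⟨m, hm⟩ := exists_map_eq (sV.lift ((yon S).map r₀ ≫ (yon S).map h) ((yon S).map r₁ ≫ (yon S).map h)
    (by rw [Category.assoc, Category.assoc, ← comm]; exact sUU.w))
  have hm₀ : (yon S).map m ≫ (yon S).map p₀ = (yon S).map r₀ ≫ (yon S).map h := by rw [hm, sV.lift_fst]
  have hm₁ : (yon S).map m ≫ (yon S).map p₁ = (yon S).map r₁ ≫ (yon S).map h := by rw [hm, sV.lift_snd]
  obtain ⟨δ, hδ⟩ := exists_map_eq (sV.lift (𝟙 _) (𝟙 _) rfl)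
  have hδ₀ : (yon S).map δ ≫ (yon S).map p₀ = 𝟙 _ := by rw [hδ, sV.lift_fst]
  have hδ₁ : (yon S).map δ ≫ (yon S).map p₁ = 𝟙 _ := by rw [hδ, sV.lift_snd]
  obtain ⟨U₂, q₀, q₁, sU⟩ := exists_pullback (IsAlgSpace.yon_obj V).diag ((yon S).map h) ((yon S).map h)
  obtain ⟨k, hk⟩ := exists_map_eq (sUU.lift ((yon S).map q₀) ((yon S).map q₁) (by rw [comm, sU.w_assoc]))
  have hk₀ : (yon S).map k ≫ (yon S).map r₀ = (yon S).map q₀ := by rw [hk, sUU.lift_fst]
  have hk₁ : (yon S).map k ≫ (yon S).map r₁ = (yon S).map q₁ := by rw [hk, sUU.lift_snd]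
  have sk : IsPullback ((yon S).map (q₀ ≫ h)) ((yon S).map k) ((yon S).map δ) ((yon S).map m) := by
    refine isPullback_of_points ?_ fun T v t hvt => ?_
    · refine sV.hom_ext ?_ ?_
      · rw [Category.assoc, Category.assoc, hδ₀, hm₀, reassoc_of% hk₀, Category.comp_id, Functor.map_comp]
      · rw [Category.assoc, Category.assoc, hδ₁, hm₁, reassoc_of% hk₁, Category.comp_id, Functor.map_comp, sU.w]
    have e0 : v = (t ≫ (yon S).map r₀) ≫ (yon S).map h := by
      have := congrArg (· ≫ (yon S).map p₀) hvt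
      simpa only [Category.assoc, hδ₀, hm₀, Category.comp_id] using this
    have e1 : v = (t ≫ (yon S).map r₁) ≫ (yon S).map h := by
      have := congrArg (· ≫ (yon S).map p₁) hvt
      simpa only [Category.assoc, hδ₁, hm₁, Category.comp_id] using this
    refine ⟨sU.lift _ _ (e0.symm.trans e1), ⟨?_, sUU.hom_ext ?_ ?_⟩, fun y hy => sU.hom_ext ?_ ?_⟩
    · rw [Functor.map_comp, ← Category.assoc, sU.lift_fst, e0]
    · rw [Category.assoc, hk₀, sU.lift_fst]
    · rw [Category.assoc, hk₁, sU.lift_snd]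
    · rw [sU.lift_fst, ← hk₀, ← Category.assoc, hy.2]
    · rw [sU.lift_snd, ← hk₁, ← Category.assoc, hy.2]
  have hp₀ : Etale p₀.left := (repWith_yon_iff p₀).1 (repWith_baseChange sV.flip hb)
  have hδe : Etale δ.left := by
    refine MorphismProperty.HasOfPostcompProperty.of_postcomp (W := @Etale) (W' := @Etale) δ.left p₀.left hp₀ ?_
    have : δ ≫ p₀ = 𝟙 V := (yon S).map_injective (by rw [Functor.map_comp, hδ₀, CategoryTheory.Functor.map_id])
    rw [← Over.comp_left, this]
    exact (inferInstance : Etale (𝟙 V.left))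
  have hke : Etale k.left := MorphismProperty.of_isPullback (P := @Etale) (isPullback_yon_iff.1 sk) hδe
  have hq : P q₁.left := hf ((yon S).map k ≫ l) a q₁ (repWith_comp ((repWith_yon_iff k).2 hke) hl) ha (by
    rw [Category.assoc, hl₁, reassoc_of% hk₁])
  have := hP.baseChange
  rw [← (isPullback_yon_iff.1 sU).isoPullback_inv_snd]
  exact (P.cancel_left_of_respectsIso _ _).2 hq

end Groth.Agent.S10118

namespace Groth.Agent.S10118

/-- Let `X` be a pseudo-torsor under a group algebraic space `G` over an algebraic space `B`, where both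
`G` and `X` are locally of finite type over `B`. Whenever `G ⟶ B` is unramified, `X ⟶ B` is
unramified too; likewise, local quasi-finiteness passes from `G ⟶ B` to `X ⟶ B`. -/
theorem result (S : Scheme.{u}) (B : AlgSp.Sp S) (hB : AlgSp.IsAlgSpace B)
    (G X : Over B) [GrpObj G] (hG : AlgSp.IsAlgSpace G.left) (hX : AlgSp.IsAlgSpace X.left)
    (a : AlgSp.GAction G X) (ha : a.IsPseudoTorsor)
    (hGt : AlgSp.LocP @LocallyOfFiniteType G.hom) (hXt : AlgSp.LocP @LocallyOfFiniteType X.hom) :
    (AlgSp.LocP (@LocallyOfFiniteType ⊓ @FormallyUnramified) G.hom →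
        AlgSp.LocP (@LocallyOfFiniteType ⊓ @FormallyUnramified) X.hom) ∧
      (AlgSp.LocP (@LocallyQuasiFinite ⊓ @LocallyOfFiniteType) G.hom →
        AlgSp.LocP (@LocallyQuasiFinite ⊓ @LocallyOfFiniteType) X.hom) := by
  have : IsIso (CartesianMonoidalCategory.lift a.act (CartesianMonoidalCategory.snd G X)) := ha
  let θ : (G ⊗ X : Over B) ⟶ X ⊗ X := CartesianMonoidalCategory.lift a.act (CartesianMonoidalCategory.snd G X)
  have sG : IsPullback (CartesianMonoidalCategory.fst G X).left (CartesianMonoidalCategory.snd G X).left G.hom X.hom :=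
    IsPullback.of_hasPullback G.hom X.hom
  have sX : IsPullback (CartesianMonoidalCategory.fst X X).left (CartesianMonoidalCategory.snd X X).left X.hom X.hom :=
    IsPullback.of_hasPullback X.hom X.hom
  let ψ := (IsPullback.of_hasPullback X.hom X.hom).isoIsPullback _ _ sX
  have : IsIso θ.left := inferInstanceAs (IsIso ((Over.forget B).map θ))
  have sq : IsPullback (ψ.hom ≫ inv θ.left ≫ (CartesianMonoidalCategory.fst G X).left) (pullback.snd X.hom X.hom)
      G.hom X.hom := by
    refine sG.of_iso ((asIso θ.left) ≪≫ ψ.symm) (Iso.refl _) (Iso.refl _) (Iso.refl _) ?_ ?_ (by simp) (by simp)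
    · simp
    · have e : θ.left ≫ (CartesianMonoidalCategory.snd X X).left = (CartesianMonoidalCategory.snd G X).left := by
        rw [← Over.comp_left, CartesianMonoidalCategory.lift_snd]
      simp only [Iso.trans_hom, asIso_hom, Iso.symm_hom, Iso.refl_hom, Category.comp_id, Category.assoc]
      rw [IsPullback.isoIsPullback_inv_snd, e]
  have hXX : AlgSp.IsAlgSpace (pullback X.hom X.hom) :=
    Groth.Agent.AlgSpLib.isAlgSpace_of_isPullback_space hB hX hX (IsPullback.of_hasPullback X.hom X.hom)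
  refine ⟨fun hG' U V aU bV h hau hbv comm => ?_, fun hG' U V aU bV h hau hbv comm => ?_⟩
  · have : LocallyOfFiniteType h.left := hXt aU bV h hau hbv comm
    exact ⟨this, unram_of_self h.left (self_chart hX hB X.hom Groth.Agent.AlgSpLib.etST_unramified
      (Groth.Agent.AlgSpLib.locP_baseChange Groth.Agent.AlgSpLib.etST_unramified hG hB hXX hX sq hG') hau hbv comm).2⟩
  · have : LocallyOfFiniteType h.left := hXt aU bV h hau hbv comm
    exact ⟨lqf_of_self h.left (self_chart hX hB X.hom Groth.Agent.AlgSpLib.etST_lqf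
      (Groth.Agent.AlgSpLib.locP_baseChange Groth.Agent.AlgSpLib.etST_lqf hG hB hXX hX sq hG') hau hbv comm).1, this⟩

end Groth.Agent.S10118
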