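import Groth.Statements.S10127
import Groth.Agent.AlgSpLib.GrpUnitDiag
import Groth.Agent.SpQS.FiniteFieldPt
-- import your own Groth.Agent.* helpers here

set_option autoImplicit false
set_option backward.isDefEq.respectTransparency false
universe u
open CategoryTheory CategoryTheory.Limits AlgebraicGeometry MonoidalCategory MonObj
open AlgSp

namespace Groth.Agent.S10127

/-- A group algebraic space over a field `k` which is a decent algebraic space is separated. (The
published situation allows any base scheme `S` with `k` a field over `S`; this row takes `S = Spec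
k`.) -/
theorem result (k : Type u) [Field k]
    (G : Over ((AlgSp.yon (Spec (CommRingCat.of k))).obj (Over.mk (𝟙 _)))) [GrpObj G]
    (hG : AlgSp.IsAlgSpace G.left) (hd : AlgSp.IsDecent G.left) : AlgSp.IsSeparatedSp G.left := by
  let p : (AlgSp.yon (Spec (CommRingCat.of k))).obj (Over.mk (𝟙 (Spec (CommRingCat.of k)))) ⟶ G.left :=
    (MonObj.one (X := G)).left
  have h1 : AlgSp.RepWith @IsClosedImmersion p :=
    (Groth.Agent.SpQS.repWith_finite_of_finite_base (str := 𝟙 (Spec (CommRingCat.of k))) hG hd p).2 inferInstance
  have h2 : AlgSp.RepWith @IsClosedImmersion (pullback.diagonal G.hom) :=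
    (Groth.Agent.AlgSpLib.repWith_diagonal_iff_unit @IsClosedImmersion G).2 h1
  have hT : IsTerminal ((AlgSp.yon (Spec (CommRingCat.of k))).obj (Over.mk (𝟙 _))) :=
    Over.mkIdTerminal.isTerminalObj (AlgSp.yon _)
  let e : pullback G.hom G.hom ≅ G.left ⨯ G.left :=
    { hom := prod.lift (pullback.fst _ _) (pullback.snd _ _)
      inv := pullback.lift prod.fst prod.snd (hT.hom_ext _ _)
      hom_inv_id := pullback.hom_ext
        (by rw [Category.assoc, pullback.lift_fst, prod.lift_fst, Category.id_comp])
        (by rw [Category.assoc, pullback.lift_snd, prod.lift_snd, Category.id_comp])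
      inv_hom_id := prod.hom_ext
        (by rw [Category.assoc, prod.lift_fst, pullback.lift_fst, Category.id_comp])
        (by rw [Category.assoc, prod.lift_snd, pullback.lift_snd, Category.id_comp]) }
  show AlgSp.RepWith @IsClosedImmersion (Limits.diag G.left)
  rw [show Limits.diag G.left = pullback.diagonal G.hom ≫ e.hom from prod.hom_ext (by simp [e]) (by simp [e])]
  haveI : IsIso e.hom := e.isIso_hom
  exact (Groth.Agent.AlgSpLib.repWith_comp_iso_iff (pullback.diagonal G.hom) e.hom).2 h2

end Groth.Agent.S10127
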