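import Groth.Statements.S10128
import Groth.Agent.GpdField.Section
import Groth.Agent.AlgSpLib.DiagCrit
-- import your own Groth.Agent.* helpers here

set_option autoImplicit false
set_option backward.isDefEq.respectTransparency false
universe u
open CategoryTheory CategoryTheory.Limits AlgebraicGeometry
open AlgSp AlgSp.GroupoidSp

namespace Groth.Agent.S10128

/-- Let `(U, R, s, t, c)` be a groupoid in algebraic spaces over `B` whose object space is `U = Spec k`,
with `k` a field, and assume `R` is a decent algebraic space. Then `R` is separated over the base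
scheme `S`. (The published statement concludes that `R` is separated in the absolute sense; this row
concludes that `R` is separated over `S`, which the absolute notion implies.) -/
theorem result (S : Scheme.{u}) (B : AlgSp.Sp S) (hB : AlgSp.IsAlgSpace B)
    (G : AlgSp.GroupoidSp B) (hR : AlgSp.IsAlgSpace G.R) (k : Type u) [Field k]
    (σ : Spec (CommRingCat.of k) ⟶ S) (eU : G.U ≅ (AlgSp.yon S).obj (Over.mk σ)) (hd : AlgSp.IsDecent G.R) :
    AlgSp.IsSeparatedSp G.R := by
  let q := G.s ≫ eU.hom
  have h1 : AlgSp.RepWith @IsClosedImmersion (eU.inv ≫ G.e) :=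
    Groth.Agent.GpdField.repWith_closedImmersion_of_section hR hd (eU.inv ≫ G.e) q (by
      show (eU.inv ≫ G.e) ≫ G.s ≫ eU.hom = 𝟙 _
      rw [Category.assoc, ← Category.assoc G.e, G.e_s, Category.id_comp, eU.inv_hom_id])
  have h1' : AlgSp.RepWith @IsClosedImmersion G.e := by
    have := (AlgSp.RepWith @IsClosedImmersion).cancel_left_of_respectsIso eU.inv G.e
    exact this.1 h1
  obtain ⟨m, hm⟩ := Groth.Agent.GpdField.exists_isPullback_diagonal_e G eU.hom
  have h2 : AlgSp.IsSeparatedMor q := Groth.Agent.AlgSpLib.repWith_baseChange hm h1'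
  have hT : IsTerminal ((AlgSp.yon S).obj (Over.mk (𝟙 S))) := Over.mkIdTerminal.isTerminalObj (AlgSp.yon S)
  let σ' : Over.mk σ ⟶ Over.mk (𝟙 S) := Over.homMk σ
  have h3 : AlgSp.IsSeparatedMor ((AlgSp.yon S).map σ') := by
    refine (Groth.Agent.AlgSpLib.repWith_diagonal_yon_iff @IsClosedImmersion σ').2 ?_
    have : IsSeparated σ := IsSeparated.of_comp (g := terminal.from S) σ
    exact IsSeparated.isClosedImmersion_diagonal (f := σ)
  have h4 : AlgSp.IsSeparatedMor (q ≫ (AlgSp.yon S).map σ') := Groth.Agent.AlgSpLib.isSeparatedMor_comp h2 h3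
  let f := q ≫ (AlgSp.yon S).map σ'
  let e : pullback f f ≅ G.R ⨯ G.R :=
    { hom := prod.lift (pullback.fst _ _) (pullback.snd _ _)
      inv := pullback.lift prod.fst prod.snd (hT.hom_ext _ _)
      hom_inv_id := pullback.hom_ext
        (by rw [Category.assoc, pullback.lift_fst, prod.lift_fst, Category.id_comp])
        (by rw [Category.assoc, pullback.lift_snd, prod.lift_snd, Category.id_comp])
      inv_hom_id := prod.hom_ext
        (by rw [Category.assoc, prod.lift_fst, pullback.lift_fst, Category.id_comp])
        (by rw [Category.assoc, prod.lift_snd, pullback.lift_snd, Category.id_comp]) }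
  show AlgSp.RepWith @IsClosedImmersion (Limits.diag G.R)
  rw [show Limits.diag G.R = pullback.diagonal f ≫ e.hom from prod.hom_ext (by simp [e]) (by simp [e])]
  haveI : IsIso e.hom := e.isIso_hom
  exact (Groth.Agent.AlgSpLib.repWith_comp_iso_iff (pullback.diagonal f) e.hom).2 h4

end Groth.Agent.S10128
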