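import Groth.Agent.SchImg.Section
import Groth.Agent.SchImg.Dense
import Groth.Agent.AlgSpLib.MiscCancel
import Groth.Agent.AlgSpLib.EpiFppf
import Groth.Prelude.Def_AlgSpSub
import Mathlib.AlgebraicGeometry.Morphisms.Flat
import Mathlib.AlgebraicGeometry.Morphisms.FinitePresentation

set_option autoImplicit false
universe u
open CategoryTheory CategoryTheory.Limits AlgebraicGeometry
open AlgSp

set_option backward.isDefEq.respectTransparency false

namespace Groth.Agent.S10129

/-- Consider morphisms `g : X ⟶ Z` and `f : X ⟶ Y` of algebraic spaces over `B`, with `Y ⟶ B` separated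
and `g` surjective, flat and locally of finite presentation, and let `V ⊂ Z` be a scheme
theoretically dense open subspace with `V ⟶ Z` quasi-compact such that `f` restricted to `g⁻¹(V)`
factors through `g⁻¹(V) ⟶ V`. Then `f` factors through `g`. (The published statement does not ask
the open immersion `V ⟶ Z` to be quasi-compact; the published proof pulls the scheme theoretic
density of `V` back along a flat morphism by a lemma that requires it, so this row assumes it.) -/
theorem result (S : Scheme.{u}) (B : AlgSp.Sp S) (hB : AlgSp.IsAlgSpace B)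
    (X Y Z : AlgSp.Space S) (pX : X.obj ⟶ B) (pY : Y.obj ⟶ B) (pZ : Z.obj ⟶ B)
    (f : X.obj ⟶ Y.obj) (g : X.obj ⟶ Z.obj) (hf : f ≫ pY = pX) (hg : g ≫ pZ = pX)
    (hY : AlgSp.IsSeparatedMor pY)
    (hgs : AlgSp.IsSurjectiveMor g) (hgf : AlgSp.LocP @Flat g) (hgp : AlgSp.LocP @LocallyOfFinitePresentation g)
    (V : AlgSp.Sp S) (v : V ⟶ Z.obj) (hv : AlgSp.IsSchDense v) (hvq : AlgSp.IsQuasiCompactMor v)
    (hfac : ∃ φ : V ⟶ Y.obj, pullback.fst g v ≫ f = pullback.snd g v ≫ φ) :
    ∃ h : Z.obj ⟶ Y.obj, g ≫ h = f := by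
  obtain ⟨φ, hφ⟩ := hfac
  have sqR := IsPullback.of_hasPullback g g
  have hR := Groth.Agent.AlgSpLib.isAlgSpace_of_isPullback_space Z.property X.property X.property sqR
  let u : pullback g g ⟶ Z.obj := pullback.fst g g ≫ g
  have hu : AlgSp.LocP @Flat u := Groth.Agent.AlgSpLib.locP_comp Groth.Agent.AlgSpLib.etST_flat X.property Z.property
    (Groth.Agent.AlgSpLib.locP_baseChange Groth.Agent.AlgSpLib.etST_flat X.property Z.property hR X.property sqR.flip hgf) hgf
  have hV : AlgSp.IsAlgSpace V := Groth.Agent.AlgSpLib.isAlgSpace_of_repBySp (AlgSp.Representable.repBySp hv.1.1) Z.property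
  have sqJ := IsPullback.of_hasPullback v u
  have hI := (SchImg.schDense_iff_schImage hV Z.property hv.1 hvq).1 hv
  have hJ := SchImg.isSchImage_baseChange_flat hV Z.property hR hvq hI hu sqJ
    (IsPullback.of_vert_isIso (snd := 𝟙 (pullback g g)) (f := 𝟙 Z.obj) (g := u) (fst := u) ⟨by simp⟩)
  have heq : pullback.fst g g ≫ f = pullback.snd g g ≫ f := by
    refine Groth.Agent.AlgSpLib.eq_of_eq_on_schImage_top hR Y.property hB hY ?_ hJ ?_
    · rw [Category.assoc, Category.assoc, hf, ← hg, ← Category.assoc, ← Category.assoc, pullback.condition]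
    · have e1 : (pullback.snd v u ≫ pullback.fst g g) ≫ g = pullback.fst v u ≫ v := by
        rw [Category.assoc]; exact pullback.condition.symm
      have e2 : (pullback.snd v u ≫ pullback.snd g g) ≫ g = pullback.fst v u ≫ v := by
        rw [Category.assoc, ← pullback.condition, ← Category.assoc]; exact e1
      have h1 := congrArg (pullback.lift _ _ e1 ≫ ·) hφ
      have h2 := congrArg (pullback.lift _ _ e2 ≫ ·) hφ
      simp only [pullback.lift_fst_assoc, pullback.lift_snd_assoc, Category.assoc] at h1 h2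
      rw [h1, h2]
  have : Sheaf.IsLocallySurjective g := Groth.Agent.AlgSpLib.isLocallySurjective_of_repBySpWith_fppf g
    ((AlgSp.repBySpWith_hom_iff _ g).2 fun T ξ Q a b sq => by
      have hQ := Groth.Agent.AlgSpLib.isAlgSpace_of_isPullback_space Z.property X.property (AlgSp.IsAlgSpace.yon_obj T) sq
      exact ⟨hQ, ⟨Groth.Agent.AlgSpLib.isSurjectiveMor_baseChange sq hgs,
        Groth.Agent.AlgSpLib.locP_baseChange Groth.Agent.AlgSpLib.etST_flat X.property Z.property hQ (AlgSp.IsAlgSpace.yon_obj T) sq hgf⟩,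
        Groth.Agent.AlgSpLib.locP_baseChange Groth.Agent.AlgSpLib.etST_lfp X.property Z.property hQ (AlgSp.IsAlgSpace.yon_obj T) sq hgp⟩)
  have : Epi g := (Sheaf.isLocallySurjective_iff_epi' _ g).1 this
  have : IsRegularEpi g := IsRegularEpiCategory.regularEpiOfEpi g
  have hk : IsKernelPair g (pullback.fst g g) (pullback.snd g g) := sqR
  obtain ⟨h, hh⟩ := Cofork.IsColimit.desc' hk.toCoequalizer' f heq
  exact ⟨h, hh⟩

end Groth.Agent.S10129
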