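import Groth.Statements.S10131
import Groth.Agent.AlgSpLib.GpdBasic
import Groth.Agent.AlgSpLib.QCompact
import Groth.Agent.AlgSpLib.ProperRange
import Groth.Agent.SpQS.BiratDense
import Groth.Agent.EtInvariance.Lift

set_option autoImplicit false
universe u
open CategoryTheory CategoryTheory.Limits AlgebraicGeometry
open AlgSp AlgSp.GroupoidSp

namespace Groth.Agent.S10131

/-- Let `(U, R, s, t, c)` be a groupoid in algebraic spaces over `B` with `s, t` open and quasi-compact.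
Then `U` has an open covering by `R`-invariant quasi-compact open subspaces. -/
theorem result (S : Scheme.{u}) (B : AlgSp.Sp S) (hB : AlgSp.IsAlgSpace B)
    (G : AlgSp.GroupoidSp B) (hU : AlgSp.IsAlgSpace G.U) (hR : AlgSp.IsAlgSpace G.R)
    (hs : AlgSp.IsOpenMor G.s ∧ AlgSp.IsQuasiCompactMor G.s) (ht : AlgSp.IsOpenMor G.t ∧ AlgSp.IsQuasiCompactMor G.t)
    (x : AlgSp.Points G.U) :
    ∃ (W : AlgSp.Sp S) (w : W ⟶ G.U), AlgSp.RepWith @IsOpenImmersion w ∧ G.IsInvariant w ∧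
      AlgSp.IsQuasiCompactSp W ∧ x ∈ Set.range (AlgSp.Points.map w) := by
  obtain ⟨U₀, a, u, hU₀, ha, rfl⟩ := Groth.Agent.EtInvariance.exists_affine_etale_nhd hU x
  have sq := IsPullback.of_hasPullback G.t a
  have hqU : AlgSp.IsQuasiCompactSp ((AlgSp.yon S).obj U₀) := by
    have : CompactSpace (AlgSp.Points ((AlgSp.yon S).obj U₀)) := (AlgSp.Points.schemeHomeo U₀).compactSpace
    exact Groth.Agent.AlgSpLib.isQuasiCompactSp_of_compactSpace (AlgSp.IsAlgSpace.yon_obj _)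
  have hP : AlgSp.IsAlgSpace (pullback G.t a) :=
    Groth.Agent.AlgSpLib.isAlgSpace_of_isPullback_space hU hR (AlgSp.IsAlgSpace.yon_obj _) sq
  have hPq : AlgSp.IsQuasiCompactSp (pullback G.t a) := ht.2 (AlgSp.IsAlgSpace.yon_obj _) hqU a _ _ sq
  let O := Set.range (AlgSp.Points.map (pullback.fst G.t a ≫ G.s))
  have himg : O = AlgSp.Points.map G.s '' (AlgSp.Points.map G.t ⁻¹' Set.range (AlgSp.Points.map a)) := by
    rw [← Groth.Agent.AlgSpLib.range_map_of_isPullback sq.flip, ← Set.range_comp]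
    exact congrArg Set.range (funext fun p => AlgSp.Points.map_comp _ _ p)
  have hra : IsOpen (Set.range (AlgSp.Points.map a)) := by
    have h0 := (Groth.Agent.AlgSpLib.isOpenMap_ofPt (Groth.Agent.AlgSpLib.repWith_universallyOpen_of_etale ha)).isOpen_range
    convert h0 using 1
    ext y
    constructor
    · rintro ⟨z, rfl⟩
      obtain ⟨w, rfl⟩ := (AlgSp.Points.schemeEquiv U₀).surjective z
      exact ⟨w, AlgSp.Points.ofPt_eq_map_ofScheme a w⟩
    · rintro ⟨w, rfl⟩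
      exact ⟨_, (AlgSp.Points.ofPt_eq_map_ofScheme a w).symm⟩
  have hO : IsOpen O := himg ▸ hs.1 _ (hra.preimage (AlgSp.Points.continuous_map _))
  have hW := Groth.Agent.AlgSpLib.isAlgSpace_subSheaf hU hO
  refine ⟨_, Groth.Agent.AlgSpLib.subInc O, Groth.Agent.AlgSpLib.repWith_subInc hO,
    Groth.Agent.AlgSpLib.Gpd.isInvariant_of_image G hU a hW (Groth.Agent.AlgSpLib.repWith_subInc hO)
      (by rw [Groth.Agent.AlgSpLib.range_subInc, himg]), ?_, ?_⟩
  · obtain ⟨g, hg⟩ := Groth.Agent.AlgSpLib.exists_factor_subInc (W := O) (pullback.fst G.t a ≫ G.s) fun p => ⟨p, rfl⟩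
    refine Groth.Agent.AlgSpLib.isQuasiCompactSp_of_isSurjectiveMor hW g (fun y => ?_) hPq
    obtain ⟨p, hp⟩ := Groth.Agent.AlgSpLib.map_subInc_mem y
    have := Groth.Agent.SpQS.mono_of_openImm (Groth.Agent.AlgSpLib.repWith_subInc hO)
    obtain ⟨z, hz₁, hz₂⟩ := Groth.Agent.AlgSpLib.exists_point_of_isPullback
      (IsKernelPair.id_of_mono (Groth.Agent.AlgSpLib.subInc O)) (AlgSp.Points.map g p) y
      (by rw [← AlgSp.Points.map_comp, hg]; exact hp)
    exact ⟨p, hz₁.symm.trans hz₂⟩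
  · rw [Groth.Agent.AlgSpLib.range_subInc, himg]
    refine ⟨AlgSp.Points.map G.e (AlgSp.Points.ofPt a u), ⟨AlgSp.Points.ofScheme U₀ u, ?_⟩, ?_⟩
    · rw [← AlgSp.Points.map_comp, G.e_t, AlgSp.Points.map_id]
      exact (AlgSp.Points.ofPt_eq_map_ofScheme a u).symm
    · rw [← AlgSp.Points.map_comp, G.e_s, AlgSp.Points.map_id]

end Groth.Agent.S10131
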