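import Groth.Statements.S10141
-- import your own Groth.Agent.* helpers here
import Groth.Agent.Bootstrap.OpenQuot

set_option autoImplicit false
universe u
open CategoryTheory CategoryTheory.Limits AlgebraicGeometry
open AlgSp

namespace Groth.Agent.S10141

/-- Let `(U, R, s, t, c)` be a groupoid scheme over `S` and `g : U' ⟶ U` a morphism such that the
composite `h : U' ×_{g, U, t} R ⟶ R ⟶ U` of the projection with `s` has open image `W ⊂ U` and `h :
U' ×_{g, U, t} R ⟶ W` is a surjection of fppf sheaves. Then for the restriction `R' = R|_{U'}` the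
map of fppf quotient sheaves `U'/R' ⟶ U/R` is representable and an open immersion. -/
theorem result (S : Scheme.{u}) (G : Grpd.GroupoidScheme S)
    (U' : Scheme.{u}) (g : U' ⟶ G.U) (W : G.U.Opens)
    (hW : (W : Set ↥G.U) = Set.range ⇑(pullback.snd g G.t ≫ G.s))
    (hlift : pullback g G.t ⟶ ↑W) (hh : hlift ≫ W.ι = pullback.snd g G.t ≫ G.s)
    (hsurj : Sheaf.IsLocallySurjective ((AlgSp.yon S).map
      (Over.homMk hlift ((Category.assoc _ _ _).symm.trans (congrArg (· ≫ G.pU) hh)) :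
        Over.mk ((pullback.snd g G.t ≫ G.s) ≫ G.pU) ⟶ Over.mk (W.ι ≫ G.pU))))
    (R' : Over S) (s' t' : R' ⟶ Over.mk (g ≫ G.pU)) (r : R' ⟶ Over.mk G.pR)
    (hsq : IsPullback (prod.lift t' s') r
      (prod.map (Over.homMk g rfl : Over.mk (g ≫ G.pU) ⟶ Over.mk G.pU) (Over.homMk g rfl : Over.mk (g ≫ G.pU) ⟶ Over.mk G.pU))
      (prod.lift (Over.homMk G.t G.t_over : Over.mk G.pR ⟶ Over.mk G.pU) (Over.homMk G.s G.s_over : Over.mk G.pR ⟶ Over.mk G.pU)))
    (ψ : QuotSh.quot Scheme.fppfPrecoverage s' t' ⟶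
      QuotSh.quot Scheme.fppfPrecoverage (Over.homMk G.s G.s_over : Over.mk G.pR ⟶ Over.mk G.pU) (Over.homMk G.t G.t_over : Over.mk G.pR ⟶ Over.mk G.pU))
    (hψ : QuotSh.quotπ Scheme.fppfPrecoverage s' t' ≫ ψ =
      QuotSh.repMap Scheme.fppfPrecoverage (Over.homMk g rfl : Over.mk (g ≫ G.pU) ⟶ Over.mk G.pU) ≫ QuotSh.quotπ Scheme.fppfPrecoverage _ _) :
    AlgSp.RepWith @IsOpenImmersion ψ := by
  let sO : Over.mk G.pR ⟶ Over.mk G.pU := Over.homMk G.s G.s_over
  let tO : Over.mk G.pR ⟶ Over.mk G.pU := Over.homMk G.t G.t_over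
  let gO : Over.mk (g ≫ G.pU) ⟶ Over.mk G.pU := Over.homMk g rfl
  let q₁ : Over.mk ((pullback.snd g G.t ≫ G.s) ≫ G.pU) ⟶ Over.mk (g ≫ G.pU) := Over.homMk (pullback.fst g G.t) (by
    show pullback.fst g G.t ≫ g ≫ G.pU = (pullback.snd g G.t ≫ G.s) ≫ G.pU
    rw [pullback.condition_assoc, Category.assoc, G.t_over, G.s_over])
  let q₂ : Over.mk ((pullback.snd g G.t ≫ G.s) ≫ G.pU) ⟶ Over.mk G.pR := Over.homMk (pullback.snd g G.t) (by
    show pullback.snd g G.t ≫ G.pR = (pullback.snd g G.t ≫ G.s) ≫ G.pU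
    rw [Category.assoc, G.s_over])
  let j : Over.mk (W.ι ≫ G.pU) ⟶ Over.mk G.pU := Over.homMk W.ι rfl
  have : IsOpenImmersion j.left := inferInstanceAs (IsOpenImmersion W.ι)
  have hpre : AlgSp.IsPreEqvRelSp ((AlgSp.yon S).map sO) ((AlgSp.yon S).map tO) := by
    refine Bootstrap.isPreEqvRelSp_map fun T => ⟨fun a => ?_, fun {a b} => ?_, fun {a b c} => ?_⟩
    · refine ⟨Over.homMk (a.left ≫ G.e) ?_, Over.OverMorphism.ext ?_, Over.OverMorphism.ext ?_⟩
      · show (a.left ≫ G.e) ≫ G.pR = T.hom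
        refine (congrArg (_ ≫ ·) G.t_over.symm).trans ?_
        rw [Category.assoc, ← Category.assoc G.e, G.e_t, Category.id_comp]
        exact Over.w a
      · show (a.left ≫ G.e) ≫ G.t = a.left
        exact (Category.assoc _ _ _).trans ((congrArg (a.left ≫ ·) G.e_t).trans (Category.comp_id _))
      · show (a.left ≫ G.e) ≫ G.s = a.left
        exact (Category.assoc _ _ _).trans ((congrArg (a.left ≫ ·) G.e_s).trans (Category.comp_id _))
    · rintro ⟨r₀, h1, h2⟩
      refine ⟨Over.homMk (r₀.left ≫ G.i) ?_, Over.OverMorphism.ext ?_, Over.OverMorphism.ext ?_⟩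
      · show (r₀.left ≫ G.i) ≫ G.pR = T.hom
        refine (congrArg (_ ≫ ·) G.t_over.symm).trans ?_
        rw [Category.assoc, ← Category.assoc G.i, G.i_t, G.s_over]
        exact Over.w r₀
      · show (r₀.left ≫ G.i) ≫ G.t = b.left
        rw [Category.assoc, G.i_t]
        exact congrArg (fun k : T ⟶ Over.mk G.pU => k.left) h2
      · show (r₀.left ≫ G.i) ≫ G.s = a.left
        rw [Category.assoc, G.i_s]
        exact congrArg (fun k : T ⟶ Over.mk G.pU => k.left) h1
    · rintro ⟨r₀, h1, h2⟩ ⟨r₁, h1', h2'⟩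
      have e : r₀.left ≫ G.s = r₁.left ≫ G.t := congrArg (fun k : T ⟶ Over.mk G.pU => k.left) (h2.trans h1'.symm)
      refine ⟨Over.homMk (pullback.lift r₀.left r₁.left e ≫ G.c) ?_, Over.OverMorphism.ext ?_, Over.OverMorphism.ext ?_⟩
      · show (pullback.lift r₀.left r₁.left e ≫ G.c) ≫ G.pR = T.hom
        refine (congrArg (_ ≫ ·) G.t_over.symm).trans ?_
        rw [← Category.assoc, G.comp_t, Category.assoc, G.t_over]
        exact Over.w r₀
      · exact (G.comp_t r₀.left r₁.left e).trans (congrArg (fun k : T ⟶ Over.mk G.pU => k.left) h1)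
      · exact (G.comp_s r₀.left r₁.left e).trans (congrArg (fun k : T ⟶ Over.mk G.pU => k.left) h2')
  refine Bootstrap.repWith_openImmersion_quot_map sO tO s' t' gO hpre
    (fun T a b r₀ => Bootstrap.exists_restrict hsq a b r₀) q₁ q₂ (Over.OverMorphism.ext pullback.condition) j
    (Over.homMk hlift ((Category.assoc _ _ _).symm.trans (congrArg (· ≫ G.pU) hh)))
    (Over.OverMorphism.ext hh) (fun T a r₀ e z => ?_) ψ (Bootstrap.quotProj_comp sO tO s' t' gO ψ hψ)
  have e' : a.left ≫ g = r₀.left ≫ G.t := congrArg (fun k : T ⟶ Over.mk G.pU => k.left) e.symm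
  rw [show Set.range j.left = Set.range ⇑(pullback.snd g G.t ≫ G.s) from (Scheme.Opens.range_ι W).trans hW]
  exact ⟨pullback.lift a.left r₀.left e' z, congr($(pullback.lift_snd_assoc a.left r₀.left e' G.s) z)⟩

end Groth.Agent.S10141
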