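import Groth.Statements.S10312
import Groth.Agent.AlgSpLib.LocPAtOpen
import Groth.Agent.AlgSpLib.ProperRange
import Groth.Agent.AlgSpLib.Atlas
import Groth.Agent.UnramPt.Basic

set_option autoImplicit false
universe u
open CategoryTheory CategoryTheory.Limits AlgebraicGeometry
open AlgSp

namespace Groth.Agent.S10312

set_option backward.isDefEq.respectTransparency false

open Groth.Agent.AlgSpLib

variable {S : Scheme.{u}}

theorem main {X Y Z Y' X' : Sp S} (hX : IsAlgSpace X) (hY : IsAlgSpace Y) (hZ : IsAlgSpace Z)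
    (hY' : IsAlgSpace Y') (hX' : IsAlgSpace X') (f : X ⟶ Y) (q : Y ⟶ Z) (hp : LocP @LocallyOfFiniteType (f ≫ q))
    (a : Y' ⟶ Y) (b : X' ⟶ X) (f' : X' ⟶ Y') (sq : IsPullback b f' f a) :
    IsOpen {x : Points X | HasAtMor (fun U _ h u => ∃ W : U.Opens, u ∈ W ∧ LocallyOfFiniteType (W.ι ≫ h) ∧ FormallyUnramified (W.ι ≫ h)) f x} ∧
    {x' : Points X' | HasAtMor (fun U _ h u => ∃ W : U.Opens, u ∈ W ∧ LocallyOfFiniteType (W.ι ≫ h) ∧ FormallyUnramified (W.ι ≫ h)) f' x'} =
      Points.map b ⁻¹' {x : Points X | HasAtMor (fun U _ h u => ∃ W : U.Opens, u ∈ W ∧ LocallyOfFiniteType (W.ι ≫ h) ∧ FormallyUnramified (W.ι ≫ h)) f x} := by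
  refine ⟨isOpen_iff_forall_mem_open.2 ?_, Set.ext fun x' => ?_⟩
  · rintro _ ⟨U, V, aU, bV, h, u, ha, hb, comm, rfl, W, huW, hW⟩
    exact ⟨Points.ofPt aU '' (W : Set U.left), by
      rintro _ ⟨w, hw, rfl⟩
      exact ⟨U, V, aU, bV, h, w, ha, hb, comm, rfl, W, hw, hW⟩,
      isOpenMap_ofPt (repWith_universallyOpen_of_etale ha) _ W.2, u, huW, rfl⟩
  have hflft : LocP @LocallyOfFiniteType f := locP_cancel etST_lft (Q := ⊤)
    (fun A B C f g _ hfg => by
      have : LocallyOfFiniteType (f ≫ g) := hfg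
      exact locallyOfFiniteType_of_comp f g) hZ hp (fun _ _ _ _ _ _ _ _ => trivial)
  -- a chart of `f'` over a chart of `f`
  have lift : ∀ {U V : Over S} (aU : (yon S).obj U ⟶ X) (bV : (yon S).obj V ⟶ Y) (h : U ⟶ V) (u : ↥U.left),
      RepWith @Etale aU → RepWith @Etale bV → aU ≫ f = (yon S).map h ≫ bV → Points.ofPt aU u = Points.map b x' →
      ∃ (U' V' : Over S) (d : (yon S).obj U' ⟶ X') (b' : (yon S).obj V' ⟶ Y') (h' : U' ⟶ V') (r : U' ⟶ U)
        (g : V' ⟶ V) (u' : ↥U'.left), RepWith @Etale d ∧ RepWith @Etale b' ∧ d ≫ f' = (yon S).map h' ≫ b' ∧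
        IsPullback r.left h'.left h.left g.left ∧ Points.ofPt d u' = x' ∧ r.left u' = u := by
    intro U V aU bV h u ha hb comm hu
    -- the base chart
    have sY := IsPullback.of_hasPullback a bV
    have hPY := isAlgSpace_of_isPullback_space hY hY' (IsAlgSpace.yon_obj V) sY
    obtain ⟨V', c, hc, hcs⟩ := hPY.atlas
    let b' : (yon S).obj V' ⟶ Y' := c ≫ pullback.fst a bV
    have hb' : RepWith @Etale b' := repWith_comp hc (repWith_baseChange sY.flip hb)
    obtain ⟨g, hg⟩ := exists_map_eq (c ≫ pullback.snd a bV)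
    -- the points of `X'` over the chart of `X`
    have sQ := IsPullback.of_hasPullback b aU
    let n : pullback b aU ⟶ pullback a bV := pullback.lift (pullback.fst b aU ≫ f') (pullback.snd b aU ≫ (yon S).map h)
      (by rw [Category.assoc, ← sq.w, pullback.condition_assoc, comm, Category.assoc])
    have sn : IsPullback (pullback.snd b aU) n ((yon S).map h) (pullback.snd a bV) := by
      refine IsPullback.of_bot ?_ (pullback.lift_snd _ _ _).symm sY.flip
      rw [pullback.lift_fst, ← comm]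
      exact sQ.flip.paste_vert sq
    obtain ⟨U', r, h', sU⟩ := exists_pullback (IsAlgSpace.yon_obj V).diag ((yon S).map h) ((yon S).map g)
    let e : (yon S).obj U' ⟶ pullback b aU := sn.lift ((yon S).map r) ((yon S).map h' ≫ c) (by
      rw [Category.assoc, ← hg, sU.w])
    have he : e ≫ pullback.snd b aU = (yon S).map r := sn.lift_fst _ _ _
    have se : IsPullback e ((yon S).map h') n c :=
      IsPullback.of_right (by rw [he, ← hg]; exact sU) (sn.lift_snd _ _ _) sn
    obtain ⟨q₀, hq₁, hq₂⟩ := exists_point_of_isPullback sQ x' (Points.ofScheme U u) (by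
      rw [← Points.ofPt_eq_map_ofScheme, hu])
    obtain ⟨u', hu'⟩ := ofPt_surjective (repWith_baseChange se.flip hcs) q₀
    refine ⟨U', V', e ≫ pullback.fst b aU, b', h', r, g, u', repWith_comp (repWith_baseChange se.flip hc)
      (repWith_baseChange sQ.flip ha), hb', ?_, isPullback_yon_iff.1 sU, ?_, ?_⟩
    · rw [Category.assoc, show pullback.fst b aU ≫ f' = n ≫ pullback.fst a bV from (pullback.lift_fst _ _ _).symm,
        ← Category.assoc, sn.lift_snd, Category.assoc]
    · rw [← hq₁, ← hu', Points.map_ofPt]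
    · refine (Points.schemeEquiv U).injective ?_
      exact ((ofScheme_map r u').symm.trans (by rw [← he, ← Points.map_ofPt, hu'])).trans hq₂
  refine ⟨?_, ?_⟩
  · rintro ⟨U₁, V₁, a₁, b₁, h₁, u₁, ha₁, hb₁, comm₁, hx', W₁, hu₁, hW₁⟩
    obtain ⟨V, p, hp', hps⟩ := hY.atlas
    obtain ⟨U, π, h, hπ, hπs, hh⟩ := exists_chart_lift hX hY f hp' hps
    obtain ⟨u, hu⟩ := ofPt_surjective hπs (Points.map b x')
    obtain ⟨U', V', d, b', h', r, g, u', hd, hb', comm', sU, hdu, hru⟩ := lift π p h u hπ hp' hh hu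
    have hlft : LocallyOfFiniteType h.left := hflft π p h hπ hp' hh
    obtain ⟨X₀, hX₀, j, hj, hxj, hP⟩ :=
      (hasAtMor_iff_exists_open (P := @LocallyOfFiniteType ⊓ @FormallyUnramified) etST_unramified hX' hY' f' x').1
        ⟨U₁, V₁, a₁, b₁, h₁, u₁, ha₁, hb₁, comm₁, hx', W₁, hu₁, hW₁⟩
    obtain ⟨W₀, z, v, sqv, hv⟩ := exists_repWith hj d
    have : IsOpenImmersion v.left := hv
    have huv : u' ∈ Set.range v.left := by
      have h1 : Points.ofScheme U' u' ∈ Points.map d ⁻¹' Set.range (Points.map j) := by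
        rw [Set.mem_preimage, ← Points.ofPt_eq_map_ofScheme, hdu]
        exact hxj
      rw [← range_map_of_isPullback sqv] at h1
      obtain ⟨w, hw⟩ := h1
      obtain ⟨w, rfl⟩ := (Points.schemeEquiv W₀).surjective w
      exact ⟨w, (Points.schemeEquiv U').injective
        (((Points.ofPt_eq_map_ofScheme _ w).symm.trans (ofScheme_map v w)).symm.trans hw)⟩
    have hvP : FormallyUnramified (v.left ≫ h'.left) := (hP z b' (v ≫ h') (repWith_baseChange sqv.flip hd) hb'
      (by rw [← Category.assoc, sqv.w, Category.assoc, comm', Functor.map_comp, Category.assoc])).2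
    let O : U'.left.Opens := v.left.opensRange
    have hO : FormallyUnramified (O.ι ≫ h'.left) := by
      rw [← MorphismProperty.cancel_left_of_respectsIso @FormallyUnramified v.left.isoOpensRange.hom,
        ← Category.assoc, Scheme.Hom.isoOpensRange_hom_ι]
      exact hvP
    let τ := sU.isoPullback
    have hτ : FormallyUnramified ((τ.inv ⁻¹ᵁ O).ι ≫ pullback.snd h.left g.left) := by
      have h2 : (τ.inv ∣_ O) ≫ O.ι ≫ h'.left = (τ.inv ⁻¹ᵁ O).ι ≫ pullback.snd h.left g.left := by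
        rw [← Category.assoc, morphismRestrict_ι, Category.assoc, sU.isoPullback_inv_snd]
      rw [← h2, MorphismProperty.cancel_left_of_respectsIso @FormallyUnramified]
      exact hO
    obtain ⟨W, hW, hWu⟩ := UnramPt.exists_nhd_of_baseChange h.left g.left (τ.hom u') (τ.inv ⁻¹ᵁ O)
      (show τ.inv (τ.hom u') ∈ O by rw [← Scheme.Hom.comp_apply, Iso.hom_inv_id]; exact huv) hτ
    rw [← Scheme.Hom.comp_apply, sU.isoPullback_hom_fst, hru] at hW
    exact ⟨U, V, π, p, h, u, hπ, hp', hh, hu, W, hW, inferInstance, hWu⟩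
  · rintro ⟨U, V, aU, bV, h, u, ha, hb, comm, hu, W, huW, hW⟩
    obtain ⟨U', V', d, b', h', r, g, u', hd, hb', comm', sU, hdu, hru⟩ := lift aU bV h u ha hb comm hu
    refine ⟨U', V', d, b', h', u', hd, hb', comm', hdu, r.left ⁻¹ᵁ W, show r.left u' ∈ W by rw [hru]; exact huW, ?_⟩
    have sqW := (isPullback_morphismRestrict r.left W).paste_vert sU
    exact ⟨MorphismProperty.of_isPullback (P := @LocallyOfFiniteType) sqW hW.1,
      MorphismProperty.of_isPullback (P := @FormallyUnramified) sqW hW.2⟩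

end Groth.Agent.S10312

namespace Groth.Agent.S10312

/-- For X -> Y over Z with X -> Z locally of finite type, the locus where X -> Y is unramified is an
open subset of |X| whose formation commutes with base change along any Z' -> Z. -/
theorem result {S : Scheme.{u}} {X Y Z Z' Y' X' : AlgSp.Space S} (f : X ⟶ Y)
    (p : X ⟶ Z) (q : Y ⟶ Z) (comm : f ≫ q = p) (hp : AlgSp.LocP @LocallyOfFiniteType p.hom) (g : Z' ⟶ Z)
    (a : Y' ⟶ Y) (q' : Y' ⟶ Z') (sq1 : IsPullback a.hom q'.hom q.hom g.hom)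
    (b : X' ⟶ X) (f' : X' ⟶ Y') (sq2 : IsPullback b.hom f'.hom f.hom a.hom) :
    IsOpen {x : AlgSp.Points X.obj | AlgSp.HasAtMor (fun U _ h u => ∃ W : U.Opens, u ∈ W ∧ LocallyOfFiniteType (W.ι ≫ h) ∧ FormallyUnramified (W.ι ≫ h)) f.hom x} ∧
    {x' : AlgSp.Points X'.obj | AlgSp.HasAtMor (fun U _ h u => ∃ W : U.Opens, u ∈ W ∧ LocallyOfFiniteType (W.ι ≫ h) ∧ FormallyUnramified (W.ι ≫ h)) f'.hom x'} =
      AlgSp.Points.map b.hom ⁻¹' {x : AlgSp.Points X.obj | AlgSp.HasAtMor (fun U _ h u => ∃ W : U.Opens, u ∈ W ∧ LocallyOfFiniteType (W.ι ≫ h) ∧ FormallyUnramified (W.ι ≫ h)) f.hom x} := by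
  exact main X.property Y.property Z.property Y'.property X'.property f.hom q.hom
    (by rw [show f.hom ≫ q.hom = p.hom from congrArg (fun m => m.hom) comm]; exact hp) a.hom b.hom f'.hom sq2

end Groth.Agent.S10312
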