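import Groth.Statements.S10143
import Groth.Agent.S10312
import Groth.Agent.AlgSpLib.GrpUnitDiag
import Groth.Agent.AlgSpLib.Subspace
import Groth.Agent.UnivInjMor.Unram
import Mathlib.CategoryTheory.Monoidal.Cartesian.Grp

set_option autoImplicit false
universe u
open CategoryTheory CategoryTheory.Limits AlgebraicGeometry MonoidalCategory MonObj
open AlgSp

namespace Groth.Agent.S10143

set_option backward.isDefEq.respectTransparency false

open Groth.Agent.AlgSpLib MonoidalCategory CartesianMonoidalCategory MonObj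

variable {S : Scheme.{u}}

/-- the points of the base where the unit lies in the unramified locus -/
def locus {B : Sp S} (G : Over B) [GrpObj G] : Set (Points B) :=
  Points.map (η[G]).left ⁻¹' {x | HasAtMor (fun U _ h u => ∃ W : U.Opens, u ∈ W ∧ LocallyOfFiniteType (W.ι ≫ h) ∧
    FormallyUnramified (W.ι ≫ h)) G.hom x}

theorem isOpen_locus {B : Sp S} (hB : IsAlgSpace B) (G : Over B) [GrpObj G] (hG : IsAlgSpace G.left)
    (hl : LocP @LocallyOfFiniteType G.hom) : IsOpen (locus G) :=
  (S10312.main hG hB hB hB hG G.hom (𝟙 B) (by rwa [Category.comp_id]) (𝟙 B) (𝟙 G.left) G.hom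
    (IsPullback.of_horiz_isIso ⟨by simp⟩)).1.preimage (Points.continuous_map _)

theorem iff_range {B : Sp S} (hB : IsAlgSpace B) (G : Over B) [GrpObj G] (hG : IsAlgSpace G.left)
    (hl : LocP @LocallyOfFiniteType G.hom) {B' P : Sp S} (hB' : IsAlgSpace B') {f : B' ⟶ B} {p₁ : P ⟶ G.left}
    {p₂ : P ⟶ B'} (sq : IsPullback p₁ p₂ G.hom f) :
    LocP (@LocallyOfFiniteType ⊓ @FormallyUnramified) p₂ ↔ Set.range (Points.map f) ⊆ locus G := by
  have hP : IsAlgSpace P := isAlgSpace_of_isPullback_space hB hG hB' sq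
  have hu := (S10312.main hG hB hB hB' hP G.hom (𝟙 B) (by rwa [Category.comp_id]) f p₁ p₂ sq).2
  have hl' : LocP @LocallyOfFiniteType p₂ := locP_baseChange etST_lft hG hB hP hB' sq hl
  have he : (η[G]).left ≫ G.hom = 𝟙 B := Over.w η[G]
  let s : B' ⟶ P := sq.lift (f ≫ (η[G]).left) (𝟙 _) (by rw [Category.assoc, he, Category.id_comp, Category.comp_id])
  have hs1 : s ≫ p₁ = f ≫ (η[G]).left := sq.lift_fst _ _ _
  have hs2 : s ≫ p₂ = 𝟙 _ := sq.lift_snd _ _ _
  constructor
  · rintro h _ ⟨b, rfl⟩
    have h2 := (Set.ext_iff.1 hu (Points.map s b)).1 ((locP_iff_forall_hasAtMor etST_unramified hP hB' _).1 h _)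
    rw [Set.mem_preimage, ← Points.map_comp, hs1, Points.map_comp] at h2
    exact h2
  intro hr
  have : IsSplitMono s := ⟨⟨p₂, hs2⟩⟩
  -- the section is an open immersion
  let O : Set (Points P) := {x' | HasAtMor (fun U _ h u => ∃ W : U.Opens, u ∈ W ∧ LocallyOfFiniteType (W.ι ≫ h) ∧
    FormallyUnramified (W.ι ≫ h)) p₂ x'}
  have hO : IsOpen O := (S10312.main hP hB' hB' hB' hP p₂ (𝟙 B') (by rwa [Category.comp_id]) (𝟙 B') (𝟙 P) p₂
    (IsPullback.of_horiz_isIso ⟨by simp⟩)).1
  have hOu : LocP (@LocallyOfFiniteType ⊓ @FormallyUnramified) (subInc O ≫ p₂) := by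
    refine (locP_iff_forall_hasAtMor etST_unramified (isAlgSpace_subSheaf hP hO) hB' _).2 fun x => ?_
    obtain ⟨A, B₁, a, b, h, u, ha, hb, comm, hu', W, huW, hW⟩ := map_subInc_mem x
    obtain ⟨A₀, z, v, sqv, hv⟩ := exists_repWith (repWith_subInc hO) a
    have : IsOpenImmersion v.left := hv
    obtain ⟨w, hw₁, hw₂⟩ := exists_point_of_isPullback sqv x (Points.ofScheme A u)
      (by rw [← Points.ofPt_eq_map_ofScheme, hu'])
    obtain ⟨w, rfl⟩ := (Points.schemeEquiv A₀).surjective w
    have hw : v.left w = u := (Points.schemeEquiv A).injective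
      (((Points.ofPt_eq_map_ofScheme _ w).symm.trans (ofScheme_map v w)).symm.trans hw₂)
    refine ⟨A₀, B₁, z, b, v ≫ h, w, repWith_baseChange sqv.flip ha, hb, ?_,
      (Points.ofPt_eq_map_ofScheme z w).trans hw₁, v.left ⁻¹ᵁ W, show v.left w ∈ W by rw [hw]; exact huW, ?_⟩
    · rw [sqv.w_assoc, comm, Functor.map_comp, Category.assoc]
    · rw [Over.comp_left, ← morphismRestrict_ι_assoc]
      exact ⟨MorphismProperty.comp_mem @LocallyOfFiniteType _ _ inferInstance hW.1,
        MorphismProperty.comp_mem @FormallyUnramified _ _ inferInstance hW.2⟩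
  obtain ⟨k, hk⟩ := (exists_factor_iff (isAlgSpace_subSheaf hP hO) hP _ (repWith_subInc hO) s).2 (by
    rintro _ ⟨b, rfl⟩
    rw [range_subInc]
    refine (Set.ext_iff.1 hu _).2 ?_
    rw [Set.mem_preimage, ← Points.map_comp, hs1, Points.map_comp]
    exact hr ⟨b, rfl⟩)
  have hOe : LocP @Etale (subInc O) := (isEtaleMor_iff_locP hP).1 (isEtaleMor_of_repWith' (repWith_mono (fun _ _ r hr => by
    have : IsOpenImmersion r := hr
    exact (inferInstance : Etale r)) (repWith_subInc hO)))
  have hke : LocP @Etale k := by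
    refine locP_cancel etST_etale (Q := @LocallyOfFiniteType ⊓ @FormallyUnramified) (g := subInc O ≫ p₂)
      (fun _ _ _ r t ht hrt => ?_) hB' ?_ hOu
    · have : LocallyOfFiniteType t := ht.1
      have : FormallyUnramified t := ht.2
      have : Etale (r ≫ t) := hrt
      exact Etale.of_comp r t
    · rw [← Category.assoc, hk, hs2]
      exact (isEtaleMor_iff_locP hB').1 fun U φ hφ => by rw [Category.comp_id]; exact hφ
  have hso : RepWith @IsOpenImmersion s := by
    refine repWith_isOpenImmersion_of_mono hB' hP _ ((isEtaleMor_iff_locP hP).2 ?_)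
    rw [← hk]
    exact locP_comp etST_etale (isAlgSpace_subSheaf hP hO) hP hke hOe
  -- the diagonal is a base change of the section
  refine UnivInjMor.unramified_of_diagonal hP hB' p₂ hl' ?_
  have h1 := (isPullback_diag_unit G).map (Over.forget B)
  have e1 : (lift (𝟙 G) (𝟙 G)).left = pullback.diagonal G.hom := Over.lift_left _ _
  let g : (G ⊗ G).left ⟶ G.left := ((fst G G)⁻¹ * snd G G).left
  have hg : g ≫ G.hom = pullback.fst G.hom G.hom ≫ G.hom := Over.w ((fst G G)⁻¹ * snd G G)
  let q : pullback p₂ p₂ ⟶ pullback G.hom G.hom :=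
    pullback.lift (pullback.fst p₂ p₂ ≫ p₁) (pullback.snd p₂ p₂ ≫ p₁)
      (by rw [Category.assoc, Category.assoc, sq.w, pullback.condition_assoc])
  have sd : IsPullback p₁ (pullback.diagonal p₂) (pullback.diagonal G.hom) q := by
    refine isPullback_of_points ?_ fun T a t e => ?_
    · apply pullback.hom_ext
      · rw [Category.assoc, pullback.diagonal_fst, Category.comp_id, Category.assoc, pullback.lift_fst,
          pullback.diagonal_fst_assoc]
      · rw [Category.assoc, pullback.diagonal_snd, Category.comp_id, Category.assoc, pullback.lift_snd,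
          pullback.diagonal_snd_assoc]
    have e0 : t ≫ pullback.fst p₂ p₂ ≫ p₁ = a := by
      have := congrArg (fun m => m ≫ pullback.fst G.hom G.hom) e
      simpa [q] using this.symm
    have e2 : t ≫ pullback.snd p₂ p₂ ≫ p₁ = a := by
      have := congrArg (fun m => m ≫ pullback.snd G.hom G.hom) e
      simpa [q] using this.symm
    refine ⟨t ≫ pullback.fst p₂ p₂, ⟨by rw [Category.assoc, e0], pullback.hom_ext ?_ ?_⟩, fun y hy => ?_⟩
    · rw [Category.assoc, pullback.diagonal_fst, Category.comp_id]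
    · rw [Category.assoc, pullback.diagonal_snd, Category.comp_id]
      refine sq.hom_ext ?_ ?_
      · rw [Category.assoc, e0, Category.assoc, e2]
      · rw [Category.assoc, Category.assoc, pullback.condition]
    · rw [← hy.2, Category.assoc, pullback.diagonal_fst, Category.comp_id]
  have hbig : IsPullback (p₁ ≫ (toUnit G).left) (pullback.diagonal p₂) (η[G]).left (q ≫ g) :=
    sd.paste_horiz (by rw [← e1]; exact h1)
  have htu : (toUnit G).left = G.hom := Over.toUnit_left
  have sS : IsPullback f s (η[G]).left p₁ := by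
    refine isPullback_of_points hs1.symm fun T b t e => ?_
    have eb : (t ≫ p₂) ≫ f = b := by
      rw [Category.assoc, ← sq.w, ← Category.assoc, ← e, Category.assoc, he]
      exact Category.comp_id b
    refine ⟨t ≫ p₂, ⟨eb, sq.hom_ext ?_ ?_⟩, fun y hy => ?_⟩
    · rw [Category.assoc, hs1, ← Category.assoc, eb, e]
    · rw [Category.assoc, hs2, Category.comp_id]
    · rw [← hy.2, Category.assoc, hs2, Category.comp_id]
  let d : pullback p₂ p₂ ⟶ P := sq.lift (q ≫ g) (pullback.fst p₂ p₂ ≫ p₂) (by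
    rw [Category.assoc, hg, pullback.lift_fst_assoc]
    simp only [Category.assoc, sq.w])
  have hbig' : IsPullback (p₁ ≫ G.hom) (pullback.diagonal p₂) (η[G]).left (q ≫ g) := by
    exact (congrArg (fun m : G.left ⟶ B => IsPullback (p₁ ≫ m) (pullback.diagonal p₂) (η[G]).left (q ≫ g)) htu).mp hbig
  have hfin : IsPullback p₂ (pullback.diagonal p₂) s d := by
    refine IsPullback.of_right ?_ (sq.hom_ext ?_ ?_) sS
    · rw [sq.lift_fst, ← sq.w]
      exact hbig'
    · rw [Category.assoc, Category.assoc, hs1, sq.lift_fst, ← Category.assoc p₂, ← sq.w]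
      exact hbig'.w
    · rw [Category.assoc, Category.assoc, hs2, sq.lift_snd, Category.comp_id, pullback.diagonal_fst_assoc]
  exact repWith_baseChange hfin hso

end Groth.Agent.S10143

namespace Groth.Agent.S10143

/-- Let `G` be a group algebraic space over an algebraic space `B` with `G ⟶ B` locally of finite type.
Then there is a largest open subspace `W ⊂ B` such that `G_W ⟶ W` is unramified, and its formation
commutes with base change along any morphism of algebraic spaces `B' ⟶ B`. -/
theorem result (S : Scheme.{u}) (B : AlgSp.Sp S) (hB : AlgSp.IsAlgSpace B)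
    (G : Over B) [GrpObj G] (hG : AlgSp.IsAlgSpace G.left) (hlft : AlgSp.LocP @LocallyOfFiniteType G.hom) :
    ∃ (W : AlgSp.Sp S) (w : W ⟶ B), AlgSp.RepWith @IsOpenImmersion w ∧
      (∀ (W' : AlgSp.Sp S) (w' : W' ⟶ B), AlgSp.RepWith @IsOpenImmersion w' →
        (AlgSp.LocP (@LocallyOfFiniteType ⊓ @FormallyUnramified) (pullback.snd G.hom w') ↔ ∃ k : W' ⟶ W, k ≫ w = w')) ∧
      (∀ (B' : AlgSp.Sp S), AlgSp.IsAlgSpace B' → ∀ (f : B' ⟶ B) (W'' : AlgSp.Sp S) (w'' : W'' ⟶ B'),
        AlgSp.RepWith @IsOpenImmersion w'' →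
        (AlgSp.LocP (@LocallyOfFiniteType ⊓ @FormallyUnramified) (pullback.snd (pullback.snd G.hom f) w'') ↔
          ∃ k : W'' ⟶ pullback w f, k ≫ pullback.snd w f = w'')) := by
  have hW : IsOpen (locus G) := isOpen_locus hB G hG hlft
  have hsub := Groth.Agent.AlgSpLib.isAlgSpace_subSheaf hB hW
  have hfac := fun {T : AlgSp.Sp S} (g : T ⟶ B) =>
    Groth.Agent.AlgSpLib.exists_factor_iff hsub hB _ (Groth.Agent.AlgSpLib.repWith_subInc hW) g
  refine ⟨_, Groth.Agent.AlgSpLib.subInc (locus G), Groth.Agent.AlgSpLib.repWith_subInc hW, fun W' w' hw' => ?_,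
    fun B' hB' f W'' w'' hw'' => ?_⟩
  · rw [iff_range hB G hG hlft (Groth.Agent.AlgSpLib.isAlgSpace_of_repBySp (AlgSp.Representable.repBySp hw'.1) hB)
      (IsPullback.of_hasPullback G.hom w'), hfac, Groth.Agent.AlgSpLib.range_subInc]
  · rw [iff_range hB G hG hlft (Groth.Agent.AlgSpLib.isAlgSpace_of_repBySp (AlgSp.Representable.repBySp hw''.1) hB')
      ((IsPullback.of_hasPullback (pullback.snd G.hom f) w'').paste_horiz (IsPullback.of_hasPullback G.hom f))]
    refine Iff.trans (Iff.trans ?_ (hfac (w'' ≫ f)).symm) ?_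
    · rw [Groth.Agent.AlgSpLib.range_subInc]
    exact ⟨fun ⟨k, hk⟩ => ⟨pullback.lift k w'' hk, pullback.lift_snd _ _ _⟩,
      fun ⟨k, hk⟩ => ⟨k ≫ pullback.fst (Groth.Agent.AlgSpLib.subInc (locus G)) f, by
        rw [Category.assoc, pullback.condition, ← Category.assoc, hk]⟩⟩

end Groth.Agent.S10143
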