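import Groth.Statements.S10144
import Groth.Agent.GrpQF.Basic
import Groth.Agent.AlgSpLib.Subspace

set_option autoImplicit false
universe u
open CategoryTheory CategoryTheory.Limits AlgebraicGeometry MonoidalCategory MonObj
open AlgSp

namespace Groth.Agent.S10144

/-- Let `G` be a group algebraic space over an algebraic space `B` with `G ⟶ B` locally of finite type.
Then there is a largest open subspace `W ⊂ B` such that `G_W ⟶ W` is locally quasi-finite, and its
formation commutes with base change along any morphism of algebraic spaces `B' ⟶ B`. -/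
theorem result (S : Scheme.{u}) (B : AlgSp.Sp S) (hB : AlgSp.IsAlgSpace B)
    (G : Over B) [GrpObj G] (hG : AlgSp.IsAlgSpace G.left) (hlft : AlgSp.LocP @LocallyOfFiniteType G.hom) :
    ∃ (W : AlgSp.Sp S) (w : W ⟶ B), AlgSp.RepWith @IsOpenImmersion w ∧
      (∀ (W' : AlgSp.Sp S) (w' : W' ⟶ B), AlgSp.RepWith @IsOpenImmersion w' →
        (AlgSp.LocP (@LocallyQuasiFinite ⊓ @LocallyOfFiniteType) (pullback.snd G.hom w') ↔ ∃ k : W' ⟶ W, k ≫ w = w')) ∧
      (∀ (B' : AlgSp.Sp S), AlgSp.IsAlgSpace B' → ∀ (f : B' ⟶ B) (W'' : AlgSp.Sp S) (w'' : W'' ⟶ B'),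
        AlgSp.RepWith @IsOpenImmersion w'' →
        (AlgSp.LocP (@LocallyQuasiFinite ⊓ @LocallyOfFiniteType) (pullback.snd (pullback.snd G.hom f) w'') ↔
          ∃ k : W'' ⟶ pullback w f, k ≫ pullback.snd w f = w'')) := by
  have hW : IsOpen (Groth.Agent.GrpQF.locus G) := Groth.Agent.GrpQF.isOpen_locus hB G hG hlft
  have hsub := Groth.Agent.AlgSpLib.isAlgSpace_subSheaf hB hW
  have hfac := fun {T : AlgSp.Sp S} (g : T ⟶ B) =>
    Groth.Agent.AlgSpLib.exists_factor_iff hsub hB _ (Groth.Agent.AlgSpLib.repWith_subInc hW) g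
  refine ⟨_, Groth.Agent.AlgSpLib.subInc (Groth.Agent.GrpQF.locus G), Groth.Agent.AlgSpLib.repWith_subInc hW, fun W' w' hw' => ?_,
    fun B' hB' f W'' w'' hw'' => ?_⟩
  · rw [Groth.Agent.GrpQF.lqf_iff_range hB G hG hlft (Groth.Agent.AlgSpLib.isAlgSpace_of_repBySp (AlgSp.Representable.repBySp hw'.1) hB)
      (IsPullback.of_hasPullback G.hom w'), hfac, Groth.Agent.AlgSpLib.range_subInc]
  · rw [Groth.Agent.GrpQF.lqf_iff_range hB G hG hlft (Groth.Agent.AlgSpLib.isAlgSpace_of_repBySp (AlgSp.Representable.repBySp hw''.1) hB')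
      ((IsPullback.of_hasPullback (pullback.snd G.hom f) w'').paste_horiz (IsPullback.of_hasPullback G.hom f))]
    refine Iff.trans (Iff.trans ?_ (hfac (w'' ≫ f)).symm) ?_
    · rw [Groth.Agent.AlgSpLib.range_subInc]
    exact ⟨fun ⟨k, hk⟩ => ⟨pullback.lift k w'' hk, pullback.lift_snd _ _ _⟩,
      fun ⟨k, hk⟩ => ⟨k ≫ pullback.fst (Groth.Agent.AlgSpLib.subInc (Groth.Agent.GrpQF.locus G)) f, by
        rw [Category.assoc, pullback.condition, ← Category.assoc, hk]⟩⟩

end Groth.Agent.S10144
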