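import Groth.Statements.S10146
import Groth.Agent.AlgClosedAut.Basic
import Groth.Agent.GaloisPts.Basic

set_option autoImplicit false
universe u
open CategoryTheory CategoryTheory.Limits AlgebraicGeometry
open AlgSp AlgSp.GroupoidSp

set_option backward.isDefEq.respectTransparency false

namespace Groth.Agent.S10146

/-- Let `(U, R, s, t, c)` be a groupoid in algebraic spaces over `B` whose object space is `U = Spec k`.
For every point `r` of `R` there are an algebraically closed field extension `k'` of `k` and, on the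
restriction `(U', R', s', t', c')` along `Spec k' ⟶ Spec k`, a morphism `r' : Spec k' ⟶ R'` mapping
to `r` in `R` such that `s' ∘ r'` and `t' ∘ r'` are automorphisms of `Spec k'`. -/
theorem result (S : Scheme.{u}) (B : AlgSp.Sp S) (hB : AlgSp.IsAlgSpace B)
    (G : AlgSp.GroupoidSp B) (hR : AlgSp.IsAlgSpace G.R) (k : Type u) [Field k]
    (σ : Spec (CommRingCat.of k) ⟶ S) (eU : G.U ≅ (AlgSp.yon S).obj (Over.mk σ)) (r : AlgSp.Points G.R) :
    ∃ (k' : Type u) (_ : Field k') (_ : Algebra k k'), IsAlgClosed k' ∧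
      ∀ (G' : AlgSp.GroupoidSp B) (φ : AlgSp.GroupoidSp.Hom G' G), φ.IsRestriction → AlgSp.IsAlgSpace G'.R →
        ∀ (eU' : G'.U ≅ (AlgSp.yon S).obj (Over.mk (Spec.map (CommRingCat.ofHom (algebraMap k k')) ≫ σ))),
          φ.fU = eU'.hom ≫ (AlgSp.yon S).map (Over.homMk (Spec.map (CommRingCat.ofHom (algebraMap k k'))) rfl :
            Over.mk (Spec.map (CommRingCat.ofHom (algebraMap k k')) ≫ σ) ⟶ Over.mk σ) ≫ eU.inv →
          ∃ r' : G'.U ⟶ G'.R, (∀ x : AlgSp.Points G'.U, AlgSp.Points.map (r' ≫ φ.fR) x = r) ∧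
            IsIso (r' ≫ G'.s) ∧ IsIso (r' ≫ G'.t) := by
  obtain ⟨p, hp⟩ := AlgSp.Points.mk_surjective r
  obtain ⟨sm, hsm⟩ := (AlgSp.yon S).map_surjective (p.toHom ≫ G.s ≫ eU.hom)
  obtain ⟨tm, htm⟩ := (AlgSp.yon S).map_surjective (p.toHom ≫ G.t ≫ eU.hom)
  obtain ⟨φs, hφs⟩ := Spec.map_surjective sm.left
  obtain ⟨φt, hφt⟩ := Spec.map_surjective tm.left
  obtain ⟨Ω, _, _, m, b, hb⟩ := Groth.Agent.AlgClosedAut.exists_conjugate φs.hom φt.hom
  letI alg : Algebra k Ω := (m.comp φs.hom).toAlgebra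
  refine ⟨Ω, inferInstance, alg, inferInstance, fun G' φ hres _ eU' hfU => ?_⟩
  let W' : Over S := Over.mk (Spec.map (CommRingCat.ofHom (algebraMap k Ω)) ≫ σ)
  let ι : W' ⟶ Over.mk σ := Over.homMk (Spec.map (CommRingCat.ofHom (algebraMap k Ω))) rfl
  have hws : sm.left ≫ σ = p.str := Over.w sm
  have hwt : tm.left ≫ σ = p.str := Over.w tm
  have ems : Spec.map (CommRingCat.ofHom m) ≫ sm.left = Spec.map (CommRingCat.ofHom (algebraMap k Ω)) := by
    rw [← hφs, ← Spec.map_comp]; rfl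
  have emt : Spec.map (CommRingCat.ofHom b.toRingHom) ≫ Spec.map (CommRingCat.ofHom (algebraMap k Ω)) =
      Spec.map (CommRingCat.ofHom m) ≫ tm.left := by
    rw [← hφt, ← Spec.map_comp, ← Spec.map_comp]
    congr 1
    ext x
    exact hb x
  let μ : W' ⟶ p.pt := Over.homMk (Spec.map (CommRingCat.ofHom m)) (by
    show Spec.map (CommRingCat.ofHom m) ≫ p.str = _
    rw [← hws, ← Category.assoc, ems]; rfl)
  let β : W' ⟶ W' := Over.homMk (Spec.map (CommRingCat.ofHom b.toRingHom)) (by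
    show Spec.map (CommRingCat.ofHom b.toRingHom) ≫ _ ≫ σ = _ ≫ σ
    rw [← Category.assoc, emt, Category.assoc, hwt, ← hws, ← Category.assoc, ems])
  haveI : IsIso β := by
    haveI : IsIso ((Over.forget S).map β) := by
      have : IsIso (CommRingCat.ofHom b.toRingHom) := b.toCommRingCatIso.isIso_hom
      show IsIso (Spec.map (CommRingCat.ofHom b.toRingHom))
      infer_instance
    exact isIso_of_reflects_iso β (Over.forget S)
  have hι : φ.fU = eU'.hom ≫ (AlgSp.yon S).map ι ≫ eU.inv := hfU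
  have hμs : μ ≫ sm = ι := Over.OverMorphism.ext ems
  have hμt : β ≫ ι = μ ≫ tm := Over.OverMorphism.ext emt
  let γ : G'.U ⟶ G.R := eU'.hom ≫ (AlgSp.yon S).map μ ≫ p.toHom
  let T : G'.U ⟶ G'.U := eU'.hom ≫ (AlgSp.yon S).map β ≫ eU'.inv
  have hγs : γ ≫ G.s = φ.fU := by
    rw [hι, ← hμs, Functor.map_comp, hsm]
    simp only [γ, Category.assoc, Iso.hom_inv_id, Category.comp_id]
  have hγt : γ ≫ G.t = T ≫ φ.fU := by
    simp only [T, hι, Category.assoc, Iso.inv_hom_id_assoc]
    rw [← Functor.map_comp_assoc, hμt, Functor.map_comp, htm]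
    simp only [γ, Category.assoc, Iso.hom_inv_id, Category.comp_id]
  have hT : T ≫ G'.pU = G'.pU := by
    rw [← φ.fU_over, ← Category.assoc, ← hγt, Category.assoc, G.t_over, ← G.s_over, ← Category.assoc, hγs]
  let l : G'.U ⟶ pullback G'.pU G'.pU := pullback.lift T (𝟙 _) (by rw [Category.id_comp, hT])
  have hl : γ ≫ G.j = l ≫ φ.prodMap := by
    apply pullback.hom_ext
    · simp only [Category.assoc, GroupoidSp.Hom.prodMap, pullback.lift_fst, GroupoidSp.j_fst]
      rw [hγt, pullback.lift_fst_assoc]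
    · simp only [Category.assoc, GroupoidSp.Hom.prodMap, pullback.lift_snd, GroupoidSp.j_snd]
      rw [hγs, pullback.lift_snd_assoc, Category.id_comp]
  refine ⟨hres.lift γ l hl, fun x => ?_, ?_, ?_⟩
  · rw [hres.lift_fst, ← hp]
    show AlgSp.Points.map (eU'.hom ≫ (AlgSp.yon S).map μ ≫ p.toHom) x = _
    rw [AlgSp.Points.map_comp, AlgSp.Points.map_comp]
    generalize AlgSp.Points.map ((AlgSp.yon S).map μ) (AlgSp.Points.map eU'.hom x) = y
    obtain ⟨t, rfl⟩ := (AlgSp.Points.schemeEquiv p.pt).surjective y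
    exact ((AlgSp.Points.map_ofPt _ _ _).trans (by rw [Category.id_comp])).trans (AlgSp.Points.ofPt_toHom p _)
  · have : hres.lift γ l hl ≫ G'.s = 𝟙 _ := by
      rw [← GroupoidSp.j_snd, ← Category.assoc, hres.lift_snd, pullback.lift_snd]
    rw [this]; infer_instance
  · have : hres.lift γ l hl ≫ G'.t = T := by
      rw [← GroupoidSp.j_fst, ← Category.assoc, hres.lift_snd, pullback.lift_fst]
    rw [this]; infer_instance

end Groth.Agent.S10146
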