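import Groth.Statements.S10160
import Mathlib
import Groth.Agent.LinTopLib.Taut
-- import your own Groth.Agent.* helpers here

set_option autoImplicit false
universe u
open LinTop

namespace Groth.Agent.S10160

/-- A weakly adic topological ring is admissible and has a countable fundamental system of open ideals. -/
theorem result
    (A : Type u) [CommRing A] [UniformSpace A] [IsUniformAddGroup A] [IsTopologicalRing A] (hA : LinTop.IsWeaklyAdic A) :
    LinTop.IsAdmissible A ∧ (nhds (0 : A)).IsCountablyGenerated := by
  obtain ⟨hw, ht, hc⟩ := hA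
  refine ⟨⟨Groth.Agent.LinTopLib.isPreadmissible_of_isWeaklyPreadic hw, ht, hc⟩, ?_⟩
  obtain ⟨-, I, hI, hU⟩ := hw
  refine Filter.HasCountableBasis.isCountablyGenerated
    (s := fun n : ℕ => closure ((I ^ n : Ideal A) : Set A)) (p := fun _ : ℕ => True)
    ⟨⟨fun U => ⟨fun h => (hU U h).imp fun n hn => ⟨trivial, hn⟩, fun ⟨n, _, hn⟩ =>
      Filter.mem_of_superset ((hI n).mem_nhds (subset_closure (I ^ n).zero_mem)) hn⟩⟩, Set.to_countable _⟩

end Groth.Agent.S10160
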