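import Groth.Statements.S10172
import Mathlib
import Groth.Agent.LinTopLib.Completion
-- import your own Groth.Agent.* helpers here

set_option autoImplicit false
universe u v
open LinTop

namespace Groth.Agent.S10172

/-- Let M be a linearly topologized module over a ring R having a countable fundamental system of
neighbourhoods of 0, and N a submodule. With M^ and (M/N)^ the separated completions of M and of M/N
(quotient topology, additive uniform structure), the induced map M^ → (M/N)^ is surjective and open
(so, its kernel being the completion of N, the sequence 0 → N^ → M^ → (M/N)^ → 0 is exact). -/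
theorem result
    {R : Type u} [Ring R] {M : Type v} [AddCommGroup M] [Module R M] [UniformSpace M]
    [IsUniformAddGroup M] [IsLinearTopology R M] (hc : (nhds (0 : M)).IsCountablyGenerated)
    (N : Submodule R M) :
    Function.Surjective (@UniformSpace.Completion.map M _ (M ⧸ N.toAddSubgroup)
        (IsTopologicalAddGroup.rightUniformSpace (M ⧸ N.toAddSubgroup))
        (QuotientAddGroup.mk' N.toAddSubgroup)) ∧
      IsOpenMap (@UniformSpace.Completion.map M _ (M ⧸ N.toAddSubgroup)
        (IsTopologicalAddGroup.rightUniformSpace (M ⧸ N.toAddSubgroup))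
        (QuotientAddGroup.mk' N.toAddSubgroup)) := by
  letI := IsTopologicalAddGroup.rightUniformSpace (M ⧸ N.toAddSubgroup)
  haveI : IsUniformAddGroup (M ⧸ N.toAddSubgroup) := isUniformAddGroup_of_addCommGroup
  have hb : (nhds (0 : M)).HasBasis (fun W : AddSubgroup M => ∃ S : Submodule R M,
      IsOpen (S : Set M) ∧ S.toAddSubgroup = W) fun W => (W : Set M) :=
    (IsLinearTopology.hasBasis_open_submodule R).to_hasBasis
      (fun S hS => ⟨S.toAddSubgroup, ⟨S, hS, rfl⟩, subset_rfl⟩)
      (by rintro W ⟨S, hS, rfl⟩; exact ⟨S, hS, subset_rfl⟩)
  exact Groth.Agent.LinTopLib.map_surjective_and_isOpenMap hb continuous_quot_mk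
    QuotientAddGroup.isOpenMap_coe (QuotientAddGroup.mk'_surjective _)

end Groth.Agent.S10172
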