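import Groth.Statements.S10188
import Groth.Agent.AlgSpLib.ProperCrit

set_option autoImplicit false
universe u
open CategoryTheory CategoryTheory.Limits AlgebraicGeometry Topology TopologicalSpace
open AlgSp

set_option backward.isDefEq.respectTransparency false

namespace Groth.Agent.S10188

/-- Let P be a property of schemes that is local in the etale topology (for every scheme V and every
etale covering family of V, V has P if and only if all members have P), and let X be an algebraic
space over a scheme S. Then X has P etale locally (some surjective etale chart from a scheme with P)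
if and only if every scheme admitting a representable etale map to X has P. -/
theorem result {S : Scheme.{u}} (P : Scheme.{u} → Prop)
    (hP : ∀ (V : Scheme.{u}) (𝒰 : Scheme.Cover.{u} (Scheme.precoverage @Etale) V), P V ↔ ∀ i, P (𝒰.X i))
    (X : AlgSp.Space S) :
    AlgSp.EtaleLocally P X.obj ↔
      ∀ (U : Over S) (a : (AlgSp.yon S).obj U ⟶ X.obj), AlgSp.RepWith @Etale a → P U.left := by
  have hdesc : ∀ {A B : Scheme.{u}} (e : A ⟶ B), Etale e → Surjective e → P A → P B := fun {A B} e he hs hA =>
    (hP B (Scheme.Cover.mkOfCovers PUnit.{u + 1} (fun _ => A) (fun _ => e)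
      (fun x => ⟨PUnit.unit, hs.surj x⟩) (fun _ => he))).2 fun _ => hA
  refine ⟨fun ⟨V, p, hpe, hps, hV⟩ U a ha => ?_, fun h => ?_⟩
  · obtain ⟨W, w₁, w₂, sq⟩ := Groth.Agent.AlgSpLib.exists_pullback X.property.diag p a
    refine hdesc w₂.left (hpe.2 a _ w₂ sq) (hps.2 a _ w₂ sq) ?_
    have he : Etale w₁.left := ha.2 p _ w₁ sq.flip
    -- a member of an etale covering of a scheme with P has P
    let 𝒰 : Scheme.Cover.{u} (Scheme.precoverage @Etale) V.left := Scheme.Cover.mkOfCovers (Option PUnit.{u + 1})
      (fun i => i.elim V.left fun _ => W.left) (fun i => match i with | none => 𝟙 _ | some _ => w₁.left)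
      (fun x => ⟨none, x, rfl⟩) (fun i => match i with | none => (inferInstance : Etale (𝟙 _)) | some _ => he)
    exact (hP V.left 𝒰).1 hV (some PUnit.unit)
  · obtain ⟨U, p, hpe, hps⟩ := X.property.atlas
    exact ⟨U, p, hpe, hps, h U p hpe⟩

end Groth.Agent.S10188
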