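import Groth.Statements.S10197
import Groth.Agent.LqfRep.Main

set_option autoImplicit false
universe u
open CategoryTheory CategoryTheory.Limits AlgebraicGeometry Topology TopologicalSpace
open AlgSp

set_option backward.isDefEq.respectTransparency false

namespace Groth.Agent.S10197

/-- An algebraic space X over a scheme S has a largest open subspace which is a scheme: there is an open
subspace X' ⟶ X whose underlying sheaf is representable by a scheme over S, through which every open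
subspace of X with representable underlying sheaf factors. -/
theorem result {S : Scheme.{u}} (X : AlgSp.Space S) :
    ∃ (X' : AlgSp.Space S) (j : X' ⟶ X), AlgSp.RepWith @IsOpenImmersion j.hom ∧ X'.obj.obj.IsRepresentable ∧
      ∀ (X'' : AlgSp.Space S) (j'' : X'' ⟶ X), AlgSp.RepWith @IsOpenImmersion j''.hom →
        X''.obj.obj.IsRepresentable → ∃ k : X'' ⟶ X', k ≫ j = j'' := by
  obtain ⟨U, p, hpe, hps⟩ := X.property.atlas
  have hopen : ∀ O : U.left.Opens, IsOpen (AlgSp.Points.ofPt p '' (O : Set ↥U.left)) := fun O =>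
    Groth.Agent.AlgSpLib.isOpenMap_ofPt (Groth.Agent.AlgSpLib.repWith_universallyOpen_of_etale hpe) _ O.2
  let ι := {O : U.left.Opens //
    (Groth.Agent.AlgSpLib.subSheaf (AlgSp.Points.ofPt p '' (O : Set ↥U.left))).obj.IsRepresentable}
  let W : Set (AlgSp.Points X.obj) := ⋃ o : ι, AlgSp.Points.ofPt p '' (o.1 : Set ↥U.left)
  have hW : IsOpen W := isOpen_iUnion fun o => hopen o.1
  have hWsp := Groth.Agent.AlgSpLib.isAlgSpace_subSheaf X.property hW
  have hpiece : ∀ o : ι, ∃ (V : Over S) (g : (AlgSp.yon S).obj V ⟶ Groth.Agent.AlgSpLib.subSheaf W),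
      AlgSp.RepWith @IsOpenImmersion g ∧
        Set.range (AlgSp.Points.map (g ≫ Groth.Agent.AlgSpLib.subInc W)) = AlgSp.Points.ofPt p '' (o.1 : Set ↥U.left) := fun o => by
    obtain ⟨V, ⟨hV⟩⟩ := o.2.has_representation
    let φ : (AlgSp.yon S).obj V ≅ Groth.Agent.AlgSpLib.subSheaf (AlgSp.Points.ofPt p '' (o.1 : Set ↥U.left)) :=
      (sheafToPresheaf _ _).preimageIso (NatIso.ofComponents
        (fun T => (Equiv.ulift.trans hV.homEquiv).toIso) fun {T T'} h => by
          ext ⟨a⟩; exact hV.homEquiv_comp h.unop a)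
    obtain ⟨g, hg⟩ := Groth.Agent.AlgSpLib.exists_factor_subInc (W := W)
      (φ.hom ≫ Groth.Agent.AlgSpLib.subInc (AlgSp.Points.ofPt p '' (o.1 : Set ↥U.left))) fun x => by
        rw [AlgSp.Points.map_comp]
        exact Set.mem_iUnion.2 ⟨o, Groth.Agent.AlgSpLib.map_subInc_mem _⟩
    refine ⟨V, g, Groth.Agent.AlgSpLib.repWith_of_comp_mono (m := Groth.Agent.AlgSpLib.subInc W) ?_, ?_⟩
    · rw [hg]
      exact (Groth.Agent.AlgSpLib.repWith_iso_comp_iff _ _).2 (Groth.Agent.AlgSpLib.repWith_subInc (hopen o.1))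
    · rw [hg]
      ext x
      constructor
      · rintro ⟨y, rfl⟩
        rw [AlgSp.Points.map_comp]
        exact Groth.Agent.AlgSpLib.map_subInc_mem _
      · intro hx
        rw [← Groth.Agent.AlgSpLib.range_subInc (AlgSp.Points.ofPt p '' (o.1 : Set ↥U.left))] at hx
        obtain ⟨y, rfl⟩ := hx
        exact ⟨AlgSp.Points.map φ.inv y, by rw [← AlgSp.Points.map_comp, φ.inv_hom_id_assoc]⟩
  choose V g hg hrange using hpiece
  have hmono : ∀ x y : AlgSp.Points (Groth.Agent.AlgSpLib.subSheaf W),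
      AlgSp.Points.map (Groth.Agent.AlgSpLib.subInc W) x = AlgSp.Points.map (Groth.Agent.AlgSpLib.subInc W) y → x = y := by
    intro x y h
    obtain ⟨T, a, t, rfl⟩ := Groth.Agent.AlgSpLib.exists_ofPt x
    obtain ⟨T', a', t', rfl⟩ := Groth.Agent.AlgSpLib.exists_ofPt y
    rw [AlgSp.Points.map_ofPt, AlgSp.Points.map_ofPt] at h
    obtain ⟨K, α, β, k, e, rfl, rfl⟩ := Groth.Agent.AlgSpLib.exists_of_ofPt_eq h
    rw [← Groth.Agent.AlgSpLib.ofPt_comp, ← Groth.Agent.AlgSpLib.ofPt_comp]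
    congr 1
    rw [← cancel_mono (Groth.Agent.AlgSpLib.subInc W), Category.assoc, Category.assoc, e]
  obtain ⟨G, ⟨ψ⟩⟩ := Groth.Agent.AlgSpLib.exists_iso_yon_of_open_cover hWsp V g hg fun x => by
    obtain ⟨o, ho⟩ := Set.mem_iUnion.1 (Groth.Agent.AlgSpLib.map_subInc_mem x)
    rw [← hrange o] at ho
    obtain ⟨y, hy⟩ := ho
    refine ⟨o, y, ?_⟩
    rw [AlgSp.Points.map_comp] at hy
    exact hmono _ _ hy
  refine ⟨⟨Groth.Agent.AlgSpLib.subSheaf W, hWsp⟩, ObjectProperty.homMk (Groth.Agent.AlgSpLib.subInc W),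
    Groth.Agent.AlgSpLib.repWith_subInc hW, Groth.Agent.LqfRep.isRepresentable_of_iso ψ, fun X'' j'' hj'' hrep => ?_⟩
  have : Mono j''.hom := Groth.Agent.AlgSpLib.mono_of_repWith_immersion (Groth.Agent.AlgSpLib.repWith_mono
    (P := @IsOpenImmersion) (Q := @IsImmersion) (fun _ _ r hr => have : IsOpenImmersion r := hr; inferInstance) hj'')
  obtain ⟨hW'', c, hc, hcj⟩ := Groth.Agent.AlgSpLib.exists_iso_subSheaf_of_mono X''.property X.property j''.hom
    (Groth.Agent.AlgSpLib.isEtaleMor_of_repWith' (Groth.Agent.AlgSpLib.repWith_mono (P := @IsOpenImmersion)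
      (Q := @Etale) (fun _ _ r hr => have : IsOpenImmersion r := hr; inferInstance) hj''))
  let O : U.left.Opens := ⟨AlgSp.Points.ofPt p ⁻¹' Set.range (AlgSp.Points.map j''.hom),
    hW''.preimage (AlgSp.Points.continuous_ofPt p)⟩
  have hO : AlgSp.Points.ofPt p '' (O : Set ↥U.left) = Set.range (AlgSp.Points.map j''.hom) :=
    Set.image_preimage_eq (Set.range (AlgSp.Points.map j''.hom)) (Groth.Agent.AlgSpLib.ofPt_surjective hps)
  have hOrep : (Groth.Agent.AlgSpLib.subSheaf (AlgSp.Points.ofPt p '' (O : Set ↥U.left))).obj.IsRepresentable := by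
    rw [hO]
    obtain ⟨V', ⟨hV'⟩⟩ := hrep.has_representation
    exact ⟨V', ⟨hV'.ofIso ((sheafToPresheaf _ _).mapIso (asIso c))⟩⟩
  obtain ⟨k, hk⟩ := Groth.Agent.AlgSpLib.exists_factor_subInc (W := W) j''.hom fun x =>
    Set.mem_iUnion.2 ⟨⟨O, hOrep⟩, hO.symm ▸ ⟨x, rfl⟩⟩
  exact ⟨ObjectProperty.homMk k, ObjectProperty.hom_ext _ hk⟩

end Groth.Agent.S10197
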