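import Groth.Statements.S10198
import Groth.Agent.AlgSpLib.QSChart
import Groth.Agent.AlgSpLib.Zar
import Groth.Agent.AlgSpLib.ProperRange
import Groth.Agent.AlgSpLib.SepAffine
import Groth.Agent.AlgSpLib.DiagFP
import Groth.Agent.SpQS.BiratDense

set_option autoImplicit false
universe u
open CategoryTheory CategoryTheory.Limits AlgebraicGeometry Topology TopologicalSpace
open AlgSp

namespace Groth.Agent.S10198

set_option backward.isDefEq.respectTransparency false

open Groth.Agent.AlgSpLib

variable {S : Scheme.{u}}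

/-- in a quasi-separated space an affine chart inside an affine open of the base is quasi-compact -/
theorem qc_of_qs {X : Sp S} (hX : IsAlgSpace X) (hq : IsQuasiSeparatedSp X) {U : Over S} [IsAffine U.left]
    {W : S.Opens} (hW : IsAffineOpen W) (hU : ∀ u : ↥U.left, U.hom u ∈ W) {p : (yon S).obj U ⟶ X}
    (T : Over S) [IsAffine T.left] (ξ : (yon S).obj T ⟶ X)
    (hs : ∀ t, ∃ u, Points.ofPt p u = Points.ofPt ξ t) :
    ∃ (P : Over S) (a : P ⟶ U) (b : P ⟶ T), IsPullback ((yon S).map a) ((yon S).map b) p ξ ∧ QuasiCompact b.left := by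
  obtain ⟨P, a, b, sq⟩ := exists_pullback hX.diag p ξ
  refine ⟨P, a, b, sq, ?_⟩
  have hT : ∀ t : ↥T.left, T.hom t ∈ W := fun t => by
    obtain ⟨u, hu⟩ := hs t
    obtain ⟨w, rfl, rfl⟩ := (ofPt_eq_iff sq u t).1 hu
    have h1 : T.hom (b.left w) = U.hom (a.left w) := by
      rw [← Scheme.Hom.comp_apply, ← Scheme.Hom.comp_apply, Over.w a, Over.w b]
    rw [h1]
    exact hU _
  have hle1 : U.hom ⁻¹ᵁ W = ⊤ := top_le_iff.1 fun u _ => hU u
  have hle2 : T.hom ⁻¹ᵁ W = ⊤ := top_le_iff.1 fun t _ => hT t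
  let u' : U.left ⟶ W.toScheme := IsOpenImmersion.lift W.ι U.hom (by rintro _ ⟨u, rfl⟩; simpa using hU u)
  let t' : T.left ⟶ W.toScheme := IsOpenImmersion.lift W.ι T.hom (by rintro _ ⟨t, rfl⟩; simpa using hT t)
  have hu' : u' ≫ W.ι = U.hom := IsOpenImmersion.lift_fac _ _ _
  have ht' : t' ≫ W.ι = T.hom := IsOpenImmersion.lift_fac _ _ _
  have : IsAffine W.toScheme := hW
  have hq' : QuasiCompact (prod.lift a b).left := (repWith_yon_iff _).1 (repWith_lift_of_diag hq sq)
  have : CompactSpace ↥(pullback U.hom T.hom) := by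
    let e : pullback u' t' ⟶ pullback U.hom T.hom :=
      pullback.map u' t' U.hom T.hom (𝟙 _) (𝟙 _) W.ι (by simp [hu']) (by simp [ht'])
    let e' : pullback U.hom T.hom ⟶ pullback u' t' :=
      pullback.lift (pullback.fst _ _) (pullback.snd _ _) (by
        rw [← cancel_mono W.ι, Category.assoc, Category.assoc, hu', ht', pullback.condition])
    have he : e' ≫ e = 𝟙 _ := by apply pullback.hom_ext <;> simp [e, e']
    exact Function.Surjective.compactSpace (f := e) e.continuous (fun x => ⟨e' x, by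
      rw [← Scheme.Hom.comp_apply, he]; rfl⟩)
  have : CompactSpace ↥(U ⨯ T).left := (Over.prodLeftIsoPullback U T).inv.homeomorph.compactSpace
  have : CompactSpace ↥P.left := QuasiCompact.compactSpace_of_compactSpace (prod.lift a b).left
  exact QuasiCompact.of_comp b.left (terminal.from T.left)

end Groth.Agent.S10198

namespace Groth.Agent.S10198

/-- (1) if and only if (3): for an algebraic space X over a scheme S, X is Zariski locally
quasi-separated over S (it has a Zariski covering by open subspaces whose diagonals over S are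
quasi-compact) if and only if X has a Zariski covering by open subspaces each of which admits a
quasi-compact, etale, surjective map from an affine scheme. Since the second condition does not
mention S, being Zariski locally quasi-separated does not depend on the base. -/
theorem result {S : Scheme.{u}} (X : AlgSp.Space S) :
    (∃ (ι : Type u) (Xi : ι → AlgSp.Space S) (j : ∀ i, Xi i ⟶ X),
        AlgSp.IsZarCover (fun i => (Xi i).obj) (fun i => (j i).hom) ∧ ∀ i, AlgSp.IsQuasiSeparatedSp (Xi i).obj) ↔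
      (∃ (ι : Type u) (Xi : ι → AlgSp.Space S) (j : ∀ i, Xi i ⟶ X),
        AlgSp.IsZarCover (fun i => (Xi i).obj) (fun i => (j i).hom) ∧
          ∀ i, ∃ (U : Over S) (p : (AlgSp.yon S).obj U ⟶ (Xi i).obj), IsAffine U.left ∧
            AlgSp.RepWith @QuasiCompact p ∧ AlgSp.RepWith @Etale p ∧ AlgSp.RepWith @Surjective p) := by
  constructor
  · rintro ⟨ι, Xi, j, hj, hq⟩
    choose κ Y m hm hY using fun i => Groth.Agent.AlgSpLib.exists_affine_open_subspaces (Xi i).property
    refine ⟨Σ i, κ i, fun r => Y r.1 r.2, fun r => ObjectProperty.homMk (m r.1 r.2) ≫ j r.1,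
      ⟨fun r => Groth.Agent.AlgSpLib.repWith_comp ((hm r.1).1 r.2) (hj.1 r.1), fun x => ?_⟩, fun r => ?_⟩
    · obtain ⟨i, y, rfl⟩ := hj.2 x
      obtain ⟨k, z, rfl⟩ := (hm i).2 y
      exact ⟨⟨i, k⟩, z, AlgSp.Points.map_comp _ _ z⟩
    · obtain ⟨U, p, hU, he, hs, W, hW, hUW⟩ := hY r.1 r.2
      refine ⟨U, p, hU, Groth.Agent.AlgSpLib.repWith_of_exists fun T ξ => ?_, he, hs⟩
      have hmono : Mono (m r.1 r.2) := Groth.Agent.SpQS.mono_of_openImm ((hm r.1).1 r.2)
      obtain ⟨P, a, b, sq⟩ := Groth.Agent.AlgSpLib.exists_pullback (Y r.1 r.2).property.diag p ξ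
      refine ⟨P, _, b, sq, quasiCompact_iff_forall_isAffineOpen.2 fun O hO => ?_⟩
      let o : Over.mk (O.ι ≫ T.hom) ⟶ T := Over.homMk O.ι rfl
      have : IsAffine (Over.mk (O.ι ≫ T.hom)).left := hO
      have sqm : IsPullback ((AlgSp.yon S).map a) ((AlgSp.yon S).map b) (p ≫ m r.1 r.2) (ξ ≫ m r.1 r.2) :=
        Groth.Agent.AlgSpLib.isPullback_of_points (by rw [sq.w_assoc]) fun T' x y e => by
          have e' : x ≫ p = y ≫ ξ := (cancel_mono (m r.1 r.2)).1 (by simpa only [Category.assoc] using e)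
          exact ⟨sq.lift x y e', ⟨sq.lift_fst _ _ _, sq.lift_snd _ _ _⟩, fun z hz => sq.hom_ext
            (by rw [sq.lift_fst, hz.1]) (by rw [sq.lift_snd, hz.2])⟩
      obtain ⟨P', a', b', sq', hb'⟩ := qc_of_qs (Xi r.1).property (hq r.1) hW hUW (p := p ≫ m r.1 r.2)
        (Over.mk (O.ι ≫ T.hom)) ((AlgSp.yon S).map o ≫ ξ ≫ m r.1 r.2) fun t => by
          obtain ⟨u, hu⟩ := Groth.Agent.AlgSpLib.ofPt_surjective hs (AlgSp.Points.ofPt ((AlgSp.yon S).map o ≫ ξ) t)
          exact ⟨u, by rw [← AlgSp.Points.map_ofPt, hu, AlgSp.Points.map_ofPt, Category.assoc]⟩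
      let kk := sqm.lift ((AlgSp.yon S).map a') ((AlgSp.yon S).map (b' ≫ o))
        (by rw [sq'.w, Functor.map_comp, Category.assoc])
      obtain ⟨k, hk⟩ := (AlgSp.yon S).map_surjective kk
      have sqk : IsPullback ((AlgSp.yon S).map k) ((AlgSp.yon S).map b') ((AlgSp.yon S).map b)
          ((AlgSp.yon S).map o) := by
        refine IsPullback.of_right ?_ ?_ sqm
        · rw [hk, sqm.lift_fst]
          exact sq'
        · rw [hk, sqm.lift_snd, Functor.map_comp]
      have : QuasiCompact b'.left := hb'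
      have : CompactSpace ↥P'.left := QuasiCompact.compactSpace_of_compactSpace b'.left
      have e : (b.left ⁻¹ᵁ O : Set ↥P.left) = Set.range k.left := by
        ext x
        constructor
        · intro hx
          obtain ⟨t, ht⟩ : b.left x ∈ Set.range o.left := by simpa [o] using hx
          obtain ⟨w, hw, -⟩ := (Groth.Agent.AlgSpLib.ofPt_eq_iff sqk x t).1 (by
            rw [Groth.Agent.AlgSpLib.ofScheme_map, Groth.Agent.AlgSpLib.ofScheme_map, ht])
          exact ⟨w, hw⟩
        · rintro ⟨w, rfl⟩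
          have h3 : k ≫ b = b' ≫ o := (AlgSp.yon S).map_injective
            (by rw [Functor.map_comp, Functor.map_comp, sqk.w])
          have h2 : (k ≫ b).left = (b' ≫ o).left := congrArg (fun z => z.left) h3
          show b.left (k.left w) ∈ O
          rw [← Scheme.Hom.comp_apply, ← Over.comp_left, h2, Over.comp_left, Scheme.Hom.comp_apply]
          exact (b'.left w).2
      show IsCompact (b.left ⁻¹ᵁ O : Set ↥P.left)
      rw [e]
      exact isCompact_range k.left.continuous
  · rintro ⟨ι, Xi, j, hj, h⟩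
    refine ⟨ι, Xi, j, hj, fun i => ?_⟩
    obtain ⟨U, p, hU, hqc, he, hs⟩ := h i
    obtain ⟨R, t, s, sq⟩ := Groth.Agent.AlgSpLib.exists_pullback (Xi i).property.diag p p
    have : QuasiCompact t.left := (Groth.Agent.AlgSpLib.repWith_yon_iff t).1 (Groth.Agent.AlgSpLib.repWith_baseChange sq.flip hqc)
    exact Groth.Agent.AlgSpLib.isQuasiSeparatedSp_of_chart (Xi i).property he hs sq

end Groth.Agent.S10198
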