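import Groth.Statements.S10199
import Groth.Agent.SpQS.Sober

set_option autoImplicit false
universe u
open CategoryTheory CategoryTheory.Limits AlgebraicGeometry Topology TopologicalSpace
open AlgSp

set_option backward.isDefEq.respectTransparency false

namespace Groth.Agent.S10199

/-- Let X be an algebraic space over a scheme S that is Zariski locally quasi-separated over S (X has a
Zariski covering by open subspaces whose diagonals over S are quasi-compact; for instance X
quasi-separated over S). Then |X| is a sober topological space. (Being Zariski locally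
quasi-separated over S is the same as the absolute notion, so no hypothesis on S is needed.) -/
theorem result {S : Scheme.{u}} (X : AlgSp.Space S)
    (hX : ∃ (ι : Type u) (Xi : ι → AlgSp.Space S) (j : ∀ i, Xi i ⟶ X),
        AlgSp.IsZarCover (fun i => (Xi i).obj) (fun i => (j i).hom) ∧ ∀ i, AlgSp.IsQuasiSeparatedSp (Xi i).obj) :
    QuasiSober (AlgSp.Points X.obj) ∧ T0Space (AlgSp.Points X.obj) := by
  obtain ⟨ι, Xi, j, ⟨hj, hjs⟩, hqs⟩ := hX
  suffices h : ∀ x : AlgSp.Points X.obj, ∃ (U : Over S) (a : (AlgSp.yon S).obj U ⟶ X.obj), IsAffine U.left ∧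
      AlgSp.RepWith @Etale a ∧ SpQS.CompactFibres a ∧ x ∈ Set.range (AlgSp.Points.ofPt a) from
    ⟨SpQS.quasiSober_points X.property h, SpQS.t0Space_points X.property h⟩
  intro x
  obtain ⟨i, y, rfl⟩ := hjs x
  obtain ⟨U, π, κ, O, hπ, hπs, hO, hW, hcov⟩ := AlgSpLib.exists_affine_chart_family (Xi i).property
  obtain ⟨u, rfl⟩ := AlgSpLib.ofPt_surjective hπs y
  obtain ⟨k, hk⟩ := hcov u
  obtain ⟨W, hWa, hle⟩ := hW k
  let Z : Over S := Over.mk ((O k).ι ≫ U.hom)
  let inc : Z ⟶ U := Over.homMk (O k).ι rfl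
  have : IsAffine Z.left := (hO k : IsAffine (O k).toScheme)
  refine ⟨Z, ((AlgSp.yon S).map inc ≫ π) ≫ (j i).hom, this,
    AlgSpLib.repWith_comp (AlgSpLib.repWith_comp ((AlgSpLib.repWith_yon_iff _).2 (show Etale (O k).ι from inferInstance)) hπ)
      (AlgSpLib.repWith_mono (fun {A B} f (hf : IsOpenImmersion f) => (by have := hf; infer_instance : Etale f)) (hj i)),
    SpQS.compactFibres_comp_openImmersion (U := Z) (hqs i) (hj i) _ hWa (fun z => hle ((z : ↥(O k)).2)), ⟨⟨u, hk⟩, ?_⟩⟩
  rw [AlgSp.Points.map_ofPt, Category.assoc, AlgSpLib.ofPt_comp]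
  rfl

end Groth.Agent.S10199
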