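import Groth.Statements.S10200
import Groth.Agent.SpQS.CodimZero
import Groth.Agent.SpQS.DecentMor

set_option autoImplicit false
universe u
open CategoryTheory CategoryTheory.Limits AlgebraicGeometry Topology TopologicalSpace
open AlgSp

set_option backward.isDefEq.respectTransparency false

namespace Groth.Agent.S10200

/-- Let X be an algebraic space over a scheme S that is Zariski locally quasi-separated over S (for
example quasi-separated over S). Then there is a dense open subspace of X which is a scheme; more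
precisely there is an open subspace X' ⟶ X with representable underlying sheaf such that |X'| is
dense in |X| and contains every codimension 0 point of X (every point under which some etale chart
has a zero-dimensional local ring). -/
theorem result {S : Scheme.{u}} (X : AlgSp.Space S)
    (hX : ∃ (ι : Type u) (Xi : ι → AlgSp.Space S) (j : ∀ i, Xi i ⟶ X),
        AlgSp.IsZarCover (fun i => (Xi i).obj) (fun i => (j i).hom) ∧ ∀ i, AlgSp.IsQuasiSeparatedSp (Xi i).obj) :
    ∃ (X' : AlgSp.Space S) (j : X' ⟶ X), AlgSp.RepWith @IsOpenImmersion j.hom ∧ X'.obj.obj.IsRepresentable ∧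
      Dense (Set.range (AlgSp.Points.map j.hom)) ∧
      ∀ x : AlgSp.Points X.obj, AlgSp.HasAt (fun U u => ringKrullDim ↥(U.presheaf.stalk u) = 0) X.obj x →
        x ∈ Set.range (AlgSp.Points.map j.hom) := by
  obtain ⟨ι, Xi, j, hz, hq⟩ := hX
  obtain ⟨h'⟩ : Nonempty (AlgSp.IsAlgSpace X.obj → (∀ i, AlgSp.IsAlgSpace (Xi i).obj) → ∃ (X' : AlgSp.Sp S) (j : X' ⟶ X.obj), AlgSp.IsAlgSpace X' ∧
      AlgSp.RepWith @IsOpenImmersion j ∧ (∃ W : Over S, Nonempty (X' ≅ (AlgSp.yon S).obj W)) ∧
        Dense (Set.range (AlgSp.Points.map j)) ∧ ∀ x : AlgSp.Points X.obj,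
          AlgSp.HasAt (fun U u => ringKrullDim ↥(U.presheaf.stalk u) = 0) X.obj x → x ∈ Set.range (AlgSp.Points.map j)) :=
    ⟨fun hA hXi => by
      have hgi := fun i => SpQS.goodAt_of_qsDiag (hXi i) (hq i)
      have hd := SpQS.isDecent_of_zarCover hA (fun i => (Xi i).obj) (fun i => (j i).hom) hXi hz.1 hz.2
        (fun i => SpQS.isDecent_of_good (hXi i) (hgi i))
      refine SpQS.exists_dense_scheme_of_max hA hd fun x hx => ?_
      obtain ⟨i, y, rfl⟩ := hz.2 x
      obtain ⟨V, b, v, hV, hb, rfl, W, hW, hVW⟩ := SpQS.exists_affine_chart_at (hXi i) y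
      have hy := (SpQS.isMaxPt_map_iff hA (hXi i) hd (j i).hom (AlgSpLib.isEtaleMor_of_repWith'
        (AlgSpLib.repWith_mono (fun {A B} g (hg : IsOpenImmersion g) => (by have := hg; infer_instance : Etale g))
          (hz.1 i))) _).2 hx
      obtain ⟨R, p, q, sq⟩ := AlgSpLib.exists_pullback (hXi i).diag b b
      have := SpQS.compactSpace_relation_of_qs (hq i) hW hVW sq
      obtain ⟨M, f, hf, w, hw⟩ := SpQS.exists_scheme_at_max (hXi i) (hgi i) hb sq
        ((SpQS.isMaxPt_ofPt_iff (hXi i) (hgi i) hb v).1 hy)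
      exact ⟨M, f ≫ (j i).hom, AlgSpLib.repWith_comp hf (hz.1 i), w,
        (AlgSp.Points.map_comp f (j i).hom w).trans (congrArg (AlgSp.Points.map (j i).hom) hw)⟩⟩
  obtain ⟨X', j', hX', hj, ⟨W, ⟨e⟩⟩, hd, hmem⟩ := h' X.property (fun i => (Xi i).property)
  exact ⟨⟨X', hX'⟩, ObjectProperty.homMk j', hj, (AlgSp.representableByOfIso e.symm).isRepresentable, hd, hmem⟩

end Groth.Agent.S10200
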