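import Groth.Statements.S10204
import Groth.Agent.SpQS.CodimZero
import Groth.Agent.SpQS.DecentPoint

set_option autoImplicit false
universe u
open CategoryTheory CategoryTheory.Limits AlgebraicGeometry Topology TopologicalSpace
open AlgSp

set_option backward.isDefEq.respectTransparency false

namespace Groth.Agent.S10204

/-- Let X be an algebraic space over a scheme S that admits a map h_U ⟶ X from a quasi-separated scheme
U which is representable finite, etale and surjective. Then X contains an open subspace X' ⟶ X that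
is a scheme (its underlying sheaf is representable), whose points form a dense subset of |X| that
includes every codimension 0 point of X (every point x of |X| such that some etale chart h_V ⟶ X and
some point v of V over x have a zero-dimensional local ring O_{V,v}). -/
theorem result {S : Scheme.{u}} (X : AlgSp.Space S) {U : Over S}
    (a : (AlgSp.yon S).obj U ⟶ X.obj) (hf : AlgSp.RepWith @IsFinite a) (he : AlgSp.RepWith @Etale a)
    (hs : AlgSp.RepWith @Surjective a) [QuasiSeparatedSpace ↥U.left] :
    ∃ (X' : AlgSp.Space S) (j : X' ⟶ X), AlgSp.RepWith @IsOpenImmersion j.hom ∧ X'.obj.obj.IsRepresentable ∧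
      Dense (Set.range (AlgSp.Points.map j.hom)) ∧
      ∀ x : AlgSp.Points X.obj, AlgSp.HasAt (fun U u => ringKrullDim ↥(U.presheaf.stalk u) = 0) X.obj x →
        x ∈ Set.range (AlgSp.Points.map j.hom) := by
  obtain ⟨h'⟩ : Nonempty (AlgSp.IsAlgSpace X.obj → ∃ (X' : AlgSp.Sp S) (j : X' ⟶ X.obj), AlgSp.IsAlgSpace X' ∧
      AlgSp.RepWith @IsOpenImmersion j ∧ (∃ W : Over S, Nonempty (X' ≅ (AlgSp.yon S).obj W)) ∧
        Dense (Set.range (AlgSp.Points.map j)) ∧ ∀ x : AlgSp.Points X.obj,
          AlgSp.HasAt (fun U u => ringKrullDim ↥(U.presheaf.stalk u) = 0) X.obj x → x ∈ Set.range (AlgSp.Points.map j)) :=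
    ⟨fun hA => by
      have hd := SpQS.isDecent_of_qc_etale_surjective (AlgSp.IsAlgSpace.yon_obj U) hA a
        ((AlgSpLib.isQuasiCompactMor_iff_repWith (AlgSp.IsAlgSpace.yon_obj U) hA hf.1).2
          (AlgSpLib.repWith_mono (fun {A B} g (hg : IsFinite g) => (by have := hg; infer_instance : QuasiCompact g)) hf))
        (AlgSpLib.isSurjectiveMor_of_repWith hs) (SpQS.isDecent_yon U)
      refine SpQS.exists_dense_scheme_of_max hA hd fun x hx => ?_
      obtain ⟨V, b, v, hV, hb, rfl, -⟩ := SpQS.exists_affine_chart_at hA x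
      have hg := SpQS.goodAt_of_isDecent hA hd
      obtain ⟨R, p, q, sq⟩ := AlgSpLib.exists_pullback hA.diag b b
      have := SpQS.compactSpace_relation_of_finite_cover hA hf hs sq
      exact SpQS.exists_scheme_at_max hA hg hb sq ((SpQS.isMaxPt_ofPt_iff hA hg hb v).1 hx)⟩
  obtain ⟨X', j', hX', hj, ⟨W, ⟨e⟩⟩, hd, hmem⟩ := h' X.property
  exact ⟨⟨X', hX'⟩, ObjectProperty.homMk j', hj, (AlgSp.representableByOfIso e.symm).isRepresentable, hd, hmem⟩

end Groth.Agent.S10204
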