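import Groth.Statements.S10206
import Groth.Agent.LqfRep.Main

set_option autoImplicit false
universe u
open CategoryTheory CategoryTheory.Limits AlgebraicGeometry Topology TopologicalSpace
open AlgSp

set_option backward.isDefEq.respectTransparency false

namespace Groth.Agent.S10206

/-- Let X be an algebraic space over a scheme S and X ⟶ h_{Spec k} an etale morphism of algebraic spaces
over S, where k is a field and Spec k is given a structure morphism to S. Then X is a scheme (its
underlying sheaf is representable by a scheme over S). -/
theorem result {S : Scheme.{u}} (X : AlgSp.Space S)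
    (k : Type u) [Field k] (str : Spec (CommRingCat.of k) ⟶ S)
    (f : X.obj ⟶ (AlgSp.yon S).obj (Over.mk str)) (hf : AlgSp.IsEtaleMor f) :
    X.obj.obj.IsRepresentable := by
  have hY := AlgSp.IsAlgSpace.yon_obj (S := S) (Over.mk str)
  obtain ⟨W, ⟨φ⟩⟩ := Groth.Agent.LqfRep.exists_iso_yon_of_lqf_separated X.property f
    (fun _ _ a b h ha hb e => Groth.Agent.AlgSpLib.etST_lqf.of_etale _
      ((Groth.Agent.AlgSpLib.isEtaleMor_iff_locP hY).1 hf a b h ha hb e))
    (Groth.Agent.LqfRep.isSeparatedMor_of_isEtaleMor_field X.property str f hf)
  exact Groth.Agent.LqfRep.isRepresentable_of_iso φ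

end Groth.Agent.S10206
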