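import Groth.Agent.FpqcSheaf.Site
import Groth.Prelude.Def_AlgSp
import Mathlib.AlgebraicGeometry.Sites.Fpqc
import Mathlib.CategoryTheory.Sites.Over

set_option autoImplicit false
universe u
open CategoryTheory CategoryTheory.Limits AlgebraicGeometry Topology TopologicalSpace
open AlgSp

set_option backward.isDefEq.respectTransparency false

namespace Groth.Agent.S10207

/-- An algebraic space X over a scheme S satisfies the sheaf property for the fpqc topology: its
underlying presheaf on schemes over S is a sheaf for the fpqc topology (restricted from schemes to
schemes over S). -/
theorem result {S : Scheme.{u}} (X : AlgSp.Space S) :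
    Presheaf.IsSheaf (Scheme.fpqcTopology.over S) X.obj.obj := by
  exact FpqcSheaf.isSheaf_fpqc X.property

end Groth.Agent.S10207
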