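import Groth.Statements.S10211
import Groth.Agent.AlgSpLib.Points

set_option autoImplicit false
universe u
open CategoryTheory CategoryTheory.Limits AlgebraicGeometry Topology TopologicalSpace
open AlgSp

set_option backward.isDefEq.respectTransparency false

namespace Groth.Agent.S10211

/-- If f : X ⟶ Y is an etale morphism of algebraic spaces over a scheme S, then the induced map of
topological spaces |X| → |Y| is open. -/
theorem result {S : Scheme.{u}} {X Y : AlgSp.Space S} (f : X ⟶ Y)
    (hf : AlgSp.IsEtaleMor f.hom) :
    IsOpenMap (AlgSp.Points.map f.hom) := by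
  intro W hW
  obtain ⟨U, p, hpe, hps⟩ := X.property.atlas
  have h1 := Groth.Agent.AlgSpLib.isOpenMap_ofPt (Groth.Agent.AlgSpLib.repWith_universallyOpen_of_etale (hf p hpe)) _
    (hW.preimage (AlgSp.Points.continuous_ofPt p))
  convert h1 using 1
  rw [show AlgSp.Points.ofPt (p ≫ f.hom) = AlgSp.Points.map f.hom ∘ AlgSp.Points.ofPt p from
    (funext fun t => (AlgSp.Points.map_ofPt p f.hom t).symm), Set.image_comp,
    Set.image_preimage_eq W (Groth.Agent.AlgSpLib.ofPt_surjective hps)]

end Groth.Agent.S10211
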