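import Groth.Statements.S10229
import Groth.Agent.EtPointGeom.Main

set_option autoImplicit false
universe u
open CategoryTheory CategoryTheory.Limits AlgebraicGeometry Topology TopologicalSpace
open AlgSp

set_option backward.isDefEq.respectTransparency false

namespace Groth.Agent.S10229

/-- Let X be an algebraic space over a scheme S and let P be a point of the small etale topos of X,
given as a point of the site X_etale (a fibre functor). Then there is a geometric point x̄ of X such
that the stalk functor of P on sheaves of sets is isomorphic to the stalk functor F ↦ F_x̄. -/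
theorem result {S : Scheme.{u}} (X : AlgSp.Space S)
    (P : GrothendieckTopology.Point.{u} (AlgSp.etTop X.obj)) :
    ∃ p : AlgSp.FieldPt X.obj, p.IsGeometric ∧
      Nonempty (P.sheafFiber (A := Type (u + 1)) ≅ AlgSp.stalkEtFunctor (Type (u + 1)) p) := by
  obtain ⟨⟨E₀, u₀⟩⟩ := (IsCofiltered.nonempty : Nonempty P.fiber.Elements)
  obtain ⟨Ω, _, hΩ, ξ, ⟨ι⟩⟩ :=
    Groth.Agent.EtPointGeom.exists_geometric_algClosed (Groth.Agent.EtPointChart.chartPoint E₀ P u₀)
  obtain ⟨θ⟩ := Groth.Agent.EtPointChart.nonempty_fiber_iso E₀ P u₀ ξ ι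
  have hp : (Groth.Agent.EtPointChart.fieldPt E₀ ξ).IsGeometric := hΩ
  let Q := Groth.Agent.AlgSpLib.StalkPoint.point X.property _ hp
  let e : P ≅ Q :=
    { hom := ⟨θ.inv⟩
      inv := ⟨θ.hom⟩
      hom_inv_id := GrothendieckTopology.Point.hom_ext θ.hom_inv_id
      inv_hom_id := GrothendieckTopology.Point.hom_ext θ.inv_hom_id }
  exact ⟨_, hp, ⟨Groth.Agent.EtPointChart.sheafFiberIso e ≪≫ Iso.refl _⟩⟩

end Groth.Agent.S10229
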