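import Groth.Statements.S10236
import Groth.Agent.Grpd.SheafQuot

set_option autoImplicit false
universe u
open CategoryTheory CategoryTheory.Limits AlgebraicGeometry Topology TopologicalSpace
open AlgSp

namespace Groth.Agent.S10236

open Groth.Agent.GrpdLib

/-- Let (U, R, s, t, c) be a groupoid scheme over a scheme S with s, t finite locally free and j = (t,
s) an equivalence relation, such that in each nonempty closed subset of U some point has its whole
equivalence class inside an affine open of U; let U ⟶ M be a finite locally free morphism over S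
with R = U ×_M U (the square with t, s cartesian) such that h_M is the quotient of h_U by h_R ⇉ h_U
in fppf sheaves. Then (1) if U ⟶ S is quasi-separated so is M ⟶ S; (2) if U is quasi-separated so is
M; (3) if U ⟶ S is separated so is M ⟶ S; (4) if U is separated so is M. -/
theorem result {S : Scheme.{u}} (G : Grpd.GroupoidScheme S)
    (hs : Mor2.IsFinLocFree G.s) (ht : Mor2.IsFinLocFree G.t)
    (heq : AlgSp.IsEqvRel (Over.homMk G.s G.s_over : Over.mk G.pR ⟶ Over.mk G.pU) (Over.homMk G.t G.t_over : Over.mk G.pR ⟶ Over.mk G.pU))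
    (h3 : ∀ Z : Set ↥G.U, IsClosed Z → Z.Nonempty →
      ∃ u ∈ Z, ∃ W : G.U.Opens, IsAffineOpen W ∧ ∀ r : ↥G.R, G.s r = u → G.t r ∈ W)
    (M : Over S) (m : Over.mk G.pU ⟶ M) (hm : Mor2.IsFinLocFree m.left) (hR : IsPullback G.t G.s m.left m.left)
    (hq : QuotSh.IsQuotient Scheme.fppfPrecoverage (Over.homMk G.s G.s_over : Over.mk G.pR ⟶ Over.mk G.pU) (Over.homMk G.t G.t_over : Over.mk G.pR ⟶ Over.mk G.pU) m) :
    (QuasiSeparated G.pU → QuasiSeparated M.hom) ∧ (QuasiSeparatedSpace ↥G.U → QuasiSeparatedSpace ↥M.left) ∧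
      (IsSeparated G.pU → IsSeparated M.hom) ∧ (G.U.IsSeparated → M.left.IsSeparated) := by
  obtain ⟨_, _, _⟩ := hs
  obtain ⟨_, _, _⟩ := hm
  have : Mono G.j := mono_j_of_injective G heq.injective
  have : Surjective m.left :=
    (Groth.Agent.QuotShLib.fppf_of_isQuotient_surjective hq)
  obtain ⟨h₁, h₂⟩ := separation_of_quotient G m hR
  have hR' : IsPullback G.t G.s m.left m.left := hR
  let G0 : Grpd.GroupoidScheme (⊤_ Scheme.{u}) :=
    { G with
      pU := terminal.from _
      pR := terminal.from _
      s_over := Subsingleton.elim _ _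
      t_over := Subsingleton.elim _ _ }
  have : Mono G0.j := by
    refine ⟨fun {T} a b h => (cancel_mono G.j).1 ?_⟩
    have e₁ : G0.j ≫ pullback.fst _ _ = G.t := pullback.lift_fst _ _ _
    have e₂ : G0.j ≫ pullback.snd _ _ = G.s := pullback.lift_snd _ _ _
    have f₁ : G.j ≫ pullback.fst _ _ = G.t := pullback.lift_fst _ _ _
    have f₂ : G.j ≫ pullback.snd _ _ = G.s := pullback.lift_snd _ _ _
    apply pullback.hom_ext
    · rw [Category.assoc, Category.assoc, f₁, ← e₁, ← Category.assoc, ← Category.assoc]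
      exact congrArg (· ≫ _) h
    · rw [Category.assoc, Category.assoc, f₂, ← e₂, ← Category.assoc, ← Category.assoc]
      exact congrArg (· ≫ _) h
  have : IsFinite G0.s := ‹IsFinite G.s›
  let M0 : Over (⊤_ Scheme.{u}) := Over.mk (terminal.from M.left)
  let m0 : (Over.mk G0.pU : Over (⊤_ Scheme.{u})) ⟶ M0 :=
    Over.homMk m.left (Subsingleton.elim _ _)
  have : IsFinite m0.left := ‹IsFinite m.left›
  have : Flat m0.left := ‹Flat m.left›
  have : LocallyOfFinitePresentation m0.left := ‹LocallyOfFinitePresentation m.left›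
  have : Surjective m0.left := ‹Surjective m.left›
  obtain ⟨k₁, k₂⟩ := separation_of_quotient G0 m0 hR'
  refine ⟨h₂, fun h => ?_, h₁, fun h => ?_⟩
  · rw [quasiSeparatedSpace_iff_quasiSeparated] at h ⊢
    exact k₂ h
  · rw [Scheme.isSeparated_iff] at h ⊢
    exact k₁ h

end Groth.Agent.S10236
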