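import Groth.Statements.S10239
import Groth.Agent.AlgSpLib.StalkChart
import Groth.Agent.BranchSup.Main
-- import your own Groth.Agent.* helpers here

set_option autoImplicit false
universe u
open CategoryTheory CategoryTheory.Limits AlgebraicGeometry Topology TopologicalSpace
open AlgSp

namespace Groth.Agent.S10239

open Groth.Agent.AlgSpLib IsLocalRing

variable {S : Scheme.{u}} {X : AlgSp.Sp S}

lemma encard_minimalPrimes_equiv {A : Type*} {B : Type*} [CommRing A] [CommRing B] (e : A ≃+* B)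
    {n : ℕ∞} : (minimalPrimes A).encard = n ↔ (minimalPrimes B).encard = n := by
  have hmap : (fun P : Ideal A => P.comap e.symm.toRingHom) '' minimalPrimes A = minimalPrimes B := by
    refine subset_antisymm (Set.image_subset_iff.2 fun P hP =>
      StalkPoint.comap_mem_minimalPrimes_of_equiv e.symm P hP) fun Q hQ => ?_
    refine ⟨Q.comap e.toRingHom, StalkPoint.comap_mem_minimalPrimes_of_equiv e Q hQ, ?_⟩
    show (Q.comap e.toRingHom).comap e.symm.toRingHom = Q
    rw [Ideal.comap_comap]; ext x; simp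
  rw [← hmap, Set.InjOn.encard_image]
  exact (Ideal.comap_injective_of_surjective e.symm.toRingHom e.symm.surjective).injOn

/-- branches of a chart = minimal primes of the etale local ring -/
lemma branches_eq (hX : AlgSp.IsAlgSpace X) {p : AlgSp.FieldPt X} (hp : p.IsGeometric) {U : Over S}
    {a : (AlgSp.yon S).obj U ⟶ X} (ha : AlgSp.RepWith @Etale a) (u : ↥U.left)
    (hu : AlgSp.Points.ofPt a u = AlgSp.Points.mk p) :
    Brnch.numGeomBranchesAt U.left u = (minimalPrimes ↥(AlgSp.OEtStalk p)).encard := by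
  obtain ⟨T, _, _, _, _, ⟨e⟩, hH⟩ := StalkPoint.exists_strict_of_chart hX hp ha u hu
  have := hH
  rw [(encard_minimalPrimes_equiv e).2 rfl]
  exact (Groth.Agent.Hensel.card_minimalPrimes_strictHenselization (A := U.left.presheaf.stalk u) (S := T)).symm

lemma branches_indep (hX : AlgSp.IsAlgSpace X) {U U' : Over S} {a : (AlgSp.yon S).obj U ⟶ X}
    {a' : (AlgSp.yon S).obj U' ⟶ X} (ha : AlgSp.RepWith @Etale a) (ha' : AlgSp.RepWith @Etale a')
    {u : ↥U.left} {u' : ↥U'.left} (h : AlgSp.Points.ofPt a u = AlgSp.Points.ofPt a' u') :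
    Brnch.numGeomBranchesAt U.left u = Brnch.numGeomBranchesAt U'.left u' := by
  obtain ⟨q, hq, hqx⟩ := StalkPoint.exists_geometric_over a ha u
  rw [branches_eq hX hq ha u hqx.symm, branches_eq hX hq ha' u' (h.symm.trans hqx.symm)]

lemma branches_eq_iSup {U : Scheme.{u}} (u : U) :
    Brnch.numGeomBranchesAt U u = ⨆ (W : Scheme.{u}) (g : W ⟶ U) (w : W) (_ : Etale g ∧ g w = u),
      (minimalPrimes (W.presheaf.stalk w)).encard := by
  rw [BranchSup.numGeomBranches_bot, BranchSup.geom_eq_iSup (fun _ => ⊥) u]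
  simp only [Ideal.map_bot]

lemma minimal_le (hX : AlgSp.IsAlgSpace X) {U : Over S} {a : (AlgSp.yon S).obj U ⟶ X}
    (ha : AlgSp.RepWith @Etale a) (u : ↥U.left) :
    (minimalPrimes (U.left.presheaf.stalk u)).encard ≤ Brnch.numGeomBranchesAt U.left u := by
  rw [branches_eq_iSup]
  exact le_iSup_of_le U.left (le_iSup_of_le (𝟙 _) (le_iSup_of_le u (le_iSup_of_le ⟨inferInstance, rfl⟩ le_rfl)))

lemma exists_minimal (hX : AlgSp.IsAlgSpace X) {U : Over S} {a : (AlgSp.yon S).obj U ⟶ X}
    (ha : AlgSp.RepWith @Etale a) (u : ↥U.left) {m : ℕ∞} (hm : m < Brnch.numGeomBranchesAt U.left u) :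
    ∃ (W : Over S) (c : (AlgSp.yon S).obj W ⟶ X) (w : ↥W.left), AlgSp.RepWith @Etale c ∧
      AlgSp.Points.ofPt c w = AlgSp.Points.ofPt a u ∧ m < (minimalPrimes (W.left.presheaf.stalk w)).encard := by
  rw [branches_eq_iSup] at hm
  simp only [lt_iSup_iff] at hm
  obtain ⟨W, g, w, ⟨hg, hw⟩, hlt⟩ := hm
  let W' : Over S := Over.mk (g ≫ U.hom)
  let j : W' ⟶ U := Over.homMk g rfl
  refine ⟨W', (AlgSp.yon S).map j ≫ a, w, repWith_comp ((repWith_yon_iff j).2 hg) ha, ?_, hlt⟩
  rw [ofPt_comp]
  exact congrArg (AlgSp.Points.ofPt a) hw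

end Groth.Agent.S10239

namespace Groth.Agent.S10239

/-- (1) ⇔ (4) ⇔ (5): let X be an algebraic space over a scheme S, x ∈ |X| and n ≥ 1 an integer. The
following are equivalent: (1) for every scheme U, etale h_U ⟶ X and u ∈ U over x the local ring of U
at u has at most n minimal primes, and for some such (U, u) exactly n; (4) for every such (U, u) the
number of geometric branches of U at u is n; (5) for every geometric point x̄ over x the etale local
ring of X at x̄ has exactly n minimal primes. -/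
theorem result {S : Scheme.{u}} (X : AlgSp.Space S) (x : AlgSp.Points X.obj)
    (n : ℕ) (hn : 1 ≤ n) :
    (((∀ (U : Over S) (a : (AlgSp.yon S).obj U ⟶ X.obj) (u : ↥U.left),
        AlgSp.RepWith @Etale a → AlgSp.Points.ofPt a u = x → (minimalPrimes ↥(U.left.presheaf.stalk u)).encard ≤ n) ∧
        AlgSp.HasAt (fun U u => (minimalPrimes ↥(U.presheaf.stalk u)).encard = n) X.obj x) ↔
      (∀ (U : Over S) (a : (AlgSp.yon S).obj U ⟶ X.obj) (u : ↥U.left),
        AlgSp.RepWith @Etale a → AlgSp.Points.ofPt a u = x → Brnch.numGeomBranchesAt U.left u = n)) ∧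
    ((∀ (U : Over S) (a : (AlgSp.yon S).obj U ⟶ X.obj) (u : ↥U.left),
        AlgSp.RepWith @Etale a → AlgSp.Points.ofPt a u = x → Brnch.numGeomBranchesAt U.left u = n) ↔
      ∀ p : AlgSp.FieldPt X.obj, p.IsGeometric → AlgSp.Points.mk p = x →
        (minimalPrimes ↥(AlgSp.OEtStalk p)).encard = n) := by
  refine ⟨⟨fun h U a u ha hu => ?_, fun h => ⟨fun U a u ha hu => ?_, ?_⟩⟩, fun h p hp hpx => ?_, fun h U a u ha hu => ?_⟩
  · obtain ⟨h1, U₀, a₀, u₀, ha₀, hu₀, h0⟩ := h
    refine le_antisymm ?_ ?_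
    · by_contra hlt
      obtain ⟨W, c, w, hc, hw, hlt'⟩ := exists_minimal X.property ha u (not_le.1 hlt)
      exact absurd (h1 W c w hc (hw.trans hu)) (not_le.2 hlt')
    · rw [branches_indep X.property ha ha₀ (hu.trans hu₀.symm)]
      exact h0.symm.le.trans (minimal_le X.property ha₀ u₀)
  · exact (minimal_le X.property ha u).trans (h U a u ha hu).le
  · obtain ⟨U, a, u, ha, hu⟩ := Groth.Agent.AlgSpLib.StalkPoint.exists_chart_at X.property x
    have hlt : ((n - 1 : ℕ) : ℕ∞) < Brnch.numGeomBranchesAt U.left u := by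
      rw [h U a u ha hu]; exact_mod_cast (by omega : n - 1 < n)
    obtain ⟨W, c, w, hc, hw, hlt'⟩ := exists_minimal X.property ha u hlt
    refine ⟨W, c, w, hc, hw.trans hu, le_antisymm ((minimal_le X.property hc w).trans (h W c w hc (hw.trans hu)).le) ?_⟩
    have h2 := Order.add_one_le_of_lt hlt'
    have h3 : ((n - 1 : ℕ) : ℕ∞) + 1 = n := by exact_mod_cast Nat.sub_add_cancel hn
    rwa [h3] at h2
  · obtain ⟨U, a, u, ha, hu⟩ := Groth.Agent.AlgSpLib.StalkPoint.exists_chart_at X.property x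
    rw [← branches_eq X.property hp ha u (hu.trans hpx.symm)]
    exact h U a u ha hu
  · obtain ⟨q, hq, hqx⟩ := Groth.Agent.AlgSpLib.StalkPoint.exists_geometric_over a ha u
    rw [branches_eq X.property hq ha u hqx.symm]
    exact h q hq (hqx.trans hu)

end Groth.Agent.S10239
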