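import Groth.Statements.S10245
import Groth.Agent.GrpAct.Groupoid
import Groth.Agent.Grpd.SheafQuot

set_option autoImplicit false
universe u
open CategoryTheory CategoryTheory.Limits MonoidalCategory CartesianMonoidalCategory MonObj AlgebraicGeometry Topology TopologicalSpace
open AlgSp

namespace Groth.Agent.S10245

/-- Let G ⟶ S be a finite locally free group scheme over a scheme S acting on a scheme X over S by a : G
×_S X ⟶ X, freely on T-valued points for every S-scheme T. Assume one of the following: the
structure morphism X ⟶ S is affine; X admits an open immersion into some affine scheme; G ⟶ S is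
radicial (universally injective). Then the fppf quotient sheaf X/G is a scheme M: there is q : X ⟶ M
over S exhibiting h_M as the quotient of h_X by the projection and the action G ×_S X ⇉ X in fppf
sheaves; moreover the square formed by the action, the projection and q is cartesian (G ×_S X ≅ X
×_M X) and X ⟶ M has sections fppf locally on M, so that X ⟶ X/G is an fppf G-torsor. (The published
statement also allows X ⟶ S quasi-affine, projective or quasi-projective, or X an open subscheme of
Proj of a graded ring; those cases are not covered by this row.) -/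
theorem result {S : Scheme.{u}} (G X : Over S) [GrpObj G]
    (a : AlgGrp.Action G X) (hG : Mor2.IsFinLocFree G.hom)
    (hfree : ∀ (T : Over S) (g : T ⟶ G) (x : T ⟶ X), lift g x ≫ a.act = x → g = toUnit T ≫ η[G])
    (h3 : IsAffineHom X.hom ∨ (∃ (R : CommRingCat.{u}) (i : X.left ⟶ Spec R), IsOpenImmersion i) ∨
      UniversallyInjective G.hom) :
    ∃ (M : Over S) (q : X ⟶ M), QuotSh.IsQuotient Scheme.fppfPrecoverage (snd G X) a.act q ∧
      IsPullback a.act.left (snd G X).left q.left q.left ∧
      NonAbH1.IsLocallyTrivialFor Scheme.fppfPrecoverage (Over.mk q.left) := by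
  obtain ⟨_, _, _⟩ := hG
  let Gr := Groth.Agent.GrpAct.groupoid a
  have : Mono Gr.j := by
    have hm := (Groth.Agent.GrpAct.mono_graph_iff a).mp hfree
    exact inferInstanceAs (Mono ((Over.forget S).map (lift a.act (snd G X))))
  have hs : Gr.s = pullback.snd G.hom X.hom := rfl
  have : IsFinite Gr.s := by rw [hs]; exact MorphismProperty.pullback_snd (P := @IsFinite) _ _ ‹_›
  have : Flat Gr.s := by rw [hs]; exact MorphismProperty.pullback_snd (P := @Flat) _ _ ‹_›
  have : LocallyOfFinitePresentation Gr.s := by
    rw [hs]; exact MorphismProperty.pullback_snd (P := @LocallyOfFinitePresentation) _ _ ‹_›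
  have hbase : ∀ r : Gr.R, X.hom (Gr.t r) = X.hom (Gr.s r) := fun r ↦ by
    change (Gr.t ≫ Gr.pU) r = (Gr.s ≫ Gr.pU) r
    rw [Gr.t_over.trans Gr.s_over.symm]
  have hO : Groth.Agent.GrpdLib.OrbitsAffine Gr := by
    intro x
    rcases h3 with h | ⟨R, i, hi⟩ | h
    · obtain ⟨W, hW, hxW, -⟩ := exists_isAffineOpen_mem_and_subset (U := ⊤) (x := X.hom x) trivial
      refine ⟨X.hom ⁻¹ᵁ W, hW.preimage X.hom, ?_⟩
      rintro _ ⟨r, hr, rfl⟩
      change X.hom (Gr.t r) ∈ W
      rw [hbase, show Gr.s r = x from hr]
      exact hxW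
    · have hfin : (Groth.Agent.GrpdLib.orbit Gr x).Finite :=
        (Gr.s.finite_preimage_singleton x).image _
      obtain ⟨f, hf, hE⟩ := Groth.Agent.GrpdLib.exists_basicOpen_of_finite
        i.opensRange (hfin.image i) (by rintro _ ⟨y, -, rfl⟩; exact ⟨y, rfl⟩)
      refine ⟨i ⁻¹ᵁ (Spec R).basicOpen f,
        ((isAffineOpen_top (Spec R)).basicOpen f).preimage_of_isOpenImmersion i hf, fun y hy ↦ hE ⟨y, hy, rfl⟩⟩
    · obtain ⟨W, hW, hxW, -⟩ := exists_isAffineOpen_mem_and_subset (U := ⊤) (x := x) trivial
      refine ⟨W, hW, ?_⟩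
      rintro _ ⟨r, hr, rfl⟩
      have : UniversallyInjective Gr.s := by
        rw [hs]; exact MorphismProperty.pullback_snd (P := @UniversallyInjective) _ _ h
      have he : r = Gr.e x := Gr.s.injective (hr.trans (by rw [← Scheme.Hom.comp_apply, Gr.e_s]; rfl))
      rw [he, SetLike.mem_coe, ← Scheme.Hom.comp_apply, Gr.e_t]
      exact hxW
  obtain ⟨M, m, ⟨_, _, _⟩, hpb, hq⟩ := Groth.Agent.GrpdLib.exists_quotient_fppf hO
  let q : X ⟶ M := Over.homMk m.left (Over.w m)
  have hsurj : Surjective m.left :=
    (Groth.Agent.QuotShLib.fppf_of_isQuotient_surjective hq)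
  refine ⟨M, q, hq, hpb, _, m.left.singleton_mem_fppfPrecoverage, fun S' f hf ↦ ?_⟩
  cases hf
  exact ⟨𝟙 _, Category.id_comp _⟩

end Groth.Agent.S10245
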