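import Groth.Statements.S10249
import Groth.Agent.SpRelDim.LocalDim
import Groth.Agent.AlgSpLib.StalkChart
-- import your own Groth.Agent.* helpers here

set_option autoImplicit false
universe u
open CategoryTheory CategoryTheory.Limits AlgebraicGeometry Topology TopologicalSpace
open AlgSp

namespace Groth.Agent.S10249

/-- Let X and Y be algebraic spaces over a scheme S, f : X ⟶ Y an etale morphism and x ∈ |X| with image
y ∈ |Y|. Then (1) X at x and Y at y have the same dimension: for every d, some etale chart h_U ⟶ X
from a scheme U and some point u of U over x have local dimension d (of the topological space U at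
u) if and only if the same holds for Y at y; and (2) the local rings of X at x and of Y at y have
the same Krull dimension, in the same some-chart sense with the Krull dimension of the local ring of
U at u. -/
theorem result {S : Scheme.{u}} {X Y : AlgSp.Space S} (f : X ⟶ Y)
    (hf : AlgSp.IsEtaleMor f.hom) (x : AlgSp.Points X.obj) :
    (∀ d : WithBot ℕ∞,
        AlgSp.HasAt (fun U u => FlatMor.localDim ↥U u = d) X.obj x ↔
          AlgSp.HasAt (fun U u => FlatMor.localDim ↥U u = d) Y.obj (AlgSp.Points.map f.hom x)) ∧
    (∀ d : WithBot ℕ∞,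
        AlgSp.HasAt (fun U u => ringKrullDim ↥(U.presheaf.stalk u) = d) X.obj x ↔
          AlgSp.HasAt (fun U u => ringKrullDim ↥(U.presheaf.stalk u) = d) Y.obj (AlgSp.Points.map f.hom x)) := by
  obtain ⟨U, a, u, ha, hu⟩ := Groth.Agent.AlgSpLib.StalkPoint.exists_chart_at X.property x
  have hb : AlgSp.RepWith @Etale (a ≫ f.hom) := hf a ha
  have hy : AlgSp.Points.ofPt (a ≫ f.hom) u = AlgSp.Points.map f.hom x := by rw [← hu]; rfl
  refine ⟨fun d => ?_, fun d => ?_⟩
  · exact (Groth.Agent.SpRelDim.hasAt_localDim_iff X.property (fun e => e = d) ha hu).trans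
      (Groth.Agent.SpRelDim.hasAt_localDim_iff Y.property (fun e => e = d) hb hy).symm
  · refine ⟨fun h => ⟨U, a ≫ f.hom, u, hb, hy, ?_⟩, fun h => ⟨U, a, u, ha, hu, ?_⟩⟩
    · exact (Groth.Agent.AlgSpLib.StalkPoint.hasAt_dim_iff_forall X.property x d).1 h U a u ha hu
    · exact (Groth.Agent.AlgSpLib.StalkPoint.hasAt_dim_iff_forall Y.property _ d).1 h U _ u hb hy

end Groth.Agent.S10249
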