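import Groth.Statements.S10264
import Groth.Agent.AlgSpLib.LocPMore

set_option autoImplicit false
universe u
open CategoryTheory CategoryTheory.Limits AlgebraicGeometry
open AlgSp

set_option backward.isDefEq.respectTransparency false

namespace Groth.Agent.S10264

/-- An immersion of algebraic spaces is unramified. -/
theorem result {S : Scheme.{u}} {X Y : AlgSp.Space S} (i : X ⟶ Y)
    (hi : AlgSp.RepWith @IsImmersion i.hom) :
    AlgSp.LocP (@LocallyOfFiniteType ⊓ @FormallyUnramified) i.hom := by
  exact (AlgSpLib.locP_iff_repWith AlgSpLib.etST_unramified Y.property hi.1).2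
    (AlgSpLib.repWith_mono (fun _ _ g hg => have : IsImmersion g := hg; AlgSpLib.lft_unram_of_immersion g) hi)

end Groth.Agent.S10264
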