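import Groth.Statements.S10268
import Groth.Agent.AlgSpLib.ProperCrit

set_option autoImplicit false
universe u
open CategoryTheory CategoryTheory.Limits AlgebraicGeometry
open AlgSp

set_option backward.isDefEq.respectTransparency false

namespace Groth.Agent.S10268

/-- (3) ⇒ (2): integrality and finiteness of a morphism of algebraic spaces descend along a surjective
etale base change from a scheme. -/
theorem result {S : Scheme.{u}} {X Y : AlgSp.Space S} (f : X ⟶ Y) (V : Over S)
    (p : (AlgSp.yon S).obj V ⟶ Y.obj) (hp : AlgSp.RepWith @Etale p) (hps : AlgSp.RepWith @Surjective p)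
    {P : AlgSp.Sp S} (fst : P ⟶ X.obj) (snd : P ⟶ (AlgSp.yon S).obj V) (sq : IsPullback fst snd f.hom p) :
    (AlgSp.IsIntegralMor snd → AlgSp.IsIntegralMor f.hom) ∧ (AlgSp.IsFiniteMor snd → AlgSp.IsFiniteMor f.hom) := by
  simp only [Groth.Agent.AlgSpLib.isIntegralMor_iff_repWith, Groth.Agent.AlgSpLib.isFiniteMor_iff_repWith]
  exact ⟨Groth.Agent.AlgSpLib.of_chart (Groth.Agent.AlgSpLib.isLocalOnBase_repWith @IsIntegralHom fun _ _ r hr => by
      have : IsIntegralHom r := hr
      exact Groth.Agent.AlgSpLib.indQA_of_isAffineHom r) X.property Y.property f.hom hp hps sq,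
    Groth.Agent.AlgSpLib.of_chart (Groth.Agent.AlgSpLib.isLocalOnBase_repWith @IsFinite fun _ _ r hr => by
      have : IsFinite r := hr
      exact Groth.Agent.AlgSpLib.indQA_of_isAffineHom r) X.property Y.property f.hom hp hps sq⟩

end Groth.Agent.S10268
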