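import Groth.Statements.S10269
import Groth.Agent.AlgSpLib.Graph

set_option autoImplicit false
universe u
open CategoryTheory CategoryTheory.Limits AlgebraicGeometry
open AlgSp

set_option backward.isDefEq.respectTransparency false

namespace Groth.Agent.S10269

/-- A finite morphism of algebraic spaces is integral; an integral morphism locally of finite type is
finite. -/
theorem result {S : Scheme.{u}} {X Y : AlgSp.Space S} (f : X ⟶ Y) :
    (AlgSp.IsFiniteMor f.hom → AlgSp.IsIntegralMor f.hom) ∧
    (AlgSp.IsIntegralMor f.hom → AlgSp.LocP @LocallyOfFiniteType f.hom → AlgSp.IsFiniteMor f.hom) := by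
  simp only [Groth.Agent.AlgSpLib.isFiniteMor_iff_repWith, Groth.Agent.AlgSpLib.isIntegralMor_iff_repWith]
  refine ⟨Groth.Agent.AlgSpLib.repWith_mono (fun _ _ r hr => by
      have : IsFinite r := hr
      exact (inferInstance : IsIntegralHom r)), fun h hl => ?_⟩
  rw [Groth.Agent.AlgSpLib.locP_iff_repWith Groth.Agent.AlgSpLib.etST_lft Y.property h.1] at hl
  rw [Groth.Agent.AlgSpLib.repWith_and (P := @IsFinite) (Q := @IsIntegralHom) (R := @LocallyOfFiniteType) fun _ _ r => by
    rw [IsFinite.iff_isIntegralHom_and_locallyOfFiniteType]]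
  exact ⟨h, hl⟩

end Groth.Agent.S10269
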