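import Groth.Statements.S10272
import Groth.Agent.AlgSpLib.Graph

set_option autoImplicit false
universe u
open CategoryTheory CategoryTheory.Limits AlgebraicGeometry
open AlgSp

set_option backward.isDefEq.respectTransparency false

namespace Groth.Agent.S10272

/-- If g is separated and the composite of f and g is finite (resp. integral) then f is finite (resp.
integral). -/
theorem result {S : Scheme.{u}} {X Y Z : AlgSp.Space S} (f : X ⟶ Y) (g : Y ⟶ Z)
    (hg : AlgSp.IsSeparatedMor g.hom) :
    (AlgSp.IsFiniteMor (f ≫ g).hom → AlgSp.IsFiniteMor f.hom) ∧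
    (AlgSp.IsIntegralMor (f ≫ g).hom → AlgSp.IsIntegralMor f.hom) := by
  simp only [Groth.Agent.AlgSpLib.isFiniteMor_iff_repWith, Groth.Agent.AlgSpLib.isIntegralMor_iff_repWith]
  exact ⟨fun h => Groth.Agent.AlgSpLib.repWith_of_comp f.hom _ g.hom rfl h (Groth.Agent.AlgSpLib.repWith_mono (P := @IsClosedImmersion) (fun _ _ r hr => by
      have : IsClosedImmersion r := hr
      exact (inferInstance : IsFinite r)) hg),
    fun h => Groth.Agent.AlgSpLib.repWith_of_comp f.hom _ g.hom rfl h (Groth.Agent.AlgSpLib.repWith_mono (P := @IsClosedImmersion) (fun _ _ r hr => by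
      have : IsClosedImmersion r := hr
      exact (inferInstance : IsIntegralHom r)) hg)⟩

end Groth.Agent.S10272
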