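import Groth.Statements.S10275
import Groth.Agent.AlgSpLib.DiagCrit

set_option autoImplicit false
universe u
open CategoryTheory CategoryTheory.Limits AlgebraicGeometry
open AlgSp

set_option backward.isDefEq.respectTransparency false

namespace Groth.Agent.S10275

/-- A base change of a proper morphism of algebraic spaces is proper. -/
theorem result {S : Scheme.{u}} {X Y Y' X' : AlgSp.Space S} (f : X ⟶ Y) (g : Y' ⟶ Y)
    (fst : X' ⟶ X) (f' : X' ⟶ Y') (sq : IsPullback fst.hom f'.hom f.hom g.hom) (hf : AlgSp.IsProperMor f.hom) :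
    AlgSp.IsProperMor f'.hom := by
  exact ⟨Groth.Agent.AlgSpLib.isSeparatedMor_baseChange sq hf.1,
    ⟨Groth.Agent.AlgSpLib.locP_baseChange Groth.Agent.AlgSpLib.etST_lft X.property Y.property X'.property Y'.property sq hf.2.1.1,
      fun W W' hW hWq a p q sq' => hf.2.1.2 hW hWq _ _ _ (sq'.paste_horiz sq)⟩,
    fun W W' hW a p q sq' => hf.2.2 hW _ _ _ (sq'.paste_horiz sq)⟩

end Groth.Agent.S10275
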