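import Groth.Statements.S10276
import Groth.Agent.AlgSpLib.DiagCrit

set_option autoImplicit false
universe u
open CategoryTheory CategoryTheory.Limits AlgebraicGeometry
open AlgSp

set_option backward.isDefEq.respectTransparency false

namespace Groth.Agent.S10276

/-- A composition of proper morphisms of algebraic spaces is proper. -/
theorem result {S : Scheme.{u}} {X Y Z : AlgSp.Space S} (f : X ⟶ Y) (g : Y ⟶ Z)
    (hf : AlgSp.IsProperMor f.hom) (hg : AlgSp.IsProperMor g.hom) : AlgSp.IsProperMor (f ≫ g).hom := by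
  exact ⟨Groth.Agent.AlgSpLib.isSeparatedMor_comp hf.1 hg.1,
    ⟨Groth.Agent.AlgSpLib.locP_comp Groth.Agent.AlgSpLib.etST_lft Y.property Z.property hf.2.1.1 hg.2.1.1,
      Groth.Agent.AlgSpLib.isQuasiCompactMor_comp Y.property Z.property hf.2.1.2 hg.2.1.2⟩,
    Groth.Agent.AlgSpLib.isUnivClosedMor_comp Y.property Z.property hf.2.2 hg.2.2⟩

end Groth.Agent.S10276
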