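import Groth.Agent.SchImg.ValPoint
import Groth.Agent.AlgSpLib.ProperCrit
import Groth.Agent.SpQS.UnivClosedQC
import Groth.Agent.S10279
import Groth.Prelude.Def_AlgSpSub

set_option autoImplicit false
universe u
open CategoryTheory CategoryTheory.Limits AlgebraicGeometry
open AlgSp

set_option backward.isDefEq.respectTransparency false

namespace Groth.Agent.S10281

/-- The scheme theoretic image of a space proper over B in a space separated and locally of finite type
over B is proper over B, and the source surjects onto it. -/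
theorem result {S : Scheme.{u}} {X Y Z B : AlgSp.Space S} (h : X ⟶ Y) (f : X ⟶ B)
    (g : Y ⟶ B) (comm : h ≫ g = f) (hf : AlgSp.IsProperMor f.hom) (hg : AlgSp.IsSeparatedMor g.hom)
    (hg' : AlgSp.LocP @LocallyOfFiniteType g.hom) (i : Z ⟶ Y) (hZ : AlgSp.IsSchImage h.hom i.hom)
    (h' : X ⟶ Z) (fac : h' ≫ i = h) :
    AlgSp.IsProperMor (i ≫ g).hom ∧ AlgSp.IsSurjectiveMor h'.hom := by
  have hcl := Groth.Agent.AlgSpLib.isUnivClosedMor_and_proper_of_comp X.property Y.property B.property h.hom f.hom g.hom
    (congrArg (fun m => m.hom) comm) hg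
  have hr := (hcl.1 hf.2.2).2
  have hq : AlgSp.IsQuasiCompactMor h.hom :=
    SpQS.isQuasiCompactMor_of_univClosed X.property Y.property h.hom (hcl.1 hf.2.2).1
  have := SchImg.mono_of_closed hZ.1
  have hsurj : AlgSp.IsSurjectiveMor h'.hom := fun z => by
    obtain ⟨x, hx⟩ := (SchImg.range_subset_closure X.property Y.property hq hZ ⟨z, rfl⟩ :
      AlgSp.Points.map i.hom z ∈ closure (Set.range (AlgSp.Points.map h.hom))) |> hr.closure_eq.le
    refine ⟨x, SchImg.injective_map_of_mono (i := i.hom) ?_⟩
    rw [← AlgSp.Points.map_comp, show h'.hom ≫ i.hom = h.hom from congrArg (fun m => m.hom) fac, hx]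
  have hip := Groth.Agent.AlgSpLib.isProperMor_of_closedImmersion Z.property Y.property hZ.1
  have huc : AlgSp.IsUnivClosedMor (i ≫ g).hom := S10279.result h' f (i ≫ g)
    (by rw [← Category.assoc, fac, comm]) hf.2.2 hsurj
  exact ⟨⟨Groth.Agent.AlgSpLib.isSeparatedMor_comp hip.1 hg,
    ⟨Groth.Agent.AlgSpLib.locP_comp Groth.Agent.AlgSpLib.etST_lft Y.property B.property hip.2.1.1 hg',
      SpQS.isQuasiCompactMor_of_univClosed Z.property B.property _ huc⟩, huc⟩, hsurj⟩

end Groth.Agent.S10281
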