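import Groth.Statements.S10282
import Groth.Agent.ValLib.Rep

set_option autoImplicit false
universe u
open CategoryTheory CategoryTheory.Limits AlgebraicGeometry
open AlgSp

set_option backward.isDefEq.respectTransparency false

namespace Groth.Agent.S10282

/-- For a representable morphism of algebraic spaces the existence part of the valuative criterion with
extensions allowed is equivalent to the one without extensions. -/
theorem result {S : Scheme.{u}} {X Y : AlgSp.Space S} (f : X ⟶ Y)
    (hf : AlgSp.Representable f.hom) : AlgSp.ExistVC f.hom ↔ AlgSp.ExistVCStrict f.hom := by
  exact ⟨fun h sq => (h sq).elim fun e he => Groth.Agent.ValLib.hasLift_of_representable f.hom hf sq e he,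
    fun h sq => Groth.Agent.ValLib.hasLiftExt_of_hasLift (h sq)⟩

end Groth.Agent.S10282
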