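import Groth.Statements.S10286
import Groth.Agent.AlgSpLib.Graph

set_option autoImplicit false
universe u
open CategoryTheory CategoryTheory.Limits AlgebraicGeometry
open AlgSp

set_option backward.isDefEq.respectTransparency false

namespace Groth.Agent.S10286

/-- The existence and uniqueness parts of the valuative criterion are stable under base change. -/
theorem result {S : Scheme.{u}} {X Y Z X' : AlgSp.Space S} (f : X ⟶ Y) (g : Z ⟶ Y)
    (fst : X' ⟶ X) (f' : X' ⟶ Z) (sq : IsPullback fst.hom f'.hom f.hom g.hom) :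
    (AlgSp.ExistVC f.hom → AlgSp.ExistVC f'.hom) ∧ (AlgSp.UniqVC f.hom → AlgSp.UniqVC f'.hom) := by
  have w := sq.w
  refine ⟨fun h s => ?_, fun h s l l' h1 h2 h3 h4 => ?_⟩
  · obtain ⟨e, l, hl₁, hl₂⟩ := h
      { A := s.A, K := s.K, str := s.str, top := s.top ≫ fst.hom, bot := s.bot ≫ g.hom
        comm := by rw [Category.assoc, w, ← Category.assoc, s.comm, Category.assoc] }
    let e' : s.DomExt := { A' := e.A', K' := e.K', φ := e.φ, ψ := e.ψ, comm := e.comm, isLocalHom := e.isLocalHom }
    refine ⟨e', sq.lift l ((AlgSp.yon S).map (Over.homMk (Spec.map (CommRingCat.ofHom e.φ)) rfl :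
      e'.ptA' ⟶ s.ptA) ≫ s.bot) (hl₂.trans (Category.assoc _ _ _).symm), sq.hom_ext ?_ ?_, sq.lift_snd _ _ _⟩
    · rw [Category.assoc, sq.lift_fst, Category.assoc]
      exact hl₁
    · refine (Category.assoc _ _ _).trans ((congrArg (_ ≫ ·) (sq.lift_snd _ _ _)).trans ?_)
      refine Eq.trans ?_ ((Category.assoc _ _ _).trans (congrArg (_ ≫ ·) s.comm)).symm
      refine (Category.assoc _ _ _).symm.trans (Eq.trans ?_ (Category.assoc _ _ _))
      rw [← Functor.map_comp, ← Functor.map_comp]
      congr 2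
      refine Over.OverMorphism.ext ?_
      show Spec.map _ ≫ Spec.map _ = Spec.map _ ≫ Spec.map _
      rw [← Spec.map_comp, ← Spec.map_comp, ← CommRingCat.ofHom_comp, ← CommRingCat.ofHom_comp, e.comm]
  · refine sq.hom_ext (h
      { A := s.A, K := s.K, str := s.str, top := s.top ≫ fst.hom, bot := s.bot ≫ g.hom
        comm := by rw [Category.assoc, w, ← Category.assoc, s.comm, Category.assoc] }
      (l ≫ fst.hom) (l' ≫ fst.hom) ?_ ?_ ?_ ?_) (h2.trans h4.symm)
    · exact (Category.assoc _ _ _).symm.trans (congrArg (· ≫ fst.hom) h1)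
    · exact (Category.assoc _ _ _).trans ((congrArg (l ≫ ·) w).trans ((Category.assoc _ _ _).symm.trans (congrArg (· ≫ g.hom) h2)))
    · exact (Category.assoc _ _ _).symm.trans (congrArg (· ≫ fst.hom) h3)
    · exact (Category.assoc _ _ _).trans ((congrArg (l' ≫ ·) w).trans ((Category.assoc _ _ _).symm.trans (congrArg (· ≫ g.hom) h4)))

end Groth.Agent.S10286
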