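import Groth.Statements.S10292
import Groth.Agent.AlgSpLib.LocPMore
import Groth.Agent.AlgSpLib.Points
-- import your own Groth.Agent.* helpers here

set_option autoImplicit false
universe u
open CategoryTheory CategoryTheory.Limits AlgebraicGeometry
open AlgSp

namespace Groth.Agent.S10292

open IsLocalRing

/-- scheme-level lifting: a flat map to the spectrum of a valuation ring hitting the closed point -/
lemma exists_lift {A : Type u} [CommRing A] [IsDomain A] [ValuationRing A] {U : Scheme.{u}}
    (h : U ⟶ Spec (.of A)) [Flat h] (u : U) (hu : h u = closedPoint A) :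
    ∃ (A' : Type u) (_ : CommRing A') (_ : IsDomain A') (_ : ValuationRing A') (φ : A →+* A'),
      Function.Injective φ ∧ IsLocalHom φ ∧
      ∃ m : Spec (.of A') ⟶ U, m ≫ h = Spec.map (CommRingCat.ofHom φ) := by
  let η : ↥(Spec (.of A)) := (⊥ : PrimeSpectrum A)
  have hspec : η ⤳ h u := by
    rw [hu]
    exact specializes_closedPoint (R := A) _
  obtain ⟨u', h1, h2⟩ := Flat.generalizingMap (f := h) hspec
  let ψ : U.presheaf.stalk u ⟶ U.residueField u' := U.presheaf.stalkSpecializes h1 ≫ U.residue u'
  obtain ⟨B, hB, hB'⟩ := exists_factor_valuationRing ψ.hom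
  let σ : U.presheaf.stalk u ⟶ .of B := CommRingCat.ofHom (ψ.hom.codRestrict _ hB)
  let m : Spec (.of B) ⟶ U := Spec.map σ ≫ U.fromSpecStalk u
  obtain ⟨φ, hφ⟩ := Spec.map_surjective (m ≫ h)
  refine ⟨B, inferInstance, inferInstance, inferInstance, φ.hom, ?_, ?_, m, hφ.symm⟩
  · have hm : m (⊥ : PrimeSpectrum B) = u' := by
      have e : Spec.map (CommRingCat.ofHom (algebraMap B (U.residueField u'))) ≫ m =
          U.fromSpecResidueField u' := by
        rw [Scheme.fromSpecResidueField, ← Scheme.SpecMap_stalkSpecializes_fromSpecStalk h1,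
          ← Spec.map_comp_assoc, ← Spec.map_comp_assoc]
        rfl
      have e' : (Spec.map (CommRingCat.ofHom (algebraMap B (U.residueField u'))))
          (closedPoint (U.residueField u')) = (⊥ : PrimeSpectrum B) :=
        PrimeSpectrum.ext (by
          rw [Subsingleton.elim (closedPoint (U.residueField u')) (⊥ : PrimeSpectrum (U.residueField u'))]
          exact Ideal.comap_bot_of_injective _ (FaithfulSMul.algebraMap_injective B (U.residueField u')))
      rw [← e', ← Scheme.Hom.comp_apply, e]
      exact Scheme.fromSpecResidueField_apply _ _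
    have hg : (Spec.map φ) (⊥ : PrimeSpectrum B) = η := by
      rw [hφ, Scheme.Hom.comp_apply, hm, h2]
    have hk : RingHom.ker φ.hom = ⊥ := congrArg PrimeSpectrum.asIdeal hg
    exact (RingHom.injective_iff_ker_eq_bot _).2 hk
  · have hm : m (closedPoint B) = u := by
      show U.fromSpecStalk u (Spec.map σ (closedPoint B)) = u
      haveI : IsLocalHom σ.hom := hB'
      rw [show (Spec.map σ) (closedPoint B) = closedPoint _ from IsLocalRing.comap_closedPoint σ.hom]
      exact Scheme.fromSpecStalk_closedPoint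
    have hg : (Spec.map φ) (closedPoint B) = closedPoint A := by
      rw [hφ, Scheme.Hom.comp_apply, hm, hu]
    exact ((IsLocalRing.local_hom_TFAE φ.hom).out 0 4).2 (congrArg PrimeSpectrum.asIdeal hg)

end Groth.Agent.S10292

namespace Groth.Agent.S10292

/-- Along a flat morphism of algebraic spaces, a morphism from the spectrum of a valuation ring to the
target whose closed point is hit lifts to the source after an extension of valuation rings
(injective and local). -/
theorem result {S : Scheme.{u}} {X Y : AlgSp.Space S} (f : X ⟶ Y)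
    (hf : AlgSp.LocP @Flat f.hom) (A : Type u) [CommRing A] [IsDomain A] [ValuationRing A]
    (str : Spec (.of A) ⟶ S) (b : (AlgSp.yon S).obj (Over.mk str) ⟶ Y.obj)
    (hb : AlgSp.Points.ofPt b (IsLocalRing.closedPoint A) ∈ Set.range (AlgSp.Points.map f.hom)) :
    ∃ (A' : Type u) (_ : CommRing A') (_ : IsDomain A') (_ : ValuationRing A') (φ : A →+* A'),
      Function.Injective φ ∧ IsLocalHom φ ∧
      ∃ l : (AlgSp.yon S).obj (Over.mk (Spec.map (CommRingCat.ofHom φ) ≫ str)) ⟶ X.obj,
        l ≫ f.hom = (AlgSp.yon S).map (Over.homMk (Spec.map (CommRingCat.ofHom φ)) rfl :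
          Over.mk (Spec.map (CommRingCat.ofHom φ) ≫ str) ⟶ Over.mk str) ≫ b := by
  classical
  have sq := IsPullback.of_hasPullback f.hom b
  have hP : IsAlgSpace (pullback f.hom b) :=
    AlgSpLib.isAlgSpace_of_isPullback_space Y.property X.property (IsAlgSpace.yon_obj _) sq
  obtain ⟨x, hx⟩ := hb
  let c₀ : ↥(Over.mk str).left := IsLocalRing.closedPoint A
  have hc : Points.map b (Points.ofPt (𝟙 ((yon S).obj (Over.mk str))) c₀) = Points.ofPt b c₀ := by
    rw [Points.map_ofPt, Category.id_comp]
  obtain ⟨p, hp1, hp2⟩ := AlgSpLib.exists_point_of_isPullback sq x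
    (Points.ofPt (𝟙 ((yon S).obj (Over.mk str))) c₀) (hx.trans hc.symm)
  obtain ⟨U, q, hqe, hqs⟩ := hP.atlas
  obtain ⟨k, hk⟩ := (yon S).map_surjective (q ≫ pullback.snd f.hom b)
  have hfl := AlgSpLib.locP_baseChange AlgSpLib.etST_flat X.property Y.property hP
    (IsAlgSpace.yon_obj (Over.mk str)) sq hf
  have : Flat k.left := hfl q (𝟙 _) k hqe AlgSpLib.repWith_id' (by rw [Category.comp_id]; exact hk.symm)
  obtain ⟨u, rfl⟩ := AlgSpLib.ofPt_surjective hqs p
  have hu : k.left u = c₀ := by
    rw [Points.map_ofPt, ← hk] at hp2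
    obtain ⟨K, α, β, t, e, rfl, ht⟩ := AlgSpLib.exists_of_ofPt_eq hp2
    have e' : α ≫ k = β := (yon S).map_injective (by
      rw [Functor.map_comp, e, Category.comp_id])
    rw [← ht, ← e', Over.comp_left, Scheme.Hom.comp_apply]
  obtain ⟨A', i1, i2, i3, φ, hinj, hloc, m, hm⟩ := exists_lift (h := k.left) u hu
  let m' : Over.mk (Spec.map (CommRingCat.ofHom φ) ≫ str) ⟶ U := Over.homMk m (by
    have h1 := Over.w k
    simp only [Over.mk_hom] at h1 ⊢
    rw [← h1, ← Category.assoc, hm])
  refine ⟨A', i1, i2, i3, φ, hinj, hloc, (yon S).map m' ≫ q ≫ pullback.fst f.hom b, ?_⟩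
  rw [Category.assoc, Category.assoc, sq.w, ← Category.assoc q, ← hk, ← Category.assoc,
    ← Functor.map_comp]
  exact congrArg (fun z => (yon S).map z ≫ b) (Over.OverMorphism.ext hm)

end Groth.Agent.S10292
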