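import Groth.Statements.S10294
import Groth.Agent.AlgSpLib.ProperCrit

set_option autoImplicit false
universe u
open CategoryTheory CategoryTheory.Limits AlgebraicGeometry
open AlgSp

set_option backward.isDefEq.respectTransparency false

namespace Groth.Agent.S10294

/-- Finite locally free is the same as finite, flat and locally of finite presentation; over a locally
Noetherian target it is the same as finite and flat. -/
theorem result {S : Scheme.{u}} {X Y : AlgSp.Space S} (f : X ⟶ Y) :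
    (AlgSp.IsFinLocFreeMor f.hom ↔
      (AlgSp.IsFiniteMor f.hom ∧ AlgSp.LocP @Flat f.hom ∧ AlgSp.LocP @LocallyOfFinitePresentation f.hom)) ∧
    (AlgSp.IsLocNoethSp Y.obj →
      (AlgSp.IsFinLocFreeMor f.hom ↔ (AlgSp.IsFiniteMor f.hom ∧ AlgSp.LocP @Flat f.hom))) := by
  have key : AlgSp.IsFinLocFreeMor f.hom ↔
      (AlgSp.IsFiniteMor f.hom ∧ AlgSp.LocP @Flat f.hom ∧ AlgSp.LocP @LocallyOfFinitePresentation f.hom) := by
    rw [AlgSp.IsFinLocFreeMor,
      Groth.Agent.AlgSpLib.repWith_and (P := AlgSp.finLocFree) (Q := @IsFinite)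
        (R := fun _ _ q => Flat q ∧ LocallyOfFinitePresentation q) fun _ _ q => Iff.rfl,
      Groth.Agent.AlgSpLib.repWith_and (P := fun _ _ q => Flat q ∧ LocallyOfFinitePresentation q)
        (Q := @Flat) (R := @LocallyOfFinitePresentation) fun _ _ q => Iff.rfl,
      Groth.Agent.AlgSpLib.isFiniteMor_iff_repWith]
    refine and_congr_right fun h => ?_
    rw [Groth.Agent.AlgSpLib.locP_iff_repWith Groth.Agent.AlgSpLib.etST_flat Y.property h.1, Groth.Agent.AlgSpLib.locP_iff_repWith Groth.Agent.AlgSpLib.etST_lfp Y.property h.1]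
  refine ⟨key, fun hY => ⟨fun h => ⟨(key.1 h).1, (key.1 h).2.1⟩, fun ⟨h1, h2⟩ => key.2 ⟨h1, h2, ?_⟩⟩⟩
  obtain ⟨V, p, hpe, hps, hV⟩ := hY
  rw [Groth.Agent.AlgSpLib.isFiniteMor_iff_repWith] at h1
  obtain ⟨W, z, w, sq, hw⟩ := Groth.Agent.AlgSpLib.exists_repWith h1 p
  have : IsFinite w.left := hw
  have : IsLocallyNoetherian V.left := hV
  have hlfp : LocallyOfFinitePresentation w.left := inferInstance
  exact Groth.Agent.AlgSpLib.of_chart (Groth.Agent.AlgSpLib.isLocalOnBase_locP Groth.Agent.AlgSpLib.etST_lfp) X.property Y.property f.hom hpe hps sq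
    ((Groth.Agent.AlgSpLib.locP_iff_repWith Groth.Agent.AlgSpLib.etST_lfp (AlgSp.IsAlgSpace.yon_obj V)
      (Groth.Agent.AlgSpLib.repWith_baseChange sq h1).1).2 ((Groth.Agent.AlgSpLib.repWith_yon_iff w).2 hlfp))

end Groth.Agent.S10294
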