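import Groth.Statements.S10296
import Groth.Agent.RelNorm.Base

set_option autoImplicit false
universe u
open CategoryTheory CategoryTheory.Limits AlgebraicGeometry
open AlgSp

namespace Groth.Agent.S10296

/-- The induced morphism from the normalization of X in Y to any integral Z -> X through which Y -> X
factors is the normalization of Z in Y. -/
theorem result {S : Scheme.{u}} {Y X X' Z : AlgSp.Space S} (f : Y ⟶ X)
    (hqc : AlgSp.IsQuasiCompactMor f.hom) (hqs : AlgSp.IsQuasiSeparatedMor f.hom) (ν : X' ⟶ X) (f' : Y ⟶ X')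
    (hn : AlgSp.IsRelNormalization f.hom ν.hom f'.hom) (π : Z ⟶ X) (hπ : AlgSp.IsIntegralMor π.hom) (g : Y ⟶ Z)
    (hg : g ≫ π = f) (h : X' ⟶ Z) (h1 : f' ≫ h = g) (h2 : h ≫ π = ν) :
    AlgSp.IsRelNormalization g.hom h.hom f'.hom := by
  obtain ⟨hf, hν, huniv⟩ := hn
  have h1' : f'.hom ≫ h.hom = g.hom := congrArg (fun k => k.hom) h1
  have h2' : h.hom ≫ π.hom = ν.hom := congrArg (fun k => k.hom) h2
  have hg' : g.hom ≫ π.hom = f.hom := congrArg (fun k => k.hom) hg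
  refine ⟨h1', Groth.Agent.RelNorm.isIntegralMor_of_comp Z.property X.property h.hom h2' hν hπ,
    fun W hW ρ k hρ hk => ?_⟩
  have hρπ : AlgSp.IsIntegralMor (ρ ≫ π.hom) := (Groth.Agent.AlgSpLib.isIntegralMor_iff_repWith _).2
    (Groth.Agent.AlgSpLib.repWith_comp ((Groth.Agent.AlgSpLib.isIntegralMor_iff_repWith _).1 hρ)
      ((Groth.Agent.AlgSpLib.isIntegralMor_iff_repWith _).1 hπ))
  obtain ⟨m, ⟨hm1, hm2⟩, hmu⟩ := huniv hW (ρ ≫ π.hom) k hρπ (by rw [reassoc_of% hk, hg'])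
  refine ⟨m, ⟨hm1, ?_⟩, fun m' hm' => hmu m' ⟨hm'.1, by rw [reassoc_of% hm'.2, h2']⟩⟩
  exact (huniv Z.property π.hom g.hom hπ hg').unique
    ⟨by rw [reassoc_of% hm1, hk], by rw [Category.assoc, hm2]⟩ ⟨h1', h2'⟩

end Groth.Agent.S10296
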