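import Groth.Statements.S10297
import Groth.Agent.RelNorm.Base

set_option autoImplicit false
universe u
open CategoryTheory CategoryTheory.Limits AlgebraicGeometry
open AlgSp

namespace Groth.Agent.S10297

/-- Taking the normalization of X in Y is compatible with an etale base change W -> X. -/
theorem result {S : Scheme.{u}} {Y X X' W YW X'W : AlgSp.Space S} (f : Y ⟶ X)
    (hqc : AlgSp.IsQuasiCompactMor f.hom) (hqs : AlgSp.IsQuasiSeparatedMor f.hom) (ν : X' ⟶ X) (f' : Y ⟶ X')
    (hn : AlgSp.IsRelNormalization f.hom ν.hom f'.hom) (w : W ⟶ X) (hw : AlgSp.IsEtaleMor w.hom)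
    (a : YW ⟶ Y) (fW : YW ⟶ W) (sq1 : IsPullback a.hom fW.hom f.hom w.hom)
    (b : X'W ⟶ X') (νW : X'W ⟶ W) (sq2 : IsPullback b.hom νW.hom ν.hom w.hom)
    (f'W : YW ⟶ X'W) (c1 : f'W ≫ νW = fW) (c2 : f'W ≫ b = a ≫ f') :
    AlgSp.IsRelNormalization fW.hom νW.hom f'W.hom := by
  exact Groth.Agent.RelNorm.isRelNormalization_baseChange X.property W.property Y.property X'.property sq1 hqc hqs
    (fun _ _ a b k ha hb comm => by
      have : Etale k.left := (Groth.Agent.AlgSpLib.isEtaleMor_iff_locP X.property).1 hw a b k ha hb comm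
      infer_instance) hn sq2 f'W.hom (congrArg (fun k => k.hom) c1) (congrArg (fun k => k.hom) c2)

end Groth.Agent.S10297
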