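import Groth.Statements.S10304
import Groth.Agent.AlgSpLib.FlatLFIC
import Groth.Agent.AlgSpLib.CodimZero
import Groth.Agent.AlgSpLib.StalkChart
-- import your own Groth.Agent.* helpers here

set_option autoImplicit false
universe u
open CategoryTheory CategoryTheory.Limits AlgebraicGeometry
open AlgSp

namespace Groth.Agent.S10304

open Groth.Agent.AlgSpLib Groth.Agent

theorem finite_of_surjective {A B : Type*} [TopologicalSpace A] [TopologicalSpace B] (q : A → B)
    (hc : Continuous q) (hs : Function.Surjective q) (h : (irreducibleComponents A).Finite) :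
    (irreducibleComponents B).Finite := by
  refine (h.image fun C => closure (q '' C)).subset fun Z hZ => ?_
  have hcov : Z ⊆ ⋃₀ ((fun C => closure (q '' C)) '' irreducibleComponents A) := fun z _ => by
    obtain ⟨a, rfl⟩ := hs z
    exact ⟨_, ⟨irreducibleComponent a, irreducibleComponent_mem_irreducibleComponents a, rfl⟩,
      subset_closure ⟨a, mem_irreducibleComponent, rfl⟩⟩
  obtain ⟨C', hC', hle⟩ := isIrreducible_iff_sUnion_isClosed.1 hZ.1 (h.image fun C => closure (q '' C)).toFinset
    (fun z hz => by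
      obtain ⟨C, -, rfl⟩ := (Set.Finite.mem_toFinset _).1 hz
      exact isClosed_closure)
    (by rw [Set.Finite.coe_toFinset]; exact hcov)
  obtain ⟨C, hC, rfl⟩ := (Set.Finite.mem_toFinset _).1 hC'
  exact ⟨C, hC, hle.antisymm' (hZ.2 (hC.1.image q hc.continuousOn).closure hle)⟩

theorem finite_maxPt {A : Type*} [TopologicalSpace A] [T0Space A] [QuasiSober A]
    (h : (irreducibleComponents A).Finite) : {x : A | SpQS.IsMaxPt x}.Finite := by
  refine (h.biUnion fun T _ => (Set.Subsingleton.finite (s := {x | IsGenericPoint x T})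
    fun x hx y hy => hx.eq hy)).subset fun x hx => ?_
  obtain ⟨T, hT, hg⟩ := (SpQS.component_generic_iff x).2 hx
  exact Set.mem_biUnion hT hg

theorem finite_of_maxPt {A : Type*} [TopologicalSpace A] [T0Space A] [QuasiSober A]
    (h : {x : A | SpQS.IsMaxPt x}.Finite) : (irreducibleComponents A).Finite := by
  refine (h.image fun x => closure {x}).subset fun T hT => ?_
  have hg := hT.1.isGenericPoint_genericPoint (isClosed_of_mem_irreducibleComponents _ hT)
  exact ⟨_, (SpQS.component_generic_iff _).1 ⟨T, hT, hg⟩, hg⟩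

theorem chart_components {S : Scheme.{u}} {X : AlgSp.Space S}
    (h : ∀ (U : Over S) (a : (AlgSp.yon S).obj U ⟶ X.obj), AlgSp.RepWith @Etale a →
        ∀ W : U.left.Opens, IsCompact (W : Set ↥U.left) → (irreducibleComponents ↥W).Finite)
    {V : Over S} [CompactSpace V.left] (a : (AlgSp.yon S).obj V ⟶ X.obj) (ha : AlgSp.RepWith @Etale a) :
    (irreducibleComponents V.left).Finite :=
  FlatLFIC.finite_of_homeomorph (Homeomorph.Set.univ V.left).symm (h V a ha ⊤ isCompact_univ)

theorem toSpace {S : Scheme.{u}} {X : AlgSp.Space S} {U : Over S} (a : (AlgSp.yon S).obj U ⟶ X.obj)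
    (ha : AlgSp.RepWith @Etale a) (W : U.left.Opens) (hW : IsCompact (W : Set ↥U.left)) :
    ∃ g : (⟨(AlgSp.yon S).obj (Over.mk (W.ι ≫ U.hom)), AlgSp.IsAlgSpace.yon_obj _⟩ : AlgSp.Space S) ⟶ X,
      AlgSp.IsEtaleMor g.hom ∧ AlgSp.IsQuasiCompactSp ((AlgSp.yon S).obj (Over.mk (W.ι ≫ U.hom))) := by
  have : CompactSpace W.toScheme := isCompact_iff_compactSpace.mp hW
  refine ⟨ObjectProperty.homMk ((AlgSp.yon S).map (Over.homMk W.ι rfl) ≫ a),
    isEtaleMor_of_repWith' (repWith_comp ((repWith_yon_iff _).2 (inferInstanceAs (Etale W.ι))) ha),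
    _, 𝟙 _, repWith_id', repWith_id _ _, this⟩

end Groth.Agent.S10304

namespace Groth.Agent.S10304

/-- Equivalent forms of the condition that the schemes etale over X have locally finitely many
irreducible components: one etale surjective chart, every etale chart, finiteness of codimension-0
points of quasi-compact spaces etale over X, finiteness of irreducible components of such spaces. -/
theorem result {S : Scheme.{u}} (X : AlgSp.Space S) :
    (AlgSp.EtaleLocally (fun U => ∀ W : U.Opens, IsCompact (W : Set ↥U) → (irreducibleComponents ↥W).Finite) X.obj ↔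
      ∀ (U : Over S) (a : (AlgSp.yon S).obj U ⟶ X.obj), AlgSp.RepWith @Etale a →
        ∀ W : U.left.Opens, IsCompact (W : Set ↥U.left) → (irreducibleComponents ↥W).Finite) ∧
    (AlgSp.EtaleLocally (fun U => ∀ W : U.Opens, IsCompact (W : Set ↥U) → (irreducibleComponents ↥W).Finite) X.obj ↔
      ∀ (Y : AlgSp.Space S) (g : Y ⟶ X), AlgSp.IsEtaleMor g.hom → AlgSp.IsQuasiCompactSp Y.obj →
        {y : AlgSp.Points Y.obj |
          AlgSp.HasAt (fun U u => ringKrullDim ↥(U.presheaf.stalk u) = 0) Y.obj y}.Finite) ∧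
    (AlgSp.EtaleLocally (fun U => ∀ W : U.Opens, IsCompact (W : Set ↥U) → (irreducibleComponents ↥W).Finite) X.obj ↔
      ∀ (Y : AlgSp.Space S) (g : Y ⟶ X), AlgSp.IsEtaleMor g.hom → AlgSp.IsQuasiCompactSp Y.obj →
        (irreducibleComponents (AlgSp.Points Y.obj)).Finite) := by
  have h12 : AlgSp.EtaleLocally (fun U => ∀ W : U.Opens, IsCompact (W : Set ↥U) → (irreducibleComponents ↥W).Finite) X.obj →
      ∀ (U : Over S) (a : (AlgSp.yon S).obj U ⟶ X.obj), AlgSp.RepWith @Etale a →
        ∀ W : U.left.Opens, IsCompact (W : Set ↥U.left) → (irreducibleComponents ↥W).Finite := by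
    intro h U a ha W hW
    obtain ⟨g, hge, -⟩ := toSpace a ha W hW
    obtain ⟨V, b, hb, hbs, hV⟩ := Groth.Agent.AlgSpLib.FlatLFIC.etaleLocally_of_flat_lft
      (AlgSp.IsAlgSpace.yon_obj _) X.property g.hom
      (fun U' V' a' b' k ha' hb' comm => have : Etale k.left :=
        (Groth.Agent.AlgSpLib.isEtaleMor_iff_locP X.property).1 hge a' b' k ha' hb' comm; inferInstance)
      (fun U' V' a' b' k ha' hb' comm => have : Etale k.left :=
        (Groth.Agent.AlgSpLib.isEtaleMor_iff_locP X.property).1 hge a' b' k ha' hb' comm; inferInstance) h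
    obtain ⟨q, rfl⟩ := (AlgSp.yon S).map_surjective b
    have : Etale q.left := (Groth.Agent.AlgSpLib.repWith_yon_iff q).1 hb
    have : Surjective q.left := (Groth.Agent.AlgSpLib.repWith_yon_iff q).1 hbs
    let W' : Scheme.{u} := W.toScheme
    let q' : V.left ⟶ W' := q.left
    have hq' : Surjective q' := ‹Surjective q.left›
    have : CompactSpace W' := isCompact_iff_compactSpace.mp hW
    have hqe : Etale q' := ‹Etale q.left›
    obtain ⟨s, hs⟩ := isCompact_univ.elim_finite_subcover
      (fun O : V.left.affineOpens => q' '' (O.1 : Set V.left)) (fun O => q'.isOpenMap _ O.1.isOpen) (fun w _ => by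
        obtain ⟨v, rfl⟩ := q'.surjective w
        obtain ⟨_, ⟨O, hO, rfl⟩, hv, -⟩ :=
          V.left.isBasis_affineOpens.exists_subset_of_mem_open (Set.mem_univ v) isOpen_univ
        exact Set.mem_iUnion.2 ⟨⟨O, hO⟩, v, hv, rfl⟩)
    let O : V.left.Opens := ⨆ i : s, i.1.1
    have hO : IsCompact (O : Set V.left) := by
      rw [TopologicalSpace.Opens.coe_iSup]
      exact isCompact_iUnion fun i => i.1.2.isCompact
    refine finite_of_surjective (fun v : O => (q' v.1 : W')) (q'.continuous.comp continuous_subtype_val)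
      (fun w => ?_) (hV O hO)
    obtain ⟨i, hi, v, hv, rfl⟩ := Set.mem_iUnion₂.1 (hs (Set.mem_univ w))
    exact ⟨⟨v, TopologicalSpace.Opens.mem_iSup.2 ⟨⟨i, hi⟩, hv⟩⟩, rfl⟩
  have h21 : (∀ (U : Over S) (a : (AlgSp.yon S).obj U ⟶ X.obj), AlgSp.RepWith @Etale a →
        ∀ W : U.left.Opens, IsCompact (W : Set ↥U.left) → (irreducibleComponents ↥W).Finite) →
      AlgSp.EtaleLocally (fun U => ∀ W : U.Opens, IsCompact (W : Set ↥U) → (irreducibleComponents ↥W).Finite) X.obj := by
    intro h
    obtain ⟨U, a, ha, has⟩ := X.property.atlas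
    exact ⟨U, a, ha, has, h U a ha⟩
  refine ⟨⟨h12, h21⟩, ⟨fun h Y g hg hY => ?_, fun h => h21 fun U a ha W hW => ?_⟩,
    ⟨fun h Y g hg hY => ?_, fun h => h21 fun U a ha W hW => ?_⟩⟩
  · obtain ⟨V, c, hc, hcs, hVc⟩ := hY
    have : CompactSpace V.left := hVc
    refine ((finite_maxPt (chart_components (h12 h) (c ≫ g.hom) (hg c hc))).image (AlgSp.Points.ofPt c)).subset
      fun y hy => ?_
    obtain ⟨v, rfl⟩ := Groth.Agent.AlgSpLib.ofPt_surjective hcs y
    exact ⟨v, (Groth.Agent.SpQS.stalk_dim_zero_iff v).1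
      ((Groth.Agent.AlgSpLib.StalkPoint.hasAt_dim_iff_forall Y.property _ 0).1 hy V c v hc rfl), rfl⟩
  · obtain ⟨g, hge, hgq⟩ := toSpace a ha W hW
    refine finite_of_maxPt (A := W.toScheme) (((h _ g hge hgq).preimage
      (AlgSp.Points.schemeEquiv (Over.mk (W.ι ≫ U.hom))).injective.injOn).subset fun w hw => ?_)
    refine ⟨_, 𝟙 _, w, Groth.Agent.AlgSpLib.repWith_id', ?_, (Groth.Agent.SpQS.stalk_dim_zero_iff w).2 hw⟩
    rw [AlgSp.Points.ofPt_eq_map_ofScheme, AlgSp.Points.map_id]
    rfl
  · obtain ⟨V, c, hc, hcs, hVc⟩ := hY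
    have : CompactSpace V.left := hVc
    exact finite_of_surjective _ (AlgSp.Points.continuous_ofPt c) (Groth.Agent.AlgSpLib.ofPt_surjective hcs)
      (chart_components (h12 h) (c ≫ g.hom) (hg c hc))
  · obtain ⟨g, hge, hgq⟩ := toSpace a ha W hW
    exact finite_of_surjective _ (AlgSp.Points.schemeHomeo (Over.mk (W.ι ≫ U.hom))).symm.continuous
      (AlgSp.Points.schemeHomeo (Over.mk (W.ι ≫ U.hom))).symm.surjective (h _ g hge hgq)

end Groth.Agent.S10304
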