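import Groth.Statements.S9355
import Groth.Agent.LocalDimBC.Scheme
import Groth.Agent.FibreApprox.Basic
import Groth.Agent.DimFormula.Jump
import Groth.Agent.CMChart.LocalDim
import Groth.Agent.S0402

set_option autoImplicit false
universe u
open FibDim

set_option backward.isDefEq.respectTransparency false

namespace Groth.Agent.S9355

open AlgebraicGeometry CategoryTheory in
/-- For f : X → S locally of finite presentation and n ≥ 0, the open set U_n of points x with dim_x(X_{f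
x}) ≤ n is retrocompact in X. -/
theorem result {X S : Scheme.{u}} (f : X ⟶ S) [LocallyOfFinitePresentation f] (n : ℕ) :
    IsRetrocompact {x : ↑X | FlatMor.fibreDimAt f x ≤ n} := by
  intro V hV hVo
  -- cover by small affine opens
  have hloc : ∀ x : X, ∃ U : X.Opens, IsAffineOpen U ∧ x ∈ U ∧
      IsCompact ({x : ↑X | FlatMor.fibreDimAt f x ≤ n} ∩ (U : Set X)) ∧ (x ∈ V → (U : Set X) ⊆ V) := by
    intro x
    obtain ⟨W, hW, hxW, -⟩ := exists_isAffineOpen_mem_and_subset (U := (⊤ : S.Opens)) (x := f x) trivial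
    obtain ⟨U, hU, hxU, hUle, hUV⟩ : ∃ U : X.Opens, IsAffineOpen U ∧ x ∈ U ∧ U ≤ f ⁻¹ᵁ W ∧
        (x ∈ V → (U : Set X) ⊆ V) := by
      by_cases hx : x ∈ V
      · obtain ⟨U, hU, hxU, hle⟩ := exists_isAffineOpen_mem_and_subset
          (U := f ⁻¹ᵁ W ⊓ ⟨V, hVo⟩) (x := x) ⟨hxW, hx⟩
        exact ⟨U, hU, hxU, fun z hz => (hle hz).1, fun _ z hz => (hle hz).2⟩
      · obtain ⟨U, hU, hxU, hle⟩ := exists_isAffineOpen_mem_and_subset (U := f ⁻¹ᵁ W) (x := x) hxW
        exact ⟨U, hU, hxU, hle, fun h => absurd h hx⟩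
    refine ⟨U, hU, hxU, ?_, hUV⟩
    haveI : IsAffine U.toScheme := hU
    haveI : IsAffine W.toScheme := hW
    haveI : LocallyOfFinitePresentation (f.resLE W U hUle) := by
      delta Scheme.Hom.resLE; infer_instance
    -- fibre dimensions on the piece
    have hres : ∀ z : U.toScheme, FlatMor.fibreDimAt (f.resLE W U hUle) z = FlatMor.fibreDimAt f (U.ι z) := by
      intro z
      have h1 := Groth.Agent.DimFormula.fibreDimAt_of_embedding (U.ι ≫ f) (f.resLE W U hUle) (𝟙 _) W.ι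
        Topology.IsEmbedding.id W.ι.injective (fun a => by
          rw [← Scheme.Hom.comp_apply, ← Scheme.Hom.comp_apply, Category.id_comp, Scheme.Hom.resLE_comp_ι])
        z (fun a _ => ⟨a, rfl⟩)
      refine h1.trans ?_
      obtain ⟨d, hd⟩ := Groth.Agent.Unibranch.exists_fibreDimAt_eq (U.ι ≫ f) z
      obtain ⟨d', hd'⟩ := Groth.Agent.Unibranch.exists_fibreDimAt_eq f (U.ι z)
      show FlatMor.fibreDimAt (U.ι ≫ f) z = _
      rw [hd, hd']
      refine congrArg (fun k : ℕ => (k : WithBot ℕ∞)) (le_antisymm ?_ ?_)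
      · have : (d : WithBot ℕ∞) ≤ FlatMor.fibreDimAt f (U.ι z) :=
          (Groth.Agent.Unibranch.natCast_le_fibreDimAt_iff f _).mpr fun O hO => by
            obtain ⟨c, hc, hc'⟩ := (Groth.Agent.Unibranch.natCast_le_fibreDimAt_iff (U.ι ≫ f) z).mp hd.ge (U.ι ⁻¹ᵁ O) hO
            exact ⟨fun i => U.ι (c i), fun i => ⟨(hc i).1, (hc i).2⟩,
              fun i => ⟨(hc' i).1.map U.ι.continuous, fun e => (hc' i).2 (U.ι.injective e)⟩⟩
        rw [hd'] at this
        exact_mod_cast this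
      · have := Groth.Agent.CMChart.le_fibreDimAt_restrict f U z hd'.ge
        rw [hd] at this
        exact_mod_cast this
    obtain ⟨X₀, S₀, f₀, g, g', hX₀, hS₀, sq, hZ, hft, -⟩ := Groth.Agent.FibreApprox.exists_model
      (fun _ _ => True) (fun _ _ _ _ => Iff.rfl)
      (fun _ _ _ _ => by
        rw [Set.setOf_true]
        exact fun _ => ⟨Set.univ, Filter.univ_mem, isOpen_univ, by simp⟩)
      (f.resLE W U hUle) (fun _ => trivial)
    haveI : IsNoetherianRing Γ(S₀, ⊤) := Algebra.FiniteType.isNoetherianRing ℤ _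
    haveI : IsLocallyNoetherian S₀ := isLocallyNoetherian_of_isOpenImmersion S₀.isoSpec.hom
    haveI : IsLocallyNoetherian X₀ := LocallyOfFiniteType.isLocallyNoetherian f₀
    haveI : IsNoetherian X₀ := {}
    haveI : IsAffineHom g' := inferInstance
    have hK : IsCompact {z : U.toScheme | FlatMor.fibreDimAt (f.resLE W U hUle) z ≤ n} := by
      have e : {z : U.toScheme | FlatMor.fibreDimAt (f.resLE W U hUle) z ≤ n} =
          g' ⁻¹' {z | FlatMor.fibreDimAt f₀ z ≤ n} := by
        ext z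
        simp only [Set.mem_setOf_eq, Set.mem_preimage,
          Groth.Agent.LocalDimBC.fibreDimAt_of_isPullback f₀ g g' _ sq z]
      rw [e]
      exact QuasiCompact.isCompact_preimage (f := g') _ (Groth.Agent.S0402.result f₀ n) (TopologicalSpace.NoetherianSpace.isCompact _)
    have himg : U.ι '' {z : U.toScheme | FlatMor.fibreDimAt (f.resLE W U hUle) z ≤ n} =
        {x : ↑X | FlatMor.fibreDimAt f x ≤ n} ∩ (U : Set X) := by
      ext y
      constructor
      · rintro ⟨z, hz, rfl⟩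
        exact ⟨(hres z).symm.le.trans hz, z.2⟩
      · rintro ⟨hy, hyU⟩
        exact ⟨⟨y, hyU⟩, (hres ⟨y, hyU⟩).le.trans hy, rfl⟩
    exact himg ▸ hK.image U.ι.continuous
  choose U hU hxU hK hUV using hloc
  obtain ⟨t, ht⟩ := hV.elim_finite_subcover (fun x : V => (U x : Set X)) (fun x => (U x.1).2)
    (fun x hx => Set.mem_iUnion.2 ⟨⟨x, hx⟩, hxU x⟩)
  have e : {x : ↑X | FlatMor.fibreDimAt f x ≤ n} ∩ V =
      ⋃ x ∈ t, {x : ↑X | FlatMor.fibreDimAt f x ≤ n} ∩ (U x.1 : Set X) := by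
    refine Set.Subset.antisymm (fun y hy => ?_) (Set.iUnion₂_subset fun x _ y hy => ⟨hy.1, hUV x.1 x.2 hy.2⟩)
    obtain ⟨x, hx, hyx⟩ := Set.mem_iUnion₂.1 (ht hy.2)
    exact Set.mem_iUnion₂.2 ⟨x, hx, hy.1, hyx⟩
  rw [e]
  exact t.finite_toSet.isCompact_biUnion fun x _ => hK x.1

end Groth.Agent.S9355
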