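import Groth.Statements.S10309
import Groth.Agent.SpRelDim.Basic
import Groth.Agent.S9355

set_option autoImplicit false
universe u
open CategoryTheory CategoryTheory.Limits AlgebraicGeometry
open AlgSp

set_option backward.isDefEq.respectTransparency false

namespace Groth.Agent.S10309

/-- For f locally of finite presentation, the locus where the relative dimension is at most n is
retrocompact in |X|. -/
theorem result {S : Scheme.{u}} {X Y : AlgSp.Space S} (f : X ⟶ Y)
    (hf : AlgSp.LocP @LocallyOfFinitePresentation f.hom) (n : ℕ) (V : Set (AlgSp.Points X.obj))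
    (hV : IsOpen V) (hVc : IsCompact V) :
    IsCompact (V ∩ {x : AlgSp.Points X.obj |
      AlgSp.HasAtMor (fun _ _ h u => FlatMor.fibreDimAt h u ≤ (n : WithBot ℕ∞)) f.hom x}) := by
  open Groth.Agent.AlgSpLib Groth.Agent.SpQS in
  obtain ⟨U, W, a, b, h, ha, has, hb, comm⟩ := exists_chart_atlas X.property Y.property f.hom
  have : LocallyOfFinitePresentation h.left := hf a b h ha hb comm
  have hft : AlgSp.LocP @LocallyOfFiniteType f.hom := fun U' V' a' b' h' ha' hb' e =>
    have : LocallyOfFinitePresentation h'.left := hf a' b' h' ha' hb' e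
    inferInstance
  let ι := {O : U.left.Opens // IsAffineOpen O ∧ (O : Set U.left) ⊆ AlgSp.Points.ofPt a ⁻¹' V}
  have hcov : V ⊆ ⋃ O : ι, AlgSp.Points.ofPt a '' (O.1 : Set U.left) := fun x hx => by
    obtain ⟨u, rfl⟩ := Groth.Agent.AlgSpLib.ofPt_surjective has x
    obtain ⟨O, hO, huO, hle⟩ := exists_isAffineOpen_mem_and_subset
      (U := (⟨AlgSp.Points.ofPt a ⁻¹' V, hV.preimage (AlgSp.Points.continuous_ofPt a)⟩ : U.left.Opens)) (x := u) hx
    exact Set.mem_iUnion.2 ⟨⟨O, hO, hle⟩, u, huO, rfl⟩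
  obtain ⟨t, ht⟩ := hVc.elim_finite_subcover _
    (fun O : ι => Groth.Agent.AlgSpLib.isOpenMap_ofPt (Groth.Agent.AlgSpLib.repWith_universallyOpen_of_etale ha) _ O.1.2) hcov
  have e : V ∩ {x : AlgSp.Points X.obj | AlgSp.HasAtMor (fun _ _ h u => FlatMor.fibreDimAt h u ≤ (n : WithBot ℕ∞)) f.hom x} =
      ⋃ O ∈ t, AlgSp.Points.ofPt a '' ({u | FlatMor.fibreDimAt h.left u ≤ n} ∩ (O.1 : Set U.left)) := by
    have key := fun u => Groth.Agent.SpRelDim.hasAtMor_fibreDim_iff X.property Y.property f.hom hft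
      (fun e => e ≤ (n : WithBot ℕ∞)) ha hb comm (u := u) rfl
    refine Set.Subset.antisymm (fun x hx => ?_) (Set.iUnion₂_subset fun O hO => ?_)
    · obtain ⟨O, hO, u, hu, rfl⟩ := Set.mem_iUnion₂.1 (ht hx.1)
      exact Set.mem_iUnion₂.2 ⟨O, hO, u, ⟨(key u).1 hx.2, hu⟩, rfl⟩
    · rintro _ ⟨u, hu, rfl⟩
      exact ⟨O.2.2 hu.2, (key u).2 hu.1⟩
  rw [e]
  exact t.finite_toSet.isCompact_biUnion fun O _ =>
    ((Groth.Agent.S9355.result h.left n) O.2.1.isCompact O.1.2).image (AlgSp.Points.continuous_ofPt a)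

end Groth.Agent.S10309
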