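import Groth.Statements.S1031
import Groth.Agent.CohDerGen.Strong

set_option autoImplicit false
universe v u
open CategoryTheory
open CohDer

namespace Groth.Agent.S1031

/-- Let D be a triangulated category admitting a strong generator G (every object is reached from G by
shifts, finite sums, summands and a uniformly bounded number of extensions). Then every classical
generator E of D (every object reached from E with some finite number of extensions) is itself a
strong generator. -/
theorem result {D : Type u} [Category.{v} D] [Preadditive D] [Limits.HasZeroObject D] [HasShift D ℤ]
    [∀ n : ℤ, (shiftFunctor D n).Additive] [Pretriangulated D] [IsTriangulated D]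
    (G E : D) (hG : ObjectProperty.IsStrongTriangulatedGenerator (fun X : D => X = G))
    (hE : ObjectProperty.IsClassicalTriangulatedGenerator (fun X : D => X = E)) :
    ObjectProperty.IsStrongTriangulatedGenerator (fun X : D => X = E) := by
  have hEG : ObjectProperty.triangEnvelope (fun X : D => X = E) G :=
    (ObjectProperty.isClassicalTriangulatedGenerator_iff (fun X : D => X = E)).1 hE ▸ trivial
  obtain ⟨k, hk⟩ := (ObjectProperty.prop_triangEnvelope_iff _ _).1 hEG
  haveI : ObjectProperty.Nonempty (fun X : D => X = G) := ObjectProperty.nonempty_of_prop (rfl : (fun X : D => X = G) G)
  haveI : ObjectProperty.Nonempty (fun X : D => X = E) := ObjectProperty.nonempty_of_prop (rfl : (fun X : D => X = E) E)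
  exact Groth.Agent.CohDerGen.isStrongTriangulatedGenerator_of_classical _ _ k (fun X hX => by obtain rfl : X = G := hX; exact hk) hG

end Groth.Agent.S1031
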