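import Groth.Statements.S10310
import Groth.Agent.SpQS.QFAt

set_option autoImplicit false
universe u
open CategoryTheory CategoryTheory.Limits AlgebraicGeometry
open AlgSp

set_option backward.isDefEq.respectTransparency false

namespace Groth.Agent.S10310

/-- A morphism locally of finite type is locally quasi-finite if and only if it has relative dimension 0
at every point. -/
theorem result {S : Scheme.{u}} {X Y : AlgSp.Space S} (f : X ⟶ Y)
    (hf : AlgSp.LocP @LocallyOfFiniteType f.hom) :
    AlgSp.LocP (@LocallyQuasiFinite ⊓ @LocallyOfFiniteType) f.hom ↔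
      ∀ x : AlgSp.Points X.obj, AlgSp.HasAtMor (fun _ _ h u => FlatMor.fibreDimAt h u = 0) f.hom x := by
  obtain ⟨h'⟩ : Nonempty (AlgSp.IsAlgSpace X.obj → AlgSp.IsAlgSpace Y.obj →
      (AlgSp.LocP (@LocallyQuasiFinite ⊓ @LocallyOfFiniteType) f.hom ↔
        ∀ x : AlgSp.Points X.obj, AlgSp.HasAtMor (fun _ _ h u => FlatMor.fibreDimAt h u = 0) f.hom x)) :=
    ⟨fun hA hB => by
      rw [SpQS.locP_lqf_iff f.hom hf]
      exact forall_congr' fun x => (SpQS.hasAtMor_dim_zero_iff hA hB f.hom hf x).symm⟩
  exact h' X.property Y.property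

end Groth.Agent.S10310
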