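import Groth.Statements.S10313
import Groth.Agent.SpRelDim.Basic

set_option autoImplicit false
universe u
open CategoryTheory CategoryTheory.Limits AlgebraicGeometry
open AlgSp

set_option backward.isDefEq.respectTransparency false

namespace Groth.Agent.S10313

/-- For f locally of finite type there is an open subspace of X on which f is locally quasi-finite,
outside of which the relative dimension is at least 1, and whose formation commutes with base
change. -/
theorem result {S : Scheme.{u}} {X Y : AlgSp.Space S} (f : X ⟶ Y)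
    (hf : AlgSp.LocP @LocallyOfFiniteType f.hom) :
    ∃ (X' : AlgSp.Space S) (j : X' ⟶ X), AlgSp.RepWith @IsOpenImmersion j.hom ∧
      AlgSp.LocP (@LocallyQuasiFinite ⊓ @LocallyOfFiniteType) (j ≫ f).hom ∧
      (∀ x : AlgSp.Points X.obj, x ∉ Set.range (AlgSp.Points.map j.hom) →
        AlgSp.HasAtMor (fun _ _ h u => 1 ≤ FlatMor.fibreDimAt h u) f.hom x) ∧
      ∀ (Y'' X'' : AlgSp.Space S) (g : Y'' ⟶ Y) (b : X'' ⟶ X) (f'' : X'' ⟶ Y''),
        IsPullback b.hom f''.hom f.hom g.hom → ∀ x'' : AlgSp.Points X''.obj,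
          AlgSp.Points.map b.hom x'' ∈ Set.range (AlgSp.Points.map j.hom) ↔ AlgSp.HasAtMor (fun U _ h u => ∃ W : U.Opens, u ∈ W ∧ LocallyQuasiFinite (W.ι ≫ h) ∧ LocallyOfFiniteType (W.ι ≫ h)) f''.hom x'' := by
  open Groth.Agent.AlgSpLib Groth.Agent.SpQS in
  obtain ⟨hB, hje⟩ : IsOpen {x | QFAtPt f.hom x} ∧ IsEtaleMor (subInc {x | QFAtPt f.hom x}) := by
    have hB := isOpen_qfAtPt X.property Y.property f.hom hf
    exact ⟨hB, isEtaleMor_of_repWith' (repWith_mono
      (fun {A B} g (hg : IsOpenImmersion g) => (by have := hg; infer_instance : Etale g)) (repWith_subInc hB))⟩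
  open Groth.Agent.AlgSpLib Groth.Agent.SpQS in
  refine ⟨⟨subSheaf {x | QFAtPt f.hom x}, isAlgSpace_subSheaf X.property hB⟩, ObjectProperty.homMk (subInc _),
    repWith_subInc hB, fun U V a b h ha hb comm => ?_, fun x hx => ?_, fun Y'' X'' g b f'' sq x'' => ?_⟩
  · have ha' : AlgSp.RepWith @Etale (a ≫ Groth.Agent.AlgSpLib.subInc {x | Groth.Agent.SpQS.QFAtPt f.hom x}) := hje a ha
    have : LocallyOfFiniteType h.left := hf _ b h ha' hb (by rw [Category.assoc]; exact comm)
    refine ⟨LimDesc.locallyQuasiFinite_of_forall_quasiFiniteAt h.left fun u => ?_, this⟩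
    have hu : AlgSp.Points.ofPt (a ≫ Groth.Agent.AlgSpLib.subInc {x | Groth.Agent.SpQS.QFAtPt f.hom x}) u ∈
        {x | Groth.Agent.SpQS.QFAtPt f.hom x} := by
      rw [← AlgSp.Points.map_ofPt]
      exact Groth.Agent.AlgSpLib.map_subInc_mem _
    exact hu U V _ b h u ha' hb (by rw [Category.assoc]; exact comm) rfl
  · obtain ⟨U, V, a, c, h, u, ha, -, hc, comm, hu⟩ := Groth.Agent.SpRelDim.exists_chart_at X.property Y.property f.hom x
    refine ⟨U, V, a, c, h, u, ha, hc, comm, hu, ?_⟩
    have : LocallyOfFiniteType h.left := hf a c h ha hc comm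
    obtain ⟨e, he⟩ := Groth.Agent.Unibranch.exists_fibreDimAt_eq h.left u
    rcases Nat.eq_zero_or_pos e with rfl | h0
    · refine absurd ?_ hx
      erw [Groth.Agent.AlgSpLib.range_subInc]
      exact (Groth.Agent.SpQS.hasAtMor_dim_zero_iff X.property Y.property f.hom hf x).1 ⟨U, V, a, c, h, u, ha, hc, comm, hu, he⟩
    · show 1 ≤ FlatMor.fibreDimAt h.left u
      rw [he]; exact_mod_cast h0
  · erw [Groth.Agent.AlgSpLib.range_subInc]
    have hf'' := Groth.Agent.AlgSpLib.locP_baseChange Groth.Agent.AlgSpLib.etST_lft X.property Y.property X''.property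
      Y''.property sq hf
    rw [Groth.Agent.SpQS.hasAtMor_nhd_iff X''.property Y''.property f''.hom hf'',
      ← Groth.Agent.SpQS.hasAtMor_dim_zero_iff X''.property Y''.property f''.hom hf'',
      Groth.Agent.SpRelDim.hasAtMor_fibreDim_baseChange X.property Y.property X''.property Y''.property sq hf (fun e => e = 0),
      Groth.Agent.SpQS.hasAtMor_dim_zero_iff X.property Y.property f.hom hf]
    rfl

end Groth.Agent.S10313
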