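import Groth.Statements.S10314
import Groth.Agent.SpRelDim.LocalDim

set_option autoImplicit false
universe u
open CategoryTheory CategoryTheory.Limits AlgebraicGeometry
open AlgSp

set_option backward.isDefEq.respectTransparency false

namespace Groth.Agent.S10314

/-- For a flat morphism locally of finite type of relative dimension d between locally Noetherian
algebraic spaces, the dimension of X at a point equals the dimension of Y at the image point plus d. -/
theorem result {S : Scheme.{u}} {X Y : AlgSp.Space S} (f : X ⟶ Y)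
    (hX : AlgSp.IsLocNoethSp X.obj) (hY : AlgSp.IsLocNoethSp Y.obj) (hf : AlgSp.LocP @Flat f.hom)
    (hf' : AlgSp.LocP @LocallyOfFiniteType f.hom) (d : ℕ)
    (hd : ∀ x : AlgSp.Points X.obj, AlgSp.HasAtMor (fun _ _ h u => FlatMor.fibreDimAt h u = (d : WithBot ℕ∞)) f.hom x)
    (x : AlgSp.Points X.obj) (dX dY : WithBot ℕ∞) (hx : AlgSp.HasAt (fun U u => FlatMor.localDim ↥U u = dX) X.obj x)
    (hy : AlgSp.HasAt (fun U u => FlatMor.localDim ↥U u = dY) Y.obj (AlgSp.Points.map f.hom x)) :
    dX = dY + (d : WithBot ℕ∞) := by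
  obtain ⟨U, V, a, b, h, u, ha, hb, comm, hu, hVN, hUN⟩ :=
    Groth.Agent.SpRelDim.exists_noeth_chart X.property Y.property f.hom hf' hY x
  have : LocallyOfFiniteType h.left := hf' a b h ha hb comm
  have : Flat h.left := hf a b h ha hb comm
  have hy' : AlgSp.Points.ofPt b (h.left u) = AlgSp.Points.map f.hom x := by
    rw [← hu, AlgSp.Points.map_ofPt, comm, Groth.Agent.AlgSpLib.ofPt_comp]
  rw [← (Groth.Agent.SpRelDim.hasAt_localDim_iff X.property (fun e => e = dX) ha hu).1 hx,
    ← (Groth.Agent.SpRelDim.hasAt_localDim_iff Y.property (fun e => e = dY) hb hy').1 hy]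
  exact Groth.Agent.SpRelDim.localDim_eq_of_fibreDimAt h.left (fun v =>
    (Groth.Agent.SpRelDim.hasAtMor_fibreDim_iff X.property Y.property f.hom hf' (fun e => e = (d : WithBot ℕ∞)) ha hb comm
      rfl).1 (hd _)) u

end Groth.Agent.S10314
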