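import Groth.Statements.S10315
import Groth.Agent.SpRelDim.LocalDim

set_option autoImplicit false
universe u
open CategoryTheory CategoryTheory.Limits AlgebraicGeometry
open AlgSp

set_option backward.isDefEq.respectTransparency false

namespace Groth.Agent.S10315

/-- For a smooth morphism of locally Noetherian algebraic spaces, the dimension of X at x is the
dimension of Y at the image of x plus the relative dimension of f at x. -/
theorem result {S : Scheme.{u}} {X Y : AlgSp.Space S} (f : X ⟶ Y)
    (hX : AlgSp.IsLocNoethSp X.obj) (hY : AlgSp.IsLocNoethSp Y.obj) (hf : AlgSp.LocP @Smooth f.hom)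
    (x : AlgSp.Points X.obj) (d dX dY : WithBot ℕ∞)
    (hd : AlgSp.HasAtMor (fun _ _ h u => FlatMor.fibreDimAt h u = d) f.hom x)
    (hx : AlgSp.HasAt (fun U u => FlatMor.localDim ↥U u = dX) X.obj x)
    (hy : AlgSp.HasAt (fun U u => FlatMor.localDim ↥U u = dY) Y.obj (AlgSp.Points.map f.hom x)) :
    dX = dY + d := by
  have hf' : AlgSp.LocP @LocallyOfFiniteType f.hom := fun U V a b h ha hb e =>
    have : Smooth h.left := hf a b h ha hb e
    inferInstance
  obtain ⟨U, V, a, b, h, u, ha, hb, comm, hu, hVN, hUN⟩ :=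
    Groth.Agent.SpRelDim.exists_noeth_chart X.property Y.property f.hom hf' hY x
  have : Smooth h.left := hf a b h ha hb comm
  obtain ⟨W, j, w, n, hj, hw, hn⟩ := Groth.Agent.SpRelDim.exists_constant_fibreDim_of_smooth h.left u
  subst hw
  have hy' : AlgSp.Points.ofPt b (h.left (j w)) = AlgSp.Points.map f.hom x := by
    rw [← hu, AlgSp.Points.map_ofPt, comm, Groth.Agent.AlgSpLib.ofPt_comp]
  rw [← (Groth.Agent.SpRelDim.hasAt_localDim_iff X.property (fun e => e = dX) ha hu).1 hx,
    ← (Groth.Agent.SpRelDim.hasAt_localDim_iff Y.property (fun e => e = dY) hb hy').1 hy,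
    ← (Groth.Agent.SpRelDim.hasAtMor_fibreDim_iff X.property Y.property f.hom hf' (fun e => e = d) ha hb comm hu).1 hd,
    ← Groth.Agent.SpRelDim.fibreDimAt_etale_comp j h.left w, hn w, ← Groth.Agent.SpRelDim.localDim_eq_of_etale j w]
  have : IsLocallyNoetherian W := isLocallyNoetherian_of_isOpenImmersion j
  exact Groth.Agent.SpRelDim.localDim_eq_of_fibreDimAt (j ≫ h.left) hn w

end Groth.Agent.S10315
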