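import Groth.Statements.S10320
import Groth.Agent.SpRelDim.Basic
import Groth.Agent.SpRelDim.Trdeg

set_option autoImplicit false
universe u
open CategoryTheory CategoryTheory.Limits AlgebraicGeometry
open AlgSp

set_option backward.isDefEq.respectTransparency false

namespace Groth.Agent.S10320

/-- For f locally of finite type, the relative dimension of f at x equals the dimension of the local
ring of the fibre at x plus the transcendence degree of x over its image. -/
theorem result {S : Scheme.{u}} {X Y : AlgSp.Space S} (f : X ⟶ Y)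
    (hf : AlgSp.LocP @LocallyOfFiniteType f.hom) (x : AlgSp.Points X.obj) (d e : WithBot ℕ∞) (r : Cardinal.{u})
    (hd : AlgSp.HasAtMor (fun _ _ h u => FlatMor.fibreDimAt h u = d) f.hom x)
    (he : AlgSp.HasAtMor (fun _ _ h u => ringKrullDim ↥((h.fiber (h u)).presheaf.stalk (h.asFiber u)) = e) f.hom x)
    (hr : AlgSp.HasAtMor (fun _ _ h u => Dual3.resTrdeg h u = r) f.hom x) :
    d = e + ((Cardinal.toENat r : ℕ∞) : WithBot ℕ∞) := by
  obtain ⟨U, V, a, b, h, u, ha, hb, comm, hu, he⟩ := he
  obtain ⟨U', V', a', b', h', u', ha', hb', comm', hu', hd⟩ := hd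
  obtain ⟨U'', V'', a'', b'', h'', u'', ha'', hb'', comm'', hu'', hr⟩ := hr
  have : LocallyOfFiniteType h.left := hf a b h ha hb comm
  obtain ⟨e', δ, he', hδ, hD⟩ := Groth.Agent.SpRelDim.fibreDimAt_eq_add_resTrdeg h.left u
  rw [← hd, ← Groth.Agent.SpRelDim.fibreDimAt_chart_indep X.property Y.property f.hom hf ha hb comm ha' hb' comm'
      (hu.trans hu'.symm), hD, ← he, he', ← hr, ← Groth.Agent.SpQS.resTrdeg_chart_indep X.property Y.property f.hom ha hb comm
      ha'' hb'' comm'' (hu.trans hu''.symm), hδ, Cardinal.toENat_nat]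
  simp

end Groth.Agent.S10320
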