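import Groth.Statements.S10321
import Groth.Agent.LqfRep.Main

set_option autoImplicit false
universe u
open CategoryTheory CategoryTheory.Limits AlgebraicGeometry
open AlgSp

set_option backward.isDefEq.respectTransparency false

namespace Groth.Agent.S10321

/-- Let X be separated and locally quasi-finite over an affine scheme T, let T' -> T be etale with T'
affine, and let V' be an open subspace of T' ×_T X that is quasi-affine over T'. Then V' maps onto a
quasi-compact open subspace of X that is itself a scheme. -/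
theorem result {S : Scheme.{u}} {T T' : Over S} [IsAffine T.left]
    [IsAffine T'.left] (e : T' ⟶ T) [Etale e.left] {X P V' : AlgSp.Space S} (f : X ⟶ (AlgSp.ofScheme S).obj T)
    (hsep : AlgSp.IsSeparatedMor f.hom) (hqf : AlgSp.LocP (@LocallyQuasiFinite ⊓ @LocallyOfFiniteType) f.hom)
    (p1 : P ⟶ (AlgSp.ofScheme S).obj T') (p2 : P ⟶ X)
    (sq : IsPullback p2.hom p1.hom f.hom ((AlgSp.yon S).map e)) (j : V' ⟶ P)
    (hj : AlgSp.RepWith @IsOpenImmersion j.hom) (hqa : AlgSp.IsQuasiAffineMor (j ≫ p1).hom) :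
    ∃ (W : Over S) (i : (AlgSp.yon S).obj W ⟶ X.obj), AlgSp.RepWith @IsOpenImmersion i ∧ CompactSpace ↥W.left ∧
      Set.range (AlgSp.Points.map i) = Set.range (AlgSp.Points.map (j ≫ p2).hom) := by
  have heT : AlgSp.RepWith @Etale ((AlgSp.yon S).map e) := (Groth.Agent.AlgSpLib.repWith_yon_iff e).2 ‹_›
  have hp2 : AlgSp.IsEtaleMor p2.hom :=
    Groth.Agent.AlgSpLib.isEtaleMor_of_repWith' (Groth.Agent.AlgSpLib.repWith_baseChange sq.flip heT)
  have hje : AlgSp.IsEtaleMor j.hom := Groth.Agent.AlgSpLib.isEtaleMor_of_repWith'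
    (Groth.Agent.AlgSpLib.repWith_mono (P := @IsOpenImmersion) (Q := @Etale)
      (fun _ _ r hr => have : IsOpenImmersion r := hr; inferInstance) hj)
  have hq : AlgSp.IsEtaleMor (j ≫ p2).hom := fun U φ hφ => by
    show AlgSp.RepWith @Etale (φ ≫ j.hom ≫ p2.hom)
    rw [← Category.assoc]
    exact hp2 _ (hje φ hφ)
  obtain ⟨X₀, ⟨φ⟩⟩ := Groth.Agent.LqfRep.exists_iso_yon_of_lqf_separated X.property f.hom hqf hsep
  -- `V'` is quasi-compact
  obtain ⟨V₀, i₀, fst₀, sq₀, hV₀⟩ := hqa (Z := T') inferInstance (𝟙 _)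
  have : IsIso fst₀ := sq₀.isIso_fst_of_isIso
  have : CompactSpace ↥V₀.left := hV₀.toCompactSpace
  have : CompactSpace (AlgSp.Points ((AlgSp.yon S).obj V₀)) := (AlgSp.Points.schemeHomeo _).compactSpace
  have hcV : IsCompact (Set.range (AlgSp.Points.map (fst₀ ≫ (j ≫ p2).hom ≫ φ.hom))) :=
    isCompact_range (AlgSp.Points.continuous_map _)
  have hfl := (Groth.Agent.AlgSpLib.isEtaleMor_iff_locP X.property).1 hq
  have hopenq : IsOpen (Set.range (AlgSp.Points.map (j ≫ p2).hom)) := by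
    rw [← Set.image_univ]
    exact Groth.Agent.AlgSpLib.isOpenMap_map_of_flat_lfp V'.property X.property _
      (fun _ _ a b h ha hb c => Groth.Agent.AlgSpLib.etST_flat.of_etale _ (hfl a b h ha hb c))
      (fun _ _ a b h ha hb c => Groth.Agent.AlgSpLib.etST_lfp.of_etale _ (hfl a b h ha hb c)) _ isOpen_univ
  let O : X₀.left.Opens := ⟨AlgSp.Points.ofScheme X₀ ⁻¹' (AlgSp.Points.map φ.inv ⁻¹'
    Set.range (AlgSp.Points.map (j ≫ p2).hom)),
    (hopenq.preimage (AlgSp.Points.continuous_map _)).preimage (AlgSp.Points.continuous_ofPt _)⟩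
  let W : Over S := Over.mk (O.ι ≫ X₀.hom)
  let w : W ⟶ X₀ := Over.homMk O.ι rfl
  refine ⟨W, (AlgSp.yon S).map w ≫ φ.inv, ?_, ?_, ?_⟩
  · exact (Groth.Agent.AlgSpLib.repWith_comp_iso_iff _ _).2
      ((Groth.Agent.AlgSpLib.repWith_yon_iff w).2 (inferInstanceAs (IsOpenImmersion O.ι)))
  · have hO : (O : Set ↥X₀.left) =
        (AlgSp.Points.schemeHomeo X₀).symm '' Set.range (AlgSp.Points.map (fst₀ ≫ (j ≫ p2).hom ≫ φ.hom)) := by
      ext x
      constructor
      · rintro ⟨y, hy⟩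
        refine ⟨AlgSp.Points.ofScheme X₀ x, ⟨AlgSp.Points.map (inv fst₀) y, ?_⟩, (AlgSp.Points.schemeHomeo X₀).symm_apply_apply x⟩
        rw [← AlgSp.Points.map_comp, IsIso.inv_hom_id_assoc, AlgSp.Points.map_comp, hy, ← AlgSp.Points.map_comp,
          φ.inv_hom_id, AlgSp.Points.map_id]
      · rintro ⟨_, ⟨y, rfl⟩, rfl⟩
        show AlgSp.Points.map φ.inv (AlgSp.Points.schemeHomeo X₀ ((AlgSp.Points.schemeHomeo X₀).symm
          (AlgSp.Points.map (fst₀ ≫ (j ≫ p2).hom ≫ φ.hom) y))) ∈ Set.range (AlgSp.Points.map (j ≫ p2).hom)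
        rw [Homeomorph.apply_symm_apply, ← AlgSp.Points.map_comp, Category.assoc, Category.assoc, φ.hom_inv_id,
          Category.comp_id, AlgSp.Points.map_comp]
        exact ⟨_, rfl⟩
    show CompactSpace (O : Set ↥X₀.left)
    rw [← isCompact_iff_compactSpace, hO]
    exact hcV.image (Homeomorph.continuous _)
  · ext x
    rw [Set.mem_range, Set.mem_range]
    constructor
    · rintro ⟨y, rfl⟩
      obtain ⟨⟨z, hz⟩, rfl⟩ := (AlgSp.Points.schemeEquiv W).surjective y
      obtain ⟨v, hv⟩ := hz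
      refine ⟨v, hv.trans ?_⟩
      show _ = AlgSp.Points.map ((AlgSp.yon S).map w ≫ φ.inv) (AlgSp.Points.ofScheme W _)
      rw [AlgSp.Points.map_comp, AlgSp.Points.map_ofPt _ ((AlgSp.yon S).map w), Category.id_comp,
        Groth.Agent.AlgSpLib.ofScheme_map]
      rfl
    · rintro ⟨v, rfl⟩
      obtain ⟨z, hz⟩ := (AlgSp.Points.schemeEquiv X₀).surjective
        (AlgSp.Points.map φ.hom (AlgSp.Points.map (j ≫ p2).hom v))
      have hzO : z ∈ O := ⟨v, by
        show _ = AlgSp.Points.map φ.inv ((AlgSp.Points.schemeEquiv X₀) z)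
        rw [hz, ← AlgSp.Points.map_comp, φ.hom_inv_id, AlgSp.Points.map_id]⟩
      refine ⟨AlgSp.Points.ofScheme W ⟨z, hzO⟩, ?_⟩
      rw [AlgSp.Points.map_comp, AlgSp.Points.map_ofPt _ ((AlgSp.yon S).map w), Category.id_comp,
        Groth.Agent.AlgSpLib.ofScheme_map]
      show AlgSp.Points.map φ.inv ((AlgSp.Points.schemeEquiv X₀) z) = _
      rw [hz, ← AlgSp.Points.map_comp, φ.hom_inv_id, AlgSp.Points.map_id]

end Groth.Agent.S10321
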