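import Groth.Statements.S10327
import Groth.Agent.ValLib.EtLift

set_option autoImplicit false
universe u
open CategoryTheory CategoryTheory.Limits AlgebraicGeometry
open AlgSp

set_option backward.isDefEq.respectTransparency false

namespace Groth.Agent.S10327

/-- For f quasi-compact and quasi-separated, f is separated and universally closed if and only if the
valuative criterion holds, if and only if every valuative square has a unique lift. -/
theorem result {S : Scheme.{u}} {X Y : AlgSp.Space S} (f : X ⟶ Y)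
    (hqc : AlgSp.IsQuasiCompactMor f.hom) (hqs : AlgSp.IsQuasiSeparatedMor f.hom) :
    ((AlgSp.IsSeparatedMor f.hom ∧ AlgSp.IsUnivClosedMor f.hom) ↔ AlgSp.VC f.hom) ∧
    ((AlgSp.IsSeparatedMor f.hom ∧ AlgSp.IsUnivClosedMor f.hom) ↔
      (AlgSp.UniqVC f.hom ∧ AlgSp.ExistVCStrict f.hom)) := by
  have hX := X.property
  have hY := Y.property
  have h1 : AlgSp.IsSeparatedMor f.hom ∧ AlgSp.IsUnivClosedMor f.hom → AlgSp.VC f.hom := fun h =>
    ⟨Groth.Agent.ValLib.uniqVC_of_separated f.hom h.1, fun sq =>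
      (Groth.Agent.ValLib.existVC_of_univClosed_quasiSeparated hX hY f.hom hqs h.2 sq).imp fun e he => he.2⟩
  have h2 : AlgSp.VC f.hom → AlgSp.IsSeparatedMor f.hom ∧ AlgSp.IsUnivClosedMor f.hom := fun h =>
    ⟨Groth.Agent.ValLib.isSeparatedMor_of_uniqVC hX hY f.hom hqs h.1,
      Groth.Agent.ValLib.isUnivClosedMor_of_existVC hX hY f.hom hqc h.2⟩
  refine ⟨⟨h1, h2⟩, ⟨fun h => ⟨(h1 h).1, ?_⟩, fun h => h2 ⟨h.1, fun sq => Groth.Agent.ValLib.hasLiftExt_of_hasLift (h.2 sq)⟩⟩⟩
  exact (Groth.Agent.ValLib.existVC_iff_strict_of_separated hX hY f.hom h.1).1 (h1 h).2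

end Groth.Agent.S10327
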