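import Groth.Statements.S10328
import Groth.Agent.SpRelDim.Basic
import Groth.Agent.S9354

set_option autoImplicit false
universe u
open CategoryTheory CategoryTheory.Limits AlgebraicGeometry
open AlgSp

set_option backward.isDefEq.respectTransparency false

namespace Groth.Agent.S10328

/-- The relative dimension of a composite at a point is at most the sum of the relative dimensions, with
equality when the first morphism is flat at the point. (The published part (2) allows more generally
flatness of a fibre of X -> Y over a field point of Z; only the case f flat at x is stated.) -/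
theorem result {S : Scheme.{u}} {X Y Z : AlgSp.Space S} (f : X ⟶ Y) (g : Y ⟶ Z)
    (hf : AlgSp.LocP @LocallyOfFiniteType f.hom) (hg : AlgSp.LocP @LocallyOfFiniteType g.hom)
    (x : AlgSp.Points X.obj) (a b : WithBot ℕ∞)
    (ha : AlgSp.HasAtMor (fun _ _ h u => FlatMor.fibreDimAt h u = a) f.hom x)
    (hb : AlgSp.HasAtMor (fun _ _ h u => FlatMor.fibreDimAt h u = b) g.hom (AlgSp.Points.map f.hom x)) :
    AlgSp.HasAtMor (fun _ _ h u => FlatMor.fibreDimAt h u ≤ a + b) (f ≫ g).hom x ∧
    (AlgSp.IsFlatAtMor f.hom x → AlgSp.HasAtMor (fun _ _ h u => FlatMor.fibreDimAt h u = a + b) (f ≫ g).hom x) := by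
  open Groth.Agent.AlgSpLib in
  obtain ⟨W, c, hc, hcs⟩ := Z.property.atlas
  open Groth.Agent.AlgSpLib in
  obtain ⟨V, q, m, hq, hqs, hm⟩ := exists_chart_lift Y.property Z.property g.hom hc hcs
  open Groth.Agent.AlgSpLib in
  obtain ⟨U, p, k, hp, hps, hk⟩ := exists_chart_lift X.property Y.property f.hom hq hqs
  obtain ⟨u, hu⟩ := Groth.Agent.AlgSpLib.ofPt_surjective hps x
  have hu' : AlgSp.Points.ofPt q (k.left u) = AlgSp.Points.map f.hom x := by
    rw [← hu, AlgSp.Points.map_ofPt, hk, Groth.Agent.AlgSpLib.ofPt_comp]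
  have : LocallyOfFiniteType k.left := hf p q k hp hq hk
  have : LocallyOfFiniteType m.left := hg q c m hq hc hm
  have ha' := (Groth.Agent.SpRelDim.hasAtMor_fibreDim_iff X.property Y.property f.hom hf (fun e => e = a) hp hq hk hu).1 ha
  have hb' := (Groth.Agent.SpRelDim.hasAtMor_fibreDim_iff Y.property Z.property g.hom hg (fun e => e = b) hq hc hm hu').1 hb
  have comm : p ≫ (f ≫ g).hom = (AlgSp.yon S).map (k ≫ m) ≫ c := by
    show p ≫ f.hom ≫ g.hom = _
    rw [reassoc_of% hk, hm, Functor.map_comp, Category.assoc]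
  obtain ⟨h1, h2⟩ := Groth.Agent.S9354.result k.left m.left u
  beta_reduce at ha' hb'
  rw [ha', hb'] at h1 h2
  exact ⟨⟨U, W, p, c, k ≫ m, u, hp, hc, comm, hu, h1⟩,
    fun hfl => ⟨U, W, p, c, k ≫ m, u, hp, hc, comm, hu, h2 (hfl p q k u hp hq hk hu)⟩⟩

end Groth.Agent.S10328
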