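import Groth.Statements.S1033
import Mathlib.Algebra.Homology.DerivedCategory.Ext.ExactSequences
import Mathlib.Algebra.Homology.DerivedCategory.Fractions

set_option autoImplicit false
universe w v u
open CategoryTheory CategoryTheory.Abelian
open CohDer

namespace Groth.Agent.S1033

section

open Limits

variable {A : Type u} [Category.{v} A] [Abelian A]

lemma epi_f_of_quasiIso_single (B : A) (K : CochainComplex A ℤ) [K.IsStrictlyLE 0]
    (s : K ⟶ (CochainComplex.singleFunctor A 0).obj B) [QuasiIso s] : Epi (s.f 0) := by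
  have hd : ((CochainComplex.singleFunctor A 0).obj B).d 0 1 = 0 :=
    (HomologicalComplex.isZero_single_obj_X (ComplexShape.up ℤ) 0 B 1 (by norm_num)).eq_of_tgt _ _
  have hd' : ((CochainComplex.singleFunctor A 0).obj B).d (-1) 0 = 0 :=
    (HomologicalComplex.isZero_single_obj_X (ComplexShape.up ℤ) 0 B (-1) (by norm_num)).eq_of_src _ _
  let L := (CochainComplex.singleFunctor A 0).obj B
  have : IsIso (L.homologyπ 0) := L.isIso_homologyπ (-1) 0 (by simp) hd'
  have : IsIso (L.iCycles 0) := L.isIso_iCycles 0 1 (by simp) hd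
  have h1 : Epi (HomologicalComplex.cyclesMap s 0) := by
    have : Epi (HomologicalComplex.cyclesMap s 0 ≫ L.homologyπ 0) := by
      rw [← HomologicalComplex.homologyπ_naturality]
      infer_instance
    exact (epi_comp_iff_of_isIso _ (L.homologyπ 0)).1 this
  have : Epi (K.iCycles 0 ≫ s.f 0) := by
    rw [← HomologicalComplex.cyclesMap_i]
    exact epi_comp _ _
  exact epi_of_epi (K.iCycles 0) _

variable [HasExt.{w} A]

open DerivedCategory in
lemma exists_epi_comp_eq_zero {B C : A} {n : ℕ} (x : Ext B C (n + 1)) :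
    ∃ (E : A) (π : E ⟶ B) (_ : Epi π), (Ext.mk₀ π).comp x (zero_add _) = 0 := by
  let := HasDerivedCategory.standard A
  let e : ((singleFunctor A 0).obj C)⟦((n + 1 : ℕ) : ℤ)⟧ ≅
      Q.obj ((CochainComplex.singleFunctor A (-((n + 1 : ℕ) : ℤ))).obj C) :=
    (SingleFunctors.shiftIso (singleFunctors A) ((n + 1 : ℕ) : ℤ) (-((n + 1 : ℕ) : ℤ)) 0 (by simp)).app C
  let f : Q.obj ((CochainComplex.singleFunctor A 0).obj B) ⟶
      Q.obj ((CochainComplex.singleFunctor A (-((n + 1 : ℕ) : ℤ))).obj C) := x.hom ≫ e.hom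
  obtain ⟨K, hK, s, hs, g, hf⟩ := right_fac_of_isStrictlyLE f 0
  have : QuasiIso s := (DerivedCategory.isIso_Q_map_iff_quasiIso (C := A) s).1 hs
  let i : (CochainComplex.singleFunctor A 0).obj (K.X 0) ⟶ K :=
    HomologicalComplex.mkHomFromSingle (𝟙 (K.X 0)) (fun j hj => by
      have h1 : (0 : ℤ) + 1 = j := by simpa using hj
      exact (K.isZero_of_isStrictlyLE 0 j (by omega)).eq_of_tgt _ _)
  let π : K.X 0 ⟶ B := s.f 0 ≫ (HomologicalComplex.singleObjXSelf (ComplexShape.up ℤ) 0 B).hom
  have hepi : Epi π := by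
    have := epi_f_of_quasiIso_single B K s
    exact epi_comp _ _
  have h1 : (CochainComplex.singleFunctor A 0).map π = i ≫ s :=
    HomologicalComplex.from_single_hom_ext (by
      simp [i, π, CochainComplex.singleFunctor, CochainComplex.singleFunctors, HomologicalComplex.single_map_f_self])
  have h2 : i ≫ g = 0 := HomologicalComplex.from_single_hom_ext
    ((HomologicalComplex.isZero_single_obj_X (ComplexShape.up ℤ) _ C 0 (by omega)).eq_of_tgt _ _)
  have h3 : Q.map ((CochainComplex.singleFunctor A 0).map π) ≫ f = 0 := by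
    rw [hf, h1, Q.map_comp, Category.assoc, IsIso.hom_inv_id_assoc, ← Q.map_comp, h2, Q.map_zero]
  refine ⟨K.X 0, π, hepi, Ext.ext ?_⟩
  rw [Ext.comp_hom, Ext.mk₀_hom, ShiftedHom.mk₀_comp, Ext.zero_hom, ← cancel_mono e.hom]
  exact ((Category.assoc _ _ _).trans h3).trans zero_comp.symm

end

/-- Let A be an abelian category (with Ext groups in some universe) and p ≥ 0. If Extᵖ(B, C) = 0 for all
objects B, C, then Extⁱ(B, C) = 0 for all i ≥ p and all B, C. -/
theorem result {A : Type u} [Category.{v} A] [Abelian A] [HasExt.{w} A] (p : ℕ)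
    (h : ∀ (B C : A) (x : Ext B C p), x = 0) (i : ℕ) (hi : p ≤ i) (B C : A) (x : Ext B C i) : x = 0 := by
  obtain ⟨k, rfl⟩ := Nat.exists_eq_add_of_le hi
  induction k generalizing B C with
  | zero => exact h B C x
  | succ k ih =>
    obtain ⟨E, π, hπ, hx⟩ := exists_epi_comp_eq_zero (n := p + k) x
    let S : ShortComplex A := ShortComplex.mk (Limits.kernel.ι π) π (Limits.kernel.condition π)
    have hS : S.ShortExact :=
      { exact := ShortComplex.exact_of_f_is_kernel S (Limits.kernelIsKernel π) }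
    obtain ⟨y, rfl⟩ := Ext.contravariant_sequence_exact₃ hS C x hx (n₀ := p + k) (by omega)
    rw [ih _ _ (Nat.le_add_right p k) y, Ext.comp_zero]

end Groth.Agent.S1033
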