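import Groth.Agent.AlgSpLib.ZarLocal
import Groth.Prelude.Def_AlgSpMor5
import Groth.Prelude.Def_AlgSpCov

set_option autoImplicit false
universe u
open CategoryTheory CategoryTheory.Limits AlgebraicGeometry
open AlgSp

set_option backward.isDefEq.respectTransparency false

namespace Groth.Agent.S10336

/-- Integrality, finiteness and finite local freeness of a morphism f : X -> Y of algebraic spaces over
S can be checked on the restrictions of f over the members of a Zariski covering of Y by open
subspaces. -/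
theorem result {S : Scheme.{u}} {X Y : AlgSp.Space S} (f : X ⟶ Y) {ι : Type u}
    (Yi : ι → AlgSp.Space S) (j : ∀ i, Yi i ⟶ Y) (hj : AlgSp.IsZarCover (fun i => (Yi i).obj) (fun i => (j i).hom))
    (Xi : ι → AlgSp.Sp S) (p : ∀ i, Xi i ⟶ X.obj) (q : ∀ i, Xi i ⟶ (Yi i).obj)
    (sq : ∀ i, IsPullback (p i) (q i) f.hom (j i).hom) :
    ((∀ i, AlgSp.IsIntegralMor (q i)) → AlgSp.IsIntegralMor f.hom) ∧
    ((∀ i, AlgSp.IsFiniteMor (q i)) → AlgSp.IsFiniteMor f.hom) ∧
    ((∀ i, AlgSp.IsFinLocFreeMor (q i)) → AlgSp.IsFinLocFreeMor f.hom) := by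
  have hY := Y.property
  have hYi : ∀ i, AlgSp.IsAlgSpace (Yi i).obj := fun i => (Yi i).property
  refine ⟨fun h => ?_, fun h => ?_, fun h => ?_⟩
  · exact (AlgSpLib.isIntegralMor_iff_repWith _).2 (AlgSpLib.repWith_of_zarCover @IsIntegralHom (fun _ _ r hr => by
      have : IsIntegralHom r := hr; exact AlgSpLib.indQA_of_isAffineHom r)
      X.property hY hYi hj f.hom Xi p q sq fun i => (AlgSpLib.isIntegralMor_iff_repWith _).1 (h i))
  · exact (AlgSpLib.isFiniteMor_iff_repWith _).2 (AlgSpLib.repWith_of_zarCover @IsFinite (fun _ _ r hr => by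
      have : IsFinite r := hr; exact AlgSpLib.indQA_of_isAffineHom r)
      X.property hY hYi hj f.hom Xi p q sq fun i => (AlgSpLib.isFiniteMor_iff_repWith _).1 (h i))
  · exact AlgSpLib.repWith_of_zarCover AlgSp.finLocFree (fun _ _ r hr => by
      have := hr.1; exact AlgSpLib.indQA_of_isAffineHom r)
      X.property hY hYi hj f.hom Xi p q sq h

end Groth.Agent.S10336
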