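import Groth.Statements.S10337
import Groth.Agent.SpQS.SchOpen

set_option autoImplicit false
universe u
open CategoryTheory CategoryTheory.Limits AlgebraicGeometry Topology TopologicalSpace
open AlgSp

set_option backward.isDefEq.respectTransparency false

namespace Groth.Agent.S10337

/-- For a scheme S, a decent algebraic space X over S contains a dense open subspace that is a scheme:
there is an open subspace X' ⟶ X whose underlying sheaf is representable by a scheme and whose set
of points is dense in |X|. -/
theorem result {S : Scheme.{u}} (X : AlgSp.Space S)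
    (hX : AlgSp.IsDecent X.obj) :
    ∃ (X' : AlgSp.Space S) (j : X' ⟶ X), AlgSp.RepWith @IsOpenImmersion j.hom ∧ X'.obj.obj.IsRepresentable ∧
      Dense (Set.range (AlgSp.Points.map j.hom)) := by
  obtain ⟨h⟩ : Nonempty (AlgSp.IsAlgSpace X.obj → ∃ (X' : AlgSp.Sp S) (j : X' ⟶ X.obj), AlgSp.IsAlgSpace X' ∧
      AlgSp.RepWith @IsOpenImmersion j ∧ (∃ W : Over S, Nonempty (X' ≅ (AlgSp.yon S).obj W)) ∧
        Dense (Set.range (AlgSp.Points.map j))) := ⟨fun hA => SpQS.exists_dense_scheme hA hX⟩
  obtain ⟨X', j, hX', hj, ⟨W, ⟨e⟩⟩, hd⟩ := h X.property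
  exact ⟨⟨X', hX'⟩, ObjectProperty.homMk j, hj, (AlgSp.representableByOfIso e.symm).isRepresentable, hd⟩

end Groth.Agent.S10337
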