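import Groth.Statements.S10338
import Groth.Agent.SpQS.DiagGood

set_option autoImplicit false
universe u
open CategoryTheory CategoryTheory.Limits AlgebraicGeometry Topology TopologicalSpace
open AlgSp

set_option backward.isDefEq.respectTransparency false

namespace Groth.Agent.S10338

/-- For a decent algebraic space X over a scheme S the topological space |X| is Kolmogorov (T0). -/
theorem result {S : Scheme.{u}} (X : AlgSp.Space S) (hX : AlgSp.IsDecent X.obj) :
    T0Space (AlgSp.Points X.obj) := by
  obtain ⟨h⟩ : Nonempty (AlgSp.IsAlgSpace X.obj → T0Space (AlgSp.Points X.obj)) := ⟨fun hA => by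
    refine SpQS.t0Space_points hA fun x => ?_
    obtain ⟨U, a, u, hU, ha, hu, -⟩ := SpQS.exists_affine_chart_at hA x
    exact ⟨U, a, hU, ha, SpQS.compactFibres_of_good (SpQS.goodAt_of_isDecent hA hX) ha, u, hu⟩⟩
  exact h X.property

end Groth.Agent.S10338
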