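import Groth.Statements.S10339
import Groth.Agent.SpQS.Sober
import Groth.Agent.ValLib.DecentX

set_option autoImplicit false
universe u
open CategoryTheory CategoryTheory.Limits AlgebraicGeometry Topology TopologicalSpace
open AlgSp

set_option backward.isDefEq.respectTransparency false

namespace Groth.Agent.S10339

/-- For a scheme S and a decent algebraic space X over S, every irreducible closed subset of |X| is the
closure of some point. (The published statement says that |X| is sober; this row states only the
existence of generic points, their uniqueness being the Kolmogorov property of |X|, a separate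
statement.) -/
theorem result {S : Scheme.{u}} (X : AlgSp.Space S) (hX : AlgSp.IsDecent X.obj) :
    QuasiSober (AlgSp.Points X.obj) := by
  obtain ⟨h⟩ : Nonempty (AlgSp.IsAlgSpace X.obj → QuasiSober (AlgSp.Points X.obj)) := ⟨fun hA => by
    refine SpQS.quasiSober_points hA fun x => ?_
    obtain ⟨U, π, ι, O, hπ, hπs, hO, -, hcov⟩ := AlgSpLib.exists_affine_chart_family hA
    obtain ⟨u, rfl⟩ := AlgSpLib.ofPt_surjective hπs x
    obtain ⟨i, hi⟩ := hcov u
    let W : Over S := Over.mk ((O i).ι ≫ U.hom)
    let inc : W ⟶ U := Over.homMk (O i).ι rfl
    have : IsAffine W.left := (hO i : IsAffine (O i).toScheme)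
    refine ⟨W, (AlgSp.yon S).map inc ≫ π, this,
      AlgSpLib.repWith_comp ((AlgSpLib.repWith_yon_iff _).2 (show Etale (O i).ι from inferInstance)) hπ,
      fun str y V p q sq => ValLib.compactSpace_fibre hA hX y sq, ⟨⟨u, hi⟩, ?_⟩⟩
    rw [AlgSpLib.ofPt_comp]
    rfl⟩
  exact h X.property

end Groth.Agent.S10339
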