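import Groth.Statements.S10342
import Groth.Agent.SpQS.GenPts

set_option autoImplicit false
universe u
open CategoryTheory CategoryTheory.Limits AlgebraicGeometry Topology TopologicalSpace
open AlgSp

set_option backward.isDefEq.respectTransparency false

namespace Groth.Agent.S10342

/-- Let X be a locally Noetherian algebraic space over a scheme S and a : h_U ⟶ X a representable etale
map from a scheme U. If two points u, u' of U have the same image in |X| and u' specializes to u,
then u = u'. -/
theorem result {S : Scheme.{u}} (X : AlgSp.Space S)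
    (hX : AlgSp.IsLocNoethSp X.obj) {U : Over S} (a : (AlgSp.yon S).obj U ⟶ X.obj) (ha : AlgSp.RepWith @Etale a)
    (u u' : ↥U.left) (he : AlgSp.Points.ofPt a u = AlgSp.Points.ofPt a u') (hs : u' ⤳ u) : u = u' := by
  obtain ⟨key⟩ : Nonempty (AlgSp.IsAlgSpace X.obj → u = u') := ⟨fun hA => by
    obtain ⟨V, π, hπ, hπs, hV⟩ := hX
    have : IsLocallyNoetherian V.left := hV
    obtain ⟨W, p, q, sq⟩ := AlgSpLib.exists_pullback hA.diag a π
    have : Etale q.left := (AlgSpLib.repWith_yon_iff q).1 (AlgSpLib.repWith_baseChange sq ha)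
    have : Etale p.left := (AlgSpLib.repWith_yon_iff p).1 (AlgSpLib.repWith_baseChange sq.flip hπ)
    have : Surjective p.left := (AlgSpLib.repWith_yon_iff p).1 (AlgSpLib.repWith_baseChange sq.flip hπs)
    have : IsLocallyNoetherian W.left := LocallyOfFiniteType.isLocallyNoetherian q.left
    obtain ⟨w, hw⟩ := p.left.surjective u
    obtain ⟨w', hw', hpw⟩ := Flat.generalizingMap p.left (show u' ⤳ p.left w by rw [hw]; exact hs)
    have e := SpQS.eq_of_specializes_of_locNoeth hA (a := (AlgSp.yon S).map p ≫ a)
      (AlgSpLib.repWith_comp ((AlgSpLib.repWith_yon_iff p).2 ‹Etale p.left›) ha) (u := w) (u' := w')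
      (by rw [AlgSpLib.ofPt_comp, AlgSpLib.ofPt_comp, hw, hpw]; exact he) hw'
    rw [← hw, ← hpw, e]⟩
  exact key X.property

end Groth.Agent.S10342
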