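import Groth.Statements.S10344
import Groth.Agent.SpQS.DecentProps

set_option autoImplicit false
universe u
open CategoryTheory CategoryTheory.Limits AlgebraicGeometry Topology TopologicalSpace
open AlgSp

set_option backward.isDefEq.respectTransparency false

namespace Groth.Agent.S10344

/-- Let S be a scheme, Y and X algebraic spaces over S, and f : Y ⟶ X a flat morphism, and let x' ⤳ x be
a specialization in |X|, where x' is represented by a monomorphism Spec k ⟶ X which is representable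
quasi-compact (for instance X decent). Then generalizations lift along f at x: every y ∈ |Y| over x
has a generization y' over x'. -/
theorem result {S : Scheme.{u}} {X Y : AlgSp.Space S} (f : Y ⟶ X)
    (hf : AlgSp.LocP @Flat f.hom) (x x' : AlgSp.Points X.obj) (h : x' ⤳ x)
    (hx' : ∃ p : AlgSp.FieldPt X.obj, AlgSp.Points.mk p = x' ∧ Mono p.toHom ∧ AlgSp.RepWith @QuasiCompact p.toHom)
    (y : AlgSp.Points Y.obj) (hy : AlgSp.Points.map f.hom y = x) :
    ∃ y' : AlgSp.Points Y.obj, y' ⤳ y ∧ AlgSp.Points.map f.hom y' = x' := by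
  obtain ⟨h'⟩ : Nonempty (AlgSp.IsAlgSpace X.obj → AlgSp.IsAlgSpace Y.obj →
      ∃ y' : AlgSp.Points Y.obj, y' ⤳ y ∧ AlgSp.Points.map f.hom y' = x') := ⟨fun hX hY => by
    obtain ⟨p, hp, -, hq⟩ := hx'
    obtain ⟨U, π, hπ, hπs⟩ := hX.atlas
    obtain ⟨u, hu⟩ := AlgSpLib.ofPt_surjective hπs x
    obtain ⟨V, b, v, hV, hb, hv, -⟩ := SpQS.exists_affine_chart_at hY y
    obtain ⟨W, w₁, w₂, sqW⟩ := AlgSpLib.exists_pullback hX.diag (b ≫ f.hom) π
    have hwe : AlgSp.RepWith @Etale ((AlgSp.yon S).map w₁ ≫ b) :=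
      AlgSpLib.repWith_comp (AlgSpLib.repWith_baseChange sqW.flip hπ) hb
    have : Flat w₂.left := hf _ π w₂ hwe hπ (by rw [Category.assoc]; exact sqW.w)
    obtain ⟨w, hw₁, hw₂⟩ := (AlgSpLib.ofPt_eq_iff sqW v u).1 (by
      rw [← AlgSp.Points.map_ofPt, hv, hy, hu])
    obtain ⟨u', hu', hu'x⟩ := SpQS.exists_specializes_lift hX (hp ▸ SpQS.goodAt_of_qc hX p hq) h hπ u hu
    obtain ⟨w', hw', hww⟩ := Flat.generalizingMap w₂.left (show u' ⤳ w₂.left w by rw [hw₂]; exact hu')
    refine ⟨AlgSp.Points.ofPt ((AlgSp.yon S).map w₁ ≫ b) w', ?_, ?_⟩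
    · have h1 := hw'.map (AlgSp.Points.continuous_ofPt ((AlgSp.yon S).map w₁ ≫ b))
      rwa [show AlgSp.Points.ofPt ((AlgSp.yon S).map w₁ ≫ b) w = y by
        rw [AlgSpLib.ofPt_comp, hw₁, hv]] at h1
    · rw [AlgSp.Points.map_ofPt, Category.assoc, sqW.w, AlgSpLib.ofPt_comp, hww, hu'x]⟩
  exact h' X.property Y.property

end Groth.Agent.S10344
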