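import Groth.Statements.S10353
import Groth.Agent.SpQS.DecentPoint

set_option autoImplicit false
universe u
open CategoryTheory CategoryTheory.Limits AlgebraicGeometry Topology TopologicalSpace
open AlgSp

set_option backward.isDefEq.respectTransparency false

namespace Groth.Agent.S10353

/-- Let X be an algebraic space over a scheme S and suppose there is a finite, etale, surjective map h_U
⟶ X from a scheme U. Then some dense open subspace of X is a scheme: an open subspace X' ⟶ X with
representable underlying sheaf and |X'| dense in |X|. -/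
theorem result {S : Scheme.{u}} (X : AlgSp.Space S)
    {U : Over S} (a : (AlgSp.yon S).obj U ⟶ X.obj) (hf : AlgSp.RepWith @IsFinite a) (he : AlgSp.RepWith @Etale a)
    (hs : AlgSp.RepWith @Surjective a) :
    ∃ (X' : AlgSp.Space S) (j : X' ⟶ X), AlgSp.RepWith @IsOpenImmersion j.hom ∧ X'.obj.obj.IsRepresentable ∧
      Dense (Set.range (AlgSp.Points.map j.hom)) := by
  obtain ⟨h'⟩ : Nonempty (AlgSp.IsAlgSpace X.obj → ∃ (X' : AlgSp.Sp S) (j : X' ⟶ X.obj), AlgSp.IsAlgSpace X' ∧
      AlgSp.RepWith @IsOpenImmersion j ∧ (∃ W : Over S, Nonempty (X' ≅ (AlgSp.yon S).obj W)) ∧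
        Dense (Set.range (AlgSp.Points.map j))) := ⟨fun hA => by
    refine SpQS.exists_dense_scheme hA (SpQS.isDecent_of_qc_etale_surjective (AlgSp.IsAlgSpace.yon_obj U) hA a ?_
      (AlgSpLib.isSurjectiveMor_of_repWith hs) (SpQS.isDecent_yon U))
    exact (AlgSpLib.isQuasiCompactMor_iff_repWith (AlgSp.IsAlgSpace.yon_obj U) hA hf.1).2
      (AlgSpLib.repWith_mono (fun {A B} g (hg : IsFinite g) => (by have := hg; infer_instance : QuasiCompact g)) hf)⟩
  obtain ⟨X', j, hX', hj, ⟨W, ⟨e⟩⟩, hd⟩ := h' X.property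
  exact ⟨⟨X', hX'⟩, ObjectProperty.homMk j, hj, (AlgSp.representableByOfIso e.symm).isRepresentable, hd⟩

end Groth.Agent.S10353
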