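import Groth.Statements.S10354
import Groth.Agent.SpQS.NoethDecent

set_option autoImplicit false
universe u
open CategoryTheory CategoryTheory.Limits AlgebraicGeometry Topology TopologicalSpace
open AlgSp

set_option backward.isDefEq.respectTransparency false

namespace Groth.Agent.S10354

/-- A locally Noetherian decent algebraic space X over a scheme S is quasi-separated over S (its
diagonal X ⟶ X ×_S X is representable quasi-compact). (The published statement concludes
quasi-separatedness in the absolute sense, i.e. for the diagonal over the integers; this row
concludes the relative notion over S, which the absolute one implies.) -/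
theorem result {S : Scheme.{u}} (X : AlgSp.Space S)
    (hN : AlgSp.IsLocNoethSp X.obj) (hX : AlgSp.IsDecent X.obj) : AlgSp.IsQuasiSeparatedSp X.obj := by
  obtain ⟨h'⟩ : Nonempty (AlgSp.IsAlgSpace X.obj → AlgSp.IsQuasiSeparatedSp X.obj) := ⟨fun hA => by
    obtain ⟨U, π, hπ, hπs, hU⟩ := hN
    have : IsLocallyNoetherian U.left := hU
    exact SpQS.isQuasiSeparatedSp_of_noetherian hA (SpQS.goodAt_of_isDecent hA hX) hπ hπs⟩
  exact h' X.property

end Groth.Agent.S10354
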