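import Groth.Statements.S10359
import Groth.Agent.SpQS.FieldImm

set_option autoImplicit false
universe u
open CategoryTheory CategoryTheory.Limits AlgebraicGeometry Topology TopologicalSpace
open AlgSp

set_option backward.isDefEq.respectTransparency false

namespace Groth.Agent.S10359

/-- On a decent algebraic space X over a scheme S every closed point x of |X| is represented by a closed
immersion Spec k ⟶ X, where k is a field. -/
theorem result {S : Scheme.{u}} (X : AlgSp.Space S)
    (hX : AlgSp.IsDecent X.obj) (x : AlgSp.Points X.obj) (hx : IsClosed ({x} : Set (AlgSp.Points X.obj))) :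
    ∃ p : AlgSp.FieldPt X.obj, AlgSp.Points.mk p = x ∧ AlgSp.RepWith @IsClosedImmersion p.toHom := by
  obtain ⟨h'⟩ : Nonempty (AlgSp.IsAlgSpace X.obj →
      ∃ p : AlgSp.FieldPt X.obj, AlgSp.Points.mk p = x ∧ AlgSp.RepWith @IsClosedImmersion p.toHom) := ⟨fun hA => by
    obtain ⟨p, rfl, hm, hq⟩ := hX x
    refine ⟨p, rfl, ?_⟩
    obtain ⟨U, π, hπ, hπs⟩ := hA.atlas
    obtain ⟨T, c, d, sq⟩ := AlgSpLib.exists_pullback hA.diag p.toHom π
    obtain ⟨hd, hr⟩ := SpQS.isPreimmersion_of_mono_point hA p hq hπ sq
    have := AlgSpLib.isLocallySurjective_of_atlas hπ hπs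
    refine AlgSpLib.repWith_of_isLocallySurjective (P := @IsClosedImmersion) hq.1 sq
      ((AlgSpLib.repWith_yon_iff d).2 (IsClosedImmersion.of_isPreimmersion d.left ?_))
    rw [hr]
    exact hx.preimage (AlgSp.Points.continuous_ofPt π)⟩
  exact h' X.property

end Groth.Agent.S10359
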