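import Groth.Statements.S10360
import Groth.Agent.SpQS.DecentPoint

set_option autoImplicit false
universe u
open CategoryTheory CategoryTheory.Limits AlgebraicGeometry Topology TopologicalSpace
open AlgSp

set_option backward.isDefEq.respectTransparency false

namespace Groth.Agent.S10360

/-- (1) ⇔ (4): for an algebraic space X over a scheme S and x ∈ |X|, the fibres over x of |U| → |X| and
|U ×_X U| → |X| are finite for every etale h_U ⟶ X with U affine, if and only if x is represented by
a monomorphism Spec k ⟶ X which is representable quasi-compact. -/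
theorem result {S : Scheme.{u}} (X : AlgSp.Space S)
    (x : AlgSp.Points X.obj) :
    (∀ (U : Over S) (φ : (AlgSp.yon S).obj U ⟶ X.obj), IsAffine U.left → AlgSp.RepWith @Etale φ →
        ∀ (R : Over S) (s t : R ⟶ U), IsPullback ((AlgSp.yon S).map t) ((AlgSp.yon S).map s) φ φ →
          (AlgSp.Points.ofPt φ ⁻¹' {x}).Finite ∧ (AlgSp.Points.ofPt ((AlgSp.yon S).map t ≫ φ) ⁻¹' {x}).Finite) ↔
      ∃ p : AlgSp.FieldPt X.obj, AlgSp.Points.mk p = x ∧ Mono p.toHom ∧ AlgSp.RepWith @QuasiCompact p.toHom := by
  obtain ⟨key⟩ : Nonempty (AlgSp.IsAlgSpace X.obj → ((∀ (U : Over S) (φ : (AlgSp.yon S).obj U ⟶ X.obj), IsAffine U.left → AlgSp.RepWith @Etale φ → ∀ (R : Over S) (s t : R ⟶ U), IsPullback ((AlgSp.yon S).map t) ((AlgSp.yon S).map s) φ φ → (AlgSp.Points.ofPt φ ⁻¹' {x}).Finite ∧ (AlgSp.Points.ofPt ((AlgSp.yon S).map t ≫ φ) ⁻¹' {x}).Finite) ↔ ∃ p : AlgSp.FieldPt X.obj, AlgSp.Points.mk p = x ∧ Mono p.toHom ∧ AlgSp.RepWith @QuasiCompact p.toHom)) := ⟨fun hA => by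
    constructor
    · intro h
      exact SpQS.exists_qc_mono_point hA (SpQS.goodAt_of_finite hA x fun U φ hU hφ R s t sq => (h U φ hU hφ R s t sq).2)
    · rintro ⟨p, rfl, -, hp⟩ U φ hU hφ R s t sq
      have hg := SpQS.goodAt_of_qc hA p hp
      have h₁ := hg.finite hA (hU := hU) hφ
      refine ⟨h₁, ?_⟩
      have : Etale t.left := (AlgSpLib.repWith_yon_iff t).1 (AlgSpLib.repWith_baseChange sq.flip hφ)
      have hfib : ∀ v ∈ AlgSp.Points.ofPt φ ⁻¹' {AlgSp.Points.mk p}, (s.left ⁻¹' {v}).Finite := fun v hv => by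
        have : Etale s.left := (AlgSpLib.repWith_yon_iff s).1 (AlgSpLib.repWith_baseChange sq hφ)
        have : LocallyQuasiFinite s.left := UnivInjMor.lqf_of_unramified s.left
        let W : Over S := Over.mk (U.left.fromSpecResidueField v ≫ U.hom)
        let iv : W ⟶ U := Over.homMk (U.left.fromSpecResidueField v) rfl
        let F : Over S := Over.mk (pullback.fst s.left iv.left ≫ R.hom)
        let f₁ : F ⟶ R := Over.homMk (pullback.fst s.left iv.left) rfl
        let f₂ : F ⟶ W := Over.homMk (pullback.snd s.left iv.left) (by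
          show pullback.snd s.left iv.left ≫ W.hom = pullback.fst s.left iv.left ≫ R.hom
          rw [← Over.w s, ← Over.w iv]
          exact (pullback.condition_assoc _).symm)
        have sqF : IsPullback ((AlgSp.yon S).map (f₁ ≫ t)) ((AlgSp.yon S).map f₂) φ ((AlgSp.yon S).map iv ≫ φ) := by
          rw [Functor.map_comp]
          exact (AlgSpLib.isPullback_yon_iff.2 (IsPullback.of_hasPullback s.left iv.left)).paste_horiz sq
        have : CompactSpace F.left := hg U φ hU hφ (U.left.residueField v) _ ((AlgSp.yon S).map iv ≫ φ) (by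
          rw [AlgSpLib.ofPt_comp]
          exact (congrArg (AlgSp.Points.ofPt φ) (Scheme.fromSpecResidueField_apply v _)).trans hv) F _ _ sqF
        have : Etale f₂.left := inferInstanceAs (Etale (pullback.snd s.left iv.left))
        refine ((ValLib.finite_of_etale_compact (K := U.left.residueField v) f₂.left).image f₁.left).subset fun r hr => ?_
        obtain ⟨z, hz, -⟩ := Scheme.Pullback.exists_preimage_pullback (f := s.left) (g := iv.left) r
          (IsLocalRing.closedPoint (U.left.residueField v))
          (hr.trans (Scheme.fromSpecResidueField_apply v _).symm)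
        exact ⟨z, trivial, hz⟩
      refine (h₁.biUnion hfib).subset fun r hr => Set.mem_iUnion₂.2 ⟨s.left r, ?_, rfl⟩
      show AlgSp.Points.ofPt φ (s.left r) = _
      rw [← AlgSpLib.ofPt_comp, ← sq.w]
      exact hr⟩
  exact key X.property

end Groth.Agent.S10360
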