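import Groth.Statements.S10373
import Groth.Agent.SpQS.FieldImm

set_option autoImplicit false
universe u
open CategoryTheory CategoryTheory.Limits AlgebraicGeometry Topology TopologicalSpace
open AlgSp

set_option backward.isDefEq.respectTransparency false

namespace Groth.Agent.S10373

/-- Let S be a scheme, Y and X algebraic spaces over S, and f : Y ⟶ X a morphism with Y reduced and
|f|(|Y|) ⊆ {x}, where x ∈ |X| is represented by a monomorphism Spec k ⟶ X which is representable
quasi-compact (for instance X decent). Then f factors through Spec k ⟶ X. -/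
theorem result {S : Scheme.{u}} {Y X : AlgSp.Space S} (f : Y ⟶ X)
    (x : AlgSp.Points X.obj) (p : AlgSp.FieldPt X.obj) (hp : AlgSp.Points.mk p = x) (hm : Mono p.toHom)
    (hq : AlgSp.RepWith @QuasiCompact p.toHom) (hY : AlgSp.EtaleLocally (fun U => IsReduced U) Y.obj)
    (hf : ∀ y : AlgSp.Points Y.obj, AlgSp.Points.map f.hom y = x) :
    ∃ g : Y.obj ⟶ (AlgSp.yon S).obj p.pt, g ≫ p.toHom = f.hom := by
  obtain ⟨h'⟩ : Nonempty (AlgSp.IsAlgSpace X.obj → ∃ g : Y.obj ⟶ (AlgSp.yon S).obj p.pt, g ≫ p.toHom = f.hom) :=
    ⟨fun hX => by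
      obtain ⟨U, π, hπ, hπs, hU⟩ := hY
      have : IsReduced U.left := hU
      obtain ⟨V, b, hb, hbs⟩ := hX.atlas
      obtain ⟨U', e, h, sqU⟩ := AlgSpLib.exists_pullback hX.diag (π ≫ f.hom) b
      have : Etale e.left := (AlgSpLib.repWith_yon_iff e).1 (AlgSpLib.repWith_baseChange sqU.flip hb)
      have : Surjective e.left := (AlgSpLib.repWith_yon_iff e).1 (AlgSpLib.repWith_baseChange sqU.flip hbs)
      have : IsReduced U'.left := SpQS.isReduced_of_etale_reduced e.left
      obtain ⟨T, c, d, sqT⟩ := AlgSpLib.exists_pullback hX.diag p.toHom b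
      obtain ⟨hd, hr⟩ := SpQS.isPreimmersion_of_mono_point hX p hq hb sqT
      let P := pullback d.left h.left
      let j : P ⟶ U'.left := pullback.snd d.left h.left
      have : Surjective j := ⟨fun w => by
        have : h.left w ∈ Set.range d.left := by
          rw [hr]
          show AlgSp.Points.ofPt b (h.left w) = _
          rw [← AlgSpLib.ofPt_comp, ← sqU.w, ← Category.assoc, ← AlgSp.Points.map_ofPt, hp]
          exact hf _
        obtain ⟨t, ht⟩ := this
        obtain ⟨z, -, hz⟩ := Scheme.Pullback.exists_preimage_pullback (f := d.left) (g := h.left) t w ht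
        exact ⟨z, hz⟩⟩
      have : IsPreimmersion j := inferInstance
      have : IsClosedImmersion j := IsClosedImmersion.of_isPreimmersion j
        (by rw [j.surjective.range_eq]; exact isClosed_univ)
      have : IsIso j := isIso_of_isClosedImmersion_of_surjective j
      have hj : (CategoryTheory.inv j ≫ pullback.fst d.left h.left) ≫ d.left = h.left := by
        rw [Category.assoc, pullback.condition, IsIso.inv_hom_id_assoc]
      let s : U' ⟶ T := Over.homMk (CategoryTheory.inv j ≫ pullback.fst d.left h.left) (by
        rw [← Over.w d, ← Category.assoc, hj, Over.w h])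
      have hs : s ≫ d = h := Over.OverMorphism.ext hj
      have comm : ((AlgSp.yon S).map e ≫ π) ≫ f.hom = (AlgSp.yon S).map (s ≫ c) ≫ p.toHom := by
        rw [Functor.map_comp, Category.assoc, Category.assoc, sqT.w, ← Functor.map_comp_assoc, hs]
        exact sqU.w
      have : Sheaf.IsLocallySurjective ((AlgSp.yon S).map e ≫ π) := AlgSpLib.isLocallySurjective_of_atlas
        (AlgSpLib.repWith_comp ((AlgSpLib.repWith_yon_iff e).2 ‹_›) hπ)
        (AlgSpLib.repWith_comp ((AlgSpLib.repWith_yon_iff e).2 ‹_›) hπs)
      have sqP := IsPullback.of_hasPullback f.hom p.toHom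
      have : Mono (pullback.fst f.hom p.toHom) := inferInstance
      have : Epi (pullback.fst f.hom p.toHom) :=
        epi_of_epi_fac (pullback.lift_fst ((AlgSp.yon S).map e ≫ π) ((AlgSp.yon S).map (s ≫ c)) comm)
      have : IsIso (pullback.fst f.hom p.toHom) := isIso_of_mono_of_epi _
      exact ⟨CategoryTheory.inv (pullback.fst f.hom p.toHom) ≫ pullback.snd f.hom p.toHom, by
        rw [Category.assoc, ← pullback.condition, IsIso.inv_hom_id_assoc]⟩⟩
  exact h' X.property

end Groth.Agent.S10373
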