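import Groth.Statements.S10395
import Groth.Agent.SpQS.GenPts

set_option autoImplicit false
universe u
open CategoryTheory CategoryTheory.Limits AlgebraicGeometry Topology TopologicalSpace
open AlgSp

set_option backward.isDefEq.respectTransparency false

namespace Groth.Agent.S10395

/-- (1) ⇔ (2) ⇔ (3): let S be a scheme, X a decent algebraic space over S, and (Y, y) ⟶ (X, x) an etale
morphism of pointed algebraic spaces. Then the point y is a generic point of some irreducible
component of |Y| if and only if the point x is a generic point of some irreducible component of |X|. -/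
theorem result {S : Scheme.{u}} {X Y : AlgSp.Space S}
    (hX : AlgSp.IsDecent X.obj) (f : Y ⟶ X) (hf : AlgSp.IsEtaleMor f.hom) (y : AlgSp.Points Y.obj) :
    (∃ T ∈ irreducibleComponents (AlgSp.Points Y.obj), IsGenericPoint y T) ↔
      (∃ T ∈ irreducibleComponents (AlgSp.Points X.obj), IsGenericPoint (AlgSp.Points.map f.hom y) T) := by
  obtain ⟨key⟩ : Nonempty (AlgSp.IsAlgSpace X.obj → AlgSp.IsAlgSpace Y.obj →
      ((∃ T ∈ irreducibleComponents (AlgSp.Points Y.obj), IsGenericPoint y T) ↔
        (∃ T ∈ irreducibleComponents (AlgSp.Points X.obj), IsGenericPoint (AlgSp.Points.map f.hom y) T))) := ⟨fun hA hB => by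
    obtain ⟨h₁, h₂⟩ := SpQS.t0_sober_of_decent hA hX
    obtain ⟨h₃, h₄⟩ := SpQS.t0_sober_of_decent hB (SpQS.isDecent_of_good hB fun z =>
      SpQS.goodAt_of_etale hB hA f.hom hf (SpQS.goodAt_of_isDecent hA hX _))
    rw [SpQS.component_generic_iff, SpQS.component_generic_iff]
    exact SpQS.isMaxPt_map_iff hA hB hX f.hom hf y⟩
  exact key X.property Y.property

end Groth.Agent.S10395
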