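import Groth.Statements.S10398
import Groth.Agent.SpQS.FiniteNhd

set_option autoImplicit false
universe u
open CategoryTheory CategoryTheory.Limits AlgebraicGeometry Topology TopologicalSpace
open AlgSp

set_option backward.isDefEq.respectTransparency false

namespace Groth.Agent.S10398

/-- (2) ⇒ (3): let S be a scheme, X and Y algebraic spaces over S, and f : X ⟶ Y a quasi-separated
morphism of finite type, and let y ∈ |Y| be a codimension 0 point of Y. Suppose that at every point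
of |X| lying over y the morphism f is quasi-finite. Then there is an open subspace Y' ⊆ Y containing
y for which the morphism Y' ×_Y X ⟶ Y' is finite. -/
theorem result {S : Scheme.{u}} {X Y : AlgSp.Space S} (f : X ⟶ Y)
    (hqs : AlgSp.IsQuasiSeparatedMor f.hom) (hft : AlgSp.IsFiniteTypeMor f.hom) (y : AlgSp.Points Y.obj)
    (hy : AlgSp.HasAt (fun U u => ringKrullDim ↥(U.presheaf.stalk u) = 0) Y.obj y)
    (hqf : ∀ x : AlgSp.Points X.obj, AlgSp.Points.map f.hom x = y → AlgSp.HasAtMor (fun U _ h u => ∃ W : U.Opens, u ∈ W ∧ LocallyQuasiFinite (W.ι ≫ h) ∧ LocallyOfFiniteType (W.ι ≫ h)) f.hom x) :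
    ∃ (Y' X' : AlgSp.Space S) (j : Y' ⟶ Y) (fst : X' ⟶ Y') (snd : X' ⟶ X), AlgSp.RepWith @IsOpenImmersion j.hom ∧
      y ∈ Set.range (AlgSp.Points.map j.hom) ∧ IsPullback fst.hom snd.hom j.hom f.hom ∧
      AlgSp.IsFiniteMor fst.hom := by
  obtain ⟨h'⟩ : Nonempty (AlgSp.IsAlgSpace X.obj → AlgSp.IsAlgSpace Y.obj →
      ∃ (Y' : AlgSp.Sp S) (j : Y' ⟶ Y.obj), AlgSp.IsAlgSpace Y' ∧ AlgSp.IsAlgSpace (pullback j f.hom) ∧
        AlgSp.RepWith @IsOpenImmersion j ∧ y ∈ Set.range (AlgSp.Points.map j) ∧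
        AlgSp.RepWith @IsFinite (pullback.fst j f.hom)) := ⟨fun hA hB => by
    obtain ⟨Y', j, hY', hj, hmem, hfin⟩ := SpQS.exists_finite_nhd hA hB f.hom hft.1 hft.2 hqs hy fun x hx =>
      (SpQS.hasAtMor_nhd_iff hA hB f.hom hft.1 x).1 (hqf x hx)
    exact ⟨Y', j, hY', AlgSpLib.isAlgSpace_of_isPullback_space hB hY' hA (IsPullback.of_hasPullback j f.hom), hj, hmem,
      hfin⟩⟩
  obtain ⟨Y', j, hY', hP, hj, hmem, hfin⟩ := h' X.property Y.property
  exact ⟨⟨Y', hY'⟩, ⟨pullback j f.hom, hP⟩, ObjectProperty.homMk j, ObjectProperty.homMk (pullback.fst j f.hom),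
    ObjectProperty.homMk (pullback.snd j f.hom), hj, hmem, IsPullback.of_hasPullback j f.hom,
    (AlgSpLib.isFiniteMor_iff_repWith _).2 hfin⟩

end Groth.Agent.S10398
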