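import Groth.Statements.S10401
import Groth.Agent.SpQS.Jacob

set_option autoImplicit false
universe u
open CategoryTheory CategoryTheory.Limits AlgebraicGeometry Topology TopologicalSpace
open AlgSp

set_option backward.isDefEq.respectTransparency false

namespace Groth.Agent.S10401

/-- If Y is a Jacobson algebraic space and X is an algebraic space that is locally of finite type over
Y, then X is Jacobson. -/
theorem result {S : Scheme.{u}} {X Y : AlgSp.Space S} (hX : AlgSp.EtaleLocally (fun U => JacobsonSpace ↥U) X.obj)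
    (f : Y ⟶ X) (hf : AlgSp.LocP @LocallyOfFiniteType f.hom) : AlgSp.EtaleLocally (fun U => JacobsonSpace ↥U) Y.obj := by
  obtain ⟨h'⟩ : Nonempty (AlgSp.IsAlgSpace X.obj → AlgSp.IsAlgSpace Y.obj →
      AlgSp.EtaleLocally (fun U => JacobsonSpace ↥U) Y.obj) := ⟨fun hA hB => by
    obtain ⟨U, π, hπ, hπs⟩ := hB.atlas
    exact ⟨U, π, hπ, hπs, SpQS.jacobsonSpace_of_lft hA hX f.hom hf π hπ⟩⟩
  exact h' X.property Y.property

end Groth.Agent.S10401
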