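import Groth.Statements.S10403
import Groth.Agent.SpQS.Jacob

set_option autoImplicit false
universe u
open CategoryTheory CategoryTheory.Limits AlgebraicGeometry Topology TopologicalSpace
open AlgSp

set_option backward.isDefEq.respectTransparency false

namespace Groth.Agent.S10403

/-- For a decent Jacobson algebraic space X over a scheme S, the finite type points of |X| are exactly
the closed points. -/
theorem result {S : Scheme.{u}} (X : AlgSp.Space S) (hd : AlgSp.IsDecent X.obj)
    (hX : AlgSp.EtaleLocally (fun U => JacobsonSpace ↥U) X.obj) (x : AlgSp.Points X.obj) :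
    AlgSp.HasAt (fun U u => IsClosed ({u} : Set ↥U)) X.obj x ↔ IsClosed ({x} : Set (AlgSp.Points X.obj)) := by
  obtain ⟨h'⟩ : Nonempty (AlgSp.IsAlgSpace X.obj →
      (AlgSp.HasAt (fun U u => IsClosed ({u} : Set ↥U)) X.obj x ↔ IsClosed ({x} : Set (AlgSp.Points X.obj)))) :=
    ⟨fun hA => by
      have hg := SpQS.goodAt_of_isDecent hA hd
      refine ⟨fun ⟨U, a, u, ha, hu, hc⟩ => hu ▸ SpQS.isClosed_point_of_chart hA hg hX ha hc, fun hx => ?_⟩
      obtain ⟨U, a, u, -, ha, rfl, -⟩ := SpQS.exists_affine_chart_at hA x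
      exact ⟨U, a, u, ha, rfl, SpQS.isClosed_chart_of_isClosed hA hg ha hx⟩⟩
  exact h' X.property

end Groth.Agent.S10403
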