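import Groth.Statements.S3433
import Mathlib
import Groth.Agent.EtAlg.JacobsonAway

set_option autoImplicit false
universe u
open EGA43

namespace Groth.Agent.S3433

/-- Let A be a Noetherian local ring with maximal ideal m and let Y be the punctured spectrum Spec A ∖
{m}. Then Y is a Jacobson space, and a point p of Y is closed in Y if and only if dim A/p = 1. -/
theorem result (A : Type u) [CommRing A] [IsNoetherianRing A] [IsLocalRing A] :
    JacobsonSpace ↥({IsLocalRing.closedPoint A}ᶜ : Set (PrimeSpectrum A)) ∧
      ∀ p : ↥({IsLocalRing.closedPoint A}ᶜ : Set (PrimeSpectrum A)),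
        IsClosed ({p} : Set ↥({IsLocalRing.closedPoint A}ᶜ : Set (PrimeSpectrum A))) ↔
          ringKrullDim (A ⧸ p.1.asIdeal) = 1 := by
  have hY : IsOpen ({IsLocalRing.closedPoint A}ᶜ : Set (PrimeSpectrum A)) :=
    ((PrimeSpectrum.isClosed_singleton_iff_isMaximal _).2 (IsLocalRing.maximalIdeal.isMaximal A)).isOpen_compl
  constructor
  · rw [(TopologicalSpace.IsOpenCover.mk (u := fun f : IsLocalRing.maximalIdeal A =>
      ⟨Subtype.val ⁻¹' (PrimeSpectrum.basicOpen (f : A) : Set (PrimeSpectrum A)),
        (PrimeSpectrum.basicOpen (f : A)).isOpen.preimage continuous_subtype_val⟩) ?_).jacobsonSpace_iff]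
    · intro f
      let R := Localization.Away (f : A)
      haveI : IsJacobsonRing R := EtAlg.isJacobsonRing_away A (f : A)
        ((IsLocalRing.jacobson_eq_maximalIdeal (⊥ : Ideal A) bot_ne_top).symm ▸ f.2)
      haveI : JacobsonSpace (PrimeSpectrum R) := PrimeSpectrum.isJacobsonRing_iff_jacobsonSpace.1 inferInstance
      have hemb := PrimeSpectrum.localization_away_isOpenEmbedding R (f : A)
      have hrange : Set.range (PrimeSpectrum.comap (algebraMap A R)) = (PrimeSpectrum.basicOpen (f : A) : Set _) :=
        PrimeSpectrum.localization_away_comap_range R (f : A)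
      let e : PrimeSpectrum R ≃ₜ (PrimeSpectrum.basicOpen (f : A) : Set (PrimeSpectrum A)) :=
        hemb.isEmbedding.toHomeomorph.trans (Homeomorph.setCongr hrange)
      haveI : JacobsonSpace (PrimeSpectrum.basicOpen (f : A) : Set (PrimeSpectrum A)) :=
        JacobsonSpace.of_isOpenEmbedding e.symm.isOpenEmbedding
      have hsub : (PrimeSpectrum.basicOpen (f : A) : Set (PrimeSpectrum A)) ⊆ {IsLocalRing.closedPoint A}ᶜ :=
        fun x hx hxc => hx (hxc ▸ f.2)
      exact JacobsonSpace.of_isOpenEmbedding
        ((hY.isOpenEmbedding_subtypeVal.restrictPreimage (PrimeSpectrum.basicOpen (f : A) : Set (PrimeSpectrum A))))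
    · refine eq_top_iff.2 ?_
      rintro ⟨x, hx⟩ -
      obtain ⟨f, hfm, hfx⟩ : ∃ f ∈ IsLocalRing.maximalIdeal A, f ∉ x.asIdeal := by
        by_contra! h
        exact hx (PrimeSpectrum.ext ((IsLocalRing.maximalIdeal.isMaximal A).eq_of_le x.isPrime.ne_top h).symm)
      exact TopologicalSpace.Opens.mem_iSup.2 ⟨⟨f, hfm⟩, hfx⟩
  intro p
  haveI := p.1.isPrime
  haveI : IsLocalRing (A ⧸ p.1.asIdeal) := IsLocalRing.of_surjective' _ Ideal.Quotient.mk_surjective
  have hne : p.1.asIdeal ≠ IsLocalRing.maximalIdeal A := fun h => p.2 (PrimeSpectrum.ext h)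
  have hclo : IsClosed ({p} : Set ↥({IsLocalRing.closedPoint A}ᶜ : Set (PrimeSpectrum A))) ↔
      ∀ q : PrimeSpectrum A, p.1 ≤ q → q = p.1 ∨ q = IsLocalRing.closedPoint A := by
    rw [← closure_eq_iff_isClosed]
    constructor
    · intro h q hq
      by_cases hqc : q = IsLocalRing.closedPoint A
      · exact Or.inr hqc
      · left
        have : (⟨q, hqc⟩ : ↥({IsLocalRing.closedPoint A}ᶜ : Set (PrimeSpectrum A))) ∈ closure {p} := by
          rw [closure_subtype, Set.image_singleton]
          exact (PrimeSpectrum.le_iff_mem_closure _ _).1 hq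
        rw [h] at this
        exact congrArg Subtype.val (Set.mem_singleton_iff.1 this)
    · intro h
      refine Set.Subset.antisymm (fun q hq => ?_) subset_closure
      rw [closure_subtype, Set.image_singleton, ← PrimeSpectrum.le_iff_mem_closure] at hq
      rcases h q.1 hq with h1 | h1
      · exact Subtype.ext h1
      · exact absurd h1 q.2
  rw [hclo]
  constructor
  · intro h
    refine le_antisymm ?_ ?_
    · refine Ring.krullDimLE_iff.1 ?_
      refine Ring.krullDimLE_one_iff_of_noZeroDivisors.2 fun I hI hI' => ?_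
      haveI := hI'
      rcases h ⟨I.comap (Ideal.Quotient.mk _), inferInstance⟩ (fun x hx => by
          show Ideal.Quotient.mk _ x ∈ I
          rw [Ideal.Quotient.eq_zero_iff_mem.2 hx]; exact zero_mem _) with h1 | h1
      · exfalso
        refine hI ?_
        have h2 : I.comap (Ideal.Quotient.mk p.1.asIdeal) = p.1.asIdeal := congrArg PrimeSpectrum.asIdeal h1
        rw [← Ideal.map_comap_of_surjective (Ideal.Quotient.mk p.1.asIdeal) Ideal.Quotient.mk_surjective I, h2,
          Ideal.map_quotient_self]
      · have h2 : I.comap (Ideal.Quotient.mk p.1.asIdeal) = IsLocalRing.maximalIdeal A :=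
          congrArg PrimeSpectrum.asIdeal h1
        rw [← Ideal.map_comap_of_surjective (Ideal.Quotient.mk p.1.asIdeal) Ideal.Quotient.mk_surjective I, h2]
        exact Or.resolve_left (Ideal.map_eq_top_or_isMaximal_of_surjective _ Ideal.Quotient.mk_surjective
          (IsLocalRing.maximalIdeal.isMaximal A)) (fun ht => hI'.ne_top (by
            rw [← Ideal.map_comap_of_surjective (Ideal.Quotient.mk p.1.asIdeal) Ideal.Quotient.mk_surjective I, h2]
            exact ht))
    · by_contra hlt
      have h0 : IsField (A ⧸ p.1.asIdeal) := by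
        have : Ring.KrullDimLE 0 (A ⧸ p.1.asIdeal) := Ring.krullDimLE_iff.2 (by
          have hlt' := not_le.1 hlt
          rw [Nat.cast_zero]
          revert hlt'
          induction ringKrullDim (A ⧸ p.1.asIdeal) using WithBot.recBotCoe with
          | bot => exact fun _ => bot_le
          | coe x =>
            intro h'
            have hx : x < 1 := WithBot.coe_lt_coe.1 h'
            rw [ENat.lt_one_iff_eq_zero.1 hx]; rfl)
        exact Ring.KrullDimLE.isField_of_isDomain
      exact hne (IsLocalRing.eq_maximalIdeal (Ideal.Quotient.maximal_of_isField _ h0))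
  · intro hdim q hq
    haveI : Ring.KrullDimLE 1 (A ⧸ p.1.asIdeal) := Ring.krullDimLE_iff.2 hdim.le
    let I := q.asIdeal.map (Ideal.Quotient.mk p.1.asIdeal)
    have hcomap : I.comap (Ideal.Quotient.mk p.1.asIdeal) = q.asIdeal := by
      rw [Ideal.comap_map_of_surjective _ Ideal.Quotient.mk_surjective, ← RingHom.ker_eq_comap_bot, Ideal.mk_ker,
        sup_eq_left]
      exact hq
    haveI : I.IsPrime := Ideal.map_isPrime_of_surjective Ideal.Quotient.mk_surjective (by rw [Ideal.mk_ker]; exact hq)
    by_cases hI : I = ⊥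
    · left
      refine PrimeSpectrum.ext ?_
      rw [← hcomap, hI, ← RingHom.ker_eq_comap_bot, Ideal.mk_ker]
    · right
      haveI := Ring.krullDimLE_one_iff_of_noZeroDivisors.1 inferInstance I hI inferInstance
      refine PrimeSpectrum.ext (IsLocalRing.eq_maximalIdeal ?_)
      rw [← hcomap]
      exact Ideal.comap_isMaximal_of_surjective _ Ideal.Quotient.mk_surjective

end Groth.Agent.S3433
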