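import Groth.Statements.S10405
import Groth.Agent.DecentPunct.Basic
import Groth.Agent.SpQS.DecentProps
import Groth.Agent.AlgSpLib.NoethPts
import Groth.Agent.S10338
import Groth.Agent.S10339
import Groth.Agent.S3433

set_option autoImplicit false
universe u
open CategoryTheory CategoryTheory.Limits AlgebraicGeometry Topology TopologicalSpace
open AlgSp

set_option backward.isDefEq.respectTransparency false

namespace Groth.Agent.S10405

/-- Let S be a scheme, X an algebraic space over S which is decent and locally Noetherian, and x ∈ |X|.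
Then the set W of proper generizations of x (points x' ≠ x with x' ⤳ x), with the topology induced
from |X|, is a topological space which is Noetherian, spectral, sober and Jacobson. -/
theorem result {S : Scheme.{u}} (X : AlgSp.Space S)
    (hd : AlgSp.IsDecent X.obj) (hN : AlgSp.IsLocNoethSp X.obj) (x : AlgSp.Points X.obj) :
    NoetherianSpace {x' : AlgSp.Points X.obj // x' ⤳ x ∧ x' ≠ x} ∧
      SpectralSpace {x' : AlgSp.Points X.obj // x' ⤳ x ∧ x' ≠ x} ∧
      QuasiSober {x' : AlgSp.Points X.obj // x' ⤳ x ∧ x' ≠ x} ∧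
      JacobsonSpace {x' : AlgSp.Points X.obj // x' ⤳ x ∧ x' ≠ x} := by
  have hA := X.property
  have hg := SpQS.goodAt_of_isDecent hA hd
  haveI := S10338.result X hd
  haveI := S10339.result X hd
  obtain ⟨U, a, u, -, ha, rfl, -⟩ := SpQS.exists_affine_chart_at hA x
  haveI := AlgSpLib.isLocallyNoetherian_chart hA hN ha
  let A := U.left.presheaf.stalk u
  let P := ↥({IsLocalRing.closedPoint A}ᶜ : Set (PrimeSpectrum A))
  let ι : P → ↥U.left := fun p => U.left.fromSpecStalk u p.1
  have hemb : Topology.IsEmbedding ι :=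
    (U.left.fromSpecStalk u).isEmbedding.comp Topology.IsEmbedding.subtypeVal
  have hsp : ∀ p : P, ι p ⤳ u := fun p => by
    have : ι p ∈ Set.range (U.left.fromSpecStalk u) := ⟨p.1, rfl⟩
    rwa [Scheme.range_fromSpecStalk] at this
  have key : ∀ w w' : ↥U.left, w' ⤳ w → AlgSp.Points.ofPt a w' = AlgSp.Points.ofPt a w → w = w' :=
    fun w w' hs e => SpQS.eq_of_specializes_of_good hA ha
      (fun V b hV hb => haveI := hV; (hg _).finite hA hb) e hs
  have hne : ∀ p : P, AlgSp.Points.ofPt a (ι p) ≠ AlgSp.Points.ofPt a u := fun p e => p.2 (by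
    have h1 := key u (ι p) (hsp p) e
    exact (U.left.fromSpecStalk u).isEmbedding.injective
      (h1.symm.trans (Scheme.fromSpecStalk_closedPoint (X := U.left) (x := u)).symm))
  let π : P → {x' : AlgSp.Points X.obj // x' ⤳ AlgSp.Points.ofPt a u ∧ x' ≠ AlgSp.Points.ofPt a u} :=
    fun p => ⟨AlgSp.Points.ofPt a (ι p), (hsp p).map (AlgSp.Points.continuous_ofPt a), hne p⟩
  have hπ : Continuous π :=
    ((AlgSp.Points.continuous_ofPt a).comp hemb.continuous).subtype_mk _
  have hgen : ∀ u' : ↥U.left, u' ⤳ u → AlgSp.Points.ofPt a u' ≠ AlgSp.Points.ofPt a u → ∃ p : P, ι p = u' := by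
    intro u' hu' hne'
    obtain ⟨p, hp⟩ : u' ∈ Set.range (U.left.fromSpecStalk u) := by rw [Scheme.range_fromSpecStalk]; exact hu'
    refine ⟨⟨p, fun e => hne' ?_⟩, hp⟩
    rw [← hp, Set.mem_singleton_iff.1 e]
    exact congrArg _ (Scheme.fromSpecStalk_closedPoint (X := U.left) (x := u))
  have hsurj : Function.Surjective π := fun x' => by
    obtain ⟨u', hu', e⟩ := SpQS.exists_specializes_lift hA (hg x'.1) x'.2.1 ha u rfl
    obtain ⟨p, hp⟩ := hgen u' hu' (fun h => x'.2.2 (e.symm.trans h))
    exact ⟨p, Subtype.ext ((congrArg _ hp).trans e)⟩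
  haveI : NoetherianSpace P := inferInstance
  haveI : NoetherianSpace {x' : AlgSp.Points X.obj // x' ⤳ AlgSp.Points.ofPt a u ∧ x' ≠ AlgSp.Points.ofPt a u} :=
    noetherianSpace_of_surjective π hπ hsurj
  haveI hqs := DecentPunct.quasiSober_punctured (AlgSp.Points.ofPt a u)
  haveI := (S3433.result A).1
  refine ⟨inferInstance, {}, hqs, DecentPunct.jacobsonSpace_of_surjective hπ hsurj (fun p q e h => ?_) fun s q h => ?_⟩
  · exact hemb.injective (key (ι q) (ι p) (h.map hemb.continuous) (congrArg Subtype.val e)).symm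
  · obtain ⟨u', hu', e⟩ := SpQS.exists_specializes_lift hA (hg s.1) (h.map continuous_subtype_val) ha (ι q) rfl
    obtain ⟨p, hp⟩ := hgen u' (hu'.trans (hsp q)) (fun h' => s.2.2 (e.symm.trans h'))
    exact ⟨p, Subtype.ext ((congrArg _ hp).trans e), hemb.isInducing.specializes_iff.1 (hp ▸ hu')⟩

end Groth.Agent.S10405
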