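import Groth.Statements.S10406
import Groth.Agent.AlgSpLib.FpqcProps
import Groth.Agent.AlgSpLib.RepUniv

set_option autoImplicit false
universe u
open CategoryTheory CategoryTheory.Limits AlgebraicGeometry Topology TopologicalSpace
open AlgSp

namespace Groth.Agent.S10406

/-- Let S be a scheme, Y and X decent, locally Noetherian algebraic spaces over S, and f : Y ⟶ X a
surjective finite morphism, and let δ : |X| → ℤ be a function. Suppose δ ∘ |f| is a dimension
function on |Y| (it decreases strictly along nontrivial specializations and by exactly one along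
immediate specializations). Then δ is a dimension function on |X|. -/
theorem result {S : Scheme.{u}} {X Y : AlgSp.Space S} (f : Y ⟶ X)
    (hf : AlgSp.IsFiniteMor f.hom) (hs : AlgSp.IsSurjectiveMor f.hom) (hX : AlgSp.IsDecent X.obj)
    (hY : AlgSp.IsDecent Y.obj) (hXN : AlgSp.IsLocNoethSp X.obj) (hYN : AlgSp.IsLocNoethSp Y.obj)
    (δ : AlgSp.Points X.obj → ℤ)
    (hδ : (∀ a b : AlgSp.Points Y.obj, a ⤳ b → a ≠ b → (δ ∘ AlgSp.Points.map f.hom) b < (δ ∘ AlgSp.Points.map f.hom) a ∧ ((∀ c : AlgSp.Points Y.obj, a ⤳ c → c ⤳ b → c = a ∨ c = b) → (δ ∘ AlgSp.Points.map f.hom) a = (δ ∘ AlgSp.Points.map f.hom) b + 1))) :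
    (∀ a b : AlgSp.Points X.obj, a ⤳ b → a ≠ b → δ b < δ a ∧ ((∀ c : AlgSp.Points X.obj, a ⤳ c → c ⤳ b → c = a ∨ c = b) → δ a = δ b + 1)) := by
  have hc : IsClosedMap (AlgSp.Points.map f.hom) := by
    have h := (Groth.Agent.AlgSpLib.isFiniteMor_iff_repWith f.hom).1 hf
    have h' := Groth.Agent.AlgSpLib.repWith_mono (P := @IsFinite) (Q := @UniversallyClosed) (fun _ _ g hg => by
      have : IsFinite g := hg
      exact (inferInstance : UniversallyClosed g)) h
    exact (Groth.Agent.AlgSpLib.isUnivClosedMor_iff_repWith h'.1).2 h' X.property (𝟙 _) (𝟙 Y.obj) f.hom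
      IsPullback.of_id_fst
  intro a b hab hne
  obtain ⟨a', rfl⟩ := hs a
  obtain ⟨b', hb', rfl⟩ : ∃ b', a' ⤳ b' ∧ AlgSp.Points.map f.hom b' = b := by
    have h1 : AlgSp.Points.map f.hom a' ∈ AlgSp.Points.map f.hom '' closure {a'} := ⟨a', subset_closure rfl, rfl⟩
    obtain ⟨b', hb', e⟩ := (hc _ isClosed_closure).stableUnderSpecialization hab h1
    exact ⟨b', specializes_iff_mem_closure.2 hb', e⟩
  obtain ⟨h1, h2⟩ := hδ a' b' hb' (fun e => hne (congrArg _ e))
  refine ⟨h1, fun him => h2 fun c hac hcb => ?_⟩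
  rcases him _ (hac.map (AlgSp.Points.continuous_map _)) (hcb.map (AlgSp.Points.continuous_map _)) with e | e
  · by_contra h
    push_neg at h
    have := (hδ a' c hac h.1.symm).1
    simp only [Function.comp_apply, e, lt_self_iff_false] at this
  · by_contra h
    push_neg at h
    have := (hδ c b' hcb h.2).1
    simp only [Function.comp_apply, e, lt_self_iff_false] at this

end Groth.Agent.S10406
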