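import Groth.Statements.S10409
import Groth.Agent.SpQS.MonoPt

set_option autoImplicit false
universe u
open CategoryTheory CategoryTheory.Limits AlgebraicGeometry Topology TopologicalSpace
open AlgSp

set_option backward.isDefEq.respectTransparency false

namespace Groth.Agent.S10409

/-- (3) ⇔ (4): for an algebraic space X over a scheme S and x ∈ |X|, there is a monomorphism Spec k ⟶ X
representing x if and only if there is a morphism Spec k' ⟶ X representing x whose
self-fibre-product has etale and quasi-compact projections to Spec k'. -/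
theorem result {S : Scheme.{u}} (X : AlgSp.Space S)
    (x : AlgSp.Points X.obj) :
    (∃ p : AlgSp.FieldPt X.obj, AlgSp.Points.mk p = x ∧ Mono p.toHom) ↔
      ∃ q : AlgSp.FieldPt X.obj, AlgSp.Points.mk q = x ∧
        ∀ (P : AlgSp.Sp S) (fst snd : P ⟶ (AlgSp.yon S).obj q.pt), IsPullback fst snd q.toHom q.toHom →
          AlgSp.RepWith @Etale fst ∧ AlgSp.RepWith @QuasiCompact fst := by
  obtain ⟨h'⟩ : Nonempty (AlgSp.IsAlgSpace X.obj → ∀ q : AlgSp.FieldPt X.obj, AlgSp.Points.mk q = x →
      (∀ (P : AlgSp.Sp S) (fst snd : P ⟶ (AlgSp.yon S).obj q.pt), IsPullback fst snd q.toHom q.toHom →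
        AlgSp.RepWith @Etale fst ∧ AlgSp.RepWith @QuasiCompact fst) →
      ∃ p : AlgSp.FieldPt X.obj, AlgSp.Points.mk p = x ∧ Mono p.toHom) := ⟨fun hA q hq h => by
    obtain ⟨R, t, s, sq⟩ := AlgSpLib.exists_pullback hA.diag q.toHom q.toHom
    obtain ⟨he, hc⟩ := h _ _ _ sq.flip
    let s' : R.left ⟶ Spec (CommRingCat.of q.K) := s.left
    have : Etale s' := (AlgSpLib.repWith_yon_iff s).1 he
    have : QuasiCompact s' := (AlgSpLib.repWith_yon_iff s).1 hc
    have : CompactSpace R.left := QuasiCompact.compactSpace_of_compactSpace s'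
    have hfin : IsFinite s' := (SpQS.finite_of_etale_over_field s').2 inferInstance
    have hfl := SpQS.flat_lfp_to_field s'
    have : IsFinite s.left := hfin
    have : Flat s.left := hfl.1
    have : LocallyOfFinitePresentation s.left := hfl.2
    have : IsAffine q.pt.left := inferInstanceAs (IsAffine (Spec (CommRingCat.of q.K)))
    have : Subsingleton q.pt.left := inferInstanceAs (Subsingleton (PrimeSpectrum q.K))
    obtain ⟨p, hp, hpm⟩ := SpQS.exists_mono_of_relation sq (IsLocalRing.closedPoint q.K)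
    exact ⟨p, by rw [hp, AlgSp.Points.ofPt_toHom, hq], hpm⟩⟩
  constructor
  · rintro ⟨p, hp, hm⟩
    refine ⟨p, hp, fun P fst snd sq => ?_⟩
    have : IsIso fst := by
      have : Mono fst := sq.mono_fst_of_mono
      have : IsSplitEpi fst := IsSplitEpi.mk' ⟨sq.lift (𝟙 _) (𝟙 _) rfl, sq.lift_fst _ _ _⟩
      exact isIso_of_mono_of_isSplitEpi _
    exact ⟨AlgSpLib.repWith_of_isIso _, AlgSpLib.repWith_of_isIso _⟩
  · rintro ⟨q, hq, h⟩
    exact h' X.property q hq h

end Groth.Agent.S10409
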