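import Groth.Statements.S10410
import Groth.Agent.SpQS.MonoPt

set_option autoImplicit false
universe u
open CategoryTheory CategoryTheory.Limits AlgebraicGeometry Topology TopologicalSpace
open AlgSp

set_option backward.isDefEq.respectTransparency false

namespace Groth.Agent.S10410

/-- Let X be an algebraic space over a scheme S, x ∈ |X|, and φ : U ⟶ X etale with U a scheme. Then x
lies in the image of |U| and the fibres of |U| → |X| and |U ×_X U| → |X| over x are finite, if and
only if x is represented by a monomorphism Spec k ⟶ X such that Spec k ×_X U is a nonempty scheme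
finite over k. -/
theorem result {S : Scheme.{u}} (X : AlgSp.Space S) (x : AlgSp.Points X.obj)
    {U : Over S} (φ : (AlgSp.yon S).obj U ⟶ X.obj) (hφ : AlgSp.RepWith @Etale φ) :
    (x ∈ Set.range (AlgSp.Points.ofPt φ) ∧ (AlgSp.Points.ofPt φ ⁻¹' {x}).Finite ∧
        ∀ (R : Over S) (s t : R ⟶ U), IsPullback ((AlgSp.yon S).map t) ((AlgSp.yon S).map s) φ φ →
          (AlgSp.Points.ofPt ((AlgSp.yon S).map t ≫ φ) ⁻¹' {x}).Finite) ↔
      ∃ p : AlgSp.FieldPt X.obj, AlgSp.Points.mk p = x ∧ Mono p.toHom ∧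
        ∀ (T : Over S) (c : T ⟶ p.pt) (snd : (AlgSp.yon S).obj T ⟶ (AlgSp.yon S).obj U),
          IsPullback ((AlgSp.yon S).map c) snd p.toHom φ → Nonempty ↥T.left ∧ IsFinite c.left := by
  obtain ⟨h'⟩ : Nonempty (AlgSp.IsAlgSpace X.obj → ((x ∈ Set.range (AlgSp.Points.ofPt φ) ∧
      (AlgSp.Points.ofPt φ ⁻¹' {x}).Finite ∧ ∀ (R : Over S) (s t : R ⟶ U), IsPullback ((AlgSp.yon S).map t)
        ((AlgSp.yon S).map s) φ φ → (AlgSp.Points.ofPt ((AlgSp.yon S).map t ≫ φ) ⁻¹' {x}).Finite) ↔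
      ∃ p : AlgSp.FieldPt X.obj, AlgSp.Points.mk p = x ∧ Mono p.toHom ∧ ∀ (T : Over S) (c : T ⟶ p.pt)
        (snd : (AlgSp.yon S).obj T ⟶ (AlgSp.yon S).obj U), IsPullback ((AlgSp.yon S).map c) snd p.toHom φ →
          Nonempty ↥T.left ∧ IsFinite c.left)) := ⟨fun hA => by
    constructor
    · rintro ⟨⟨u, rfl⟩, hfib, hrel⟩
      obtain ⟨R, t, s, sq⟩ := AlgSpLib.exists_pullback hA.diag φ φ
      obtain ⟨p, hp, hpm⟩ := SpQS.exists_mono_of_finite_pair hA hφ sq u u rfl ((hrel R s t sq).subset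
        fun r hr => by
          show AlgSp.Points.ofPt ((AlgSp.yon S).map t ≫ φ) r = AlgSp.Points.ofPt φ u
          rw [AlgSpLib.ofPt_comp, hr.1])
      refine ⟨p, hp, hpm, fun T c snd sqT => ?_⟩
      obtain ⟨d, rfl⟩ := AlgSpLib.exists_map_eq snd
      have : Mono ((AlgSp.yon S).map d) := sqT.mono_snd_of_mono
      obtain ⟨z₀, -, -⟩ := (AlgSpLib.ofPt_eq_iff sqT (IsLocalRing.closedPoint p.K : ↥p.pt.left) u).1
        ((AlgSp.Points.ofPt_toHom p _).trans hp)
      have hinj : Function.Injective d.left := fun z z' e => by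
        refine (AlgSp.Points.schemeEquiv T).injective (SpQS.injective_points_of_mono ((AlgSp.yon S).map d) ?_)
        show AlgSp.Points.map ((AlgSp.yon S).map d) (AlgSp.Points.ofScheme T z) =
          AlgSp.Points.map ((AlgSp.yon S).map d) (AlgSp.Points.ofScheme T z')
        rw [← AlgSp.Points.ofPt_eq_map_ofScheme, ← AlgSp.Points.ofPt_eq_map_ofScheme, AlgSpLib.ofScheme_map,
          AlgSpLib.ofScheme_map, e]
      have : Finite T.left := by
        refine Set.finite_univ_iff.1 ((hfib.preimage hinj.injOn).subset fun z _ => ?_)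
        show AlgSp.Points.ofPt φ (d.left z) = AlgSp.Points.ofPt φ u
        rw [← hp, ← AlgSp.Points.ofPt_toHom p (c.left z)]
        exact ((AlgSpLib.ofPt_eq_iff sqT (c.left z) (d.left z)).2 ⟨z, rfl, rfl⟩).symm
      let c' : T.left ⟶ Spec (CommRingCat.of p.K) := c.left
      have : Etale c' := (AlgSpLib.repWith_yon_iff c).1 (AlgSpLib.repWith_baseChange sqT.flip hφ)
      exact ⟨⟨z₀⟩, (SpQS.finite_of_etale_over_field c').2 inferInstance⟩
    · rintro ⟨p, rfl, hpm, h⟩
      obtain ⟨T, c, d, sqT⟩ := AlgSpLib.exists_pullback hA.diag p.toHom φ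
      obtain ⟨⟨z⟩, hfin⟩ := h T c _ sqT
      let c' : T.left ⟶ Spec (CommRingCat.of p.K) := c.left
      have : IsFinite c' := hfin
      have : Etale c' := (AlgSpLib.repWith_yon_iff c).1 (AlgSpLib.repWith_baseChange sqT.flip hφ)
      have : CompactSpace T.left := QuasiCompact.compactSpace_of_compactSpace c'
      have := (SpQS.finite_of_etale_over_field c').1
      have : Finite T.left := finite_of_compact_of_discrete
      have hfib : (AlgSp.Points.ofPt φ ⁻¹' {AlgSp.Points.mk p}).Finite := (Set.finite_range d.left).subset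
        fun v hv => by
          obtain ⟨z', -, hz'⟩ := (AlgSpLib.ofPt_eq_iff sqT (IsLocalRing.closedPoint p.K : ↥p.pt.left) v).1
            ((AlgSp.Points.ofPt_toHom p _).trans hv.symm)
          exact ⟨z', hz'⟩
      refine ⟨⟨d.left z, ?_⟩, hfib, fun R s t sq => ?_⟩
      · rw [← AlgSp.Points.ofPt_toHom p (c.left z)]
        exact ((AlgSpLib.ofPt_eq_iff sqT (c.left z) (d.left z)).2 ⟨z, rfl, rfl⟩).symm
      · refine ((hfib.prod hfib).biUnion (t := fun w => {r | t.left r = w.1 ∧ s.left r = w.2}) fun w hw =>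
          SpQS.finite_pair_of_mono hA hφ sq w.2 w.1 p hw.2 hw.1).subset fun r hr => ?_
        have h1 : AlgSp.Points.ofPt φ (t.left r) = AlgSp.Points.mk p := by
          rw [← AlgSpLib.ofPt_comp]; exact hr
        exact Set.mem_biUnion (x := (t.left r, s.left r))
          ⟨h1, ((AlgSpLib.ofPt_eq_iff sq _ _).2 ⟨r, rfl, rfl⟩).symm.trans h1⟩ ⟨rfl, rfl⟩⟩
  exact h' X.property

end Groth.Agent.S10410
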