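import Groth.Statements.S10412
import Groth.Agent.AlgSpLib.Subspace
import Groth.Agent.AlgSpLib.DiagProp
import Groth.Agent.SpQS.Sober

set_option autoImplicit false
universe u
open CategoryTheory CategoryTheory.Limits AlgebraicGeometry Topology TopologicalSpace
open AlgSp

set_option backward.isDefEq.respectTransparency false

namespace Groth.Agent.S10412

/-- For an algebraic space X over a scheme S the following are equivalent: (1) X has a Zariski covering
by open subspaces X_i, each X_i admitting a surjective, etale and quasi-compact morphism U_i ⟶ X_i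
with U_i a scheme; (2) there are etale morphisms U_i ⟶ X from schemes, jointly surjective, such that
for each i both projection morphisms from U_i ×_X U_i to U_i are quasi-compact. -/
theorem result {S : Scheme.{u}} (X : AlgSp.Space S) :
    (∃ (ι : Type u) (Xi : ι → AlgSp.Space S) (j : ∀ i, Xi i ⟶ X) (U : ι → Over S)
        (a : ∀ i, (AlgSp.yon S).obj (U i) ⟶ (Xi i).obj),
        AlgSp.IsZarCover (fun i => (Xi i).obj) (fun i => (j i).hom) ∧
          ∀ i, AlgSp.RepWith @Etale (a i) ∧ AlgSp.RepWith @Surjective (a i) ∧ AlgSp.RepWith @QuasiCompact (a i)) ↔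
      ∃ (ι : Type u) (U : ι → Over S) (φ : ∀ i, (AlgSp.yon S).obj (U i) ⟶ X.obj),
        (∀ i, AlgSp.RepWith @Etale (φ i)) ∧
          (∀ x : AlgSp.Points X.obj, ∃ (i : ι) (v : ↥(U i).left), AlgSp.Points.ofPt (φ i) v = x) ∧
          ∀ (i : ι) (R : Over S) (s t : R ⟶ U i), IsPullback ((AlgSp.yon S).map t) ((AlgSp.yon S).map s) (φ i) (φ i) →
            QuasiCompact s.left ∧ QuasiCompact t.left := by
  obtain ⟨h'⟩ : Nonempty (AlgSp.IsAlgSpace X.obj → ∀ (U : Over S) (φ : (AlgSp.yon S).obj U ⟶ X.obj),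
      AlgSp.RepWith @Etale φ → (∀ (R : Over S) (s t : R ⟶ U), IsPullback ((AlgSp.yon S).map t) ((AlgSp.yon S).map s) φ φ →
        QuasiCompact s.left ∧ QuasiCompact t.left) →
      ∃ (Xi : AlgSp.Sp S) (j : Xi ⟶ X.obj) (a : (AlgSp.yon S).obj U ⟶ Xi), AlgSp.IsAlgSpace Xi ∧
        AlgSp.RepWith @IsOpenImmersion j ∧ a ≫ j = φ ∧ AlgSp.RepWith @Etale a ∧ AlgSp.RepWith @Surjective a ∧
        AlgSp.RepWith @QuasiCompact a) := ⟨fun hX U φ hφ hR => by
    have hB : IsOpen (Set.range (AlgSp.Points.ofPt φ)) :=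
      (AlgSpLib.isOpenMap_ofPt (AlgSpLib.repWith_universallyOpen_of_etale hφ)).isOpen_range
    obtain ⟨l, hl⟩ := AlgSpLib.exists_factor_subInc (W := Set.range (AlgSp.Points.ofPt φ)) φ fun w => by
      obtain ⟨v, rfl⟩ := (AlgSp.Points.schemeEquiv U).surjective w
      exact ⟨v, AlgSp.Points.ofPt_eq_map_ofScheme φ v⟩
    have hA := AlgSpLib.isAlgSpace_subSheaf hX hB
    have hle : AlgSp.RepWith @Etale l := AlgSpLib.repWith_of_comp_mono (m := AlgSpLib.subInc _) (by rw [hl]; exact hφ)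
    have hls : AlgSp.RepWith @Surjective l := AlgSpLib.repWith_surjective_of_isSurjectiveMor hle.1 fun z => by
      obtain ⟨v, hv⟩ := AlgSpLib.map_subInc_mem z
      obtain ⟨y, hy₁, hy₂⟩ := AlgSpLib.exists_point_of_isPullback (IsKernelPair.id_of_mono (AlgSpLib.subInc _)) z
        (AlgSp.Points.map l (AlgSp.Points.ofScheme U v))
        (by rw [← AlgSp.Points.map_comp, hl, ← AlgSp.Points.ofPt_eq_map_ofScheme, hv])
      rw [AlgSp.Points.map_id] at hy₁ hy₂
      exact ⟨AlgSp.Points.ofScheme U v, hy₂.symm.trans hy₁⟩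
    refine ⟨_, AlgSpLib.subInc _, l, hA, AlgSpLib.repWith_subInc hB, hl, hle, hls, ?_⟩
    obtain ⟨R, t, s, sq⟩ := AlgSpLib.exists_pullback hA.diag l l
    have sqφ : IsPullback ((AlgSp.yon S).map t) ((AlgSp.yon S).map s) φ φ := by
      rw [← hl]
      exact AlgSpLib.isPullback_comp_mono sq (AlgSpLib.subInc _)
    have := AlgSpLib.isLocallySurjective_of_atlas hle hls
    exact AlgSpLib.repWith_of_isLocallySurjective (P := @QuasiCompact) hle.1 sq
      ((AlgSpLib.repWith_yon_iff s).2 (hR R s t sqφ).1)⟩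
  constructor
  · rintro ⟨ι, Xi, j, U, a, hz, ha⟩
    refine ⟨ι, U, fun i => a i ≫ (j i).hom, fun i => AlgSpLib.repWith_comp (ha i).1
      (AlgSpLib.repWith_mono (fun {A B} g (hg : IsOpenImmersion g) => (by have := hg; infer_instance : Etale g))
        (hz.1 i)), fun x => ?_, fun i R s t sq => ?_⟩
    · obtain ⟨i, y, rfl⟩ := hz.2 x
      obtain ⟨v, rfl⟩ := AlgSpLib.ofPt_surjective (ha i).2.1 y
      exact ⟨i, v, (AlgSp.Points.map_ofPt _ _ v).symm⟩
    · have : Mono (j i).hom := AlgSpLib.mono_of_repWith_immersion (AlgSpLib.repWith_mono (P := @IsOpenImmersion)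
        (Q := @IsImmersion) (fun _ _ g hg => have : IsOpenImmersion g := hg; inferInstance) (hz.1 i))
      have sq' := SpQS.isPullback_of_comp_mono (j i).hom sq
      exact ⟨(AlgSpLib.repWith_yon_iff s).1 (AlgSpLib.repWith_baseChange sq' (ha i).2.2),
        (AlgSpLib.repWith_yon_iff t).1 (AlgSpLib.repWith_baseChange sq'.flip (ha i).2.2)⟩
  · rintro ⟨ι, U, φ, hφ, hcov, hR⟩
    choose Xi j a hXi hj hja hae has haq using fun i => h' X.property (U i) (φ i) (hφ i) (hR i)
    refine ⟨ι, fun i => ⟨Xi i, hXi i⟩, fun i => ObjectProperty.homMk (j i), U, a, ⟨hj, fun x => ?_⟩,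
      fun i => ⟨hae i, has i, haq i⟩⟩
    obtain ⟨i, v, rfl⟩ := hcov x
    exact ⟨i, AlgSp.Points.ofPt (a i) v, (AlgSp.Points.map_ofPt _ _ v).trans (congrArg (fun g => AlgSp.Points.ofPt g v) (hja i))⟩

end Groth.Agent.S10412
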