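import Groth.Statements.S10413
import Groth.Agent.SpQS.MonoPt

set_option autoImplicit false
universe u
open CategoryTheory CategoryTheory.Limits AlgebraicGeometry Topology TopologicalSpace
open AlgSp

set_option backward.isDefEq.respectTransparency false

namespace Groth.Agent.S10413

/-- Let S be a scheme, X and Y algebraic spaces over S, and X ⟶ Y a representable morphism. If every
point of Y can be represented by a monomorphism into Y from the spectrum of a field, then every
point of X can likewise be represented by such a monomorphism into X. -/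
theorem result {S : Scheme.{u}} {X Y : AlgSp.Space S} (f : X ⟶ Y) (hf : AlgSp.Representable f.hom)
    (hY : ∀ y : AlgSp.Points Y.obj, ∃ q : AlgSp.FieldPt Y.obj, AlgSp.Points.mk q = y ∧ Mono q.toHom)
    (x : AlgSp.Points X.obj) : ∃ p : AlgSp.FieldPt X.obj, AlgSp.Points.mk p = x ∧ Mono p.toHom := by
  obtain ⟨h'⟩ : Nonempty (AlgSp.IsAlgSpace X.obj → ∃ p : AlgSp.FieldPt X.obj, AlgSp.Points.mk p = x ∧ Mono p.toHom) :=
    ⟨fun hA => by
      obtain ⟨q, hq, hm⟩ := hY (AlgSp.Points.map f.hom x)
      obtain ⟨W, fst, w, sq⟩ := AlgSpLib.exists_isPullback_of_representable hf q.toHom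
      have : Mono fst := sq.mono_fst_of_mono
      obtain ⟨z, hz, -⟩ := AlgSpLib.exists_point_of_isPullback sq x (AlgSp.Points.ofScheme q.pt (IsLocalRing.closedPoint q.K))
        (by rw [← AlgSp.Points.ofPt_eq_map_ofScheme, AlgSp.Points.ofPt_toHom, hq])
      obtain ⟨z', rfl⟩ := (AlgSp.Points.schemeEquiv W).surjective z
      obtain ⟨p, hp, hpm⟩ := SpQS.mono_point_scheme fst z'
      exact ⟨p, hp.trans ((AlgSp.Points.ofPt_eq_map_ofScheme fst z').trans hz), hpm⟩⟩
  exact h' X.property

end Groth.Agent.S10413
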