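import Groth.Agent.AlgSpLib.Residual
import Groth.Prelude.Def_AlgSpDec
import Groth.Prelude.Def_AlgSp4
import Mathlib.AlgebraicGeometry.Morphisms.Flat

set_option autoImplicit false
universe u
open CategoryTheory CategoryTheory.Limits AlgebraicGeometry Topology TopologicalSpace
open AlgSp

set_option backward.isDefEq.respectTransparency false

namespace Groth.Agent.S10414

/-- Let S be a scheme, X an algebraic space over S, x ∈ |X|, and Z_x ⟶ X the residual space of x (a
monomorphism with image {x} from a space which admits a locally finitely presented, flat, surjective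
morphism whose source is the spectrum of a field). Then Z_x is isomorphic to Spec k' for some field
k' if and only if the point x is represented by some monomorphism Spec k ⟶ X. (The decent case, in
which the right side holds at every point, is not part of this row.) -/
theorem result {S : Scheme.{u}} (X : AlgSp.Space S) (x : AlgSp.Points X.obj)
    {Z : AlgSp.Space S} (i : Z ⟶ X) [Mono i.hom] (hi : Set.range (AlgSp.Points.map i.hom) = {x})
    (hZ : ∃ (k : Type u) (_ : Field k) (str : Spec (CommRingCat.of k) ⟶ S) (p : (AlgSp.yon S).obj (Over.mk str) ⟶ Z.obj),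
        AlgSp.LocP @LocallyOfFinitePresentation p ∧ AlgSp.LocP @Flat p ∧ AlgSp.IsSurjectiveMor p) :
    (∃ (k : Type u) (_ : Field k) (str : Spec (CommRingCat.of k) ⟶ S), Nonempty (Z.obj ≅ (AlgSp.yon S).obj (Over.mk str))) ↔
      ∃ p : AlgSp.FieldPt X.obj, AlgSp.Points.mk p = x ∧ Mono p.toHom := by
  constructor
  · rintro ⟨k, _, str, ⟨e⟩⟩
    obtain ⟨t⟩ : Nonempty ↥(Over.mk str).left := inferInstanceAs (Nonempty (PrimeSpectrum k))
    obtain ⟨p, hp, hpm⟩ := SpQS.mono_point_scheme (e.inv ≫ i.hom) t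
    refine ⟨p, ?_, hpm⟩
    rw [hp, ← AlgSp.Points.map_ofPt]
    exact (Set.ext_iff.1 hi _).1 ⟨_, rfl⟩
  · rintro ⟨p, rfl, hp⟩
    have h0 := AlgSp.IsAlgSpace.yon_obj p.pt
    have hps : IsSurjectiveMor (𝟙 ((yon S).obj p.pt)) := fun z => ⟨z, AlgSp.Points.map_id z⟩
    have hr : Set.range (AlgSp.Points.map p.toHom) = {AlgSp.Points.mk p} := by
      obtain ⟨hs, ⟨y⟩⟩ := AlgSpLib.points_yon_subsingleton p.str
      obtain ⟨v⟩ : Nonempty ↥p.pt.left := inferInstanceAs (Nonempty (PrimeSpectrum p.K))
      refine Set.eq_singleton_iff_nonempty_unique_mem.2 ⟨⟨_, y, rfl⟩, ?_⟩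
      rintro _ ⟨z, rfl⟩
      rw [Subsingleton.elim z (AlgSp.Points.ofScheme p.pt v), ← AlgSp.Points.ofPt_eq_map_ofScheme,
        AlgSp.Points.ofPt_toHom]
    obtain ⟨e, he, -⟩ := AlgSpLib.residual_unique h0 Z.property p.toHom i.hom X.property hr hi
      ⟨p.K, inferInstance, p.str, 𝟙 _, AlgSpLib.locP_of_etale AlgSpLib.etST_lfp h0 AlgSpLib.repWith_id',
        AlgSpLib.locP_of_etale AlgSpLib.etST_flat h0 AlgSpLib.repWith_id', hps⟩ hZ
    exact ⟨p.K, inferInstance, p.str, ⟨asIso e⟩⟩

end Groth.Agent.S10414
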