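import Groth.Agent.AlgSpLib.Residual
import Groth.Agent.SpQS.RedInduced
import Groth.Agent.AlgSpLib.DiagCrit
import Groth.Agent.AlgSpLib.DiagProp
import Groth.Agent.AlgSpLib.LocPMore
import Groth.Prelude.Def_AlgSpDec
import Groth.Prelude.Def_AlgSp4
import Mathlib.AlgebraicGeometry.Morphisms.Flat

set_option autoImplicit false
universe u
open CategoryTheory CategoryTheory.Limits AlgebraicGeometry Topology TopologicalSpace
open AlgSp

set_option backward.isDefEq.respectTransparency false

namespace Groth.Agent.S10416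

/-- Let S be a scheme, X a locally Noetherian algebraic space over S, x ∈ |X|, and i : Z_x ⟶ X the
residual space at x. Then x is closed in |X| if and only if i is a closed immersion. -/
theorem result {S : Scheme.{u}} {X Z : AlgSp.Space S}
    (hX : AlgSp.IsLocNoethSp X.obj) (x : AlgSp.Points X.obj) (i : Z ⟶ X) [Mono i.hom]
    (hi : Set.range (AlgSp.Points.map i.hom) = {x}) (hZ : ∃ (k : Type u) (_ : Field k) (str : Spec (CommRingCat.of k) ⟶ S) (p : (AlgSp.yon S).obj (Over.mk str) ⟶ Z.obj),
        AlgSp.LocP @LocallyOfFinitePresentation p ∧ AlgSp.LocP @Flat p ∧ AlgSp.IsSurjectiveMor p) :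
    IsClosed ({x} : Set (AlgSp.Points X.obj)) ↔ AlgSp.RepWith @IsClosedImmersion i.hom := by
  constructor
  · intro hx
    obtain ⟨W, j, hW, hj, hjr, hred⟩ := SpQS.exists_redInduced X.property hx
    have hji : RepWith @IsImmersion j := AlgSpLib.repWith_mono (fun _ _ r hr => by
      have : IsClosedImmersion r := hr
      infer_instance) hj
    have : Mono j := AlgSpLib.mono_of_repWith_immersion hji
    have hlft : LocP @LocallyOfFiniteType j :=
      (AlgSpLib.locP_iff_repWith AlgSpLib.etST_lft X.property hj.1).2 (AlgSpLib.repWith_mono (fun _ _ r hr => by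
        have : IsClosedImmersion r := hr
        infer_instance) hj)
    have hN : IsLocNoethSp W := AlgSpLib.isLocNoethSp_of_lft hW X.property j hlft hX
    obtain ⟨w, hw⟩ : x ∈ Set.range (AlgSp.Points.map j) := hjr ▸ rfl
    have hsub : Subsingleton (AlgSp.Points W) := ⟨fun a b => SpQS.injective_points_of_mono j
      (((Set.ext_iff.1 hjr _).1 ⟨a, rfl⟩).trans ((Set.ext_iff.1 hjr _).1 ⟨b, rfl⟩).symm)⟩
    obtain ⟨e, he, hei⟩ := AlgSpLib.residual_unique hW Z.property j i.hom X.property hjr hi
      ((AlgSpLib.reduced_locNoeth_singleton_iff hW).1 ⟨hred, hN, ⟨w⟩, hsub⟩) hZ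
    rw [← hei]
    exact (AlgSpLib.repWith_iso_comp_iff e j).2 hj
  · intro h
    rw [← hi]
    exact (AlgSpLib.repWith_isClosedImmersion_iff X.property (AlgSpLib.repWith_mono (fun _ _ r hr => by
      have : IsClosedImmersion r := hr
      infer_instance) h)).1 h

end Groth.Agent.S10416
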