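import Groth.Statements.S10418
import Groth.Agent.SpQS.ConfFiltration

set_option autoImplicit false
universe u
open CategoryTheory CategoryTheory.Limits AlgebraicGeometry Topology TopologicalSpace
open AlgSp

set_option backward.isDefEq.respectTransparency false

namespace Groth.Agent.S10418

/-- Let S be a scheme and X an algebraic space over S which is quasi-compact. There are open subspaces X
= U_1 ⊇ U_2 ⊇ U_3 ⊇ ⋯ such that (1) with T_p = U_p ∖ U_{p+1} (reduced induced subspace structure)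
there is a separated scheme V_p with a surjective etale f_p : V_p ⟶ U_p for which the map f_p⁻¹(T_p)
⟶ T_p is an isomorphism, and (2) every x ∈ |X| admitting a representative given by a quasi-compact
morphism from the spectrum of a field lies in T_p for some p. -/
theorem result {S : Scheme.{u}} (X : AlgSp.Space S)
    (hX : AlgSp.IsQuasiCompactSp X.obj) :
    ∃ (Uo : ℕ → AlgSp.Space S) (j : ∀ p, Uo p ⟶ X) (k : ∀ p, Uo (p + 1) ⟶ Uo p)
      (T : ℕ → AlgSp.Space S) (i : ∀ p, T p ⟶ Uo p),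
      (∀ p, AlgSp.RepWith @IsOpenImmersion (j p).hom) ∧ (∀ p, k p ≫ j p = j (p + 1)) ∧ IsIso (j 1) ∧
      (∀ p, AlgSp.IsRedInduced (Set.range (AlgSp.Points.map (k p).hom))ᶜ (i p).hom) ∧
      (∀ p, 1 ≤ p → ∃ (V : Over S) (f : (AlgSp.yon S).obj V ⟶ (Uo p).obj), V.left.IsSeparated ∧
        AlgSp.RepWith @Etale f ∧ AlgSp.RepWith @Surjective f ∧
        ∀ (P : AlgSp.Sp S) (fst : P ⟶ (T p).obj) (snd : P ⟶ (AlgSp.yon S).obj V),
          IsPullback fst snd (i p).hom f → IsIso fst) ∧
      (∀ x : AlgSp.Points X.obj, (∃ q : AlgSp.FieldPt X.obj, AlgSp.Points.mk q = x ∧ AlgSp.RepWith @QuasiCompact q.toHom) →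
        ∃ p, 1 ≤ p ∧ x ∈ Set.range (AlgSp.Points.map ((i p) ≫ (j p)).hom)) := by
  open _root_.AlgSp Groth.Agent.SpQS in
  obtain ⟨W, π, hW, hπ, cs, Uo, j, k, T, i, h₁, h₂, h₃, hrange, h₄, h₅, h₆⟩ := exists_filtration X hX
  refine ⟨Uo, j, k, T, i, h₁, h₂, h₃, h₄, fun p hp => ?_, fun x hx => ?_⟩
  · obtain ⟨V, f, a, -, b, c, d⟩ := h₅ p hp
    exact ⟨V, f, a, b, c, d⟩
  obtain ⟨q, rfl, hq⟩ := hx
  obtain ⟨N, hN⟩ := exists_bound_pts hπ q hq
  have hone : Points.mk q ∈ confSet cs 1 := by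
    have h : Function.Surjective (Points.map (j 1).hom) := by
      intro y
      refine ⟨Points.map (inv (j 1)).hom y, ?_⟩
      rw [← Points.map_comp]
      have e : (inv (j 1)).hom ≫ (j 1).hom = 𝟙 _ := congrArg (fun m => m.hom) (IsIso.inv_hom_id (j 1))
      rw [e, Points.map_id]
    rw [← hrange, h.range_eq]
    trivial
  classical
  have hex : ∃ p, 1 ≤ p ∧ Points.mk q ∉ confSet cs (p + 1) := by
    by_contra hno
    push Not at hno
    rcases N with _ | N
    · exact hN (cs 0) hone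
    · exact hN (cs (N + 1)) (hno (N + 1) (by omega))
  obtain ⟨hp₁, hp₂⟩ := Nat.find_spec hex
  refine ⟨Nat.find hex, hp₁, h₆ _ _ ?_ hp₂⟩
  by_cases h1 : Nat.find hex = 1
  · rw [h1]
    exact hone
  · have h' := Nat.find_min hex (show Nat.find hex - 1 < Nat.find hex by omega)
    push Not at h'
    have := h' (by omega)
    rwa [show Nat.find hex - 1 + 1 = Nat.find hex by omega] at this

end Groth.Agent.S10418
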