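import Groth.Statements.S1042
import Groth.Agent.PerfPush.Unit

set_option autoImplicit false
set_option backward.isDefEq.respectTransparency false
set_option backward.isDefEq.respectTransparency.types false
universe u
open CategoryTheory CategoryTheory.Limits AlgebraicGeometry
attribute [local instance] HasDerivedCategory.standard
open Perf

namespace Groth.Agent.S1042

/-- Let f : X ⟶ S be proper and of finite presentation, F an O_X-module of finite presentation flat over
S, and i ∈ ℤ, r ∈ ℕ. There is an open subset U ⊆ S such that for every morphism g : T ⟶ S (with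
Rf_{T,*} assumed to exist on the unbounded derived category), g factors through U — i.e. the image
of g lies in U — exactly when Rf_{T,*}(F_T), as an object of D(O_T), is a rank-r finite locally free
O_T-module sitting in degree i; here f_T : X ×_S T ⟶ T and F_T is the pullback of F to X ×_S T. -/
theorem result {X S : Scheme.{u}} (f : X ⟶ S) [IsProper f] [LocallyOfFinitePresentation f]
    (F : X.Modules) (hF : CohB1.IsFP F) (hflat : FlatMod.IsFlatOver f F) (i : ℤ) (r : ℕ) :
    ∃ U : S.Opens, ∀ (T : Scheme.{u}) (g : T ⟶ S) [DCoh.HasRpush (pullback.snd f g)],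
      Set.range g.base ⊆ (U : Set S) ↔
        ∃ V : T.Modules, FlatMod.IsFinLocFreeOfRank r V ∧
          Nonempty ((DCoh.Rpush (pullback.snd f g)).obj (DCoh.inD (pullback f g) ((Scheme.Modules.pullback (pullback.fst f g)).obj F)) ≅ (DCoh.inD T V)⟦-i⟧) := by
  haveI := Groth.Agent.DerPush.hasRpush_sch f
  have hsupp : ClSub.IsProperOver f (CohB1.support F) := ClSubLib.isProperOver_of_subset f (𝟙 X) _
    (Groth.Agent.QC.isClosed_support (Groth.Agent.ModDesc.isFT_of_isFP hF)) (by simp)
  obtain ⟨U, hU⟩ := Groth.Agent.PerfLocus.exists_open _ (Groth.Agent.PerfPush.isPerfect_rpush_inD f F hF hflat hsupp) i r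
  refine ⟨U, fun T g _ => ?_⟩
  haveI := Groth.Agent.KFlat.hasLpull g
  obtain ⟨e⟩ := Groth.Agent.PerfPush.nonempty_baseChange_inD (IsPullback.of_hasPullback f g) F
    (Groth.Agent.FibDepth.isQCoh_of_isFP hF) hflat
  rw [hU T g]
  exact exists_congr fun V => and_congr_right' ⟨fun ⟨a⟩ => ⟨e.symm ≪≫ a⟩, fun ⟨a⟩ => ⟨e ≪≫ a⟩⟩

end Groth.Agent.S1042
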