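import Groth.Statements.S10423
import Groth.Agent.SpQS.DecentQS

set_option autoImplicit false
universe u
open CategoryTheory CategoryTheory.Limits AlgebraicGeometry Topology TopologicalSpace
open AlgSp

set_option backward.isDefEq.respectTransparency false

namespace Groth.Agent.S10423

/-- A morphism of algebraic spaces over a scheme S which is representable, or which is quasi-separated,
is decent (all its base changes to schemes are decent algebraic spaces). The implications through
reasonable and very reasonable morphisms are not part of this row. -/
theorem result {S : Scheme.{u}} {X Y : AlgSp.Space S} (f : X ⟶ Y) :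
    (AlgSp.Representable f.hom → AlgSp.IsDecentMor f.hom) ∧
      (AlgSp.IsQuasiSeparatedMor f.hom → AlgSp.IsDecentMor f.hom) := by
  refine ⟨fun hf T F' g fst snd sq => ?_, fun hf => SpQS.isDecentMor_of_qs X.property Y.property f.hom hf⟩
  obtain ⟨V, a, b, sq'⟩ := AlgSpLib.exists_isPullback_of_representable hf g
  exact (SpQS.isDecent_yon V).of_iso (sq'.isoIsPullback _ _ sq)

end Groth.Agent.S10423
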