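import Groth.Statements.S10430
import Groth.Agent.SpQS.GoodPt

set_option autoImplicit false
universe u
open CategoryTheory CategoryTheory.Limits AlgebraicGeometry Topology TopologicalSpace
open AlgSp

set_option backward.isDefEq.respectTransparency false

namespace Groth.Agent.S10430

/-- If every etale morphism U ⟶ X from an affine scheme to the algebraic space X has universally bounded
fibres, then X is decent. -/
theorem result {S : Scheme.{u}} (X : AlgSp.Space S)
    (h : ∀ (U : Over S) (φ : (AlgSp.yon S).obj U ⟶ X.obj), IsAffine U.left → AlgSp.RepWith @Etale φ → W4dec.HasUnivBddFibres φ) :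
    AlgSp.IsDecent X.obj := by
  obtain ⟨h'⟩ : Nonempty (AlgSp.IsAlgSpace X.obj → AlgSp.IsDecent X.obj) := ⟨fun hA => by
    refine SpQS.isDecent_of_good hA fun x => ?_
    obtain ⟨p, rfl⟩ := AlgSp.Points.mk_surjective x
    rw [← AlgSp.Points.ofPt_toHom p (IsLocalRing.closedPoint p.K)]
    refine SpQS.goodAt_of_one hA p.toHom fun U a hU ha _ V pV qV sq => ?_
    obtain ⟨n, hn⟩ := h U a hU ha
    have : IsFinite qV.left := (hn p V qV _ sq.flip).1
    have : CompactSpace (Over.mk p.str).left := inferInstanceAs (CompactSpace (Spec (CommRingCat.of p.K)))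
    exact QuasiCompact.compactSpace_of_compactSpace qV.left⟩
  exact h' X.property

end Groth.Agent.S10430
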