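import Groth.Statements.S10431
import Groth.Agent.SpQS.UnivBddSpace

set_option autoImplicit false
universe u
open CategoryTheory CategoryTheory.Limits AlgebraicGeometry Topology TopologicalSpace
open AlgSp

set_option backward.isDefEq.respectTransparency false

namespace Groth.Agent.S10431

/-- Let S be a scheme, X and Y algebraic spaces over S, and X ⟶ Y a representable morphism. If every
etale morphism from an affine scheme to Y has universally bounded fibres, then so does every etale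
morphism from an affine scheme to X. -/
theorem result {S : Scheme.{u}} {X Y : AlgSp.Space S} (f : X ⟶ Y)
    (hf : AlgSp.Representable f.hom)
    (hY : ∀ (V : Over S) (ψ : (AlgSp.yon S).obj V ⟶ Y.obj), IsAffine V.left → AlgSp.RepWith @Etale ψ → W4dec.HasUnivBddFibres ψ)
    (U : Over S) (φ : (AlgSp.yon S).obj U ⟶ X.obj) (hU : IsAffine U.left) (hφ : AlgSp.RepWith @Etale φ) :
    W4dec.HasUnivBddFibres φ := by
  open CategoryTheory.Limits Groth.Agent.AlgSpLib in
  obtain ⟨hX⟩ : Nonempty (AlgSp.IsAlgSpace X.obj) := ⟨X.property⟩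
  obtain ⟨hA⟩ : Nonempty (AlgSp.IsAlgSpace Y.obj) := ⟨Y.property⟩
  obtain ⟨V₀, π, ι, O, hπ, hπs, hO, -, hcov⟩ := Groth.Agent.AlgSpLib.exists_affine_chart_family hA
  let Vo : ι → Over S := fun i => Over.mk ((O i).ι ≫ V₀.hom)
  let jo : ∀ i, Vo i ⟶ V₀ := fun i => Over.homMk (O i).ι rfl
  let ψ : ∀ i, (AlgSp.yon S).obj (Vo i) ⟶ Y.obj := fun i => (AlgSp.yon S).map (jo i) ≫ π
  have hψ : ∀ i, AlgSp.RepWith @Etale (ψ i) := fun i =>
    Groth.Agent.AlgSpLib.repWith_comp ((Groth.Agent.AlgSpLib.repWith_yon_iff _).2 (inferInstanceAs (Etale (O i).ι))) hπ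
  choose W a b sq using fun i => exists_isPullback_of_representable hf (ψ i)
  refine Groth.Agent.SpQS.exists_degFibresLE_of_cover hX (U := W) (φ := a)
    (fun i => repWith_baseChange (sq i).flip (hψ i)) (fun x => ?_) (fun i => ?_) φ hφ
  · obtain ⟨v, hv⟩ := ofPt_surjective hπs (AlgSp.Points.map f.hom x)
    obtain ⟨i, hi⟩ := hcov v
    obtain ⟨p, hp, -⟩ := exists_point_of_isPullback (sq i) x (AlgSp.Points.ofScheme (Vo i) ⟨v, hi⟩) (by
      rw [← AlgSp.Points.ofPt_eq_map_ofScheme, ofPt_comp]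
      exact hv.symm)
    obtain ⟨w, rfl⟩ := (AlgSp.Points.schemeEquiv (W i)).surjective p
    exact ⟨i, w, (AlgSp.Points.ofPt_eq_map_ofScheme _ _).trans hp⟩
  · obtain ⟨n, hn⟩ := hY (Vo i) (ψ i) (hO i) (hψ i)
    exact ⟨n, Groth.Agent.SpQS.degFibresLE_baseChange hn (sq i).flip⟩

end Groth.Agent.S10431
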