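import Groth.Statements.S10432
import Groth.Agent.SpQS.UnivBddSpace
import Groth.Prelude.Def_AlgSpCov

set_option autoImplicit false
universe u
open CategoryTheory CategoryTheory.Limits AlgebraicGeometry Topology TopologicalSpace
open AlgSp

set_option backward.isDefEq.respectTransparency false

namespace Groth.Agent.S10432

/-- Let X be an algebraic space over a scheme S with a Zariski covering by open subspaces X_i ⟶ X such
that every etale morphism from an affine scheme to X_i has universally bounded fibres. Then every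
etale morphism from an affine scheme to X has universally bounded fibres. -/
theorem result {S : Scheme.{u}} (X : AlgSp.Space S) {ι : Type u}
    (Xi : ι → AlgSp.Space S) (j : ∀ i, Xi i ⟶ X) (hj : AlgSp.IsZarCover (fun i => (Xi i).obj) (fun i => (j i).hom))
    (h : ∀ (i : ι) (V : Over S) (ψ : (AlgSp.yon S).obj V ⟶ (Xi i).obj), IsAffine V.left → AlgSp.RepWith @Etale ψ → W4dec.HasUnivBddFibres ψ)
    (U : Over S) (φ : (AlgSp.yon S).obj U ⟶ X.obj) (hU : IsAffine U.left) (hφ : AlgSp.RepWith @Etale φ) :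
    W4dec.HasUnivBddFibres φ := by
  open CategoryTheory.Limits Groth.Agent.AlgSpLib in
  obtain ⟨hA⟩ : Nonempty (AlgSp.IsAlgSpace X.obj) := ⟨X.property⟩
  obtain ⟨hjo, hjs⟩ := hj
  have hXi : ∀ i, AlgSp.IsAlgSpace (Xi i).obj := fun i => (Xi i).property
  choose V₀ π κ O hπ hπs hO hW hcov using fun i => Groth.Agent.AlgSpLib.exists_affine_chart_family (hXi i)
  let Vo : (Σ i, κ i) → Over S := fun p => Over.mk ((O p.1 p.2).ι ≫ (V₀ p.1).hom)
  let jv : ∀ p, Vo p ⟶ V₀ p.1 := fun p => Over.homMk (O p.1 p.2).ι rfl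
  let ψ : ∀ p, (AlgSp.yon S).obj (Vo p) ⟶ (Xi p.1).obj := fun p => (AlgSp.yon S).map (jv p) ≫ π p.1
  have hψ : ∀ p, AlgSp.RepWith @Etale (ψ p) := fun p =>
    repWith_comp ((repWith_yon_iff _).2 (inferInstanceAs (Etale (O p.1 p.2).ι))) (hπ p.1)
  refine Groth.Agent.SpQS.exists_degFibresLE_of_cover hA (φ := fun p => ψ p ≫ (j p.1).hom) (fun p => ?_)
    (fun x => ?_) (fun p => ?_) φ hφ
  · exact repWith_comp (hψ p) (repWith_mono (P := @IsOpenImmersion) (Q := @Etale)
      (fun _ _ g hg => have : IsOpenImmersion g := hg; inferInstance) (hjo p.1))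
  · obtain ⟨i, y, rfl⟩ := hjs x
    obtain ⟨v, rfl⟩ := ofPt_surjective (hπs i) y
    obtain ⟨k, hk⟩ := hcov i v
    refine ⟨⟨i, k⟩, ⟨v, hk⟩, ?_⟩
    show AlgSp.Points.ofPt (((AlgSp.yon S).map (jv ⟨i, k⟩) ≫ π i) ≫ (j i).hom) _ = _
    rw [← AlgSp.Points.map_ofPt, ofPt_comp]
    rfl
  · obtain ⟨n, hn⟩ := h p.1 (Vo p) (ψ p) (hO p.1 p.2) (hψ p)
    have : Mono (j p.1).hom := mono_of_repWith_immersion (repWith_mono (P := @IsOpenImmersion) (Q := @IsImmersion)
      (fun _ _ g hg => have : IsOpenImmersion g := hg; inferInstance) (hjo p.1))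
    refine ⟨n, Groth.Agent.SpQS.degFibresLE_of_baseChange hA (g := (j p.1).hom) (fst := 𝟙 _) (f' := ψ p) ?_ ?_ hn⟩
    · refine Groth.Agent.AlgSpLib.isPullback_of_points (Category.id_comp _) fun T a b e => ?_
      exact ⟨a, ⟨Category.comp_id _, (cancel_mono (j p.1).hom).1 (by rw [Category.assoc]; exact e)⟩,
        fun k hk => (Category.comp_id k).symm.trans hk.1⟩
    · rintro _ ⟨v, rfl⟩
      exact ⟨_, AlgSp.Points.map_ofPt _ _ _⟩

end Groth.Agent.S10432
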