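import Groth.Statements.S10433
import Groth.Agent.SpQS.DegStratSp
import Groth.Agent.SpQS.RedInduced
import Groth.Prelude.Def_AlgSpMor5

set_option autoImplicit false
universe u
open CategoryTheory CategoryTheory.Limits AlgebraicGeometry Topology TopologicalSpace
open AlgSp

set_option backward.isDefEq.respectTransparency false

namespace Groth.Agent.S10433

/-- Let S be a scheme, X an algebraic space over S, W a scheme over S, and W ⟶ X a morphism which is
flat, separated, locally of finite presentation and locally quasi-finite, with universally bounded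
fibres. Then X has closed subspaces, each reduced, ∅ = Z_{-1} ⊆ Z_0 ⊆ ⋯ ⊆ Z_n with |Z_n| = |X| such
that, putting X_r = Z_r ∖ Z_{r-1}, for every morphism g : T ⟶ X the second projection W ×_X T ⟶ T is
a finite locally free morphism of degree r exactly when g(|T|) ⊆ |X_r|. (Indexing: Zs 0 = Z_{-1}, Zs
(r+1) = Z_r.) -/
theorem result {S : Scheme.{u}} (X : AlgSp.Space S) {W : Over S}
    (w : (AlgSp.yon S).obj W ⟶ X.obj) (hfl : AlgSp.RepWith @Flat w) (hfp : AlgSp.RepWith @LocallyOfFinitePresentation w)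
    (hsep : AlgSp.RepWith @IsSeparated w) (hqf : AlgSp.RepWith @LocallyQuasiFinite w) (hb : W4dec.HasUnivBddFibres w) :
    ∃ (n : ℕ) (Zs : ℕ → AlgSp.Space S) (i : ∀ r, Zs r ⟶ X),
      (∀ r, AlgSp.IsRedInduced (Set.range (AlgSp.Points.map (i r).hom)) (i r).hom) ∧
      IsEmpty (AlgSp.Points (Zs 0).obj) ∧ Set.range (AlgSp.Points.map (i (n + 1)).hom) = Set.univ ∧
      (∀ r, Set.range (AlgSp.Points.map (i r).hom) ⊆ Set.range (AlgSp.Points.map (i (r + 1)).hom)) ∧
      ∀ (r : ℕ) (T : AlgSp.Space S) (g : T ⟶ X) (P : AlgSp.Sp S) (fst : P ⟶ (AlgSp.yon S).obj W) (snd : P ⟶ T.obj),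
        IsPullback fst snd w g.hom →
          (AlgSp.IsFinLocFreeOfDegMor r snd ↔
            Set.range (AlgSp.Points.map g.hom) ⊆
              Set.range (AlgSp.Points.map (i (r + 1)).hom) \ Set.range (AlgSp.Points.map (i r).hom)) := by
  open _root_.AlgSp Groth.Agent.AlgSpLib Groth.Agent.SpQS CategoryTheory.Limits in
  obtain ⟨n, hn⟩ := hb
  obtain ⟨hA⟩ : Nonempty (IsAlgSpace X.obj) := ⟨X.property⟩
  obtain ⟨U, π, hπ, hπs⟩ := hA.atlas
  obtain ⟨P₀, a₀, c₀, sq₀⟩ := exists_pullback hA.diag w π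
  have hprops : ∀ {T P : Over S} {ξ : (yon S).obj T ⟶ X.obj} {a : P ⟶ W} {c : P ⟶ T},
      IsPullback ((yon S).map a) ((yon S).map c) w ξ →
        Flat c.left ∧ LocallyOfFinitePresentation c.left ∧ IsSeparated c.left ∧ LocallyQuasiFinite c.left ∧
          FinFib c.left ∧ ∀ t, fdeg c.left t ≤ n := fun {T P ξ a c} sq =>
    ⟨(repWith_yon_iff c).1 (repWith_baseChange sq hfl), (repWith_yon_iff c).1 (repWith_baseChange sq hfp),
      (repWith_yon_iff c).1 (repWith_baseChange sq hsep), (repWith_yon_iff c).1 (repWith_baseChange sq hqf),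
      finFib_of_degFibresLE hn sq⟩
  obtain ⟨hfl₀, hfp₀, hsep₀, hqf₀, hf₀, hn₀⟩ := hprops sq₀
  let d : U.left → ℕ := fdeg c₀.left
  let E : ℕ → Set (Points X.obj) := fun m => Points.ofPt π '' {u | d u < m}
  have hd : ∀ {T P : Over S} {ξ : (yon S).obj T ⟶ X.obj} {a : P ⟶ W} {c : P ⟶ T},
      IsPullback ((yon S).map a) ((yon S).map c) w ξ → ∀ (t : T.left) (m : ℕ),
        Points.ofPt ξ t ∈ E m ↔ fdeg c.left t < m := by
    intro T P ξ a c sq t m
    obtain ⟨hfl', -, -, -, hf', -⟩ := hprops sq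
    constructor
    · rintro ⟨u, hu, e⟩
      rw [← fdeg_eq_of_ofPt_eq sq₀ sq hf₀ hf' e]
      exact hu
    · intro h
      obtain ⟨u, hu⟩ := ofPt_surjective hπs (Points.ofPt ξ t)
      exact ⟨u, show d u < m from (lt_of_eq_of_lt (fdeg_eq_of_ofPt_eq sq₀ sq hf₀ hf' hu) h), hu⟩
  have hpre : ∀ m, Points.ofPt π ⁻¹' E m = {u | d u < m} := fun m => Set.ext fun u => hd sq₀ u m
  have hcl : ∀ m, IsClosed (E m) := fun m => by
    rw [← (isQuotientMap_ofPt hπ hπs).isClosed_preimage, hpre, ← isOpen_compl_iff]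
    have : {u | d u < m}ᶜ = {u | m ≤ d u} := by ext u; simp
    rw [this]
    exact isOpen_le_fdeg c₀.left hf₀ m
  choose Z i hZ hi using fun m => exists_redInduced hA (hcl m)
  refine ⟨n, fun m => ⟨Z m, hZ m⟩, fun m => ObjectProperty.homMk (i m), fun r => ?_, ?_, ?_, fun r => ?_, ?_⟩
  · exact (hi r).2.1.symm ▸ hi r
  · refine ⟨fun z => ?_⟩
    have h : Points.map (i 0) z ∈ E 0 := (hi 0).2.1 ▸ ⟨z, rfl⟩
    obtain ⟨u, hu, -⟩ := h
    exact Nat.not_lt_zero _ hu
  · refine (hi (n + 1)).2.1.trans (Set.eq_univ_of_forall fun x => ?_)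
    obtain ⟨u, rfl⟩ := ofPt_surjective hπs x
    exact ⟨u, Nat.lt_succ_of_le (hn₀ u), rfl⟩
  · show Set.range (Points.map (i r)) ⊆ Set.range (Points.map (i (r + 1)))
    rw [(hi r).2.1, (hi (r + 1)).2.1]
    exact Set.image_mono fun u (hu : d u < r) => Nat.lt_succ_of_lt hu
  intro r T g P fst snd sq
  show IsFinLocFreeOfDegMor r snd ↔
    Set.range (Points.map g.hom) ⊆ Set.range (Points.map (i (r + 1))) \ Set.range (Points.map (i r))
  rw [(hi r).2.1, (hi (r + 1)).2.1]
  have key : ∀ {V T' : Over S} {ξ : (yon S).obj T' ⟶ T.obj} {fst' : (yon S).obj V ⟶ P} {c : V ⟶ T'},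
      IsPullback fst' ((yon S).map c) snd ξ →
        (Mor2.IsFinLocFreeOfDeg r c.left ↔ ∀ t, Points.ofPt (ξ ≫ g.hom) t ∈ E (r + 1) \ E r) := by
    intro V T' ξ fst' c sq'
    obtain ⟨a, ha⟩ := exists_map_eq (fst' ≫ fst)
    have sq'' : IsPullback ((yon S).map a) ((yon S).map c) w (ξ ≫ g.hom) := ha.symm ▸ sq'.paste_horiz sq
    obtain ⟨h₁, h₂, h₃, h₄, h₅, -⟩ := hprops sq''
    rw [finLocFreeOfDeg_iff c.left h₅ r]
    refine forall_congr' fun t => ?_
    rw [Set.mem_diff, hd sq'', hd sq'']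
    omega
  have hrep : Representable snd := (repWith_baseChange sq hfl).1
  constructor
  · rintro h _ ⟨x, rfl⟩
    obtain ⟨T', ξ, t, rfl⟩ := exists_ofPt x
    obtain ⟨V, fst', c, sq', hc⟩ := exists_repWith h ξ
    rw [Points.map_ofPt]
    exact (key sq').1 hc t
  · intro h
    refine ⟨hrep, fun T' V ξ fst' c sq' => (key sq').2 fun t => ?_⟩
    rw [← Points.map_ofPt]
    exact h ⟨_, rfl⟩

end Groth.Agent.S10433
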