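import Groth.Agent.SpQS.GenPts
import Groth.Prelude.Def_W4stk3decentspacesp2Birat
import Groth.Prelude.Def_AlgSp4

set_option autoImplicit false
universe u
open CategoryTheory CategoryTheory.Limits AlgebraicGeometry Topology TopologicalSpace
open AlgSp

set_option backward.isDefEq.respectTransparency false

namespace Groth.Agent.S10439

/-- A birational morphism between decent algebraic spaces over a scheme S, each with only finitely many
irreducible components, is dominant: the image of |X| is dense in |Y|. -/
theorem result {S : Scheme.{u}} {X Y : AlgSp.Space S} (f : X ⟶ Y)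
    (hX : AlgSp.IsDecent X.obj) (hY : AlgSp.IsDecent Y.obj)
    (hXf : (irreducibleComponents (AlgSp.Points X.obj)).Finite)
    (hYf : (irreducibleComponents (AlgSp.Points Y.obj)).Finite)
    (hf : W4stk3decentspacesp2.IsBirational f.hom) : AlgSp.IsDominantMor f.hom := by
  obtain ⟨_, _⟩ := SpQS.t0_sober_of_decent Y.property hY
  intro y
  obtain ⟨g, hgy, hg⟩ := SpQS.exists_isMaxPt_specializes y
  obtain ⟨T, hT, hgT⟩ := (SpQS.component_generic_iff g).2 hg
  have hgen : g ∈ genericPoints (AlgSp.Points Y.obj) := by
    show closure {g} ∈ irreducibleComponents (AlgSp.Points Y.obj)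
    rw [hgT.def]
    exact hT
  obtain ⟨x, -, rfl⟩ := hf.bijOn.surjOn hgen
  exact closure_mono (Set.singleton_subset_iff.2 (Set.mem_range_self x)) (specializes_iff_mem_closure.1 hgy)

end Groth.Agent.S10439
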