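import Groth.Statements.S10441
import Groth.Agent.ElemBranch.Basic
import Groth.Agent.Hensel.BranchMore

set_option autoImplicit false
universe u
open CategoryTheory CategoryTheory.Limits AlgebraicGeometry Topology TopologicalSpace
open AlgSp

set_option backward.isDefEq.respectTransparency false

namespace Groth.Agent.S10441

/-- For a decent algebraic space X over a scheme S and x ∈ |X|, fix an elementary etale neighbourhood
(U₀, u₀) of (X, x) and a henselization R of O_{U₀, u₀} (a model of the henselian local ring at x).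
The following are equivalent: (1) O_{U, u} has exactly one minimal prime whenever (U, u) is an
elementary etale neighbourhood of (X, x); (2) a unique irreducible component of U passes through u
for all such (U, u); (3) O_{U, u} is unibranch for all such (U, u); (4) R has exactly one minimal
prime. -/
theorem result {S : Scheme.{u}} (X : AlgSp.Space S)
    (hX : AlgSp.IsDecent X.obj) (x : AlgSp.Points X.obj) {U₀ : Over S}
    (a₀ : (AlgSp.yon S).obj U₀ ⟶ X.obj) (u₀ : ↥U₀.left) (h₀ : AlgSp.IsElemEtaleNbhd a₀ u₀ x)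
    (R : Type u) [CommRing R] [IsLocalRing R] [Algebra ↥(U₀.left.presheaf.stalk u₀) R]
    [IsLocalHom (algebraMap ↥(U₀.left.presheaf.stalk u₀) R)] [Hensel.IsHenselization ↥(U₀.left.presheaf.stalk u₀) R] :
    ((∀ (U : Over S) (a : (AlgSp.yon S).obj U ⟶ X.obj) (u : ↥U.left), AlgSp.IsElemEtaleNbhd a u x →
        CAlgX.HasUniqueMinimalPrime ↥(U.left.presheaf.stalk u)) ↔
      (∀ (U : Over S) (a : (AlgSp.yon S).obj U ⟶ X.obj) (u : ↥U.left), AlgSp.IsElemEtaleNbhd a u x →
        {Z : Set ↥U.left | Z ∈ irreducibleComponents ↥U.left ∧ u ∈ Z}.encard = 1)) ∧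
    ((∀ (U : Over S) (a : (AlgSp.yon S).obj U ⟶ X.obj) (u : ↥U.left), AlgSp.IsElemEtaleNbhd a u x →
        {Z : Set ↥U.left | Z ∈ irreducibleComponents ↥U.left ∧ u ∈ Z}.encard = 1) ↔
      (∀ (U : Over S) (a : (AlgSp.yon S).obj U ⟶ X.obj) (u : ↥U.left), AlgSp.IsElemEtaleNbhd a u x →
        CAlg2.IsUnibranch ↥(U.left.presheaf.stalk u))) ∧
    ((∀ (U : Over S) (a : (AlgSp.yon S).obj U ⟶ X.obj) (u : ↥U.left), AlgSp.IsElemEtaleNbhd a u x →
        CAlg2.IsUnibranch ↥(U.left.presheaf.stalk u)) ↔ CAlgX.HasUniqueMinimalPrime R) := by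
  have key : ∀ (U : Over S) (a : (AlgSp.yon S).obj U ⟶ X.obj) (u : ↥U.left), AlgSp.IsElemEtaleNbhd a u x →
      Brnch.numBranchesAt U.left u = (minimalPrimes R).encard := fun U a u h => by
    rw [ElemBranch.encard_henselization u₀ R]
    exact ElemBranch.numBranchesAt_eq X.property h h₀
  have uni : ∀ (U : Over S) (a : (AlgSp.yon S).obj U ⟶ X.obj) (u : ↥U.left), AlgSp.IsElemEtaleNbhd a u x →
      (CAlg2.IsUnibranch ↥(U.left.presheaf.stalk u) ↔ (minimalPrimes R).encard = 1) := fun U a u h => by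
    rw [← key U a u h]
    exact (Hensel.numBranches_eq_one_iff _).symm
  have one : (minimalPrimes R).encard = 1 ↔ ∀ (U : Over S) (a : (AlgSp.yon S).obj U ⟶ X.obj) (u : ↥U.left),
      AlgSp.IsElemEtaleNbhd a u x → (minimalPrimes ↥(U.left.presheaf.stalk u)).encard = 1 := by
    constructor
    · intro hR U a u h
      refine le_antisymm ((ElemBranch.encard_le_numBranchesAt X.property h h).trans (le_of_eq ((key U a u h).trans hR))) ?_
      obtain ⟨P, hP, -⟩ := Ideal.exists_minimalPrimes_le (I := (⊥ : Ideal ↥(U.left.presheaf.stalk u)))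
        (J := IsLocalRing.maximalIdeal ↥(U.left.presheaf.stalk u)) bot_le
      exact Set.one_le_encard_iff_nonempty.2 ⟨P, hP⟩
    · intro hB
      rw [← key U₀ a₀ u₀ h₀]
      refine le_antisymm (ElemBranch.numBranchesAt_le h₀ fun V b v hv => (hB V b v hv).le) ?_
      exact (hB U₀ a₀ u₀ h₀).ge.trans (ElemBranch.encard_le_numBranchesAt X.property h₀ h₀)
  simp only [BranchSup.components_encard, ElemBranch.hasUniqueMinimalPrime_iff]
  exact ⟨trivial, ⟨fun h U a u hu => (uni U a u hu).2 (one.2 h),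
      fun h => one.1 ((uni U₀ a₀ u₀ h₀).1 (h U₀ a₀ u₀ h₀))⟩,
    ⟨fun h => (uni U₀ a₀ u₀ h₀).1 (h U₀ a₀ u₀ h₀), fun h U a u hu => (uni U a u hu).2 h⟩⟩

end Groth.Agent.S10441
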