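import Groth.Statements.S10443
import Groth.Agent.S9684
import Groth.Agent.SpQS.DecentProps

set_option autoImplicit false
universe u
open CategoryTheory CategoryTheory.Limits AlgebraicGeometry Topology TopologicalSpace
open AlgSp

namespace Groth.Agent.S10443

/-- Let S be a locally Noetherian, universally catenary scheme carrying a dimension function δ, and X a
decent algebraic space over S that is locally of finite type over S. Define δ_X : |X| → ℤ by δ_X(x)
= δ(s) + (transcendence degree of x over s), s the image of x in S; concretely, for an etale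
surjective chart U ⟶ X with U locally of finite type over S, the composite of δ_X with |U| → |X| is
the function induced from δ along U ⟶ S. Then δ_X is a dimension function: strictly decreasing along
nontrivial specializations, and dropping by one along immediate ones. -/
theorem result {S : Scheme.{u}} (δ : ↥S → ℤ) (hS : Cyc.IsSetup S δ)
    (X : AlgSp.Space S) (hX : AlgSp.IsDecent X.obj) {U : Over S} (a : (AlgSp.yon S).obj U ⟶ X.obj)
    (ha : AlgSp.RepWith @Etale a) (hs : AlgSp.RepWith @Surjective a) [LocallyOfFiniteType U.hom]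
    (δX : AlgSp.Points X.obj → ℤ) (hδ : Cyc.DeltaCompat U.hom (δX ∘ AlgSp.Points.ofPt a) δ) :
    ∀ x y : AlgSp.Points X.obj, x ⤳ y → x ≠ y →
      δX y < δX x ∧ ((∀ z : AlgSp.Points X.obj, x ⤳ z → z ⤳ y → z = x ∨ z = y) → δX x = δX y + 1) := by
  have hU : Cyc.IsDimFun U.left (δX ∘ AlgSp.Points.ofPt a) := Groth.Agent.S9684.result U.hom δ hS _ hδ
  have hg := Groth.Agent.SpQS.goodAt_of_isDecent X.property hX
  intro x y hxy hne
  obtain ⟨v, rfl⟩ := Groth.Agent.AlgSpLib.ofPt_surjective hs y
  obtain ⟨u, huv, rfl⟩ := Groth.Agent.SpQS.exists_specializes_lift X.property (hg x) hxy ha v rfl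
  obtain ⟨h1, h2⟩ := hU u v huv (fun e => hne (congrArg _ e))
  refine ⟨h1, fun him => h2 fun z huz hzv => ?_⟩
  have key : ∀ w w' : ↥U.left, w' ⤳ w → AlgSp.Points.ofPt a w' = AlgSp.Points.ofPt a w → w = w' := fun w w' hs' e =>
    Groth.Agent.SpQS.eq_of_specializes_of_good X.property ha
      (fun V b hV hb => haveI := hV; (hg _).finite X.property hb) e hs'
  rcases him _ (huz.map (AlgSp.Points.continuous_ofPt a)) (hzv.map (AlgSp.Points.continuous_ofPt a)) with e | e
  · exact Or.inl (key z u huz e.symm)
  · exact Or.inr (key v z hzv e).symm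

end Groth.Agent.S10443
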