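import Groth.Statements.S10447
import Groth.Agent.CatenarySp.Local
import Groth.Agent.SpQS.DecentProps
import Groth.Agent.S10338
import Groth.Agent.S10339

set_option autoImplicit false
universe u
open CategoryTheory CategoryTheory.Limits AlgebraicGeometry Topology TopologicalSpace
open AlgSp

set_option backward.isDefEq.respectTransparency false
attribute [local instance] specializationOrder

namespace Groth.Agent.S10447

/-- Let S be a locally Noetherian scheme whose local rings are universally catenary, and X a decent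
algebraic space over S with locally finite type structure morphism X ⟶ S. Then the space of points
|X| is catenary (bounded chains of irreducible closed subsets between any two, and all saturated
chains between the same two of equal length). -/
theorem result {S : Scheme.{u}} [IsLocallyNoetherian S]
    (hS : ∀ s : ↥S, CAlg.IsUniversallyCatenary ↥(S.presheaf.stalk s)) (X : AlgSp.Space S)
    (hX : AlgSp.IsDecent X.obj) (p : X.obj ⟶ (AlgSp.yon S).obj (Over.mk (𝟙 S)))
    (hp : AlgSp.LocP @LocallyOfFiniteType p) :
    W4stk3decentspacesp2.IsCatenarySpace (AlgSp.Points X.obj) := by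
  have hA := X.property
  have hg := SpQS.goodAt_of_isDecent hA hX
  haveI := S10338.result X hX
  haveI := S10339.result X hX
  intro T T' _
  let pt : IrreducibleCloseds (AlgSp.Points X.obj) → AlgSp.Points X.obj := fun C => irreducibleSetEquivPoints C
  let t := pt T
  obtain ⟨U, a, u, -, ha, hu, -⟩ := SpQS.exists_affine_chart_at hA t
  obtain ⟨f₁, hf₁⟩ := AlgSpLib.exists_map_eq (a ≫ p)
  have comm : a ≫ p = (AlgSp.yon S).map f₁ ≫ 𝟙 _ := by rw [Category.comp_id, hf₁]
  haveI : LocallyOfFiniteType f₁.left := hp a _ f₁ ha AlgSpLib.repWith_id' comm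
  haveI : IsLocallyNoetherian (Over.mk (𝟙 S)).left := ‹IsLocallyNoetherian S›
  obtain ⟨c, hc⟩ := CatenarySp.exists_dimFun_gens (f₁.left u) (hS _)
  let D : ↥U.left → ℤ := fun w => c (f₁.left w) + (Dual3.resTrdeg f₁.left w).toNat
  have hD : ∀ w w', AlgSp.Points.ofPt a w = AlgSp.Points.ofPt a w' → D w = D w' := fun w w' e => by
    have e1 : f₁.left w = f₁.left w' := by
      have h := congrArg (AlgSp.Points.map p) e
      rw [AlgSp.Points.map_ofPt, AlgSp.Points.map_ofPt, comm, AlgSpLib.ofPt_comp, AlgSpLib.ofPt_comp] at h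
      exact (AlgSp.Points.schemeEquiv (Over.mk (𝟙 S))).injective h
    show c _ + _ = c _ + _
    rw [e1, SpQS.resTrdeg_chart_indep hA (AlgSp.IsAlgSpace.yon_obj _) p ha (AlgSpLib.repWith_id') comm ha
      (AlgSpLib.repWith_id') comm e]
  obtain ⟨g, hgw⟩ : ∃ g : AlgSp.Points X.obj → ℤ, ∀ w, g (AlgSp.Points.ofPt a w) = D w :=
    ⟨Function.extend (AlgSp.Points.ofPt a) D 0, fun w =>
      Function.FactorsThrough.extend_apply (fun x y => hD x y) _ w⟩
  have key : ∀ x y : AlgSp.Points X.obj, x ⤳ y → y ⤳ t → x ≠ y →
      g y < g x ∧ ((∀ z, x ⤳ z → z ⤳ y → z = x ∨ z = y) → g x = g y + 1) := by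
    intro x y hxy hyt hne
    obtain ⟨v, hvu, rfl⟩ := SpQS.exists_specializes_lift hA (hg y) hyt ha u hu
    obtain ⟨w, hwv, rfl⟩ := SpQS.exists_specializes_lift hA (hg x) hxy ha v rfl
    obtain ⟨h1, h2⟩ := hc f₁.left u rfl w v hwv hvu (fun e => hne (congrArg _ e))
    rw [hgw, hgw]
    refine ⟨h1, fun him => h2 fun z hwz hzv => ?_⟩
    have eqv : ∀ z z' : ↥U.left, z' ⤳ z → AlgSp.Points.ofPt a z' = AlgSp.Points.ofPt a z → z = z' :=
      fun z z' hs e => SpQS.eq_of_specializes_of_good hA ha
        (fun V b hV hb => haveI := hV; (hg _).finite hA hb) e hs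
    rcases him _ (hwz.map (AlgSp.Points.continuous_ofPt a)) (hzv.map (AlgSp.Points.continuous_ofPt a)) with e | e
    · exact Or.inl (eqv z w hwz e.symm)
    · exact Or.inr (eqv v z hzv e).symm
  have hmono : ∀ C C' : IrreducibleCloseds (AlgSp.Points X.obj), C ≤ C' → pt C' ⤳ pt C := fun C C' h =>
    irreducibleSetEquivPoints.monotone h
  have hinj : Function.Injective pt := irreducibleSetEquivPoints.injective
  have hlt : ∀ C C', T ≤ C → C < C' → g (pt C) < g (pt C') := fun C C' h1 h2 =>
    (key _ _ (hmono C C' h2.le) (hmono T C h1) (fun e => h2.ne (hinj e).symm)).1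
  have hcov : ∀ C C', T ≤ C → C ⋖ C' → g (pt C') = g (pt C) + 1 := fun C C' h1 h2 =>
    (key _ _ (hmono C C' h2.le) (hmono T C h1) (fun e => h2.lt.ne (hinj e).symm)).2 fun z hz1 hz2 => by
      obtain ⟨Z, rfl⟩ := (irreducibleSetEquivPoints (α := AlgSp.Points X.obj)).surjective z
      rcases h2.eq_or_eq (c := Z) (irreducibleSetEquivPoints.le_iff_le.1 hz2)
        (irreducibleSetEquivPoints.le_iff_le.1 hz1) with rfl | rfl
      exacts [Or.inr rfl, Or.inl rfl]
  have hge : ∀ r : LTSeries (IrreducibleCloseds (AlgSp.Points X.obj)), r.head = T → ∀ i, T ≤ r i :=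
    fun r hr i => hr ▸ r.head_le i
  refine ⟨⟨(g (pt T') - g (pt T)).toNat, fun r h0 hl => ?_⟩, fun r r' h0 hl h0' hl' hr hr' => ?_⟩
  · have : ∀ i : Fin (r.length + 1), g (pt r.head) + (i : ℕ) ≤ g (pt (r i)) := by
      intro i
      induction i using Fin.induction with
      | zero => simp [RelSeries.head]
      | succ i ih =>
        have := hlt _ _ (hge r h0 _) (r.step i)
        simp only [Fin.val_castSucc] at ih
        simp only [Fin.val_succ, Nat.cast_add, Nat.cast_one]
        omega
    have := this (Fin.last _)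
    rw [← RelSeries.last, h0, hl, Fin.val_last] at this
    omega
  · have hkey : ∀ r : LTSeries (IrreducibleCloseds (AlgSp.Points X.obj)), r.head = T →
        (∀ i : Fin r.length, r.toFun i.castSucc ⋖ r.toFun i.succ) → g (pt r.last) = g (pt r.head) + r.length := by
      intro r hT hr
      have : ∀ i : Fin (r.length + 1), g (pt (r i)) = g (pt r.head) + (i : ℕ) := by
        intro i
        induction i using Fin.induction with
        | zero => simp [RelSeries.head]
        | succ i ih =>
          rw [hcov _ _ (hge r hT _) (hr i), ih]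
          simp [add_assoc]
      exact this (Fin.last _)
    have h3 := hkey r h0 hr
    have h4 := hkey r' h0' hr'
    rw [h0, hl] at h3
    rw [h0', hl'] at h4
    omega

end Groth.Agent.S10447
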