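import Groth.Agent.SpQS.CodimOne
import Groth.Prelude.Def_AlgSpDec
import Groth.Prelude.Def_AlgSp3
import Mathlib.RingTheory.KrullDimension.Basic
import Mathlib.AlgebraicGeometry.Morphisms.QuasiFinite

set_option autoImplicit false
universe u
open CategoryTheory CategoryTheory.Limits AlgebraicGeometry Topology TopologicalSpace
open AlgSp

set_option backward.isDefEq.respectTransparency false

namespace Groth.Agent.S10456

/-- Let f : X ⟶ Y be a morphism of algebraic spaces over a scheme S which is locally of finite type,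
with Y locally Noetherian, and let y be a point of Y of codimension at most 1. If the points of |X|
where f is quasi-finite form a dense subset, then every point of X mapping to y is a point where f
is quasi-finite. -/
theorem result {S : Scheme.{u}} {X Y : AlgSp.Space S} (f : X ⟶ Y)
    (hf : AlgSp.LocP @LocallyOfFiniteType f.hom) (hY : AlgSp.IsLocNoethSp Y.obj) (y : AlgSp.Points Y.obj)
    (hy : AlgSp.HasAt (fun U u => ringKrullDim ↥(U.presheaf.stalk u) ≤ 1) Y.obj y)
    (h : Dense {x : AlgSp.Points X.obj | AlgSp.HasAtMor (fun U _ h u => ∃ W : U.Opens, u ∈ W ∧ LocallyQuasiFinite (W.ι ≫ h) ∧ LocallyOfFiniteType (W.ι ≫ h)) f.hom x})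
    (x : AlgSp.Points X.obj) (hx : AlgSp.Points.map f.hom x = y) :
    AlgSp.HasAtMor (fun U _ h u => ∃ W : U.Opens, u ∈ W ∧ LocallyQuasiFinite (W.ι ≫ h) ∧ LocallyOfFiniteType (W.ι ≫ h)) f.hom x := by
  obtain ⟨hX⟩ : Nonempty (AlgSp.IsAlgSpace X.obj) := ⟨X.property⟩
  obtain ⟨hY'⟩ : Nonempty (AlgSp.IsAlgSpace Y.obj) := ⟨Y.property⟩
  simp only [Groth.Agent.SpQS.hasAtMor_nhd_iff hX hY' f.hom hf] at h ⊢
  exact Groth.Agent.SpQS.qfAtPt_over_codim_one hX hY' f.hom hf hY hy (fun z hz _ => Groth.Agent.SpQS.qfAtPt_codimZero_of_dense hX hY' f.hom hf hY h hz) hx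

end Groth.Agent.S10456
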