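import Groth.Statements.S10458
import Groth.Agent.GenFin.Basic
import Groth.Agent.SpQS.RedInduced
import Groth.Agent.SpQS.DecentMor
import Groth.Agent.SpQS.DecentQS
import Groth.Agent.ValLib.DvrFrom
import Groth.Agent.UnivInjMor.MonoUnram
import Groth.Agent.SchImg.ClosedSub
import Groth.Agent.AlgSpLib.ProperRange
import Groth.Agent.AlgSpLib.DiagCrit
import Groth.Agent.AlgSpLib.FpqcProps
import Groth.Agent.AlgSpLib.Criteria

set_option autoImplicit false
universe u
open CategoryTheory CategoryTheory.Limits AlgebraicGeometry Topology TopologicalSpace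
open AlgSp

set_option backward.isDefEq.respectTransparency false

namespace Groth.Agent.S10458

/-- Suppose f : X ⟶ Y is a morphism of algebraic spaces over a scheme S that is proper and surjective,
with Y integral. Then there is an integral closed subspace X' of X such that the restriction X' ⟶ Y
is an alteration: proper and dominant with X' integral, and finite over some nonempty open subspace
of Y. -/
theorem result {S : Scheme.{u}} {X Y : AlgSp.Space S} (f : X ⟶ Y)
    (hf : AlgSp.IsProperMor f.hom) (hs : AlgSp.IsSurjectiveMor f.hom) (hY : AlgSp.IsIntegralSp Y.obj) :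
    ∃ (X' : AlgSp.Space S) (i : X' ⟶ X), AlgSp.RepWith @IsClosedImmersion i.hom ∧ AlgSp.IsIntegralSp X'.obj ∧
      AlgSp.IsProperMor (i ≫ f).hom ∧ AlgSp.IsDominantMor (i ≫ f).hom ∧
      ∃ (V : AlgSp.Space S) (j : V ⟶ Y), AlgSp.RepWith @IsOpenImmersion j.hom ∧ Nonempty (AlgSp.Points V.obj) ∧
        ∀ (P : AlgSp.Space S) (fst : P ⟶ V) (snd : P ⟶ X'), IsPullback fst.hom snd.hom j.hom (i ≫ f).hom →
          AlgSp.IsFiniteMor fst.hom := by
  open Groth.Agent Groth.Agent.AlgSpLib in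
  have hdX : AlgSp.IsDecent X.obj := SpQS.isDecent_of_isDecentMor f.hom
    (SpQS.isDecentMor_of_qs X.property Y.property f.hom (ValLib.isQuasiSeparatedMor_of_separated f.hom hf.1)) hY.2.1
  open Groth.Agent in
  obtain ⟨_, _⟩ := SpQS.t0_sober_of_decent X.property hdX
  open Groth.Agent in
  obtain ⟨_, _⟩ := SpQS.t0_sober_of_decent Y.property hY.2.1
  haveI := hY.2.2
  obtain ⟨η, hη⟩ : ∃ η : AlgSp.Points Y.obj, IsGenericPoint η Set.univ :=
    ⟨genericPoint _, genericPoint_spec (AlgSp.Points Y.obj)⟩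
  obtain ⟨p, hp, -, -⟩ := hY.2.1 η
  have sq := IsPullback.of_hasPullback f.hom p.toHom
  haveI : CompactSpace ↥p.pt.left := inferInstanceAs (CompactSpace (PrimeSpectrum p.K))
  have hPqc : AlgSp.IsQuasiCompactSp (pullback f.hom p.toHom) := hf.2.1.2 (AlgSp.IsAlgSpace.yon_obj p.pt)
    (Groth.Agent.AlgSpLib.isQuasiCompactSp_yon p.pt) p.toHom _ _ sq
  obtain ⟨U, q, hqe, hqs, hUc⟩ := hPqc
  haveI := hUc
  have hpη : ∀ z, AlgSp.Points.map p.toHom z = η := fun z => by
    obtain ⟨t, rfl⟩ := (AlgSp.Points.schemeEquiv p.pt).surjective z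
    refine (AlgSp.Points.ofPt_eq_map_ofScheme p.toHom t).symm.trans ?_
    rw [← hp, Groth.Agent.AlgSpLib.mk_eq_ofPt, Subsingleton.elim (α := PrimeSpectrum p.K) t (IsLocalRing.closedPoint p.K)]
    rfl
  have hfib : AlgSp.Points.map f.hom ⁻¹' {η} = Set.range (AlgSp.Points.ofPt (q ≫ pullback.fst f.hom p.toHom)) := by
    ext x
    constructor
    · intro hx
      obtain ⟨z, hz, -⟩ := Groth.Agent.AlgSpLib.exists_point_of_isPullback sq x
        (AlgSp.Points.ofScheme p.pt (IsLocalRing.closedPoint p.K)) (hx.trans (hpη _).symm)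
      obtain ⟨u, rfl⟩ := Groth.Agent.AlgSpLib.ofPt_surjective hqs z
      exact ⟨u, by rw [← hz, AlgSp.Points.map_ofPt]⟩
    · rintro ⟨u, rfl⟩
      show AlgSp.Points.map f.hom _ = η
      rw [← AlgSp.Points.map_ofPt, ← AlgSp.Points.map_comp, sq.w, AlgSp.Points.map_comp]
      exact hpη _
  have hc : IsCompact (AlgSp.Points.map f.hom ⁻¹' {η}) := hfib ▸ isCompact_range (AlgSp.Points.continuous_ofPt _)
  haveI : CompactSpace ↥(AlgSp.Points.map f.hom ⁻¹' {η}) := isCompact_iff_compactSpace.1 hc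
  obtain ⟨x₀, hx₀⟩ := hs η
  haveI : Nonempty ↥(AlgSp.Points.map f.hom ⁻¹' {η}) := ⟨⟨x₀, hx₀⟩⟩
  obtain ⟨⟨x, hxη⟩, -, hxcl⟩ := isClosed_univ.exists_closed_singleton
    (S := (Set.univ : Set ↥(AlgSp.Points.map f.hom ⁻¹' {η}))) Set.univ_nonempty
  replace hxη : AlgSp.Points.map f.hom x = η := hxη
  obtain ⟨Z, i, hZ, hi, hrange, hred⟩ := Groth.Agent.SpQS.exists_redInduced X.property
    (isClosed_closure (s := ({x} : Set (AlgSp.Points X.obj))))
  haveI : Mono i := Groth.Agent.SchImg.mono_of_closed hi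
  have hinj : Function.Injective (AlgSp.Points.map i) :=
    Groth.Agent.UnivInjMor.isUnivInjectiveMor_of_mono hZ i X.property (𝟙 _) (𝟙 _) i (IsPullback.of_horiz_isIso ⟨by simp⟩)
  have hip : AlgSp.IsProperMor i := Groth.Agent.AlgSpLib.isProperMor_of_closedImmersion hZ X.property hi
  have hicl : IsClosedMap (AlgSp.Points.map i) :=
    hip.2.2 X.property (𝟙 _) (𝟙 _) i (IsPullback.of_horiz_isIso ⟨by simp⟩)
  obtain ⟨z, hz⟩ : x ∈ Set.range (AlgSp.Points.map i) := hrange ▸ subset_closure rfl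
  have hzgen : IsGenericPoint z (Set.univ : Set (AlgSp.Points Z)) := by
    refine Set.eq_univ_of_forall fun w => ?_
    have h1 : closure ({x} : Set (AlgSp.Points X.obj)) ⊆ AlgSp.Points.map i '' closure {z} :=
      closure_minimal (by rintro _ rfl; exact ⟨z, subset_closure rfl, hz⟩) (hicl _ isClosed_closure)
    obtain ⟨w', hw', e⟩ := h1 (show AlgSp.Points.map i w ∈ closure ({x} : Set (AlgSp.Points X.obj)) by
      rw [← hrange]; exact ⟨w, rfl⟩)
    cases hinj e
    exact hw'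
  haveI : IrreducibleSpace (AlgSp.Points Z) :=
    (irreducibleSpace_def _).2 hzgen.isIrreducible
  have hdZ : AlgSp.IsDecent Z := Groth.Agent.SpQS.isDecent_of_representable i hi.1 hdX
  have hzη : AlgSp.Points.map (i ≫ f.hom) z = η := by rw [AlgSp.Points.map_comp, hz, hxη]
  have huniq : ∀ z', AlgSp.Points.map (i ≫ f.hom) z' = η → z' = z := fun z' hz' => by
    rw [AlgSp.Points.map_comp] at hz'
    refine hinj (Eq.trans ?_ hz.symm)
    have h1 : x ⤳ AlgSp.Points.map i z' := specializes_iff_mem_closure.2 (by rw [← hrange]; exact ⟨z', rfl⟩)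
    have h2 : (⟨x, hxη⟩ : ↥(AlgSp.Points.map f.hom ⁻¹' {η})) ⤳ ⟨AlgSp.Points.map i z', hz'⟩ :=
      (subtype_specializes_iff _ _).2 h1
    have h3 := specializes_iff_mem_closure.1 h2
    rw [hxcl.closure_eq, Set.mem_singleton_iff] at h3
    exact congrArg Subtype.val h3
  have hpr : AlgSp.IsProperMor (i ≫ f.hom) := Groth.Agent.AlgSpLib.isProperMor_comp X.property Y.property hip hf
  obtain ⟨V, j, hV, hj, ⟨v, hv⟩, hfin⟩ := Groth.Agent.GenFin.exists_open_finite hZ Y.property hdZ hY.2.1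
    (i ≫ f.hom) hpr.2.1.1 hzgen hη hzη huniq (Or.inr hpr.1)
  refine ⟨⟨Z, hZ⟩, ObjectProperty.homMk i, hi, ⟨hred, hdZ, ‹_›⟩, hpr, ?_, ⟨V, hV⟩, ObjectProperty.homMk j, hj, ⟨v⟩,
    fun P fst snd sqP => ?_⟩
  · show Dense (Set.range (AlgSp.Points.map (i ≫ f.hom)))
    refine dense_iff_closure_eq.2 (Set.univ_subset_iff.1 ?_)
    rw [← hη]
    exact closure_mono (Set.singleton_subset_iff.2 ⟨z, hzη⟩)
  · refine (Groth.Agent.AlgSpLib.isFiniteMor_iff_repWith _).2 ?_
    have e : sqP.isoPullback.hom ≫ pullback.fst j (i ≫ f.hom) = fst.hom := sqP.isoPullback_hom_fst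
    rw [← e]
    exact Groth.Agent.AlgSpLib.repWith_comp (Groth.Agent.AlgSpLib.repWith_of_isIso _) hfin

end Groth.Agent.S10458
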