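import Groth.Statements.S10459
import Groth.Agent.SpDimTrdeg.Basic
import Groth.Agent.GenFin.Basic
import Groth.Agent.SpQS.TrdegQF

set_option autoImplicit false
universe u
open CategoryTheory CategoryTheory.Limits AlgebraicGeometry Topology TopologicalSpace
open AlgSp

set_option backward.isDefEq.respectTransparency false

namespace Groth.Agent.S10459

/-- Let f : X ⟶ Y be a dominant morphism locally of finite type between integral algebraic spaces over a
scheme S, with Y locally Noetherian, and let r be the transcendence degree of the generic point of X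
over its image (the generic point of Y). Then dim X ≤ dim Y + r. -/
theorem result {S : Scheme.{u}} {X Y : AlgSp.Space S} (f : X ⟶ Y)
    (hY : AlgSp.IsLocNoethSp Y.obj) (hXi : AlgSp.IsIntegralSp X.obj) (hYi : AlgSp.IsIntegralSp Y.obj)
    (hd : AlgSp.IsDominantMor f.hom) (hft : AlgSp.LocP @LocallyOfFiniteType f.hom)
    (x : AlgSp.Points X.obj) (hx : IsGenericPoint x (Set.univ : Set (AlgSp.Points X.obj))) (r : ℕ)
    (hr : AlgSp.HasAtMor (fun _ _ h u => Dual3.resTrdeg h u = (r : Cardinal.{u})) f.hom x) :
    AlgSp.dim X.obj ≤ AlgSp.dim Y.obj + ((r : ℕ∞) : WithBot ℕ∞) := by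
  open Groth.Agent in
  obtain ⟨_, _⟩ := SpQS.t0_sober_of_decent X.property hXi.2.1
  open Groth.Agent in
  have key := SpDimTrdeg.sp_dim_le X.property Y.property f.hom hY hft (r : Cardinal.{u}) fun ξ hξ s hs => by
    have e : ξ = x := (GenFin.isMaxPt_iff_eq hx ξ).1
      ((GenFin.hasAt_dim_zero_iff X.property hXi.2.1 ξ).1 hξ)
    obtain ⟨U, V, a, b, g, u, ha, hb, comm, hu, h0⟩ := hs
    obtain ⟨U', V', a', b', g', u', ha', hb', comm', hu', h0'⟩ := hr
    rw [← h0, ← h0', SpQS.resTrdeg_chart_indep X.property Y.property f.hom ha hb comm ha' hb' comm'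
      (hu.trans (e.trans hu'.symm))]
  simpa using key

end Groth.Agent.S10459
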