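import Groth.Statements.S1046
import Groth.Agent.DCohGammaZ.Basic
import Groth.Agent.DerPlus.Acyclic
import Groth.Agent.PerfGen.QCohTri

set_option backward.isDefEq.respectTransparency false
set_option backward.isDefEq.respectTransparency.types false
set_option maxHeartbeats 800000

set_option autoImplicit false
universe u
open CategoryTheory CategoryTheory.Limits AlgebraicGeometry
attribute [local instance] HasDerivedCategory.standard
open Perf

namespace Groth.Agent.S1046

/-- Let U ⊆ X be an open subscheme with quasi-compact inclusion and T = X ∖ U. Assuming O_X-modules have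
enough injectives (true, not recorded), for every bounded below E ∈ D(O_X) with quasi-coherent
cohomology sheaves, the derived sections with support RΓ_T(E) (right derived functor of F ↦ ker(F →
j_*(F|_U))) has quasi-coherent cohomology sheaves, all supported on T. -/
theorem result (X : Scheme.{u}) (U : X.Opens) [QuasiCompact U.ι] [EnoughInjectives X.Modules]
    (E : DerivedCategory.Plus X.Modules) (hE : DCoh.IsQCohD E.obj) :
    DCoh.IsQCohD ((DCoh.RgammaZPlus U.ι).obj E).obj ∧
    ∀ i : ℤ, CohB1.support (DCoh.HD ((DCoh.RgammaZPlus U.ι).obj E).obj i) ⊆ (U : Set X)ᶜ := by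
  let A := X.Modules
  let K₁ : HomotopyCategory.Plus A := (DerivedCategory.Plus.Qh (C := A)).objPreimage E
  obtain ⟨K, ⟨eK⟩⟩ := Functor.EssSurj.mem_essImage (F := HomotopyCategory.Plus.quotient A) K₁
  obtain ⟨a, ha⟩ := K.property
  obtain ⟨L, hL, i, hi⟩ := CochainComplex.Plus.exists_quasiIso_injective K a
  let I₀ := (InjectiveObject.ι A).mapCochainComplexPlus.obj L
  haveI := DerPlus.isIso_QP_map i hi
  let eP : DerivedCategory.Plus.Qh.obj ((HomotopyCategory.Plus.quotient A).obj I₀) ≅ E :=
    (asIso (DerivedCategory.Plus.Qh.map ((HomotopyCategory.Plus.quotient A).map i))).symm ≪≫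
      DerivedCategory.Plus.Qh.mapIso eK ≪≫ (DerivedCategory.Plus.Qh (C := A)).objObjPreimageIso E
  let η := (DCoh.gammaZ U.ι).rightDerivedFunctorPlusUnit
  haveI : IsIso (η.app ((HomotopyCategory.Plus.quotient A).obj I₀)) := inferInstance
  let eR := asIso (η.app ((HomotopyCategory.Plus.quotient A).obj I₀)) ≪≫ (DCoh.RgammaZPlus U.ι).mapIso eP
  let I : CochainComplex A ℤ := I₀.obj
  haveI hinj : ∀ n, Injective (I.X n) := fun n => (L.obj.X n).property
  haveI : CochainComplex.IsStrictlyGE I a :=
    (CochainComplex.isStrictlyGE_mapHomologicalComplex_obj_iff L.obj (InjectiveObject.ι A) a).2 hL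
  haveI : CochainComplex.IsKInjective I := CochainComplex.isKInjective_of_injective I a
  let q := DerivedCategory.quotientCompQhIso A
  let eA : DerivedCategory.Q.obj ((DCohGammaZ.gC U.ι).obj I) ≅ ((DCoh.RgammaZPlus U.ι).obj E).obj :=
    (q.app _).symm ≪≫ DerivedCategory.Plus.ι.mapIso eR
  let eB : DerivedCategory.Q.obj I ≅ E.obj := (q.app I).symm ≪≫ DerivedCategory.Plus.ι.mapIso eP
  haveI : CochainComplex.IsKInjective (((Scheme.Modules.restrictFunctor U.ι).mapHomologicalComplex
      (ComplexShape.up ℤ)).obj I) := DQPush.isKInjective_restrict_open U.ι I inferInstance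
  have hB : DCoh.IsQCohD (DerivedCategory.Q.obj I) := fun m =>
    QC.isQCoh_of_iso ((DerivedCategory.homologyFunctor A m).mapIso eB.symm) (hE m)
  have hC : DCoh.IsQCohD (DerivedCategory.Q.obj (((Scheme.Modules.pushforward U.ι).mapHomologicalComplex _).obj
      (((Scheme.Modules.restrictFunctor U.ι).mapHomologicalComplex (ComplexShape.up ℤ)).obj I))) := fun m =>
    QC.isQCoh_of_iso ((DerivedCategory.homologyFunctor A m).mapIso (ProjForm.rpushIso U.ι _).symm)
      (DQPush.isQCohD_rpush U.ι (fun k => QC.isQCoh_of_iso ((DerivedCategory.homologyFunctor _ k).mapIso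
        ((Scheme.Modules.restrictFunctor U.ι).mapDerivedCategoryFactors.app I))
        (PerfGen.isQCohD_RD U.ι hB k)) m)
  have hT := DerivedCategory.triangleOfSES_distinguished
    (DCohGammaZ.seqZ_shortExact U.ι I hinj)
  have hq := PerfGen.isQCohD_obj₁ _ hT hB hC
  refine ⟨fun m => QC.isQCoh_of_iso ((DerivedCategory.homologyFunctor A m).mapIso eA) (hq m), fun m => ?_⟩
  have h0 := (PerfGen.isZero_RD_iff U.ι _).1
    ((DCohGammaZ.isZero_RD_gC U.ι I).of_iso ((DQCoh.RD U.ι).mapIso eA.symm)) m
  rwa [Scheme.Opens.range_ι] at h0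

end Groth.Agent.S1046
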