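import Groth.Statements.S10460
import Groth.Agent.SpDimTrdeg.ProperDim
-- import your own Groth.Agent.* helpers here

set_option autoImplicit false
universe u
open CategoryTheory CategoryTheory.Limits AlgebraicGeometry Topology TopologicalSpace
open AlgSp

namespace Groth.Agent.S10460

/-- Let f : X ⟶ Y be a proper dominant morphism between integral algebraic spaces over a scheme S, with
Y locally Noetherian, and let r be the transcendence degree of the generic point of X over the
generic point of Y. Then dim X = dim Y + r. -/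
theorem result {S : Scheme.{u}} {X Y : AlgSp.Space S} (f : X ⟶ Y)
    (hY : AlgSp.IsLocNoethSp Y.obj) (hXi : AlgSp.IsIntegralSp X.obj) (hYi : AlgSp.IsIntegralSp Y.obj)
    (hd : AlgSp.IsDominantMor f.hom) (hp : AlgSp.IsProperMor f.hom)
    (x : AlgSp.Points X.obj) (hx : IsGenericPoint x (Set.univ : Set (AlgSp.Points X.obj))) (r : ℕ)
    (hr : AlgSp.HasAtMor (fun _ _ h u => Dual3.resTrdeg h u = (r : Cardinal.{u})) f.hom x) :
    AlgSp.dim X.obj = AlgSp.dim Y.obj + ((r : ℕ∞) : WithBot ℕ∞) := by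
  obtain ⟨-, hdX, -⟩ := hXi
  obtain ⟨-, hdY, -⟩ := hYi
  have hgX := Groth.Agent.SpQS.goodAt_of_isDecent X.property hdX
  refine le_antisymm ?_ (Groth.Agent.SpDimTrdeg.dim_add_le_of_univClosed X.property Y.property hdX hdY f.hom hY hp.2.1.1 hp.2.2 ?_ hr)
  · have h : ∀ ξ : AlgSp.Points X.obj, AlgSp.HasAt (fun U u => ringKrullDim ↥(U.presheaf.stalk u) = 0) X.obj ξ →
        ∀ s : Cardinal.{u}, AlgSp.HasAtMor (fun _ _ h u => Dual3.resTrdeg h u = s) f.hom ξ → s ≤ (r : Cardinal.{u}) := by
      rintro ξ ⟨U, a, u, ha, rfl, hu⟩ s ⟨U', V', a', b', h', u', ha', hb', comm', hu', rfl⟩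
      have hmax := (Groth.Agent.SpQS.isMaxPt_ofPt_iff X.property hgX ha u).2
        ((Groth.Agent.SpQS.stalk_dim_zero_iff u).1 hu)
      have hxe : x = AlgSp.Points.ofPt a u := hmax _ (hx.specializes (Set.mem_univ _))
      obtain ⟨U₂, V₂, a₂, b₂, h₂, u₂, ha₂, hb₂, comm₂, hu₂, h0⟩ := hr
      rw [← h0, Groth.Agent.SpQS.resTrdeg_chart_indep X.property Y.property f.hom ha' hb' comm' ha₂ hb₂ comm₂
        (by rw [hu', hu₂, hxe])]
    have := Groth.Agent.SpDimTrdeg.sp_dim_le X.property Y.property f.hom hY hp.2.1.1 (r : Cardinal.{u}) h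
    rwa [Cardinal.toENat_nat] at this
  · intro z hz
    refine (hz _ ?_).symm
    have h1 := hx.image (AlgSp.Points.continuous_map f.hom)
    rw [Set.image_univ, hd.closure_range] at h1
    exact h1.specializes (Set.mem_univ z)

end Groth.Agent.S10460
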