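import Groth.Statements.S10463
import Groth.Agent.FieldDesc.Spec

set_option autoImplicit false
universe u
open CategoryTheory CategoryTheory.Limits AlgebraicGeometry Topology TopologicalSpace
open AlgSp

set_option backward.isDefEq.respectTransparency false

namespace Groth.Agent.S10463

/-- Let k be a field with algebraic closure k̄ and X a quasi-separated algebraic space over k. If X_K is
a scheme for some field extension K of k, then X_{k̄} is a scheme. -/
theorem result (k : Type u) [Field k]
    (X : AlgSp.Space (Spec (CommRingCat.of k))) (hqs : AlgSp.IsQuasiSeparatedSp X.obj)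
    (K : Type u) [Field K] [Algebra k K] (h : (X.obj ⨯ (AlgSp.yon (Spec (CommRingCat.of k))).obj (Over.mk (Spec.map (CommRingCat.ofHom (algebraMap k K))))).obj.IsRepresentable)
    (kbar : Type u) [Field kbar] [Algebra k kbar] [IsAlgClosure k kbar] :
    (X.obj ⨯ (AlgSp.yon (Spec (CommRingCat.of k))).obj (Over.mk (Spec.map (CommRingCat.ofHom (algebraMap k kbar))))).obj.IsRepresentable := by
  obtain ⟨T, ⟨e⟩⟩ := SpDesc.exists_yon_iso h
  haveI : IsAlgClosed kbar := IsAlgClosure.isAlgClosed k
  obtain ⟨ι, G, j, hG, hcov⟩ := FieldDesc.exists_qc_cover X.property hqs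
  have hV : ∀ i, ∃ V : Over (Spec (CommRingCat.of k)), Nonempty ((AlgSp.yon _).obj V ≅ FieldDesc.bc (G i) kbar) := fun i => by
    obtain ⟨hGa, hGq, hGs, hj⟩ := hG i
    obtain ⟨T₁, ⟨e₁⟩⟩ := FieldDesc.exists_iso_yon_bc_subspace (j i) hj.1 e
    exact FieldDesc.exists_iso_yon_bc_algClosed hGa hGq hGs K e₁ kbar
  choose V hV using hV
  obtain ⟨W, ⟨θ⟩⟩ := AlgSpLib.exists_iso_yon_of_open_cover (FieldDesc.isAlgSpace_bc X.property kbar) V
    (fun i => (hV i).some.hom ≫ Limits.prod.map (j i) (𝟙 _))
    (fun i => (AlgSpLib.repWith_iso_comp_iff (hV i).some.hom _).2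
      (AlgSpLib.repWith_baseChange (FieldDesc.isPullback_bc_of_mono (j i) kbar).flip (hG i).2.2.2))
    (fun x => by
      obtain ⟨i, w, hw⟩ := hcov (AlgSp.Points.map Limits.prod.fst x)
      obtain ⟨p, hp, -⟩ := AlgSpLib.exists_point_of_isPullback (FieldDesc.isPullback_bc_of_mono (j i) kbar) x w hw.symm
      refine ⟨i, AlgSp.Points.map (hV i).some.inv p, ?_⟩
      rw [← AlgSp.Points.map_comp, Iso.inv_hom_id_assoc, hp])
  exact FieldDesc.isRepresentable_of_iso θ

end Groth.Agent.S10463
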