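import Groth.Statements.S10464
import Groth.Agent.FieldDesc.Transc

set_option autoImplicit false
universe u
open CategoryTheory CategoryTheory.Limits AlgebraicGeometry Topology TopologicalSpace
open AlgSp

set_option backward.isDefEq.respectTransparency false

namespace Groth.Agent.S10464

/-- Let k be a field and X a quasi-separated algebraic space over k. If X_K is a scheme for a purely
transcendental extension K of k (here K is the fraction field of a polynomial ring over k in any set
of variables; every purely transcendental extension is k-isomorphic to one of these), then X is a
scheme. -/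
theorem result (k : Type u) [Field k] (X : AlgSp.Space (Spec (CommRingCat.of k)))
    (hqs : AlgSp.IsQuasiSeparatedSp X.obj) (ι : Type u)
    (h : (X.obj ⨯ (AlgSp.yon (Spec (CommRingCat.of k))).obj (Over.mk (Spec.map (CommRingCat.ofHom (algebraMap k (FractionRing (MvPolynomial ι k))))))).obj.IsRepresentable) :
    X.obj.obj.IsRepresentable := by
  obtain ⟨T, ⟨e⟩⟩ := SpDesc.exists_yon_iso h
  obtain ⟨W, ⟨θ⟩⟩ := FieldDesc.exists_iso_yon_of_transcendental X.property hqs ι e
  exact FieldDesc.isRepresentable_of_iso θ

end Groth.Agent.S10464
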