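import Groth.Statements.S10468
import Groth.Agent.GeomPi0.Basic
-- import your own Groth.Agent.* helpers here

set_option autoImplicit false
universe u
open CategoryTheory CategoryTheory.Limits AlgebraicGeometry Topology TopologicalSpace
open AlgSp

namespace Groth.Agent.S10468

/-- Let k be a field with separable algebraic closure k̄ and X an algebraic space over k. Then X is
geometrically connected if and only if X_{k̄} is connected. -/
theorem result (k : Type u) [Field k] (X : AlgSp.Space (Spec (CommRingCat.of k)))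
    (kbar : Type u) [Field kbar] [Algebra k kbar] [IsSepClosure k kbar] :
    (∀ (K : Type u) [Field K] [Algebra k K], ConnectedSpace (AlgSp.Points (X.obj ⨯ (AlgSp.yon (Spec (CommRingCat.of k))).obj (Over.mk (Spec.map (CommRingCat.ofHom (algebraMap k K))))))) ↔ ConnectedSpace (AlgSp.Points (X.obj ⨯ (AlgSp.yon (Spec (CommRingCat.of k))).obj (Over.mk (Spec.map (CommRingCat.ofHom (algebraMap k kbar)))))) := by
  refine ⟨fun h => h kbar, fun h K _ _ => ?_⟩
  haveI : IsSepClosed kbar := IsSepClosure.sep_closed k
  obtain ⟨Ω, _, i, j, hij⟩ := AlgSp.FieldPt.exists_amalgamation (algebraMap k K) (algebraMap k kbar)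
  let w : Spec (CommRingCat.of Ω) ⟶ Spec (CommRingCat.of k) :=
    Spec.map (CommRingCat.ofHom (i.comp (algebraMap k K)))
  let ιK : Over.mk w ⟶ Over.mk (Spec.map (CommRingCat.ofHom (algebraMap k K))) :=
    Over.homMk (Spec.map (CommRingCat.ofHom i)) (by
      simp only [Over.mk_hom, w, ← Spec.map_comp]; rfl)
  let ιb : Over.mk w ⟶ Over.mk (Spec.map (CommRingCat.ofHom (algebraMap k kbar))) :=
    Over.homMk (Spec.map (CommRingCat.ofHom j)) (by
      simp only [Over.mk_hom, w, hij, ← Spec.map_comp]; rfl)
  obtain ⟨ho, hf⟩ := Groth.Agent.GeomPi0.isOpenMap_and_connected_fibres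
    (Groth.Agent.GeomPi0.isAlgSpace_prod X.property _) ιb Limits.prod.snd
    (Groth.Agent.GeomPi0.isPullback_prod_map X.obj ιb)
  haveI : ConnectedSpace (AlgSp.Points (X.obj ⨯ (AlgSp.yon _).obj (Over.mk w))) := by
    have h1 := Groth.Agent.GeomConn.isConnected_preimage ho hf (connectedSpace_iff_univ.1 h)
    rw [Set.preimage_univ] at h1
    exact connectedSpace_iff_univ.2 h1
  have hs : Function.Surjective (AlgSp.Points.map (Limits.prod.map (𝟙 X.obj) ((AlgSp.yon _).map ιK))) := by
    intro x
    obtain ⟨p, hp, -⟩ := Groth.Agent.AlgSpLib.exists_point_of_isPullback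
      (Groth.Agent.GeomPi0.isPullback_prod_map X.obj ιK) x
      (AlgSp.Points.ofScheme (Over.mk w) (IsLocalRing.closedPoint Ω)) ((AlgSp.Points.schemeEquiv
        (Over.mk (Spec.map (CommRingCat.ofHom (algebraMap k K))))).symm.injective
          ((inferInstance : Subsingleton (PrimeSpectrum K)).elim _ _))
    exact ⟨p, hp⟩
  exact hs.connectedSpace (AlgSp.Points.continuous_map _)

end Groth.Agent.S10468
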