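import Groth.Statements.S10469
import Groth.Agent.S10468
import Groth.Agent.SpQS.GoodPt
import Groth.Agent.AlgSpLib.RepUniv
-- import your own Groth.Agent.* helpers here

set_option autoImplicit false
set_option backward.isDefEq.respectTransparency false
universe u
open CategoryTheory CategoryTheory.Limits AlgebraicGeometry Topology TopologicalSpace
open AlgSp TensorProduct

namespace Groth.Agent.S10469

open Groth.Agent.AlgSpLib Groth.Agent.GeomPi0 TensorProduct Topology

variable {k : Type u} [Field k]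

/-- the extension as an object over the ground field -/
noncomputable abbrev Ext (K : Type u) [Field K] [Algebra k K] : Over (Spec (CommRingCat.of k)) :=
  Over.mk (Spec.map (CommRingCat.ofHom (algebraMap k K)))

/-- points of the base change form a homeomorphic copy along charts -/
theorem isPullback_chart {S : Scheme.{u}} {X : AlgSp.Sp S} {W W' T : Over S} (a : (AlgSp.yon S).obj W ⟶ X)
    (p : W' ⟶ W) (q : W' ⟶ T) (sq : IsPullback p.left q.left W.hom T.hom) :
    IsPullback ((AlgSp.yon S).map p) (Limits.prod.lift ((AlgSp.yon S).map p ≫ a) ((AlgSp.yon S).map q)) a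
      (Limits.prod.fst : X ⨯ (AlgSp.yon S).obj T ⟶ X) := by
  have hT : IsTerminal ((AlgSp.yon S).obj (Over.mk (𝟙 S))) := Over.mkIdTerminal.isTerminalObj (AlgSp.yon S)
  have sq' : IsPullback ((AlgSp.yon S).map p) ((AlgSp.yon S).map q)
      ((AlgSp.yon S).map (Over.homMk W.hom : W ⟶ Over.mk (𝟙 S)))
      ((AlgSp.yon S).map (Over.homMk T.hom : T ⟶ Over.mk (𝟙 S))) := AlgSpLib.isPullback_yon_iff.2 sq
  refine IsPullback.of_bot ?_ (Limits.prod.lift_fst _ _).symm (isPullback_prod X T)
  rw [Limits.prod.lift_snd]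
  have e := hT.hom_ext ((AlgSp.yon S).map (Over.homMk W.hom : W ⟶ Over.mk (𝟙 S)))
    (a ≫ (Over.mkIdTerminal.isTerminalObj (AlgSp.yon S)).from X)
  rw [e] at sq'
  exact sq'

/-- the affine base change of a chart -/
theorem exists_clopen_stage (A : Type u) [CommRing A] [Algebra k A] (L : Type u) [Field L] [Algebra k L]
    [Algebra.IsAlgebraic k L] {s : Set (PrimeSpectrum (A ⊗[k] L))} (hs : IsClopen s) :
    ∃ (E : IntermediateField k L) (_ : FiniteDimensional k E) (t : Set (PrimeSpectrum (A ⊗[k] E))),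
      PrimeSpectrum.comap (Algebra.TensorProduct.map (AlgHom.id A A) E.val).toRingHom ⁻¹' t = s := by
  obtain ⟨e, -, rfl⟩ := PrimeSpectrum.exists_idempotent_basicOpen_eq_of_isClopen hs
  obtain ⟨C, ⟨σ, rfl⟩, hC⟩ := exists_fg_and_mem_baseChange e
  let E := IntermediateField.adjoin k (σ : Set L)
  have hfin : FiniteDimensional k E :=
    IntermediateField.finiteDimensional_adjoin fun x _ => Algebra.IsIntegral.isIntegral x
  have hle : Algebra.adjoin k (σ : Set L) ≤ E.toSubalgebra :=
    Algebra.adjoin_le (IntermediateField.subset_adjoin k _)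
  obtain ⟨e', he'⟩ := hC
  refine ⟨E, hfin, PrimeSpectrum.basicOpen
    (Algebra.TensorProduct.map (AlgHom.id A A) (Subalgebra.inclusion hle) e'), ?_⟩
  rw [← he']
  ext z
  have hcomp : Algebra.TensorProduct.map (AlgHom.id A A) E.val (Algebra.TensorProduct.map (AlgHom.id A A)
      (Subalgebra.inclusion hle) e') = Algebra.TensorProduct.map (AlgHom.id A A) (Algebra.adjoin k (σ : Set L)).val e' := by
    have h : (Algebra.TensorProduct.map (AlgHom.id A A) E.val).comp (Algebra.TensorProduct.map (AlgHom.id A A)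
        (Subalgebra.inclusion hle)) = Algebra.TensorProduct.map (AlgHom.id A A) (Algebra.adjoin k (σ : Set L)).val :=
      Algebra.TensorProduct.ext' fun a b => rfl
    exact congrArg (fun ψ => ψ e') h
  show Algebra.TensorProduct.map (AlgHom.id A A) E.val _ ∉ z.asIdeal ↔ _ ∉ z.asIdeal
  rw [hcomp]; rfl

/-- maps between base changes along algebraic extensions are open and closed -/
theorem isOpen_isClosed_map {X : AlgSp.Sp (Spec (CommRingCat.of k))} (hX : AlgSp.IsAlgSpace X) {K L : Type u}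
    [Field K] [Field L] [Algebra k K] [Algebra k L] [Algebra K L] [IsScalarTower k K L]
    [Algebra.IsAlgebraic K L] (ι : Ext (k := k) L ⟶ Ext (k := k) K)
    (hι : ι.left = Spec.map (CommRingCat.ofHom (algebraMap K L))) :
    IsOpenMap (AlgSp.Points.map (Limits.prod.map (𝟙 X) ((AlgSp.yon _).map ι))) ∧
      IsClosedMap (AlgSp.Points.map (Limits.prod.map (𝟙 X) ((AlgSp.yon _).map ι))) := by
  have hP := isAlgSpace_prod hX (Ext (k := k) K)
  have sq := isPullback_prod_map X ι
  refine ⟨AlgSpLib.isUnivOpenMor_to_field (AlgSp.IsAlgSpace.yon_obj _) _ ((AlgSp.yon _).map ι) hP _ _ _ sq.flip, ?_⟩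
  have hrep : AlgSp.RepWith @UniversallyClosed ((AlgSp.yon _).map ι) := by
    refine (AlgSpLib.repWith_yon_iff ι).2 ?_
    have : IsIntegralHom ι.left := by
      rw [hι, IsIntegralHom.SpecMap_iff]
      exact algebraMap_isIntegral_iff.2 inferInstance
    infer_instance
  exact ((AlgSpLib.isUnivClosedMor_iff_repWith hrep.1).2 hrep) hP _ _ _ sq.flip

end Groth.Agent.S10469

namespace Groth.Agent.S10469

/-- Let k be a field and X an algebraic space over k. Then X is geometrically connected if and only if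
X_{k'} is connected for every finite separable field extension k' of k. -/
theorem result (k : Type u) [Field k] (X : AlgSp.Space (Spec (CommRingCat.of k))) :
    (∀ (K : Type u) [Field K] [Algebra k K], ConnectedSpace (AlgSp.Points (X.obj ⨯ (AlgSp.yon (Spec (CommRingCat.of k))).obj (Over.mk (Spec.map (CommRingCat.ofHom (algebraMap k K))))))) ↔
      ∀ (k' : Type u) [Field k'] [Algebra k k'], Module.Finite k k' → Algebra.IsSeparable k k' →
        ConnectedSpace (AlgSp.Points (X.obj ⨯ (AlgSp.yon (Spec (CommRingCat.of k))).obj (Over.mk (Spec.map (CommRingCat.ofHom (algebraMap k k')))))) := by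
  refine ⟨fun h k' _ _ _ _ => h k', fun h => (Groth.Agent.S10468.result k X (SeparableClosure k)).2 ?_⟩
  let L := SeparableClosure k
  let P := fun (K : Type u) [Field K] [Algebra k K] =>
    AlgSp.Points (X.obj ⨯ (AlgSp.yon (Spec (CommRingCat.of k))).obj (Ext (k := k) K))
  have hk : ConnectedSpace (P k) := h k inferInstance inferInstance
  have hsurj : Function.Surjective (AlgSp.Points.map (Limits.prod.fst :
      X.obj ⨯ (AlgSp.yon (Spec (CommRingCat.of k))).obj (Ext (k := k) L) ⟶ X.obj)) := fun x => by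
    obtain ⟨p, hp, -⟩ := Groth.Agent.AlgSpLib.exists_point_of_isPullback
      (Groth.Agent.GeomPi0.isPullback_prod X.obj (Ext (k := k) L)) x
      (AlgSp.Points.ofScheme (Ext (k := k) L) (IsLocalRing.closedPoint L))
      ((AlgSp.Points.schemeEquiv _).symm.injective ((inferInstance : Subsingleton (PrimeSpectrum k)).elim _ _))
    exact ⟨p, hp⟩
  have hne : Nonempty (P L) := by
    obtain ⟨z⟩ := hk.toNonempty
    exact ⟨(hsurj (AlgSp.Points.map Limits.prod.fst z)).choose⟩
  refine connectedSpace_iff_clopen.2 ⟨hne, fun U hU => ?_⟩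
  by_contra hcon
  push_neg at hcon
  obtain ⟨hU0, hU1⟩ := hcon
  obtain ⟨u, hu⟩ := hU0
  obtain ⟨W, a, w₀, hWa, ha, hw₀, -⟩ := Groth.Agent.SpQS.exists_affine_chart_at X.property
    (AlgSp.Points.map Limits.prod.fst u)
  obtain ⟨φ, hφ⟩ := Spec.map_surjective (W.left.isoSpec.inv ≫ W.hom)
  let A := Γ(W.left, ⊤)
  letI : Algebra k A := φ.hom.toAlgebra
  let WA : Over (Spec (CommRingCat.of k)) := Over.mk (Spec.map (CommRingCat.ofHom (algebraMap k A)))
  have hφ' : Spec.map (CommRingCat.ofHom (algebraMap k A)) = W.left.isoSpec.inv ≫ W.hom := hφ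
  let eW : WA ≅ W := Over.isoMk W.left.isoSpec.symm hφ'.symm
  let b := (AlgSp.yon _).map eW.hom ≫ a
  let Ws : Over (Spec (CommRingCat.of k)) := Over.mk (Spec.map (CommRingCat.ofHom (algebraMap k (A ⊗[k] L))))
  let ps : Ws ⟶ WA := Over.homMk (Spec.map (CommRingCat.ofHom (algebraMap A (A ⊗[k] L)))) (by
    show Spec.map _ ≫ Spec.map _ = Spec.map _
    rw [← Spec.map_comp]; rfl)
  let qs : Ws ⟶ Ext (k := k) L := Over.homMk
    (Spec.map (CommRingCat.ofHom (Algebra.TensorProduct.includeRight : L →ₐ[k] A ⊗[k] L).toRingHom)) (by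
    show Spec.map _ ≫ Spec.map _ = Spec.map _
    rw [← Spec.map_comp]; congr 1; ext x
    exact (Algebra.TensorProduct.includeRight : L →ₐ[k] A ⊗[k] L).commutes x)
  have sqs := isPullback_chart (X := X.obj) b ps qs
    (isPullback_SpecMap_of_isPushout _ _ _ _ (CommRingCat.isPushout_tensorProduct k A L))
  let ls := Limits.prod.lift ((AlgSp.yon _).map ps ≫ b) ((AlgSp.yon _).map qs)
  -- a point of the chart in the clopen set
  obtain ⟨z₀, hz₀⟩ : ∃ z, AlgSp.Points.ofPt ls z ∈ U := by
    obtain ⟨z, -, hz⟩ := Groth.Agent.AlgSpLib.exists_point_of_isPullback sqs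
      (AlgSp.Points.ofScheme WA (eW.inv.left w₀)) u (by
        rw [AlgSp.Points.map_ofPt, Category.id_comp, ← hw₀]
        show AlgSp.Points.ofPt ((AlgSp.yon _).map eW.hom ≫ a) (eW.inv.left w₀) = _
        rw [Groth.Agent.AlgSpLib.ofPt_comp, ← Scheme.Hom.comp_apply, ← Over.comp_left, eW.inv_hom_id]
        rfl)
    refine ⟨AlgSp.Points.toScheme Ws z, ?_⟩
    rw [← Category.id_comp ls, ← AlgSp.Points.map_ofPt]
    rw [show AlgSp.Points.ofPt (𝟙 _) (AlgSp.Points.toScheme Ws z) = z from AlgSp.Points.ofScheme_toScheme Ws z]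
    rw [hz]; exact hu
  obtain ⟨E, _, t, ht⟩ := exists_clopen_stage A L (hU.preimage (AlgSp.Points.continuous_ofPt ls))
  let ι : Ext (k := k) L ⟶ Ext (k := k) E := Over.homMk (Spec.map (CommRingCat.ofHom (algebraMap E L))) (by
    show Spec.map _ ≫ Spec.map _ = Spec.map _
    rw [← Spec.map_comp]; rfl)
  obtain ⟨ho, hc⟩ := isOpen_isClosed_map X.property ι rfl
  let π := AlgSp.Points.map (Limits.prod.map (𝟙 X.obj) ((AlgSp.yon _).map ι))
  haveI : ConnectedSpace (P E) := h E inferInstance inferInstance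
  have hE : ∀ V : Set (P L), IsClopen V → V.Nonempty → π '' V = Set.univ := fun V hV hne =>
    IsClopen.eq_univ (⟨hc V hV.1, ho V hV.2⟩ : IsClopen (π '' V)) (hne.image π)
  let WE : Over (Spec (CommRingCat.of k)) := Over.mk (Spec.map (CommRingCat.ofHom (algebraMap k (A ⊗[k] E))))
  let pE : WE ⟶ WA := Over.homMk (Spec.map (CommRingCat.ofHom (algebraMap A (A ⊗[k] E)))) (by
    show Spec.map _ ≫ Spec.map _ = Spec.map _
    rw [← Spec.map_comp]; rfl)
  let qE : WE ⟶ Ext (k := k) E := Over.homMk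
    (Spec.map (CommRingCat.ofHom (Algebra.TensorProduct.includeRight : E →ₐ[k] A ⊗[k] E).toRingHom)) (by
    show Spec.map _ ≫ Spec.map _ = Spec.map _
    rw [← Spec.map_comp]; congr 1; ext x
    exact (Algebra.TensorProduct.includeRight : E →ₐ[k] A ⊗[k] E).commutes x)
  have sqE := isPullback_chart (X := X.obj) b pE qE
    (isPullback_SpecMap_of_isPushout _ _ _ _ (CommRingCat.isPushout_tensorProduct k A E))
  let lE := Limits.prod.lift ((AlgSp.yon _).map pE ≫ b) ((AlgSp.yon _).map qE)
  let j : Ws ⟶ WE := Over.homMk (Spec.map (CommRingCat.ofHom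
      (Algebra.TensorProduct.map (AlgHom.id A A) E.val).toRingHom)) (by
    show Spec.map _ ≫ Spec.map _ = Spec.map _
    rw [← Spec.map_comp]; rfl)
  have hjp : j ≫ pE = ps := by
    ext1
    show Spec.map _ ≫ Spec.map _ = Spec.map _
    rw [← Spec.map_comp]; rfl
  have hjq : j ≫ qE = qs ≫ ι := by
    ext1
    show Spec.map _ ≫ Spec.map _ = Spec.map _ ≫ Spec.map _
    rw [← Spec.map_comp, ← Spec.map_comp]; rfl
  have hl : (AlgSp.yon _).map j ≫ lE = ls ≫ Limits.prod.map (𝟙 X.obj) ((AlgSp.yon _).map ι) := by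
    apply Limits.prod.hom_ext
    · rw [Category.assoc, Category.assoc, Limits.prod.lift_fst, Limits.prod.map_fst, Category.comp_id,
        Limits.prod.lift_fst, ← hjp, Functor.map_comp, Category.assoc]
    · rw [Category.assoc, Category.assoc, Limits.prod.lift_snd, Limits.prod.map_snd, ← Category.assoc ls,
        Limits.prod.lift_snd, ← Functor.map_comp, ← Functor.map_comp, hjq]
  have sqJ : IsPullback ((AlgSp.yon _).map j) ls lE (Limits.prod.map (𝟙 X.obj) ((AlgSp.yon _).map ι)) := by
    refine IsPullback.of_right ?_ hl sqE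
    rw [← Functor.map_comp, hjp, Limits.prod.map_fst, Category.comp_id]
    exact sqs
  obtain ⟨z, hzU, hz⟩ := (hE Uᶜ hU.compl (Set.nonempty_compl.2 hU1)).ge
    (Set.mem_univ (AlgSp.Points.ofPt lE (j.left z₀)))
  obtain ⟨p, hp1, hp2⟩ := Groth.Agent.AlgSpLib.exists_point_of_isPullback sqJ
    (AlgSp.Points.ofScheme WE (j.left z₀)) z (by
      rw [AlgSp.Points.map_ofPt, Category.id_comp]; exact hz.symm)
  obtain ⟨z₁, rfl⟩ := (AlgSp.Points.schemeEquiv Ws).surjective p
  have hj : j.left z₁ = j.left z₀ := (AlgSp.Points.schemeEquiv WE).injective (by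
    show AlgSp.Points.ofScheme WE _ = AlgSp.Points.ofScheme WE _
    rw [← Groth.Agent.AlgSpLib.ofScheme_map, ← hp1]
    exact ((AlgSp.Points.map_ofPt _ _ _).trans (by rw [Category.id_comp])).symm)
  have hz₁ : AlgSp.Points.ofPt ls z₁ = z := by
    rw [← hp2]
    exact ((AlgSp.Points.map_ofPt _ _ _).trans (by rw [Category.id_comp])).symm
  apply hzU
  rw [← hz₁]
  show z₁ ∈ AlgSp.Points.ofPt ls ⁻¹' U
  have h1 : z₀ ∈ AlgSp.Points.ofPt ls ⁻¹' U := hz₀
  rw [← ht] at h1 ⊢
  show j.left z₁ ∈ t
  rw [hj]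
  exact h1

end Groth.Agent.S10469
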