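import Groth.Statements.S1047
import Groth.Agent.DRingNC.Res

set_option autoImplicit false
universe u
open CategoryTheory CategoryTheory.Limits
attribute [local instance] HasDerivedCategory.standard
open Perf

set_option linter.style.haveILetI false

namespace Groth.Agent.S1047

/-- Let A be a commutative ring and R an A-algebra, not necessarily commutative, whose underlying
A-module is finite free. Restriction of scalars being exact (carried as instance hypotheses), if an
object M of D(R) becomes pseudo-coherent in D(A) after restriction of scalars (isomorphic to a
bounded above complex of finite free A-modules), then M is represented by a bounded above complex of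
finite free R-modules. (The source phrases this for right modules; we use left modules, which is the
same statement for the opposite algebra.) -/
theorem result (A : Type u) [CommRing A] (R : Type u) [Ring R] [Algebra A R]
    [Module.Finite A R] [Module.Free A R]
    [PreservesFiniteLimits (ModuleCat.restrictScalars.{u} (algebraMap A R))] [PreservesFiniteColimits (ModuleCat.restrictScalars.{u} (algebraMap A R))]
    (M : DerivedCategory (ModuleCat.{u} R))
    (hM : DRing.IsPseudoCoherent' A (((ModuleCat.restrictScalars.{u} (algebraMap A R)).mapDerivedCategory).obj M)) :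
    ∃ (F : CochainComplex (ModuleCat.{u} R) ℤ) (b : ℤ), (∀ i : ℤ, b < i → IsZero (F.X i)) ∧
      (∀ i : ℤ, Module.Finite R (F.X i) ∧ Module.Free R (F.X i)) ∧ Nonempty (DerivedCategory.Q.obj F ≅ M) := by
  let G : CochainComplex (ModuleCat.{u} R) ℤ := DerivedCategory.Q.objPreimage M
  let eG : DerivedCategory.Q.obj G ≅ M := DerivedCategory.Q.objObjPreimageIso M
  have hG : ∀ m, DRing.IsPseudoCoherent A m (DRing.toD ((DRingNC.res A R).obj G)) := fun m =>
    DRingKP.pc_of_iso (((ModuleCat.restrictScalars.{u} (algebraMap A R)).mapDerivedCategory.mapIso eG.symm) ≪≫
      (ModuleCat.restrictScalars.{u} (algebraMap A R)).mapDerivedCategoryFactors.app G) (DRingKP.pc_of_pc' hM m)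
  obtain ⟨E, b, q, hb, hE, hq⟩ := DRingNC.exists_rep A G hG
  haveI := hq
  exact ⟨E, b, hb, hE, ⟨asIso (DerivedCategory.Q.map q) ≪≫ eG⟩⟩

end Groth.Agent.S1047
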