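import Groth.Statements.S10482
import Groth.Agent.SpQS.DimField

set_option autoImplicit false
universe u
open CategoryTheory CategoryTheory.Limits AlgebraicGeometry Topology TopologicalSpace
open AlgSp

namespace Groth.Agent.S10482

/-- (1) ⇔ (2): let k be a field and X an algebraic space over k. Then X is locally quasi-finite over k
if and only if X is locally of finite type over k of dimension at most 0. (The published statement
says dimension 0; dimension at most 0 is used so that the empty space, whose dimension is the bottom
element, is covered by both sides.) -/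
theorem result (k : Type u) [Field k] (X : AlgSp.Space (Spec (CommRingCat.of k))) (p : X.obj ⟶ (AlgSp.yon (Spec (CommRingCat.of k))).obj (Over.mk (𝟙 _))) :
    AlgSp.LocP (@LocallyQuasiFinite ⊓ @LocallyOfFiniteType : MorphismProperty Scheme.{u}) p ↔ AlgSp.LocP @LocallyOfFiniteType p ∧ AlgSp.dim X.obj ≤ 0 := by
  constructor
  · intro h
    refine ⟨fun U V a b g ha hb e => (h a b g ha hb e).2, iSup_le fun U => iSup_le fun a => iSup_le fun ha => ?_⟩
    obtain ⟨g, hg⟩ := Groth.Agent.AlgSpLib.exists_map_eq (a ≫ p)
    have hq : LocallyQuasiFinite g.left :=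
      (h a (𝟙 _) g ha Groth.Agent.AlgSpLib.repWith_id' (by rw [Category.comp_id]; exact hg.symm)).1
    let pt : ↥(Over.mk (𝟙 (Spec (CommRingCat.of k)))).left := IsLocalRing.closedPoint k
    have hd := g.left.isDiscrete_preimage_singleton pt
    have huniv : g.left ⁻¹' {pt} = Set.univ :=
      Set.eq_univ_of_forall fun z => Subsingleton.elim (α := PrimeSpectrum k) _ _
    rw [huniv] at hd
    have : DiscreteTopology U.left := by
      rw [isDiscrete_iff_discreteTopology] at hd
      exact (Homeomorph.Set.univ U.left).discreteTopology
    rcases isEmpty_or_nonempty U.left with hU | hU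
    · have : IsEmpty (TopologicalSpace.IrreducibleCloseds U.left) := ⟨fun s => hU.elim s.isIrreducible'.1.some⟩
      exact (Order.krullDim_eq_bot (α := TopologicalSpace.IrreducibleCloseds U.left)).le.trans bot_le
    · exact topologicalKrullDim_zero_of_discreteTopology U.left
  · rintro ⟨hl, hd⟩ U V a b g ha hb e
    have : LocallyOfFiniteType g.left := hl a b g ha hb e
    obtain ⟨g₀, hg₀⟩ := Groth.Agent.SpQS.chart_map p hl ha
    have : DiscreteTopology U.left := Groth.Agent.SpQS.discrete_of_dim_le_zero g₀
      ((show topologicalKrullDim ↥U.left ≤ AlgSp.dim X.obj from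
        le_iSup_of_le U (le_iSup_of_le a (le_iSup_of_le (f := fun _ : AlgSp.RepWith @Etale a => topologicalKrullDim ↥U.left) ha le_rfl))).trans hd)
    exact ⟨locallyQuasiFinite_iff_isDiscrete_preimage_singleton.2 fun v =>
      isDiscrete_iff_discreteTopology.2 inferInstance, inferInstance⟩

end Groth.Agent.S10482
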