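import Groth.Statements.S10483
import Groth.Agent.LqfFieldSp.Basic
import Groth.Agent.LqfRep.Main

set_option autoImplicit false
universe u
open CategoryTheory CategoryTheory.Limits AlgebraicGeometry Topology TopologicalSpace
open AlgSp

set_option backward.isDefEq.respectTransparency false

namespace Groth.Agent.S10483

/-- (1) ⇔ (5): let k be a field and X an algebraic space over k. Then X is locally quasi-finite over k
if and only if X decomposes as a disjoint union of spectra of finite-dimensional Artinian local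
k-algebras: X is a scheme every point of which has an affine open neighbourhood with Artinian local
coordinate ring, finite over k. -/
theorem result (k : Type u) [Field k] (X : AlgSp.Space (Spec (CommRingCat.of k))) (p : X.obj ⟶ (AlgSp.yon (Spec (CommRingCat.of k))).obj (Over.mk (𝟙 _))) :
    AlgSp.LocP (@LocallyQuasiFinite ⊓ @LocallyOfFiniteType : MorphismProperty Scheme.{u}) p ↔
      ∃ (U : Over (Spec (CommRingCat.of k))) (_ : (AlgSp.yon (Spec (CommRingCat.of k))).obj U ≅ X.obj), ∀ u : ↥U.left, ∃ V : U.left.Opens,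
        u ∈ V ∧ IsAffineOpen V ∧ IsArtinianRing ↥Γ(U.left, V) ∧ IsLocalRing ↥Γ(U.left, V) ∧
          IsFinite (V.ι ≫ U.hom) := by
  constructor
  · intro hp
    obtain ⟨W, ⟨e⟩⟩ := Groth.Agent.LqfFieldSp.exists_iso_yon X.property p hp
    obtain ⟨_, _⟩ := Groth.Agent.LqfFieldSp.chart_lqf p hp (a := e.inv) (Groth.Agent.AlgSpLib.repWith_of_isIso (P := @Etale) e.inv)
    exact ⟨W, e.symm, fun u => Groth.Agent.LqfFieldSp.exists_point_piece W u⟩
  · rintro ⟨U, e, h⟩
    obtain ⟨h₁, h₂⟩ := Groth.Agent.LqfFieldSp.lqf_of_pieces U h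
    have hr : AlgSp.RepWith (@LocallyQuasiFinite ⊓ @LocallyOfFiniteType : MorphismProperty Scheme.{u})
        (e.inv ≫ (AlgSp.yon _).map (Over.homMk U.hom : U ⟶ Over.mk (𝟙 _))) :=
      (Groth.Agent.AlgSpLib.repWith_iso_comp_iff e.inv _).2
        ((Groth.Agent.AlgSpLib.repWith_yon_iff (P := (@LocallyQuasiFinite ⊓ @LocallyOfFiniteType : MorphismProperty Scheme.{u})) _).2 ⟨h₁, h₂⟩)
    rw [(Over.mkIdTerminal.isTerminalObj (AlgSp.yon _)).hom_ext p
      (e.inv ≫ (AlgSp.yon _).map (Over.homMk U.hom : U ⟶ Over.mk (𝟙 _)))]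
    exact (Groth.Agent.AlgSpLib.locP_iff_repWith Groth.Agent.AlgSpLib.etST_lqf (AlgSp.IsAlgSpace.yon_obj _) hr.1).2 hr

end Groth.Agent.S10483
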