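import Groth.Statements.S10486
import Groth.Agent.SpQS.FibreQF
import Groth.Agent.SpQS.GenPts
import Groth.Agent.SpDimTrdeg.Basic
-- import your own Groth.Agent.* helpers here

set_option autoImplicit false
universe u
open CategoryTheory CategoryTheory.Limits AlgebraicGeometry Topology TopologicalSpace
open AlgSp

namespace Groth.Agent.S10486

open TopologicalSpace

/-- a closed maximal point of a noetherian sober space is open -/
lemma isOpen_singleton_of_noetherian {α : Type*} [TopologicalSpace α] [NoetherianSpace α] [QuasiSober α] [T0Space α]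
    {x : α} (hc : IsClosed ({x} : Set α)) (hm : ∀ y, y ⤳ x → y = x) : IsOpen ({x} : Set α) := by
  have hcl : ∀ T ∈ irreducibleComponents α, x ∈ T → T = {x} := by
    intro T hT hxT
    obtain ⟨η, hη⟩ := QuasiSober.sober hT.1 (isClosed_of_mem_irreducibleComponents T hT)
    have e : η = x := hm η (hη.specializes hxT)
    subst e
    exact hη.def.symm.trans hc.closure_eq
  have hfin := NoetherianSpace.finite_irreducibleComponents (α := α)
  have hu : IsClosed (⋃₀ (irreducibleComponents α \ {{x}})) :=
    by rw [Set.sUnion_eq_biUnion]; exact Set.Finite.isClosed_biUnion (hfin.subset Set.sdiff_subset) (fun T hT => isClosed_of_mem_irreducibleComponents T hT.1)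
  have e : ({x} : Set α) = (⋃₀ (irreducibleComponents α \ {{x}}))ᶜ := by
    ext z
    constructor
    · rintro rfl ⟨T, ⟨hT, hTne⟩, hzT⟩
      exact hTne (hcl T hT hzT)
    · intro hz
      by_contra hne
      refine hz ⟨irreducibleComponent z, ⟨irreducibleComponent_mem_irreducibleComponents z, fun h => hne ?_⟩,
        mem_irreducibleComponent⟩
      exact (Set.mem_singleton_iff.1 h) ▸ (mem_irreducibleComponent : z ∈ irreducibleComponent z)
  rw [e]; exact hu.isOpen_compl

lemma quasiFiniteAt_of_resTrdeg {U V : Scheme.{u}} (h : U ⟶ V) [LocallyOfFiniteType h] (u : U)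
    (hm : ∀ w, w ⤳ u → w = u) (hr : Dual3.resTrdeg h u = 0) : h.QuasiFiniteAt u := by
  rw [Scheme.Hom.quasiFiniteAt_iff_isOpen_singleton_asFiber]
  haveI : LocallyOfFiniteType (h.fiberToSpecResidueField (h u)) := MorphismProperty.pullback_snd _ _ ‹_›
  haveI : IsLocallyNoetherian (h.fiber (h u)) :=
    LocallyOfFiniteType.isLocallyNoetherian (h.fiberToSpecResidueField (h u))
  obtain ⟨W, hW, hxW, -⟩ := exists_isAffineOpen_mem_and_subset
    (U := (⊤ : (h.fiber (h u)).Opens)) (x := h.asFiber u) trivial
  haveI : NoetherianSpace ↥W := AlgSpLib.noetherianSpace_of_compact W hW.isCompact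
  haveI : QuasiSober ↥W := W.2.isOpenEmbedding_subtypeVal.quasiSober
  have hemb := (h.fiberι (h u)).isEmbedding
  have hiu : h.fiberι (h u) (h.asFiber u) = u := h.fiberι_asFiber u
  have hr' : Dual3.resTrdeg (h.fiberToSpecResidueField (h u)) (h.asFiber u) = ((0 : ℕ) : Cardinal.{u}) := by
    have h1 := SpQS.resTrdeg_precomp (h.fiberι (h u)) h (w := h.asFiber u) (SpRelDim.quasiFiniteAt_of_isPreimmersion _ _)
    have h2 := SpQS.resTrdeg_postcomp (h.fiberToSpecResidueField (h u)) (V.fromSpecResidueField (h u))
      (w := h.asFiber u) (SpRelDim.quasiFiniteAt_of_isPreimmersion _ _)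
    rw [show h.fiberι (h u) ≫ h = h.fiberToSpecResidueField (h u) ≫ V.fromSpecResidueField (h u) from pullback.condition,
      h2, hiu, hr] at h1
    rw [h1, Nat.cast_zero]
  obtain ⟨hle, -⟩ := FlatDim.chains_resTrdeg (h.fiberToSpecResidueField (h u)) (h.asFiber u) hr'
  have hopen : IsOpen ({⟨h.asFiber u, hxW⟩} : Set ↥W) := by
    refine isOpen_singleton_of_noetherian ?_ fun y hy => ?_
    · refine isClosed_of_closure_subset fun y hy => ?_
      have hs : h.asFiber u ⤳ y.1 := (specializes_iff_mem_closure.2 hy).map continuous_subtype_val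
      refine Subtype.ext ?_
      by_contra hne
      have h1 := hle 1 ![h.asFiber u, y.1] (fun i => ?_) (fun i => ?_)
      · omega
      · refine ⟨?_, (inferInstance : Subsingleton ↥(Spec (V.residueField (h u)))).elim _ _⟩
        fin_cases i
        · exact subset_closure rfl
        · exact specializes_iff_mem_closure.1 hs
      · fin_cases i
        exact ⟨hs, fun e => hne e.symm⟩
    · refine Subtype.ext (hemb.injective ?_)
      rw [hiu]
      refine hm _ ?_
      exact ((hy.map continuous_subtype_val).map (h.fiberι (h u)).continuous).trans (specializes_of_eq hiu)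
  have h2 := W.2.isOpenEmbedding_subtypeVal.isOpenMap _ hopen
  simpa only [Set.image_singleton] using h2

end Groth.Agent.S10486

namespace Groth.Agent.S10486

/-- (1) ⇔ (5): let f : X ⟶ Y be a dominant morphism locally of finite type between integral algebraic
spaces over a scheme S, with generic points x and y. Then the transcendence degree of x over y is 0
if and only if x is the only point of X mapping to y. -/
theorem result {S : Scheme.{u}} {X Y : AlgSp.Space S} (hXi : AlgSp.IsIntegralSp X.obj) (hYi : AlgSp.IsIntegralSp Y.obj)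
    (f : X ⟶ Y) (hft : AlgSp.LocP @LocallyOfFiniteType f.hom) (hd : AlgSp.IsDominantMor f.hom)
    (x : AlgSp.Points X.obj) (hx : IsGenericPoint x (Set.univ : Set (AlgSp.Points X.obj)))
    (y : AlgSp.Points Y.obj) (hy : IsGenericPoint y (Set.univ : Set (AlgSp.Points Y.obj))) :
    AlgSp.HasAtMor (fun _ _ h u => Dual3.resTrdeg h u = 0) f.hom x ↔ (∀ x' : AlgSp.Points X.obj, AlgSp.Points.map f.hom x' = y → x' = x) := by
  obtain ⟨_, _⟩ := Groth.Agent.SpQS.t0_sober_of_decent Y.property hYi.2.1
  have hc := AlgSp.Points.continuous_map f.hom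
  have hgX := Groth.Agent.SpQS.goodAt_of_isDecent X.property hXi.2.1
  have hxy : AlgSp.Points.map f.hom x = y := by
    have h1 := hx.image hc
    rw [Set.image_univ, hd.closure_range] at h1
    exact h1.eq hy
  have key : AlgSp.HasAtMor (fun _ _ h u => Dual3.resTrdeg h u = 0) f.hom x ↔ Groth.Agent.SpQS.QFAtPt f.hom x := by
    constructor
    · rintro ⟨U, V, a, b, h, u, ha, hb, comm, hu, h0⟩
      have : LocallyOfFiniteType h.left := hft a b h ha hb comm
      refine Groth.Agent.SpQS.qfAtPt_of_chart X.property Y.property f.hom hft ha hb comm hu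
        (quasiFiniteAt_of_resTrdeg h.left u (fun w hw => ?_) h0)
      have hmax : Groth.Agent.SpQS.IsMaxPt (AlgSp.Points.ofPt a u) := by
        obtain ⟨_, _⟩ := Groth.Agent.SpQS.t0_sober_of_decent X.property hXi.2.1
        rw [hu]
        exact fun z hz => (hz.antisymm (hx.specializes (Set.mem_univ z))).eq
      exact (Groth.Agent.SpQS.isMaxPt_ofPt_iff X.property hgX ha u).1 hmax w hw
    · intro hq
      obtain ⟨U, V, a, b, h, ha, has, hb, comm⟩ := Groth.Agent.SpQS.exists_chart_atlas X.property Y.property f.hom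
      obtain ⟨u, hu⟩ := Groth.Agent.AlgSpLib.ofPt_surjective has x
      have : LocallyOfFiniteType h.left := hft a b h ha hb comm
      have hqu := hq U V a b h u ha hb comm hu
      refine ⟨U, V, a, b, h, u, ha, hb, comm, hu, ?_⟩
      show Dual3.resTrdeg h.left u = 0
      have h1 := Groth.Agent.SpQS.resTrdeg_precomp h.left (𝟙 _) hqu
      rw [Category.comp_id] at h1
      rw [h1]
      unfold Dual3.resTrdeg
      let := ((𝟙 V.left : V.left ⟶ V.left).residueFieldMap (h.left u)).hom.toAlgebra
      have : Module.Finite (V.left.residueField ((𝟙 V.left : V.left ⟶ V.left) (h.left u))) (V.left.residueField (h.left u)) :=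
        Groth.Agent.SpQS.finite_residueFieldMap (𝟙 V.left) (Scheme.Hom.quasiFiniteAt _ _)
      exact trdeg_eq_zero
  rw [key]
  obtain ⟨h1, h2, -⟩ := Groth.Agent.SpQS.fibre_conditions f hft hYi.2.1 y ⟨x, hxy⟩
  refine ⟨fun hq x' hx' => ?_, fun h => h1.1 ?_⟩
  · have hcl := (h2.2 hq).1
    have hs : (⟨x, hxy⟩ : ↥(AlgSp.Points.map f.hom ⁻¹' {y})) ⤳ ⟨x', hx'⟩ :=
      (subtype_specializes_iff _ _).2 (hx.specializes (Set.mem_univ x'))
    exact congrArg Subtype.val (hs.mem_closed hcl rfl : (⟨x', hx'⟩ : ↥(AlgSp.Points.map f.hom ⁻¹' {y})) ∈ _)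
  · convert isOpen_univ
    exact Set.eq_univ_of_forall fun w => Subtype.ext (h w.1 w.2)

end Groth.Agent.S10486
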