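import Groth.Statements.S10487
import Groth.Agent.GenFin.Basic
import Groth.Agent.GenFin.Affines

set_option autoImplicit false
universe u
open CategoryTheory CategoryTheory.Limits AlgebraicGeometry Topology TopologicalSpace
open AlgSp

set_option backward.isDefEq.respectTransparency false

namespace Groth.Agent.S10487

/-- (3) ⇔ (5): let f : X ⟶ Y be a dominant morphism locally of finite type between integral algebraic
spaces over a scheme S, with generic points x and y. Then there are nonempty affine opens U ⊂ X and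
V ⊂ Y with f(U) ⊂ V and f|_U : U ⟶ V finite, if and only if x is the only point of X mapping to y. -/
theorem result {S : Scheme.{u}} {X Y : AlgSp.Space S} (hXi : AlgSp.IsIntegralSp X.obj) (hYi : AlgSp.IsIntegralSp Y.obj)
    (f : X ⟶ Y) (hft : AlgSp.LocP @LocallyOfFiniteType f.hom) (hd : AlgSp.IsDominantMor f.hom)
    (x : AlgSp.Points X.obj) (hx : IsGenericPoint x (Set.univ : Set (AlgSp.Points X.obj)))
    (y : AlgSp.Points Y.obj) (hy : IsGenericPoint y (Set.univ : Set (AlgSp.Points Y.obj))) :
    (∃ (U V : Over S) (a : (AlgSp.yon S).obj U ⟶ X.obj) (b : (AlgSp.yon S).obj V ⟶ Y.obj) (g : U ⟶ V),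
      IsAffine U.left ∧ IsAffine V.left ∧ Nonempty ↥U.left ∧
        AlgSp.RepWith @IsOpenImmersion a ∧ AlgSp.RepWith @IsOpenImmersion b ∧
          a ≫ f.hom = (AlgSp.yon S).map g ≫ b ∧ IsFinite g.left) ↔ (∀ x' : AlgSp.Points X.obj, AlgSp.Points.map f.hom x' = y → x' = x) := by
  obtain ⟨_, _⟩ := Groth.Agent.SpQS.t0_sober_of_decent Y.property hYi.2.1
  have hxy : AlgSp.Points.map f.hom x = y := by
    have h1 := hx.image (AlgSp.Points.continuous_map f.hom)
    rw [Set.image_univ, hd.closure_range] at h1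
    exact h1.eq hy
  constructor
  · rintro ⟨U, V, a, b, g, hU, hV, hUne, ha, hb, comm, hg⟩
    obtain ⟨p, hp⟩ := Groth.Agent.GenFin.generic_mem_range X.property (AlgSp.IsAlgSpace.yon_obj U) ha hx
      ⟨AlgSp.Points.schemeEquiv U hUne.some⟩
    obtain ⟨u, rfl⟩ := (AlgSp.Points.schemeEquiv U).surjective p
    exact Groth.Agent.GenFin.unique_of_finite hXi hYi f hft hd hx hy
      (Groth.Agent.AlgSpLib.repWith_mono (fun _ _ g hg => by
      have : IsOpenImmersion g := hg
      exact (inferInstance : Etale g)) ha)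
      (Groth.Agent.AlgSpLib.repWith_mono (fun _ _ g hg => by
      have : IsOpenImmersion g := hg
      exact (inferInstance : Etale g)) hb) comm hg
      ⟨u, ((AlgSp.Points.ofPt_eq_map_ofScheme a u).trans hp)⟩
  · intro huniq
    obtain ⟨U, V, a, b, g, hU, hV, hUne, ha, hb, comm, hg⟩ :=
      Groth.Agent.GenFin.exists_affines X.property Y.property hXi.2.1 hYi.2.1 f.hom hft hx hy hxy huniq
    exact ⟨U, V, a, b, g, hU, hV, hUne, ha, hb, comm, hg⟩

end Groth.Agent.S10487
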