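import Groth.Statements.S10488
import Groth.Agent.GenFin.Basic

set_option autoImplicit false
universe u
open CategoryTheory CategoryTheory.Limits AlgebraicGeometry Topology TopologicalSpace
open AlgSp

set_option backward.isDefEq.respectTransparency false

namespace Groth.Agent.S10488

/-- (5) ⇔ (6): let f : X ⟶ Y be a dominant morphism locally of finite type between integral algebraic
spaces over a scheme S, with generic points x and y, and assume f separated or quasi-compact. Then x
is the only point of X mapping to y if and only if there is a nonempty affine open V ⊂ Y such that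
f⁻¹(V) ⟶ V is finite. -/
theorem result {S : Scheme.{u}} {X Y : AlgSp.Space S} (hXi : AlgSp.IsIntegralSp X.obj) (hYi : AlgSp.IsIntegralSp Y.obj)
    (f : X ⟶ Y) (hft : AlgSp.LocP @LocallyOfFiniteType f.hom) (hd : AlgSp.IsDominantMor f.hom)
    (x : AlgSp.Points X.obj) (hx : IsGenericPoint x (Set.univ : Set (AlgSp.Points X.obj)))
    (y : AlgSp.Points Y.obj) (hy : IsGenericPoint y (Set.univ : Set (AlgSp.Points Y.obj)))
    (hsq : AlgSp.IsSeparatedMor f.hom ∨ AlgSp.IsQuasiCompactMor f.hom) :
    (∀ x' : AlgSp.Points X.obj, AlgSp.Points.map f.hom x' = y → x' = x) ↔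
      ∃ (V : Over S) (b : (AlgSp.yon S).obj V ⟶ Y.obj) (U : Over S) (g : U ⟶ V) (a : (AlgSp.yon S).obj U ⟶ X.obj),
        IsAffine V.left ∧ Nonempty ↥V.left ∧ AlgSp.RepWith @IsOpenImmersion b ∧
          IsPullback a ((AlgSp.yon S).map g) f.hom b ∧ IsAffine U.left ∧ IsFinite g.left := by
  obtain ⟨_, _⟩ := Groth.Agent.SpQS.t0_sober_of_decent Y.property hYi.2.1
  have hxy : AlgSp.Points.map f.hom x = y := by
    have h1 := hx.image (AlgSp.Points.continuous_map f.hom)
    rw [Set.image_univ, hd.closure_range] at h1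
    exact h1.eq hy
  constructor
  · intro huniq
    obtain ⟨V, b, U, g, a, hV, hVne, -, hb, -, sq, hU, hg⟩ := Groth.Agent.GenFin.exists_affine_finite X.property
      Y.property hXi.2.1 hYi.2.1 f.hom hft hx hy hxy huniq hsq.symm
    exact ⟨V, b, U, g, a, hV, hVne, hb, sq, hU, hg⟩
  · rintro ⟨V, b, U, g, a, hV, hVne, hb, sq, hU, hg⟩
    have ha : AlgSp.RepWith @IsOpenImmersion a := Groth.Agent.AlgSpLib.repWith_baseChange sq.flip hb
    obtain ⟨v, hv⟩ := Groth.Agent.GenFin.generic_mem_range Y.property (AlgSp.IsAlgSpace.yon_obj V) hb hy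
      ⟨AlgSp.Points.schemeEquiv V hVne.some⟩
    obtain ⟨p, hp, -⟩ := Groth.Agent.AlgSpLib.exists_point_of_isPullback sq x v (hxy.trans hv.symm)
    obtain ⟨u, rfl⟩ := (AlgSp.Points.schemeEquiv U).surjective p
    exact Groth.Agent.GenFin.unique_of_finite hXi hYi f hft hd hx hy
      (Groth.Agent.AlgSpLib.repWith_mono (fun _ _ g hg => by
      have : IsOpenImmersion g := hg
      exact (inferInstance : Etale g)) ha)
      (Groth.Agent.AlgSpLib.repWith_mono (fun _ _ g hg => by
      have : IsOpenImmersion g := hg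
      exact (inferInstance : Etale g)) hb) sq.w hg
      ⟨u, ((AlgSp.Points.ofPt_eq_map_ofScheme a u).trans hp)⟩

end Groth.Agent.S10488
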