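import Groth.Statements.S10490
import Groth.Agent.S1550
import Groth.Agent.AlgSpLib.GeomRedTest

set_option autoImplicit false
universe u
open CategoryTheory CategoryTheory.Limits AlgebraicGeometry Topology TopologicalSpace
open AlgSp

set_option backward.isDefEq.respectTransparency false

namespace Groth.Agent.S10490

/-- Let k be a field and X an algebraic space smooth over k. Then the points of X which are images of
morphisms Spec k' ⟶ X over k with k' a finite separable extension of k form a dense subset of |X|. -/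
theorem result (k : Type u) [Field k] (X : AlgSp.Space (Spec (CommRingCat.of k))) (p : X.obj ⟶ (AlgSp.yon (Spec (CommRingCat.of k))).obj (Over.mk (𝟙 _))) (hp : AlgSp.LocP @Smooth p) :
    Dense {x : AlgSp.Points X.obj | ∃ (k' : Type u) (_ : Field k') (_ : Algebra k k'),
      Module.Finite k k' ∧ Algebra.IsSeparable k k' ∧
        ∃ v : X.obj.obj.obj (Opposite.op (Over.mk (Spec.map (CommRingCat.ofHom (algebraMap k k'))))),
          AlgSp.Points.mk ⟨k', Spec.map (CommRingCat.ofHom (algebraMap k k')), v⟩ = x} := by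
  obtain ⟨U, a, ha, has⟩ := X.property.atlas
  have hsm : Smooth U.hom := hp a (𝟙 _) (Over.homMk U.hom : U ⟶ Over.mk (𝟙 _)) ha
    Groth.Agent.AlgSpLib.repWith_id'
    ((Over.mkIdTerminal.isTerminalObj (AlgSp.yon _)).hom_ext _ _)
  letI : U.left.Over (Spec (CommRingCat.of k)) := ⟨U.hom⟩
  haveI : Smooth (U.left ↘ Spec (CommRingCat.of k)) := hsm
  refine (((Groth.Agent.AlgSpLib.ofPt_surjective has).denseRange).dense_image (AlgSp.Points.continuous_ofPt a)
    (Groth.Agent.S1550.result k U.left)).mono ?_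
  rintro _ ⟨v, ⟨-, hfin, hsep⟩, rfl⟩
  let φ : CommRingCat.of k ⟶ CommRingCat.of (U.left.residueField v) := CommRingCat.ofHom (Curv2.resMap k U.left v)
  have hφ : Spec.map φ = U.left.fromSpecResidueField v ≫ U.hom := by
    refine ext_of_isAffine ?_
    rw [← cancel_epi (Scheme.ΓSpecIso (CommRingCat.of k)).inv, ← Scheme.ΓSpecIso_inv_naturality]
    rw [Scheme.fromSpecResidueField, Scheme.Hom.comp_appTop, Scheme.Hom.comp_appTop, Scheme.fromSpecStalk_appTop]
    simp only [Category.assoc]
    erw [CategoryTheory.Functor.map_id, Category.id_comp]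
    rw [← Scheme.ΓSpecIso_inv_naturality]
    rfl
  refine ⟨U.left.residueField v, inferInstance, Curv2.resAlgebra k U.left v, hfin, hsep, ?_⟩
  refine ⟨(AlgSp.J _).uliftYonedaEquiv ((AlgSp.yon _).map (Over.homMk (U.left.fromSpecResidueField v) hφ.symm :
    Over.mk (Spec.map φ) ⟶ U) ≫ a), ?_⟩
  let q : AlgSp.FieldPt X.obj := ⟨U.left.residueField v, Spec.map φ,
    (AlgSp.J _).uliftYonedaEquiv ((AlgSp.yon _).map (Over.homMk (U.left.fromSpecResidueField v) hφ.symm :
      Over.mk (Spec.map φ) ⟶ U) ≫ a)⟩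
  show AlgSp.Points.mk q = _
  rw [← AlgSp.Points.ofPt_toHom q (IsLocalRing.closedPoint _)]
  show AlgSp.Points.ofPt ((AlgSp.J _).uliftYonedaEquiv.symm ((AlgSp.J _).uliftYonedaEquiv _)) _ = _
  rw [Equiv.symm_apply_apply, Groth.Agent.AlgSpLib.ofPt_comp]
  exact congrArg (AlgSp.Points.ofPt a) (Scheme.fromSpecResidueField_apply _ _)

end Groth.Agent.S10490
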