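import Groth.Statements.S10496
import Groth.Agent.SpQS.RedInduced
import Groth.Agent.SpQS.DecentMor
import Groth.Agent.AlgSpLib.PointMisc

set_option autoImplicit false
universe u
open CategoryTheory CategoryTheory.Limits AlgebraicGeometry Topology TopologicalSpace
open AlgSp

namespace Groth.Agent.S10496

/-- Let X be a decent algebraic space over a scheme S. For every irreducible closed subset T of |X|
there is an integral closed subspace Z of X with |Z| = T. -/
theorem result {S : Scheme.{u}} (X : AlgSp.Space S)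
    (hX : AlgSp.IsDecent X.obj) (T : Set (AlgSp.Points X.obj)) (hT : IsClosed T) (hTi : IsIrreducible T) :
    ∃ (Z : AlgSp.Space S) (i : Z ⟶ X), AlgSp.RepWith @IsClosedImmersion i.hom ∧ AlgSp.IsIntegralSp Z.obj ∧
      Set.range (AlgSp.Points.map i.hom) = T := by
  open _root_.AlgSp Groth.Agent.AlgSpLib in
  obtain ⟨Z, i, hZ, hi, hr, hred⟩ := Groth.Agent.SpQS.exists_redInduced X.property hT
  open _root_.AlgSp Groth.Agent.AlgSpLib in
  have hemb := (immersion_topology X.property (repWith_mono (P := @IsClosedImmersion) (Q := @IsImmersion)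
    (fun _ _ r (hr : IsClosedImmersion r) => (inferInstance : IsImmersion r)) hi)).1
  refine ⟨⟨Z, hZ⟩, ObjectProperty.homMk i, hi, ⟨hred, Groth.Agent.SpQS.isDecent_of_representable i hi.1 hX, ?_⟩, hr⟩
  rw [irreducibleSpace_def]
  open _root_.AlgSp Groth.Agent.AlgSpLib in
  refine ⟨?_, ?_⟩
  · obtain ⟨x, hx⟩ := hTi.1
    obtain ⟨z, -⟩ := hr.symm.subset hx
    exact ⟨z, trivial⟩
  · rintro u v hu hv ⟨a, -, ha⟩ ⟨b, -, hb⟩
    obtain ⟨u', hu', rfl⟩ := hemb.isInducing.isOpen_iff.1 hu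
    obtain ⟨v', hv', rfl⟩ := hemb.isInducing.isOpen_iff.1 hv
    obtain ⟨x, hxT, hx⟩ := hTi.2 u' v' hu' hv' ⟨_, hr.subset ⟨a, rfl⟩, ha⟩ ⟨_, hr.subset ⟨b, rfl⟩, hb⟩
    obtain ⟨z, rfl⟩ := hr.symm.subset hxT
    exact ⟨z, trivial, hx⟩

end Groth.Agent.S10496
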