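import Groth.Statements.S10498
import Groth.Agent.EssSub.Basic
import Groth.Agent.SmoothRed.Basic
-- import your own Groth.Agent.* helpers here

set_option autoImplicit false
universe u
open TensorProduct
open Hensel

namespace Groth.Agent.S10498

open TensorProduct

theorem reduced_essEt (k K A E : Type u) [Field k] [Field K] [Algebra k K] [CommRing A] [IsLocalRing A]
    [Algebra k A] [CommRing E] [IsLocalRing E] [Algebra A E] [Algebra k E] [IsScalarTower k A E]
    (h : EGA4loc.IsEssentiallyEtale A E) [IsReduced (A ⊗[k] K)] : IsReduced (E ⊗[k] K) := by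
  obtain ⟨C, _, _, q, _, _, -, ⟨φ⟩⟩ := h
  letI : Algebra k C := ((algebraMap A C).comp (algebraMap k A)).toAlgebra
  haveI : IsScalarTower k A C := IsScalarTower.of_algebraMap_eq fun _ => rfl
  let X := A ⊗[k] K
  haveI : Algebra.Smooth X (X ⊗[A] C) := inferInstance
  haveI : IsReduced (X ⊗[A] C) := SmoothRed.isReduced_of_smooth X _
  haveI : IsReduced (C ⊗[A] X) :=
    isReduced_of_injective (Algebra.TensorProduct.comm A C X) (AlgEquiv.injective _)
  let Cq := Localization.AtPrime q
  haveI : IsReduced ((C ⊗[A] X) ⊗[C] Cq) := by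
    have := isReduced_localizationPreserves (R := C ⊗[A] X)
      (Algebra.algebraMapSubmonoid (C ⊗[A] X) q.primeCompl) ((C ⊗[A] X) ⊗[C] Cq) inferInstance
    exact this
  haveI : IsReduced (Cq ⊗[C] (C ⊗[A] X)) :=
    isReduced_of_injective (Algebra.TensorProduct.comm C Cq (C ⊗[A] X)) (AlgEquiv.injective _)
  let e₁ := Algebra.TensorProduct.cancelBaseChange A C C Cq X
  haveI : IsReduced (Cq ⊗[A] X) := isReduced_of_injective e₁.symm (AlgEquiv.injective _)
  let e₂ := Algebra.TensorProduct.cancelBaseChange k A A Cq K
  haveI : IsReduced (Cq ⊗[k] K) := isReduced_of_injective e₂.symm (AlgEquiv.injective _)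
  exact isReduced_of_injective (Algebra.TensorProduct.congr (φ.restrictScalars k) AlgEquiv.refl)
    (AlgEquiv.injective _)

theorem reduced_up (k K A R : Type u) [Field k] [Field K] [Algebra k K] [CommRing A] [IsLocalRing A]
    [Algebra k A] [CommRing R] [IsLocalRing R] [Algebra A R] [IsLocalHom (algebraMap A R)]
    [Hensel.IsStrictHenselization A R] [Algebra k R] [IsScalarTower k A R] [IsReduced (A ⊗[k] K)] :
    IsReduced (R ⊗[k] K) := by
  classical
  refine ⟨fun x hx => ?_⟩
  obtain ⟨s, hs⟩ := TensorProduct.exists_finset x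
  obtain ⟨E, hE, hEl, -, hEe⟩ := EssSub.exists_essEt_ge (A := A) (S := R) (s.image Prod.fst)
  haveI := hEl
  haveI := reduced_essEt k K A E hEe
  let ι : E →ₐ[k] R := E.val.restrictScalars k
  let f := Algebra.TensorProduct.map ι (AlgHom.id k K)
  have hf : Function.Injective f :=
    Module.Flat.rTensor_preserves_injective_linearMap ι.toLinearMap Subtype.val_injective
  obtain ⟨y, hy⟩ : x ∈ f.range := by
    rw [hs]
    refine Subalgebra.sum_mem _ fun i hi => ?_
    exact ⟨(⟨i.1, hE (Finset.mem_image_of_mem _ hi)⟩ : E) ⊗ₜ i.2, rfl⟩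
  obtain ⟨n, hn⟩ := hx
  have hy' : f y = x := hy
  have h0 : y ^ n = 0 := hf (by rw [map_pow, hy', hn, map_zero])
  rw [← hy', IsReduced.eq_zero y ⟨n, h0⟩, map_zero]

/-- (1) ⇔ (2): let k be a field, A a local k-algebra and R a strict henselization of A. Then A is
geometrically reduced over k (K ⊗_k A reduced for every field extension K of k) if and only if R is
geometrically reduced over k. -/
theorem result (k : Type u) [Field k]
    (A : Type u) [CommRing A] [IsLocalRing A] [Algebra k A]
    (R : Type u) [CommRing R] [IsLocalRing R] [Algebra A R] [IsLocalHom (algebraMap A R)]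
    [Hensel.IsStrictHenselization A R] [Algebra k R] [IsScalarTower k A R] :
    (∀ (K : Type u) [Field K] [Algebra k K], IsReduced (TensorProduct k K A)) ↔
      ∀ (K : Type u) [Field K] [Algebra k K], IsReduced (TensorProduct k K R) := by
  constructor
  · intro H K _ _
    haveI := H K
    haveI : IsReduced (A ⊗[k] K) :=
      isReduced_of_injective (Algebra.TensorProduct.comm k A K) (AlgEquiv.injective _)
    haveI := reduced_up k K A R
    exact isReduced_of_injective (Algebra.TensorProduct.comm k K R) (AlgEquiv.injective _)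
  · intro H K _ _
    haveI := H K
    haveI := Groth.Agent.Hensel.strictHenselization_faithfullyFlat A R
    refine isReduced_of_injective
      (Algebra.TensorProduct.map (AlgHom.id k K) (IsScalarTower.toAlgHom k A R)) ?_
    exact Module.Flat.lTensor_preserves_injective_linearMap (IsScalarTower.toAlgHom k A R).toLinearMap
      (FaithfulSMul.algebraMap_injective A R)

end Groth.Agent.S10498
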