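import Groth.Agent.SpQS.CodimOne
import Groth.Prelude.Def_AlgSpDec
import Groth.Prelude.Def_AlgSp4
import Mathlib.RingTheory.KrullDimension.Basic
import Mathlib.AlgebraicGeometry.Morphisms.QuasiFinite

set_option autoImplicit false
universe u
open CategoryTheory CategoryTheory.Limits AlgebraicGeometry Topology TopologicalSpace
open AlgSp

set_option backward.isDefEq.respectTransparency false

namespace Groth.Agent.S10499

/-- Let f : X ⟶ Y be a proper morphism of algebraic spaces over a scheme S with Y locally Noetherian,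
and let y be a point of Y of codimension at most 1. If the points of |X| where f is quasi-finite
form a dense subset, then there is an open subspace Y' of Y containing y such that the base change
of f to Y' is finite. -/
theorem result {S : Scheme.{u}} {X Y : AlgSp.Space S} (f : X ⟶ Y)
    (hf : AlgSp.IsProperMor f.hom) (hY : AlgSp.IsLocNoethSp Y.obj) (y : AlgSp.Points Y.obj)
    (hy : AlgSp.HasAt (fun U u => ringKrullDim ↥(U.presheaf.stalk u) ≤ 1) Y.obj y)
    (h : Dense {x : AlgSp.Points X.obj | AlgSp.HasAtMor (fun U _ h u => ∃ W : U.Opens, u ∈ W ∧ LocallyQuasiFinite (W.ι ≫ h) ∧ LocallyOfFiniteType (W.ι ≫ h)) f.hom x}) :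
    ∃ (Y' : AlgSp.Space S) (j : Y' ⟶ Y), AlgSp.RepWith @IsOpenImmersion j.hom ∧
      y ∈ Set.range (AlgSp.Points.map j.hom) ∧
      ∀ (P : AlgSp.Space S) (fst : P ⟶ Y') (snd : P ⟶ X), IsPullback fst.hom snd.hom j.hom f.hom →
        AlgSp.IsFiniteMor fst.hom := by
  obtain ⟨hX⟩ : Nonempty (AlgSp.IsAlgSpace X.obj) := ⟨X.property⟩
  obtain ⟨hY'⟩ : Nonempty (AlgSp.IsAlgSpace Y.obj) := ⟨Y.property⟩
  simp only [Groth.Agent.SpQS.hasAtMor_nhd_iff hX hY' f.hom hf.2.1.1] at h
  have hq : ∀ x, AlgSp.Points.map f.hom x = y → Groth.Agent.SpQS.QFAtPt f.hom x := fun x hx =>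
    Groth.Agent.SpQS.qfAtPt_over_codim_one hX hY' f.hom hf.2.1.1 hY hy (fun z hz _ => Groth.Agent.SpQS.qfAtPt_codimZero_of_dense hX hY' f.hom hf.2.1.1 hY h hz) hx
  obtain ⟨Y2, hY2, j, h1, h2, h3⟩ := Groth.Agent.SpQS.exists_finite_nhd_of_proper hX hY' f.hom hf y hq
  exact ⟨⟨Y2, hY2⟩, ObjectProperty.homMk j, h1, h2, fun P fst snd sq => h3 _ _ _ sq⟩

end Groth.Agent.S10499
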