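import Groth.Statements.S10500
import Groth.Agent.GenFin.Basic
import Groth.Agent.AlgSpLib.FpqcProps

set_option autoImplicit false
universe u
open CategoryTheory CategoryTheory.Limits AlgebraicGeometry Topology TopologicalSpace
open AlgSp

set_option backward.isDefEq.respectTransparency false

namespace Groth.Agent.S10500

/-- Let X and Y be integral algebraic spaces over a scheme S with generic points x and y, and f : X ⟶ Y
a morphism which is proper and dominant. Then f is an alteration (finite over some nonempty open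
subspace of Y) if and only if x is the only point of X mapping to y. -/
theorem result {S : Scheme.{u}} {X Y : AlgSp.Space S}
    (hXi : AlgSp.IsIntegralSp X.obj) (hYi : AlgSp.IsIntegralSp Y.obj) (f : X ⟶ Y) (hp : AlgSp.IsProperMor f.hom)
    (hd : AlgSp.IsDominantMor f.hom)
    (x : AlgSp.Points X.obj) (hx : IsGenericPoint x (Set.univ : Set (AlgSp.Points X.obj)))
    (y : AlgSp.Points Y.obj) (hy : IsGenericPoint y (Set.univ : Set (AlgSp.Points Y.obj))) :
    (∃ (V : AlgSp.Space S) (j : V ⟶ Y), AlgSp.RepWith @IsOpenImmersion j.hom ∧ Nonempty (AlgSp.Points V.obj) ∧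
      ∀ (P : AlgSp.Space S) (fst : P ⟶ V) (snd : P ⟶ X), IsPullback fst.hom snd.hom j.hom f.hom →
        AlgSp.IsFiniteMor fst.hom) ↔ (∀ x' : AlgSp.Points X.obj, AlgSp.Points.map f.hom x' = y → x' = x) := by
  obtain ⟨_, _⟩ := Groth.Agent.SpQS.t0_sober_of_decent Y.property hYi.2.1
  have hxy : AlgSp.Points.map f.hom x = y := by
    have h1 := hx.image (AlgSp.Points.continuous_map f.hom)
    rw [Set.image_univ, hd.closure_range] at h1
    exact h1.eq hy
  constructor
  · rintro ⟨V, j, hj, hne, hfin⟩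
    obtain ⟨v, hv⟩ := Groth.Agent.GenFin.generic_mem_range Y.property V.property hj hy hne
    let P : AlgSp.Space S := ⟨pullback j.hom f.hom, Groth.Agent.AlgSpLib.isAlgSpace_of_isPullback_space Y.property
      V.property X.property (IsPullback.of_hasPullback _ _)⟩
    have hF : AlgSp.IsFiniteMor (pullback.fst j.hom f.hom) := hfin P (ObjectProperty.homMk (pullback.fst _ _))
      (ObjectProperty.homMk (pullback.snd _ _)) (IsPullback.of_hasPullback _ _)
    obtain ⟨T, q, t, -, hq, hqt, -⟩ := Groth.Agent.SpQS.exists_affine_chart_at V.property v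
    obtain ⟨W, w₁, h, sqW, hh⟩ := Groth.Agent.AlgSpLib.exists_repWith
      ((Groth.Agent.AlgSpLib.isFiniteMor_iff_repWith _).1 hF) q
    have big := sqW.paste_horiz (IsPullback.of_hasPullback j.hom f.hom).flip
    have hb : AlgSp.RepWith @Etale (q ≫ j.hom) := Groth.Agent.AlgSpLib.repWith_comp hq
      (Groth.Agent.AlgSpLib.repWith_mono (fun _ _ g hg => by
      have : IsOpenImmersion g := hg
      exact (inferInstance : Etale g)) hj)
    have ha : AlgSp.RepWith @Etale (w₁ ≫ pullback.snd j.hom f.hom) :=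
      Groth.Agent.AlgSpLib.repWith_baseChange big.flip hb
    obtain ⟨z, hz, -⟩ := Groth.Agent.AlgSpLib.exists_point_of_isPullback big x (AlgSp.Points.schemeEquiv T t) (by
      rw [hxy, ← hv, ← hqt, AlgSp.Points.map_ofPt]
      exact AlgSp.Points.ofPt_eq_map_ofScheme (q ≫ j.hom) t)
    obtain ⟨w, rfl⟩ := (AlgSp.Points.schemeEquiv W).surjective z
    exact Groth.Agent.GenFin.unique_of_finite hXi hYi f hp.2.1.1 hd hx hy ha hb big.w hh
      ⟨w, ((AlgSp.Points.ofPt_eq_map_ofScheme _ w).trans hz)⟩
  · intro huniq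
    obtain ⟨Y', j, hY', hj, hyj, hfin⟩ := Groth.Agent.GenFin.exists_open_finite X.property Y.property hXi.2.1 hYi.2.1
      f.hom hp.2.1.1 hx hy hxy huniq (Or.inl hp.2.1.2)
    obtain ⟨v, -⟩ := hyj
    refine ⟨⟨Y', hY'⟩, ObjectProperty.homMk j, hj, ⟨v⟩, fun P fst snd sq => ?_⟩
    let e := sq.isoIsPullback _ _ (IsPullback.of_hasPullback j f.hom)
    have he : e.hom ≫ pullback.fst j f.hom = fst.hom :=
      sq.isoIsPullback_hom_fst _ _ (IsPullback.of_hasPullback j f.hom)
    rw [Groth.Agent.AlgSpLib.isFiniteMor_iff_repWith, ← he]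
    exact (Groth.Agent.AlgSpLib.repWith_iso_comp_iff e.hom _).2 hfin

end Groth.Agent.S10500
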