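import Groth.Statements.S10501
import Groth.Agent.GeomConnSp.Basic

set_option autoImplicit false
universe u
open CategoryTheory CategoryTheory.Limits AlgebraicGeometry Topology TopologicalSpace
open AlgSp

namespace Groth.Agent.S10501

/-- Over a separably closed field k, an algebraic space X is geometrically connected if and only if it
is connected. -/
theorem result (k : Type u) [Field k] [IsSepClosed k]
    (X : AlgSp.Space (Spec (CommRingCat.of k))) :
    (∀ (K : Type u) [Field K] [Algebra k K], ConnectedSpace (AlgSp.Points (X.obj ⨯ (AlgSp.yon (Spec (CommRingCat.of k))).obj (Over.mk (Spec.map (CommRingCat.ofHom (algebraMap k K))))))) ↔ ConnectedSpace (AlgSp.Points X.obj) := by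
  refine ⟨fun h => ?_, fun h K _ _ => Groth.Agent.GeomConnSp.connected_prod_of_sepClosed X.property h K⟩
  haveI := h k
  exact (Groth.Agent.GeomConnSp.surjective_fst X.obj k).connectedSpace (AlgSp.Points.continuous_map _)

end Groth.Agent.S10501
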