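import Groth.Agent.AlgSpLib.GeomRedBC
import Groth.Prelude.Def_AlgSp2
import Groth.Prelude.Def_FDesc

set_option autoImplicit false
universe u
open CategoryTheory CategoryTheory.Limits AlgebraicGeometry Topology TopologicalSpace
open AlgSp

set_option backward.isDefEq.respectTransparency false

namespace Groth.Agent.S10502

/-- Let k be a field, X an algebraic space over k and K/k a field extension. Then X being geometrically
reduced over k is equivalent to its base change X_K being geometrically reduced over K. -/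
theorem result (k : Type u) [Field k] (X : AlgSp.Space (Spec (CommRingCat.of k))) (K : Type u) [Field K] [Algebra k K] :
    (∀ x : AlgSp.Points X.obj, (∃ (U : Over (Spec (CommRingCat.of k))) (a : (AlgSp.yon (Spec (CommRingCat.of k))).obj U ⟶ X.obj) (u : ↥U.left),
      AlgSp.RepWith @Etale a ∧ AlgSp.Points.ofPt a u = x ∧ FBase.IsGeomReducedAt U.hom u)) ↔
      ∀ x' : AlgSp.Points (X.obj ⨯ (AlgSp.yon (Spec (CommRingCat.of k))).obj (Over.mk (Spec.map (CommRingCat.ofHom (algebraMap k K))))), (∃ (U' : Over (Spec (CommRingCat.of k))) (a' : (AlgSp.yon (Spec (CommRingCat.of k))).obj U' ⟶ (X.obj ⨯ (AlgSp.yon (Spec (CommRingCat.of k))).obj (Over.mk (Spec.map (CommRingCat.ofHom (algebraMap k K))))))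
        (q : U' ⟶ Over.mk (Spec.map (CommRingCat.ofHom (algebraMap k K)))) (u' : ↥U'.left),
        AlgSp.RepWith @Etale a' ∧ a' ≫ Limits.prod.snd = (AlgSp.yon (Spec (CommRingCat.of k))).map q ∧
          AlgSp.Points.ofPt a' u' = x' ∧ FBase.IsGeomReducedAt q.left u') := by
  refine ⟨fun h x' => (AlgSpLib.geomRedAtPt_iff_bc X.property K x').1 (h _), fun h x => ?_⟩
  obtain ⟨y⟩ : Nonempty (AlgSp.Points ((AlgSp.yon _).obj (AlgSpLib.fieldExtObj k K))) :=
    ⟨AlgSp.Points.ofScheme _ (IsLocalRing.closedPoint K : ↥(Spec (CommRingCat.of K)))⟩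
  have hT : IsTerminal ((AlgSp.yon (Spec (CommRingCat.of k))).obj (Over.mk (𝟙 _))) :=
    Over.mkIdTerminal.isTerminalObj (AlgSp.yon _)
  have hs : Subsingleton (AlgSp.Points ((AlgSp.yon (Spec (CommRingCat.of k))).obj (Over.mk (𝟙 _)))) := by
    have : Subsingleton ↥(Over.mk (𝟙 (Spec (CommRingCat.of k)))).left := inferInstanceAs (Subsingleton (PrimeSpectrum k))
    exact (AlgSp.Points.schemeEquiv _).symm.injective.subsingleton
  obtain ⟨x', hx, -⟩ := AlgSpLib.exists_point_of_isPullback
    (IsPullback.of_is_product (prodIsProd X.obj ((AlgSp.yon _).obj (AlgSpLib.fieldExtObj k K))) hT) x y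
    (Subsingleton.elim _ _)
  exact hx ▸ (AlgSpLib.geomRedAtPt_iff_bc X.property K x').2 (h x')

end Groth.Agent.S10502
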