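import Groth.Agent.SmSect.Basic
import Groth.Agent.AlgSpLib.Space
import Groth.Agent.AlgSpLib.Points
import Groth.Prelude.Def_AlgSpEt
import Groth.Prelude.Def_AlgSpCov

set_option autoImplicit false
universe u
open CategoryTheory CategoryTheory.Limits AlgebraicGeometry
open AlgSp

set_option backward.isDefEq.respectTransparency false

namespace Groth.Agent.S10509

/-- A smooth covering of an algebraic space `X` over `S` by algebraic spaces can be refined by an etale
covering of `X` by algebraic spaces: there is an etale covering `{U_j ⟶ X}` each member of which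
factors through some member of the given smooth covering. -/
theorem result {S : Scheme.{u}} (X : AlgSp.Space S) {ι : Type u}
    (Xi : ι → AlgSp.Space S) (g : ∀ i, Xi i ⟶ X)
    (h : AlgSp.IsSmCover (fun i => (Xi i).obj) (fun i => (g i).hom)) :
    ∃ (κ : Type u) (U : κ → AlgSp.Space S) (c : ∀ j, U j ⟶ X),
      AlgSp.IsEtCover (fun j => (U j).obj) (fun j => (c j).hom) ∧
      ∀ j, ∃ (i : ι) (r : U j ⟶ Xi i), r ≫ g i = c j := by
  obtain ⟨V, a, hae, has⟩ := X.property.atlas
  have key : ∀ v : ↥V.left, ∃ (U : Over S) (c : (AlgSp.yon S).obj U ⟶ X.obj) (z : ↥U.left),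
      AlgSp.RepWith @Etale c ∧ AlgSp.Points.ofPt c z = AlgSp.Points.ofPt a v ∧
        ∃ (i : ι) (r : (AlgSp.yon S).obj U ⟶ (Xi i).obj), r ≫ (g i).hom = c := by
    intro v
    obtain ⟨i, y, hy⟩ := h.2 (AlgSp.Points.ofPt a v)
    have sq := IsPullback.of_hasPullback (g i).hom a
    have hP : AlgSp.IsAlgSpace (pullback (g i).hom a) :=
      AlgSpLib.isAlgSpace_of_isPullback_space X.property (Xi i).property (AlgSp.IsAlgSpace.yon_obj V) sq
    obtain ⟨p, -, hp⟩ := AlgSpLib.exists_point_of_isPullback sq y (AlgSp.Points.ofScheme V v) (by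
      rw [AlgSp.Points.map_ofPt, Category.id_comp]; exact hy)
    obtain ⟨W, c, hce, hcs⟩ := hP.atlas
    obtain ⟨w, hw⟩ := AlgSpLib.ofPt_surjective hcs p
    obtain ⟨q, hq⟩ := AlgSpLib.exists_map_eq (c ≫ pullback.snd (g i).hom a)
    have hsm : Smooth q.left := h.1 i (c ≫ pullback.fst (g i).hom a) a q
      (AlgSpLib.repWith_comp hce (AlgSpLib.repWith_baseChange sq.flip hae)) hae
      (by rw [hq, Category.assoc, Category.assoc, pullback.condition])
    have hqw : q.left w = v := by
      apply (AlgSp.Points.schemeEquiv V).injective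
      show AlgSp.Points.ofScheme V (q.left w) = AlgSp.Points.ofScheme V v
      rw [← AlgSpLib.ofScheme_map, hq, ← AlgSp.Points.map_ofPt, hw, hp]
    obtain ⟨S', g', s', hg', hs', k, hk⟩ := SmSect.exists_etale_section q.left w
    let U : Over S := Over.mk (g' ≫ V.hom)
    let gU : U ⟶ V := Over.homMk g' rfl
    let kU : U ⟶ W := Over.homMk k (by
      show k ≫ W.hom = g' ≫ V.hom
      rw [← Over.w q, ← Category.assoc, hk])
    refine ⟨U, (AlgSp.yon S).map gU ≫ a, s', AlgSpLib.repWith_comp ((AlgSpLib.repWith_yon_iff gU).2 hg') hae,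
      ?_, i, (AlgSp.yon S).map kU ≫ c ≫ pullback.fst (g i).hom a, ?_⟩
    · rw [AlgSpLib.ofPt_comp]
      exact congrArg (AlgSp.Points.ofPt a) (hs'.trans hqw)
    · rw [Category.assoc, Category.assoc, pullback.condition, ← Category.assoc c, ← hq, ← Functor.map_comp_assoc,
        show kU ≫ q = gU from Over.OverMorphism.ext hk]
  choose U c z hc hz hr using key
  refine ⟨↥V.left, fun v => (AlgSp.ofScheme S).obj (U v), fun v => ObjectProperty.homMk (c v),
    ⟨fun v => AlgSp.isEtaleMor_of_repWith _ (hc v), fun x => ?_⟩, fun v => ?_⟩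
  · obtain ⟨v, rfl⟩ := AlgSpLib.ofPt_surjective has x
    refine ⟨v, AlgSp.Points.ofScheme _ (z v), ?_⟩
    refine (AlgSp.Points.map_ofPt _ (c v) (z v)).trans ?_
    rw [Category.id_comp]
    exact hz v
  · obtain ⟨i, r, hr'⟩ := hr v
    exact ⟨i, ObjectProperty.homMk r, ObjectProperty.hom_ext _ hr'⟩

end Groth.Agent.S10509
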