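import Groth.Statements.S10511
import Groth.Agent.AlgSpLib.ZarLocal
import Groth.Agent.AlgSpLib.QCompact

set_option autoImplicit false
universe u
open CategoryTheory CategoryTheory.Limits AlgebraicGeometry
open AlgSp

namespace Groth.Agent.S10511

set_option backward.isDefEq.respectTransparency false

open Groth.Agent.AlgSpLib

/-- a class of maps to `U` closed under fibre product with the legs contains all iterated fibre products -/
theorem widePB_mem {C : Type*} [Category C] [HasFiniteWidePullbacks C] {U : C} {ι : Type*} {Y : ι → C}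
    (g : ∀ i, Y i ⟶ U) (Q : ∀ ⦃W : C⦄, (W ⟶ U) → Prop) (h0 : ∀ i, Q (g i))
    (hiso : ∀ ⦃W W' : C⦄ (e : W' ≅ W) (b : W ⟶ U), Q b → Q (e.hom ≫ b))
    (hstep : ∀ (i : ι) ⦃W : C⦄ (b : W ⟶ U), Q b →
      ∀ ⦃P : C⦄ (fst : P ⟶ Y i) (snd : P ⟶ W), IsPullback fst snd (g i) b → Q (fst ≫ g i)) :
    ∀ (n : ℕ) (c : Fin (n + 1) → ι), Q (WidePullback.base (fun k => g (c k))) := by
  intro n
  induction n with
  | zero =>
    intro c
    let A := fun k : Fin 1 => g (c k)
    let inv : Y (c 0) ⟶ widePullback U (fun k => Y (c k)) A := WidePullback.lift (g (c 0))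
      (Fin.cases (motive := fun k => Y (c 0) ⟶ Y (c k)) (𝟙 _) fun k => k.elim0)
      (Fin.cases (by simp [A]) fun k => k.elim0)
    have h₁ : inv ≫ WidePullback.π A 0 = 𝟙 _ := WidePullback.lift_π _ _ _ _ 0
    have h₂ : WidePullback.π A 0 ≫ inv = 𝟙 _ := by
      refine WidePullback.hom_ext A _ _ (fun k => ?_) ?_
      · obtain rfl : k = 0 := Subsingleton.elim _ _
        rw [Category.assoc, h₁, Category.comp_id, Category.id_comp]
      · rw [Category.assoc, WidePullback.lift_base, Category.id_comp]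
        exact WidePullback.π_arrow A 0
    have := hiso ⟨WidePullback.π A 0, inv, h₂, h₁⟩ _ (h0 (c 0))
    rwa [show WidePullback.π A 0 ≫ g (c 0) = WidePullback.base A from WidePullback.π_arrow A 0] at this
  | succ n ih =>
    intro c
    let A := fun k : Fin (n + 2) => g (c k)
    let B := fun k : Fin (n + 1) => g (c k.succ)
    let t : widePullback U (fun k => Y (c k)) A ⟶ widePullback U (fun k : Fin (n + 1) => Y (c k.succ)) B :=
      WidePullback.lift (WidePullback.base A) (fun k : Fin (n + 1) => WidePullback.π A k.succ) (fun k : Fin (n + 1) => WidePullback.π_arrow A k.succ)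
    have ht : ∀ k, t ≫ WidePullback.π B k = WidePullback.π A k.succ := fun k => WidePullback.lift_π _ _ _ _ k
    have hb : t ≫ WidePullback.base B = WidePullback.base A := WidePullback.lift_base _ _ _ _
    have w : WidePullback.π A 0 ≫ g (c 0) = t ≫ WidePullback.base B := by
      rw [hb]; exact WidePullback.π_arrow A 0
    have hc : ∀ (s : PullbackCone (g (c 0)) (WidePullback.base B)) (k : Fin (n + 2)),
        Fin.cases (motive := fun k => s.pt ⟶ Y (c k)) s.fst (fun k => s.snd ≫ WidePullback.π B k) k ≫ A k =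
          s.fst ≫ g (c 0) := fun s => Fin.cases rfl fun k => by
      rw [Fin.cases_succ, Category.assoc, s.condition]
      exact congrArg (s.snd ≫ ·) (WidePullback.π_arrow B k)
    have sq : IsPullback (WidePullback.π A 0) t (g (c 0)) (WidePullback.base B) := by
      refine ⟨⟨w⟩, ⟨PullbackCone.IsLimit.mk w
        (fun s => WidePullback.lift (s.fst ≫ g (c 0)) _ (hc s)) (fun s => WidePullback.lift_π _ _ _ _ 0)
        (fun s => ?_) (fun s m h1 h2 => ?_)⟩⟩
      · refine WidePullback.hom_ext B _ _ (fun k => ?_) ?_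
        · rw [Category.assoc, ht]
          exact WidePullback.lift_π _ _ _ _ k.succ
        · rw [Category.assoc, hb, WidePullback.lift_base]
          exact s.condition
      · refine WidePullback.hom_ext A _ _ (fun k => ?_) ?_
        · induction k using Fin.cases with
          | zero => rw [h1, WidePullback.lift_π]; rfl
          | succ k =>
            rw [WidePullback.lift_π, ← ht k, ← Category.assoc, h2]; rfl
        · rw [WidePullback.lift_base, ← hb, ← Category.assoc, h2]
          exact s.condition.symm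
    have := hstep (c 0) _ (ih fun k => c k.succ) _ _ sq
    rwa [show WidePullback.π A 0 ≫ g (c 0) = WidePullback.base A from WidePullback.π_arrow A 0] at this

variable {S : Scheme.{u}}

theorem locP_of_isIso_comp {W : Sp S} {T T' : Over S} (e : W ≅ (yon S).obj T') (j : T' ⟶ T) [Etale j.left]
    {U : Sp S} (eU : U ≅ (yon S).obj T) {b : W ⟶ U} (hb : b ≫ eU.hom = e.hom ≫ (yon S).map j) :
    RepWith @Etale b := by
  have h : RepWith @Etale (e.hom ≫ (yon S).map j) :=
    (repWith_iso_comp_iff e.hom _).2 ((repWith_yon_iff j).2 inferInstance)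
  rw [← hb] at h
  exact (repWith_comp_iso_iff b eU.hom).1 h

/-- passing from schemes with property `K` to schemes covered by such with closed intersections -/
theorem level {X : Sp S} (hX : IsAlgSpace X) (P : ∀ ⦃U : Sp S⦄, (U ⟶ X) → Prop)
    (hP : ∀ ⦃U : Sp S⦄ (a : U ⟶ X), IsAlgSpace U →
      ∀ ⦃ι : Type u⦄ (Ui : ι → Sp S) (g : ∀ i, Ui i ⟶ U), (∀ i, IsAlgSpace (Ui i)) → IsFppfCover Ui g →
      (∀ (n : ℕ) (c : Fin (n + 1) → ι), P (WidePullback.base (fun k : Fin (n + 1) => g (c k)) ≫ a)) → P a)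
    (K : Scheme.{u} → Prop)
    (hK : ∀ ⦃U : Sp S⦄ (a : U ⟶ X) (T : Over S) (_ : U ≅ (yon S).obj T), K T.left →
      LocP @Flat a → LocP @LocallyOfFinitePresentation a → P a)
    {U : Sp S} (a : U ⟶ X) (T : Over S) (e : U ≅ (yon S).obj T) (hfl : LocP @Flat a)
    (hfp : LocP @LocallyOfFinitePresentation a) {κ : Type u} (O : κ → T.left.Opens) (hO : ∀ i, K (O i).toScheme)
    (hcov : ∀ x, ∃ i, x ∈ O i)
    (hmeet : ∀ (i : κ) {A B : Scheme.{u}} (j : A ⟶ T.left) (fst : B ⟶ (O i).toScheme) (snd : B ⟶ A),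
      IsOpenImmersion j → K A → IsPullback fst snd (O i).ι j → K B) : P a := by
  have hU : IsAlgSpace U := (IsAlgSpace.yon_obj T).of_iso e.symm
  let V : κ → Over S := fun i => Over.mk ((O i).ι ≫ T.hom)
  let v : ∀ i, V i ⟶ T := fun i => Over.homMk (O i).ι rfl
  let g : ∀ i, (yon S).obj (V i) ⟶ U := fun i => (yon S).map (v i) ≫ e.inv
  have hv : ∀ i, IsOpenImmersion (v i).left := fun i => (inferInstance : IsOpenImmersion (O i).ι)
  have hg : ∀ i, RepWith @Etale (g i) := fun i => by
    have := hv i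
    exact locP_of_isIso_comp (Iso.refl _) (v i) e (by simp [g])
  refine hP a hU (fun i => (yon S).obj (V i)) g (fun i => IsAlgSpace.yon_obj _) ⟨fun i => ?_, fun x => ?_⟩
    fun n c => ?_
  · have h := (isEtaleMor_iff_locP hU).1 (isEtaleMor_of_repWith' (hg i))
    exact ⟨fun A B a b c ha hb e => etST_flat.of_etale _ (h a b c ha hb e),
      fun A B a b c ha hb e => etST_lfp.of_etale _ (h a b c ha hb e)⟩
  · obtain ⟨t, ht⟩ := ofPt_surjective (repWith_of_isIso (P := @Surjective) e.inv) x
    obtain ⟨i, hi⟩ := hcov t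
    refine ⟨i, Points.ofScheme (V i) ⟨t, hi⟩, ?_⟩
    rw [← Points.ofPt_eq_map_ofScheme, ← ht]
    exact ofPt_comp (v i) e.inv ⟨t, hi⟩
  · obtain ⟨T', j, e', hj, hKT, hb⟩ : ∃ (T' : Over S) (j : T' ⟶ T)
        (e' : widePullback U (fun k => (yon S).obj (V (c k))) (fun k => g (c k)) ≅ (yon S).obj T'),
        IsOpenImmersion j.left ∧ K T'.left ∧
          WidePullback.base (fun k => g (c k)) ≫ e.hom = e'.hom ≫ (yon S).map j := by
      refine widePB_mem g (fun W b => ∃ (T' : Over S) (j : T' ⟶ T) (e' : W ≅ (yon S).obj T'),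
        IsOpenImmersion j.left ∧ K T'.left ∧ b ≫ e.hom = e'.hom ≫ (yon S).map j) (fun i => ?_)
        (fun W W' f b ⟨T', j, e', hj, hKT, hb⟩ => ⟨T', j, f ≪≫ e', hj, hKT, ?_⟩)
        (fun i W b ⟨T', j, e', hj, hKT, hb⟩ Q fst snd sq => ?_) n c
      · exact ⟨V i, v i, Iso.refl _, hv i, hO i, by simp [g]⟩
      · rw [Category.assoc, hb, Iso.trans_hom, Category.assoc]
      · have sq₁ : IsPullback fst (snd ≫ e'.hom) ((yon S).map (v i)) ((yon S).map j) :=
          sq.of_iso (Iso.refl _) (Iso.refl _) e' e (by simp) (by simp) (by simp [g]) hb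
        have sq₂ := (IsPullback.of_hasPullback (v i) j).map (yon S)
        refine ⟨pullback (v i) j, pullback.fst (v i) j ≫ v i, sq₁.isoIsPullback _ _ sq₂, ?_, ?_, ?_⟩
        · have h := (IsPullback.of_hasPullback (v i) j).map (Over.forget S)
          have := hv i
          have : IsOpenImmersion (pullback.fst (v i) j).left :=
            MorphismProperty.of_isPullback (P := @IsOpenImmersion) h.flip hj
          rw [Over.comp_left]
          infer_instance
        · exact hmeet i j.left _ _ hj hKT ((IsPullback.of_hasPullback (v i) j).map (Over.forget S))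
        · rw [Functor.map_comp, IsPullback.isoIsPullback_hom_fst_assoc]
          simp [g]
    have hbe : RepWith @Etale (WidePullback.base (fun k => g (c k))) := by
      have := hj
      exact locP_of_isIso_comp e' j e hb
    have h := (isEtaleMor_iff_locP hU).1 (isEtaleMor_of_repWith' hbe)
    exact hK _ T' e' hKT
      (locP_comp etST_flat hU hX (fun A B a b c ha hb e => etST_flat.of_etale _ (h a b c ha hb e)) hfl)
      (locP_comp etST_lfp hU hX (fun A B a b c ha hb e => etST_lfp.of_etale _ (h a b c ha hb e)) hfp)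

end Groth.Agent.S10511

namespace Groth.Agent.S10511

/-- Let `X` be an algebraic space over `S` and `P` a property of sheaves over `X` such that, for every
algebraic space `U` over `X` and every fppf covering `{U_i ⟶ U}` by algebraic spaces, `P` holds for
`U` as soon as it holds for all the iterated fibre products `U_{i_0} ×_U ⋯ ×_U U_{i_n}` (`n ≥ 0`,
taken in fppf sheaves) over `X`. If `P` holds for every sheaf over `X` that is isomorphic to an
affine scheme and flat and locally of finite presentation over `X`, then `P` holds for `X`. -/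
theorem result {S : Scheme.{u}} (X : AlgSp.Space S)
    (P : ∀ ⦃U : AlgSp.Sp S⦄, (U ⟶ X.obj) → Prop)
    (hP : ∀ ⦃U : AlgSp.Sp S⦄ (a : U ⟶ X.obj), AlgSp.IsAlgSpace U →
      ∀ ⦃ι : Type u⦄ (Ui : ι → AlgSp.Sp S) (g : ∀ i, Ui i ⟶ U), (∀ i, AlgSp.IsAlgSpace (Ui i)) →
      AlgSp.IsFppfCover Ui g →
      (∀ (n : ℕ) (c : Fin (n + 1) → ι),
        P (WidePullback.base (fun k : Fin (n + 1) => g (c k)) ≫ a)) → P a)
    (haff : ∀ ⦃U : AlgSp.Sp S⦄ (a : U ⟶ X.obj) (T : Over S) (e : U ≅ (AlgSp.yon S).obj T), IsAffine T.left →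
      AlgSp.LocP @Flat a → AlgSp.LocP @LocallyOfFinitePresentation a → P a) :
    P (𝟙 X.obj) := by
  have hX := X.property
  have hsep : ∀ ⦃U : AlgSp.Sp S⦄ (a : U ⟶ X.obj) (T : Over S) (_ : U ≅ (AlgSp.yon S).obj T), T.left.IsSeparated →
      AlgSp.LocP @Flat a → AlgSp.LocP @LocallyOfFinitePresentation a → P a := by
    intro U a T e hT hfl hfp
    refine level hX P hP (fun Z => IsAffine Z) (fun U a T e h => haff a T e h) a T e hfl hfp
      (fun W : T.left.affineOpens => W.1) (fun W => W.2) (fun x => ?_) (fun W A B j fst snd hj hA sq => ?_)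
    · obtain ⟨W, hW, hx, -⟩ := TopologicalSpace.Opens.isBasis_iff_nbhd.mp T.left.isBasis_affineOpens
        (TopologicalSpace.Opens.mem_top x)
      exact ⟨⟨W, hW⟩, hx⟩
    · have : IsAffine W.1.toScheme := W.2
      have := hT
      have : IsAffineHom W.1.ι := IsAffineHom.of_comp W.1.ι (terminal.from T.left)
      have : IsAffineHom snd := MorphismProperty.of_isPullback (P := @IsAffineHom) sq this
      exact isAffine_of_isAffineHom snd
  have hsch : ∀ ⦃U : AlgSp.Sp S⦄ (a : U ⟶ X.obj) (T : Over S) (_ : U ≅ (AlgSp.yon S).obj T),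
      AlgSp.LocP @Flat a → AlgSp.LocP @LocallyOfFinitePresentation a → P a := by
    intro U a T e hfl hfp
    refine level hX P hP (fun Z => Z.IsSeparated) hsep a T e hfl hfp
      (fun W : T.left.affineOpens => W.1) (fun W => have : IsAffine W.1.toScheme := W.2; inferInstance)
      (fun x => ?_) (fun W A B j fst snd hj hA sq => ?_)
    · obtain ⟨W, hW, hx, -⟩ := TopologicalSpace.Opens.isBasis_iff_nbhd.mp T.left.isBasis_affineOpens
        (TopologicalSpace.Opens.mem_top x)
      exact ⟨⟨W, hW⟩, hx⟩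
    · have : IsAffine W.1.toScheme := W.2
      have : IsOpenImmersion fst := MorphismProperty.of_isPullback (P := @IsOpenImmersion) sq.flip hj
      exact ⟨by rw [← terminal.comp_from fst]; infer_instance⟩
  obtain ⟨V, p, κ, Z, he, hs, -, -, hcov⟩ := Groth.Agent.AlgSpLib.exists_affine_chart_family hX
  open Groth.Agent.AlgSpLib in
  refine hP (𝟙 X.obj) hX (ι := PUnit.{u + 1}) (fun _ => (AlgSp.yon S).obj V) (fun _ => p) (fun _ => IsAlgSpace.yon_obj V)
    ⟨fun _ => ?_, fun x => ⟨⟨⟩, ?_⟩⟩ fun n c => ?_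
  · have h := (isEtaleMor_iff_locP hX).1 (isEtaleMor_of_repWith' he)
    exact ⟨fun A B a b c ha hb e => etST_flat.of_etale _ (h a b c ha hb e),
      fun A B a b c ha hb e => etST_lfp.of_etale _ (h a b c ha hb e)⟩
  · obtain ⟨v, rfl⟩ := Groth.Agent.AlgSpLib.ofPt_surjective hs x
    exact ⟨Points.ofScheme V v, (Points.ofPt_eq_map_ofScheme p v).symm⟩
  · obtain ⟨T, e, h⟩ : ∃ (T : Over S) (_ : widePullback X.obj (fun _ : Fin (n + 1) => (AlgSp.yon S).obj V)
        (fun _ => p) ≅ (AlgSp.yon S).obj T), AlgSp.RepWith @Etale (WidePullback.base (fun _ : Fin (n + 1) => p)) := by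
      refine widePB_mem (ι := PUnit.{u + 1}) (fun _ => p)
        (fun W b => ∃ (T : Over S) (_ : W ≅ (AlgSp.yon S).obj T), AlgSp.RepWith @Etale b) (fun _ => ⟨V, Iso.refl _, he⟩)
        (fun W W' f b ⟨T, e, hb⟩ => ⟨T, f ≪≫ e, (Groth.Agent.AlgSpLib.repWith_iso_comp_iff f.hom b).2 hb⟩)
        (fun _ W b ⟨T, e, hb⟩ Q fst snd sq => ?_) n c
      have sq₁ : IsPullback fst (snd ≫ e.hom) p (e.inv ≫ b) :=
        sq.of_iso (Iso.refl _) (Iso.refl _) e (Iso.refl _) (by simp) (by simp) (by simp) (by simp)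
      obtain ⟨W', w₁, w₂, sq₂⟩ := Groth.Agent.AlgSpLib.exists_pullback hX.diag p (e.inv ≫ b)
      exact ⟨W', sq₁.isoIsPullback _ _ sq₂,
        Groth.Agent.AlgSpLib.repWith_comp (Groth.Agent.AlgSpLib.repWith_baseChange sq.flip hb) he⟩
    have h' := (Groth.Agent.AlgSpLib.isEtaleMor_iff_locP hX).1 (Groth.Agent.AlgSpLib.isEtaleMor_of_repWith' h)
    refine hsch _ T e ?_ ?_ <;> rw [Category.comp_id]
    exacts [fun A B a b c ha hb e => Groth.Agent.AlgSpLib.etST_flat.of_etale _ (h' a b c ha hb e),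
      fun A B a b c ha hb e => Groth.Agent.AlgSpLib.etST_lfp.of_etale _ (h' a b c ha hb e)]

end Groth.Agent.S10511
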