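import Groth.Statements.S10525
import Groth.Agent.AlgSpLib.FpqcList

set_option autoImplicit false
universe u
open CategoryTheory CategoryTheory.Limits AlgebraicGeometry
open AlgSp

set_option backward.isDefEq.respectTransparency false

namespace Groth.Agent.S10525

/-- The property of morphisms of algebraic spaces over S given by f is a universal homeomorphism (every
base change along a morphism from an algebraic space is a homeomorphism on points) is fpqc local on
the base: for an fpqc covering of an algebraic space Y by algebraic spaces Y_i, a morphism f : X ⟶ Y
of algebraic spaces and cartesian squares X_i = Y_i ×_Y X, f has the property if and only if every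
X_i ⟶ Y_i has it. -/
theorem result (S : Scheme.{u}) :
    AlgSp.IsLocalOnBase (AlgSp.IsFpqcCover (S := S)) AlgSp.IsUnivHomeoMor := by
  exact Groth.Agent.AlgSpLib.isLocalOnBase_univSp _ fun _ _ _ _ _ _ _ _ _ hb sq h => 
    ⟨AlgSp.Points.continuous_map _, Groth.Agent.AlgSpLib.isOpenMap_of_fpqcCover sq hb fun i => (h i).isOpenMap,
      ⟨Groth.Agent.AlgSpLib.injective_of_fpqcCover sq hb fun i => (h i).injective,
        Groth.Agent.AlgSpLib.surjective_of_fpqcCover sq hb fun i => (h i).surjective⟩⟩

end Groth.Agent.S10525
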