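import Groth.Statements.S10548
import Groth.Agent.AlgSpLib.CovLocal

set_option autoImplicit false
universe u
open CategoryTheory CategoryTheory.Limits AlgebraicGeometry
open AlgSp

set_option backward.isDefEq.respectTransparency false

namespace Groth.Agent.S10548

/-- The property of morphisms of algebraic spaces over S given by f is flat (on etale charts) is fpqc
local on the source: for a morphism f : X ⟶ Y of algebraic spaces and a fpqc covering of X by
algebraic spaces X_i, f has the property if and only if every composite X_i ⟶ X ⟶ Y has it. -/
theorem result (S : Scheme.{u}) :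
    AlgSp.IsLocalOnSource (AlgSp.IsFpqcCover (S := S)) (AlgSp.LocP @Flat) := by
  have : MorphismProperty.IsLocalAtSource (@Flat : MorphismProperty Scheme.{u}) Scheme.fpqcPrecoverage :=
    AlgSpLib.isLocalAtSource_precoverage (R := @Flat)
      (fun _ _ _ a b ha hb => have : Flat a := ha; have : Flat b := hb; inferInstance)
      (fun _ _ _ a b ha hs hab => have : Flat a := ha; have : Flat (a ≫ b) := hab; GrpdLib.flat_of_flat_comp a b)
      _ Scheme.propQCPrecoverage_le_precoverage
  exact AlgSpLib.isLocalOnSource_fpqc _

end Groth.Agent.S10548
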