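import Groth.Statements.S10554
import Groth.Agent.AlgSpLib.CovLocal

set_option autoImplicit false
universe u
open CategoryTheory CategoryTheory.Limits AlgebraicGeometry
open AlgSp

set_option backward.isDefEq.respectTransparency false

namespace Groth.Agent.S10554

/-- The property of morphisms of algebraic spaces over S given by f is etale (composition with every
representable etale map from a scheme is representable etale) is etale local on the source: for a
morphism f : X ⟶ Y of algebraic spaces and a etale covering of X by algebraic spaces X_i, f has the
property if and only if every composite X_i ⟶ X ⟶ Y has it. -/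
theorem result (S : Scheme.{u}) :
    AlgSp.IsLocalOnSource (AlgSp.IsEtCover (S := S)) AlgSp.IsEtaleMor := by
  have : MorphismProperty.IsLocalAtSource (@Etale : MorphismProperty Scheme.{u}) Scheme.etalePrecoverage :=
    AlgSpLib.isLocalAtSource_precoverage (R := @Etale)
      (fun _ _ _ a b ha hb => AlgSpLib.etST_etale.precomp a b ha hb)
      (fun _ _ _ a b ha hs hab => AlgSpLib.etST_etale.descend a b ha hs hab) _ le_rfl
  intro ι X Xi g hX hXi hg Y f hY
  rw [AlgSpLib.isEtaleMor_iff_locP hY]
  exact (AlgSpLib.isLocalOnSource_etale _ Xi g hX hXi hg f hY).trans
    (forall_congr' fun i => (AlgSpLib.isEtaleMor_iff_locP hY).symm)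

end Groth.Agent.S10554
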