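import Groth.Agent.FppfSource.AlgSp
import Groth.Agent.FppfSource.Scheme
import Groth.Agent.AlgSpLib.LocPMore
import Groth.Prelude.Def_AlgSpCov

set_option autoImplicit false
universe u
open CategoryTheory CategoryTheory.Limits AlgebraicGeometry
open AlgSp

set_option backward.isDefEq.respectTransparency false

namespace Groth.Agent.S10559

/-- Let f : X ⟶ Y and q : Y ⟶ B be morphisms of algebraic spaces over S. If f is surjective and smooth
and f ≫ q is smooth, then q is smooth; if f is surjective and etale and f ≫ q is etale, then q is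
etale. (The syntomic case of the published statement is not included.) -/
theorem result {S : Scheme.{u}} {X Y B : AlgSp.Space S} (f : X ⟶ Y) (q : Y ⟶ B)
    (hs : AlgSp.IsSurjectiveMor f.hom) :
    (AlgSp.LocP @Smooth f.hom → AlgSp.LocP @Smooth (f ≫ q).hom → AlgSp.LocP @Smooth q.hom) ∧
    (AlgSp.IsEtaleMor f.hom → AlgSp.IsEtaleMor (f ≫ q).hom → AlgSp.IsEtaleMor q.hom) := by
  refine ⟨fun hf h => Groth.Agent.FppfSource.locP_of_fppf_comp @Smooth (fun _ _ _ k g h1 h2 h3 h4 => @Groth.Agent.FppfSource.smooth _ _ _ k g h1 h2 h3 h4)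
    X.property Y.property f.hom q.hom hs (fun _ _ a b k ha hb c => have := hf a b k ha hb c; inferInstance)
    (fun _ _ a b k ha hb c => have := hf a b k ha hb c; inferInstance) h, fun hf h => ?_⟩
  have hf' := (Groth.Agent.AlgSpLib.isEtaleMor_iff_locP Y.property).1 hf
  exact (Groth.Agent.AlgSpLib.isEtaleMor_iff_locP B.property).2 (Groth.Agent.FppfSource.locP_of_fppf_comp @Etale (fun _ _ _ k g h1 h2 h3 h4 => @Groth.Agent.FppfSource.etale _ _ _ k g h1 h2 h3 h4)
    X.property Y.property f.hom q.hom hs (fun _ _ a b k ha hb c => have := hf' a b k ha hb c; inferInstance)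
    (fun _ _ a b k ha hb c => have := hf' a b k ha hb c; inferInstance) ((Groth.Agent.AlgSpLib.isEtaleMor_iff_locP B.property).1 h))

end Groth.Agent.S10559
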