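import Groth.Statements.S10573
import Groth.Agent.AlgSpLib.FpqcTop

set_option autoImplicit false
universe u
open CategoryTheory CategoryTheory.Limits AlgebraicGeometry
open AlgSp

set_option backward.isDefEq.respectTransparency false

namespace Groth.Agent.S10573

/-- Let {g_i : T_i ⟶ T} be a family of algebraic spaces over S forming an fpqc covering, and let W_i ⊂
|T_i| be open subsets (open subspaces) such that for all i, j the two projections T_i ×_T T_j ⟶ T_i,
T_j pull W_i and W_j back to the same subset of |T_i ×_T T_j|. Then there is a unique open subset W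
⊂ |T| with g_i⁻¹(W) = W_i for every i. -/
theorem result {S : Scheme.{u}} {ι : Type u} {T : AlgSp.Space S}
    (Ti : ι → AlgSp.Space S) (g : ∀ i, Ti i ⟶ T)
    (hg : AlgSp.IsFpqcCover (fun i => (Ti i).obj) (fun i => (g i).hom))
    (Wi : ∀ i, Set (AlgSp.Points (Ti i).obj)) (hW : ∀ i, IsOpen (Wi i))
    (hc : ∀ i j, AlgSp.Points.map (pullback.fst (g i).hom (g j).hom) ⁻¹' Wi i =
      AlgSp.Points.map (pullback.snd (g i).hom (g j).hom) ⁻¹' Wi j) :
    ∃! W : TopologicalSpace.Opens (AlgSp.Points T.obj), ∀ i, AlgSp.Points.map (g i).hom ⁻¹' (W : Set (AlgSp.Points T.obj)) = Wi i := by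
  let E : Set (AlgSp.Points T.obj) := ⋃ i, AlgSp.Points.map (g i).hom '' Wi i
  have hpre : ∀ i, AlgSp.Points.map (g i).hom ⁻¹' E = Wi i := by
    intro i
    ext x
    refine ⟨fun hx => ?_, fun hx => Set.mem_iUnion.2 ⟨i, x, hx, rfl⟩⟩
    obtain ⟨j, w, hw, e⟩ := Set.mem_iUnion.1 hx
    obtain ⟨z, hz₁, hz₂⟩ := Groth.Agent.AlgSpLib.exists_point_of_isPullback
      (IsPullback.of_hasPullback (g i).hom (g j).hom) x w e.symm
    have h1 : z ∈ AlgSp.Points.map (pullback.snd (g i).hom (g j).hom) ⁻¹' Wi j := by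
      rw [Set.mem_preimage, hz₂]; exact hw
    rw [← hc i j, Set.mem_preimage, hz₁] at h1
    exact h1
  refine ⟨⟨E, Groth.Agent.AlgSpLib.isOpen_of_fpqcCover hg fun i => by rw [hpre]; exact hW i⟩, hpre,
    fun V hV => TopologicalSpace.Opens.ext ?_⟩
  ext x
  obtain ⟨i, w, rfl⟩ := Groth.Agent.AlgSpLib.exists_mem_range_of_fpqcCover hg x
  exact (Set.ext_iff.1 ((hV i).trans (hpre i).symm) w)

end Groth.Agent.S10573
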