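import Groth.Statements.S10582
import Groth.Agent.AlgSpLib.Criteria

set_option autoImplicit false
universe u
open CategoryTheory CategoryTheory.Limits AlgebraicGeometry
open AlgSp

set_option backward.isDefEq.respectTransparency false

namespace Groth.Agent.S10582

/-- A monomorphism of algebraic spaces that is quasi-compact, flat and surjective is an isomorphism. -/
theorem result {S : Scheme.{u}} {X Y : AlgSp.Space S} (f : X ⟶ Y)
    (hqc : AlgSp.IsQuasiCompactMor f.hom) (hflat : AlgSp.LocP @Flat f.hom) (hsurj : AlgSp.IsSurjectiveMor f.hom)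
    [Mono f.hom] : IsIso f.hom := by
  have hcov := Groth.Agent.AlgSpLib.isFpqcCover_of_flat_qc_surjective X.property Y.property f.hom hflat hqc hsurj
  have sq : IsPullback (𝟙 X.obj) (𝟙 X.obj) f.hom f.hom := IsPullback.of_isLimit (PullbackCone.isLimitMkIdId f.hom)
  have h : IsIso f.hom := (Groth.Agent.AlgSpLib.isLocalOnBase_isomorphisms _ _ Y.property (fun _ : PUnit.{u + 1} => X.property)
    hcov f.hom X.property _ (fun _ => 𝟙 X.obj) (fun _ => 𝟙 X.obj) (fun _ => X.property) (fun _ => sq)).2
      fun _ => (inferInstance : IsIso (𝟙 X.obj))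
  exact h

end Groth.Agent.S10582
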