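import Groth.Statements.S10583
import Groth.Agent.EtInvariance.Thick
import Groth.Agent.AlgSpLib.Subspace

set_option autoImplicit false
universe u
open CategoryTheory CategoryTheory.Limits AlgebraicGeometry
open AlgSp

set_option backward.isDefEq.respectTransparency false

namespace Groth.Agent.S10583

/-- Let i : X ⟶ X' be a thickening of algebraic spaces (representable, every base change to a scheme a
surjective closed immersion) and let u : U ⟶ X be an open immersion. Then there is an open immersion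
u' : U' ⟶ X' with U = X ×_{X'} U' (a pullback square), and any two open subspaces of X' with this
property are isomorphic over X'. -/
theorem result {S : Scheme.{u}} {X X' U : AlgSp.Space S} (i : X ⟶ X')
    (hi : AlgSp.IsThickMor i.hom)
    (u : U ⟶ X) (hu : AlgSp.RepWith @IsOpenImmersion u.hom) :
    (∃ (U' : AlgSp.Space S) (u' : U' ⟶ X') (k : U ⟶ U'),
      AlgSp.RepWith @IsOpenImmersion u'.hom ∧ IsPullback u.hom k.hom i.hom u'.hom) ∧
    (∀ (U₁ U₂ : AlgSp.Space S) (u₁ : U₁ ⟶ X') (u₂ : U₂ ⟶ X') (k₁ : U ⟶ U₁) (k₂ : U ⟶ U₂),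
      AlgSp.RepWith @IsOpenImmersion u₁.hom → IsPullback u.hom k₁.hom i.hom u₁.hom →
      AlgSp.RepWith @IsOpenImmersion u₂.hom → IsPullback u.hom k₂.hom i.hom u₂.hom →
      ∃ e : U₁ ≅ U₂, e.hom ≫ u₂ = u₁) := by
    have hi' := EtInvariance.IsUH.of_thick hi
    open Groth.Agent.AlgSpLib in
    have hM : ∀ {A B : AlgSp.Sp S} {q : A ⟶ B}, AlgSp.RepWith @IsOpenImmersion q → Mono q := fun h =>
      mono_of_repWith_immersion (repWith_mono (P := @IsOpenImmersion) (Q := @IsImmersion)
        (fun _ _ g hg => have : IsOpenImmersion g := hg; inferInstance) h)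
    have hiso : ∀ {A B C : AlgSp.Sp S} (hA : AlgSp.IsAlgSpace A) (hB : AlgSp.IsAlgSpace B) (hC : AlgSp.IsAlgSpace C)
        (p : A ⟶ C) (q : B ⟶ C), AlgSp.RepWith @IsOpenImmersion p → AlgSp.RepWith @IsOpenImmersion q →
        Set.range (AlgSp.Points.map p) = Set.range (AlgSp.Points.map q) → ∃ e : A ≅ B, e.hom ≫ q = p := by
      intro A B C hA hB hC p q hp hq he
      have := hM hp
      have := hM hq
      obtain ⟨a, ha⟩ := (Groth.Agent.AlgSpLib.exists_factor_iff hB hC q hq p).2 he.le
      obtain ⟨b, hb⟩ := (Groth.Agent.AlgSpLib.exists_factor_iff hA hC p hp q).2 he.ge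
      exact ⟨⟨a, b, (cancel_mono p).1 (by rw [Category.assoc, hb, ha, Category.id_comp]),
        (cancel_mono q).1 (by rw [Category.assoc, ha, hb, Category.id_comp])⟩, ha⟩
    have hrange : ∀ {A : AlgSp.Sp S} (p : A ⟶ X'.obj) {B : AlgSp.Sp S} (p₀ : B ⟶ X.obj) (k : B ⟶ A),
        IsPullback p₀ k i.hom p →
        Set.range (AlgSp.Points.map p₀) = AlgSp.Points.map i.hom ⁻¹' Set.range (AlgSp.Points.map p) := by
      intro A p B p₀ k sq
      ext x
      constructor
      · rintro ⟨z, rfl⟩
        exact ⟨AlgSp.Points.map k z, by rw [← AlgSp.Points.map_comp, ← AlgSp.Points.map_comp, sq.w]⟩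
      · rintro ⟨a, ha⟩
        obtain ⟨z, hz, -⟩ := Groth.Agent.AlgSpLib.exists_point_of_isPullback sq x a ha.symm
        exact ⟨z, hz⟩
    refine ⟨?_, fun U₁ U₂ u₁ u₂ k₁ k₂ h₁ s₁ h₂ s₂ => ?_⟩
    · let W := AlgSp.Points.map i.hom '' Set.range (AlgSp.Points.map u.hom)
      have hu' : IsOpen (Set.range (AlgSp.Points.map u.hom)) :=
        have := hM hu
        (Groth.Agent.AlgSpLib.exists_iso_subSheaf_of_mono U.property X.property u.hom
          (Groth.Agent.AlgSpLib.isEtaleMor_of_repWith' (Groth.Agent.AlgSpLib.repWith_mono (P := @IsOpenImmersion)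
            (Q := @Etale) (fun _ _ g hg => have : IsOpenImmersion g := hg; inferInstance) hu))).1
      have hW : IsOpen W := hi'.isOpen_of_preimage (by rwa [Set.preimage_image_eq _ hi'.bijective.1])
      have hU' := Groth.Agent.AlgSpLib.isAlgSpace_subSheaf X'.property hW
      have hj := Groth.Agent.AlgSpLib.repWith_subInc hW
      have sq := IsPullback.of_hasPullback i.hom (Groth.Agent.AlgSpLib.subInc W)
      obtain ⟨e, he⟩ := hiso U.property (Groth.Agent.AlgSpLib.isAlgSpace_of_isPullback_space X'.property X.property hU' sq)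
        X.property u.hom (pullback.fst _ _) hu (Groth.Agent.AlgSpLib.repWith_baseChange sq.flip hj) (by
          rw [hrange _ _ _ sq, Groth.Agent.AlgSpLib.range_subInc, Set.preimage_image_eq _ hi'.bijective.1])
      refine ⟨⟨_, hU'⟩, ObjectProperty.homMk (Groth.Agent.AlgSpLib.subInc W),
        ObjectProperty.homMk (e.hom ≫ pullback.snd _ _), hj, ?_⟩
      exact sq.of_iso e.symm (Iso.refl _) (Iso.refl _) (Iso.refl _) (by simp [← he]) (by simp) (by simp) (by simp)
    · obtain ⟨e, he⟩ := hiso U₁.property U₂.property X'.property u₁.hom u₂.hom h₁ h₂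
        (hi'.bijective.2.preimage_injective ((hrange _ _ _ s₁).symm.trans (hrange _ _ _ s₂)))
      exact ⟨ObjectProperty.isoMk _ e, by ext : 1; exact he⟩

end Groth.Agent.S10583
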