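import Groth.Statements.S10591
import Groth.Agent.SpRelDim.Basic
import Groth.Agent.EtInvariance.ThickLft
import Groth.Agent.EtInvariance.ThickProps

set_option autoImplicit false
universe u
open CategoryTheory CategoryTheory.Limits AlgebraicGeometry
open AlgSp

set_option backward.isDefEq.respectTransparency false

namespace Groth.Agent.S10591

/-- Consider a morphism (f, f') from the thickening X ⊂ X' to the thickening Y ⊂ Y' of algebraic spaces
over S, meaning: i : X ⟶ X' and j : Y ⟶ Y' are thickenings (representable, every base change to a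
scheme a surjective closed immersion) and i ≫ f' = f ≫ j. Assume moreover that the square is
cartesian (X = Y ×_{Y'} X') and that i is a finite order thickening (for one n, on every affine
etale scheme chart of X' the (n+1)-st power of the ideal of the base change of X vanishes). Then f
is locally of finite type of relative dimension d, resp. locally of finite type, resp. locally
quasi-finite, resp. unramified, if and only if f' is (relative dimension d at a point: some chart
diagram through the point has fibre of local dimension d there) (all in the etale-local sense,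
locally quasi-finite and unramified including locally of finite type). -/
theorem result {S : Scheme.{u}} {X X' Y Y' : AlgSp.Space S} (i : X ⟶ X') (j : Y ⟶ Y')
    (f : X ⟶ Y) (f' : X' ⟶ Y')
    (hi : AlgSp.IsThickMor i.hom)
    (hj : AlgSp.IsThickMor j.hom) (w : i ≫ f' = f ≫ j)
    (hcart : IsPullback i.hom f.hom f'.hom j.hom)
    (hfo : AlgSp.IsFinThickMor i.hom) (d : ℕ) :
    ((AlgSp.LocP @LocallyOfFiniteType f.hom ∧
        ∀ x, AlgSp.HasAtMor (fun _ _ h u => FlatMor.fibreDimAt h u = (d : WithBot ℕ∞)) f.hom x) ↔
      (AlgSp.LocP @LocallyOfFiniteType f'.hom ∧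
        ∀ x', AlgSp.HasAtMor (fun _ _ h u => FlatMor.fibreDimAt h u = (d : WithBot ℕ∞)) f'.hom x')) ∧
    (AlgSp.LocP @LocallyOfFiniteType f.hom ↔ AlgSp.LocP @LocallyOfFiniteType f'.hom) ∧
    (AlgSp.LocP (@LocallyQuasiFinite ⊓ @LocallyOfFiniteType) f.hom ↔
      AlgSp.LocP (@LocallyQuasiFinite ⊓ @LocallyOfFiniteType) f'.hom) ∧
    (AlgSp.LocP (@LocallyOfFiniteType ⊓ @FormallyUnramified) f.hom ↔
      AlgSp.LocP (@LocallyOfFiniteType ⊓ @FormallyUnramified) f'.hom) := by
  have L : AlgSp.LocP @LocallyOfFiniteType f.hom → AlgSp.LocP @LocallyOfFiniteType f'.hom :=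
    EtInvariance.locP_lft_of_finThick hj hcart hfo
  have bc : ∀ (P : MorphismProperty Scheme.{u}), Groth.Agent.AlgSpLib.EtST P → AlgSp.LocP P f'.hom → AlgSp.LocP P f.hom :=
    fun P hP => Groth.Agent.AlgSpLib.locP_baseChange hP X'.property Y'.property X.property Y.property hcart
  refine ⟨⟨fun h => ⟨L h.1, fun x' => ?_⟩, fun h => ⟨bc _ Groth.Agent.AlgSpLib.etST_lft h.1, fun x => ?_⟩⟩,
    ⟨L, bc _ Groth.Agent.AlgSpLib.etST_lft⟩,
    ⟨fun h => EtInvariance.locP_lqf_of_thick hj hcart (L fun U V a b k ha hb e => (h a b k ha hb e).2) h,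
      bc _ Groth.Agent.AlgSpLib.etST_lqf⟩,
    ⟨fun h => EtInvariance.locP_unramified_of_thick hj hcart (L fun U V a b k ha hb e => (h a b k ha hb e).1) h,
      bc _ Groth.Agent.AlgSpLib.etST_unramified⟩⟩
  · obtain ⟨x, rfl⟩ := (EtInvariance.IsUH.of_thick hi).bijective.2 x'
    exact (Groth.Agent.SpRelDim.hasAtMor_fibreDim_baseChange X'.property Y'.property X.property Y.property hcart (L h.1)
      (fun e => e = (d : WithBot ℕ∞)) x).1 (h.2 x)
  · exact (Groth.Agent.SpRelDim.hasAtMor_fibreDim_baseChange X'.property Y'.property X.property Y.property hcart h.1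
      (fun e => e = (d : WithBot ℕ∞)) x).2 (h.2 _)

end Groth.Agent.S10591
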