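import Groth.Statements.S10592
import Groth.Agent.EtInvariance.ThickLft
import Groth.Agent.S10594

set_option autoImplicit false
universe u
open CategoryTheory CategoryTheory.Limits AlgebraicGeometry
open AlgSp

set_option backward.isDefEq.respectTransparency false

namespace Groth.Agent.S10592

/-- Consider a morphism (f, f') from the thickening X ⊂ X' to the thickening Y ⊂ Y' of algebraic spaces
over S, meaning: i : X ⟶ X' and j : Y ⟶ Y' are thickenings (representable, every base change to a
scheme a surjective closed immersion) and i ≫ f' = f ≫ j. Assume moreover that the square is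
cartesian (X = Y ×_{Y'} X') and that i is a finite order thickening (for one n, on every affine
etale scheme chart of X' the (n+1)-st power of the ideal of the base change of X vanishes). Then f
is a closed immersion, resp. proper, resp. finite, resp. an immersion, if and only if f' is
(immersions of algebraic spaces being the representable ones). -/
theorem result {S : Scheme.{u}} {X X' Y Y' : AlgSp.Space S} (i : X ⟶ X') (j : Y ⟶ Y')
    (f : X ⟶ Y) (f' : X' ⟶ Y')
    (hi : AlgSp.IsThickMor i.hom)
    (hj : AlgSp.IsThickMor j.hom) (w : i ≫ f' = f ≫ j)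
    (hcart : IsPullback i.hom f.hom f'.hom j.hom)
    (hfo : AlgSp.IsFinThickMor i.hom) :
    (AlgSp.RepWith @IsClosedImmersion f.hom ↔ AlgSp.RepWith @IsClosedImmersion f'.hom) ∧
    (AlgSp.IsProperMor f.hom ↔ AlgSp.IsProperMor f'.hom) ∧
    (AlgSp.IsFiniteMor f.hom ↔ AlgSp.IsFiniteMor f'.hom) ∧
    (AlgSp.RepWith @IsImmersion f.hom ↔ AlgSp.RepWith @IsImmersion f'.hom) := by
  open Groth.Agent.AlgSpLib in
  have key : ∀ (P : MorphismProperty Scheme.{u}), (∀ {A B : Scheme.{u}} (g : A ⟶ B), P g → LocallyOfFiniteType g) →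
      AlgSp.RepWith P f.hom → AlgSp.LocP @LocallyOfFiniteType f.hom := fun P hP h =>
    (locP_iff_repWith etST_lft Y.property h.1).2 (repWith_mono (fun _ _ g hg => hP g hg) h)
  have L : AlgSp.LocP @LocallyOfFiniteType f.hom → AlgSp.LocP @LocallyOfFiniteType f'.hom :=
    EtInvariance.locP_lft_of_finThick hj hcart hfo
  have L' : AlgSp.LocP @LocallyOfFiniteType f'.hom → AlgSp.LocP @LocallyOfFiniteType f.hom :=
    Groth.Agent.AlgSpLib.locP_baseChange Groth.Agent.AlgSpLib.etST_lft X'.property Y'.property X.property Y.property hcart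
  have base : ∀ (P : MorphismProperty Scheme.{u}) [P.IsStableUnderBaseChange],
      AlgSp.RepWith P f'.hom → AlgSp.RepWith P f.hom := fun P _ => Groth.Agent.AlgSpLib.repWith_baseChange hcart
  have h94 := fun hft => Groth.Agent.S10594.result i j f f' hi hj w hcart hft (L hft)
  refine ⟨⟨fun h => ?_, base _⟩, ⟨fun h => (h94 h.2.1.1).2.2.2.1 h, fun h => ?_⟩, ?_, ⟨fun h => ?_, base _⟩⟩
  · exact (h94 (key _ (fun g hg => have : IsClosedImmersion g := hg; inferInstance) h)).2.1.1 h
  · exact (h94 (L' h.2.1.1)).2.2.2.2 h
  · rw [Groth.Agent.AlgSpLib.isFiniteMor_iff_repWith, Groth.Agent.AlgSpLib.isFiniteMor_iff_repWith]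
    refine ⟨fun h => ?_, base _⟩
    have := (h94 (key _ (fun g hg => have : IsFinite g := hg; inferInstance) h)).1.1
    rw [Groth.Agent.AlgSpLib.isFiniteMor_iff_repWith, Groth.Agent.AlgSpLib.isFiniteMor_iff_repWith] at this
    exact this h
  · exact (h94 (key _ (fun g hg => have : IsImmersion g := hg; inferInstance) h)).2.2.1.1 h

end Groth.Agent.S10592
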