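import Groth.Statements.S10596
import Groth.Agent.EtInvariance.FinSpace
import Groth.Agent.SpRelDim.Basic

set_option autoImplicit false
universe u
open CategoryTheory CategoryTheory.Limits AlgebraicGeometry
open AlgSp

set_option backward.isDefEq.respectTransparency false

namespace Groth.Agent.S10596

/-- Let iB : B ⟶ B' be a finite order thickening of algebraic spaces over S (a thickening such that for
one n the (n+1)-st power of the ideal vanishes on every affine etale scheme chart), f' : X' ⟶ Y' a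
morphism of algebraic spaces over B' (via g' : Y' ⟶ B') with X' flat over B', and f : X ⟶ Y, g : Y ⟶
B its base change to B (both squares to iB cartesian, iX ≫ f' = f ≫ iY). Then f is locally of finite
type of relative dimension d, resp. flat, resp. locally of finite type, locally quasi-finite,
locally of finite presentation, smooth, unramified, etale, if and only if f' is (etale-local sense;
locally quasi-finite and unramified include locally of finite type). -/
theorem result {S : Scheme.{u}} {X X' Y Y' B B' : AlgSp.Space S} (iX : X ⟶ X') (iY : Y ⟶ Y') (iB : B ⟶ B')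
    (f : X ⟶ Y) (f' : X' ⟶ Y') (g : Y ⟶ B) (g' : Y' ⟶ B')
    (hcX : IsPullback iX.hom (f ≫ g).hom (f' ≫ g').hom iB.hom) (hcY : IsPullback iY.hom g.hom g'.hom iB.hom)
    (w : iX ≫ f' = f ≫ iY)
    (hB : AlgSp.IsFinThickMor iB.hom) (hflat : AlgSp.LocP @Flat (f' ≫ g').hom) (d : ℕ) :
    ((AlgSp.LocP @LocallyOfFiniteType f.hom ∧
        ∀ x, AlgSp.HasAtMor (fun _ _ h u => FlatMor.fibreDimAt h u = (d : WithBot ℕ∞)) f.hom x) ↔
      (AlgSp.LocP @LocallyOfFiniteType f'.hom ∧
        ∀ x', AlgSp.HasAtMor (fun _ _ h u => FlatMor.fibreDimAt h u = (d : WithBot ℕ∞)) f'.hom x')) ∧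
    (AlgSp.LocP @Flat f.hom ↔ AlgSp.LocP @Flat f'.hom) ∧
    (AlgSp.LocP @LocallyOfFiniteType f.hom ↔ AlgSp.LocP @LocallyOfFiniteType f'.hom) ∧
    (AlgSp.LocP (@LocallyQuasiFinite ⊓ @LocallyOfFiniteType) f.hom ↔
      AlgSp.LocP (@LocallyQuasiFinite ⊓ @LocallyOfFiniteType) f'.hom) ∧
    (AlgSp.LocP @LocallyOfFinitePresentation f.hom ↔ AlgSp.LocP @LocallyOfFinitePresentation f'.hom) ∧
    (AlgSp.LocP @Smooth f.hom ↔ AlgSp.LocP @Smooth f'.hom) ∧
    (AlgSp.LocP (@LocallyOfFiniteType ⊓ @FormallyUnramified) f.hom ↔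
      AlgSp.LocP (@LocallyOfFiniteType ⊓ @FormallyUnramified) f'.hom) ∧
    (AlgSp.IsEtaleMor f.hom ↔ AlgSp.IsEtaleMor f'.hom) := by
  open Groth.Agent.AlgSpLib in
  obtain ⟨T, hcart, bc, hthX⟩ : Groth.Agent.EtInvariance.Fin.Transfer f f' ∧ IsPullback iX.hom f.hom f'.hom iY.hom ∧
      (∀ (P : MorphismProperty Scheme.{u}), EtST P → AlgSp.LocP P f'.hom → AlgSp.LocP P f.hom) ∧
      AlgSp.IsThickMor iX.hom := by
    have w' : iX.hom ≫ f'.hom = f.hom ≫ iY.hom := congrArg (·.hom) w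
    have hc : IsPullback iX.hom f.hom f'.hom iY.hom := IsPullback.of_bot hcX w' hcY
    obtain ⟨n, hBn⟩ := hB
    exact ⟨Groth.Agent.EtInvariance.Fin.transfer iX iY iB f f' g g' hcX hcY w ⟨n, hBn⟩ hflat, hc,
      fun P hP => locP_baseChange hP X'.property Y'.property X.property Y.property hc, repWith_baseChange hcX.flip hBn.1⟩
  open Groth.Agent.AlgSpLib in
  refine ⟨⟨fun h => ⟨T.lft h.1, fun x' => ?_⟩, fun h => ⟨bc _ etST_lft h.1, fun x => ?_⟩⟩, ⟨T.flat, bc _ etST_flat⟩,
    ⟨T.lft, bc _ etST_lft⟩, ⟨T.lqf, bc _ etST_lqf⟩, ⟨T.lfp, bc _ etST_lfp⟩, ⟨T.smooth, bc _ etST_smooth⟩,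
    ⟨T.unramified, bc _ etST_unramified⟩, ?_⟩
  · obtain ⟨x, rfl⟩ := (EtInvariance.IsUH.of_thick hthX).bijective.2 x'
    exact (Groth.Agent.SpRelDim.hasAtMor_fibreDim_baseChange X'.property Y'.property X.property Y.property hcart (T.lft h.1)
      (fun e => e = (d : WithBot ℕ∞)) x).1 (h.2 x)
  · exact (Groth.Agent.SpRelDim.hasAtMor_fibreDim_baseChange X'.property Y'.property X.property Y.property hcart h.1
      (fun e => e = (d : WithBot ℕ∞)) x).2 (h.2 _)
  · rw [Groth.Agent.AlgSpLib.isEtaleMor_iff_locP Y.property, Groth.Agent.AlgSpLib.isEtaleMor_iff_locP Y'.property]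
    exact ⟨T.etale, bc _ Groth.Agent.AlgSpLib.etST_etale⟩

end Groth.Agent.S10596
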