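import Groth.Statements.S10597
import Groth.Agent.EtInvariance.FinSpace
import Groth.Agent.EtInvariance.FinMono

set_option autoImplicit false
universe u
open CategoryTheory CategoryTheory.Limits AlgebraicGeometry
open AlgSp

set_option backward.isDefEq.respectTransparency false

namespace Groth.Agent.S10597

/-- Let iB : B ⟶ B' be a finite order thickening of algebraic spaces over S (a thickening such that for
one n the (n+1)-st power of the ideal vanishes on every affine etale scheme chart), f' : X' ⟶ Y' a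
morphism of algebraic spaces over B' (via g' : Y' ⟶ B') with X' flat over B', and f : X ⟶ Y, g : Y ⟶
B its base change to B (both squares to iB cartesian, iX ≫ f' = f ≫ iY). Then f is an isomorphism,
resp. an open immersion, resp. a monomorphism, resp. finite locally free, resp. finite locally free
of degree d, if and only if f' is. -/
theorem result {S : Scheme.{u}} {X X' Y Y' B B' : AlgSp.Space S} (iX : X ⟶ X') (iY : Y ⟶ Y') (iB : B ⟶ B')
    (f : X ⟶ Y) (f' : X' ⟶ Y') (g : Y ⟶ B) (g' : Y' ⟶ B')
    (hcX : IsPullback iX.hom (f ≫ g).hom (f' ≫ g').hom iB.hom) (hcY : IsPullback iY.hom g.hom g'.hom iB.hom)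
    (w : iX ≫ f' = f ≫ iY)
    (hB : AlgSp.IsFinThickMor iB.hom) (hflat : AlgSp.LocP @Flat (f' ≫ g').hom) :
    (IsIso f.hom ↔ IsIso f'.hom) ∧
    (AlgSp.RepWith @IsOpenImmersion f.hom ↔ AlgSp.RepWith @IsOpenImmersion f'.hom) ∧
    (Mono f.hom ↔ Mono f'.hom) ∧
    (AlgSp.IsFinLocFreeMor f.hom ↔ AlgSp.IsFinLocFreeMor f'.hom) ∧
    (∀ d : ℕ, AlgSp.IsFinLocFreeOfDegMor d f.hom ↔ AlgSp.IsFinLocFreeOfDegMor d f'.hom) := by
  obtain ⟨T, hcart⟩ : Groth.Agent.EtInvariance.Fin.Transfer f f' ∧ IsPullback iX.hom f.hom f'.hom iY.hom :=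
    ⟨Groth.Agent.EtInvariance.Fin.transfer iX iY iB f f' g g' hcX hcY w hB hflat,
      IsPullback.of_bot hcX (congrArg (·.hom) w) hcY⟩
  have fwd : ∀ (P : MorphismProperty Scheme.{u}) [P.IsStableUnderBaseChange],
      (∀ {A C : Scheme.{u}} (h : A ⟶ C), P h →
        LocallyOfFinitePresentation h ∧ LocallyQuasiFinite h ∧ IsSeparated h ∧ Flat h) →
      (∀ {A A' C C' : Scheme.{u}} {a : A ⟶ A'} {h : A ⟶ C} {h' : A' ⟶ C'} {c : C ⟶ C'},
        IsPullback a h h' c → IsClosedImmersion c → Surjective c → IsSeparated h' → Flat h' →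
        LocallyOfFinitePresentation h' → P h → P h') → AlgSp.RepWith P f.hom → AlgSp.RepWith P f'.hom := by
    intro P _ hP hs hf
    obtain ⟨iX', iY', D⟩ := T.repData ((Groth.Agent.AlgSpLib.locP_iff_repWith Groth.Agent.AlgSpLib.etST_lfp Y.property hf.1).2
      (Groth.Agent.AlgSpLib.repWith_mono (fun _ _ h hh => (hP h hh).1) hf))
    exact D.repWith P (fun h hh => (hP h hh).2) hs hf
  refine ⟨?_, ⟨?_, Groth.Agent.AlgSpLib.repWith_baseChange hcart⟩,
    ⟨fun h => Groth.Agent.EtInvariance.mono_deform iX iY iB f f' g g' hcX hcY w hB, fun h => hcart.mono_snd_of_mono⟩,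
    ⟨?_, Groth.Agent.AlgSpLib.repWith_baseChange hcart⟩, fun d => ⟨?_, Groth.Agent.AlgSpLib.repWith_baseChange hcart⟩⟩
  · rw [Groth.Agent.AlgSpLib.isIso_iff_repWith, Groth.Agent.AlgSpLib.isIso_iff_repWith]
    refine ⟨fwd _ (fun h hh => ?_) (fun sq hb hs _ hfl hfp hh => ?_), Groth.Agent.AlgSpLib.repWith_baseChange hcart⟩
    · have : IsIso h := hh
      exact ⟨inferInstance, inferInstance, inferInstance, inferInstance⟩
    · have := hb; have := hs; have := hfl; have := hfp; have : IsIso _ := hh
      exact Groth.Agent.EtInvariance.isIso_of_thick sq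
  · refine fwd _ (fun h hh => ?_) (fun sq hb hs _ hfl hfp hh => ?_)
    · have : IsOpenImmersion h := hh
      exact ⟨inferInstance, inferInstance, inferInstance, inferInstance⟩
    · have := hb; have := hs; have := hfl; have := hfp; have : IsOpenImmersion _ := hh
      exact Groth.Agent.EtInvariance.isOpenImmersion_of_thick sq
  · refine fwd _ (fun h hh => ?_) (fun sq hb hs hsep hfl hfp hh => ?_)
    · have : IsFinite h := hh.1
      have : Flat h := hh.2.1
      have : LocallyOfFinitePresentation h := hh.2.2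
      exact ⟨inferInstance, inferInstance, inferInstance, inferInstance⟩
    · have := hb; have := hs; have := hsep; have := hfl; have := hfp; have : IsFinite _ := hh.1
      exact ⟨Groth.Agent.EtInvariance.isFinite_of_thick sq, hfl, hfp⟩
  · refine fwd _ (fun h hh => ?_) (fun sq hb hs hsep hfl hfp hh => ?_)
    · have : IsFinite h := hh.1.1
      have : Flat h := hh.1.2.1
      have : LocallyOfFinitePresentation h := hh.1.2.2
      exact ⟨inferInstance, inferInstance, inferInstance, inferInstance⟩
    · have := hb; have := hs; have := hsep; have := hfl; have := hfp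
      exact Groth.Agent.EtInvariance.finLocFreeOfDeg_of_thick sq d hh

end Groth.Agent.S10597
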