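import Groth.Statements.S10599
import Groth.Agent.EtInvariance.ThickDeform
import Groth.Agent.SpRelDim.Basic

set_option autoImplicit false
universe u
open CategoryTheory CategoryTheory.Limits AlgebraicGeometry
open AlgSp

set_option backward.isDefEq.respectTransparency false

namespace Groth.Agent.S10599

/-- Let iB : B ⟶ B' be a thickening of algebraic spaces over S (representable, every base change to a
scheme a surjective closed immersion), f' : X' ⟶ Y' a morphism of algebraic spaces over B' (via g' :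
Y' ⟶ B') with Y' locally of finite type over B' and X' flat and locally of finite presentation over
B', and f : X ⟶ Y, g : Y ⟶ B its base change to B (both squares to iB cartesian, iX ≫ f' = f ≫ iY).
Then f is locally of finite type of relative dimension d, resp. flat, resp. locally quasi-finite,
smooth, unramified, etale, if and only if f' is (etale-local sense; locally quasi-finite and
unramified include locally of finite type). -/
theorem result {S : Scheme.{u}} {X X' Y Y' B B' : AlgSp.Space S} (iX : X ⟶ X') (iY : Y ⟶ Y') (iB : B ⟶ B')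
    (f : X ⟶ Y) (f' : X' ⟶ Y') (g : Y ⟶ B) (g' : Y' ⟶ B')
    (hcX : IsPullback iX.hom (f ≫ g).hom (f' ≫ g').hom iB.hom) (hcY : IsPullback iY.hom g.hom g'.hom iB.hom)
    (w : iX ≫ f' = f ≫ iY)
    (hB : AlgSp.IsThickMor iB.hom)
    (hg' : AlgSp.LocP @LocallyOfFiniteType g'.hom)
    (hflat : AlgSp.LocP @Flat (f' ≫ g').hom) (hfp : AlgSp.LocP @LocallyOfFinitePresentation (f' ≫ g').hom) (d : ℕ) :
    ((AlgSp.LocP @LocallyOfFiniteType f.hom ∧
        ∀ x, AlgSp.HasAtMor (fun _ _ h u => FlatMor.fibreDimAt h u = (d : WithBot ℕ∞)) f.hom x) ↔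
      (AlgSp.LocP @LocallyOfFiniteType f'.hom ∧
        ∀ x', AlgSp.HasAtMor (fun _ _ h u => FlatMor.fibreDimAt h u = (d : WithBot ℕ∞)) f'.hom x')) ∧
    (AlgSp.LocP @Flat f.hom ↔ AlgSp.LocP @Flat f'.hom) ∧
    (AlgSp.LocP (@LocallyQuasiFinite ⊓ @LocallyOfFiniteType) f.hom ↔
      AlgSp.LocP (@LocallyQuasiFinite ⊓ @LocallyOfFiniteType) f'.hom) ∧
    (AlgSp.LocP @Smooth f.hom ↔ AlgSp.LocP @Smooth f'.hom) ∧
    (AlgSp.LocP (@LocallyOfFiniteType ⊓ @FormallyUnramified) f.hom ↔
      AlgSp.LocP (@LocallyOfFiniteType ⊓ @FormallyUnramified) f'.hom) ∧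
    (AlgSp.IsEtaleMor f.hom ↔ AlgSp.IsEtaleMor f'.hom) := by
  open Groth.Agent.AlgSpLib in
  obtain ⟨D, bc⟩ : Groth.Agent.EtInvariance.DeformData iX iY f f' ∧
      ∀ (P : MorphismProperty Scheme.{u}), EtST P → AlgSp.LocP P f'.hom → AlgSp.LocP P f.hom :=
    have D := Groth.Agent.EtInvariance.deformData_mk iX iY iB f f' g g' hcX hcY w hB hg' hflat hfp
    ⟨D, fun P hP => locP_baseChange hP X'.property Y'.property X.property Y.property D.cart⟩
  open Groth.Agent.AlgSpLib in
  refine ⟨⟨fun h => ⟨D.lft', fun x' => ?_⟩, fun h => ⟨D.lft, fun x => ?_⟩⟩, ⟨D.flat, bc _ etST_flat⟩,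
    ⟨fun h => EtInvariance.locP_lqf_of_thick D.thY D.cart D.lft' h, bc _ etST_lqf⟩, ⟨D.smooth, bc _ etST_smooth⟩,
    ⟨fun h => EtInvariance.locP_unramified_of_thick D.thY D.cart D.lft' h, bc _ etST_unramified⟩, ?_⟩
  · obtain ⟨x, rfl⟩ := (EtInvariance.IsUH.of_thick D.thX).bijective.2 x'
    exact (Groth.Agent.SpRelDim.hasAtMor_fibreDim_baseChange X'.property Y'.property X.property Y.property D.cart D.lft'
      (fun e => e = (d : WithBot ℕ∞)) x).1 (h.2 x)
  · exact (Groth.Agent.SpRelDim.hasAtMor_fibreDim_baseChange X'.property Y'.property X.property Y.property D.cart D.lft'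
      (fun e => e = (d : WithBot ℕ∞)) x).2 (h.2 _)
  · rw [Groth.Agent.AlgSpLib.isEtaleMor_iff_locP Y.property, Groth.Agent.AlgSpLib.isEtaleMor_iff_locP Y'.property]
    exact ⟨D.etale, bc _ Groth.Agent.AlgSpLib.etST_etale⟩

end Groth.Agent.S10599
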