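import Groth.Statements.S10600
import Groth.Agent.EtInvariance.ThickDeform

set_option autoImplicit false
universe u
open CategoryTheory CategoryTheory.Limits AlgebraicGeometry
open AlgSp

set_option backward.isDefEq.respectTransparency false

namespace Groth.Agent.S10600

/-- Let iB : B ⟶ B' be a thickening of algebraic spaces over S (representable, every base change to a
scheme a surjective closed immersion), f' : X' ⟶ Y' a morphism of algebraic spaces over B' (via g' :
Y' ⟶ B') with Y' locally of finite type over B' and X' flat and locally of finite presentation over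
B', and f : X ⟶ Y, g : Y ⟶ B its base change to B (both squares to iB cartesian, iX ≫ f' = f ≫ iY).
Then f is an isomorphism, resp. an open immersion, resp. a monomorphism, resp. finite locally free,
resp. finite locally free of degree d, if and only if f' is. -/
theorem result {S : Scheme.{u}} {X X' Y Y' B B' : AlgSp.Space S} (iX : X ⟶ X') (iY : Y ⟶ Y') (iB : B ⟶ B')
    (f : X ⟶ Y) (f' : X' ⟶ Y') (g : Y ⟶ B) (g' : Y' ⟶ B')
    (hcX : IsPullback iX.hom (f ≫ g).hom (f' ≫ g').hom iB.hom) (hcY : IsPullback iY.hom g.hom g'.hom iB.hom)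
    (w : iX ≫ f' = f ≫ iY)
    (hB : AlgSp.IsThickMor iB.hom)
    (hg' : AlgSp.LocP @LocallyOfFiniteType g'.hom)
    (hflat : AlgSp.LocP @Flat (f' ≫ g').hom) (hfp : AlgSp.LocP @LocallyOfFinitePresentation (f' ≫ g').hom) :
    (IsIso f.hom ↔ IsIso f'.hom) ∧
    (AlgSp.RepWith @IsOpenImmersion f.hom ↔ AlgSp.RepWith @IsOpenImmersion f'.hom) ∧
    (Mono f.hom ↔ Mono f'.hom) ∧
    (AlgSp.IsFinLocFreeMor f.hom ↔ AlgSp.IsFinLocFreeMor f'.hom) ∧
    (∀ d : ℕ, AlgSp.IsFinLocFreeOfDegMor d f.hom ↔ AlgSp.IsFinLocFreeOfDegMor d f'.hom) := by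
  have D := Groth.Agent.EtInvariance.deformData_mk iX iY iB f f' g g' hcX hcY w hB hg' hflat hfp
  refine ⟨?_, ⟨?_, Groth.Agent.AlgSpLib.repWith_baseChange D.cart⟩, ⟨fun h => D.mono, fun h => ?_⟩,
    ⟨?_, Groth.Agent.AlgSpLib.repWith_baseChange D.cart⟩, fun d => ⟨?_, Groth.Agent.AlgSpLib.repWith_baseChange D.cart⟩⟩
  · rw [Groth.Agent.AlgSpLib.isIso_iff_repWith, Groth.Agent.AlgSpLib.isIso_iff_repWith]
    refine ⟨D.repWith _ (fun g hg => ?_) (fun sq hb hs _ hfl hfp hg => ?_),
      Groth.Agent.AlgSpLib.repWith_baseChange D.cart⟩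
    · have : IsIso g := hg
      exact ⟨inferInstance, inferInstance, inferInstance⟩
    · have := hb; have := hs; have := hfl; have := hfp; have : IsIso _ := hg
      exact Groth.Agent.EtInvariance.isIso_of_thick sq
  · refine D.repWith _ (fun g hg => ?_) (fun sq hb hs _ hfl hfp hg => ?_)
    · have : IsOpenImmersion g := hg
      exact ⟨inferInstance, inferInstance, inferInstance⟩
    · have := hb; have := hs; have := hfl; have := hfp; have : IsOpenImmersion _ := hg
      exact Groth.Agent.EtInvariance.isOpenImmersion_of_thick sq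
  · exact D.cart.mono_snd_of_mono
  · refine D.repWith _ (fun g hg => ?_) (fun sq hb hs hsep hfl hfp hg => ?_)
    · have : IsFinite g := hg.1
      have : Flat g := hg.2.1
      exact ⟨inferInstance, inferInstance, inferInstance⟩
    · have := hb; have := hs; have := hsep; have := hfl; have := hfp; have : IsFinite _ := hg.1
      exact ⟨Groth.Agent.EtInvariance.isFinite_of_thick sq, hfl, hfp⟩
  · refine D.repWith _ (fun g hg => ?_) (fun sq hb hs hsep hfl hfp hg => ?_)
    · have : IsFinite g := hg.1.1
      have : Flat g := hg.1.2.1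
      exact ⟨inferInstance, inferInstance, inferInstance⟩
    · have := hb; have := hs; have := hsep; have := hfl; have := hfp
      exact Groth.Agent.EtInvariance.finLocFreeOfDeg_of_thick sq d hg

end Groth.Agent.S10600
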