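import Groth.Statements.S10605
import Groth.Agent.AlgSpLib.FpqcList

set_option autoImplicit false
universe u
open CategoryTheory CategoryTheory.Limits AlgebraicGeometry
open AlgSp

set_option backward.isDefEq.respectTransparency false

namespace Groth.Agent.S10605

/-- The property of a morphism of algebraic spaces over S of being a thickening (representable, every
base change to a scheme a surjective closed immersion) is local on the base for the fpqc topology.
(The published statement also claims the same for first order thickenings; this row states only the
thickening clause.) -/
theorem result {S : Scheme.{u}} :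
    AlgSp.IsLocalOnBase (S := S) AlgSp.IsFpqcCover
      AlgSp.IsThickMor := by
    have : (AlgSp.thick.{u}).IsStableUnderBaseChange :=
      inferInstanceAs (MorphismProperty.IsStableUnderBaseChange (@IsClosedImmersion ⊓ @Surjective : MorphismProperty Scheme.{u}))
    have : IsZariskiLocalAtTarget (AlgSp.thick.{u}) :=
      inferInstanceAs (IsZariskiLocalAtTarget (@IsClosedImmersion ⊓ @Surjective : MorphismProperty Scheme.{u}))
    have : (AlgSp.thick.{u}).DescendsAlong (@Surjective ⊓ @Flat ⊓ @QuasiCompact) :=
      inferInstanceAs (MorphismProperty.DescendsAlong (@IsClosedImmersion ⊓ @Surjective : MorphismProperty Scheme.{u}) _)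
    exact Groth.Agent.AlgSpLib.isLocalOnBase_repWith AlgSp.thick fun _ _ q hq => by
      have : IsClosedImmersion q := hq.1
      exact Groth.Agent.AlgSpLib.indQA_of_isAffineHom q

end Groth.Agent.S10605
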