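import Groth.Statements.S10614
import Groth.Agent.UnivInjMor.MonoUnram

set_option autoImplicit false
universe u
open CategoryTheory CategoryTheory.Limits AlgebraicGeometry
open AlgSp

set_option backward.isDefEq.respectTransparency false

namespace Groth.Agent.S10614

/-- For a morphism f : X ⟶ Y of algebraic spaces over S, being a closed immersion (representable by
closed immersions) is equivalent to each of: (a) universally closed plus unramified plus
monomorphism; (b) universally closed plus unramified plus universally injective; (c) a universally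
closed monomorphism that is locally of finite type; (d) universally closed, universally injective,
locally of finite type and formally unramified (lifting sense). (Unramified is the etale-local
condition locally of finite type and formally unramified on charts; monomorphisms are taken in fppf
sheaves.) -/
theorem result {S : Scheme.{u}} {X Y : AlgSp.Space S} (f : X ⟶ Y) :
    (AlgSp.RepWith @IsClosedImmersion f.hom ↔
      (AlgSp.IsUnivClosedMor f.hom ∧ AlgSp.LocP (@LocallyOfFiniteType ⊓ @FormallyUnramified) f.hom ∧ Mono f.hom)) ∧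
    (AlgSp.RepWith @IsClosedImmersion f.hom ↔
      (AlgSp.IsUnivClosedMor f.hom ∧ AlgSp.LocP (@LocallyOfFiniteType ⊓ @FormallyUnramified) f.hom ∧ AlgSp.IsUnivInjectiveMor f.hom)) ∧
    (AlgSp.RepWith @IsClosedImmersion f.hom ↔
      (AlgSp.IsUnivClosedMor f.hom ∧ AlgSp.LocP @LocallyOfFiniteType f.hom ∧ Mono f.hom)) ∧
    (AlgSp.RepWith @IsClosedImmersion f.hom ↔
      (AlgSp.IsUnivClosedMor f.hom ∧ AlgSp.IsUnivInjectiveMor f.hom ∧ AlgSp.LocP @LocallyOfFiniteType f.hom ∧
        AlgSp.IsFormallyUnramifiedMor f.hom)) := by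
  have hX := X.property
  have hY := Y.property
  have fwd : AlgSp.RepWith @IsClosedImmersion f.hom → AlgSp.IsUnivClosedMor f.hom ∧
      AlgSp.LocP (@LocallyOfFiniteType ⊓ @FormallyUnramified) f.hom ∧ Mono f.hom ∧
      AlgSp.IsUnivInjectiveMor f.hom ∧ AlgSp.LocP @LocallyOfFiniteType f.hom ∧
      AlgSp.IsFormallyUnramifiedMor f.hom := fun h => by
    obtain ⟨h1, h2, h3⟩ := Groth.Agent.UnivInjMor.closedImmersion_props hX hY f.hom h
    exact ⟨h3, Groth.Agent.UnivInjMor.unramified_of_mono hX hY f.hom h2, h1,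
      Groth.Agent.UnivInjMor.isUnivInjectiveMor_of_mono hX f.hom, h2,
      Groth.Agent.UnivInjMor.isFormallyUnramifiedMor_of_mono f.hom⟩
  have bwd : AlgSp.IsUnivClosedMor f.hom → AlgSp.LocP @LocallyOfFiniteType f.hom → Mono f.hom →
      AlgSp.RepWith @IsClosedImmersion f.hom := fun h1 h2 _ =>
    Groth.Agent.UnivInjMor.closedImmersion_of_mono hX hY f.hom h2 h1
  refine ⟨⟨fun h => ⟨(fwd h).1, (fwd h).2.1, (fwd h).2.2.1⟩,
      fun h => bwd h.1 (fun U V a b c ha hb e => (h.2.1 a b c ha hb e).1) h.2.2⟩,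
    ⟨fun h => ⟨(fwd h).1, (fwd h).2.1, (fwd h).2.2.2.1⟩,
      fun h => bwd h.1 (fun U V a b c ha hb e => (h.2.1 a b c ha hb e).1)
        (Groth.Agent.UnivInjMor.mono_of_unramified_univInj hX hY f.hom h.2.1 h.2.2)⟩,
    ⟨fun h => ⟨(fwd h).1, (fwd h).2.2.2.2.1, (fwd h).2.2.1⟩, fun h => bwd h.1 h.2.1 h.2.2⟩,
    ⟨fun h => ⟨(fwd h).1, (fwd h).2.2.2.1, (fwd h).2.2.2.2.1, (fwd h).2.2.2.2.2⟩, fun h => ?_⟩⟩
  exact bwd h.1 h.2.2.1 (Groth.Agent.UnivInjMor.mono_of_unramified_univInj hX hY f.hom
    (fun U V a b c ha hb e => ⟨h.2.2.1 a b c ha hb e,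
      (Groth.Agent.InfLift.unram_iff hX hY).1 h.2.2.2 a b c ha hb e⟩) h.2.1)

end Groth.Agent.S10614
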