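import Groth.Agent.InfLift.SmoothLift
import Groth.Agent.InfLift.Charts
import Groth.Prelude.Def_AlgSpInf

set_option autoImplicit false
universe u
open CategoryTheory CategoryTheory.Limits AlgebraicGeometry
open AlgSp

set_option backward.isDefEq.respectTransparency false

namespace Groth.Agent.S10616

/-- Let a : F ⟶ G be a morphism of fppf sheaves on (Sch/S). If a is representable and smooth, then a is
formally smooth; if a is representable and etale, then a is formally etale; if a is representable
and unramified, then a is formally unramified (lifting conditions against square-zero thickenings of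
affine schemes). (The published statement is for transformations of arbitrary presheaves of sets on
(Sch/S)_fppf; this row takes fppf sheaves, the case of algebraic spaces.) -/
theorem result {S : Scheme.{u}} {F G : AlgSp.Sp S} (a : F ⟶ G) :
    (AlgSp.RepWith @Smooth a → AlgSp.IsFormallySmoothMor a) ∧
    (AlgSp.RepWith @Etale a → AlgSp.IsFormallyEtaleMor a) ∧
    (AlgSp.RepWith (@LocallyOfFiniteType ⊓ @FormallyUnramified) a → AlgSp.IsFormallyUnramifiedMor a) := by
  exact ⟨fun h => Groth.Agent.InfLift.hasLift_of_repWith (P := @Smooth) (fun _ _ f hf => by
      haveI := hf
      exact Groth.Agent.InfLift.isFormallySmoothHom_of_smooth f) h,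
    fun h => Groth.Agent.InfLift.etale_formallyEtale h,
    fun h => Groth.Agent.InfLift.hasUniq_of_repWith (fun _ _ f hf => hf.2) h⟩

end Groth.Agent.S10616
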