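import Groth.Statements.S10631
import Groth.Agent.InfLift.SpaceThick

set_option autoImplicit false
universe u
open CategoryTheory CategoryTheory.Limits AlgebraicGeometry
open AlgSp

set_option backward.isDefEq.respectTransparency false

namespace Groth.Agent.S10631

/-- Consider morphisms Z ⟶ Y ⟶ X of algebraic spaces over S. If (i : Z ⟶ Z', h' : Z' ⟶ Y) is, over Y, a
universal first order thickening of Z and g : Y ⟶ X is formally etale, then (i, h' ≫ g) is, over X,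
a universal first order thickening of Z. -/
theorem result {S : Scheme.{u}} {Z Z' Y X : AlgSp.Space S} (hZ : Z ⟶ Y) (g : Y ⟶ X)
    (i : Z ⟶ Z') (h' : Z' ⟶ Y) (HU : AlgSp.IsUnivFOThick hZ.hom i.hom h'.hom) (hg : AlgSp.IsFormallyEtaleMor g.hom) :
    AlgSp.IsUnivFOThick (hZ ≫ g).hom i.hom (h' ≫ g).hom := by
  open Groth.Agent.InfLift in
  refine ⟨HU.1, ?_, fun T T' hT hT' j a b hj w => ?_⟩
  · simp [← HU.2.1]
  open Groth.Agent.InfLift in
  obtain ⟨c, hc₁, hc₂⟩ := space_lift hT' hg hj (a ≫ hZ.hom) b (by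
    rw [w, Category.assoc]; rfl)
  obtain ⟨a', ⟨ha₁, ha₂⟩, hu⟩ := HU.2.2 hT hT' j a c hj hc₁
  refine ⟨a', ⟨ha₁, ?_⟩, fun y hy => hu y ⟨hy.1, ?_⟩⟩
  · change a' ≫ h'.hom ≫ g.hom = b
    rw [← Category.assoc, ha₂, hc₂]
  open Groth.Agent.InfLift in
  have hy2 : (y ≫ h'.hom) ≫ g.hom = b := (Category.assoc _ _ _).trans hy.2
  open Groth.Agent.InfLift in
  refine space_lift_unique hT' (etale_iff.1 hg).2 hj ?_ (hy2.trans hc₂.symm)
  rw [hc₁, ← Category.assoc, hy.1, Category.assoc, HU.2.1]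

end Groth.Agent.S10631
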