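import Groth.Statements.S10632
import Groth.Agent.InfLift.FOThickBC
import Groth.Agent.InfLift.Charts

set_option autoImplicit false
universe u
open CategoryTheory CategoryTheory.Limits AlgebraicGeometry
open AlgSp

namespace Groth.Agent.S10632

/-- Let e : Z ⟶ Y be an etale morphism of algebraic spaces over S, hY : Y ⟶ X, and let (iY : Y ⟶ Y', hY'
: Y' ⟶ X) be a universal first order thickening of Y over X. Let e' : Z' ⟶ Y' be etale with iZ : Z ⟶
Z' making Z = Y ×_{Y'} Z' a pullback square. Then (iZ, e' ≫ hY') is a universal first order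
thickening of Z over X. -/
theorem result {S : Scheme.{u}} {Z Y Y' Z' X : AlgSp.Space S} (e : Z ⟶ Y)
    (he : AlgSp.IsEtaleMor e.hom) (hY : Y ⟶ X) (iY : Y ⟶ Y') (hY' : Y' ⟶ X)
    (HU : AlgSp.IsUnivFOThick hY.hom iY.hom hY'.hom) (iZ : Z ⟶ Z') (e' : Z' ⟶ Y') (he' : AlgSp.IsEtaleMor e'.hom)
    (sq : IsPullback e.hom iZ.hom iY.hom e'.hom) :
    AlgSp.IsUnivFOThick (e ≫ hY).hom iZ.hom (e' ≫ hY').hom := by
  obtain ⟨hY1, hYc, hYu⟩ := HU
  have hfe : AlgSp.IsFormallyEtaleMor e'.hom :=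
    ((Groth.Agent.InfLift.isEtaleMor_iff Z'.property Y'.property).1 he').2
  refine ⟨Groth.Agent.InfLift.foThick_baseChange_space Y'.property sq.flip hY1, ?_, fun T T' hT hT' j a b hj w => ?_⟩
  · show iZ.hom ≫ e'.hom ≫ hY'.hom = e.hom ≫ hY.hom
    rw [← sq.w_assoc, hYc]
  obtain ⟨d, ⟨hd1, hd2⟩, hdu⟩ := hYu hT hT' j (a ≫ e.hom) b hj (by rw [w, Category.assoc]; rfl)
  obtain ⟨l, hl1, hl2⟩ := Groth.Agent.InfLift.space_lift hT' hfe hj (a ≫ iZ.hom) d (by
    rw [hd1, Category.assoc, Category.assoc, sq.w])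
  refine ⟨l, ⟨hl1, ?_⟩, fun y hy => ?_⟩
  · show l ≫ e'.hom ≫ hY'.hom = b
    rw [← Category.assoc, hl2, hd2]
  · have h2 : (y ≫ e'.hom) ≫ hY'.hom = b := (Category.assoc _ _ _).trans hy.2
    refine Groth.Agent.InfLift.space_lift_unique hT' (Groth.Agent.InfLift.etale_iff.1 hfe).2 hj (hy.1.trans hl1.symm) ?_
    rw [hl2]
    exact hdu _ ⟨by rw [← Category.assoc, hy.1, Category.assoc, Category.assoc, sq.w], h2⟩

end Groth.Agent.S10632
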