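import Groth.Statements.S10633
import Groth.Agent.EtInvariance.Lift
import Groth.Agent.EtInvariance.Thick
import Groth.Agent.AlgSpLib.CoverDesc
import Groth.Agent.InfLift.FOThickBC
import Groth.Agent.InfLift.Charts

set_option autoImplicit false
universe u
open CategoryTheory CategoryTheory.Limits AlgebraicGeometry
open AlgSp

namespace Groth.Agent.S10633

set_option backward.isDefEq.respectTransparency false

open Groth.Agent.AlgSpLib Groth.Agent.InfLift Groth.Agent.EtInvariance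

variable {S : Scheme.{u}} {Z Y Z' Y' X : Sp S}

/-- the pieces of a cover of a thickening which map to the etale cover of the source -/
theorem exists_piece {T T' : Sp S} (hT : IsAlgSpace T) (hT' : IsAlgSpace T') (hZ : IsAlgSpace Z) (hY : IsAlgSpace Y)
    {e : Z ⟶ Y} (he : IsEtaleMor e) (hes : IsSurjectiveMor e) {j : T ⟶ T'} (hj : IsFOThickMor j) (a : T ⟶ Y) :
    ∃ (W : Over S) (w : (yon S).obj W ⟶ T') (P : Over S) (g : (yon S).obj P ⟶ T) (c : P ⟶ W)
      (a₁ : (yon S).obj P ⟶ Z), IsFppfCover (fun _ : PUnit.{u + 1} => (yon S).obj W) (fun _ => w) ∧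
      IsFOThickMor ((yon S).map c) ∧ IsPullback g ((yon S).map c) j w ∧ a₁ ≫ e = g ≫ a := by
  have sqV := IsPullback.of_hasPullback a e
  have hV : IsAlgSpace (pullback a e) := isAlgSpace_of_isPullback_space hY hT hZ sqV
  have hb : IsEtaleMor (pullback.fst a e) := isEtaleMor_baseChange hT hZ hY sqV he
  obtain ⟨W, w, P, g, c, q, hw, sq, hq, -, hqs⟩ :=
    exists_cover hT hT' hV j (IsUH.of_thick hj.1) (pullback.fst a e) hb
  refine ⟨W, w, P, g, c, q ≫ pullback.snd a e, ⟨fun _ => ⟨?_, ?_⟩, fun y => ?_⟩,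
    foThick_baseChange hj hw sq, sq, ?_⟩
  · exact fun A B a b c ha hb e =>
      etST_flat.of_etale _ ((isEtaleMor_iff_locP hT').1 (isEtaleMor_of_repWith' hw) a b c ha hb e)
  · exact fun A B a b c ha hb e =>
      etST_lfp.of_etale _ ((isEtaleMor_iff_locP hT').1 (isEtaleMor_of_repWith' hw) a b c ha hb e)
  · obtain ⟨x, rfl⟩ := (IsUH.of_thick hj.1).bijective.2 y
    obtain ⟨z, hz⟩ := hes (Points.map a x)
    obtain ⟨v, hv, -⟩ := exists_point_of_isPullback sqV x z hz.symm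
    obtain ⟨p, hp⟩ := ofPt_surjective hqs v
    refine ⟨⟨⟩, Points.map ((yon S).map c) (Points.ofScheme P p), ?_⟩
    rw [← Points.map_comp, ← sq.w, Points.map_comp, ← Points.ofPt_eq_map_ofScheme, ← hq, ← Points.map_ofPt, hp, hv]
  · rw [Category.assoc, ← pullback.condition, ← hq, Category.assoc]

variable (hZ : IsAlgSpace Z) (hY : IsAlgSpace Y) {e : Z ⟶ Y} (he : IsEtaleMor e) (hes : IsSurjectiveMor e)
  {hYX : Y ⟶ X} {iZ : Z ⟶ Z'} {iY : Y ⟶ Y'} {f : Z' ⟶ Y'} {hY' : Y' ⟶ X}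

include hZ hY he hes

theorem uniq (hf : IsFormallyEtaleMor f) (w : iZ ≫ f = e ≫ iY) (w' : iY ≫ hY' = hYX)
    (HU : IsUnivFOThick (e ≫ hYX) iZ (f ≫ hY')) {T T' : Sp S} (hT : IsAlgSpace T) (hT' : IsAlgSpace T')
    {j : T ⟶ T'} (hj : IsFOThickMor j) (a : T ⟶ Y) {l l' : T' ⟶ Y'} (hl : j ≫ l = a ≫ iY)
    (hl' : j ≫ l' = a ≫ iY) (hh : l ≫ hY' = l' ≫ hY') : l = l' := by
  obtain ⟨W, p, P, g, c, a₁, hcov, hc, sq, ha⟩ := exists_piece hT hT' hZ hY he hes hj a
  refine hom_ext_of_fppfCover hT' (fun _ => IsAlgSpace.yon_obj W) hcov fun _ => ?_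
  have key : ∀ m : T' ⟶ Y', j ≫ m = a ≫ iY → (a₁ ≫ iZ) ≫ f = (yon S).map c ≫ p ≫ m := fun m hm => by
    rw [Category.assoc, w, ← Category.assoc, ha, ← sq.w_assoc, hm, Category.assoc]
  obtain ⟨m, hm1, hm2⟩ := space_lift (IsAlgSpace.yon_obj W) hf hc (a₁ ≫ iZ) (p ≫ l) (key l hl)
  obtain ⟨m', hm1', hm2'⟩ := space_lift (IsAlgSpace.yon_obj W) hf hc (a₁ ≫ iZ) (p ≫ l') (key l' hl')
  have : m = m' := by
    refine (HU.2.2 (IsAlgSpace.yon_obj P) (IsAlgSpace.yon_obj W) _ a₁ (p ≫ l ≫ hY') hc ?_).unique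
      ⟨hm1, by rw [← Category.assoc, hm2, Category.assoc]⟩ ⟨hm1', by rw [← Category.assoc, hm2', Category.assoc, hh]⟩
    rw [← w', ← Category.assoc e, ← w, Category.assoc iZ, reassoc_of% (show a₁ ≫ iZ ≫ f = (yon S).map c ≫ p ≫ l from (Category.assoc _ _ _).symm.trans (key l hl))]
  rw [← hm2, ← hm2', this]

theorem main (hY'sp : IsAlgSpace Y') (hiY : IsFOThickMor iY) (hf : IsFormallyEtaleMor f) (w : iZ ≫ f = e ≫ iY)
    (w' : iY ≫ hY' = hYX) (HU : IsUnivFOThick (e ≫ hYX) iZ (f ≫ hY')) : IsUnivFOThick hYX iY hY' := by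
  refine ⟨hiY, w', fun T T' hT hT' j a b hj hw => ?_⟩
  obtain ⟨W, p, P, g, c, a₁, hcov, hc, sq, ha⟩ := exists_piece hT hT' hZ hY he hes hj a
  obtain ⟨m, hm1, hm2⟩ := (HU.2.2 (IsAlgSpace.yon_obj P) (IsAlgSpace.yon_obj W) _ a₁ (p ≫ b) hc (by
    rw [← sq.w_assoc, hw, ← Category.assoc a₁, ha, Category.assoc])).exists
  have hmc : (yon S).map c ≫ m ≫ f = (g ≫ a) ≫ iY := by
    rw [← Category.assoc, hm1, Category.assoc, w, ← Category.assoc, ha]
  obtain ⟨ψ, hψ⟩ := exists_desc_of_fppfCover hT' (fun _ => IsAlgSpace.yon_obj W) hcov (fun _ => m ≫ f) fun _ _ => by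
    have hR : IsAlgSpace (pullback p p) := isAlgSpace_of_isPullback_space hT' (IsAlgSpace.yon_obj W)
      (IsAlgSpace.yon_obj W) (IsPullback.of_hasPullback p p)
    have sqR := IsPullback.of_hasPullback j (pullback.fst p p ≫ p)
    refine uniq hZ hY he hes hf w w' HU (isAlgSpace_of_isPullback_space hT' hT hR sqR) hR
      (foThick_baseChange_space hT' sqR.flip hj) (pullback.fst j (pullback.fst p p ≫ p) ≫ a) ?_ ?_ ?_
    · let r := sq.lift (pullback.fst j (pullback.fst p p ≫ p))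
        (pullback.snd j (pullback.fst p p ≫ p) ≫ pullback.fst p p) (pullback.condition.trans (Category.assoc _ _ _).symm)
      calc _ = (r ≫ (yon S).map c) ≫ m ≫ f := by rw [sq.lift_snd, Category.assoc]
        _ = _ := by rw [Category.assoc, hmc, Category.assoc, sq.lift_fst_assoc, Category.assoc]
    · let r := sq.lift (pullback.fst j (pullback.fst p p ≫ p))
        (pullback.snd j (pullback.fst p p ≫ p) ≫ pullback.snd p p) (pullback.condition.trans ((congrArg (_ ≫ ·) pullback.condition).trans (Category.assoc _ _ _).symm))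
      calc _ = (r ≫ (yon S).map c) ≫ m ≫ f := by rw [sq.lift_snd, Category.assoc]
        _ = _ := by rw [Category.assoc, hmc, Category.assoc, sq.lift_fst_assoc, Category.assoc]
    · simp only [Category.assoc]
      rw [hm2, pullback.condition_assoc]
  have h1 : j ≫ ψ = a ≫ iY := by
    have hcov' : IsFppfCover (fun _ : PUnit.{u + 1} => (yon S).obj P) (fun _ => g) := by
      refine ⟨fun _ => ⟨locP_baseChange etST_flat (IsAlgSpace.yon_obj W) hT' (IsAlgSpace.yon_obj P) hT sq.flip (hcov.1 ⟨⟩).1,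
        locP_baseChange etST_lfp (IsAlgSpace.yon_obj W) hT' (IsAlgSpace.yon_obj P) hT sq.flip (hcov.1 ⟨⟩).2⟩, fun x => ?_⟩
      obtain ⟨⟨⟩, y, hy⟩ := hcov.2 (Points.map j x)
      obtain ⟨z, hz, -⟩ := exists_point_of_isPullback sq x y hy.symm
      exact ⟨⟨⟩, z, hz⟩
    refine hom_ext_of_fppfCover hT (fun _ => IsAlgSpace.yon_obj P) hcov' fun _ => ?_
    rw [sq.w_assoc, hψ ⟨⟩, hmc, Category.assoc]
  have h2 : ψ ≫ hY' = b := hom_ext_of_fppfCover hT' (fun _ => IsAlgSpace.yon_obj W) hcov fun _ => by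
    rw [← Category.assoc, hψ ⟨⟩, Category.assoc, hm2]
  exact ⟨ψ, ⟨h1, h2⟩, fun y hy => uniq hZ hY he hes hf w w' HU hT hT' hj a hy.1 h1 (hy.2.trans h2.symm)⟩

end Groth.Agent.S10633

namespace Groth.Agent.S10633

/-- Let e : Z ⟶ Y be a surjective etale morphism of algebraic spaces over S, hY : Y ⟶ X, and let (Z ⊂
Z') ⟶ (Y ⊂ Y') be an etale morphism of first order thickenings over X: iZ : Z ⟶ Z' and iY : Y ⟶ Y'
first order thickenings, f' : Z' ⟶ Y' etale with iZ ≫ f' = e ≫ iY, hY' : Y' ⟶ X with iY ≫ hY' = hY.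
If (iZ, f' ≫ hY') is a universal first order thickening of Z over X, then (iY, hY') is a universal
first order thickening of Y over X. -/
theorem result {S : Scheme.{u}} {Z Y Z' Y' X : AlgSp.Space S} (e : Z ⟶ Y)
    (he : AlgSp.IsEtaleMor e.hom) (hes : AlgSp.IsSurjectiveMor e.hom) (hY : Y ⟶ X)
    (iZ : Z ⟶ Z') (iY : Y ⟶ Y') (hiZ : AlgSp.IsFOThickMor iZ.hom) (hiY : AlgSp.IsFOThickMor iY.hom)
    (f' : Z' ⟶ Y') (hf' : AlgSp.IsEtaleMor f'.hom) (w : iZ ≫ f' = e ≫ iY) (hY' : Y' ⟶ X) (w' : iY ≫ hY' = hY)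
    (HU : AlgSp.IsUnivFOThick (e ≫ hY).hom iZ.hom (f' ≫ hY').hom) :
    AlgSp.IsUnivFOThick hY.hom iY.hom hY'.hom := by
  exact Groth.Agent.S10633.main Z.property Y.property he hes Y'.property hiY
    ((Groth.Agent.InfLift.isEtaleMor_iff Z'.property Y'.property).1 hf').2 (congrArg (fun m => m.hom) w)
    (congrArg (fun m => m.hom) w') HU

end Groth.Agent.S10633
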