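import Groth.Statements.S10635
import Groth.Agent.SchImg.ClosedSub
import Groth.Agent.SpQS.BiratDense
import Groth.Agent.AlgSpLib.QCompact
import Groth.Agent.AlgSpLib.Subspace
import Groth.Agent.ThickSys.Sys
import Groth.Agent.InfLift.FOThickBC
import Groth.Agent.S10630

set_option autoImplicit false
universe u
open CategoryTheory CategoryTheory.Limits AlgebraicGeometry
open AlgSp

namespace Groth.Agent.S10635

set_option backward.isDefEq.respectTransparency false

open Groth.Agent.AlgSpLib Groth.Agent.SchImg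

variable {S : Scheme.{u}}

theorem pullIdeal_ker {Z Y : Sp S} {i : Z ⟶ Y} {U W : Over S} {φ : (yon S).obj U ⟶ Y} {z : (yon S).obj W ⟶ Z}
    {v : W ⟶ U} (sq : IsPullback z ((yon S).map v) i φ) [IsClosedImmersion v.left] : IsPullIdeal i φ v.left.ker := by
  refine fun T α => ⟨fun ⟨l, hl⟩ => ?_, fun h => ?_⟩
  · obtain ⟨m, hm⟩ := exists_map_eq (sq.lift l ((yon S).map α) hl)
    have hmv : m ≫ v = α := (yon S).map_injective (by rw [Functor.map_comp, hm, sq.lift_snd])
    rw [comap_eq_bot_iff, ← show m.left ≫ v.left = α.left from congrArg (fun q => q.left) hmv]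
    exact Scheme.Hom.le_ker_comp _ _
  · rw [comap_eq_bot_iff] at h
    let m : T ⟶ W := Over.homMk (IsClosedImmersion.lift v.left α.left h) (by
      rw [← Over.w v, IsClosedImmersion.lift_fac_assoc, Over.w α])
    refine ⟨(yon S).map m ≫ z, ?_⟩
    rw [Category.assoc, sq.w, ← Functor.map_comp_assoc,
      show m ≫ v = α from Over.OverMorphism.ext (IsClosedImmersion.lift_fac _ _ _)]

theorem eq_bot_of_cover {X : Scheme.{u}} [IsAffine X] {ι : Type u} {P : ι → Scheme.{u}} (p : ∀ m, P m ⟶ X)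
    (hp : ∀ m, Etale (p m)) (hs : ∀ x, ∃ m z, p m z = x) (I : X.IdealSheafData) (h : ∀ m, I.comap (p m) = ⊥) :
    I = ⊥ := by
  let q := Sigma.desc p
  have hq : Etale q := (IsZariskiLocalAtSource.iff_of_openCover (P := @Etale) (sigmaOpenCover P)).2 fun m => by
    change Etale (Sigma.ι P m ≫ Sigma.desc p)
    rw [Sigma.ι_desc]
    exact hp m
  have : Surjective q := ⟨fun x => by
    obtain ⟨m, z, rfl⟩ := hs x
    exact ⟨Sigma.ι P m z, by rw [← Scheme.Hom.comp_apply]; simp [q]⟩⟩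
  refine EtInvariance.eq_bot_of_comap_eq_bot q I ?_
  rw [comap_eq_bot_iff]
  let g : ∀ m, P m ⟶ I.subscheme := fun m =>
    IsClosedImmersion.lift I.subschemeι (p m) (by rw [Scheme.IdealSheafData.ker_subschemeι]; exact (comap_eq_bot_iff _ _).1 (h m))
  have hg : Sigma.desc g ≫ I.subschemeι = q := Sigma.hom_ext _ _ fun m => by
    rw [Sigma.ι_desc_assoc, IsClosedImmersion.lift_fac, Sigma.ι_desc]
  rw [← hg]
  exact (Scheme.IdealSheafData.ker_subschemeι I).ge.trans (Scheme.Hom.le_ker_comp _ _)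

/-- on an affine scheme over the ambient space the neighbourhood is cut out by the square of the ideal -/
theorem pullIdeal_sq {Z U Z₁ : Sp S} (hU : IsAlgSpace U) {c : Z ⟶ U} {j : Z ⟶ Z₁} {k : Z₁ ⟶ U}
    (hN : IsInfNbhd 1 c j k) {T' : Over S} (hT' : IsAffine T'.left) (b : (yon S).obj T' ⟶ U)
    {J K : T'.left.IdealSheafData} (hJ : IsPullIdeal c b J) (hK : IsPullIdeal k b K) : J ^ 2 = ⊥ ↔ K = ⊥ := by
  obtain ⟨-, hc, hk, hker⟩ := hN
  obtain ⟨U₀, π, ι, O, hπ, hπs, hO, -, hcov⟩ := exists_affine_chart_family hU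
  let V : ι → Over S := fun m => Over.mk ((O m).ι ≫ U₀.hom)
  let v : ∀ m, (yon S).obj (V m) ⟶ U := fun m => (yon S).map (Over.homMk (O m).ι rfl : V m ⟶ U₀) ≫ π
  have hv : ∀ m, RepWith @Etale (v m) := fun m =>
    repWith_comp ((repWith_yon_iff _).2 (inferInstanceAs (Etale (O m).ι))) hπ
  choose P p α sqP using fun m => exists_pullback hU.diag b (v m)
  have hp : ∀ m, Etale (p m).left := fun m => (repWith_yon_iff (p m)).1 (repWith_baseChange (sqP m).flip (hv m))
  have hs : ∀ x, ∃ m z, (p m).left z = x := fun x => by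
    obtain ⟨u, hu⟩ := ofPt_surjective hπs (Points.ofPt b x)
    obtain ⟨m, hm⟩ := hcov u
    have : Points.map b (Points.ofScheme T' x) ∈ Set.range (Points.map (v m)) := by
      refine ⟨Points.ofScheme (V m) ⟨u, hm⟩, ?_⟩
      rw [← Points.ofPt_eq_map_ofScheme, ← Points.ofPt_eq_map_ofScheme, ← hu]
      exact ofPt_comp _ π _
    rw [← Set.mem_preimage, ← range_map_of_isPullback (sqP m).flip] at this
    obtain ⟨y, hy⟩ := this
    obtain ⟨z, rfl⟩ := (Points.schemeEquiv (P m)).surjective y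
    refine ⟨m, z, (Points.schemeEquiv T').injective ?_⟩
    exact ((Points.ofPt_eq_map_ofScheme _ z).symm.trans (ofScheme_map (p m) z)).symm.trans hy
  have key : ∀ m, (J ^ 2).comap (p m).left = K.comap (p m).left := by
    intro m
    obtain ⟨W, fst, snd, sqW, hW⟩ := exists_repWith hc (v m)
    obtain ⟨Wn, fstn, sndn, sqWn, hWn⟩ := exists_repWith hk (v m)
    have := hW
    have := hWn
    have hI := (pullIdeal_ker sqW).comap (α m)
    rw [← (sqP m).w] at hI
    have hIn := (pullIdeal_ker sqWn).comap (α m)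
    rw [← (sqP m).w] at hIn
    rw [← hIn.unique (hK.comap (p m)), hker (v m) fst snd fstn sndn (hO m) (hv m) sqW sqWn, ThickSys.comap_pow,
      ThickSys.comap_pow, hI.unique (hJ.comap (p m))]
  have := hT'
  exact ⟨fun h => eq_bot_of_cover (fun m => (p m).left) hp hs K fun m => by
      rw [← key, h, Scheme.IdealSheafData.comap_bot],
    fun h => eq_bot_of_cover (fun m => (p m).left) hp hs _ fun m => by rw [key, h, Scheme.IdealSheafData.comap_bot]⟩

/-- a square zero thickening of a scheme over the closed subspace maps to the first neighbourhood -/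
theorem exists_lift {Z U Z₁ : Sp S} (hU : IsAlgSpace U) {c : Z ⟶ U} {j : Z ⟶ Z₁} {k : Z₁ ⟶ U}
    (hN : IsInfNbhd 1 c j k) {T T' : Over S} (t : T ⟶ T') (hT' : IsAffine T'.left)
    (ht : IsFOThickMor ((yon S).map t)) (a : (yon S).obj T ⟶ Z) (b : (yon S).obj T' ⟶ U)
    (w : (yon S).map t ≫ b = a ≫ c) : ∃ l : (yon S).obj T' ⟶ Z₁, l ≫ k = b := by
  obtain ⟨J, hJ⟩ := exists_pullIdeal hN.2.1 b
  obtain ⟨K, hK⟩ := exists_pullIdeal hN.2.2.1 b
  have hJt : J.comap t.left = ⊥ := (hJ t).1 ⟨a, w.symm⟩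
  have hJ2 : J ^ 2 = ⊥ := by
    have h1 : J ≤ t.left.ker :=
      Scheme.IdealSheafData.map_bot t.left ▸ Scheme.IdealSheafData.le_map_iff_comap_le.2 hJt.le
    refine le_bot_iff.1 (le_trans ?_ (isFirstOrderThickening_of_isFOThickMor_yon_map hT' ht).2.le)
    rw [pow_two]
    exact mul_le_mul' h1 h1
  obtain ⟨l, hl⟩ := (hK (𝟙 T')).2 (by rw [(pullIdeal_sq hU hN hT' b hJ hK).1 hJ2, Scheme.IdealSheafData.comap_bot])
  exact ⟨l, by rw [hl, CategoryTheory.Functor.map_id, Category.id_comp]⟩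

/-- a first infinitesimal neighbourhood is a first order thickening -/
theorem foThick_of_nbhd {Z U Z₁ : Sp S} (hU : IsAlgSpace U) (hZ₁ : IsAlgSpace Z₁) {c : Z ⟶ U} {j : Z ⟶ Z₁}
    {k : Z₁ ⟶ U} (hN : IsInfNbhd 1 c j k) : IsFOThickMor j := by
  have hjk := hN.1
  have := mono_of_closed hN.2.2.1
  have hj : RepWith @IsClosedImmersion j := by
    refine repWith_baseChange (fst := 𝟙 Z) (f := c) (g := k) (isPullback_of_points (by rw [Category.id_comp, hjk])
      fun T z z₁ e => ⟨z, ⟨Category.comp_id z, (cancel_mono k).1 (by rw [Category.assoc, hjk, e])⟩,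
        fun y hy => (Category.comp_id y).symm.trans hy.1⟩) hN.2.1
  have hsq : ∀ ⦃V W : Over S⦄ (b : (yon S).obj V ⟶ Z₁) (fst : (yon S).obj W ⟶ Z) (snd : W ⟶ V),
      IsAffine V.left → IsPullback fst ((yon S).map snd) j b → snd.left.ker * snd.left.ker = ⊥ := by
    intro V W b fst snd hV sq
    have : IsClosedImmersion snd.left := hj.2 b fst snd sq
    have sq' : IsPullback fst ((yon S).map snd) c (b ≫ k) := by
      refine isPullback_of_points (by rw [← hjk, ← Category.assoc, sq.w, Category.assoc]) fun T z v e => ?_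
      have e' : z ≫ j = v ≫ b := (cancel_mono k).1 (by rw [Category.assoc, hjk, e, Category.assoc])
      exact ⟨sq.lift z v e', ⟨sq.lift_fst _ _ _, sq.lift_snd _ _ _⟩, fun y hy => sq.hom_ext
        (by rw [sq.lift_fst, hy.1]) (by rw [sq.lift_snd, hy.2])⟩
    obtain ⟨K, hK⟩ := exists_pullIdeal hN.2.2.1 (b ≫ k)
    have hK0 : K = ⊥ := by
      have := (hK (𝟙 V)).1 ⟨b, by rw [CategoryTheory.Functor.map_id, Category.id_comp]⟩
      simpa using this
    have := (pullIdeal_sq hU hN hV (b ≫ k) (pullIdeal_ker sq') hK).2 hK0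
    rwa [pow_two] at this
  refine ⟨repWith_mono (fun _ _ _ h => ⟨h.1, h.2⟩) ((repWith_inf_iff (P := @IsClosedImmersion) (Q := @Surjective)).2
    ⟨hj, ?_⟩), fun V W b fst snd hV _ sq => hsq b fst snd hV sq⟩
  refine repWith_surjective_of_isSurjectiveMor hj.1 fun z => ?_
  obtain ⟨U₀, π, ι, O, hπ, hπs, hO, -, hcov⟩ := exists_affine_chart_family hZ₁
  obtain ⟨u, rfl⟩ := ofPt_surjective hπs z
  obtain ⟨m, hm⟩ := hcov u
  let o : Over.mk ((O m).ι ≫ U₀.hom) ⟶ U₀ := Over.homMk (O m).ι rfl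
  obtain ⟨W, fst, snd, sq, hW⟩ := exists_repWith hj ((yon S).map o ≫ π)
  have := hW
  have : IsAffine (O m).toScheme := hO m
  have h0 := hsq _ fst snd (hO m) sq
  let x₀ : ↥(Over.mk ((O m).ι ≫ U₀.hom)).left := ⟨u, hm⟩
  have hsupp : (snd.left.ker.support : Set ↥(Over.mk ((O m).ι ≫ U₀.hom)).left) = Set.univ := by
    have h2 := congrArg (fun I : (Over.mk ((O m).ι ≫ U₀.hom)).left.IdealSheafData =>
      (I.support : Set ↥(Over.mk ((O m).ι ≫ U₀.hom)).left)) h0
    simpa using h2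
  have hx : x₀ ∈ Set.range snd.left := by
    rw [← snd.left.isClosedEmbedding.isClosed_range.closure_eq, ← Scheme.Hom.support_ker, hsupp]
    trivial
  obtain ⟨w, hw⟩ := hx
  refine ⟨Points.map fst (Points.ofScheme W w), ?_⟩
  rw [← Points.map_comp, sq.w, ← Points.ofPt_eq_map_ofScheme, ofPt_comp, hw]
  exact ofPt_comp o π ⟨u, hm⟩

end Groth.Agent.S10635

namespace Groth.Agent.S10635

/-- Take an immersion i : Z ⟶ X of algebraic spaces over S, written as a closed immersion c : Z ⟶ U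
followed by an open immersion u : U ⟶ X, and let (j : Z ⟶ Z₁, k : Z₁ ⟶ U) be the first order
infinitesimal neighbourhood of Z in U. Then (j, k ≫ u) is a universal first order thickening of Z
over X. -/
theorem result {S : Scheme.{u}} {Z U X Z₁ : AlgSp.Space S} (c : Z ⟶ U)
    (hc : AlgSp.RepWith @IsClosedImmersion c.hom) (u : U ⟶ X) (hu : AlgSp.RepWith @IsOpenImmersion u.hom)
    (j : Z ⟶ Z₁) (k : Z₁ ⟶ U) (hN : AlgSp.IsInfNbhd 1 c.hom j.hom k.hom) :
    AlgSp.IsUnivFOThick (c ≫ u).hom j.hom (k ≫ u).hom := by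
  obtain ⟨hjk, hcl, hk, hker⟩ := id hN
  have hmk := Groth.Agent.SchImg.mono_of_closed hk
  have hmu := Groth.Agent.SpQS.mono_of_openImm hu
  refine (Groth.Agent.S10630.result (c ≫ u) j (k ≫ u) ?_ ?_).2 fun T T' t hT' ht a b e => ?_
  · exact foThick_of_nbhd U.property Z₁.property hN
  · exact ObjectProperty.hom_ext _ ((Category.assoc _ _ _).symm.trans (congrArg (· ≫ u.hom) hjk))
  have hr : Set.range (AlgSp.Points.map b) ⊆ Set.range (AlgSp.Points.map u.hom) := by
    rintro _ ⟨x, rfl⟩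
    obtain ⟨y, rfl⟩ := Groth.Agent.AlgSpLib.isSurjectiveMor_of_repWith
      (Groth.Agent.AlgSpLib.repWith_mono (fun _ _ r hr => hr.2) ht.1) x
    refine ⟨AlgSp.Points.map (a ≫ c.hom) y, ?_⟩
    rw [← AlgSp.Points.map_comp, ← AlgSp.Points.map_comp, Category.assoc]
    exact congrArg (fun m => AlgSp.Points.map m y) e.symm
  obtain ⟨b₁, rfl⟩ := (Groth.Agent.AlgSpLib.exists_factor_iff U.property X.property u.hom hu b).2 hr
  have w : (AlgSp.yon S).map t ≫ b₁ = a ≫ c.hom := by
    rw [← cancel_mono u.hom, Category.assoc, Category.assoc]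
    exact e
  obtain ⟨l, hl⟩ := exists_lift U.property hN t hT' ht a b₁ w
  refine ⟨l, ⟨?_, ?_⟩, fun y hy => ?_⟩
  · rw [← cancel_mono k.hom, Category.assoc, hl, w, Category.assoc, hjk]
  · show l ≫ k.hom ≫ u.hom = b₁ ≫ u.hom
    rw [← Category.assoc, hl]
  · rw [← cancel_mono k.hom, hl, ← cancel_mono u.hom, Category.assoc]
    exact hy.2

end Groth.Agent.S10635
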