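import Groth.Statements.S10636
import Groth.Agent.InfLift.YonThick
import Groth.Agent.InfLift.FOThickBC
import Groth.Agent.SchImg.ClosedSub
import Groth.Agent.SchImg.IdealTools

set_option autoImplicit false
universe u
open CategoryTheory CategoryTheory.Limits AlgebraicGeometry
open AlgSp

namespace Groth.Agent.S10636

set_option backward.isDefEq.respectTransparency false

open Groth.Agent.AlgSpLib Groth.Agent.SchImg

variable {S : Scheme.{u}}

/-- the ideal of a first order thickening pulled back to a scheme has square zero -/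
theorem pullIdeal_sq_zero {Z Z' : Sp S} (hZ : IsAlgSpace Z) (hZ' : IsAlgSpace Z') {i : Z ⟶ Z'} (hi : IsFOThickMor i)
    {T : Over S} [IsAffine T.left] (l : (yon S).obj T ⟶ Z') {J : T.left.IdealSheafData} (hJ : IsPullIdeal i l J) :
    J * J = ⊥ := by
  obtain ⟨W, z, v, sq, hv⟩ := exists_repWith (hi.1 : RepWith thick i) l
  have : IsClosedImmersion v.left := hv.1
  have hfo := Groth.Agent.InfLift.foThick_baseChange_space hZ' sq.flip hi
  have h0 : v.left.ker * v.left.ker = ⊥ :=
    (isFirstOrderThickening_of_isFOThickMor_yon_map inferInstance hfo).2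
  have hle : J = v.left.ker := hJ.unique fun U α => by
    rw [comap_eq_bot_iff]
    refine ⟨fun ⟨a, ha⟩ => ?_, fun h => ?_⟩
    · obtain ⟨m, hm⟩ := exists_map_eq (sq.lift a ((yon S).map α) ha)
      have hmv : m ≫ v = α := (yon S).map_injective (by rw [Functor.map_comp, hm, sq.lift_snd])
      rw [← show m.left ≫ v.left = α.left from congrArg (fun q => q.left) hmv]
      exact Scheme.Hom.le_ker_comp _ _
    · let m : U ⟶ W := Over.homMk (IsClosedImmersion.lift v.left α.left h) (by
        rw [← Over.w v, IsClosedImmersion.lift_fac_assoc, Over.w α])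
      refine ⟨(yon S).map m ≫ z, ?_⟩
      rw [Category.assoc, sq.w, ← Functor.map_comp_assoc,
        show m ≫ v = α from Over.OverMorphism.ext (IsClosedImmersion.lift_fac _ _ _)]
  rwa [hle]

theorem eq_on_nbhd {Z Z' X : Sp S} {h : Z ⟶ X} {i : Z ⟶ Z'} {h' : Z' ⟶ X} (HU : IsUnivFOThick h i h') {T : Over S}
    {l l' : (yon S).obj T ⟶ Z'} (hh : l ≫ h' = l' ≫ h') {J N : T.left.IdealSheafData} (hJ : IsPullIdeal i l J)
    (hJN : J ≤ N)
    (hN : ∀ (U : Over S) (α : U ⟶ T), IsAffine U.left → N.comap α.left = ⊥ →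
      (yon S).map α ≫ l = (yon S).map α ≫ l')
    (U : Over S) (α : U ⟶ T) [IsAffine U.left] (hα : (N * N).comap α.left = ⊥) :
    (yon S).map α ≫ l = (yon S).map α ≫ l' := by
  let t : Over.mk ((N.comap α.left).subschemeι ≫ U.hom) ⟶ U := Over.homMk (N.comap α.left).subschemeι rfl
  have ht : IsFOThickMor ((yon S).map t) := Groth.Agent.InfLift.isFOThickMor_subscheme _ (by
    rw [← pow_two, ← Groth.Agent.ThickSys.comap_pow, pow_two, hα])
  have hta : N.comap (t ≫ α).left = ⊥ := by
    rw [Over.comp_left, Scheme.IdealSheafData.comap_comp]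
    exact (comap_subschemeι_eq_bot_iff _ _).2 le_rfl
  obtain ⟨a, ha⟩ := (hJ (t ≫ α)).2 (le_bot_iff.1 ((Scheme.IdealSheafData.comap_mono _ hJN).trans hta.le))
  have : IsAffine (Over.mk ((N.comap α.left).subschemeι ≫ U.hom)).left := isAffine_of_isAffineHom (N.comap α.left).subschemeι
  have hl' := hN _ (t ≫ α) this hta
  refine (HU.2.2 (IsAlgSpace.yon_obj _) (IsAlgSpace.yon_obj _) _ a ((yon S).map α ≫ l ≫ h') ht ?_).unique
    ⟨?_, Category.assoc _ _ _⟩ ⟨?_, (Category.assoc _ _ _).trans (congrArg (_ ≫ ·) hh.symm)⟩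
  · rw [← HU.2.1, ← Category.assoc a, ha, Functor.map_comp, Category.assoc, Category.assoc]
  · rw [ha, Functor.map_comp, Category.assoc]
  · rw [ha, hl', Functor.map_comp, Category.assoc]

theorem main {Z Z' X : Sp S} (hZ : IsAlgSpace Z) (hZ' : IsAlgSpace Z') {h : Z ⟶ X} {i : Z ⟶ Z'} {h' : Z' ⟶ X}
    (HU : IsUnivFOThick h i h') : IsFormallyUnramifiedMor h' := fun sq l l' h1 h2 h3 h4 => by
  have : IsAffine sq.ptT'.left := inferInstanceAs (IsAffine (Spec (.of sq.A)))
  have : IsClosedImmersion sq.j.left :=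
    IsClosedImmersion.spec_of_surjective _ Ideal.Quotient.mk_surjective
  let I := sq.j.left.ker
  have hI : I * I = ⊥ := Groth.Agent.InfLift.ker_mul_ker_specQuot sq.I sq.sq_zero
  have hag : ∀ (U : Over S) (α : U ⟶ sq.ptT'), I.comap α.left = ⊥ → (yon S).map α ≫ l = (yon S).map α ≫ l' := by
    intro U α hα
    let m : U ⟶ sq.ptT := Over.homMk (IsClosedImmersion.lift sq.j.left α.left ((comap_eq_bot_iff _ _).1 hα)) (by
      rw [← Over.w sq.j, IsClosedImmersion.lift_fac_assoc, Over.w α])
    have hm : m ≫ sq.j = α := Over.OverMorphism.ext (IsClosedImmersion.lift_fac _ _ _)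
    rw [← hm, Functor.map_comp, Category.assoc, h1, Category.assoc, h3]
  obtain ⟨J, hJ⟩ := exists_pullIdeal (repWith_mono (fun _ _ _ hi => hi.1) HU.1.1) l
  have hJ2 : J * J = ⊥ := pullIdeal_sq_zero hZ hZ' HU.1 l hJ
  have hh : l ≫ h' = l' ≫ h' := h2.trans h4.symm
  have hNJ : (I ⊔ J) * (I ⊔ J) ≤ J := by
    refine fun U => ?_
    have hI' : I.ideal U * I.ideal U = ⊥ := congrFun (congrArg Scheme.IdealSheafData.ideal hI) U
    show (I.ideal U ⊔ J.ideal U) * (I.ideal U ⊔ J.ideal U) ≤ J.ideal U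
    rw [Ideal.sup_mul, Ideal.mul_sup, hI', bot_sup_eq]
    first | exact sup_le Ideal.mul_le_right Ideal.mul_le_right | exact sup_le Ideal.mul_le_left Ideal.mul_le_right | exact sup_le Ideal.mul_le_right Ideal.mul_le_left | exact sup_le Ideal.mul_le_left Ideal.mul_le_left
  have step1 := eq_on_nbhd HU hh hJ (le_sup_right : J ≤ I ⊔ J) fun U α _ hα => hag U α
    (le_bot_iff.1 ((Scheme.IdealSheafData.comap_mono _ le_sup_left).trans hα.le))
  have step2 := eq_on_nbhd HU hh hJ le_rfl (fun U α hU hα => @step1 U α hU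
    (le_bot_iff.1 ((Scheme.IdealSheafData.comap_mono _ hNJ).trans hα.le))) sq.ptT' (𝟙 _)
    (by rw [hJ2, Scheme.IdealSheafData.comap_bot])
  rwa [CategoryTheory.Functor.map_id, Category.id_comp, Category.id_comp] at step2

end Groth.Agent.S10636

namespace Groth.Agent.S10636

/-- Take a formally unramified morphism h : Z ⟶ X of algebraic spaces over S and let (i : Z ⟶ Z', h' :
Z' ⟶ X) be a universal first order thickening of Z over X. Then h' is formally unramified. -/
theorem result {S : Scheme.{u}} {Z Z' X : AlgSp.Space S} (h : Z ⟶ X)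
    (hh : AlgSp.IsFormallyUnramifiedMor h.hom) (i : Z ⟶ Z') (h' : Z' ⟶ X) (HU : AlgSp.IsUnivFOThick h.hom i.hom h'.hom) :
    AlgSp.IsFormallyUnramifiedMor h'.hom := by
  exact Groth.Agent.S10636.main Z.property Z'.property HU

end Groth.Agent.S10636
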