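import Groth.Statements.S10638
import Groth.Agent.S10631
import Groth.Agent.S10632
import Groth.Agent.EtInvariance.Quotient
import Groth.Agent.EtInvariance.Thick

set_option autoImplicit false
universe u
open CategoryTheory CategoryTheory.Limits AlgebraicGeometry
open AlgSp

set_option backward.isDefEq.respectTransparency false

namespace Groth.Agent.S10638

/-- Take a formally unramified morphism h : Z ⟶ X of algebraic spaces over S with universal first order
thickening (iZ : Z ⟶ Z', hZ' : Z' ⟶ X). Let v : V ⟶ Z and w : U ⟶ X be etale morphisms of algebraic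
spaces and ψ : V ⟶ U with ψ ≫ w = v ≫ h. Then ψ is formally unramified, and for a universal first
order thickening (iV : V ⟶ V', hV' : V' ⟶ U) of V over U, every e' : V' ⟶ Z' with iV ≫ e' = v ≫ iZ
and e' ≫ hZ' = hV' ≫ w (there is exactly one) is etale. (The published statement also identifies the
conormal sheaf of V over U with the restriction of that of Z over X; this row omits that clause.) -/
theorem result {S : Scheme.{u}} {Z X Z' V U V' : AlgSp.Space S} (h : Z ⟶ X)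
    (hh : AlgSp.IsFormallyUnramifiedMor h.hom) (iZ : Z ⟶ Z') (hZ' : Z' ⟶ X) (HZ : AlgSp.IsUnivFOThick h.hom iZ.hom hZ'.hom)
    (v : V ⟶ Z) (w : U ⟶ X) (hv : AlgSp.IsEtaleMor v.hom) (hw : AlgSp.IsEtaleMor w.hom) (ψ : V ⟶ U)
    (c : ψ ≫ w = v ≫ h) :
    AlgSp.IsFormallyUnramifiedMor ψ.hom ∧
    ∀ (iV : V ⟶ V') (hV' : V' ⟶ U), AlgSp.IsUnivFOThick ψ.hom iV.hom hV'.hom →
      ∀ e' : V' ⟶ Z', iV ≫ e' = v ≫ iZ → e' ≫ hZ' = hV' ≫ w → AlgSp.IsEtaleMor e'.hom := by
  open Groth.Agent.InfLift in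
  have hve := formallyEtale_of_isEtaleMor V.property Z.property hv
  open Groth.Agent.InfLift in
  have hwe := formallyEtale_of_isEtaleMor U.property X.property hw
  have c' : ψ.hom ≫ w.hom = v.hom ≫ h.hom := congrArg (fun m => m.hom) c
  refine ⟨Groth.Agent.InfLift.unram_of_comp (c' ▸ Groth.Agent.InfLift.unram_comp
    (Groth.Agent.InfLift.etale_iff.1 hve).2 hh), fun iV hV' HV e' h1 h2 => ?_⟩
  obtain ⟨V'', a, j, hV'', ha, sq⟩ := Groth.Agent.EtInvariance.exists_descend Z.property Z'.property V.property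
    iZ.hom (Groth.Agent.EtInvariance.IsUH.of_thick HZ.1.1) v.hom hv
  have H2 := Groth.Agent.S10632.result (Z' := ⟨V'', hV''⟩) v hv h iZ hZ' HZ (ObjectProperty.homMk j)
    (ObjectProperty.homMk a) ha sq
  have H1 : AlgSp.IsUnivFOThick (v.hom ≫ h.hom) iV.hom (hV'.hom ≫ w.hom) :=
    c' ▸ Groth.Agent.S10631.result ψ w iV hV' HV hwe
  have H2' : AlgSp.IsUnivFOThick (v.hom ≫ h.hom) j (a ≫ hZ'.hom) := H2
  obtain ⟨p, ⟨hp1, hp2⟩, -⟩ := H2'.2.2 V.property V'.property iV.hom (𝟙 _) (hV'.hom ≫ w.hom) H1.1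
    (by rw [Category.id_comp, H1.2.1])
  obtain ⟨q, ⟨hq1, hq2⟩, -⟩ := H1.2.2 V.property hV'' j (𝟙 _) (a ≫ hZ'.hom) H2'.1
    (by rw [Category.id_comp, H2'.2.1])
  rw [Category.id_comp] at hp1 hq1
  have hpq : p ≫ q = 𝟙 _ := (H1.2.2 V.property V'.property iV.hom (𝟙 _) (hV'.hom ≫ w.hom) H1.1
    (by rw [Category.id_comp, H1.2.1])).unique
    ⟨by rw [reassoc_of% hp1, hq1, Category.id_comp], by rw [Category.assoc, hq2, hp2]⟩
    ⟨by rw [Category.comp_id, Category.id_comp], Category.id_comp _⟩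
  have hqp : q ≫ p = 𝟙 _ := (H2'.2.2 V.property hV'' j (𝟙 _) (a ≫ hZ'.hom) H2'.1
    (by rw [Category.id_comp, H2'.2.1])).unique
    ⟨by rw [reassoc_of% hq1, hp1, Category.id_comp], by rw [Category.assoc, hp2, hq2]⟩
    ⟨by rw [Category.comp_id, Category.id_comp], Category.id_comp _⟩
  have : IsIso p := ⟨q, hpq, hqp⟩
  have he : e'.hom = p ≫ a := by
    have e1 : iV.hom ≫ e'.hom = v.hom ≫ iZ.hom := congrArg (fun m => m.hom) h1
    have e2 : e'.hom ≫ hZ'.hom = hV'.hom ≫ w.hom := congrArg (fun m => m.hom) h2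
    exact (HZ.2.2 V.property V'.property iV.hom v.hom (hV'.hom ≫ w.hom) H1.1 H1.2.1).unique
      ⟨e1, e2⟩ ⟨by rw [reassoc_of% hp1, ← sq.w], by rw [Category.assoc, hp2]⟩
  rw [he]
  intro W φ hφ
  rw [← Category.assoc]
  exact ha _ (Groth.Agent.AlgSpLib.repWith_comp hφ (Groth.Agent.AlgSpLib.repWith_of_isIso p))

end Groth.Agent.S10638
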