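import Groth.Statements.S10640
import Groth.Agent.S10312
import Groth.Agent.AlgSpLib.Subspace
import Groth.Agent.UnivInjMor.MonoUnram

set_option autoImplicit false
universe u
open CategoryTheory CategoryTheory.Limits AlgebraicGeometry
open AlgSp

namespace Groth.Agent.S10640

set_option backward.isDefEq.respectTransparency false

open Groth.Agent.AlgSpLib

variable {S : Scheme.{u}}

/-- the diagonal of a morphism unramified on an open subset is open there -/
theorem isOpen_diag_image {X Y XX : Sp S} (hX : IsAlgSpace X) (hY : IsAlgSpace Y) (f : X ⟶ Y)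
    {pr0 pr1 : XX ⟶ X} (hXX : IsPullback pr0 pr1 f f) {U : Set (Points X)} (hU : IsOpen U)
    (hl : LocP (@LocallyOfFiniteType ⊓ @FormallyUnramified) (subInc U ≫ f)) :
    IsOpen (Points.map (hXX.lift (𝟙 X) (𝟙 X) rfl) '' U) := by
  have hXXa := isAlgSpace_of_isPullback_space hY hX hX hXX
  have hj : RepWith @IsOpenImmersion (subInc U) := repWith_subInc hU
  have hXu := isAlgSpace_subSheaf hX hU
  let e := pullback.fst pr0 (subInc U) ≫ pr1
  have sA := IsPullback.of_hasPullback pr0 (subInc U)
  have sA' : IsPullback (pullback.snd pr0 (subInc U)) e (subInc U ≫ f) f := sA.flip.paste_vert hXX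
  have sB := IsPullback.of_hasPullback e (subInc U)
  have sB' : IsPullback (pullback.fst e (subInc U) ≫ pullback.snd pr0 (subInc U)) (pullback.snd e (subInc U))
      (subInc U ≫ f) (subInc U ≫ f) := sB.paste_horiz sA'
  have hm : RepWith @IsOpenImmersion (pullback.fst e (subInc U) ≫ pullback.fst pr0 (subInc U)) :=
    repWith_comp (repWith_baseChange sB.flip hj) (repWith_baseChange sA.flip hj)
  let ψ := (IsPullback.of_hasPullback (subInc U ≫ f) (subInc U ≫ f)).isoIsPullback _ _ sB'
  have hd : RepWith @IsOpenImmersion (pullback.diagonal (subInc U ≫ f)) :=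
    UnivInjMor.repWith_diagonal_of_unramified hXu hY _ hl
  have hc : RepWith @IsOpenImmersion ((pullback.diagonal (subInc U ≫ f) ≫ ψ.hom) ≫
      (pullback.fst e (subInc U) ≫ pullback.fst pr0 (subInc U))) :=
    repWith_comp ((repWith_comp_iso_iff _ ψ.hom).2 hd) hm
  have he : (pullback.diagonal (subInc U ≫ f) ≫ ψ.hom) ≫
      (pullback.fst e (subInc U) ≫ pullback.fst pr0 (subInc U)) = subInc U ≫ hXX.lift (𝟙 X) (𝟙 X) rfl := by
    have h1 : (pullback.diagonal (subInc U ≫ f) ≫ ψ.hom) ≫ pullback.fst e (subInc U) ≫ pullback.snd pr0 (subInc U) = 𝟙 _ := by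
      rw [Category.assoc, IsPullback.isoIsPullback_hom_fst, pullback.diagonal_fst]
    have h2 : (pullback.diagonal (subInc U ≫ f) ≫ ψ.hom) ≫ pullback.snd e (subInc U) = 𝟙 _ := by
      rw [Category.assoc, IsPullback.isoIsPullback_hom_snd, pullback.diagonal_snd]
    refine hXX.hom_ext ?_ ?_
    · simp only [Category.assoc]
      rw [sA.w, hXX.lift_fst, Category.comp_id]
      have k := (congrArg (· ≫ subInc U) h1).trans (Category.id_comp _)
      simpa only [Category.assoc] using k
    · simp only [Category.assoc]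
      rw [show pullback.fst e (subInc U) ≫ pullback.fst pr0 (subInc U) ≫ pr1 = _ from sB.w, hXX.lift_snd,
        Category.comp_id, ← Category.assoc ψ.hom, ← Category.assoc]
      rw [show pullback.diagonal (subInc U ≫ f) ≫ ψ.hom ≫ pullback.snd e (subInc U) = 𝟙 _ from (Category.assoc _ _ _).symm.trans h2,
        Category.id_comp]
  rw [he] at hc
  have hE := (isEtaleMor_iff_locP hXXa).1 (isEtaleMor_of_repWith' (repWith_mono (fun _ _ r hr => by
    have : IsOpenImmersion r := hr
    exact (inferInstance : Etale r)) hc))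
  have h := (isOpenMap_map_of_flat_lfp hXu hXXa _ (fun A B a b c ha hb e => etST_flat.of_etale _ (hE a b c ha hb e))
    (fun A B a b c ha hb e => etST_lfp.of_etale _ (hE a b c ha hb e))).isOpen_range
  convert h using 1
  ext t
  constructor
  · rintro ⟨x, hx, rfl⟩
    rw [← range_subInc U] at hx
    obtain ⟨y, rfl⟩ := hx
    exact ⟨y, (Points.map_comp _ _ y)⟩
  · rintro ⟨y, rfl⟩
    exact ⟨_, map_subInc_mem y, (Points.map_comp _ _ y).symm⟩

end Groth.Agent.S10640

namespace Groth.Agent.S10640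

/-- For morphisms f : X ⟶ Y, p : X ⟶ Z and q : Y ⟶ Z of algebraic spaces over S with f ≫ q = p, write XX
= X ×_Y X with projections pr0, pr1, and assume that p is closed and locally of finite type and that
the composite XX ⟶ X ⟶ Z (through pr1 and p) is closed as well. Then there is an open subspace W of
Z with the following property: a morphism of algebraic spaces g : Z' ⟶ Z factors through W exactly
when the base change X' ⟶ Y' of f along g is unramified and universally injective. Here the base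
change of f along g is any f' : X' ⟶ Y' obtained from pullback squares Y' = Y ×_Z Z' and X' = X ×_Y
Y' of algebraic spaces over S, and W ⊂ Z is given as a representable open immersion w : W ⟶ Z. -/
theorem result {S : Scheme.{u}} {X Y Z : AlgSp.Space S}
    (f : X ⟶ Y) (p : X ⟶ Z) (q : Y ⟶ Z) (hc : f ≫ q = p)
    (XX : AlgSp.Space S) (pr0 pr1 : XX ⟶ X) (hXX : IsPullback pr0.hom pr1.hom f.hom f.hom)
    (hp1 : AlgSp.LocP @LocallyOfFiniteType p.hom) (hp2 : AlgSp.IsClosedMor p.hom)
    (hp3 : AlgSp.IsClosedMor (pr1 ≫ p).hom) :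
    ∃ (W : AlgSp.Space S) (w : W ⟶ Z), AlgSp.RepWith @IsOpenImmersion w.hom ∧
      ∀ (Z' : AlgSp.Space S) (g : Z' ⟶ Z),
        (∃ k : Z' ⟶ W, k ≫ w = g) ↔
          ∀ (Y' : AlgSp.Space S) (gY : Y' ⟶ Y) (q' : Y' ⟶ Z'),
            IsPullback gY.hom q'.hom q.hom g.hom →
            ∀ (X' : AlgSp.Space S) (gX : X' ⟶ X) (f' : X' ⟶ Y'),
              IsPullback gX.hom f'.hom f.hom gY.hom →
                (AlgSp.LocP (@LocallyOfFiniteType ⊓ @FormallyUnramified) f'.hom ∧ AlgSp.IsUnivInjectiveMor f'.hom) := by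
  have c' : f.hom ≫ q.hom = p.hom := congrArg (fun m => m.hom) hc
  have hu := fun {Y' X' : AlgSp.Sp S} (hY' : AlgSp.IsAlgSpace Y') (hX' : AlgSp.IsAlgSpace X') (a : Y' ⟶ Y.obj)
      (b : X' ⟶ X.obj) (f' : X' ⟶ Y') (sq : IsPullback b f' f.hom a) =>
    Groth.Agent.S10312.main X.property Y.property Z.property hY' hX' f.hom q.hom (by rw [c']; exact hp1) a b f' sq
  obtain ⟨U, hUdef⟩ : ∃ U : Set (AlgSp.Points X.obj), U = {x | AlgSp.HasAtMor (fun U _ h u => ∃ W : U.Opens, u ∈ W ∧
      LocallyOfFiniteType (W.ι ≫ h) ∧ FormallyUnramified (W.ι ≫ h)) f.hom x} := ⟨_, rfl⟩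
  have hU : IsOpen U := by
    rw [hUdef]
    exact (hu Y.property X.property (𝟙 _) (𝟙 _) f.hom (IsPullback.of_horiz_isIso ⟨by simp⟩)).1
  let d := hXX.lift (𝟙 X.obj) (𝟙 X.obj) rfl
  have hUu : AlgSp.LocP (@LocallyOfFiniteType ⊓ @FormallyUnramified) (Groth.Agent.AlgSpLib.subInc U ≫ f.hom) := by
    have hXu := Groth.Agent.AlgSpLib.isAlgSpace_subSheaf X.property hU
    refine (Groth.Agent.AlgSpLib.locP_iff_forall_hasAtMor Groth.Agent.AlgSpLib.etST_unramified hXu Y.property _).2
      fun x => ?_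
    have hx := Groth.Agent.AlgSpLib.map_subInc_mem x
    obtain ⟨A, B, a, b, h, u, ha, hb, comm, hu', W, huW, hW⟩ := (Set.ext_iff.1 hUdef _).1 hx
    obtain ⟨A₀, z, v, sqv, hv⟩ := Groth.Agent.AlgSpLib.exists_repWith (Groth.Agent.AlgSpLib.repWith_subInc hU) a
    have : IsOpenImmersion v.left := hv
    obtain ⟨w, hw₁, hw₂⟩ := Groth.Agent.AlgSpLib.exists_point_of_isPullback sqv x (AlgSp.Points.ofScheme A u)
      (by rw [← AlgSp.Points.ofPt_eq_map_ofScheme, hu'])
    obtain ⟨w, rfl⟩ := (AlgSp.Points.schemeEquiv A₀).surjective w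
    have hw : v.left w = u := (AlgSp.Points.schemeEquiv A).injective
      (((AlgSp.Points.ofPt_eq_map_ofScheme _ w).symm.trans (Groth.Agent.AlgSpLib.ofScheme_map v w)).symm.trans hw₂)
    refine ⟨A₀, B, z, b, v ≫ h, w, Groth.Agent.AlgSpLib.repWith_baseChange sqv.flip ha, hb, ?_,
      (AlgSp.Points.ofPt_eq_map_ofScheme z w).trans hw₁, v.left ⁻¹ᵁ W, show v.left w ∈ W by rw [hw]; exact huW, ?_⟩
    · rw [sqv.w_assoc, comm, Functor.map_comp, Category.assoc]
    · rw [Over.comp_left, ← morphismRestrict_ι_assoc]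
      exact ⟨MorphismProperty.comp_mem @LocallyOfFiniteType _ _ inferInstance hW.1,
        MorphismProperty.comp_mem @FormallyUnramified _ _ inferInstance hW.2⟩
  have hD : IsOpen (AlgSp.Points.map d '' U) := isOpen_diag_image X.property Y.property f.hom hXX hU hUu
  have hW : IsOpen (AlgSp.Points.map (pr1 ≫ p).hom '' (AlgSp.Points.map d '' U)ᶜ)ᶜ :=
    (hp3 _ hD.isClosed_compl).isOpen_compl
  refine ⟨⟨_, Groth.Agent.AlgSpLib.isAlgSpace_subSheaf Z.property hW⟩,
    ObjectProperty.homMk (Groth.Agent.AlgSpLib.subInc _), Groth.Agent.AlgSpLib.repWith_subInc hW, fun Z' g => ?_⟩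
  have hfac := Groth.Agent.AlgSpLib.exists_factor_iff (Groth.Agent.AlgSpLib.isAlgSpace_subSheaf Z.property hW)
    Z.property _ (Groth.Agent.AlgSpLib.repWith_subInc hW) g.hom
  rw [Groth.Agent.AlgSpLib.range_subInc] at hfac
  have hd1 : d ≫ pr1.hom = 𝟙 _ := hXX.lift_snd _ _ _
  -- the self product of the base change over the self product
  have key : ∀ {Y' X' : AlgSp.Sp S} (hY' : AlgSp.IsAlgSpace Y') (hX' : AlgSp.IsAlgSpace X') (gY : Y' ⟶ Y.obj)
      (q' : Y' ⟶ Z'.obj) (gX : X' ⟶ X.obj) (f' : X' ⟶ Y'), IsPullback gY q' q.hom g.hom →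
      IsPullback gX f' f.hom gY →
      ((AlgSp.LocP (@LocallyOfFiniteType ⊓ @FormallyUnramified) f' ∧ AlgSp.IsUnivInjectiveMor f') ↔
        ∀ z t, AlgSp.Points.map (pr1.hom ≫ p.hom) t = AlgSp.Points.map g.hom z → t ∈ AlgSp.Points.map d '' U) := by
    intro Y' X' hY' hX' gY q' gX f' hY hX
    let bb := hXX.lift (pullback.fst f' f' ≫ gX) (pullback.snd f' f' ≫ gX)
      (by rw [Category.assoc, Category.assoc, hX.w, pullback.condition_assoc])
    have s₁ : IsPullback bb (pullback.snd f' f') pr1.hom gX :=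
      IsPullback.of_right (by rw [hXX.lift_fst, hX.w]; exact (IsPullback.of_hasPullback f' f').paste_horiz hX)
        (hXX.lift_snd _ _ _) hXX
    have s₂ : IsPullback bb (pullback.snd f' f' ≫ f' ≫ q') (pr1.hom ≫ p.hom) g.hom := by
      rw [← c']; exact s₁.paste_vert (hX.paste_vert hY)
    have hdd : pullback.diagonal f' ≫ bb = gX ≫ d := by
      refine hXX.hom_ext ?_ ?_
      · rw [Category.assoc, hXX.lift_fst, pullback.diagonal_fst_assoc, Category.assoc, hXX.lift_fst, Category.comp_id]
      · rw [Category.assoc, hXX.lift_snd, pullback.diagonal_snd_assoc, Category.assoc, hXX.lift_snd, Category.comp_id]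
    have hrec : ∀ x', AlgSp.Points.map d (AlgSp.Points.map gX x') ∈ AlgSp.Points.map d '' U →
        AlgSp.Points.map gX x' ∈ U := by
      rintro x' ⟨x, hx, e⟩
      have e' := congrArg (AlgSp.Points.map pr1.hom) e
      rw [← AlgSp.Points.map_comp, ← AlgSp.Points.map_comp, hd1, AlgSp.Points.map_id, AlgSp.Points.map_id] at e'
      exact e' ▸ hx
    constructor
    · rintro ⟨h1, h2⟩ z t e
      obtain ⟨t', rfl, -⟩ := Groth.Agent.AlgSpLib.exists_point_of_isPullback s₂ t z e
      obtain ⟨x', rfl⟩ := (Groth.Agent.UnivInjMor.isUnivInjectiveMor_iff_diagonal hX' f').1 h2 t'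
      refine ⟨AlgSp.Points.map gX x', ?_, by rw [← AlgSp.Points.map_comp, ← AlgSp.Points.map_comp, hdd]⟩
      rw [hUdef]
      exact (Set.ext_iff.1 (hu hY' hX' gY gX f' hX).2 x').1
        ((Groth.Agent.AlgSpLib.locP_iff_forall_hasAtMor Groth.Agent.AlgSpLib.etST_unramified hX' hY' _).1 h1 x')
    · intro H
      have hb : ∀ t', AlgSp.Points.map bb t' ∈ AlgSp.Points.map d '' U := fun t' =>
        H (AlgSp.Points.map (pullback.snd f' f' ≫ f' ≫ q') t') _ (by
          rw [← AlgSp.Points.map_comp, ← AlgSp.Points.map_comp, s₂.w])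
      refine ⟨(Groth.Agent.AlgSpLib.locP_iff_forall_hasAtMor Groth.Agent.AlgSpLib.etST_unramified hX' hY' _).2
        fun x' => (Set.ext_iff.1 (hu hY' hX' gY gX f' hX).2 x').2 ?_,
        (Groth.Agent.UnivInjMor.isUnivInjectiveMor_iff_diagonal hX' f').2 fun t' => ?_⟩
      · have := hb (AlgSp.Points.map (pullback.diagonal f') x')
        rw [← AlgSp.Points.map_comp, hdd, AlgSp.Points.map_comp] at this
        have h3 := hrec x' this
        rw [hUdef] at h3
        exact h3
      · obtain ⟨x, -, hx⟩ := hb t'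
        have sd : IsPullback gX (pullback.diagonal f') d bb := by
          refine Groth.Agent.AlgSpLib.isPullback_of_points hdd.symm fun T a t e => ?_
          have e1 : t ≫ pullback.fst f' f' ≫ gX = a := by
            have := congrArg (fun m => m ≫ pr0.hom) e
            simpa [d, bb] using this.symm
          have e2 : t ≫ pullback.snd f' f' ≫ gX = a := by
            have := congrArg (fun m => m ≫ pr1.hom) e
            simpa [d, bb] using this.symm
          refine ⟨t ≫ pullback.fst f' f', ⟨by rw [Category.assoc, e1], pullback.hom_ext ?_ ?_⟩, fun y hy => ?_⟩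
          · rw [Category.assoc, pullback.diagonal_fst, Category.comp_id]
          · rw [Category.assoc, pullback.diagonal_snd, Category.comp_id]
            refine hX.hom_ext ?_ ?_
            · rw [Category.assoc, e1, Category.assoc, e2]
            · rw [Category.assoc, Category.assoc, pullback.condition]
          · rw [← hy.2, Category.assoc, pullback.diagonal_fst, Category.comp_id]
        obtain ⟨x', -, hx'⟩ := Groth.Agent.AlgSpLib.exists_point_of_isPullback sd x t' hx
        exact ⟨x', hx'⟩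
  constructor
  · rintro ⟨k, rfl⟩ Y' gY q' hY X' gX f' hX
    refine (key Y'.property X'.property gY.hom q'.hom gX.hom f'.hom hY hX).2 fun z t e => ?_
    by_contra hn
    exact (hfac.1 ⟨k.hom, rfl⟩ ⟨z, rfl⟩) ⟨t, hn, e⟩
  · intro H
    have sY := IsPullback.of_hasPullback q.hom g.hom
    have hY' := Groth.Agent.AlgSpLib.isAlgSpace_of_isPullback_space Z.property Y.property Z'.property sY
    have sX := IsPullback.of_hasPullback f.hom (pullback.fst q.hom g.hom)
    have hX' := Groth.Agent.AlgSpLib.isAlgSpace_of_isPullback_space Y.property X.property hY' sX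
    have hl := H ⟨_, hY'⟩ (ObjectProperty.homMk (pullback.fst q.hom g.hom)) (ObjectProperty.homMk (pullback.snd q.hom g.hom))
      sY ⟨_, hX'⟩ (ObjectProperty.homMk (pullback.fst f.hom (pullback.fst q.hom g.hom)))
      (ObjectProperty.homMk (pullback.snd f.hom (pullback.fst q.hom g.hom))) sX
    obtain ⟨k, hk⟩ := hfac.2 (by
      rintro _ ⟨z, rfl⟩ ⟨t, ht, e⟩
      exact ht ((key hY' hX' _ _ _ _ sY sX).1 hl z t e))
    exact ⟨ObjectProperty.homMk k, ObjectProperty.hom_ext _ hk⟩

end Groth.Agent.S10640
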