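import Groth.Statements.S10641
import Groth.Agent.S10640
import Groth.Agent.AlgSpLib.ProperRange

set_option autoImplicit false
universe u
open CategoryTheory CategoryTheory.Limits AlgebraicGeometry
open AlgSp

namespace Groth.Agent.S10641

/-- For morphisms f : X ⟶ Y, p : X ⟶ Z and q : Y ⟶ Z of algebraic spaces over S with f ≫ q = p, where p
is universally closed and locally of finite type and q is separated, there is an open subspace W of
Z with the following property: a morphism of algebraic spaces g : Z' ⟶ Z factors through W exactly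
when the base change X' ⟶ Y' of f along g is a closed immersion (representable, and a closed
immersion on every represented pullback). Here the base change of f along g is any f' : X' ⟶ Y'
obtained from pullback squares Y' = Y ×_Z Z' and X' = X ×_Y Y' of algebraic spaces over S, and W ⊂ Z
is given as a representable open immersion w : W ⟶ Z. -/
theorem result {S : Scheme.{u}} {X Y Z : AlgSp.Space S}
    (f : X ⟶ Y) (p : X ⟶ Z) (q : Y ⟶ Z) (hc : f ≫ q = p)
    (hp1 : AlgSp.LocP @LocallyOfFiniteType p.hom) (hp2 : AlgSp.IsUnivClosedMor p.hom)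
    (hq : AlgSp.IsSeparatedMor q.hom) :
    ∃ (W : AlgSp.Space S) (w : W ⟶ Z), AlgSp.RepWith @IsOpenImmersion w.hom ∧
      ∀ (Z' : AlgSp.Space S) (g : Z' ⟶ Z),
        (∃ k : Z' ⟶ W, k ≫ w = g) ↔
          ∀ (Y' : AlgSp.Space S) (gY : Y' ⟶ Y) (q' : Y' ⟶ Z'),
            IsPullback gY.hom q'.hom q.hom g.hom →
            ∀ (X' : AlgSp.Space S) (gX : X' ⟶ X) (f' : X' ⟶ Y'),
              IsPullback gX.hom f'.hom f.hom gY.hom →
                AlgSp.RepWith @IsClosedImmersion f'.hom := by
  have c' : f.hom ≫ q.hom = p.hom := congrArg (fun m => m.hom) hc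
  have hfc : AlgSp.IsUnivClosedMor f.hom :=
    ((Groth.Agent.AlgSpLib.isUnivClosedMor_and_proper_of_comp X.property Y.property Z.property f.hom p.hom q.hom c' hq).1
      hp2).1
  have sXX := IsPullback.of_hasPullback f.hom f.hom
  have hXX := Groth.Agent.AlgSpLib.isAlgSpace_of_isPullback_space Y.property X.property X.property sXX
  have hpr : AlgSp.IsClosedMor (pullback.snd f.hom f.hom ≫ p.hom) := by
    have h1 : IsClosedMap (AlgSp.Points.map (pullback.snd f.hom f.hom)) := hfc X.property f.hom _ _ sXX
    have h2 : IsClosedMap (AlgSp.Points.map p.hom) :=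
      hp2 Z.property (𝟙 _) (𝟙 _) p.hom (IsPullback.of_horiz_isIso ⟨by simp⟩)
    show IsClosedMap (AlgSp.Points.map (pullback.snd f.hom f.hom ≫ p.hom))
    rw [show AlgSp.Points.map (pullback.snd f.hom f.hom ≫ p.hom) =
      AlgSp.Points.map p.hom ∘ AlgSp.Points.map (pullback.snd f.hom f.hom) from
        funext fun x => AlgSp.Points.map_comp _ _ x]
    exact h2.comp h1
  obtain ⟨W, w, hw, H⟩ := Groth.Agent.S10640.result f p q hc ⟨_, hXX⟩ (ObjectProperty.homMk (pullback.fst f.hom f.hom))
    (ObjectProperty.homMk (pullback.snd f.hom f.hom)) sXX hp1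
    (hp2 Z.property (𝟙 _) (𝟙 _) p.hom (IsPullback.of_horiz_isIso ⟨by simp⟩)) hpr
  refine ⟨W, w, hw, fun Z' g => (H Z' g).trans ?_⟩
  refine forall₄_congr fun Y' gY q' hY => forall₄_congr fun X' gX f' hX => ⟨fun ⟨h1, h2⟩ => ?_, fun h => ?_⟩
  · have := Groth.Agent.UnivInjMor.mono_of_unramified_univInj X'.property Y'.property f'.hom h1 h2
    have hp' : AlgSp.IsUnivClosedMor (f'.hom ≫ q'.hom) := by
      have sq : IsPullback gX.hom (f'.hom ≫ q'.hom) p.hom g.hom := by rw [← c']; exact hX.paste_vert hY
      intro T T' hT a fst snd sq'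
      exact hp2 hT (a ≫ g.hom) (fst ≫ gX.hom) snd (sq'.paste_horiz sq)
    exact Groth.Agent.UnivInjMor.closedImmersion_of_mono X'.property Y'.property f'.hom
      (fun A B a b h ha hb e => (h1 a b h ha hb e).1)
      ((Groth.Agent.AlgSpLib.isUnivClosedMor_and_proper_of_comp X'.property Y'.property Z'.property f'.hom _ q'.hom rfl
        (Groth.Agent.AlgSpLib.isSeparatedMor_baseChange hY hq)).1 hp').1
  · obtain ⟨hm, hl, -⟩ := Groth.Agent.UnivInjMor.closedImmersion_props X'.property Y'.property f'.hom h
    exact ⟨Groth.Agent.UnivInjMor.unramified_of_mono X'.property Y'.property f'.hom hl,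
      Groth.Agent.UnivInjMor.isUnivInjectiveMor_of_mono X'.property f'.hom⟩

end Groth.Agent.S10641
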