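import Groth.Statements.S10642
import Groth.Agent.FlatLocusSp.Basic
import Groth.Agent.AlgSpLib.Subspace

set_option autoImplicit false
universe u
open CategoryTheory CategoryTheory.Limits AlgebraicGeometry
open AlgSp

namespace Groth.Agent.S10642

/-- For morphisms f : X ⟶ Y, p : X ⟶ Z and q : Y ⟶ Z of algebraic spaces over S with f ≫ q = p, where p
is flat, closed and locally of finite presentation and q is locally of finite type, there is an open
subspace W of Z with the following property: a morphism of algebraic spaces g : Z' ⟶ Z factors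
through W exactly when the base change X' ⟶ Y' of f along g is flat. Here the base change of f along
g is any f' : X' ⟶ Y' obtained from pullback squares Y' = Y ×_Z Z' and X' = X ×_Y Y' of algebraic
spaces over S, and W ⊂ Z is given as a representable open immersion w : W ⟶ Z. -/
theorem result {S : Scheme.{u}} {X Y Z : AlgSp.Space S}
    (f : X ⟶ Y) (p : X ⟶ Z) (q : Y ⟶ Z) (hc : f ≫ q = p)
    (hp1 : AlgSp.LocP @LocallyOfFinitePresentation p.hom) (hp2 : AlgSp.LocP @Flat p.hom)
    (hp3 : AlgSp.IsClosedMor p.hom) (hq : AlgSp.LocP @LocallyOfFiniteType q.hom) :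
    ∃ (W : AlgSp.Space S) (w : W ⟶ Z), AlgSp.RepWith @IsOpenImmersion w.hom ∧
      ∀ (Z' : AlgSp.Space S) (g : Z' ⟶ Z),
        (∃ k : Z' ⟶ W, k ≫ w = g) ↔
          ∀ (Y' : AlgSp.Space S) (gY : Y' ⟶ Y) (q' : Y' ⟶ Z'),
            IsPullback gY.hom q'.hom q.hom g.hom →
            ∀ (X' : AlgSp.Space S) (gX : X' ⟶ X) (f' : X' ⟶ Y'),
              IsPullback gX.hom f'.hom f.hom gY.hom →
                AlgSp.LocP @Flat f'.hom := by
  have c' : f.hom ≫ q.hom = p.hom := congrArg (fun m => m.hom) hc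
  have hfp : AlgSp.LocP @LocallyOfFinitePresentation (f.hom ≫ q.hom) := by rw [c']; exact hp1
  have hfl : AlgSp.LocP @Flat (f.hom ≫ q.hom) := by rw [c']; exact hp2
  let U := {x : AlgSp.Points X.obj | AlgSp.IsFlatAtMor f.hom x}
  have hU : IsOpen U := Groth.Agent.FibreFlat.isOpen_flatLocus X.property Y.property Z.property f.hom q.hom hfp hq
  have hu := fun {Z' Y' X' : AlgSp.Space S} (g : Z' ⟶ Z) (gY : Y' ⟶ Y) (q' : Y' ⟶ Z')
      (hY : IsPullback gY.hom q'.hom q.hom g.hom) (gX : X' ⟶ X) (f' : X' ⟶ Y')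
      (hX : IsPullback gX.hom f'.hom f.hom gY.hom) =>
    Set.ext_iff.1 (Groth.Agent.FibreFlat.flatLocus_baseChange X.property Y.property Z.property X'.property Y'.property
      Z'.property hfp hfl hq hY hX)
  have hW : IsOpen (AlgSp.Points.map p.hom '' Uᶜ)ᶜ := (hp3 _ hU.isClosed_compl).isOpen_compl
  refine ⟨⟨_, Groth.Agent.AlgSpLib.isAlgSpace_subSheaf Z.property hW⟩,
    ObjectProperty.homMk (Groth.Agent.AlgSpLib.subInc _), Groth.Agent.AlgSpLib.repWith_subInc hW, fun Z' g => ?_⟩
  have hfac := Groth.Agent.AlgSpLib.exists_factor_iff (Groth.Agent.AlgSpLib.isAlgSpace_subSheaf Z.property hW)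
    Z.property _ (Groth.Agent.AlgSpLib.repWith_subInc hW) g.hom
  rw [Groth.Agent.AlgSpLib.range_subInc] at hfac
  constructor
  · rintro ⟨k, rfl⟩ Y' gY q' hY X' gX f' hX
    refine (Groth.Agent.FlatLocusSp.flat_iff_forall_flatAt X'.property Y'.property _).2 fun x' =>
      (hu _ gY q' hY gX f' hX x').2 ?_
    by_contra hn
    have h2 : AlgSp.Points.map (k ≫ ObjectProperty.homMk (Groth.Agent.AlgSpLib.subInc _)).hom
        (AlgSp.Points.map (f'.hom ≫ q'.hom) x') ∈ AlgSp.Points.map p.hom '' Uᶜ := by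
      refine ⟨AlgSp.Points.map gX.hom x', hn, ?_⟩
      rw [← AlgSp.Points.map_comp, ← AlgSp.Points.map_comp, ← (hX.paste_vert hY).w]
      exact congrArg (fun m => AlgSp.Points.map m x') (congrArg (gX.hom ≫ ·) c'.symm)
    exact (hfac.1 ⟨k.hom, rfl⟩ ⟨_, rfl⟩) h2
  · intro H
    have sY := IsPullback.of_hasPullback q.hom g.hom
    have hY' := Groth.Agent.AlgSpLib.isAlgSpace_of_isPullback_space Z.property Y.property Z'.property sY
    have sX := IsPullback.of_hasPullback f.hom (pullback.fst q.hom g.hom)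
    have hX' := Groth.Agent.AlgSpLib.isAlgSpace_of_isPullback_space Y.property X.property hY' sX
    have hl := H ⟨_, hY'⟩ (ObjectProperty.homMk (pullback.fst q.hom g.hom)) (ObjectProperty.homMk (pullback.snd q.hom g.hom))
      sY ⟨_, hX'⟩ (ObjectProperty.homMk (pullback.fst f.hom (pullback.fst q.hom g.hom)))
      (ObjectProperty.homMk (pullback.snd f.hom (pullback.fst q.hom g.hom))) sX
    obtain ⟨k, hk⟩ := hfac.2 (by
      rintro _ ⟨z, rfl⟩ ⟨x, hxU, hxz⟩
      obtain ⟨x', hx', -⟩ := Groth.Agent.AlgSpLib.exists_point_of_isPullback (sX.paste_vert sY) x z (by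
        rw [c']; exact hxz)
      refine hxU ?_
      rw [← hx']
      exact (hu (Y' := ⟨_, hY'⟩) (X' := ⟨_, hX'⟩) g (ObjectProperty.homMk _) (ObjectProperty.homMk _) sY
        (ObjectProperty.homMk _) (ObjectProperty.homMk _) sX x').1
        ((Groth.Agent.FlatLocusSp.flat_iff_forall_flatAt hX' hY' _).1 hl x'))
    exact ⟨ObjectProperty.homMk k, ObjectProperty.hom_ext _ hk⟩

end Groth.Agent.S10642
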