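import Groth.Statements.S10643
import Groth.Agent.S10642

set_option autoImplicit false
universe u
open CategoryTheory CategoryTheory.Limits AlgebraicGeometry
open AlgSp

namespace Groth.Agent.S10643

/-- For morphisms f : X ⟶ Y, p : X ⟶ Z and q : Y ⟶ Z of algebraic spaces over S with f ≫ q = p, where p
is flat, closed and locally of finite presentation and q is closed and locally of finite type, there
is an open subspace W of Z with the following property: a morphism of algebraic spaces g : Z' ⟶ Z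
factors through W exactly when the base change X' ⟶ Y' of f along g is flat and surjective (on
points). Here the base change of f along g is any f' : X' ⟶ Y' obtained from pullback squares Y' = Y
×_Z Z' and X' = X ×_Y Y' of algebraic spaces over S, and W ⊂ Z is given as a representable open
immersion w : W ⟶ Z. -/
theorem result {S : Scheme.{u}} {X Y Z : AlgSp.Space S}
    (f : X ⟶ Y) (p : X ⟶ Z) (q : Y ⟶ Z) (hc : f ≫ q = p)
    (hp1 : AlgSp.LocP @LocallyOfFinitePresentation p.hom) (hp2 : AlgSp.LocP @Flat p.hom)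
    (hp3 : AlgSp.IsClosedMor p.hom) (hq1 : AlgSp.LocP @LocallyOfFiniteType q.hom)
    (hq2 : AlgSp.IsClosedMor q.hom) :
    ∃ (W : AlgSp.Space S) (w : W ⟶ Z), AlgSp.RepWith @IsOpenImmersion w.hom ∧
      ∀ (Z' : AlgSp.Space S) (g : Z' ⟶ Z),
        (∃ k : Z' ⟶ W, k ≫ w = g) ↔
          ∀ (Y' : AlgSp.Space S) (gY : Y' ⟶ Y) (q' : Y' ⟶ Z'),
            IsPullback gY.hom q'.hom q.hom g.hom →
            ∀ (X' : AlgSp.Space S) (gX : X' ⟶ X) (f' : X' ⟶ Y'),
              IsPullback gX.hom f'.hom f.hom gY.hom →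
                (AlgSp.IsSurjectiveMor f'.hom ∧ AlgSp.LocP @Flat f'.hom) := by
  have c' : f.hom ≫ q.hom = p.hom := congrArg (fun m => m.hom) hc
  have hfp : AlgSp.LocP @LocallyOfFinitePresentation (f.hom ≫ q.hom) := by rw [c']; exact hp1
  have hfl : AlgSp.LocP @Flat (f.hom ≫ q.hom) := by rw [c']; exact hp2
  let U := {x : AlgSp.Points X.obj | AlgSp.IsFlatAtMor f.hom x}
  have hV : IsOpen (AlgSp.Points.map f.hom '' U) :=
    Groth.Agent.FlatLocusSp.isOpen_image_flatLocus X.property Y.property Z.property f.hom q.hom hfp hq1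
  obtain ⟨W₁, w₁, hw₁, H₁⟩ := Groth.Agent.S10642.result f p q hc hp1 hp2 hp3 hq1
  have hB : IsOpen (AlgSp.Points.map q.hom '' (AlgSp.Points.map f.hom '' U)ᶜ)ᶜ :=
    (hq2 _ hV.isClosed_compl).isOpen_compl
  let O := Set.range (AlgSp.Points.map w₁.hom) ∩ (AlgSp.Points.map q.hom '' (AlgSp.Points.map f.hom '' U)ᶜ)ᶜ
  have hO : IsOpen O := ((Groth.Agent.FlatLocusSp.isOpen_range_of_openImm W₁.property Z.property _ hw₁)).inter hB
  refine ⟨⟨_, Groth.Agent.AlgSpLib.isAlgSpace_subSheaf Z.property hO⟩,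
    ObjectProperty.homMk (Groth.Agent.AlgSpLib.subInc _), Groth.Agent.AlgSpLib.repWith_subInc hO, fun Z' g => ?_⟩
  have hfac := Groth.Agent.AlgSpLib.exists_factor_iff (Groth.Agent.AlgSpLib.isAlgSpace_subSheaf Z.property hO)
    Z.property _ (Groth.Agent.AlgSpLib.repWith_subInc hO) g.hom
  rw [Groth.Agent.AlgSpLib.range_subInc] at hfac
  have hfac₁ := Groth.Agent.AlgSpLib.exists_factor_iff W₁.property Z.property _ hw₁ g.hom
  constructor
  · rintro ⟨k, hk⟩ Y' gY q' hY X' gX f' hX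
    have hsub := hfac.1 ⟨k.hom, congrArg (fun m => m.hom) hk⟩
    obtain ⟨k₁, hk₁⟩ := hfac₁.2 (hsub.trans Set.inter_subset_left)
    refine ⟨fun y' => ?_, (H₁ Z' g).1 ⟨ObjectProperty.homMk k₁, ObjectProperty.hom_ext _ hk₁⟩ Y' gY q' hY X' gX f' hX⟩
    by_contra hn
    refine (hsub ⟨AlgSp.Points.map q'.hom y', rfl⟩).2 ⟨AlgSp.Points.map gY.hom y', ?_, ?_⟩
    · rintro ⟨x, -, hxy⟩
      obtain ⟨x', -, hx'⟩ := Groth.Agent.AlgSpLib.exists_point_of_isPullback hX x y' hxy
      exact hn ⟨x', hx'⟩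
    · rw [← AlgSp.Points.map_comp, ← AlgSp.Points.map_comp, hY.w]
  · intro H
    obtain ⟨k₁, hk₁⟩ := (H₁ Z' g).2 fun Y' gY q' hY X' gX f' hX => (H Y' gY q' hY X' gX f' hX).2
    have sY := IsPullback.of_hasPullback q.hom g.hom
    have hY' := Groth.Agent.AlgSpLib.isAlgSpace_of_isPullback_space Z.property Y.property Z'.property sY
    have sX := IsPullback.of_hasPullback f.hom (pullback.fst q.hom g.hom)
    have hX' := Groth.Agent.AlgSpLib.isAlgSpace_of_isPullback_space Y.property X.property hY' sX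
    obtain ⟨hs, hl⟩ := H ⟨_, hY'⟩ (ObjectProperty.homMk (pullback.fst q.hom g.hom))
      (ObjectProperty.homMk (pullback.snd q.hom g.hom)) sY ⟨_, hX'⟩
      (ObjectProperty.homMk (pullback.fst f.hom (pullback.fst q.hom g.hom)))
      (ObjectProperty.homMk (pullback.snd f.hom (pullback.fst q.hom g.hom))) sX
    obtain ⟨k, hk⟩ := hfac.2 (by
      rintro _ ⟨z, rfl⟩
      refine ⟨hfac₁.1 ⟨k₁.hom, congrArg (fun m => m.hom) hk₁⟩ ⟨z, rfl⟩, fun ⟨y, hyV, hyz⟩ => ?_⟩
      obtain ⟨y', hy', -⟩ := Groth.Agent.AlgSpLib.exists_point_of_isPullback sY y z hyz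
      obtain ⟨x', hx'⟩ := hs y'
      have hflat := (Groth.Agent.FlatLocusSp.flat_iff_forall_flatAt hX' hY' _).1 hl x'
      refine hyV ⟨_, (Set.ext_iff.1 (Groth.Agent.FibreFlat.flatLocus_baseChange X.property Y.property Z.property
        hX' hY' Z'.property hfp hfl hq1 sY sX) x').1 hflat, ?_⟩
      rw [← AlgSp.Points.map_comp, sX.w, AlgSp.Points.map_comp, ← hy', ← hx']
      rfl)
    exact ⟨ObjectProperty.homMk k, ObjectProperty.hom_ext _ hk⟩

end Groth.Agent.S10643
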