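import Groth.Statements.S10644
import Groth.Agent.S10643
import Groth.Agent.S10641

set_option autoImplicit false
universe u
open CategoryTheory CategoryTheory.Limits AlgebraicGeometry
open AlgSp

namespace Groth.Agent.S10644

/-- For morphisms f : X ⟶ Y, p : X ⟶ Z and q : Y ⟶ Z of algebraic spaces over S with f ≫ q = p, where p
is flat, universally closed and locally of finite presentation and q is closed, separated and
locally of finite type, there is an open subspace W of Z with the following property: a morphism of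
algebraic spaces g : Z' ⟶ Z factors through W exactly when the base change X' ⟶ Y' of f along g is
an isomorphism. Here the base change of f along g is any f' : X' ⟶ Y' obtained from pullback squares
Y' = Y ×_Z Z' and X' = X ×_Y Y' of algebraic spaces over S, and W ⊂ Z is given as a representable
open immersion w : W ⟶ Z. -/
theorem result {S : Scheme.{u}} {X Y Z : AlgSp.Space S}
    (f : X ⟶ Y) (p : X ⟶ Z) (q : Y ⟶ Z) (hc : f ≫ q = p)
    (hp1 : AlgSp.LocP @LocallyOfFinitePresentation p.hom) (hp2 : AlgSp.LocP @Flat p.hom)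
    (hp3 : AlgSp.IsUnivClosedMor p.hom) (hq1 : AlgSp.LocP @LocallyOfFiniteType q.hom)
    (hq2 : AlgSp.IsClosedMor q.hom) (hq3 : AlgSp.IsSeparatedMor q.hom) :
    ∃ (W : AlgSp.Space S) (w : W ⟶ Z), AlgSp.RepWith @IsOpenImmersion w.hom ∧
      ∀ (Z' : AlgSp.Space S) (g : Z' ⟶ Z),
        (∃ k : Z' ⟶ W, k ≫ w = g) ↔
          ∀ (Y' : AlgSp.Space S) (gY : Y' ⟶ Y) (q' : Y' ⟶ Z'),
            IsPullback gY.hom q'.hom q.hom g.hom →
            ∀ (X' : AlgSp.Space S) (gX : X' ⟶ X) (f' : X' ⟶ Y'),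
              IsPullback gX.hom f'.hom f.hom gY.hom →
                IsIso f'.hom := by
  have hp3' : AlgSp.IsClosedMor p.hom := hp3 Z.property (𝟙 _) (𝟙 _) p.hom (IsPullback.of_horiz_isIso ⟨by simp⟩)
  have hpt : AlgSp.LocP @LocallyOfFiniteType p.hom := fun A B a b h ha hb e => by
    have : LocallyOfFinitePresentation h.left := hp1 a b h ha hb e
    exact (inferInstance : LocallyOfFiniteType h.left)
  obtain ⟨W₁, w₁, hw₁, H₁⟩ := Groth.Agent.S10643.result f p q hc hp1 hp2 hp3' hq1 hq2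
  obtain ⟨W₂, w₂, hw₂, H₂⟩ := Groth.Agent.S10641.result f p q hc hpt hp3 hq3
  let O := Set.range (AlgSp.Points.map w₁.hom) ∩ Set.range (AlgSp.Points.map w₂.hom)
  have hO : IsOpen O := (Groth.Agent.FlatLocusSp.isOpen_range_of_openImm W₁.property Z.property _ hw₁).inter
    (Groth.Agent.FlatLocusSp.isOpen_range_of_openImm W₂.property Z.property _ hw₂)
  refine ⟨⟨_, Groth.Agent.AlgSpLib.isAlgSpace_subSheaf Z.property hO⟩,
    ObjectProperty.homMk (Groth.Agent.AlgSpLib.subInc _), Groth.Agent.AlgSpLib.repWith_subInc hO, fun Z' g => ?_⟩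
  have hfac := Groth.Agent.AlgSpLib.exists_factor_iff (Groth.Agent.AlgSpLib.isAlgSpace_subSheaf Z.property hO)
    Z.property _ (Groth.Agent.AlgSpLib.repWith_subInc hO) g.hom
  rw [Groth.Agent.AlgSpLib.range_subInc] at hfac
  have hfac₁ := Groth.Agent.AlgSpLib.exists_factor_iff W₁.property Z.property _ hw₁ g.hom
  have hfac₂ := Groth.Agent.AlgSpLib.exists_factor_iff W₂.property Z.property _ hw₂ g.hom
  constructor
  · rintro ⟨k, hk⟩ Y' gY q' hY X' gX f' hX
    have hsub := hfac.1 ⟨k.hom, congrArg (fun m => m.hom) hk⟩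
    obtain ⟨k₁, hk₁⟩ := hfac₁.2 (hsub.trans Set.inter_subset_left)
    obtain ⟨k₂, hk₂⟩ := hfac₂.2 (hsub.trans Set.inter_subset_right)
    obtain ⟨hs, hfl⟩ := (H₁ Z' g).1 ⟨ObjectProperty.homMk k₁, ObjectProperty.hom_ext _ hk₁⟩ Y' gY q' hY X' gX f' hX
    have hci := (H₂ Z' g).1 ⟨ObjectProperty.homMk k₂, ObjectProperty.hom_ext _ hk₂⟩ Y' gY q' hY X' gX f' hX
    have hcp : AlgSp.LocP @LocallyOfFinitePresentation (f'.hom ≫ q'.hom) := by
      refine Groth.Agent.AlgSpLib.locP_baseChange Groth.Agent.AlgSpLib.etST_lfp X.property Z.property X'.property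
        Z'.property (hX.paste_vert hY) ?_
      rw [show f.hom ≫ q.hom = p.hom from congrArg (fun m => m.hom) hc]
      exact hp1
    exact Groth.Agent.FlatLocusSp.isIso_of_closed_flat_surjective X'.property Y'.property f'.hom hci hfl
      (Groth.Agent.FlatLocusSp.lfp_of_comp Z'.property hcp
        (Groth.Agent.AlgSpLib.locP_baseChange Groth.Agent.AlgSpLib.etST_lft Y.property Z.property Y'.property
          Z'.property hY hq1)) hs
  · intro H
    obtain ⟨k₁, hk₁⟩ := (H₁ Z' g).2 fun Y' gY q' hY X' gX f' hX => by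
      have := H Y' gY q' hY X' gX f' hX
      refine ⟨fun y => ⟨AlgSp.Points.map (inv f'.hom) y, by rw [← AlgSp.Points.map_comp, IsIso.inv_hom_id, AlgSp.Points.map_id]⟩, ?_⟩
      exact fun A B a b h ha hb e => Groth.Agent.AlgSpLib.etST_flat.of_etale _
        ((Groth.Agent.AlgSpLib.isEtaleMor_iff_locP Y'.property).1
          (Groth.Agent.AlgSpLib.isEtaleMor_of_repWith' (Groth.Agent.AlgSpLib.repWith_of_isIso _)) a b h ha hb e)
    obtain ⟨k₂, hk₂⟩ := (H₂ Z' g).2 fun Y' gY q' hY X' gX f' hX => by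
      have := H Y' gY q' hY X' gX f' hX
      exact Groth.Agent.AlgSpLib.repWith_of_isIso _
    obtain ⟨k, hk⟩ := hfac.2 fun z hz => ⟨hfac₁.1 ⟨k₁.hom, congrArg (fun m => m.hom) hk₁⟩ hz,
      hfac₂.1 ⟨k₂.hom, congrArg (fun m => m.hom) hk₂⟩ hz⟩
    exact ⟨ObjectProperty.homMk k, ObjectProperty.hom_ext _ hk⟩

end Groth.Agent.S10644
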