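import Groth.Statements.S10648
import Groth.Agent.SpApprox.ZMT

set_option autoImplicit false
universe u
open CategoryTheory CategoryTheory.Limits AlgebraicGeometry
open AlgSp

set_option linter.style.haveILetI false
set_option backward.isDefEq.respectTransparency false

namespace Groth.Agent.S10648

/-- A quasi-finite separated morphism f : X ⟶ Y of algebraic spaces over S which is moreover locally of
finite presentation, whose target Y is quasi-compact and quasi-separated, factors as a quasi-compact
representable open immersion j : X ⟶ T followed by a morphism π : T ⟶ Y which is finite and finitely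
presented. (The published statement asks Y to be quasi-separated in the absolute sense and puts no
condition on S; this row assumes S quasi-separated and Y quasi-separated over S, which together
imply it.) -/
theorem result {S : Scheme.{u}} [QuasiSeparatedSpace ↥S] {X Y : AlgSp.Space S} (f : X ⟶ Y)
    (hf1 : AlgSp.LocP (@LocallyQuasiFinite ⊓ @LocallyOfFiniteType) f.hom) (hf2 : AlgSp.IsQuasiCompactMor f.hom)
    (hf3 : AlgSp.IsSeparatedMor f.hom) (hf4 : AlgSp.LocP @LocallyOfFinitePresentation f.hom)
    (hY1 : AlgSp.IsQuasiCompactSp Y.obj) (hY2 : AlgSp.IsQuasiSeparatedSp Y.obj) :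
    ∃ (T : AlgSp.Space S) (j : X ⟶ T) (π : T ⟶ Y), j ≫ π = f ∧
      AlgSp.RepWith @IsOpenImmersion j.hom ∧ AlgSp.IsQuasiCompactMor j.hom ∧ AlgSp.IsFiniteMor π.hom ∧
        AlgSp.IsFinitePresentationMor π.hom := by
  exact SpApprox.exists_zmt_fp f hf1 hf2 hf3 hf4 hY1 hY2

end Groth.Agent.S10648
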