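import Groth.Statements.S10649
import Groth.Agent.SpRelDim.FiniteDense
import Groth.Agent.SpQS.LftField
import Groth.Agent.SpQS.UnivClosedQC

set_option autoImplicit false
universe u
open CategoryTheory CategoryTheory.Limits AlgebraicGeometry
open AlgSp

namespace Groth.Agent.S10649

/-- The following conditions on a morphism f : X ⟶ Y of algebraic spaces over S are equivalent: (1)
finiteness of f; (2) f is locally quasi-finite as well as proper (locally quasi-finite and locally
of finite type etale locally); (3) f is proper and for every field k and every k-point Spec k ⟶ Y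
the fibre X_k (any pullback of f along it in fppf sheaves) has discrete space of points; (4) f is
universally closed, separated and locally of finite type, and every such fibre X_k has discrete
space of points. -/
theorem result {S : Scheme.{u}} {X Y : AlgSp.Space S} (f : X ⟶ Y) :
    [AlgSp.IsFiniteMor f.hom,
      AlgSp.IsProperMor f.hom ∧ AlgSp.LocP (@LocallyQuasiFinite ⊓ @LocallyOfFiniteType) f.hom,
      AlgSp.IsProperMor f.hom ∧
        ∀ (k : AlgSp.FieldPt Y.obj) (Xk : AlgSp.Sp S) (fst : Xk ⟶ X.obj) (snd : Xk ⟶ (AlgSp.yon S).obj k.pt),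
          IsPullback fst snd f.hom k.toHom → DiscreteTopology (AlgSp.Points Xk),
      AlgSp.IsUnivClosedMor f.hom ∧ AlgSp.IsSeparatedMor f.hom ∧ AlgSp.LocP @LocallyOfFiniteType f.hom ∧
        ∀ (k : AlgSp.FieldPt Y.obj) (Xk : AlgSp.Sp S) (fst : Xk ⟶ X.obj) (snd : Xk ⟶ (AlgSp.yon S).obj k.pt),
          IsPullback fst snd f.hom k.toHom → DiscreteTopology (AlgSp.Points Xk)].TFAE := by
  obtain ⟨hX⟩ : Nonempty (AlgSp.IsAlgSpace X.obj) := ⟨X.property⟩
  obtain ⟨hY⟩ : Nonempty (AlgSp.IsAlgSpace Y.obj) := ⟨Y.property⟩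
  have hd : AlgSp.LocP (@LocallyQuasiFinite ⊓ @LocallyOfFiniteType) f.hom →
      ∀ (k : AlgSp.FieldPt Y.obj) (Xk : AlgSp.Sp S) (fst : Xk ⟶ X.obj) (snd : Xk ⟶ (AlgSp.yon S).obj k.pt),
        IsPullback fst snd f.hom k.toHom → DiscreteTopology (AlgSp.Points Xk) :=
    fun h k Xk fst snd sq => Groth.Agent.SpQS.discreteTopology_of_locP_lqf hX hY h sq
  have hl : AlgSp.LocP @LocallyOfFiniteType f.hom →
      (∀ (k : AlgSp.FieldPt Y.obj) (Xk : AlgSp.Sp S) (fst : Xk ⟶ X.obj) (snd : Xk ⟶ (AlgSp.yon S).obj k.pt),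
        IsPullback fst snd f.hom k.toHom → DiscreteTopology (AlgSp.Points Xk)) →
      AlgSp.LocP (@LocallyQuasiFinite ⊓ @LocallyOfFiniteType) f.hom := by
    intro hlft h
    refine Groth.Agent.SpQS.locP_lqf_of_discrete hX hY hlft fun K _ str y P fst snd sq => ?_
    let k : AlgSp.FieldPt Y.obj := ⟨K, str, (AlgSp.J S).uliftYonedaEquiv y⟩
    exact h k P fst snd (by
      have : k.toHom = y := Equiv.symm_apply_apply _ _
      rw [this]; exact sq)
  tfae_have 1 → 2 := by
    intro h
    have hr := (Groth.Agent.AlgSpLib.isFiniteMor_iff_repWith _).1 h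
    exact ⟨((Groth.Agent.AlgSpLib.isFiniteMor_iff hX hY _).1 h).2,
      (Groth.Agent.AlgSpLib.locP_iff_repWith Groth.Agent.AlgSpLib.etST_lqf hY hr.1).2
        (Groth.Agent.AlgSpLib.repWith_mono (fun _ _ r hr' => by
          have : IsFinite r := hr'
          exact ⟨inferInstance, inferInstance⟩) hr)⟩
  tfae_have 2 → 3 := fun h => ⟨h.1, hd h.2⟩
  tfae_have 3 → 4 := fun h => ⟨h.1.2.2, h.1.1, h.1.2.1.1, h.2⟩
  tfae_have 4 → 1 := fun h => Groth.Agent.SpRelDim.isFiniteMor_of_lqf_proper hX hY f.hom (hl h.2.2.1 h.2.2.2)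
    ⟨h.2.1, ⟨h.2.2.1, Groth.Agent.SpQS.isQuasiCompactMor_of_univClosed hX hY f.hom h.1⟩, h.1⟩
  tfae_finish

end Groth.Agent.S10649
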