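import Groth.Statements.S10661
import Groth.Agent.KoszulLib.Kinds
import Groth.Agent.S5003
import Groth.Agent.InfLift.SpaceSmallExt

set_option autoImplicit false
universe u
open CategoryTheory CategoryTheory.Limits AlgebraicGeometry
open AlgSp

namespace Groth.Agent.S10661

/-- For an immersion i : Z ⟶ X of algebraic spaces over S with X locally Noetherian (some etale
surjective chart is a locally Noetherian scheme), the three conditions Koszul-regular immersion,
H_1-regular immersion and quasi-regular immersion on i are equivalent. -/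
theorem result {S : Scheme.{u}} {Z X : AlgSp.Space S} (i : Z ⟶ X) (hi : AlgSp.RepWith @IsImmersion i.hom)
    (hX : AlgSp.IsLocNoethSp X.obj) :
    (AlgSp.IsRegImmMor RegImm.Kind.koszul i.hom ↔ AlgSp.IsRegImmMor RegImm.Kind.h1 i.hom) ∧
      (AlgSp.IsRegImmMor RegImm.Kind.h1 i.hom ↔ AlgSp.IsRegImmMor RegImm.Kind.quasi i.hom) := by
  have hN : ∀ {V : Over S} {b : (AlgSp.yon S).obj V ⟶ X.obj}, AlgSp.RepWith @Etale b → IsLocallyNoetherian V.left :=
    fun hb => Groth.Agent.InfLift.isLocallyNoetherian_chart X.property hX hb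
  have hkh : AlgSp.IsRegImmMor RegImm.Kind.koszul i.hom → AlgSp.IsRegImmMor RegImm.Kind.h1 i.hom :=
    fun h => ⟨h.1, fun V W b fst snd hb sq => Groth.Agent.KoszulLib.isRegularImmersion_mono
      (fun R _ rs => Groth.Agent.KoszulLib.h1_seq_of_koszul) (h.2 b fst snd hb sq)⟩
  have hhq : AlgSp.IsRegImmMor RegImm.Kind.h1 i.hom → AlgSp.IsRegImmMor RegImm.Kind.quasi i.hom :=
    fun h => ⟨h.1, fun V W b fst snd hb sq => Groth.Agent.KoszulLib.isRegularImmersion_mono
      (fun R _ rs => Groth.Agent.KoszulLib.quasi_seq_of_h1) (h.2 b fst snd hb sq)⟩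
  have hqk : AlgSp.IsRegImmMor RegImm.Kind.quasi i.hom → AlgSp.IsRegImmMor RegImm.Kind.koszul i.hom :=
    fun h => ⟨h.1, fun V W b fst snd hb sq => by
      have := hN hb
      exact Groth.Agent.KoszulLib.isRegularImmersion_mono (fun R _ rs => Groth.Agent.KoszulLib.koszul_seq_of_regular)
        ((Groth.Agent.S5003.result snd.left).2 (h.2 b fst snd hb sq))⟩
  exact ⟨⟨hkh, fun h => hqk (hhq h)⟩, ⟨hhq, fun h => hkh (hqk h)⟩⟩

end Groth.Agent.S10661
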