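import Groth.Statements.S10662
import Groth.Agent.RegImmKinds.Desc
import Groth.Agent.AlgSpLib.LocP
-- import your own Groth.Agent.* helpers here

set_option autoImplicit false
universe u
open CategoryTheory CategoryTheory.Limits AlgebraicGeometry
open AlgSp

namespace Groth.Agent.S10662

/-- Let k be one of the kinds Koszul-regular, H_1-regular, quasi-regular; let i : Z ⟶ X be a regular
immersion of algebraic spaces over S of kind k and g : X' ⟶ X a flat morphism of algebraic spaces.
Then the base change Z ×_X X' ⟶ X' (any pullback square of algebraic spaces) is a regular immersion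
of kind k. -/
theorem result {S : Scheme.{u}} (k : RegImm.Kind) (hk : k = RegImm.Kind.koszul ∨ k = RegImm.Kind.h1 ∨ k = RegImm.Kind.quasi)
    {Z X X' : AlgSp.Space S} (i : Z ⟶ X) (g : X' ⟶ X)
    (hi : AlgSp.IsRegImmMor k i.hom) (hg : AlgSp.LocP @Flat g.hom)
    (P : AlgSp.Space S) (fst : P ⟶ Z) (i' : P ⟶ X') (sq : IsPullback fst.hom i'.hom i.hom g.hom) :
    AlgSp.IsRegImmMor k i'.hom := by
  have hrep : AlgSp.Representable i'.hom := MorphismProperty.of_isPullback sq hi.1
  refine ⟨hrep, fun V W b fst' snd' hb sq' => ?_⟩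
  obtain ⟨U, π, hπe, hπs⟩ := X.property.atlas
  obtain ⟨R, r, r', sqR⟩ := Groth.Agent.AlgSpLib.exists_pullback X.property.diag (b ≫ g.hom) π
  have hr : AlgSp.RepWith @Etale ((AlgSp.yon S).map r) := Groth.Agent.AlgSpLib.repWith_baseChange sqR.flip hπe
  have : Etale r.left := (Groth.Agent.AlgSpLib.repWith_yon_iff r).1 hr
  have : Surjective r.left := (Groth.Agent.AlgSpLib.repWith_yon_iff r).1
    (Groth.Agent.AlgSpLib.repWith_baseChange sqR.flip hπs)
  have : Flat r'.left := hg ((AlgSp.yon S).map r ≫ b) π r' (MorphismProperty.comp_mem _ _ _ hr hb) hπe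
    (by rw [Category.assoc]; exact sqR.w)
  obtain ⟨WU, sndU, fstU, sqU⟩ := hi.1 π
  have hU : RegImm.IsRegularImmersion k sndU.left := hi.2 π fstU sndU hπe sqU
  obtain ⟨Q, q, qR, sqQ⟩ := Groth.Agent.AlgSpLib.exists_pullback (IsAlgSpace.yon_obj V).diag
    ((AlgSp.yon S).map snd') ((AlgSp.yon S).map r)
  have s1 := sqQ.paste_horiz (sq'.paste_horiz sq)
  have w : ((AlgSp.yon S).map q ≫ fst' ≫ fst.hom) ≫ i.hom = (AlgSp.yon S).map (qR ≫ r') ≫ π := by
    rw [s1.w, sqR.w, Functor.map_comp, Category.assoc]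
  obtain ⟨l, hl⟩ := Groth.Agent.AlgSpLib.exists_map_eq (sqU.lift _ _ w)
  have e1 : (AlgSp.yon S).map l ≫ fstU = (AlgSp.yon S).map q ≫ fst' ≫ fst.hom := by rw [hl, sqU.lift_fst]
  have e2 : l ≫ sndU = qR ≫ r' := (AlgSp.yon S).map_injective (by rw [Functor.map_comp, hl, sqU.lift_snd])
  have sqQU : IsPullback ((AlgSp.yon S).map l) ((AlgSp.yon S).map qR) ((AlgSp.yon S).map sndU)
      ((AlgSp.yon S).map r') := by
    refine IsPullback.of_right ?_ (by rw [← Functor.map_comp, ← Functor.map_comp, e2]) sqU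
    rw [e1, ← sqR.w]
    exact s1
  have hQ : RegImm.IsRegularImmersion k qR.left :=
    Groth.Agent.KoszulLib.isRegularImmersion_kind_flat_baseChange k (Groth.Agent.AlgSpLib.isPullback_yon_iff.1 sqQU) hU
  exact Groth.Agent.RegImmKinds.isRegularImmersion_descent_fppf snd'.left r.left k
    (by rcases hk with rfl | rfl | rfl <;> simp) qR.left q.left (Groth.Agent.AlgSpLib.isPullback_yon_iff.1 sqQ) hQ

end Groth.Agent.S10662
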