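import Groth.Statements.S10663
import Groth.Agent.RegImmKinds.Comp
import Groth.Agent.S8654
import Groth.Agent.AlgSpLib.LocP
-- import your own Groth.Agent.* helpers here

set_option autoImplicit false
universe u
open CategoryTheory CategoryTheory.Limits AlgebraicGeometry
open AlgSp

namespace Groth.Agent.S10663

/-- For immersions i : Z ⟶ Y and j : Y ⟶ X of algebraic spaces over S, the composite i ≫ j is
Koszul-regular when i and j both are; likewise for H_1-regular; and it is quasi-regular when i is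
H_1-regular and j quasi-regular. -/
theorem result {S : Scheme.{u}} {Z Y X : AlgSp.Space S} (i : Z ⟶ Y) (j : Y ⟶ X)
    (hi : AlgSp.RepWith @IsImmersion i.hom) (hj : AlgSp.RepWith @IsImmersion j.hom) :
    (AlgSp.IsRegImmMor RegImm.Kind.koszul i.hom → AlgSp.IsRegImmMor RegImm.Kind.koszul j.hom →
        AlgSp.IsRegImmMor RegImm.Kind.koszul (i ≫ j).hom) ∧
      (AlgSp.IsRegImmMor RegImm.Kind.h1 i.hom → AlgSp.IsRegImmMor RegImm.Kind.h1 j.hom →
        AlgSp.IsRegImmMor RegImm.Kind.h1 (i ≫ j).hom) ∧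
      (AlgSp.IsRegImmMor RegImm.Kind.h1 i.hom → AlgSp.IsRegImmMor RegImm.Kind.quasi j.hom →
        AlgSp.IsRegImmMor RegImm.Kind.quasi (i ≫ j).hom) := by
  have key : ∀ k₁ k₂ k₃ : RegImm.Kind,
      (∀ {A B C : Scheme.{u}} (p : A ⟶ B) (q : B ⟶ C), RegImm.IsRegularImmersion k₁ p →
        RegImm.IsRegularImmersion k₂ q → RegImm.IsRegularImmersion k₃ (p ≫ q)) →
      AlgSp.IsRegImmMor k₁ i.hom → AlgSp.IsRegImmMor k₂ j.hom → AlgSp.IsRegImmMor k₃ (i ≫ j).hom := by
    intro k₁ k₂ k₃ hc h₁ h₂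
    refine ⟨MorphismProperty.comp_mem _ i.hom j.hom h₁.1 h₂.1, fun V W b fst snd hb sq => ?_⟩
    obtain ⟨WY, sndY, fstY, sqY⟩ := h₂.1 b
    have w : (fst ≫ i.hom) ≫ j.hom = (AlgSp.yon S).map snd ≫ b := by
      rw [Category.assoc]
      exact sq.w
    obtain ⟨l, hl⟩ := Groth.Agent.AlgSpLib.exists_map_eq (sqY.lift (fst ≫ i.hom) ((AlgSp.yon S).map snd) w)
    have e1 : (AlgSp.yon S).map l ≫ fstY = fst ≫ i.hom := by rw [hl, sqY.lift_fst]
    have e2 : l ≫ sndY = snd := (AlgSp.yon S).map_injective (by rw [Functor.map_comp, hl, sqY.lift_snd])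
    have sqZ : IsPullback fst ((AlgSp.yon S).map l) i.hom fstY := by
      refine IsPullback.of_bot ?_ e1.symm sqY
      rw [← Functor.map_comp, e2]
      exact sq
    have hY := h₂.2 b fstY sndY hb sqY
    have hZ := h₁.2 fstY fst l (Groth.Agent.AlgSpLib.repWith_baseChange sqY.flip hb) sqZ
    rw [← e2, Over.comp_left]
    exact hc _ _ hZ hY
  exact ⟨key _ _ _ (fun p q hp hq => Groth.Agent.S8654.result q p hq hp),
    key _ _ _ (fun p q hp hq => Groth.Agent.RegImmKinds.isRegularImmersion_comp_h1 hq hp),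
    key _ _ _ (fun p q hp hq => Groth.Agent.RegImmKinds.isRegularImmersion_comp_quasi hq hp)⟩

end Groth.Agent.S10663
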