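import Groth.Statements.S10665
import Groth.Agent.LciSp.Basic
import Groth.Agent.S9773
import Groth.Agent.AlgSpLib.LocP

set_option autoImplicit false
universe u
open CategoryTheory CategoryTheory.Limits AlgebraicGeometry
open AlgSp

namespace Groth.Agent.S10665

/-- A Koszul-regular immersion between algebraic spaces over S (representable, Koszul-regular immersion
on every etale scheme chart of the target) is a local complete intersection morphism (Koszul at
every point, etale locally on source and target). -/
theorem result {S : Scheme.{u}} {X Y : AlgSp.Space S} (i : X ⟶ Y) (hi : AlgSp.IsRegImmMor RegImm.Kind.koszul i.hom) :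
    AlgSp.IsLCIMor i.hom := by
  intro U V a b h ha hb comm
  obtain ⟨W, snd, fst, sq⟩ := hi.1 b
  have hreg : RegImm.IsRegularImmersion RegImm.Kind.koszul snd.left := hi.2 b fst snd hb sq
  have hfe : AlgSp.RepWith @Etale fst := Groth.Agent.AlgSpLib.repWith_baseChange sq.flip hb
  obtain ⟨Q, p, q, sqQ⟩ := Groth.Agent.AlgSpLib.exists_pullback X.property.diag a fst
  have : Etale p.left := (Groth.Agent.AlgSpLib.repWith_yon_iff p).1 (Groth.Agent.AlgSpLib.repWith_baseChange sqQ.flip hfe)
  have : Etale q.left := (Groth.Agent.AlgSpLib.repWith_yon_iff q).1 (Groth.Agent.AlgSpLib.repWith_baseChange sqQ ha)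
  obtain ⟨l, hl⟩ := Groth.Agent.AlgSpLib.exists_map_eq (sq.lift a ((AlgSp.yon S).map h) comm)
  obtain ⟨s, hs⟩ := Groth.Agent.AlgSpLib.exists_map_eq (sqQ.lift (𝟙 _) ((AlgSp.yon S).map l)
    (by rw [Category.id_comp, hl, sq.lift_fst]))
  have e1 : s ≫ p = 𝟙 U := (AlgSp.yon S).map_injective
    (by rw [Functor.map_comp, hs, sqQ.lift_fst, (AlgSp.yon S).map_id])
  have e2 : s ≫ q = l := (AlgSp.yon S).map_injective (by rw [Functor.map_comp, hs, sqQ.lift_snd])
  have e3 : l ≫ snd = h := (AlgSp.yon S).map_injective (by rw [Functor.map_comp, hl, sq.lift_snd])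
  have : Etale (s.left ≫ p.left) := by
    rw [← Over.comp_left, e1]
    exact inferInstanceAs (Etale (𝟙 U.left))
  have : Etale s.left := Etale.of_comp s.left p.left
  have : Etale l.left := by
    rw [← e2, Over.comp_left]
    infer_instance
  have hh : h.left = l.left ≫ snd.left := by rw [← e3, Over.comp_left]
  show ∀ x, Synt.IsKoszulAt h.left x
  rw [hh]
  exact Groth.Agent.KoszulLib.isKoszulAt_comp l.left snd.left (Groth.Agent.LciSp.isKoszulAt_of_etale l.left)
    (fun z => Groth.Agent.S9773.result snd.left RegImm.Kind.koszul (Or.inr rfl) hreg z)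

end Groth.Agent.S10665
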