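import Groth.Statements.S10670
import Groth.Agent.GeomPi0.Basic
import Groth.Agent.AlgSpLib.Space
-- import your own Groth.Agent.* helpers here

set_option autoImplicit false
universe u
open CategoryTheory CategoryTheory.Limits AlgebraicGeometry
open AlgSp

namespace Groth.Agent.S10670

/-- For morphisms f : X ⟶ Y and g : Y' ⟶ Y between algebraic spaces over S, f' : X' ⟶ Y' the base change
of f along g, an algebraically closed field point k' of Y' and an algebraically closed field point k
of Y whose class in |Y| is the image of the class of k', the fibres X'_{k'} and X_k (pullbacks in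
fppf sheaves) have the same number of connected components of their spaces of points, counted in ℕ∞.
With g the identity this says the number of geometric connected components of the fibre over a point
of |Y| is well defined. -/
theorem result {S : Scheme.{u}} {X Y X' Y' : AlgSp.Space S} (f : X ⟶ Y) (g : Y' ⟶ Y) (gX : X' ⟶ X) (f' : X' ⟶ Y')
    (hsq : IsPullback gX.hom f'.hom f.hom g.hom)
    (k' : AlgSp.FieldPt Y'.obj) (hk' : k'.IsGeometric) (k : AlgSp.FieldPt Y.obj) (hk : k.IsGeometric)
    (hkk : AlgSp.Points.mk k = AlgSp.Points.map g.hom (AlgSp.Points.mk k'))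
    (Xk' : AlgSp.Sp S) (a' : Xk' ⟶ X'.obj) (b' : Xk' ⟶ (AlgSp.yon S).obj k'.pt) (h' : IsPullback a' b' f'.hom k'.toHom)
    (Xk : AlgSp.Sp S) (a : Xk ⟶ X.obj) (b : Xk ⟶ (AlgSp.yon S).obj k.pt) (h : IsPullback a b f.hom k.toHom) :
    ENat.card (_root_.ConnectedComponents (AlgSp.Points Xk')) = ENat.card (_root_.ConnectedComponents (AlgSp.Points Xk)) := by
  haveI : IsAlgClosed k.K := hk
  haveI : IsAlgClosed k'.K := hk'
  obtain ⟨Ω, _, w, c, d, e⟩ := AlgSp.Points.mk_eq_mk_iff.1 hkk
  let d' : Over.mk w ⟶ k'.pt := d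
  have e' : (AlgSp.yon S).map c ≫ k.toHom = (AlgSp.yon S).map d' ≫ (k'.toHom ≫ g.hom) := by
    have h0 : (AlgSp.yon S).map c ≫ k.toHom = (AlgSp.yon S).map d ≫ (k'.map g.hom).toHom := by
      apply (AlgSp.J S).uliftYonedaEquiv.injective
      rw [← GrothendieckTopology.uliftYonedaEquiv_naturality, ← GrothendieckTopology.uliftYonedaEquiv_naturality,
        AlgSp.FieldPt.uliftYonedaEquiv_toHom, AlgSp.FieldPt.uliftYonedaEquiv_toHom]
      exact e
    exact h0.trans (congrArg (fun z => (AlgSp.yon S).map d ≫ z) (AlgSp.FieldPt.toHom_map g.hom k'))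
  have sqk := IsPullback.of_hasPullback b ((AlgSp.yon S).map c)
  have big : IsPullback (a' ≫ gX.hom) b' f.hom (k'.toHom ≫ g.hom) := h'.paste_horiz hsq
  have sqP : IsPullback (pullback.fst b ((AlgSp.yon S).map c) ≫ a) (pullback.snd b ((AlgSp.yon S).map c)) f.hom
      ((AlgSp.yon S).map d' ≫ (k'.toHom ≫ g.hom)) := by
    rw [← e']
    exact sqk.paste_horiz h
  let l := big.lift (pullback.fst b ((AlgSp.yon S).map c) ≫ a) (pullback.snd _ _ ≫ (AlgSp.yon S).map d')
    (by rw [Category.assoc (pullback.snd _ _)]; exact sqP.w)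
  have sqk' : IsPullback l (pullback.snd b ((AlgSp.yon S).map c)) b' ((AlgSp.yon S).map d') := by
    refine IsPullback.of_right ?_ (big.lift_snd _ _ _) big
    rw [show l ≫ a' ≫ gX.hom = pullback.fst b ((AlgSp.yon S).map c) ≫ a from big.lift_fst _ _ _]
    exact sqP
  have hX : AlgSp.IsAlgSpace Xk := Groth.Agent.AlgSpLib.isAlgSpace_of_isPullback_space Y.property X.property
    (AlgSp.IsAlgSpace.yon_obj _) h
  have hX' : AlgSp.IsAlgSpace Xk' := Groth.Agent.AlgSpLib.isAlgSpace_of_isPullback_space Y'.property X'.property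
    (AlgSp.IsAlgSpace.yon_obj _) h'
  exact (Groth.Agent.GeomPi0.card_connectedComponents hX' d' b' sqk').symm.trans
    (Groth.Agent.GeomPi0.card_connectedComponents hX c b sqk)

end Groth.Agent.S10670
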