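import Groth.Statements.S10676
import Groth.Agent.SpQS.EtSplit
import Groth.Agent.LqfRep.Main

set_option autoImplicit false
universe u
open CategoryTheory CategoryTheory.Limits AlgebraicGeometry
open AlgSp

set_option backward.isDefEq.respectTransparency false

namespace Groth.Agent.S10676

/-- For a separated morphism f : X ⟶ Y of algebraic spaces over S which is locally of finite type, a
point y of |Y| and a finite set xs of points of |X| mapping to y at each of which f is quasi-finite
(some etale chart diagram through the point has top arrow locally quasi-finite and locally of finite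
type on an open neighbourhood), assuming moreover that f is quasi-compact or Y is decent: there are
an etale morphism of algebraic spaces a : U ⟶ Y and a point u of |U| over y such that for the base
change P = U ×_Y X there is an open and closed subspace V ⊂ P, finite over U, such that every point
of |V| over u maps into xs and no point of |P| outside |V| lying over u maps into xs. -/
theorem result {S : Scheme.{u}} {X Y : AlgSp.Space S} (f : X ⟶ Y) (y : AlgSp.Points Y.obj)
    (xs : Finset (AlgSp.Points X.obj)) (hxs : ∀ x ∈ xs, AlgSp.Points.map f.hom x = y)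
    (hf1 : AlgSp.LocP @LocallyOfFiniteType f.hom) (hf2 : AlgSp.IsSeparatedMor f.hom)
    (hf3 : ∀ x ∈ xs, AlgSp.HasAtMor (fun U _ h u => ∃ W : U.Opens, u ∈ W ∧ LocallyQuasiFinite (W.ι ≫ h) ∧ LocallyOfFiniteType (W.ι ≫ h)) f.hom x)
    (hf4 : AlgSp.IsQuasiCompactMor f.hom ∨ AlgSp.IsDecent Y.obj) :
    ∃ (U : AlgSp.Space S) (a : U ⟶ Y) (u : AlgSp.Points U.obj), AlgSp.IsEtaleMor a.hom ∧ AlgSp.Points.map a.hom u = y ∧
      ∀ (P : AlgSp.Space S) (prX : P ⟶ X) (prU : P ⟶ U), IsPullback prX.hom prU.hom f.hom a.hom →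
        ∃ (V : AlgSp.Space S) (jV : V ⟶ P), AlgSp.RepWith @IsOpenImmersion jV.hom ∧ AlgSp.RepWith @IsClosedImmersion jV.hom ∧
          AlgSp.IsFiniteMor (jV ≫ prU).hom ∧
          (∀ v : AlgSp.Points V.obj, AlgSp.Points.map (jV ≫ prU).hom v = u → AlgSp.Points.map (jV ≫ prX).hom v ∈ xs) ∧
          ∀ w : AlgSp.Points P.obj, w ∉ Set.range (AlgSp.Points.map jV.hom) → AlgSp.Points.map prU.hom w = u →
            AlgSp.Points.map prX.hom w ∉ xs := by
  open _root_.AlgSp Groth.Agent.AlgSpLib Groth.Agent.SpQS CategoryTheory.Limits in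
  obtain ⟨hX⟩ : Nonempty (IsAlgSpace X.obj) := ⟨X.property⟩
  obtain ⟨hY⟩ : Nonempty (IsAlgSpace Y.obj) := ⟨Y.property⟩
  have hmap : ∀ {T T' : Over S} (φ : T ⟶ T') (t : T.left),
      Points.map ((yon S).map φ) (Points.ofScheme T t) = Points.ofScheme T' (φ.left t) := fun φ t => by
    rw [← Points.ofPt_eq_map_ofScheme, ofScheme_map]
  obtain ⟨V₀, π, hπ, hπs⟩ := hY.atlas
  obtain ⟨v₀, hv₀⟩ := ofPt_surjective hπs y
  obtain ⟨A, hA, hvA, -⟩ := exists_isAffineOpen_mem_and_subset (U := (⊤ : V₀.left.Opens)) (x := v₀) trivial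
  let V : Over S := Over.mk (A.ι ≫ V₀.hom)
  let iA : V ⟶ V₀ := Over.homMk A.ι rfl
  have : IsAffine V.left := hA
  let v : V.left := ⟨v₀, hvA⟩
  let b := (yon S).map iA ≫ π
  have hb : RepWith @Etale b := repWith_comp ((repWith_yon_iff iA).2 (inferInstanceAs (Etale A.ι))) hπ
  have hbv : Points.map b (Points.ofScheme V v) = y := by
    rw [← Points.ofPt_eq_map_ofScheme, ofPt_comp]
    exact hv₀
  -- the base change of `f` to the chart
  let XV := pullback f.hom b
  let p : XV ⟶ X.obj := pullback.fst _ _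
  let q : XV ⟶ (yon S).obj V := pullback.snd _ _
  have sqV : IsPullback p q f.hom b := IsPullback.of_hasPullback _ _
  have hXV : IsAlgSpace XV := isAlgSpace_of_isPullback_space hY hX (IsAlgSpace.yon_obj V) sqV
  have hq : LocP @LocallyOfFiniteType q := locP_baseChange etST_lft hX hY hXV (IsAlgSpace.yon_obj V) sqV hf1
  have hqf : ∀ z : Points XV, Points.map p z ∈ xs → QFAtPt f.hom (Points.map p z) := fun z hz =>
    (hasAtMor_nhd_iff hX hY f.hom hf1 _).1 (hf3 _ hz)
  let T : Set (Points XV) := {z | Points.map p z ∈ xs ∧ Points.map q z = Points.ofScheme V v}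
  have hT : T.Finite := by
    rcases hf4 with hqc | hdec
    · let j : Over.mk (V.left.fromSpecResidueField v ≫ V.hom) ⟶ V := Over.homMk (V.left.fromSpecResidueField v) rfl
      have sqk := IsPullback.of_hasPullback f.hom ((yon S).map j ≫ b)
      have hfin := finite_qf_fibre (str := V.left.fromSpecResidueField v ≫ V.hom) hX hY f.hom hf1 sqk
        (hqc (IsAlgSpace.yon_obj _) (@isQuasiCompactSp_yon _ (Over.mk (V.left.fromSpecResidueField v ≫ V.hom))
          (show CompactSpace (Spec (CommRingCat.of (V.left.residueField v))) from inferInstance)) _ _ _ sqk)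
      let k : pullback f.hom ((yon S).map j ≫ b) ⟶ XV :=
        sqV.lift (pullback.fst _ _) (pullback.snd _ _ ≫ (yon S).map j) (by rw [Category.assoc, sqk.w])
      have sq' : IsPullback k (pullback.snd f.hom ((yon S).map j ≫ b)) q ((yon S).map j) :=
        IsPullback.of_right (by rw [sqV.lift_fst]; exact sqk) (sqV.lift_snd _ _ _) sqV
      refine (hfin.image (Points.map k)).subset ?_
      rintro z ⟨hz, hzv⟩
      obtain ⟨w, hw, -⟩ := exists_point_of_isPullback sq' z
        (Points.ofScheme _ (IsLocalRing.closedPoint (V.left.residueField v))) (by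
        rw [hmap, hzv]
        exact congrArg _ (V.left.fromSpecResidueField_apply v _).symm)
      refine ⟨w, ?_, hw⟩
      show QFAtPt f.hom _
      rw [show Points.map (pullback.fst f.hom ((yon S).map j ≫ b)) w = Points.map p z by
        rw [← hw, ← Points.map_comp, sqV.lift_fst]]
      exact hqf z hz
    · obtain ⟨r, hr, hm, -⟩ := hdec y
      refine (xs.finite_toSet.biUnion fun x hx => finite_points_over_pair hY sqV.flip
        (x := Points.ofScheme V v) (z := x) (r := r) (by rw [hbv, hxs x hx]) (by rw [hxs x hx, hr]) (hf3 x hx)).subset ?_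
      exact fun z hz => Set.mem_biUnion hz.1 ⟨hz.2, rfl⟩
  -- the locally quasi-finite part is a scheme
  let B : Set (Points XV) := {z | QFAtPt q z}
  have hB : IsOpen B := isOpen_qfAtPt hXV (IsAlgSpace.yon_obj V) q hq
  have hXo : IsAlgSpace (subSheaf B) := isAlgSpace_subSheaf hXV hB
  have hje : IsEtaleMor (subInc B) := isEtaleMor_of_repWith' (repWith_mono
    (fun {A B} g (hg : IsOpenImmersion g) => (by have := hg; infer_instance : Etale g)) (repWith_subInc hB))
  have hl : LocP (@LocallyQuasiFinite ⊓ @LocallyOfFiniteType) (subInc B ≫ q) := by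
    intro U' V' a' b' h' ha' hb' comm
    have : LocallyOfFiniteType h'.left := hq _ b' h' (hje a' ha') hb' (by rw [Category.assoc]; exact comm)
    refine ⟨LimDesc.locallyQuasiFinite_of_forall_quasiFiniteAt h'.left fun w => ?_, this⟩
    have hw : Points.ofPt (a' ≫ subInc B) w ∈ B := by
      rw [← Points.map_ofPt]
      exact map_subInc_mem _
    exact hw U' V' _ b' h' w (hje a' ha') hb' (by rw [Category.assoc]; exact comm) rfl
  have hsep : IsSeparatedMor (subInc B ≫ q) :=
    isSeparatedMor_comp (LqfRep.isSeparatedMor_of_mono _) (isSeparatedMor_baseChange sqV hf2)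
  obtain ⟨M, ⟨φ⟩⟩ := LqfRep.exists_iso_yon_of_lqf_separated hXo (subInc B ≫ q) hl hsep
  obtain ⟨m, hm⟩ := exists_map_eq (φ.inv ≫ subInc B ≫ q)
  let i : (yon S).obj M ⟶ XV := φ.inv ≫ subInc B
  have hi : RepWith @IsOpenImmersion i := (repWith_iso_comp_iff φ.inv _).2 (repWith_subInc hB)
  have him : i ≫ q = (yon S).map m := by rw [Category.assoc, hm]
  have hm' := hl φ.inv (𝟙 _) m (repWith_of_isIso _) repWith_id' (by rw [Category.comp_id, hm])
  have : LocallyQuasiFinite m.left := hm'.1
  have : LocallyOfFiniteType m.left := hm'.2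
  have : IsSeparated m.left := (isSeparatedMor_yon_map_iff m).1 (by
    rw [hm]; exact isSeparatedMor_comp (LqfRep.isSeparatedMor_of_mono _) hsep)
  have hinj : Function.Injective fun w : M.left => Points.map i (Points.ofScheme M w) :=
    (injective_points_of_mono i).comp (Points.schemeEquiv M).injective
  let F : Set M.left := {w | Points.map i (Points.ofScheme M w) ∈ T}
  have hF : F.Finite := hT.preimage hinj.injOn
  have hFv : ∀ w ∈ F, m.left w = v := fun w hw => (Points.schemeEquiv V).injective (by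
    show Points.ofScheme V (m.left w) = Points.ofScheme V v
    rw [← hmap, ← him, Points.map_comp]
    exact hw.2)
  obtain ⟨U, g, u₀, hg, hgu, W, hW, hWu⟩ := exists_etale_split m.left v hF hFv
  let U' : Over S := Over.mk (g ≫ V.hom)
  let gU : U' ⟶ V := Over.homMk g rfl
  refine ⟨⟨(yon S).obj U', IsAlgSpace.yon_obj _⟩, ObjectProperty.homMk ((yon S).map gU ≫ b), Points.ofScheme U' u₀,
    isEtaleMor_of_repWith' (repWith_comp ((repWith_yon_iff gU).2 hg) hb), ?_, ?_⟩
  · show Points.map ((yon S).map gU ≫ b) _ = y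
    rw [Points.map_comp, hmap, ← hbv]
    exact congrArg (fun t => Points.map b (Points.ofScheme V t)) hgu
  intro P prX prU hP
  -- the base change through the chart
  let r : P.obj ⟶ XV := sqV.lift prX.hom (prU.hom ≫ (yon S).map gU) (by rw [Category.assoc]; exact hP.w)
  have sqr : IsPullback r prU.hom q ((yon S).map gU) :=
    IsPullback.of_right (by rw [sqV.lift_fst]; exact hP) (sqV.lift_snd _ _ _) sqV
  let PM : Over S := Over.mk (pullback.snd m.left g ≫ U'.hom)
  let pm₁ : PM ⟶ M := Over.homMk (pullback.fst m.left g) (by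
    show pullback.fst m.left g ≫ M.hom = pullback.snd m.left g ≫ g ≫ V.hom
    rw [← Over.w m, pullback.condition_assoc])
  let pm₂ : PM ⟶ U' := Over.homMk (pullback.snd m.left g) rfl
  have sqPM : IsPullback ((yon S).map pm₁) ((yon S).map pm₂) (i ≫ q) ((yon S).map gU) :=
    him.symm ▸ isPullback_yon_iff.2 (IsPullback.of_hasPullback m.left g)
  let k : (yon S).obj PM ⟶ P.obj := sqr.lift ((yon S).map pm₁ ≫ i) ((yon S).map pm₂) (by rw [Category.assoc, sqPM.w])
  have hk₁ : k ≫ r = (yon S).map pm₁ ≫ i := sqr.lift_fst _ _ _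
  have hk₂ : k ≫ prU.hom = (yon S).map pm₂ := sqr.lift_snd _ _ _
  have sqk : IsPullback ((yon S).map pm₁) k i r := IsPullback.of_bot (by rw [hk₂]; exact sqPM) hk₁.symm sqr
  let W' : Over S := Over.mk (W.ι ≫ PM.hom)
  let wι : W' ⟶ PM := Over.homMk W.ι rfl
  let jj := (yon S).map wι ≫ k
  have hjjo : RepWith @IsOpenImmersion jj :=
    repWith_comp ((repWith_yon_iff wι).2 (inferInstanceAs (IsOpenImmersion W.ι))) (repWith_baseChange sqk hi)
  have hjU : jj ≫ prU.hom = (yon S).map (wι ≫ pm₂) := by rw [Category.assoc, hk₂, Functor.map_comp]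
  have hjX : jj ≫ prX.hom = (yon S).map (wι ≫ pm₁) ≫ i ≫ p := by
    rw [show prX.hom = r ≫ p from (sqV.lift_fst _ _ _).symm, Functor.map_comp]
    simp only [jj, Category.assoc]
    rw [reassoc_of% hk₁]
  have hfinj : RepWith @IsFinite (jj ≫ prU.hom) := by
    rw [hjU]
    exact (repWith_yon_iff _).2 hW
  have hdiag : RepWith @IsFinite (pullback.diagonal prU.hom) :=
    repWith_mono (P := @IsClosedImmersion) (Q := @IsFinite)
      (fun _ _ g hg => have : IsClosedImmersion g := hg; inferInstance) (isSeparatedMor_baseChange hP hf2)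
  have hjjf : RepWith @IsFinite jj := repWith_of_comp jj _ prU.hom rfl hfinj hdiag
  have hjjc : RepWith @IsClosedImmersion jj := ⟨hjjo.1, fun T Z ξ a c sq => by
    have : IsFinite c.left := hjjf.2 ξ a c sq
    have : IsOpenImmersion c.left := hjjo.2 ξ a c sq
    show IsClosedImmersion c.left
    exact (IsClosedImmersion.iff_isFinite_and_mono c.left).2 ⟨inferInstance, inferInstance⟩⟩
  refine ⟨⟨(yon S).obj W', IsAlgSpace.yon_obj _⟩, ObjectProperty.homMk jj, hjjo, hjjc,
    (isFiniteMor_iff_repWith _).2 hfinj, ?_, ?_⟩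
  · intro z
    obtain ⟨w, rfl⟩ := (Points.schemeEquiv W').surjective z
    show Points.map (jj ≫ prU.hom) (Points.ofScheme W' w) = Points.ofScheme U' u₀ →
      Points.map (jj ≫ prX.hom) (Points.ofScheme W' w) ∈ xs
    rw [hjU, hjX, hmap, Points.map_comp, hmap, Points.map_comp]
    intro h
    exact ((hWu w.1 ((Points.schemeEquiv U').injective h)).1 w.2).1
  · intro w hw hwu hwx
    apply hw
    have hrp : Points.map p (Points.map r w) = Points.map prX.hom w := by
      rw [← Points.map_comp, sqV.lift_fst]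
    have hrT : Points.map r w ∈ T := ⟨hrp ▸ hwx, by
      rw [← Points.map_comp, sqr.w, Points.map_comp]
      refine (congrArg _ hwu).trans ?_
      rw [hmap]
      exact congrArg _ hgu⟩
    have hrB : Points.map r w ∈ B := qfAtPt_etale_baseChange hX hY hf1 hb sqV (hqf _ hrT.1)
    obtain ⟨m₀, hm₀⟩ : ∃ z, Points.map i z = Points.map r w := by
      rw [← range_subInc B] at hrB
      obtain ⟨z, hz⟩ := hrB
      exact ⟨Points.map φ.hom z, by rw [← Points.map_comp, Iso.hom_inv_id_assoc, hz]⟩
    obtain ⟨z, hz₁, hz₂⟩ := exists_point_of_isPullback sqk m₀ w hm₀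
    obtain ⟨z, rfl⟩ := (Points.schemeEquiv PM).surjective z
    have hzu : pullback.snd m.left g z = u₀ := (Points.schemeEquiv U').injective (by
      show Points.ofScheme U' (pm₂.left z) = Points.ofScheme U' u₀
      rw [← hmap, ← hk₂, Points.map_comp, ← hwu, ← hz₂]
      rfl)
    have hzW : z ∈ W := (hWu z hzu).2 (by
      show Points.map i (Points.ofScheme M (pm₁.left z)) ∈ T
      rw [← hmap]
      refine (congrArg (Points.map i) hz₁).symm ▸ ?_
      rw [hm₀]
      exact hrT)
    refine ⟨Points.ofScheme W' (⟨z, hzW⟩ : W), ?_⟩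
    show Points.map jj _ = w
    rw [Points.map_comp, hmap, ← hz₂]
    rfl

end Groth.Agent.S10676
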