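import Groth.Agent.S10676
import Groth.Agent.SpQS.DecentProps
import Groth.Agent.SpQS.EtSplit
import Groth.Prelude.Def_AlgSp4
import Groth.Prelude.Def_AlgSpDec
import Mathlib.AlgebraicGeometry.Morphisms.QuasiFinite

set_option autoImplicit false
universe u
open CategoryTheory CategoryTheory.Limits AlgebraicGeometry
open AlgSp

set_option backward.isDefEq.respectTransparency false

namespace Groth.Agent.S10677

/-- For a separated morphism f : X ⟶ Y of algebraic spaces over S which is locally of finite type and a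
point x of |X| with image y at which f is quasi-finite (some etale chart diagram through x has top
arrow locally quasi-finite and locally of finite type on an open neighbourhood), there are an etale
morphism a : U ⟶ Y and a point u of |U| over y such that for the base change P = U ×_Y X there is an
open and closed subspace V ⊂ P, finite over U, containing a point mapping to x in |X| and to u in
|U|. -/
theorem result {S : Scheme.{u}} {X Y : AlgSp.Space S} (f : X ⟶ Y) (x : AlgSp.Points X.obj)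
    (hf1 : AlgSp.LocP @LocallyOfFiniteType f.hom) (hf2 : AlgSp.IsSeparatedMor f.hom)
    (hf3 : AlgSp.HasAtMor (fun U _ h u => ∃ W : U.Opens, u ∈ W ∧ LocallyQuasiFinite (W.ι ≫ h) ∧ LocallyOfFiniteType (W.ι ≫ h)) f.hom x) :
    ∃ (U : AlgSp.Space S) (a : U ⟶ Y) (u : AlgSp.Points U.obj), AlgSp.IsEtaleMor a.hom ∧
      AlgSp.Points.map a.hom u = AlgSp.Points.map f.hom x ∧
      ∀ (P : AlgSp.Space S) (prX : P ⟶ X) (prU : P ⟶ U), IsPullback prX.hom prU.hom f.hom a.hom →
        ∃ (V : AlgSp.Space S) (jV : V ⟶ P), AlgSp.RepWith @IsOpenImmersion jV.hom ∧ AlgSp.RepWith @IsClosedImmersion jV.hom ∧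
          AlgSp.IsFiniteMor (jV ≫ prU).hom ∧
          ∃ v : AlgSp.Points V.obj, AlgSp.Points.map (jV ≫ prX).hom v = x ∧ AlgSp.Points.map (jV ≫ prU).hom v = u := by
  open _root_.AlgSp Groth.Agent.AlgSpLib Groth.Agent.SpQS CategoryTheory.Limits in
  obtain ⟨hX⟩ : Nonempty (IsAlgSpace X.obj) := ⟨X.property⟩
  obtain ⟨hY⟩ : Nonempty (IsAlgSpace Y.obj) := ⟨Y.property⟩
  obtain ⟨V, b, v, hV, hb, hv, -⟩ := exists_affine_chart_at hY (Points.map f.hom x)
  have sq := IsPullback.of_hasPullback f.hom b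
  have hP : IsAlgSpace (pullback f.hom b) := isAlgSpace_of_isPullback_space hY hX (IsAlgSpace.yon_obj V) sq
  let XV : AlgSp.Space S := ⟨pullback f.hom b, hP⟩
  let VS : AlgSp.Space S := ⟨(yon S).obj V, IsAlgSpace.yon_obj V⟩
  let q : XV ⟶ VS := ObjectProperty.homMk (pullback.snd f.hom b)
  obtain ⟨z, hz₁, hz₂⟩ := exists_point_of_isPullback sq x (Points.ofScheme V v) (by
    rw [← Points.ofPt_eq_map_ofScheme]; exact hv.symm)
  have hq : LocP @LocallyOfFiniteType q.hom := locP_baseChange etST_lft hX hY hP (IsAlgSpace.yon_obj V) sq hf1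
  have hz : QFAtPt q.hom z := qfAtPt_etale_baseChange hX hY hf1 hb sq
    (hz₁.symm ▸ (hasAtMor_nhd_iff hX hY f.hom hf1 x).1 hf3)
  obtain ⟨U, a, u, ha, hau, H⟩ := S10676.result q (Points.ofScheme V v) {z}
    (fun w hw => by rw [Finset.mem_singleton] at hw; subst hw; exact hz₂) hq (isSeparatedMor_baseChange sq hf2)
    (fun w hw => by rw [Finset.mem_singleton] at hw; subst hw; exact (hasAtMor_nhd_iff hP (IsAlgSpace.yon_obj V) q.hom hq _).2 hz)
    (Or.inr (isDecent_yon V))
  refine ⟨U, a ≫ (ObjectProperty.homMk b : VS ⟶ Y), u, fun _ c hc => (Category.assoc c a.hom b) ▸ repWith_comp (ha c hc) hb, ?_, ?_⟩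
  · show Points.map (a.hom ≫ b) u = _
    rw [Points.map_comp, hau, ← Points.ofPt_eq_map_ofScheme, hv]
  intro P prX prU hP'
  let r : P ⟶ XV := ObjectProperty.homMk (sq.lift prX.hom (prU.hom ≫ a.hom) (by rw [Category.assoc]; exact hP'.w))
  have hrX : r.hom ≫ pullback.fst f.hom b = prX.hom := sq.lift_fst _ _ _
  have sqr : IsPullback r.hom prU.hom q.hom a.hom :=
    IsPullback.of_right (by rw [hrX]; exact hP') (sq.lift_snd _ _ _) sq
  obtain ⟨W, jV, hjo, hjc, hfin, hin, hout⟩ := H P r prU sqr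
  obtain ⟨w, hw₁, hw₂⟩ := exists_point_of_isPullback sqr z u (by rw [hau]; exact hz₂)
  obtain ⟨v', rfl⟩ : w ∈ Set.range (Points.map jV.hom) := by_contra fun hn =>
    hout w hn hw₂ (by rw [hw₁]; exact Finset.mem_singleton_self z)
  refine ⟨W, jV, hjo, hjc, hfin, v', ?_, ?_⟩
  · show Points.map (jV.hom ≫ prX.hom) v' = x
    rw [Points.map_comp, ← hrX, Points.map_comp, hw₁, hz₁]
  · show Points.map (jV.hom ≫ prU.hom) v' = u
    rw [Points.map_comp, hw₂]

end Groth.Agent.S10677
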