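import Groth.Statements.S1355
import Groth.Agent.GeomConnSep.Basic
import Groth.Agent.QuotScheme.Residue

set_option autoImplicit false
universe u
open FlatMor

namespace Groth.Agent.S1355

open AlgebraicGeometry CategoryTheory CategoryTheory.Limits

lemma connectedSpace_of_iso {A B : Scheme.{u}} (e : A ≅ B) (h : ConnectedSpace A) : ConnectedSpace B :=
  e.hom.surjective.connectedSpace e.hom.continuous

/-- A finite separable extension of `κ(s)` is the residue field of an etale neighbourhood of `s`. -/
lemma exists_nbhd_residue {S : Scheme.{u}} (s : S) (F : Type u) [Field F] [Algebra (S.residueField s) F]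
    [FiniteDimensional (S.residueField s) F] [Algebra.IsSeparable (S.residueField s) F] :
    ∃ (U : Scheme.{u}) (g : U ⟶ S) (u : U), Etale g ∧ g u = s ∧
      ∃ σ : U.residueField u ⟶ CommRingCat.of F, IsIso (Spec.map σ) ∧
        Spec.map σ ≫ U.fromSpecResidueField u ≫ g =
          Spec.map (CommRingCat.ofHom (algebraMap (S.residueField s) F)) ≫ S.fromSpecResidueField s := by
  obtain ⟨U₀, hU, hs, -⟩ := exists_isAffineOpen_mem_and_subset (x := s) (U := ⊤) trivial
  let ev := S.evaluation U₀ s hs
  have hev : Spec.map ev ≫ hU.fromSpec = S.fromSpecResidueField s := by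
    rw [Scheme.fromSpecResidueField, ← hU.fromSpecStalk_eq_fromSpecStalk hs]
    simp only [ev, Scheme.evaluation, IsAffineOpen.fromSpecStalk, Spec.map_comp, Category.assoc]
  obtain ⟨B, _, _, hB, χ, hχ, hχs⟩ := Groth.Agent.GeomConnSep.exists_etale_point (A := Γ(S, U₀))
    (k := S.residueField s) ev.hom (fun z => by
      obtain ⟨a, b, hab⟩ := Groth.Agent.QuotScheme.exists_evaluation_div hU ⟨s, hs⟩ z
      by_cases hb : ev b = 0
      · refine ⟨0, 1, by simp, ?_⟩
        change z = S.evaluation U₀ s hs a / S.evaluation U₀ s hs b at hab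
        rw [hab, show S.evaluation U₀ s hs b = 0 from hb, div_zero, zero_mul, map_zero]
      · exact ⟨a, b, hb, (eq_div_iff hb).mp hab⟩) F
  haveI := hB
  let g : Spec (CommRingCat.of B) ⟶ S :=
    Spec.map (CommRingCat.ofHom (algebraMap Γ(S, U₀) B)) ≫ hU.fromSpec
  haveI : Etale (Spec.map (CommRingCat.ofHom (algebraMap Γ(S, U₀) B))) := by
    rw [HasRingHomProperty.Spec_iff (P := @Etale), CommRingCat.hom_ofHom, RingHom.etale_algebraMap]
    exact hB
  let c : Spec (CommRingCat.of F) ⟶ Spec (CommRingCat.of B) := Spec.map (CommRingCat.ofHom χ)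
  obtain ⟨u, σ, hc⟩ : ∃ u σ, c = Spec.map σ ≫ (Spec (CommRingCat.of B)).fromSpecResidueField u :=
    ⟨_, _, (((Spec (CommRingCat.of B)).SpecToEquivOfField F).symm_apply_apply c).symm⟩
  have hcg : c ≫ g = Spec.map (CommRingCat.ofHom (algebraMap (S.residueField s) F)) ≫
      S.fromSpecResidueField s := by
    rw [← hev, ← Category.assoc, ← Category.assoc, ← Spec.map_comp, ← Spec.map_comp]
    congr 2
    exact CommRingCat.hom_ext hχ
  refine ⟨_, g, u, inferInstance, ?_, σ, ?_, ?_⟩
  · rw [hc, Category.assoc] at hcg
    have := congrArg (fun q : Spec (CommRingCat.of F) ⟶ S => q (IsLocalRing.closedPoint F)) hcg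
    simp only [Scheme.Hom.comp_apply, Scheme.fromSpecResidueField_apply] at this
    exact this.trans (S.fromSpecResidueField_apply s _)
  · obtain ⟨ν, hν⟩ := Spec.map_surjective ((Spec (CommRingCat.of B)).fromSpecResidueField u)
    rw [← hν, ← Spec.map_comp] at hc
    have hf : χ = σ.hom.comp ν.hom := congrArg CommRingCat.Hom.hom (Spec.map_injective hc)
    haveI : IsIso σ := (ConcreteCategory.isIso_iff_bijective σ).mpr ⟨σ.hom.injective, fun z => by
      obtain ⟨b, d, hd, he⟩ := hχs z
      rw [hf] at hd he
      exact ⟨ν b / ν d, (map_div₀ σ.hom _ _).trans ((div_eq_iff hd).mpr he)⟩⟩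
    infer_instance
  · rw [← Category.assoc, ← hc, hcg]


open AlgebraicGeometry CategoryTheory Limits in
/-- Let f : X → S and s a point of S. The fibre of f over s is geometrically connected if and only if
for every étale morphism U → S and every point u over s, the fibre over u of the base change of f to
U is connected. -/
theorem result {X S : Scheme.{u}} (f : X ⟶ S) (s : S) :
    GeometricallyConnected (f.fiberToSpecResidueField s) ↔
      ∀ (U : Scheme.{u}) (g : U ⟶ S) (u : U), Etale g → g u = s → ConnectedSpace ↑((pullback.snd f g).fiber u) := by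
  constructor
  · rintro h U g u - rfl
    let y : Spec (U.residueField u) ⟶ Spec (S.residueField (g u)) := Spec.map (g.residueFieldMap u)
    have e : y ≫ S.fromSpecResidueField (g u) = U.fromSpecResidueField u ≫ g :=
      g.SpecMap_residueFieldMap_fromSpecResidueField u
    have := h.geometrically_connectedSpace (K := U.residueField u) y _ _
      (IsPullback.of_hasPullback (f.fiberToSpecResidueField (g u)) y)
    exact connectedSpace_of_iso
      (pullbackLeftPullbackSndIso f (S.fromSpecResidueField (g u)) y ≪≫ pullback.congrHom rfl e ≪≫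
        (pullbackLeftPullbackSndIso f g (U.fromSpecResidueField u)).symm) this
  · intro h
    refine ⟨fun K _ y Z fst snd hZ => connectedSpace_of_iso hZ.isoPullback.symm ?_⟩
    let k : Type u := S.residueField s
    obtain ⟨φ, rfl⟩ := Spec.map_surjective y
    letI : Algebra k K := φ.hom.toAlgebra
    let ι : Spec (CommRingCat.of k) ⟶ S := S.fromSpecResidueField s
    let f₀ : f.fiber s ⟶ Spec (CommRingCat.of k) := f.fiberToSpecResidueField s
    have hlev : ∀ (F : Type u) [Field F] [Algebra k F], FiniteDimensional k F → Algebra.IsSeparable k F →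
        ConnectedSpace ↥(pullback f₀ (Groth.Agent.CompSurj.w (k := k) F)) := by
      intro F _ _ hF hF'
      haveI := hF
      haveI := hF'
      obtain ⟨U, g, u, hg, hu, σ, hσ, hσe⟩ := exists_nbhd_residue s F
      have := h U g u hg hu
      let e1 : pullback (pullback.snd f g) (Spec.map σ ≫ U.fromSpecResidueField u) ≅
          (pullback.snd f g).fiber u :=
        pullbackSymmetry _ _ ≪≫
        (pullbackRightPullbackFstIso (U.fromSpecResidueField u) (pullback.snd f g) (Spec.map σ)).symm ≪≫
          asIso (pullback.snd _ _) ≪≫ pullbackSymmetry _ _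
      exact connectedSpace_of_iso
        (e1.symm ≪≫ pullbackLeftPullbackSndIso f g _ ≪≫
          pullback.congrHom rfl ((Category.assoc _ _ _).trans hσe) ≪≫
          (pullbackLeftPullbackSndIso f ι (Groth.Agent.CompSurj.w (k := k) F)).symm) this
    have h2 := Groth.Agent.GeomConnSep.isConnected_algClosure f₀ hlev
    have h3 := Groth.Agent.GeomConn.isConnected_preimage_of_algClosure (K := K) f₀ (C := Set.univ)
      (connectedSpace_iff_univ.mp h2)
    exact connectedSpace_iff_univ.mpr h3

end Groth.Agent.S1355
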