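import Groth.Statements.S10681
import Groth.Agent.GeomPi0.FinSep
import Groth.Agent.AlgSpLib.PointMisc
import Groth.Agent.S1355
-- import your own Groth.Agent.* helpers here

set_option autoImplicit false
set_option backward.isDefEq.respectTransparency false
universe u
open CategoryTheory CategoryTheory.Limits AlgebraicGeometry
open AlgSp

namespace Groth.Agent.S10681

/-- For a morphism f : X ⟶ Y between algebraic spaces over S and a geometric point ȳ of Y (an
algebraically closed field point), the geometric fibre X_ȳ (pullback in fppf sheaves) has connected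
space of points if and only if for every scheme V with a representable etale a : h_V ⟶ Y and every
point v of V through which ȳ factors, the fibre of X ×_Y V ⟶ V over v (pullback along the residue
field point of v) has connected space of points. -/
theorem result {S : Scheme.{u}} {X Y : AlgSp.Space S} (f : X ⟶ Y) (yb : AlgSp.FieldPt Y.obj) (hyb : yb.IsGeometric)
    (Xyb : AlgSp.Sp S) (fst : Xyb ⟶ X.obj) (snd : Xyb ⟶ (AlgSp.yon S).obj yb.pt) (h : IsPullback fst snd f.hom yb.toHom) :
    ConnectedSpace (AlgSp.Points Xyb) ↔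
      ∀ (V : Over S) (a : (AlgSp.yon S).obj V ⟶ Y.obj), AlgSp.RepWith @Etale a →
        ∀ (v : ↥V.left) (c : yb.pt ⟶ V), (AlgSp.yon S).map c ≫ a = yb.toHom → c.left (IsLocalRing.closedPoint yb.K) = v →
          ∀ (Xv : AlgSp.Sp S) (fst' : Xv ⟶ X.obj)
            (snd' : Xv ⟶ (AlgSp.yon S).obj (Over.mk (V.left.fromSpecResidueField v ≫ V.hom))),
            IsPullback fst' snd' f.hom ((AlgSp.yon S).map (Over.homMk (V.left.fromSpecResidueField v) rfl :
              Over.mk (V.left.fromSpecResidueField v ≫ V.hom) ⟶ V) ≫ a) →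
            ConnectedSpace (AlgSp.Points Xv) := by
  haveI : IsAlgClosed yb.K := hyb
  constructor
  · intro hc V a ha v c hac hcv Xv fst' snd' sqv
    subst hcv
    let κ := V.left.residueField (c.left (IsLocalRing.closedPoint yb.K))
    let str : Spec (CommRingCat.of κ) ⟶ S :=
      V.left.fromSpecResidueField (c.left (IsLocalRing.closedPoint yb.K)) ≫ V.hom
    let σ := V.left.descResidueField (K := yb.K) (Scheme.stalkClosedPointTo c.left)
    have hσ := Scheme.descResidueField_stalkClosedPointTo_fromSpecResidueField yb.K V.left c.left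
    let ι : yb.pt ⟶ Over.mk str := Over.homMk (Spec.map σ) (by
      show Spec.map σ ≫ V.left.fromSpecResidueField _ ≫ V.hom = yb.str
      rw [← Category.assoc, hσ]; exact Over.w c)
    let vv : Over.mk str ⟶ V := Over.homMk (V.left.fromSpecResidueField (c.left (IsLocalRing.closedPoint yb.K))) rfl
    have hι : ι ≫ vv = c := by ext1; exact hσ
    have big : IsPullback fst snd f.hom ((AlgSp.yon S).map ι ≫ (AlgSp.yon S).map vv ≫ a) := by
      rw [← Functor.map_comp_assoc, hι, hac]; exact h
    let l := sqv.lift fst (snd ≫ (AlgSp.yon S).map ι) (by rw [Category.assoc snd]; exact big.w)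
    have sql : IsPullback l snd snd' ((AlgSp.yon S).map ι) :=
      IsPullback.of_right (by rw [sqv.lift_fst]; exact big) (sqv.lift_snd _ _ _) sqv
    have hs : Function.Surjective (AlgSp.Points.map l) := by
      intro x
      obtain ⟨p, hp, -⟩ := Groth.Agent.AlgSpLib.exists_point_of_isPullback sql x
        (AlgSp.Points.ofScheme yb.pt (IsLocalRing.closedPoint yb.K))
        ((AlgSp.Points.schemeEquiv (Over.mk str)).symm.injective
          ((inferInstance : Subsingleton (PrimeSpectrum κ)).elim _ _))
      exact ⟨p, hp⟩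
    exact hs.connectedSpace (AlgSp.Points.continuous_map _)
  · intro hyp
    obtain ⟨V, a, ha, has⟩ := Y.property.atlas
    obtain ⟨v₀, hv₀⟩ := Groth.Agent.AlgSpLib.ofPt_surjective has (AlgSp.Points.mk yb)
    obtain ⟨cb, hcb, -⟩ := Groth.Agent.AlgSpLib.exists_geometric_lift_etale (AlgSp.IsAlgSpace.yon_obj V) Y.property
      (Groth.Agent.AlgSpLib.isEtaleMor_of_repWith' ha) yb hyb (AlgSp.Points.ofScheme V v₀)
      (by rw [AlgSp.Points.map_ofPt, Category.id_comp]; exact hv₀)
    obtain ⟨c, rfl⟩ := (AlgSp.yon S).map_surjective cb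
    let v := c.left (IsLocalRing.closedPoint yb.K)
    let str : Spec (V.left.residueField v) ⟶ S := V.left.fromSpecResidueField v ≫ V.hom
    let σ := V.left.descResidueField (K := yb.K) (Scheme.stalkClosedPointTo c.left)
    have hσ : Spec.map σ ≫ V.left.fromSpecResidueField v = c.left :=
      Scheme.descResidueField_stalkClosedPointTo_fromSpecResidueField yb.K V.left c.left
    let ι : yb.pt ⟶ Over.mk str := Over.homMk (Spec.map σ) (by
      show Spec.map σ ≫ V.left.fromSpecResidueField v ≫ V.hom = yb.str
      rw [← Category.assoc, hσ]; exact Over.w c)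
    let vv : Over.mk str ⟶ V := Over.homMk (V.left.fromSpecResidueField v) rfl
    have hι : ι ≫ vv = c := by ext1; exact hσ
    have big : IsPullback fst snd f.hom ((AlgSp.yon S).map ι ≫ (AlgSp.yon S).map vv ≫ a) := by
      rw [← Functor.map_comp_assoc, hι, hcb]; exact h
    have sqF := IsPullback.of_hasPullback f.hom ((AlgSp.yon S).map vv ≫ a)
    have hF : AlgSp.IsAlgSpace (pullback f.hom ((AlgSp.yon S).map vv ≫ a)) :=
      Groth.Agent.AlgSpLib.isAlgSpace_of_isPullback_space Y.property X.property (AlgSp.IsAlgSpace.yon_obj _) sqF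
    let l := sqF.lift fst (snd ≫ (AlgSp.yon S).map ι) (by rw [Category.assoc snd]; exact big.w)
    have sql : IsPullback l snd (pullback.snd f.hom ((AlgSp.yon S).map vv ≫ a)) ((AlgSp.yon S).map ι) :=
      IsPullback.of_right (by rw [sqF.lift_fst]; exact big) (sqF.lift_snd _ _ _) sqF
    refine Groth.Agent.GeomPi0.connected_of_finSep (k := V.left.residueField v) (str := str) hF _ ?_ ι sql
    intro E _ _ _ _
    obtain ⟨U, g, u, hg, hgu, σ', hσ', he⟩ := Groth.Agent.S1355.exists_nbhd_residue v E
    letI : Algebra (V.left.residueField v) yb.K := σ.hom.toAlgebra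
    let τ : E →ₐ[V.left.residueField v] yb.K := IsAlgClosed.lift
    let V' : Over S := Over.mk (g ≫ V.hom)
    let g' : V' ⟶ V := Over.homMk g rfl
    have hkey : Spec.map (CommRingCat.ofHom τ.toRingHom) ≫ Spec.map σ' ≫ U.fromSpecResidueField u ≫ g = c.left := by
      rw [he, ← Category.assoc, ← Spec.map_comp, ← hσ]
      congr 2
      ext x
      exact τ.commutes x
    let c' : yb.pt ⟶ V' := Over.homMk (Spec.map (CommRingCat.ofHom τ.toRingHom) ≫ Spec.map σ' ≫ U.fromSpecResidueField u) (by
      show (Spec.map _ ≫ Spec.map σ' ≫ U.fromSpecResidueField u) ≫ g ≫ V.hom = yb.str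
      have h4 := (congrArg (fun z : Spec (CommRingCat.of yb.K) ⟶ V.left => z ≫ V.hom) hkey).trans (Over.w c)
      simp only [Category.assoc] at h4 ⊢
      exact h4)
    have hc'g : c' ≫ g' = c := by
      ext1
      show (Spec.map _ ≫ Spec.map σ' ≫ U.fromSpecResidueField u) ≫ g = c.left
      simp only [Category.assoc]
      exact hkey
    have h3 : ∀ t : ↥(Spec (U.residueField u)), U.fromSpecResidueField u t = u :=
      fun t => Scheme.fromSpecResidueField_apply _ _
    have hu' : c'.left (IsLocalRing.closedPoint yb.K) = u :=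
      h3 (Spec.map σ' (Spec.map (CommRingCat.ofHom τ.toRingHom) (IsLocalRing.closedPoint yb.K)))
    let θ : Groth.Agent.GeomPi0.ExtObj (k := ↥(V.left.residueField v)) str E ⟶ Over.mk (U.fromSpecResidueField u ≫ V'.hom) :=
      Over.homMk (Spec.map σ') (by
        show Spec.map σ' ≫ U.fromSpecResidueField u ≫ g ≫ V.hom = _
        rw [reassoc_of% he]
        rfl)
    haveI : IsIso θ.left := hσ'
    haveI : IsIso θ := by
      haveI : IsIso ((Over.forget S).map θ) := hσ'
      exact isIso_of_reflects_iso θ (Over.forget S)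
    let uu : Over.mk (U.fromSpecResidueField u ≫ V'.hom) ⟶ V' := Over.homMk (U.fromSpecResidueField u) rfl
    have hθ : θ ≫ uu ≫ g' = Groth.Agent.GeomPi0.extHom (k := ↥(V.left.residueField v)) str E ≫ vv := by
      ext1
      exact he
    have sqE := (IsPullback.of_hasPullback (pullback.snd f.hom ((AlgSp.yon S).map vv ≫ a))
      ((AlgSp.yon S).map (Groth.Agent.GeomPi0.extHom (k := ↥(V.left.residueField v)) str E))).paste_horiz sqF
    refine hyp V' ((AlgSp.yon S).map g' ≫ a)
      (Groth.Agent.AlgSpLib.repWith_comp ((Groth.Agent.AlgSpLib.repWith_yon_iff g').2 hg) ha) u c'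
      (by rw [← Functor.map_comp_assoc, hc'g, hcb]) hu' _ (pullback.fst _ _ ≫ pullback.fst _ _)
      (pullback.snd _ _ ≫ (AlgSp.yon S).map θ) ?_
    refine IsPullback.of_iso sqE (Iso.refl _) (Iso.refl _) ((AlgSp.yon S).mapIso (asIso θ)) (Iso.refl _)
      (by rw [Iso.refl_hom, Iso.refl_hom, Category.comp_id, Category.id_comp]) (by rw [Iso.refl_hom, Category.id_comp]; rfl) (by rw [Iso.refl_hom, Iso.refl_hom, Category.comp_id, Category.id_comp]) ?_
    simp only [Iso.refl_hom, Category.comp_id, Functor.mapIso_hom, asIso_hom, ← Functor.map_comp_assoc]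
    congr 2
    rw [← hθ]
    rfl

end Groth.Agent.S10681
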