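import Groth.Statements.S10682
import Groth.Agent.GeomRedFibre.Chart
import Groth.Agent.AlgSpLib.QCompact

set_option autoImplicit false
universe u
open CategoryTheory CategoryTheory.Limits AlgebraicGeometry
open AlgSp

namespace Groth.Agent.S10682

/-- For a flat proper morphism f : X ⟶ Y between algebraic spaces over S which is of finite
presentation, the set of points y of |Y| at which the fibre of f is geometrically reduced is open in
|Y|; here the fibre of f at y being geometrically reduced means: for every field point k of Y in the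
class of y and every field homomorphism k ⟶ k', the base change X_{k'} (pullback in fppf sheaves) is
reduced (some etale surjective scheme chart is reduced). -/
theorem result {S : Scheme.{u}} {X Y : AlgSp.Space S} (f : X ⟶ Y)
    (hf1 : AlgSp.LocP @Flat f.hom) (hf2 : AlgSp.IsProperMor f.hom) (hf3 : AlgSp.IsFinitePresentationMor f.hom) :
    IsOpen {y : AlgSp.Points Y.obj | ∀ (k : AlgSp.FieldPt Y.obj), AlgSp.Points.mk k = y →
        ∀ (k' : Type u) [Field k'] (φ : k.K →+* k') (Xk' : AlgSp.Sp S) (a : Xk' ⟶ X.obj)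
          (b : Xk' ⟶ (AlgSp.yon S).obj (Over.mk (Spec.map (CommRingCat.ofHom φ) ≫ k.str))),
          IsPullback a b f.hom ((AlgSp.yon S).map (Over.homMk (Spec.map (CommRingCat.ofHom φ)) rfl :
            Over.mk (Spec.map (CommRingCat.ofHom φ) ≫ k.str) ⟶ k.pt) ≫ k.toHom) →
          AlgSp.EtaleLocally (fun U => IsReduced U) Xk'} := by
  obtain ⟨V, a, ha, has⟩ := Y.property.atlas
  have sqV := IsPullback.of_hasPullback f.hom a
  have hXV := Groth.Agent.AlgSpLib.isAlgSpace_of_isPullback_space Y.property X.property (AlgSp.IsAlgSpace.yon_obj V) sqV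
  obtain ⟨U, u, hu, hus⟩ := hXV.atlas
  obtain ⟨h, hh⟩ := Groth.Agent.AlgSpLib.exists_map_eq (u ≫ pullback.snd f.hom a)
  have : Flat h.left :=
    Groth.Agent.AlgSpLib.locP_baseChange Groth.Agent.AlgSpLib.etST_flat X.property Y.property hXV
      (AlgSp.IsAlgSpace.yon_obj V) sqV hf1 u (𝟙 _) h hu (AlgSp.repWith_id _ V) (by rw [Category.comp_id, hh])
  have : LocallyOfFinitePresentation h.left :=
    Groth.Agent.AlgSpLib.locP_baseChange Groth.Agent.AlgSpLib.etST_lfp X.property Y.property hXV
      (AlgSp.IsAlgSpace.yon_obj V) sqV hf3.1 u (𝟙 _) h hu (AlgSp.repWith_id _ V) (by rw [Category.comp_id, hh])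
  let G : Set ↥U.left := {x | GeomRedAt.GR h.left x}
  have hG : IsOpen G := GeomRedAt.isOpen_setOf_gr h.left
  have sat : ∀ x x', Points.ofPt u x = Points.ofPt u x' → x ∈ G → x' ∈ G := by
    intro x x' e hx
    obtain ⟨W, p, q, sq⟩ := Groth.Agent.AlgSpLib.exists_pullback hXV.diag u u
    have : Etale p.left := (Groth.Agent.AlgSpLib.repWith_yon_iff p).1 (Groth.Agent.AlgSpLib.repWith_baseChange sq.flip hu)
    have : Etale q.left := (Groth.Agent.AlgSpLib.repWith_yon_iff q).1 (Groth.Agent.AlgSpLib.repWith_baseChange sq hu)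
    have hpq : p.left ≫ h.left = q.left ≫ h.left := by
      rw [← Over.comp_left, ← Over.comp_left]
      refine congrArg CommaMorphism.left ((AlgSp.yon S).map_injective ?_)
      rw [Functor.map_comp, Functor.map_comp, hh, reassoc_of% sq.w]
    obtain ⟨w, rfl, rfl⟩ := (Groth.Agent.AlgSpLib.ofPt_eq_iff sq x x').1 e
    exact (GeomRedFibre.gr_comp_etale_iff q.left h.left w).1
      (hpq ▸ (GeomRedFibre.gr_comp_etale_iff p.left h.left w).2 hx)
  have hC : IsClosed (Points.ofPt u '' Gᶜ) := by
    have : Points.ofPt u '' Gᶜ = (Points.ofPt u '' G)ᶜ := by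
      ext z
      obtain ⟨x, rfl⟩ := Groth.Agent.AlgSpLib.ofPt_surjective hus z
      constructor
      · rintro ⟨x', hx', e⟩ ⟨x'', hx'', e'⟩
        exact hx' (sat x'' x' (e'.trans e.symm) hx'')
      · exact fun hz => ⟨x, fun hx => hz ⟨x, hx, rfl⟩, rfl⟩
    rw [this, isClosed_compl_iff]
    exact Groth.Agent.AlgSpLib.isOpenMap_ofPt (Groth.Agent.AlgSpLib.repWith_universallyOpen_of_etale hu) _ hG
  have hcl : IsClosed (h.left '' Gᶜ) := by
    have h1 : IsClosed (Points.map (pullback.snd f.hom a) '' (Points.ofPt u '' Gᶜ)) :=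
      hf2.2.2 (AlgSp.IsAlgSpace.yon_obj V) a _ _ sqV _ hC
    have h2 : h.left '' Gᶜ = Points.schemeHomeo V ⁻¹' (Points.map (pullback.snd f.hom a) '' (Points.ofPt u '' Gᶜ)) := by
      have e : ∀ x, Points.map (pullback.snd f.hom a) (Points.ofPt u x) = Points.schemeHomeo V (h.left x) := by
        intro x
        rw [Points.map_ofPt, ← hh, ← Category.comp_id ((AlgSp.yon S).map h), Groth.Agent.AlgSpLib.ofPt_comp]
        rfl
      ext t
      simp only [Set.mem_image, Set.mem_preimage, exists_exists_and_eq_and, e]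
      exact exists_congr fun x => and_congr_right fun _ => (Points.schemeHomeo V).injective.eq_iff.symm
    rw [h2]
    exact h1.preimage (Points.schemeHomeo V).continuous
  generalize hE : {y : AlgSp.Points Y.obj | ∀ (k : AlgSp.FieldPt Y.obj), AlgSp.Points.mk k = y →
        ∀ (k' : Type u) [Field k'] (φ : k.K →+* k') (Xk' : AlgSp.Sp S) (a : Xk' ⟶ X.obj)
          (b : Xk' ⟶ (AlgSp.yon S).obj (Over.mk (Spec.map (CommRingCat.ofHom φ) ≫ k.str))),
          IsPullback a b f.hom ((AlgSp.yon S).map (Over.homMk (Spec.map (CommRingCat.ofHom φ)) rfl :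
            Over.mk (Spec.map (CommRingCat.ofHom φ) ≫ k.str) ⟶ k.pt) ≫ k.toHom) →
          AlgSp.EtaleLocally (fun U => IsReduced U) Xk'} = E
  have hpre : Points.ofPt a ⁻¹' E = (h.left '' Gᶜ)ᶜ := by
    subst hE
    ext v
    refine (GeomRedFibre.mem_iff f a u hu hus h hh v).trans ?_
    rw [GeomRedAt.geometricallyReduced_fiber_iff_forall]
    simp only [Set.mem_compl_iff, Set.mem_image, not_exists, not_and]
    exact forall_congr' fun x => ⟨fun H hx e => hx (H e), fun H e => by_contra fun hx => H hx e⟩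
  have : E = Points.ofPt a '' (Points.ofPt a ⁻¹' E) :=
    (Set.image_preimage_eq E (Groth.Agent.AlgSpLib.ofPt_surjective has)).symm
  rw [this, hpre]
  exact Groth.Agent.AlgSpLib.isOpenMap_ofPt (Groth.Agent.AlgSpLib.repWith_universallyOpen_of_etale ha) _
    hcl.isOpen_compl

end Groth.Agent.S10682
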