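import Groth.Statements.S10683
import Groth.Agent.S10686
import Groth.Agent.S1301
import Groth.Agent.AlgSpLib.Reduced
import Groth.Agent.FlatMor.ReducedDescent
import Groth.Agent.AlgSpLib.QCompact

set_option autoImplicit false
universe u
open CategoryTheory CategoryTheory.Limits AlgebraicGeometry
open AlgSp

namespace Groth.Agent.S10683

/-- For a quasi-compact morphism f : X ⟶ Y between algebraic spaces over S which is locally of finite
presentation, the set E of points of |Y| at which the fibre of f is geometrically reduced is etale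
locally constructible: for every affine scheme V with a representable etale a : h_V ⟶ Y, the inverse
image of E in V is a constructible subset. Here the fibre of f at y being geometrically reduced
means: for every field point k of Y in the class of y and every field homomorphism k ⟶ k', the base
change X_{k'} (pullback in fppf sheaves) is reduced (some etale surjective scheme chart is reduced). -/
theorem result {S : Scheme.{u}} {X Y : AlgSp.Space S} (f : X ⟶ Y)
    (hf1 : AlgSp.IsQuasiCompactMor f.hom) (hf2 : AlgSp.LocP @LocallyOfFinitePresentation f.hom)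
    (V : Over S) (hV : IsAffine V.left) (a : (AlgSp.yon S).obj V ⟶ Y.obj) (ha : AlgSp.RepWith @Etale a) :
    Topology.IsConstructible ((AlgSp.Points.ofPt a) ⁻¹' {y : AlgSp.Points Y.obj | ∀ (k : AlgSp.FieldPt Y.obj), AlgSp.Points.mk k = y →
        ∀ (k' : Type u) [Field k'] (φ : k.K →+* k') (Xk' : AlgSp.Sp S) (a : Xk' ⟶ X.obj)
          (b : Xk' ⟶ (AlgSp.yon S).obj (Over.mk (Spec.map (CommRingCat.ofHom φ) ≫ k.str))),
          IsPullback a b f.hom ((AlgSp.yon S).map (Over.homMk (Spec.map (CommRingCat.ofHom φ)) rfl :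
            Over.mk (Spec.map (CommRingCat.ofHom φ) ≫ k.str) ⟶ k.pt) ≫ k.toHom) →
          AlgSp.EtaleLocally (fun U => IsReduced U) Xk'}) := by
  have := hV
  have sqV := IsPullback.of_hasPullback f.hom a
  have hXV := Groth.Agent.AlgSpLib.isAlgSpace_of_isPullback_space Y.property X.property (AlgSp.IsAlgSpace.yon_obj V) sqV
  have hqcV : AlgSp.IsQuasiCompactSp (pullback f.hom a) := hf1 (AlgSp.IsAlgSpace.yon_obj V) (Groth.Agent.AlgSpLib.isQuasiCompactSp_yon V) a _ _ sqV
  have := Groth.Agent.AlgSpLib.compactSpace_of_isQuasiCompactSp hqcV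
  obtain ⟨U, u, hU, hu, hus⟩ := Groth.Agent.AlgSpLib.exists_affine_chart_of_compact hXV
  obtain ⟨h, hh⟩ := Groth.Agent.AlgSpLib.exists_map_eq (u ≫ pullback.snd f.hom a)
  have : LocallyOfFinitePresentation h.left :=
    Groth.Agent.AlgSpLib.locP_baseChange Groth.Agent.AlgSpLib.etST_lfp X.property Y.property hXV
      (AlgSp.IsAlgSpace.yon_obj V) sqV hf2 u (𝟙 _) h hu (AlgSp.repWith_id _ V) (by rw [Category.comp_id, hh])
  have : IsAffine U.left := hU
  have hc := S1301.result h.left
  suffices hE : ∀ v, GeometricallyReduced (h.left.fiberToSpecResidueField v) ↔ Points.ofPt a v ∈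
      {y : AlgSp.Points Y.obj | ∀ (k : AlgSp.FieldPt Y.obj), AlgSp.Points.mk k = y →
        ∀ (k' : Type u) [Field k'] (φ : k.K →+* k') (Xk' : AlgSp.Sp S) (a : Xk' ⟶ X.obj)
          (b : Xk' ⟶ (AlgSp.yon S).obj (Over.mk (Spec.map (CommRingCat.ofHom φ) ≫ k.str))),
          IsPullback a b f.hom ((AlgSp.yon S).map (Over.homMk (Spec.map (CommRingCat.ofHom φ)) rfl :
            Over.mk (Spec.map (CommRingCat.ofHom φ) ≫ k.str) ⟶ k.pt) ≫ k.toHom) →
          AlgSp.EtaleLocally (fun U => IsReduced U) Xk'} by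
    convert hc.isConstructible using 1
    ext v
    exact (hE v).symm
  intro v
  let κ := V.left.residueField v
  let str : Spec (CommRingCat.of κ) ⟶ S := V.left.fromSpecResidueField v ≫ V.hom
  let pv : Over.mk str ⟶ V := Over.homMk (V.left.fromSpecResidueField v) rfl
  let k₀ : AlgSp.FieldPt Y.obj := ⟨κ, str, (AlgSp.J S).uliftYonedaEquiv ((AlgSp.yon S).map pv ≫ a)⟩
  have hk₀ : k₀.toHom = (AlgSp.yon S).map pv ≫ a := Equiv.symm_apply_apply _ _
  have hmk : AlgSp.Points.mk k₀ = Points.ofPt a v := by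
    rw [← AlgSp.Points.ofPt_toHom k₀ (IsLocalRing.closedPoint κ), hk₀, Groth.Agent.AlgSpLib.ofPt_comp]
    congr 1
    exact V.left.fromSpecResidueField_apply v _
  have step : GeometricallyReduced (h.left.fiberToSpecResidueField v) ↔
      ∀ (k' : Type u) [Field k'] (φ : k₀.K →+* k') (Xk' : AlgSp.Sp S) (a : Xk' ⟶ X.obj)
          (b : Xk' ⟶ (AlgSp.yon S).obj (Over.mk (Spec.map (CommRingCat.ofHom φ) ≫ k₀.str))),
          IsPullback a b f.hom ((AlgSp.yon S).map (Over.homMk (Spec.map (CommRingCat.ofHom φ)) rfl :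
            Over.mk (Spec.map (CommRingCat.ofHom φ) ≫ k₀.str) ⟶ k₀.pt) ≫ k₀.toHom) →
          AlgSp.EtaleLocally (fun U => IsReduced U) Xk' := by
    have chart : ∀ (k' : Type u) [Field k'] (φ : k₀.K →+* k') (Xk' : AlgSp.Sp S) (a' : Xk' ⟶ X.obj)
          (b : Xk' ⟶ (AlgSp.yon S).obj (Over.mk (Spec.map (CommRingCat.ofHom φ) ≫ k₀.str))),
          IsPullback a' b f.hom ((AlgSp.yon S).map (Over.homMk (Spec.map (CommRingCat.ofHom φ)) rfl :
            Over.mk (Spec.map (CommRingCat.ofHom φ) ≫ k₀.str) ⟶ k₀.pt) ≫ k₀.toHom) →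
          ∃ (Z : Over S) (r : (AlgSp.yon S).obj Z ⟶ Xk') (zU : Z.left ⟶ U.left) (zK : Z.left ⟶ Spec (CommRingCat.of k')),
            AlgSp.RepWith @Etale r ∧ AlgSp.RepWith @Surjective r ∧
            IsPullback zU zK h.left (Spec.map (CommRingCat.ofHom φ) ≫ V.left.fromSpecResidueField v) := by
      intro k' _ φ Xk' a' b sq
      let t : Over.mk (Spec.map (CommRingCat.ofHom φ) ≫ k₀.str) ⟶ V :=
        (Over.homMk (Spec.map (CommRingCat.ofHom φ)) rfl :
          Over.mk (Spec.map (CommRingCat.ofHom φ) ≫ k₀.str) ⟶ k₀.pt) ≫ pv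
      have ht : (AlgSp.yon S).map (Over.homMk (Spec.map (CommRingCat.ofHom φ)) rfl :
          Over.mk (Spec.map (CommRingCat.ofHom φ) ≫ k₀.str) ⟶ k₀.pt) ≫ k₀.toHom = (AlgSp.yon S).map t ≫ a := by
        rw [hk₀, ← Functor.map_comp_assoc]
      rw [ht] at sq
      let m : Xk' ⟶ pullback f.hom a := sqV.lift a' (b ≫ (AlgSp.yon S).map t) (by rw [sq.w, Category.assoc])
      have sqm : IsPullback m b (pullback.snd f.hom a) ((AlgSp.yon S).map t) :=
        IsPullback.of_right (by rw [sqV.lift_fst]; exact sq) (sqV.lift_snd _ _ _) sqV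
      let Z : Over S := Over.mk (pullback.fst h.left t.left ≫ U.hom)
      let zU : Z ⟶ U := Over.homMk (pullback.fst h.left t.left) rfl
      let zT : Z ⟶ Over.mk (Spec.map (CommRingCat.ofHom φ) ≫ k₀.str) := Over.homMk (pullback.snd h.left t.left) (by
        show pullback.snd h.left t.left ≫ _ = pullback.fst h.left t.left ≫ U.hom
        rw [← Over.w h, pullback.condition_assoc, Over.w t])
      have sqZ : IsPullback ((AlgSp.yon S).map zU) ((AlgSp.yon S).map zT) ((AlgSp.yon S).map h) ((AlgSp.yon S).map t) :=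
        Groth.Agent.AlgSpLib.isPullback_yon_iff.2 (IsPullback.of_hasPullback h.left t.left)
      rw [hh] at sqZ
      let r : (AlgSp.yon S).obj Z ⟶ Xk' :=
        sqm.lift ((AlgSp.yon S).map zU ≫ u) ((AlgSp.yon S).map zT) (by rw [Category.assoc]; exact sqZ.w)
      have sqr : IsPullback ((AlgSp.yon S).map zU) r u m :=
        IsPullback.of_bot (by rw [sqm.lift_snd]; exact sqZ) (sqm.lift_fst _ _ _).symm sqm
      exact ⟨Z, r, zU.left, zT.left, Groth.Agent.AlgSpLib.repWith_baseChange sqr hu,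
        Groth.Agent.AlgSpLib.repWith_baseChange sqr hus, IsPullback.of_hasPullback h.left t.left⟩
    have sqF : IsPullback (h.left.fiberι v) (h.left.fiberToSpecResidueField v) h.left
        (V.left.fromSpecResidueField v) := IsPullback.of_hasPullback _ _
    constructor
    · intro hg k' _ φ Xk' a' b sq
      obtain ⟨Z, r, zU, zK, hr, hrs, sqZ⟩ := chart k' φ Xk' a' b sq
      let l := sqF.lift zU (zK ≫ Spec.map (CommRingCat.ofHom φ)) (by rw [Category.assoc]; exact sqZ.w)
      exact ⟨Z, r, hr, hrs, hg.geometrically_isReduced (Spec.map (CommRingCat.ofHom φ)) l zK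
        (IsPullback.of_right (by rw [sqF.lift_fst]; exact sqZ) (sqF.lift_snd _ _ _) sqF)⟩
    · intro hk
      refine ⟨fun K _ y Z' fst snd sq' => ?_⟩
      obtain ⟨φ', rfl⟩ := Spec.map_surjective y
      have sqX := IsPullback.of_hasPullback f.hom ((AlgSp.yon S).map (Over.homMk (Spec.map (CommRingCat.ofHom φ'.hom)) rfl :
        Over.mk (Spec.map (CommRingCat.ofHom φ'.hom) ≫ k₀.str) ⟶ k₀.pt) ≫ k₀.toHom)
      obtain ⟨Z, r, zU, zK, hr, -, sqZ⟩ := chart K φ'.hom _ _ _ sqX
      obtain ⟨Z₁, r₁, hr₁, hr₁s, hZ₁⟩ := hk K φ'.hom _ _ _ sqX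
      have hXK := Groth.Agent.AlgSpLib.isAlgSpace_of_isPullback_space Y.property X.property (AlgSp.IsAlgSpace.yon_obj _) sqX
      obtain ⟨W, p, q, sqW⟩ := Groth.Agent.AlgSpLib.exists_pullback hXK.diag r₁ r
      have : Etale p.left := (Groth.Agent.AlgSpLib.repWith_yon_iff p).1 (Groth.Agent.AlgSpLib.repWith_baseChange sqW.flip hr)
      have : Etale q.left := (Groth.Agent.AlgSpLib.repWith_yon_iff q).1 (Groth.Agent.AlgSpLib.repWith_baseChange sqW hr₁)
      have : Surjective q.left := (Groth.Agent.AlgSpLib.repWith_yon_iff q).1 (Groth.Agent.AlgSpLib.repWith_baseChange sqW hr₁s)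
      have : IsReduced Z₁.left := hZ₁
      have : IsReduced W.left := Groth.Agent.AlgSpLib.isReduced_of_smooth p.left
      have : IsReduced Z.left := Groth.Agent.FlatMor.isReduced_of_flat_surjective q.left
      have sq'' : IsPullback (fst ≫ h.left.fiberι v) snd h.left (Spec.map φ' ≫ V.left.fromSpecResidueField v) :=
        sq'.paste_horiz sqF
      exact isReduced_of_isOpenImmersion (sq''.isoIsPullback _ _ sqZ).hom
  rw [step]
  refine ⟨fun h' => ?_, fun h' => h' k₀ hmk⟩
  have ht := (S10686.result f (Points.ofPt a v)).out 0 1 rfl rfl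
  exact ht.1 ⟨k₀, hmk, h'⟩

end Groth.Agent.S10683
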