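import Groth.Statements.S10695
import Groth.Agent.AlgSpLib.CoverDesc
import Groth.Agent.AlgSpLib.ProperRange
import Groth.Agent.SpQS.BiratDense
import Groth.Agent.AlgSpLib.LocPMore
import Groth.Prelude.Def_AlgSpSub

set_option autoImplicit false
universe u
open CategoryTheory CategoryTheory.Limits AlgebraicGeometry
open AlgSp

namespace Groth.Agent.S10695

set_option backward.isDefEq.respectTransparency false

open Groth.Agent.AlgSpLib

variable {S : Scheme.{u}}

theorem etale_id (X : Sp S) : IsEtaleMor (𝟙 X) := isEtaleMor_of_repWith' (repWith_of_isIso _)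

theorem etale_open {X Y : Sp S} {j : X ⟶ Y} (hj : RepWith @IsOpenImmersion j) : IsEtaleMor j :=
  isEtaleMor_of_repWith' (repWith_mono (fun _ _ r hr => by
    have : IsOpenImmersion r := hr
    exact (inferInstance : Etale r)) hj)

theorem fppf_of_etale {X Y : Sp S} (hY : IsAlgSpace Y) {f : X ⟶ Y} (hf : IsEtaleMor f) :
    LocP @Flat f ∧ LocP @LocallyOfFinitePresentation f :=
  ⟨fun A B a b c ha hb e => etST_flat.of_etale _ ((isEtaleMor_iff_locP hY).1 hf a b c ha hb e),
    fun A B a b c ha hb e => etST_lfp.of_etale _ ((isEtaleMor_iff_locP hY).1 hf a b c ha hb e)⟩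

/-- maps out of an elementary distinguished square -/
theorem exists_desc {U V W P Z : Sp S} (hU : IsAlgSpace U) (hV : IsAlgSpace V) (hW : IsAlgSpace W)
    (j : U ⟶ W) (f : V ⟶ W) (hsq : IsElemDistSq j f) (p : P ⟶ U) (q : P ⟶ V) (hP : IsPullback p q j f)
    (φU : U ⟶ Z) (φV : V ⟶ Z) (h : p ≫ φU = q ≫ φV) :
    (∃ ψ : W ⟶ Z, j ≫ ψ = φU ∧ f ≫ ψ = φV) ∧ ∀ a b : W ⟶ Z, j ≫ a = j ≫ b → f ≫ a = f ≫ b → a = b := by
  obtain ⟨hj, hf, T, PT, i, p₁, p₂, ⟨hi, hir, -⟩, sT, hp₁⟩ := hsq
  let Y : ULift.{u} Bool → Sp S := fun b => bif b.down then U else V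
  let g : ∀ b, Y b ⟶ W := fun b => match b with
    | ⟨true⟩ => j
    | ⟨false⟩ => f
  have hY : ∀ b, IsAlgSpace (Y b) := fun b => match b with
    | ⟨true⟩ => hU
    | ⟨false⟩ => hV
  have hcov : IsFppfCover Y g := by
    refine ⟨fun b => match b with
      | ⟨true⟩ => fppf_of_etale hW (etale_open hj)
      | ⟨false⟩ => fppf_of_etale hW hf, fun x => ?_⟩
    by_cases hx : x ∈ Set.range (Points.map j)
    · exact ⟨⟨true⟩, hx⟩
    · obtain ⟨t, ht⟩ : x ∈ Set.range (Points.map i) := hir ▸ hx
      refine ⟨⟨false⟩, Points.map (inv p₁ ≫ p₂) t, ?_⟩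
      show Points.map f _ = x
      rw [← Points.map_comp, Category.assoc, ← sT.w, IsIso.inv_hom_id_assoc, ht]
  refine ⟨?_, fun a b ha hb => hom_ext_of_fppfCover hW hY hcov fun k => match k with
    | ⟨true⟩ => ha
    | ⟨false⟩ => hb⟩
  let φ : ∀ b, Y b ⟶ Z := fun b => match b with
    | ⟨true⟩ => φU
    | ⟨false⟩ => φV
  have := SpQS.mono_of_openImm hj
  obtain ⟨ψ, hψ⟩ := exists_desc_of_fppfCover hW hY hcov φ fun a b => by
    match a, b with
    | ⟨true⟩, ⟨true⟩ =>
      show pullback.fst j j ≫ φU = pullback.snd j j ≫ φU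
      rw [(cancel_mono j).1 pullback.condition]
    | ⟨true⟩, ⟨false⟩ =>
      show pullback.fst j f ≫ φU = pullback.snd j f ≫ φV
      rw [← hP.lift_fst _ _ pullback.condition, Category.assoc, h, hP.lift_snd_assoc]
    | ⟨false⟩, ⟨true⟩ =>
      show pullback.fst f j ≫ φV = pullback.snd f j ≫ φU
      rw [← hP.lift_fst _ _ (pullback.condition (f := f) (g := j)).symm, Category.assoc, h, hP.lift_snd_assoc]
    | ⟨false⟩, ⟨false⟩ =>
      show pullback.fst f f ≫ φV = pullback.snd f f ≫ φV
      have hQ : IsAlgSpace (pullback f f) := isAlgSpace_of_isPullback_space hW hV hV (IsPullback.of_hasPullback f f)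
      have he : IsEtaleMor (pullback.fst f f) := (isEtaleMor_iff_locP hV).2
        (locP_baseChange etST_etale hV hW hQ hV (IsPullback.of_hasPullback f f).flip
          ((isEtaleMor_iff_locP hW).1 hf))
      have hΔ : IsEtaleMor (pullback.diagonal f) :=
        isEtaleMor_of_comp hQ hV (by rw [pullback.diagonal_fst]; exact etale_id V) he
      let w := pullback.fst f f ≫ f
      have sO := IsPullback.of_hasPullback w j
      have hO : IsAlgSpace (pullback w j) := isAlgSpace_of_isPullback_space hW hQ hU sO
      have hcQ : IsFppfCover (fun b : ULift.{u} Bool => bif b.down then pullback w j else V)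
          (fun b => match b with
            | ⟨true⟩ => pullback.fst w j
            | ⟨false⟩ => pullback.diagonal f) := by
        refine ⟨fun b => match b with
          | ⟨true⟩ => fppf_of_etale hQ (etale_open (repWith_baseChange sO.flip hj))
          | ⟨false⟩ => fppf_of_etale hQ hΔ, fun x => ?_⟩
        by_cases hx : Points.map w x ∈ Set.range (Points.map j)
        · rw [← Set.mem_preimage, ← range_map_of_isPullback sO.flip] at hx
          exact ⟨⟨true⟩, hx⟩
        · rw [← Set.mem_compl_iff, ← hir, ← Set.mem_preimage,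
            ← range_map_of_isPullback (IsPullback.of_hasPullback w i).flip] at hx
          obtain ⟨y, rfl⟩ := hx
          refine ⟨⟨false⟩, Points.map (pullback.fst w i ≫ pullback.fst f f) y, ?_⟩
          show Points.map (pullback.diagonal f) _ = _
          rw [← Points.map_comp]
          congr 1
          have e1 : pullback.snd w i ≫ i = (pullback.fst w i ≫ pullback.fst f f) ≫ f := by
            rw [← pullback.condition (f := w) (g := i), Category.assoc]
          have e2 : pullback.snd w i ≫ i = (pullback.fst w i ≫ pullback.snd f f) ≫ f := by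
            rw [e1, Category.assoc, Category.assoc, pullback.condition (f := f) (g := f)]
          have k := (sT.lift_snd _ _ e1).symm
          rw [show sT.lift _ _ e1 = sT.lift _ _ e2 from (cancel_mono p₁).1 (by rw [sT.lift_fst, sT.lift_fst]),
            sT.lift_snd] at k
          ext1
          · rw [Category.assoc, pullback.diagonal_fst, Category.comp_id]
          · rw [Category.assoc, pullback.diagonal_snd, Category.comp_id, k]
      refine hom_ext_of_fppfCover hQ (fun b => match b with
        | ⟨true⟩ => hO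
        | ⟨false⟩ => hV) hcQ fun b => ?_
      match b with
      | ⟨true⟩ =>
        show pullback.fst w j ≫ _ = pullback.fst w j ≫ _
        have e1 : pullback.snd w j ≫ j = (pullback.fst w j ≫ pullback.fst f f) ≫ f := by
          rw [← pullback.condition (f := w) (g := j), Category.assoc]
        have e2 : pullback.snd w j ≫ j = (pullback.fst w j ≫ pullback.snd f f) ≫ f := by
          rw [e1, Category.assoc, Category.assoc, pullback.condition (f := f) (g := f)]
        rw [← Category.assoc, ← hP.lift_snd _ _ e1, Category.assoc, ← h, hP.lift_fst_assoc, ← Category.assoc,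
          ← hP.lift_snd _ _ e2, Category.assoc, ← h, hP.lift_fst_assoc]
      | ⟨false⟩ =>
        show pullback.diagonal f ≫ _ = pullback.diagonal f ≫ _
        rw [← Category.assoc, pullback.diagonal_fst, ← Category.assoc, pullback.diagonal_snd]
  exact ⟨ψ, hψ ⟨true⟩, hψ ⟨false⟩⟩

end Groth.Agent.S10695

namespace Groth.Agent.S10695

/-- Suppose `(U ⊂ W, f : V → W)`, a square of algebraic spaces over `S`, is elementary distinguished
(`j` an open immersion, `f` etale and an isomorphism over the reduced closed complement of `U`) and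
let `P` with its two projections be a fibre product `U ×_W V`. Then `W` is the pushout of `U` and
`V` along `P` among algebraic spaces over `S`. -/
theorem result {S : Scheme.{u}} {U V W P : AlgSp.Space S} (j : U ⟶ W) (f : V ⟶ W)
    (hsq : AlgSp.IsElemDistSq j.hom f.hom) (p : P ⟶ U) (q : P ⟶ V)
    (hP : IsPullback p.hom q.hom j.hom f.hom) : IsPushout p q j f := by
  have w : p ≫ j = q ≫ f := ObjectProperty.hom_ext _ hP.w
  have key := fun (Z : AlgSp.Space S) (a : U ⟶ Z) (b : V ⟶ Z) (h : p ≫ a = q ≫ b) =>
    exists_desc U.property V.property W.property j.hom f.hom hsq p.hom q.hom hP a.hom b.hom (congrArg (fun m => m.hom) h)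
  refine ⟨⟨w⟩, ⟨PushoutCocone.IsColimit.mk w
    (fun s => ObjectProperty.homMk (key s.pt s.inl s.inr s.condition).1.choose)
    (fun s => ObjectProperty.hom_ext _ (key s.pt s.inl s.inr s.condition).1.choose_spec.1)
    (fun s => ObjectProperty.hom_ext _ (key s.pt s.inl s.inr s.condition).1.choose_spec.2)
    (fun s m h1 h2 => ObjectProperty.hom_ext _ ((key s.pt s.inl s.inr s.condition).2 _ _
      (((congrArg (fun k => k.hom) h1) : j.hom ≫ m.hom = s.inl.hom).trans
        (key s.pt s.inl s.inr s.condition).1.choose_spec.1.symm)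
      (((congrArg (fun k => k.hom) h2) : f.hom ≫ m.hom = s.inr.hom).trans
        (key s.pt s.inl s.inr s.condition).1.choose_spec.2.symm)))⟩⟩

end Groth.Agent.S10695
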