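import Groth.Statements.S10696
import Groth.Agent.EtGlue.Main
-- import your own Groth.Agent.* helpers here

set_option autoImplicit false
universe u
open CategoryTheory CategoryTheory.Limits AlgebraicGeometry
open AlgSp

namespace Groth.Agent.S10696

/-- Let `U`, `V` be algebraic spaces over `S`, `V' ⊂ V` an open subspace and `f' : V' → U` a separated
etale morphism. Then there are an algebraic space `W` and morphisms `j : U → W`, `f : V → W` making
the square on `V' → V`, `f'`, `f`, `j` a pushout in the category of algebraic spaces over `S`, with
`(U ⊂ W, f : V → W)` an elementary distinguished square whose cartesian corner is `V'` (the square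
is also a fibre product square). (The published statement does not assert that the square is
cartesian; this row does, as the construction gives it.) -/
theorem result {S : Scheme.{u}} {U V V' : AlgSp.Space S} (jV : V' ⟶ V)
    (hjV : AlgSp.RepWith @IsOpenImmersion jV.hom) (f' : V' ⟶ U) (hsep : AlgSp.IsSeparatedMor f'.hom)
    (het : AlgSp.IsEtaleMor f'.hom) :
    ∃ (W : AlgSp.Space S) (j : U ⟶ W) (f : V ⟶ W), IsPushout jV f' f j ∧
      IsPullback jV.hom f'.hom f.hom j.hom ∧ AlgSp.IsElemDistSq j.hom f.hom := by
  obtain ⟨W, j, f, hW, hpo, hpb, hsq⟩ := Groth.Agent.EtGlue.exists_glue U.property V.property V'.property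
    jV.hom hjV f'.hom hsep het
  let W' : AlgSp.Space S := ⟨W, hW⟩
  refine ⟨W', ObjectProperty.homMk j, ObjectProperty.homMk f, ?_, hpb, hsq⟩
  exact IsPushout.of_map_of_faithful (F := ObjectProperty.ι _) hpo

end Groth.Agent.S10696
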