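import Groth.Statements.S10698
import Groth.Agent.AlgSpLib.ProperRange
import Groth.Agent.AlgSpLib.Graph
import Groth.Agent.AlgSpLib.FppfBase
import Groth.Agent.AlgSpLib.LocPMore
import Groth.Agent.AlgSpLib.DiagCrit
import Groth.Agent.SpQS.RedInduced
import Groth.Agent.SpQS.BiratDense

set_option autoImplicit false
universe u
open CategoryTheory CategoryTheory.Limits AlgebraicGeometry
open AlgSp

namespace Groth.Agent.S10698

set_option backward.isDefEq.respectTransparency false

open Groth.Agent.AlgSpLib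

variable {S : Scheme.{u}}

/-- a closed mapping over the base between the two fibre products of an open immersion with `V` -/
theorem closed_of_open {U V X Y PX PY : Sp S} (hY : IsAlgSpace Y) (hU : IsAlgSpace U) (hV : IsAlgSpace V)
    (g : X ⟶ Y) (j : U ⟶ X) (f : V ⟶ X) (hj : RepWith @IsOpenImmersion j) (hUs : IsSeparatedMor (j ≫ g))
    (pX : PX ⟶ U) (qX : PX ⟶ V) (hPX : IsPullback pX qX j f) (pY : PY ⟶ U) (qY : PY ⟶ V)
    (hPY : IsPullback pY qY (j ≫ g) (f ≫ g)) (c : PX ⟶ PY) (hc : c ≫ qY = qX) (hcl : IsClosedMor c) :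
    RepWith @IsClosedImmersion c := by
  have hPYa : IsAlgSpace PY := isAlgSpace_of_isPullback_space hY hU hV hPY
  obtain ⟨Γ, m, hΓ, sq⟩ := exists_graph c qX qY hc
  have h1 : RepWith @IsImmersion Γ := repWith_mono (fun _ _ r hr => by
    have : IsClosedImmersion r := hr
    exact (inferInstance : IsImmersion r)) (repWith_baseChange sq (isSeparatedMor_baseChange hPY hUs))
  have h2 : RepWith @IsImmersion (pullback.snd qX qY) :=
    repWith_baseChange (IsPullback.of_hasPullback qX qY) (repWith_mono (fun _ _ r hr => by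
      have : IsOpenImmersion r := hr
      exact (inferInstance : IsImmersion r)) (repWith_baseChange hPX hj))
  exact (repWith_isClosedImmersion_iff hPYa (by rw [← hΓ]; exact repWith_comp h1 h2)).2 hcl.isClosed_range

theorem fppf_of_locP {X Y : Sp S} {f : X ⟶ Y} (hf : LocP @Etale f) :
    LocP @Flat f ∧ LocP @LocallyOfFinitePresentation f :=
  ⟨fun A B a b c ha hb e => etST_flat.of_etale _ (hf a b c ha hb e),
    fun A B a b c ha hb e => etST_lfp.of_etale _ (hf a b c ha hb e)⟩

/-- separatedness tested on a jointly surjective etale family -/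
theorem separated_of_family {X Y : Sp S} (hX : IsAlgSpace X) (hY : IsAlgSpace Y) (g : X ⟶ Y) {ι : Type u}
    {W : ι → Sp S} (hW : ∀ a, IsAlgSpace (W a)) (w : ∀ a, W a ⟶ X) (hw : ∀ a, IsEtaleMor (w a))
    (hs : ∀ x, ∃ a, x ∈ Set.range (Points.map (w a)))
    (h : ∀ a b, ∃ (PX PY : Sp S) (pX : PX ⟶ W a) (qX : PX ⟶ W b) (pY : PY ⟶ W a) (qY : PY ⟶ W b) (c : PX ⟶ PY),
      IsPullback pX qX (w a) (w b) ∧ IsPullback pY qY (w a ≫ g) (w b ≫ g) ∧ c ≫ pY = pX ∧ c ≫ qY = qX ∧
        RepWith @IsClosedImmersion c) : IsSeparatedMor g := by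
  have hQ : IsAlgSpace (pullback g g) := isAlgSpace_of_isPullback_space hY hX hX (IsPullback.of_hasPullback g g)
  let A : ι → Sp S := fun a => pullback (pullback.fst g g) (w a)
  let e : ∀ a, A a ⟶ X := fun a => pullback.fst (pullback.fst g g) (w a) ≫ pullback.snd g g
  let B : ι × ι → Sp S := fun r => pullback (e r.1) (w r.2)
  let m : ∀ r, B r ⟶ pullback g g := fun r => pullback.fst (e r.1) (w r.2) ≫ pullback.fst (pullback.fst g g) (w r.1)
  have sA : ∀ a, IsPullback (pullback.fst (pullback.fst g g) (w a)) (pullback.snd (pullback.fst g g) (w a))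
      (pullback.fst g g) (w a) := fun a => IsPullback.of_hasPullback _ _
  have sA' : ∀ a, IsPullback (pullback.snd (pullback.fst g g) (w a)) (e a) (w a ≫ g) g :=
    fun a => (sA a).flip.paste_vert (IsPullback.of_hasPullback g g)
  have sB : ∀ r : ι × ι, IsPullback (pullback.fst (e r.1) (w r.2)) (pullback.snd (e r.1) (w r.2)) (e r.1) (w r.2) :=
    fun r => IsPullback.of_hasPullback _ _
  have hA : ∀ a, IsAlgSpace (A a) := fun a => isAlgSpace_of_isPullback_space hX hQ (hW a) (sA a)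
  have hB : ∀ r, IsAlgSpace (B r) := fun r => isAlgSpace_of_isPullback_space hX (hA r.1) (hW r.2) (sB r)
  have hm : ∀ r, LocP @Etale (m r) := fun r => locP_comp etST_etale (hA r.1) hQ
    (locP_baseChange etST_etale (hW r.2) hX (hB r) (hA r.1) (sB r).flip ((isEtaleMor_iff_locP hX).1 (hw r.2)))
    (locP_baseChange etST_etale (hW r.1) hX (hA r.1) hQ (sA r.1).flip ((isEtaleMor_iff_locP hX).1 (hw r.1)))
  have hcov : IsFppfCover B m := by
    refine ⟨fun r => fppf_of_locP (hm r), fun x => ?_⟩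
    obtain ⟨a, ha⟩ := hs (Points.map (pullback.fst g g) x)
    rw [← Set.mem_preimage, ← range_map_of_isPullback (sA a).flip] at ha
    obtain ⟨y, rfl⟩ := ha
    obtain ⟨b, hb⟩ := hs (Points.map (e a) y)
    rw [← Set.mem_preimage, ← range_map_of_isPullback (sB (a, b)).flip] at hb
    obtain ⟨z, rfl⟩ := hb
    exact ⟨(a, b), z, Points.map_comp _ _ z⟩
  choose PX PY pX qX pY qY c hpX hpY hc1 hc2 hc using h
  have sB' : ∀ r : ι × ι, IsPullback (pullback.fst (e r.1) (w r.2) ≫ pullback.snd (pullback.fst g g) (w r.1))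
      (pullback.snd (e r.1) (w r.2)) (w r.1 ≫ g) (w r.2 ≫ g) := fun r => (sB r).paste_horiz (sA' r.1)
  let ψ : ∀ r : ι × ι, PY r.1 r.2 ≅ B r := fun r => (hpY r.1 r.2).isoIsPullback _ _ (sB' r)
  let l : ∀ r : ι × ι, PX r.1 r.2 ⟶ B r := fun r => c r.1 r.2 ≫ (ψ r).hom
  have hl1 : ∀ r, l r ≫ pullback.fst (e r.1) (w r.2) ≫ pullback.snd (pullback.fst g g) (w r.1) = pX r.1 r.2 :=
    fun r => by rw [Category.assoc, IsPullback.isoIsPullback_hom_fst, hc1]
  have hl2 : ∀ r, l r ≫ pullback.snd (e r.1) (w r.2) = qX r.1 r.2 :=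
    fun r => by rw [Category.assoc, IsPullback.isoIsPullback_hom_snd, hc2]
  have hm1 : ∀ r, m r ≫ pullback.fst g g =
      (pullback.fst (e r.1) (w r.2) ≫ pullback.snd (pullback.fst g g) (w r.1)) ≫ w r.1 := fun r => by
    rw [Category.assoc, Category.assoc, pullback.condition]
  have hm2 : ∀ r, m r ≫ pullback.snd g g = pullback.snd (e r.1) (w r.2) ≫ w r.2 := fun r =>
    (Category.assoc _ _ _).trans (sB r).w
  have sq : ∀ r : ι × ι, IsPullback (pX r.1 r.2 ≫ w r.1) (l r) (pullback.diagonal g) (m r) := fun r => by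
    refine isPullback_of_points (pullback.hom_ext ?_ ?_) fun T a b hab => ?_
    · rw [Category.assoc, Category.assoc, pullback.diagonal_fst, Category.comp_id, Category.assoc, hm1,
        ← hl1 r, Category.assoc]
    · rw [Category.assoc, Category.assoc, pullback.diagonal_snd, Category.comp_id, Category.assoc, hm2,
        ← Category.assoc, hl2, (hpX r.1 r.2).w]
    have e₁ : a = (b ≫ pullback.fst (e r.1) (w r.2) ≫ pullback.snd (pullback.fst g g) (w r.1)) ≫ w r.1 := by
      have := congrArg (fun k => k ≫ pullback.fst g g) hab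
      rw [Category.assoc, pullback.diagonal_fst, Category.comp_id, Category.assoc, hm1] at this
      simpa only [Category.assoc] using this
    have e₂ : a = (b ≫ pullback.snd (e r.1) (w r.2)) ≫ w r.2 := by
      have := congrArg (fun k => k ≫ pullback.snd g g) hab
      rw [Category.assoc, pullback.diagonal_snd, Category.comp_id, Category.assoc, hm2] at this
      simpa only [Category.assoc] using this
    refine ⟨(hpX r.1 r.2).lift _ _ (e₁.symm.trans e₂), ⟨?_, ?_⟩, fun t ht => ?_⟩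
    · rw [← Category.assoc, (hpX r.1 r.2).lift_fst]; exact e₁.symm
    · refine (sB' r).hom_ext ?_ ?_
      · rw [Category.assoc, hl1, (hpX r.1 r.2).lift_fst]
      · rw [Category.assoc, hl2, (hpX r.1 r.2).lift_snd]
    · refine (hpX r.1 r.2).hom_ext ?_ ?_
      · rw [(hpX r.1 r.2).lift_fst, ← hl1 r, ← Category.assoc, ht.2]
      · rw [(hpX r.1 r.2).lift_snd, ← hl2 r, ← Category.assoc, ht.2]
  exact repWith_of_fppfCover @IsClosedImmersion (fun _ _ r hr => by
      have : IsClosedImmersion r := hr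
      exact QA.IndQA.of_isImmersion r) hQ hB hcov _ _ l (fun r => pX r.1 r.2 ≫ w r.1) sq
    fun r => (repWith_comp_iso_iff _ (ψ r).hom).2 (hc r.1 r.2)

theorem main {U V X Y : Sp S} (hUa : IsAlgSpace U) (hVa : IsAlgSpace V) (hX : IsAlgSpace X) (hY : IsAlgSpace Y)
    (g : X ⟶ Y) (j : U ⟶ X) (f : V ⟶ X) (hsq : IsElemDistSq j f)
    (hU : IsSeparatedMor (j ≫ g)) {PX PY QX QY : Sp S} (pX : PX ⟶ U) (qX : PX ⟶ V) (hPX : IsPullback pX qX j f)
    (pY : PY ⟶ U) (qY : PY ⟶ V) (hPY : IsPullback pY qY (j ≫ g) (f ≫ g))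
    (c : PX ⟶ PY) (hc₁ : c ≫ pY = pX) (hc₂ : c ≫ qY = qX) (hcl : IsClosedMor c)
    (rX₁ rX₂ : QX ⟶ V) (hQX : IsPullback rX₁ rX₂ f f) (rY₁ rY₂ : QY ⟶ V) (hQY : IsPullback rY₁ rY₂ (f ≫ g) (f ≫ g))
    (d : QX ⟶ QY) (hd₁ : d ≫ rY₁ = rX₁) (hd₂ : d ≫ rY₂ = rX₂) (hdcl : RepWith @IsClosedImmersion d) :
    IsSeparatedMor g := by
  obtain ⟨hj, hf, T, PT, i, p₁, p₂, ⟨hi, hir, -⟩, sT, hp₁⟩ := hsq
  let W : ULift.{u} Bool → Sp S := fun b => bif b.down then U else V
  let w : ∀ b, W b ⟶ X := fun b => match b with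
    | ⟨true⟩ => j
    | ⟨false⟩ => f
  have := SpQS.mono_of_openImm hj
  have hc := closed_of_open hY hUa hVa g j f hj hU pX qX hPX pY qY hPY c hc₂ hcl
  refine separated_of_family hX hY g (W := W) (fun b => match b with
    | ⟨true⟩ => hUa
    | ⟨false⟩ => hVa) w (fun b => match b with
    | ⟨true⟩ => isEtaleMor_of_repWith' (repWith_mono (fun _ _ r hr => by
        have : IsOpenImmersion r := hr
        exact (inferInstance : Etale r)) hj)
    | ⟨false⟩ => hf) (fun x => ?_) fun a b => ?_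
  · by_cases hx : x ∈ Set.range (Points.map j)
    · exact ⟨⟨true⟩, hx⟩
    · obtain ⟨t, ht⟩ : x ∈ Set.range (Points.map i) := hir ▸ hx
      refine ⟨⟨false⟩, Points.map (inv p₁ ≫ p₂) t, ?_⟩
      show Points.map f _ = x
      rw [← Points.map_comp, Category.assoc, ← sT.w, IsIso.inv_hom_id_assoc, ht]
  · match a, b with
    | ⟨true⟩, ⟨true⟩ =>
      exact ⟨U, _, 𝟙 U, 𝟙 U, _, _, pullback.diagonal (j ≫ g), IsKernelPair.id_of_mono j,
        IsPullback.of_hasPullback _ _, pullback.diagonal_fst _, pullback.diagonal_snd _, hU⟩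
    | ⟨true⟩, ⟨false⟩ => exact ⟨PX, PY, pX, qX, pY, qY, c, hPX, hPY, hc₁, hc₂, hc⟩
    | ⟨false⟩, ⟨true⟩ => exact ⟨PX, PY, qX, pX, qY, pY, c, hPX.flip, hPY.flip, hc₂, hc₁, hc⟩
    | ⟨false⟩, ⟨false⟩ => exact ⟨QX, QY, rX₁, rX₂, rY₁, rY₂, d, hQX, hQY, hd₁, hd₂, hdcl⟩

end Groth.Agent.S10698

namespace Groth.Agent.S10698

/-- Let `g : X → Y` be a morphism of algebraic spaces over `S` and `(U ⊂ X, f : V → X)` an elementary
distinguished square. Suppose `U → Y` and `V → Y` are both separated, that the canonical morphism `c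
: U ×_X V → U ×_Y V` (between chosen fibre products `PX`, `PY`) is closed on points, and that the
canonical morphism `d : V ×_X V → V ×_Y V` (between chosen fibre products `QX`, `QY`) is
representable and a closed immersion. Then `g` is separated. (The published statement omits the
condition on `V ×_X V → V ×_Y V`; its proof identifies the piece of `X ×_Y X` over `V ×_Y V` with
`V`, which is `V ×_X V`, and without that condition the affine line with doubled origin over a
field, with `U` the complement of the two origins and `V` the disjoint union of the two standard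
charts, satisfies every other hypothesis and is not separated. With it, the diagonal of `g` is a
closed immersion over each of the four pieces `U ×_Y U`, `U ×_Y V`, `V ×_Y U`, `V ×_Y V` of an etale
cover of `X ×_Y X`; for `c`, which is an immersion because `U → X` is an open immersion and `U → Y`
is separated, closedness on points suffices.) -/
theorem result {S : Scheme.{u}} {U V X Y PX PY QX QY : AlgSp.Space S} (g : X ⟶ Y)
    (j : U ⟶ X) (f : V ⟶ X) (hsq : AlgSp.IsElemDistSq j.hom f.hom)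
    (hU : AlgSp.IsSeparatedMor (j ≫ g).hom) (hV : AlgSp.IsSeparatedMor (f ≫ g).hom)
    (pX : PX ⟶ U) (qX : PX ⟶ V) (hPX : IsPullback pX.hom qX.hom j.hom f.hom)
    (pY : PY ⟶ U) (qY : PY ⟶ V) (hPY : IsPullback pY.hom qY.hom (j ≫ g).hom (f ≫ g).hom)
    (c : PX ⟶ PY) (hc₁ : c ≫ pY = pX) (hc₂ : c ≫ qY = qX) (hcl : AlgSp.IsClosedMor c.hom)
    (rX₁ rX₂ : QX ⟶ V) (hQX : IsPullback rX₁.hom rX₂.hom f.hom f.hom)
    (rY₁ rY₂ : QY ⟶ V) (hQY : IsPullback rY₁.hom rY₂.hom (f ≫ g).hom (f ≫ g).hom)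
    (d : QX ⟶ QY) (hd₁ : d ≫ rY₁ = rX₁) (hd₂ : d ≫ rY₂ = rX₂)
    (hdcl : AlgSp.RepWith @IsClosedImmersion d.hom) : AlgSp.IsSeparatedMor g.hom := by
  exact main U.property V.property X.property Y.property g.hom j.hom f.hom hsq hU pX.hom qX.hom hPX pY.hom qY.hom
    hPY c.hom (congrArg (fun m => m.hom) hc₁) (congrArg (fun m => m.hom) hc₂) hcl rX₁.hom rX₂.hom hQX rY₁.hom
    rY₂.hom hQY d.hom (congrArg (fun m => m.hom) hd₁) (congrArg (fun m => m.hom) hd₂) hdcl

end Groth.Agent.S10698
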