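import Groth.Statements.S10699
import Groth.Agent.Pinch.AlgSp
import Groth.Agent.Pinch.Charts

set_option autoImplicit false
universe u
open CategoryTheory CategoryTheory.Limits AlgebraicGeometry
open AlgSp

open CategoryTheory Limits AlgebraicGeometry Groth.Agent
set_option backward.isDefEq.respectTransparency false
namespace Groth.Agent.S10699

/-- Let `t : X → X'` be a thickening of schemes over `S` and `a : X → Y` an affine morphism of schemes
over `S`, and let `Y'` be a pushout of `t` and `a` in the category of schemes over `S`. Then `Y'`
remains a pushout when the square is viewed among algebraic spaces over `S`. -/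
theorem result {S : Scheme.{u}} {X X' Y Y' : Over S} (t : X ⟶ X') (a : X ⟶ Y)
    (a' : X' ⟶ Y') (b : Y ⟶ Y') (ht : MoreMor.IsThickening t.left) [IsAffineHom a.left]
    (hpo : IsPushout t a a' b) :
    IsPushout ((AlgSp.ofScheme S).map t) ((AlgSp.ofScheme S).map a) ((AlgSp.ofScheme S).map a')
      ((AlgSp.ofScheme S).map b) := by
  haveI : IsClosedImmersion t.left := ht.1
  haveI : Surjective t.left := ht.2
  have hc : Pinch.HasCharts t.left a.left := Pinch.hasCharts_of_thickening t.left a.left
  refine Pinch.algSp_isPushout hc hpo fun Z' X'' Y'' i' j' c f g _ _ hX hY _ => ?_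
  haveI : IsAffineHom j' := MorphismProperty.of_isPullback hY.flip ‹IsAffineHom a.left›
  haveI : Surjective i' := MorphismProperty.of_isPullback hX.flip ‹Surjective t.left›
  exact Pinch.hasCharts_of_thickening i' j'

end Groth.Agent.S10699
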