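import Groth.Statements.S10700
import Groth.Agent.Pinch.AlgSp
import Groth.Agent.Pinch.Charts
import Mathlib.RingTheory.Unramified.LocalStructure

set_option autoImplicit false
universe u
open CategoryTheory CategoryTheory.Limits AlgebraicGeometry
open AlgSp

open CategoryTheory Limits AlgebraicGeometry Groth.Agent
set_option backward.isDefEq.respectTransparency false
namespace Groth.Agent.S10700

/-- Let `i : Z → X` be a closed immersion and `j : Z → Y` an integral morphism of schemes over `S` such
that every fibre of `j` is contained in `i⁻¹(U)` for some affine open `U` of `X`, and let `P` be a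
pushout of `i` and `j` in the category of schemes over `S`. Then `P` remains a pushout when the
square is viewed among algebraic spaces over `S`. -/
theorem result {S : Scheme.{u}} {Z X Y P : Over S} (i : Z ⟶ X) (j : Z ⟶ Y)
    [IsClosedImmersion i.left] [IsIntegralHom j.left]
    (haff : ∀ y : ↥Y.left, ∃ U : X.left.Opens, IsAffineOpen U ∧ j.left ⁻¹' {y} ⊆ i.left ⁻¹' (U : Set ↥X.left))
    (a : X ⟶ P) (b : Y ⟶ P) (hpo : IsPushout i j a b) :
    IsPushout ((AlgSp.ofScheme S).map i) ((AlgSp.ofScheme S).map j) ((AlgSp.ofScheme S).map a)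
      ((AlgSp.ofScheme S).map b) := by
  have hc : Pinch.HasCharts i.left j.left := Pinch.hasCharts_of_integral i.left j.left fun y => by
    obtain ⟨U, hU, hyU⟩ := haff y
    exact ⟨U, hU, fun z hz => hyU hz⟩
  refine Pinch.algSp_isPushout hc hpo fun Z' X' Y' i' j' c f g _ _ hX hY hsep => ?_
  haveI : LocallyQuasiFinite f := by
    refine ⟨fun {U} hU {W} hW e => ?_⟩
    have := HasRingHomProperty.appLE (P := @Etale) f inferInstance ⟨U, hU⟩ ⟨W, hW⟩ e
    algebraize [(f.appLE U W e).hom]
    show @Algebra.QuasiFinite _ _ _ _ (f.appLE U W e).hom.toAlgebra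
    infer_instance
  haveI : IsIntegralHom j' := MorphismProperty.of_isPullback hY.flip ‹IsIntegralHom j.left›
  exact Pinch.hasCharts_lift_local (f := f) (g := g) (c := c) hc hsep hX.w hY.w

end Groth.Agent.S10700
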