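import Groth.Statements.S10701
import Groth.Agent.ThickPush.Mor

set_option autoImplicit false
universe u
open CategoryTheory CategoryTheory.Limits AlgebraicGeometry
open AlgSp

namespace Groth.Agent.S10701

/-- Let `t : X → X'` be a thickening of algebraic spaces over `S` and `f : X → Y` an affine morphism of
algebraic spaces over `S`. Then there is a pushout `Y' = Y ⨿_X X'` in the category of algebraic
spaces over `S`, and `Y → Y'` is a thickening. (The accompanying description of the structure sheaf
of `Y'` on the small etale site as the fibre product of the structure sheaves of `Y` and `X'` over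
that of `X` is not restated here.) -/
theorem result {S : Scheme.{u}} {X X' Y : AlgSp.Space S} (t : X ⟶ X')
    (ht : AlgSp.IsThickMor t.hom) (f : X ⟶ Y) (hf : AlgSp.IsAffineMor f.hom) :
    ∃ (Y' : AlgSp.Space S) (f' : X' ⟶ Y') (t' : Y ⟶ Y'), IsPushout t f f' t' ∧ AlgSp.IsThickMor t'.hom := by
  obtain ⟨Y₀, r, hre, hrs⟩ := Y.property.atlas
  obtain ⟨P, f', t', C, hP, w, hth⟩ := Groth.Agent.ThickPush.exists_chart X.property X'.property Y.property t.hom ht f.hom
    ((Groth.Agent.AlgSpLib.isAffineMor_iff_repWith _).1 hf) r hre hrs
  exact ⟨⟨P, hP⟩, ObjectProperty.homMk f', ObjectProperty.homMk t',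
    Groth.Agent.ThickPush.isPushout_of_chart (ObjectProperty.hom_ext _ w) C, hth⟩

end Groth.Agent.S10701
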