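import Groth.Statements.S10704
import Groth.Agent.GlueIso.Main

set_option autoImplicit false
universe u
open CategoryTheory CategoryTheory.Limits AlgebraicGeometry
open AlgSp

namespace Groth.Agent.S10704

/-- Let `f : Y → X` be a quasi-compact quasi-separated morphism of algebraic spaces over `S`, `i : Z →
X` a closed immersion of finite presentation such that `f⁻¹Z → Z` is an isomorphism and `f` is flat
at every point of `|f⁻¹Z|`, and let `U ⊂ X` be the open subspace complementary to `Z`. Then there is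
an fpqc covering `{X_k → X}` refining the family `{U → X, Y → X}`: every `X_k → X` factors through
`U` or through `Y`. -/
theorem result {S : Scheme.{u}} {X Y Z FZ U : AlgSp.Space S} (f : Y ⟶ X)
    (hqc : AlgSp.IsQuasiCompactMor f.hom) (hqs : AlgSp.IsQuasiSeparatedMor f.hom) (i : Z ⟶ X)
    (hi : AlgSp.RepWith @IsClosedImmersion i.hom) (hifp : AlgSp.LocP @LocallyOfFinitePresentation i.hom)
    (iY : FZ ⟶ Y) (fZ : FZ ⟶ Z) (hFZ : IsPullback iY.hom fZ.hom f.hom i.hom) [IsIso fZ]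
    (hflat : ∀ y ∈ Set.range (AlgSp.Points.map iY.hom), AlgSp.IsFlatAtMor f.hom y) (j : U ⟶ X)
    (hj : AlgSp.RepWith @IsOpenImmersion j.hom)
    (hU : Set.range (AlgSp.Points.map j.hom) = (Set.range (AlgSp.Points.map i.hom))ᶜ) :
    ∃ (ι : Type u) (W : ι → AlgSp.Space S) (w : ∀ k, W k ⟶ X),
      AlgSp.IsFpqcCover (fun k => (W k).obj) (fun k => (w k).hom) ∧
        ∀ k, (∃ l : W k ⟶ U, l ≫ j = w k) ∨ (∃ l : W k ⟶ Y, l ≫ f = w k) := by
  classical
  haveI : IsIso fZ.hom := ⟨(inv fZ).hom, congrArg (fun q => q.hom) (IsIso.hom_inv_id fZ),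
    congrArg (fun q => q.hom) (IsIso.inv_hom_id fZ)⟩
  have hfs : Set.range (AlgSp.Points.map i.hom) ⊆ Set.range (AlgSp.Points.map f.hom) := by
    rintro _ ⟨z, rfl⟩
    obtain ⟨z', rfl⟩ := (Groth.Agent.AlgSpLib.isHomeomorph_map_of_isIso fZ.hom).surjective z
    exact ⟨AlgSp.Points.map iY.hom z', by rw [← AlgSp.Points.map_comp, ← AlgSp.Points.map_comp, hFZ.w]⟩
  have hflat' : ∀ y, AlgSp.Points.map f.hom y ∈ Set.range (AlgSp.Points.map i.hom) → AlgSp.IsFlatAtMor f.hom y := by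
    rintro y ⟨z, hz⟩
    obtain ⟨p, hp, -⟩ := Groth.Agent.AlgSpLib.exists_point_of_isPullback hFZ y z hz.symm
    exact hflat y ⟨p, hp⟩
  obtain ⟨ι, V, g, hV, hg, hcov⟩ := Groth.Agent.AlgSpLib.exists_affine_cover X.property
  have hdata : ∀ e, ∃ (m : ℕ) (W : ULift.{u} (Fin m) → Over S) (c : ∀ k, W k ⟶ V e), (∀ k, IsAffine (W k).left) ∧
      (∀ k, Flat (c k).left) ∧ (∀ v : ↥(V e).left, ∃ k, v ∈ Set.range (c k).left) ∧
      ∀ k, (∃ l : (AlgSp.yon S).obj (W k) ⟶ U.obj, l ≫ j.hom = (AlgSp.yon S).map (c k) ≫ g e) ∨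
        ∃ l : (AlgSp.yon S).obj (W k) ⟶ Y.obj, l ≫ f.hom = (AlgSp.yon S).map (c k) ≫ g e := fun e => by
    haveI := hV e
    exact Groth.Agent.GlueIso.exists_cover_of_chart f hqc i hi hifp hfs hflat' j hj hU (g e) (hg e)
  choose m W c hW hc hs hl using hdata
  have hcov' := Groth.Agent.AlgSpLib.isFpqcCover_comp (S := S) X.property (fun e => AlgSp.IsAlgSpace.yon_obj (V e))
    hcov (κ := fun e => ULift.{u} (Fin (m e))) (Xij := fun e k => (AlgSp.yon S).obj (W e k))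
    (gij := fun e k => (AlgSp.yon S).map (c e k))
    (fun e => haveI := hV e; Groth.Agent.GlueIso.isFpqcCover_affine (W e) (c e) (hW e) (hc e) (hs e))
  refine ⟨Σ e, ULift.{u} (Fin (m e)), fun r => (AlgSp.ofScheme S).obj (W r.1 r.2),
    fun r => ObjectProperty.homMk ((AlgSp.yon S).map (c r.1 r.2) ≫ g r.1), hcov', fun r => ?_⟩
  rcases hl r.1 r.2 with ⟨l, hl⟩ | ⟨l, hl⟩
  · exact Or.inl ⟨ObjectProperty.homMk l, ObjectProperty.hom_ext _ hl⟩
  · exact Or.inr ⟨ObjectProperty.homMk l, ObjectProperty.hom_ext _ hl⟩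

end Groth.Agent.S10704
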