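import Groth.Statements.S1072
import Mathlib

set_option autoImplicit false
universe v v' u u'
open CategoryTheory CategoryTheory.Limits
open CohDer

namespace Groth.Agent.S1072

set_option backward.isDefEq.respectTransparency false

section

variable {A : Type u} [Category.{v} A] [Abelian A] (W : MorphismProperty A) [W.HasLeftCalculusOfFractions]
  [W.HasRightCalculusOfFractions] {D : Type u'} [Category.{v'} D] (L : A ⥤ D) [L.IsLocalization W]
  [Preadditive D] [L.Additive]

include W

lemma exists_pre {X Y : A} (f : X ⟶ Y) (h : L.map f = 0) : ∃ (X' : A) (s : X' ⟶ X), W s ∧ s ≫ f = 0 := by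
  rw [← L.map_zero, MorphismProperty.map_eq_iff_precomp L W] at h
  obtain ⟨X', s, hs, e⟩ := h
  exact ⟨X', s, hs, by simpa using e⟩

lemma exists_post {X Y : A} (f : X ⟶ Y) (h : L.map f = 0) : ∃ (Y' : A) (s : Y ⟶ Y'), W s ∧ f ≫ s = 0 := by
  rw [← L.map_zero, MorphismProperty.map_eq_iff_postcomp L W] at h
  obtain ⟨X', s, hs, e⟩ := h
  exact ⟨X', s, hs, by simpa using e⟩

lemma mono_map {X Y : A} (f : X ⟶ Y) [Mono f] : Mono (L.map f) := by
  have := Localization.essSurj L W
  rw [Preadditive.mono_iff_cancel_zero]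
  intro T z hz
  obtain ⟨φ, hφ⟩ := Localization.exists_rightFraction L W ((L.objObjPreimageIso T).hom ≫ z)
  have := Localization.inverts L W φ.s φ.hs
  rw [← cancel_epi (L.objObjPreimageIso T).hom, comp_zero, hφ, ← cancel_epi (L.map φ.s), comp_zero,
    MorphismProperty.RightFraction.map_s_comp_map]
  have h0 : L.map (φ.f ≫ f) = 0 := by
    have : L.map φ.s ≫ (L.objObjPreimageIso T).hom ≫ z = L.map φ.f := by rw [hφ]; simp
    rw [L.map_comp, ← this, Category.assoc, Category.assoc, hz, comp_zero, comp_zero]
  obtain ⟨X', s, hs, e⟩ := exists_pre W L _ h0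
  have := Localization.inverts L W s hs
  rw [← Category.assoc] at e
  rw [← cancel_epi (L.map s), ← L.map_comp, Preadditive.mono_iff_cancel_zero f |>.1 inferInstance _ _ e]
  simp

lemma epi_map {X Y : A} (f : X ⟶ Y) [Epi f] : Epi (L.map f) := by
  have := Localization.essSurj L W
  rw [Preadditive.epi_iff_cancel_zero]
  intro T z hz
  obtain ⟨φ, hφ⟩ := Localization.exists_leftFraction L W (z ≫ (L.objObjPreimageIso T).inv)
  have := Localization.inverts L W φ.s φ.hs
  rw [← cancel_mono (L.objObjPreimageIso T).inv, zero_comp, hφ, ← cancel_mono (L.map φ.s), zero_comp,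
    MorphismProperty.LeftFraction.map_comp_map_s]
  have h0 : L.map (f ≫ φ.f) = 0 := by
    have : z ≫ (L.objObjPreimageIso T).inv ≫ L.map φ.s = L.map φ.f := by rw [← Category.assoc, hφ]; simp
    rw [L.map_comp, ← this, reassoc_of% hz, zero_comp]
  obtain ⟨X', s, hs, e⟩ := exists_post W L _ h0
  have := Localization.inverts L W s hs
  rw [Category.assoc] at e
  rw [← cancel_mono (L.map s), ← L.map_comp, Preadditive.epi_iff_cancel_zero f |>.1 inferInstance _ _ e]
  simp

lemma lift_kernel {X Y : A} (f : X ⟶ Y) {T : D} (w : T ⟶ L.obj X) (hw : w ≫ L.map f = 0) :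
    ∃ l : T ⟶ L.obj (kernel f), l ≫ L.map (kernel.ι f) = w := by
  have := Localization.essSurj L W
  obtain ⟨φ, hφ⟩ := Localization.exists_rightFraction L W ((L.objObjPreimageIso T).hom ≫ w)
  have := Localization.inverts L W φ.s φ.hs
  have h : L.map φ.s ≫ (L.objObjPreimageIso T).hom ≫ w = L.map φ.f := by rw [hφ]; simp
  have h0 : L.map (φ.f ≫ f) = 0 := by
    rw [L.map_comp, ← h, Category.assoc, Category.assoc, hw, comp_zero, comp_zero]
  obtain ⟨X', s, hs, e⟩ := exists_pre W L _ h0
  have := Localization.inverts L W s hs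
  rw [← Category.assoc] at e
  refine ⟨(L.objObjPreimageIso T).inv ≫ inv (L.map φ.s) ≫ inv (L.map s) ≫ L.map (kernel.lift f _ e), ?_⟩
  simp only [Category.assoc, ← L.map_comp, kernel.lift_ι]
  rw [L.map_comp, IsIso.inv_hom_id_assoc, ← h]
  simp

lemma desc_cokernel {X Y : A} (f : X ⟶ Y) {T : D} (w : L.obj Y ⟶ T) (hw : L.map f ≫ w = 0) :
    ∃ l : L.obj (cokernel f) ⟶ T, L.map (cokernel.π f) ≫ l = w := by
  have := Localization.essSurj L W
  obtain ⟨φ, hφ⟩ := Localization.exists_leftFraction L W (w ≫ (L.objObjPreimageIso T).inv)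
  have := Localization.inverts L W φ.s φ.hs
  have h : w ≫ (L.objObjPreimageIso T).inv ≫ L.map φ.s = L.map φ.f := by rw [← Category.assoc, hφ]; simp
  have h0 : L.map (f ≫ φ.f) = 0 := by rw [L.map_comp, ← h, reassoc_of% hw, zero_comp]
  obtain ⟨X', s, hs, e⟩ := exists_post W L _ h0
  have := Localization.inverts L W s hs
  rw [Category.assoc] at e
  refine ⟨L.map (cokernel.desc f _ e) ≫ inv (L.map s) ≫ inv (L.map φ.s) ≫ (L.objObjPreimageIso T).hom, ?_⟩
  rw [← L.map_comp_assoc, cokernel.π_desc, L.map_comp, Category.assoc, IsIso.hom_inv_id_assoc, ← h]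
  simp

lemma preservesKernel {X Y : A} (f : X ⟶ Y) : PreservesLimit (parallelPair f 0) L := by
  have := mono_map W L (kernel.ι f)
  exact preservesLimit_of_preserves_limit_cone (kernelIsKernel f)
    ((KernelFork.isLimitMapConeEquiv _ L).2
      (Fork.IsLimit.ofExistsUnique (fun s => existsUnique_of_exists_of_unique
        (lift_kernel W L f _ (KernelFork.condition s))
        (fun _ _ h₁ h₂ => by simpa [cancel_mono] using h₁.trans h₂.symm))))

lemma preservesCokernel {X Y : A} (f : X ⟶ Y) : PreservesColimit (parallelPair f 0) L := by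
  have := epi_map W L (cokernel.π f)
  exact preservesColimit_of_preserves_colimit_cocone (cokernelIsCokernel f)
    ((CokernelCofork.isColimitMapCoconeEquiv _ L).2
      (Cofork.IsColimit.ofExistsUnique (fun s => existsUnique_of_exists_of_unique
        (desc_cokernel W L f _ (CokernelCofork.condition s))
        (fun _ _ h₁ h₂ => by simpa [cancel_epi] using h₁.trans h₂.symm))))

lemma mono_iso {X Y : A} (g : X ⟶ Y) [Mono (L.map g)] : IsIso (L.map (Abelian.factorThruImage g)) := by
  have := epi_map W L (Abelian.factorThruImage g)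
  have h0 : L.map (kernel.ι g) = 0 := by
    rw [← cancel_mono (L.map g), ← L.map_comp, kernel.condition, L.map_zero, zero_comp]
  obtain ⟨l, hl⟩ := desc_cokernel W L (kernel.ι g) (𝟙 (L.obj X)) (by rw [h0, zero_comp])
  have hmono : Mono (L.map (Abelian.coimage.π g)) := by
    have : IsSplitMono (L.map (cokernel.π (kernel.ι g))) := ⟨⟨⟨l, hl⟩⟩⟩
    exact (inferInstance : Mono (L.map (cokernel.π (kernel.ι g))))
  refine ⟨L.map (Abelian.coimageIsoImage g).inv ≫ l, ?_, ?_⟩
  · rw [← L.map_comp_assoc]
    have : Abelian.factorThruImage g ≫ (Abelian.coimageIsoImage g).inv = cokernel.π (kernel.ι g) := by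
      rw [Iso.comp_inv_eq]
      apply equalizer.hom_ext
      simp [Abelian.coimageIsoImage]
    rw [this, hl]
  · rw [← cancel_epi (L.map (Abelian.factorThruImage g)), ← Category.assoc, Category.comp_id]
    rw [show L.map (Abelian.factorThruImage g) ≫ L.map (Abelian.coimageIsoImage g).inv ≫ l = 𝟙 _ by
      rw [← L.map_comp_assoc]
      have : Abelian.factorThruImage g ≫ (Abelian.coimageIsoImage g).inv = cokernel.π (kernel.ι g) := by
        rw [Iso.comp_inv_eq]
        apply equalizer.hom_ext
        simp [Abelian.coimageIsoImage]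
      rw [this, hl], Category.id_comp]

lemma epi_iso {X Y : A} (g : X ⟶ Y) [Epi (L.map g)] : IsIso (L.map (Abelian.image.ι g)) := by
  have := mono_map W L (Abelian.image.ι g)
  have h0 : L.map (cokernel.π g) = 0 := by
    rw [← cancel_epi (L.map g), ← L.map_comp, cokernel.condition, L.map_zero, comp_zero]
  obtain ⟨l, hl⟩ := lift_kernel W L (cokernel.π g) (𝟙 (L.obj Y)) (by rw [h0, comp_zero])
  exact ⟨l, by rw [← cancel_mono (L.map (Abelian.image.ι g)), Category.assoc, hl, Category.comp_id,
    Category.id_comp], hl⟩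

lemma abelian : Nonempty (Abelian D) ∧ PreservesFiniteLimits L ∧ PreservesFiniteColimits L := by
  have := Localization.essSurj L W
  have := Localization.essSurj_mapArrow L W
  have hP : HasFiniteProducts D := L.hasFiniteProducts_of_additive_of_essSurj
  have hK : HasKernels D := ⟨fun {X Y} f => by
    obtain ⟨g, ⟨e⟩⟩ := (Localization.essSurj_mapArrow L W).mem_essImage (Arrow.mk f)
    have := preservesKernel W L g.hom
    have : HasLimit (parallelPair (L.map g.hom) 0) :=
      ⟨_, (KernelFork.isLimitMapConeEquiv _ L).1 (isLimitOfPreserves L (kernelIsKernel g.hom))⟩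
    exact hasLimit_of_iso (show parallelPair (L.map g.hom) 0 ≅ _ from
      parallelPair.ext (Arrow.leftFunc.mapIso e) (Arrow.rightFunc.mapIso e))⟩
  have hC : HasCokernels D := ⟨fun {X Y} f => by
    obtain ⟨g, ⟨e⟩⟩ := (Localization.essSurj_mapArrow L W).mem_essImage (Arrow.mk f)
    have := preservesCokernel W L g.hom
    have : HasColimit (parallelPair (L.map g.hom) 0) :=
      ⟨_, (CokernelCofork.isColimitMapCoconeEquiv _ L).1 (isColimitOfPreserves L (cokernelIsCokernel g.hom))⟩
    exact hasColimit_of_iso (show _ ≅ parallelPair (L.map g.hom) 0 from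
      parallelPair.ext (Arrow.leftFunc.mapIso e.symm) (Arrow.rightFunc.mapIso e.symm))⟩
  have hM : IsNormalMonoCategory D := ⟨fun {X Y} f hf => by
    let a := L.mapArrow.objPreimage (Arrow.mk f)
    let e : L.mapArrow.obj a ≅ Arrow.mk f := L.mapArrow.objObjPreimageIso (Arrow.mk f)
    have : Mono (L.map a.hom) := ((MorphismProperty.monomorphisms D).arrow_iso_iff e).2 (.infer_property f)
    have := mono_iso W L a.hom
    have e' : Arrow.mk (L.map (Abelian.image.ι a.hom)) ≅ Arrow.mk f :=
      (Arrow.isoMk' (L.map a.hom) (L.map (Abelian.image.ι a.hom)) (asIso (L.map (Abelian.factorThruImage a.hom)))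
        (Iso.refl _) (by simp [← L.map_comp])).symm ≪≫ e
    let hf' := normalMonoOfMono (Abelian.image.ι a.hom)
    have := preservesKernel W L hf'.g
    exact ⟨NormalMono.ofArrowIso
      { Z := L.obj hf'.Z
        g := L.map hf'.g
        w := by rw [← L.map_comp]; simp [hf'.w]
        isLimit := (KernelFork.isLimitMapConeEquiv _ L).1 (isLimitOfPreserves L hf'.isLimit) } e'⟩⟩
  have hE : IsNormalEpiCategory D := ⟨fun {X Y} f hf => by
    let a := L.mapArrow.objPreimage (Arrow.mk f)
    let e : L.mapArrow.obj a ≅ Arrow.mk f := L.mapArrow.objObjPreimageIso (Arrow.mk f)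
    have : Epi (L.map a.hom) := ((MorphismProperty.epimorphisms D).arrow_iso_iff e).2 (.infer_property f)
    have := epi_iso W L a.hom
    have e' : Arrow.mk (L.map (Abelian.factorThruImage a.hom)) ≅ Arrow.mk f :=
      (Arrow.isoMk (Iso.refl _) (asIso (L.map (Abelian.image.ι a.hom))) (by simp [← L.map_comp]) :
        Arrow.mk (L.map (Abelian.factorThruImage a.hom)) ≅ Arrow.mk (L.map a.hom)) ≪≫ e
    let hf' := normalEpiOfEpi (Abelian.factorThruImage a.hom)
    have := preservesCokernel W L hf'.g
    exact ⟨NormalEpi.ofArrowIso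
      { W := L.obj hf'.W
        g := L.map hf'.g
        w := by rw [← L.map_comp]; simp [hf'.w]
        isColimit := (CokernelCofork.isColimitMapCoconeEquiv _ L).1 (isColimitOfPreserves L hf'.isColimit) } e'⟩⟩
  let hab : Abelian D := { }
  refine ⟨⟨hab⟩, ?_, ?_⟩
  · rw [((Functor.preservesFiniteLimits_tfae L).out 3 2 :)]
    intro _ _ f
    exact preservesKernel W L f
  · rw [((Functor.preservesFiniteColimits_tfae L).out 3 2 :)]
    intro _ _ f
    exact preservesCokernel W L f

end


/-- Let A be an abelian category, W a class of morphisms admitting both left and right calculus of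
fractions, and L : A ⥤ D a localization functor for W. Then D admits the structure of an abelian
category and L is exact (preserves finite limits and finite colimits). -/
theorem result {A : Type u} [Category.{v} A] [Abelian A]
    (W : MorphismProperty A) [W.HasLeftCalculusOfFractions] [W.HasRightCalculusOfFractions]
    {D : Type u'} [Category.{v'} D] (L : A ⥤ D) [L.IsLocalization W] :
    Nonempty (Abelian D) ∧ PreservesFiniteLimits L ∧ PreservesFiniteColimits L := by
  letI : Preadditive D := Localization.preadditive L W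
  haveI : L.Additive := Localization.functor_additive L W
  exact abelian W L

end Groth.Agent.S1072
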