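import Groth.Statements.S10721
import Groth.Agent.EtGlueLib.Alg

set_option autoImplicit false
universe u
open TensorProduct
open EtAlg Groth.Agent
open scoped TensorProduct

namespace Groth.Agent.S10721

/-- Glueing along a glueing pair detects closed immersions of affine schemes, stated for coordinate
rings. Let `(R → R', f)` be a glueing pair and `φ : A → B` a homomorphism of `R`-algebras with `A`,
`B` glueable as `R`-modules (so `Spec A`, `Spec B` are affine and glueable over `Spec R`). Then `φ`
is surjective (a closed immersion on spectra) if and only if `A_f → B_f` and `R' ⊗_R A → R' ⊗_R B`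
are surjective. -/
theorem result (R : Type u) [CommRing R] (R' : Type u) [CommRing R'] [Algebra R R'] (f : R)
    (hRR' : EtGlue.IsGlueingPair R R' f) (A B : Type u) [CommRing A] [Algebra R A] [CommRing B] [Algebra R B]
    (hA : EtGlue.IsGlueable R R' f A) (hB : EtGlue.IsGlueable R R' f B) (φ : A →ₐ[R] B) :
    Function.Surjective φ ↔
      Function.Surjective (Localization.awayMap φ.toRingHom (algebraMap R A f)) ∧ Function.Surjective (Algebra.TensorProduct.map (AlgHom.id R R') φ).toRingHom := by
  letI := φ.toRingHom.toAlgebra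
  letI := (Algebra.TensorProduct.map (AlgHom.id R R') φ).toRingHom.toAlgebra
  letI : Algebra A (R' ⊗[R] A) := Algebra.TensorProduct.rightAlgebra
  let fA := algebraMap R A f
  letI : Algebra (Localization.Away fA) (Localization.Away (algebraMap A B fA)) :=
    (Localization.awayMap (algebraMap A B) fA).toAlgebra
  have hA' := EtGlueLib.pair_of_glueable hRR' A hA
  obtain ⟨eR⟩ := EtGlueLib.equiv_tensor (R' := R') A B φ
  obtain ⟨eL⟩ := EtGlueLib.equiv_away A B fA
  show Function.Surjective (algebraMap A B) ↔
    Function.Surjective (algebraMap (Localization.Away fA) (Localization.Away (algebraMap A B fA))) ∧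
    Function.Surjective (algebraMap (R' ⊗[R] A) (R' ⊗[R] B))
  have hbc : ∀ (S : Type u) [CommRing S] [Algebra A S], Function.Surjective (algebraMap A B) →
      Function.Surjective (algebraMap S (S ⊗[A] B)) := fun S _ _ h y => by
    induction y using TensorProduct.induction_on with
    | zero => exact ⟨0, map_zero _⟩
    | tmul s b =>
      obtain ⟨a, rfl⟩ := h b
      refine ⟨a • s, ?_⟩
      rw [Algebra.TensorProduct.algebraMap_apply, Algebra.algebraMap_self_apply, Algebra.algebraMap_eq_smul_one,
        ← TensorProduct.smul_tmul]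
    | add x y hx hy =>
      obtain ⟨a, ha⟩ := hx; obtain ⟨b, hb⟩ := hy
      exact ⟨a + b, by rw [map_add, ha, hb]⟩
  have tr : ∀ (S X Y : Type u) [CommRing S] [CommRing X] [CommRing Y] [Algebra S X] [Algebra S Y] (e : X ≃ₐ[S] Y),
      Function.Surjective (algebraMap S X) → Function.Surjective (algebraMap S Y) := fun S X Y _ _ _ _ _ e h y => by
    obtain ⟨s, hs⟩ := h (e.symm y)
    exact ⟨s, by rw [← e.apply_symm_apply y, ← hs, e.commutes]⟩
  exact ⟨fun h => ⟨tr _ _ _ eL (hbc _ h), tr _ _ _ eR (hbc _ h)⟩,
    fun ⟨h1, h2⟩ => EtGlueLib.surjective hA' B (tr _ _ _ eR.symm h2) (tr _ _ _ eL.symm h1)⟩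

end Groth.Agent.S10721
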