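import Groth.Statements.S10722
import Groth.Agent.EtGlueLib.Alg

set_option autoImplicit false
universe u
open TensorProduct
open EtAlg Groth.Agent
open scoped TensorProduct

namespace Groth.Agent.S10722

/-- Glueing along a glueing pair detects finite type morphisms of affine schemes, stated for coordinate
rings. Let `(R → R', f)` be a glueing pair and `φ : A → B` a homomorphism of `R`-algebras with `A`,
`B` glueable as `R`-modules (so `Spec A`, `Spec B` are affine and glueable over `Spec R`). Then `φ`
is of finite type if and only if `A_f → B_f` and `R' ⊗_R A → R' ⊗_R B` are. -/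
theorem result (R : Type u) [CommRing R] (R' : Type u) [CommRing R'] [Algebra R R'] (f : R)
    (hRR' : EtGlue.IsGlueingPair R R' f) (A B : Type u) [CommRing A] [Algebra R A] [CommRing B] [Algebra R B]
    (hA : EtGlue.IsGlueable R R' f A) (hB : EtGlue.IsGlueable R R' f B) (φ : A →ₐ[R] B) :
    φ.toRingHom.FiniteType ↔ (Localization.awayMap φ.toRingHom (algebraMap R A f)).FiniteType ∧ (Algebra.TensorProduct.map (AlgHom.id R R') φ).toRingHom.FiniteType := by
  letI := φ.toRingHom.toAlgebra
  letI := (Algebra.TensorProduct.map (AlgHom.id R R') φ).toRingHom.toAlgebra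
  letI : Algebra A (R' ⊗[R] A) := Algebra.TensorProduct.rightAlgebra
  let fA := algebraMap R A f
  letI : Algebra (Localization.Away fA) (Localization.Away (algebraMap A B fA)) :=
    (Localization.awayMap (algebraMap A B) fA).toAlgebra
  have hA' := EtGlueLib.pair_of_glueable hRR' A hA
  obtain ⟨eR⟩ := EtGlueLib.equiv_tensor (R' := R') A B φ
  obtain ⟨eL⟩ := EtGlueLib.equiv_away A B fA
  show (algebraMap A B).FiniteType ↔ (algebraMap (Localization.Away fA) (Localization.Away (algebraMap A B fA))).FiniteType ∧
    (algebraMap (R' ⊗[R] A) (R' ⊗[R] B)).FiniteType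
  simp only [RingHom.finiteType_algebraMap]
  constructor
  · intro h
    exact ⟨.equiv inferInstance eL, .equiv inferInstance eR⟩
  · rintro ⟨h1, h2⟩
    haveI : Algebra.FiniteType (R' ⊗[R] A) ((R' ⊗[R] A) ⊗[A] B) := .equiv h2 eR.symm
    haveI : Algebra.FiniteType (Localization.Away fA) (Localization.Away fA ⊗[A] B) := .equiv h1 eL.symm
    exact EtGlueLib.finiteType hA' B

end Groth.Agent.S10722
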