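import Groth.Statements.S10723
import Groth.Agent.EtGlueLib.Alg

set_option autoImplicit false
universe u
open TensorProduct
open EtAlg Groth.Agent
open scoped TensorProduct

namespace Groth.Agent.S10723

/-- Glueing along a glueing pair detects morphisms of affine schemes that are flat and of finite
presentation, stated for coordinate rings. Let `(R → R', f)` be a glueing pair and `φ : A → B` a
homomorphism of `R`-algebras with `A`, `B` glueable as `R`-modules (so `Spec A`, `Spec B` are affine
and glueable over `Spec R`). Then `φ` is flat and of finite presentation if and only if `A_f → B_f`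
and `R' ⊗_R A → R' ⊗_R B` are. -/
theorem result (R : Type u) [CommRing R] (R' : Type u) [CommRing R'] [Algebra R R'] (f : R)
    (hRR' : EtGlue.IsGlueingPair R R' f) (A B : Type u) [CommRing A] [Algebra R A] [CommRing B] [Algebra R B]
    (hA : EtGlue.IsGlueable R R' f A) (hB : EtGlue.IsGlueable R R' f B) (φ : A →ₐ[R] B) :
    (φ.toRingHom.Flat ∧ φ.toRingHom.FinitePresentation) ↔
      ((Localization.awayMap φ.toRingHom (algebraMap R A f)).Flat ∧ (Localization.awayMap φ.toRingHom (algebraMap R A f)).FinitePresentation) ∧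
        ((Algebra.TensorProduct.map (AlgHom.id R R') φ).toRingHom.Flat ∧ (Algebra.TensorProduct.map (AlgHom.id R R') φ).toRingHom.FinitePresentation) := by
  letI := φ.toRingHom.toAlgebra
  letI := (Algebra.TensorProduct.map (AlgHom.id R R') φ).toRingHom.toAlgebra
  letI : Algebra A (R' ⊗[R] A) := Algebra.TensorProduct.rightAlgebra
  let fA := algebraMap R A f
  letI : Algebra (Localization.Away fA) (Localization.Away (algebraMap A B fA)) :=
    (Localization.awayMap (algebraMap A B) fA).toAlgebra
  have hA' := EtGlueLib.pair_of_glueable hRR' A hA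
  obtain ⟨eR⟩ := EtGlueLib.equiv_tensor (R' := R') A B φ
  obtain ⟨eL⟩ := EtGlueLib.equiv_away A B fA
  show (algebraMap A B).Flat ∧ (algebraMap A B).FinitePresentation ↔
    ((algebraMap (Localization.Away fA) (Localization.Away (algebraMap A B fA))).Flat ∧
      (algebraMap (Localization.Away fA) (Localization.Away (algebraMap A B fA))).FinitePresentation) ∧
    ((algebraMap (R' ⊗[R] A) (R' ⊗[R] B)).Flat ∧ (algebraMap (R' ⊗[R] A) (R' ⊗[R] B)).FinitePresentation)
  simp only [RingHom.flat_algebraMap_iff, RingHom.finitePresentation_algebraMap]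
  constructor
  · rintro ⟨h, h'⟩
    exact ⟨⟨.of_linearEquiv eL.toLinearEquiv.symm, .equiv eL⟩, .of_linearEquiv eR.toLinearEquiv.symm, .equiv eR⟩
  · rintro ⟨⟨h1, h1'⟩, h2, h2'⟩
    haveI : Module.Flat (R' ⊗[R] A) ((R' ⊗[R] A) ⊗[A] B) := .of_linearEquiv eR.toLinearEquiv
    haveI : Module.Flat (Localization.Away fA) (Localization.Away fA ⊗[A] B) := .of_linearEquiv eL.toLinearEquiv
    haveI : Algebra.FinitePresentation (R' ⊗[R] A) ((R' ⊗[R] A) ⊗[A] B) := .equiv eR.symm
    haveI : Algebra.FinitePresentation (Localization.Away fA) (Localization.Away fA ⊗[A] B) := .equiv eL.symm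
    exact ⟨EtGlueLib.flat_alg hA' B, EtGlueLib.finitePresentation_alg hA' B⟩

end Groth.Agent.S10723
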