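import Groth.Statements.S10735
import Groth.Agent.EtSerre.Space
import Groth.Agent.EtQC.CohColim
import Groth.Agent.EtVan.ColimH
import Groth.Agent.QCAlg.Colim

set_option autoImplicit false
universe u
open CategoryTheory CategoryTheory.Limits AlgebraicGeometry Opposite
open AlgSp

set_option linter.style.haveILetI false
set_option backward.isDefEq.respectTransparency false

namespace Groth.Agent.S10735

/-- Let X be a Noetherian algebraic space (quasi-compact, quasi-separated, locally Noetherian) over a
quasi-separated scheme S such that H^1(X, M) = 0 for every coherent O_X-module M on the small etale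
site of X (coherent meaning of finite presentation, X being locally Noetherian). Then X is an affine
scheme: there is an affine scheme T over S with h_T ≅ X. -/
theorem result {S : Scheme.{u}}
    [QuasiSeparatedSpace ↥S] (X : AlgSp.Space S) (hqc : AlgSp.IsQuasiCompactSp X.obj)
    (hqs : AlgSp.IsQuasiSeparatedSp X.obj) (hN : AlgSp.IsLocNoethSp X.obj)
    (h1 : ∀ M : AlgSp.ModEt X.obj, M.IsFinitePresentation → Subsingleton (AlgSp.HModEt X.obj M 1)) :
    ∃ T : Over S, IsAffine T.left ∧ Nonempty ((AlgSp.yon S).obj T ≅ X.obj) := by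
  refine Groth.Agent.EtSerre.isAff_of_h1Zero X hqc hqs fun M hM => ?_
  haveI := hM
  haveI := Groth.Agent.AlgSpLib.compactSpace_of_isQuasiCompactSp hqc
  obtain ⟨U, p, hU, hpe, hps⟩ := Groth.Agent.AlgSpLib.exists_affine_chart_of_compact X.property
  let E₀ : AlgSp.EtOver X.obj := AlgSp.EtOver.mk p hpe
  haveI : IsAffine E₀.obj.left.left := hU
  obtain ⟨hc⟩ := Groth.Agent.EtQC.nonempty_isColimit_chartCocone X.property hqs M (E₀ := E₀) hps
  haveI := Groth.Agent.EtQC.isFiltered_finset M (E₀ := E₀)
  haveI := Groth.Agent.EtVan.preservesColimitsOfShape_HEtF X hqc hqs (Finset (AlgSp.sectModEt M E₀)) 1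
  haveI : PreservesColimitsOfShape (Finset (AlgSp.sectModEt M E₀)) (AlgSp.toAbEt X.obj) :=
    inferInstanceAs (PreservesColimitsOfShape (Finset (AlgSp.sectModEt M E₀))
      (SheafOfModules.toSheaf.{u + 1} (AlgSp.OEtRing X.obj)))
  let hc' := isColimitOfPreserves (AlgSp.toAbEt X.obj ⋙ AlgSp.HEtF X.obj 1) hc
  refine subsingleton_of_forall_eq 0 fun x => ?_
  obtain ⟨t, y, rfl⟩ := Concrete.isColimit_exists_rep _ hc' x
  have := h1 _ (Groth.Agent.EtQC.isFinitePresentation_chartFam X.property hqs hN M (E₀ := E₀) hps t)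
  have hy : y = 0 := @Subsingleton.elim _ this _ _
  rw [hy]
  exact map_zero _

end Groth.Agent.S10735
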