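import Groth.Statements.S10737
import Groth.Agent.EtQC.HomColimFP
import Groth.Agent.AlgSpLib.QCompact

set_option autoImplicit false
universe u
open CategoryTheory CategoryTheory.Limits AlgebraicGeometry Opposite
open AlgSp

namespace Groth.Agent.S10737

/-- Let X be a quasi-compact algebraic space, quasi-separated over a quasi-separated base scheme S, and
G an O_X-module of finite presentation on the small etale site of X. Then for every system (F_i) of
O_X-modules indexed by a nonempty directed preorder I, the canonical map colim_i Hom(G, F_i) ⟶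
Hom(G, colim_i F_i) is a bijection: the functor Hom(G, -) preserves colimits of shape I. -/
theorem result {S : Scheme.{u}}
    [QuasiSeparatedSpace ↥S] (X : AlgSp.Space S) (hqc : AlgSp.IsQuasiCompactSp X.obj)
    (hqs : AlgSp.IsQuasiSeparatedSp X.obj) (G : AlgSp.ModEt X.obj) [G.IsFinitePresentation]
    (I : Type (u + 1)) [Preorder I] [IsDirected I (· ≤ ·)] [Nonempty I] :
    PreservesColimitsOfShape I (coyoneda.obj (op G)) := by
  haveI := Groth.Agent.AlgSpLib.compactSpace_of_isQuasiCompactSp hqc
  obtain ⟨U, p, hU, he, hs⟩ := Groth.Agent.AlgSpLib.exists_affine_chart_of_compact X.property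
  let E₀ : AlgSp.EtOver X.obj := ⟨CategoryTheory.CostructuredArrow.mk p, he⟩
  haveI : IsAffine E₀.obj.left.left := hU
  exact ⟨fun {D} => Groth.Agent.EtQC.preservesColimit_coyoneda (E₀ := E₀) X.property hqs hs G D⟩

end Groth.Agent.S10737
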