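import Groth.Statements.S10754
import Groth.Agent.EtVan.Main

set_option autoImplicit false
universe u
open CategoryTheory CategoryTheory.Limits AlgebraicGeometry Opposite
open AlgSp

set_option linter.style.haveILetI false
set_option backward.isDefEq.respectTransparency false

namespace Groth.Agent.S10754

/-- Consider an algebraic space X over S that happens to be an affine scheme, meaning X ≅ h_T where T is
an affine scheme over S. Then for each i > 0 and each quasi-coherent O_X-module M on the small etale
site of X, the cohomology H^i(X, M) vanishes. -/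
theorem result {S : Scheme.{u}} (X : AlgSp.Space S) (T : Over S)
    (hT : IsAffine T.left) (e : (AlgSp.yon S).obj T ≅ X.obj) (M : AlgSp.ModEt X.obj) [M.IsQuasicoherent]
    (i : ℕ) (hi : 0 < i) :
    Subsingleton (AlgSp.HModEt X.obj M i) := by
  open _root_.AlgSp in
  let E0 : EtOver X.obj := EtOver.mk e.hom (Groth.Agent.AlgSpLib.repWith_of_isIso e.hom)
  have hterm : IsTerminal E0 := IsTerminal.ofUniqueHom
    (fun W => AlgSp.EtOver.homMk ((AlgSp.yon S).preimage (W.obj.hom ≫ e.inv)) (by
      show (AlgSp.yon S).map _ ≫ e.hom = _
      rw [(AlgSp.yon S).map_preimage, Category.assoc, e.inv_hom_id, Category.comp_id]))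
    (fun W m => AlgSp.EtOver.hom_ext _ _ ((AlgSp.yon S).map_injective (by
      show (AlgSp.yon S).map m.hom.left = (AlgSp.yon S).map ((AlgSp.yon S).preimage _)
      rw [(AlgSp.yon S).map_preimage, Iso.eq_comp_inv]
      exact AlgSp.EtOver.w m)))
  obtain ⟨n, rfl⟩ := Nat.exists_eq_succ_of_ne_zero hi.ne'
  haveI : IsAffine E0.obj.left.left := hT
  exact Groth.Agent.EtVan.subsingleton_HEt hterm _ _
    (Groth.Agent.EtVan.subsingleton_ext_qcoh n X.obj M inferInstance E0 inferInstance)

end Groth.Agent.S10754
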