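import Groth.Statements.S10740
import Groth.Agent.EtVan.DimBound
import Groth.Agent.S10766
import Groth.Agent.S10754

set_option autoImplicit false
universe u
open CategoryTheory CategoryTheory.Limits AlgebraicGeometry Opposite
open AlgSp

set_option linter.style.haveILetI false
set_option backward.isDefEq.respectTransparency false

namespace Groth.Agent.S10740

/-- Let X be a quasi-compact algebraic space, quasi-separated over a quasi-separated base scheme S, with
dim X ≤ d for a natural number d, and let M be a quasi-coherent O_X-module on the small etale site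
of X. Then H^q(X, M) = 0 for every q > d. (The companion statements on surjectivity of restriction
to a quasi-compact open subspace in degree d and on cohomology with supports are not included.) -/
theorem result {S : Scheme.{u}} [QuasiSeparatedSpace ↥S] (X : AlgSp.Space S)
    (hqc : AlgSp.IsQuasiCompactSp X.obj) (hqs : AlgSp.IsQuasiSeparatedSp X.obj) (d : ℕ)
    (hdim : AlgSp.dim X.obj ≤ (d : WithBot ℕ∞)) (M : AlgSp.ModEt X.obj) [M.IsQuasicoherent]
    (q : ℕ) (hq : d < q) :
    Subsingleton (AlgSp.HModEt X.obj M q) := by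
  open _root_.AlgSp in
  let X₀ : EtSpOver X := ⟨Over.mk (𝟙 X), Groth.Agent.EtVan.isEtaleMor_of_open
    ((repWith_isMultiplicative (S := S) @IsOpenImmersion).id_mem _)⟩
  refine Groth.Agent.S10766.result X hqc hqs
    (fun W => Groth.Agent.EtVan.Bnd W.obj.left.obj (d + 1)) ?_ ?_ X₀ hqc hqs M inferInstance q hq
  · rintro W T hT ⟨e⟩ N hN i hi
    haveI := hN
    exact Groth.Agent.S10754.result W.obj.left T hT e N i (by omega)
  · rintro W U V UV j f p r hW hWs hU ⟨T, hT, ⟨e⟩⟩ hsq - hnU - -
    have hf' : AlgSp.RepWith @Etale (e.hom ≫ f.hom.left.hom) :=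
      hsq.2.1 e.hom (Groth.Agent.AlgSpLib.repWith_of_isIso e.hom)
    let V' : AlgSp.EtOver W.obj.left.obj := AlgSp.EtOver.mk (e.hom ≫ f.hom.left.hom) hf'
    haveI : IsAffine V'.obj.left.left := hT
    haveI : IsAffine T.left := hT
    obtain ⟨-, -, T', P', i, p₁, p₂, hi, sqi, hp₁⟩ := id hsq
    have hsq' : AlgSp.IsElemDistSq j.hom.left.hom V'.obj.hom :=
      ⟨hsq.1, AlgSp.isEtaleMor_of_repWith _ hf', T', P', i, p₁, p₂ ≫ e.inv, hi,
        IsPullback.of_iso sqi (Iso.refl _) (Iso.refl _) e.symm (Iso.refl _)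
          (by simp) (by simp) (by simp) (by simp [V', AlgSp.EtOver.mk]), hp₁⟩
    have hV : topologicalKrullDim ↥T.left ≤ (d : WithBot ℕ∞) :=
      (le_trans (le_iSup_of_le T (le_iSup_of_le ((e.hom ≫ f.hom.left.hom) ≫ W.obj.hom.hom)
        (le_iSup (fun _ : AlgSp.RepWith @Etale ((e.hom ≫ f.hom.left.hom) ≫ W.obj.hom.hom) => topologicalKrullDim ↥T.left)
          (W.property (e.hom ≫ f.hom.left.hom) hf')))) hdim)
    have hA : ringKrullDim Γ(T.left, ⊤) ≤ (d : WithBot ℕ∞) := by
      rw [IsHomeomorph.topologicalKrullDim_eq _ T.left.isoSpec.hom.homeomorph.isHomeomorph] at hV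
      rw [← PrimeSpectrum.topologicalKrullDim_eq_ringKrullDim]
      exact hV
    exact Groth.Agent.EtVan.bnd_step_dim (W := W.obj.left) hWs hU j.hom.left hsq'
      (Groth.Agent.KrullCL.chainLT_of_ringKrullDim_le hA) hnU

end Groth.Agent.S10740
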