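import Groth.Statements.S10749
import Groth.Agent.EtQC.CohPullLimit
import Groth.Agent.EtQC.PullExist

set_option autoImplicit false
universe u
open CategoryTheory CategoryTheory.Limits AlgebraicGeometry Opposite
open AlgSp

namespace Groth.Agent.S10749

/-- Let f : X ⟶ Y be an affine morphism of algebraic spaces over a quasi-separated scheme S with Y
Noetherian (quasi-compact, quasi-separated, locally Noetherian). Then every quasi-coherent
O_X-module M on the small etale site of X is a filtered colimit of O_X-modules of finite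
presentation. -/
theorem result {S : Scheme.{u}} [QuasiSeparatedSpace ↥S]
    {X Y : AlgSp.Space S} (f : X ⟶ Y) (haff : AlgSp.IsAffineMor f.hom) (hqc : AlgSp.IsQuasiCompactSp Y.obj)
    (hqs : AlgSp.IsQuasiSeparatedSp Y.obj) (hN : AlgSp.IsLocNoethSp Y.obj) (M : AlgSp.ModEt X.obj)
    [M.IsQuasicoherent] :
    ∃ (J : Type (u + 1)) (_ : SmallCategory J) (_ : IsFiltered J) (D : J ⥤ AlgSp.ModEt X.obj)
      (ι : D ⟶ (Functor.const J).obj M),
      (∀ j, (D.obj j).IsFinitePresentation) ∧ Nonempty (IsColimit (Cocone.mk M ι)) := by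
  classical
  have hrep : AlgSp.Representable f.hom := ((Groth.Agent.AlgSpLib.isAffineMor_iff_repWith f.hom).1 haff).1
  haveI := Groth.Agent.EtQC.isRightAdjoint_pushModEt hrep
  haveI := Groth.Agent.AlgSpLib.compactSpace_of_isQuasiCompactSp hqc
  obtain ⟨U, p, hU, he, hs⟩ := Groth.Agent.AlgSpLib.exists_affine_chart_of_compact Y.property
  let E₀ : AlgSp.EtOver Y.obj := AlgSp.EtOver.mk p he
  haveI : IsAffine E₀.obj.left.left := hU
  haveI : IsAffine ((AlgSp.EtOver.bc hrep).obj E₀).obj.left.left := Groth.Agent.EtQC.isAffine_bc hrep haff E₀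
  haveI := Groth.Agent.EtQC.isQuasicoherent_push_affine hrep haff M
  haveI : ∀ t : Groth.Agent.EtQC.Idx₀ hrep E₀ M,
      ((AlgSp.pushModEt hrep).obj (Groth.Agent.EtQC.relMod hrep Y.property hqs E₀ M t)).IsQuasicoherent := fun t => by
    haveI := Groth.Agent.EtQC.isQuasicoherent_pullFam hrep Y.property hqs E₀ M t
    haveI : (Groth.Agent.EtQC.relMod hrep Y.property hqs E₀ M t).IsQuasicoherent :=
      Groth.Agent.EtQC.isQuasicoherent_kernel _
    exact Groth.Agent.EtQC.isQuasicoherent_push_affine hrep haff _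
  exact ⟨Groth.Agent.EtQC.Idx hrep Y.property hqs E₀ M, inferInstance,
    Groth.Agent.EtQC.isFiltered_idx hrep Y.property hqs E₀ M,
    Groth.Agent.EtQC.presDiagram hrep Y.property hqs E₀ M,
    (Groth.Agent.EtQC.presCocone hrep Y.property hqs E₀ M).ι,
    Groth.Agent.EtQC.isFinitePresentation_presDiagram hrep X.property Y.property hqs hN E₀ hs M,
    Groth.Agent.EtQC.nonempty_isColimit_presCocone hrep X.property Y.property hqs E₀ hs M⟩

end Groth.Agent.S10749
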