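import Groth.Statements.S1075
import Groth.Agent.KInj.Ops
import Mathlib.Algebra.Homology.DerivedCategory.DerivabilityStructureInjectives

set_option autoImplicit false
universe w v u
open CategoryTheory CategoryTheory.Limits
open CohDer

namespace Groth.Agent.S1075

/-- In D(A), for A abelian with enough injectives and countable products, every sequence of
bounded-below objects has a product, so derived limits of such sequences exist. -/
theorem result {A : Type u} [Category.{v} A] [Abelian A] [HasDerivedCategory.{w} A]
    [HasLimitsOfShape (Discrete ℕ) A] [EnoughInjectives A]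
    (K : ℕ → DerivedCategory A) (hK : ∀ n, ∃ a : ℤ, (K n).IsGE a) : HasProduct K := by
  have : ∀ t, ∃ (I : CochainComplex A ℤ), I.IsKInjective ∧ Nonempty (DerivedCategory.Q.obj I ≅ K t) := by
    intro t
    obtain ⟨a, ha⟩ := hK t
    obtain ⟨L, hL, ⟨e⟩⟩ := DerivedCategory.exists_iso_Q_obj_of_isGE (K t) a
    obtain ⟨M, i, hM, hinj, hqi⟩ :=
      CochainComplex.Plus.modelCategoryQuillen.exists_quasiIso_injective L a
    exact ⟨M, CochainComplex.isKInjective_of_injective M a,
      ⟨(asIso (DerivedCategory.Q.map i)).symm ≪≫ e.symm⟩⟩
  choose I hI e using this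
  exact KInj.hasProduct_Q I hI K fun t => (e t).some

end Groth.Agent.S1075
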