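import Groth.Statements.S1608
import Mathlib
import Groth.Agent.DimFormula.Ineq
-- import your own Groth.Agent.* helpers here

set_option autoImplicit false
set_option backward.isDefEq.respectTransparency false
universe u
open CategoryTheory CategoryTheory.Limits AlgebraicGeometry
open Variety

namespace Groth.Agent.S1608

open TopologicalSpace

/-- Below a prime quasi-finite over its image, primes over a point of dimension at most one are incomparable. -/
lemma eq_of_le {R B : Type u} [CommRing R] [CommRing B] [Algebra R B] [Algebra.FiniteType R B]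
    (p : Ideal R) [p.IsPrime] [IsNoetherianRing (Localization.AtPrime p)]
    (hdim : ringKrullDim (Localization.AtPrime p) ≤ 1)
    (P₀ P₁ P₂ : Ideal B) [P₀.IsPrime] [P₁.IsPrime] [P₂.IsPrime] [Algebra.QuasiFiniteAt R P₀]
    (h₀₁ : P₀ ≤ P₁) (h₁₂ : P₁ ≤ P₂) (h₁ : P₁.comap (algebraMap R B) = p) (h₂ : P₂.comap (algebraMap R B) = p)
    (h₀ : P₀.comap (algebraMap R B) ≠ p) :
    P₁ = P₂ := by
  classical
  by_contra hne
  let D := B ⧸ P₀
  let M := Algebra.algebraMapSubmonoid D p.primeCompl
  have hmem : ∀ r : R, algebraMap R D r = 0 ↔ r ∈ P₀.comap (algebraMap R B) := fun r => by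
    rw [IsScalarTower.algebraMap_apply R B D, Ideal.mem_comap]
    exact Ideal.Quotient.eq_zero_iff_mem
  have hle₀ : P₀.comap (algebraMap R B) ≤ p := h₁ ▸ Ideal.comap_mono h₀₁
  have hM : M ≤ nonZeroDivisors D := by
    rintro _ ⟨r, hr, rfl⟩
    exact mem_nonZeroDivisors_of_ne_zero fun e => hr (hle₀ ((hmem r).1 e))
  let Rp := Localization.AtPrime p
  let S := Localization M
  haveI : IsDomain S := IsLocalization.isDomain_localization hM
  haveI : Algebra.FiniteType Rp S := by
    haveI : Algebra.IsPushout R Rp D S :=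
      Algebra.IsPushout.symm (Algebra.isPushout_of_isLocalization p.primeCompl Rp D S)
    exact .equiv inferInstance (Algebra.IsPushout.equiv R Rp D S)
  let k := RingHom.ker (algebraMap Rp S)
  haveI : k.IsPrime := RingHom.ker_isPrime _
  let Rb := Rp ⧸ k
  letI : Algebra Rb S := (RingHom.kerLift (algebraMap Rp S)).toAlgebra
  haveI : FaithfulSMul Rb S :=
    (faithfulSMul_iff_algebraMap_injective _ _).2 (RingHom.kerLift_injective (algebraMap Rp S))
  haveI : Algebra.FiniteType Rb S := RingHom.finiteType_algebraMap.1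
    (RingHom.FiniteType.of_comp_finiteType (f := Ideal.Quotient.mk k) (g := algebraMap Rb S)
      (show (algebraMap Rp S).FiniteType from RingHom.finiteType_algebraMap.2 inferInstance))
  -- the function field is algebraic
  let K := FractionRing S
  have htr : Algebra.trdeg Rb S = 0 := by
    let L := P₀.ResidueField
    haveI : Algebra.QuasiFinite R L :=
      Algebra.QuasiFinite.of_surjective_algHom
        (IsScalarTower.toAlgHom R (Localization.AtPrime P₀) L) IsLocalRing.residue_surjective
    let p₀ := P₀.comap (algebraMap R B)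
    haveI : P₀.LiesOver p₀ := ⟨rfl⟩
    letI : Algebra p₀.ResidueField L := (Ideal.ResidueField.map p₀ P₀ (algebraMap R B) rfl).toAlgebra
    haveI : IsScalarTower R p₀.ResidueField L := IsScalarTower.of_algebraMap_eq fun r => by
      rw [RingHom.algebraMap_toAlgebra, Ideal.ResidueField.map_algebraMap, ← IsScalarTower.algebraMap_apply]
    haveI : Algebra.QuasiFinite p₀.ResidueField L := Algebra.QuasiFinite.of_restrictScalars R _ _
    haveI : Module.Finite p₀.ResidueField L := Algebra.QuasiFinite.iff_of_isArtinianRing.1 inferInstance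
    let j : S →+* L := IsLocalization.lift (M := M) (g := algebraMap D L) fun d => by
      refine Ne.isUnit fun e => nonZeroDivisors.ne_zero (hM d.2) (IsFractionRing.injective D L ?_)
      rw [e, map_zero]
    have hj : Function.Injective j := by
      rw [IsLocalization.lift_injective_iff]
      intro a b
      rw [(IsLocalization.injective S hM).eq_iff, (IsFractionRing.injective D L).eq_iff]
    refine trdeg_eq_zero_iff.2 ⟨fun x => ?_⟩
    obtain ⟨q, hq0, hq⟩ : IsAlgebraic p₀.ResidueField (j x) :=
      (Algebra.IsAlgebraic.of_finite p₀.ResidueField L).isAlgebraic _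
    obtain ⟨⟨b, hb⟩, hbq⟩ := IsLocalization.integerNormalization_map_to_map (nonZeroDivisors (R ⧸ p₀)) q
    let q' := IsLocalization.integerNormalization (nonZeroDivisors (R ⧸ p₀)) q
    have hq' : q' ≠ 0 := fun e => hq0 (by
      have h : (q'.map (algebraMap (R ⧸ p₀) p₀.ResidueField)) = b • q := hbq
      rw [e, Polynomial.map_zero, eq_comm, Algebra.smul_def, mul_eq_zero] at h
      exact h.resolve_left fun h' => nonZeroDivisors.ne_zero hb (IsFractionRing.injective (R ⧸ p₀)
        p₀.ResidueField (by
          rw [Polynomial.algebraMap_apply, Polynomial.C_eq_zero] at h'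
          exact h'.trans (map_zero _).symm)))
    have hφ : p₀ ≤ RingHom.ker (algebraMap R Rb) := fun r hr => by
      rw [RingHom.mem_ker, IsScalarTower.algebraMap_apply R Rp Rb, Ideal.Quotient.algebraMap_eq,
        Ideal.Quotient.eq_zero_iff_mem, RingHom.mem_ker, ← IsScalarTower.algebraMap_apply,
        IsScalarTower.algebraMap_apply R D S, (hmem r).2 hr, map_zero]
    let φ : R ⧸ p₀ →+* Rb := Ideal.Quotient.lift p₀ (algebraMap R Rb) hφ
    have hφi : Function.Injective φ := by
      refine RingHom.lift_injective_of_ker_le_ideal _ hφ fun r hr => (hmem r).1 ?_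
      rw [RingHom.mem_ker, IsScalarTower.algebraMap_apply R Rp Rb, Ideal.Quotient.algebraMap_eq,
        Ideal.Quotient.eq_zero_iff_mem, RingHom.mem_ker, ← IsScalarTower.algebraMap_apply,
        IsScalarTower.algebraMap_apply R D S] at hr
      exact IsLocalization.injective S hM (hr.trans (map_zero _).symm)
    refine ⟨q'.map φ, (Polynomial.map_ne_zero_iff hφi).2 hq', hj ?_⟩
    rw [Polynomial.aeval_def, Polynomial.eval₂_map, map_zero, Polynomial.hom_eval₂]
    have hcomp : j.comp ((algebraMap Rb S).comp φ) =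
        (algebraMap p₀.ResidueField L).comp (algebraMap (R ⧸ p₀) p₀.ResidueField) := by
      refine Ideal.Quotient.ringHom_ext (RingHom.ext fun r => ?_)
      have e1 : algebraMap p₀.ResidueField L (algebraMap (R ⧸ p₀) p₀.ResidueField (Ideal.Quotient.mk p₀ r)) =
          algebraMap R L r := by
        rw [← Ideal.Quotient.algebraMap_eq, ← IsScalarTower.algebraMap_apply R (R ⧸ p₀) p₀.ResidueField,
          ← IsScalarTower.algebraMap_apply R p₀.ResidueField L]
      refine Eq.trans ?_ e1.symm
      show j (algebraMap Rb S (algebraMap R Rb r)) = algebraMap R L r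
      rw [IsScalarTower.algebraMap_apply R Rp Rb, show algebraMap Rb S (algebraMap Rp Rb (algebraMap R Rp r)) = algebraMap Rp S (algebraMap R Rp r) from rfl,
        ← IsScalarTower.algebraMap_apply R Rp S, IsScalarTower.algebraMap_apply R D S, IsLocalization.lift_eq,
        ← IsScalarTower.algebraMap_apply]
    rw [hcomp, ← Polynomial.eval₂_map, show q'.map (algebraMap (R ⧸ p₀) p₀.ResidueField) = b • q from hbq,
      ← Polynomial.aeval_def, Algebra.smul_def b q, map_mul, hq, mul_zero]
  -- two primes over the closed point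
  have hdisj : ∀ (P : Ideal B) [P.IsPrime], P₀ ≤ P → P.comap (algebraMap R B) = p →
      (P.map (Ideal.Quotient.mk P₀)).IsPrime ∧
        Disjoint (M : Set D) (P.map (Ideal.Quotient.mk P₀) : Set D) ∧
          (P.map (Ideal.Quotient.mk P₀)).comap (Ideal.Quotient.mk P₀) = P := by
    intro P hP hle hc
    have hcm : (P.map (Ideal.Quotient.mk P₀)).comap (Ideal.Quotient.mk P₀) = P := by
      rw [Ideal.comap_map_of_surjective _ Ideal.Quotient.mk_surjective, ← RingHom.ker_eq_comap_bot,
        Ideal.mk_ker, sup_eq_left.2 hle]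
    refine ⟨Ideal.map_isPrime_of_surjective Ideal.Quotient.mk_surjective (by rwa [Ideal.mk_ker]), ?_, hcm⟩
    rw [Set.disjoint_left]
    rintro _ ⟨r, hr, rfl⟩ hm
    refine hr (hc.le ?_)
    rw [Ideal.mem_comap, ← hcm]
    exact hm
  obtain ⟨i1, i2, i3⟩ := hdisj P₁ h₀₁ h₁
  obtain ⟨j1, j2, j3⟩ := hdisj P₂ (h₀₁.trans h₁₂) h₂
  let q₁ := (P₁.map (Ideal.Quotient.mk P₀)).map (algebraMap D S)
  let q₂ := (P₂.map (Ideal.Quotient.mk P₀)).map (algebraMap D S)
  haveI : q₁.IsPrime := IsLocalization.isPrime_of_isPrime_disjoint M S _ i1 i2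
  haveI : q₂.IsPrime := IsLocalization.isPrime_of_isPrime_disjoint M S _ j1 j2
  have k1 : q₁.comap (algebraMap D S) = P₁.map (Ideal.Quotient.mk P₀) :=
    IsLocalization.under_map_of_isPrime_disjoint M S i1 i2
  have k2 : q₂.comap (algebraMap D S) = P₂.map (Ideal.Quotient.mk P₀) :=
    IsLocalization.under_map_of_isPrime_disjoint M S j1 j2
  have hlt : q₁ < q₂ := lt_of_le_of_ne (Ideal.map_mono (Ideal.map_mono h₁₂)) fun e => hne (by
    rw [← i3, ← j3, ← k1, ← k2, e])
  have hbot : (⊥ : Ideal S) < q₁ := bot_lt_iff_ne_bot.2 fun e => h₀ (by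
    refine le_antisymm hle₀ fun r hr => ?_
    rw [← hmem, ← (IsLocalization.injective S hM).eq_iff, map_zero, ← Ideal.mem_bot, ← e]
    refine Ideal.mem_map_of_mem _ ?_
    rw [IsScalarTower.algebraMap_apply R B D]
    refine Ideal.mem_map_of_mem _ ?_
    rw [← h₁] at hr
    exact hr)
  let pb := q₂.comap (algebraMap Rb S)
  haveI : q₂.LiesOver pb := ⟨rfl⟩
  obtain ⟨a, b, c, d, ha, -, hc, hd, habcd⟩ :=
    Groth.Agent.DimFormula.exists_dimension_inequality Rb S pb q₂
  rw [htr] at hd
  have hd0 : d = 0 := by exact_mod_cast hd.symm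
  have ha2 : (2 : ℕ) ≤ a := by
    have h0 : (0 : ℕ∞) + 1 ≤ q₁.height :=
      (add_le_add bot_le le_rfl).trans (Ideal.height_add_one_le_of_lt_of_isPrime hbot)
    have h' : q₁.height + 1 ≤ q₂.height := Ideal.height_add_one_le_of_lt_of_isPrime hlt
    have := (add_le_add_left h0 1).trans h'
    rw [ha] at this
    exact_mod_cast this
  have hc1 : c ≤ 1 := by
    have h1 : (pb.height : WithBot ℕ∞) ≤ 1 :=
      (Ideal.height_le_ringKrullDim_of_ne_top (inferInstance : pb.IsPrime).ne_top).trans
        ((ringKrullDim_le_of_surjective (Ideal.Quotient.mk k) Ideal.Quotient.mk_surjective).trans hdim)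
    rw [hc] at h1
    exact_mod_cast h1
  omega

/-- Let f : X → Y be locally of finite type, and let y ∈ Y be a point whose local ring is Noetherian of
dimension at most one. Suppose f is quasi-finite at the generic point of each irreducible component
of X. Then f is quasi-finite at each point x of X with f(x) = y. -/
theorem result {X Y : Scheme.{u}} (f : X ⟶ Y) [LocallyOfFiniteType f]
    (y : Y) [IsNoetherianRing (Y.presheaf.stalk y)] (hy : ringKrullDim (Y.presheaf.stalk y) ≤ 1)
    (hgen : ∀ Z ∈ irreducibleComponents (X : Type u), ∀ η : X, IsGenericPoint η Z → f.QuasiFiniteAt η)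
    (x : X) (hx : f.base x = y) : f.QuasiFiniteAt x := by
  subst hx
  have key : ∀ a b : X, f a = f x → f b = f x → a ⤳ b → a = b := by
    intro a b ha hb hab
    obtain ⟨η, hη⟩ := QuasiSober.sober (isIrreducible_irreducibleComponent (x := a))
      (isClosed_irreducibleComponent (x := a))
    have hηa : η ⤳ a := hη.specializes mem_irreducibleComponent
    have hq := hgen _ (irreducibleComponent_mem_irreducibleComponents a) η hη
    obtain ⟨V, hV, hbV, -⟩ := exists_isAffineOpen_mem_and_subset (x := f b) (U := (⊤ : Y.Opens)) trivial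
    obtain ⟨U, hU, hbU, hUV⟩ := exists_isAffineOpen_mem_and_subset (x := b) (U := f ⁻¹ᵁ V) hbV
    have haU := hab.mem_open U.2 hbU
    have hηU := hηa.mem_open U.2 haU
    algebraize [(f.appLE V U hUV).hom]
    haveI : Algebra.FiniteType Γ(Y, V) Γ(X, U) := f.finiteType_appLE hV hU hUV
    let q := fun (z : X) (hz : z ∈ U) => hU.primeIdealOf ⟨z, hz⟩
    have hle : ∀ (z w : X) (hz : z ∈ U) (hw : w ∈ U), z ⤳ w → (q z hz).asIdeal ≤ (q w hw).asIdeal := by
      intro z w hz hw h
      refine (PrimeSpectrum.le_iff_specializes _ _).2 ?_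
      rw [← hU.fromSpec.isOpenEmbedding.isInducing.specializes_iff]
      show hU.fromSpec (q z hz) ⤳ hU.fromSpec (q w hw)
      rw [hU.fromSpec_primeIdealOf, hU.fromSpec_primeIdealOf]
      exact h
    have hcomap : ∀ (z : X) (hz : z ∈ U), (q z hz).asIdeal.comap (algebraMap Γ(Y, V) Γ(X, U)) =
        (hV.primeIdealOf ⟨f z, hUV hz⟩).asIdeal := fun z hz =>
      congrArg PrimeSpectrum.asIdeal (IsAffineOpen.comap_primeIdealOf_appLE V hV U hU hUV hz)
    let p := (hV.primeIdealOf ⟨f b, hbV⟩).asIdeal
    letI := (Y.presheaf.germ V (f b) hbV).hom.toAlgebra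
    haveI := hV.isLocalization_stalk ⟨f b, hbV⟩
    let e := (IsLocalization.algEquiv p.primeCompl (Y.presheaf.stalk (f b)) (Localization.AtPrime p)).toRingEquiv
    have hstalk : ∀ z : Y, z = f x → IsNoetherianRing (Y.presheaf.stalk z) ∧
        ringKrullDim (Y.presheaf.stalk z) ≤ 1 := fun z hz => by subst hz; exact ⟨inferInstance, hy⟩
    obtain ⟨hN, hD⟩ := hstalk (f b) hb
    haveI : IsNoetherianRing (Localization.AtPrime p) := isNoetherianRing_of_ringEquiv _ e
    haveI : Algebra.QuasiFiniteAt Γ(Y, V) (q η hηU).asIdeal :=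
      hq.quasiFiniteAt hU hV hUV hηU
    have h1 : (q a haU).asIdeal.comap (algebraMap Γ(Y, V) Γ(X, U)) = p := by
      rw [hcomap a haU]
      exact congrArg (fun z => (hV.primeIdealOf z).asIdeal) (Subtype.ext (ha.trans hb.symm))
    by_cases hηb : f η = f b
    · -- the generic point is isolated in its fibre
      have hclopen := hq.isClopen_singleton_asFiber
      have himg : IsClosed ({(⟨η, rfl⟩ : f ⁻¹' {f η})} : Set (f ⁻¹' {f η})) := by
        have h := (f.fiberHomeo (f η)).isClosedMap _ hclopen.1
        rwa [Set.image_singleton, show f.fiberHomeo (f η) (f.asFiber η) = ⟨η, rfl⟩ from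
          (f.fiberHomeo (f η)).apply_symm_apply _] at h
      have hclosed : ∀ c : X, η ⤳ c → f c = f η → c = η := fun c hc hfc => by
        have h' : (⟨η, rfl⟩ : f ⁻¹' {f η}) ⤳ ⟨c, hfc⟩ := (subtype_specializes_iff _ _).2 hc
        exact congrArg Subtype.val (show (⟨c, hfc⟩ : f ⁻¹' {f η}) ∈ ({⟨η, rfl⟩} : Set (f ⁻¹' {f η})) from Specializes.mem_closed h' himg (Set.mem_singleton _))
      rw [hclosed a hηa (ha.trans (hb.symm.trans hηb.symm)), hclosed b (hηa.trans hab) hηb.symm]
    have h0 : (q η hηU).asIdeal.comap (algebraMap Γ(Y, V) Γ(X, U)) ≠ p := fun h => hηb (by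
      rw [hcomap η hηU] at h
      have h' := congrArg (fun P : PrimeSpectrum Γ(Y, V) => hV.fromSpec P) (PrimeSpectrum.ext h :
        hV.primeIdealOf ⟨f η, hUV hηU⟩ = hV.primeIdealOf ⟨f b, hbV⟩)
      simpa only [hV.fromSpec_primeIdealOf] using h')
    have hpe := eq_of_le p (by rw [← ringKrullDim_eq_of_ringEquiv e]; exact hD)
      (q η hηU).asIdeal (q a haU).asIdeal (q b hbU).asIdeal (hle _ _ hηU haU hηa) (hle _ _ haU hbU hab) h1 (hcomap b hbU) h0
    have := congrArg (fun P : PrimeSpectrum Γ(X, U) => hU.fromSpec P) (PrimeSpectrum.ext hpe :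
      q a haU = q b hbU)
    simp only [q, hU.fromSpec_primeIdealOf] at this
    exact this
  -- the point is isolated in its fibre
  rw [f.quasiFiniteAt_iff_isOpen_singleton_asFiber]
  haveI : LocallyOfFiniteType (f.fiberToSpecResidueField (f x)) :=
    MorphismProperty.pullback_snd _ _ inferInstance
  haveI : IsLocallyNoetherian (f.fiber (f x)) :=
    LocallyOfFiniteType.isLocallyNoetherian (f.fiberToSpecResidueField (f x))
  have hrel : ∀ z w : f.fiber (f x), z ⤳ w → z = w := by
    intro z w h
    refine (f.fiberι (f x)).isEmbedding.injective (key _ _ ?_ ?_ (h.map (f.fiberι (f x)).continuous))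
    · exact (f.range_fiberι (f x)).le ⟨z, rfl⟩
    · exact (f.range_fiberι (f x)).le ⟨w, rfl⟩
  let z := f.asFiber x
  obtain ⟨U, hU, hzU, -⟩ := exists_isAffineOpen_mem_and_subset (x := z) (U := (⊤ : (f.fiber (f x)).Opens)) trivial
  haveI : IsNoetherianRing Γ(f.fiber (f x), U) := IsLocallyNoetherian.component_noetherian ⟨U, hU⟩
  haveI : NoetherianSpace (U : Set (f.fiber (f x))) := noetherianSpace_of_isAffineOpen U hU
  haveI : QuasiSober (U : Set (f.fiber (f x))) := U.2.isOpenEmbedding_subtypeVal.quasiSober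
  have hsing : ∀ C ∈ irreducibleComponents (U : Set (f.fiber (f x))), C.Subsingleton := by
    intro C hC
    obtain ⟨g, hg⟩ := QuasiSober.sober hC.1 (isClosed_of_mem_irreducibleComponents C hC)
    intro c hc d hd
    exact Subtype.ext ((hrel _ _ ((hg.specializes hc).map continuous_subtype_val)).symm.trans
      (hrel _ _ ((hg.specializes hd).map continuous_subtype_val)))
  have hfin : Finite (U : Set (f.fiber (f x))) := by
    refine Set.finite_univ_iff.1 ?_
    rw [← sUnion_irreducibleComponents]
    exact NoetherianSpace.finite_irreducibleComponents.sUnion fun C hC => (hsing C hC).finite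
  haveI : T1Space (U : Set (f.fiber (f x))) := ⟨fun c => by
    rw [← closure_eq_iff_isClosed]
    refine Set.Subset.antisymm (fun d hd => ?_) subset_closure
    exact Subtype.ext (hrel _ _ ((specializes_iff_mem_closure.2 hd).map continuous_subtype_val)).symm⟩
  have ho := U.2.isOpenMap_subtype_val _ (isOpen_discrete ({⟨z, hzU⟩} : Set (U : Set (f.fiber (f x)))))
  rwa [Set.image_singleton] at ho

end Groth.Agent.S1608
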