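import Groth.Statements.S10750
import Groth.Agent.SpQS.CodimOne
import Groth.Agent.SpQS.GoodPt
import Groth.Agent.SpQS.DiagGood
import Groth.Agent.SpQS.FiniteFibreNhd

set_option autoImplicit false
universe u
open CategoryTheory CategoryTheory.Limits AlgebraicGeometry Opposite
open AlgSp

namespace Groth.Agent.S10750

/-- Take a proper morphism f : X ⟶ Y of algebraic spaces over S whose target Y is locally Noetherian,
and let y be a geometric point of Y such that the fibre X_y (a pullback of f along the corresponding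
morphism from the spectrum of the algebraically closed field) has finitely many points. Then there
is an open subspace V of Y containing the image of y such that the base change X ×_Y V ⟶ V is
finite. -/
theorem result {S : Scheme.{u}} {X Y : AlgSp.Space S}
    (f : X ⟶ Y) (hY : AlgSp.IsLocNoethSp Y.obj) (hf : AlgSp.IsProperMor f.hom) (y : AlgSp.FieldPt Y.obj)
    (hy : y.IsGeometric) (Xy : AlgSp.Sp S) (fst : Xy ⟶ X.obj) (snd : Xy ⟶ (AlgSp.yon S).obj y.pt)
    (hsq : IsPullback fst snd f.hom y.toHom) (hfin : Finite (AlgSp.Points Xy)) :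
    ∃ (V : AlgSp.Space S) (j : V ⟶ Y), AlgSp.RepWith @IsOpenImmersion j.hom ∧
      AlgSp.Points.mk y ∈ Set.range (AlgSp.Points.map j.hom) ∧
        ∀ (P : AlgSp.Space S) (fst' : P ⟶ X) (snd' : P ⟶ V), IsPullback fst'.hom snd'.hom f.hom j.hom →
          AlgSp.IsFiniteMor snd'.hom := by
  open _root_.AlgSp Groth.Agent.AlgSpLib Groth.Agent.SpQS in
  have hX := X.property
  have hY' := Y.property
  let K := y.K
  open _root_.AlgSp Groth.Agent.AlgSpLib Groth.Agent.SpQS in
  have hXk : IsAlgSpace Xy := isAlgSpace_of_isPullback_space hY' hX (IsAlgSpace.yon_obj _) hsq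
  open _root_.AlgSp Groth.Agent.AlgSpLib Groth.Agent.SpQS in
  have hlft : LocP @LocallyOfFiniteType f.hom := hf.2.1.1
  open _root_.AlgSp Groth.Agent.AlgSpLib Groth.Agent.SpQS in
  have hsnd : LocP @LocallyOfFiniteType snd := locP_baseChange etST_lft hX hY' hXk (IsAlgSpace.yon_obj _) hsq hlft
  open _root_.AlgSp Groth.Agent.AlgSpLib Groth.Agent.SpQS in
  have hdec : IsDecent Xy := by
    refine isDecent_of_quasiSeparatedSp hXk ?_
    have hsep : IsSeparatedMor snd := isSeparatedMor_baseChange hsq hf.1
    have hqs : IsQuasiSeparatedMor snd :=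
      repWith_mono (fun _ _ r (hr : IsClosedImmersion r) => (inferInstance : QuasiCompact r)) hsep
    refine (isQuasiSeparatedSp_iff_mor (snd ≫ baseStr _)).2 (isQuasiSeparatedMor_comp hqs ?_)
    haveI : IsAffine y.pt.left := inferInstanceAs (IsAffine (Spec (CommRingCat.of y.K)))
    obtain ⟨c, hc⟩ := exists_map_eq (baseStr ((yon S).obj y.pt))
    rw [← hc]
    haveI : IsSeparated c.left := by
      haveI : IsSeparated (c.left ≫ terminal.from _) := by
        rw [terminal.hom_ext (c.left ≫ _) (terminal.from y.pt.left)]; infer_instance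
      exact IsSeparated.of_comp c.left (terminal.from _)
    exact (isQuasiSeparatedMor_iff_repWith (IsAlgSpace.yon_obj _) (IsAlgSpace.yon_obj _)
      (AlgSp.representable_yon_map c)).2 ((repWith_yon_iff (P := @QuasiSeparated) c).2 inferInstance)
  have hq : ∀ z : AlgSp.Points Xy, Groth.Agent.SpQS.QFAtPt f.hom (AlgSp.Points.map fst z) := by
    intro z
    open _root_.AlgSp Groth.Agent.AlgSpLib Groth.Agent.SpQS in
    refine (qfAtPt_fibre_iff hX hY' f.hom hlft hsq z).1 ?_
    obtain ⟨U, c, w, hU, hc, hz⟩ : ∃ (U : Over S) (c : (AlgSp.yon S).obj U ⟶ Xy) (w : U.left), IsAffine U.left ∧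
        AlgSp.RepWith @Etale c ∧ AlgSp.Points.ofPt c w = z := by
      obtain ⟨U, c, w, hU, hc, hz, -⟩ := Groth.Agent.SpQS.exists_affine_chart_at hXk z
      exact ⟨U, c, w, hU, hc, hz⟩
    obtain ⟨g, hg⟩ := Groth.Agent.AlgSpLib.exists_map_eq (c ≫ snd)
    have comm : c ≫ snd = (AlgSp.yon S).map g ≫ 𝟙 _ := by rw [Category.comp_id, hg]
    have hglft : LocallyOfFiniteType g.left := hsnd c (𝟙 _) g hc Groth.Agent.AlgSpLib.repWith_id' comm
    let g' : U.left ⟶ Spec (CommRingCat.of y.K) := g.left
    haveI : LocallyOfFiniteType g' := hglft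
    haveI : Finite U.left := by
      have hfib : ∀ x : AlgSp.Points Xy, (AlgSp.Points.ofPt c ⁻¹' {x}).Finite := fun x =>
        (Groth.Agent.SpQS.goodAt_of_isDecent hXk hdec x).finite hXk hc
      have : (Set.univ : Set U.left).Finite :=
        ((Set.toFinite (Set.univ : Set (AlgSp.Points Xy))).biUnion fun x _ => hfib x).subset
          fun v _ => Set.mem_biUnion (Set.mem_univ (AlgSp.Points.ofPt c v)) rfl
      exact Set.finite_univ_iff.1 this
    haveI : JacobsonSpace U.left := LocallyOfFiniteType.jacobsonSpace g'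
    haveI : DiscreteTopology U.left := by
      have hcl : ∀ v : U.left, IsClosed ({v} : Set U.left) := fun v => by
        have h : closure (closedPoints U.left) = Set.univ := closure_closedPoints
        rw [(Set.toFinite (closedPoints U.left)).isClosed_biUnion
          (fun (x : U.left) (hx : x ∈ closedPoints U.left) => (hx : IsClosed ({x} : Set U.left))) |>
          fun hc' => (show IsClosed (closedPoints U.left) by simpa using hc').closure_eq] at h
        exact (h.symm.subset (Set.mem_univ v) :)
      haveI : T1Space U.left := ⟨hcl⟩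
      infer_instance
    refine Groth.Agent.SpQS.qfAtPt_of_chart hXk (AlgSp.IsAlgSpace.yon_obj _) snd hsnd hc
      Groth.Agent.AlgSpLib.repWith_id' comm hz ?_
    exact (Groth.Agent.SpQS.quasiFiniteAt_iff_open g' w).2 ⟨{w}, isOpen_discrete _, rfl, fun v hv _ => hv⟩
  open _root_.AlgSp Groth.Agent.AlgSpLib Groth.Agent.SpQS in
  obtain ⟨Y', hY'', j, hj, hy', hfinP⟩ := exists_finite_nhd_of_proper hX hY' f.hom hf (Points.mk y) (fun x hx => by
    obtain ⟨k, hk⟩ : ∃ k : y.pt.left, Points.ofPt y.toHom k = Points.mk y := ⟨_, (mk_eq_ofPt y).symm⟩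
    obtain ⟨z, hz₁, -⟩ := exists_point_of_isPullback hsq x (Points.ofScheme y.pt k) (by
      rw [← Points.ofPt_eq_map_ofScheme, hk, hx])
    exact hz₁ ▸ hq z)
  exact ⟨⟨Y', hY''⟩, ObjectProperty.homMk j, hj, hy', fun P fst' snd' sq => hfinP _ _ _ sq.flip⟩

end Groth.Agent.S10750
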