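import Groth.Statements.S10752
import Groth.Agent.EtSerre.Space
import Groth.Agent.AlgSpLib.SepAffine

set_option autoImplicit false
universe u
open CategoryTheory CategoryTheory.Limits AlgebraicGeometry Opposite
open AlgSp

set_option linter.style.haveILetI false
set_option backward.isDefEq.respectTransparency false

namespace Groth.Agent.S10752

/-- Let X be a quasi-compact algebraic space, quasi-separated over a quasi-separated base scheme S, such
that H^1(X, M) = 0 for every quasi-coherent O_X-module M on the small etale site of X. Then X is
separated (the published statement: the canonical morphism from X to the spectrum of its ring of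
global functions is separated; stated here as separatedness of X over S, which it implies). -/
theorem result {S : Scheme.{u}} [QuasiSeparatedSpace ↥S] (X : AlgSp.Space S)
    (hqc : AlgSp.IsQuasiCompactSp X.obj) (hqs : AlgSp.IsQuasiSeparatedSp X.obj)
    (h1 : ∀ M : AlgSp.ModEt X.obj, M.IsQuasicoherent → Subsingleton (AlgSp.HModEt X.obj M 1)) :
    AlgSp.IsSeparatedSp X.obj := by
  obtain ⟨T, hT, ⟨e⟩⟩ := Groth.Agent.EtSerre.isAff_of_h1Zero X hqc hqs h1
  refine Groth.Agent.AlgSpLib.isSeparatedSp_of_affine X.property fun U V P a b fst snd hU hV sq => ?_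
  haveI := hT; haveI := hU; haveI := hV
  let a' : U ⟶ T := (AlgSp.yon S).preimage (a ≫ e.inv)
  let b' : V ⟶ T := (AlgSp.yon S).preimage (b ≫ e.inv)
  have sq0 : IsPullback ((AlgSp.yon S).map fst) ((AlgSp.yon S).map snd) ((AlgSp.yon S).map a') ((AlgSp.yon S).map b') := by
    simp only [a', b', Functor.map_preimage]
    exact IsPullback.of_iso sq (Iso.refl _) (Iso.refl _) (Iso.refl _) e.symm (by simp) (by simp) (by simp) (by simp)
  have sq1 : IsPullback fst.left snd.left a'.left b'.left :=
    (IsPullback.of_map (AlgSp.yon S) ((AlgSp.yon S).map_injective (by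
      rw [Functor.map_comp, Functor.map_comp]; exact sq0.w)) sq0).map (Over.forget S)
  haveI hP : IsAffine P.left := IsAffine.of_isIso sq1.isoPullback.hom
  refine ⟨hP, (Groth.Agent.AlgSpLib.isClosedImmersion_lift_iff fst.left snd.left).1 ?_⟩
  have e' : pullback.lift fst.left snd.left (terminal.hom_ext _ _) =
      sq1.isoPullback.hom ≫ pullback.mapDesc a'.left b'.left (terminal.from T.left) ≫
        (pullback.congrHom (terminal.hom_ext _ (terminal.from U.left)) (terminal.hom_ext _ (terminal.from V.left))).hom := by
    apply pullback.hom_ext <;> simp [pullback.mapDesc]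
  rw [e']
  infer_instance

end Groth.Agent.S10752
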