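import Groth.Statements.S10758
import Groth.Agent.EtQC.StalkOpen

set_option autoImplicit false
universe u
open CategoryTheory CategoryTheory.Limits AlgebraicGeometry Opposite
open AlgSp

namespace Groth.Agent.S10758

/-- Let X be a locally Noetherian algebraic space over S, φ : G ⟶ F a morphism of coherent O_X-modules
on the small etale site of X (of finite presentation, X being locally Noetherian) and x̄ a geometric
point of X. If the map φ_x̄ on stalks at x̄ (of the underlying abelian sheaves) is bijective, then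
there is an open subspace X' ⊂ X containing the image of x̄ such that φ|_{X'} is an isomorphism: φ
is bijective on sections over every scheme etale over X whose image in |X| lies in |X'|. -/
theorem result {S : Scheme.{u}} (X : AlgSp.Space S)
    (hX : AlgSp.IsLocNoethSp X.obj) {G F : AlgSp.ModEt X.obj} [G.IsFinitePresentation] [F.IsFinitePresentation]
    (φ : G ⟶ F) (xbar : AlgSp.FieldPt X.obj) (hx : xbar.IsGeometric)
    (hbij : IsIso ((AlgSp.stalkEtFunctor AddCommGrpCat.{u + 1} xbar).map ((AlgSp.toAbEt X.obj).map φ))) :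
    ∃ (X' : AlgSp.Space S) (j : X' ⟶ X), AlgSp.RepWith @IsOpenImmersion j.hom ∧
      AlgSp.Points.mk xbar ∈ Set.range (AlgSp.Points.map j.hom) ∧
        ∀ E : AlgSp.EtOver X.obj, Set.range (AlgSp.Points.ofPt E.obj.hom) ⊆ Set.range (AlgSp.Points.map j.hom) →
          IsIso (φ.val.app (op E)) := by
  haveI := hbij
  obtain ⟨T₁, hT₁, hp₁, hi⟩ := Groth.Agent.EtQC.exists_open_kernel_vanish X.property hX φ xbar hx inferInstance
  obtain ⟨T₂, hT₂, hp₂, hs⟩ := Groth.Agent.EtQC.exists_open_locally_image X.property hX φ xbar hx inferInstance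
  let T := T₁ ∩ T₂
  have hT : IsOpen T := hT₁.inter hT₂
  have hpT : AlgSp.Points.mk xbar ∈ T := ⟨hp₁, hp₂⟩
  refine ⟨⟨Groth.Agent.AlgSpLib.subSheaf T, Groth.Agent.AlgSpLib.isAlgSpace_subSheaf X.property hT⟩,
    ObjectProperty.homMk (Groth.Agent.AlgSpLib.subInc T), Groth.Agent.AlgSpLib.repWith_subInc hT, ?_, ?_⟩
  · show _ ∈ Set.range (AlgSp.Points.map (Groth.Agent.AlgSpLib.subInc T))
    rw [Groth.Agent.AlgSpLib.range_subInc]
    exact hpT
  · intro E hE
    have hE' := hE.trans_eq (Groth.Agent.AlgSpLib.range_subInc T)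
    rw [ConcreteCategory.isIso_iff_bijective]
    exact ⟨hi E (hE'.trans Set.inter_subset_left), Groth.Agent.EtQC.surjective_of_injective_of_affine φ (T := T)
      (fun E' h => hi E' (h.trans Set.inter_subset_left))
      (fun V hV h => hs V hV (h.trans Set.inter_subset_right)) E hE'⟩

end Groth.Agent.S10758
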