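import Groth.Statements.S10760
import Groth.Agent.AlgSpLib.ProperRange
import Groth.Agent.AlgSpLib.DiagCrit
import Groth.Agent.SpQS.UnivClosedQC
import Groth.Agent.EtInvariance.Thick
import Groth.Agent.S10589
import Groth.Agent.S10279

set_option autoImplicit false
universe u
open CategoryTheory CategoryTheory.Limits AlgebraicGeometry
open AlgSp

namespace Groth.Agent.S10760
open Groth.Agent.AlgSpLib

/-- Let f : X ⟶ Y be a morphism of algebraic spaces over S that is locally of finite type, and let i : Z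
⟶ X, i' : Z' ⟶ X be closed subspaces (representable closed immersions) with the same image in |X|.
If the composite Z ⟶ Y is proper, then so is Z' ⟶ Y. (That properness of every closed subspace with
support T implies properness of the reduced one, and that this implies properness of some closed
subspace with support T, is immediate.) -/
theorem result {S : Scheme.{u}} {X Y Z Z' : AlgSp.Space S}
    (f : X ⟶ Y) (hf : AlgSp.LocP @LocallyOfFiniteType f.hom)
    (i : Z ⟶ X) (i' : Z' ⟶ X)
    (hi : AlgSp.RepWith @IsClosedImmersion i.hom) (hi' : AlgSp.RepWith @IsClosedImmersion i'.hom)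
    (heq : Set.range (AlgSp.Points.map i.hom) = Set.range (AlgSp.Points.map i'.hom))
    (hZ : AlgSp.IsProperMor (i ≫ f).hom) :
    AlgSp.IsProperMor (i' ≫ f).hom := by
  classical
  obtain ⟨hZs⟩ : Nonempty (AlgSp.IsAlgSpace Z.obj) := ⟨Z.property⟩
  obtain ⟨hZ's⟩ : Nonempty (AlgSp.IsAlgSpace Z'.obj) := ⟨Z'.property⟩
  let p₁ : pullback i.hom i'.hom ⟶ Z.obj := pullback.fst i.hom i'.hom
  let p₂ : pullback i.hom i'.hom ⟶ Z'.obj := pullback.snd i.hom i'.hom
  have sq : IsPullback p₁ p₂ i.hom i'.hom := IsPullback.of_hasPullback _ _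
  have hW : AlgSp.IsAlgSpace (pullback i.hom i'.hom) := isAlgSpace_of_isPullback_space X.property hZs hZ's sq
  have h₂ : AlgSp.RepWith @IsClosedImmersion p₂ := repWith_baseChange sq hi
  have h₁ : AlgSp.RepWith @IsClosedImmersion p₁ := repWith_baseChange sq.flip hi'
  have hs : AlgSp.IsSurjectiveMor p₂ := fun z => by
    have hz : Points.map i'.hom z ∈ Set.range (Points.map i.hom) := heq ▸ Set.mem_range_self z
    have := range_map_of_isPullback sq
    rw [Set.ext_iff] at this
    exact (this z).2 hz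
  have hth : AlgSp.IsThickMor p₂ := repWith_inf_iff.2 ⟨h₂, repWith_surjective_of_isSurjectiveMor h₂.1 hs⟩
  let W : AlgSp.Space S := ⟨_, hW⟩
  let h : W ⟶ Z' := ObjectProperty.homMk p₂
  let q : W ⟶ Z := ObjectProperty.homMk p₁
  have e : h ≫ (i' ≫ f) = q ≫ (i ≫ f) := ObjectProperty.hom_ext _ (by
    show p₂ ≫ i'.hom ≫ f.hom = p₁ ≫ i.hom ≫ f.hom
    rw [← Category.assoc, ← sq.w, Category.assoc])
  have hp : AlgSp.IsProperMor (q ≫ (i ≫ f)).hom :=
    isProperMor_comp hZs Y.property (isProperMor_of_closedImmersion hW hZs h₁) hZ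
  have huc : AlgSp.IsUnivClosedMor (i' ≫ f).hom :=
    Groth.Agent.S10279.result h (q ≫ (i ≫ f)) (i' ≫ f) e hp.2.2 hs
  have hthid : AlgSp.IsThickMor (𝟙 Y : Y ⟶ Y).hom := repWith_of_exists fun U ξ => ⟨U, ξ, 𝟙 U, by
    rw [CategoryTheory.Functor.map_id]; exact IsPullback.of_vert_isIso ⟨(Category.comp_id ξ).trans (Category.id_comp ξ).symm⟩, ⟨inferInstanceAs (IsClosedImmersion (𝟙 U.left)), inferInstanceAs (Surjective (𝟙 U.left))⟩⟩
  exact ⟨(Groth.Agent.S10589.result h (𝟙 Y) (q ≫ (i ≫ f)) (i' ≫ f) hth hthid (by rw [e, Category.comp_id])).1.1 hp.1,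
    ⟨locP_comp etST_lft X.property Y.property (isProperMor_of_closedImmersion hZ's X.property hi').2.1.1 hf,
      SpQS.isQuasiCompactMor_of_univClosed hZ's Y.property _ huc⟩, huc⟩

end Groth.Agent.S10760
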