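import Groth.Agent.AlgSpLib.ImageProper
import Groth.Prelude.Def_AlgSpSub
import Mathlib.AlgebraicGeometry.Morphisms.FiniteType

set_option autoImplicit false
universe u
open CategoryTheory CategoryTheory.Limits AlgebraicGeometry
open AlgSp

set_option backward.isDefEq.respectTransparency false

namespace Groth.Agent.S10763

/-- Let B be an algebraic space over S, let a : X ⟶ B and b : Y ⟶ B be locally of finite type, and let f
: X ⟶ Y be a universally closed morphism over B. If i : Z ⟶ X is a closed subspace with Z ⟶ B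
proper, then the image of |Z| under |f| is a closed subset of |Y| which underlies a closed subspace
Z' ⟶ Y with Z' ⟶ B proper. -/
theorem result {S : Scheme.{u}} {X Y B Z : AlgSp.Space S}
    (a : X ⟶ B) (b : Y ⟶ B) (f : X ⟶ Y) (hcomm : f ≫ b = a)
    (ha : AlgSp.LocP @LocallyOfFiniteType a.hom) (hb : AlgSp.LocP @LocallyOfFiniteType b.hom)
    (hfc : AlgSp.IsUnivClosedMor f.hom)
    (i : Z ⟶ X) (hi : AlgSp.RepWith @IsClosedImmersion i.hom) (hZ : AlgSp.IsProperMor (i ≫ a).hom) :
    IsClosed (AlgSp.Points.map f.hom '' Set.range (AlgSp.Points.map i.hom)) ∧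
      ∃ (Z' : AlgSp.Space S) (i' : Z' ⟶ Y), AlgSp.RepWith @IsClosedImmersion i'.hom ∧
        Set.range (AlgSp.Points.map i'.hom) = AlgSp.Points.map f.hom '' Set.range (AlgSp.Points.map i.hom) ∧
        AlgSp.IsProperMor (i' ≫ b).hom := by
  obtain ⟨hY⟩ : Nonempty (AlgSp.IsAlgSpace Y.obj) := ⟨Y.property⟩
  obtain ⟨hX⟩ : Nonempty (AlgSp.IsAlgSpace X.obj) := ⟨X.property⟩
  obtain ⟨hZs⟩ : Nonempty (AlgSp.IsAlgSpace Z.obj) := ⟨Z.property⟩
  have hr : AlgSp.Points.map f.hom '' Set.range (AlgSp.Points.map i.hom) = Set.range (AlgSp.Points.map (i ≫ f).hom) := by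
    rw [← Set.range_comp]
    congr 1
    funext z
    exact (AlgSp.Points.map_comp _ _ z).symm
  rw [hr]
  exact Groth.Agent.AlgSpLib.exists_proper_image (i ≫ f) b
    (Groth.Agent.AlgSpLib.isUnivClosedMor_comp hX hY (Groth.Agent.AlgSpLib.isProperMor_of_closedImmersion hZs hX hi).2.2 hfc)
    (by rw [Category.assoc, hcomm]; exact hZ) hb

end Groth.Agent.S10763
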