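import Groth.Statements.S10765
import Groth.Agent.SpQS.RedInduced
import Groth.Agent.AlgSpLib.ProperRange
import Groth.Agent.AlgSpLib.ProperCrit
import Groth.Agent.AlgSpLib.QCompact
import Groth.Agent.AlgSpLib.Criteria

set_option autoImplicit false
universe u
open CategoryTheory CategoryTheory.Limits AlgebraicGeometry
open AlgSp

namespace Groth.Agent.S10765

set_option backward.isDefEq.respectTransparency false

open Groth.Agent.AlgSpLib

variable {S : Scheme.{u}}

/-- universal closedness passes to the target of a jointly surjective finite family -/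
theorem univClosed_of_family {X Y : Sp S} (hX : IsAlgSpace X) (hY : IsAlgSpace Y) (q : X ⟶ Y) {ι : Type*} [Finite ι]
    {W : ι → Sp S} (w : ∀ k, W k ⟶ X) (hs : ∀ x : Points X, ∃ k, x ∈ Set.range (Points.map (w k)))
    (h : ∀ k, IsUnivClosedMor (w k ≫ q)) : IsUnivClosedMor q := by
  intro T T' hT a fst snd sq
  show IsClosedMap (Points.map snd)
  intro C hC
  have key : Points.map snd '' C = ⋃ k, Points.map (pullback.fst fst (w k) ≫ snd) '' (Points.map (pullback.fst fst (w k)) ⁻¹' C) := by
    refine Set.Subset.antisymm ?_ (Set.iUnion_subset fun k => ?_)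
    · rintro _ ⟨x, hx, rfl⟩
      obtain ⟨k, hk⟩ := hs (Points.map fst x)
      rw [← Set.mem_preimage, ← range_map_of_isPullback (IsPullback.of_hasPullback fst (w k)).flip] at hk
      obtain ⟨y, hy⟩ := hk
      exact Set.mem_iUnion.2 ⟨k, y, by rw [Set.mem_preimage, hy]; exact hx, by rw [Points.map_comp, hy]⟩
    · rintro _ ⟨y, hy, rfl⟩
      exact ⟨_, hy, (Points.map_comp _ _ y).symm⟩
  rw [key]
  refine isClosed_iUnion_of_finite fun k => ?_
  exact h k hT a _ _ ((IsPullback.of_hasPullback fst (w k)).flip.paste_vert sq) _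
    (hC.preimage (Points.continuous_map _))

theorem univClosed_closed {X Y : Sp S} (hX : IsAlgSpace X) (hY : IsAlgSpace Y) {f : X ⟶ Y}
    (hf : RepWith @IsClosedImmersion f) : IsUnivClosedMor f :=
  (isProperMor_of_closedImmersion hX hY hf).2.2

/-- a space covered by finitely many closed subspaces proper over the base is proper -/
theorem isProperMor_of_family {X Y : Sp S} (hX : IsAlgSpace X) (hY : IsAlgSpace Y) (q : X ⟶ Y)
    (hq : LocP @LocallyOfFiniteType q) {ι : Type u} [Finite ι]
    {W : ι → Sp S} (hW : ∀ k, IsAlgSpace (W k)) (w : ∀ k, W k ⟶ X) (hw : ∀ k, RepWith @IsClosedImmersion (w k))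
    (hs : ∀ x : Points X, ∃ k, x ∈ Set.range (Points.map (w k))) (h : ∀ k, IsProperMor (w k ≫ q)) :
    IsProperMor q := by
  refine ⟨?_, ⟨hq, ?_⟩, univClosed_of_family hX hY q w hs fun k => (h k).2.2⟩
  · have hP : IsAlgSpace (pullback q q) := isAlgSpace_of_isPullback_space hY hX hX (IsPullback.of_hasPullback q q)
    refine (isSeparatedMor_iff_diagonal hX hY q).1.2 (univClosed_of_family hX hP _ w hs fun k => ?_)
    have sA := IsPullback.of_hasPullback (pullback.fst q q) (w k)
    have hA := isAlgSpace_of_isPullback_space hX hP (hW k) sA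
    let e := pullback.fst (pullback.fst q q) (w k) ≫ pullback.snd q q
    have he : IsSeparatedMor e :=
      isSeparatedMor_baseChange (sA.flip.paste_vert (IsPullback.of_hasPullback q q)) (h k).1
    have sB := IsPullback.of_hasPullback e (w k)
    have hB := isAlgSpace_of_isPullback_space hX hA (hW k) sB
    let d : W k ⟶ pullback (pullback.fst q q) (w k) := pullback.lift (w k ≫ pullback.diagonal q) (𝟙 _)
      (by rw [Category.assoc, pullback.diagonal_fst, Category.comp_id, Category.id_comp])
    have hd : d ≫ e = w k := by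
      show d ≫ pullback.fst _ _ ≫ pullback.snd q q = _
      rw [pullback.lift_fst_assoc, Category.assoc, pullback.diagonal_snd, Category.comp_id]
    let l : W k ⟶ pullback e (w k) := pullback.lift d (𝟙 _) (by rw [hd, Category.id_comp])
    have hl : IsUnivClosedMor l := ((isUnivClosedMor_and_proper_of_comp (hW k) hB (hW k) l (𝟙 _)
      (pullback.snd e (w k)) (pullback.lift_snd _ _ _) (isSeparatedMor_baseChange sB he)).1
      (univClosed_closed (hW k) (hW k) (repWith_of_isIso _))).1
    have hcomp : w k ≫ pullback.diagonal q = l ≫ pullback.fst e (w k) ≫ pullback.fst (pullback.fst q q) (w k) := by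
      rw [pullback.lift_fst_assoc, pullback.lift_fst]
    rw [hcomp]
    refine isUnivClosedMor_comp hB hP hl (univClosed_closed hB hP (repWith_comp ?_ ?_))
    · exact repWith_baseChange sB.flip (hw k)
    · exact repWith_baseChange sA.flip (hw k)
  · intro T T' hT hTqc g fst snd sq
    have hT' := isAlgSpace_of_isPullback_space hY hX hT sq
    refine isQuasiCompactSp_of_cofan (Xi := fun k => pullback fst (w k)) hT' (fun k => pullback.fst fst (w k)) (fun x => ?_) fun k => ?_
    · obtain ⟨k, hk⟩ := hs (Points.map fst x)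
      rw [← Set.mem_preimage, ← range_map_of_isPullback (IsPullback.of_hasPullback fst (w k)).flip] at hk
      exact ⟨k, hk⟩
    · exact (h k).2.1.2 hT hTqc g _ _ ((IsPullback.of_hasPullback fst (w k)).flip.paste_vert sq)

end Groth.Agent.S10765

namespace Groth.Agent.S10765

/-- Let f : X ⟶ Y be a morphism of algebraic spaces over S that is locally of finite type and let i_k :
Z_k ⟶ X, for k ranging over a finite index set, be closed subspaces with each Z_k ⟶ Y proper. Then
there is a closed subspace W ⟶ X whose image in |X| is the union of the images of the |Z_k| and with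
W ⟶ Y proper; that is, a finite union of closed subsets proper over Y is proper over Y. -/
theorem result {S : Scheme.{u}} {X Y : AlgSp.Space S}
    (f : X ⟶ Y) (hf : AlgSp.LocP @LocallyOfFiniteType f.hom)
    {n : ℕ} (Z : Fin n → AlgSp.Space S) (i : ∀ k, Z k ⟶ X)
    (hi : ∀ k, AlgSp.RepWith @IsClosedImmersion (i k).hom) (hZ : ∀ k, AlgSp.IsProperMor (i k ≫ f).hom) :
    ∃ (W : AlgSp.Space S) (j : W ⟶ X), AlgSp.RepWith @IsClosedImmersion j.hom ∧
      Set.range (AlgSp.Points.map j.hom) = ⋃ k, Set.range (AlgSp.Points.map (i k).hom) ∧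
      AlgSp.IsProperMor (j ≫ f).hom := by
  open Groth.Agent.AlgSpLib in
  have hC : IsClosed (⋃ k, Set.range (AlgSp.Points.map (i k).hom)) :=
    isClosed_iUnion_of_finite fun k =>
      (repWith_isClosedImmersion_iff X.property (repWith_mono (fun _ _ r hr => by
        have : IsClosedImmersion r := hr
        infer_instance) (hi k))).1 (hi k)
  obtain ⟨W, j, hW, hj, hr, -⟩ := Groth.Agent.SpQS.exists_redInduced X.property hC
  let V : ULift.{u} (Fin n) → AlgSp.Sp S := fun k => pullback (i k.down).hom j
  have sV : ∀ k : ULift.{u} (Fin n), IsPullback (pullback.fst (i k.down).hom j) (pullback.snd (i k.down).hom j) (i k.down).hom j :=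
    fun k => IsPullback.of_hasPullback _ _
  have hV : ∀ k, AlgSp.IsAlgSpace (V k) := fun k =>
    Groth.Agent.AlgSpLib.isAlgSpace_of_isPullback_space X.property (Z k.down).property hW (sV k)
  refine ⟨⟨W, hW⟩, ObjectProperty.homMk j, hj, hr, ?_⟩
  have hjlft : AlgSp.LocP @LocallyOfFiniteType j := (Groth.Agent.AlgSpLib.isProperMor_of_closedImmersion hW X.property hj).2.1.1
  refine isProperMor_of_family hW Y.property (j ≫ f.hom)
    (Groth.Agent.AlgSpLib.locP_comp Groth.Agent.AlgSpLib.etST_lft X.property Y.property hjlft hf) hV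
    (fun k => pullback.snd (i k.down).hom j) (fun k => Groth.Agent.AlgSpLib.repWith_baseChange (sV k) (hi k.down))
    (fun x => ?_) fun k => ?_
  · have hx : AlgSp.Points.map j x ∈ ⋃ k, Set.range (AlgSp.Points.map (i k).hom) := hr ▸ ⟨x, rfl⟩
    obtain ⟨k, hk⟩ := Set.mem_iUnion.1 hx
    refine ⟨⟨k⟩, ?_⟩
    rw [Groth.Agent.AlgSpLib.range_map_of_isPullback (sV ⟨k⟩)]
    exact hk
  · have hZk : AlgSp.IsProperMor ((i k.down).hom ≫ f.hom) := hZ k.down
    rw [← (sV k).w_assoc]
    exact Groth.Agent.AlgSpLib.isProperMor_comp (Z k.down).property Y.property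
      (Groth.Agent.AlgSpLib.isProperMor_of_closedImmersion (hV k) (Z k.down).property
        (Groth.Agent.AlgSpLib.repWith_baseChange (sV k).flip hj)) hZk

end Groth.Agent.S10765
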