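import Groth.Statements.S10769
import Mathlib
import Groth.Agent.DQCoh.Coprod
import Groth.Agent.DQCoh.Colim
import Groth.Agent.KInj.Existence
import Groth.Agent.EtQC.Closure
import Groth.Agent.EtQC.ModInj

set_option autoImplicit false
universe u
open CategoryTheory CategoryTheory.Limits AlgebraicGeometry
attribute [local instance] HasDerivedCategory.standard
open AlgSp
set_option backward.isDefEq.respectTransparency false
set_option linter.style.haveILetI false
set_option maxHeartbeats 1000000

namespace Groth.Agent.S10769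

/-- Let X be an algebraic space over S and E_i a family of objects of D(O_X) (modules on the small etale
site) with quasi-coherent cohomology sheaves. Granted that the direct sum of the E_i exists in
D(O_X) (it does), the direct sum again has quasi-coherent cohomology sheaves; thus D_QCoh(O_X) has
direct sums and they agree with those of D(O_X). -/
theorem result {S : Scheme.{u}} (X : AlgSp.Space S) {ι : Type (u + 1)}
    (E : ι → AlgSp.DModEt X.obj) [HasCoproduct E]
    (hE : ∀ i, DCoh.IsQCohDMod (AlgSp.OEtRing X.obj) (E i)) :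
    DCoh.IsQCohDMod (AlgSp.OEtRing X.obj) (∐ E) := by
  intro n
  haveI : IsGrothendieckAbelian.{u + 1} (AlgSp.ModEt X.obj) :=
    Groth.Agent.EtQC.isGrothendieckAbelian_mod (AlgSp.OEtRing X.obj)
  have hK : ∀ K : CochainComplex (AlgSp.ModEt X.obj) ℤ,
      ∃ (I : CochainComplex (AlgSp.ModEt X.obj) ℤ) (f : K ⟶ I), I.IsKInjective ∧ QuasiIso f := fun K => by
    obtain ⟨I, f, h1, h2, -⟩ := Groth.Agent.KInj.exists_kInjective K
    exact ⟨I, f, h1, h2⟩
  haveI : HasColimitsOfShape (Discrete ι) (AlgSp.ModEt X.obj) := inferInstance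
  haveI : HasExactColimitsOfShape (Discrete ι) (AlgSp.ModEt X.obj) := inferInstance
  let K₀ := fun t => (DerivedCategory.Q (C := AlgSp.ModEt X.obj)).objPreimage (E t)
  let e : ∀ t, DerivedCategory.Q.obj (K₀ t) ≅ E t := fun t => DerivedCategory.Q.objObjPreimageIso (E t)
  obtain ⟨hc⟩ := Groth.Agent.DQCoh.nonempty_isColimit_Q_coprod hK K₀
  let φ : DerivedCategory.Q.obj (∐ K₀) ≅ ∐ E :=
    IsColimit.coconePointsIsoOfNatIso hc (coproductIsCoproduct E) (Discrete.natIso fun t => e t.as)
  obtain ⟨H, hH, ⟨eH⟩⟩ := Groth.Agent.DQCoh.exists_homology_isColimit (Discrete.functor K₀) (colimit.isColimit _) n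
  refine (SheafOfModules.isQuasicoherent (AlgSp.OEtRing X.obj)).prop_of_iso
    (eH.symm ≪≫ ((DerivedCategory.homologyFunctorFactors (AlgSp.ModEt X.obj) n).app (∐ K₀)).symm ≪≫
      (DerivedCategory.homologyFunctor _ n).mapIso φ) (Groth.Agent.EtQC.isQuasicoherent_colimit H fun t => ?_)
  exact (SheafOfModules.isQuasicoherent (AlgSp.OEtRing X.obj)).prop_of_iso
    ((DerivedCategory.homologyFunctor _ n).mapIso (e t.as).symm ≪≫
      (DerivedCategory.homologyFunctorFactors (AlgSp.ModEt X.obj) n).app (K₀ t.as) ≪≫ (hH t).some.symm) (hE t.as n)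

end Groth.Agent.S10769
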