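import Groth.Statements.S1077
import Groth.Agent.AbJH.Basic

set_option autoImplicit false
universe v u
open CategoryTheory CategoryTheory.Limits
open CohDer

namespace Groth.Agent.S1077

/-- An object X of an abelian category is Artinian and Noetherian if and only if there is a finite chain
of subobjects ⊥ = F₀ ≤ F₁ ≤ … ≤ Fₙ = ⊤ of X whose successive quotients Fᵢ₊₁/Fᵢ are simple. -/
theorem result {A : Type u} [Category.{v} A] [Abelian A] (X : A) :
    (IsArtinianObject X ∧ IsNoetherianObject X) ↔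
      ∃ (n : ℕ) (F : Fin (n + 1) → Subobject X) (hF : Monotone F), F 0 = ⊥ ∧ F (Fin.last n) = ⊤ ∧
        ∀ i : Fin n, Simple (cokernel (Subobject.ofLE (F (Fin.castSucc i)) (F (Fin.succ i)) (hF (Fin.castSucc_lt_succ (i := i)).le))) := by
  constructor
  · rintro ⟨h1, h2⟩
    haveI := h1
    haveI := h2
    obtain ⟨a, ha0, n, han, hcov⟩ :=
      exists_covBy_seq_of_wellFoundedLT_wellFoundedGT_of_le (x := (⊥ : Subobject X)) (y := ⊤) bot_le
    have hF : Monotone (fun i : Fin (n + 1) => a i) :=
      Fin.monotone_iff_le_succ.2 fun i => by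
        simpa using (hcov i i.2).le
    refine ⟨n, fun i => a i, hF, by simpa using ha0, by simpa using han, fun i => ?_⟩
    exact (Groth.Agent.AbJH.simple_quo_iff _).2 (by simpa using hcov i i.2)
  · rintro ⟨n, F, hF, h0, hn, hs⟩
    obtain ⟨h1, h2⟩ := Groth.Agent.AbJH.wellFounded_of_chain n F h0 hn
      fun i => (Groth.Agent.AbJH.simple_quo_iff _).1 (hs i)
    exact ⟨⟨h1⟩, ⟨h2⟩⟩

end Groth.Agent.S1077
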