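import Groth.Statements.S1078
import Groth.Agent.AbJH.Basic

set_option autoImplicit false
universe v u
open CategoryTheory CategoryTheory.Limits
open CohDer

namespace Groth.Agent.S1078

open Groth.Agent.AbJH in
open Classical ZeroObject in
lemma nonempty_iso_of_iso {A : Type u} [Category.{v} A] [Abelian A] {X : A} {p q : Subobject X × Subobject X}
    (h : JordanHolderLattice.Iso p q) (hp : p.1 ≤ p.2) (hq : q.1 ≤ q.2) :
    Nonempty (quo p.1 p.2 hp ≅ quo q.1 q.2 hq) := by
  let Q : Subobject X × Subobject X → A := fun r => if hr : r.1 ≤ r.2 then quo r.1 r.2 hr else 0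
  have key : Nonempty (Q p ≅ Q q) := by
    clear hp hq
    unfold JordanHolderLattice.Iso at h
    induction h with
    | rel a b hab =>
      obtain ⟨x, xsy⟩ := a
      obtain ⟨xiy, y⟩ := b
      obtain ⟨-, rfl, rfl⟩ := hab
      obtain ⟨e⟩ := nonempty_quo_congr (inf_comm x y) (rfl : y = y) inf_le_right inf_le_left
      obtain ⟨e'⟩ := nonempty_quo_congr (rfl : x = x) (sup_comm x y) le_sup_left le_sup_right
      simp only [Q]
      rw [dif_pos le_sup_left, dif_pos inf_le_right]
      exact ⟨e' ≪≫ (secondIso y x).symm ≪≫ e.symm⟩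
    | refl a => exact ⟨Iso.refl _⟩
    | symm a b _ ih => exact ⟨ih.some.symm⟩
    | trans a b c _ _ ih ih' => exact ⟨ih.some ≪≫ ih'.some⟩
  simp only [Q] at key
  rwa [dif_pos hp, dif_pos hq] at key

/-- Let X be an object of an abelian category with two finite chains of subobjects ⊥ = F₀ ≤ … ≤ Fₙ = ⊤
and ⊥ = G₀ ≤ … ≤ Gₘ = ⊤ whose successive quotients are simple. Then n = m, and after transporting
along this equality there is a permutation σ of the indices with Fᵢ₊₁/Fᵢ ≅ G_{σ(i)+1}/G_{σ(i)} for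
all i. -/
theorem result {A : Type u} [Category.{v} A] [Abelian A] (X : A)
    (n : ℕ) (F : Fin (n + 1) → Subobject X) (hF : Monotone F) (hF0 : F 0 = ⊥) (hFn : F (Fin.last n) = ⊤) (hFs : ∀ i : Fin n, Simple (cokernel (Subobject.ofLE (F (Fin.castSucc i)) (F (Fin.succ i)) (hF (Fin.castSucc_lt_succ (i := i)).le))))
    (m : ℕ) (G : Fin (m + 1) → Subobject X) (hG : Monotone G) (hG0 : G 0 = ⊥) (hGm : G (Fin.last m) = ⊤) (hGs : ∀ j : Fin m, Simple (cokernel (Subobject.ofLE (G (Fin.castSucc j)) (G (Fin.succ j)) (hG (Fin.castSucc_lt_succ (i := j)).le)))) :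
    ∃ (e : n = m) (σ : Equiv.Perm (Fin m)), ∀ i : Fin n,
      Nonempty (cokernel (Subobject.ofLE (F (Fin.castSucc i)) (F (Fin.succ i)) (hF (Fin.castSucc_lt_succ (i := i)).le)) ≅
        cokernel (Subobject.ofLE (G (Fin.castSucc (σ (Fin.cast e i)))) (G (Fin.succ (σ (Fin.cast e i)))) (hG (Fin.castSucc_lt_succ (i := σ (Fin.cast e i))).le))) := by
  let s₁ : CompositionSeries (Subobject X) :=
    ⟨n, F, fun i => (Groth.Agent.AbJH.simple_quo_iff _).1 (hFs i)⟩
  let s₂ : CompositionSeries (Subobject X) :=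
    ⟨m, G, fun i => (Groth.Agent.AbJH.simple_quo_iff _).1 (hGs i)⟩
  obtain ⟨f, hf⟩ := CompositionSeries.jordan_holder s₁ s₂ (hF0.trans hG0.symm) (hFn.trans hGm.symm)
  have e : n = m := by simpa using Fintype.card_congr f
  subst e
  exact ⟨rfl, f, fun i => nonempty_iso_of_iso (hf i) _ _⟩

end Groth.Agent.S1078
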