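import Groth.Statements.S10789
import Groth.Agent.EtQC.MVPush
import Groth.Agent.EtQC.MVShriek
import Groth.Agent.EtQC.ModInj

set_option autoImplicit false
universe u
open CategoryTheory CategoryTheory.Limits AlgebraicGeometry
attribute [local instance] HasDerivedCategory.standard
open AlgSp

namespace Groth.Agent.S10789

/-- Part (1): for squares whose two parts are schemes: let X be an algebraic space over S and let U, V
be objects of the small etale site of X (schemes with representable etale structure maps to X) such
that (U ⊂ X, V ⟶ X) is an elementary distinguished square; write U ×_X V for their product in the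
site. Granting that restriction of O_X-modules to each of U, V and U ×_X V has a left adjoint j_!
(extension by zero, which exists), for every O_X-module F the sequence 0 ⟶ j_{U ×_X V,!}F|_{U ×_X V}
⟶ j_{U,!}F|_U ⊕ j_{V,!}F|_V ⟶ F ⟶ 0 is short exact, where the second map is given by the two
adjunction counits and the first by the extension map along U ×_X V ⟶ U and minus the extension map
along U ×_X V ⟶ V. Only squares whose open part and etale part are both schemes are covered. -/
theorem result {S : Scheme.{u}} (X : AlgSp.Space S)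
    (U V : AlgSp.EtOver X.obj) (hsq : AlgSp.IsElemDistSq U.obj.hom V.obj.hom)
    [(AlgSp.resModEt U).IsRightAdjoint] [(AlgSp.resModEt V).IsRightAdjoint]
    [(AlgSp.resModEt (AlgSp.EtOver.prodObj U V)).IsRightAdjoint] (F : AlgSp.ModEt X.obj) :
    ∃ h : biprod.lift ((AlgSp.shriekResNatTrans (AlgSp.EtOver.prodFst U V)).app F)
          (-((AlgSp.shriekResNatTrans (AlgSp.EtOver.prodSnd U V)).app F)) ≫
        biprod.desc ((Adjunction.ofIsRightAdjoint (AlgSp.resModEt U)).counit.app F)
          ((Adjunction.ofIsRightAdjoint (AlgSp.resModEt V)).counit.app F) = 0,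
      (ShortComplex.mk _ _ h).ShortExact := by
  haveI : EnoughInjectives (AlgSp.ModEt X.obj) := Groth.Agent.EtQC.enoughInjectives_modEt X.obj
  have hh : ∀ (W : AlgSp.EtOver X.obj) [(AlgSp.resModEt W).IsRightAdjoint],
      (AlgSp.shriekResAdj W).homEquiv F F ((Adjunction.ofIsRightAdjoint (AlgSp.resModEt W)).counit.app F) =
        (AlgSp.resPushAdjEt W).unit.app F := fun W _ => by
    rw [AlgSp.shriekResAdj, Adjunction.comp_homEquiv, Equiv.trans_apply]
    show (AlgSp.resPushAdjEt W).homEquiv F _ ((Adjunction.ofIsRightAdjoint (AlgSp.resModEt W)).homEquiv _ F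
      ((Adjunction.ofIsRightAdjoint (AlgSp.resModEt W)).counit.app F)) = _
    rw [Adjunction.homEquiv_unit, Adjunction.homEquiv_unit, Adjunction.right_triangle_components]
    exact (congrArg ((AlgSp.resPushAdjEt W).unit.app F ≫ ·) (CategoryTheory.Functor.map_id _ _)).trans
      (Category.comp_id _)
  exact Groth.Agent.EtQC.shortExact_adjoint (AlgSp.shriekResAdj U) (AlgSp.shriekResAdj V)
    (AlgSp.shriekResAdj (AlgSp.EtOver.prodObj U V)) (AlgSp.resPushAdjEt U).unit (AlgSp.resPushAdjEt V).unit
    (AlgSp.pushResNatTrans (AlgSp.EtOver.prodFst U V)) (AlgSp.pushResNatTrans (AlgSp.EtOver.prodSnd U V))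
    (fun G => Groth.Agent.EtQC.mv_comp_eq_zero G)
    (fun G => Groth.Agent.EtQC.mv_shortExact G (Groth.Agent.EtQC.sqData_of_elemDistSq hsq) _) F
    _ _ (hh U) (hh V)

end Groth.Agent.S10789
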