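import Groth.Statements.S1571
import Mathlib

set_option autoImplicit false
universe u
open CategoryTheory CategoryTheory.Limits AlgebraicGeometry
open Divisors

namespace Groth.Agent.S1571

/-- The open complement of an effective Cartier divisor is an affine open immersion and is
scheme-theoretically dense. -/
theorem result (S : Scheme.{u}) (D : S.IdealSheafData) (hD : BlowUp.IsEffCartierIdeal D) :
    IsAffineHom (Scheme.Opens.ι (X := S) D.support.compl) ∧ IsSchemeTheoreticallyDominant (Scheme.Opens.ι (X := S) D.support.compl) := by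
  classical
  let C : S.Opens := D.support.compl
  have hchart : ∀ (W : S.affineOpens) (g : Γ(S, W)), D.ideal W = Ideal.span {g} → C ⊓ W.1 = S.basicOpen g := by
    intro W g hg
    ext1
    ext x
    constructor
    · rintro ⟨hx, hxW⟩
      by_contra hxg
      refine hx ?_
      show x ∈ (D.support : Set S)
      rw [SetLike.mem_coe, D.mem_support_iff_of_mem hxW, hg, Scheme.zeroLocus_span, Scheme.mem_zeroLocus_iff]
      rintro _ rfl
      exact hxg
    · intro hxg
      have hxW : x ∈ W.1 := S.basicOpen_le g hxg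
      refine ⟨fun hx => ?_, hxW⟩
      have hx' : x ∈ D.support := hx
      rw [D.mem_support_iff_of_mem hxW, hg, Scheme.zeroLocus_span, Scheme.mem_zeroLocus_iff] at hx'
      exact hx' g rfl hxg
  choose W hxW g hnz hg using hD
  have hA : IsAffineHom (Scheme.Opens.ι (X := S) C) := by
    refine HasAffineProperty.of_iSup_eq_top (P := @IsAffineHom) W
      (eq_top_iff.2 fun x _ => TopologicalSpace.Opens.mem_iSup.2 ⟨x, hxW x⟩) fun x => ?_
    show IsAffineOpen (C.ι ⁻¹ᵁ (W x).1)
    rw [← C.ι.isAffineOpen_iff_of_isOpenImmersion, C.ι.image_preimage_eq_opensRange_inf, Scheme.Opens.opensRange_ι,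
      hchart _ _ (hg x)]
    exact (W x).2.basicOpen _
  refine ⟨hA, ⟨?_⟩⟩
  haveI := hA
  refine Scheme.IdealSheafData.ext (funext fun V => ?_)
  rw [Scheme.Hom.ker_apply, Scheme.IdealSheafData.ideal_bot, Pi.bot_apply, eq_bot_iff]
  intro s hs
  rw [RingHom.mem_ker, Scheme.Opens.ι_app] at hs
  rw [Submodule.mem_bot]
  refine S.IsSheaf.section_ext fun x hx => ?_
  obtain ⟨h, hle, hxh⟩ := (W x).2.exists_basicOpen_le (V := V.1) ⟨x, hx⟩ (hxW x)
  let B : S.Opens := S.basicOpen h
  refine ⟨B, hle, hxh, ?_⟩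
  have hB : IsAffineOpen B := (W x).2.basicOpen h
  let res : Γ(S, (W x).1) ⟶ Γ(S, B) := S.presheaf.map (homOfLE (S.basicOpen_le h)).op
  letI : Algebra Γ(S, (W x).1) Γ(S, B) := res.hom.toAlgebra
  haveI : IsLocalization.Away h Γ(S, B) := (W x).2.isLocalization_of_eq_basicOpen h (homOfLE (S.basicOpen_le h)) rfl
  let gB : Γ(S, B) := res (g x)
  have hgB : gB ∈ nonZeroDivisors Γ(S, B) :=
    IsLocalization.map_nonZeroDivisors_le (Submonoid.powers h) Γ(S, B) ⟨g x, hnz x, rfl⟩
  let G : S.Opens := S.basicOpen gB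
  have hGC : G ≤ C ⊓ V.1 := by
    intro y hy
    refine ⟨?_, hle (S.basicOpen_le gB hy)⟩
    have : y ∈ S.basicOpen (g x) := by
      have h2 := hy
      simp only [G, gB, res, Scheme.basicOpen_res] at h2
      exact h2.2
    rw [← hchart _ _ (hg x)] at this
    exact this.1
  let rB : Γ(S, B) ⟶ Γ(S, G) := S.presheaf.map (homOfLE (S.basicOpen_le gB)).op
  letI : Algebra Γ(S, B) Γ(S, G) := rB.hom.toAlgebra
  haveI : IsLocalization.Away gB Γ(S, G) := hB.isLocalization_of_eq_basicOpen gB (homOfLE (S.basicOpen_le gB)) rfl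
  let sB : Γ(S, B) := S.presheaf.map (homOfLE hle).op s
  have h0 : rB sB = 0 := by
    have h1 := congrArg (S.presheaf.map (homOfLE (show G ≤ C.ι ''ᵁ (C.ι ⁻¹ᵁ V.1) by
      rw [C.ι.image_preimage_eq_opensRange_inf, Scheme.Opens.opensRange_ι]; exact hGC)).op) hs
    replace h1 := h1.trans (map_zero _)
    rw [← h1]
    show (S.presheaf.map _ ≫ S.presheaf.map _) s = (S.presheaf.map _ ≫ S.presheaf.map _) s
    rw [← Functor.map_comp, ← Functor.map_comp]
    rfl
  obtain ⟨⟨_, n, rfl⟩, hn⟩ := (IsLocalization.map_eq_zero_iff (Submonoid.powers gB) Γ(S, G) sB).1 h0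
  show sB = S.presheaf.map (homOfLE hle).op 0
  rw [map_zero]
  exact (mul_left_mem_nonZeroDivisors_eq_zero_iff (pow_mem hgB n)).1 hn

end Groth.Agent.S1571
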