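import Groth.Agent.SchImg.CartierSub
import Groth.Agent.S1571
import Groth.Agent.AlgSpLib.FpqcProps
import Groth.Prelude.Def_AlgSpSub

set_option autoImplicit false
universe u
open CategoryTheory CategoryTheory.Limits AlgebraicGeometry Topology TopologicalSpace
open AlgSp

set_option backward.isDefEq.respectTransparency false

namespace Groth.Agent.S10793

/-- For an algebraic space X over a scheme S, an effective Cartier divisor D ⟶ X (in the one-chart
sense) and the open subspace U ⟶ X complementary to D, that is, a morphism representable by open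
immersions whose image in |X| is the complement of the image of |D|: the inclusion of U in X is an
affine morphism, and in the scheme-theoretic sense (one-chart form) U is dense in X. -/
theorem result {S : Scheme.{u}} (X D U : AlgSp.Space S)
    (i : D ⟶ X) (hD : AlgSp.IsEffCartierSub i.hom) (j : U ⟶ X) (hj : AlgSp.RepWith @IsOpenImmersion j.hom)
    (hU : Set.range (AlgSp.Points.map j.hom) = (Set.range (AlgSp.Points.map i.hom))ᶜ) :
    AlgSp.IsAffineMor j.hom ∧ AlgSp.IsSchDense j.hom := by
  obtain ⟨hi, V, φ, I, fst, hφ, hφs, sq, hI⟩ := hD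
  obtain ⟨W, fW, sqW⟩ := SchImg.exists_open_pullback hj φ
  have hW : W = I.support.compl := by
    ext v
    show v ∈ W ↔ v ∈ I.support.compl
    rw [SchImg.mem_open_iff sqW, hU]
    exact not_congr ((SchImg.isPullIdeal_of_std sq).mem_range_iff v)
  subst hW
  obtain ⟨haff, hdom⟩ := S1571.result V.left I hI
  have hjA : AlgSp.RepWith @IsAffineHom j.hom := Groth.Agent.AlgSpLib.repWith_of_fppfCover @IsAffineHom
    (fun _ _ r hr => @Groth.Agent.AlgSpLib.indQA_of_isAffineHom _ _ r hr) X.property
    (fun _ => AlgSp.IsAlgSpace.yon_obj V)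
    (ι := PUnit.{u + 1}) (Yi := fun _ => (AlgSp.yon S).obj V) (g := fun _ => φ)
    ⟨fun _ => ⟨SchImg.locP_flat_of_etale X.property hφ,
      (Groth.Agent.AlgSpLib.locP_iff_repWith Groth.Agent.AlgSpLib.etST_lfp X.property hφ.1).2 (Groth.Agent.AlgSpLib.repWith_mono (fun _ _ r hr => by
        have : Etale r := hr
        infer_instance) hφ)⟩, fun x => ⟨PUnit.unit, Groth.Agent.AlgSpLib.isSurjectiveMor_of_repWith hφs x⟩⟩
    j.hom (fun _ => _) (fun _ => (AlgSp.yon S).map _) (fun _ => fW) (fun _ => sqW)
    (fun _ => (AlgSp.repWith_yon_map_iff @IsAffineHom _).2 haff)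
  refine ⟨(Groth.Agent.AlgSpLib.isAffineMor_iff_repWith _).2 hjA, hj, V, φ, _, fW, hφ, hφs, sqW, ?_⟩
  exact SectExtU.isSchematicallyDense_of_ι

end Groth.Agent.S10793
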