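import Groth.Agent.SchImg.CartierSub
import Groth.Agent.SchImg.LocPrincCompl
import Groth.Agent.AlgSpLib.FpqcProps
import Groth.Prelude.Def_W4stk3spdivLocPr

set_option autoImplicit false
universe u
open CategoryTheory CategoryTheory.Limits AlgebraicGeometry Topology TopologicalSpace
open AlgSp

set_option backward.isDefEq.respectTransparency false

namespace Groth.Agent.S10806

/-- Let X be an algebraic space over a scheme S, Z ⟶ X a locally principal closed subspace (one-chart
sense: representable by closed immersions, and on some etale surjective scheme chart the inverse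
image of Z is cut out by a quasi-coherent ideal sheaf that is Zariski-locally generated by one
section) and U ⟶ X the complementary open subspace, that is, a morphism representable by open
immersions whose image in |X| is the complement of the image of |Z|. Then U ⟶ X is an affine
morphism. -/
theorem result {S : Scheme.{u}} (X Z U : AlgSp.Space S)
    (i : Z ⟶ X) (hZ : AlgSp.IsLocPrincipalSub i.hom) (j : U ⟶ X) (hj : AlgSp.RepWith @IsOpenImmersion j.hom)
    (hU : Set.range (AlgSp.Points.map j.hom) = (Set.range (AlgSp.Points.map i.hom))ᶜ) :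
    AlgSp.IsAffineMor j.hom := by
  obtain ⟨hi, V, φ, I, fst, hφ, hφs, sq, hI⟩ := hZ
  obtain ⟨W, fW, sqW⟩ := SchImg.exists_open_pullback hj φ
  have hW : W = I.support.compl := by
    ext v
    show v ∈ W ↔ v ∈ I.support.compl
    rw [SchImg.mem_open_iff sqW, hU]
    exact not_congr ((SchImg.isPullIdeal_of_std sq).mem_range_iff v)
  subst hW
  have haff := SchImg.isAffineHom_compl_of_isLocPrincipal I hI
  have hjA : AlgSp.RepWith @IsAffineHom j.hom := Groth.Agent.AlgSpLib.repWith_of_fppfCover @IsAffineHom
    (fun _ _ r hr => @Groth.Agent.AlgSpLib.indQA_of_isAffineHom _ _ r hr) X.property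
    (fun _ => AlgSp.IsAlgSpace.yon_obj V)
    (ι := PUnit.{u + 1}) (Yi := fun _ => (AlgSp.yon S).obj V) (g := fun _ => φ)
    ⟨fun _ => ⟨SchImg.locP_flat_of_etale X.property hφ,
      (Groth.Agent.AlgSpLib.locP_iff_repWith Groth.Agent.AlgSpLib.etST_lfp X.property hφ.1).2 (Groth.Agent.AlgSpLib.repWith_mono (fun _ _ r hr => by
        have : Etale r := hr
        infer_instance) hφ)⟩, fun x => ⟨PUnit.unit, Groth.Agent.AlgSpLib.isSurjectiveMor_of_repWith hφs x⟩⟩
    j.hom (fun _ => _) (fun _ => (AlgSp.yon S).map _) (fun _ => fW) (fun _ => sqW)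
    (fun _ => (AlgSp.repWith_yon_map_iff @IsAffineHom _).2 haff)
  exact (Groth.Agent.AlgSpLib.isAffineMor_iff_repWith _).2 hjA

end Groth.Agent.S10806
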