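import Groth.Statements.S10808
import Groth.Agent.SpBlow.Comp

set_option autoImplicit false
universe u
open CategoryTheory CategoryTheory.Limits AlgebraicGeometry Topology TopologicalSpace
open AlgSp

set_option backward.isDefEq.respectTransparency false

namespace Groth.Agent.S10808

/-- Let S be a quasi-separated scheme and X an algebraic space over S, quasi-compact and quasi-separated
over S. Let Z ⟶ X be a finitely presented closed subspace and b : X' ⟶ X a blowing up of X in Z; let
Z' ⟶ X' be a finitely presented closed subspace and b' : X'' ⟶ X' a blowing up of X' in Z' (blowing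
ups characterised by their universal property: the inverse image of the centre is effective Cartier
in the one-chart sense, and every morphism from an algebraic space with that property factors
uniquely). Then there is a finitely presented closed subspace Y ⟶ X with |Y| = |Z| ∪ b(|Z'|) such
that the composite X'' ⟶ X is a blowing up of X in Y. (The published statement asks X
quasi-separated in the absolute sense; this row asks X quasi-separated over a quasi-separated base
S, which implies it.) -/
theorem result {S : Scheme.{u}} [QuasiSeparatedSpace ↥S]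
    (X X' X'' Z Z' : AlgSp.Space S) (hqc : AlgSp.IsQuasiCompactSp X.obj) (hqs : AlgSp.IsQuasiSeparatedSp X.obj)
    (i : Z ⟶ X) (hi : AlgSp.RepWith (@IsClosedImmersion ⊓ @LocallyOfFinitePresentation) i.hom)
    (b : X' ⟶ X) (hb : AlgSp.IsBlowUpSp b.hom i.hom)
    (i' : Z' ⟶ X') (hi' : AlgSp.RepWith (@IsClosedImmersion ⊓ @LocallyOfFinitePresentation) i'.hom)
    (b' : X'' ⟶ X') (hb' : AlgSp.IsBlowUpSp b'.hom i'.hom) :
    ∃ (Y : AlgSp.Space S) (iY : Y ⟶ X),
      AlgSp.RepWith (@IsClosedImmersion ⊓ @LocallyOfFinitePresentation) iY.hom ∧
      Set.range (AlgSp.Points.map iY.hom) =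
        Set.range (AlgSp.Points.map i.hom) ∪ AlgSp.Points.map b.hom '' Set.range (AlgSp.Points.map i'.hom) ∧
      AlgSp.IsBlowUpSp (b' ≫ b).hom iY.hom := by
  obtain ⟨Y, iY, h1, h2, h3⟩ := SpBlow.exists_isBlowUpSp_comp X X'.property X''.property hqc hqs hi hb hi' hb'
  exact ⟨Y, ObjectProperty.homMk iY, h1, h2, h3⟩

end Groth.Agent.S10808
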