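import Groth.Statements.S1081
import Groth.Agent.FilDLib.Split
import Mathlib
-- import your own Groth.Agent.* helpers here

set_option autoImplicit false
universe v u
open CategoryTheory CategoryTheory.Limits Opposite
open FilD

namespace Groth.Agent.S1081

/-- Let A be an abelian category with enough injectives. Every finite filtered object X admits a strict
monomorphism X ⟶ I into a filtered injective object I. -/
theorem result {A : Type u} [Category.{v} A] [Abelian A] [EnoughInjectives A] (X : FilD.FilF A) :
    ∃ (I : FilD.FilF A) (u : X ⟶ I), FilD.IsFilteredInjective I ∧ Mono u ∧ FilD.IsStrict u := by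
  obtain ⟨I, u, hI, hu⟩ := FilDLib.exists_into_split X
  have hS : ∀ p : ℤ, ((ShortComplex.mk (0 : X.obj ⟶ X.obj) u.hom zero_comp).map (FilD.gr A p)).Exact := fun p =>
    (ShortComplex.exact_iff_mono _ ((FilD.gr A p).map_zero X.obj X.obj)).2 (hu p)
  obtain ⟨b, hb⟩ := X.property.2.1
  have : ∀ q : ℤᵒᵖ, Mono (u.hom.app q) := fun q =>
    (FilDLib.exact_app (ShortComplex.mk (0 : X.obj ⟶ X.obj) u.hom zero_comp) hS (fun r => I.property.1 _) b hb q.unop).mono_g rfl
  have : Mono u.hom := NatTrans.mono_of_mono_app _
  exact ⟨I, u, hI, (FilD.IsFinFil A).ι.mono_of_mono_map (f := u) ‹_›, FilDLib.isStrict_of_exact_gr u 0 zero_comp hS⟩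

end Groth.Agent.S1081
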