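import Groth.Statements.S10820
import Groth.Agent.Lich.Goodman
import Groth.Agent.Horrocks.Dim

set_option autoImplicit false
universe u
open AlgebraicGeometry Topology TopologicalSpace
open Variety

set_option backward.isDefEq.respectTransparency false
set_option backward.isDefEq.respectTransparency.types false

open Groth.Agent

namespace Groth.Agent.S10820

/-- For a field k, n ≥ 2 and a nonzero homogeneous polynomial f of degree d ≥ 1 in n + 1 variables, the
hypersurface V_+(f) in projective n-space over k (as a subspace of Proj of the polynomial ring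
graded by degree) is connected and nonempty. -/
theorem result (k : Type u) [Field k] (n d : ℕ) (hn : 2 ≤ n)
    (f : MvPolynomial (Fin (n + 1)) k) (hf : f.IsHomogeneous d) (hd : 0 < d) (hf0 : f ≠ 0) :
    IsConnected (ProjectiveSpectrum.zeroLocus (CohB1.polyGrading n k)
      ({f} : Set (MvPolynomial (Fin (n + 1)) k))) := by
  classical
  haveI := Horrocks.isIntegral_projSpace (k := k) (n := n)
  haveI := ProjMor.isProper_toSpec n k
  let U : (CohB1.ProjSpace n k).Opens := Proj.basicOpen (CohB1.polyGrading n k) f
  have hU : IsAffineOpen U := Proj.isAffineOpen_basicOpen (CohB1.polyGrading n k) f hf hd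
  have hne : (U : Set (CohB1.ProjSpace n k)).Nonempty := by
    by_contra h
    rw [Set.not_nonempty_iff_eq_empty] at h
    let p : CohB1.ProjSpace n k := ⟨⊥, by rw [HomogeneousIdeal.toIdeal_bot]; exact Ideal.isPrime_bot, fun hle => by
      have h1 := hle (HomogeneousIdeal.mem_irrelevant_of_mem (CohB1.polyGrading n k) one_pos (MvPolynomial.isHomogeneous_X k 0))
      rw [← HomogeneousIdeal.mem_iff, HomogeneousIdeal.toIdeal_bot, Ideal.mem_bot] at h1
      exact MvPolynomial.X_ne_zero (R := k) (0 : Fin (n + 1)) h1⟩
    refine Set.eq_empty_iff_forall_notMem.1 h p ?_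
    show f ∉ (⊥ : HomogeneousIdeal (CohB1.polyGrading n k))
    intro hm
    rw [← HomogeneousIdeal.mem_iff, HomogeneousIdeal.toIdeal_bot, Ideal.mem_bot] at hm
    exact hf0 hm
  have h := Lich.isConnected_compl (CohB1.ProjSpace.toSpec n k) n (S10829.result k n) hn U hU hne
  have e : ((U : Set (CohB1.ProjSpace n k))ᶜ) = ProjectiveSpectrum.zeroLocus (CohB1.polyGrading n k) ({f} : Set _) := by
    show (SetLike.coe (ProjectiveSpectrum.basicOpen (CohB1.polyGrading n k) f))ᶜ = _
    rw [ProjectiveSpectrum.basicOpen_eq_zeroLocus_compl, compl_compl]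
  rwa [e] at h

end Groth.Agent.S10820
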