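import Groth.Statements.S10822
import Groth.Agent.ProjCut.Basic

set_option autoImplicit false
universe u
open AlgebraicGeometry Topology TopologicalSpace
open Variety

namespace Groth.Agent.S10822

/-- Let k be a field, X an irreducible closed subset of projective n-space over k of positive dimension,
and f a homogeneous polynomial in n + 1 variables whose zero set V_+(f) is nonempty and does not
contain X. Then X meets V_+(f), and every irreducible component C of X ∩ V_+(f) has dim C + 1 = dim
X, i.e. codimension 1 in X (all maximal chains of irreducible closed subsets of X have length dim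
X). -/
theorem result (k : Type u) [Field k] (n d : ℕ)
    (X : Set (ProjectiveSpectrum (CohB1.polyGrading n k))) (hXc : IsClosed X) (hXi : IsIrreducible X)
    (hXd : 0 < topologicalKrullDim ↥X)
    (f : MvPolynomial (Fin (n + 1)) k) (hf : f.IsHomogeneous d)
    (hV : (ProjectiveSpectrum.zeroLocus (CohB1.polyGrading n k)
      ({f} : Set (MvPolynomial (Fin (n + 1)) k))).Nonempty)
    (hX : ¬ X ⊆ ProjectiveSpectrum.zeroLocus (CohB1.polyGrading n k)
      ({f} : Set (MvPolynomial (Fin (n + 1)) k))) :
    (X ∩ ProjectiveSpectrum.zeroLocus (CohB1.polyGrading n k)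
        ({f} : Set (MvPolynomial (Fin (n + 1)) k))).Nonempty ∧
      ∀ C ∈ irreducibleComponents ↥(X ∩ ProjectiveSpectrum.zeroLocus (CohB1.polyGrading n k)
          ({f} : Set (MvPolynomial (Fin (n + 1)) k))),
        topologicalKrullDim ↥C + 1 = topologicalKrullDim ↥X := by
  refine ⟨?_, fun C hC => Groth.Agent.ProjCut.component_add_one_eq hXc hXi f hf hX hC⟩
  rcases eq_or_ne f 0 with rfl | hf0
  · exact absurd (fun x _ => by rintro _ rfl; exact Ideal.zero_mem _) hX
  have hd : 0 < d := by
    rcases Nat.eq_zero_or_pos d with rfl | hd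
    · obtain ⟨x, hx⟩ := hV
      refine absurd (Ideal.eq_top_of_isUnit_mem _ (hx rfl) ?_) x.isPrime.ne_top
      have h0 : f = MvPolynomial.C (MvPolynomial.coeff 0 f) :=
        MvPolynomial.totalDegree_eq_zero_iff_eq_C.mp (hf.totalDegree hf0)
      rw [h0]
      exact (isUnit_iff_ne_zero.mpr fun h => hf0 (by rw [h0, h, map_zero])).map MvPolynomial.C
    · exact hd
  have h := Groth.Agent.ProjCut.nonempty_inter hXc hXi (fun _ : Fin 1 => f) (fun _ => ⟨d, hd, hf⟩) (by
    rw [Nat.cast_one]
    revert hXd
    generalize topologicalKrullDim ↥X = D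
    intro hXd
    induction D with
    | bot => simp at hXd
    | coe D =>
      rw [← WithBot.coe_one, WithBot.coe_le_coe]
      exact Order.one_le_iff_pos.2 (WithBot.coe_pos.1 hXd))
  rwa [Set.range_const] at h

end Groth.Agent.S10822
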