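import Groth.Statements.S10825
import Groth.Agent.S5763
import Mathlib.RingTheory.Spectrum.Prime.Topology
import Mathlib.RingTheory.Norm.Transitivity
import Mathlib.FieldTheory.Minpoly.IsIntegrallyClosed
import Mathlib.RingTheory.IntegralClosure.IntegrallyClosed
import Mathlib.Topology.KrullDimension

set_option autoImplicit false
universe u
open Topology
open CAlg

namespace Groth.Agent.S10825

theorem topDim_zeroLocus {R : Type u} [CommRing R] (I : Ideal R) :
    topologicalKrullDim ↥(PrimeSpectrum.zeroLocus (I : Set R)) = ringKrullDim (R ⧸ I) := by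
  have hs : Function.Surjective (Ideal.Quotient.mk I) := Ideal.Quotient.mk_surjective
  have hr : Set.range (PrimeSpectrum.comap (Ideal.Quotient.mk I)) = PrimeSpectrum.zeroLocus (I : Set R) := by
    rw [range_comap_of_surjective _ _ hs, Ideal.mk_ker]
  have h := (PrimeSpectrum.isClosedEmbedding_comap_of_surjective _ _ hs).isEmbedding.toHomeomorph
  rw [← PrimeSpectrum.topologicalKrullDim_eq_ringKrullDim]
  exact (IsHomeomorph.topologicalKrullDim_eq _ (h.trans (Homeomorph.setCongr hr)).isHomeomorph).symm

/-- Let A → B be an injective integral homomorphism of integral domains with fraction fields K and L, L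
a finite extension of K, and A integrally closed. For b in B the norm N_{L/K}(b) lies in A; if a
denotes this element of A, then the image of the closed set V(b) of Spec B under Spec B → Spec A is
exactly V(a), and V(b) and V(a) have the same dimension. -/
theorem result
    (A B K L : Type u) [CommRing A] [IsDomain A] [CommRing B] [IsDomain B] [Algebra A B]
    [Field K] [Field L] [Algebra A K] [IsFractionRing A K] [Algebra B L] [IsFractionRing B L]
    [Algebra A L] [Algebra K L] [IsScalarTower A B L] [IsScalarTower A K L]
    [FiniteDimensional K L] [Algebra.IsIntegral A B] [IsIntegrallyClosed A]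
    (hinj : Function.Injective (algebraMap A B))
    (b : B) (a : A) (ha : algebraMap A K a = Algebra.norm K (algebraMap B L b)) :
    PrimeSpectrum.comap (algebraMap A B) '' PrimeSpectrum.zeroLocus ({b} : Set B) =
        PrimeSpectrum.zeroLocus ({a} : Set A) ∧
      topologicalKrullDim ↥(PrimeSpectrum.zeroLocus ({b} : Set B)) =
        topologicalKrullDim ↥(PrimeSpectrum.zeroLocus ({a} : Set A)) := by
  classical
  set I : Ideal A := (Ideal.span {b}).comap (algebraMap A B)
  have himg : PrimeSpectrum.comap (algebraMap A B) '' PrimeSpectrum.zeroLocus ({b} : Set B) =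
      PrimeSpectrum.zeroLocus (I : Set A) := by
    ext p
    constructor
    · rintro ⟨q, hq, rfl⟩ x hx
      rw [← PrimeSpectrum.zeroLocus_span] at hq
      exact hq hx
    · intro hp
      obtain ⟨Q, hQ, hQ', hQp⟩ := Ideal.exists_ideal_over_prime_of_isIntegral p.asIdeal (Ideal.span {b}) hp
      refine ⟨⟨Q, hQ'⟩, ?_, PrimeSpectrum.ext hQp⟩
      rw [PrimeSpectrum.mem_zeroLocus, Set.singleton_subset_iff]
      exact hQ (Ideal.mem_span_singleton_self b)
  set x := algebraMap B L b
  have hintx : IsIntegral A x :=
    (Algebra.IsIntegral.isIntegral (R := A) b).map (IsScalarTower.toAlgHom A B L)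
  set P := minpoly A x
  have hmin : minpoly K x = P.map (algebraMap A K) := minpoly.isIntegrallyClosed_eq_field_fractions' K hintx
  set e := Module.finrank (IntermediateField.adjoin K {x}) L
  have he : 0 < e := Module.finrank_pos
  have hxK : IsIntegral K x := hintx.tower_top
  have hnorm : a = ((-1) ^ (IntermediateField.adjoin.powerBasis hxK).dim * P.coeff 0) ^ e := by
    apply IsFractionRing.injective A K
    rw [ha, Algebra.norm_eq_norm_adjoin K x, ← IntermediateField.adjoin.powerBasis_gen hxK,
      Algebra.PowerBasis.norm_gen_eq_coeff_zero_minpoly, IntermediateField.adjoin.powerBasis_gen,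
      IntermediateField.minpoly_gen, hmin, Polynomial.coeff_map, map_pow, map_mul, map_pow, map_neg, map_one]
  have hc : P.coeff 0 ∈ I := by
    rw [Ideal.mem_comap, Ideal.mem_span_singleton]
    have h0 : Polynomial.aeval b P = 0 := by
      refine IsFractionRing.injective B L ?_
      rw [← Polynomial.aeval_algebraMap_apply, map_zero]
      exact minpoly.aeval A x
    rw [← Polynomial.X_mul_divX_add P, map_add, map_mul, Polynomial.aeval_X, Polynomial.aeval_C] at h0
    exact ⟨-Polynomial.aeval b P.divX, by rw [mul_neg]; exact eq_neg_of_add_eq_zero_right h0⟩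
  have haI : a ∈ I := by
    rw [hnorm]
    exact Ideal.pow_mem_of_mem _ (I.mul_mem_left _ hc) e he
  have hVI : PrimeSpectrum.zeroLocus ({a} : Set A) = PrimeSpectrum.zeroLocus (I : Set A) := by
    refine Set.Subset.antisymm (fun p hp y hy => ?_)
      (PrimeSpectrum.zeroLocus_anti_mono (Set.singleton_subset_iff.2 haI))
    rw [PrimeSpectrum.mem_zeroLocus, Set.singleton_subset_iff] at hp
    obtain ⟨c, hc'⟩ := Ideal.mem_span_singleton.1 (Ideal.mem_comap.1 hy)
    obtain ⟨d, hd⟩ := IsIntegrallyClosed.isIntegral_iff.1
      (Algebra.isIntegral_norm (R := A) K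
        ((Algebra.IsIntegral.isIntegral (R := A) c).map (IsScalarTower.toAlgHom A B L)))
    have heq : y ^ Module.finrank K L = a * d := by
      apply IsFractionRing.injective A K
      rw [map_pow, map_mul, ha, hd, ← Algebra.norm_algebraMap, ← map_mul, ← IsScalarTower.algebraMap_apply,
        IsScalarTower.algebraMap_apply A B L, IsScalarTower.toAlgHom_apply, ← map_mul, hc']
    exact p.isPrime.mem_of_pow_mem _ (heq ▸ Ideal.mul_mem_right _ _ hp)
  refine ⟨himg.trans hVI.symm, ?_⟩
  rw [hVI, ← PrimeSpectrum.zeroLocus_span ({b} : Set B), topDim_zeroLocus, topDim_zeroLocus]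
  have : Algebra.IsIntegral (A ⧸ I) (B ⧸ Ideal.span {b}) := Algebra.IsIntegral.tower_top A
  exact (S5763.result (A ⧸ I) (B ⧸ Ideal.span {b})).2 Ideal.quotientMap_injective

end Groth.Agent.S10825
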