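import Groth.Statements.S10826
import Groth.Agent.KumFam.SubstInv
import Mathlib.Data.Fintype.Basic

set_option autoImplicit false
open CAlg

namespace Groth.Agent.S10826

open MvPowerSeries Finsupp Groth.Agent.KumFam in
theorem exists_decomp {R : Type*} [CommRing R] (n : ℕ) (f : MvPowerSeries (Fin n) R) :
    ∃ g : Fin n → MvPowerSeries (Fin n) R, f = C (constantCoeff f) + ∑ i, X i * g i := by
  classical
  let g : Fin n → MvPowerSeries (Fin n) R := fun i e =>
    if ∀ j < i, e j = 0 then coeff (e + single i 1) f else 0
  refine ⟨g, MvPowerSeries.ext fun d => ?_⟩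
  rw [map_add, map_sum]
  have hterm : ∀ i, coeff d (X i * g i) =
      if single i 1 ≤ d then coeff (d - single i 1) (g i) else 0 := fun i => by
    rw [X, coeff_monomial_mul]; simp
  by_cases hd : d = 0
  · subst hd
    rw [Finset.sum_eq_zero fun i _ => by rw [hterm, if_neg]; intro h; simpa using h i]
    simp
  · rw [coeff_C, if_neg hd, zero_add]
    obtain ⟨i₀, hi₀⟩ : ∃ i, d i ≠ 0 := Finsupp.ne_iff.1 hd
    let s := Finset.univ.filter fun i => d i ≠ 0
    have hs : s.Nonempty := ⟨i₀, by simp [s, hi₀]⟩
    set m := s.min' hs with hm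
    have hdm : d m ≠ 0 := (Finset.mem_filter.1 (s.min'_mem hs)).2
    have hmin : ∀ j < m, d j = 0 := fun j hj => by
      by_contra h
      exact absurd (s.min'_le j (by simp [s, h])) (not_le.2 hj)
    have hle : single m 1 ≤ d := Finsupp.single_le_iff.2 (Nat.one_le_iff_ne_zero.2 hdm)
    rw [Finset.sum_eq_single m]
    · rw [hterm, if_pos hle]
      change _ = if ∀ j < m, (d - single m 1 : Fin n →₀ ℕ) j = 0 then coeff (d - single m 1 + single m 1) f else 0
      rw [if_pos (fun j hj => by simp [hmin j hj]), tsub_add_cancel_of_le hle]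
    · intro i _ hi
      rw [hterm]
      split_ifs with hle'
      · change (if ∀ j < i, (d - single i 1 : Fin n →₀ ℕ) j = 0 then _ else (0 : R)) = 0
        rw [if_neg]
        intro h
        rcases lt_or_gt_of_ne hi with hlt | hgt
        · have := Finsupp.single_le_iff.1 hle'
          rw [hmin i hlt] at this
          omega
        · have := h m hgt
          simp [Ne.symm hi.symm, Finsupp.single_apply, hi] at this
          exact hdm this
      · rfl
    · simp

open MvPowerSeries Finsupp Groth.Agent.KumFam in
theorem eq_subst {R : Type*} [CommRing R] (n : ℕ)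
    (φ : MvPowerSeries (Fin n) R →ₐ[R] MvPowerSeries (Fin n) R)
    (h0 : ∀ i, constantCoeff (φ (X i)) = 0) (f : MvPowerSeries (Fin n) R) :
    φ f = subst (fun i => φ (X i)) f := by
  have hs := hasSubst_of_const h0
  set ψ := substAlgHom (R := R) hs
  suffices H : ∀ m f, VanishBelow m (φ f - ψ f) by
    have : φ f = ψ f := sub_eq_zero.1 (MvPowerSeries.ext fun d => by
      simpa using H (degree d + 1) f d (Nat.lt_succ_self _))
    rw [this, substAlgHom_apply]
  intro m
  induction m with
  | zero => intro f d hd; omega
  | succ m ih =>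
    intro f
    obtain ⟨g, hg⟩ := exists_decomp n f
    have hC : ∀ F : MvPowerSeries (Fin n) R →ₐ[R] MvPowerSeries (Fin n) R, ∀ r, F (C r) = C r :=
      fun F r => F.commutes r
    have he : φ f - ψ f = ∑ i, φ (X i) * (φ (g i) - ψ (g i)) := by
      conv_lhs => rw [hg]
      simp only [map_add, map_sum, map_mul, hC, ψ, substAlgHom_X, add_sub_add_left_eq_sub,
        ← Finset.sum_sub_distrib, mul_sub]
    rw [he]
    refine Finset.sum_induction _ (VanishBelow (m + 1)) (fun _ _ => VanishBelow.add) ?_ fun i _ => ?_
    · intro d _; simp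
    · exact ((vanishBelow_one_iff.2 (h0 i)).mul (ih (g i))).mono (by omega)

/-- Let R be a commutative ring, n ≥ 1, and φ an R-algebra homomorphism from the power series ring in n
variables over R to itself that sends each variable to a power series without constant term. If the
Jacobian matrix at the origin, whose (i, j) entry is the coefficient of X_j in φ(X_i), has
invertible determinant in R, then φ is an isomorphism (bijective). -/
theorem result
    (R : Type*) [CommRing R] (n : ℕ) (hn : 1 ≤ n)
    (φ : MvPowerSeries (Fin n) R →ₐ[R] MvPowerSeries (Fin n) R)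
    (h0 : ∀ i, MvPowerSeries.constantCoeff (φ (MvPowerSeries.X i)) = 0)
    (hJ : IsUnit (Matrix.det (Matrix.of fun i j : Fin n =>
      MvPowerSeries.coeff (Finsupp.single j 1) (φ (MvPowerSeries.X i))))) :
    Function.Bijective φ := by
  classical
  rw [show (φ : MvPowerSeries (Fin n) R → MvPowerSeries (Fin n) R) =
    MvPowerSeries.subst (fun i => φ (MvPowerSeries.X i)) from funext (eq_subst n φ h0)]
  refine Groth.Agent.KumFam.bijective_subst _ _ hJ fun i d hd => ?_
  rw [map_sub, sub_eq_zero, Groth.Agent.KumFam.linSubst, map_sum]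
  simp only [MvPowerSeries.coeff_C_mul, MvPowerSeries.coeff_X, mul_ite, mul_one, mul_zero,
    Matrix.of_apply]
  by_cases hd0 : d = 0
  · subst hd0
    rw [MvPowerSeries.coeff_zero_eq_constantCoeff_apply, h0, Finset.sum_eq_zero]
    intro j _
    rw [if_neg]
    intro h
    simpa using DFunLike.congr_fun h j
  · obtain ⟨j, hj⟩ : ∃ j, d j ≠ 0 := Finsupp.ne_iff.1 hd0
    have hle : Finsupp.single j 1 ≤ d := Finsupp.single_le_iff.2 (Nat.one_le_iff_ne_zero.2 hj)
    have hdeg : Finsupp.degree (d - Finsupp.single j 1) = 0 := by
      have := congrArg Finsupp.degree (tsub_add_cancel_of_le hle)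
      rw [map_add, Finsupp.degree_single] at this
      omega
    have hd' : d = Finsupp.single j 1 := by
      conv_lhs => rw [← tsub_add_cancel_of_le hle, (Finsupp.degree_eq_zero_iff _).1 hdeg, zero_add]
    subst hd'
    rw [Finset.sum_eq_single j (fun k _ hk => if_neg fun h => hk
      (Finsupp.single_left_injective one_ne_zero h).symm) (fun h => absurd (Finset.mem_univ _) h),
      if_pos rfl]

end Groth.Agent.S10826
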