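import Groth.Statements.S10828
import Mathlib
import Groth.Agent.NagataNorm.Basic
open CategoryTheory AlgebraicGeometry

set_option autoImplicit false
universe u
open CategoryTheory AlgebraicGeometry
open Variety

set_option maxHeartbeats 1000000
namespace Groth.Agent.S10828


variable {k K : Type u} [Field k] [Field K] [Algebra k K]

/-- The embedding of the residue field attached to a point. -/
theorem exists_hom {X : Scheme.{u}} (f : X ⟶ Spec (CommRingCat.of k)) (p : Spec (CommRingCat.of K) ⟶ X)
    (hp : p ≫ f = Spec.map (CommRingCat.ofHom (algebraMap k K))) (x : X) (hx : p.base (IsLocalRing.closedPoint K) = x) :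
    ∃ φ : X.residueField x →+* K, Spec.map (CommRingCat.ofHom φ) ≫ X.fromSpecResidueField x = p ∧
      φ.comp (Spec.preimage (X.fromSpecResidueField x ≫ f)).hom = algebraMap k K := by
  subst hx
  refine ⟨(Scheme.descResidueField (Scheme.stalkClosedPointTo p)).hom, ?_, ?_⟩
  · exact Scheme.descResidueField_stalkClosedPointTo_fromSpecResidueField K X p
  · have e : Spec.preimage (X.fromSpecResidueField _ ≫ f) ≫ Scheme.descResidueField (Scheme.stalkClosedPointTo p) =
        CommRingCat.ofHom (algebraMap k K) := by
      apply Spec.map_injective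
      rw [Spec.map_comp, Spec.map_preimage, ← hp, ← Category.assoc]
      congr 1
      exact Scheme.descResidueField_stalkClosedPointTo_fromSpecResidueField K X p
    exact congrArg CommRingCat.Hom.hom e

/-- Let k be a field, K an algebraic closure of k with its group G of k-automorphisms, and X a k-scheme
locally of finite type. The map sending a K-valued point of X over k to its image point identifies
the closed points of X with the G-orbits in X(K): a point is closed if and only if it is the image
of some K-valued point, and two K-valued points have the same image if and only if one is obtained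
from the other by composing with Spec of a k-automorphism of K. -/
theorem result (k K : Type u) [Field k] [Field K]
    [Algebra k K] [IsAlgClosure k K] {X : Scheme.{u}} (f : X ⟶ Spec (CommRingCat.of k))
    [LocallyOfFiniteType f] :
    (∀ x : X, IsClosed ({x} : Set X) ↔
        ∃ p : Spec (CommRingCat.of K) ⟶ X, p ≫ f = Spec.map (CommRingCat.ofHom (algebraMap k K)) ∧
          p.base (IsLocalRing.closedPoint K) = x) ∧
      ∀ p q : Spec (CommRingCat.of K) ⟶ X,
        p ≫ f = Spec.map (CommRingCat.ofHom (algebraMap k K)) →
        q ≫ f = Spec.map (CommRingCat.ofHom (algebraMap k K)) →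
          (p.base (IsLocalRing.closedPoint K) = q.base (IsLocalRing.closedPoint K) ↔
            ∃ σ : K ≃ₐ[k] K, q = Spec.map (CommRingCat.ofHom σ.toRingHom) ≫ p) := by
  classical
  haveI : Algebra.IsAlgebraic k K := IsAlgClosure.isAlgebraic
  haveI : IsAlgClosed K := IsAlgClosure.isAlgClosed k
  haveI : JacobsonSpace X := LocallyOfFiniteType.jacobsonSpace f
  refine ⟨fun x => ⟨fun hx => ?_, ?_⟩, fun p q hp hq => ⟨fun hpq => ?_, ?_⟩⟩
  · let s := (Spec.preimage (X.fromSpecResidueField x ≫ f)).hom
    letI := s.toAlgebra
    haveI : Module.Finite k (X.residueField x) := by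
      have h : IsFinite (X.fromSpecResidueField x ≫ f) := by
        rw [isClosed_singleton_iff_isClosedImmersion] at hx
        rw [isFinite_iff_locallyOfFiniteType_of_jacobsonSpace]
        infer_instance
      rw [← Spec.map_preimage (X.fromSpecResidueField x ≫ f)] at h
      exact (IsFinite.SpecMap_iff _).1 h
    let φ : X.residueField x →ₐ[k] K := IsAlgClosed.lift
    refine ⟨Spec.map (CommRingCat.ofHom φ.toRingHom) ≫ X.fromSpecResidueField x, ?_, ?_⟩
    · rw [Category.assoc, ← Spec.map_preimage (X.fromSpecResidueField x ≫ f), ← Spec.map_comp]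
      congr 1
      exact CommRingCat.hom_ext φ.comp_algebraMap
    · exact Scheme.fromSpecResidueField_apply x _
  · rintro ⟨p, hp, hx⟩
    obtain ⟨φ, -, hφ⟩ := exists_hom f p hp x hx
    let s := (Spec.preimage (X.fromSpecResidueField x ≫ f)).hom
    letI := s.toAlgebra
    let φa : X.residueField x →ₐ[k] K := { φ with commutes' := RingHom.congr_fun hφ }
    haveI : Algebra.IsIntegral k (X.residueField x) :=
      ⟨fun a => (isIntegral_algHom_iff φa φ.injective).1 (Algebra.IsIntegral.isIntegral (φ a))⟩
    rw [isClosed_singleton_iff_locallyOfFiniteType]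
    haveI : Module.Finite k (X.residueField x) := by
      haveI : Algebra.IsAlgebraic k (X.residueField x) := Algebra.IsIntegral.isAlgebraic
      haveI : Algebra.EssFiniteType k (X.residueField x) := by
        have h1 := Groth.Agent.NagataNorm.residueFieldMap_essFiniteType (f := f) x
        have e : Spec.preimage (X.fromSpecResidueField x ≫ f) =
            CommRingCat.ofHom (algebraMap k ((f x).asIdeal.ResidueField)) ≫ (Scheme.Spec.residueFieldIso _ (f x)).inv ≫ f.residueFieldMap x := by
          apply Spec.map_injective
          rw [Spec.map_preimage, Spec.map_comp, Spec.map_comp, Category.assoc, Scheme.Spec.map_residueFieldIso_inv_eq_fromSpecResidueField,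
            Scheme.Hom.SpecMap_residueFieldMap_fromSpecResidueField]
        show s.EssFiniteType
        rw [show s = _ from congrArg CommRingCat.Hom.hom e]
        simp only [CommRingCat.hom_comp, CommRingCat.hom_ofHom]
        have h0 : (algebraMap k ((f x).asIdeal.ResidueField)).EssFiniteType := RingHom.essFiniteType_algebraMap.2 inferInstance
        exact (h0.comp (RingHom.FiniteType.of_surjective (Scheme.Spec.residueFieldIso _ (f x)).inv.hom
          (Scheme.Spec.residueFieldIso _ (f x)).symm.commRingCatIsoToRingEquiv.surjective).essFiniteType).comp h1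
      exact Algebra.finite_of_essFiniteType_of_isAlgebraic
    haveI : LocallyOfFiniteType (X.fromSpecResidueField x ≫ f) := by
      rw [← Spec.map_preimage (X.fromSpecResidueField x ≫ f), HasRingHomProperty.Spec_iff (P := @LocallyOfFiniteType)]
      exact RingHom.Finite.finiteType ‹Module.Finite k (X.residueField x)›
    exact locallyOfFiniteType_of_comp _ f
  · obtain ⟨φ, hφp, hφ⟩ := exists_hom f p hp _ rfl
    obtain ⟨ψ, hψq, hψ⟩ := exists_hom f q hq _ hpq.symm
    generalize p.base (IsLocalRing.closedPoint K) = x at φ ψ hφ hψ hφp hψq
    obtain ⟨σ, hσ⟩ : ∃ σ : K ≃ₐ[k] K, ∀ a, σ (φ a) = ψ a := by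
      let s := (Spec.preimage (X.fromSpecResidueField x ≫ f)).hom
      letI := s.toAlgebra
      let ψa : X.residueField x →ₐ[k] K := { ψ with commutes' := RingHom.congr_fun hψ }
      letI : Algebra (X.residueField x) K := φ.toAlgebra
      haveI : IsScalarTower k (X.residueField x) K := IsScalarTower.of_algebraMap_eq fun c => (RingHom.congr_fun hφ c).symm
      haveI : Algebra.IsAlgebraic (X.residueField x) K := Algebra.IsAlgebraic.tower_top (K := k) (X.residueField x)
      obtain ⟨g, hg⟩ : ∃ g : K →ₐ[k] K, ∀ a, g (φ a) = ψ a := by
        obtain ⟨g, hg⟩ := IsAlgClosed.surjective_domRestrict_of_isAlgebraic (K := k) (L := X.residueField x) (M := K) (E := K) ψa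
        exact ⟨g, fun a => AlgHom.congr_fun hg a⟩
      exact ⟨AlgEquiv.ofBijective g (Algebra.IsAlgebraic.algHom_bijective g), hg⟩
    refine ⟨σ, ?_⟩
    rw [← hψq, ← hφp, ← Category.assoc, ← Spec.map_comp]
    congr 2
    exact CommRingCat.hom_ext (RingHom.ext fun a => (hσ a).symm)
  · rintro ⟨σ, rfl⟩
    show p.base _ = p.base ((Spec.map (CommRingCat.ofHom σ.toRingHom)).base _)
    congr 1
    exact Subsingleton.elim _ _

end Groth.Agent.S10828
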