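import Groth.Statements.S10832
import Groth.Agent.DimZeroFT.Basic


set_option autoImplicit false
universe u
open CategoryTheory AlgebraicGeometry Topology
open Variety

set_option backward.isDefEq.respectTransparency false
namespace Groth.Agent.S10832

/-- For a nonempty scheme X of finite type over a field k the following are equivalent: X has Krull
dimension 0; X is affine with ring of global sections finite over k and equal to the product of all
its local rings via the germ maps; the underlying space of X is discrete; the underlying space of X
is finite. -/
theorem result (k : Type u) [Field k] {X : Scheme.{u}} [Nonempty X]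
    (f : X ⟶ Spec (CommRingCat.of k)) [LocallyOfFiniteType f] [QuasiCompact f] :
    [topologicalKrullDim ↥X = 0,
      IsAffine X ∧ f.appTop.hom.Finite ∧
        Function.Bijective (fun s : Γ(X, ⊤) => fun x : X => X.presheaf.germ ⊤ x trivial s),
      DiscreteTopology ↥X,
      Finite ↥X].TFAE := by
  haveI := Groth.Agent.DimZeroFT.jacobsonSpace f
  haveI := Groth.Agent.DimZeroFT.isNoetherian f
  tfae_have 1 → 3 := fun h => Groth.Agent.DimZeroFT.discrete_of_dim_le_zero f h.le
  tfae_have 3 → 1 := fun h => le_antisymm (topologicalKrullDim_zero_of_discreteTopology X)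
    (Order.krullDim_nonneg_iff.mpr ⟨⟨closure {Classical.arbitrary X}, isIrreducible_singleton.closure, isClosed_closure⟩⟩)
  tfae_have 3 → 4 := fun h => finite_of_compact_of_discrete
  tfae_have 4 → 3 := fun h => inferInstance
  tfae_have 3 → 2 := fun h =>
    ⟨(Groth.Agent.DimZeroFT.isAffine_and_finite f).1, (Groth.Agent.DimZeroFT.isAffine_and_finite f).2,
      Groth.Agent.DimZeroFT.bijective_germ⟩
  tfae_have 2 → 3 := fun ⟨hA, hfin, _⟩ => Groth.Agent.DimZeroFT.discrete_of_finite f hfin
  tfae_finish

end Groth.Agent.S10832
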