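import Groth.Statements.S10833
import Groth.Agent.DimFormula.Field

set_option autoImplicit false
universe u
open Variety

namespace Groth.Agent.S10833

/-- Let k be a field and A a k-algebra of finite type that is an integral domain. Then every chain of
prime ideals of A admitting no refinement — it starts at the zero ideal, ends at a maximal ideal,
and no prime ideal lies strictly between two consecutive members — has length equal to the Krull
dimension of A. -/
theorem result (k A : Type u) [Field k] [CommRing A]
    [IsDomain A] [Algebra k A] [Algebra.FiniteType k A] (c : LTSeries (PrimeSpectrum A))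
    (h0 : c.head.asIdeal = ⊥) (hmax : c.last.asIdeal.IsMaximal)
    (hsat : ∀ i : Fin c.length, c i.castSucc ⋖ c i.succ) :
    (c.length : WithBot ℕ∞) = ringKrullDim A := by
  have : IsNoetherianRing A := Algebra.FiniteType.isNoetherianRing k A
  have step : ∀ a b : PrimeSpectrum A, a ⋖ b →
      ringKrullDim (A ⧸ a.asIdeal) = ringKrullDim (A ⧸ b.asIdeal) + 1 := by
    intro a b hab
    let π := Ideal.Quotient.mk a.asIdeal
    have hπ : Function.Surjective π := Ideal.Quotient.mk_surjective
    have hle : RingHom.ker π ≤ b.asIdeal := by rw [Ideal.mk_ker]; exact hab.le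
    have hp : (b.asIdeal.map π).IsPrime := Ideal.map_isPrime_of_surjective hπ hle
    have hcm : (b.asIdeal.map π).comap π = b.asIdeal := by
      rw [Ideal.comap_map_of_surjective' π hπ, sup_eq_left]
      exact hle
    let p : PrimeSpectrum (A ⧸ a.asIdeal) := ⟨b.asIdeal.map π, hp⟩
    have hpne : (⊥ : PrimeSpectrum (A ⧸ a.asIdeal)) < p := by
      refine lt_of_le_of_ne bot_le fun h => hab.ne (PrimeSpectrum.ext ?_)
      rw [← hcm]
      have h2 : b.asIdeal.map π = ⊥ := (congrArg PrimeSpectrum.asIdeal h).symm
      rw [h2, ← RingHom.ker_eq_comap_bot, Ideal.mk_ker]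
    have hh : Order.height p = 1 := by
      refine le_antisymm (Order.height_le_coe_iff.mpr fun q hq => ?_)
        (Order.one_le_iff_pos.mpr (Order.height_pos.mpr (not_isMin_of_lt hpne)))
      have hq0 : q = ⊥ := by
        by_contra hne
        let q' : PrimeSpectrum A := ⟨q.asIdeal.comap π, inferInstance⟩
        have h1 : a < q' := by
          refine lt_of_le_of_ne ?_ fun h => hne (PrimeSpectrum.ext ?_)
          · show a.asIdeal ≤ q.asIdeal.comap π
            intro x hx
            rw [Ideal.mem_comap, show π x = 0 from Ideal.Quotient.eq_zero_iff_mem.mpr hx]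
            exact zero_mem _
          · have h2 : a.asIdeal = q.asIdeal.comap π := congrArg PrimeSpectrum.asIdeal h
            apply Ideal.comap_injective_of_surjective π hπ
            rw [← h2]
            show a.asIdeal = Ideal.comap π ⊥
            rw [← RingHom.ker_eq_comap_bot, Ideal.mk_ker]
        have h2 : q' < b := by
          show q.asIdeal.comap π < b.asIdeal
          rw [← hcm]
          exact (Ideal.orderEmbeddingOfSurjective π hπ).lt_iff_lt.mpr hq
        exact hab.2 h1 h2
      rw [hq0, Order.height_bot]
      exact_mod_cast Nat.zero_lt_one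
    have e := Groth.Agent.DimFormula.height_add_ringKrullDim_quotient k p
    rw [p.height_eq_orderHeight, hh] at e
    have e2 : ringKrullDim ((A ⧸ a.asIdeal) ⧸ p.asIdeal) = ringKrullDim (A ⧸ b.asIdeal) :=
      ringKrullDim_eq_of_ringEquiv (DoubleQuot.quotQuotEquivQuotOfLE hab.le)
    rw [e2] at e
    rw [← e, add_comm]
    rfl
  have hlast : ringKrullDim (A ⧸ c.last.asIdeal) = 0 := by
    letI := Ideal.Quotient.field c.last.asIdeal
    exact ringKrullDim_eq_zero_of_field _
  have key : ∀ i : Fin (c.length + 1),
      ringKrullDim (A ⧸ (c i).asIdeal) = ((c.length - i.1 : ℕ) : WithBot ℕ∞) := by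
    intro i
    induction i using Fin.reverseInduction with
    | last => rw [Fin.val_last, Nat.sub_self, Nat.cast_zero]; exact hlast
    | cast i ih =>
      rw [step _ _ (hsat i), ih]
      have : c.length - (i.castSucc : Fin _).1 = (c.length - (i.succ : Fin _).1) + 1 := by
        simp only [Fin.val_castSucc, Fin.val_succ]; omega
      rw [this, Nat.cast_add, Nat.cast_one]
  have h := key 0
  rw [Fin.val_zero, Nat.sub_zero] at h
  rw [← h]
  exact ringKrullDim_eq_of_ringEquiv ((Ideal.quotEquivOfEq (show (c 0).asIdeal = ⊥ from h0)).trans (RingEquiv.quotientBot A))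

end Groth.Agent.S10833
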