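import Groth.Statements.S10834
import Groth.Agent.S0601
import Groth.Agent.S0342
import Groth.Agent.S0343
import Groth.Agent.Goren.LCI
import Groth.Agent.InvFin.Depth
import Groth.Agent.SerreReg.Regular

set_option autoImplicit false
universe u
open CAlg

namespace Groth.Agent.S10834

/-- Let A be a Noetherian ring whose localizations at all prime ideals are regular local rings, and f an
element of A generating a prime ideal, so that A/(f) is an integral domain (an integral hypersurface
in the regular affine scheme Spec A). Then A/(f) is normal (integrally closed in its fraction field)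
if and only if it is regular in codimension 1, i.e. its localization at every prime at which the
local ring has dimension 1 is a regular local ring. -/
theorem result (A : Type u) [CommRing A]
    [IsNoetherianRing A] (hreg : ∀ (p : Ideal A) (_ : p.IsPrime), IsRegularLocalRing (Localization.AtPrime p))
    (f : A) (hf : (Ideal.span ({f} : Set A)).IsPrime) :
    IsIntegrallyClosed (A ⧸ Ideal.span ({f} : Set A)) ↔
      ∀ q : PrimeSpectrum (A ⧸ Ideal.span ({f} : Set A)),
        ringKrullDim (Localization.AtPrime q.asIdeal) = 1 →
          IsRegularLocalRing (Localization.AtPrime q.asIdeal) := by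
  classical
  let B := A ⧸ Ideal.span ({f} : Set A)
  haveI : (Ideal.span ({f} : Set A)).IsPrime := hf
  haveI : IsDomain B := Ideal.Quotient.isDomain _
  have hloc : ∀ (q : Ideal B) [q.IsPrime], LocCoh.IsCohenMacaulayLocalRing (Localization.AtPrime q) := by
    intro q _
    obtain ⟨e⟩ := Groth.Agent.Goren.quot_localization A (Ideal.span {f}) q
    let Q := q.comap (Ideal.Quotient.mk (Ideal.span ({f} : Set A)))
    let L := Localization.AtPrime Q
    haveI : IsRegularLocalRing L := hreg Q inferInstance
    haveI := Groth.Agent.RegLoc.isDomain L
    haveI : LocCoh.IsGorensteinLocalRing L := Groth.Agent.S0342.result L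
    have hmap : (Ideal.span ({f} : Set A)).map (algebraMap A L) = Ideal.span {algebraMap A L f} := by
      rw [Ideal.map_span, Set.image_singleton]
    let e' := (Ideal.quotEquivOfEq hmap).symm.trans e
    refine Groth.Agent.CMChart.isCohenMacaulayLocalRing_of_ringEquiv e' ?_
    by_cases h0 : algebraMap A L f = 0
    · exact Groth.Agent.CMChart.isCohenMacaulayLocalRing_of_ringEquiv
        ((RingEquiv.quotientBot L).symm.trans (Ideal.quotEquivOfEq (by rw [h0, Ideal.span_singleton_eq_bot.2 rfl])))
        (Groth.Agent.Goren.isCohenMacaulay L)
    · have hmem : algebraMap A L f ∈ IsLocalRing.maximalIdeal L := by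
        rw [IsLocalization.AtPrime.to_map_mem_maximal_iff L Q]
        show Ideal.Quotient.mk _ f ∈ q
        rw [show Ideal.Quotient.mk (Ideal.span ({f} : Set A)) f = 0 from Ideal.Quotient.eq_zero_iff_mem.2 (Ideal.subset_span rfl)]
        exact zero_mem q
      haveI : IsLocalRing (L ⧸ Ideal.span {algebraMap A L f}) := Groth.Agent.SerreReg.isLocalRing_quot hmem
      haveI := (Groth.Agent.S0343.result L _ hmem (IsRegular.of_ne_zero h0).left).1 inferInstance
      exact Groth.Agent.Goren.isCohenMacaulay _
  have hS2 : LocCoh.HasSk 2 B B := fun q _ => by
    rw [Groth.Agent.InvFin.supportDim_self, ← Groth.Agent.InvFin.depth_self]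
    haveI := hloc q
    rw [← LocCoh.IsCohenMacaulayLocalRing.supportDim_eq_depth, Module.supportDim_self_eq_ringKrullDim,
      IsLocalization.AtPrime.ringKrullDim_eq_height q]
    exact min_le_right _ _
  constructor
  · intro hI q hq
    haveI := hI
    have hall : ∀ (p : Ideal B) [p.IsPrime], IsDomain (Localization.AtPrime p) ∧ IsIntegrallyClosed (Localization.AtPrime p) :=
      fun p _ => ⟨IsLocalization.isDomain_localization (Ideal.primeCompl_le_nonZeroDivisors p),
        isIntegrallyClosed_of_isLocalization _ p.primeCompl (Ideal.primeCompl_le_nonZeroDivisors p)⟩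
    refine ((Groth.Agent.S0601.result B).1 hall).1 q.asIdeal ?_
    rw [IsLocalization.AtPrime.ringKrullDim_eq_height q.asIdeal] at hq
    have : q.asIdeal.height = 1 := by exact_mod_cast hq
    rw [this]; exact_mod_cast le_rfl
  · intro h
    have hR1 : LocCoh.HasRk 1 B := by
      intro q _ hq
      by_cases hq0 : q = ⊥
      · subst hq0
        haveI : IsField (Localization.AtPrime (⊥ : Ideal B)) → IsRegularLocalRing (Localization.AtPrime (⊥ : Ideal B)) :=
          fun hF => by
            letI := hF.toField
            infer_instance
        refine this ?_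
        haveI : IsFractionRing B (Localization.AtPrime (⊥ : Ideal B)) := by
          have h : (⊥ : Ideal B).primeCompl = nonZeroDivisors B := by
            ext x; simp [Ideal.primeCompl]
          show IsLocalization (nonZeroDivisors B) _
          rw [← h]; infer_instance
        exact (IsFractionRing.toField B).toIsField
      · refine h ⟨q, inferInstance⟩ ?_
        rw [IsLocalization.AtPrime.ringKrullDim_eq_height q]
        have h1 : q.height = 1 := le_antisymm (by exact_mod_cast hq)
          (Order.one_le_iff_pos.2 (pos_iff_ne_zero.2 fun h0 => hq0 ((Ideal.height_eq_zero_iff_eq_bot).1 h0)))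
        exact_mod_cast h1
    have hall := (Groth.Agent.S0601.result B).2 ⟨hR1, hS2⟩
    exact IsIntegrallyClosed.of_localization_maximal fun p _ => (hall p).2

end Groth.Agent.S10834
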