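import Groth.Statements.S10835
import Groth.Agent.HypBirat.Field
import Groth.Agent.Birat.Basic
import Groth.Agent.GeomProp.BCStalk
import Groth.Agent.CMFlat.BaseField

set_option autoImplicit false
universe u
open CategoryTheory AlgebraicGeometry
attribute [local instance] Curv2.stalkAlgebra
open Variety

namespace Groth.Agent.S10835

/-- A ring isomorphism out of the fraction field, read on a stalk of the spectrum. -/
theorem exists_stalk_equiv (R : CommRingCat.{u}) [IsDomain R] {L : CommRingCat.{u}}
    (e : FractionRing R ≃+* L) :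
    ∃ (η : Spec R) (φ : (Spec R).presheaf.stalk η ⟶ L), IsIso φ ∧
      ∀ c : R, φ.hom (StructureSheaf.toStalk R η c) = e (algebraMap R (FractionRing R) c) := by
  let i := (IsLocalization.algEquiv (nonZeroDivisors R) (Spec R).functionField (FractionRing R))
  refine ⟨genericPoint (Spec R), (i.toRingEquiv.trans e).toCommRingCatIso.hom, inferInstance, fun c => ?_⟩
  exact congrArg e (i.commutes c)

/-- Let k be a field and X an integral scheme of finite type over k whose function field admits a
transcendence basis s_1, …, s_d over k over which it is separable algebraic (this holds whenever the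
function field is a separable extension of k in the sense of field theory, e.g. for k perfect, and
then d = dim X). Then some nonempty open subscheme of X is isomorphic, over k, to a nonempty open
subscheme of Spec k[T_1, …, T_d][T]/(g) for a monic polynomial g over k[T_1, …, T_d] which is
irreducible and separable over the fraction field k(T_1, …, T_d). -/
theorem result (k : Type u) [Field k]
    (X : Scheme.{u}) [X.Over (Spec (CommRingCat.of k))] [IsIntegral X]
    [LocallyOfFiniteType (X ↘ Spec (CommRingCat.of k))] [QuasiCompact (X ↘ Spec (CommRingCat.of k))]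
    (d : ℕ) (s : Fin d → X.presheaf.stalk (genericPoint X)) (hs : IsTranscendenceBasis k s)
    (hsep : Algebra.IsSeparable ↥(IntermediateField.adjoin k (Set.range s)) (X.presheaf.stalk (genericPoint X))) :
    ∃ (g : Polynomial (MvPolynomial (Fin d) k)), g.Monic ∧
      Irreducible (g.map (algebraMap (MvPolynomial (Fin d) k) (FractionRing (MvPolynomial (Fin d) k)))) ∧
      (g.map (algebraMap (MvPolynomial (Fin d) k) (FractionRing (MvPolynomial (Fin d) k)))).Separable ∧
      ∃ (U : X.Opens) (V : (Spec (CommRingCat.of (AdjoinRoot g))).Opens) (e : (U : Scheme.{u}) ≅ (V : Scheme.{u})),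
        (U : Set X).Nonempty ∧ (V : Set (Spec (CommRingCat.of (AdjoinRoot g)))).Nonempty ∧
        e.hom ≫ V.ι ≫ Spec.map (CommRingCat.ofHom (algebraMap k (AdjoinRoot g))) =
          U.ι ≫ (X ↘ Spec (CommRingCat.of k)) := by
  let p := X ↘ Spec (CommRingCat.of k)
  haveI : LocallyOfFinitePresentation p := inferInstance
  haveI : Algebra.EssFiniteType k (X.presheaf.stalk (genericPoint X)) := by
    let η := genericPoint X
    let ρ := X.residue η
    have hρ : Function.Bijective ρ.hom := ⟨ρ.hom.injective, X.residue_surjective η⟩
    haveI : IsIso ρ := (ConcreteCategory.isIso_iff_bijective ρ).2 hρ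
    have e : Groth.Agent.CMFlat.resHom k X η =
        CommRingCat.ofHom (algebraMap k (X.presheaf.stalk η)) ≫ ρ := Spec.map_injective (by
      rw [Groth.Agent.CMFlat.resHom, Spec.map_preimage, Spec.map_comp,
        ← Groth.Agent.GeomProp.fromSpecStalk_over k X]
      rfl)
    have h := Groth.Agent.CMFlat.essFiniteType_resHom k X η
    rw [e] at h
    exact (RingHom.EssFiniteType.respectsIso.cancel_right_isIso _ ρ).mp h
  obtain ⟨g, hg, hirr, hsep', hdom, e, he⟩ := Groth.Agent.HypBirat.exists_hypersurface s hs hsep
  haveI := hdom
  let B := AdjoinRoot g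
  haveI : Module.Finite (MvPolynomial (Fin d) k) B := hg.finite_adjoinRoot
  haveI : Algebra.FiniteType k B := Algebra.FiniteType.trans (S := MvPolynomial (Fin d) k) inferInstance inferInstance
  let q : Spec (CommRingCat.of B) ⟶ Spec (CommRingCat.of k) := Spec.map (CommRingCat.ofHom (algebraMap k B))
  haveI : LocallyOfFiniteType q :=
    (HasRingHomProperty.Spec_iff (P := @LocallyOfFiniteType)).2 (RingHom.finiteType_algebraMap.2 inferInstance)
  haveI : LocallyOfFinitePresentation q := inferInstance
  haveI : IsDomain ↥(CommRingCat.of B) := hdom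
  obtain ⟨η, φ, _, hψ⟩ := exists_stalk_equiv (CommRingCat.of B) e
  have hh : Spec.map φ ≫ (Spec (CommRingCat.of B)).fromSpecStalk η ≫ q =
      X.fromSpecStalk (genericPoint X) ≫ p := by
    rw [Groth.Agent.GeomProp.fromSpecStalk_over k X, Spec.fromSpecStalk_eq, ← Spec.map_comp,
      ← Spec.map_comp]
    congr 1
    exact CommRingCat.hom_ext (RingHom.ext fun c => (hψ _).trans (he c))
  obtain ⟨U, hxU, V, hyV, f, hf, -, -, hfk, -⟩ := Groth.Agent.Birat.exists_isIso_lfp p q φ hh
    ⊤ trivial ⊤ trivial
  exact ⟨g, hg, hirr, hsep', U, V, asIso f, ⟨_, hxU⟩, ⟨_, hyV⟩, hfk⟩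

end Groth.Agent.S10835
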