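import Groth.Statements.S10836
import Groth.Agent.LocFree.SemiLocal

set_option autoImplicit false
set_option linter.style.haveILetI false

universe u
open Coh

namespace Groth.Agent.S10836

/-- Let A be a commutative ring, M a finitely generated projective A-module whose rank at every prime is
r, and Z a finite set of prime ideals of A. Then there is an element s of A outside every prime of Z
such that the localized module M_s has a basis of r elements over A_s. (The published statement is
for a finite locally free module of constant rank r on a scheme and a finite set of points inside an
affine open Spec A, and produces a basic open D(s) containing the points on which the module is free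
of rank r; its argument begins by replacing the scheme with Spec A, and this row states that case.) -/
theorem result (A : Type u) [CommRing A]
    (M : Type u) [AddCommGroup M] [Module A M] [Module.Finite A M] [Module.Projective A M] (r : ℕ)
    (hr : ∀ p : PrimeSpectrum A, Module.rankAtStalk M p = r)
    (Z : Set (PrimeSpectrum A)) (hZ : Z.Finite) :
    ∃ s : A, (∀ p ∈ Z, s ∉ p.asIdeal) ∧
      Nonempty (Module.Basis (Fin r) (Localization.Away s) (LocalizedModule (Submonoid.powers s) M)) := by
  classical
  rcases subsingleton_or_nontrivial A with hA | hA
  · refine ⟨0, fun p _ => absurd (Ideal.eq_top_iff_one _ |>.2 (Subsingleton.elim (0 : A) 1 ▸ p.asIdeal.zero_mem)) p.isPrime.ne_top, ?_⟩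
    haveI : Subsingleton (Localization.Away (0 : A)) := Module.subsingleton A _
    haveI : Subsingleton (LocalizedModule (Submonoid.powers (0 : A)) M) := Module.subsingleton A _
    exact ⟨Module.Basis.ofEquivFun
      { toFun := 0, map_add' := by simp, map_smul' := by simp, invFun := 0
        left_inv := fun _ => Subsingleton.elim _ _, right_inv := fun _ => Subsingleton.elim _ _ }⟩
  · obtain ⟨p₀⟩ := (inferInstance : Nonempty (PrimeSpectrum A))
    haveI := hZ.to_subtype
    haveI : Module.FinitePresentation A M := Module.finitePresentation_of_projective A M
    obtain ⟨f, hf, hfree⟩ := Groth.Agent.LocFree.exists_free_away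
      (fun i : Option Z => i.elim p₀ fun p => p.1) r (fun _ => hr _)
    refine ⟨f, fun p hp => hf (some ⟨p, hp⟩), ?_⟩
    haveI : Nontrivial (Localization.Away f) := by
      refine nontrivial_of_ne (0 : Localization.Away f) 1 fun h => hf none ?_
      rw [← map_zero (algebraMap A (Localization.Away f)), ← map_one (algebraMap A (Localization.Away f))] at h
      obtain ⟨⟨c, k, rfl⟩, hc⟩ := (IsLocalization.eq_iff_exists (Submonoid.powers f) _).1 h
      refine p₀.isPrime.mem_of_pow_mem k ?_
      simp only [mul_zero, mul_one] at hc
      exact (show f ^ k = 0 from hc.symm) ▸ zero_mem _
    haveI : Module.Free (Localization.Away f) (LocalizedModule (Submonoid.powers f) M) := hfree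
    let g := LocalizedModule.mkLinearMap (Submonoid.powers f) M
    haveI : Module.Finite (Localization.Away f) (LocalizedModule (Submonoid.powers f) M) :=
      Module.Finite.of_isLocalizedModule (Submonoid.powers f) g
    obtain ⟨P⟩ := (inferInstance : Nonempty (PrimeSpectrum (Localization.Away f)))
    have h1 := Module.rankAtStalk_isBaseChange
      (IsLocalizedModule.isBaseChange (Submonoid.powers f) (Localization.Away f) g) P
    rw [Module.rankAtStalk_eq_finrank_of_free, hr] at h1
    exact ⟨Module.finBasisOfFinrankEq _ _ h1⟩

end Groth.Agent.S10836
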