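import Groth.Statements.S10837
import Mathlib

set_option autoImplicit false
universe u
open CategoryTheory AlgebraicGeometry Topology
open Mor

namespace Groth.Agent.S10837

/-- For a morphism of schemes f : X → Y which is open as a map of topological spaces, generalizations
lift along f: every generalization of f(x) is the image of a generalization of x. -/
theorem result {X Y : Scheme.{u}} (f : X ⟶ Y) (hf : IsOpenMap f.base) :
    GeneralizingMap f.base := by
  intro x y hxy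
  obtain ⟨V, hV, hxV, -⟩ := exists_isAffineOpen_mem_and_subset (show f x ∈ (⊤ : Y.Opens) from trivial)
  obtain ⟨U, hU, hxU, hUV⟩ := exists_isAffineOpen_mem_and_subset (show x ∈ f ⁻¹ᵁ V from hxV)
  have hyV : y ∈ V := hxy.mem_open V.2 hxV
  let A := Γ(Y, V)
  let B := Γ(X, U)
  let φ := f.appLE V U hUV
  let q := hV.primeIdealOf ⟨y, hyV⟩
  let P := hU.primeIdealOf ⟨x, hxU⟩
  have hcomp : ∀ Q : PrimeSpectrum B, f (hU.fromSpec Q) = hV.fromSpec (PrimeSpectrum.comap φ.hom Q) :=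
    fun Q => (congr($(hV.SpecMap_appLE_fromSpec f hU hUV).base Q)).symm
  have hex : ∀ b : B, b ∉ P.asIdeal → ∃ Q : PrimeSpectrum B, PrimeSpectrum.comap φ.hom Q = q ∧ b ∉ Q.asIdeal := by
    intro b hb
    have hxb : x ∈ (hU.fromSpec '' (PrimeSpectrum.basicOpen b : Set (PrimeSpectrum B))) :=
      ⟨P, hb, hU.fromSpec_primeIdealOf ⟨x, hxU⟩⟩
    have hopen : IsOpen (f '' (hU.fromSpec '' (PrimeSpectrum.basicOpen b : Set (PrimeSpectrum B)))) :=
      hf _ (hU.fromSpec.isOpenEmbedding.isOpenMap _ (PrimeSpectrum.basicOpen b).2)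
    obtain ⟨_, ⟨Q, hQ, rfl⟩, hQy⟩ := hxy.mem_open hopen ⟨x, hxb, rfl⟩
    refine ⟨Q, hV.fromSpec.isOpenEmbedding.injective ?_, hQ⟩
    exact ((hcomp Q).symm.trans hQy).trans (hV.fromSpec_primeIdealOf ⟨y, hyV⟩).symm
  letI := φ.hom.toAlgebra
  let M : Submonoid B := P.asIdeal.primeCompl ⊔ q.asIdeal.primeCompl.map φ.hom
  have hdisj : Disjoint ((q.asIdeal.map φ.hom : Ideal B) : Set B) M := by
    rw [Set.disjoint_left]
    intro z hz hzM
    obtain ⟨b, hb, c, hc, rfl⟩ := Submonoid.mem_sup.1 hzM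
    obtain ⟨a, ha, rfl⟩ := Submonoid.mem_map.1 hc
    obtain ⟨Q, hQ, hbQ⟩ := hex b hb
    have hle : q.asIdeal.map φ.hom ≤ Q.asIdeal := by
      rw [Ideal.map_le_iff_le_comap, ← hQ]
      exact le_rfl
    rcases Q.2.mem_or_mem (hle hz) with h | h
    · exact hbQ h
    · exact ha (by rw [← hQ]; exact h)
  obtain ⟨Q, hQp, hle, hQM⟩ := Ideal.exists_le_prime_disjoint _ M hdisj
  have hQP : Q ≤ P.asIdeal := fun z hz => by_contra fun hzP =>
    Set.disjoint_left.1 hQM hz (Submonoid.mem_sup_left (show z ∈ P.asIdeal.primeCompl from hzP))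
  have hQq : PrimeSpectrum.comap φ.hom ⟨Q, hQp⟩ = q := by
    refine PrimeSpectrum.ext (le_antisymm (fun a ha => by_contra fun haq => ?_) (Ideal.map_le_iff_le_comap.1 hle))
    exact Set.disjoint_left.1 hQM ha (Submonoid.mem_sup_right (Submonoid.mem_map_of_mem φ.hom haq))
  refine ⟨hU.fromSpec ⟨Q, hQp⟩, ?_, ?_⟩
  · have h := ((PrimeSpectrum.le_iff_specializes (⟨Q, hQp⟩ : PrimeSpectrum B) P).1 hQP).map hU.fromSpec.continuous
    rwa [hU.fromSpec_primeIdealOf ⟨x, hxU⟩] at h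
  · rw [hcomp, hQq, hV.fromSpec_primeIdealOf]

end Groth.Agent.S10837
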