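import Groth.Statements.S10838
import Groth.Agent.DimChain.Basic
import Groth.Agent.S10837

set_option autoImplicit false
universe u
open CategoryTheory AlgebraicGeometry Topology
open Mor

namespace Groth.Agent.S10838

/-- For a morphism of schemes f : X → Y which is open as a map of topological spaces, the Krull
dimension of the image f(X) (with the subspace topology from Y) is at most the Krull dimension of X. -/
theorem result {X Y : Scheme.{u}} (f : X ⟶ Y) (hf : IsOpenMap f.base) :
    topologicalKrullDim ↥(Set.range f.base) ≤ topologicalKrullDim ↥X := by
  set_option backward.isDefEq.respectTransparency false in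
  let R : Y.Opens := ⟨Set.range f.base, hf.isOpen_range⟩
  have hr : IsOpenMap (Set.rangeFactorization f.base) := by
    intro O hO
    rw [show Set.rangeFactorization f.base '' O = Subtype.val ⁻¹' (f.base '' O) by
      ext ⟨y, hy⟩; simp [Set.rangeFactorization, Subtype.ext_iff]]
    exact (hf O hO).preimage continuous_subtype_val
  haveI : QuasiSober ↥(Set.range f.base) := hf.isOpen_range.isOpenEmbedding_subtypeVal.quasiSober
  refine Groth.Agent.DimChain.le_of_generalizingMap (Set.rangeFactorization f.base) ?_
    Set.rangeFactorization_surjective
  intro x y h
  obtain ⟨x', hx', he⟩ := Groth.Agent.S10837.result f hf (show (y : Y) ⤳ f.base x from h.map continuous_subtype_val)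
  exact ⟨x', hx', Subtype.ext he⟩

end Groth.Agent.S10838
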