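import Groth.Statements.S10839
import Mathlib
open Topology

set_option autoImplicit false
universe u
open CategoryTheory AlgebraicGeometry Topology
open Variety

namespace Groth.Agent.S10839

/-- A closed immersion i : Y → X into an integral scheme X with dim X = dim Y < ∞ is an isomorphism. -/
theorem result {X Y : Scheme.{u}} (i : Y ⟶ X)
    [IsClosedImmersion i] [IsIntegral X] (hfin : topologicalKrullDim ↥X ≠ ⊤)
    (hdim : topologicalKrullDim ↥X = topologicalKrullDim ↥Y) : IsIso i := by
  haveI : Surjective i := by
    refine ⟨fun x => ?_⟩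
    by_contra hx
    have hne : ∀ W : TopologicalSpace.IrreducibleCloseds ↥Y,
        TopologicalSpace.IrreducibleCloseds.map i i.continuous W <
          ⟨Set.univ, IrreducibleSpace.isIrreducible_univ _, isClosed_univ⟩ := by
      intro W
      refine lt_of_le_of_ne (fun z _ => trivial) fun h => hx ?_
      have h1 : x ∈ (TopologicalSpace.IrreducibleCloseds.map i i.continuous W : Set ↥X) := by
        rw [h]; trivial
      have h2 : closure (i '' (W : Set ↥Y)) ⊆ Set.range i :=
        closure_minimal (Set.image_subset_range _ _) i.isClosedEmbedding.isClosed_range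
      exact h2 h1
    obtain ⟨a, ha⟩ : ∃ a : WithBot ℕ∞, a = topologicalKrullDim ↥X := ⟨_, rfl⟩
    have hbot : topologicalKrullDim ↥X ≠ ⊥ := by
      haveI : Nonempty (TopologicalSpace.IrreducibleCloseds ↥X) :=
        ⟨⟨Set.univ, IrreducibleSpace.isIrreducible_univ _, isClosed_univ⟩⟩
      exact ne_bot_of_le_ne_bot (by simp) (Order.krullDim_nonneg (α := TopologicalSpace.IrreducibleCloseds ↥X))
    obtain ⟨n, hn⟩ : ∃ n : ℕ, topologicalKrullDim ↥X = n := by
      cases h : topologicalKrullDim ↥X with
      | bot => exact absurd h hbot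
      | coe m =>
        cases m with
        | top => exact absurd h hfin
        | coe k => exact ⟨k, rfl⟩
    obtain ⟨l, hl⟩ := Order.le_krullDim_iff.mp (hn.symm.trans hdim).le
    let l' : LTSeries (TopologicalSpace.IrreducibleCloseds ↥X) :=
      (l.map (TopologicalSpace.IrreducibleCloseds.map i i.continuous)
        (TopologicalSpace.IrreducibleCloseds.map_strictMono_of_isInducing i.isClosedEmbedding.isInducing)).snoc
        ⟨Set.univ, IrreducibleSpace.isIrreducible_univ _, isClosed_univ⟩ (hne _)
    have h3 : ((n + 1 : ℕ) : WithBot ℕ∞) ≤ topologicalKrullDim ↥X :=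
      Order.le_krullDim_iff.mpr ⟨l', by simp [l', hl]⟩
    rw [hn] at h3
    have h4 : n + 1 ≤ n := by exact_mod_cast h3
    omega
  exact isIso_of_isClosedImmersion_of_surjective i

end Groth.Agent.S10839
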