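import Groth.Statements.S10841
import Groth.Agent.WeilLib.Trdeg
import Groth.Agent.BMCoh.Height

set_option autoImplicit false
universe u
open CategoryTheory AlgebraicGeometry Topology
open Variety

set_option backward.isDefEq.respectTransparency false
namespace Groth.Agent.S10841

/-- Let k be a field, X an irreducible scheme of finite type over k, and f : Y → X a morphism over k
from a scheme Y of finite type over k whose image contains the generic point of X. Then dim Y ≥ dim
X. -/
theorem result (k : Type u) [Field k] {X Y : Scheme.{u}}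
    (p : X ⟶ Spec (CommRingCat.of k)) (q : Y ⟶ Spec (CommRingCat.of k))
    [LocallyOfFiniteType p] [QuasiCompact p] [LocallyOfFiniteType q] [QuasiCompact q]
    [IrreducibleSpace ↥X] (f : Y ⟶ X) (hf : f ≫ p = q)
    (hη : genericPoint ↥X ∈ Set.range f.base) :
    topologicalKrullDim ↥X ≤ topologicalKrullDim ↥Y := by
  letI := specializationOrder X
  obtain ⟨y, hy⟩ := hη
  haveI : LocallyOfFiniteType p := inferInstance
  letI := (Groth.Agent.WeilLib.kStr p (f.base y)).toAlgebra
  letI := (Groth.Agent.WeilLib.kStr q y).toAlgebra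
  let r : X.residueField (f.base y) →ₐ[k] Y.residueField y :=
    { (f.residueFieldMap y).hom with
      commutes' := fun c => RingHom.congr_fun (Groth.Agent.WeilLib.kStr_comp q f p hf y) c }
  have h1 : Groth.Agent.WeilLib.trd p (f.base y) ≤ Groth.Agent.WeilLib.trd q y :=
    trdeg_le_of_injective r (f.residueFieldMap y).hom.injective
  rw [(Groth.Agent.WeilLib.exists_pdim_eq_trd p _).1, (Groth.Agent.WeilLib.exists_pdim_eq_trd q y).1,
    Nat.cast_le] at h1
  have hX : topologicalKrullDim ↥X = ((WeilCoh.pdim X (f.base y) : ℕ∞) : WithBot ℕ∞) := by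
    rw [← (Groth.Agent.WeilLib.exists_pdim_eq_trd p _).2, ← Groth.Agent.BMCoh.topologicalKrullDim_closure_singleton,
      hy, genericPoint_closure]
    exact (IsHomeomorph.topologicalKrullDim_eq _ (Homeomorph.Set.univ ↥X).isHomeomorph).symm
  letI := specializationOrder Y
  have hY : ((WeilCoh.pdim Y y : ℕ∞) : WithBot ℕ∞) ≤ topologicalKrullDim ↥Y := by
    rw [← (Groth.Agent.WeilLib.exists_pdim_eq_trd q y).2, ← Groth.Agent.BMCoh.topologicalKrullDim_closure_singleton]
    exact topologicalKrullDim_subspace_le _ _
  rw [hX]
  refine le_trans ?_ hY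
  exact_mod_cast h1

end Groth.Agent.S10841
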