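import Groth.Statements.S10842
import Groth.Agent.WeakAssLib.Basic

set_option autoImplicit false
universe u
open CategoryTheory AlgebraicGeometry
open Variety

set_option backward.isDefEq.respectTransparency false
namespace Groth.Agent.S10842

/-- A quasi-compact scheme whose local rings at all closed points are integrally closed domains is
normal, i.e. all of its local rings are integrally closed domains. -/
theorem result (X : Scheme.{u}) [CompactSpace ↥X]
    (h : ∀ x : X, IsClosed ({x} : Set X) →
      IsDomain (X.presheaf.stalk x) ∧ IsIntegrallyClosed (X.presheaf.stalk x)) :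
    Pi1.IsNormalScheme X := by
  intro x
  obtain ⟨x0, hx0, hcl⟩ := (isClosed_closure (s := ({x} : Set X))).exists_closed_singleton
    ⟨x, subset_closure rfl⟩
  have hspec : x ⤳ x0 := specializes_iff_mem_closure.2 hx0
  obtain ⟨U, hU, hx0U, -⟩ :=
    exists_isAffineOpen_mem_and_subset (show x0 ∈ (⊤ : X.Opens) from trivial)
  have hxU : x ∈ U := hspec.mem_open U.2 hx0U
  set p := (hU.primeIdealOf ⟨x0, hx0U⟩).asIdeal
  set q := (hU.primeIdealOf ⟨x, hxU⟩).asIdeal
  letI := (X.presheaf.germ U x0 hx0U).hom.toAlgebra
  letI := (X.presheaf.germ U x hxU).hom.toAlgebra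
  letI := (X.presheaf.stalkSpecializes hspec).hom.toAlgebra
  haveI : IsLocalization.AtPrime (X.presheaf.stalk x0) p := hU.isLocalization_stalk ⟨x0, hx0U⟩
  haveI : IsLocalization.AtPrime (X.presheaf.stalk x) q := hU.isLocalization_stalk ⟨x, hxU⟩
  haveI : IsScalarTower Γ(X, U) (X.presheaf.stalk x0) (X.presheaf.stalk x) :=
    IsScalarTower.of_algebraMap_eq' (congrArg CommRingCat.Hom.hom
      (X.presheaf.germ_stalkSpecializes hx0U hspec).symm)
  obtain ⟨hd, hic⟩ := h x0 hcl
  have hle : p.primeCompl ≤ q.primeCompl := fun a ha haq => by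
    have h1 := (Groth.Agent.WeakAssLib.mem_primeIdealOf hU hx0U a).2 ha
    exact (Groth.Agent.WeakAssLib.mem_primeIdealOf hU hxU a).1
      (hspec.mem_open (X.basicOpen a).2 h1) haq
  haveI hloc := IsLocalization.isLocalization_of_submonoid_le (X.presheaf.stalk x0)
    (X.presheaf.stalk x) p.primeCompl q.primeCompl hle
  have hnz : q.primeCompl.map (algebraMap Γ(X, U) (X.presheaf.stalk x0)) ≤
      nonZeroDivisors (X.presheaf.stalk x0) := le_nonZeroDivisors_of_noZeroDivisors fun h0 => by
    have h1 := IsLocalization.map_units (X.presheaf.stalk x)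
      (⟨0, h0⟩ : q.primeCompl.map (algebraMap Γ(X, U) (X.presheaf.stalk x0)))
    rw [map_zero] at h1
    exact not_isUnit_zero h1
  haveI hdom : IsDomain (X.presheaf.stalk x) :=
    IsLocalization.isDomain_of_le_nonZeroDivisors (X.presheaf.stalk x) hnz
  exact ⟨hdom, isIntegrallyClosed_of_isLocalization (X.presheaf.stalk x)
    (q.primeCompl.map (algebraMap Γ(X, U) (X.presheaf.stalk x0))) hnz⟩

end Groth.Agent.S10842
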