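import Groth.Statements.S10844
import Groth.Agent.SupportLib.Pull
import Groth.Agent.QC.Closure
import Groth.Agent.QC.Support
import Groth.Agent.QC.Local
import Groth.Agent.Devissage.Filt

set_option autoImplicit false
set_option backward.isDefEq.respectTransparency false
set_option backward.isDefEq.respectTransparency.types false
universe u
open RepF

open CategoryTheory.Limits
namespace Groth.Agent.S10844

open AlgebraicGeometry CategoryTheory in
/-- For a scheme S and a homomorphism v : E → F of quasi-coherent O_S-modules with F of finite type,
there is an open subscheme U of S such that a morphism of schemes f : T → S factors through U (its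
image lies in U) if and only if the pulled-back homomorphism f^*v : f^*E → f^*F is an epimorphism. -/
theorem result {S : Scheme.{u}} {E F : S.Modules}
    [Coh.IsQCoh E] [Coh.IsQCoh F] (hF : CohB1.IsFT F) (v : E ⟶ F) :
    ∃ U : S.Opens, ∀ (T : Scheme.{u}) (f : T ⟶ S),
      Set.range f.base ⊆ (U : Set S) ↔ Epi ((Scheme.Modules.pullback f).map v) := by
  haveI := Groth.Agent.QC.isQCoh_cokernel (X := S) (M := E) (N := F) inferInstance inferInstance v
  have hC : CohB1.IsFT (cokernel v) := Groth.Agent.QC.isFT_of_epi (cokernel.π v) hF
  refine ⟨⟨(CohB1.support (cokernel v))ᶜ, (Groth.Agent.QC.isClosed_support hC).isOpen_compl⟩, fun T f => ?_⟩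
  haveI : (Scheme.Modules.pullback f).Additive :=
    (Scheme.Modules.pullbackPushforwardAdjunction f).left_adjoint_additive
  let e := PreservesCokernel.iso (Scheme.Modules.pullback f) v
  have hsupp := Groth.Agent.SupportLib.support_pullback f (cokernel v) hC
  constructor
  · intro hr
    have h0 : IsZero ((Scheme.Modules.pullback f).obj (cokernel v)) := Groth.Agent.Devissage.isZero_of_support (by
      rw [hsupp]
      exact Set.eq_empty_of_forall_notMem fun y hy => hr ⟨y, rfl⟩ hy)
    exact Preadditive.epi_of_cokernel_zero ((h0.of_iso e.symm).eq_of_tgt _ _)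
  · intro he
    have h0 : IsZero (cokernel ((Scheme.Modules.pullback f).map v)) := isZero_cokernel_of_epi _
    have h1 := Groth.Agent.Devissage.support_of_isZero (h0.of_iso e)
    rw [hsupp] at h1
    rintro _ ⟨y, rfl⟩ hy
    exact Set.eq_empty_iff_forall_notMem.1 h1 y hy

end Groth.Agent.S10844
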