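import Groth.Statements.S10845
import Groth.Agent.VanLocus.Scheme
import Groth.Agent.LocFree.Props
import Groth.Agent.W7Hull.LiftHom

set_option autoImplicit false
set_option backward.isDefEq.respectTransparency false
set_option backward.isDefEq.respectTransparency.types false
universe u
open RepF

namespace Groth.Agent.S10845

open AlgebraicGeometry CategoryTheory in
/-- For a scheme S and a homomorphism v : E → F of quasi-coherent O_S-modules with F finite locally
free, there is a quasi-coherent ideal sheaf on S whose closed subscheme Z has the property that a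
morphism of schemes f : T → S factors through the inclusion Z → S if and only if the pulled-back
homomorphism f^*v : f^*E → f^*F is zero. -/
theorem result {S : Scheme.{u}} {E F : S.Modules}
    [Coh.IsQCoh E] [Coh.IsQCoh F] (hF : FlatMod.IsFinLocFree F) (v : E ⟶ F) :
    ∃ I : S.IdealSheafData, ∀ (T : Scheme.{u}) (f : T ⟶ S),
      (∃ g : T ⟶ I.subscheme, g ≫ I.subschemeι = f) ↔ (Scheme.Modules.pullback f).map v = 0 := by
  obtain ⟨Z, i, hi, hZ⟩ := Groth.Agent.VanLocus.exists_closedImmersion (𝟙 S) v
    (Groth.Agent.LocFree.isFP_of_isFinLocFree hF) (Groth.Agent.W7Hull.isFlatOver_of_isFinLocFree (𝟙 S) hF)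
  haveI := hi
  refine ⟨i.ker, fun T f => ?_⟩
  have h := (hZ T f).trans (Groth.Agent.VanLocus.vanG_iff (𝟙 S) v f f (𝟙 T) (IsPullback.of_vert_isIso ⟨by simp⟩))
  refine Iff.trans ?_ h
  constructor
  · rintro ⟨g, rfl⟩
    exact ⟨g ≫ inv i.toImage, by rw [Category.assoc]; exact congrArg (g ≫ ·) ((IsIso.inv_comp_eq i.toImage).2 (Scheme.Hom.toImage_imageι i).symm)⟩
  · rintro ⟨g, rfl⟩
    exact ⟨g ≫ i.toImage, by rw [Category.assoc]; exact congrArg (g ≫ ·) (Scheme.Hom.toImage_imageι i)⟩

end Groth.Agent.S10845
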