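import Groth.Statements.S8874
import Groth.Agent.FittLib.Free

set_option autoImplicit false
universe u
open CategoryTheory CategoryTheory.Limits AlgebraicGeometry TopologicalSpace
open SDiv

namespace Groth.Agent.S8874

/-- Let S be a scheme, F a quasi-coherent O_S-module of finite type, s a point of S and r a natural
number. Then F can be generated by r sections over some open neighbourhood of s if and only if the
r-th Fitting ideal of F is the unit ideal at s, i.e. s does not lie in the closed subset cut out by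
Fit_r(F). -/
theorem result (S : Scheme.{u}) (F : S.Modules) (hF : Coh.IsQCoh F) (hft : CohB1.IsFT F)
    (s : ↥S) (r : ℕ) :
    (∃ U : S.Opens, s ∈ U ∧ ∃ π : FlatMod.freeMod (↑U) r ⟶ F.restrict U.ι, Epi π) ↔
      s ∉ (Fitt.sheafIdeal F r).support := by
  constructor
  · rintro ⟨U, hsU, π, hπ⟩ h
    obtain ⟨D, hD, hsD, hDU⟩ := exists_isAffineOpen_mem_and_subset (X := S) (U := U) hsU
    haveI : Module.Finite Γ(S, D) Γ(F, D) := Groth.Agent.QC.finite_sections hD (hM := hF) hft
    obtain ⟨g, hg, -⟩ := FittLib.span_of_epi hF π hD hDU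
    rw [FittLib.mem_support_iff _ ⟨D, hD⟩ hsD, FittLib.sheafIdeal_ideal hF hft,
      FittLib.ideal_eq_top_of_generators g hg (by simp)] at h
    exact (hD.primeIdealOf ⟨s, hsD⟩).isPrime.ne_top (top_le_iff.mp h)
  · intro h
    obtain ⟨U, hU, hx⟩ := Groth.Agent.QC.exists_affine_mem s
    haveI : Module.Finite Γ(S, U) Γ(F, U) := Groth.Agent.QC.finite_sections hU (hM := hF) hft
    rw [FittLib.mem_support_iff _ ⟨U, hU⟩ hx, FittLib.sheafIdeal_ideal hF hft] at h
    obtain ⟨f, hf, hgen⟩ := FittLib.exists_generators_of_not_le h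
    letI : Algebra Γ(S, U) Γ(S, S.basicOpen f) :=
      (Groth.Agent.QC.resO S (S.basicOpen_le f)).toAlgebra
    obtain ⟨e⟩ := FittLib.exists_sectionsEquiv hF hU f
    haveI := hU.isLocalization_basicOpen f
    obtain ⟨g, hg⟩ := hgen Γ(S, S.basicOpen f) (IsLocalization.Away.algebraMap_isUnit f)
    have hg' : Submodule.span Γ(S, S.basicOpen f) (Set.range (e ∘ g)) = ⊤ := by
      rw [Set.range_comp, ← LinearEquiv.coe_toLinearMap, ← Submodule.map_span, hg,
        Submodule.map_top, LinearEquiv.range]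
    refine ⟨S.basicOpen f, ?_, FittLib.exists_epi_of_span hF (hU.basicOpen f) (e ∘ g) hg'⟩
    have hm : hU.primeIdealOf ⟨s, hx⟩ ∈ hU.fromSpec ⁻¹ᵁ S.basicOpen f := by
      rw [hU.fromSpec_preimage_basicOpen]
      exact hf
    have hfs : hU.fromSpec (hU.primeIdealOf ⟨s, hx⟩) = s := hU.fromSpec_primeIdealOf ⟨s, hx⟩
    rw [← hfs]
    exact hm

end Groth.Agent.S8874
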