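import Groth.Statements.S1085
import Groth.Agent.FilDLib.GrExact
import Mathlib
-- import your own Groth.Agent.* helpers here

set_option autoImplicit false
universe v u
open CategoryTheory CategoryTheory.Limits Opposite
open FilD

namespace Groth.Agent.S1085

/-- Let A be an abelian category and S = (X ⟶ Y ⟶ Z) a short complex (composite zero) of finite filtered
objects such that grᵖ X ⟶ grᵖ Y ⟶ grᵖ Z is exact for every p. Then for every p the sequence of p-th
filtration steps Fᵖ X ⟶ Fᵖ Y ⟶ Fᵖ Z is exact, and both morphisms of S are strict. -/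
theorem result {A : Type u} [Category.{v} A] [Abelian A] (S : ShortComplex (FilD.FilF A))
    (hS : ∀ p : ℤ, (S.map (FilD.grF A p)).Exact) :
    (∀ p : ℤ, (S.map ((FilD.IsFinFil A).ι ⋙ (evaluation ℤᵒᵖ A).obj (op p))).Exact) ∧
      FilD.IsStrict S.f ∧ FilD.IsStrict S.g := by
  let T : ShortComplex (ℤᵒᵖ ⥤ A) := ShortComplex.mk S.f.hom S.g.hom (by rw [← ObjectProperty.FullSubcategory.comp_hom, S.zero]; rfl)
  obtain ⟨b, hb⟩ := S.X₂.property.2.1
  have hZ : ∀ r : ℤ, Mono (T.X₃.map (FilD.stepHom r)) := fun r => S.X₃.property.1 _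
  have hex : ∀ r : ℤ, (T.map ((evaluation ℤᵒᵖ A).obj (op r))).Exact := fun r => FilDLib.exact_app T hS hZ b hb r
  refine ⟨hex, (FilDLib.isStrict_iff S.f).2 fun p q h W z y hyz => ?_, FilDLib.isStrict_of_exact_gr S.g S.f.hom T.zero hS⟩
  have : Mono (S.X₃.obj.map (homOfLE h).op) := S.X₃.property.1 _
  have hz : z ≫ S.g.hom.app (op q) = 0 := by
    rw [← cancel_mono (S.X₃.obj.map (homOfLE h).op), zero_comp, Category.assoc, ← S.g.hom.naturality, ← Category.assoc, ← hyz,
      Category.assoc, ← NatTrans.comp_app, show S.f.hom ≫ S.g.hom = 0 from T.zero, zero_app, comp_zero]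
  obtain ⟨W', π, hπ, y', hy'⟩ := (hex q).exact_up_to_refinements z hz
  exact ⟨W', π, hπ, y', hy'⟩

end Groth.Agent.S1085
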