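import Groth.Statements.S10851
import Groth.Agent.MeroLib.Basic
open Groth.Agent.MeroLib

set_option autoImplicit false
universe u
open Mero

namespace Groth.Agent.S10851

open AlgebraicGeometry in
/-- Let X be a locally Noetherian scheme and D a divisor on X (a global section of K_X^×/O_X^×). Then
the support of D has codimension at least 1 in X: for every point z at which the germ of D is
non-trivial, the local ring O_{X,z} has Krull dimension at least 1. -/
theorem result {X : Scheme.{u}} [IsLocallyNoetherian X]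
    (D : Mero.Divisor X) (z : X) (hz : z ∈ Mero.supp D) :
    (1 : WithBot ℕ∞) ≤ ringKrullDim (X.presheaf.stalk z) := by
  by_contra hlt
  apply hz
  obtain ⟨U, f, -, hzU, hf⟩ := exists_local D z
  obtain ⟨W, hWU, a, b, -, hzW, hb, hab⟩ := exists_frac (f : Γ(Mero.kmod X, U)) ⟨z, hzU⟩
  haveI : Ring.KrullDimLE 0 (X.presheaf.stalk z) := Ring.krullDimLE_iff.mpr (by
    revert hlt
    generalize ringKrullDim (X.presheaf.stalk z) = d
    intro hlt
    induction d using WithBot.recBotCoe with
    | bot => exact bot_le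
    | coe d =>
      have h1 : d < 1 := by exact_mod_cast not_le.mp hlt
      exact_mod_cast (ENat.lt_one_iff_eq_zero.mp h1).le)
  haveI : IsArtinianRing (X.presheaf.stalk z) := isArtinianRing_iff_isNoetherianRing_krullDimLE_zero.mpr ⟨inferInstance, inferInstance⟩
  have hbn : gO z hzW b ∈ nonZeroDivisors (X.presheaf.stalk z) := hb ⟨z, hzW⟩
  have han := regular_of_isUnit (uval f ⟨z, hzU⟩).isUnit (Mero.germ_mem_regStalk ⟨z, hzW⟩ hb) (hab ⟨z, hzW⟩)
  have hau := IsArtinianRing.isUnit_of_mem_nonZeroDivisors han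
  have hbu := IsArtinianRing.isUnit_of_mem_nonZeroDivisors hbn
  rw [hf ⟨z, hzU⟩, germOf_eq, ← QuotientGroup.mk_one, eq_comm, mk_eq_mk_iff]
  refine ⟨gO z hzW a * hbu.unit⁻¹, hau.mul (Units.isUnit _), ?_⟩
  rw [Units.val_one, one_mul, map_mul, ← show _ = iK z (gO z hzW a) from hab ⟨z, hzW⟩, uval_val, mul_assoc,
    ← map_mul, IsUnit.mul_val_inv, map_one, mul_one]

end Groth.Agent.S10851
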