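import Groth.Statements.S10856
import Groth.Agent.MeroLib.Basic
open Groth.Agent.MeroLib

set_option autoImplicit false
universe u
open Mero

namespace Groth.Agent.S10856

open AlgebraicGeometry CategoryTheory TopologicalSpace in
/-- Let X be a scheme and f a global section of the sheaf of meromorphic functions K_X. The domain of
definition of f, i.e. the set of points x whose value f_x ∈ K_{X,x} lies in the image of the local
ring O_{X,x}, is the underlying set of an open subscheme D of X, and D is schematically dense in X: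
for every open subset V of X the restriction map from sections of O_X over V to sections over V ∩ D
is injective. -/
theorem result {X : Scheme.{u}} (f : Γ(Mero.kmod X, ⊤)) :
    ∃ D : X.Opens,
      (D : Set X) = {x | f.1 ⟨x, Opens.mem_top x⟩ ∈ (algebraMap (X.presheaf.stalk x) (Mero.KStalk X x)).range} ∧
        ∀ V : X.Opens, Function.Injective (X.presheaf.map (homOfLE (inf_le_left : V ⊓ D ≤ V)).op) := by
  have hopen : IsOpen {x : X | f.1 ⟨x, Opens.mem_top x⟩ ∈ (algebraMap (X.presheaf.stalk x) (Mero.KStalk X x)).range} := by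
    refine isOpen_iff_forall_mem_open.mpr fun x hx => ?_
    obtain ⟨W, hWU, a, b, -, hxW, hb, hab⟩ := exists_frac f ⟨x, Opens.mem_top x⟩
    obtain ⟨r, hr⟩ := hx
    obtain ⟨O, hxO, c, rfl⟩ := TopCat.Presheaf.exists_germ_eq (C := CommRingCat) X.presheaf r
    have hxWO : x ∈ W ⊓ (O : X.Opens) := And.intro hxW hxO
    have h2 : gO x hxWO (X.presheaf.map (homOfLE inf_le_right).op c *
        X.presheaf.map (homOfLE inf_le_left).op b) = gO x hxWO (X.presheaf.map (homOfLE inf_le_left).op a) := by
      simp only [map_mul, gO, TopCat.Presheaf.germ_res_apply]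
      refine iK_inj _ ?_
      rw [map_mul]
      exact (congrArg (· * _) hr).trans (hab ⟨x, hxW⟩)
    obtain ⟨T, hxT, i₁, i₂, e⟩ := X.presheaf.germ_eq x _ _ _ _ h2
    refine ⟨T, fun y hy => ⟨gO y (i₁.le hy).2 c, ?_⟩, T.2, hxT⟩
    have hyW : y ∈ W := (i₁.le hy).1
    have h3 := congrArg (gO y hy) e
    simp only [gO, TopCat.Presheaf.germ_res_apply, map_mul] at h3
    refine (isUnit_iK_of_mem (Mero.germ_mem_regStalk ⟨y, hyW⟩ hb)).mul_left_injective ?_
    refine Eq.trans ?_ (hab ⟨y, hyW⟩).symm
    rw [← h3, map_mul]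
  refine ⟨⟨_, hopen⟩, rfl, fun V c c' hcc => ?_⟩
  · refine TopCat.Presheaf.section_ext X.sheaf V c c' fun y hy => ?_
    obtain ⟨W₀, hWU, a, b, -, hxW, hb, hab⟩ := exists_frac f ⟨y, Opens.mem_top y⟩
    obtain ⟨W, hW, hyW, hle⟩ := TopologicalSpace.Opens.isBasis_iff_nbhd.mp X.isBasis_affineOpens
      (show y ∈ W₀ ⊓ V from ⟨hxW, hy⟩)
    have hW0 : W ≤ W₀ := hle.trans inf_le_left
    have hWV : W ≤ V := hle.trans inf_le_right
    have hsub : X.presheaf.map (homOfLE hWV).op c = X.presheaf.map (homOfLE hWV).op c' := by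
      rw [← sub_eq_zero]
      refine eq_zero_of_res_basicOpen hW (Mero.regSub_res (homOfLE hW0) hb) _ ?_
      refine TopCat.Presheaf.section_ext X.sheaf _ _ 0 fun z hz => ?_
      have hzW : z ∈ W := X.basicOpen_le _ hz
      have hunit := (X.mem_basicOpen _ z hzW).mp hz
      erw [TopCat.Presheaf.germ_res_apply] at hunit
      have hzD : f.1 ⟨z, Opens.mem_top z⟩ ∈ (algebraMap (X.presheaf.stalk z) (Mero.KStalk X z)).range := by
        refine ⟨gO z (hW0 hzW) a * hunit.unit⁻¹, ?_⟩
        rw [map_mul, ← show _ = iK z (gO z (hW0 hzW) a) from hab ⟨z, hW0 hzW⟩, mul_assoc, ← map_mul,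
          IsUnit.mul_val_inv, map_one, mul_one]
      have hz' : z ∈ V ⊓ (⟨_, hopen⟩ : X.Opens) := And.intro (hWV hzW) hzD
      have := congrArg (gO z hz') hcc
      simp only [gO, TopCat.Presheaf.germ_res_apply] at this
      change gO z hz _ = gO z hz 0
      simp only [gO, TopCat.Presheaf.germ_res_apply, map_zero, map_sub]
      exact sub_eq_zero.mpr this
    have := congrArg (gO y hyW) hsub
    simp only [gO, TopCat.Presheaf.germ_res_apply] at this
    exact this

end Groth.Agent.S10856
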