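import Groth.Statements.S10857
import Groth.Agent.QC.Generated
import Groth.Agent.QC.FiniteType
import Groth.Agent.InvGen.Basic
import Groth.Agent.KFlat.SchemeStalk
import Groth.Agent.TMul.Assoc

set_option autoImplicit false
universe u
open QCohSup

set_option backward.isDefEq.respectTransparency false
set_option linter.style.haveILetI false

namespace Groth.Agent.S10857

open AlgebraicGeometry CategoryTheory CategoryTheory.Limits in
/-- Take a quasi-compact scheme X, a finite-type quasi-coherent O_X-module F, and G a quasi-coherent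
O_X-module which is the colimit of a filtered diagram of quasi-coherent O_X-modules G_j. A
homomorphism u : G → F is an epimorphism if and only if there is an index j₀ such that for every
index j admitting a map from j₀ the composite G_j → G → F is an epimorphism. -/
theorem result {X : Scheme.{u}} [CompactSpace X]
    {J : Type u} [SmallCategory J] [IsFiltered J] (D : J ⥤ X.Modules) [∀ j, Coh.IsQCoh (D.obj j)]
    (c : Cocone D) (hc : IsColimit c) [Coh.IsQCoh c.pt]
    (F : X.Modules) [Coh.IsQCoh F] (hF : CohB1.IsFT F) (u : c.pt ⟶ F) :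
    Epi u ↔ ∃ j₀ : J, ∀ j : J, Nonempty (j₀ ⟶ j) → Epi (c.ι.app j ≫ u) := by
  open Groth.Agent.QC (res res_res) in
  refine ⟨fun hu => ?_, fun ⟨j₀, h⟩ => ?_⟩
  · classical
    have hpt : ∀ x : X, ∃ (j : J) (M : X.Opens), x ∈ M ∧ ∀ k : J, (j ⟶ k) →
        ∀ (U : X.Opens) (t : Γ(F, U)) (y : X), y ∈ U → y ∈ M →
          ∃ (W : X.Opens) (hW : W ≤ U), y ∈ W ∧ ∃ s, (c.ι.app k ≫ u).app W s = res F hW t := by
      intro x
      obtain ⟨V, hV, hxV, -⟩ := exists_isAffineOpen_mem_and_subset (X := X) (x := x) (U := ⊤) trivial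
      haveI : F.IsQuasicoherent := ‹Coh.IsQCoh F›
      haveI := Groth.Agent.QC.finite_sections (M := F) (hU := hV) hF
      obtain ⟨T, hT⟩ := Module.Finite.fg_top (R := Γ(X, V)) (M := Γ(F, V))
      have hgen : ∀ t : Γ(F, V), ∃ (j : J) (W : X.Opens) (hW : W ≤ V), x ∈ W ∧
          ∃ s, (c.ι.app j ≫ u).app W s = res F hW t := by
        intro t
        have hsur := (ModuleCat.epi_iff_surjective ((DerSch.stalkFunctor X x).map u)).1 inferInstance
        obtain ⟨b, hb⟩ := hsur (F.presheaf.germ V x hxV t)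
        obtain ⟨j, a, rfl⟩ := Concrete.isColimit_exists_rep (D ⋙ DerSch.stalkFunctor X x)
          (isColimitOfPreserves (DerSch.stalkFunctor X x) hc) b
        obtain ⟨O, hxO, s, rfl⟩ := TopCat.Presheaf.exists_germ_eq (D.obj j).presheaf (x := x) a
        have e1 : Algz.stalkMapAb (c.ι.app j ≫ u) x ((D.obj j).presheaf.germ O x hxO s) =
            F.presheaf.germ O x hxO ((c.ι.app j ≫ u).app O s) :=
          TopCat.Presheaf.stalkFunctor_map_germ_apply O x hxO (c.ι.app j ≫ u).mapPresheaf s
        have e0 : Algz.stalkMapAb (c.ι.app j ≫ u) x ((D.obj j).presheaf.germ O x hxO s) =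
            F.presheaf.germ V x hxV t := by
          refine Eq.trans ?_ hb
          exact congrArg (fun q : ModuleCat.of (X.presheaf.stalk x) _ ⟶ _ => q ((D.obj j).presheaf.germ O x hxO s))
            ((DerSch.stalkFunctor X x).map_comp (c.ι.app j) u)
        obtain ⟨W, hxW, iO, iV, he⟩ := TopCat.Presheaf.germ_eq (C := AddCommGrpCat.{u}) F.presheaf x hxO hxV _ _
          (e1.symm.trans e0)
        refine ⟨j, W, leOfHom iV, hxW, res (D.obj j) (leOfHom iO) s, ?_⟩
        rw [← Groth.Agent.QC.app_res]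
        exact he
      choose j W hW hxW s hs using hgen
      obtain ⟨jx, hjx⟩ := IsFiltered.sup_objs_exists (T.image j)
      obtain ⟨f₀, hf₀, hxf₀⟩ := hV.exists_basicOpen_le (V := V ⊓ T.inf W)
        ⟨x, ⟨hxV, (show x ∈ ((T.inf W : X.Opens) : Set X) by
          have : ∀ T' : Finset Γ(F, V), x ∈ T'.inf W := fun T' => by
            induction T' using Finset.induction_on with
            | empty => simp
            | insert a T' ha ih => rw [Finset.inf_insert]; exact ⟨hxW a, ih⟩
          exact this T)⟩⟩ hxV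
      refine ⟨jx, X.basicOpen f₀, hxf₀, fun k φ U t y hyU hyM => ?_⟩
      obtain ⟨g, hg, hyg⟩ := hV.exists_basicOpen_le (V := U ⊓ X.basicOpen f₀) ⟨y, hyU, hyM⟩ (X.basicOpen_le f₀ hyM)
      refine ⟨X.basicOpen g, hg.trans inf_le_left, hyg, ?_⟩
      let L : Γ(D.obj k, X.basicOpen g) →ₗ[Γ(X, X.basicOpen g)] Γ(F, X.basicOpen g) :=
        { toFun := (c.ι.app k ≫ u).app (X.basicOpen g)
          map_add' := map_add _
          map_smul' := fun r m => TMul.app_smul _ r m }
      have hspan : Submodule.span Γ(X, X.basicOpen g) (res F (X.basicOpen_le g) '' (T : Set Γ(F, V))) ≤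
          LinearMap.range L := by
        refine Submodule.span_le.2 ?_
        rintro _ ⟨a, ha, rfl⟩
        obtain ⟨ψ⟩ := hjx (Finset.mem_image_of_mem j ha)
        have hgW : X.basicOpen g ≤ W a :=
          (hg.trans inf_le_right).trans (hf₀.trans (inf_le_right.trans (Finset.inf_le ha)))
        refine ⟨(D.map (ψ ≫ φ)).app _ (res (D.obj (j a)) hgW (s a)), ?_⟩
        show (D.map (ψ ≫ φ) ≫ c.ι.app k ≫ u).app _ (res (D.obj (j a)) hgW (s a)) = _
        rw [← Category.assoc, c.w (ψ ≫ φ), ← Groth.Agent.QC.app_res, hs a, res_res]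
      exact hspan (Groth.Agent.QC.mem_span_basicOpen hV g hT _)
    choose j M hxM hM using hpt
    obtain ⟨T, hT⟩ := isCompact_univ.elim_finite_subcover (fun x : X => (M x : Set X)) (fun x => (M x).2)
      fun y _ => Set.mem_iUnion.2 ⟨y, hxM y⟩
    obtain ⟨j₀, hj₀⟩ := IsFiltered.sup_objs_exists (T.image j)
    refine ⟨j₀, fun k ⟨φ⟩ => InvGen.epi_of_locally _ fun U t y hy => ?_⟩
    obtain ⟨x, hxT, hyx⟩ := Set.mem_iUnion₂.1 (hT (Set.mem_univ y))
    obtain ⟨ψ⟩ := hj₀ (Finset.mem_image_of_mem j hxT)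
    exact hM x k (ψ ≫ φ) U t y hy hyx
  · haveI := h j₀ ⟨𝟙 j₀⟩
    exact epi_of_epi (c.ι.app j₀) u

end Groth.Agent.S10857
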