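import Groth.Statements.S10860
import Mathlib

set_option autoImplicit false
universe u
open Mor

namespace Groth.Agent.S10860

open CategoryTheory AlgebraicGeometry in
/-- For a proper morphism f : X → Y, the set V of points of Y with finite fibre is open, and f
restricted over V is finite (stated as the existence of an open subscheme of Y whose underlying set
is exactly V and over which f is finite). -/
theorem result {X Y : Scheme.{u}} (f : X ⟶ Y) [IsProper f] :
    ∃ U : Y.Opens, (U : Set Y) = {y : Y | (f.base ⁻¹' {y}).Finite} ∧ IsFinite (f ∣_ U) := by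
  let U : Y.Opens := ⟨(f.base '' (f.quasiFiniteLocus : Set X)ᶜ)ᶜ,
    (f.isClosedMap _ f.quasiFiniteLocus.2.isClosed_compl).isOpen_compl⟩
  have key : ∀ (x : X) (y : Y), f x = y → ∀ p : f.fiber y, f.fiberι y p = x → f.QuasiFiniteAt x →
      IsOpen ({p} : Set (f.fiber y)) := by
    rintro x _ rfl p hp hx
    obtain rfl : p = f.asFiber x :=
      (f.fiberι _).isEmbedding.injective (hp.trans (f.fiberι_asFiber x).symm)
    exact Scheme.Hom.quasiFiniteAt_iff_isOpen_singleton_asFiber.1 hx
  have hU : (U : Set Y) = {y : Y | (f.base ⁻¹' {y}).Finite} := by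
    ext y
    constructor
    · intro hy
      have hq : ∀ p : f.fiber y, IsOpen ({p} : Set (f.fiber y)) := by
        intro p
        have hfx : f (f.fiberι y p) = y := by
          have : f.fiberι y p ∈ Set.range (f.fiberι y) := ⟨p, rfl⟩
          rw [Scheme.Hom.range_fiberι] at this
          exact this
        have hx : f.QuasiFiniteAt (f.fiberι y p) := by
          by_contra hc
          exact hy ⟨_, hc, hfx⟩
        exact key _ y hfx p rfl hx
      haveI : DiscreteTopology (f.fiber y) := discreteTopology_iff_isOpen_singleton.2 hq
      have : (Set.range (f.fiberι y)).Finite :=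
        haveI : Finite (f.fiber y) := finite_of_compact_of_discrete
        Set.finite_range _
      rwa [Scheme.Hom.range_fiberι] at this
    · intro hy
      rintro ⟨x, hx, rfl⟩
      apply hx
      change f.QuasiFiniteAt x
      rw [Scheme.Hom.quasiFiniteAt_iff_isOpen_singleton_asFiber]
      haveI : Finite (f.fiber (f x)) := by
        have h := hy.preimage (f := f.fiberι (f x)) (f.fiberι (f x)).isEmbedding.injective.injOn
        have he : f.fiberι (f x) ⁻¹' (f.base ⁻¹' {f x}) = Set.univ := by
          ext p
          simp only [Set.mem_univ, iff_true]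
          have : f.fiberι (f x) p ∈ Set.range (f.fiberι (f x)) := ⟨p, rfl⟩
          rwa [Scheme.Hom.range_fiberι] at this
        rw [he] at h
        exact Set.finite_univ_iff.1 h
      exact isOpen_discrete _
  refine ⟨U, hU, ?_⟩
  have : LocallyQuasiFinite (f ∣_ U) := LocallyQuasiFinite.of_finite_preimage_singleton _ fun y => by
    have hy : (f.base ⁻¹' {y.1}).Finite := hU.le y.2
    refine (hy.preimage (f := (f ⁻¹ᵁ U).ι) (f ⁻¹ᵁ U).ι.isOpenEmbedding.injective.injOn).subset ?_
    intro x hx
    have hx' : (f ∣_ U) x = y := hx
    change f ((f ⁻¹ᵁ U).ι x) = y.1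
    rw [← hx']
    exact (morphismRestrict_base_coe f U x).symm
  exact IsFinite.of_isProper_of_locallyQuasiFinite _

end Groth.Agent.S10860
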