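import Groth.Statements.S10863
import Mathlib.FieldTheory.SeparableDegree
import Mathlib.RingTheory.Artinian.Module
import Mathlib.RingTheory.TensorProduct.Finite
import Mathlib.RingTheory.LocalRing.ResidueField.Ideal
import Mathlib.RingTheory.Artinian.Ring

set_option autoImplicit false
universe u
open CAlg

namespace Groth.Agent.S10863

open TensorProduct in
/-- Let k be a field, A a finite-dimensional local k-algebra with residue field κ, and k' a field
extension of k. Then the separable degree of κ over k equals the sum over the maximal ideals m' of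
k' ⊗_k A (the points of the base-changed finite scheme lying over the given point) of the separable
degrees over k' of their residue fields. -/
theorem result (k A k' : Type u) [Field k] [CommRing A] [Algebra k A]
    [Module.Finite k A] [IsLocalRing A] [Field k'] [Algebra k k'] :
    Field.finSepDegree k (IsLocalRing.ResidueField A) =
      ∑ᶠ m : MaximalSpectrum (k' ⊗[k] A),
        Field.finSepDegree k' (IsLocalRing.ResidueField (Localization.AtPrime m.asIdeal)) := by
  classical
  haveI : IsArtinianRing A := IsArtinianRing.of_finite k A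
  haveI : IsArtinianRing (k' ⊗[k] A) := IsArtinianRing.of_finite k' (k' ⊗[k] A)
  haveI : Module.Finite k (IsLocalRing.ResidueField A) :=
    Module.Finite.of_surjective (IsScalarTower.toAlgHom k A (IsLocalRing.ResidueField A)).toLinearMap
      IsLocalRing.residue_surjective
  haveI : Finite (MaximalSpectrum (k' ⊗[k] A)) := inferInstance
  letI := Fintype.ofFinite (MaximalSpectrum (k' ⊗[k] A))
  let K := AlgebraicClosure k'
  have hfin : ∀ m : MaximalSpectrum (k' ⊗[k] A), Module.Finite k' ((k' ⊗[k] A) ⧸ m.asIdeal) :=
    fun m => Module.Finite.of_surjective (Ideal.Quotient.mkₐ k' m.asIdeal).toLinearMap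
      Ideal.Quotient.mk_surjective
  have hres : ∀ m : MaximalSpectrum (k' ⊗[k] A),
      Field.finSepDegree k' (IsLocalRing.ResidueField (Localization.AtPrime m.asIdeal)) =
        Nat.card (((k' ⊗[k] A) ⧸ m.asIdeal) →ₐ[k'] K) := by
    intro m
    haveI := hfin m
    let e : ((k' ⊗[k] A) ⧸ m.asIdeal) ≃ₐ[k'] m.asIdeal.ResidueField :=
      AlgEquiv.ofBijective (IsScalarTower.toAlgHom k' _ _)
        m.asIdeal.bijective_algebraMap_quotient_residueField
    haveI : Module.Finite k' m.asIdeal.ResidueField := Module.Finite.equiv e.toLinearEquiv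
    rw [Nat.card_congr (e.arrowCongr AlgEquiv.refl)]
    exact Field.finSepDegree_eq_of_isAlgClosed k' m.asIdeal.ResidueField K
  -- homomorphisms factor through the residue field
  let eA : (IsLocalRing.ResidueField A →ₐ[k] K) ≃ (A →ₐ[k] K) :=
    { toFun := fun g => g.comp (IsScalarTower.toAlgHom k A (IsLocalRing.ResidueField A))
      invFun := fun g => Ideal.Quotient.liftₐ (IsLocalRing.maximalIdeal A) g (fun a ha => by
        haveI : (RingHom.ker g).IsPrime := RingHom.ker_isPrime g
        haveI : (RingHom.ker g).IsMaximal := IsArtinianRing.isMaximal_of_isPrime _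
        have := IsLocalRing.eq_maximalIdeal (R := A) (I := RingHom.ker g) inferInstance
        rw [← this] at ha
        exact ha)
      left_inv := fun g => by
        refine AlgHom.ext fun x => ?_
        obtain ⟨x, rfl⟩ := IsLocalRing.residue_surjective x
        rfl
      right_inv := fun g => by ext; rfl }
  -- homomorphisms out of the base change, sorted by kernel
  let eR : ((m : MaximalSpectrum (k' ⊗[k] A)) × (((k' ⊗[k] A) ⧸ m.asIdeal) →ₐ[k'] K)) ≃
      (k' ⊗[k] A →ₐ[k'] K) := by
    refine Equiv.ofBijective (fun x => x.2.comp (Ideal.Quotient.mkₐ k' x.1.asIdeal)) ⟨?_, ?_⟩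
    · rintro ⟨m, f⟩ ⟨n, g⟩ hfg
      have hm : m = n := by
        have key : ∀ (m : MaximalSpectrum (k' ⊗[k] A)) (f : ((k' ⊗[k] A) ⧸ m.asIdeal) →ₐ[k'] K),
            RingHom.ker (f.comp (Ideal.Quotient.mkₐ k' m.asIdeal)) = m.asIdeal := by
          intro m f
          haveI := m.isMaximal
          letI : Field ((k' ⊗[k] A) ⧸ m.asIdeal) := Ideal.Quotient.field _
          ext x
          rw [RingHom.mem_ker, AlgHom.comp_apply, map_eq_zero, Ideal.Quotient.mkₐ_eq_mk,
            Ideal.Quotient.eq_zero_iff_mem]
        have h' : f.comp (Ideal.Quotient.mkₐ k' m.asIdeal) = g.comp (Ideal.Quotient.mkₐ k' n.asIdeal) :=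
          hfg
        exact MaximalSpectrum.ext (by rw [← key m f, ← key n g, h'])
      subst hm
      exact Sigma.ext rfl (heq_of_eq (Ideal.Quotient.algHom_ext _ hfg))
    · intro g
      haveI : (RingHom.ker g).IsPrime := RingHom.ker_isPrime g
      refine ⟨⟨⟨RingHom.ker g, IsArtinianRing.isMaximal_of_isPrime _⟩,
        Ideal.Quotient.liftₐ _ g (fun a ha => ha)⟩, ?_⟩
      ext x
      rfl
  rw [finsum_eq_sum_of_fintype]
  simp only [hres]
  have hfin' : ∀ m : MaximalSpectrum (k' ⊗[k] A), Finite (((k' ⊗[k] A) ⧸ m.asIdeal) →ₐ[k'] K) := by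
    intro m
    haveI := hfin m
    haveI := m.isMaximal
    letI : Field ((k' ⊗[k] A) ⧸ m.asIdeal) := Ideal.Quotient.field _
    infer_instance
  haveI := hfin'
  rw [← Nat.card_sigma, Nat.card_congr eR, ← Nat.card_congr (AlgHom.liftEquiv k k' A K),
    ← Nat.card_congr eA]
  exact Field.finSepDegree_eq_of_isAlgClosed k (IsLocalRing.ResidueField A) K

end Groth.Agent.S10863
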