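import Groth.Statements.S10866
import Groth.Agent.Devissage.Apply2

set_option autoImplicit false
universe u
open Coherent

namespace Groth.Agent.S10866

open CategoryTheory CategoryTheory.Limits AlgebraicGeometry Opposite in
theorem sections_exact {X : Scheme.{u}} (S : ShortComplex X.Modules) (hS : S.ShortExact) (U : X.Opens) :
    Function.Exact (QC.appₗ S.f U) (QC.appₗ S.g U) := by
  haveI := hS.mono_f
  haveI : (Scheme.Modules.toPresheaf X ⋙ (evaluation _ Ab.{u}).obj (op U)).PreservesZeroMorphisms := ⟨fun _ _ => rfl⟩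
  haveI : PreservesFiniteLimits (Scheme.Modules.toPresheaf X) :=
    PreservesLimitsOfSize.preservesFiniteLimits (F := Scheme.Modules.toPresheaf X)
  haveI : PreservesFiniteLimits (Scheme.Modules.toPresheaf X ⋙ (evaluation _ Ab.{u}).obj (op U)) :=
    haveI : PreservesFiniteLimits ((evaluation (TopologicalSpace.Opens ↥X)ᵒᵖ Ab.{u}).obj (op U)) :=
      ⟨fun _ _ _ => evaluation_preservesLimitsOfShape _⟩
    comp_preservesFiniteLimits _ _
  have h : (S.map (Scheme.Modules.toPresheaf X ⋙ (evaluation _ _).obj (op U))).Exact :=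
    hS.exact.map_of_mono_of_preservesKernel _ hS.mono_f inferInstance
  exact ShortComplex.ab_exact_iff_function_exact _ |>.1 h

open CategoryTheory CategoryTheory.Limits AlgebraicGeometry in
theorem finite_sections_iff {X Y : Scheme.{u}} [IsNoetherian X] [IsNoetherian Y] (f : X ⟶ Y) (M : X.Modules)
    (hM : Coh.IsQCoh M) :
    Coh.IsCoh ((Scheme.Modules.pushforward f).obj M) ↔
      ∀ U : Y.affineOpens, Module.Finite Γ(Y, U.1) Γ((Scheme.Modules.pushforward f).obj M, U.1) := by
  haveI : M.IsQuasicoherent := hM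
  rw [QC.isCoh_iff_finite_sections, and_iff_right (QC.isQCoh_pushforward (M := M) f)]


open CategoryTheory AlgebraicGeometry in
/-- Let f : X → Y be a morphism of Noetherian schemes such that for every integral closed subscheme i :
Z → X there is a coherent O_Z-module with nonzero stalk at the generic point of Z whose direct image
under i followed by f is coherent on Y. Then the direct image f_*F of every coherent O_X-module F is
coherent. -/
theorem result {X Y : Scheme.{u}} [IsNoetherian X] [IsNoetherian Y]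
    (f : X ⟶ Y)
    (hgen : ∀ (Z : Scheme.{u}) (i : Z ⟶ X) [IsClosedImmersion i] [IsIntegral Z],
      ∃ H : Z.Modules, Coh.IsCoh H ∧ Nontrivial (H.presheaf.stalk (genericPoint Z)) ∧
        Coh.IsCoh ((Scheme.Modules.pushforward (i ≫ f)).obj H))
    (F : X.Modules) (hF : Coh.IsCoh F) : Coh.IsCoh ((Scheme.Modules.pushforward f).obj F) := by
  obtain h | h := isEmpty_or_nonempty X
  · rw [finite_sections_iff f F hF.1]
    intro U
    haveI : IsEmpty ↥(f ⁻¹ᵁ U.1) := ⟨fun x => h.false x.1⟩
    haveI : Subsingleton Γ((Scheme.Modules.pushforward f).obj F, U.1) := by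
      have hb : f ⁻¹ᵁ U.1 = ⊥ := SetLike.ext' (Set.eq_empty_of_forall_notMem fun x _ => h.false x)
      have : Subsingleton Γ(F, ⊥) :=
        AddCommGrpCat.subsingleton_of_isZero ((TopCat.Sheaf.isTerminalOfEmpty ⟨F.presheaf, F.isSheaf⟩).isZero)
      show Subsingleton Γ(F, f ⁻¹ᵁ U.1)
      rw [hb]; exact this
    infer_instance
  haveI : ∀ U : Y.affineOpens, IsNoetherianRing Γ(Y, U.1) := fun U => IsLocallyNoetherian.component_noetherian U
  rw [finite_sections_iff f F hF.1]
  refine Groth.Agent.Devissage.roots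
    (fun M => ∀ U : Y.affineOpens, Module.Finite Γ(Y, U.1) Γ((Scheme.Modules.pushforward f).obj M, U.1))
    (fun M N e hM U => ?_) (fun S hS h1 h2 h3 => ⟨fun a b U => ?_, fun a c U => ?_⟩) (fun M d hd hM hK U => ?_) ?_ F hF
  · obtain ⟨e⟩ := e
    haveI := hM U
    exact Module.Finite.of_surjective (QC.appₗ ((Scheme.Modules.pushforward f).map e.hom) U.1)
      (fun y => ⟨((Scheme.Modules.pushforward f).map e.inv).app U.1 y, by
        show ((Scheme.Modules.pushforward f).map e.hom).app U.1 (((Scheme.Modules.pushforward f).map e.inv).app U.1 y) = y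
        rw [← CategoryTheory.comp_apply, ← Scheme.Modules.Hom.comp_app, ← Functor.map_comp, e.inv_hom_id,
          CategoryTheory.Functor.map_id]
        rfl⟩)
  · haveI := a U
    haveI := hS.mono_f
    exact Module.Finite.of_injective (QC.appₗ ((Scheme.Modules.pushforward f).map S.f) U.1)
      (QC.app_injective_of_mono S.f (f ⁻¹ᵁ U.1))
  · haveI := a U
    haveI := c U
    let φ := QC.appₗ ((Scheme.Modules.pushforward f).map S.f) U.1
    let ψ := QC.appₗ ((Scheme.Modules.pushforward f).map S.g) U.1
    have hφψ : Function.Exact φ ψ := sections_exact S hS (f ⁻¹ᵁ U.1)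
    haveI : IsNoetherian Γ(Y, U.1) Γ((Scheme.Modules.pushforward f).obj S.X₁, U.1) := inferInstance
    haveI : IsNoetherian Γ(Y, U.1) Γ((Scheme.Modules.pushforward f).obj S.X₃, U.1) := inferInstance
    haveI := isNoetherian_of_range_eq_ker φ ψ (LinearMap.exact_iff.1 hφψ).symm
    infer_instance
  · haveI := hK U
    let ι := CategoryTheory.Limits.Sigma.ι (fun _ : Fin d => M) ⟨0, hd⟩
    let π : (∐ fun _ : Fin d => M) ⟶ M := CategoryTheory.Limits.Sigma.desc fun _ => 𝟙 M
    exact Module.Finite.of_surjective (QC.appₗ ((Scheme.Modules.pushforward f).map π) U.1)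
      (fun y => ⟨((Scheme.Modules.pushforward f).map ι).app U.1 y, by
        show ((Scheme.Modules.pushforward f).map π).app U.1 (((Scheme.Modules.pushforward f).map ι).app U.1 y) = y
        rw [← CategoryTheory.comp_apply, ← Scheme.Modules.Hom.comp_app, ← Functor.map_comp,
          show ι ≫ π = 𝟙 M from CategoryTheory.Limits.Sigma.ι_desc _ _, CategoryTheory.Functor.map_id]
        rfl⟩)
  · intro Z i _ _
    obtain ⟨H, hH, hn, hK⟩ := hgen Z i
    exact ⟨H, hH, hn, fun U => (QC.isCoh_iff_finite_sections.1 hK).2 U⟩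

end Groth.Agent.S10866
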