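import Groth.Statements.S10868
import Mathlib

set_option autoImplicit false
universe u
open Mor

namespace Groth.Agent.S10868

open CategoryTheory AlgebraicGeometry in
/-- f : X → Y is a finite morphism exactly when it is proper and quasi-affine (quasi-compact, with the
inverse image of every affine open subscheme of Y a quasi-affine scheme). -/
theorem result {X Y : Scheme.{u}} (f : X ⟶ Y) :
    IsFinite f ↔ IsProper f ∧ Mor2.IsQuasiAffine f := by
  refine ⟨fun h ↦ ⟨inferInstance, inferInstance, fun W hW ↦ ?_⟩, fun ⟨h, hqa⟩ ↦ ?_⟩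
  · have : IsAffine (f ⁻¹ᵁ W).toScheme := hW.preimage f
    infer_instance
  · refine IsFinite.iff_isProper_and_isAffineHom.mpr ⟨h, ⟨fun W hW ↦ ?_⟩⟩
    have := hqa.2 W hW
    have : IsAffine W.toScheme := hW
    have : IsProper (f ∣_ W) := MorphismProperty.of_isPullback (P := @IsProper)
      (isPullback_morphismRestrict f W).flip h
    have : IsProper (Scheme.toSpecΓ (f ⁻¹ᵁ W).toScheme) := by
      have e : IsProper ((f ⁻¹ᵁ W).toScheme.toSpecΓ ≫ Spec.map (f ∣_ W).appTop) := by
        rw [← Scheme.toSpecΓ_naturality]; infer_instance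
      exact MorphismProperty.of_postcomp (W := @IsProper) (W' := @IsSeparated) _
        (Spec.map (f ∣_ W).appTop) inferInstance e
    have : IsClosedImmersion (Scheme.toSpecΓ (f ⁻¹ᵁ W).toScheme) :=
      IsClosedImmersion.of_isPreimmersion _ (Scheme.Hom.isClosedMap _).isClosed_range
    exact isAffine_of_isAffineHom (Scheme.toSpecΓ (f ⁻¹ᵁ W).toScheme)

end Groth.Agent.S10868
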