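import Groth.Statements.S10869
import Groth.Agent.TMul.GlobGen
import Groth.Agent.GGDesc.Nhd
import Groth.Agent.QC.Localisation

set_option autoImplicit false
universe u
open Coh

set_option backward.isDefEq.respectTransparency false
set_option backward.isDefEq.respectTransparency.types false

namespace Groth.Agent.S10869

open CategoryTheory AlgebraicGeometry in
/-- For f : X → S quasi-compact and quasi-separated and F a quasi-coherent O_X-module, the counit
f^*f_*F → F is an epimorphism iff F is a quotient of f^*G for some quasi-coherent O_S-module G, iff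
the restriction of F to the inverse image of every affine open of S is globally generated. -/
theorem result {X S : Scheme.{u}} (f : X ⟶ S) [QuasiCompact f] [QuasiSeparated f]
    (F : X.Modules) (hF : Coh.IsQCoh F) :
    (Epi ((Scheme.Modules.pullbackPushforwardAdjunction f).counit.app F) ↔
      ∃ G : S.Modules, Coh.IsQCoh G ∧ ∃ φ : (Scheme.Modules.pullback f).obj G ⟶ F, Epi φ) ∧
    (Epi ((Scheme.Modules.pullbackPushforwardAdjunction f).counit.app F) ↔
      ∀ U : S.Opens, IsAffineOpen U → Curv2.IsGloballyGenerated (F.restrict (f ⁻¹ᵁ U).ι)) := by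
  let adj := Scheme.Modules.pullbackPushforwardAdjunction f
  haveI : F.IsQuasicoherent := hF
  constructor
  · constructor
    · intro h
      exact ⟨(Scheme.Modules.pushforward f).obj F, Groth.Agent.QC.isQCoh_pushforward f, adj.counit.app F, h⟩
    · rintro ⟨G, -, φ, hφ⟩
      obtain ⟨ψ, rfl⟩ : ∃ ψ, (adj.homEquiv G F).symm ψ = φ := ⟨_, (adj.homEquiv G F).symm_apply_apply φ⟩
      rw [Adjunction.homEquiv_counit] at hφ
      haveI := hφ
      exact epi_of_epi ((Scheme.Modules.pullback f).map ψ) (adj.counit.app F)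
  constructor
  · intro hepi U hU
    haveI := hepi
    haveI : IsAffine U.toScheme := hU
    let P := (Scheme.Modules.pushforward f).obj F
    haveI : P.IsQuasicoherent := Groth.Agent.QC.isQCoh_pushforward f
    have h1 : Curv2.IsGloballyGenerated ((Scheme.Modules.restrictFunctor U.ι).obj P) := by
      refine TMul.isGloballyGenerated_of_genOn fun x =>
        ⟨⊤, isAffineOpen_top _, trivial, eq_top_iff.mpr fun y _ => Submodule.subset_span ⟨y, ?_⟩⟩
      exact Groth.Agent.QC.res_self _ _ y
    have h2 := Groth.Agent.GGDesc.isGloballyGenerated_pullback (f ∣_ U)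
      (Groth.Agent.GGDesc.isGloballyGenerated_of_iso
        ((Scheme.Modules.restrictFunctorIsoPullback U.ι).app P) h1)
    have e : (Scheme.Modules.pullback (f ∣_ U)).obj ((Scheme.Modules.pullback U.ι).obj P) ≅
        (Scheme.Modules.restrictFunctor (f ⁻¹ᵁ U).ι).obj ((Scheme.Modules.pullback f).obj P) :=
      (Scheme.Modules.pullbackComp (f ∣_ U) U.ι).app P ≪≫
        (Scheme.Modules.pullbackCongr (morphismRestrict_ι f U)).app P ≪≫
        ((Scheme.Modules.pullbackComp (f ⁻¹ᵁ U).ι f).app P).symm ≪≫
        ((Scheme.Modules.restrictFunctorIsoPullback (f ⁻¹ᵁ U).ι).app _).symm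
    obtain ⟨ι, p, hp⟩ := Groth.Agent.GGDesc.isGloballyGenerated_of_iso e h2
    haveI := hp
    haveI : Epi ((Scheme.Modules.restrictFunctor (f ⁻¹ᵁ U).ι).map (adj.counit.app F)) :=
      inferInstance
    exact ⟨ι, p ≫ (Scheme.Modules.restrictFunctor (f ⁻¹ᵁ U).ι).map (adj.counit.app F), inferInstance⟩
  · intro hgg
    rw [Preadditive.epi_iff_cancel_zero]
    intro M h h0
    have hpush : (Scheme.Modules.pushforward f).map h = 0 := by
      have := congrArg (adj.homEquiv _ _) h0
      rw [adj.homEquiv_naturality_right, Adjunction.homEquiv_unit, Adjunction.homEquiv_unit,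
        adj.right_triangle_components, Category.id_comp] at this
      simpa using this
    refine Scheme.Modules.hom_ext _ _ fun W => ?_
    ext t
    refine TopCat.Sheaf.eq_of_locally_eq' ⟨M.presheaf, Scheme.Modules.isSheaf M⟩ (fun i : {U : S.Opens // IsAffineOpen U} => W ⊓ f ⁻¹ᵁ i.1) W
      (fun i => homOfLE inf_le_left) (fun x hx => ?_) _ _ fun i => ?_
    · obtain ⟨U, hU, hxU, -⟩ := exists_isAffineOpen_mem_and_subset (U := (⊤ : S.Opens)) (x := f.base x) trivial
      exact TopologicalSpace.Opens.mem_iSup.mpr ⟨⟨U, hU⟩, hx, hxU⟩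
    obtain ⟨ι, p, hp⟩ := hgg i.1 i.2
    haveI := hp
    let j := (f ⁻¹ᵁ i.1).ι
    have hU0 : ∀ (V : X.Opens), V = f ⁻¹ᵁ i.1 → ∀ s : Γ(F, V), h.app V s = 0 := by
      rintro V rfl s
      exact congr($(hpush).app i.1 s)
    have hzero : (Scheme.Modules.restrictFunctor j).map h = 0 := by
      rw [← cancel_epi p, Limits.comp_zero]
      refine Limits.Sigma.hom_ext _ _ fun a => ?_
      rw [Limits.comp_zero, ← Category.assoc]
      generalize Limits.Sigma.ι (fun _ : ι => SheafOfModules.unit _) a ≫ p = q
      refine ((Scheme.Modules.restrictFunctor j).obj M).unitHomEquiv.injective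
        (PresheafOfModules.sections_ext _ _ fun V => ?_)
      change TMul.val (q ≫ (Scheme.Modules.restrictFunctor j).map h) V.unop = TMul.val 0 V.unop
      rw [TMul.val_comp, ← TMul.res_val q (le_top : V.unop ≤ ⊤), ← Groth.Agent.QC.app_res]
      have := hU0 (j ''ᵁ ⊤) (by simp [j]) (TMul.val q ⊤)
      exact (congrArg _ this).trans ((map_zero _).trans rfl)
    have hle : W ⊓ f ⁻¹ᵁ i.1 = j ''ᵁ (j ⁻¹ᵁ W) := by
      rw [Scheme.Hom.image_preimage_eq_opensRange_inf, Scheme.Opens.opensRange_ι, inf_comm]
    have hV : ∀ (V : X.Opens), V = j ''ᵁ (j ⁻¹ᵁ W) → ∀ s : Γ(F, V), h.app V s = 0 := by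
      rintro V rfl s
      exact congr($(hzero).app (j ⁻¹ᵁ W) s)
    change Groth.Agent.QC.res M inf_le_left (h.app W t) = Groth.Agent.QC.res M inf_le_left 0
    rw [Groth.Agent.QC.app_res, map_zero]
    exact hV _ hle _

end Groth.Agent.S10869
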