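import Groth.Statements.S10871
import Mathlib

set_option autoImplicit false
universe u
open AlgebraicGeometry
open Curves

set_option backward.isDefEq.respectTransparency false
namespace Groth.Agent.S10871

/-- Every open subscheme of the spectrum of a Dedekind domain is affine. -/
theorem result (A : Type u) [CommRing A] [IsDedekindDomain A]
    (U : (Spec (CommRingCat.of A)).Opens) : IsAffineOpen U := by
  classical
  obtain ⟨I, hI⟩ := (PrimeSpectrum.isClosed_iff_zeroLocus_ideal (R := A) ((U : Set (Spec (CommRingCat.of A)))ᶜ)).1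
    U.2.isClosed_compl
  have key : ∀ p : Spec (CommRingCat.of A), ∃ g : A, g ∉ p.asIdeal ∧ ∃ a ∈ I, ∀ b ∈ I, g * b ∈ Ideal.span {a} := by
    intro p
    let L := Localization.AtPrime p.asIdeal
    haveI : IsDomain L := IsLocalization.isDomain_localization p.asIdeal.primeCompl_le_nonZeroDivisors
    haveI : IsDedekindDomain L := IsLocalization.isDedekindDomain A p.asIdeal.primeCompl_le_nonZeroDivisors L
    haveI : IsPrincipalIdealRing L := IsPrincipalIdealRing.of_finite_maximals
      ((Set.finite_singleton (IsLocalRing.maximalIdeal L)).subset fun J hJ => IsLocalRing.eq_maximalIdeal hJ)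
    obtain ⟨z, hz⟩ := (IsPrincipalIdealRing.principal (I.map (algebraMap A L))).principal
    have hzI : z ∈ I.map (algebraMap A L) := by rw [hz]; exact Submodule.mem_span_singleton_self z
    obtain ⟨⟨⟨a, ha⟩, t⟩, hat⟩ := (IsLocalization.mem_map_algebraMap_iff p.asIdeal.primeCompl L).1 hzI
    obtain ⟨G, hG⟩ := (IsNoetherian.noetherian I)
    have h1 : ∀ b : G, ∃ s ∈ p.asIdeal.primeCompl, s * b.1 ∈ Ideal.span {a} := by
      intro b
      have hb : algebraMap A L b.1 ∈ (Ideal.span {a}).map (algebraMap A L) := by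
        have h2 : algebraMap A L b.1 ∈ I.map (algebraMap A L) :=
          Ideal.mem_map_of_mem _ (hG ▸ Submodule.subset_span b.2)
        rw [hz] at h2
        obtain ⟨c, hc⟩ := Ideal.mem_span_singleton'.1 h2
        obtain ⟨u, hu⟩ := IsLocalization.map_units L t
        rw [← hc, show z = algebraMap A L a * ↑u⁻¹ by rw [← hat, ← hu, Units.mul_inv_cancel_right]]
        exact Ideal.mul_mem_left _ _ (Ideal.mul_mem_right _ _ (Ideal.mem_map_of_mem _ (Ideal.mem_span_singleton_self a)))
      exact (IsLocalization.algebraMap_mem_map_algebraMap_iff p.asIdeal.primeCompl L _ b.1).1 hb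
    choose s hs hsb using h1
    refine ⟨∏ b : G, s b, prod_mem (S := p.asIdeal.primeCompl) fun b _ => hs b, a, ha, fun b hb => ?_⟩
    rw [← hG] at hb
    induction hb using Submodule.span_induction with
    | mem y hy =>
      rw [← Finset.prod_erase_mul _ _ (Finset.mem_univ (⟨y, hy⟩ : G)), mul_assoc]
      exact Ideal.mul_mem_left _ _ (hsb _)
    | zero => rw [mul_zero]; exact zero_mem _
    | add c d _ _ hc hd => rw [mul_add]; exact add_mem hc hd
    | smul c d _ hd => rw [smul_eq_mul, mul_left_comm]; exact Ideal.mul_mem_left _ _ hd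
  haveI : IsAffineHom U.ι := isAffineHom_of_forall_exists_isAffineOpen _ fun p => by
    obtain ⟨g, hg, a, ha, hga⟩ := key p
    refine ⟨(PrimeSpectrum.basicOpen g : (Spec (CommRingCat.of A)).Opens), hg, IsAffineOpen.Spec_basicOpen (R := CommRingCat.of A) g, ?_⟩
    rw [← U.ι.isAffineOpen_iff_of_isOpenImmersion, Scheme.Hom.image_preimage_eq_opensRange_inf,
      Scheme.Opens.opensRange_ι]
    have hU : ∀ q : Spec (CommRingCat.of A), q ∈ U ↔ ¬ I ≤ q.asIdeal := fun q => by
      have h3 := Set.ext_iff.1 hI q
      rw [Set.mem_compl_iff, PrimeSpectrum.mem_zeroLocus] at h3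
      exact ⟨fun hq hle => h3.2 hle hq, fun hn => not_not.1 fun hq => hn (h3.1 hq)⟩
    convert IsAffineOpen.Spec_basicOpen (R := CommRingCat.of A) (g * a) using 1
    refine TopologicalSpace.Opens.ext (Set.ext fun q => ?_)
    show (q ∈ U ∧ g ∉ q.asIdeal) ↔ g * a ∉ q.asIdeal
    rw [hU]
    constructor
    · rintro ⟨hn, hgq⟩ hmem
      refine hn fun b hb => ?_
      have h4 : g * b ∈ q.asIdeal := by
        refine (Ideal.span_singleton_le_iff_mem _).2 ?_ (hga b hb)
        exact (q.2.mem_or_mem hmem).resolve_left hgq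
      exact (q.2.mem_or_mem h4).resolve_left hgq
    · intro hmem
      exact ⟨fun hle => hmem (Ideal.mul_mem_left _ _ (hle ha)), fun hgq => hmem (Ideal.mul_mem_right _ _ hgq)⟩
  exact isAffine_of_isAffineHom U.ι

end Groth.Agent.S10871
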