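import Groth.Statements.S10873
import Groth.Agent.KrullSch.GaloisSplit

set_option autoImplicit false
universe u
open CategoryTheory AlgebraicGeometry
open Variety

namespace Groth.Agent.S10873

/-- A Brauer–Severi scheme X over a field k which has a k-rational point is k-isomorphic to a projective
space P^n_k. (The converse direction of the printed equivalence, that P^n_k has a rational point, is
not stated here.) -/
theorem result (k : Type u) [Field k] {X : Scheme.{u}}
    (p : X ⟶ Spec (CommRingCat.of k)) (hX : W4bk4gw11416.IsBrauerSeveri p)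
    (s : Spec (CommRingCat.of k) ⟶ X) (hs : s ≫ p = 𝟙 (Spec (CommRingCat.of k))) :
    ∃ n : ℕ, W4bk4gw11416.IsProjSpaceOver p n := by
  obtain ⟨K, _, _, n, θ, hθ⟩ := hX
  let e : BrSev.Splitting p K n := ⟨θ, hθ⟩
  haveI := KrullSch.isProper_of_splitting e
  obtain ⟨eΩ⟩ := KrullSch.exists_algClosure_splitting e
  obtain ⟨t⟩ := KrullSch.nonempty_splitting_of_point eΩ s hs
  haveI : IsIso (Spec.map (CommRingCat.ofHom (algebraMap k k))) := by
    rw [Algebra.algebraMap_self, CommRingCat.ofHom_id, Spec.map_id]
    infer_instance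
  haveI : IsIso (BrSev.proj p k) := (IsPullback.of_hasPullback p _).isIso_fst_of_isIso
  refine ⟨n, (asIso (BrSev.proj p k)).symm ≪≫ t.iso, ?_⟩
  rw [Iso.trans_hom, Category.assoc, t.comm, Iso.symm_hom, Iso.inv_comp_eq, asIso_hom]
  refine (Category.comp_id _).symm.trans ((congrArg (_ ≫ ·) ?_).trans Limits.pullback.condition.symm)
  rw [Algebra.algebraMap_self, CommRingCat.ofHom_id, Spec.map_id]

end Groth.Agent.S10873
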