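import Groth.Statements.S10879
import Mathlib.AlgebraicGeometry.Morphisms.SchemeTheoreticallyDominant
import Mathlib.AlgebraicGeometry.Morphisms.FlatMono
import Mathlib.AlgebraicGeometry.FunctionField
import Mathlib.RingTheory.Flat.FaithfullyFlat.Algebra


set_option autoImplicit false
universe u
open CategoryTheory AlgebraicGeometry CategoryTheory.Limits
open FlatMor

namespace Groth.Agent.S10879

open CategoryTheory AlgebraicGeometry CategoryTheory.Limits

theorem flat_fromSpecStalk {X : Scheme.{u}} (x : X) : Flat (X.fromSpecStalk x) := by
  obtain ⟨U, hU, hxU, -⟩ := exists_isAffineOpen_mem_and_subset (X := X) (x := x) (U := ⊤) trivial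
  rw [← IsAffineOpen.fromSpecStalk_eq_fromSpecStalk hU hxU, IsAffineOpen.fromSpecStalk]
  have : Flat (Spec.map (X.presheaf.germ U x hxU)) := by
    rw [Flat.SpecMap_iff, RingHom.Flat]
    let := TopCat.Presheaf.algebra_section_stalk X.presheaf (⟨x, hxU⟩ : U)
    have := hU.isLocalization_stalk ⟨x, hxU⟩
    exact IsLocalization.flat (X.presheaf.stalk x) (hU.primeIdealOf ⟨x, hxU⟩).asIdeal.primeCompl
  infer_instance

theorem quasiCompact_fromSpecStalk_generic {X : Scheme.{u}} [IsIntegral X] (η : X)
    (hη : η = genericPoint X) : QuasiCompact (X.fromSpecStalk η) := by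
  refine ⟨fun U hU hc => ?_⟩
  have hKf : IsField (X.presheaf.stalk η) := by rw [hη]; exact Field.toIsField X.functionField
  let := hKf.toField
  have hsub : Subsingleton (Spec (X.presheaf.stalk η)) :=
    inferInstanceAs (Subsingleton (PrimeSpectrum (X.presheaf.stalk η)))
  exact (Set.subsingleton_of_subsingleton).isCompact

/-- Take integral schemes X' and X and a separated surjective morphism f : X' → X which is birational in
the sense that the induced map of function fields (the stalk map of f at the generic point of X') is
an isomorphism, and suppose f is affine (e.g. a normalization) or locally of finite presentation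
(e.g. a blow-up of a Noetherian integral scheme). Then f is flat exactly when it is an isomorphism. -/
theorem result {X' X : Scheme.{u}} [IsIntegral X'] [IsIntegral X]
    (f : X' ⟶ X) [Surjective f] [IsSeparated f] (hK : IsIso (f.stalkMap (genericPoint X')))
    (h : IsAffineHom f ∨ LocallyOfFinitePresentation f) :
    Flat f ↔ IsIso f := by
  refine ⟨fun hfl => ?_, fun hiso => inferInstance⟩
  let ξ := genericPoint X'
  let η := f ξ
  have hη : η = genericPoint X := by
    have hsp : genericPoint X ⤳ η := genericPoint_specializes η
    obtain ⟨z, hz⟩ := f.surjective (genericPoint X)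
    exact ((genericPoint_specializes z).map f.continuous |>.antisymm (hz ▸ hsp) |>.eq).trans hz
  have hfib : ∀ x : X', f x = η → x = ξ := by
    intro x hx
    have hsp : ξ ⤳ x := genericPoint_specializes x
    let r : X'.presheaf.stalk x →+* X'.presheaf.stalk ξ := (X'.presheaf.stalkSpecializes hsp).hom
    have hinj : Function.Injective r :=
      IsFractionRing.injective (X'.presheaf.stalk x) X'.functionField
    have hsurj : Function.Surjective r := by
      intro y
      have hy : IsIso (X.presheaf.stalkSpecializes (hsp.map f.continuous)) := by
        have hle : f x ⤳ f ξ := hx ▸ specializes_rfl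
        refine ⟨X.presheaf.stalkSpecializes hle, ?_, ?_⟩ <;>
          simp [TopCat.Presheaf.stalkSpecializes_comp, TopCat.Presheaf.stalkSpecializes_refl]
      have : IsIso (f.stalkMap x ≫ X'.presheaf.stalkSpecializes hsp) := by
        rw [← Scheme.Hom.stalkSpecializes_stalkMap]; infer_instance
      obtain ⟨z, hz⟩ :=
        (ConcreteCategory.bijective_of_isIso (f.stalkMap x ≫ X'.presheaf.stalkSpecializes hsp)).2 y
      exact ⟨f.stalkMap x z, hz⟩
    have hKx : IsField (X'.presheaf.stalk x) :=
      (RingEquiv.ofBijective r ⟨hinj, hsurj⟩).toMulEquiv.isField (Field.toIsField X'.functionField)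
    let := hKx.toField
    have hξ : ξ ∈ Set.range (X'.fromSpecStalk x) := by
      rw [Scheme.range_fromSpecStalk]; exact hsp
    obtain ⟨a, ha⟩ := hξ
    have hxr : x ∈ Set.range (X'.fromSpecStalk x) := by
      rw [Scheme.range_fromSpecStalk]; exact specializes_rfl
    obtain ⟨b, hb⟩ := hxr
    have : Subsingleton (Spec (X'.presheaf.stalk x)) :=
      inferInstanceAs (Subsingleton (PrimeSpectrum (X'.presheaf.stalk x)))
    exact hb.symm.trans ((congrArg _ (Subsingleton.elim b a)).trans ha)
  let fs := X.fromSpecStalk η
  have hfsf : Flat fs := flat_fromSpecStalk η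
  let Y := pullback f fs
  have hYsub : Subsingleton Y := ⟨fun a b => by
    have hKf : IsField (X.presheaf.stalk η) := by
      rw [hη]; exact Field.toIsField X.functionField
    let := hKf.toField
    have hsub : Subsingleton (Spec (X.presheaf.stalk η)) :=
      inferInstanceAs (Subsingleton (PrimeSpectrum (X.presheaf.stalk η)))
    have hval : ∀ c : Y, f ((pullback.fst f fs) c) = η := by
      intro c
      rw [← Scheme.Hom.comp_apply, pullback.condition, Scheme.Hom.comp_apply]
      have hcl : IsLocalRing.closedPoint (X.presheaf.stalk η) = (pullback.snd f fs) c :=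
        Subsingleton.elim _ _
      rw [← hcl, Scheme.fromSpecStalk_closedPoint]
    apply (pullback.fst f fs).isEmbedding.injective
    rw [hfib _ (hval a), hfib _ (hval b)]⟩
  have hne : ξ ∈ Set.range (pullback.fst f fs) := by
    rw [Scheme.Pullback.range_fst, Set.mem_preimage, Scheme.range_fromSpecStalk]
    exact specializes_rfl
  obtain ⟨y₀, hy₀⟩ := hne
  have hiso : IsIso (pullback.snd f fs) := by
    rw [isIso_iff_isIso_stalkMap]
    have hstalk : ∀ {A B : Scheme.{u}} (g : A ⟶ B) [Flat g] [IsPreimmersion g] (a : A),
        IsIso (g.stalkMap a) := by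
      intro A B g _ _ a
      refine (ConcreteCategory.isIso_iff_bijective _).mpr ⟨?_, g.stalkMap_surjective a⟩
      let := (g.stalkMap a).hom.toAlgebra
      have : Module.Flat (B.presheaf.stalk (g a)) (A.presheaf.stalk a) := Flat.stalkMap g a
      have : IsLocalHom (algebraMap (B.presheaf.stalk (g a)) (A.presheaf.stalk a)) :=
        g.toLRSHom.prop a
      have := Module.FaithfullyFlat.of_flat_of_isLocalHom (A := B.presheaf.stalk (g a))
        (B := A.presheaf.stalk a)
      exact FaithfulSMul.algebraMap_injective (B.presheaf.stalk (g a)) (A.presheaf.stalk a)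
    refine ⟨?_, fun y => ?_⟩
    · have hKf : IsField (X.presheaf.stalk η) := by
        rw [hη]; exact Field.toIsField X.functionField
      let := hKf.toField
      have hsub : Subsingleton (Spec (X.presheaf.stalk η)) :=
        inferInstanceAs (Subsingleton (PrimeSpectrum (X.presheaf.stalk η)))
      exact inferInstanceAs (IsIso (TopCat.isoOfHomeo
        { toFun := pullback.snd f fs, invFun := fun _ => y₀, left_inv := fun _ => Subsingleton.elim _ _,
          right_inv := fun _ => Subsingleton.elim _ _,
          continuous_toFun := (pullback.snd f fs).continuous,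
          continuous_invFun := continuous_const }).hom)
    · have hy : (pullback.fst f fs) y = ξ := by rw [Subsingleton.elim y y₀, hy₀]
      have h1 := hstalk (pullback.fst f fs) y
      have h2 : IsIso (f.stalkMap ((pullback.fst f fs) y)) := by rw [hy]; exact hK
      have h3 := hstalk fs ((pullback.snd f fs) y)
      have h12 : IsIso ((pullback.fst f fs ≫ f).stalkMap y) := by
        rw [Scheme.Hom.stalkMap_comp]; exact IsIso.comp_isIso' h2 h1
      have h4 : IsIso ((pullback.snd f fs ≫ fs).stalkMap y) := by
        rw [Scheme.Hom.stalkMap_congr_hom _ _ pullback.condition.symm]; infer_instance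
      rw [Scheme.Hom.stalkMap_comp] at h4
      exact @IsIso.of_isIso_comp_left _ _ _ _ _ (fs.stalkMap ((pullback.snd f fs) y)) _ h3 h4
  have hmono : Mono f := by
    rw [← pullback.isIso_diagonal_iff]
    let p := pullback.fst f f ≫ f
    let j := pullback.fst p fs
    have hjs : IsSchemeTheoreticallyDominant fs := by
      have : IsDominant fs := by
        rw [isDominant_iff, DenseRange]
        refine Dense.mono (Set.singleton_subset_iff.mpr ?_) (dense_iff_closure_eq.mpr (genericPoint_spec X))
        rw [Scheme.range_fromSpecStalk, ← hη]
        exact specializes_rfl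
      exact IsSchemeTheoreticallyDominant.of_isDominant fs
    have hfl' : Flat p := inferInstance
    have hfsc : QuasiCompact fs := quasiCompact_fromSpecStalk_generic η hη
    have hj : IsSchemeTheoreticallyDominant j := inferInstance
    have e12 : j ≫ pullback.fst f f = j ≫ pullback.snd f f := by
      have a₁ : (j ≫ pullback.fst f f) ≫ f = pullback.snd p fs ≫ fs := by
        rw [Category.assoc]; exact pullback.condition
      have a₂ : (j ≫ pullback.snd f f) ≫ f = pullback.snd p fs ≫ fs := by
        rw [Category.assoc, ← pullback.condition]; exact pullback.condition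
      have : pullback.lift _ _ a₁ = pullback.lift _ _ a₂ := by
        rw [← cancel_mono (pullback.snd f fs), pullback.lift_snd, pullback.lift_snd]
      exact (pullback.lift_fst _ _ a₁).symm.trans
        ((congrArg (· ≫ pullback.fst f fs) this).trans (pullback.lift_fst _ _ a₂))
    have hfac : j = (j ≫ pullback.fst f f) ≫ pullback.diagonal f := by
      apply pullback.hom_ext <;> simp [e12]
    rw [IsClosedImmersion.isIso_iff_ker_eq_bot, ← le_bot_iff, ← hj.ker_eq_bot, hfac]
    exact Scheme.Hom.le_ker_comp _ _
  rcases h with h | h
  · exact Flat.isIso_of_surjective_of_mono f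
  · have : QuasiCompact f := by
      have := IsOpenImmersion.of_flat_of_mono f
      have hh : IsHomeomorph f := isHomeomorph_iff_isEmbedding_surjective.mpr ⟨f.isEmbedding, f.surjective⟩
      exact ⟨fun A hA hc => hh.homeomorph.isCompact_preimage.mpr hc⟩
    exact Flat.isIso_of_surjective_of_mono f

end Groth.Agent.S10879
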