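import Groth.Statements.S10880
import Groth.Agent.FlatDvr.Scheme

set_option autoImplicit false
universe u
open CategoryTheory AlgebraicGeometry
open FlatMor

namespace Groth.Agent.S10880

/-- Let R be a discrete valuation ring and X a locally Noetherian scheme over Spec R whose
scheme-theoretic special fibre is reduced and such that every maximal point of the special fibre
lies in the closure of the generic fibre, i.e. the generic fibre is dense in X. Then X is flat over
R. -/
theorem result (R : Type u) [CommRing R] [IsDomain R]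
    [IsDiscreteValuationRing R] {X : Scheme.{u}} (f : X ⟶ Spec (CommRingCat.of R)) [IsLocallyNoetherian X]
    (hred : IsReduced (f.fiber (IsLocalRing.closedPoint R)))
    (hdense : Dense (f.base ⁻¹' {genericPoint (Spec (CommRingCat.of R))})) : Flat f := by
  have hgenpt : genericPoint (Spec (CommRingCat.of R)) = (⟨⊥, Ideal.isPrime_bot⟩ : PrimeSpectrum R) :=
    genericPoint_eq_bot_of_affine _
  refine Flat.of_stalkMap _ fun x ↦ ?_
  by_cases hx : f x = IsLocalRing.closedPoint R
  · have key := FlatDvr.flat_stalkMap_of_reduced f hx (f.asFiber x) ?_ fun z hz hfz hmax ↦ ?_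
    · rwa [Scheme.Hom.fiberι_asFiber] at key
    · have : IsReduced (f.fiber (f x)) := hx ▸ hred
      infer_instance
    · by_contra hno
      push_neg at hno
      obtain ⟨W, hW, hzW, -⟩ := exists_isAffineOpen_mem_and_subset (show z ∈ (⊤ : X.Opens) from trivial)
      obtain ⟨ϖ, hϖ⟩ := IsDiscreteValuationRing.exists_irreducible R
      obtain ⟨φ, hφ⟩ := Spec.map_surjective (hW.fromSpec ≫ f)
      let e := φ.hom ϖ
      have hmem : ∀ q : ↥(Spec Γ(X, W)), f (hW.fromSpec q) = f x ↔ e ∈ (q : PrimeSpectrum Γ(X, W)).asIdeal := fun q ↦ by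
        rw [hx, ← Scheme.Hom.comp_apply, ← hφ]
        show PrimeSpectrum.comap φ.hom q = IsLocalRing.closedPoint R ↔ ϖ ∈ (PrimeSpectrum.comap φ.hom q).asIdeal
        refine ⟨fun h ↦ by rw [h]; exact hϖ.maximalIdeal_eq.ge (Ideal.mem_span_singleton_self ϖ), fun h ↦ PrimeSpectrum.ext ?_⟩
        exact ((IsLocalRing.maximalIdeal.isMaximal R).eq_of_le (PrimeSpectrum.comap φ.hom q).2.ne_top
          (hϖ.maximalIdeal_eq.le.trans ((Ideal.span_singleton_le_iff_mem _).mpr h))).symm
      let Q := hW.primeIdealOf ⟨z, hzW⟩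
      have hQz : hW.fromSpec Q = z := hW.fromSpec_primeIdealOf ⟨z, hzW⟩
      let L := Localization.AtPrime Q.asIdeal
      have hnil : IsNilpotent (algebraMap Γ(X, W) L e) := by
        rw [← mem_nilradical, nilradical_eq_sInf, Ideal.mem_sInf]
        intro p hp
        have : (p : Ideal L).IsPrime := hp
        let q : PrimeSpectrum Γ(X, W) := PrimeSpectrum.comap (algebraMap Γ(X, W) L) ⟨p, hp⟩
        have hq : q.asIdeal ≤ Q.asIdeal := fun a ha ↦ by
          have h1 : algebraMap Γ(X, W) L a ∈ IsLocalRing.maximalIdeal L := IsLocalRing.le_maximalIdeal this.ne_top ha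
          exact (IsLocalization.AtPrime.to_map_mem_maximal_iff L Q.asIdeal a).mp h1
        exact (hmem q).mp (hno _ (hQz ▸ ((PrimeSpectrum.le_iff_specializes q Q).mp hq).map hW.fromSpec.continuous))
      obtain ⟨n, hn⟩ := hnil
      rw [← map_pow, IsLocalization.map_eq_zero_iff Q.asIdeal.primeCompl] at hn
      obtain ⟨⟨s, hs⟩, hsn⟩ := hn
      have hopen := hW.fromSpec.isOpenEmbedding.isOpenMap _ (PrimeSpectrum.basicOpen s).2
      obtain ⟨_, ⟨q, hq, rfl⟩, hqU⟩ := hdense.inter_open_nonempty _ hopen ⟨z, Q, hs, hQz⟩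
      have hnotin : e ∉ (q : PrimeSpectrum Γ(X, W)).asIdeal := fun h ↦ by
        have h1 := (hqU : f (hW.fromSpec q) = _).symm.trans (((hmem q).mpr h).trans hx)
        rw [hgenpt] at h1
        exact IsDiscreteValuationRing.not_a_field R (congrArg PrimeSpectrum.asIdeal h1).symm
      refine ((q : PrimeSpectrum Γ(X, W)).2.mem_or_mem (show s * e ^ n ∈ (q : PrimeSpectrum Γ(X, W)).asIdeal by
        rw [show s * e ^ n = 0 from hsn]; exact zero_mem _)).elim hq fun h ↦ hnotin (Ideal.IsPrime.mem_of_pow_mem inferInstance n h)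
  · -- the local ring at the generic point is a field
    have hfx : f x = (⟨⊥, Ideal.isPrime_bot⟩ : PrimeSpectrum R) := by
      by_contra h
      exact hx (PrimeSpectrum.ext (IsLocalRing.eq_maximalIdeal
        (Ideal.IsPrime.isMaximal (show PrimeSpectrum R from f x).2 fun h' ↦ h (PrimeSpectrum.ext h'))))
    have hgx : f x = genericPoint (Spec (CommRingCat.of R)) := hfx.trans hgenpt.symm
    have : IsField ((Spec (CommRingCat.of R)).presheaf.stalk (f x)) := by
      rw [hgx]; exact Field.toIsField (Spec (CommRingCat.of R)).functionField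
    letI := this.toField
    letI : Algebra ((Spec (CommRingCat.of R)).presheaf.stalk (f x)) (X.presheaf.stalk x) := (f.stalkMap x).hom.toAlgebra
    exact (inferInstance : Module.Flat ((Spec (CommRingCat.of R)).presheaf.stalk (f x)) (X.presheaf.stalk x))

end Groth.Agent.S10880
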