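import Groth.Statements.S10881
import Groth.Agent.RegFinite.Flat
import Groth.Agent.GoingDown.Dedekind

set_option autoImplicit false
universe u
open CategoryTheory AlgebraicGeometry
open FlatMor

namespace Groth.Agent.S10881

/-- A finite morphism f : X → Y between regular schemes (locally Noetherian with regular local rings)
under which each irreducible component of X dominates some irreducible component of Y is flat, hence
finite locally free. (The published statement asks only that f be dominant; for X the disjoint union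
of the affine line and a point, mapped to the affine line Y by the identity and the inclusion of a
closed point, f is finite and dominant between regular schemes but not flat, and the published
argument uses injectivity of the local ring maps, which holds exactly under the component-wise
dominance assumed here.) -/
theorem result {X Y : Scheme.{u}} (f : X ⟶ Y) [IsFinite f]
    [IsLocallyNoetherian X] [IsLocallyNoetherian Y]
    (hX : ∀ x : X, IsRegularLocalRing (X.presheaf.stalk x))
    (hY : ∀ y : Y, IsRegularLocalRing (Y.presheaf.stalk y))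
    (hdom : ∀ Z ∈ irreducibleComponents (X : Type u), closure (f.base '' Z) ∈ irreducibleComponents (Y : Type u)) :
    Flat f := by
  rw [Flat.iff_flat_stalkMap]
  intro x
  haveI := hX x
  haveI := hY (f x)
  haveI : IsDomain (X.presheaf.stalk x) := Groth.Agent.RegLoc.isDomain (A := X.presheaf.stalk x)
  haveI : IsDomain (Y.presheaf.stalk (f x)) := Groth.Agent.RegLoc.isDomain (A := Y.presheaf.stalk (f x))
  algebraize [(f.stalkMap x).hom]
  haveI : IsLocalHom (algebraMap (Y.presheaf.stalk (f x)) (X.presheaf.stalk x)) := f.toLRSHom.prop x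
  have hinj : Function.Injective (f.stalkMap x).hom := by
    let p : Spec (X.presheaf.stalk x) := (⟨⊥, Ideal.isPrime_bot⟩ : PrimeSpectrum (X.presheaf.stalk x))
    let ξ := X.fromSpecStalk x p
    have hξx : ξ ⤳ x := by
      have : ξ ∈ Set.range (X.fromSpecStalk x) := ⟨p, rfl⟩
      rwa [Scheme.range_fromSpecStalk] at this
    have hmax : Groth.Agent.GoingDown.IsMaximalPt ξ := by
      intro w hw
      obtain ⟨q, rfl⟩ : w ∈ Set.range (X.fromSpecStalk x) := by
        rw [Scheme.range_fromSpecStalk]; exact hw.trans hξx
      refine congrArg _ (PrimeSpectrum.ext (le_antisymm ?_ bot_le))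
      exact (PrimeSpectrum.le_iff_specializes q p).mpr
        ((X.fromSpecStalk x).isEmbedding.isInducing.specializes_iff.mp hw)
    have hfmax : Groth.Agent.GoingDown.IsMaximalPt (f ξ) := by
      refine Groth.Agent.GoingDown.isMaximalPt_genericPoint
        (hdom _ (Groth.Agent.GoingDown.closure_mem_irreducibleComponents hmax)) ?_
      show closure {f ξ} = closure (f '' closure {ξ})
      rw [closure_image_closure f.continuous, Set.image_singleton]
    let p' : Spec (Y.presheaf.stalk (f x)) := Spec.map (f.stalkMap x) p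
    have hfξ : f ξ = Y.fromSpecStalk (f x) p' :=
      (Scheme.Hom.comp_apply _ _ _).symm.trans
        ((congr($(Scheme.SpecMap_stalkMap_fromSpecStalk f (x := x)) p)).symm.trans (Scheme.Hom.comp_apply _ _ _))
    let b : Spec (Y.presheaf.stalk (f x)) := (⟨⊥, Ideal.isPrime_bot⟩ : PrimeSpectrum (Y.presheaf.stalk (f x)))
    have hb : b = p' := (Y.fromSpecStalk (f x)).isEmbedding.injective <| by
      rw [← hfξ]
      refine hfmax _ ?_
      rw [hfξ]
      exact ((PrimeSpectrum.le_iff_specializes b p').mp bot_le).map (Y.fromSpecStalk (f x)).continuous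
    rw [injective_iff_map_eq_zero]
    intro a ha
    have h1 : a ∈ p'.asIdeal := ha
    rw [← hb] at h1
    exact h1
  obtain ⟨W, hW, hxW, -⟩ :=
    exists_isAffineOpen_mem_and_subset (U := ⊤) (show f x ∈ (⊤ : Y.Opens) from trivial)
  have hV : IsAffineOpen (f ⁻¹ᵁ W) := hW.preimage f
  classical
  letI : Algebra Γ(Y, W) Γ(X, f ⁻¹ᵁ W) := (f.app W).hom.toAlgebra
  haveI : Module.Finite Γ(Y, W) Γ(X, f ⁻¹ᵁ W) := f.finite_app W hW
  obtain ⟨s, hs⟩ := Module.Finite.fg_top (R := Γ(Y, W)) (M := Γ(X, f ⁻¹ᵁ W))
  let g := (X.presheaf.germ (f ⁻¹ᵁ W) x hxW).hom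
  have hsq : ∀ a, (f.stalkMap x).hom ((Y.presheaf.germ W (f x) hxW).hom a) = g ((f.app W).hom a) :=
    fun a => Scheme.Hom.germ_stalkMap_apply f W x hxW a
  have hmem : ∀ b, g b ∈ Algebra.adjoin (Y.presheaf.stalk (f x)) ((s.image g : Finset _) : Set _) := by
    intro b
    have hb : b ∈ Submodule.span Γ(Y, W) (s : Set Γ(X, f ⁻¹ᵁ W)) := hs ▸ Submodule.mem_top
    induction hb using Submodule.span_induction with
    | mem z hz => exact Algebra.subset_adjoin (Finset.mem_coe.mpr (Finset.mem_image_of_mem g hz))
    | zero => rw [map_zero]; exact zero_mem _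
    | add z w _ _ hz hw => rw [map_add]; exact add_mem hz hw
    | smul a z _ hz =>
      rw [Algebra.smul_def, map_mul]
      refine mul_mem ?_ hz
      show g ((f.app W).hom a) ∈ _
      rw [← hsq]
      exact Subalgebra.algebraMap_mem _ _
  refine Groth.Agent.RegFinite.flat_of_ess_finite hinj (s.image g) (fun z hz => ?_) (fun z => ?_)
  · obtain ⟨b, -, rfl⟩ := Finset.mem_image.mp hz
    exact (Algebra.IsIntegral.isIntegral (R := Γ(Y, W)) b).map_of_comp_eq
      (Y.presheaf.germ W (f x) hxW).hom g (RingHom.ext fun a => hsq a)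
  · letI := TopCat.Presheaf.algebra_section_stalk X.presheaf (⟨x, hxW⟩ : (f ⁻¹ᵁ W : X.Opens))
    haveI := hV.isLocalization_stalk ⟨x, hxW⟩
    obtain ⟨⟨a, b⟩, e⟩ := IsLocalization.surj (hV.primeIdealOf ⟨x, hxW⟩).asIdeal.primeCompl z
    exact ⟨g a, hmem a, g b, hmem b, IsLocalization.map_units (X.presheaf.stalk x) b, e⟩

end Groth.Agent.S10881
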