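import Groth.Statements.S10884
import Groth.Agent.FlatDim.DimAdd

set_option autoImplicit false
set_option linter.style.haveILetI false
set_option backward.isDefEq.respectTransparency false
open Groth.Agent
universe u
open CategoryTheory AlgebraicGeometry
open Variety

namespace Groth.Agent.S10884

/-- Let Y be a scheme of finite type over a field k and f : X → Y a dominant morphism of finite type all
of whose non-empty fibres have dimension r. Then dim X = r + dim Y. -/
theorem result (k : Type u) [Field k] {X Y : Scheme.{u}}
    (q : Y ⟶ Spec (CommRingCat.of k)) [LocallyOfFiniteType q] [QuasiCompact q]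
    (f : X ⟶ Y) [LocallyOfFiniteType f] [QuasiCompact f] (hdom : DenseRange f.base) (r : ℕ)
    (hfib : ∀ y : Y, (f.base ⁻¹' {y}).Nonempty → topologicalKrullDim (f.base ⁻¹' {y}) = r) :
    topologicalKrullDim X = (r : WithBot ℕ∞) + topologicalKrullDim Y := by
  refine le_antisymm (FlatDim.dim_le_add q f r fun x => ?_) (FlatDim.add_dim_le q f r fun η hη => ?_)
  · rw [← FlatDim.fibre_set_dim, hfib (f x) ⟨x, rfl⟩]
  · rw [← FlatDim.fibre_set_dim, hfib η (FlatDim.mem_range_of_isMaxPt f hη (hdom η))]

end Groth.Agent.S10884
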