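import Groth.Statements.S10886
import Groth.Agent.CurveDiv.Basic
import Groth.Agent.LangMap.Main

set_option autoImplicit false
universe u
open CategoryTheory AlgebraicGeometry
open Curves

namespace Groth.Agent.S10886

open AlgebraicGeometry in
theorem closed_of_ne_generic {X : Scheme.{u}} [IsNoetherian X] [IrreducibleSpace ↥X]
    (hX : topologicalKrullDim ↥X = 1) (z : X) (hz : z ≠ genericPoint ↥X) : IsClosed ({z} : Set X) := by
  by_contra hcl
  obtain ⟨c, hc, hcc⟩ := (isClosed_closure (s := ({z} : Set X))).exists_closed_singleton ⟨z, subset_closure rfl⟩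
  let A : TopologicalSpace.IrreducibleCloseds ↥X := ⟨{c}, isIrreducible_singleton, hcc⟩
  let B : TopologicalSpace.IrreducibleCloseds ↥X := ⟨closure {z}, isIrreducible_singleton.closure, isClosed_closure⟩
  let T : TopologicalSpace.IrreducibleCloseds ↥X := ⟨Set.univ, IrreducibleSpace.isIrreducible_univ _, isClosed_univ⟩
  have h1 : A < B := lt_of_le_of_ne (Set.singleton_subset_iff.2 hc) fun e => hcl (by
    have hzA : z ∈ (A : Set X) := by rw [e]; exact subset_closure rfl
    rw [Set.mem_singleton_iff.1 hzA]; exact hcc)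
  have h2 : B < T := lt_of_le_of_ne (fun _ _ => trivial) fun e => hz (by
    have hg : IsGenericPoint z (Set.univ : Set X) := congrArg SetLike.coe e
    exact hg.eq (genericPoint_spec ↥X))
  let l : LTSeries (TopologicalSpace.IrreducibleCloseds ↥X) :=
    ((RelSeries.singleton _ A).snoc B h1).snoc T (by simpa using h2)
  have h3 : ((2 : ℕ) : WithBot ℕ∞) ≤ topologicalKrullDim ↥X := Order.le_krullDim_iff.mpr ⟨l, rfl⟩
  rw [hX] at h3
  have h4 : (2 : ℕ) ≤ 1 := by exact_mod_cast h3
  omega


/-- In an irreducible Noetherian scheme of dimension one every constructible subset is either a finite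
set of closed points or the complement of such a set; in particular it is open or closed. -/
theorem result {X : Scheme.{u}} [IsNoetherian X]
    [IrreducibleSpace X] (hX : topologicalKrullDim X = 1) (s : Set X) (hs : Topology.IsConstructible s) :
    (s.Finite ∧ (∀ x ∈ s, IsClosed ({x} : Set X))) ∨ (sᶜ.Finite ∧ ∀ x ∈ sᶜ, IsClosed ({x} : Set X)) := by
  classical
  have hfin : ∀ T : Set X, IsClosed T → genericPoint ↥X ∉ T → T.Finite ∧ ∀ x ∈ T, IsClosed ({x} : Set X) := by
    intro T hT hη
    have hc : ∀ x ∈ T, IsClosed ({x} : Set X) := fun x hx => closed_of_ne_generic hX x fun e => hη (e ▸ hx)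
    refine ⟨(Groth.Agent.CurveDiv.finite_of_forall_isClosed ⊤ ⟨Tᶜ, hT.isOpen_compl⟩
      fun z _ hz => hc z (not_not.1 hz)).subset fun z hz => ⟨trivial, not_not.2 hz⟩, hc⟩
  have hgen : ∀ t : Set X, Topology.IsConstructible t → genericPoint ↥X ∈ t → genericPoint ↥X ∉ closure tᶜ := by
    intro t ht h hc
    obtain ⟨U, hU, hne, hUt⟩ := Groth.Agent.LangMap.exists_open_subset_of_genericPoint ht h
    obtain ⟨w, hwU, hwt⟩ := mem_closure_iff.1 hc U hU
      (((genericPoint_spec ↥X).mem_open_set_iff hU).2 (by simpa using hne))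
    exact hwt (hUt hwU)
  by_cases hη : genericPoint ↥X ∈ s
  · right
    have hd : genericPoint ↥X ∉ closure sᶜ := hgen s hs hη
    exact ⟨(hfin _ isClosed_closure hd).1.subset subset_closure, fun x hx => (hfin _ isClosed_closure hd).2 x (subset_closure hx)⟩
  · left
    have hd : genericPoint ↥X ∉ closure s := by simpa using hgen sᶜ hs.compl hη
    exact ⟨(hfin _ isClosed_closure hd).1.subset subset_closure, fun x hx => (hfin _ isClosed_closure hd).2 x (subset_closure hx)⟩

end Groth.Agent.S10886
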