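import Groth.Statements.S10887
import Groth.Agent.GoingDown.Dedekind

set_option autoImplicit false
universe u
open CategoryTheory AlgebraicGeometry
open FlatMor

namespace Groth.Agent.S10887

/-- (i) ⇔ (iii): let Y be a Dedekind scheme — an integral Noetherian scheme of dimension at most one all
of whose local rings are regular — and f : X → Y a morphism of schemes with X reduced. Then f is
flat if and only if every irreducible component of X dominates Y. (Without reducedness only the
forward implication holds.) -/
theorem result {X Y : Scheme.{u}} [IsIntegral Y]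
    [IsNoetherian Y] (hreg : ∀ y : Y, IsRegularLocalRing (Y.presheaf.stalk y)) (hdim : topologicalKrullDim Y ≤ 1)
    (f : X ⟶ Y) [IsReduced X] :
    Flat f ↔ ∀ Z ∈ irreducibleComponents (X : Type u), Dense (f.base '' Z) := by
  have hηmax : Groth.Agent.GoingDown.IsMaximalPt (genericPoint Y) := fun w hw ↦
    (hw.antisymm ((genericPoint_spec Y).specializes trivial)).eq
  constructor
  · intro _ Z hZ
    have hgen := hZ.1.isGenericPoint_genericPoint (isClosed_of_mem_irreducibleComponents Z hZ)
    set ξ := hZ.1.genericPoint
    obtain ⟨w, hw, hfw⟩ := Flat.generalizingMap f ((genericPoint_spec Y).specializes (trivial : f ξ ∈ Set.univ))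
    have := Groth.Agent.GoingDown.isMaximalPt_genericPoint hZ hgen w hw
    subst this
    rw [dense_iff_closure_eq, ← Set.univ_subset_iff, ← (genericPoint_spec Y).def, ← hfw]
    exact closure_mono (Set.singleton_subset_iff.mpr ⟨_, hgen.mem, rfl⟩)
  · intro h
    refine (Flat.iff_flat_stalkMap f).mpr fun x ↦ ?_
    have hd : ringKrullDim (Y.presheaf.stalk (f x)) ≤ 1 := by
      rw [← PrimeSpectrum.topologicalKrullDim_eq_ringKrullDim]
      exact (Topology.IsInducing.topologicalKrullDim_le (Y.fromSpecStalk (f x)).isEmbedding.isInducing).trans hdim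
    obtain ⟨hdom, hpid⟩ := @Groth.Agent.GoingDown.isPrincipalIdealRing_of_regular _ _ (hreg (f x)) hd
    refine Groth.Agent.GoingDown.flat_stalkMap_of_maximal f x fun ξ hξ _ ↦ ?_
    have hd := h _ (Groth.Agent.GoingDown.closure_mem_irreducibleComponents hξ)
    have : f ξ = genericPoint Y := by
      refine hηmax _ (specializes_iff_mem_closure.mpr (closure_minimal ?_ isClosed_closure (hd _)))
      rintro _ ⟨w, hw, rfl⟩
      exact specializes_iff_mem_closure.mp ((specializes_iff_mem_closure.mpr hw).map f.continuous)
    rw [this]
    exact hηmax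

end Groth.Agent.S10887
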