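import Groth.Statements.S10889
import Groth.Agent.GeomRedAt.DimZero

set_option autoImplicit false
universe u
open CategoryTheory AlgebraicGeometry
open FlatMor

namespace Groth.Agent.S10889

/-- Let f : X → Y be proper, flat and of finite presentation, and let V be the set of points of Y whose
fibre is (non-empty and) zero-dimensional. Then V is a clopen subset of Y, and over every open
subset of V the restriction of f is finite, hence finite locally free. -/
theorem result {X Y : Scheme.{u}} (f : X ⟶ Y) [IsProper f] [Flat f]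
    [LocallyOfFinitePresentation f] :
    IsClopen {y : Y | topologicalKrullDim (f.base ⁻¹' {y}) = 0} ∧
      ∀ U : Y.Opens, (U : Set Y) ⊆ {y : Y | topologicalKrullDim (f.base ⁻¹' {y}) = 0} → IsFinite (f ∣_ U) := by
  have hdim : ∀ y, topologicalKrullDim ↥(f.base ⁻¹' {y}) = topologicalKrullDim ↥(f.fiber y) := fun y ↦
    ((f.fiberHomeo y).isHomeomorph.topologicalKrullDim_eq _).symm
  simp only [hdim]
  have heq : {y : Y | topologicalKrullDim ↥(f.fiber y) = 0} = {y | topologicalKrullDim ↥(f.fiber y) ≤ 0} ∩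
      {y | ⊥ < topologicalKrullDim ↥(f.fiber y)} := by
    ext y
    simp only [Set.mem_setOf_eq, Set.mem_inter_iff]
    constructor
    · intro h; rw [h]; exact ⟨le_rfl, WithBot.bot_lt_coe _⟩
    · rintro ⟨h1, h2⟩
      refine le_antisymm h1 ?_
      cases h : topologicalKrullDim ↥(f.fiber y) with
      | bot => rw [h] at h2; exact absurd h2 (lt_irrefl _)
      | coe a => exact WithBot.coe_le_coe.mpr (zero_le)
  have ho : ∀ c : WithBot ℕ∞, IsOpen {y : Y | topologicalKrullDim ↥(f.fiber y) ≤ c} := fun c ↦ S0403.result f c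
  have ho' : ∀ c : WithBot ℕ∞, IsOpen {y : Y | c < topologicalKrullDim ↥(f.fiber y)} := fun c ↦ S0404.result f c
  have hclopen : ∀ c : WithBot ℕ∞, IsClopen {y : Y | topologicalKrullDim ↥(f.fiber y) ≤ c} := fun c ↦
    ⟨⟨by simpa only [Set.compl_setOf, not_le] using ho' c⟩, ho c⟩
  refine ⟨?_, fun U hU ↦ DimZero.isFinite_of_dim (f ∣_ U) fun u ↦ ?_⟩
  · rw [heq]
    refine (hclopen 0).inter ⟨⟨?_⟩, ho' ⊥⟩
    simpa only [Set.compl_setOf, not_lt] using ho ⊥
  · rw [DimField.dim_fiber_eq_of_isPullback (isPullback_morphismRestrict f U).flip]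
    exact (hU u.2).le

end Groth.Agent.S10889
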