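import Groth.Statements.S10891
import Mathlib.RingTheory.RootsOfUnity.PrimitiveRoots
import Mathlib.Algebra.MvPolynomial.CommRing
import Mathlib.Tactic.Ring
import Mathlib.Tactic.FinCases

set_option autoImplicit false
universe u
open CAlg

namespace Groth.Agent.S10891

/-- Let k be a field containing a primitive r-th root of unity ζ and 0 < a < r. The cyclic group of r-th
roots of unity acts on k[X, Y] through the generator X ↦ ζ⁻¹ X, Y ↦ ζ^(−a) Y, and the ring of
invariants of this action is generated as a k-algebra by the monomials X^i Y^j with 0 ≤ i, j ≤ r,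
(i, j) ≠ (r, r) and i + a·j ≡ 0 (mod r). (The printed statement writes n for the order of the group,
which the surrounding section calls r.) -/
theorem result (k : Type u) [Field k] (r a : ℕ) (ha : 0 < a) (har : a < r)
    (ζ : k) (hζ : IsPrimitiveRoot ζ r) (p : MvPolynomial (Fin 2) k) :
    MvPolynomial.aeval (fun i : Fin 2 => if i = 0 then MvPolynomial.C ζ⁻¹ * MvPolynomial.X 0
        else MvPolynomial.C (ζ⁻¹ ^ a) * (MvPolynomial.X 1 : MvPolynomial (Fin 2) k)) p = p ↔
      p ∈ Algebra.adjoin k {q : MvPolynomial (Fin 2) k | ∃ i j : ℕ, i ≤ r ∧ j ≤ r ∧ ¬ (i = r ∧ j = r) ∧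
        r ∣ i + a * j ∧ q = MvPolynomial.X 0 ^ i * MvPolynomial.X 1 ^ j} := by
  classical
  have hζ0 : ζ ≠ 0 := hζ.ne_zero (by omega)
  let σ : MvPolynomial (Fin 2) k →ₐ[k] MvPolynomial (Fin 2) k := MvPolynomial.aeval (fun i : Fin 2 => if i = 0 then MvPolynomial.C ζ⁻¹ * MvPolynomial.X 0
        else MvPolynomial.C (ζ⁻¹ ^ a) * (MvPolynomial.X 1 : MvPolynomial (Fin 2) k))
  show σ p = p ↔ _
  have hmon : ∀ i j : ℕ, (MvPolynomial.X 0 ^ i * MvPolynomial.X 1 ^ j : MvPolynomial (Fin 2) k) = MvPolynomial.monomial (Finsupp.single 0 i + Finsupp.single 1 j) 1 := by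
    intro i j
    rw [MvPolynomial.X_pow_eq_monomial, MvPolynomial.X_pow_eq_monomial, MvPolynomial.monomial_mul, one_mul]
  have hσ : ∀ (d : Fin 2 →₀ ℕ) (c : k), σ (MvPolynomial.monomial d c) = MvPolynomial.monomial d (c * ζ⁻¹ ^ (d 0 + a * d 1)) := by
    intro d c
    have hd : d = Finsupp.single 0 (d 0) + Finsupp.single 1 (d 1) := by
      ext i
      fin_cases i <;> simp
    rw [show MvPolynomial.monomial d c = MvPolynomial.C c * (MvPolynomial.X 0 ^ (d 0) * MvPolynomial.X 1 ^ (d 1)) by rw [hmon, ← hd, MvPolynomial.C_mul_monomial, mul_one]]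
    simp only [map_mul, map_pow, σ, MvPolynomial.aeval_C, MvPolynomial.aeval_X, if_pos, if_neg (show (1 : Fin 2) ≠ 0 by decide), MvPolynomial.algebraMap_eq]
    conv_rhs => rw [show c * ζ⁻¹ ^ (d 0 + a * d 1) = (c * ζ⁻¹ ^ (d 0) * (ζ⁻¹ ^ a) ^ (d 1)) * 1 by rw [pow_add, pow_mul]; ring, ← MvPolynomial.C_mul_monomial, hd, ← hmon]
    simp only [Finsupp.add_apply, Finsupp.single_eq_same, Finsupp.single_eq_of_ne, ne_eq, Fin.isValue, map_mul, map_pow, zero_ne_one, one_ne_zero, not_false_eq_true, add_zero, zero_add]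
    ring
  constructor
  · intro h
    rw [p.as_sum]
    refine Subalgebra.sum_mem _ fun d hd => ?_
    have hc : p.coeff d * ζ⁻¹ ^ (d 0 + a * d 1) = p.coeff d := by
      have h1 := congrArg (MvPolynomial.coeff d) h
      conv_lhs at h1 => rw [p.as_sum, map_sum, MvPolynomial.coeff_sum]
      rw [Finset.sum_eq_single d (fun b _ hb => by rw [hσ, MvPolynomial.coeff_monomial, if_neg hb]) (fun h' => absurd hd h'), hσ, MvPolynomial.coeff_monomial, if_pos rfl] at h1
      exact h1
    have hr : r ∣ d 0 + a * d 1 := by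
      rw [← (hζ.inv).pow_eq_one_iff_dvd]
      exact mul_left_cancel₀ (MvPolynomial.mem_support_iff.mp hd) (hc.trans (mul_one _).symm)
    rw [show MvPolynomial.monomial d (p.coeff d) = algebraMap k _ (p.coeff d) * (MvPolynomial.X 0 ^ (d 0) * MvPolynomial.X 1 ^ (d 1)) by
      rw [hmon, show Finsupp.single 0 (d 0) + Finsupp.single 1 (d 1) = d by (ext i; fin_cases i <;> simp), MvPolynomial.algebraMap_eq, MvPolynomial.C_mul_monomial, mul_one]]
    refine mul_mem (Subalgebra.algebraMap_mem _ _) ?_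
    rw [← Nat.div_add_mod (d 0) r, ← Nat.div_add_mod (d 1) r, pow_add, pow_add, pow_mul, pow_mul,
      show ∀ A B C D : MvPolynomial (Fin 2) k, A * B * (C * D) = A * C * (B * D) from fun A B C D => by ring]
    refine mul_mem (mul_mem (pow_mem (Algebra.subset_adjoin ?_) _) (pow_mem (Algebra.subset_adjoin ?_) _)) (Algebra.subset_adjoin ?_)
    · exact ⟨r, 0, le_rfl, Nat.zero_le _, by omega, by simp, by simp⟩
    · exact ⟨0, r, Nat.zero_le _, le_rfl, by omega, by simp, by simp⟩
    · refine ⟨d 0 % r, d 1 % r, (Nat.mod_lt _ (by omega)).le, (Nat.mod_lt _ (by omega)).le, ?_, ?_, rfl⟩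
      · intro h'
        exact (Nat.mod_lt (d 0) (show r > 0 by omega)).ne h'.1
      · rw [Nat.dvd_iff_mod_eq_zero, Nat.add_mod, Nat.mul_mod, Nat.mod_mod, Nat.mod_mod, ← Nat.mul_mod, ← Nat.add_mod]
        exact Nat.dvd_iff_mod_eq_zero.mp hr
  · intro h
    induction h using Algebra.adjoin_induction with
    | mem x hx =>
      obtain ⟨i, j, -, -, -, hr, rfl⟩ := hx
      rw [hmon, hσ]
      simp only [Finsupp.add_apply, Finsupp.single_eq_same, Finsupp.single_eq_of_ne, ne_eq, Fin.isValue, zero_ne_one, one_ne_zero, not_false_eq_true, add_zero, zero_add]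
      rw [(hζ.inv).pow_eq_one_iff_dvd _ |>.mpr hr, mul_one]
    | algebraMap c => exact AlgHom.commutes σ c
    | add x y _ _ hx hy => rw [map_add, hx, hy]
    | mul x y _ _ hx hy => rw [map_mul, hx, hy]

end Groth.Agent.S10891
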