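import Groth.Statements.S10892
import Groth.Agent.MeroLib.Basic
import Groth.Agent.MeroLib.RegStalk

set_option autoImplicit false
universe u
open CategoryTheory AlgebraicGeometry
open Curves

set_option backward.isDefEq.respectTransparency false
set_option backward.isDefEq.respectTransparency.types false

namespace Groth.Agent.S10892

/-- On an absolute curve C (Noetherian, local rings at closed points one-dimensional) the map sending a
divisor to its germs at the closed points is an isomorphism from Div(C) onto the direct sum over the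
closed points x of the groups K_{C,x}^× / O_{C,x}^× (K_{C,x} the total ring of fractions of the
local ring). With divisors realised as families of germs, this says: a family of germs is a divisor
exactly when it is trivial outside a finite set of closed points. -/
theorem result {C : Scheme.{u}} [IsNoetherian C]
    (hC : ∀ x : C, IsClosed ({x} : Set C) → ringKrullDim (C.presheaf.stalk x) = 1)
    (g : ∀ x : C, Mero.Germ C x) :
    g ∈ Mero.divisorGroup C ↔ ({x : C | g x ≠ 1}.Finite ∧ ∀ x : C, ¬ IsClosed ({x} : Set C) → g x = 1) := by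
  classical
  -- local rings at non-closed points are zero-dimensional
  have hreg : ∀ y : C, ¬ IsClosed ({y} : Set C) → ∀ σ ∈ nonZeroDivisors (C.presheaf.stalk y), IsUnit σ := by
    intro y hy σ hσ
    obtain ⟨x, hxy, hx⟩ := IsClosed.exists_closed_singleton (isClosed_closure (s := ({y} : Set C)))
      ⟨y, subset_closure rfl⟩
    have hspec : y ⤳ x := specializes_iff_mem_closure.2 hxy
    have hne : x ≠ y := fun e => hy (e ▸ hx)
    have hlt : x < y := lt_of_le_not_ge hspec fun h => hne (Specializes.antisymm h hspec).eq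
    have h1 : Order.coheight x = 1 := by
      have h := hC x hx
      rw [ringKrullDim_stalk_eq_coheight] at h
      exact_mod_cast h
    have h2 := Order.coheight_add_one_le hlt
    rw [h1] at h2
    have h3 : Order.coheight y = 0 := by
      refine nonpos_iff_eq_zero.1 (WithTop.le_of_add_le_add_right (z := (1 : ℕ∞)) (by simp) ?_)
      rw [zero_add]
      exact h2
    haveI : Ring.KrullDimLE 0 (C.presheaf.stalk y) := krullDimLE_of_coheight_le h3.le
    by_contra hu
    obtain ⟨n, hn⟩ := Ring.KrullDimLE.isNilpotent_iff_mem_maximalIdeal.2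
      ((IsLocalRing.mem_maximalIdeal σ).2 hu)
    exact zero_notMem_nonZeroDivisors (hn ▸ pow_mem hσ n)
  have hgerm : ∀ y : C, ¬ IsClosed ({y} : Set C) → ∀ q : Mero.Germ C y, q = 1 := by
    intro y hy q
    obtain ⟨u, rfl⟩ := QuotientGroup.mk_surjective q
    obtain ⟨⟨a, s⟩, h⟩ := IsLocalization.surj (Mero.regStalk C y) (u : Mero.KStalk C y)
    obtain ⟨W, hyW, b, hb, hbs⟩ := s.2
    have hs : IsUnit (s : C.presheaf.stalk y) := hreg y hy _ (hbs ▸ hb ⟨y, hyW⟩)
    have ha : IsUnit a := hreg y hy a (MeroLib.regular_of_isUnit u.isUnit s.2 h)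
    rw [← QuotientGroup.mk_one]
    refine (MeroLib.mk_eq_mk_iff _ _).2 ⟨(hs.unit * ha.unit⁻¹ : (C.presheaf.stalk y)ˣ), Units.isUnit _, ?_⟩
    have e : (u : Mero.KStalk C y) * MeroLib.iK y (s : C.presheaf.stalk y) = MeroLib.iK y a := h
    rw [Units.val_one, Units.val_mul, map_mul, ← mul_assoc, show (hs.unit : C.presheaf.stalk y) = s from rfl, e,
      ← map_mul, show a * (ha.unit⁻¹ : (C.presheaf.stalk y)ˣ) = 1 from ha.mul_val_inv, map_one]
  -- the zero locus of a regular section is finite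
  have hfin : ∀ (W : C.Opens) (a : Γ(C, W)), a ∈ Mero.regSub C W →
      {y : C | y ∈ W ∧ y ∉ C.basicOpen a}.Finite := by
    intro W a ha
    set Z := {y : C | y ∈ W ∧ y ∉ C.basicOpen a}
    have hcl : ∀ y ∈ Z, IsClosed ({y} : Set C) := fun y hy => by
      by_contra h
      exact hy.2 ((C.mem_basicOpen a y hy.1).2 (hreg y h _ (ha ⟨y, hy.1⟩)))
    obtain ⟨T, hTf, hTc, hTi, hT⟩ :=
      TopologicalSpace.NoetherianSpace.exists_finite_set_isClosed_irreducible (isClosed_closure (s := Z))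
    choose η hη using fun t : T => QuasiSober.sober (hTi t.1 t.2) (hTc t.1 t.2)
    haveI := hTf.to_subtype
    refine (Set.finite_range η).subset fun z hz => ?_
    obtain ⟨t, ht, hzt⟩ := Set.mem_sUnion.1 (hT.subset (subset_closure hz))
    have hsp : η ⟨t, ht⟩ ⤳ z := (hη ⟨t, ht⟩).specializes hzt
    have hW : η ⟨t, ht⟩ ∈ W := hsp.mem_open W.2 hz.1
    have hb : η ⟨t, ht⟩ ∉ C.basicOpen a := fun hb => by
      obtain ⟨w, hw, hwZ⟩ := mem_closure_iff.1 (hT.ge (Set.mem_sUnion.2 ⟨t, ht, (hη ⟨t, ht⟩).mem⟩))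
        _ (C.basicOpen a).2 hb
      exact hwZ.2 hw
    refine ⟨⟨t, ht⟩, ?_⟩
    exact (Set.mem_singleton_iff.1 ((hcl _ ⟨hW, hb⟩).closure_eq ▸ specializes_iff_mem_closure.1 hsp)).symm
  have hfinclosed : ∀ S : Set C, S.Finite → (∀ y ∈ S, IsClosed ({y} : Set C)) → IsClosed S := fun S hS h => by
    rw [← Set.biUnion_of_singleton S]
    exact hS.isClosed_biUnion h
  constructor
  · intro hg
    refine ⟨?_, fun x hx => hgerm x hx _⟩
    have key : ∀ x : C, ∃ U : C.Opens, x ∈ U ∧ {y : C | y ∈ U ∧ g y ≠ 1}.Finite := by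
      intro x
      obtain ⟨U, hxU, f, hf⟩ := hg x
      obtain ⟨W, hWU, a, b, -, hxW, hb, h⟩ := MeroLib.exists_frac (f : Γ(Mero.kmod C, U)) ⟨x, hxU⟩
      have ha : a ∈ Mero.regSub C W := fun y =>
        MeroLib.regular_of_isUnit (Units.map (Mero.evalK C U ⟨y.1, hWU y.2⟩).toMonoidHom f).isUnit
          (Mero.germ_mem_regStalk y hb) (h y)
      refine ⟨W, hxW, ((hfin W a ha).union (hfin W b hb)).subset ?_⟩
      rintro y ⟨hyW, hne⟩
      by_contra hcon
      simp only [Set.mem_union, Set.mem_setOf_eq, hyW, true_and, not_or, not_not] at hcon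
      have hua := (C.mem_basicOpen a y hyW).1 hcon.1
      have hub := (C.mem_basicOpen b y hyW).1 hcon.2
      refine hne ((hf ⟨y, hWU hyW⟩).trans ?_)
      rw [← QuotientGroup.mk_one]
      refine (MeroLib.mk_eq_mk_iff _ _).2 ⟨(hub.unit * hua.unit⁻¹ : (C.presheaf.stalk y)ˣ), Units.isUnit _, ?_⟩
      have e : (f : Γ(Mero.kmod C, U)).1 ⟨y, hWU hyW⟩ * MeroLib.iK y (MeroLib.gO y hyW b) =
          MeroLib.iK y (MeroLib.gO y hyW a) := h ⟨y, hyW⟩
      show 1 = (f : Γ(Mero.kmod C, U)).1 ⟨y, hWU hyW⟩ * _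
      rw [Units.val_mul, map_mul, ← mul_assoc]
      change 1 = _ * MeroLib.iK y (MeroLib.gO y hyW b) * _
      rw [e, ← map_mul, show MeroLib.gO y hyW a * (hua.unit⁻¹ : (C.presheaf.stalk y)ˣ) = 1 from hua.mul_val_inv,
        map_one]
    choose U hxU hU using key
    obtain ⟨t, ht⟩ := isCompact_univ.elim_finite_subcover (fun x : C => (U x : Set C)) (fun x => (U x).2)
      (fun x _ => Set.mem_iUnion.2 ⟨x, hxU x⟩)
    refine ((t.finite_toSet).biUnion fun x _ => hU x).subset fun y hy => ?_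
    obtain ⟨x, hx, hyx⟩ := Set.mem_iUnion₂.1 (ht (Set.mem_univ y))
    exact Set.mem_iUnion₂.2 ⟨x, hx, hyx, hy⟩
  · rintro ⟨hE, hg⟩
    intro x
    have hEc : ∀ y ∈ {x : C | g x ≠ 1}, IsClosed ({y} : Set C) := fun y hy => by
      by_contra h
      exact hy (hg y h)
    by_cases hx : x ∈ {x : C | g x ≠ 1}
    swap
    · refine ⟨⟨_, (hfinclosed _ hE hEc).isOpen_compl⟩, hx, 1, fun y => ?_⟩
      rw [Mero.germOf, map_one, QuotientGroup.mk_one]
      exact not_not.1 y.2
    obtain ⟨u, hu⟩ := QuotientGroup.mk_surjective (g x)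
    obtain ⟨⟨a₀, s₀⟩, h⟩ := IsLocalization.surj (Mero.regStalk C x) (u : Mero.KStalk C x)
    obtain ⟨Wb, hxWb, b, hb, hbs⟩ := s₀.2
    obtain ⟨Wa, hxWa, a, ha, has⟩ := MeroLib.mem_regStalk_of_nonZeroDivisor
      (MeroLib.regular_of_isUnit u.isUnit s₀.2 h)
    let W := Wa ⊓ Wb
    let a' := C.presheaf.map (homOfLE (inf_le_left : W ≤ Wa)).op a
    let b' := C.presheaf.map (homOfLE (inf_le_right : W ≤ Wb)).op b
    have ha' : a' ∈ Mero.regSub C W := Mero.regSub_res _ ha
    have hb' : b' ∈ Mero.regSub C W := Mero.regSub_res _ hb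
    let K : Set C := ({x : C | g x ≠ 1} ∪ ({y | y ∈ W ∧ y ∉ C.basicOpen a'} ∪ {y | y ∈ W ∧ y ∉ C.basicOpen b'})) \ {x}
    have hKf : K.Finite := (hE.union ((hfin W a' ha').union (hfin W b' hb'))).subset Set.diff_subset
    have hKc : IsClosed K := hfinclosed K hKf fun y hy => by
      by_contra hn
      rcases hy.1 with h1 | ⟨hyW, h1⟩ | ⟨hyW, h1⟩
      · exact h1 (hg y hn)
      · exact h1 ((C.mem_basicOpen a' y hyW).2 (hreg y hn _ (ha' ⟨y, hyW⟩)))
      · exact h1 ((C.mem_basicOpen b' y hyW).2 (hreg y hn _ (hb' ⟨y, hyW⟩)))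
    let U : C.Opens := W ⊓ ⟨Kᶜ, hKc.isOpen_compl⟩
    have hUW : U ≤ W := inf_le_left
    have hxU : x ∈ U := ⟨⟨hxWa, hxWb⟩, fun h => h.2 rfl⟩
    obtain ⟨φ, hφ⟩ := MeroLib.exists_section (U := U) (fun y : U =>
        (LocalizedModule.mk (MeroLib.gO y.1 (hUW y.2) a')
          ⟨_, Mero.germ_mem_regStalk (⟨y.1, hUW y.2⟩ : W) hb'⟩ : Mero.KStalk C y.1))
      fun z => ⟨U, le_rfl, C.presheaf.map (homOfLE hUW).op a', C.presheaf.map (homOfLE hUW).op b', z.2,
        Mero.regSub_res _ hb', fun y => by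
          simp only [MeroLib.gO, TopCat.Presheaf.germ_res_apply]
          exact MeroLib.mk_mul_iK _ _⟩
    have hφu : IsUnit φ := MeroLib.isUnit_of_regular φ fun z =>
      ⟨U, le_rfl, C.presheaf.map (homOfLE hUW).op a', C.presheaf.map (homOfLE hUW).op b', z.2,
        Mero.regSub_res _ ha', Mero.regSub_res _ hb', fun y => by
          rw [hφ]
          simp only [MeroLib.gO, TopCat.Presheaf.germ_res_apply]
          exact MeroLib.mk_mul_iK _ _⟩
    refine ⟨U, hxU, hφu.unit, fun y => ?_⟩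
    have hv : ((Units.map (Mero.evalK C U y).toMonoidHom hφu.unit : (Mero.KStalk C y.1)ˣ) : Mero.KStalk C y.1) *
        MeroLib.iK y.1 (MeroLib.gO y.1 (hUW y.2) b') = MeroLib.iK y.1 (MeroLib.gO y.1 (hUW y.2) a') := by
      show φ.1 y * _ = _
      rw [hφ]
      exact MeroLib.mk_mul_iK _ _
    obtain ⟨y, hy⟩ := y
    by_cases hyx : y = x
    · subst hyx
      rw [← hu]
      congr 1
      refine Units.ext ((MeroLib.isUnit_iK_of_mem (Mero.germ_mem_regStalk (⟨y, hUW hy⟩ : W) hb')).mul_left_injective ?_)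
      refine Eq.trans ?_ hv.symm
      show (u : Mero.KStalk C y) * MeroLib.iK y (MeroLib.gO y (hUW hy) b') = _
      simp only [a', b', MeroLib.gO]
      erw [TopCat.Presheaf.germ_res_apply C.presheaf (homOfLE inf_le_right) y (hUW hy) b,
        TopCat.Presheaf.germ_res_apply C.presheaf (homOfLE inf_le_left) y (hUW hy) a]
      erw [show (C.presheaf.germ Wb y _).hom b = _ from hbs, show (C.presheaf.germ Wa y _).hom a = _ from has]
      exact h
    · have hnK : ¬ (g y ≠ 1 ∨ (y ∈ W ∧ y ∉ C.basicOpen a') ∨ (y ∈ W ∧ y ∉ C.basicOpen b')) :=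
        fun h' => hy.2 ⟨h', hyx⟩
      push Not at hnK
      obtain ⟨h1, hA, hB⟩ := hnK
      have hua := (C.mem_basicOpen a' y (hUW hy)).1 (hA (hUW hy))
      have hub := (C.mem_basicOpen b' y (hUW hy)).1 (hB (hUW hy))
      rw [h1, ← QuotientGroup.mk_one]
      refine (MeroLib.mk_eq_mk_iff _ _).2 ⟨(hua.unit * hub.unit⁻¹ : (C.presheaf.stalk y)ˣ), Units.isUnit _, ?_⟩
      rw [Units.val_one, one_mul, Units.val_mul, map_mul]
      show _ = MeroLib.iK y (MeroLib.gO y (hUW hy) a') * _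
      rw [← hv, mul_assoc, ← map_mul,
        show MeroLib.gO y (hUW hy) b' * (hub.unit⁻¹ : (C.presheaf.stalk y)ˣ) = 1 from hub.mul_val_inv, map_one, mul_one]

end Groth.Agent.S10892
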