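import Groth.Statements.S10893
import Groth.Agent.CurveDiv.Basic
import Groth.Agent.MeroLib.Special
open Groth.Agent.MeroLib Groth.Agent.CurveDiv

set_option autoImplicit false
universe u
open CategoryTheory AlgebraicGeometry
open Curves

set_option backward.isDefEq.respectTransparency false
namespace Groth.Agent.S10893

/-- Let C be an absolute curve (Noetherian, local rings at closed points one-dimensional) none of whose
points is open, and U ⊆ C an open dense subset. Then there is an effective divisor D on C with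
support contained in U and meeting every irreducible component of C. -/
theorem result {C : Scheme.{u}} [IsNoetherian C]
    (hC : ∀ x : C, IsClosed ({x} : Set C) → ringKrullDim (C.presheaf.stalk x) = 1)
    (hpt : ∀ x : C, ¬ IsOpen ({x} : Set C)) (U : C.Opens) (hU : Dense (U : Set C)) :
    ∃ D : Mero.Divisor C, Mero.IsEffective D ∧ Mero.supp D ⊆ (U : Set C) ∧
      ∀ Z ∈ irreducibleComponents (C : Type u), (Mero.supp D ∩ Z).Nonempty := by
  classical
  have hfin : (irreducibleComponents (C : Type u)).Finite := TopologicalSpace.NoetherianSpace.finite_irreducibleComponents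
  have key : ∀ Z ∈ irreducibleComponents (C : Type u), ∃ (z : C) (t : Mero.regStalk C z),
      z ∈ U ∧ z ∈ Z ∧ IsClosed ({z} : Set C) ∧ ¬ IsUnit (t : C.presheaf.stalk z) := by
    intro Z hZ
    have hZc := isClosed_of_mem_irreducibleComponents Z hZ
    have hZi : IsIrreducible Z := hZ.1
    let others : Set C := ⋃ Z' ∈ irreducibleComponents (C : Type u) \ {Z}, Z'
    have hoc : IsClosed others :=
      hfin.sdiff.isClosed_biUnion fun Z' hZ' => isClosed_of_mem_irreducibleComponents Z' hZ'.1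
    let ξ := hZi.genericPoint
    have hgen : IsGenericPoint ξ Z := by
      have := hZi.isGenericPoint_genericPoint_closure
      rwa [hZc.closure_eq] at this
    have hξo : ξ ∉ others := by
      intro h
      obtain ⟨Z', hZ', hξ'⟩ := Set.mem_iUnion₂.1 h
      have hsub : Z ⊆ Z' := by
        rw [← hgen.def]
        exact closure_minimal (Set.singleton_subset_iff.2 hξ') (isClosed_of_mem_irreducibleComponents Z' hZ'.1)
      exact hZ'.2 (le_antisymm (hZ.2 hZ'.1.1 hsub) hsub)
    have hmem : ∀ w, w ∉ others → ξ ⤳ w := by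
      intro w hw
      obtain ⟨Z', hZ', hwZ'⟩ : ∃ Z' ∈ irreducibleComponents (C : Type u), w ∈ Z' :=
        ⟨irreducibleComponent w, irreducibleComponent_mem_irreducibleComponents w, mem_irreducibleComponent⟩
      have : Z' = Z := by
        by_contra hne
        exact hw (Set.mem_iUnion₂.2 ⟨Z', ⟨hZ', hne⟩, hwZ'⟩)
      exact hgen.specializes (this ▸ hwZ')
    obtain ⟨w, hwo, hwU⟩ := hU.inter_open_nonempty _ hoc.isOpen_compl ⟨ξ, hξo⟩
    have hξU : ξ ∈ U := (hmem w hwo).mem_open U.2 hwU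
    obtain ⟨W, hW, hξW, hWs⟩ := exists_isAffineOpen_mem_and_subset
      (show ξ ∈ (U ⊓ ⟨othersᶜ, hoc.isOpen_compl⟩ : C.Opens) from ⟨hξU, hξo⟩)
    haveI : IsNoetherianRing Γ(C, W) := IsLocallyNoetherian.component_noetherian ⟨W, hW⟩
    let A : Set C := (fun q => hW.fromSpec q) '' {q : PrimeSpectrum Γ(C, W) | q.asIdeal ∈ associatedPrimes Γ(C, W) Γ(C, W)} \ {ξ}
    have hAW : ∀ z ∈ A, z ∈ W := by
      rintro z ⟨⟨q, -, rfl⟩, -⟩
      exact hW.range_fromSpec.subset ⟨q, rfl⟩
    have hAfin : A.Finite := by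
      refine (((associatedPrimes.finite Γ(C, W) Γ(C, W)).preimage ?_).image _).sdiff
      exact fun p _ q _ h => PrimeSpectrum.ext h
    have hclosed : ∀ z ∈ W, z ≠ ξ → IsClosed ({z} : Set C) := fun z hz hne =>
      closed_of_gen hC (hmem z (hWs hz).2) hne.symm
    have hAc : IsClosed A := by
      rw [← Set.biUnion_of_singleton A]
      exact hAfin.isClosed_biUnion fun z hz => hclosed z (hAW z hz) hz.2
    let O : Set C := (W : Set C) ∩ Aᶜ
    obtain ⟨z, ⟨hzW, hzA⟩, hzξ⟩ : ∃ z ∈ O, z ≠ ξ := by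
      by_contra h
      have : O = {ξ} := Set.Subset.antisymm (fun z hz => by_contra fun hne => h ⟨z, hz, hne⟩)
        (Set.singleton_subset_iff.2 ⟨hξW, fun h => h.2 rfl⟩)
      exact hpt ξ (this ▸ W.2.inter hAc.isOpen_compl)
    have hzc := hclosed z hzW hzξ
    letI := TopCat.Presheaf.algebra_section_stalk C.presheaf (⟨z, hzW⟩ : W)
    haveI := hW.isLocalization_stalk ⟨z, hzW⟩
    haveI := (hW.primeIdealOf ⟨z, hzW⟩).isPrime
    have hP : ¬ ((hW.primeIdealOf ⟨z, hzW⟩).asIdeal : Set Γ(C, W)) ⊆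
        (⋃ p ∈ associatedPrimes Γ(C, W) Γ(C, W), (p : Set Γ(C, W))) := by
      intro hsub
      obtain ⟨p, hp, hle⟩ := ((Ideal.subset_union_prime_finite (associatedPrimes.finite Γ(C, W) Γ(C, W)) ⊥ ⊥
        fun p hp _ _ => hp.isPrime).1 hsub)
      haveI := hp.isPrime
      have hzq : hW.fromSpec (hW.primeIdealOf ⟨z, hzW⟩) = z := hW.fromSpec_primeIdealOf ⟨z, hzW⟩
      have hsp : z ⤳ hW.fromSpec ⟨p, inferInstance⟩ := by
        rw [← hzq]
        exact ((PrimeSpectrum.le_iff_specializes _ (⟨p, inferInstance⟩ : PrimeSpectrum Γ(C, W))).1 hle).map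
          hW.fromSpec.continuous
      have e : hW.fromSpec ⟨p, inferInstance⟩ = z := by
        have := specializes_iff_mem_closure.1 hsp
        rwa [hzc.closure_eq] at this
      exact hzA ⟨⟨⟨p, inferInstance⟩, hp, e⟩, hzξ⟩
    obtain ⟨s, hs, hsn⟩ := Set.not_subset.1 hP
    have hsnzd : s ∈ nonZeroDivisors Γ(C, W) := by
      by_contra h
      exact hsn (biUnion_associatedPrimes_eq_compl_nonZeroDivisors Γ(C, W) ▸ h)
    have hreg := mem_regSub_of_nonZeroDivisor hW hsnzd
    exact ⟨z, Mero.regGerm ⟨z, hzW⟩ ⟨s, hreg⟩, (hWs hzW).1, (hmem z (hWs hzW).2).mem_closed hZc hgen.mem, hzc,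
      fun hu => ((IsLocalization.AtPrime.isUnit_to_map_iff (↑(C.presheaf.stalk z) : Type u)
        (hW.primeIdealOf ⟨z, hzW⟩).asIdeal s).1 hu) hs⟩
  choose z t hzU hzZ hzc ht using key
  let S : Set C := Set.range fun Z : irreducibleComponents (C : Type u) => z Z.1 Z.2
  haveI : Finite (irreducibleComponents (C : Type u)) := hfin.to_subtype
  let t' : ∀ c : C, Mero.regStalk C c := fun c => if h : c ∈ S then h.choose_spec ▸ t h.choose.1 h.choose.2 else 1
  obtain ⟨D, hD, hin, hout⟩ := exists_pointDiv hC S (Set.finite_range _) (by rintro c ⟨Z, rfl⟩; exact hzc Z.1 Z.2) t'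
  have hne : ∀ c ∈ S, ¬ IsUnit (t' c : C.presheaf.stalk c) := by
    intro c hc
    have aux : ∀ (c c' : C) (e : c' = c) (w : Mero.regStalk C c'), ¬ IsUnit (w : C.presheaf.stalk c') →
        ¬ IsUnit (((e ▸ w) : Mero.regStalk C c) : C.presheaf.stalk c) := by
      intro c c' e w hw
      subst e
      exact hw
    simp only [t', dif_pos hc]
    exact aux _ _ hc.choose_spec _ (ht _ _)
  refine ⟨D, hD, fun c hc => ?_, fun Z hZ => ⟨z Z hZ, ?_, hzZ Z hZ⟩⟩
  · by_contra hcU
    by_cases hcS : c ∈ S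
    · obtain ⟨Z, rfl⟩ := hcS
      exact hcU (hzU Z.1 Z.2)
    · exact hc (hout c hcS)
  · have hmemS : z Z hZ ∈ S := ⟨⟨Z, hZ⟩, rfl⟩
    intro h
    rw [hin _ hmemS, cls_eq_one_iff] at h
    exact hne _ hmemS h

end Groth.Agent.S10893
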