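import Groth.Statements.S10894
import Groth.Agent.CurveDiv.Basic
open Groth.Agent.MeroLib Groth.Agent.CurveDiv

set_option autoImplicit false
universe u
open CategoryTheory AlgebraicGeometry
open Curves

set_option backward.isDefEq.respectTransparency false
namespace Groth.Agent.S10894

/-- On an absolute curve C (Noetherian, local rings at closed points one-dimensional) every divisor D is
a difference of two effective divisors each supported inside the support of D (divisors are written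
multiplicatively, so the difference is D₁ · D₂⁻¹). -/
theorem result {C : Scheme.{u}} [IsNoetherian C]
    (hC : ∀ x : C, IsClosed ({x} : Set C) → ringKrullDim (C.presheaf.stalk x) = 1) (D : Mero.Divisor C) :
    ∃ D₁ D₂ : Mero.Divisor C, Mero.IsEffective D₁ ∧ Mero.IsEffective D₂ ∧ D = D₁ * D₂⁻¹ ∧
      Mero.supp D₁ ⊆ Mero.supp D ∧ Mero.supp D₂ ⊆ Mero.supp D := by
  classical
  -- a representation of the germ at each point by a numerator and a denominator
  have key : ∀ x : C, ∃ (W : C.Opens) (f : (Γ(Mero.kmod C, W))ˣ) (a b : Γ(C, W)), x ∈ W ∧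
      a ∈ Mero.regSub C W ∧ b ∈ Mero.regSub C W ∧
      (∀ y : W, D.1 y.1 = Mero.germOf f y) ∧
      ∀ y : W, (uval f y : Mero.KStalk C y.1) * iK y.1 (gO y.1 y.2 b) = iK y.1 (gO y.1 y.2 a) := by
    intro x
    obtain ⟨U, f, -, hxU, hf⟩ := exists_local D x
    obtain ⟨W, hWU, a, b, -, hxW, hb, hab⟩ := exists_frac (f : Γ(Mero.kmod C, U)) ⟨x, hxU⟩
    refine ⟨W, Units.map ((Mero.kring C).obj.map (homOfLE hWU).op).hom.toMonoidHom f, a, b, hxW,
      fun y => regular_of_isUnit (uval f ⟨y.1, hWU y.2⟩).isUnit (Mero.germ_mem_regStalk y hb) (hab y), hb,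
      fun y => ?_, fun y => hab y⟩
    rw [hf ⟨y.1, hWU y.2⟩]
    exact congrArg _ (Units.ext rfl)
  choose W f a b hxW ha hb hD hab using key
  have hcls : ∀ (x : C) (y : W x), D.1 y.1 * cls (Mero.regGerm y ⟨b x, hb x⟩) = cls (Mero.regGerm y ⟨a x, ha x⟩) := by
    intro x y
    rw [hD x y, germOf_eq, cls, cls, ← QuotientGroup.mk_mul]
    refine congrArg _ (Units.ext ?_)
    rw [Units.val_mul, IsUnit.unit_spec, IsUnit.unit_spec]
    exact hab x y
  let bad : C → Set C := fun x => {z | z ∈ W x ∧ z ∉ C.basicOpen (a x)} ∪ {z | z ∈ W x ∧ z ∉ C.basicOpen (b x)}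
  have hbadc : ∀ x z, z ∈ bad x → IsClosed ({z} : Set C) := by
    rintro x z (⟨hz, hzt⟩ | ⟨hz, hzt⟩)
    · exact isClosed_of_nonunit hC (ha x ⟨z, hz⟩) fun hu => hzt ((Scheme.mem_basicOpen _ _ z hz).2 hu)
    · exact isClosed_of_nonunit hC (hb x ⟨z, hz⟩) fun hu => hzt ((Scheme.mem_basicOpen _ _ z hz).2 hu)
  obtain ⟨T, hT⟩ := isCompact_univ.elim_finite_subcover (fun x => (W x : Set C)) (fun x => (W x).2)
    (fun x _ => Set.mem_iUnion.mpr ⟨x, hxW x⟩)
  have hsub : Mero.supp D ⊆ ⋃ x ∈ T, bad x := by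
    intro z hz
    obtain ⟨x, hxT, hzW⟩ : ∃ x ∈ T, z ∈ W x := by simpa [Set.mem_iUnion] using hT (Set.mem_univ z)
    refine Set.mem_iUnion₂.2 ⟨x, hxT, ?_⟩
    by_contra hn
    simp only [bad, Set.mem_union, Set.mem_setOf_eq, not_or, not_and, not_not] at hn
    refine hz ?_
    have h := hcls x ⟨z, hzW⟩
    rw [(cls_eq_one_iff _).2, (cls_eq_one_iff _).2] at h
    · exact (mul_one _).symm.trans h
    · exact (Scheme.mem_basicOpen _ _ z hzW).1 (hn.1 hzW)
    · exact (Scheme.mem_basicOpen _ _ z hzW).1 (hn.2 hzW)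
  have hfin : (Mero.supp D).Finite := by
    refine (T.finite_toSet.biUnion fun x _ => ?_).subset hsub
    exact (finite_of_forall_isClosed _ _ fun z hz hzt => hbadc x z (Or.inl ⟨hz, hzt⟩)).union
      (finite_of_forall_isClosed _ _ fun z hz hzt => hbadc x z (Or.inr ⟨hz, hzt⟩))
  obtain ⟨D2, hD2, hin, hout⟩ := exists_pointDiv hC (Mero.supp D) hfin (fun c hc => by
      obtain ⟨x, -, hx⟩ := Set.mem_iUnion₂.1 (hsub hc)
      exact hbadc x c hx) fun c => Mero.regGerm ⟨c, hxW c⟩ ⟨b c, hb c⟩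
  have h1 : ∀ z, (D * D2).1 z = D.1 z * D2.1 z := fun z => rfl
  refine ⟨D * D2, D2, fun z => ?_, hD2, (mul_inv_cancel_right D D2).symm, fun z hz => ?_, fun z hz => ?_⟩
  · by_cases hz : z ∈ Mero.supp D
    · refine ⟨Mero.regGerm ⟨z, hxW z⟩ ⟨a z, ha z⟩, ?_⟩
      rw [h1, hin z hz]
      exact hcls z ⟨z, hxW z⟩
    · refine ⟨1, ?_⟩
      rw [h1, hout z hz]
      refine (mul_one (D.1 z)).trans ?_
      rw [not_not.1 hz]
      exact ((cls_eq_one_iff (1 : Mero.regStalk C z)).2 isUnit_one).symm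
  · by_contra hzs
    exact hz (by rw [h1, hout z hzs]; exact (mul_one (D.1 z)).trans (not_not.1 hzs))
  · by_contra hzs
    exact hz (hout z hzs)

end Groth.Agent.S10894
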