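import Groth.Statements.S10895
import Groth.Agent.FibreFlat.Stalk
import Mathlib.AlgebraicGeometry.Morphisms.FlatMono

set_option autoImplicit false
universe u
open CategoryTheory AlgebraicGeometry
open FlatMor

set_option backward.isDefEq.respectTransparency false

namespace Groth.Agent.S10895

/-- A closed immersion of finite presentation which is flat at a point x is an isomorphism over some
open neighbourhood of the image of x. -/
theorem result {X Y : Scheme.{u}} (f : X ⟶ Y) [IsClosedImmersion f]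
    [LocallyOfFinitePresentation f] (x : X) (hflat : (f.stalkMap x).hom.Flat) :
    ∃ V : Y.Opens, f.base x ∈ V ∧ IsIso (f ∣_ V) := by
  let U : X.Opens := Groth.Agent.FibreFlat.flatOpen f
  have hxU : x ∈ U := Groth.Agent.FibreFlat.mem_flatOpen.2 hflat
  haveI : Flat (U.ι ≫ f) := Groth.Agent.FibreFlat.flat_flatOpen f
  haveI : IsOpenImmersion (U.ι ≫ f) := IsOpenImmersion.of_flat_of_mono _
  let V : Y.Opens := (U.ι ≫ f).opensRange ⊓
    ⟨(f '' (U : Set X)ᶜ)ᶜ, (f.isClosedEmbedding.isClosedMap _ U.2.isClosed_compl).isOpen_compl⟩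
  have hxV : f.base x ∈ V := by
    refine ⟨⟨⟨x, hxU⟩, rfl⟩, ?_⟩
    rintro ⟨z, hz, hzx⟩
    exact hz (f.isClosedEmbedding.injective hzx ▸ hxU)
  have hle : f ⁻¹ᵁ V ≤ U := fun z hz => by_contra fun hzU => hz.2 ⟨z, hzU, rfl⟩
  haveI : Surjective (f ∣_ V) := ⟨fun v => by
    obtain ⟨z, hz⟩ := v.2.1
    refine ⟨⟨U.ι z, show f (U.ι z) ∈ V by rw [← Scheme.Hom.comp_apply]; exact hz.symm ▸ v.2⟩, V.ι.injective ?_⟩
    rw [← Scheme.Hom.comp_apply, morphismRestrict_ι, Scheme.Hom.comp_apply]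
    exact hz⟩
  haveI : IsOpenImmersion (f ∣_ V) := by
    haveI : IsOpenImmersion ((f ∣_ V) ≫ V.ι) := by
      rw [morphismRestrict_ι, show (f ⁻¹ᵁ V).ι ≫ f = X.homOfLE hle ≫ (U.ι ≫ f) by
        rw [Scheme.homOfLE_ι_assoc]]
      infer_instance
    exact IsOpenImmersion.of_comp (f ∣_ V) V.ι
  haveI : Epi (f ∣_ V).base := (TopCat.epi_iff_surjective _).2 (f ∣_ V).surjective
  exact ⟨V, hxV, IsOpenImmersion.isIso _⟩

end Groth.Agent.S10895
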