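import Groth.Statements.S1090
import Groth.Agent.FilDLib.Complex
import Mathlib
-- import your own Groth.Agent.* helpers here

set_option autoImplicit false
universe v u
open CategoryTheory CategoryTheory.Limits Opposite
open FilD

namespace Groth.Agent.S1090

/-- Let A be an abelian category with enough injectives, f : X ⟶ Y a morphism of finite filtered
objects, and X[0] ⟶ I, Y[0] ⟶ J filtered quasi-isomorphisms into complexes of filtered injective
objects vanishing in negative degrees. Then there is a morphism of complexes I ⟶ J making the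
evident square with f[0] commute. -/
theorem result {A : Type u} [Category.{v} A] [Abelian A] [EnoughInjectives A] {X Y : FilD.FilF A} (f : X ⟶ Y)
    (I : CochainComplex (FilD.FilF A) ℤ) [I.IsStrictlyGE 0] (hI : ∀ n, FilD.IsFilteredInjective (I.X n))
    (a : (CochainComplex.singleFunctor (FilD.FilF A) 0).obj X ⟶ I) (ha : FilD.IsFilteredQuasiIso a)
    (J : CochainComplex (FilD.FilF A) ℤ) [J.IsStrictlyGE 0] (hJ : ∀ n, FilD.IsFilteredInjective (J.X n))
    (b : (CochainComplex.singleFunctor (FilD.FilF A) 0).obj Y ⟶ J) (hb : FilD.IsFilteredQuasiIso b) :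
    ∃ φ : I ⟶ J, a ≫ φ = (CochainComplex.singleFunctor (FilD.FilF A) 0).map f ≫ b := by
  let Q := HomotopyCategory.quotient (FilF A) (ComplexShape.up ℤ)
  obtain ⟨β, hβ⟩ := (FilDLib.bijective_precomp J 0 hJ a ha).2
    (Q.map ((CochainComplex.singleFunctor (FilF A) 0).map f ≫ b))
  obtain ⟨φ, hφ⟩ := Q.map_surjective (show Q.obj I ⟶ Q.obj J from β)
  have h : Q.map (a ≫ φ) = Q.map ((CochainComplex.singleFunctor (FilF A) 0).map f ≫ b) := by
    rw [Functor.map_comp, hφ]; exact hβ
  let H := HomotopyCategory.homotopyOfEq _ _ h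
  refine ⟨φ, HomologicalComplex.hom_ext _ _ fun n => ?_⟩
  have hz : ∀ i j, H.hom i j = 0 := fun i j => by
    by_cases hr : (ComplexShape.up ℤ).Rel j i
    · by_cases hi : i = 0
      · exact (J.isZero_of_isStrictlyGE 0 j (by simp at hr; omega)).eq_of_tgt _ _
      · exact (HomologicalComplex.isZero_single_obj_X (ComplexShape.up ℤ) (0 : ℤ) X i hi).eq_of_src _ _
    · exact H.zero i j hr
  simpa [dNext_eq _ (show (ComplexShape.up ℤ).Rel n (n + 1) from rfl),
    prevD_eq _ (show (ComplexShape.up ℤ).Rel (n - 1) n from sub_add_cancel n 1), hz] using H.comm n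

end Groth.Agent.S1090
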