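import Groth.Statements.S10900
import Groth.Agent.AffDiv.Main

set_option autoImplicit false
universe u
open CategoryTheory CategoryTheory.Limits AlgebraicGeometry TopologicalSpace
open WDiv

namespace Groth.Agent.S10900

/-- Let X be an integral Noetherian separated scheme which is regular in codimension 1 (the local ring
at every point of codimension 1, i.e. of coheight 1 in the specialization order, is a discrete
valuation ring), and let p : A^m_X → X be the affine m-space over X. Pulling back Weil divisors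
along p (a divisor D, viewed as an integer-valued function on the codimension-1 points of X with
finite support, goes to y ↦ D(p(y)) on the codimension-1 points of A^m_X) induces an injective map
on divisor class groups: if the pulled-back divisor is the divisor of a nonzero rational function on
A^m_X, then D is the divisor of a nonzero rational function on X. -/
theorem result (m : ℕ) (X : Scheme.{u}) [IsIntegral X]
    [IsNoetherian X] [X.IsSeparated] [IsLocallyNoetherian 𝔸(ULift.{u} (Fin m); X)]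
    (hR1 : ∀ x : ↥X, Order.coheight x = 1 → IsDiscreteValuationRing ↑(X.presheaf.stalk x))
    (D : ↥X → ℤ) (hD : ∀ x, Order.coheight x ≠ 1 → D x = 0) (hfin : {x | D x ≠ 0}.Finite)
    (g : ↑(𝔸(ULift.{u} (Fin m); X)).functionField) (hg : g ≠ 0)
    (h : ∀ y : ↥(𝔸(ULift.{u} (Fin m); X)), Order.coheight y = 1 →
      Scheme.ord g y = D ((𝔸(ULift.{u} (Fin m); X) ↘ X) y)) :
    ∃ f : ↑X.functionField, f ≠ 0 ∧ ∀ x : ↥X, Order.coheight x = 1 → Scheme.ord f x = D x := by
  classical
  let n : Type u := ULift.{u} (Fin m)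
  obtain ⟨V, hV, hxV, -⟩ :=
    exists_isAffineOpen_mem_and_subset (X := X) (x := genericPoint X) (U := (⊤ : X.Opens)) trivial
  haveI : Nonempty V := ⟨⟨_, hxV⟩⟩
  obtain ⟨hU, -, ψ, hψ⟩ := AffDiv.chart_props (n := n) hV
  haveI : Nonempty ((𝔸(n; X) ↘ X) ⁻¹ᵁ V) := AffDiv.nonempty_preimage V
  haveI := functionField_isFractionRing_of_isAffineOpen 𝔸(n; X) _ hU
  set U := (𝔸(n; X) ↘ X) ⁻¹ᵁ V
  set φ := ((𝔸(n; X) ↘ X).app V).hom
  obtain ⟨q₁, q₂, hq₂, hq⟩ := IsFractionRing.div_surjective (A := Γ(𝔸(n; X), U)) g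
  have hinj := 𝔸(n; X).germToFunctionField_injective U
  have h2 : q₂ ≠ 0 := nonZeroDivisors.ne_zero hq₂
  have h1 : q₁ ≠ 0 := by
    rintro rfl
    rw [map_zero, zero_div] at hq
    exact hg hq.symm
  have hι : ∀ {q : Γ(𝔸(n; X), U)}, q ≠ 0 → 𝔸(n; X).germToFunctionField U q ≠ 0 := fun hq =>
    (map_ne_zero_iff _ hinj).2 hq
  change 𝔸(n; X).germToFunctionField U q₁ / 𝔸(n; X).germToFunctionField U q₂ = g at hq
  rcases AffDiv.ratio_cases hψ q₁ q₂ h1 h2 with ⟨a, a', ha, ha', hrel⟩ |
      ⟨P, b, r₁, r₂, hP, h0, hb, hgen, hr₁, hr₂, hrel, hcase⟩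
  · have hi := X.germToFunctionField_injective V
    have hf : X.germToFunctionField V a / X.germToFunctionField V a' ≠ 0 :=
      div_ne_zero ((map_ne_zero_iff _ hi).2 ha) ((map_ne_zero_iff _ hi).2 ha')
    refine ⟨_, hf, fun x hx => ?_⟩
    obtain ⟨y, hy, hyx, hord⟩ := AffDiv.exists_vert (n := n) hx (hR1 x hx)
    rw [← hord _ hf, ← hyx]
    suffices hpg : AffDiv.pull n X (X.germToFunctionField V a / X.germToFunctionField V a') = g by
      rw [hpg]; exact h y hy
    rw [map_div₀, AffDiv.pull_germ, AffDiv.pull_germ, ← hq]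
    have hφa' : φ a' ≠ 0 := fun h => hι h2 (by
      have := hψ.isUnit a' ha'
      rw [h, map_zero] at this
      exact absurd this not_isUnit_zero)
    rw [div_eq_div_iff (hι hφa') (hι h2), ← map_mul, ← map_mul, mul_comm, hrel]
  · exfalso
    obtain ⟨y, hyU, hy⟩ := AffDiv.exists_point hU P
    subst hy
    obtain ⟨-, -, hcy⟩ := AffDiv.gen_point hU hyU hb hgen
    have hyη : (𝔸(n; X) ↘ X) y = genericPoint X := AffDiv.pr_inj hV hyU (AffDiv.gen_mem V) (by
      rw [AffDiv.pr_genericPoint hV, ← AffDiv.comap_pr hV hU hyU, h0])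
    have hz : Scheme.ord g y = 0 := by
      rw [h y hcy, hyη]
      exact hD _ AffDiv.coheight_genericPoint_ne
    have hg' : g * 𝔸(n; X).germToFunctionField U r₂ = 𝔸(n; X).germToFunctionField U r₁ := by
      rw [← hq, div_mul_eq_mul_div, div_eq_iff (hι h2), ← map_mul, ← map_mul, hrel, mul_comm]
    have h3 := Scheme.ord_mul (x := y) hg (hι hr₂)
    rw [hg', hz, zero_add] at h3
    rcases hcase with ⟨hm, hn⟩ | ⟨hn, hm⟩
    · have h4 := AffDiv.ord_mem_pos hU hyU hb hgen hr₁ hm
      rw [h3, AffDiv.ord_not_mem hU hyU hcy hn] at h4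
      exact lt_irrefl _ h4
    · have h4 := AffDiv.ord_mem_pos hU hyU hb hgen hr₂ hm
      rw [← h3, AffDiv.ord_not_mem hU hyU hcy hn] at h4
      exact lt_irrefl _ h4

end Groth.Agent.S10900
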