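import Groth.Statements.S10901
import Groth.Agent.AffDiv.Main

set_option autoImplicit false
universe u
open CategoryTheory CategoryTheory.Limits AlgebraicGeometry TopologicalSpace
open WDiv

namespace Groth.Agent.S10901

/-- Let X be an integral Noetherian separated scheme which is regular in codimension 1 (the local ring
at every point of coheight 1 is a discrete valuation ring), and p : A^m_X → X the affine m-space
over X. Then pulling back along p is surjective on divisor classes: for every Weil divisor D' on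
A^m_X (an integer-valued function on its points with finite support inside the points of coheight 1)
there are a Weil divisor D on X and a nonzero rational function g on A^m_X such that D'(y) = D(p(y))
+ ord_y(g) at every point y of A^m_X of coheight 1. -/
theorem result (m : ℕ) (X : Scheme.{u}) [IsIntegral X]
    [IsNoetherian X] [X.IsSeparated] [IsLocallyNoetherian 𝔸(ULift.{u} (Fin m); X)]
    (hR1 : ∀ x : ↥X, Order.coheight x = 1 → IsDiscreteValuationRing ↑(X.presheaf.stalk x))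
    (D' : ↥(𝔸(ULift.{u} (Fin m); X)) → ℤ) (hD' : ∀ y, Order.coheight y ≠ 1 → D' y = 0) (hfin : {y | D' y ≠ 0}.Finite) :
    ∃ (D : ↥X → ℤ) (g : ↑(𝔸(ULift.{u} (Fin m); X)).functionField), (∀ x, Order.coheight x ≠ 1 → D x = 0) ∧
      {x | D x ≠ 0}.Finite ∧ g ≠ 0 ∧
        ∀ y : ↥(𝔸(ULift.{u} (Fin m); X)), Order.coheight y = 1 → D' y = D ((𝔸(ULift.{u} (Fin m); X) ↘ X) y) + Scheme.ord g y := by
  classical
  let n : Type u := ULift.{u} (Fin m)
  haveI : QuasiCompact (𝔸(n; X) ↘ X) := inferInstance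
  haveI : CompactSpace 𝔸(n; X) := QuasiCompact.compactSpace_of_compactSpace (𝔸(n; X) ↘ X)
  haveI : IsNoetherian 𝔸(n; X) := ⟨⟩
  obtain ⟨V, hV, hxV, -⟩ :=
    exists_isAffineOpen_mem_and_subset (X := X) (x := genericPoint X) (U := (⊤ : X.Opens)) trivial
  haveI : Nonempty V := ⟨⟨_, hxV⟩⟩
  obtain ⟨hU, -, ψ, hψ⟩ := AffDiv.chart_props (n := n) hV
  haveI : Nonempty ((𝔸(n; X) ↘ X) ⁻¹ᵁ V) := AffDiv.nonempty_preimage V
  set U := (𝔸(n; X) ↘ X) ⁻¹ᵁ V
  set φ := ((𝔸(n; X) ↘ X).app V).hom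
  -- horizontal points
  let H : Set 𝔸(n; X) := {y | Order.coheight y = 1 ∧ (𝔸(n; X) ↘ X) y = genericPoint X}
  have hHU : ∀ y ∈ H, y ∈ U := fun y hy => by
    show (𝔸(n; X) ↘ X) y ∈ V
    rw [hy.2]; exact hxV
  have hH : ∀ y (hy : y ∈ H), ∃ b : Γ(𝔸(n; X), U), b ≠ 0 ∧ AffDiv.Gen (AffDiv.pr hU (hHU y hy)) b ∧
      ∀ y' (hy' : y' ∈ H), b ∈ AffDiv.pr hU (hHU y' hy') → y' = y := by
    intro y hy
    have hcm : ∀ z (hz : z ∈ H), (AffDiv.pr hU (hHU z hz)).comap φ = ⊥ := fun z hz => by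
      rw [AffDiv.comap_pr hV hU (hHU z hz), ← AffDiv.pr_genericPoint hV]
      congr 2
      exact hz.2
    obtain ⟨b, hb, hgen, huniq⟩ := AffDiv.hor_gen hψ _ (AffDiv.minNZ_pr hU (hHU y hy) hy.1)
      (AffDiv.pr_ne_bot hU _ hy.1) (hcm y hy)
    exact ⟨b, hb, hgen, fun y' hy' hb' => AffDiv.pr_inj hU _ _
      (huniq _ inferInstance (AffDiv.minNZ_pr hU _ hy'.1) (hcm y' hy') hb')⟩
  choose b hb0 hbgen hbuniq using hH
  let β : 𝔸(n; X) → 𝔸(n; X).functionField := fun y =>
    if hy : y ∈ H then 𝔸(n; X).germToFunctionField U (b y hy) else 1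
  let S : Finset 𝔸(n; X) := hfin.toFinset.filter (fun y => y ∈ H)
  let g : 𝔸(n; X).functionField := ∏ y ∈ S, β y ^ D' y
  have hβ : ∀ y, β y ≠ 0 := fun y => by
    simp only [β]
    split_ifs with hy
    · exact (map_ne_zero_iff _ (𝔸(n; X).germToFunctionField_injective U)).2 (hb0 y hy)
    · exact one_ne_zero
  have hg : g ≠ 0 := Finset.prod_ne_zero_iff.2 fun y _ => zpow_ne_zero _ (hβ y)
  have hgH : ∀ y ∈ H, Scheme.ord g y = D' y := by
    intro y hy
    rw [AffDiv.ord_prod _ _ (fun z _ => zpow_ne_zero _ (hβ z)) y]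
    have hterm : ∀ z ∈ S, Scheme.ord (β z ^ D' z) y = if z = y then D' y else 0 := by
      intro z hz
      obtain ⟨-, hzH⟩ := Finset.mem_filter.1 hz
      rw [AffDiv.ord_zpow (hβ z), show β z = 𝔸(n; X).germToFunctionField U (b z hzH) from dif_pos hzH]
      split_ifs with hzy
      · subst hzy
        rw [AffDiv.ord_gen hU (hHU z hzH) (hb0 z hzH) (hbgen z hzH), mul_one]
      · rw [AffDiv.ord_not_mem hU (hHU y hy) hy.1 (fun hm => hzy (hbuniq z hzH y hy hm).symm), mul_zero]
    rw [Finset.sum_congr rfl hterm, Finset.sum_ite_eq']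
    split_ifs with hyS
    · rfl
    · by_contra hne
      exact hyS (Finset.mem_filter.2 ⟨hfin.mem_toFinset.2 (Ne.symm hne), hy⟩)
  let E : 𝔸(n; X) → ℤ := fun y => D' y - Scheme.ord g y
  have hEfin : {y | E y ≠ 0}.Finite := by
    refine (hfin.union (AffDiv.finite_div g hg)).subset fun y hy => ?_
    by_contra hno
    simp only [Set.mem_union, Set.mem_setOf_eq, not_or, not_and, not_not] at hno
    refine hy ?_
    simp only [E, hno.1]
    by_cases hc : Order.coheight y = 1
    · rw [(by_contra fun h => hno.2 ⟨hc, h⟩ : Scheme.ord g y = 0), sub_zero]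
    · rw [Scheme.ord_eq_zero_of_coheight_neq_one hc, sub_zero]
  have hex : ∀ x : X, Order.coheight x = 1 →
      ∃ y : 𝔸(n; X), Order.coheight y = 1 ∧ (𝔸(n; X) ↘ X) y = x := fun x hx =>
    let ⟨y, h1, h2, _⟩ := AffDiv.exists_vert (n := n) hx (hR1 x hx)
    ⟨y, h1, h2⟩
  choose v hv1 hv2 using hex
  refine ⟨fun x => if hx : Order.coheight x = 1 then E (v x hx) else 0, g, fun x hx => dif_neg hx, ?_, hg,
    fun y hy => ?_⟩
  · refine (hEfin.image (𝔸(n; X) ↘ X)).subset fun x hx => ?_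
    simp only [Set.mem_setOf_eq, ne_eq] at hx
    split_ifs at hx with h1
    · exact ⟨v x h1, hx, hv2 x h1⟩
    · exact absurd rfl hx
  · by_cases hη : (𝔸(n; X) ↘ X) y = genericPoint X
    · show D' y = dite _ _ _ + _
      rw [dif_neg (by rw [hη]; exact AffDiv.coheight_genericPoint_ne), zero_add, hgH y ⟨hy, hη⟩]
    · obtain ⟨hc, huniq⟩ := AffDiv.classify hy hη
      show D' y = dite _ _ _ + _
      rw [dif_pos hc, huniq _ (hv1 _ hc) (hv2 _ hc)]
      exact (sub_add_cancel _ _).symm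

end Groth.Agent.S10901
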