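import Groth.Statements.S10902
import Mathlib
import Groth.Agent.OmegaTrdeg.Basic
import Groth.Agent.WeilLib.Trdeg

set_option autoImplicit false
set_option linter.style.haveILetI false
universe u
open TensorProduct
open SmVar

namespace Groth.Agent.S10902

/-- Let k be a field and A a k-algebra of finite type (X = Spec A a k-scheme of finite type), P a prime
ideal of A, and suppose P contains a prime q with dim A/q ≥ n, i.e. the point P lies on an
irreducible component of X of dimension at least n. Then the fibre at P of the sheaf of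
differentials of X over k has dimension at least n over the residue field: dim_{κ(P)} (κ(P) ⊗_A
Ω_{A/k}) ≥ n. (The published statement asks every irreducible component of X to have dimension ≥ n
and concludes this at every point.) -/
theorem result (k : Type u) [Field k]
    (A : Type u) [CommRing A] [Algebra k A] [Algebra.FiniteType k A] (n : ℕ)
    (P : Ideal A) [P.IsPrime] (q : Ideal A) [q.IsPrime] (hqP : q ≤ P)
    (hq : (n : WithBot ℕ∞) ≤ ringKrullDim (A ⧸ q)) :
    n ≤ Module.finrank P.ResidueField (P.ResidueField ⊗[A] (Ω[A⁄k])) := by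
  set K := q.ResidueField
  haveI : Algebra.EssFiniteType k K := Algebra.EssFiniteType.comp k A K
  obtain ⟨s, hs, hdim⟩ := WeilLib.exists_dim_eq_trdeg (k := k) (D := A ⧸ q) (L := K)
    (IsScalarTower.toAlgHom k (A ⧸ q) K) (IsFractionRing.injective (A ⧸ q) K) (fun z => by
      obtain ⟨b, d, hd, rfl⟩ := IsFractionRing.div_surjective (A := A ⧸ q) z
      have hd0 : algebraMap (A ⧸ q) K d ≠ 0 :=
        (IsLocalization.map_units K ⟨d, hd⟩).ne_zero
      exact ⟨b, d, hd0, div_mul_cancel₀ _ hd0⟩)
  rw [hdim] at hq
  have hns : n ≤ s := by exact_mod_cast hq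
  have h1 := OmegaTrdeg.trdeg_le_finrank_omega k K
  rw [hs] at h1
  have h1 : s ≤ Module.finrank K (Ω[K⁄k]) := by exact_mod_cast h1
  haveI : Algebra.FormallyUnramified A K :=
    haveI : Algebra.FormallyUnramified (A ⧸ q) K :=
      Algebra.FormallyUnramified.of_isLocalization (nonZeroDivisors (A ⧸ q))
    Algebra.FormallyUnramified.comp A (A ⧸ q) K
  have hsurj : Function.Surjective (KaehlerDifferential.mapBaseChange k A K) := fun z =>
    (KaehlerDifferential.exact_mapBaseChange_map k A K z).mp (Subsingleton.elim _ _)
  have h2 : Module.finrank K (Ω[K⁄k]) ≤ Module.finrank K (K ⊗[A] Ω[A⁄k]) := by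
    have := (KaehlerDifferential.mapBaseChange k A K).finrank_range_le
    rwa [LinearMap.range_eq_top.mpr hsurj, finrank_top] at this
  exact (hns.trans h1).trans (h2.trans (OmegaTrdeg.finrank_residueField_tensor_le (Ω[A⁄k]) hqP))

end Groth.Agent.S10902
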