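import Groth.Statements.S10912
import Groth.Agent.RefDiv.Order

set_option backward.isDefEq.respectTransparency false
-- import your own Groth.Agent.* helpers here

set_option autoImplicit false
universe u
open CategoryTheory CategoryTheory.Limits AlgebraicGeometry TopologicalSpace
open WDiv

namespace Groth.Agent.S10912

/-- Let X be an integral Noetherian separated scheme which is regular in codimension 1, and U a nonempty
open subscheme whose complement has codimension at least 2: every point not in U has coheight ≥ 2 in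
the specialization order. Then restriction identifies the divisor class groups of X and U;
concretely, since all points of coheight 1 lie in U, a Weil divisor D on X (integer-valued function
with finite support inside the coheight-1 points) is the divisor of a nonzero rational function on X
if and only if its restriction to U is the divisor of a nonzero rational function on U. -/
theorem result (X : Scheme.{u}) [IsIntegral X]
    [IsNoetherian X] [X.IsSeparated]
    (hR1 : ∀ x : ↥X, Order.coheight x = 1 → IsDiscreteValuationRing ↑(X.presheaf.stalk x))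
    (U : X.Opens) [Nonempty U] (hcod : ∀ x : ↥X, x ∉ U → 2 ≤ Order.coheight x)
    (D : ↥X → ℤ) (hD : ∀ x, Order.coheight x ≠ 1 → D x = 0) (hfin : {x | D x ≠ 0}.Finite) :
    (∃ f : ↑X.functionField, f ≠ 0 ∧ ∀ x : ↥X, Order.coheight x = 1 → Scheme.ord f x = D x) ↔
      ∃ g : ↑(U : Scheme.{u}).functionField, g ≠ 0 ∧
        ∀ u : ↥(U : Scheme.{u}), Order.coheight u = 1 → Scheme.ord g u = D u.1 := by
  
  classical
  haveI : IsIntegral (U : Scheme.{u}) := isIntegral_of_isOpenImmersion U.ι
  haveI : IsLocallyNoetherian (U : Scheme.{u}) := inferInstance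
  have hgp : U.ι (genericPoint (U : Scheme.{u})) = genericPoint X := genericPoint_eq_of_isOpenImmersion U.ι
  have hcomp : ∀ {a b c : X} (h : a ⤳ b) (h' : b ⤳ c) (w : X.presheaf.stalk c),
      (X.presheaf.stalkSpecializes h).hom ((X.presheaf.stalkSpecializes h').hom w) =
        (X.presheaf.stalkSpecializes (h.trans h')).hom w := fun h h' w =>
    DFunLike.congr_fun (CommRingCat.hom_ext_iff.mp (TopCat.Presheaf.stalkSpecializes_comp X.presheaf h h')) w
  let T : X.functionField →+* (U : Scheme.{u}).functionField :=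
    (U.ι.stalkMap (genericPoint (U : Scheme.{u}))).hom.comp (X.presheaf.stalkSpecializes (specializes_of_eq hgp)).hom
  have hT : Function.Bijective T := by
    constructor
    · exact T.injective
    · intro v
      obtain ⟨w, hw⟩ := (ConcreteCategory.bijective_of_isIso (U.ι.stalkMap (genericPoint (U : Scheme.{u})))).2 v
      refine ⟨(X.presheaf.stalkSpecializes (specializes_of_eq hgp.symm)).hom w, ?_⟩
      show (U.ι.stalkMap _).hom ((X.presheaf.stalkSpecializes (specializes_of_eq hgp)).hom
        ((X.presheaf.stalkSpecializes (specializes_of_eq hgp.symm)).hom w)) = v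
      rw [hcomp, TopCat.Presheaf.stalkSpecializes_refl]
      exact hw
  have hord : ∀ (u : ↥(U : Scheme.{u})) (φ : X.functionField), φ ≠ 0 → Order.coheight u = 1 →
      Scheme.ord (T φ) u = Scheme.ord φ u.1 := by
    intro u φ hφ hu
    have hu' : Order.coheight (U.ι u) = 1 := (coheight_eq_of_isOpenImmersion U.ι).trans hu
    show Scheme.ord (T φ) u = Scheme.ord φ (U.ι u)
    haveI : Ring.KrullDimLE 1 ((U : Scheme.{u}).presheaf.stalk u) := krullDimLE_of_coheight_le hu.le
    haveI : Ring.KrullDimLE 1 (X.presheaf.stalk (U.ι u)) := krullDimLE_of_coheight_le hu'.le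
    let e : X.presheaf.stalk (U.ι u) ≃+* (U : Scheme.{u}).presheaf.stalk u :=
      RingEquiv.ofBijective (U.ι.stalkMap u).hom (ConcreteCategory.bijective_of_isIso (U.ι.stalkMap u))
    have hcomm : ∀ a, T (RefDiv.sp (U.ι u) a) = RefDiv.sp u (e a) := by
      intro a
      show (U.ι.stalkMap _).hom ((X.presheaf.stalkSpecializes (specializes_of_eq hgp)).hom
        ((X.presheaf.stalkSpecializes _).hom a)) = _
      rw [hcomp]
      exact Scheme.Hom.stalkSpecializes_stalkMap_apply U.ι _ u (RefStalk.toGen u) a
    have key : ∀ a : X.presheaf.stalk (U.ι u), a ≠ 0 →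
        Scheme.ord (RefDiv.sp u (e a)) u = Scheme.ord (RefDiv.sp (U.ι u) a) (U.ι u) := by
      intro a ha
      have hea : e a ≠ 0 := fun h0 => ha (e.injective (h0.trans (map_zero e).symm))
      rw [Scheme.ord_eq_unzero_ordHom hu (RefDiv.sp_ne_zero hea),
        Scheme.ord_eq_unzero_ordHom hu' (RefDiv.sp_ne_zero ha)]
      refine congrArg Multiplicative.toAdd (WithZero.coe_inj.1 ?_)
      rw [WithZero.coe_unzero, WithZero.coe_unzero]
      show Ring.ordFrac ((U : Scheme.{u}).presheaf.stalk u) (algebraMap _ (U : Scheme.{u}).functionField (e a)) =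
        Ring.ordFrac (X.presheaf.stalk (U.ι u)) (algebraMap _ X.functionField a)
      rw [Ring.ordFrac_eq_ord _ hea, Ring.ordFrac_eq_ord _ ha,
        Ring.ordMonoidWithZeroHom_eq_ord (mem_nonZeroDivisors_of_ne_zero hea),
        Ring.ordMonoidWithZeroHom_eq_ord (mem_nonZeroDivisors_of_ne_zero ha), RefDiv.ord_ringEquiv]
    obtain ⟨a, b, hb, rfl⟩ := IsFractionRing.div_surjective (X.presheaf.stalk (U.ι u)) φ
    have hb0 : b ≠ 0 := nonZeroDivisors.ne_zero hb
    have ha0 : a ≠ 0 := fun h0 => hφ (by rw [h0, map_zero, zero_div])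
    show Scheme.ord (T (RefDiv.sp (U.ι u) a / RefDiv.sp (U.ι u) b)) u =
      Scheme.ord (RefDiv.sp (U.ι u) a / RefDiv.sp (U.ι u) b) (U.ι u)
    rw [map_div₀, hcomm, hcomm, div_eq_mul_inv, div_eq_mul_inv,
      Scheme.ord_mul (RefDiv.sp_ne_zero fun h0 => ha0 (e.injective (h0.trans (map_zero e).symm)))
        (inv_ne_zero (RefDiv.sp_ne_zero fun h0 => hb0 (e.injective (h0.trans (map_zero e).symm)))),
      Scheme.ord_mul (RefDiv.sp_ne_zero ha0) (inv_ne_zero (RefDiv.sp_ne_zero hb0)),
      RefDiv.ord_inv (RefDiv.sp_ne_zero fun h0 => hb0 (e.injective (h0.trans (map_zero e).symm))),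
      RefDiv.ord_inv (RefDiv.sp_ne_zero hb0), key a ha0, key b hb0]
  have hmem : ∀ x : X, Order.coheight x = 1 → x ∈ U := fun x hx => by
    by_contra hxU
    have := hcod x hxU
    rw [hx] at this
    exact absurd this (by decide)
  constructor
  · rintro ⟨f, hf, h⟩
    refine ⟨T f, fun h0 => hf (hT.1 (h0.trans (map_zero T).symm)), fun u hu => ?_⟩
    rw [hord u f hf hu]
    exact h u.1 ((coheight_eq_of_isOpenImmersion (x := u) U.ι).trans hu)
  · rintro ⟨g, hg, h⟩
    obtain ⟨f, rfl⟩ := hT.2 g
    have hf : f ≠ 0 := fun h0 => hg (by rw [h0, map_zero])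
    refine ⟨f, hf, fun x hx => ?_⟩
    let u : ↥(U : Scheme.{u}) := ⟨x, hmem x hx⟩
    have hu : Order.coheight u = 1 := (coheight_eq_of_isOpenImmersion (x := u) U.ι).symm.trans hx
    exact (hord u f hf hu).symm.trans (h u hu)

end Groth.Agent.S10912
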