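import Groth.Statements.S10915
import Mathlib
import Groth.Agent.HomogIdeal.Basic
-- import your own Groth.Agent.* helpers here

set_option autoImplicit false
universe u
open ProjDeg

namespace Groth.Agent.S10915

/-- Let k be an algebraically closed field, R = k[X_0, …, X_n] graded by degree, and I a homogeneous
prime ideal with dim R/I = r + 1, so that X = V_+(I) ⊆ P^n_k is a projective variety of dimension r.
Then there are r + 1 linear forms h_1, …, h_{r+1} (homogeneous of degree 1) whose common zero set in
P^n_k does not meet X, i.e. the ideal I + (h_1, …, h_{r+1}) contains some power of the irrelevant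
ideal (X_0, …, X_n). (The published statement says that a generic linear subspace of dimension n − r
− 1 misses X; this row asserts only that one such subspace, cut out by r + 1 linear forms, exists.) -/
theorem result (k : Type u) [Field k] [IsAlgClosed k]
    (n r : ℕ) (I : Ideal (MvPolynomial (Fin (n + 1)) k)) (hIh : I.IsHomogeneous (CohB1.polyGrading n k)) [I.IsPrime]
    (hdim : ringKrullDim (MvPolynomial (Fin (n + 1)) k ⧸ I) = (r : WithBot ℕ∞) + 1) :
    ∃ h : Fin (r + 1) → MvPolynomial (Fin (n + 1)) k, (∀ i, (h i).IsHomogeneous 1) ∧
      ∃ N : ℕ, (Ideal.span (Set.range (MvPolynomial.X : Fin (n + 1) → MvPolynomial (Fin (n + 1)) k))) ^ N ≤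
        I ⊔ Ideal.span (Set.range h) := by
  classical
  obtain ⟨h, hh, hrad⟩ := Groth.Agent.HomogIdeal.exists_linear_forms (k := k) (n := n) (r + 1) I hIh fun l hl => by
    rw [ringKrullDim_quotient] at hdim
    let l' : LTSeries ↥(PrimeSpectrum.zeroLocus (I : Set (MvPolynomial (Fin (n + 1)) k))) :=
      LTSeries.mk l.length (fun i => ⟨l.toFun i, (PrimeSpectrum.mem_zeroLocus _ _).mpr
        (hl.trans (LTSeries.head_le l i))⟩) fun i j hij => l.strictMono hij
    have h := Order.LTSeries.length_le_krullDim l'
    rw [hdim] at h
    exact_mod_cast h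
  refine ⟨h, hh, ?_⟩
  exact Ideal.exists_pow_le_of_le_radical_of_fg hrad
    ((isNoetherianRing_iff_ideal_fg _).mp inferInstance _)

end Groth.Agent.S10915
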