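import Groth.Statements.S10916
import Groth.Agent.AffDiv.ProjDiv
import Groth.Agent.S10901

set_option autoImplicit false
universe u
open CategoryTheory CategoryTheory.Limits AlgebraicGeometry TopologicalSpace
open WDiv

namespace Groth.Agent.S10916

/-- Let A be a Noetherian integral domain regular in codimension 1 (the local ring of Spec A at every
point of coheight 1 is a discrete valuation ring), P = P^n_A with structure morphism q : P → Spec A,
and H the point of P whose homogeneous prime ideal is generated by X_0 (so n ≥ 1; H is the generic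
point of the hyperplane X_0 = 0). Weil divisors are integer-valued functions on points with finite
support inside the points of coheight 1. Then Cl(P^n_A) ≅ ℤ ⊕ Cl(A) in the following sense: for
every Weil divisor D' on P there is exactly one integer d for which D' is linearly equivalent to d·H
plus the pullback of a Weil divisor D on Spec A, i.e. for some such D and some nonzero rational
function g on P one has D'(H) = d + D(q H) + ord_H(g) and D'(y) = D(q y) + ord_y(g) at every point y
≠ H of coheight 1. -/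
theorem result (A : Type u) [CommRing A] [IsDomain A]
    [IsNoetherianRing A] (n : ℕ) (hn : 1 ≤ n) [IsIntegral (CohB1.ProjSpace n A)] [IsLocallyNoetherian (CohB1.ProjSpace n A)]
    [IsIntegral (Spec (CommRingCat.of A))]
    (hR1 : ∀ x : ↥(Spec (CommRingCat.of A)), Order.coheight x = 1 →
      IsDiscreteValuationRing ↑((Spec (CommRingCat.of A)).presheaf.stalk x))
    (H : ↥(CohB1.ProjSpace n A))
    (hH : H.asHomogeneousIdeal.toIdeal = Ideal.span {(MvPolynomial.X 0 : MvPolynomial (Fin (n + 1)) A)})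
    (D' : ↥(CohB1.ProjSpace n A) → ℤ) (hD' : ∀ y, Order.coheight y ≠ 1 → D' y = 0)
    (hfin : {y | D' y ≠ 0}.Finite) :
    ∃! d : ℤ, ∃ (D : ↥(Spec (CommRingCat.of A)) → ℤ) (g : ↑(CohB1.ProjSpace n A).functionField),
      (∀ x, Order.coheight x ≠ 1 → D x = 0) ∧ {x | D x ≠ 0}.Finite ∧ g ≠ 0 ∧
      D' H = d + D (CohB1.ProjSpace.toSpec n A H) + Scheme.ord g H ∧
      ∀ y, y ≠ H → Order.coheight y = 1 →
        D' y = D (CohB1.ProjSpace.toSpec n A y) + Scheme.ord g y := by
  classical
  set q := CohB1.ProjSpace.toSpec n A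
  obtain ⟨j, hjimm, hjq, hjr⟩ := AffDiv.exists_chart_imm A n
  haveI := hjimm
  haveI : IsLocallyNoetherian 𝔸(ULift.{u} (Fin n); (Spec (CommRingCat.of A))) :=
    LocallyOfFiniteType.isLocallyNoetherian (𝔸(ULift.{u} (Fin n); (Spec (CommRingCat.of A))) ↘ (Spec (CommRingCat.of A)))
  obtain ⟨D, g', hD, hDfin, hg', hrep⟩ := S10901.result n (Spec (CommRingCat.of A)) hR1 (fun z => D' (j z))
    (fun z hz => hD' _ (by rwa [AffDiv.coheight_imm j z]))
    (hfin.preimage j.isOpenEmbedding.injective.injOn)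
  obtain ⟨g, hgg⟩ := (AffDiv.theta_bijective j).2 g'
  have hg : g ≠ 0 := fun h => hg' (by rw [← hgg, h, map_zero])
  have hqH : ∀ E : (Spec (CommRingCat.of A)) → ℤ, (∀ x, Order.coheight x ≠ 1 → E x = 0) → E (q H) = 0 := fun E hE => by
    rw [AffDiv.toSpec_hyperplane hn H hH]
    exact hE _ AffDiv.coheight_genericPoint_ne
  have hrep' : ∀ y, y ≠ H → Order.coheight y = 1 → D' y = D (q y) + Scheme.ord g y := by
    intro y hy hc
    obtain ⟨z, rfl⟩ := hjr.ge (AffDiv.mem_chart_of_ne hn H hH hy hc)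
    rw [show q (j z) = (𝔸(ULift.{u} (Fin n); (Spec (CommRingCat.of A))) ↘ (Spec (CommRingCat.of A))) z by rw [← hjq]; rfl, ← AffDiv.ord_theta j hg z, hgg]
    exact hrep z ((AffDiv.coheight_imm j z).symm.trans hc)
  refine ⟨D' H - Scheme.ord g H, ⟨D, g, hD, hDfin, hg, ?_, hrep'⟩, ?_⟩
  · rw [hqH D hD]; omega
  rintro d ⟨D₂, g₂, hD₂, -, hg₂, hH₂, hrep₂⟩
  obtain ⟨h0, -⟩ := AffDiv.ord_infty hn hR1 H hH (fun x => D₂ x - D x)
    (fun x hx => by simp only [hD x hx, hD₂ x hx, sub_zero]) (g * g₂⁻¹) (mul_ne_zero hg (inv_ne_zero hg₂))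
    (fun y hy hc => by
      rw [Scheme.ord_mul hg (inv_ne_zero hg₂), AffDiv.ord_inv hg₂]
      have h1 := hrep' y hy hc
      have h2 := hrep₂ y hy hc
      simp only [q] at h1 h2 ⊢
      omega)
  rw [Scheme.ord_mul hg (inv_ne_zero hg₂), AffDiv.ord_inv hg₂] at h0
  rw [hqH D₂ hD₂] at hH₂
  omega

end Groth.Agent.S10916
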