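import Groth.Statements.S10928
import Groth.Agent.GrpAct.KleimanSmooth
import Groth.Agent.GrpAct.DimClosed
import Groth.Agent.GrpAct.GenericSmoothMap

set_option autoImplicit false
universe u
open CategoryTheory CategoryTheory.Limits MonoidalCategory CartesianMonoidalCategory MonObj GrpObj AlgebraicGeometry
open Variety

set_option backward.isDefEq.respectTransparency false
set_option backward.isDefEq.respectTransparency.types false

namespace Groth.Agent.S10928

/-- Let k be an algebraically closed field of characteristic zero, G a group variety over k (integral,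
separated k-group scheme of finite type), X a homogeneous space for G (a k-variety with a G-action
such that G(k) acts transitively on X(k)) of dimension n, and f : Y → X, g : Z → X morphisms of
k-schemes where Y and Z are nonsingular varieties over k (integral, separated, smooth of finite type
over k) of dimensions r and s. For a k-point σ of G write f^σ : Y → X for y ↦ σ · f(y). Then there
is a nonempty open subset V ⊆ G such that for every k-point σ of G lying in V the scheme Y^σ ×_X Z
(fibre product of f^σ and g) is smooth over k and is either empty or of dimension r + s − n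
(dimensions are topological Krull dimensions). -/
theorem result (k : Type u) [Field k] [IsAlgClosed k] [CharZero k]
    (G X : Over (Spec (CommRingCat.of k))) [GrpObj G] (a : AlgGrp.Action G X)
    [IsIntegral G.left] [IsSeparated G.hom] [LocallyOfFiniteType G.hom] [QuasiCompact G.hom]
    [IsIntegral X.left] [IsSeparated X.hom] [LocallyOfFiniteType X.hom] [QuasiCompact X.hom]
    (htrans : ∀ x x' : 𝟙_ (Over (Spec (CommRingCat.of k))) ⟶ X,
      ∃ σ : 𝟙_ (Over (Spec (CommRingCat.of k))) ⟶ G, CartesianMonoidalCategory.lift σ x ≫ a.act = x')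
    {Y Z : Scheme.{u}} (f : Y ⟶ X.left) (g : Z ⟶ X.left)
    [IsIntegral Y] [IsSeparated (f ≫ X.hom)] [QuasiCompact (f ≫ X.hom)] [Smooth (f ≫ X.hom)]
    [IsIntegral Z] [IsSeparated (g ≫ X.hom)] [QuasiCompact (g ≫ X.hom)] [Smooth (g ≫ X.hom)]
    (n r s : ℕ) (hn : topologicalKrullDim ↥X.left = n) (hr : topologicalKrullDim ↥Y = r)
    (hs : topologicalKrullDim ↥Z = s) :
    ∃ V : G.left.Opens, (V : Set ↥G.left).Nonempty ∧
      ∀ σ : 𝟙_ (Over (Spec (CommRingCat.of k))) ⟶ G, Set.range σ.left.base ⊆ (V : Set ↥G.left) →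
        ∀ fσ : Y ⟶ X.left,
          fσ = (CartesianMonoidalCategory.lift (CartesianMonoidalCategory.toUnit (Over.mk (f ≫ X.hom)) ≫ σ)
            (Over.homMk f) ≫ a.act).left →
          Smooth (pullback.fst fσ g ≫ f ≫ X.hom) ∧
            (IsEmpty ↥(pullback fσ g) ∨ (n ≤ r + s ∧ topologicalKrullDim ↥(pullback fσ g) = ((r + s - n : ℕ) : WithBot ℕ∞))) := by
  let Yo : Over (Spec (CommRingCat.of k)) := Over.mk (f ≫ X.hom)
  let fo : Yo ⟶ X := Over.homMk f
  haveI : Smooth Yo.hom := ‹Smooth (f ≫ X.hom)›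
  haveI : QuasiCompact Yo.hom := ‹QuasiCompact (f ≫ X.hom)›
  haveI hΦ : Smooth (GrpAct.translateFamily a fo).left := GrpAct.smooth_translateFamily a htrans fo
  let Φ := (GrpAct.translateFamily a fo).left
  haveI hPqc : QuasiCompact (G ⊗ Yo).hom := by
    rw [← Over.w (fst G Yo), Over.fst_left]
    exact MorphismProperty.comp_mem _ _ _
      (MorphismProperty.pullback_fst (P := @QuasiCompact) _ _ ‹QuasiCompact Yo.hom›) ‹QuasiCompact G.hom›
  haveI : QuasiCompact (Φ ≫ X.hom) := by rw [Over.w]; exact hPqc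
  haveI : QuasiCompact Φ := QuasiCompact.of_comp Φ X.hom
  let pP : pullback Φ g ⟶ (G ⊗ Yo).left := pullback.fst Φ g
  let pZ : pullback Φ g ⟶ Z := pullback.snd Φ g
  let q : pullback Φ g ⟶ G.left := pP ≫ (fst G Yo).left
  haveI : Smooth pZ := MorphismProperty.pullback_snd (P := @Smooth) _ _ hΦ
  haveI : QuasiCompact pZ := MorphismProperty.pullback_snd (P := @QuasiCompact) _ _ inferInstance
  let hW : pullback Φ g ⟶ Spec (CommRingCat.of k) := pZ ≫ g ≫ X.hom
  have hq : q ≫ G.hom = hW := by
    simp only [q, hW, pP, pZ, Category.assoc]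
    rw [Over.w (fst G Yo), ← pullback.condition_assoc, Over.w (GrpAct.translateFamily a fo)]
  haveI : QuasiCompact (q ≫ G.hom) := by rw [hq]; infer_instance
  haveI : QuasiCompact q := QuasiCompact.of_comp q G.hom
  obtain ⟨V, hVne, hVsm⟩ := GrpAct.exists_smooth_restrict (k := k) hW G.hom q hq
  refine ⟨V, hVne, fun σ hσ fσ hfσ => ?_⟩
  let ψ : Yo ⟶ G ⊗ Yo := lift (toUnit Yo ≫ σ) (𝟙 Yo)
  have hψΦ : ψ.left ≫ Φ = fσ := by
    rw [hfσ, ← Over.comp_left, GrpAct.comp_translateFamily, Category.id_comp]
  have hA : IsPullback ψ.left Yo.hom (fst G Yo).left σ.left := by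
    have ht : IsPullback (snd G Yo).left (fst G Yo).left Yo.hom G.hom := by
      rw [Over.snd_left, Over.fst_left]
      exact (IsPullback.of_hasPullback G.hom Yo.hom).flip
    refine IsPullback.of_right ?_ ?_ ht
    · have h1 : ψ.left ≫ (snd G Yo).left = 𝟙 _ := by
        rw [← Over.comp_left, lift_snd]
        rfl
      have h2 : σ.left ≫ G.hom = 𝟙 _ := Over.w σ
      rw [h1, h2]
      exact IsPullback.id_horiz _
    · rw [← Over.comp_left, lift_fst]
      rfl
  let j : pullback fσ g ⟶ pullback Φ g := pullback.lift (pullback.fst fσ g ≫ ψ.left) (pullback.snd fσ g)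
    (by rw [Category.assoc, hψΦ]; exact pullback.condition)
  have hB : IsPullback j (pullback.fst fσ g) pP ψ.left := by
    refine IsPullback.of_right ?_ ?_ (IsPullback.of_hasPullback Φ g).flip
    · rw [pullback.lift_snd, hψΦ]
      exact (IsPullback.of_hasPullback fσ g).flip
    · exact pullback.lift_fst _ _ _
  have hC : IsPullback j (pullback.fst fσ g ≫ Yo.hom) q σ.left := hB.paste_vert hA
  let p : pullback fσ g ⟶ Spec (CommRingCat.of k) := pullback.fst fσ g ≫ Yo.hom
  have hp : p = pullback.fst fσ g ≫ f ≫ X.hom := rfl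
  let sV : Spec (CommRingCat.of k) ⟶ V := IsOpenImmersion.lift V.ι σ.left (by rw [Scheme.Opens.range_ι]; exact hσ)
  have hsV : sV ≫ V.ι = σ.left := IsOpenImmersion.lift_fac _ _ _
  have hres := (isPullback_morphismRestrict q V).flip
  let j' : pullback fσ g ⟶ q ⁻¹ᵁ V := hres.lift j (p ≫ sV) (by rw [Category.assoc, hsV]; exact hC.w)
  have hD : IsPullback j' p (q ∣_ V) sV := by
    refine IsPullback.of_right ?_ (hres.lift_snd _ _ _) hres
    rw [hres.lift_fst, hsV]
    exact hC
  haveI hpsm : Smooth p := MorphismProperty.of_isPullback (P := @Smooth) hD hVsm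
  refine ⟨by rw [← hp]; exact hpsm, ?_⟩
  by_cases hF : IsEmpty ↥(pullback fσ g)
  · exact Or.inl hF
  rw [not_isEmpty_iff] at hF
  refine Or.inr ?_
  -- dimension of the local rings at the closed points
  haveI : IsLocallyNoetherian G.left := LocallyOfFiniteType.isLocallyNoetherian G.hom
  haveI : IsLocallyNoetherian X.left := LocallyOfFiniteType.isLocallyNoetherian X.hom
  haveI : IsLocallyNoetherian Z := LocallyOfFiniteType.isLocallyNoetherian (g ≫ X.hom)
  haveI : Subsingleton (Spec (CommRingCat.of k)) := inferInstanceAs (Subsingleton (PrimeSpectrum k))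
  haveI : LocallyOfFiniteType (q ≫ G.hom) := by rw [hq]; infer_instance
  haveI : LocallyOfFiniteType q := locallyOfFiniteType_of_comp q G.hom
  haveI : IsClosedImmersion σ.left := by
    haveI : IsClosedImmersion (σ.left ≫ G.hom) := by
      rw [show σ.left ≫ G.hom = 𝟙 _ from Over.w σ]
      infer_instance
    exact IsClosedImmersion.of_comp σ.left G.hom
  haveI : IsClosedImmersion j := MorphismProperty.of_isPullback (P := @IsClosedImmersion) hC.flip inferInstance
  haveI : Flat (fst G Yo).left := by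
    rw [Over.fst_left]
    exact MorphismProperty.pullback_fst (P := @Flat) _ _ inferInstance
  haveI : LocallyOfFiniteType (fst G Yo).left := by
    rw [Over.fst_left]
    exact MorphismProperty.pullback_fst (P := @LocallyOfFiniteType) _ _ inferInstance
  haveI : JacobsonSpace G.left := LocallyOfFiniteType.jacobsonSpace G.hom
  haveI : JacobsonSpace X.left := LocallyOfFiniteType.jacobsonSpace X.hom
  haveI : JacobsonSpace Z := LocallyOfFiniteType.jacobsonSpace (g ≫ X.hom)
  haveI : JacobsonSpace (G ⊗ Yo).left := LocallyOfFiniteType.jacobsonSpace (fst G Yo).left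
  haveI : JacobsonSpace ↥(pullback Φ g) := LocallyOfFiniteType.jacobsonSpace pZ
  haveI : JacobsonSpace ↥Yo.left := LocallyOfFiniteType.jacobsonSpace (f ≫ X.hom)
  haveI : JacobsonSpace ↥Y := LocallyOfFiniteType.jacobsonSpace (f ≫ X.hom)
  haveI : LocallyOfFiniteType g := locallyOfFiniteType_of_comp g X.hom
  haveI : LocallyOfFiniteType pP := MorphismProperty.pullback_fst (P := @LocallyOfFiniteType) _ _ ‹LocallyOfFiniteType g›
  haveI : IsIntegral Yo.left := ‹IsIntegral Y›
  have hr' : topologicalKrullDim ↥Yo.left = r := hr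
  have key : ∀ x : ↥(pullback fσ g), IsClosed ({x} : Set ↥(pullback fσ g)) →
      n ≤ r + s ∧ ringKrullDim ((pullback fσ g).presheaf.stalk x) = ((r + s - n : ℕ) : WithBot ℕ∞) := by
    intro x hx
    let y : ↥Yo.left := pullback.fst fσ g x
    let w : ↥(pullback Φ g) := j x
    let cc : ↥(G ⊗ Yo).left := pP w
    have hw : IsClosed ({w} : Set ↥(pullback Φ g)) := j.closePoints_subset_preimage_closedPoints hx
    have hy : IsClosed ({y} : Set ↥Yo.left) := (pullback.fst fσ g).closePoints_subset_preimage_closedPoints hx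
    have hcc : IsClosed ({cc} : Set ↥(G ⊗ Yo).left) := pP.closePoints_subset_preimage_closedPoints hw
    have hccy : cc = ψ.left y := by
      show (j ≫ pP) x = (pullback.fst fσ g ≫ ψ.left) x
      rw [hB.w]
    have hqw : IsClosed ({q w} : Set G.left) := q.closePoints_subset_preimage_closedPoints hw
    have hzw : IsClosed ({pZ w} : Set Z) := pZ.closePoints_subset_preimage_closedPoints hw
    have hφcc : IsClosed ({Φ cc} : Set X.left) := Φ.closePoints_subset_preimage_closedPoints hcc
    obtain ⟨dG, A, hdG, hA', hwA⟩ : ∃ i l : ℕ, ringKrullDim (G.left.presheaf.stalk (q w)) = (i : WithBot ℕ∞) ∧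
        FlatMor.fibreDimAt q w = (l : WithBot ℕ∞) ∧
        ringKrullDim ((pullback Φ g).presheaf.stalk w) = ((i + l : ℕ) : WithBot ℕ∞) := by
      -- `q` is flat near `w`
      let w' : ↥(q ⁻¹ᵁ V) := j' x
      have hw' : (q ⁻¹ᵁ V).ι w' = w := by
        rw [← Scheme.Hom.comp_apply, hres.lift_fst]
      have hcl : IsClosed ({w'} : Set ↥(q ⁻¹ᵁ V)) := by
        have : (q ⁻¹ᵁ V).ι ⁻¹' {w} = {w'} := by
          ext t
          simp only [Set.mem_preimage, Set.mem_singleton_iff]
          exact ⟨fun h => (q ⁻¹ᵁ V).ι.isOpenEmbedding.injective (h.trans hw'.symm), fun h => h ▸ hw'⟩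
        rw [← this]
        exact hw.preimage (q ⁻¹ᵁ V).ι.continuous
      obtain ⟨i, l, h1, h2, h3⟩ := GrpAct.dim_stalk_eq_add_fibreDimAt (q ∣_ V) w' hcl
      refine ⟨i, l, ?_, ?_, ?_⟩
      · rw [← h1, ringKrullDim_eq_of_ringEquiv (V.stalkIso ((q ∣_ V) w')).commRingCatIsoToRingEquiv]
        have : V.ι ((q ∣_ V) w') = q w := by
          rw [← Scheme.Hom.comp_apply, morphismRestrict_ι, Scheme.Hom.comp_apply, hw']
        rw [← this]
        rfl
      · rw [← h2, LocalDimBC.fibreDimAt_of_isPullback q V.ι (q ⁻¹ᵁ V).ι (q ∣_ V) hres w', hw']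
      · rw [← h3, ringKrullDim_eq_of_ringEquiv ((q ⁻¹ᵁ V).stalkIso w').commRingCatIsoToRingEquiv, ← hw']
        rfl
    obtain ⟨dZ, B, hdZ, hB', hwB⟩ := GrpAct.dim_stalk_eq_add_fibreDimAt pZ w hw
    obtain ⟨dX, B₂, hdX, hB₂, hccB⟩ := GrpAct.dim_stalk_eq_add_fibreDimAt Φ cc hcc
    obtain ⟨dG₂, R, hdG₂, hR, hccR⟩ := GrpAct.dim_stalk_eq_add_fibreDimAt (fst G Yo).left cc hcc
    -- identify the dimensions
    have hn' : dX = n := by
      rw [GrpAct.dim_stalk_closed_eq X.hom _ hφcc, hn] at hdX
      exact_mod_cast hdX.symm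
    have hs' : dZ = s := by
      rw [GrpAct.dim_stalk_closed_eq (g ≫ X.hom) _ hzw, hs] at hdZ
      exact_mod_cast hdZ.symm
    have hG' : dG = dG₂ := by
      rw [show q w = (fst G Yo).left cc from rfl, hdG₂] at hdG
      exact_mod_cast hdG.symm
    have hBB : B = B₂ := by
      rw [LocalDimBC.fibreDimAt_of_isPullback Φ g pP pZ (IsPullback.of_hasPullback Φ g) w, hB₂] at hB'
      exact_mod_cast hB'.symm
    have hR' : R = r := by
      have ht : IsPullback ψ.left Yo.hom (fst G Yo).left σ.left := hA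
      have h1 := LocalDimBC.fibreDimAt_of_isPullback (fst G Yo).left σ.left ψ.left Yo.hom ht y
      rw [GrpAct.fibreDimAt_eq_dim_stalk Yo.hom y hy, GrpAct.dim_stalk_closed_eq Yo.hom y hy, hr', ← hccy,
        hR] at h1
      exact_mod_cast h1.symm
    have hWW : dG + A = dZ + B := by
      rw [hwA] at hwB
      exact_mod_cast hwB
    have hGG : dX + B₂ = dG₂ + R := by
      rw [hccB] at hccR
      exact_mod_cast hccR
    have hxA : ringKrullDim ((pullback fσ g).presheaf.stalk x) = (A : WithBot ℕ∞) := by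
      rw [← GrpAct.fibreDimAt_eq_dim_stalk p x hx,
        LocalDimBC.fibreDimAt_of_isPullback q σ.left j p hC x, hA']
    subst hn' hs' hG' hBB hR'
    refine ⟨by omega, ?_⟩
    rw [hxA]
    congr 2
    omega
  haveI : JacobsonSpace ↥(pullback fσ g) := LocallyOfFiniteType.jacobsonSpace p
  obtain ⟨x₀, -, hx₀⟩ := nonempty_inter_closedPoints (Z := (Set.univ : Set ↥(pullback fσ g))) Set.univ_nonempty
    isOpen_univ.isLocallyClosed
  exact ⟨(key x₀ hx₀).1, GrpAct.topologicalKrullDim_eq_of_closed p _ fun x hx => (key x hx).2⟩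

end Groth.Agent.S10928
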