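import Groth.Statements.S10930
import Mathlib
import Groth.Agent.W7GenSmooth.Basic
import Groth.Agent.GenBertini.Basic

set_option autoImplicit false
universe u
open CategoryTheory CategoryTheory.Limits AlgebraicGeometry
open Variety

namespace Groth.Agent.S10930

/-- Let k be an algebraically closed field of characteristic zero, X and Y varieties over k (integral,
separated and of finite type over k) with X nonsingular, i.e. smooth over k, and f : X → Y a
k-morphism. Then there is a nonempty open subscheme V of Y such that the restriction f⁻¹(V) → V of f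
is smooth. -/
theorem result (k : Type u) [Field k] [IsAlgClosed k] [CharZero k]
    {X Y : Scheme.{u}} (qX : X ⟶ Spec (CommRingCat.of k)) (qY : Y ⟶ Spec (CommRingCat.of k))
    [LocallyOfFiniteType qX] [QuasiCompact qX] [IsSeparated qX] [Smooth qX]
    [LocallyOfFiniteType qY] [QuasiCompact qY] [IsSeparated qY]
    [IsIntegral X] [IsIntegral Y] (f : X ⟶ Y) (hf : f ≫ qY = qX) :
    ∃ V : Y.Opens, (V : Set ↥Y).Nonempty ∧ Smooth (f ∣_ V) := by
  haveI : LocallyOfFiniteType (f ≫ qY) := by rw [hf]; infer_instance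
  haveI : LocallyOfFiniteType f := locallyOfFiniteType_of_comp f qY
  haveI : IsLocallyNoetherian Y := LocallyOfFiniteType.isLocallyNoetherian qY
  haveI : LocallyOfFinitePresentation f := inferInstance
  haveI : QuasiCompact (f ≫ qY) := by rw [hf]; infer_instance
  haveI : QuasiCompact f := MorphismProperty.of_postcomp (W := @QuasiCompact) (W' := @QuasiSeparated) f qY inferInstance ‹_›
  obtain ⟨_, ⟨V₀, hV₀, rfl⟩, hV₀ne, -⟩ :=
    Y.isBasis_affineOpens.exists_subset_of_mem_open (Set.mem_univ (genericPoint Y)) isOpen_univ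
  haveI : Nonempty V₀ := ⟨⟨genericPoint Y, hV₀ne⟩⟩
  haveI : CharZero Γ(Y, V₀) := Groth.Agent.W7GenSmooth.charZero_sections qY V₀
  haveI : IsNoetherianRing Γ(Y, V₀) := IsLocallyNoetherian.component_noetherian ⟨V₀, hV₀⟩
  obtain ⟨S, hSf, hS⟩ := (isCompact_and_isOpen_iff_finite_and_eq_biUnion_affineOpens
    (U := ((f ⁻¹ᵁ V₀ : X.Opens) : Set X))).1
    ⟨QuasiCompact.isCompact_preimage (f := f) _ V₀.2 hV₀.isCompact, (f ⁻¹ᵁ V₀).2⟩
  have hW : ∀ W ∈ S, ∃ g : Γ(Y, V₀), g ≠ 0 ∧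
      ∀ x ∈ W.1, f.base x ∈ Y.basicOpen g → x ∈ f.smoothLocus := by
    intro W hWS
    have hle : W.1 ≤ f ⁻¹ᵁ V₀ := fun x hx => by
      rw [← SetLike.mem_coe, hS]
      exact Set.mem_biUnion hWS hx
    have hfp := f.finitePresentation_appLE hV₀ W.2 hle
    have hsm := qX.smooth_appLE (isAffineOpen_top _) W.2 (le_top : W.1 ≤ qX ⁻¹ᵁ ⊤)
    algebraize [(f.appLE V₀ W.1 hle).hom, (qX.appLE ⊤ W.1 le_top).hom]
    haveI : IsRegularRing Γ(Spec (CommRingCat.of k), ⊤) :=
      IsRegularRing.of_ringEquiv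
        (Scheme.ΓSpecIso (CommRingCat.of k)).commRingCatIsoToRingEquiv.symm
    haveI : IsRegularRing Γ(X, W.1) :=
      Groth.Agent.RegLocus.isRegularRing_of_smooth Γ(Spec (CommRingCat.of k), ⊤) Γ(X, W.1)
    obtain ⟨g, hg0, hg⟩ := Groth.Agent.GenBertini.exists_smooth_away Γ(Y, V₀) Γ(X, W.1)
    refine ⟨g, hg0, fun x hx hxg => ?_⟩
    rw [Scheme.Hom.mem_smoothLocus, formallySmooth_stalkMap_iff V₀ hV₀ W.1 W.2 hle hx]
    refine Algebra.basicOpen_subset_smoothLocus_iff.2 hg ?_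
    show algebraMap Γ(Y, V₀) Γ(X, W.1) g ∉ (W.2.primeIdealOf ⟨x, hx⟩).asIdeal
    have h1 := IsAffineOpen.comap_primeIdealOf_appLE (f := f) V₀ hV₀ W.1 W.2 hle hx
    intro h2
    have h3 : g ∈ (hV₀.primeIdealOf ⟨f x, hle hx⟩).asIdeal := by
      rw [← h1]; exact h2
    letI := TopCat.Presheaf.algebra_section_stalk Y.presheaf (⟨f x, hle hx⟩ : V₀)
    haveI := hV₀.isLocalization_stalk ⟨f x, hle hx⟩
    exact (IsLocalization.AtPrime.isUnit_to_map_iff (Y.presheaf.stalk (f x))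
      (hV₀.primeIdealOf ⟨f x, hle hx⟩).asIdeal g).1
      ((Y.mem_basicOpen g (f x) (hle hx)).1 hxg) h3
  choose g hg0 hg using hW
  classical
  let G : Γ(Y, V₀) := ∏ W ∈ hSf.toFinset.attach, g W.1 (hSf.mem_toFinset.1 W.2)
  have hG : G ≠ 0 := Finset.prod_ne_zero_iff.2 (fun W _ => hg0 _ _)
  refine ⟨Y.basicOpen G, ⟨genericPoint Y, ?_⟩, ?_⟩
  · have hne : Y.basicOpen G ≠ ⊥ := fun h => hG ((basicOpen_eq_bot_iff G).1 h)
    obtain ⟨y, hy⟩ := (TopologicalSpace.Opens.ne_bot_iff_nonempty _).1 hne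
    exact ((genericPoint_spec Y).specializes (by trivial : y ∈ (⊤ : Set Y))).mem_open
      (Y.basicOpen G).2 hy
  · have hin : ∀ x : X, f.base x ∈ Y.basicOpen G → x ∈ f.smoothLocus := by
      intro x hx
      have hx0 : x ∈ ((f ⁻¹ᵁ V₀ : X.Opens) : Set X) := Y.basicOpen_le G hx
      rw [hS] at hx0
      obtain ⟨W, hWS, hxW⟩ := Set.mem_iUnion₂.1 hx0
      refine hg W hWS x hxW ?_
      have hd : g W hWS ∣ G := Finset.dvd_prod_of_mem
        (fun W : {W // W ∈ hSf.toFinset} => g W.1 (hSf.mem_toFinset.1 W.2))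
        (Finset.mem_attach _ (⟨W, hSf.mem_toFinset.2 hWS⟩ : {W // W ∈ hSf.toFinset}))
      obtain ⟨c, hc⟩ := hd
      rw [hc, Scheme.basicOpen_mul] at hx
      exact hx.1
    haveI h1 : Smooth ((f ⁻¹ᵁ Y.basicOpen G).ι ≫ f) := by
      rw [← Scheme.Hom.smoothLocus_eq_top_iff, ← Scheme.Hom.preimage_smoothLocus_eq, eq_top_iff]
      exact fun x _ => hin _ x.2
    rw [← morphismRestrict_ι] at h1
    exact MorphismProperty.of_postcomp (W := @Smooth) (W' := @IsOpenImmersion)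
      (f ∣_ Y.basicOpen G) (Y.basicOpen G).ι inferInstance h1

end Groth.Agent.S10930
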