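import Groth.Statements.S10931
import Groth.Agent.PnHodge.Dim
-- import your own Groth.Agent.* helpers here

set_option autoImplicit false
universe u
open CategoryTheory CategoryTheory.Limits AlgebraicGeometry
open ProjDual

namespace Groth.Agent.S10931

/-- Let k be a field, p ≤ r and q ≤ r natural numbers, P = P^r_k with structure map to Spec k, Ω =
Ω^1_{P/k} (the conormal sheaf of the diagonal), L an O_P-module which is a p-th exterior power of Ω
and L' one which is an (r − p)-th exterior power of Ω, and d an integer; write M(d) = M ⊗ O_P(d).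
Then H^q(P, L(d)) = H^q(P^r, Ω^p(d)) and H^{r−q}(P, L'(−d)) = H^{r−q}(P^r, Ω^{r−p}(−d)) have the
same dimension over k. (The published statement asserts an isomorphism between these two cohomology
groups, obtained from Serre duality; this row records the equality of dimensions.) -/
theorem result (k : Type u) [Field k] (r p q : ℕ)
    (hp : p ≤ r) (hq : q ≤ r) (L L' : (CohB1.ProjSpace r k).Modules)
    (hL : ExtPow.IsExtPow p (Omega.sheaf (CohB1.ProjSpace.toSpec r k)) L)
    (hL' : ExtPow.IsExtPow (r - p) (Omega.sheaf (CohB1.ProjSpace.toSpec r k)) L') (d : ℤ) :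
    Module.finrank k (Coh.HH (CohB1.ProjSpace r k) (CohB1.tensorMod L (Twist.twistProjSpace r k d)) q) =
      Module.finrank k (Coh.HH (CohB1.ProjSpace r k)
        (CohB1.tensorMod L' (Twist.twistProjSpace r k (-d))) (r - q)) := by
  have key : ∀ (p q : ℕ) (L L' : (CohB1.ProjSpace r k).Modules), p ≤ r → q ≤ r →
      Groth.Agent.PnHodge.IsOm r k p L → Groth.Agent.PnHodge.IsOm r k (r - p) L' → ∀ d : ℕ, 1 ≤ d →
      Module.finrank k (Groth.Agent.PnHodge.H L (d : ℤ) q) =
        Module.finrank k (Groth.Agent.PnHodge.H L' (-(d : ℤ)) (r - q)) := by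
    intro p q L L' hp hq hL hL' d hd
    rcases Nat.eq_zero_or_pos q with rfl | h
    · rw [(Groth.Agent.PnHodge.finrank_H_pos p hp d hd L hL).2, Nat.sub_zero,
        (Groth.Agent.PnHodge.finrank_H_neg (r - p) (by omega) d hd L' hL').2, Nat.sub_sub_self hp]
    · haveI := Groth.Agent.PnHodge.vanish p (d : ℤ) q (by omega) (by omega) (by omega) L hL
      haveI := Groth.Agent.PnHodge.vanish (r - p) (-(d : ℤ)) (r - q) (by omega) (by omega) (by omega) L' hL'
      rw [Module.finrank_zero_of_subsingleton, Module.finrank_zero_of_subsingleton]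
  rcases lt_trichotomy d 0 with hd | rfl | hd
  · obtain ⟨e, rfl⟩ : ∃ e : ℕ, d = -(e : ℤ) := ⟨(-d).toNat, by omega⟩
    rw [neg_neg]
    have hL'' : Groth.Agent.PnHodge.IsOm r k (r - (r - p)) L := by rw [Nat.sub_sub_self hp]; exact hL
    have := key (r - p) (r - q) L' L (by omega) (by omega) hL' hL'' e (by omega)
    rw [Nat.sub_sub_self hq] at this
    exact this.symm
  · rw [neg_zero]
    by_cases h : q = p
    · subst h
      obtain ⟨a⟩ := Groth.Agent.PnHodge.nonempty_H_diag q hq L hL
      obtain ⟨b⟩ := Groth.Agent.PnHodge.nonempty_H_diag (r - q) (by omega) L' hL'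
      exact a.finrank_eq.trans b.finrank_eq.symm
    · haveI := Groth.Agent.PnHodge.vanish p 0 q (by omega) (by omega) (by omega) L hL
      haveI := Groth.Agent.PnHodge.vanish (r - p) 0 (r - q) (by omega) (by omega) (by omega) L' hL'
      rw [Module.finrank_zero_of_subsingleton, Module.finrank_zero_of_subsingleton]
  · obtain ⟨e, rfl⟩ := Int.eq_ofNat_of_zero_le hd.le
    exact key p q L L' hp hq hL hL' e (by omega)

end Groth.Agent.S10931
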