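import Groth.Statements.S10933
import Groth.Agent.ExtPd
import Groth.Agent.SerreReg.Regular
import Groth.Agent.SerreReg.CM

set_option autoImplicit false
universe u
open CategoryTheory
open CAlg Groth.Agent CategoryTheory

namespace Groth.Agent.S10933

/-- Let A be a (Noetherian) regular local ring, M a finitely generated A-module and d a natural number.
Then the projective dimension of M equals d if and only if Ext^j_A(M, A) = 0 for every j > d and
Ext^d_A(M, A) ≠ 0. (Projective dimension valued in WithBot ℕ∞, the zero module having projective
dimension ⊥.) -/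
theorem result (A : Type u) [CommRing A] [IsRegularLocalRing A]
    (M : Type u) [AddCommGroup M] [Module A M] [Module.Finite A M] (d : ℕ) :
    projectiveDimension (ModuleCat.of A M) = (d : WithBot ℕ∞) ↔
      ((∀ j : ℕ, d < j → Subsingleton (Abelian.Ext (ModuleCat.of A M) (ModuleCat.of A A) j)) ∧
        Nontrivial (Abelian.Ext (ModuleCat.of A M) (ModuleCat.of A A) d)) := by
  obtain ⟨n, hn⟩ : ∃ n : ℕ, ringKrullDim A = n := SerreReg.exists_dim A
  have hpd := SerreReg.pdLE_of_isRegularLocalRing A n hn M
  have key : ∀ q : ℕ, SerreReg.PdLE A M q ↔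
      ∀ j : ℕ, q < j → Subsingleton (Abelian.Ext (ModuleCat.of A M) (ModuleCat.of A A) j) := fun q =>
    ⟨fun hq j hj => by
      haveI := hq
      exact HasProjectiveDimensionLT.subsingleton (ModuleCat.of A M) (q + 1) j (by omega) _,
     fun h => ExtPd.pdLE_of_vanish n q M hpd h⟩
  have hle : ∀ q : ℕ, SerreReg.PdLE A M q ↔ projectiveDimension (ModuleCat.of A M) ≤ q := fun q =>
    (projectiveDimension_le_iff _ q).symm
  have hhom : Nontrivial (Abelian.Ext (ModuleCat.of A M) (ModuleCat.of A A) 0) ↔ Nontrivial (M →ₗ[A] A) :=
    Equiv.nontrivial_congr (Abelian.Ext.homEquiv₀.trans ModuleCat.homEquiv)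
  constructor
  · intro hd
    have hP : SerreReg.PdLE A M d := (hle d).mpr hd.le
    refine ⟨(key d).mp hP, ?_⟩
    rcases Nat.eq_zero_or_pos d with rfl | hdpos
    · rw [hhom]
      haveI : Module.Projective A M := (SerreReg.pdLE_zero_iff M).mp hP
      haveI : Module.FinitePresentation A M := Module.finitePresentation_of_finite A M
      haveI : Module.Free A M := Module.free_of_flat_of_isLocalRing
      haveI : Nontrivial M := by
        by_contra hM
        rw [not_nontrivial_iff_subsingleton] at hM
        have hz : Limits.IsZero (ModuleCat.of A M) := ModuleCat.isZero_of_subsingleton _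
        rw [(projectiveDimension_eq_bot_iff _).mpr hz] at hd
        exact WithBot.bot_ne_coe hd
      let b := Module.Free.chooseBasis A M
      haveI : Nonempty (Module.Free.ChooseBasisIndex A M) := b.index_nonempty
      refine nontrivial_of_ne (b.coord (Classical.arbitrary _)) 0 fun h => ?_
      have := LinearMap.congr_fun h (b (Classical.arbitrary _))
      simp at this
    · by_contra hcon
      rw [not_nontrivial_iff_subsingleton] at hcon
      have hP' : SerreReg.PdLE A M (d - 1) := (key (d - 1)).mpr fun j hj => by
        rcases eq_or_lt_of_le (show d ≤ j by omega) with rfl | hlt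
        · exact hcon
        · exact (key d).mp hP j hlt
      have := (hle (d - 1)).mp hP'
      rw [hd] at this
      have : d ≤ d - 1 := by exact_mod_cast this
      omega
  · rintro ⟨hvan, hnt⟩
    have hP : SerreReg.PdLE A M d := (key d).mpr hvan
    have hle' := (hle d).mp hP
    rcases Nat.eq_zero_or_pos d with rfl | hdpos
    · refine le_antisymm hle' ?_
      refine (projectiveDimension_ge_iff (ModuleCat.of A M) 0).mpr fun hlt => ?_
      have hz := (hasProjectiveDimensionLT_zero_iff_isZero _).mp hlt
      haveI : Subsingleton M := ModuleCat.subsingleton_of_isZero hz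
      rw [hhom] at hnt
      exact not_subsingleton (M →ₗ[A] A) ⟨fun a b => LinearMap.ext fun m => by
        rw [Subsingleton.elim m 0, map_zero, map_zero]⟩
    · refine le_antisymm hle' ((projectiveDimension_ge_iff _ d).mpr fun hlt => ?_)
      haveI := hlt
      haveI := HasProjectiveDimensionLT.subsingleton (ModuleCat.of A M) d d le_rfl (ModuleCat.of A A)
      exact not_subsingleton (Abelian.Ext (ModuleCat.of A M) (ModuleCat.of A A) d) this

end Groth.Agent.S10933
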