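import Groth.Statements.S10935
import Groth.Agent.AssLib.Points
import Groth.Agent.RegDual.Scheme

set_option autoImplicit false
universe u
open CategoryTheory CategoryTheory.Limits AlgebraicGeometry
open FlatMor

namespace Groth.Agent.S10935

/-- Let Y be an integral, regular (every local ring a regular local ring), one-dimensional scheme with
generic point η, X a Noetherian scheme and f : X → Y a morphism. Then f is flat if and only if every
associated point x of X — a point such that the maximal ideal of O_{X,x} is an associated prime of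
O_{X,x} — satisfies f(x) = η. -/
theorem result {X Y : Scheme.{u}} (f : X ⟶ Y)
    [IsIntegral Y] (hreg : ∀ y : Y, IsRegularLocalRing (Y.presheaf.stalk y))
    (hY : topologicalKrullDim ↥Y = 1) [IsNoetherian X] :
    Flat f ↔ ∀ x : X, Curv2.IsAssPoint (Coh.structureModule X) x → f.base x = genericPoint ↥Y := by
  have hgen : ∀ z : Y, IsField (Y.presheaf.stalk z) → z = genericPoint ↥Y := by
    intro z hK
    have hsub : Subsingleton (PrimeSpectrum (Y.presheaf.stalk z)) := by
      let := hK.toField; infer_instance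
    obtain ⟨a, ha⟩ : genericPoint ↥Y ∈ Set.range (Y.fromSpecStalk z) := by
      rw [Scheme.range_fromSpecStalk]; exact genericPoint_specializes z
    obtain ⟨b, hb⟩ : z ∈ Set.range (Y.fromSpecStalk z) := by
      rw [Scheme.range_fromSpecStalk]; exact specializes_rfl
    exact hb.symm.trans ((congrArg _ (hsub.elim b a)).trans ha)
  constructor
  · intro hf x hx
    refine hgen _ ?_
    rw [Groth.Agent.AssLib.ass_struct_iff] at hx
    obtain ⟨-, v, hv⟩ := hx
    by_contra hK
    have hm : IsLocalRing.maximalIdeal (Y.presheaf.stalk (f x)) ≠ ⊥ :=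
      fun h => hK (IsLocalRing.isField_iff_maximalIdeal_eq.mpr h)
    obtain ⟨a, ha, ha0⟩ := Submodule.exists_mem_ne_zero_of_ne_bot hm
    let := (f.stalkMap x).hom.toAlgebra
    have : Module.Flat (Y.presheaf.stalk (f x)) (X.presheaf.stalk x) := Flat.stalkMap f x
    have hreg : IsSMulRegular (X.presheaf.stalk x) a :=
      Module.Flat.isSMulRegular_of_isRegular (isRegular_of_ne_zero ha0)
    have h1 : (f.stalkMap x).hom a ∈ IsLocalRing.maximalIdeal (X.presheaf.stalk x) :=
      map_nonunit (f.stalkMap x).hom a ha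
    rw [hv] at h1
    obtain ⟨n, hn⟩ := h1
    rw [← map_pow, Submodule.mem_colon_singleton, Submodule.mem_bot] at hn
    have hv0 : v = 0 := hreg.pow n (by
      show (f.stalkMap x).hom (a ^ n) * v = (f.stalkMap x).hom (a ^ n) * 0
      rw [mul_zero]; exact hn)
    rw [hv0] at hv
    refine (IsLocalRing.maximalIdeal.isMaximal (X.presheaf.stalk x)).ne_top (hv.trans ?_)
    rw [Ideal.eq_top_iff_one]
    exact ⟨1, by rw [Submodule.mem_colon_singleton, smul_zero]; exact zero_mem _⟩
  · intro hass
    rw [Flat.iff_flat_stalkMap]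
    intro x
    have := hreg (f x)
    have : IsPrincipalIdealRing (Y.presheaf.stalk (f x)) := by
      refine ((tfae_of_isNoetherianRing_of_isLocalRing_of_isDomain _).out 5 0).mp ?_
      have h1 := (IsRegularLocalRing.iff_finrank_cotangentSpace (Y.presheaf.stalk (f x))).mp inferInstance
      have h2 := (Groth.Agent.RegDual.ringKrullDim_stalk_le_topologicalKrullDim (f x)).trans hY.le
      rw [← h1] at h2
      exact_mod_cast h2
    let := (f.stalkMap x).hom.toAlgebra
    show Module.Flat (Y.presheaf.stalk (f x)) (X.presheaf.stalk x)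
    rw [Module.Flat.flat_iff_torsion_eq_bot_of_isBezout, Submodule.eq_bot_iff]
    rintro c ⟨⟨a, ha⟩, hac⟩
    have hac' : (f.stalkMap x).hom a * c = 0 := hac
    by_contra hc
    have ha0 : a ≠ 0 := nonZeroDivisors.ne_zero ha
    obtain ⟨W, hxW, a₀, rfl⟩ := Y.presheaf.exists_germ_eq a
    obtain ⟨V, hxV, c₀, rfl⟩ := X.presheaf.exists_germ_eq c
    let V' : X.Opens := V ⊓ f ⁻¹ᵁ W
    let b : Γ(X, V') := (X.presheaf.map (homOfLE (inf_le_right : V' ≤ f ⁻¹ᵁ W)).op).hom ((f.app W).hom a₀)
    let c₁ : Γ(X, V') := (X.presheaf.map (homOfLE (inf_le_left : V' ≤ V)).op).hom c₀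
    have hxV' : x ∈ V' := ⟨hxV, hxW⟩
    have hb : ∀ (y : X) (hy : y ∈ V'), (X.presheaf.germ V' y hy).hom b =
        (f.stalkMap y).hom ((Y.presheaf.germ W (f y) hy.2).hom a₀) := fun y hy =>
      (X.presheaf.germ_res_apply _ _ _ _).trans (Scheme.Hom.germ_stalkMap_apply f W y hy.2 a₀).symm
    have hbc : (X.presheaf.germ V' x hxV').hom (b * c₁) = 0 := by
      rw [map_mul, hb, show (X.presheaf.germ V' x hxV').hom c₁ = (X.presheaf.germ V x hxV).hom c₀ from
        X.presheaf.germ_res_apply _ _ _ _]
      exact hac'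
    obtain ⟨V'', hxV'', iU, iV, he⟩ :=
      TopCat.Presheaf.germ_eq X.presheaf x hxV' hxV' (b * c₁) 0 (hbc.trans (map_zero _).symm)
    rw [map_zero] at he
    let c₂ : Γ(X, V'') := (X.presheaf.map iU.op).hom c₁
    have hne : Groth.Agent.WeakAssLib.mgerm (Coh.structureModule X) hxV'' c₂ ≠ 0 := by
      intro h
      obtain ⟨V₃, hx3, j₁, j₂, he3⟩ := TopCat.Presheaf.germ_eq (Coh.structureModule X).presheaf x hxV''
        hxV'' c₂ 0 (h.trans (map_zero _).symm)
      rw [map_zero] at he3
      apply hc
      have h3 : (X.presheaf.map j₁.op).hom c₂ = 0 := he3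
      have h4 := congrArg (X.presheaf.germ V₃ x hx3).hom h3
      rw [map_zero] at h4
      refine Eq.trans ?_ h4
      exact ((X.presheaf.germ_res_apply j₁ _ _ _).trans ((X.presheaf.germ_res_apply iU _ _ _).trans
        (X.presheaf.germ_res_apply _ _ _ _))).symm
    obtain ⟨y, hy, -, hyass, hyne⟩ := Groth.Agent.WeakAssLib.exists_weakAss
      (Groth.Agent.QC.isQCoh_unit X) hxV'' c₂ hne
    have hfy := hass y ((Groth.Agent.WeakAssLib.isAssPoint_iff _ y).mpr hyass)
    refine hyne ?_
    have hsm : ((X.presheaf.map iU.op).hom b) • (c₂ : Γ(Coh.structureModule X, V'')) = 0 :=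
      ((map_mul (X.presheaf.map iU.op).hom b c₁).symm.trans he :
        (X.presheaf.map iU.op).hom b * c₂ = 0)
    have := Groth.Agent.WeakAssLib.mgerm_smul (Coh.structureModule X) hy ((X.presheaf.map iU.op).hom b) c₂
    have h0 := this.symm.trans
      ((congrArg (Groth.Agent.WeakAssLib.mgerm (Coh.structureModule X) hy) hsm).trans (map_zero _))
    have hu : (X.presheaf.germ V'' y hy).hom ((X.presheaf.map iU.op).hom b) =
        (f.stalkMap y).hom ((Y.presheaf.germ W (f y) (iU.le hy).2).hom a₀) :=
      (X.presheaf.germ_res_apply iU y hy b).trans (hb y (iU.le hy))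
    rw [hu] at h0
    refine ((IsUnit.map (f.stalkMap y).hom ?_).smul_eq_zero).mp h0
    have hK : IsField (Y.presheaf.stalk (f y)) := by
      rw [hfy]; exact Field.toIsField Y.functionField
    refine hK.mul_inv_cancel ?_ |>.elim fun u hu => IsUnit.of_mul_eq_one u hu
    intro h0
    exact ha0 (by
      rw [germ_injective_of_isIntegral Y (f y) (iU.le hy).2 (h0.trans (map_zero _).symm), map_zero])

end Groth.Agent.S10935
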