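import Groth.Statements.S10939
import Groth.Agent.ProjCut.Forms

set_option autoImplicit false
universe u
open CategoryTheory CategoryTheory.Limits AlgebraicGeometry
open Variety

namespace Groth.Agent.S10939

/-- Let k be a field, P = P^n_k = Proj k[x_0, …, x_n], and i_X : X → P, i_Y : Y → P closed immersions
with X of dimension r. Then there are homogeneous polynomials h_1, …, h_{r+1} of positive degree,
with basic opens D_j = D_+(h_j) and hypersurfaces H_j = P ∖ D_j, such that every H_j contains Y and
X ∖ Y = ⋃_j (X ∖ H_j), i.e. every point of X outside Y lies in some D_j; moreover each X ∖ H_j = X ∩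
D_j is affine. (The published statement takes X and Y reduced; the assertion only concerns the
underlying closed sets.) -/
theorem result (k : Type u) [Field k] (n r : ℕ)
    {X Y : Scheme.{u}} (iX : X ⟶ CohB1.ProjSpace n k) (iY : Y ⟶ CohB1.ProjSpace n k)
    [IsClosedImmersion iX] [IsClosedImmersion iY] (hX : topologicalKrullDim ↥X = r) :
    ∃ (h : Fin (r + 1) → MvPolynomial (Fin (n + 1)) k) (D : Fin (r + 1) → (CohB1.ProjSpace n k).Opens),
      (∀ j, D j = Proj.basicOpen (CohB1.polyGrading n k) (h j)) ∧
      (∀ j, ∃ d : ℕ, 0 < d ∧ (h j).IsHomogeneous d) ∧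
      (∀ j, Set.range iY.base ⊆ (D j : Set ↥(CohB1.ProjSpace n k))ᶜ) ∧
      (Set.range iX.base \ Set.range iY.base ⊆ ⋃ j, (D j : Set ↥(CohB1.ProjSpace n k))) ∧
      ∀ j, IsAffineOpen (iX ⁻¹ᵁ (D j)) := by
  classical
  open CategoryTheory in
  exact (by
    have hemb := iX.isEmbedding
    obtain ⟨f, hf, hcov⟩ := Groth.Agent.ProjCut.exists_forms_vanishing (𝒜 := CohB1.polyGrading n k)
      (Set.range iX.base) (Set.range iY.base) iX.isClosedEmbedding.isClosed_range
      iY.isClosedEmbedding.isClosed_range (r + 1) Set.univ isClosed_univ fun l c hmem _ hlt => by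
        choose c' hc' using hmem
        have h1 := Groth.Agent.Unibranch.natCast_le_topologicalKrullDim c' fun i =>
          ⟨hemb.isInducing.specializes_iff.mp (by
            rw [hc', hc']
            exact specializes_iff_mem_closure.mpr
              ((ProjectiveSpectrum.le_iff_mem_closure _ _ _).mp (hlt i).le)),
            fun e => (hlt i).ne (by rw [← hc', ← hc', e])⟩
        have h2 := h1.trans hX.le
        have : l ≤ r := by exact_mod_cast h2
        omega
    refine ⟨f, fun j => Proj.basicOpen (CohB1.polyGrading n k) (f j), fun j => rfl,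
      fun j => ?_, fun j => ?_, fun p hp => ?_, fun j => ?_⟩
    · obtain ⟨⟨e, he, hfe⟩, -⟩ := hf j
      exact ⟨e, he, hfe⟩
    · intro p hp hpD
      exact (ProjectiveSpectrum.mem_basicOpen _ _ _).mp hpD
        ((ProjectiveSpectrum.mem_vanishingIdeal _ _).mp (hf j).2 p hp)
    · obtain ⟨i, hi⟩ := hcov p hp.1 trivial hp.2
      exact Set.mem_iUnion.mpr ⟨i, (ProjectiveSpectrum.mem_basicOpen _ _ _).mpr hi⟩
    · obtain ⟨⟨e, he, hfe⟩, -⟩ := hf j
      exact IsAffineHom.isAffine_preimage (f := iX) _
        (AlgebraicGeometry.Proj.isAffineOpen_basicOpen (CohB1.polyGrading n k) _ hfe he))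

end Groth.Agent.S10939
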