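import Groth.Statements.S10941
import Groth.Agent.FlatDim.BaseChange

set_option autoImplicit false
set_option linter.style.haveILetI false
set_option backward.isDefEq.respectTransparency false
open Groth.Agent CategoryTheory CategoryTheory.Limits AlgebraicGeometry Topology
universe u
open CategoryTheory CategoryTheory.Limits AlgebraicGeometry
open FlatMor

namespace Groth.Agent.S10941

/-- Let k be a field, X, Y and Y' schemes of finite type over k with Y irreducible, f : X → Y a flat
k-morphism and n a natural number such that every irreducible component of X has dimension dim Y +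
n. Let g : Y' → Y be a k-morphism and f' : X ×_Y Y' → Y' the base change of f. Then for every
irreducible closed subset V of Y', every irreducible component of the preimage of V under f' (with
the subspace topology) has dimension dim V + n. In particular (Y' = Y) every irreducible component
of f⁻¹(V) has dimension dim V + n for every irreducible closed V ⊆ Y. -/
theorem result (k : Type u) [Field k]
    {X Y Y' : Scheme.{u}} (qX : X ⟶ Spec (CommRingCat.of k)) (qY : Y ⟶ Spec (CommRingCat.of k))
    (qY' : Y' ⟶ Spec (CommRingCat.of k))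
    [LocallyOfFiniteType qX] [QuasiCompact qX] [LocallyOfFiniteType qY] [QuasiCompact qY]
    [LocallyOfFiniteType qY'] [QuasiCompact qY']
    [IrreducibleSpace ↥Y] (f : X ⟶ Y) (hf : f ≫ qY = qX) [Flat f] (n : ℕ)
    (hX : ∀ Z : Set ↥X, Z ∈ irreducibleComponents ↥X →
      topologicalKrullDim ↥Z = topologicalKrullDim ↥Y + (n : WithBot ℕ∞))
    (g : Y' ⟶ Y) (hg : g ≫ qY = qY')
    (V : Set ↥Y') (hV : IsClosed V) (hVirr : IsIrreducible V)
    (W : Set ↥((pullback.snd f g).base ⁻¹' V))
    (hW : W ∈ irreducibleComponents ↥((pullback.snd f g).base ⁻¹' V)) :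
    topologicalKrullDim ↥W = topologicalKrullDim ↥V + (n : WithBot ℕ∞) := by
  obtain ⟨d, hd, hY⟩ := FlatDim.exists_pdim_irreducible qY
  haveI : LocallyOfFiniteType (f ≫ qY) := hf ▸ inferInstance
  haveI : LocallyOfFiniteType f := locallyOfFiniteType_of_comp f qY
  rw [hd] at hX
  simp only [← Nat.cast_add] at hX
  have hn := (FlatDim.forall_fibre_components_iff f n).1 ((FlatDim.equidim_iff qX qY f hf n hY).1 hX)
  let f' := pullback.snd f g
  -- the generic points
  obtain ⟨v, hv⟩ := QuasiSober.sober hVirr hV
  let P : Set ↥(pullback f g) := f' ⁻¹' V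
  have hP : IsClosed P := hV.preimage f'.continuous
  let Z : Set ↥(pullback f g) := Subtype.val '' W
  have hZc : IsClosed Z := hP.isClosedEmbedding_subtypeVal.isClosedMap _ (isClosed_of_mem_irreducibleComponents W hW)
  have hZi : IsIrreducible Z := hW.1.image _ continuous_subtype_val.continuousOn
  obtain ⟨w, hw⟩ := QuasiSober.sober hZi hZc
  have hwP : f' w ∈ V := by
    obtain ⟨w₀, -, hw₀⟩ : w ∈ Z := hw.mem
    exact hw₀ ▸ w₀.2
  have hmax : ∀ y : ↥(pullback f g), y ⤳ w → f' y ∈ V → y = w := by
    intro y hy hyV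
    let C : Set ↥P := Subtype.val ⁻¹' closure {y}
    have hsub : closure {y} ⊆ P := closure_minimal (Set.singleton_subset_iff.2 hyV) hP
    have hC : IsIrreducible C := by
      have : C = closure {(⟨y, hyV⟩ : ↥P)} := by
        ext z
        rw [closure_subtype, Set.image_singleton]
        rfl
      rw [this]
      exact isIrreducible_singleton.closure
    have hWC : W ⊆ C := fun z hz =>
      specializes_iff_mem_closure.1 (hy.trans (hw.specializes (show (z : ↥(pullback f g)) ∈ Z from ⟨z, hz, rfl⟩)))
    have hyW : (⟨y, hyV⟩ : ↥P) ∈ W := hW.2 hC hWC (subset_closure rfl : y ∈ closure {y})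
    exact (hy.antisymm (hw.specializes ⟨_, hyW, rfl⟩)).eq
  have hwv : f' w = v := by
    obtain ⟨u, hu, hfu⟩ := Flat.generalizingMap f' (hv.specializes hwP)
    rw [← hmax u hu (by rw [hfu]; exact hv.mem), hfu]
  have hfm : FlatDim.IsFibMax f' w := fun y hy hfy => hmax y hy (hfy ▸ hwP)
  -- the dimension along the fibre
  obtain ⟨δ, hδ, hδ', hp⟩ := FlatDim.exists_pdim_eq f' qY' w
  have hsq := IsPullback.of_hasPullback f g
  have hz := FlatDim.isFibMax_of_isPullback hsq hfm
  have hδn : δ = n := by
    have h1 := LocalDimBC.fibreDimAt_of_isPullback f g (pullback.fst f g) f' hsq w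
    rw [FlatDim.fibreDimAt_eq f' hfm hδ hδ', FlatDim.fibreDimAt_eq f hz (hn _ hz).1 (hn _ hz).2, Nat.cast_inj] at h1
    exact h1
  have hW' : topologicalKrullDim ↥W = topologicalKrullDim ↥Z :=
    IsHomeomorph.topologicalKrullDim_eq _ (hP.isClosedEmbedding_subtypeVal.isEmbedding.homeomorphImage W).isHomeomorph
  have hdimV : topologicalKrullDim ↥V = (WeilCoh.pdim Y' v : WithBot ℕ∞) := by
    rw [← (FlatDim.pdim_spec qY' v).2.2]
    exact IsHomeomorph.topologicalKrullDim_eq _ (Homeomorph.setCongr hv.def.symm).isHomeomorph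
  have hdimZ : topologicalKrullDim ↥Z = (WeilCoh.pdim (pullback f g) w : WithBot ℕ∞) := by
    rw [← (FlatDim.pdim_spec (f' ≫ qY') w).2.2]
    exact IsHomeomorph.topologicalKrullDim_eq _ (Homeomorph.setCongr hw.def.symm).isHomeomorph
  rw [hW', hdimZ, hdimV, hp, hwv, hδn, Nat.cast_add]

end Groth.Agent.S10941
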