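import Groth.Statements.S10944
import Mathlib
import Groth.Agent.GenComp.Basic

set_option autoImplicit false
universe u
open CategoryTheory AlgebraicGeometry
open FlatMor

namespace Groth.Agent.S10944

/-- Let f : X → Y be a flat morphism of Noetherian schemes and Y' an irreducible component of Y. Then
f⁻¹(Y') is the union of the irreducible components Z of X with f(Z) ⊆ Y'. -/
theorem result {X Y : Scheme.{u}}
    [IsNoetherian X] [IsNoetherian Y] (f : X ⟶ Y) [Flat f]
    (Y' : Set ↥Y) (hY' : Y' ∈ irreducibleComponents ↥Y) :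
    f.base ⁻¹' Y' = ⋃₀ {Z : Set ↥X | Z ∈ irreducibleComponents ↥X ∧ f.base '' Z ⊆ Y'} := by
  apply subset_antisymm
  · intro x hx
    have hcl : IsClosed Y' := isClosed_of_mem_irreducibleComponents Y' hY'
    obtain ⟨z, hz, hzx, hmax⟩ := Groth.Agent.GenComp.exists_maximal (hcl.preimage f.continuous) hx
    obtain ⟨η, hη⟩ := QuasiSober.sober hY'.1 hcl
    have hηmax : ∀ y : Y, y ⤳ η → y = η := by
      intro y hy
      have h1 : Y' ⊆ closure {y} := by
        rw [← hη.def]
        exact closure_minimal (Set.singleton_subset_iff.mpr (specializes_iff_mem_closure.mp hy)) isClosed_closure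
      have h2 : closure {y} ⊆ Y' := hY'.2 isIrreducible_singleton.closure h1
      exact (Specializes.antisymm hy (hη.specializes (h2 (subset_closure rfl)))).eq
    have hfz : f z = η := by
      obtain ⟨z', hz', hz'η⟩ := Flat.generalizingMap f (hη.specializes hz)
      refine (Specializes.antisymm ?_ (hη.specializes hz)).eq
      rw [← hz'η]
      exact (hmax z' (by show f z' ∈ Y'; rw [hz'η]; exact hη.mem) hz').map f.continuous
    refine ⟨closure {z}, ⟨Groth.Agent.GenComp.closure_mem_irreducibleComponents (fun z' hz' => ?_), ?_⟩,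
      specializes_iff_mem_closure.mp hzx⟩
    · refine hmax z' ?_ hz'
      have h := hηmax (f z') (hfz ▸ hz'.map f.continuous)
      show f z' ∈ Y'
      rw [h]; exact hη.mem
    · rintro _ ⟨w, hw, rfl⟩
      rw [← hη.def]
      exact specializes_iff_mem_closure.mp (hfz ▸ (specializes_iff_mem_closure.mpr hw).map f.continuous)
  · rintro x ⟨Z, ⟨-, hZ⟩, hx⟩
    exact hZ ⟨x, hx, rfl⟩

end Groth.Agent.S10944
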