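import Groth.Statements.S10945
import Mathlib

set_option autoImplicit false
universe u
open CategoryTheory AlgebraicGeometry Opposite
open Coherent

set_option backward.isDefEq.respectTransparency false
namespace Groth.Agent.S10945

/-- Let X be a scheme and 0 → F' → F → F'' → 0 a short exact sequence of O_X-modules whose map on global
sections Γ(X, F) → Γ(X, F'') is surjective. If F' and F'' are generated by global sections (each is
a quotient of a free O_X-module), then F is generated by global sections. -/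
theorem result (X : Scheme.{u})
    (S : ShortComplex X.Modules) (hS : S.ShortExact)
    (hsurj : Function.Surjective (S.g.val.app (op ⊤)).hom)
    (h1 : Curv2.IsGloballyGenerated S.X₁) (h3 : Curv2.IsGloballyGenerated S.X₃) :
    Curv2.IsGloballyGenerated S.X₂ := by
  obtain ⟨ι₁, p₁, hp₁⟩ := h1
  obtain ⟨ι₃, p₃, hp₃⟩ := h3
  haveI := hp₁; haveI := hp₃; haveI := hS.mono_f; haveI := hS.epi_g
  let mk : S.X₂.val.obj (op ⊤) → S.X₂.sections := fun s =>
    PresheafOfModules.sectionsMk (fun U => S.X₂.val.map (homOfLE (le_top : U.unop ≤ ⊤)).op s) fun {U V} f => by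
      exact (CategoryTheory.congr_fun (S.X₂.val.map_comp (homOfLE (le_top : U.unop ≤ ⊤)).op f).symm s)
  choose lift hlift using fun i : ι₃ => hsurj (((S.X₃.freeHomEquiv p₃) i).eval (op ⊤))
  let t₁ := S.X₂.freeHomEquiv (p₁ ≫ S.f)
  let ψ := S.X₂.freeHomEquiv.symm (Sum.elim t₁ fun i => mk (lift i))
  have h₁ : SheafOfModules.freeMap Sum.inl ≫ ψ = p₁ ≫ S.f := by
    apply S.X₂.freeHomEquiv.injective
    funext i
    simp [ψ, t₁, SheafOfModules.freeMap, SheafOfModules.freeHomEquiv_symm_comp]
    exact congrFun (Equiv.apply_symm_apply S.X₂.freeHomEquiv _) (Sum.inl i)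
  have h₃ : SheafOfModules.freeMap Sum.inr ≫ ψ ≫ S.g = p₃ := by
    apply S.X₃.freeHomEquiv.injective
    funext i
    apply PresheafOfModules.sections_ext
    intro U
    have e : S.X₃.freeHomEquiv (SheafOfModules.freeMap Sum.inr ≫ ψ ≫ S.g) i =
        SheafOfModules.sectionsMap S.g (mk (lift i)) := by
      rw [SheafOfModules.freeMap, SheafOfModules.freeHomEquiv_symm_comp, Equiv.apply_symm_apply]
      show SheafOfModules.sectionsMap (ψ ≫ S.g) (SheafOfModules.freeSection (Sum.inr i)) = _
      rw [← SheafOfModules.freeHomEquiv_apply, SheafOfModules.freeHomEquiv_comp_apply, Equiv.apply_symm_apply]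
      rfl
    rw [e]
    refine Eq.trans ?_ (((S.X₃.freeHomEquiv p₃) i).2 (homOfLE (le_top : U.unop ≤ ⊤)).op)
    refine ((PresheafOfModules.naturality_apply S.g.val (homOfLE (le_top : U.unop ≤ ⊤)).op (lift i))).trans ?_
    exact congrArg (S.X₃.val.map (homOfLE (le_top : U.unop ≤ ⊤)).op) (hlift i)
  refine ⟨ι₁ ⊕ ι₃, ψ, Preadditive.epi_of_cancel_zero _ fun {T} h hh => ?_⟩
  have hf : S.f ≫ h = 0 := by
    apply (cancel_epi p₁).1
    rw [Limits.comp_zero, ← Category.assoc, ← h₁, Category.assoc, hh, Limits.comp_zero]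
  have : Limits.IsColimit (Limits.CokernelCofork.ofπ S.g S.zero) := hS.gIsCokernel
  obtain ⟨h', hh'⟩ := Limits.CokernelCofork.IsColimit.desc' this h hf
  change S.g ≫ h' = h at hh'
  have h0 : h' = 0 := by
    apply (cancel_epi p₃).1
    rw [Limits.comp_zero, ← h₃, Category.assoc, Category.assoc, hh', hh, Limits.comp_zero]
  rw [← hh', h0, Limits.comp_zero]

end Groth.Agent.S10945
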