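import Groth.Statements.S10947
import Groth.Agent.S0016
import Groth.Agent.S1108
import Groth.Agent.Intersect.Hyper
import Groth.Agent.CohFinite.Serre
import Groth.Agent.QC.Coherent
import Groth.Agent.K0Coh.Basic

set_option autoImplicit false
universe u
open CategoryTheory AlgebraicGeometry
open Coherent

set_option backward.isDefEq.respectTransparency false
set_option backward.isDefEq.respectTransparency.types false

set_option backward.isDefEq.respectTransparency false
set_option backward.isDefEq.respectTransparency.types false
open CategoryTheory CategoryTheory.Limits AlgebraicGeometry Opposite TopologicalSpace Groth.Agent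

namespace Groth.Agent.S10947

/-- Let k be a field and X a quasi-projective scheme over k, given with an immersion ι : X → P^N_k into
a projective space. If n is a natural number with H^i(X, E) = 0 for all finite locally free
O_X-modules E and all i > n, then H^i(X, F) = 0 for all coherent O_X-modules F (quasi-coherent of
finite type) and all i > n. -/
theorem result
    (k : Type u) [Field k] (N : ℕ) {X : Scheme.{u}} (ι : X ⟶ CohB1.ProjSpace N k) [IsImmersion ι]
    (n : ℕ) (h : ∀ E : X.Modules, FlatMod.IsFinLocFree E → ∀ i : ℕ, n < i → Subsingleton (Coh.HH X E i))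
    (F : X.Modules) (hF : Coh.IsCoh F) (i : ℕ) (hi : n < i) :
    Subsingleton (Coh.HH X F i) := by
  haveI := ProjMor.isProper_toSpec N k
  haveI : IsLocallyNoetherian (CohB1.ProjSpace N k) :=
    LocallyOfFiniteType.isLocallyNoetherian (CohB1.ProjSpace.toSpec N k)
  haveI : CompactSpace (CohB1.ProjSpace N k) :=
    QuasiCompact.compactSpace_of_compactSpace (CohB1.ProjSpace.toSpec N k)
  haveI : IsNoetherian (CohB1.ProjSpace N k) := {}
  haveI : NoetherianSpace X := ι.isEmbedding.isInducing.noetherianSpace
  haveI : LocallyOfFiniteType ι := inferInstance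
  haveI : IsLocallyNoetherian X := LocallyOfFiniteType.isLocallyNoetherian ι
  haveI : CompactSpace X := inferInstance
  haveI : QuasiSeparatedSpace X := inferInstance
  obtain ⟨d, hd⟩ := S0016.result X
  have hL : CohB1.IsAmple ((Scheme.Modules.pullback ι).obj (Twist.twistProjSpace N k 1)) :=
    TMul.isAmple_pullback ι ι.isEmbedding.isInducing (Intersect.isAmple_twistProj_one N k)
  have hres := S1108.result X _ hL
  suffices ∀ j : ℕ, ∀ G : X.Modules, Coh.IsCoh G → ∀ i : ℕ, n < i → d ≤ i + j → Subsingleton (Coh.HH X G i) from
    this d F hF i hi (Nat.le_add_left d i)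
  intro j
  induction j with
  | zero => exact fun G hG i _ hdi => hd G hG.1 i hdi
  | succ j ih =>
    intro G hG i hni hdi
    obtain ⟨E, π, hE, hπ⟩ := hres G hG.1 hG.2
    let S : ShortComplex X.Modules := ShortComplex.mk (kernel.ι π) π (kernel.condition π)
    have hS : S.ShortExact := { exact := S.exact_of_f_is_kernel (kernelIsKernel π) }
    refine CohFinite.subsingleton_of_shortExact hS i (h E hE i hni) ?_
    exact ih _ (QC.isCoh_kernel (K0Coh.isCoh_of_isFinLocFree hE) hG.1 π) (i + 1) (by omega) (by omega)

end Groth.Agent.S10947
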