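import Groth.Statements.S10949
import Groth.Agent.GenPushPow.Basic

set_option autoImplicit false
universe u
open CategoryTheory CategoryTheory.Limits AlgebraicGeometry
open Coherent

namespace Groth.Agent.S10949

set_option backward.isDefEq.respectTransparency false
open CategoryTheory.Limits

/-- Let f : X → Y be a finite surjective morphism of integral Noetherian schemes and F a coherent
O_Y-module (quasi-coherent of finite type). Then there are an integer r ≥ 1, a coherent O_X-module G
and a morphism of O_Y-modules β : f_*G → F^r (the coproduct of r copies of F) such that the map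
induced by β on stalks of the underlying abelian sheaves at the generic point of Y is an
isomorphism. -/
theorem result
    {X Y : Scheme.{u}} [IsIntegral X] [IsNoetherian X] [IsIntegral Y] [IsNoetherian Y]
    (f : X ⟶ Y) [IsFinite f] [Surjective f] (F : Y.Modules) (hF : Coh.IsCoh F) :
    ∃ (r : ℕ) (G : X.Modules) (β : (Scheme.Modules.pushforward f).obj G ⟶ ∐ fun _ : ULift.{u} (Fin r) => F),
      0 < r ∧ Coh.IsCoh G ∧
      IsIso ((TopCat.Presheaf.stalkFunctor AddCommGrpCat.{u} (genericPoint ↥Y)).map
        ((SheafOfModules.toSheaf Y.ringCatSheaf).map β).hom) := by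
  haveI : IsLocallyNoetherian X := inferInstance
  obtain ⟨hr, G, u, hG, V, hV, hu⟩ := GenPushPow.exists_pushforward_to_power f F hF
  let e : (∐ fun _ : Fin (Module.finrank Y.functionField
      (((Scheme.Modules.pushforward f).obj (Coh.structureModule X)).presheaf.stalk (genericPoint Y))) => F) ≅
      ∐ fun _ : ULift.{u} (Fin (Module.finrank Y.functionField
        (((Scheme.Modules.pushforward f).obj (Coh.structureModule X)).presheaf.stalk (genericPoint Y)))) => F :=
    Sigma.whiskerEquiv Equiv.ulift.symm fun _ => Iso.refl F
  refine ⟨_, G, u ≫ e.hom, hr, hG, ?_⟩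
  haveI : IsIso ((Scheme.Modules.restrictFunctor V.ι).map (u ≫ e.hom)) := by
    haveI := hu
    rw [Functor.map_comp]
    infer_instance
  have h := W7Hull.bijective_of_isIso_restrict (u ≫ e.hom) V hV
  rw [ConcreteCategory.isIso_iff_bijective]
  constructor
  · intro a b hab
    refine h.1 ?_
    rw [W7Hull.st_eq_stalkMap, W7Hull.st_eq_stalkMap]
    exact hab
  · intro b
    obtain ⟨a, ha⟩ := h.2 b
    rw [W7Hull.st_eq_stalkMap] at ha
    exact ⟨a, ha⟩

end Groth.Agent.S10949
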