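import Groth.Statements.S10953
import Mathlib.AlgebraicGeometry.Morphisms.Separated
import Mathlib.AlgebraicGeometry.Morphisms.Immersion


set_option autoImplicit false
universe u
open CategoryTheory CategoryTheory.Limits AlgebraicGeometry
open RedSep

set_option backward.isDefEq.respectTransparency false
namespace Groth.Agent.S10953

open AlgebraicGeometry CategoryTheory in
/-- For a morphism of schemes f : X → S to an affine scheme S such that any two points of X with the
same image in S lie in one common affine open subset of X, the morphism f is separated. -/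
theorem result {X S : Scheme.{u}} [IsAffine S] (f : X ⟶ S)
    (h : ∀ x y : X, f x = f y → ∃ U : X.Opens, IsAffineOpen U ∧ x ∈ U ∧ y ∈ U) :
    IsSeparated f := by
  refine ⟨.of_isPreimmersion _ (isClosed_of_closure_subset fun p hp => ?_)⟩
  obtain ⟨U, hU, hx, hy⟩ := h (pullback.fst f f p) (pullback.snd f f p) (by
    rw [← Scheme.Hom.comp_apply, ← Scheme.Hom.comp_apply, pullback.condition])
  haveI : IsAffine U := hU
  haveI : IsSeparated (U.ι ≫ f) := inferInstance
  let g := U.ι ≫ f
  let O : (pullback f f).Opens := pullback.fst f f ⁻¹ᵁ U ⊓ pullback.snd f f ⁻¹ᵁ U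
  have h1 : Set.range (O.ι ≫ pullback.fst f f) ⊆ Set.range U.ι := by
    rintro _ ⟨o, rfl⟩
    rw [Scheme.Opens.range_ι, Scheme.Hom.comp_apply]
    exact o.2.1
  have h2 : Set.range (O.ι ≫ pullback.snd f f) ⊆ Set.range U.ι := by
    rintro _ ⟨o, rfl⟩
    rw [Scheme.Opens.range_ι, Scheme.Hom.comp_apply]
    exact o.2.2
  let m : (O : Scheme.{u}) ⟶ pullback g g := pullback.lift
    (IsOpenImmersion.lift U.ι _ h1) (IsOpenImmersion.lift U.ι _ h2)
    (by simp [g, IsOpenImmersion.lift_fac_assoc, pullback.condition])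
  let b : pullback g g ⟶ pullback f f := pullback.lift (pullback.fst g g ≫ U.ι) (pullback.snd g g ≫ U.ι)
    (by simp only [Category.assoc]; exact pullback.condition)
  have hmb : m ≫ b = O.ι := by apply pullback.hom_ext <;> simp [m, b]
  have hdb : pullback.diagonal g ≫ b = U.ι ≫ pullback.diagonal f := by
    apply pullback.hom_ext <;> simp [b]
  have hbo : ∀ w : (pullback g g : Scheme.{u}), b w ∈ O := fun w =>
    ⟨by
      show pullback.fst f f (b w) ∈ U
      rw [← Scheme.Hom.comp_apply, pullback.lift_fst, Scheme.Hom.comp_apply]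
      exact (pullback.fst g g w).2,
     by
      show pullback.snd f f (b w) ∈ U
      rw [← Scheme.Hom.comp_apply, pullback.lift_snd, Scheme.Hom.comp_apply]
      exact (pullback.snd g g w).2⟩
  let C : Set (O : Scheme.{u}) := m ⁻¹' Set.range (pullback.diagonal g)
  have hC : IsClosed C := (pullback.diagonal g).isClosedEmbedding.isClosed_range.preimage m.continuous
  have hmem : (⟨p, hx, hy⟩ : (O : Scheme.{u})) ∈ C := by
    refine hC.closure_subset_iff.mpr Set.Subset.rfl (closure_mono ?_
      ((O.ι.isOpenEmbedding.isOpenMap.preimage_closure_eq_closure_preimage O.ι.continuous _).subset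
        (show (⟨p, hx, hy⟩ : (O : Scheme.{u})) ∈ O.ι ⁻¹' closure (Set.range (pullback.diagonal f)) from hp)))
    rintro o ⟨x, hxo⟩
    have hxU : x ∈ U := by
      have := o.2.1
      have e : pullback.fst f f (O.ι o) = x := by
        rw [← hxo, ← Scheme.Hom.comp_apply, pullback.diagonal_fst]; rfl
      exact e ▸ this
    refine ⟨⟨x, hxU⟩, ?_⟩
    have hr : Set.range (U.ι ≫ pullback.diagonal f) ⊆ Set.range O.ι := by
      rintro _ ⟨v, rfl⟩
      rw [← hdb, Scheme.Opens.range_ι, Scheme.Hom.comp_apply]
      exact hbo _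
    let δ : (U : Scheme.{u}) ⟶ O := IsOpenImmersion.lift O.ι _ hr
    have hδ : δ ≫ m = pullback.diagonal g := by
      apply pullback.hom_ext <;> rw [← cancel_mono U.ι] <;> simp [δ, m, IsOpenImmersion.lift_fac_assoc]
    have ho : δ ⟨x, hxU⟩ = o := O.ι.isOpenEmbedding.injective (by
      rw [← Scheme.Hom.comp_apply, IsOpenImmersion.lift_fac, Scheme.Hom.comp_apply]
      exact hxo)
    rw [← hδ, Scheme.Hom.comp_apply, ho]
  obtain ⟨v, hv⟩ := hmem
  refine ⟨U.ι v, ?_⟩
  rw [← Scheme.Hom.comp_apply, ← hdb, Scheme.Hom.comp_apply, hv, ← Scheme.Hom.comp_apply, hmb]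
  rfl

end Groth.Agent.S10953
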