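import Groth.Statements.S10954
import Groth.Agent.CohQC.SecExact


set_option linter.style.haveILetI false

set_option autoImplicit false
universe u
open Coherent

namespace Groth.Agent.S10954

open AlgebraicGeometry CategoryTheory CategoryTheory.Limits Opposite in
/-- Let X be a quasi-compact scheme such that, for every short exact sequence 0 → F' → F → F'' → 0 of
quasi-coherent O_X-modules whose first term F' admits a monomorphism into a finite direct sum of
copies of O_X, taking global sections gives a surjection F(X) → F''(X). Then X is affine. (The
published statement is an equivalence of three conditions on a quasi-compact scheme; this row states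
the implication from exactness of global sections on such sequences to affineness.) -/
theorem result (X : Scheme.{u}) [CompactSpace X]
    (h : ∀ (S : ShortComplex X.Modules) (n : ℕ)
      (j : S.X₁ ⟶ ∏ᶜ (fun _ : Fin n => Coh.structureModule X)),
      S.ShortExact → Mono j → Coh.IsQCoh S.X₁ → Coh.IsQCoh S.X₂ → Coh.IsQCoh S.X₃ →
        Function.Surjective (S.g.val.app (op ⊤)).hom) :
    IsAffine X := by
  haveI := Abelian.hasFiniteBiproducts (C := X.Modules)
  refine Groth.Agent.CohQC.isAffine_of_secExact fun A B p hp hA hB ⟨n, i, hi⟩ => ?_
  let e : FlatMod.freeMod X n ≅ ∏ᶜ (fun _ : Fin n => Coh.structureModule X) :=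
    (biproduct.isoCoproduct _).symm ≪≫ biproduct.isoProduct _
  exact h (ShortComplex.mk (kernel.ι p) p (kernel.condition p)) n (kernel.ι p ≫ i ≫ e.hom)
    { exact := ShortComplex.exact_of_f_is_kernel _ (kernelIsKernel p) }
    inferInstance (Groth.Agent.QC.isQCoh_kernel hA hB p) hA hB


end Groth.Agent.S10954
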