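import Groth.Statements.S10955
import Mathlib

set_option autoImplicit false
universe u
open scoped TensorProduct
open Unram

namespace Groth.Agent.S10955

open TensorProduct KaehlerDifferential in
/-- relative criterion for a local ring over two smooth bases -/
theorem formallySmooth_iff_retraction (A B S : Type u) [CommRing A] [CommRing B] [CommRing S] [Algebra A B]
    [Algebra B S] [Algebra A S] [IsScalarTower A B S] [Algebra.FormallySmooth A S]
    [Module.Projective S Ω[S⁄A]] :
    Algebra.FormallySmooth B S ↔ ∃ l, l ∘ₗ mapBaseChange A B S = LinearMap.id := by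
  have hex := exact_mapBaseChange_map A B S
  have hsurj : Function.Surjective (map A B S S) := map_surjective A B S
  rw [Algebra.formallySmooth_iff]
  constructor
  · rintro ⟨hproj, hH1⟩
    haveI := hproj
    have hinj : Function.Injective (mapBaseChange A B S) := by
      refine (injective_iff_map_eq_zero _).2 fun x hx => ?_
      obtain ⟨y, rfl⟩ := (Algebra.H1Cotangent.exact_δ_mapBaseChange A B S x).1 hx
      rw [Subsingleton.elim y 0, map_zero]
    obtain ⟨s, hs⟩ := Module.projective_lifting_property (map A B S S) LinearMap.id hsurj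
    have htf : (Function.Injective (mapBaseChange A B S) ∧ ∃ l, map A B S S ∘ₗ l = LinearMap.id) ↔
        (Function.Surjective (map A B S S) ∧ ∃ l, l ∘ₗ mapBaseChange A B S = LinearMap.id) :=
      hex.split_tfae'.out 0 1
    exact (htf.1 ⟨hinj, s, hs⟩).2
  · rintro ⟨l, hl⟩
    have htf : (Function.Injective (mapBaseChange A B S) ∧ ∃ l, map A B S S ∘ₗ l = LinearMap.id) ↔
        (Function.Surjective (map A B S S) ∧ ∃ l, l ∘ₗ mapBaseChange A B S = LinearMap.id) :=
      hex.split_tfae'.out 0 1
    obtain ⟨hinj, s, hs⟩ := htf.2 ⟨hsurj, l, hl⟩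
    refine ⟨Module.Projective.of_split s (map A B S S) hs, ⟨fun a b => ?_⟩⟩
    have hz : ∀ y, y = (0 : Algebra.H1Cotangent B S) := by
      intro y
      have h1 : Algebra.H1Cotangent.δ A B S y = 0 := hinj (by
        rw [map_zero]; exact (Algebra.H1Cotangent.exact_δ_mapBaseChange A B S).apply_apply_eq_zero y)
      obtain ⟨z, rfl⟩ := (Algebra.H1Cotangent.exact_map_δ A B S y).1 h1
      rw [Subsingleton.elim z 0, map_zero]
    rw [hz a, hz b]

open TensorProduct KaehlerDifferential in
theorem finite_free_source (A B : Type u) [CommRing A] [CommRing B] [Algebra A B]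
    [Algebra.FinitePresentation A B] (p : Ideal B) [p.IsPrime] [Algebra.IsSmoothAt A p]
    (S : Type u) [CommRing S] [IsLocalRing S] [Algebra B S] [Algebra (Localization.AtPrime p) S]
    [IsScalarTower B (Localization.AtPrime p) S] :
    Module.Finite S (S ⊗[B] Ω[B⁄A]) ∧ Module.Free S (S ⊗[B] Ω[B⁄A]) := by
  let Bp := Localization.AtPrime p
  haveI : IsLocalizedModule p.primeCompl (map A A B Bp) := inferInstance
  let e1 : Bp ⊗[B] Ω[B⁄A] ≃ₗ[Bp] Ω[Bp⁄A] :=
    (IsLocalizedModule.isBaseChange p.primeCompl Bp (map A A B Bp)).equiv
  haveI : Module.Projective Bp (Bp ⊗[B] Ω[B⁄A]) := Module.Projective.of_equiv e1.symm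
  haveI : Module.Projective S (S ⊗[Bp] (Bp ⊗[B] Ω[B⁄A])) := inferInstance
  haveI : Module.Projective S (S ⊗[B] Ω[B⁄A]) :=
    Module.Projective.of_equiv (AlgebraTensorModule.cancelBaseChange B Bp S S Ω[B⁄A])
  haveI : Module.Finite S (S ⊗[B] Ω[B⁄A]) := inferInstance
  haveI : Module.FinitePresentation S (S ⊗[B] Ω[B⁄A]) := Module.finitePresentation_of_projective S _
  exact ⟨inferInstance, Module.free_of_flat_of_isLocalRing⟩

open TensorProduct KaehlerDifferential in
theorem residue_square (A B C : Type u) [CommRing A] [CommRing B] [CommRing C] [Algebra A B] [Algebra B C]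
    [Algebra A C] [IsScalarTower A B C] (q : Ideal C) [q.IsPrime] :
    Function.Injective ((mapBaseChange A B (Localization.AtPrime q)).lTensor
        (IsLocalRing.ResidueField (Localization.AtPrime q))) ↔
      Function.Injective ((mapBaseChange A B C).lTensor q.ResidueField) := by
  let S := Localization.AtPrime q
  let k := q.ResidueField
  haveI : IsLocalizedModule q.primeCompl (map A A C S) := inferInstance
  let e1 : S ⊗[C] Ω[C⁄A] ≃ₗ[S] Ω[S⁄A] :=
    (IsLocalizedModule.isBaseChange q.primeCompl S (map A A C S)).equiv
  let tgt : k ⊗[C] Ω[C⁄A] ≃ₗ[k] k ⊗[S] Ω[S⁄A] :=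
    (AlgebraTensorModule.cancelBaseChange C S k k Ω[C⁄A]).symm ≪≫ₗ
      AlgebraTensorModule.congr (LinearEquiv.refl k k) e1
  let src : k ⊗[C] (C ⊗[B] Ω[B⁄A]) ≃ₗ[k] k ⊗[S] (S ⊗[B] Ω[B⁄A]) :=
    AlgebraTensorModule.cancelBaseChange B C k k Ω[B⁄A] ≪≫ₗ
      (AlgebraTensorModule.cancelBaseChange B S k k Ω[B⁄A]).symm
  have hcomp : ∀ ω, map A A B S ω = map A A C S (map A A B C ω) := by
    intro ω
    induction (show ω ∈ Submodule.span B (Set.range (D A B)) by
      rw [span_range_derivation]; trivial) using Submodule.span_induction with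
    | mem y hy => obtain ⟨b, rfl⟩ := hy; simp [← IsScalarTower.algebraMap_apply]
    | zero => simp
    | add y z _ _ hy hz => simp only [map_add, hy, hz]
    | smul r y _ hy => rw [map_smul, hy, map_smul, LinearMap.map_smul_of_tower]
  have hsq : ∀ z, (mapBaseChange A B S).lTensor k (src z) = tgt ((mapBaseChange A B C).lTensor k z) := by
    intro z
    induction z using TensorProduct.induction_on with
    | zero => simp
    | add u v hu hv => simp only [map_add, hu, hv]
    | tmul a w =>
      induction w using TensorProduct.induction_on with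
      | zero => simp
      | add u v hu hv => simp only [map_add, tmul_add, hu, hv]
      | tmul c ω =>
        have h1 : mapBaseChange A B C (c ⊗ₜ ω) = c • map A A B C ω := mapBaseChange_tmul A B C c ω
        simp only [src, tgt, LinearEquiv.trans_apply, AlgebraTensorModule.cancelBaseChange_tmul,
          AlgebraTensorModule.cancelBaseChange_symm_tmul, LinearMap.lTensor_tmul, h1,
          AlgebraTensorModule.congr_tmul, LinearEquiv.refl_apply, mapBaseChange_tmul, one_smul, hcomp]
        rw [show (1 : S) ⊗ₜ[C] (c • map A A B C ω) = algebraMap C S c • ((1 : S) ⊗ₜ[C] map A A B C ω) by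
          rw [algebraMap_smul, TensorProduct.tmul_smul], map_smul, TensorProduct.tmul_smul,
          show e1 ((1 : S) ⊗ₜ[C] map A A B C ω) = map A A C S (map A A B C ω) by
            simp [e1, IsBaseChange.equiv_tmul], algebraMap_smul, TensorProduct.smul_tmul']
  have : ((mapBaseChange A B S).lTensor k : _ → _) = tgt ∘ (mapBaseChange A B C).lTensor k ∘ src.symm := by
    funext z
    obtain ⟨z, rfl⟩ := src.surjective z
    simp only [Function.comp_apply, LinearEquiv.symm_apply_apply, hsq]
  show Function.Injective ((mapBaseChange A B S).lTensor k) ↔ _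
  rw [this, EquivLike.comp_injective, EquivLike.injective_comp]


/-- Let A → B → C be ring homomorphisms with B and C finitely presented over A, let q be a prime ideal
of C and p its inverse image in B, and assume that C is smooth over A at q and that B is smooth over
A at p. Then C is smooth over B at q if and only if the map obtained from the canonical map C ⊗_B
Ω_{B/A} → Ω_{C/A} by tensoring over C with the residue field k(q) is injective. -/
theorem result (A B C : Type u) [CommRing A] [CommRing B]
    [CommRing C] [Algebra A B] [Algebra B C] [Algebra A C] [IsScalarTower A B C]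
    [Algebra.FinitePresentation A B] [Algebra.FinitePresentation A C] (q : Ideal C) [q.IsPrime]
    (hC : Algebra.IsSmoothAt A q) (hB : Algebra.IsSmoothAt A (q.under B)) :
    Algebra.IsSmoothAt B q ↔
      Function.Injective ((KaehlerDifferential.mapBaseChange A B C).lTensor q.ResidueField) := by
  let S := Localization.AtPrime q
  let p := q.under B
  letI := Localization.AtPrime.algebraOfLiesOver p q
  haveI : Algebra.IsSmoothAt A p := hB
  haveI : Algebra.EssFiniteType C S := Algebra.EssFiniteType.of_isLocalization S q.primeCompl
  haveI : Algebra.EssFiniteType A S := Algebra.EssFiniteType.comp A C S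
  haveI : Algebra.FormallySmooth A S := hC
  haveI : Module.Free S Ω[S⁄A] := by
    haveI : Module.FinitePresentation S Ω[S⁄A] := Module.finitePresentation_of_projective S _
    exact Module.free_of_flat_of_isLocalRing
  obtain ⟨hfin, hfree⟩ := finite_free_source A B p S
  rw [← residue_square A B C q, ← IsLocalRing.split_injective_iff_lTensor_residueField_injective]
  exact formallySmooth_iff_retraction A B S

end Groth.Agent.S10955
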