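import Groth.Statements.S10956
import Mathlib.RingTheory.Kaehler.Basic
import Mathlib.RingTheory.TensorProduct.Basic
import Mathlib.Tactic.Abel

set_option autoImplicit false
universe u
open scoped TensorProduct
open CAlg
open scoped TensorProduct

namespace Groth.Agent.S10956

/-- Let R be a commutative ring, A and B commutative R-algebras and T = A ⊗_R B, an A-algebra through
the left factor. There is a T-linear map r from Ω_{T/R} to T ⊗_A Ω_{A/R} sending d(a ⊗ b) to (1 ⊗ b)
⊗ da for all a in A and b in B, and together with the canonical map Ω_{T/R} → Ω_{T/A} it identifies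
Ω_{T/R} with the product (T ⊗_A Ω_{A/R}) × Ω_{T/A}. (The published statement is the isomorphism of
(Ω_{A/R} ⊗_R B) ⊕ (A ⊗_R Ω_{B/R}) with Ω_{T/R} matching the exterior differentials; it is stated
here through the canonical identifications T ⊗_A Ω_{A/R} = Ω_{A/R} ⊗_R B and Ω_{T/A} = A ⊗_R
Ω_{B/R}.) -/
theorem result (R A B : Type u) [CommRing R] [CommRing A] [CommRing B]
    [Algebra R A] [Algebra R B] :
    ∃ r : Ω[(A ⊗[R] B)⁄R] →ₗ[A ⊗[R] B] ((A ⊗[R] B) ⊗[A] Ω[A⁄R]),
      (∀ (a : A) (b : B), r (KaehlerDifferential.D R (A ⊗[R] B) (a ⊗ₜ[R] b)) =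
          ((1 : A) ⊗ₜ[R] b) ⊗ₜ[A] KaehlerDifferential.D R A a) ∧
        Function.Bijective (fun ω : Ω[(A ⊗[R] B)⁄R] =>
          (r ω, KaehlerDifferential.map R A (A ⊗[R] B) (A ⊗[R] B) ω)) := by
  classical
  let T := A ⊗[R] B
  let W := T ⊗[A] Ω[A⁄R]
  let L : A →ₗ[R] B →ₗ[R] W := LinearMap.mk₂ R (fun a b => ((1 : A) ⊗ₜ[R] b) ⊗ₜ[A] KaehlerDifferential.D R A a)
    (fun a a' b => by rw [map_add, TensorProduct.tmul_add])
    (fun r a b => by rw [Derivation.map_smul, TensorProduct.tmul_smul])
    (fun a b b' => by rw [TensorProduct.tmul_add, TensorProduct.add_tmul])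
    (fun r a b => by rw [TensorProduct.tmul_smul, ← TensorProduct.smul_tmul'])
  have hL : ∀ a b, TensorProduct.lift L (a ⊗ₜ[R] b) = ((1 : A) ⊗ₜ[R] b) ⊗ₜ[A] KaehlerDifferential.D R A a := fun a b => rfl
  have hts : ∀ (t s : T) (ω : Ω[A⁄R]), t • (s ⊗ₜ[A] ω) = (t * s) ⊗ₜ[A] ω := fun t s ω => rfl
  let der : Derivation R T W := Derivation.mk' (TensorProduct.lift L) fun x y => by
    induction x using TensorProduct.induction_on with
    | zero => simp
    | add x x' hx hx' => rw [add_mul, map_add, map_add, hx, hx', add_smul, smul_add]; abel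
    | tmul a b =>
      induction y using TensorProduct.induction_on with
      | zero => simp
      | add y y' hy hy' => rw [mul_add, map_add, map_add, hy, hy', add_smul, smul_add]; abel
      | tmul a' b' =>
        rw [Algebra.TensorProduct.tmul_mul_tmul, hL, hL, hL, hts, hts, Derivation.leibniz, TensorProduct.tmul_add,
          ← TensorProduct.smul_tmul, ← TensorProduct.smul_tmul]
        simp only [TensorProduct.smul_tmul', smul_eq_mul, mul_one]
        erw [Algebra.TensorProduct.tmul_mul_tmul, Algebra.TensorProduct.tmul_mul_tmul]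
        rw [mul_one, mul_one, mul_comm b' b]
  let r : Ω[T⁄R] →ₗ[T] W := der.liftKaehlerDifferential
  have hr : ∀ x, r (KaehlerDifferential.D R T x) = TensorProduct.lift L x := fun x => der.liftKaehlerDifferential_comp_D x
  refine ⟨r, fun a b => (hr _).trans (hL a b), ?_⟩
  let mbc := KaehlerDifferential.mapBaseChange R A T
  have hrm : ∀ w : W, r (mbc w) = w := by
    intro w
    induction w using TensorProduct.induction_on with
    | zero => simp
    | add x y hx hy => rw [map_add, map_add, hx, hy]
    | tmul t ω =>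
      rw [show mbc (t ⊗ₜ[A] ω) = t • KaehlerDifferential.map R R A T ω from KaehlerDifferential.mapBaseChange_tmul R A T t ω, map_smul]
      have hω : r (KaehlerDifferential.map R R A T ω) = (1 : T) ⊗ₜ[A] ω := by
        have htop : ω ∈ Submodule.span A (Set.range (KaehlerDifferential.D R A)) := by
          rw [KaehlerDifferential.span_range_derivation]; trivial
        induction htop using Submodule.span_induction with
        | mem z hz =>
          obtain ⟨a, rfl⟩ := hz
          rw [KaehlerDifferential.map_D, hr, Algebra.TensorProduct.algebraMap_apply, hL]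
          rfl
        | zero => simp
        | add x y _ _ hx hy => rw [map_add, map_add, hx, hy, TensorProduct.tmul_add]
        | smul c x _ hx => rw [map_smul, TensorProduct.tmul_smul, ← hx, ← algebraMap_smul T c (KaehlerDifferential.map R R A T x), map_smul, algebraMap_smul]
      rw [hω, hts, mul_one]
  have hex := KaehlerDifferential.exact_mapBaseChange_map R A T
  refine ⟨fun x y hxy => ?_, fun z => ?_⟩
  · obtain ⟨h1, h2⟩ := Prod.mk.inj hxy
    obtain ⟨w, hw⟩ := (hex (x - y)).mp (by rw [map_sub, h2, sub_self])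
    have : w = 0 := by rw [← hrm w]; show r (mbc w) = 0; rw [show mbc w = x - y from hw, map_sub, h1, sub_self]
    rw [this, map_zero] at hw
    exact sub_eq_zero.mp hw.symm
  · obtain ⟨t, ξ⟩ := z
    obtain ⟨ω, rfl⟩ := KaehlerDifferential.map_surjective R A T ξ
    refine ⟨ω - mbc (r ω) + mbc t, Prod.ext ?_ ?_⟩
    · show r _ = t
      rw [map_add, map_sub, hrm, hrm, sub_self, zero_add]
    · show KaehlerDifferential.map R A T T _ = _
      rw [map_add, map_sub, hex.apply_apply_eq_zero, hex.apply_apply_eq_zero, sub_zero, add_zero]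

end Groth.Agent.S10956
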