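import Groth.Statements.S10957
import Mathlib.RingTheory.DiscreteValuationRing.TFAE
import Mathlib.RingTheory.Ideal.AssociatedPrime.Basic

set_option autoImplicit false
universe u
open CAlg

namespace Groth.Agent.S10957

/-- Let A be a Noetherian local integral domain that is normal (integrally closed in its field of
fractions). If there is a nonzero element a of A such that the maximal ideal of A is an associated
prime of the A-module A/(a), then A is a discrete valuation ring. (The other conditions listed in
the published result — normal of dimension one, maximal ideal nonzero principal, regular of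
dimension one — are the library's standard characterisations; this row records the criterion through
an associated prime.) -/
theorem result
    (A : Type u) [CommRing A] [IsDomain A] [IsNoetherianRing A] [IsLocalRing A] [IsIntegrallyClosed A]
    (a : A) (ha : a ≠ 0)
    (hass : IsLocalRing.maximalIdeal A ∈ associatedPrimes A (A ⧸ Ideal.span ({a} : Set A))) :
    IsDiscreteValuationRing A := by
  set m := IsLocalRing.maximalIdeal A
  obtain ⟨-, z, hz⟩ := isAssociatedPrime_iff.1 (AssociatedPrimes.mem_iff.1 hass)
  obtain ⟨b, rfl⟩ := Ideal.Quotient.mk_surjective z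
  have hzm : ∀ r : A, r ∈ m ↔ a ∣ r * b := by
    intro r
    rw [hz, Submodule.mem_colon_singleton, Submodule.mem_bot]
    change Ideal.Quotient.mk _ (r * b) = 0 ↔ _
    rw [Ideal.Quotient.eq_zero_iff_mem, Ideal.mem_span_singleton]
  have hb : ¬ a ∣ b := fun h => (IsLocalRing.maximalIdeal.isMaximal A).ne_top
    ((Ideal.eq_top_iff_one _).2 ((hzm 1).2 (by rwa [one_mul])))
  have ham : a ∈ m := (hzm a).2 (dvd_mul_right a b)
  have hnf : ¬ IsField A := fun hF => by
    have := (IsLocalRing.isField_iff_maximalIdeal_eq.1 hF)
    rw [show m = IsLocalRing.maximalIdeal A from rfl, this, Ideal.mem_bot] at ham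
    exact ha ham
  refine ((IsDiscreteValuationRing.TFAE A hnf).out 0 4).mpr ?_
  let K := FractionRing A
  let x : K := algebraMap A K b / algebraMap A K a
  have ha' : algebraMap A K a ≠ 0 := by
    rw [ne_eq, IsFractionRing.to_map_eq_zero_iff]; exact ha
  have hxm : ∀ r ∈ m, ∃ k : A, x * algebraMap A K r = algebraMap A K k := by
    intro r hr
    obtain ⟨k, hk⟩ := (hzm r).1 hr
    refine ⟨k, ?_⟩
    rw [div_mul_eq_mul_div, div_eq_iff ha', ← map_mul, ← map_mul, mul_comm b r, hk, mul_comm a k]
  by_cases hall : ∀ r ∈ m, ∀ k : A, x * algebraMap A K r = algebraMap A K k → k ∈ m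
  · exfalso
    let N : Submodule A K := Submodule.map (Algebra.linearMap A K) m
    have hint : IsIntegral A x := by
      refine isIntegral_of_smul_mem_submodule N ?_ ?_ x ?_
      · rw [Submodule.ne_bot_iff]
        exact ⟨_, ⟨a, ham, rfl⟩, ha'⟩
      · exact Submodule.FG.map _ (IsNoetherian.noetherian _)
      · rintro _ ⟨r, hr, rfl⟩
        obtain ⟨k, hk⟩ := hxm r hr
        exact ⟨k, hall r hr k hk, hk.symm⟩
    obtain ⟨y, hy⟩ := IsIntegrallyClosed.algebraMap_eq_of_integral hint
    refine hb ⟨y, IsFractionRing.injective A K ?_⟩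
    rw [map_mul, hy, mul_div_cancel₀ _ ha']
  · push_neg at hall
    obtain ⟨r, hr, k, hk, hkm⟩ := hall
    obtain ⟨v, rfl⟩ := IsLocalRing.notMem_maximalIdeal.1 hkm
    refine ⟨⟨r, le_antisymm ?_ (by rw [Submodule.span_le, Set.singleton_subset_iff]; exact hr)⟩⟩
    intro s hs
    obtain ⟨l, hl⟩ := hxm s hs
    refine Ideal.mem_span_singleton'.2 ⟨l * (↑v⁻¹ : A), IsFractionRing.injective A K ?_⟩
    have hv : algebraMap A K (↑v⁻¹ : A) * algebraMap A K (v : A) = 1 := by rw [← map_mul, Units.inv_mul, map_one]
    rw [map_mul, map_mul, ← hl]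
    linear_combination (algebraMap A K (↑v⁻¹ : A) * algebraMap A K s) * hk + algebraMap A K s * hv

end Groth.Agent.S10957
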