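import Groth.Statements.S10958
import Mathlib
import Groth.Agent.AVAmple.Square
import Groth.Agent.AmpleEmb.Closed

set_option autoImplicit false
set_option backward.isDefEq.respectTransparency false
set_option backward.isDefEq.respectTransparency.types false
universe u
open CategoryTheory MonoidalCategory CartesianMonoidalCategory MonObj GrpObj AlgebraicGeometry
open AbVar

namespace Groth.Agent.S10958

/-- Let K be a field and A an abelian variety over K, that is, a group scheme over Spec K whose
structure morphism is proper and smooth and whose underlying topological space is irreducible. Then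
there exist a natural number n and a closed immersion of A into projective n-space over K which is a
morphism over Spec K. -/
theorem result
    (K : Type u) [Field K] (A : Over (Spec (CommRingCat.of K)))
    [GrpObj A] [IsProper A.hom] [Smooth A.hom] [IrreducibleSpace A.left] :
    ∃ (n : ℕ) (f : A.left ⟶ CohB1.ProjSpace n K),
      IsClosedImmersion f ∧ f ≫ CohB1.ProjSpace.toSpec n K = A.hom := by
  haveI := AVAmple.geometricallyIntegral_of_irreducible A
  obtain ⟨L, s, hL, hs, hU⟩ := AVAmple.exists_affine_genLocus A
  obtain ⟨n, -, r, -, hr, hcl, -⟩ := AmpleEmb.exists_closedImmersion_projSpace A.hom (AVAmple.isAmple A hL s ⟨_, hs⟩ hU)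
  exact ⟨n, r, hcl, hr⟩

end Groth.Agent.S10958
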