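import Groth.Statements.S10959
import Mathlib
import Groth.Agent.AVAmple.Square

set_option autoImplicit false
set_option backward.isDefEq.respectTransparency false
set_option backward.isDefEq.respectTransparency.types false
universe u
open CategoryTheory MonoidalCategory CartesianMonoidalCategory MonObj GrpObj AlgebraicGeometry
open AbVar

namespace Groth.Agent.S10959

/-- Let K be an algebraically closed field and A an abelian variety over K (a group scheme over Spec K
with proper smooth structure morphism and irreducible underlying space). Let Z be a closed subset of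
A which is not all of A, and z a K-valued point of A. Then there is a K-valued point x of A such
that the point underlying z lies neither in the translate of Z by x nor in the translate of Z by the
inverse of x; here the translation by x is the morphism A → A given on points by a ↦ a·x, the
product of the identity and the constant map x in the group of morphisms into A. (The published
statement takes Z to be the support of an effective divisor; this row allows any closed subset other
than A.) -/
theorem result
    (K : Type u) [Field K] [IsAlgClosed K] (A : Over (Spec (CommRingCat.of K)))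
    [GrpObj A] [IsProper A.hom] [Smooth A.hom] [IrreducibleSpace A.left]
    (Z : Set A.left) (hZ : IsClosed Z) (hZne : Z ≠ Set.univ)
    (z : 𝟙_ (Over (Spec (CommRingCat.of K))) ⟶ A) :
    ∃ x : 𝟙_ (Over (Spec (CommRingCat.of K))) ⟶ A,
      Disjoint (Set.range z.left.base)
        ((𝟙 A * (toUnit A ≫ x)).left.base '' Z ∪ (𝟙 A * (toUnit A ≫ x)⁻¹).left.base '' Z) := by
  haveI := AVAmple.geometricallyIntegral_of_irreducible A
  haveI : Subsingleton (Spec (CommRingCat.of K)) := inferInstanceAs (Subsingleton (PrimeSpectrum K))
  let U : A.left.Opens := ⟨Zᶜ, hZ.isOpen_compl⟩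
  have hU : (U : Set A.left).Nonempty := Set.nonempty_compl.2 hZne
  obtain ⟨a, ha1, ha2⟩ := AVAmple.exists_translates A U hU z
  refine ⟨a, Set.disjoint_left.2 ?_⟩
  rintro _ ⟨c, rfl⟩ hc
  obtain rfl : c = IsLocalRing.closedPoint K := Subsingleton.elim (α := Spec (CommRingCat.of K)) _ _
  have e1 : (𝟙 A * (toUnit A ≫ a)) ≫ (𝟙 A * (toUnit A ≫ a)⁻¹) = 𝟙 A := by
    simp [MonObj.comp_mul, GrpObj.comp_inv, ← Category.assoc, _root_.mul_assoc]
  have e2 : (𝟙 A * (toUnit A ≫ a)⁻¹) ≫ (𝟙 A * (toUnit A ≫ a)) = 𝟙 A := by
    simp [MonObj.comp_mul, ← Category.assoc, _root_.mul_assoc]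
  have key : ∀ (f g : A ⟶ A), f ≫ g = 𝟙 A → ∀ y : A.left, y ∈ f.left.base '' Z →
      g.left y ∈ Z := by
    rintro f g e _ ⟨x, hx, rfl⟩
    change g.left (f.left x) ∈ Z
    rwa [← Scheme.Hom.comp_apply, ← Over.comp_left, e]
  rcases hc with hc | hc
  · exact ha2 (key _ _ e1 _ hc)
  · exact ha1 (key _ _ e2 _ hc)

end Groth.Agent.S10959
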