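import Groth.Statements.S10960
import Groth.Agent.PicPn.Main

set_option autoImplicit false
universe u
open CategoryTheory CategoryTheory.Limits AlgebraicGeometry TopologicalSpace
open SDiv

namespace Groth.Agent.S10960

/-- Let L be a field and n ≥ 1. Then every invertible module on projective n-space over L is isomorphic
to the twisting sheaf O(d) for exactly one integer d. In other words d ↦ O(d) is a bijection from
the integers onto the isomorphism classes of invertible modules on P^n_L. -/
theorem result (L : Type u) [Field L] (n : ℕ) (hn : 1 ≤ n)
    (M : (CohB1.ProjSpace n L).Modules) (hM : PicF.IsInvertible M) :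
    ∃! d : ℤ, Nonempty (M ≅ Twist.twistProjSpace n L d) := by
  exact Groth.Agent.PicPn.existsUnique_iso hn M hM

end Groth.Agent.S10960
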