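import Groth.Statements.S10961
import Groth.Agent.MeroLib.Special
import Groth.Agent.WeakAssLib.Regular
open Groth.Agent.MeroLib

set_option autoImplicit false
universe u
open CategoryTheory AlgebraicGeometry TopologicalSpace
open Mero

namespace Groth.Agent.S10961

/-- Let X be a reduced scheme with only finitely many irreducible components, with generic points x_1,
…, x_r, and let U be an open subset of X. Then the ring of sections over U of the sheaf of
meromorphic functions K_X maps bijectively, by evaluation, onto the product of the rings K_{X,x_i}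
over those generic points x_i that lie in U; moreover for each generic point x_i the local ring of X
at x_i is a field and maps bijectively onto K_{X,x_i}, so that K_{X,x_i} is the residue field of
x_i. (The hypothesis holds for every Noetherian scheme; for X integral it says that K_X is the
constant sheaf with value the function field.) -/
theorem result
    (X : Scheme.{u}) [IsReduced X] (hfin : (irreducibleComponents (X : Type u)).Finite) (U : X.Opens) :
    Function.Bijective (fun s : Γ(Mero.kmod X, U) =>
      fun x : {x : U // closure ({x.1} : Set X) ∈ irreducibleComponents (X : Type u)} =>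
        Mero.evalK X U x.1 s) ∧
    (∀ x : X, closure ({x} : Set X) ∈ irreducibleComponents (X : Type u) →
      IsField (X.presheaf.stalk x) ∧
        Function.Bijective (algebraMap (X.presheaf.stalk x) (Mero.KStalk X x))) := by
  classical
  have hmaxof : ∀ x : X, closure ({x} : Set X) ∈ irreducibleComponents (X : Type u) → ∀ z : X, z ⤳ x → z = x := by
    intro x hx z hz
    have h1 : closure ({x} : Set X) ⊆ closure {z} :=
      isClosed_closure.closure_subset_iff.mpr (Set.singleton_subset_iff.mpr (specializes_iff_mem_closure.mp hz))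
    have h2 := hx.2 isIrreducible_singleton.closure h1
    exact (hz.antisymm (specializes_iff_mem_closure.mpr (h2 (subset_closure rfl)))).eq
  have hfield : ∀ x : X, (∀ z : X, z ⤳ x → z = x) →
      IsField (X.presheaf.stalk x) ∧ Function.Bijective (algebraMap (X.presheaf.stalk x) (Mero.KStalk X x)) := by
    intro x hx
    have hunit : ∀ t : X.presheaf.stalk x, t ∈ nonZeroDivisors (X.presheaf.stalk x) → IsUnit t := fun t ht =>
      Groth.Agent.WeakAssLib.isUnit_of_mem_nonZeroDivisors_maximalPt hx ht
    refine ⟨(IsLocalRing.isField_iff_maximalIdeal_eq).mpr ?_, iK_inj x, fun q => ?_⟩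
    · refine eq_bot_iff.mpr fun t ht => ?_
      have hnil : t ∈ nilradical (X.presheaf.stalk x) := by
        rw [nilradical_eq_sInf, Submodule.mem_sInf]
        intro P hP
        have hP' : P = IsLocalRing.maximalIdeal _ := by
          have h1 : (X.fromSpecStalk x) ⟨P, hP⟩ ∈ Set.range (X.fromSpecStalk x) := ⟨_, rfl⟩
          rw [Scheme.range_fromSpecStalk] at h1
          have h2 := (hx _ h1).trans Scheme.fromSpecStalk_closedPoint.symm
          exact congrArg PrimeSpectrum.asIdeal ((X.fromSpecStalk x).isEmbedding.injective h2)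
        rw [hP']; exact ht
      exact Ideal.mem_bot.mpr (IsNilpotent.eq_zero (R := ↑(X.presheaf.stalk x)) hnil)
    · induction q using LocalizedModule.induction_on with
      | h r s =>
        refine ⟨r * ((hunit _ (Mero.regStalk_le_nonZeroDivisors x s.2)).unit⁻¹ : (X.presheaf.stalk x)ˣ), ?_⟩
        refine eq_mk_of_mul_iK ?_
        rw [← map_mul, mul_assoc, IsUnit.val_inv_mul, mul_one]
  refine ⟨?_, fun x hx => hfield x (hmaxof x hx)⟩
  have hlf : ∀ x : X, ∃ W : X.Opens, x ∈ W ∧
      {Z : Set X | Z ∈ irreducibleComponents X ∧ (Z ∩ (W : Set X)).Nonempty}.Finite :=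
    fun x => ⟨⊤, trivial, hfin.subset fun Z hZ => hZ.1⟩
  constructor
  · intro f f' hff
    refine Subtype.ext (funext fun y => sub_eq_zero.mp ?_)
    let S : Set X.Opens := {O | ∃ hO : O ≤ U, ∀ (z : X) (hz : z ∈ O), f.1 ⟨z, hO hz⟩ = f'.1 ⟨z, hO hz⟩}
    have hden : HasDenoms U (sSup S) := hasDenoms_of_maximal hlf U _ fun z hzU hmax => by
      have hz : closure ({z} : Set X) ∈ irreducibleComponents (X : Type u) :=
        Groth.Agent.GenComp.closure_mem_irreducibleComponents fun w hw => by rw [hmax w hw]
      have h0 : f.1 ⟨z, hzU⟩ = f'.1 ⟨z, hzU⟩ := congrFun hff ⟨⟨z, hzU⟩, hz⟩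
      obtain ⟨W, hWU, a, b, -, hzW, hb, hab⟩ := exists_frac (f - f') ⟨z, hzU⟩
      have h1 := hab ⟨z, hzW⟩
      rw [show (f - f').1 ⟨z, hzU⟩ = 0 from (map_sub (Mero.evalK X U ⟨z, hzU⟩) f f').trans (sub_eq_zero.mpr h0), zero_mul] at h1
      obtain ⟨O, hzO, i₁, i₂, e⟩ := X.presheaf.germ_eq z hzW hzW a 0
        ((iK_inj z (h1.symm.trans (map_zero _).symm)).trans (map_zero _).symm)
      refine TopologicalSpace.Opens.mem_sSup.mpr ⟨O, ⟨i₁.le.trans hWU, fun w hw => sub_eq_zero.mp ?_⟩, hzO⟩
      have h2 := hab ⟨w, i₁.le hw⟩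
      have h3 : gO w (i₁.le hw) a = 0 := by
        have h4 := congrArg (gO w hw) e
        simp only [map_zero, gO, TopCat.Presheaf.germ_res_apply] at h4
        exact h4
      rw [h3, map_zero, (isUnit_iK_of_mem (Mero.germ_mem_regStalk (⟨w, i₁.le hw⟩ : W) hb)).mul_left_eq_zero] at h2
      exact (map_sub (Mero.evalK X U ⟨w, _⟩) f f').symm.trans h2
    refine (map_sub (Mero.evalK X U y) f f').symm.trans (eq_zero_of_hasDenoms hden le_rfl (f - f') (fun z hz hzS => ?_) y)
    obtain ⟨O, ⟨hO, hO'⟩, hzO⟩ := TopologicalSpace.Opens.mem_sSup.mp hzS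
    exact (map_sub (Mero.evalK X U ⟨z, hz⟩) f f').trans (sub_eq_zero.mpr (hO' z hzO))
  · intro v
    let ι := {x : U // closure ({x.1} : Set X) ∈ irreducibleComponents (X : Type u)}
    choose r hr using fun i : ι => (hfield i.1.1 (hmaxof _ i.2)).2.2 (v i)
    choose O₁ hiO₁ g₁ hg₁ using fun i : ι => TopCat.Presheaf.exists_germ_eq (C := CommRingCat) X.presheaf (r i)
    let Oth : ι → Set X := fun i => ⋃ Z ∈ (irreducibleComponents (X : Type u) \ {closure {i.1.1}}), Z
    have hOth : ∀ i, IsClosed (Oth i) := fun i =>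
      (hfin.subset Set.diff_subset).isClosed_biUnion fun Z hZ => isClosed_of_mem_irreducibleComponents Z hZ.1
    let O : ι → X.Opens := fun i => (O₁ i : X.Opens) ⊓ U ⊓ ⟨_, (hOth i).isOpen_compl⟩
    have hiO : ∀ i, i.1.1 ∈ O i := fun i => ⟨⟨hiO₁ i, i.1.2⟩, fun h => by
      obtain ⟨Z, hZ, hiZ⟩ := Set.mem_iUnion₂.mp h
      exact hZ.2 (Set.mem_singleton_iff.mpr (subset_antisymm
        (i.2.2 hZ.1.1 (isClosed_of_mem_irreducibleComponents Z hZ.1 |>.closure_subset_iff.mpr (Set.singleton_subset_iff.mpr hiZ)))
        (isClosed_of_mem_irreducibleComponents Z hZ.1 |>.closure_subset_iff.mpr (Set.singleton_subset_iff.mpr hiZ))))⟩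
    obtain ⟨g, hg, -⟩ := TopCat.Sheaf.existsUnique_gluing' X.sheaf O (iSup O) (fun i => homOfLE (le_iSup O i)) le_rfl
      (fun i => X.presheaf.map (homOfLE (inf_le_left.trans inf_le_left : O i ≤ O₁ i)).op (g₁ i)) (fun i j => by
        refine TopCat.Presheaf.section_ext X.sheaf (O i ⊓ O j) _ _ fun x hx => ?_
        have h1 : ∀ k, x ∈ O k → irreducibleComponent x = closure {k.1.1} := fun k hk => by
          by_contra hne
          exact hk.2 (Set.mem_iUnion₂.mpr
            ⟨_, ⟨irreducibleComponent_mem_irreducibleComponents x, hne⟩, mem_irreducibleComponent⟩)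
        obtain rfl : i = j := by
          have e : closure ({i.1.1} : Set X) = closure {j.1.1} := (h1 i hx.1).symm.trans (h1 j hx.2)
          exact Subtype.ext (Subtype.ext ((specializes_iff_mem_closure.mpr (e ▸ subset_closure rfl)).antisymm
            (specializes_iff_mem_closure.mpr (e.symm ▸ subset_closure rfl))).eq)
        rfl)
    obtain ⟨s, hs⟩ := exists_extend (iSup_le fun i => inf_le_left.trans inf_le_right)
      (hasDenoms_of_maximal hlf U (iSup O) fun z hzU hmax => TopologicalSpace.Opens.mem_iSup.mpr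
        ⟨⟨⟨z, hzU⟩, Groth.Agent.GenComp.closure_mem_irreducibleComponents fun w hw => by rw [hmax w hw]⟩, hiO _⟩) g
    refine ⟨s, funext fun i => ?_⟩
    refine (hs ⟨i.1.1, TopologicalSpace.Opens.mem_iSup.mpr ⟨i, hiO i⟩⟩).trans (Eq.trans ?_ (hr i))
    refine congrArg (iK i.1.1) ?_
    have h2 := congrArg (gO i.1.1 (hiO i)) (hg i)
    erw [TopCat.Presheaf.germ_res_apply, TopCat.Presheaf.germ_res_apply] at h2
    exact h2.trans (hg₁ i)

end Groth.Agent.S10961
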