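import Groth.Statements.S10967
import Mathlib
import Groth.Agent.QA.Basic

set_option autoImplicit false
universe u
open CategoryTheory AlgebraicGeometry TopologicalSpace
open MoreMor

set_option backward.isDefEq.respectTransparency false

namespace Groth.Agent.S10967

/-- Quasi-affine over an affine base: call a morphism f : X → Y quasi-affine when Y has a cover by
affine opens V_i whose preimages f⁻¹(V_i) are quasi-affine schemes (quasi-compact open subschemes of
affine schemes; equivalently quasi-compact with X → Spec Γ(X, O_X) an immersion). If Y is affine and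
f is quasi-affine in this sense, then X is a quasi-affine scheme. -/
theorem result {X Y : Scheme.{u}} [IsAffine Y]
    (f : X ⟶ Y) {ι : Type u} (V : ι → Y.Opens) (hV : iSup V = ⊤) (hVa : ∀ i, IsAffineOpen (V i))
    (hq : ∀ i, Scheme.IsQuasiAffine (↑(f ⁻¹ᵁ V i) : Scheme.{u})) :
    X.IsQuasiAffine := by
  have hqs : QuasiSeparated f := by
    refine IsZariskiLocalAtTarget.of_forall_exists_morphismRestrict (P := @QuasiSeparated) fun y ↦ ?_
    obtain ⟨i, hi⟩ := TopologicalSpace.Opens.mem_iSup.mp (show y ∈ iSup V by rw [hV]; trivial)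
    have := hq i
    have : IsAffine (V i).toScheme := hVa i
    exact ⟨V i, hi, (quasiSeparated_iff_quasiSeparatedSpace _).mpr inferInstance⟩
  obtain ⟨t, ht⟩ := (isAffineOpen_top Y).isCompact.elim_finite_subcover (fun i ↦ (V i : Set Y))
    (fun i ↦ (V i).2) (fun y _ ↦ by
      obtain ⟨i, hi⟩ := TopologicalSpace.Opens.mem_iSup.mp (show y ∈ iSup V by rw [hV]; trivial)
      exact Set.mem_iUnion.mpr ⟨i, hi⟩)
  have hc : ∀ i, IsCompact ((f ⁻¹ᵁ V i : X.Opens) : Set X) := fun i ↦
    isCompact_iff_compactSpace.mpr (hq i).toCompactSpace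
  have : CompactSpace X := ⟨by
    have h := t.isCompact_biUnion (fun i _ ↦ hc i)
    convert h
    refine (Set.eq_univ_of_forall fun x ↦ ?_).symm
    obtain ⟨i, hi, hx⟩ : ∃ i ∈ t, f x ∈ V i := by simpa using ht (Set.mem_univ (f x))
    exact Set.mem_biUnion hi hx⟩
  have : QuasiSeparatedSpace X := quasiSeparatedSpace_of_quasiSeparated f
  refine Groth.Agent.QA.isQuasiAffine_of_basicOpen fun x ↦ ?_
  obtain ⟨i, hi⟩ := TopologicalSpace.Opens.mem_iSup.mp (show f x ∈ iSup V by rw [hV]; trivial)
  obtain ⟨s, hs, hxs⟩ := (isAffineOpen_top Y).exists_basicOpen_le (V := V i) ⟨f x, hi⟩ trivial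
  refine ⟨f.appTop s, by rw [← Scheme.preimage_basicOpen_top]; exact hxs, ?_⟩
  have hle : X.basicOpen (f.appTop s) ≤ f ⁻¹ᵁ V i := by
    rw [← Scheme.preimage_basicOpen_top]; exact fun y hy ↦ hs hy
  have := hq i
  have : CompactSpace (X.basicOpen (f.appTop s)).toScheme :=
    isCompact_iff_compactSpace.mp (isRetrocompact_basicOpen _).isCompact
  exact .of_isImmersion (X.homOfLE hle)

end Groth.Agent.S10967
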