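import Groth.Statements.S1098
import Groth.Agent.PerfGen.Results

set_option autoImplicit false
set_option backward.isDefEq.respectTransparency false
set_option backward.isDefEq.respectTransparency.types false
universe u
open CategoryTheory CategoryTheory.Limits AlgebraicGeometry Opposite
attribute [local instance] HasDerivedCategory.standard
open Perf

namespace Groth.Agent.S1098

/-- Let the scheme X be quasi-compact and quasi-separated, U ⊆ X a quasi-compact open (restriction to U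
assumed exact), T ⊆ X closed with quasi-compact complement, E ∈ D(O_X) with quasi-coherent
cohomology sheaves, and P a perfect object of D(O_U) whose cohomology sheaves are supported on T ∩
U, with a morphism α : P ⟶ E|_U. Then there are a perfect object R of D(O_X) with cohomology sheaves
supported on T, a morphism β : R ⟶ E, and morphisms i : P ⟶ R|_U, p : R|_U ⟶ P exhibiting P as a
direct summand of R|_U, with i ≫ β|_U = α. -/
theorem result (X : Scheme.{u}) [CompactSpace ↥X] [QuasiSeparatedSpace ↥X]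
    (U : X.Opens) (hU : IsCompact (U : Set X)) [PreservesFiniteLimits (Scheme.Modules.restrictFunctor U.ι)] (T : Set X) (hT : IsClosed T) (hTc : IsCompact Tᶜ)
    (E : DCoh.D X) (hE : DCoh.IsQCohD E)
    (P : DCoh.D (U : Scheme.{u})) (hP : DCoh.IsPerfect P) (hPT : ∀ k : ℤ, CohB1.support (DCoh.HD P k) ⊆ {x : ↥(U : Scheme.{u}) | U.ι.base x ∈ T})
    (α : P ⟶ (DCoh.restrictD U.ι).obj E) :
    ∃ (R : DCoh.D X) (β : R ⟶ E) (i : P ⟶ (DCoh.restrictD U.ι).obj R) (p : (DCoh.restrictD U.ι).obj R ⟶ P),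
      DCoh.IsPerfect R ∧ (∀ k : ℤ, CohB1.support (DCoh.HD R k) ⊆ T) ∧ i ≫ p = 𝟙 P ∧ i ≫ (DCoh.restrictD U.ι).map β = α := by
  haveI : CompactSpace (U : Scheme.{u}) := isCompact_iff_compactSpace.1 hU
  haveI : QuasiSeparatedSpace (U : Scheme.{u}) := quasiSeparatedSpace_of_quasiSeparated U.ι
  obtain ⟨R₀, hR₀, ⟨e⟩⟩ := Groth.Agent.PerfGen.exists_extend (Groth.Agent.PerfGen.hasGen X) U.ι hT hTc ⟨hP, hPT⟩
  obtain ⟨R, β, γ, hR, hRT, hβ, hγ⟩ := Groth.Agent.PerfGen.exists_lift_map (Groth.Agent.PerfGen.hasGen X) U.ι hT hTc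
    hR₀.1 hR₀.2 hE (e.hom ≫ biprod.fst ≫ α)
  haveI := hβ
  refine ⟨R, γ, biprod.inl ≫ e.inv ≫ CategoryTheory.inv ((Groth.Agent.DQCoh.RD U.ι).map β),
    (Groth.Agent.DQCoh.RD U.ι).map β ≫ e.hom ≫ biprod.fst, hR, hRT, by simp, ?_⟩
  change (biprod.inl ≫ e.inv ≫ CategoryTheory.inv ((Groth.Agent.DQCoh.RD U.ι).map β)) ≫
    (Groth.Agent.DQCoh.RD U.ι).map γ = α
  rw [← hγ]
  simp

end Groth.Agent.S1098
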