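import Groth.Statements.S10986
import Groth.Agent.FunFld.Extra

set_option autoImplicit false
open FunFld

namespace Groth.Agent.S10986

/-- `L(D) · W(C) ⊆ W(C - D)`: if `x ∈ L(D)` and `ω` vanishes on `A(C) + K` then `xω` vanishes on `A(C -
D) + K`. -/
theorem result (k K : Type*) [Field k] [Field K] [Algebra k K]
    (C D : FunFld.Divisor k K) (x : K) (hxD : x ∈ FunFld.L D)
    (hx : ∀ a ∈ FunFld.adele k K, x • a ∈ FunFld.adele k K)
    (ω : Module.Dual k (FunFld.adele k K)) (hω : ω ∈ FunFld.WD C) :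
    FunFld.mulW x hx ω ∈ FunFld.WD (C - D) := by
  open Groth.Agent.FunFld in
  rw [mem_WD_iff] at hω ⊢
  intro a ha
  refine hω _ ?_
  obtain ⟨b, hb, c, ⟨z, rfl⟩, hbc⟩ := Submodule.mem_sup.1 ha
  refine Submodule.mem_sup.2 ⟨x • b, fun P => ?_, diag k K (x * z), ⟨_, rfl⟩, ?_⟩
  · show P.1 (x * b P) ≤ _
    rw [map_mul, show C P = D P + (C - D) P by simp, WithZero.exp_add]
    exact mul_le_mul' (hxD P) (hb P)
  · show x • b + diag k K (x * z) = x • (a : Place k K → K)
    rw [← hbc]; funext P; exact (mul_add x (b P) z).symm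

end Groth.Agent.S10986
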