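import Groth.Statements.S10989
import Groth.Agent.FunFld.Extra

set_option autoImplicit false
open FunFld

namespace Groth.Agent.S10989

/-- Any two canonical divisors of a function field of one variable are linearly equivalent. -/
theorem result (k K : Type*) [Field k] [Field K] [Algebra k K]
    (hK : FunFld.IsFunctionField k K) (C₁ C₂ : FunFld.Divisor k K) (h₁ : FunFld.IsCanonical k K C₁) (h₂ : FunFld.IsCanonical k K C₂) :
    ∃ x : K, x ≠ 0 ∧ C₂ = C₁ + FunFld.div k x := by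
  open Groth.Agent.FunFld in
  obtain ⟨ω₁, h10, hω₁⟩ := h₁
  obtain ⟨ω₂, h20, hω₂⟩ := h₂
  have h : ∀ (x : K), ∀ a ∈ adele k K, x • a ∈ adele k K := fun x a ha => smul_mem_adele hK x ha
  obtain ⟨x, hx⟩ := exists_mulW_eq hK h ⟨C₁, (hω₁ C₁).2 le_rfl⟩ h10 ⟨C₂, (hω₂ C₂).2 le_rfl⟩
  have hx0 : x ≠ 0 := by
    rintro rfl
    refine h20 (hx ▸ LinearMap.ext fun a => ?_)
    refine (congrArg ω₁ (Subtype.ext ?_)).trans (map_zero ω₁)
    exact zero_smul K (a : Place k K → K)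
  have h' := isDivOf_mulW hK hx0 (h x) hω₁
  rw [hx] at h'
  exact ⟨x, hx0, le_antisymm ((h' C₂).1 ((hω₂ C₂).2 le_rfl)) ((hω₂ _).1 ((h' _).2 le_rfl))⟩

end Groth.Agent.S10989
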