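import Groth.Statements.S10992
import Groth.Agent.FunFld.Extra

set_option autoImplicit false
open FunFld

namespace Groth.Agent.S10992

/-- A divisor `C` of a function field of one variable of genus `g` is canonical iff `ℓ(C) = g` and `deg
C = 2g - 2`. -/
theorem result (k K : Type*) [Field k] [Field K] [Algebra k K]
    (hK : FunFld.IsFunctionField k K) (C : FunFld.Divisor k K) :
    FunFld.IsCanonical k K C ↔ (FunFld.ell C = FunFld.genus k K ∧ C.deg = 2 * FunFld.genus k K - 2) := by
  open Groth.Agent.FunFld in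
  refine ⟨ell_canonical hK, fun ⟨hl, hd⟩ => ?_⟩
  obtain ⟨W, hW⟩ := exists_canonical hK
  have h := riemann_roch hK hW C
  rw [hl, hd] at h
  obtain ⟨x, hx0, hx⟩ := exists_pos_of_ell hK (D := W - C) (by omega)
  have hdeg : (W - C + FunFld.div k x).deg = 0 := by
    rw [deg_add, deg_sub, deg_div hK, (ell_canonical hK hW).2, hd]; ring
  have h0 := (deg_eq_zero_iff hK hx).1 hdeg
  have e : C = W + FunFld.div k x := by rw [← sub_eq_zero, ← neg_eq_zero, ← h0]; abel
  obtain ⟨ω, hω0, hω⟩ := hW
  refine ⟨mulW x (fun a ha => smul_mem_adele hK x ha) ω, fun h' => hx0 ?_, e ▸ isDivOf_mulW hK hx0 _ hω⟩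
  exact mulW_injective hK (fun y a ha => smul_mem_adele hK y ha) hω0 h'

end Groth.Agent.S10992
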