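import Groth.Statements.S10997
import Groth.Agent.FunFld.Extra

set_option autoImplicit false
open FunFld

namespace Groth.Agent.S10997

/-- Given distinct places `P∞, P_1, …, P_n` of a function field of one variable, elements `x_i` and
integers `m_i`, some `x ∈ K` has `ord_{P_i}(x - x_i) = m_i` for all `i` and is integral outside
`{P∞, P_1, …, P_n}`. -/
theorem result (k K : Type*) [Field k] [Field K] [Algebra k K]
    (hK : FunFld.IsFunctionField k K) (Pinf : FunFld.Place k K) (n : ℕ) (P : Fin n → FunFld.Place k K) (hP : Function.Injective P)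
    (hinf : Pinf ∉ Set.range P) (x : Fin n → K) (m : Fin n → ℤ) :
    ∃ y : K, (∀ i, (P i).1 (y - x i) = WithZero.exp (-(m i))) ∧
      ∀ Q : FunFld.Place k K, Q ≠ Pinf → Q ∉ Set.range P → Q.1 y ≤ 1 := by
  open Groth.Agent.FunFld WithZero in
  classical
  obtain ⟨N, hN⟩ := exists_deg_bound hK
  set D₁ : Divisor k K := ∑ i, Finsupp.single (P i) (-(m i) - 1)
  set D : Divisor k K := D₁ + Finsupp.single Pinf (((N - D₁.deg).toNat : ℕ) : ℤ)
  have hDi : ∀ i, D (P i) = -(m i) - 1 := fun i => by
    simp only [D, D₁, Finsupp.add_apply, Finsupp.coe_finsetSum, Finset.sum_apply]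
    rw [Finset.sum_eq_single i (fun j _ hj => Finsupp.single_eq_of_ne (fun e => hj (hP e.symm)))
      (fun h => absurd (Finset.mem_univ i) h), Finsupp.single_eq_same,
      Finsupp.single_eq_of_ne (fun e => hinf ⟨i, e⟩), add_zero]
  have hDQ : ∀ Q, Q ≠ Pinf → Q ∉ Set.range P → D Q = 0 := fun Q h1 h2 => by
    simp only [D, D₁, Finsupp.add_apply, Finsupp.coe_finsetSum, Finset.sum_apply]
    rw [Finsupp.single_eq_of_ne h1, add_zero]
    exact Finset.sum_eq_zero fun i _ => Finsupp.single_eq_of_ne fun e => h2 ⟨i, e.symm⟩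
  have hdeg : N ≤ D.deg := by
    have h1 : (1 : ℤ) ≤ Pinf.deg := by exact_mod_cast deg_pos hK Pinf
    simp only [D]
    rw [deg_add, deg_single]
    have := Int.self_le_toNat (N - D₁.deg)
    nlinarith [Int.natCast_nonneg (N - D₁.deg).toNat]
  obtain ⟨hf, he⟩ := adele_idx hK D
  rw [hN D hdeg, sub_self] at he
  have hsub : Subsingleton (↥(adele k K) ⧸ ADK D) := Module.finrank_zero_iff.1 (by exact_mod_cast he)
  rw [Submodule.Quotient.subsingleton_iff] at hsub
  choose t ht using fun i => exists_val (P i) (-(m i))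
  let a : Place k K → K := fun Q => if h : Q ∈ Set.range P then x h.choose + t h.choose else 0
  have ha : a ∈ adele k K := by
    refine Filter.eventually_cofinite.2 ((Set.finite_range P).subset fun Q hQ => ?_)
    by_contra hc
    exact hQ (by rw [show a Q = 0 from dif_neg hc]; simp)
  have hai : ∀ i, a (P i) = x i + t i := fun i => by
    have h : P i ∈ Set.range P := ⟨i, rfl⟩
    simp only [a, dif_pos h, hP h.choose_spec]
  obtain ⟨b, hb, _, ⟨y, rfl⟩, hby⟩ := Submodule.mem_sup.1
    (show a ∈ AD D ⊔ LinearMap.range (diag k K) from (hsub ▸ Submodule.mem_top : (⟨a, ha⟩ : adele k K) ∈ ADK D))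
  have hy : ∀ Q, y = a Q - b Q := fun Q => by
    have := congrFun hby Q
    simp only [Pi.add_apply] at this
    rw [← this]; exact (add_sub_cancel_left (b Q) y).symm
  refine ⟨y, fun i => ?_, fun Q h1 h2 => ?_⟩
  · rw [hy (P i), hai, show x i + t i - b (P i) - x i = t i - b (P i) by ring,
      Valuation.map_sub_eq_of_lt_left]
    · exact ht i
    · refine (hb (P i)).trans_lt ?_
      rw [ht i, hDi, exp_lt_exp]; omega
  · rw [hy Q, show a Q = 0 from dif_neg h2, zero_sub, Valuation.map_neg]
    exact (hb Q).trans (by rw [hDQ Q h1 h2, exp_zero])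

end Groth.Agent.S10997
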