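import Groth.Statements.S10999
import Groth.Agent.FunFld.Extra

set_option autoImplicit false
open FunFld

namespace Groth.Agent.S10999

/-- In a genus-one function field with a place `P₀` of degree one, `P ↦ P - P₀` is a bijection from the
places of degree one onto the divisor classes of degree zero. The geometric description of the group
law is not stated. -/
theorem result (k K : Type*) [Field k] [Field K] [Algebra k K]
    (hK : FunFld.IsFunctionField k K) (hg : FunFld.genus k K = 1) (P₀ : FunFld.Place k K) (hP : P₀.deg = 1)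
    (D : FunFld.Divisor k K) (hD : D.deg = 0) :
    ∃! P : FunFld.Place k K, P.deg = 1 ∧
      ∃ x : K, x ≠ 0 ∧ D = Finsupp.single P 1 - Finsupp.single P₀ 1 + FunFld.div k x := by
  open Groth.Agent.FunFld in
  classical
  have hd1 : (D + Finsupp.single P₀ 1).deg = 1 := by rw [deg_add, deg_single, hD, hP]; norm_num
  have hl := ell_eq_of_deg_ge hK (D := D + Finsupp.single P₀ 1) (by rw [hd1, hg]; norm_num)
  obtain ⟨u, hu, hpos⟩ := exists_pos_of_ell hK (D := D + Finsupp.single P₀ 1) (by omega)
  set E := D + Finsupp.single P₀ 1 + FunFld.div k u with hE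
  have hEd : E.deg = 1 := by rw [hE, deg_add, hd1, deg_div hK, add_zero]
  obtain ⟨P, hPE⟩ : ∃ P, 0 < E P := by
    by_contra hc
    push Not at hc
    have h0 : E = 0 := le_antisymm (fun Q => hc Q) hpos
    rw [h0, deg_zero] at hEd; omega
  have hle : Finsupp.single P 1 ≤ E := fun Q => by
    rcases eq_or_ne Q P with rfl | hQ
    · rw [Finsupp.single_eq_same]; omega
    · rw [Finsupp.single_eq_of_ne hQ]; exact hpos Q
  have hdP : (1 : ℤ) ≤ P.deg := by exact_mod_cast deg_pos hK P
  have hEP : Finsupp.single P 1 = E := eq_of_le_of_deg hK hle (by rw [hEd, deg_single]; omega)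
  have hP1 : P.deg = 1 := by
    rw [← hEP, deg_single, one_mul] at hEd; exact_mod_cast hEd
  refine ⟨P, ⟨hP1, u⁻¹, inv_ne_zero hu, ?_⟩, ?_⟩
  · rw [div_inv hK, hEP, hE]; abel
  · rintro Q ⟨hQ1, y, hy, hQ⟩
    refine place_eq_of_single_sub hK (by omega) hQ1 hP1 (x := (y * u)⁻¹) ?_
    rw [div_inv hK, div_mul hK hy hu, hEP, hE, hQ]; abel

end Groth.Agent.S10999
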