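import Groth.Statements.S11016
import Groth.Agent.FunFld.Extra

set_option autoImplicit false
open FunFld

namespace Groth.Agent.S11016

/-- `L(D) ≠ 0` iff there is an effective divisor linearly equivalent to `D`. -/
theorem result (k K : Type*) [Field k] [Field K] [Algebra k K]
    (hK : FunFld.IsFunctionField k K) (D : FunFld.Divisor k K) :
    FunFld.L D ≠ ⊥ ↔ ∃ x : K, x ≠ 0 ∧ 0 ≤ D + FunFld.div k x := by
  open Groth.Agent.FunFld in
  refine ⟨exists_effective hK, fun ⟨x, hx, h⟩ e => hx ?_⟩
  have hm : x ∈ L D := fun P => by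
    have := h P
    rw [Finsupp.add_apply, div_apply hK, Finsupp.coe_zero, Pi.zero_apply] at this
    rw [le_exp_iff P hx]; omega
  rwa [e, Submodule.mem_bot] at hm

end Groth.Agent.S11016
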