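import Groth.Statements.S11017
import Groth.Agent.FunFld.Weil

set_option autoImplicit false
open FunFld

namespace Groth.Agent.S11017

/-- For a Weil differential `ω` with divisor `C`, `ord_P [ω] ≥ e` iff `ω` kills every repartition
concentrated at `P` with `P`-component of order at least `-e`. -/
theorem result (k K : Type*) [Field k] [Field K] [Algebra k K] (ω : Module.Dual k (FunFld.adele k K)) (C : FunFld.Divisor k K) (hω : FunFld.IsDivOf ω C)
    (P : FunFld.Place k K) (e : ℤ) :
    e ≤ C P ↔ ∀ (a : FunFld.Place k K → K) (ha : a ∈ FunFld.adele k K),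
      (∀ Q, Q ≠ P → a Q = 0) → P.1 (a P) ≤ WithZero.exp e → ω ⟨a, ha⟩ = 0 := by
  open Groth.Agent.FunFld in
  classical
  constructor
  · intro he a ha h0 hP
    have hC := (hω C).2 le_rfl
    rw [mem_WD_iff] at hC
    refine hC ⟨a, ha⟩ (Submodule.mem_sup_left fun Q => ?_)
    rcases eq_or_ne Q P with rfl | hQ
    · exact hP.trans (WithZero.exp_le_exp.2 he)
    · show Q.1 (a Q) ≤ _
      rw [h0 Q hQ]; simp
  · intro h
    by_contra hlt
    push Not at hlt
    set E := C + Finsupp.single P (e - C P)
    have hEP : E P = e := by simp [E]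
    suffices ω ∈ WD E by
      have := (hω E).1 this P
      omega
    have hC := (hω C).2 le_rfl
    rw [mem_WD_iff] at hC ⊢
    intro a ha
    obtain ⟨b, hb, c, hc, hbc⟩ := Submodule.mem_sup.1 ha
    let b₁ : Place k K → K := fun Q => if Q = P then b Q else 0
    have hb1 : b₁ ∈ adele k K := Filter.eventually_cofinite.2 ((Set.finite_singleton P).subset fun Q hQ => by
      by_contra hc'
      exact hQ (by simp [b₁, (show Q ≠ P from hc')]))
    have e1 : a = ⟨b₁, hb1⟩ + (a - ⟨b₁, hb1⟩) := (add_sub_cancel _ _).symm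
    rw [e1, map_add, h b₁ hb1 (fun Q hQ => if_neg hQ) (by
      simp only [b₁, if_pos]; rw [← hEP]; exact hb P), zero_add]
    refine hC _ (Submodule.mem_sup.2 ⟨b - b₁, fun Q => ?_, c, hc, ?_⟩)
    · show Q.1 (b Q - b₁ Q) ≤ _
      simp only [b₁]
      split_ifs with hQ
      · simp
      · rw [sub_zero]
        have := hb Q
        simpa [E, Finsupp.single_eq_of_ne hQ] using this
    · show b - b₁ + c = (a : Place k K → K) - b₁
      rw [← hbc]; abel

end Groth.Agent.S11017
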