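import Groth.Statements.S11043
import Mathlib

set_option autoImplicit false
open FunFld

namespace Groth.Agent.S11043

/-- For positive integers `n`, `d` with `e = gcd(n, d)`, in `ℂ[t]` one has `(1 - t^{nd/e})^e = ∏_{θⁿ =
1} (1 - (θ t)^d)`, the product over the complex `n`-th roots of unity. -/
theorem result (n d : ℕ) (hn : 0 < n) (hd : 0 < d) :
    ((1 : Polynomial ℂ) - Polynomial.X ^ (n * d / Nat.gcd n d)) ^ Nat.gcd n d =
      ∏ θ ∈ Polynomial.nthRootsFinset n (1 : ℂ),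
        (1 - Polynomial.C (θ ^ d) * Polynomial.X ^ d) := by
  classical
  obtain ⟨ζ, hζ⟩ : ∃ ζ : ℂ, IsPrimitiveRoot ζ n := ⟨_, Complex.isPrimitiveRoot_exp n hn.ne'⟩
  set e := Nat.gcd n d with he
  have he0 : 0 < e := Nat.gcd_pos_of_pos_left d hn
  obtain ⟨n', hn'⟩ : e ∣ n := Nat.gcd_dvd_left n d
  obtain ⟨d', hd'⟩ : e ∣ d := Nat.gcd_dvd_right n d
  have hn'0 : 0 < n' := Nat.pos_of_mul_pos_left (hn' ▸ hn)
  have hd'0 : 0 < d' := Nat.pos_of_mul_pos_left (hd' ▸ hd)
  have hexp : n * d / e = n' * d := by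
    rw [hn', mul_assoc, Nat.mul_div_cancel_left _ he0]
  have hco : Nat.Coprime d' n' := by
    have := Nat.coprime_div_gcd_div_gcd (m := d) (n := n) (Nat.gcd_pos_of_pos_left n hd)
    rwa [Nat.gcd_comm, ← he, hd', hn', Nat.mul_div_cancel_left _ he0, Nat.mul_div_cancel_left _ he0] at this
  have hμ : IsPrimitiveRoot (ζ ^ d) n' := by
    have h1 : IsPrimitiveRoot (ζ ^ e) n' := hζ.pow hn hn'
    rw [hd', pow_mul]
    exact h1.pow_of_coprime d' hco
  have hreidx : ∀ {R : Type} [CommRing R] [IsDomain R] {m : ℕ} (_ : 0 < m) (μ : R),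
      IsPrimitiveRoot μ m → ∀ f : R → Polynomial ℂ,
      ∏ θ ∈ Polynomial.nthRootsFinset m (1 : R), f θ = ∏ i ∈ Finset.range m, f (μ ^ i) := by
    intro R _ _ m hm μ hμ f
    refine (Finset.prod_bij (fun i _ => μ ^ i) (fun i _ => ?_) (fun i hi j hj h => ?_) (fun θ hθ => ?_)
      (fun i _ => rfl)).symm
    · rw [Polynomial.mem_nthRootsFinset hm, ← pow_mul, mul_comm, pow_mul, hμ.pow_eq_one, one_pow]
    · exact hμ.pow_inj (Finset.mem_range.1 hi) (Finset.mem_range.1 hj) h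
    · rw [Polynomial.mem_nthRootsFinset hm] at hθ
      haveI : NeZero m := ⟨hm.ne'⟩
      obtain ⟨i, hi, rfl⟩ := hμ.eq_pow_of_pow_eq_one hθ
      exact ⟨i, Finset.mem_range.2 hi, rfl⟩
  have hprod : ∀ Y : Polynomial ℂ,
      ∏ i ∈ Finset.range n', (1 - Polynomial.C ((ζ ^ d) ^ i) * Y) = 1 - Y ^ n' := by
    intro Y
    have hC : IsPrimitiveRoot (Polynomial.C (ζ ^ d)) n' :=
      hμ.map_of_injective Polynomial.C_injective
    have h := hC.pow_sub_pow_eq_prod_sub_mul (1 : Polynomial ℂ) Y hn'0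
    rw [one_pow, hreidx hn'0 _ hC (fun θ => 1 - θ * Y)] at h
    rw [h]
    exact Finset.prod_congr rfl fun i _ => by rw [Polynomial.C_pow]
  have hblock : ∀ m : ℕ, ∏ i ∈ Finset.range (n' * m), (1 - Polynomial.C ((ζ ^ d) ^ i) * Polynomial.X ^ d)
      = (1 - (Polynomial.X ^ d) ^ n' : Polynomial ℂ) ^ m := by
    intro m
    induction m with
    | zero => simp
    | succ m ih =>
      rw [Nat.mul_succ, Finset.prod_range_add, ih, pow_succ]
      congr 1
      rw [← hprod (Polynomial.X ^ d)]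
      refine Finset.prod_congr rfl fun i _ => ?_
      rw [pow_add, pow_mul, hμ.pow_eq_one, one_pow, one_mul]
  rw [hexp, mul_comm n' d, pow_mul, ← hblock e, mul_comm n' e, ← hn',
    hreidx hn ζ hζ (fun θ => 1 - Polynomial.C (θ ^ d) * Polynomial.X ^ d)]
  exact Finset.prod_congr rfl fun i _ => by rw [← pow_mul, ← pow_mul, mul_comm d i]

end Groth.Agent.S11043
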