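import Groth.Statements.S11044
import Groth.Agent.FunFld.Extra

set_option autoImplicit false
open FunFld

namespace Groth.Agent.S11044

/-- Over an algebraically closed constant field, if the genus `g` is positive and `D` has degree at
least `2g` or is canonical, then `ℓ(D - P) < ℓ(D)` for every place `P`; that is, `D` is the divisor
of the projective map given by `L(D)`. -/
theorem result
    (k K : Type*) [Field k] [IsAlgClosed k] [Field K] [Algebra k K]
    (hK : FunFld.IsFunctionField k K) (hg : 0 < FunFld.genus k K)
    (D : FunFld.Divisor k K)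
    (hD : 2 * (FunFld.genus k K : ℤ) ≤ D.deg ∨ FunFld.IsCanonical k K D) (P : FunFld.Place k K) :
    FunFld.ell (D - Finsupp.single P 1) < FunFld.ell D := by
  open Groth.Agent.FunFld in
  have hP := deg_eq_one hK P
  rcases hD with hD | hD
  · have h1 := ell_eq_of_deg_ge hK (D := D) (by omega)
    have h2 := ell_eq_of_deg_ge hK (D := D - Finsupp.single P 1) (by rw [deg_sub, deg_single, hP]; omega)
    rw [deg_sub, deg_single, hP] at h2
    omega
  · obtain ⟨hl, hd⟩ := ell_canonical hK hD
    have h := riemann_roch hK hD (D - Finsupp.single P 1)
    rw [sub_sub_cancel, deg_sub, deg_single, hP, hd] at h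
    have h1 : ell (Finsupp.single P (1 : ℤ)) = 1 := by
      have e := ell_add_gaps hK P 1
      have h2 : (gaps P 1).card ≤ 1 := by
        refine (Finset.card_filter_le _ _).trans ?_
        simp
      have h3 := ell_mono hK (Finsupp.single_nonneg.2 zero_le_one : (0 : Divisor k K) ≤ Finsupp.single P 1)
      rw [ell_zero hK] at h3
      by_contra hne
      have hlt : 1 < ell (Finsupp.single P (1 : ℤ)) := by omega
      have : ¬ L (Finsupp.single P (1 : ℤ)) ≤ L (0 : Divisor k K) := fun hle => by
        have := L_finite hK (0 : Divisor k K)
        have h4 : ell (Finsupp.single P (1 : ℤ)) ≤ ell (0 : Divisor k K) := Submodule.finrank_mono hle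
        rw [ell_zero hK] at h4; omega
      obtain ⟨x, hx, hx0⟩ := SetLike.not_le_iff_exists.1 this
      have hxc : x ≠ 0 := fun e => hx0 (e ▸ zero_mem _)
      have hQ : ∀ Q, Q ≠ P → 0 ≤ Q.ord x := fun Q hQ => by
        have := hx Q
        rw [Finsupp.single_eq_of_ne hQ, le_exp_iff Q hxc] at this
        omega
      have hord : P.ord x = -1 := by
        have := hx P
        rw [Finsupp.single_eq_same, le_exp_iff P hxc] at this
        by_contra hne'
        refine hx0 fun Q => ?_
        rw [le_exp_iff Q hxc, Finsupp.coe_zero, Pi.zero_apply]
        rcases eq_or_ne Q P with rfl | hQ'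
        · omega
        · have := hQ Q hQ'; omega
      have := (rational_props hK (adjoin_eq_top_of_simple_pole hK hP hord hQ)).2.1
      omega
    rw [h1] at h
    omega

end Groth.Agent.S11044
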