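import Groth.Statements.S11046
import Groth.Agent.FunFld.Extra

set_option autoImplicit false
open FunFld

namespace Groth.Agent.S11046

/-- Over an algebraically closed constant field, for a place `P` of a function field of genus `g` and a
natural number `n ≤ 2g - 2` one has `ℓ(nP) ≤ 1 + n/2` (Clifford's bound for multiples of a point). -/
theorem result
    (k K : Type*) [Field k] [IsAlgClosed k] [Field K] [Algebra k K]
    (hK : FunFld.IsFunctionField k K) (P : FunFld.Place k K) (n : ℕ)
    (hn : (n : ℤ) ≤ 2 * (FunFld.genus k K : ℤ) - 2) :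
    2 * FunFld.ell (Finsupp.single P (n : ℤ)) ≤ n + 2 := by
  open Groth.Agent.FunFld in
  have h1 := ell_add_gaps hK P n
  rcases lt_or_ge (gaps P n).card (FunFld.genus k K) with h | h
  · obtain ⟨G, hG, hgap, hc⟩ := exists_gap_gt_of_lt hK P h
    have := sub_one_le_two_mul_gaps hK P hgap
    omega
  · omega

end Groth.Agent.S11046
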