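import Groth.Statements.S11047
import Groth.Agent.FunFld.Extra
import Mathlib.FieldTheory.Galois.Basic
import Mathlib.Algebra.Group.Subgroup.ZPowers.Basic

set_option autoImplicit false
open FunFld

namespace Groth.Agent.S11047

/-- Over an algebraically closed constant field, a `k`-automorphism of a function field of one variable
of genus `g` that fixes more than `2g + 2` places is the identity. -/
theorem result
    (k K : Type*) [Field k] [IsAlgClosed k] [Field K] [Algebra k K]
    (hK : FunFld.IsFunctionField k K) (σ : K ≃ₐ[k] K)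
    (h : ((2 * FunFld.genus k K + 2 : ℕ) : ℕ∞) <
      Set.encard {P : FunFld.Place k K | ∀ x : K, P.1 x < 1 → P.1 (σ x) < 1}) :
    σ = 1 := by
  open Groth.Agent.FunFld WithZero in
  classical
  set g := FunFld.genus k K
  obtain ⟨t, htS, htc⟩ := Set.exists_subset_encard_eq (k := ((2 * g + 3 : ℕ) : ℕ∞))
    (s := {P : FunFld.Place k K | ∀ x : K, P.1 x < 1 → P.1 (σ x) < 1})
    (by have := Order.add_one_le_of_lt h; exact_mod_cast this)
  have htf : t.Finite := Set.finite_of_encard_eq_coe htc
  have hcard : htf.toFinset.card = 2 * g + 3 := by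
    rw [htf.encard_eq_coe_toFinset_card] at htc; exact_mod_cast htc
  obtain ⟨P0, hP0⟩ : htf.toFinset.Nonempty := Finset.card_pos.1 (by omega)
  set s := htf.toFinset.erase P0
  have hs : s.card = 2 * g + 2 := by rw [Finset.card_erase_of_mem hP0]; omega
  have hfix : ∀ Q ∈ htf.toFinset, ∀ x : K, Q.1 (σ x) = Q.1 x := by
    intro Q hQ x
    have hfx := htS (htf.mem_toFinset.1 hQ)
    let Q' : FunFld.Place k K := ⟨Q.1.comap (σ : K →+* K), fun c => by
        rw [Valuation.comap_apply]
        show Q.1 (σ (algebraMap k K c)) ≤ 1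
        rw [σ.commutes]; exact Q.2.1 c,
      fun w => by
        obtain ⟨y, hy⟩ := Q.2.2 w
        exact ⟨σ.symm y, by show Q.1 (σ (σ.symm y)) = w; rw [σ.apply_symm_apply]; exact hy⟩⟩
    have : Q' = Q := eq_of_le fun y (hy : Q.1 (σ y) ≤ 1) => by
      by_contra hlt
      rw [not_le] at hlt
      have h1 := hfx y⁻¹ (by rw [map_inv₀]; exact inv_lt_one_of_one_lt₀ hlt)
      rw [map_inv₀, map_inv₀] at h1
      rcases eq_or_ne (Q.1 (σ y)) 0 with h0 | h0
      · rw [(map_eq_zero _).1 ((map_eq_zero Q.1).1 h0)] at hlt; simp at hlt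
      · exact (inv_lt_one₀ (zero_lt_iff.2 h0)).1 h1 |>.not_ge hy
    exact congrArg (fun P : FunFld.Place k K => P.1 x) this
  have key : ∀ m : ℕ, m ≤ 2 * g + 1 → ∀ x ∈ FunFld.L (Finsupp.single P0 (m : ℤ)), σ x = x := by
    intro m hm x hx
    have hz : σ x - x ∈ FunFld.L (Finsupp.single P0 (m : ℤ) - ∑ Q ∈ s, Finsupp.single Q 1) := by
      intro Q
      have hle : Q.1 (σ x - x) ≤ exp ((Finsupp.single P0 (m : ℤ) : FunFld.Divisor k K) Q) := by
        refine (Valuation.map_sub _ _ _).trans (max_le ?_ (hx Q))
        rcases eq_or_ne Q P0 with rfl | hne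
        · rw [hfix Q hP0]; exact hx Q
        · let Q' : FunFld.Place k K := ⟨Q.1.comap (σ : K →+* K), fun c => by
              rw [Valuation.comap_apply]
              show Q.1 (σ (algebraMap k K c)) ≤ 1
              rw [σ.commutes]; exact Q.2.1 c,
            fun w => by
              obtain ⟨y, hy⟩ := Q.2.2 w
              exact ⟨σ.symm y, by show Q.1 (σ (σ.symm y)) = w; rw [σ.apply_symm_apply]; exact hy⟩⟩
          have hne' : Q' ≠ P0 := fun e => hne (eq_of_le fun y hy => by
            have := congrArg (fun P : FunFld.Place k K => P.1 (σ.symm y)) e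
            change Q.1 (σ (σ.symm y)) = _ at this
            rw [σ.apply_symm_apply, ← hfix P0 hP0, σ.apply_symm_apply] at this
            rwa [this] at hy)
          have := hx Q'
          rw [Finsupp.single_eq_of_ne hne'] at this
          rw [Finsupp.single_eq_of_ne hne]
          exact this
      by_cases hQ : Q ∈ s
      · obtain ⟨hQne, hQt⟩ := Finset.mem_erase.1 hQ
        have hx1 : Q.1 x ≤ 1 := by simpa [Finsupp.single_eq_of_ne hQne] using hx Q
        have hd := deg_eq_one hK Q
        obtain ⟨c, hc⟩ := (finrank_eq_one_iff_of_nonzero' (K := k)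
          (1 : IsLocalRing.ResidueField Q.O) one_ne_zero).1 hd (IsLocalRing.residue Q.O ⟨x, hx1⟩)
        have hlt : Q.1 (x - algebraMap k K c) < 1 := by
          have h0 : IsLocalRing.residue Q.O (⟨x, hx1⟩ - algebraMap k Q.O c) = 0 := by
            rw [map_sub, sub_eq_zero, ← hc]; exact (Algebra.algebraMap_eq_smul_one (A := IsLocalRing.ResidueField Q.O) c).symm
          rw [IsLocalRing.residue_eq_zero_iff, IsLocalRing.mem_maximalIdeal, mem_nonunits_iff] at h0
          exact lt_of_le_of_ne ((⟨x, hx1⟩ : Q.O) - algebraMap k Q.O c).2 fun e => h0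
            ((Valuation.integer.integers Q.1).isUnit_iff_valuation_eq_one.2 e)
        have hlt' : Q.1 (σ x - algebraMap k K c) < 1 := by
          have := hfix Q hQt (x - algebraMap k K c)
          rw [map_sub σ, σ.commutes] at this
          rwa [this]
        have h2 : Q.1 (σ x - x) < 1 := by
          rw [show σ x - x = (σ x - algebraMap k K c) - (x - algebraMap k K c) by ring]
          exact (Valuation.map_sub _ _ _).trans_lt (max_lt hlt' hlt)
        rw [lt_one_iff_le Q] at h2
        refine h2.trans (le_of_eq ?_)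
        rw [Finsupp.sub_apply, Finsupp.single_eq_of_ne hQne, Finsupp.finsetSum_apply,
          Finset.sum_eq_single Q (fun R _ hR => Finsupp.single_eq_of_ne hR.symm) (fun hh => absurd hQ hh),
          Finsupp.single_eq_same, zero_sub]
      · refine hle.trans (le_of_eq ?_)
        rw [Finsupp.sub_apply, Finsupp.finsetSum_apply,
          Finset.sum_eq_zero (fun R hR => Finsupp.single_eq_of_ne (fun e => hQ (by rwa [e]))), sub_zero]
    rw [ell_eq_zero_of_deg_neg hK] at hz
    · exact sub_eq_zero.1 ((Submodule.mem_bot k).1 hz)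
    · have hsum : (∑ Q ∈ s, Finsupp.single Q (1 : ℤ) : FunFld.Divisor k K).deg = (s.card : ℤ) := by
        have : ∀ u : Finset (FunFld.Place k K), (∑ Q ∈ u, Finsupp.single Q (1 : ℤ) : FunFld.Divisor k K).deg = (u.card : ℤ) := by
          intro u
          induction u using Finset.induction_on with
          | empty => simp [deg_zero]
          | insert a u ha ih =>
            rw [Finset.sum_insert ha, deg_add, ih, deg_single, deg_eq_one hK, Finset.card_insert_of_notMem ha]
            push_cast; ring
        exact this s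
      rw [deg_sub, deg_single, deg_eq_one hK, hsum, hs]
      push_cast; omega
  let F : IntermediateField k K := IntermediateField.fixedField (Subgroup.zpowers σ)
  have hmemF : ∀ x, σ x = x → x ∈ F := by
    intro x hx
    rintro ⟨τ, hτ⟩
    obtain ⟨i, rfl⟩ := Subgroup.mem_zpowers_iff.1 hτ
    show (σ ^ i) x = x
    induction i using Int.induction_on with
    | zero => simp
    | succ i ih => rw [zpow_add_one, AlgEquiv.mul_apply, hx, ih (zpow_mem (Subgroup.mem_zpowers σ) _)]
    | pred i ih =>
      rw [zpow_sub_one, AlgEquiv.mul_apply,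
        show σ⁻¹ x = x from (σ.symm_apply_eq).2 hx.symm, ih (zpow_mem (Subgroup.mem_zpowers σ) _)]
  have hdvd : ∀ m : ℕ, 2 * g ≤ m → m ≤ 2 * g + 1 → 1 ≤ m → Module.finrank F K ∣ m := by
    intro m hm hm' hm1
    obtain ⟨x, hx, ho, hx0⟩ : ∃ x : K, x ∈ FunFld.L (Finsupp.single P0 (m : ℤ)) ∧ P0.ord x = -m ∧ x ≠ 0 := by
      have h1 := ell_eq_of_deg_ge hK (D := Finsupp.single P0 (m : ℤ)) (by
        rw [deg_single, deg_eq_one hK]; push_cast; omega)
      have h2 := ell_eq_of_deg_ge hK (D := Finsupp.single P0 ((m - 1 : ℕ) : ℤ)) (by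
        rw [deg_single, deg_eq_one hK]; push_cast; omega)
      rw [deg_single, deg_eq_one hK] at h1 h2
      have hle : ¬ FunFld.L (Finsupp.single P0 (m : ℤ)) ≤ FunFld.L (Finsupp.single P0 ((m - 1 : ℕ) : ℤ)) := by
        intro hle
        have := L_finite hK (Finsupp.single P0 ((m - 1 : ℕ) : ℤ))
        have := Submodule.finrank_mono hle
        simp only [FunFld.ell] at h1 h2
        omega
      obtain ⟨x, hx, hx'⟩ := SetLike.not_le_iff_exists.1 hle
      have hx0 : x ≠ 0 := fun e => hx' (e ▸ zero_mem _)
      refine ⟨x, hx, ?_, hx0⟩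
      obtain ⟨Q, hQ⟩ := not_forall.1 hx'
      have := hx Q
      rw [le_exp_iff Q hx0] at this hQ
      rcases eq_or_ne Q P0 with rfl | hne
      · rw [Finsupp.single_eq_same] at this hQ; omega
      · rw [Finsupp.single_eq_of_ne hne] at this hQ; omega
    have hle : IntermediateField.adjoin k ({x} : Set K) ≤ F :=
      IntermediateField.adjoin_simple_le_iff.2 (hmemF x (key m hm' x hx))
    letI := (IntermediateField.inclusion hle).toRingHom.toAlgebra
    haveI : IsScalarTower (IntermediateField.adjoin k ({x} : Set K)) F K :=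
      IsScalarTower.of_algebraMap_eq fun _ => rfl
    have htr : Transcendental k x := mem_range_of_ord hK (P := P0) (by omega)
    have hp : poles k x = Finsupp.single P0 (m : ℤ) := Finsupp.ext fun Q => by
      rw [poles_apply hK]
      rcases eq_or_ne Q P0 with rfl | hne
      · rw [Finsupp.single_eq_same, ho]; omega
      · have := hx Q
        rw [le_exp_iff Q hx0, Finsupp.single_eq_of_ne hne] at this
        rw [Finsupp.single_eq_of_ne hne]; omega
    have hd := deg_poles hK htr
    rw [hp, deg_single, deg_eq_one hK, Nat.cast_one, mul_one, Nat.cast_inj] at hd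
    exact hd ▸ Dvd.intro_left _ (Module.finrank_mul_finrank _ F K)
  have h1 : Module.finrank F K = 1 := by
    have a := hdvd (2 * g + 1) (by omega) le_rfl (by omega)
    rcases Nat.eq_zero_or_pos g with hg | hg
    · rw [hg] at a; simpa using a
    · have b := hdvd (2 * g) le_rfl (by omega) (by omega)
      have := Nat.dvd_sub a b
      simpa using this
  refine AlgEquiv.ext fun z => ?_
  obtain ⟨c, hc⟩ := (finrank_eq_one_iff_of_nonzero' (K := F) (1 : K) one_ne_zero).1 h1 z
  rw [← hc, Algebra.smul_def, mul_one]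
  exact c.2 ⟨σ, Subgroup.mem_zpowers σ⟩

end Groth.Agent.S11047
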