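import Groth.Statements.S11048
import Groth.Agent.FunFld.Wr.WeierstrassPts

set_option autoImplicit false
open FunFld

namespace Groth.Agent.S11048

/-- Over an algebraically closed constant field of characteristic `0` or greater than `2g - 2`, a
function field of one variable of genus `g > 1` has only finitely many automorphisms over the
constants. -/
theorem result
    (k K : Type*) [Field k] [IsAlgClosed k] [Field K] [Algebra k K]
    (hK : FunFld.IsFunctionField k K) (hg : 1 < FunFld.genus k K)
    (hp : ringChar k = 0 ∨ 2 * FunFld.genus k K - 2 < ringChar k) :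
    Finite (K ≃ₐ[k] K) := by
  classical
  obtain ⟨C, hC⟩ := Groth.Agent.FunFld.exists_canonical hK
  obtain ⟨n, hn⟩ : ∃ n, FunFld.genus k K = n + 1 := ⟨FunFld.genus k K - 1, by omega⟩
  have := Groth.Agent.FunFld.L_finite hK C
  have hfr : Module.finrank k (FunFld.L C) = n + 1 := hn ▸ (Groth.Agent.FunFld.ell_canonical hK hC).1
  let b := Module.finBasisOfFinrankEq k (FunFld.L C) hfr
  let φ : Fin (n + 1) → K := fun i => (b i : K)
  have hφ : LinearIndependent k φ := by
    have h := b.linearIndependent.map' (FunFld.L C).subtype (Submodule.ker_subtype _)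
    exact h
  have hspan : Submodule.span k (Set.range φ) = FunFld.L C := by
    rw [show Set.range φ = (FunFld.L C).subtype '' Set.range b from Set.range_comp _ _, Submodule.span_image,
      b.span_eq, Submodule.map_subtype_top]
  obtain ⟨Φ, hΦ⟩ := Groth.Agent.FunFld.exists_expansion hK
  obtain ⟨P₀⟩ := Groth.Agent.FunFld.exists_place_any hK
  obtain ⟨t, ht⟩ := Groth.Agent.FunFld.exists_val P₀ (-1)
  obtain ⟨H, hH⟩ := Groth.Agent.FunFld.exists_hasse_at hK ht
  obtain ⟨hfin, hmain⟩ := Groth.Agent.FunFld.weierstrass_main hK hC hφ hspan hp hΦ hH hg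
  set S := Groth.Agent.FunFld.wSet k K n
  have : Finite S := hfin.to_subtype
  let G₀ : Set (K ≃ₐ[k] K) := {σ | ∀ P ∈ S, Groth.Agent.FunFld.pullPlace σ P = P}
  have hG₀ : G₀.Finite := by
    rcases hmain with ⟨-, h⟩ | ⟨-, x, hx2, hx⟩
    · exact (Set.finite_singleton AlgEquiv.refl).subset fun σ hσ => h σ hσ
    · set F := IntermediateField.adjoin k ({x} : Set K) with hF
      have : FiniteDimensional F K := Module.finite_of_finrank_pos (by omega)
      have hfix : ∀ σ ∈ G₀, ∀ z ∈ F, σ z = z := by
        intro σ hσ z hz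
        induction hz using IntermediateField.adjoin_induction with
        | mem z hz => rw [Set.mem_singleton_iff.1 hz]; exact (hx σ).1 hσ
        | algebraMap c => simp
        | add a b _ _ ha hb => simp [ha, hb]
        | inv a _ ha => simp [ha]
        | mul a b _ _ ha hb => simp [ha, hb]
      refine Set.finite_coe_iff.1 (Finite.of_injective (β := K →ₐ[F] K)
        (fun σ : G₀ => { (σ : K ≃ₐ[k] K).toAlgHom.toRingHom with commutes' := fun z => hfix σ σ.2 z z.2 }) ?_)
      exact fun σ τ h => Subtype.ext (AlgEquiv.ext fun z => DFunLike.congr_fun h z)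
  have : Finite G₀ := hG₀.to_subtype
  have hmaps : ∀ (σ : K ≃ₐ[k] K) (P : FunFld.Place k K), P ∈ S → Groth.Agent.FunFld.pullPlace σ P ∈ S := by
    rintro σ P ⟨j, h1, h2, h3⟩
    exact ⟨j, h1, h2, fun h => h3 ((Groth.Agent.FunFld.L_pullPlace_eq_iff σ P _ _).1 h)⟩
  let f : (K ≃ₐ[k] K) → (S → S) := fun σ P => ⟨_, hmaps σ P P.2⟩
  have hkey : ∀ σ, σ * (Function.invFun f (f σ))⁻¹ ∈ G₀ := by
    intro σ P hP
    have h1 : Groth.Agent.FunFld.pullPlace σ P = Groth.Agent.FunFld.pullPlace (Function.invFun f (f σ)) P :=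
      congrArg Subtype.val (congrFun (Function.invFun_eq (f := f) ⟨σ, rfl⟩) ⟨P, hP⟩).symm
    rw [Groth.Agent.FunFld.pullPlace_mul, h1, ← Groth.Agent.FunFld.pullPlace_mul, mul_inv_cancel,
      Groth.Agent.FunFld.pullPlace_one]
  refine Finite.of_injective (fun σ => (f σ, (⟨_, hkey σ⟩ : G₀))) fun σ τ h => ?_
  have h2 : σ * (Function.invFun f (f σ))⁻¹ = τ * (Function.invFun f (f τ))⁻¹ :=
    congrArg (fun z => (z.2 : K ≃ₐ[k] K)) h
  rw [show f σ = f τ from congrArg Prod.fst h] at h2
  exact mul_right_cancel h2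

end Groth.Agent.S11048
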