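import Groth.Statements.S11049
import Mathlib

set_option autoImplicit false
open CAlg

namespace Groth.Agent.S11049

/-- For `k`-algebras `S ⊆ R` with `R` an integral domain and a nonzero `x ∈ S`, if `R/S` and `R/Rx` are
finite-dimensional over `k` then `dim_k R/Rx = dim_k S/Sx`. (The published statement allows `x = 0`;
then `R` is a field finite over `k` and the two sides are `dim_k R` and `dim_k S`, which differ for
`S = k ⊊ R`; the published proof multiplies by `x` as an injection, so `x ≠ 0` is assumed here.) -/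
theorem result
    (k R : Type*) [Field k] [CommRing R]
    [IsDomain R] [Algebra k R] (S : Subalgebra k R) (x : S) (hx : (x : R) ≠ 0)
    [Module.Finite k (R ⧸ Subalgebra.toSubmodule S)]
    [Module.Finite k (R ⧸ Ideal.span {(x : R)})] :
    Module.finrank k (R ⧸ Ideal.span {(x : R)}) = Module.finrank k (S ⧸ Ideal.span {x}) := by
  set X : Submodule k R := (Ideal.span {(x : R)}).restrictScalars k with hX
  set Sm : Submodule k R := Subalgebra.toSubmodule S with hSm
  let μ : R →ₗ[k] R := LinearMap.mulLeft k (x : R)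
  set Y : Submodule k R := Sm.map μ with hY
  have hμ : Function.Injective μ := fun a b h ↦ mul_left_cancel₀ hx h
  have hXμ : X = LinearMap.range μ := by
    ext r
    rw [hX, Submodule.restrictScalars_mem, Ideal.mem_span_singleton', LinearMap.mem_range]
    exact ⟨fun ⟨a, ha⟩ ↦ ⟨a, by rw [LinearMap.mulLeft_apply, mul_comm, ha]⟩, fun ⟨a, ha⟩ ↦ ⟨a, by rw [← ha, LinearMap.mulLeft_apply, mul_comm]⟩⟩
  have hYX : Y ≤ X := by rw [hXμ]; exact LinearMap.map_le_range
  have hYS : Y ≤ Sm := by
    rintro _ ⟨s, hs, rfl⟩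
    exact S.mul_mem x.2 hs
  -- dim R/Y in two ways
  have tower : ∀ (U : Submodule k R), Y ≤ U → Module.Finite k (R ⧸ U) → Module.Finite k (U ⧸ Y.comap U.subtype) →
      Module.finrank k (R ⧸ Y) = Module.finrank k (U ⧸ Y.comap U.subtype) + Module.finrank k (R ⧸ U) := by
    intro U hU _ _
    let π : (R ⧸ Y) →ₗ[k] R ⧸ U := Submodule.factor hU
    let ι : (U ⧸ Y.comap U.subtype) →ₗ[k] R ⧸ Y := Submodule.mapQ _ _ U.subtype le_rfl
    have hι : Function.Injective ι := by
      rw [injective_iff_map_eq_zero]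
      intro q hq
      obtain ⟨q, rfl⟩ := Submodule.Quotient.mk_surjective _ q
      rw [Submodule.mapQ_apply, Submodule.Quotient.mk_eq_zero] at hq
      exact (Submodule.Quotient.mk_eq_zero _).2 hq
    have hπ : Function.Surjective π := Submodule.factor_surjective hU
    have hex : LinearMap.ker π = LinearMap.range ι := by
      ext q
      obtain ⟨q, rfl⟩ := Submodule.Quotient.mk_surjective _ q
      constructor
      · intro hq
        exact ⟨Submodule.Quotient.mk ⟨q, (Submodule.Quotient.mk_eq_zero U).1 hq⟩, rfl⟩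
      · rintro ⟨p, hp⟩
        obtain ⟨p, rfl⟩ := Submodule.Quotient.mk_surjective _ p
        rw [← hp]
        exact (Submodule.Quotient.mk_eq_zero U).2 p.2
    have : Module.Finite k (LinearMap.range ι) := inferInstance
    have : Module.Finite k (R ⧸ Y) := by
      have h1 : Module.Finite k ((R ⧸ Y) ⧸ LinearMap.range ι) := by
        rw [← hex]
        exact Module.Finite.equiv (π.quotKerEquivOfSurjective hπ).symm
      exact Module.Finite.of_submodule_quotient (LinearMap.range ι)
    rw [← LinearMap.finrank_range_add_finrank_ker π, hex, LinearMap.finrank_range_of_inj hι,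
      LinearMap.range_eq_top.mpr hπ, finrank_top, add_comm]
  -- X/Y ≅ R/S
  let μ' : R →ₗ[k] X := LinearMap.codRestrict X μ fun r ↦ by rw [hXμ]; exact ⟨r, rfl⟩
  let μq : R →ₗ[k] X ⧸ Y.comap X.subtype := (Y.comap X.subtype).mkQ ∘ₗ μ'
  have hμq : LinearMap.ker μq = Sm := by
    ext r
    rw [LinearMap.mem_ker, LinearMap.comp_apply, Submodule.mkQ_apply, Submodule.Quotient.mk_eq_zero, Submodule.mem_comap]
    refine ⟨fun ⟨s, hs, e⟩ ↦ ?_, fun hr ↦ ⟨r, hr, rfl⟩⟩
    rwa [← hμ e]
  have hμs : Function.Surjective μq := by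
    intro q
    obtain ⟨⟨q, hq⟩, rfl⟩ := Submodule.Quotient.mk_surjective _ q
    rw [hXμ] at hq
    obtain ⟨r, rfl⟩ := hq
    exact ⟨r, rfl⟩
  let e1 : (R ⧸ Sm) ≃ₗ[k] X ⧸ Y.comap X.subtype := (Submodule.quotEquivOfEq _ _ hμq.symm).trans (μq.quotKerEquivOfSurjective hμs)
  -- S/xS
  let σ : S →ₗ[k] Sm ⧸ Y.comap Sm.subtype := (Y.comap Sm.subtype).mkQ ∘ₗ
    LinearMap.codRestrict Sm S.val.toLinearMap fun s ↦ s.2
  have hσ : LinearMap.ker σ = (Ideal.span {x}).restrictScalars k := by
    ext s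
    rw [LinearMap.mem_ker, LinearMap.comp_apply, Submodule.mkQ_apply, Submodule.Quotient.mk_eq_zero, Submodule.mem_comap,
      Submodule.restrictScalars_mem, Ideal.mem_span_singleton']
    refine ⟨fun ⟨r, hr, e⟩ ↦ ⟨⟨r, hr⟩, Subtype.ext ?_⟩, fun ⟨a, ha⟩ ↦ ⟨a, a.2, ?_⟩⟩
    · show r * (x : R) = s
      rw [mul_comm]; exact e
    · show (x : R) * a = s
      rw [mul_comm, ← ha]; rfl
  have hσs : Function.Surjective σ := by
    intro q
    obtain ⟨⟨q, hq⟩, rfl⟩ := Submodule.Quotient.mk_surjective _ q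
    exact ⟨⟨q, hq⟩, rfl⟩
  let e2 : (S ⧸ Ideal.span {x}) ≃ₗ[k] Sm ⧸ Y.comap Sm.subtype :=
    ((Submodule.Quotient.restrictScalarsEquiv k _).symm.trans (Submodule.quotEquivOfEq _ _ hσ.symm)).trans (σ.quotKerEquivOfSurjective hσs)
  let e3 : (R ⧸ Ideal.span {(x : R)}) ≃ₗ[k] R ⧸ X := (Submodule.Quotient.restrictScalarsEquiv k _).symm
  have fX : Module.Finite k (R ⧸ X) := Module.Finite.equiv e3
  have fS : Module.Finite k (R ⧸ Sm) := ‹Module.Finite k (R ⧸ Subalgebra.toSubmodule S)›
  have t1 := tower X hYX fX (Module.Finite.equiv e1)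
  rw [← e1.finrank_eq, ← e3.finrank_eq] at t1
  by_cases fY : Module.Finite k (Sm ⧸ Y.comap Sm.subtype)
  · have t2 := tower Sm hYS fS fY
    rw [← e2.finrank_eq] at t2
    omega
  · exfalso
    apply fY
    have : Module.Finite k (R ⧸ Y) := by
      let ι : (X ⧸ Y.comap X.subtype) →ₗ[k] R ⧸ Y := Submodule.mapQ _ _ X.subtype le_rfl
      have : Module.Finite k (X ⧸ Y.comap X.subtype) := Module.Finite.equiv e1
      have h1 : Module.Finite k ((R ⧸ Y) ⧸ LinearMap.range ι) := by
        refine Module.Finite.of_surjective (Submodule.liftQ X ((LinearMap.range ι).mkQ ∘ₗ Y.mkQ) ?_) ?_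
        · intro r hr
          exact (Submodule.Quotient.mk_eq_zero _).2 ⟨Submodule.Quotient.mk ⟨r, hr⟩, rfl⟩
        · intro q
          obtain ⟨q, rfl⟩ := Submodule.Quotient.mk_surjective _ q
          obtain ⟨r, rfl⟩ := Submodule.Quotient.mk_surjective _ q
          exact ⟨Submodule.Quotient.mk r, rfl⟩
      exact Module.Finite.of_submodule_quotient (LinearMap.range ι)
    let ι : (Sm ⧸ Y.comap Sm.subtype) →ₗ[k] R ⧸ Y := Submodule.mapQ _ _ Sm.subtype le_rfl
    refine Module.Finite.of_injective ι ?_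
    rw [injective_iff_map_eq_zero]
    intro q hq
    obtain ⟨q, rfl⟩ := Submodule.Quotient.mk_surjective _ q
    rw [Submodule.mapQ_apply, Submodule.Quotient.mk_eq_zero] at hq
    exact (Submodule.Quotient.mk_eq_zero _).2 hq

end Groth.Agent.S11049
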