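import Groth.Statements.S11053
import Groth.Agent.FunFld.Wr.StrongFixed

set_option autoImplicit false
open FunFld

namespace Groth.Agent.S11053

/-- Over an algebraically closed constant field, let `τ` be a `k`-embedding of the function field `K` of
genus `g` into itself, of degree `deg τ = [K : τ(K)]`. A place is a strong fixed point of `τ` when
`τ` maps its maximal ideal into the square of that ideal. For every integer `n > g` there are at
most `1 + deg τ + (n + deg τ / n) g + 2g²(g-1)/n` strong fixed points. -/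
theorem result
    (k K : Type*) [Field k] [IsAlgClosed k] [Field K] [Algebra k K]
    (hK : FunFld.IsFunctionField k K) (τ : K →ₐ[k] K) (n : ℕ)
    (hn : FunFld.genus k K < n) :
    {P : FunFld.Place k K | ∀ x : K, P.1 x < 1 → P.1 (τ x) ≤ WithZero.exp (-2)}.Finite ∧
    (Set.ncard {P : FunFld.Place k K | ∀ x : K, P.1 x < 1 → P.1 (τ x) ≤ WithZero.exp (-2)} : ℝ) ≤
      1 + Module.finrank τ.fieldRange K +
        (n + (Module.finrank τ.fieldRange K : ℝ) / n) * FunFld.genus k K +
        2 * (FunFld.genus k K : ℝ) ^ 2 * (FunFld.genus k K - 1) / n := by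
  open Groth.Agent.FunFld in
  obtain ⟨h1, h2⟩ := strong_fixed_bound hK τ hn
  refine ⟨h1, ?_⟩
  have hn' : (0 : ℝ) < n := by exact_mod_cast (Nat.zero_le _).trans_lt hn
  have h3 := (Int.cast_le (R := ℝ)).2 h2
  push_cast at h3
  rw [← sub_nonneg]
  set N : ℝ := (Set.ncard {P : FunFld.Place k K | ∀ x : K, P.1 x < 1 → P.1 (τ x) ≤ WithZero.exp (-2)} : ℝ)
  set d : ℝ := (Module.finrank τ.fieldRange K : ℝ)
  set g : ℝ := (FunFld.genus k K : ℝ)
  have e : 1 + d + (n + d / n) * g + 2 * g ^ 2 * (g - 1) / n - N =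
      ((n + n * d + (n * n + d) * g + 2 * g ^ 2 * (g - 1)) - n * N) / n := by field_simp
  rw [e]
  refine div_nonneg (sub_nonneg.2 ?_) hn'.le
  exact h3

end Groth.Agent.S11053
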