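import Groth.Statements.S11057
import Groth.Agent.FunFld.CurveCrit

set_option autoImplicit false
open FunFld

namespace Groth.Agent.S11057

/-- Over an algebraically closed constant field, if `K` has degree at least `3` over every subfield
`k(x)` generated by a nonconstant element, then the canonical map (given by a basis of `L(D)` for a
canonical divisor `D`) is an embedding, i.e. nonsingular at every place. Here a projective map is
nonsingular at a place when its local ring there (quotients of polynomials over `k` in the ratios
`φᵢ/φⱼ`, `φⱼ` of least order at the place, with denominator a unit there) is the whole valuation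
ring. -/
theorem result
    (k K : Type*) [Field k] [IsAlgClosed k] [Field K] [Algebra k K]
    (hK : FunFld.IsFunctionField k K)
    (h2 : ∀ x : K, Transcendental k x →
      2 < Module.finrank (IntermediateField.adjoin k ({x} : Set K)) K)
    (D : FunFld.Divisor k K) (hD : FunFld.IsCanonical k K D) {n : ℕ} (φ : Fin (n + 1) → K)
    (hφ : LinearIndependent k φ) (hspan : Submodule.span k (Set.range φ) = FunFld.L D)
    (P : FunFld.Place k K) : FunFld.IsNonsingularAt φ P := by
  have h0 := fun i => hφ.ne_zero i
  have hd := fun R => Groth.Agent.FunFld.deg_eq_one hK (R : FunFld.Place k K)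
  obtain ⟨hgC, hdC⟩ := Groth.Agent.FunFld.ell_canonical hK hD
  -- effective divisors of degree at most two have only constant functions
  have hone : ∀ E : FunFld.Divisor k K, 0 ≤ E → E.deg ≤ 2 → FunFld.ell E = 1 := by
    intro E hE hdeg
    have h1 := Groth.Agent.FunFld.ell_mono hK hE
    rw [Groth.Agent.FunFld.ell_zero hK] at h1
    refine le_antisymm ?_ h1
    have hle : FunFld.L E ≤ FunFld.L (0 : FunFld.Divisor k K) := by
      intro x hx
      by_contra hx0
      rw [Groth.Agent.FunFld.L_zero hK] at hx0
      have htr : Transcendental k x := Groth.Agent.FunFld.transcendental_of_not_mem hK fun ⟨c, hc⟩ =>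
        hx0 (Submodule.mem_one.2 ⟨c, hc⟩)
      have hxE : Groth.Agent.FunFld.poles k x ≤ E := fun R => by
        rw [Groth.Agent.FunFld.poles_apply hK]
        refine max_le ?_ (hE R)
        have := hx R
        rw [Groth.Agent.FunFld.le_exp_iff R (x := x) (fun e => htr (e ▸ isAlgebraic_zero))] at this
        omega
      have h3 := Groth.Agent.FunFld.deg_nonneg (sub_nonneg.2 hxE)
      rw [Groth.Agent.FunFld.deg_sub, Groth.Agent.FunFld.deg_poles hK htr] at h3
      have := h2 x htr
      omega
    have := Groth.Agent.FunFld.L_finite hK (0 : FunFld.Divisor k K)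
    have h4 := Submodule.finrank_mono hle
    have h5 := Groth.Agent.FunFld.ell_zero hK
    rw [FunFld.ell] at h5 ⊢
    omega
  refine Groth.Agent.FunFld.nonsingular_of_ell hK φ h0 hspan (fun R => ?_) P fun Q => ?_
  · have r1 := Groth.Agent.FunFld.riemann_roch hK hD (Finsupp.single R 1)
    rw [hone _ (Finsupp.single_nonneg.2 zero_le_one) (by rw [Groth.Agent.FunFld.deg_single, hd]; norm_num),
      Groth.Agent.FunFld.deg_single, hd] at r1
    omega
  · have r1 := Groth.Agent.FunFld.riemann_roch hK hD (Finsupp.single P 1)
    rw [hone _ (Finsupp.single_nonneg.2 zero_le_one) (by rw [Groth.Agent.FunFld.deg_single, hd]; norm_num),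
      Groth.Agent.FunFld.deg_single, hd] at r1
    have r2 := Groth.Agent.FunFld.riemann_roch hK hD (Finsupp.single P 1 + Finsupp.single Q 1)
    rw [hone _ (add_nonneg (Finsupp.single_nonneg.2 zero_le_one) (Finsupp.single_nonneg.2 zero_le_one))
        (by rw [Groth.Agent.FunFld.deg_add, Groth.Agent.FunFld.deg_single, Groth.Agent.FunFld.deg_single, hd, hd]; norm_num),
      Groth.Agent.FunFld.deg_add, Groth.Agent.FunFld.deg_single, Groth.Agent.FunFld.deg_single, hd, hd, ← sub_sub] at r2
    omega

end Groth.Agent.S11057
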