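import Groth.Statements.S11058
import Groth.Agent.FunFld.CurveCrit

set_option autoImplicit false
open FunFld

namespace Groth.Agent.S11058

/-- Over an algebraically closed constant field, a birational projective map `φ = (φ₀, …, φₙ)` (the
ratios `φᵢ/φ₀` generate `K` over `k`) is nonsingular at all but finitely many places. Here a
projective map is nonsingular at a place when its local ring there (quotients of polynomials over
`k` in the ratios `φᵢ/φⱼ`, `φⱼ` of least order at the place, with denominator a unit there) is the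
whole valuation ring. -/
theorem result
    (k K : Type*) [Field k] [IsAlgClosed k] [Field K] [Algebra k K]
    (hK : FunFld.IsFunctionField k K) {n : ℕ} (hn : 1 ≤ n) (φ : Fin (n + 1) → K)
    (hφ : LinearIndependent k φ)
    (hbir : IntermediateField.adjoin k (Set.range fun i => φ i / φ 0) = ⊤) :
    {P : FunFld.Place k K | ¬ FunFld.IsNonsingularAt φ P}.Finite := by
  classical
  have h0 := fun i => hφ.ne_zero i
  obtain ⟨i₁, hi₁⟩ : ∃ i : Fin (n + 1), φ i / φ 0 ∉ Set.range (algebraMap k K) := by
    by_contra hcon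
    push Not at hcon
    have hbot : IntermediateField.adjoin k (Set.range fun i => φ i / φ 0) ≤ ⊥ := by
      rw [IntermediateField.adjoin_le_iff]
      rintro _ ⟨i, rfl⟩
      exact IntermediateField.mem_bot.2 (hcon i)
    rw [hbir] at hbot
    obtain ⟨x, hx, -⟩ := hK.1
    obtain ⟨c, rfl⟩ := IntermediateField.mem_bot.1
      (hbot (show x ∈ (⊤ : IntermediateField k K) from IntermediateField.mem_top))
    exact hx (isAlgebraic_algebraMap c)
  set t := φ i₁ / φ 0 with htdef
  have ht : Transcendental k t := Groth.Agent.FunFld.transcendental_of_not_mem hK hi₁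
  obtain ⟨N, hN⟩ := Groth.Agent.FunFld.L_le_of_stable hK ht
  have := Groth.Agent.FunFld.L_finite hK (N • Groth.Agent.FunFld.poles k t)
  obtain ⟨F, hF⟩ := (Submodule.fg_iff_finiteDimensional (FunFld.L (N • Groth.Agent.FunFld.poles k t))).2 this
  have hfrac : ∀ f : K, ∃ u ∈ Algebra.adjoin k (Set.range fun i => φ i / φ 0),
      ∃ w ∈ Algebra.adjoin k (Set.range fun i => φ i / φ 0), f * w = u ∧ w ≠ 0 := by
    intro f
    have hf : f ∈ IntermediateField.adjoin k (Set.range fun i => φ i / φ 0) := by
      rw [hbir]; exact IntermediateField.mem_top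
    obtain ⟨u, hu, w, hw, rfl⟩ := IntermediateField.mem_adjoin_iff_div.1 hf
    rcases eq_or_ne w 0 with rfl | hw0
    · exact ⟨0, zero_mem _, 1, one_mem _, by simp, one_ne_zero⟩
    · exact ⟨u, hu, w, hw, div_mul_cancel₀ _ hw0, hw0⟩
  choose u hu w hw he hw0 using hfrac
  refine ((Set.finite_iUnion fun i : Fin (n + 1) => Groth.Agent.FunFld.finite_support hK (φ i / φ 0)).union
    (F.finite_toSet.biUnion fun f _ => Groth.Agent.FunFld.finite_support hK (w f))).subset ?_
  intro P hP
  by_contra hcon
  simp only [Set.mem_union, Set.mem_iUnion, Function.mem_support, not_or, not_exists, not_not] at hcon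
  refine hP ?_
  have hne : ∀ i, φ i / φ 0 ≠ 0 := fun i => div_ne_zero (h0 i) (h0 0)
  have hr : ∀ i, P.1 (φ i / φ 0) = 1 := fun i => by
    rw [Groth.Agent.FunFld.val_eq_exp P (hne i), hcon.1 i, neg_zero, WithZero.exp_zero]
  have hj : ∀ i, P.1 (φ i) ≤ P.1 (φ 0) := fun i => by
    have := hr i
    rw [map_div₀, div_eq_one_iff_eq (P.1.ne_zero_iff.2 (h0 0))] at this
    exact this.le
  intro z hz
  rw [Groth.Agent.FunFld.inLocRing_iff (h0 0) hj]
  set A := Groth.Agent.FunFld.locRing (fun i => φ i / φ 0) P
  have hFA : ∀ f ∈ F, f ∈ A := fun f hf => by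
    refine ⟨u f, hu f, w f, hw f, ?_, he f⟩
    rw [Groth.Agent.FunFld.val_eq_exp P (hw0 f), hcon.2 f hf, neg_zero, WithZero.exp_zero]
  have hLA : ∀ m : ℕ, ∀ x ∈ FunFld.L (m • Groth.Agent.FunFld.poles k t), x ∈ A := by
    refine fun m x hx => hN A.toSubmodule ?_
      (fun y hy => show t * y ∈ A from mul_mem (show t ∈ A from Groth.Agent.FunFld.coord_mem_locRing i₁) hy) m hx
    rw [← hF, Submodule.span_le]
    exact hFA
  obtain ⟨m, s, hs, hsP, hzs⟩ := Groth.Agent.FunFld.exists_denominator hK ht (hr i₁).le hz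
  have := mul_mem (hLA m _ hzs) (Groth.Agent.FunFld.inv_mem_locRing (hLA m s hs) hsP)
  rwa [mul_assoc, mul_inv_cancel₀ (fun e => by simp [e] at hsP), mul_one] at this

end Groth.Agent.S11058
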