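import Groth.Statements.S11060
import Groth.Agent.FunFld.PlaneGenus

set_option autoImplicit false
open FunFld

namespace Groth.Agent.S11060

/-- Over an algebraically closed constant field, a function field of genus `g` with a nonsingular plane
model has `g` a triangular number. Here a projective map is nonsingular at a place when its local
ring there (quotients of polynomials over `k` in the ratios `φᵢ/φⱼ`, `φⱼ` of least order at the
place, with denominator a unit there) is the whole valuation ring. -/
theorem result
    (k K : Type*) [Field k] [IsAlgClosed k] [Field K] [Algebra k K]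
    (hK : FunFld.IsFunctionField k K)
    (h : ∃ x y : K, IntermediateField.adjoin k ({x, y} : Set K) = ⊤ ∧
      ∀ P : FunFld.Place k K, FunFld.IsNonsingularAt ![(1 : K), x, y] P) :
    ∃ m : ℕ, 2 * FunFld.genus k K = m * (m + 1) := by
  obtain ⟨x, y, hxy, hns⟩ := h
  have e := (Groth.Agent.FunFld.genus_eq_iff_nonsingular hK hxy).2 hns
  set d := (FunFld.mapDiv k ![(1 : K), x, y]).deg with hd
  have hd0 : 0 ≤ d := Groth.Agent.FunFld.deg_nonneg (fun P => Groth.Agent.FunFld.plane_mapDiv_nonneg hK P)
  have hd1 : d ≠ 0 := by
    intro h0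
    obtain ⟨f, hf, hfxy⟩ := Groth.Agent.FunFld.exists_relation hK hxy
    obtain ⟨c, x', -, -, htr, hE, hfr, -⟩ := Groth.Agent.FunFld.plane_data hK hxy f hf hfxy
    have := Groth.Agent.FunFld.finite_adjoin hK htr
    have hpos : 0 < Module.finrank (IntermediateField.adjoin k ({x'} : Set K)) K := Module.finrank_pos
    rw [hd, hE, Groth.Agent.FunFld.deg_poles hK htr] at h0
    omega
  rcases eq_or_ne d 1 with h1 | h1
  · exact ⟨0, by rw [h1] at e; omega⟩
  · obtain ⟨m, hm⟩ := Int.eq_ofNat_of_zero_le (show 0 ≤ d - 2 by omega)
    refine ⟨m, ?_⟩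
    have : (2 * FunFld.genus k K : ℤ) = (m : ℤ) * (m + 1) := by
      rw [e, show d - 1 = (m : ℤ) + 1 by omega, hm]; ring
    exact_mod_cast this

end Groth.Agent.S11060
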