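import Groth.Statements.S11064
import Groth.Agent.FunFld.CurveCrit

set_option autoImplicit false
open FunFld

namespace Groth.Agent.S11064

/-- Over an algebraically closed constant field, a projective map `φ = (φ₀, …, φₙ)` that is nonsingular
at some place is birational, i.e. the ratios `φᵢ/φ₀` generate `K` over `k`. Here the local ring of a
projective map at a place consists of the quotients of polynomials over `k` in the ratios `φᵢ/φⱼ`,
`φⱼ` of least order at the place, with denominator a unit there; the map is nonsingular at the place
when this ring is the whole valuation ring. -/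
theorem result
    (k K : Type*) [Field k] [IsAlgClosed k] [Field K] [Algebra k K]
    (hK : FunFld.IsFunctionField k K) {n : ℕ} (φ : Fin (n + 1) → K)
    (h0 : φ 0 ≠ 0) (P : FunFld.Place k K) (h : FunFld.IsNonsingularAt φ P) :
    IntermediateField.adjoin k (Set.range fun i => φ i / φ 0) = ⊤ := by
  rw [eq_top_iff]
  intro z _
  set F := IntermediateField.adjoin k (Set.range fun i => φ i / φ 0)
  have key : ∀ y : K, P.1 y ≤ 1 → y ∈ F := by
    intro y hy
    obtain ⟨j, hj0, -, u, hu, w, hw, hw1, e⟩ := h y hy
    have hR : Algebra.adjoin k (Set.range fun i => φ i / φ j) ≤ F.toSubalgebra := by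
      rw [Algebra.adjoin_le_iff]
      rintro _ ⟨i, rfl⟩
      show φ i / φ j ∈ F
      rw [← div_div_div_cancel_right₀ h0]
      exact div_mem (IntermediateField.subset_adjoin _ _ ⟨i, rfl⟩)
        (IntermediateField.subset_adjoin _ _ ⟨j, rfl⟩)
    have hw0 : w ≠ 0 := fun e => by simp [e] at hw1
    rw [show y = u / w by rw [← e, mul_div_assoc, div_self hw0, mul_one]]
    exact div_mem (hR hu) (hR hw)
  rcases le_or_gt (P.1 z) 1 with hz | hz
  · exact key z hz
  · rw [← inv_inv z]
    refine inv_mem (key _ ?_)
    rw [map_inv₀]
    exact inv_le_one_of_one_le₀ hz.le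

end Groth.Agent.S11064
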