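import Groth.Statements.S11066
import Groth.Agent.FunFld.CurveCrit

set_option autoImplicit false
open FunFld

namespace Groth.Agent.S11066

/-- Over an algebraically closed constant field, for an effective projective map `φ` normalized at the
place `P` (`1` in the span of the entries, all entries integral at `P`), the local ring of `φ` at
`P` has an element of order one at `P` (a local parameter) exactly when the span of the entries has
one. The local ring consists of the quotients of polynomials over `k` in the ratios `φᵢ/φⱼ`, `φⱼ` of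
least order at `P`, with denominator a unit at `P`. -/
theorem result
    (k K : Type*) [Field k] [IsAlgClosed k] [Field K] [Algebra k K]
    (hK : FunFld.IsFunctionField k K) {n : ℕ} (φ : Fin (n + 1) → K)
    (P : FunFld.Place k K) (heff : (1 : K) ∈ Submodule.span k (Set.range φ))
    (hnorm : ∀ i, P.1 (φ i) ≤ 1) :
    (∃ t : K, FunFld.InLocRing φ P t ∧ P.1 t = WithZero.exp (-1)) ↔
      ∃ t ∈ Submodule.span k (Set.range φ), P.1 t = WithZero.exp (-1) := by
  obtain ⟨j, hj⟩ := Finite.exists_max fun i => P.1 (φ i)
  have hle : ∀ w ∈ Submodule.span k (Set.range φ), P.1 w ≤ P.1 (φ j) := by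
    intro w hw
    induction hw using Submodule.span_induction with
    | mem x hx => obtain ⟨i, rfl⟩ := hx; exact hj i
    | zero => simp
    | add a b _ _ ha hb => exact (P.1.map_add a b).trans (max_le ha hb)
    | smul c a _ ha => exact (Groth.Agent.FunFld.val_smul_le P c a).trans ha
  have hjv : P.1 (φ j) = 1 := le_antisymm (hnorm j) ((map_one P.1).symm.le.trans (hle 1 heff))
  have hj0 : φ j ≠ 0 := fun e => by simp [e] at hjv
  constructor
  · rintro ⟨t, ht, htv⟩
    obtain ⟨i, c, hc⟩ := Groth.Agent.FunFld.exists_sub_val hK hj0 hj ((Groth.Agent.FunFld.inLocRing_iff hj0 hj).1 ht) htv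
    refine ⟨φ i - c • φ j, sub_mem (Submodule.subset_span ⟨i, rfl⟩)
      (Submodule.smul_mem _ _ (Submodule.subset_span ⟨j, rfl⟩)), ?_⟩
    rw [show φ i - c • φ j = (φ i / φ j - algebraMap k K c) * φ j by
      rw [sub_mul, div_mul_cancel₀ _ hj0, Algebra.smul_def], map_mul, hc, hjv, mul_one]
  · rintro ⟨t, ht, htv⟩
    refine ⟨t, (Groth.Agent.FunFld.inLocRing_iff hj0 hj).2 ?_, htv⟩
    have h1 := Groth.Agent.FunFld.mem_locRing_of_adjoin (P := P) (Groth.Agent.FunFld.div_mem_adjoin (j := j) ht)
    have h2 := Groth.Agent.FunFld.inv_mem_locRing (Groth.Agent.FunFld.mem_locRing_of_adjoin (P := P) (Groth.Agent.FunFld.div_mem_adjoin (j := j) heff))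
      (by rw [map_div₀, map_one, hjv, div_one])
    have := mul_mem h1 h2
    rwa [one_div, inv_inv, div_mul_cancel₀ _ hj0] at this

end Groth.Agent.S11066
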