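import Groth.Statements.S11069
import Groth.Agent.FunFld.Plane
import Groth.Agent.FunFld.Ext.Fundamental

set_option autoImplicit false
open FunFld

namespace Groth.Agent.S11069

/-- Over an algebraically closed constant field, for function fields `K ⊇ K'` and a projective map `φ`
with entries in `K'`, the divisor of `φ` as a map of `K` is the conorm `N*_{K/K'}` of its divisor as
a map of `K'`. -/
theorem result
    (k K' K : Type*) [Field k] [IsAlgClosed k] [Field K'] [Field K] [Algebra k K'] [Algebra k K]
    [Algebra K' K] [IsScalarTower k K' K] [FiniteDimensional K' K]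
    (hK : FunFld.IsFunctionField k K) (hK' : FunFld.IsFunctionField k K') {n : ℕ}
    (φ : Fin (n + 1) → K') (hφ : LinearIndependent k φ) :
    FunFld.mapDiv k (fun i => algebraMap K' K (φ i)) = FunFld.conorm K (FunFld.mapDiv k φ) := by
  apply Finsupp.ext
  intro Q
  obtain ⟨P, hP⟩ := Groth.Agent.FunFld.exists_below (K := K') Q
  have he := Groth.Agent.FunFld.isOverWith_of_isOver hP
  rw [Groth.Agent.FunFld.conorm_apply hK' _ he, Groth.Agent.FunFld.mapDiv_apply hK,
    Groth.Agent.FunFld.mapDiv_apply hK', mul_neg, neg_inj]
  simp only [Groth.Agent.FunFld.IsOverWith.ord he]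
  obtain ⟨j, -, hj⟩ := Finset.exists_mem_eq_inf' Finset.univ_nonempty (fun i => P.ord (φ i))
  refine le_antisymm ((Finset.inf'_le _ (Finset.mem_univ j)).trans_eq ?_)
    (Finset.le_inf' _ _ fun i hi => mul_le_mul_of_nonneg_left (Finset.inf'_le _ hi) (by positivity))
  rw [hj]

end Groth.Agent.S11069
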