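import Groth.Statements.S11075
import Groth.Agent.FunFld.CurveCrit

set_option autoImplicit false
open FunFld

namespace Groth.Agent.S11075

/-- Over an algebraically closed constant field, let `φ = (φ₀, …, φₙ)`, `n ≥ 1`, be a projective map
onto the curve `V`. (a) A homogeneous `g` not vanishing identically on `V` vanishes at the image
point of only finitely many places (so a closed set not containing `V` meets `V` in a finite set);
(b) each fibre of `φ` is finite. Here `g` vanishes at `φ(P)` when `g(φ₀/φⱼ, …, φₙ/φⱼ)` lies in the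
maximal ideal of `P` for an entry `φⱼ` of least order at `P`. Two places have the same image point
when some entry `φⱼ` has least order at both and each `φᵢ/φⱼ` is congruent to one constant modulo
both maximal ideals. -/
theorem result (k K : Type*) [Field k] [IsAlgClosed k] [Field K] [Algebra k K]
    (hK : FunFld.IsFunctionField k K) {n : ℕ} (hn : 1 ≤ n)
    (φ : Fin (n + 1) → K) (hφ : LinearIndependent k φ) :
    (∀ g : MvPolynomial (Fin (n + 1)) k, g.IsHomogeneous g.totalDegree →
      MvPolynomial.aeval φ g ≠ 0 →
        {P : FunFld.Place k K | ∃ j, φ j ≠ 0 ∧ (∀ i, P.1 (φ i) ≤ P.1 (φ j)) ∧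
          P.1 (MvPolynomial.aeval (fun i => φ i / φ j) g) < 1}.Finite) ∧
    ∀ P : FunFld.Place k K, {Q : FunFld.Place k K | FunFld.SameImage φ P Q}.Finite := by
  classical
  have h0 := fun i => hφ.ne_zero i
  refine ⟨fun g hg hG => ?_, fun P => Groth.Agent.FunFld.sameImage_finite hK φ hn hφ P⟩
  refine ((Groth.Agent.FunFld.finite_support hK (MvPolynomial.aeval φ g)).union
    (FunFld.mapDiv k φ).support.finite_toSet).subset ?_
  rintro P ⟨j, hj0, hj, hlt⟩
  by_contra hcon
  simp only [Set.mem_union, Function.mem_support, Finset.mem_coe, Finsupp.mem_support_iff,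
    not_or, not_not] at hcon
  have hjv := Groth.Agent.FunFld.val_of_least hK φ h0 P hj
  rw [hcon.2, WithZero.exp_zero] at hjv
  have e : MvPolynomial.aeval φ g = MvPolynomial.aeval (fun i => φ i / φ j) g * φ j ^ g.totalDegree := by
    rw [MvPolynomial.aeval_def, MvPolynomial.aeval_def, MvPolynomial.eval₂_eq, MvPolynomial.eval₂_eq,
      Finset.sum_mul]
    refine Finset.sum_congr rfl fun m hm => ?_
    have hdm : ∑ i ∈ m.support, m i = g.totalDegree := by
      have := hg.degree_eq_sum_deg_support hm
      simpa [Finsupp.degree] using this.symm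
    rw [mul_assoc, ← hdm, ← Finset.prod_pow_eq_pow_sum, ← Finset.prod_mul_distrib]
    congr 1
    exact Finset.prod_congr rfl fun i _ => by rw [← mul_pow, div_mul_cancel₀ _ hj0]
  have := congrArg P.1 e
  rw [map_mul, map_pow, hjv, one_pow, mul_one, Groth.Agent.FunFld.val_eq_exp P hG, hcon.1, neg_zero,
    WithZero.exp_zero] at this
  rw [← this] at hlt
  exact lt_irrefl _ hlt

end Groth.Agent.S11075
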