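import Groth.Statements.S11076
import Groth.Agent.FunFld.CurveCrit

set_option autoImplicit false
open FunFld

namespace Groth.Agent.S11076

/-- Over an algebraically closed constant field, a projective curve (given by a birational projective
map `φ = (φ₀, …, φₙ)`, `n ≥ 1`) is nonsingular at the point `a = φ(P)` if and only if some
hyperplane `∑ cᵢ Xᵢ` has intersection multiplicity `1` with it at `a`: the sum over the places `Q`
of the fibre of `a` of `[φ](Q) + ord_Q(∑ cᵢ φᵢ)` is `1`. Nonsingular at `P` means that the local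
ring of `φ` at `P` (quotients of polynomials over `k` in the `φᵢ/φⱼ`, `φⱼ` of least order at `P`,
denominator a unit at `P`) is the whole valuation ring. Two places have the same image point when
some entry `φⱼ` has least order at both and each `φᵢ/φⱼ` is congruent to one constant modulo both
maximal ideals. -/
theorem result (k K : Type*) [Field k] [IsAlgClosed k] [Field K] [Algebra k K]
    (hK : FunFld.IsFunctionField k K) {n : ℕ} (hn : 1 ≤ n)
    (φ : Fin (n + 1) → K) (hφ : LinearIndependent k φ)
    (hbir : IntermediateField.adjoin k (Set.range fun i => φ i / φ 0) = ⊤)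
    (P : FunFld.Place k K) :
    FunFld.IsNonsingularAt φ P ↔ ∃ c : Fin (n + 1) → k, ∑ i, c i • φ i ≠ 0 ∧
      ∑ᶠ Q ∈ {Q : FunFld.Place k K | FunFld.SameImage φ P Q},
        ((FunFld.mapDiv k φ) Q + Q.ord (∑ i, c i • φ i)) = 1 := by
  classical
  have h0 := fun i => hφ.ne_zero i
  have hfin := Groth.Agent.FunFld.sameImage_finite hK φ hn hφ P
  have hexc : ∀ (Q : FunFld.Place k K) (w : K), w ∈ Submodule.span k (Set.range φ) → w ≠ 0 →
      0 ≤ FunFld.mapDiv k φ Q + Q.ord w := fun Q w hw hw0 => by
    have := Groth.Agent.FunFld.span_val_le hK φ hw Q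
    rw [Groth.Agent.FunFld.le_exp_iff Q hw0] at this
    omega
  constructor
  · intro h
    obtain ⟨w, hw, hwv⟩ := Groth.Agent.FunFld.exists_span_ord hK φ h0 P h
    obtain ⟨c, rfl⟩ := (Submodule.mem_span_range_iff_exists_fun k).1 hw
    have hw0 := Groth.Agent.FunFld.ne_zero_of_val P hwv
    refine ⟨c, hw0, ?_⟩
    have hset : {Q : FunFld.Place k K | FunFld.SameImage φ P Q} = {P} := by
      ext Q
      refine ⟨fun hQ => Groth.Agent.FunFld.eq_of_sameImage hK φ h hQ, ?_⟩
      rintro rfl
      obtain ⟨j, -, hj⟩ := Groth.Agent.FunFld.exists_least hK φ h0 Q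
      refine ⟨j, h0 j, hj, hj, fun i => ?_⟩
      obtain ⟨c, hc⟩ := Groth.Agent.FunFld.exists_const hK Q (Groth.Agent.FunFld.ratio_val_le (h0 j) hj i)
      exact ⟨c, hc, hc⟩
    rw [hset, finsum_mem_singleton, Groth.Agent.FunFld.ord_eq_of_val P hwv]
    omega
  · rintro ⟨c, hw0, hsum⟩
    set w := ∑ i, c i • φ i with hwdef
    have hw : w ∈ Submodule.span k (Set.range φ) :=
      (Submodule.mem_span_range_iff_exists_fun k).2 ⟨c, rfl⟩
    rw [finsum_mem_eq_finite_toFinset_sum _ hfin] at hsum
    obtain ⟨j, -, hj⟩ := Groth.Agent.FunFld.exists_least hK φ h0 P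
    have hPmem : FunFld.SameImage φ P P := ⟨j, h0 j, hj, hj, fun i => by
      obtain ⟨c, hc⟩ := Groth.Agent.FunFld.exists_const hK P (Groth.Agent.FunFld.ratio_val_le (h0 j) hj i)
      exact ⟨c, hc, hc⟩⟩
    -- vanishing at one place of the fibre is vanishing at all of them
    have hall : ∀ Q, FunFld.SameImage φ P Q →
        (0 < FunFld.mapDiv k φ Q + Q.ord w ↔ 0 < FunFld.mapDiv k φ P + P.ord w) := by
      rintro Q ⟨j, hj0, hj, hjQ, hc⟩
      have h1 := (Groth.Agent.FunFld.locRing_val_of_sameImage hK hc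
        (Groth.Agent.FunFld.mem_locRing_of_adjoin (P := P) (Groth.Agent.FunFld.div_mem_adjoin (j := j) hw))).2
      rw [map_div₀, map_div₀, Groth.Agent.FunFld.val_of_least hK φ h0 Q hjQ, Groth.Agent.FunFld.val_of_least hK φ h0 P hj,
        Groth.Agent.FunFld.val_eq_exp Q hw0, Groth.Agent.FunFld.val_eq_exp P hw0, ← WithZero.exp_sub, ← WithZero.exp_sub,
        ← WithZero.exp_zero, WithZero.exp_lt_exp, WithZero.exp_lt_exp] at h1
      constructor
      · intro h; have := h1.1 (by omega); omega
      · intro h; have := h1.2 (by omega); omega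
    have hpos : 0 < FunFld.mapDiv k φ P + P.ord w := by
      by_contra hcon
      have hzero : ∀ Q ∈ hfin.toFinset, FunFld.mapDiv k φ Q + Q.ord w = 0 := fun Q hQ => by
        have hQ' : FunFld.SameImage φ P Q := hfin.mem_toFinset.1 hQ
        have h1 := hexc Q w hw hw0
        by_contra hne
        exact hcon ((hall Q hQ').1 (by omega))
      rw [Finset.sum_eq_zero hzero] at hsum
      omega
    have honly : ∀ Q, FunFld.SameImage φ P Q → Q = P := fun Q hQ => by
      by_contra hne
      have h1 := (hall Q hQ).2 hpos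
      have h2 : (FunFld.mapDiv k φ P + P.ord w) + (FunFld.mapDiv k φ Q + Q.ord w) ≤ 1 := by
        rw [← hsum]
        exact Finset.add_le_sum (f := fun R => FunFld.mapDiv k φ R + R.ord w)
          (fun R _ => hexc R w hw hw0) (hfin.mem_toFinset.2 hPmem) (hfin.mem_toFinset.2 hQ) (Ne.symm hne)
      omega
    have hP1 : FunFld.mapDiv k φ P + P.ord w = 1 := by
      rw [← hsum]
      refine (Finset.sum_eq_single_of_mem (f := fun R : FunFld.Place k K => FunFld.mapDiv k φ R + R.ord w) P (hfin.mem_toFinset.2 hPmem) fun Q hQ hne => ?_).symm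
      exact absurd (honly Q (hfin.mem_toFinset.1 hQ)) hne
    obtain ⟨j, -, hj⟩ := Groth.Agent.FunFld.exists_least hK φ h0 P
    refine Groth.Agent.FunFld.nonsingular_of_locRing hK (h0 j) hj (g := w / φ j)
      (Groth.Agent.FunFld.mem_locRing_of_adjoin (Groth.Agent.FunFld.div_mem_adjoin hw)) ?_
      fun Q hQ => honly Q (Groth.Agent.FunFld.sameImage_of_locRing hK (h0 j) hj hQ)
    rw [map_div₀, Groth.Agent.FunFld.val_of_least hK φ h0 P hj, Groth.Agent.FunFld.val_eq_exp P hw0, ← WithZero.exp_sub]
    congr 1; omega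

end Groth.Agent.S11076
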