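import Groth.Statements.S11079
import Mathlib.LinearAlgebra.LinearIndependent.Lemmas
import Mathlib.LinearAlgebra.Dimension.Constructions
import Mathlib.LinearAlgebra.Matrix.NonsingularInverse
import Mathlib.LinearAlgebra.Dual.Lemmas
import Mathlib.FieldTheory.Fixed

set_option autoImplicit false
universe u
open CAlg

namespace Groth.Agent.S11079

/-- Let L/K be a finite Galois extension of fields, n a natural number, and B a map from the Galois
group of L over K to the invertible n × n matrices over L such that B(σ) · σ(B(τ)) = B(στ) for all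
σ, τ, where σ acts on matrices entrywise and στ is the automorphism applying τ first. Then there is
an invertible matrix A over L with B(σ) = A⁻¹ · σ(A) for every σ; that is, every 1-cocycle of the
Galois group with values in GL_n(L) is a coboundary. -/
theorem result (K L : Type u) [Field K] [Field L]
    [Algebra K L] [FiniteDimensional K L] [IsGalois K L] (n : ℕ)
    (B : (L ≃ₐ[K] L) → GL (Fin n) L)
    (hB : ∀ σ τ : L ≃ₐ[K] L,
      (B σ : Matrix (Fin n) (Fin n) L) * (B τ : Matrix (Fin n) (Fin n) L).map σ = (B (σ * τ) : Matrix (Fin n) (Fin n) L)) :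
    ∃ A : GL (Fin n) L, ∀ σ : L ≃ₐ[K] L,
      (B σ : Matrix (Fin n) (Fin n) L) = ((A⁻¹ : GL (Fin n) L) : Matrix (Fin n) (Fin n) L) * (A : Matrix (Fin n) (Fin n) L).map σ := by
  classical
  let f : (Fin n → L) → (Fin n → L) := fun v =>
    ∑ τ : L ≃ₐ[K] L, (B τ : Matrix (Fin n) (Fin n) L).mulVec (fun i => τ (v i))
  have htop : Submodule.span L (Set.range f) = ⊤ := by
    by_contra hne
    obtain ⟨w, hw0, hw⟩ := Submodule.exists_le_ker_of_lt_top _ (lt_top_iff_ne_top.mpr hne)
    apply hw0
    let c : (L ≃ₐ[K] L) → Fin n → L := fun τ j => w (fun i => (B τ : Matrix (Fin n) (Fin n) L) i j)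
    have hc : ∀ j, ∀ τ, c τ j = 0 := by
      intro j
      have hli := linearIndependent_monoidHom L L
      have hinj : Function.Injective (fun τ : L ≃ₐ[K] L => ((τ : L →+* L) : L →* L)) := fun a b hab =>
        AlgEquiv.ext fun x => DFunLike.congr_fun hab x
      refine Fintype.linearIndependent_iff.mp (hli.comp _ hinj) (fun τ => c τ j) ?_
      funext a
      rw [Finset.sum_apply]
      have h0 : w (f (Pi.single j a)) = 0 :=
        LinearMap.mem_ker.mp (hw (Submodule.subset_span ⟨Pi.single j a, rfl⟩))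
      rw [map_sum] at h0
      refine Eq.trans (Finset.sum_congr rfl fun τ _ => ?_) h0
      have : (B τ : Matrix (Fin n) (Fin n) L).mulVec (fun i => τ ((Pi.single j a : Fin n → L) i)) =
          τ a • (fun i => (B τ : Matrix (Fin n) (Fin n) L) i j) := by
        funext i
        simp [Matrix.mulVec, dotProduct, Pi.single_apply, apply_ite τ, mul_comm]
      rw [this, map_smul]
      exact mul_comm _ _
    obtain ⟨u, hu⟩ : ∃ u : Matrix (Fin n) (Fin n) L, (B 1 : Matrix (Fin n) (Fin n) L) * u = 1 :=
      ⟨_, (B 1).mul_inv⟩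
    refine LinearMap.ext fun v => ?_
    have hv : v = (B 1 : Matrix (Fin n) (Fin n) L).mulVec (u.mulVec v) := by
      rw [Matrix.mulVec_mulVec, hu, Matrix.one_mulVec]
    have hv' : v = ∑ j, u.mulVec v j • (fun i => (B 1 : Matrix (Fin n) (Fin n) L) i j) := by
      funext i
      rw [Finset.sum_apply]
      conv_lhs => rw [hv]
      simp [Matrix.mulVec, dotProduct, mul_comm]
    rw [hv', map_sum, LinearMap.zero_apply]
    refine Finset.sum_eq_zero fun j _ => ?_
    rw [map_smul, show w (fun i => (B 1 : Matrix (Fin n) (Fin n) L) i j) = 0 from hc j 1, smul_zero]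
  obtain ⟨s, hsub, hspan, hli⟩ := exists_linearIndependent L (Set.range f)
  haveI : Fintype s := (hli.setFinite).fintype
  have hcard : Fintype.card s = n := by
    have h1 := finrank_span_eq_card hli
    rw [Subtype.range_coe, hspan, htop, finrank_top, Module.finrank_fin_fun] at h1
    exact h1.symm
  let e : Fin n ≃ s := (Fintype.equivFinOfCardEq hcard).symm
  choose v hv using fun j => hsub (e j).2
  let X : Matrix (Fin n) (Fin n) L := Matrix.of fun i j => v j i
  let P : Matrix (Fin n) (Fin n) L := ∑ τ : L ≃ₐ[K] L, (B τ : Matrix (Fin n) (Fin n) L) * X.map τ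
  have hcol : ∀ j, P.col j = ((e j : s) : Fin n → L) := by
    intro j
    rw [← hv j]
    funext i
    simp [P, X, f, Matrix.sum_apply, Matrix.mul_apply, Matrix.mulVec, dotProduct, Matrix.col]
  have hPu : IsUnit P := by
    rw [← Matrix.linearIndependent_cols_iff_isUnit]
    have h1 := hli.comp e e.injective
    rw [show P.col = fun j => ((e j : s) : Fin n → L) from funext hcol]
    exact h1
  have hσP : ∀ σ : L ≃ₐ[K] L, (B σ : Matrix (Fin n) (Fin n) L) * P.map σ = P := by
    intro σ
    have h1 : P.map σ = σ.toAlgHom.toRingHom.mapMatrix P := rfl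
    rw [h1, map_sum, Matrix.mul_sum]
    refine Fintype.sum_equiv (Equiv.mulLeft σ) _ _ fun τ => ?_
    rw [map_mul, ← mul_assoc]
    show (B σ : Matrix (Fin n) (Fin n) L) * (B τ : Matrix (Fin n) (Fin n) L).map σ * (X.map τ).map σ = _
    rw [hB, Matrix.map_map]
    rfl
  refine ⟨hPu.unit⁻¹, fun σ => ?_⟩
  rw [inv_inv]
  have h1 : P.map σ * ((hPu.unit⁻¹ : GL (Fin n) L) : Matrix (Fin n) (Fin n) L).map σ = 1 := by
    show σ.toAlgHom.toRingHom.mapMatrix P * σ.toAlgHom.toRingHom.mapMatrix _ = 1
    rw [← map_mul, IsUnit.mul_val_inv, map_one]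
  calc (B σ : Matrix (Fin n) (Fin n) L)
      = (B σ : Matrix (Fin n) (Fin n) L) * (P.map σ * ((hPu.unit⁻¹ : GL (Fin n) L) : Matrix (Fin n) (Fin n) L).map σ) := by
        rw [h1, mul_one]
    _ = _ := by rw [← mul_assoc, hσP]; rfl

end Groth.Agent.S11079
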