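import Groth.Statements.S11080
import Mathlib.RingTheory.DedekindDomain.AdicValuation

set_option autoImplicit false
universe u
open CAlg

namespace Groth.Agent.S11080

/-- Valuation rings over a curve: let A be a Dedekind domain with fraction field K. A valuation subring
O of K contains A and is different from K if and only if O is the valuation ring of the v-adic
valuation of K at some nonzero prime v of A (equivalently O is the local ring of A at a maximal
ideal, a discrete valuation ring). (The published statement takes A to be the coordinate ring of a
nonsingular affine curve over an algebraically closed field, which is such a Dedekind domain; its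
proof uses only that the local rings of A at nonzero primes are discrete valuation rings and that
nonzero primes are maximal.) -/
theorem result (A K : Type u) [CommRing A]
    [IsDedekindDomain A] [Field K] [Algebra A K] [IsFractionRing A K] (O : ValuationSubring K) :
    ((algebraMap A K).range ≤ O.toSubring ∧ O ≠ ⊤) ↔
      ∃ v : IsDedekindDomain.HeightOneSpectrum A, O = (v.valuation K).valuationSubring := by
  open IsDedekindDomain in
  constructor
  · rintro ⟨hle, hne⟩
    let φ : A →+* O := (algebraMap A K).codRestrict O.toSubring fun a => hle ⟨a, rfl⟩
    let P : Ideal A := (IsLocalRing.maximalIdeal O).comap φ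
    have hunit : ∀ s : A, s ∉ P → (algebraMap A K s)⁻¹ ∈ O := by
      intro s hs
      obtain ⟨w, hw⟩ := IsLocalRing.notMem_maximalIdeal.1 hs
      have h1 : (w : O).1 = algebraMap A K s := by rw [hw]; rfl
      have h2 : (↑(w⁻¹) : O).1 * algebraMap A K s = 1 := by
        rw [← h1]
        exact congrArg Subtype.val w.inv_mul
      rw [← eq_inv_of_mul_eq_one_left h2]
      exact (↑(w⁻¹) : O).2
    have hP : P ≠ ⊥ := by
      intro hbot
      apply hne
      rw [eq_top_iff]
      intro z _
      obtain ⟨a, s, hs, rfl⟩ := IsFractionRing.div_surjective A z
      rw [div_eq_mul_inv]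
      refine mul_mem (hle ⟨a, rfl⟩) (hunit s ?_)
      rw [hbot, Ideal.mem_bot]
      exact nonZeroDivisors.ne_zero hs
    let v : IsDedekindDomain.HeightOneSpectrum A := ⟨P, Ideal.IsPrime.comap φ, hP⟩
    refine ⟨v, ?_⟩
    rw [← IsDedekindDomain.HeightOneSpectrum.valuationSubringAtPrime_eq_valuationSubring]
    refine Eq.symm (ValuationSubring.eq_of_le_of_ne_top _ ?_ hne)
    rintro _ ⟨a, s, hs, rfl⟩
    exact mul_mem (hle ⟨a, rfl⟩) (hunit s hs)
  · rintro ⟨v, rfl⟩
    refine ⟨?_, ?_⟩
    · rintro _ ⟨a, rfl⟩
      exact v.valuation_le_one a
    · rw [ne_eq, Valuation.valuationSubring_eq_top_iff, not_not]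
      infer_instance

end Groth.Agent.S11080
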