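import Groth.Statements.S11081
import Groth.Agent.Easy3.TraceLen
import Groth.Agent.HurwitzAlg.Length
import Mathlib.RingTheory.Trace.Quotient
import Mathlib.RingTheory.RamificationInertia.Ramification
import Mathlib.RingTheory.DedekindDomain.Ideal.Lemmas
import Mathlib.RingTheory.Trace.Basic

set_option autoImplicit false
universe u
attribute [local instance] FractionRing.liftAlgebra
open CAlg

namespace Groth.Agent.S11081

/-- Let A be a Dedekind domain, B a Dedekind domain which is a finitely generated torsion-free A-algebra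
whose fraction field is separable over that of A (B is the integral closure of A in a finite
separable extension), p a nonzero prime ideal of A and y an element of B. Then the class modulo p of
the trace of y from B to A is the sum over the primes Q of B lying over p of e(Q|p) times the trace,
from B/Q to A/p, of the class of y modulo Q. -/
theorem result (A B : Type u) [CommRing A] [CommRing B]
    [IsDedekindDomain A] [IsDedekindDomain B] [Algebra A B] [Module.Finite A B] [Module.IsTorsionFree A B]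
    [Algebra.IsSeparable (FractionRing A) (FractionRing B)]
    (p : Ideal A) [p.IsMaximal] (hp : p ≠ ⊥) (y : B) :
    Ideal.Quotient.mk p (Algebra.intTrace A B y) =
      ∑ᶠ Q : p.primesOver B,
        Q.1.ramificationIdx A •
          Algebra.trace (A ⧸ p) (B ⧸ Q.1) (Ideal.Quotient.mk Q.1 y) := by
  classical
  letI : Field (A ⧸ p) := Ideal.Quotient.field p
  have hpB : p.map (algebraMap A B) ≠ ⊥ := (Ideal.map_eq_bot_iff_of_injective
    (FaithfulSMul.algebraMap_injective A B)).not.mpr hp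
  rw [← Algebra.trace_quotient_eq_of_isDedekindDomain]
  let s : Finset (Ideal B) := (UniqueFactorizationMonoid.normalizedFactors (p.map (algebraMap A B))).toFinset
  have hs : ∀ Q : Ideal B, Q ∈ s ↔ Q ∈ p.primesOver B := fun Q => by
    rw [Multiset.mem_toFinset, Ideal.mem_normalizedFactors_iff hpB]
    constructor
    · rintro ⟨hQ, hle⟩
      refine ⟨hQ, ⟨?_⟩⟩
      exact (inferInstance : p.IsMaximal).eq_of_le (Ideal.comap_ne_top _ hQ.ne_top)
        (Ideal.map_le_iff_le_comap.mp hle)
    · rintro ⟨hQ, hlo⟩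
      exact ⟨hQ, Ideal.map_le_iff_le_comap.mpr hlo.over.le⟩
  have he : ∀ Q ∈ s, Q.ramificationIdx A =
      (UniqueFactorizationMonoid.normalizedFactors (p.map (algebraMap A B))).count Q := fun Q hQ => by
    haveI := ((hs Q).mp hQ).2
    exact Ideal.IsDedekindDomain.ramificationIdx_eq_normalizedFactors_count p Q hpB
  have hprime : ∀ Q ∈ s, Prime Q := fun Q hQ =>
    UniqueFactorizationMonoid.prime_of_normalized_factor Q (Multiset.mem_toFinset.mp hQ)
  have hprod : ∏ Q ∈ s, Q ^ Q.ramificationIdx A = p.map (algebraMap A B) := by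
    rw [Finset.prod_congr rfl fun Q hQ => by rw [he Q hQ],
      ← Finset.prod_multiset_count, Ideal.prod_normalizedFactors_eq_self hpB]
  let E := IsDedekindDomain.quotientEquivPiOfFinsetProdEq (p.map (algebraMap A B)) (fun Q => Q)
    (fun Q => Q.ramificationIdx A) hprime (fun _ _ _ _ h => h) hprod
  have hle : ∀ Q ∈ s, p.map (algebraMap A B) ≤ Q ^ Q.ramificationIdx A := fun Q hQ =>
    Ideal.dvd_iff_le.mp (hprod ▸ Finset.dvd_prod_of_mem _ hQ)
  letI alg : ∀ i : s, Algebra (A ⧸ p) (B ⧸ (i : Ideal B) ^ (i : Ideal B).ramificationIdx A) := fun i =>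
    Ideal.Quotient.algebraQuotientOfLEComap (Ideal.map_le_iff_le_comap.mp (hle i i.2))
  haveI : ∀ i : s, IsScalarTower A (A ⧸ p) (B ⧸ (i : Ideal B) ^ (i : Ideal B).ramificationIdx A) :=
    fun i => .of_algebraMap_eq' rfl
  haveI hfin : ∀ i : s, Module.Finite (A ⧸ p) (B ⧸ (i : Ideal B) ^ (i : Ideal B).ramificationIdx A) :=
    fun i => .of_restrictScalars_finite A _ _
  let Ea : (B ⧸ p.map (algebraMap A B)) ≃ₐ[A ⧸ p]
      ∀ i : s, B ⧸ (i : Ideal B) ^ (i : Ideal B).ramificationIdx A :=
    { __ := E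
      commutes' := Quotient.ind fun c => funext fun i => rfl }
  rw [← Algebra.trace_eq_of_algEquiv Ea]
  -- the trace on a finite product
  have hpi : ∀ z : ∀ i : s, B ⧸ (i : Ideal B) ^ (i : Ideal B).ramificationIdx A,
      Algebra.trace (A ⧸ p) (∀ i : s, B ⧸ (i : Ideal B) ^ (i : Ideal B).ramificationIdx A) z =
        ∑ i : s, Algebra.trace (A ⧸ p) (B ⧸ (i : Ideal B) ^ (i : Ideal B).ramificationIdx A) (z i) := by
    intro z
    have hid : Algebra.lmul (A ⧸ p) _ z = ∑ i : s,
        LinearMap.single (A ⧸ p) (fun i : s => B ⧸ (i : Ideal B) ^ (i : Ideal B).ramificationIdx A) i ∘ₗ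
          (Algebra.lmul (A ⧸ p) _ (z i) ∘ₗ LinearMap.proj i) := by
      refine LinearMap.ext fun w => funext fun j => ?_
      simp [Finset.sum_apply, Pi.single_apply]
    rw [Algebra.trace_apply, hid, map_sum]
    refine Finset.sum_congr rfl fun i _ => ?_
    rw [LinearMap.trace_comp_comm', Algebra.trace_apply, LinearMap.comp_assoc]
    congr 1
    refine LinearMap.ext fun w => ?_
    simp
  rw [hpi]
  haveI : Fintype (p.primesOver B) := Fintype.ofFinset s hs
  rw [finsum_eq_sum_of_fintype]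
  refine Fintype.sum_equiv (Equiv.subtypeEquivRight hs) _ _ fun i => ?_
  obtain ⟨Q, hQs⟩ := i
  have hQp : Q.IsPrime := ((hs Q).mp hQs).1
  haveI hQl : Q.LiesOver p := ((hs Q).mp hQs).2
  have hQ0 : Q ≠ ⊥ := (hprime Q hQs).ne_zero
  haveI hQm : Q.IsMaximal := hQp.isMaximal hQ0
  set e := Q.ramificationIdx A with hedef
  have he0 : 0 < e := by
    rw [hedef, he Q hQs]; exact Multiset.count_pos.mpr (Multiset.mem_toFinset.mp hQs)
  have hPe : Q ^ e ≤ Q := Ideal.pow_le_self he0.ne'
  letI : Algebra (A ⧸ p) (B ⧸ Q ^ e) := alg ⟨Q, hQs⟩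
  haveI : Module.Finite (A ⧸ p) (B ⧸ Q ^ e) := hfin ⟨Q, hQs⟩
  show Algebra.trace (A ⧸ p) (B ⧸ Q ^ e) (Ideal.Quotient.mk (Q ^ e) y) =
    e • Algebra.trace (A ⧸ p) (B ⧸ Q) (Ideal.Quotient.mk Q y)
  haveI : Nontrivial (B ⧸ Q ^ e) := Ideal.Quotient.nontrivial_iff.2 fun h =>
    hQm.ne_top (top_le_iff.1 (h ▸ hPe))
  have huniq : ∀ m : Ideal (B ⧸ Q ^ e), m.IsMaximal → m = Q.map (Ideal.Quotient.mk _) := by
    intro m hm
    haveI : (m.comap (Ideal.Quotient.mk (Q ^ e))).IsMaximal :=
      Ideal.comap_isMaximal_of_surjective _ Ideal.Quotient.mk_surjective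
    have h1 : Q ^ e ≤ m.comap (Ideal.Quotient.mk _) := fun x hx => by
      rw [Ideal.mem_comap, Ideal.Quotient.eq_zero_iff_mem.2 hx]
      exact zero_mem _
    exact (Ideal.map_comap_of_surjective _ Ideal.Quotient.mk_surjective m).symm.trans
      (congrArg (Ideal.map (Ideal.Quotient.mk (Q ^ e)))
        (hQm.eq_of_le (Ideal.IsMaximal.ne_top inferInstance)
          ((Ideal.IsMaximal.isPrime inferInstance).le_of_pow_le h1)).symm)
  haveI : IsLocalRing (B ⧸ Q ^ e) := IsLocalRing.of_unique_max_ideal <| by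
    obtain ⟨m, hm⟩ := Ideal.exists_maximal (B ⧸ Q ^ e)
    exact ⟨m, hm, fun m' hm' => (huniq m' hm').trans (huniq m hm).symm⟩
  have hmax : IsLocalRing.maximalIdeal (B ⧸ Q ^ e) = Q.map (Ideal.Quotient.mk _) :=
    huniq _ (IsLocalRing.maximalIdeal.isMaximal _)
  have hB : ¬ IsField B := fun hF => hQ0 (by
    letI := hF.toField
    exact (Ideal.eq_bot_or_top Q).resolve_right hQm.ne_top)
  have hlen : (Module.length (B ⧸ Q ^ e) (B ⧸ Q ^ e)).toNat = e := by
    rw [← Module.length_eq_of_surjective (S := B) (M := B ⧸ Q ^ e) Ideal.Quotient.mk_surjective,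
      Groth.Agent.HurwitzAlg.length_quot hB (Q ^ e) (pow_ne_zero _ hQ0),
      UniqueFactorizationMonoid.normalizedFactors_pow,
      UniqueFactorizationMonoid.normalizedFactors_irreducible (hprime Q hQs).irreducible]
    simp
  let φ : IsLocalRing.ResidueField (B ⧸ Q ^ e) ≃+* B ⧸ Q :=
    (Ideal.quotEquivOfEq hmax).trans ((DoubleQuot.quotQuotEquivQuotSup (Q ^ e) Q).trans
      (Ideal.quotEquivOfEq (sup_eq_right.2 hPe)))
  let φa : IsLocalRing.ResidueField (B ⧸ Q ^ e) ≃ₐ[A ⧸ p] B ⧸ Q :=
    { __ := φ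
      commutes' := Quotient.ind fun c => rfl }
  have h1 := Groth.Agent.Easy3.TraceLen.trace_lsmul_eq (k := A ⧸ p) (A := B ⧸ Q ^ e)
    (Ideal.Quotient.mk (Q ^ e) y) _ (B ⧸ Q ^ e) rfl
  rw [hlen, ← Algebra.trace_eq_of_algEquiv φa] at h1
  rw [Algebra.trace_apply]
  exact h1

end Groth.Agent.S11081
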