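import Groth.Statements.S11082
import Mathlib.RingTheory.Etale.Kaehler
import Mathlib.RingTheory.Etale.Field
import Mathlib.RingTheory.Kaehler.Polynomial
import Mathlib.RingTheory.AlgebraicIndependent.Adjoin
import Mathlib.RingTheory.Unramified.Field
import Mathlib.FieldTheory.IntermediateField.Adjoin.Algebra
import Mathlib.LinearAlgebra.TensorProduct.Basis

set_option autoImplicit false
universe u v
open CAlg

namespace Groth.Agent.S11082

/-- Let k be an algebraically closed field, F a field extension of k which is finitely generated as a
field, and x a transcendence basis of F over k indexed by a type ι. Then F is a separable algebraic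
extension of the subfield k(x) generated by the family (x is a separating transcendence basis) if
and only if the differentials d(x i) form a basis of the F-vector space of Kähler differentials of F
over k, i.e. they are linearly independent over F and span it. -/
theorem result (k : Type u) (F : Type v)
    [Field k] [IsAlgClosed k] [Field F] [Algebra k F] (hF : (⊤ : IntermediateField k F).FG)
    {ι : Type v} (x : ι → F) (hx : IsTranscendenceBasis k x) :
    Algebra.IsSeparable (IntermediateField.adjoin k (Set.range x)) F ↔
      (LinearIndependent F (fun i : ι => KaehlerDifferential.D k F (x i)) ∧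
        Submodule.span F (Set.range fun i : ι => KaehlerDifferential.D k F (x i)) = ⊤) := by
  classical
  haveI : Algebra.EssFiniteType k F := IntermediateField.fg_top_iff.mp hF
  let P := MvPolynomial ι k
  have hind : AlgebraicIndependent k x := hx.1
  let K := FractionRing P
  letI : Algebra P F := (MvPolynomial.aeval x).toRingHom.toAlgebra
  haveI : IsScalarTower k P F := IsScalarTower.of_algebraMap_eq fun c =>
    ((MvPolynomial.aeval x).commutes c).symm
  have hinj : Function.Injective (algebraMap P F) := algebraicIndependent_iff_injective_aeval.mp hind
  haveI : FaithfulSMul P F := (faithfulSMul_iff_algebraMap_injective P F).mpr hinj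
  letI : Algebra K F := FractionRing.liftAlgebra P F
  haveI : IsScalarTower P K F := FractionRing.isScalarTower_liftAlgebra P F
  haveI : IsScalarTower k K F := IsScalarTower.of_algebraMap_eq fun c => by
    rw [IsScalarTower.algebraMap_apply k P F, IsScalarTower.algebraMap_apply P K F,
      ← IsScalarTower.algebraMap_apply k P K]
  let e : K ≃ₐ[k] IntermediateField.adjoin k (Set.range x) := hind.aevalEquivField
  have hcomp : RingHom.comp (algebraMap (IntermediateField.adjoin k (Set.range x)) F) e.toRingEquiv.toRingHom =
      RingHom.comp (RingEquiv.refl F).toRingHom (algebraMap K F) := RingHom.ext fun _ => rfl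
  constructor
  · intro hsep
    haveI : Algebra.IsSeparable K F := by
      refine Algebra.IsSeparable.of_equiv_equiv e.symm.toRingEquiv (RingEquiv.refl F) ?_
      ext a
      obtain ⟨b, rfl⟩ := e.surjective a
      simp only [RingHom.coe_comp, Function.comp_apply, RingEquiv.coe_toRingHom, AlgEquiv.coe_ringEquiv,
        AlgEquiv.symm_apply_apply, RingEquiv.refl_apply]
      rfl
    haveI : Algebra.FormallyEtale P K := Algebra.FormallyEtale.of_isLocalization (nonZeroDivisors P)
    haveI : Algebra.FormallyEtale K F := Algebra.FormallyEtale.of_isSeparable K F
    haveI : Algebra.FormallyEtale P F := Algebra.FormallyEtale.comp P K F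
    let b := ((KaehlerDifferential.mvPolynomialBasis k ι).baseChange F).map
      (KaehlerDifferential.tensorKaehlerEquivOfFormallyEtale k P F)
    have hb : (fun i : ι => KaehlerDifferential.D k F (x i)) = ⇑b := by
      funext i
      simp only [b, Module.Basis.map_apply, Module.Basis.baseChange_apply, KaehlerDifferential.mvPolynomialBasis_apply,
        KaehlerDifferential.tensorKaehlerEquivOfFormallyEtale_apply, KaehlerDifferential.mapBaseChange_tmul,
        one_smul, KaehlerDifferential.map_D]
      refine Eq.trans ?_ (KaehlerDifferential.mapBaseChange_tmul k P F 1 (KaehlerDifferential.D k P (MvPolynomial.X i))).symm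
      rw [one_smul, KaehlerDifferential.map_D]
      congr 1
      exact (MvPolynomial.aeval_X (R := k) x i).symm
    rw [hb]
    exact ⟨b.linearIndependent, b.span_eq⟩
  · rintro ⟨-, hspan⟩
    let L := IntermediateField.adjoin k (Set.range x)
    haveI : Algebra.EssFiniteType L F := Algebra.EssFiniteType.of_comp k L F
    haveI : Subsingleton (KaehlerDifferential L F) := by
      refine subsingleton_of_forall_eq 0 fun w => ?_
      obtain ⟨v, rfl⟩ := KaehlerDifferential.map_surjective k L F w
      have hv : v ∈ Submodule.span F (Set.range fun i : ι => KaehlerDifferential.D k F (x i)) := hspan ▸ Submodule.mem_top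
      induction hv using Submodule.span_induction with
      | mem v hv =>
        obtain ⟨i, rfl⟩ := hv
        rw [KaehlerDifferential.map_D, Algebra.algebraMap_self_apply,
          show x i = algebraMap L F ⟨x i, IntermediateField.subset_adjoin k _ ⟨i, rfl⟩⟩ from rfl,
          Derivation.map_algebraMap]
      | zero => simp
      | add _ _ _ _ h1 h2 => rw [map_add, h1, h2, add_zero]
      | smul c _ _ h1 => rw [map_smul, h1, smul_zero]
    haveI : Algebra.FormallyUnramified L F := ⟨inferInstance⟩
    exact Algebra.FormallyUnramified.isSeparable L F

end Groth.Agent.S11082
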