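import Groth.Statements.S11083
import Mathlib.FieldTheory.SeparablyGenerated
import Mathlib.RingTheory.Etale.Kaehler
import Mathlib.RingTheory.Etale.Field
import Mathlib.RingTheory.Kaehler.Polynomial
import Mathlib.RingTheory.AlgebraicIndependent.Adjoin
import Mathlib.FieldTheory.Perfect
import Mathlib.FieldTheory.IntermediateField.Adjoin.Algebra
import Mathlib.LinearAlgebra.Dimension.StrongRankCondition

set_option autoImplicit false
universe u v
open CAlg

namespace Groth.Agent.S11083

/-- Let k be an algebraically closed field, F a field extension of k which is finitely generated as a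
field, and x a transcendence basis of F over k indexed by Fin d. Then the F-vector space of Kähler
differentials of F over k has F-rank exactly d: it is finite-dimensional of dimension the
transcendence degree. -/
theorem result (k : Type u) (F : Type v)
    [Field k] [IsAlgClosed k] [Field F] [Algebra k F] (hF : (⊤ : IntermediateField k F).FG)
    (d : ℕ) (x : Fin d → F) (hx : IsTranscendenceBasis k x) :
    Module.rank F (Ω[F⁄k]) = d := by
  classical
  haveI : Algebra.EssFiniteType k F := IntermediateField.fg_top_iff.mp hF
  obtain ⟨s, hs, hsep⟩ := exists_isTranscendenceBasis_and_isSeparable_of_perfectField k F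
  let ι := (↥(s : Set F))
  let P := MvPolynomial ι k
  have hind : AlgebraicIndependent k ((↑) : ι → F) := hs.1
  let K := FractionRing P
  letI : Algebra P F := (MvPolynomial.aeval ((↑) : ι → F)).toRingHom.toAlgebra
  haveI : IsScalarTower k P F := IsScalarTower.of_algebraMap_eq fun c =>
    ((MvPolynomial.aeval ((↑) : ι → F)).commutes c).symm
  have hinj : Function.Injective (algebraMap P F) := algebraicIndependent_iff_injective_aeval.mp hind
  haveI : FaithfulSMul P F := (faithfulSMul_iff_algebraMap_injective P F).mpr hinj
  letI : Algebra K F := FractionRing.liftAlgebra P F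
  haveI : IsScalarTower P K F := FractionRing.isScalarTower_liftAlgebra P F
  haveI : IsScalarTower k K F := IsScalarTower.of_algebraMap_eq fun c => by
    rw [IsScalarTower.algebraMap_apply k P F, IsScalarTower.algebraMap_apply P K F,
      ← IsScalarTower.algebraMap_apply k P K]
  have hrange : Set.range ((↑) : ι → F) = (s : Set F) := Subtype.range_coe
  let e : K ≃ₐ[k] IntermediateField.adjoin k (s : Set F) :=
    hind.aevalEquivField.trans (IntermediateField.equivOfEq (by rw [hrange]))
  haveI : Algebra.IsSeparable K F := by
    refine Algebra.IsSeparable.of_equiv_equiv e.symm.toRingEquiv (RingEquiv.refl F) ?_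
    ext a
    obtain ⟨b, rfl⟩ := e.surjective a
    simp only [RingHom.coe_comp, Function.comp_apply, RingEquiv.coe_toRingHom, AlgEquiv.coe_ringEquiv,
      AlgEquiv.symm_apply_apply, RingEquiv.refl_apply, AlgEquiv.toRingEquiv_eq_coe]
    rfl
  haveI : Algebra.FormallyEtale P K := Algebra.FormallyEtale.of_isLocalization (nonZeroDivisors P)
  haveI : Algebra.FormallyEtale K F := Algebra.FormallyEtale.of_isSeparable K F
  haveI : Algebra.FormallyEtale P F := Algebra.FormallyEtale.comp P K F
  let b := ((KaehlerDifferential.mvPolynomialBasis k ι).baseChange F).map
    (KaehlerDifferential.tensorKaehlerEquivOfFormallyEtale k P F)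
  have h2 : Fintype.card ι = d := by
    have := hs.lift_cardinalMk_eq hx
    have h3 : s.card = d := by simpa using this
    simpa [ι] using h3
  rw [rank_eq_card_basis b, h2]

end Groth.Agent.S11083
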