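import Groth.Statements.S11084
import Mathlib.NumberTheory.RatFunc.Ostrowski
import Mathlib.RingTheory.Valuation.ValuationSubring
import Mathlib.RingTheory.DedekindDomain.AdicValuation
import Mathlib.Tactic.NormNum

set_option autoImplicit false
universe u
open CAlg

namespace Groth.Agent.S11084

/-- Let k be a field and O a valuation subring of the field of rational functions k(x). Then O contains
the constants k and is different from k(x) if and only if O is the valuation ring of the P-adic
valuation at a nonzero prime P of the polynomial ring k[x], or O is the valuation ring of the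
valuation at infinity (given by the degree). (The published statement has k algebraically closed, so
that these valuation rings correspond to the points of the projective line; the published proof does
not use that k is algebraically closed. The published statement also asserts that distinct points
give distinct valuation rings, which this row does not state, and counts k(x) itself among the
valuation rings containing k; this row excludes it.) -/
theorem result (k : Type u) [Field k] [DecidableEq (RatFunc k)]
    (O : ValuationSubring (RatFunc k)) :
    ((algebraMap k (RatFunc k)).range ≤ O.toSubring ∧ O ≠ ⊤) ↔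
      ((∃ v : IsDedekindDomain.HeightOneSpectrum (Polynomial k), O = (v.valuation (RatFunc k)).valuationSubring) ∨
        O = (RatFunc.inftyValuation k).valuationSubring) := by
  classical
  constructor
  · rintro ⟨hk, htop⟩
    let v := O.valuation
    haveI : v.IsTrivialOn k := ⟨fun a ha => by
      have h1 : v (algebraMap k (RatFunc k) a) ≤ 1 := (O.valuation_le_one_iff _).mpr (hk ⟨a, rfl⟩)
      have h2 : v (algebraMap k (RatFunc k) a⁻¹) ≤ 1 := (O.valuation_le_one_iff _).mpr (hk ⟨_, rfl⟩)
      refine le_antisymm h1 ?_
      rw [map_inv₀, map_inv₀, inv_le_one₀ (by simpa [zero_lt_iff] using ha)] at h2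
      exact h2⟩
    haveI : v.IsNontrivial := by
      obtain ⟨x, hx⟩ : ∃ x, x ∉ O := by by_contra! h; exact htop (eq_top_iff.mpr fun x _ => h x)
      refine ⟨x, ?_, ?_⟩
      · intro h0; exact hx ((O.valuation_le_one_iff x).mp (by rw [show O.valuation x = 0 from h0]; exact zero_le))
      · intro h1; exact hx ((O.valuation_le_one_iff x).mp (le_of_eq h1))
    rcases lt_or_ge 1 (v RatFunc.X) with hlt | hle
    · exact Or.inr (by rw [← O.valuationSubring_valuation]; exact (Valuation.isEquiv_iff_valuationSubring _ _).mp (RatFunc.valuation_isEquiv_inftyValuation_of_one_lt_valuation_X hlt))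
    · let u := RatFunc.valuationIdeal (v := v) hle
      refine Or.inl ⟨u, ?_⟩
      rw [← O.valuationSubring_valuation]
      refine (Valuation.isEquiv_iff_valuationSubring _ _).mp (Valuation.isEquiv_iff_val_le_one.mpr fun {f} => ?_)
      let π := RatFunc.uniformizingPolynomial (v := v) hle
      have hπ0 : 0 < v (algebraMap (Polynomial k) (RatFunc k) π) := by
        rw [zero_lt_iff, Valuation.ne_zero_iff]
        simpa using RatFunc.uniformizingPolynomial_ne_zero hle
      have hπ1 : v (algebraMap (Polynomial k) (RatFunc k) π) < 1 := by
        simpa only [RatFunc.coePolynomial_eq_algebraMap] using RatFunc.valuation_uniformizingPolynomial_lt_one hle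
      have hstep : ∀ P : Polynomial k, P ≠ 0 → ∃ n : ℕ, v (algebraMap _ (RatFunc k) P) = v (algebraMap (Polynomial k) (RatFunc k) π) ^ n ∧
          u.intValuation P = WithZero.exp (-(n : ℤ)) := fun P hP => by
        refine ⟨_, (RatFunc.valuation_eq_valuation_uniformizingPolynomial_pow_of_valuation_X_le_one hle hP).trans ?_, IsDedekindDomain.HeightOneSpectrum.intValuation_if_neg u hP⟩
        rw [map_pow]; rfl
      induction f using RatFunc.induction_on with
      | f P Q hQ =>
        rcases eq_or_ne P 0 with rfl | hP
        · simp
        obtain ⟨n, hn, hn'⟩ := hstep P hP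
        obtain ⟨m, hm, hm'⟩ := hstep Q hQ
        rw [map_div₀, map_div₀, hn, hm, u.valuation_of_algebraMap, u.valuation_of_algebraMap, hn', hm',
          div_le_one₀ (pow_pos hπ0 _), pow_le_pow_iff_right_of_lt_one₀ hπ0 hπ1, div_le_one₀ WithZero.exp_pos, WithZero.exp_le_exp]
        omega
  · rintro (⟨u, rfl⟩ | rfl)
    · refine ⟨?_, ?_⟩
      · rintro _ ⟨a, rfl⟩
        show u.valuation (RatFunc k) _ ≤ 1
        rw [IsScalarTower.algebraMap_apply k (Polynomial k) (RatFunc k)]
        exact u.valuation_le_one _
      · obtain ⟨π, hπ⟩ := u.valuation_exists_uniformizer (RatFunc k)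
        intro htop
        have h : π⁻¹ ∈ (u.valuation (RatFunc k)).valuationSubring := htop ▸ trivial
        rw [Valuation.mem_valuationSubring_iff, map_inv₀, hπ, ← WithZero.exp_neg, neg_neg] at h
        exact absurd (WithZero.exp_le_exp.mp (h.trans WithZero.exp_zero.ge)) (by norm_num)
    · refine ⟨?_, ?_⟩
      · rintro _ ⟨a, rfl⟩
        show RatFunc.inftyValuation k _ ≤ 1
        rcases eq_or_ne a 0 with rfl | ha
        · simp
        · exact le_of_eq (RatFunc.inftyValuation.C k ha)
      · intro htop
        have h : (RatFunc.X : RatFunc k) ∈ (RatFunc.inftyValuation k).valuationSubring := htop ▸ trivial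
        rw [Valuation.mem_valuationSubring_iff, RatFunc.inftyValuation.X k] at h
        exact absurd (WithZero.exp_le_exp.mp (h.trans WithZero.exp_zero.ge)) (by norm_num)

end Groth.Agent.S11084
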