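import Groth.Statements.S11085
import Groth.Agent.ValFib.Basic
import Groth.Agent.Unibranch.Noether
import Mathlib.RingTheory.NoetherNormalization
import Mathlib.FieldTheory.IntermediateField.Adjoin.Algebra
import Mathlib.RingTheory.Valuation.ValuationRing

set_option autoImplicit false
universe u
open CAlg Groth.Agent

namespace Groth.Agent.S11085

/-- Let k be a field, A a finitely generated k-algebra which is an integral domain of Krull dimension
one (the coordinate ring of an affine curve), and F its field of fractions. Then the set of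
valuation subrings of F which contain k but do not contain A is finite. (The published statement
speaks of all valuation rings of F different from F and not containing A, over an algebraically
closed k; valuation rings not containing k must be excluded — for k an algebraic closure of a
rational function field in one variable t over a finite field and F = k(x), the t-adic valuation of
k has infinitely many extensions to F, none of whose rings contains A — and the published proof,
through the valuation at infinity of k(x), treats valuation rings containing k; it does not use that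
k is algebraically closed.) -/
theorem result (k A F : Type u) [Field k]
    [CommRing A] [IsDomain A] [Algebra k A] [Algebra.FiniteType k A] (hA : ringKrullDim A = 1)
    [Field F] [Algebra A F] [IsFractionRing A F] [Algebra k F] [IsScalarTower k A F] :
    {O : ValuationSubring F | (algebraMap k F).range ≤ O.toSubring ∧
        ¬ (algebraMap A F).range ≤ O.toSubring}.Finite := by
  classical
  obtain ⟨n, g, hgi, hgf⟩ := exists_finite_inj_algHom_of_fg k A
  have hn : n = 1 := by
    have := Unibranch.ringKrullDim_eq_of_finite_inj g hgi hgf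
    rw [hA] at this
    exact_mod_cast this.symm
  subst hn
  let t : F := algebraMap A F (g (MvPolynomial.X 0))
  have hAF : Function.Injective (algebraMap A F) := IsFractionRing.injective A F
  -- `A` is integral over `k[t]`
  have hint : ∀ O : ValuationSubring F, (algebraMap k F).range ≤ O.toSubring → t ∈ O →
      (algebraMap A F).range ≤ O.toSubring := by
    rintro O hk ht _ ⟨a, rfl⟩
    have hOint : IsIntegral O (algebraMap A F a) := by
      obtain ⟨q, hq, hqa⟩ := (RingHom.Finite.to_isIntegral hgf) a
      let ψ : MvPolynomial (Fin 1) k →+* O :=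
        MvPolynomial.eval₂Hom ((algebraMap k F).codRestrict O.toSubring fun c => hk ⟨c, rfl⟩) (fun _ => ⟨t, ht⟩)
      have hψ : (algebraMap O F).comp ψ = (algebraMap A F).comp g.toRingHom := by
        refine MvPolynomial.ringHom_ext (fun c => ?_) (fun i => ?_)
        · simp [ψ, ← MvPolynomial.algebraMap_eq, IsScalarTower.algebraMap_apply k A F]
        · simp [ψ, t, Subsingleton.elim i 0]
      refine ⟨q.map ψ, hq.map ψ, ?_⟩
      rw [Polynomial.eval₂_map, hψ, ← Polynomial.hom_eval₂]
      have : q.eval₂ g.toRingHom a = 0 := hqa
      rw [this, map_zero]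
    obtain ⟨o, ho⟩ := (IsIntegrallyClosed.isIntegral_iff (R := O) (K := F)).mp hOint
    rw [← ho]
    exact o.2
  let L := IntermediateField.adjoin k ({t} : Set F)
  haveI : Algebra.IsAlgebraic L F := by
    haveI : Algebra.IsAlgebraic L (L : Type u) := inferInstance
    refine ⟨fun x => ?_⟩
    obtain ⟨a, b, -, rfl⟩ := IsFractionRing.div_surjective (A := A) x
    have hAint : ∀ a : A, IsIntegral L (algebraMap A F a) := fun a => by
      obtain ⟨q, hq, hqa⟩ := (RingHom.Finite.to_isIntegral hgf) a
      let ψ : MvPolynomial (Fin 1) k →+* L :=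
        MvPolynomial.eval₂Hom (algebraMap k L) (fun _ => ⟨t, IntermediateField.mem_adjoin_simple_self k t⟩)
      have hψ : (algebraMap L F).comp ψ = (algebraMap A F).comp g.toRingHom := by
        refine MvPolynomial.ringHom_ext (fun c => ?_) (fun i => ?_)
        · simp [ψ, ← MvPolynomial.algebraMap_eq, IsScalarTower.algebraMap_apply k A F]
        · simp [ψ, t, Subsingleton.elim i 0]
      refine ⟨q.map ψ, hq.map ψ, ?_⟩
      rw [Polynomial.eval₂_map, hψ, ← Polynomial.hom_eval₂]
      have : q.eval₂ g.toRingHom a = 0 := hqa
      rw [this, map_zero]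
    rw [div_eq_mul_inv]
    exact (IsIntegral.mul (hAint a) (hAint b).inv).isAlgebraic
  haveI : Algebra.EssFiniteType k F :=
    haveI : Algebra.EssFiniteType A F := Algebra.EssFiniteType.of_isLocalization _ (nonZeroDivisors A)
    Algebra.EssFiniteType.comp k A F
  haveI : Algebra.EssFiniteType L F := Algebra.EssFiniteType.of_comp k L F
  haveI : FiniteDimensional L F := Algebra.finite_of_essFiniteType_of_isAlgebraic
  -- the trace on `k(t)` is determined
  have hval : ∀ O : ValuationSubring F, (algebraMap k F).range ≤ O.toSubring → t ∉ O → ∀ P : Polynomial k, P ≠ 0 →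
      O.valuation (Polynomial.aeval t P) = O.valuation t ^ P.natDegree := by
    intro O hk ht P hP
    have ht1 : 1 < O.valuation t := not_le.mp fun h => ht ((O.valuation_le_one_iff _).mp h)
    have hc : ∀ c : k, c ≠ 0 → O.valuation (algebraMap k F c) = 1 := fun c hc => by
      refine le_antisymm ((O.valuation_le_one_iff _).mpr (hk ⟨c, rfl⟩)) ?_
      have h := (O.valuation_le_one_iff _).mpr (hk ⟨c⁻¹, rfl⟩)
      rwa [map_inv₀, map_inv₀, inv_le_one₀ ((Valuation.pos_iff _).mpr (by simpa using hc))] at h
    rw [Polynomial.aeval_eq_sum_range, Finset.sum_range_succ, Valuation.map_add_eq_of_lt_right]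
    · rw [Algebra.smul_def, map_mul, map_pow, hc _ (show P.coeff P.natDegree ≠ 0 from Polynomial.leadingCoeff_ne_zero.mpr hP), one_mul]
    · rw [Algebra.smul_def, map_mul (O.valuation) (algebraMap k F _), map_pow,
        hc _ (show P.coeff P.natDegree ≠ 0 from Polynomial.leadingCoeff_ne_zero.mpr hP), one_mul]
      refine Valuation.map_sum_lt _ (pow_ne_zero _ (ne_zero_of_lt ht1)) fun i hi => ?_
      rw [Algebra.smul_def, map_mul, map_pow]
      rcases eq_or_ne (P.coeff i) 0 with h0 | h0
      · rw [h0, map_zero, map_zero, zero_mul]
        exact pow_pos (lt_trans zero_lt_one ht1) _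
      · rw [hc _ h0, one_mul]
        exact pow_lt_pow_right₀ ht1 (Finset.mem_range.mp hi)
  have htrace : ∀ O O' : ValuationSubring F, (algebraMap k F).range ≤ O.toSubring → t ∉ O →
      (algebraMap k F).range ≤ O'.toSubring → t ∉ O' →
      O.comap (algebraMap L F) ≤ O'.comap (algebraMap L F) := by
    intro O O' hk ht hk' ht' x hx
    show algebraMap L F x ∈ O'
    have hx' : (x : F) ∈ O := hx
    obtain ⟨P, Q, hPQ⟩ := (IntermediateField.mem_adjoin_simple_iff k (x : F)).mp x.2
    show (x : F) ∈ O'
    rw [hPQ] at hx' ⊢
    rcases eq_or_ne P 0 with rfl | hP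
    · simpa using zero_mem O'.toSubring
    rcases eq_or_ne Q 0 with rfl | hQ
    · simpa using zero_mem O'.toSubring
    rw [← O.valuation_le_one_iff, map_div₀, hval O hk ht P hP, hval O hk ht Q hQ] at hx'
    rw [← O'.valuation_le_one_iff, map_div₀, hval O' hk' ht' P hP, hval O' hk' ht' Q hQ]
    have ht1 : 1 < O.valuation t := not_le.mp fun h => ht ((O.valuation_le_one_iff _).mp h)
    have ht1' : 1 < O'.valuation t := not_le.mp fun h => ht' ((O'.valuation_le_one_iff _).mp h)
    rw [div_le_one₀ (pow_pos (lt_trans zero_lt_one ht1) _), pow_le_pow_iff_right₀ ht1] at hx'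
    rw [div_le_one₀ (pow_pos (lt_trans zero_lt_one ht1') _), pow_le_pow_iff_right₀ ht1']
    exact hx'
  by_contra hinf
  obtain ⟨s, hs, hcard⟩ := Set.Infinite.exists_subset_card_eq hinf (Module.finrank L F + 1)
  obtain ⟨O₁, hO₁⟩ := Finset.card_pos.mp (show 0 < s.card by omega)
  have hmem : ∀ O ∈ s, (algebraMap k F).range ≤ O.toSubring ∧ t ∉ O := fun O hO =>
    ⟨(hs hO).1, fun h => (hs hO).2 (hint O (hs hO).1 h)⟩
  have := ValFib.card_le (O₁.comap (algebraMap L F)) s fun O hO =>
    le_antisymm (htrace O O₁ (hmem O hO).1 (hmem O hO).2 (hmem O₁ hO₁).1 (hmem O₁ hO₁).2)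
      (htrace O₁ O (hmem O₁ hO₁).1 (hmem O₁ hO₁).2 (hmem O hO).1 (hmem O hO).2)
  omega

end Groth.Agent.S11085
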