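import Groth.Statements.S11086
import Mathlib

set_option autoImplicit false
universe u
set_option maxHeartbeats 1000000
attribute [local instance] FractionRing.liftAlgebra
open CAlg

namespace Groth.Agent.S11086

/-- Let A be a Dedekind domain, B a Dedekind domain which is a finitely generated torsion-free A-algebra
with fraction field separable over that of A (the integral closure of A in a finite separable
extension), and S a submonoid of A consisting of non-zero-divisors. Let A_S and B_S be localizations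
of A at S and of B at the image of S, with B_S an algebra over A_S compatibly with A and B (so A_S
is integrally closed and B_S is a Dedekind domain, torsion-free over A_S). Then the ideal of B_S
generated by the different of B over A is the different of B_S over A_S. -/
theorem result (A B : Type u) [CommRing A] [CommRing B]
    [IsDedekindDomain A] [IsDedekindDomain B] [Algebra A B] [Module.Finite A B] [Module.IsTorsionFree A B]
    [Algebra.IsSeparable (FractionRing A) (FractionRing B)]
    (S : Submonoid A) (hS : S ≤ nonZeroDivisors A)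
    (Aₛ Bₛ : Type u) [CommRing Aₛ] [CommRing Bₛ] [Algebra A Aₛ] [Algebra B Bₛ] [Algebra Aₛ Bₛ]
    [Algebra A Bₛ] [IsScalarTower A Aₛ Bₛ] [IsScalarTower A B Bₛ]
    [IsLocalization S Aₛ] [IsLocalization (Algebra.algebraMapSubmonoid B S) Bₛ]
    [IsDomain Aₛ] [IsIntegrallyClosed Aₛ] [IsDedekindDomain Bₛ] [Module.IsTorsionFree Aₛ Bₛ] :
    Ideal.map (algebraMap B Bₛ) (differentIdeal A B) = differentIdeal Aₛ Bₛ := by
  classical
  let K := FractionRing A
  let L := FractionRing B
  haveI : Algebra.IsIntegral A B := Algebra.IsIntegral.of_finite A B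
  have hS' : Algebra.algebraMapSubmonoid B S ≤ nonZeroDivisors B := by
    rintro _ ⟨a, ha, rfl⟩
    exact mem_nonZeroDivisors_of_ne_zero fun h => nonZeroDivisors.ne_zero (hS ha)
      (FaithfulSMul.algebraMap_injective A B (h.trans (map_zero _).symm))
  letI : Algebra Aₛ K := (IsLocalization.lift (M := S) (g := algebraMap A K)
    fun a => IsLocalization.map_units K ⟨a.1, hS a.2⟩).toAlgebra
  haveI : IsScalarTower A Aₛ K := IsScalarTower.of_algebraMap_eq fun a => (IsLocalization.lift_eq _ a).symm
  haveI : IsFractionRing Aₛ K := IsFractionRing.isFractionRing_of_isDomain_of_isLocalization S Aₛ K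
  letI : Algebra Bₛ L := (IsLocalization.lift (M := Algebra.algebraMapSubmonoid B S) (g := algebraMap B L)
    fun b => IsLocalization.map_units L ⟨b.1, hS' b.2⟩).toAlgebra
  haveI : IsScalarTower B Bₛ L := IsScalarTower.of_algebraMap_eq fun b => (IsLocalization.lift_eq _ b).symm
  haveI : IsFractionRing Bₛ L :=
    IsFractionRing.isFractionRing_of_isDomain_of_isLocalization (Algebra.algebraMapSubmonoid B S) Bₛ L
  haveI : IsScalarTower A Bₛ L := IsScalarTower.of_algebraMap_eq fun a => by
    rw [IsScalarTower.algebraMap_apply A B Bₛ, ← IsScalarTower.algebraMap_apply B Bₛ L,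
      ← IsScalarTower.algebraMap_apply A B L]
  letI : Algebra Aₛ L := ((algebraMap Bₛ L).comp (algebraMap Aₛ Bₛ)).toAlgebra
  haveI : IsScalarTower Aₛ Bₛ L := IsScalarTower.of_algebraMap_eq fun _ => rfl
  haveI : IsScalarTower Aₛ K L := IsScalarTower.of_algebraMap_eq' <| IsLocalization.ringHom_ext S <| RingHom.ext fun a => by
    show algebraMap Bₛ L (algebraMap Aₛ Bₛ (algebraMap A Aₛ a)) = algebraMap K L (algebraMap Aₛ K (algebraMap A Aₛ a))
    rw [← IsScalarTower.algebraMap_apply A Aₛ Bₛ, ← IsScalarTower.algebraMap_apply A Bₛ L,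
      ← IsScalarTower.algebraMap_apply A Aₛ K, ← IsScalarTower.algebraMap_apply A K L]
  haveI : Module.Finite Aₛ Bₛ := Module.Finite.of_isLocalization A B S
  haveI : IsIntegralClosure Bₛ Aₛ L := IsIntegralClosure.of_isIntegrallyClosed Bₛ Aₛ L
  have hD := coeSubmodule_differentIdeal A K (B := B) (L := L)
  have hDs := coeSubmodule_differentIdeal Aₛ K (B := Bₛ) (L := L)
  have hmem : ∀ b : B, b ∈ differentIdeal A B ↔
      ∀ y ∈ Submodule.traceDual A K (1 : Submodule B L), algebraMap B L b * y ∈ (algebraMap B L).range := fun b => by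
    rw [show b ∈ differentIdeal A B ↔ algebraMap B L b ∈ IsLocalization.coeSubmodule L (differentIdeal A B) from
      ⟨fun h => ⟨b, h, rfl⟩, fun ⟨c, hc, e⟩ => (IsFractionRing.injective B L e) ▸ hc⟩, hD,
      Submodule.mem_div_iff_forall_mul_mem]
    exact forall₂_congr fun y _ => Submodule.mem_one
  have hmems : ∀ b : Bₛ, b ∈ differentIdeal Aₛ Bₛ ↔
      ∀ y ∈ Submodule.traceDual Aₛ K (1 : Submodule Bₛ L), algebraMap Bₛ L b * y ∈ (algebraMap Bₛ L).range := fun b => by
    rw [show b ∈ differentIdeal Aₛ Bₛ ↔ algebraMap Bₛ L b ∈ IsLocalization.coeSubmodule L (differentIdeal Aₛ Bₛ) from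
      ⟨fun h => ⟨b, h, rfl⟩, fun ⟨c, hc, e⟩ => (IsFractionRing.injective Bₛ L e) ▸ hc⟩, hDs,
      Submodule.mem_div_iff_forall_mul_mem]
    exact forall₂_congr fun y _ => Submodule.mem_one
  have hA' : ∀ a : A, algebraMap Aₛ K (algebraMap A Aₛ a) = algebraMap A K a := fun a =>
    (IsScalarTower.algebraMap_apply A Aₛ K a).symm
  have hB' : ∀ b : B, algebraMap Bₛ L (algebraMap B Bₛ b) = algebraMap B L b := fun b =>
    (IsScalarTower.algebraMap_apply B Bₛ L b).symm
  have htd : ∀ (x : L), x ∈ Submodule.traceDual A K (1 : Submodule B L) →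
      x ∈ Submodule.traceDual Aₛ K (1 : Submodule Bₛ L) := fun x hx => by
    rw [Submodule.mem_traceDual] at hx ⊢
    intro y hy
    obtain ⟨c, rfl⟩ := Submodule.mem_one.1 hy
    obtain ⟨⟨b, ⟨_, s, hs, rfl⟩⟩, e⟩ := IsLocalization.surj (Algebra.algebraMapSubmonoid B S) c
    obtain ⟨r, hr⟩ := hx _ (Submodule.mem_one.2 ⟨b, rfl⟩)
    refine ⟨IsLocalization.mk' Aₛ r ⟨s, hs⟩, ?_⟩
    have hs0 : algebraMap A K s ≠ 0 := fun h => nonZeroDivisors.ne_zero (hS hs)
      (IsFractionRing.injective A K (h.trans (map_zero _).symm))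
    refine mul_right_cancel₀ hs0 ?_
    conv_lhs => rw [← hA' s, ← map_mul, IsLocalization.mk'_spec Aₛ r ⟨s, hs⟩, hA', hr]
    rw [← hB' b, ← e, map_mul, hB', ← IsScalarTower.algebraMap_apply A B L, IsScalarTower.algebraMap_apply A K L,
      mul_comm (algebraMap Bₛ L c), ← Algebra.smul_def, map_smul, smul_eq_mul, mul_comm]
  have hfg : (Submodule.traceDual A K (1 : Submodule B L)).FG := by
    let D : Submodule B L := ((FractionalIdeal.dual A K (1 : FractionalIdeal (nonZeroDivisors B) L) :
        FractionalIdeal (nonZeroDivisors B) L) : Submodule B L)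
    haveI h : IsNoetherian B D := FractionalIdeal.isNoetherian _
    have h2 : D.FG := (Submodule.fg_top D).1 (h.noetherian ⊤)
    rwa [show D = _ from FractionalIdeal.coe_dual_one A K L B] at h2
  apply le_antisymm
  · rw [Ideal.map_le_iff_le_comap]
    intro b hb
    rw [Ideal.mem_comap, hmems]
    intro x hx
    obtain ⟨T, hT⟩ : (⊤ : Submodule A B).FG := Module.Finite.fg_top
    rw [Submodule.mem_traceDual] at hx
    have hs : ∃ s ∈ S, ∀ t ∈ T, ∃ r, algebraMap A K r = Algebra.traceForm K L (algebraMap A L s * x) (algebraMap B L t) := by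
      have h1 : ∀ t : B, ∃ s : S, ∃ r, algebraMap A K r = algebraMap A K s * Algebra.traceForm K L x (algebraMap B L t) := fun t => by
        obtain ⟨a, ha⟩ := hx _ (Submodule.mem_one.2 ⟨algebraMap B Bₛ t, hB' t⟩)
        obtain ⟨⟨r, s⟩, e⟩ := IsLocalization.surj S a
        refine ⟨s, r, ?_⟩
        rw [← hA' r, ← e, map_mul, hA', ha, mul_comm]
      choose s r hr using h1
      refine ⟨∏ t ∈ T, (s t : A), prod_mem fun t _ => (s t).2, fun t ht => ?_⟩
      refine ⟨(∏ u ∈ T.erase t, (s u : A)) * r t, ?_⟩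
      rw [map_mul, hr, ← mul_assoc, ← map_mul, Finset.prod_erase_mul _ _ ht,
        IsScalarTower.algebraMap_apply A K L, ← Algebra.smul_def _ x, map_smul, LinearMap.smul_apply, smul_eq_mul]
    obtain ⟨s, hsS, hs⟩ := hs
    have hsx : algebraMap A L s * x ∈ Submodule.traceDual A K (1 : Submodule B L) := by
      rw [Submodule.mem_traceDual]
      intro y hy0
      obtain ⟨c, rfl⟩ := Submodule.mem_one.1 hy0
      clear hy0
      have hc : c ∈ Submodule.span A (T : Set B) := hT ▸ trivial
      induction hc using Submodule.span_induction with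
      | mem t ht => exact hs t ht
      | zero => exact ⟨0, by simp⟩
      | add y z _ _ hy hz =>
        obtain ⟨a, ha⟩ := hy
        obtain ⟨a', ha'⟩ := hz
        exact ⟨a + a', by rw [map_add, map_add, map_add, ha, ha']⟩
      | smul r y _ hy =>
        obtain ⟨a, ha⟩ := hy
        refine ⟨r * a, ?_⟩
        rw [Algebra.smul_def r y, map_mul (algebraMap B L), ← IsScalarTower.algebraMap_apply A B L,
          IsScalarTower.algebraMap_apply A K L r, ← Algebra.smul_def (algebraMap A K r) (algebraMap B L y), map_smul, smul_eq_mul, map_mul, ha]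
    obtain ⟨c, hc⟩ := (hmem b).1 hb _ hsx
    have hm : algebraMap A B s ∈ Algebra.algebraMapSubmonoid B S := ⟨s, hsS, rfl⟩
    refine ⟨IsLocalization.mk' Bₛ c ⟨algebraMap A B s, hm⟩, ?_⟩
    have hs0 : algebraMap A L s ≠ 0 := fun h => nonZeroDivisors.ne_zero (hS hsS)
      (IsFractionRing.injective A K (FaithfulSMul.algebraMap_injective K L
        (((IsScalarTower.algebraMap_apply A K L s).symm.trans h).trans (by rw [map_zero, map_zero]))))
    refine mul_right_cancel₀ hs0 ?_
    conv_lhs => rw [IsScalarTower.algebraMap_apply A B L, ← hB' (algebraMap A B s), ← map_mul,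
      IsLocalization.mk'_spec Bₛ c ⟨algebraMap A B s, hm⟩, hB', hc]
    rw [hB']; ring
  · intro z hz
    obtain ⟨⟨b, m⟩, e⟩ := IsLocalization.surj (Algebra.algebraMapSubmonoid B S) z
    rw [IsLocalization.mem_map_algebraMap_iff (Algebra.algebraMapSubmonoid B S) Bₛ]
    obtain ⟨T, hT⟩ := hfg
    have h1 : ∀ y : T, ∃ (m' : Algebra.algebraMapSubmonoid B S) (c : B), algebraMap B L b * y.1 * algebraMap B L m' = algebraMap B L c := fun y => by
      have hy : (y : L) ∈ Submodule.traceDual A K (1 : Submodule B L) := hT ▸ Submodule.subset_span y.2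
      obtain ⟨c, hc⟩ := (hmems (algebraMap B Bₛ b)).1 (by rw [← e]; exact Ideal.mul_mem_right _ _ hz) _ (htd _ hy)
      obtain ⟨⟨c', m'⟩, e'⟩ := IsLocalization.surj (Algebra.algebraMapSubmonoid B S) c
      refine ⟨m', c', ?_⟩
      rw [← hB' b, ← hc, ← hB' c', ← e', map_mul, hB']
    choose m' c hc using h1
    let M : Algebra.algebraMapSubmonoid B S := ∏ y, m' y
    refine ⟨(⟨b * M, (hmem _).2 fun y hy => ?_⟩, m * M), ?_⟩
    · rw [← hT] at hy
      induction hy using Submodule.span_induction with
      | mem t ht =>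
        refine ⟨c ⟨t, ht⟩ * ((∏ y ∈ Finset.univ.erase ⟨t, ht⟩, m' y : Algebra.algebraMapSubmonoid B S) : B), ?_⟩
        have hM : (M : B) = ((∏ y ∈ Finset.univ.erase ⟨t, ht⟩, m' y : Algebra.algebraMapSubmonoid B S) : B) * (m' ⟨t, ht⟩ : B) := by
          rw [← Submonoid.coe_mul, Finset.prod_erase_mul _ _ (Finset.mem_univ _)]
        rw [map_mul (algebraMap B L), map_mul (algebraMap B L), hM, map_mul (algebraMap B L), ← hc]
        ring
      | zero => exact ⟨0, by simp⟩
      | add y z _ _ hy hz =>
        obtain ⟨a, ha⟩ := hy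
        obtain ⟨a', ha'⟩ := hz
        exact ⟨a + a', by rw [map_add, mul_add, ha, ha']⟩
      | smul r y _ hy =>
        obtain ⟨a, ha⟩ := hy
        refine ⟨r * a, ?_⟩
        rw [map_mul, ha, Algebra.smul_def]
        ring
    · show z * algebraMap B Bₛ ((m * M : Algebra.algebraMapSubmonoid B S) : B) = algebraMap B Bₛ (b * M)
      rw [Submonoid.coe_mul, map_mul, map_mul, ← mul_assoc, e]

end Groth.Agent.S11086
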