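import Groth.Statements.S11087
import Groth.Agent.FinComplete.Basic
import Mathlib.RingTheory.Henselian
import Mathlib.FieldTheory.Perfect
import Mathlib.Algebra.Polynomial.Identities

set_option autoImplicit false
universe u
attribute [local instance] FractionRing.liftAlgebra
open CAlg

namespace Groth.Agent.S11087

/-- Let A be a complete discrete valuation ring and K a perfect field contained in A such that K → A →
A/m is bijective. Let B be a Dedekind domain which is a finite torsion-free A-algebra with fraction
field separable over that of A (the integral closure of A in a finite separable extension of its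
fraction field). Then for every maximal ideal M of B and every b in B there is exactly one element c
of B which is algebraic over K and congruent to b modulo M; in other words the algebraic closure of
K in B is a subfield mapping isomorphically onto B/M. -/
theorem result (K A B : Type u) [Field K]
    [PerfectField K] [CommRing A] [IsDomain A] [IsDiscreteValuationRing A]
    [IsAdicComplete (IsLocalRing.maximalIdeal A) A]
    [Algebra K A] (hK : Function.Bijective ((IsLocalRing.residue A).comp (algebraMap K A)))
    [CommRing B] [IsDedekindDomain B] [Algebra A B] [Module.Finite A B] [Module.IsTorsionFree A B]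
    [Algebra.IsSeparable (FractionRing A) (FractionRing B)] [Algebra K B] [IsScalarTower K A B]
    (M : Ideal B) [M.IsMaximal] (b : B) :
    ∃! c : B, IsAlgebraic K c ∧ b - c ∈ M := by
  haveI : IsLocalRing B := Groth.Agent.FinComplete.isLocalRing_of_isDomain A B
  haveI := Groth.Agent.FinComplete.isAdicComplete_of_isLocalRing A B
  haveI : HenselianLocalRing B :=
    { is_henselian := fun f hf a₀ h₁ h₂ =>
        HenselianRing.is_henselian f hf a₀ h₁ (h₂.map (Ideal.Quotient.mk (IsLocalRing.maximalIdeal B))) }
  obtain rfl : M = IsLocalRing.maximalIdeal B := IsLocalRing.eq_maximalIdeal inferInstance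
  set φ := IsLocalRing.residue B with hφ
  let σ : IsLocalRing.ResidueField A ≃+* K := (RingEquiv.ofBijective _ hK).symm
  let ψ : A →+* K := σ.toRingHom.comp (IsLocalRing.residue A)
  have hψ : ∀ a, φ (algebraMap A B a) = φ (algebraMap K B (ψ a)) := fun a => by
    have h1 : IsLocalRing.residue A (algebraMap K A (ψ a)) = IsLocalRing.residue A a :=
      (RingEquiv.ofBijective _ hK).apply_symm_apply _
    rw [IsScalarTower.algebraMap_apply K A B]
    refine (Ideal.Quotient.mk_eq_mk_iff_sub_mem _ _).mpr ?_
    rw [← map_sub]
    exact Groth.Agent.FinComplete.map_le_maximal A B (IsLocalRing.maximalIdeal B)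
      (Ideal.mem_map_of_mem _ ((Ideal.Quotient.mk_eq_mk_iff_sub_mem _ _).mp h1.symm))
  have hev : ∀ (q : Polynomial K) (x : B), Polynomial.aeval (φ x) q = φ (Polynomial.aeval x q) := fun q x => by
    rw [← Polynomial.eval_map_algebraMap, Polynomial.aeval_def, Polynomial.hom_eval₂, Polynomial.eval_map]
    rfl
  have hint : IsIntegral K (φ b) := by
    obtain ⟨p, hp, hpb⟩ := Algebra.IsIntegral.isIntegral (R := A) b
    refine ⟨p.map ψ, hp.map ψ, ?_⟩
    rw [Polynomial.eval₂_map]
    have := congrArg φ hpb
    rw [Polynomial.hom_eval₂, map_zero] at this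
    rw [← this]
    congr 1
    refine RingHom.ext fun a => ?_
    exact (hψ a).symm
  set g := minpoly K (φ b) with hg
  have hmon : g.Monic := minpoly.monic hint
  have hsep : g.Separable := PerfectField.separable_of_irreducible (minpoly.irreducible hint)
  have h0 : Polynomial.aeval (φ b) g = 0 := minpoly.aeval _ _
  have hunit : ∀ x : B, φ x = φ b → IsUnit ((g.map (algebraMap K B)).derivative.eval x) := fun x hx => by
    rw [Polynomial.derivative_map, Polynomial.eval_map_algebraMap]
    refine of_not_not fun h => hsep.aeval_derivative_ne_zero h0 ?_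
    rw [← hx, hev]
    exact (IsLocalRing.residue_eq_zero_iff _).mpr h
  obtain ⟨c, hc, hcb⟩ := HenselianLocalRing.is_henselian (g.map (algebraMap K B)) (hmon.map _) b
    (by rw [Polynomial.eval_map_algebraMap, ← IsLocalRing.residue_eq_zero_iff, ← hφ, ← hev, h0])
    (hunit b rfl)
  have hc' : Polynomial.aeval c g = 0 := by
    rw [← Polynomial.eval_map_algebraMap]; exact hc
  refine ⟨c, ⟨⟨g, hmon.ne_zero, hc'⟩, by simpa using (IsLocalRing.maximalIdeal B).neg_mem hcb⟩,
    fun c' ⟨halg, hc'b⟩ => ?_⟩
  have hint' : IsIntegral K c' := halg.isIntegral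
  have hφc : φ c' = φ b := ((Ideal.Quotient.mk_eq_mk_iff_sub_mem _ _).mpr hc'b).symm
  have hmin : g = minpoly K c' := by
    refine (minpoly.eq_of_irreducible_of_monic (minpoly.irreducible hint') ?_ (minpoly.monic hint')).symm
    rw [← hφc, hev, minpoly.aeval, map_zero]
  have hc0 : Polynomial.aeval c' g = 0 := by rw [hmin]; exact minpoly.aeval _ _
  have hcc : φ c = φ b := (Ideal.Quotient.mk_eq_mk_iff_sub_mem _ _).mpr hcb
  obtain ⟨t, ht⟩ := Polynomial.binomExpansion (g.map (algebraMap K B)) c (c' - c)
  rw [add_sub_cancel, Polynomial.eval_map_algebraMap, hc0, Polynomial.eval_map_algebraMap, hc', zero_add] at ht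
  have hd : (c' - c) * ((g.map (algebraMap K B)).derivative.eval c + t * (c' - c)) = 0 := by
    linear_combination -ht
  refine sub_eq_zero.mp ((mul_eq_zero.mp hd).resolve_right fun h => ?_)
  have hcd : c' - c ∈ IsLocalRing.maximalIdeal B :=
    (Ideal.Quotient.mk_eq_mk_iff_sub_mem _ _).mp (hφc.trans hcc.symm)
  have := (IsLocalRing.maximalIdeal B).neg_mem (Ideal.mul_mem_left _ t hcd)
  rw [← eq_neg_of_add_eq_zero_left h] at this
  exact this (hunit c hcc)

end Groth.Agent.S11087
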