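import Groth.Statements.S11088
import Groth.Agent.S0499
import Mathlib.RingTheory.RamificationInertia.Basic
import Mathlib.RingTheory.Ideal.Norm.RelNorm
import Mathlib.RingTheory.DedekindDomain.PID
import Mathlib.RingTheory.Henselian

set_option autoImplicit false
universe u
attribute [local instance] FractionRing.liftAlgebra
open CAlg

namespace Groth.Agent.S11088

/-- Let A be a complete discrete valuation ring with maximal ideal m and B a Dedekind domain which is a
finite torsion-free A-algebra with fraction field separable over that of A (the integral closure of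
A in a finite separable extension). Then for every maximal ideal M of B, with f the degree of B/M
over A/m, and every nonzero x in B, the multiplicity of m in the ideal generated by the norm of x
equals f times the multiplicity of M in the ideal generated by x: v(N(x)) = f · w(x). -/
theorem result (A B : Type u) [CommRing A] [IsDomain A] [IsDiscreteValuationRing A]
    [IsAdicComplete (IsLocalRing.maximalIdeal A) A]
    [CommRing B] [IsDedekindDomain B] [Algebra A B] [Module.Finite A B] [Module.IsTorsionFree A B]
    [Algebra.IsSeparable (FractionRing A) (FractionRing B)]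
    (M : Ideal B) [M.IsMaximal] (x : B) (hx : x ≠ 0) :
    emultiplicity (IsLocalRing.maximalIdeal A) (Ideal.span {Algebra.intNorm A B x}) =
      (M.inertiaDeg A : ℕ∞) * emultiplicity M (Ideal.span {x}) := by
  classical
  let p := IsLocalRing.maximalIdeal A
  have hp : p ≠ ⊥ := IsDiscreteValuationRing.not_a_field A
  haveI : HenselianLocalRing A :=
    { is_henselian := fun f hf a₀ h₁ h₂ => HenselianRing.is_henselian (I := p) f hf a₀ h₁ (h₂.map _) }
  -- B is local
  haveI : IsLocalRing B := by
    obtain ⟨ι, _, R', _, hloc, ⟨e⟩⟩ := Groth.Agent.S0499.result A B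
    haveI : Nontrivial (∀ i, R' i) := e.injective.nontrivial
    obtain ⟨i⟩ : Nonempty ι := by
      by_contra h
      rw [not_nonempty_iff] at h
      exact false_of_nontrivial_of_subsingleton (∀ i, R' i)
    have huniq : ∀ j, j = i := by
      intro j
      by_contra hne
      haveI := hloc i
      haveI := hloc j
      have hmul : (Pi.single i (1 : R' i) : ∀ i, R' i) * Pi.single j 1 = 0 := by
        funext l
        by_cases hl : l = i
        · subst hl
          simp [Ne.symm hne]
        · simp [hl]
      have := congrArg e.symm hmul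
      rw [map_mul, map_zero, mul_eq_zero] at this
      rcases this with h | h <;>
        · rw [EmbeddingLike.map_eq_zero_iff] at h
          first
            | exact one_ne_zero ((Pi.single_eq_zero_iff.mp h : (1 : R' i) = 0))
            | exact one_ne_zero ((Pi.single_eq_zero_iff.mp h : (1 : R' j) = 0))
    haveI : Unique ι := ⟨⟨i⟩, huniq⟩
    haveI := hloc default
    exact (e.trans (RingEquiv.piUnique R')).symm.isLocalRing
  have hMeq : M = IsLocalRing.maximalIdeal B := IsLocalRing.eq_maximalIdeal inferInstance
  haveI hlo : M.LiesOver p := ⟨by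
    haveI : (M.under A).IsMaximal := Ideal.IsMaximal.under A M
    exact (IsLocalRing.eq_maximalIdeal this).symm⟩
  have hM0 : M ≠ ⊥ := fun h => hp (by
    have h' : p = M.under A := hlo.over
    rw [h', h, Ideal.under_def, Ideal.comap_bot_of_injective _ (FaithfulSMul.algebraMap_injective A B)])
  have hpow : ∀ I : Ideal B, I ≠ ⊥ → ∃ k, I = M ^ k := by
    intro I hI
    haveI : IsPrincipalIdealRing B :=
      IsPrincipalIdealRing.of_finite_maximals (Set.Finite.subset (Set.finite_singleton M)
        (fun J hJ => (IsLocalRing.eq_maximalIdeal hJ).trans hMeq.symm))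
    haveI : IsDiscreteValuationRing B :=
      { not_a_field' := hMeq ▸ hM0 }
    obtain ⟨ϖ, hϖ⟩ := IsDiscreteValuationRing.exists_irreducible B
    obtain ⟨k, hk⟩ := IsDiscreteValuationRing.ideal_eq_span_pow_irreducible hI hϖ
    exact ⟨k, by rw [hk, ← Ideal.span_singleton_pow, hMeq, hϖ.maximalIdeal_eq]⟩
  have hmult : ∀ k : ℕ, emultiplicity M (M ^ k) = k := fun k =>
    emultiplicity_pow_self_of_prime (Ideal.prime_of_isPrime hM0 inferInstance) k
  have hpB : p.map (algebraMap A B) ≠ ⊥ := by
    rw [Ne, Ideal.map_eq_bot_iff_of_injective (FaithfulSMul.algebraMap_injective A B)]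
    exact hp
  obtain ⟨e, he⟩ := hpow _ hpB
  obtain ⟨s, hs⟩ := Ideal.exists_relNorm_eq_pow_of_isPrime M p
  have hram : M.ramificationIdx A = e := by
    rw [Ideal.IsDedekindDomain.ramificationIdx_eq_multiplicity p M hpB, he]
    exact multiplicity_eq_of_emultiplicity_eq_some (hmult e)
  haveI : Unique (p.primesOver B) :=
    { default := ⟨M, inferInstance, hlo⟩
      uniq := fun ⟨Q, hQ, hQl⟩ => Subtype.ext (by
        haveI := hQ; haveI := hQl
        haveI : Q.IsMaximal := Ideal.IsMaximal.of_liesOver_isMaximal Q p
        exact (IsLocalRing.eq_maximalIdeal ‹_›).trans hMeq.symm) }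
  letI : Fintype (p.primesOver B) := Unique.fintype
  haveI : Module.Free A B := Module.free_of_finite_type_torsion_free'
  have hsum := Ideal.sum_ramification_inertia_eq_finrank p B
  rw [Fintype.sum_unique,
    show (default : p.primesOver B) = ⟨M, inferInstance, hlo⟩ from Subsingleton.elim _ _] at hsum
  have hn : Module.finrank A B ≠ 0 := Module.finrank_pos.ne'
  have hinj : Function.Injective (fun n : ℕ => p ^ n) :=
    IsLeftCancelMulZero.mul_left_cancel_of_ne_zero hp |>.pow_injective
      (by rw [Ideal.one_eq_top]; exact Ideal.IsMaximal.ne_top inferInstance)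
  have hs' : s = M.inertiaDeg A := by
    have h1 := congrArg (Ideal.relNorm A) he
    rw [Ideal.relNorm_algebraMap, map_pow, hs, ← pow_mul] at h1
    have h2 : Module.finrank A B = s * e := hinj h1
    have e0 : e ≠ 0 := by
      intro h0; rw [h0, Nat.mul_zero] at h2; exact hn h2
    rw [hram, h2, Nat.mul_comm s e] at hsum
    exact (Nat.eq_of_mul_eq_mul_left (Nat.pos_of_ne_zero e0) hsum).symm
  obtain ⟨w, hw⟩ := hpow (Ideal.span {x}) (fun h => hx (Ideal.span_singleton_eq_bot.mp h))
  rw [← Ideal.relNorm_singleton, hw, map_pow, hs, ← pow_mul, hmult w,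
    emultiplicity_pow_self_of_prime (Ideal.prime_of_isPrime hp inferInstance), hs']
  push_cast
  rfl

end Groth.Agent.S11088
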