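import Groth.Statements.S11089
import Groth.Agent.FinComplete.Basic
import Mathlib.RingTheory.Henselian
import Mathlib.RingTheory.RamificationInertia.Basic
import Mathlib.RingTheory.DedekindDomain.PID
import Mathlib.RingTheory.Polynomial.Eisenstein.Basic
import Mathlib.FieldTheory.Minpoly.IsIntegrallyClosed

set_option autoImplicit false
universe u
attribute [local instance] FractionRing.liftAlgebra
open CAlg

namespace Groth.Agent.S11089

/-- Let A be a complete discrete valuation ring containing a field K with K → A → A/m bijective, and B a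
Dedekind domain which is a finite torsion-free A-algebra of rank m with fraction field separable
over that of A (the integral closure of A in a finite separable extension E of F = Frac A). If the
extension is totally ramified — the maximal ideal M of B has ramification index m — and m is a unit
in A, then some uniformizer u of B (an element of M not in M²) satisfies u^m ∈ A and generates E
over F: its minimal polynomial over A has degree m. -/
theorem result (K A B : Type u) [Field K]
    [CommRing A] [IsDomain A] [IsDiscreteValuationRing A]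
    [IsAdicComplete (IsLocalRing.maximalIdeal A) A]
    [Algebra K A] (hK : Function.Bijective ((IsLocalRing.residue A).comp (algebraMap K A)))
    [CommRing B] [IsDedekindDomain B] [Algebra A B] [Module.Finite A B] [Module.IsTorsionFree A B]
    [Algebra.IsSeparable (FractionRing A) (FractionRing B)]
    (M : Ideal B) [M.IsMaximal] (hram : M.ramificationIdx A = Module.finrank A B)
    (hm : IsUnit ((Module.finrank A B : ℕ) : A)) :
    ∃ u : B, u ∈ M ∧ u ∉ M ^ 2 ∧ u ^ Module.finrank A B ∈ (algebraMap A B).range ∧
      (minpoly A u).natDegree = Module.finrank A B := by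
  classical
  haveI : IsLocalRing B := Groth.Agent.FinComplete.isLocalRing_of_isDomain A B
  haveI := Groth.Agent.FinComplete.isAdicComplete_of_isLocalRing A B
  haveI : HenselianLocalRing B :=
    { is_henselian := fun f hf a₀ h₁ h₂ =>
        HenselianRing.is_henselian f hf a₀ h₁ (h₂.map (Ideal.Quotient.mk (IsLocalRing.maximalIdeal B))) }
  have hMeq : M = IsLocalRing.maximalIdeal B := IsLocalRing.eq_maximalIdeal inferInstance
  set p := IsLocalRing.maximalIdeal A with hpdef
  haveI hlo : M.LiesOver p := ⟨by
    haveI : (M.under A).IsMaximal := Ideal.IsMaximal.under A M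
    exact (IsLocalRing.eq_maximalIdeal this).symm⟩
  obtain ⟨π, hπ⟩ := IsDiscreteValuationRing.exists_irreducible A
  have hpπ : p = Ideal.span {π} := hπ.maximalIdeal_eq
  have hπB : algebraMap A B π ≠ 0 := fun h => hπ.ne_zero (FaithfulSMul.algebraMap_injective A B (by rw [h, map_zero]))
  have hpB : p.map (algebraMap A B) ≠ ⊥ := by
    rw [hpπ, Ideal.map_span, Set.image_singleton, Ne, Ideal.span_singleton_eq_bot]
    exact hπB
  have hM0 : M ≠ ⊥ := ne_bot_of_le_ne_bot hpB (Ideal.map_le_of_le_comap hlo.over.le)
  haveI : IsPrincipalIdealRing B :=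
    IsPrincipalIdealRing.of_finite_maximals (Set.Finite.subset (Set.finite_singleton M)
      (fun J hJ => (IsLocalRing.eq_maximalIdeal hJ).trans hMeq.symm))
  haveI : IsDiscreteValuationRing B := { not_a_field' := hMeq ▸ hM0 }
  obtain ⟨z, hz⟩ := IsDiscreteValuationRing.exists_irreducible B
  have hMz : M = Ideal.span {z} := hMeq.trans hz.maximalIdeal_eq
  obtain ⟨e, he⟩ := IsDiscreteValuationRing.ideal_eq_span_pow_irreducible hpB hz
  set m := Module.finrank A B with hmdef
  have hram' : e = m := by
    rw [← hram, Ideal.IsDedekindDomain.ramificationIdx_eq_multiplicity p M hpB, he, ← Ideal.span_singleton_pow,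
      ← hMz]
    exact (multiplicity_eq_of_emultiplicity_eq_some
      (emultiplicity_pow_self_of_prime (Ideal.prime_of_isPrime hM0 inferInstance) e)).symm
  rw [hram', hpπ, Ideal.map_span, Set.image_singleton, Ideal.span_singleton_eq_span_singleton] at he
  obtain ⟨w, hw⟩ := he
  haveI : Unique (p.primesOver B) :=
    { default := ⟨M, inferInstance, hlo⟩
      uniq := fun ⟨Q, hQ, hQl⟩ => Subtype.ext (by
        haveI := hQ; haveI := hQl
        haveI : Q.IsMaximal := Ideal.IsMaximal.of_liesOver_isMaximal Q p
        exact (IsLocalRing.eq_maximalIdeal ‹_›).trans hMeq.symm) }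
  letI : Fintype (p.primesOver B) := Unique.fintype
  haveI : Module.Free A B := Module.free_of_finite_type_torsion_free'
  have hsum := Ideal.sum_ramification_inertia_eq_finrank p B
  rw [Fintype.sum_unique,
    show (default : p.primesOver B) = ⟨M, inferInstance, hlo⟩ from Subsingleton.elim _ _] at hsum
  have hm0 : 0 < m := Module.finrank_pos
  have hf : M.inertiaDeg A = 1 := by
    rw [hram] at hsum
    exact Nat.eq_of_mul_eq_mul_left hm0 (by rw [Nat.mul_one]; exact hsum)
  rw [Ideal.inertiaDeg_eq_of_isMaximal p M] at hf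
  letI : Field (A ⧸ p) := Ideal.Quotient.field p
  obtain ⟨v, hv⟩ : ∃ v : A, algebraMap A B v - (w⁻¹ : Bˣ) ∈ M := by
    obtain ⟨c, hc⟩ := (finrank_eq_one_iff_of_nonzero' (1 : B ⧸ M) one_ne_zero).mp hf
      (Ideal.Quotient.mk M ((w⁻¹ : Bˣ) : B))
    obtain ⟨v, rfl⟩ := Ideal.Quotient.mk_surjective c
    refine ⟨v, (Ideal.Quotient.mk_eq_mk_iff_sub_mem _ _).mp ?_⟩
    rw [← hc, Algebra.smul_def, mul_one]
    rfl
  -- hw : algebraMap A B π * w = z ^ m
  have hvu : IsUnit (algebraMap A B v) := by
    by_contra h
    have h1 : algebraMap A B v ∈ M := hMeq ▸ h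
    have := Ideal.eq_top_of_isUnit_mem M (by simpa using M.sub_mem h1 hv) (w⁻¹).isUnit
    exact Ideal.IsMaximal.ne_top inferInstance this
  set d : B := (w : B) * algebraMap A B v with hd
  have hdu : IsUnit d := w.isUnit.mul hvu
  have hd1 : d - 1 ∈ M := by
    have := Ideal.mul_mem_left M (w : B) hv
    rwa [mul_sub, Units.mul_inv] at this
  let g : Polynomial B := Polynomial.X ^ m - Polynomial.C d
  obtain ⟨t, ht, ht1⟩ := HenselianLocalRing.is_henselian g (Polynomial.monic_X_pow_sub_C _ hm0.ne') 1
    (by
      simp only [g, Polynomial.eval_sub, Polynomial.eval_pow, Polynomial.eval_X, Polynomial.eval_C, one_pow]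
      rw [← neg_sub]; exact hMeq ▸ M.neg_mem hd1)
    (by
      simp only [g, Polynomial.derivative_sub, Polynomial.derivative_X_pow, Polynomial.derivative_C, sub_zero,
        Polynomial.eval_mul, Polynomial.eval_C, Polynomial.eval_pow, Polynomial.eval_X, one_pow, mul_one]
      exact map_natCast (algebraMap A B) m ▸ hm.map (algebraMap A B))
  simp only [g, Polynomial.IsRoot, Polynomial.eval_sub, Polynomial.eval_pow, Polynomial.eval_X, Polynomial.eval_C,
    sub_eq_zero] at ht
  have htu : IsUnit t := (isUnit_pow_iff hm0.ne').mp (ht ▸ hdu)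
  obtain ⟨t, rfl⟩ := htu
  obtain ⟨vA, hvA⟩ := (show IsUnit v from by
      by_contra h
      refine Ideal.IsMaximal.ne_top (I := M) inferInstance (Ideal.eq_top_of_isUnit_mem M ?_ hvu)
      exact (Ideal.mem_of_liesOver M p v).mp h)
  let u : B := z * ((t⁻¹ : Bˣ) : B)
  have hassoc : Ideal.span {u} = M := by
    rw [hMz, Ideal.span_singleton_eq_span_singleton]
    exact ⟨t, by simp [u, mul_assoc]⟩
  have hu2 : u ∉ M ^ 2 := fun h => by
    rw [← hassoc, Ideal.span_singleton_pow, Ideal.mem_span_singleton'] at h
    obtain ⟨c, hc⟩ := h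
    have hu0 : u ≠ 0 := mul_ne_zero hz.ne_zero (Units.ne_zero _)
    have h2 : c * u = 1 := mul_right_cancel₀ hu0 (by rw [one_mul, mul_assoc, ← pow_two, hc])
    exact Ideal.IsMaximal.ne_top (I := M) inferInstance
      (hassoc ▸ Ideal.span_singleton_eq_top.mpr (IsUnit.of_mul_eq_one c ((mul_comm _ _).trans h2)))
  have hpow : u ^ m = algebraMap A B (π * ↑vA⁻¹) := by
    have hmul : u ^ m * ((t : B) ^ m) = algebraMap A B π * (w : B) := by
      rw [← mul_pow, show u * (t : B) = z by simp [u, mul_assoc], hw]
    rw [ht, hd, ← hvA] at hmul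
    refine mul_right_cancel₀ (w.isUnit.mul (vA.isUnit.map (algebraMap A B))).ne_zero ?_
    rw [hmul, map_mul, mul_assoc, mul_left_comm _ (w : B), ← map_mul, Units.inv_mul, map_one, mul_one]
  refine ⟨u, hassoc ▸ Ideal.mem_span_singleton_self u, hu2, ⟨_, hpow.symm⟩, ?_⟩
  set c := π * ↑vA⁻¹ with hc
  let q : Polynomial A := Polynomial.X ^ m - Polynomial.C c
  have hq : Irreducible q := by
    have hmon : q.Monic := Polynomial.monic_X_pow_sub_C _ hm0.ne'
    have hirr : Irreducible c := (irreducible_mul_isUnit (vA⁻¹).isUnit).mpr hπ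
    refine Polynomial.IsEisensteinAt.irreducible (𝓟 := p) ?_ (Ideal.IsMaximal.isPrime inferInstance)
      hmon.isPrimitive (by rw [Polynomial.natDegree_X_pow_sub_C]; exact hm0)
    refine hmon.isEisensteinAt_of_mem_of_notMem (Ideal.IsMaximal.ne_top inferInstance) (fun {i} hi => ?_) ?_
    · rw [Polynomial.natDegree_X_pow_sub_C] at hi
      rw [Polynomial.coeff_sub, Polynomial.coeff_X_pow, if_neg hi.ne, Polynomial.coeff_C, zero_sub]
      split
      · exact p.neg_mem ((IsLocalRing.mem_maximalIdeal _).mpr hirr.not_isUnit)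
      · simp
    · rw [Polynomial.coeff_sub, Polynomial.coeff_X_pow, if_neg hm0.ne, Polynomial.coeff_C_zero, zero_sub, neg_mem_iff,
        show p = Ideal.span {c} from hirr.maximalIdeal_eq, Ideal.span_singleton_pow, Ideal.mem_span_singleton']
      rintro ⟨b, hb⟩
      refine hirr.not_isUnit (IsUnit.of_mul_eq_one b ?_)
      exact mul_left_cancel₀ hirr.ne_zero (by linear_combination hb)
  have hdvd : minpoly A u ∣ q := minpoly.isIntegrallyClosed_dvd (Algebra.IsIntegral.isIntegral u)
    (by simp [q, hpow])
  rcases hq.dvd_iff.mp hdvd with h | h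
  · exact absurd h (minpoly.not_isUnit A u)
  · have := Polynomial.eq_of_monic_of_associated (Polynomial.monic_X_pow_sub_C c hm0.ne')
      (minpoly.monic (Algebra.IsIntegral.isIntegral u)) h
    rw [← this, Polynomial.natDegree_X_pow_sub_C]

end Groth.Agent.S11089
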