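import Groth.Statements.S11091
import Groth.Agent.FinAdic.Basic
import Mathlib.RingTheory.Henselian
import Mathlib.RingTheory.Artinian.Module
import Mathlib.RingTheory.Artinian.Algebra
import Mathlib.RingTheory.Ideal.Quotient.Operations
import Mathlib.RingTheory.DedekindDomain.Basic
import Mathlib.RingTheory.DiscreteValuationRing.Basic
import Mathlib.Algebra.Polynomial.Monic
import Mathlib.Tactic.LinearCombination
import Mathlib.Tactic.Ring

set_option autoImplicit false
universe u
attribute [local instance] FractionRing.liftAlgebra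
open CAlg Groth.Agent

namespace Groth.Agent.S11091

/-- Let A be a complete discrete valuation ring and B a Dedekind domain which is a finite torsion-free
A-algebra whose fraction field is separable over that of A (the integral closure of A in a finite
separable extension E of the fraction field F). Then B has exactly one maximal ideal; equivalently,
since the discrete valuations of E extending a multiple of the valuation of F correspond to the
nonzero primes of B, the valuation of F extends uniquely to E, and B is a complete discrete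
valuation ring. -/
theorem result (A B : Type u) [CommRing A] [IsDomain A] [IsDiscreteValuationRing A]
    [IsAdicComplete (IsLocalRing.maximalIdeal A) A]
    [CommRing B] [IsDedekindDomain B] [Algebra A B] [Module.Finite A B] [Module.IsTorsionFree A B]
    [Algebra.IsSeparable (FractionRing A) (FractionRing B)] :
    ∃! M : Ideal B, M.IsMaximal := by
  classical
  haveI : IsNoetherianRing B := isNoetherianRing_of_ringEquiv B (RingEquiv.refl B)
  set m := IsLocalRing.maximalIdeal A
  set J := m.map (algebraMap A B)
  haveI : IsAdicComplete m B := FinAdic.isAdicComplete_of_finite m B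
  haveI : IsAdicComplete J B := (IsAdicComplete.map_algebraMap_iff (S := B) (I := m) (M := B)).mpr inferInstance
  obtain ⟨M, hM⟩ := Ideal.exists_maximal B
  refine ⟨M, hM, fun M' hM' => ?_⟩
  by_contra hne
  have hover : ∀ (Q : Ideal B), Q.IsMaximal → J ≤ Q := fun Q hQ => by
    haveI := hQ
    refine Ideal.map_le_iff_le_comap.mpr ?_
    rw [IsLocalRing.eq_maximalIdeal (Ideal.isMaximal_comap_of_isIntegral_of_isMaximal (R := A) Q)]
  obtain ⟨x, hxM, hxM'⟩ := Set.not_subset.mp (fun h : (M : Set B) ⊆ M' => hne (hM.eq_of_le hM'.ne_top h).symm)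
  -- the quotient is Artinian
  haveI : Module.Finite A (B ⧸ J) := Module.Finite.of_surjective (Ideal.Quotient.mkₐ A J).toLinearMap (Ideal.Quotient.mkₐ_surjective A J)
  letI : Field (A ⧸ m) := Ideal.Quotient.field m
  letI : Algebra (A ⧸ m) (B ⧸ J) := (Ideal.quotientMap J (algebraMap A B) Ideal.le_comap_map).toAlgebra
  haveI : IsScalarTower A (A ⧸ m) (B ⧸ J) := .of_algebraMap_eq' rfl
  haveI : Module.Finite (A ⧸ m) (B ⧸ J) := Module.Finite.of_restrictScalars_finite A (A ⧸ m) (B ⧸ J)
  haveI : IsArtinianRing (B ⧸ J) := IsArtinianRing.of_finite (A ⧸ m) (B ⧸ J)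
  let x' := Ideal.Quotient.mk J x
  obtain ⟨n, y, hy⟩ := IsArtinian.exists_pow_succ_smul_dvd x' (1 : B ⧸ J)
  have hy' : x' ^ (n + 1) * y = x' ^ n := by simpa [smul_eq_mul] using hy
  have hpow : ∀ j, x' ^ n = x' ^ (n + j) * y ^ j := by
    intro j
    induction j with
    | zero => simp
    | succ j ih =>
      calc x' ^ n = x' ^ (n + j) * y ^ j := ih
        _ = x' ^ j * x' ^ n * y ^ j := by rw [← pow_add, add_comm]
        _ = x' ^ j * (x' ^ (n + 1) * y) * y ^ j := by rw [hy']
        _ = x' ^ (n + (j + 1)) * y ^ (j + 1) := by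
          rw [show n + (j + 1) = j + (n + 1) by omega, pow_add, pow_succ y j]; ring
  obtain ⟨yl, hyl⟩ := Ideal.Quotient.mk_surjective y
  -- lift the idempotent
  set e₀ := (x * yl) ^ n
  have hidem : Ideal.Quotient.mk J e₀ * Ideal.Quotient.mk J e₀ = Ideal.Quotient.mk J e₀ := by
    simp only [e₀, map_pow, map_mul, hyl]
    calc (x' * y) ^ n * (x' * y) ^ n = x' ^ (n + n) * y ^ n * y ^ n := by rw [mul_pow, pow_add]; ring
      _ = x' ^ n * y ^ n := by rw [← hpow n]
      _ = (x' * y) ^ n := (mul_pow _ _ _).symm
  have h1 : (Polynomial.X ^ 2 - Polynomial.X : Polynomial B).eval e₀ ∈ J := by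
    rw [← Ideal.Quotient.eq_zero_iff_mem]
    simp only [Polynomial.eval_sub, Polynomial.eval_pow, Polynomial.eval_mul, Polynomial.eval_X, map_sub, map_pow, sq, map_mul, hidem, sub_self]
  have h2 : IsUnit (Ideal.Quotient.mk J ((Polynomial.X ^ 2 - Polynomial.X : Polynomial B).derivative.eval e₀)) := by
    refine IsUnit.of_mul_eq_one (Ideal.Quotient.mk J ((Polynomial.X ^ 2 - Polynomial.X : Polynomial B).derivative.eval e₀)) ?_
    simp [Polynomial.derivative_pow, map_ofNat]
    linear_combination 4 * hidem
  obtain ⟨e, he, hee⟩ := HenselianRing.is_henselian (I := J) (Polynomial.X ^ 2 - Polynomial.X : Polynomial B)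
    (Polynomial.monic_X_pow_sub (by rw [Polynomial.degree_X]; norm_num)) e₀ h1 h2
  have he' : e = 0 ∨ e = 1 := by
    have : e * (e - 1) = 0 := by
      have he2 : (Polynomial.X ^ 2 - Polynomial.X : Polynomial B).eval e = 0 := he
      simp [sq] at he2
      linear_combination he2
    rcases mul_eq_zero.mp this with h | h
    · exact Or.inl h
    · exact Or.inr (sub_eq_zero.mp h)
  haveI := hM.isPrime
  haveI := hM'.isPrime
  rcases he' with h | h
  · rw [h, zero_sub, neg_mem_iff] at hee
    have hq : x ^ n ∈ J := by
      rw [← Ideal.Quotient.eq_zero_iff_mem, map_pow]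
      have := hpow n
      have h0 : (x' * y) ^ n = 0 := by
        rw [← hyl]; simp only [x', ← map_mul, ← map_pow]; exact Ideal.Quotient.eq_zero_iff_mem.mpr hee
      show x' ^ n = 0
      rw [this, pow_add, mul_assoc, ← mul_pow, h0, mul_zero]
    exact hxM' (hM'.isPrime.mem_of_pow_mem n (hover M' hM' hq))
  · rw [h] at hee
    rcases Nat.eq_zero_or_pos n with hn | hn
    · subst hn
      have : x * yl - 1 ∈ J := by
        rw [← Ideal.Quotient.eq_zero_iff_mem, map_sub, map_mul, hyl, map_one, sub_eq_zero]
        simpa using hy'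
      exact hM.ne_top ((Ideal.eq_top_iff_one M).mpr (by simpa using M.sub_mem (M.mul_mem_right yl hxM) (hover M hM this)))
    · have hM0 : e₀ ∈ M := M.pow_mem_of_mem (M.mul_mem_right yl hxM) n hn
      exact hM.ne_top ((Ideal.eq_top_iff_one M).mpr (by simpa using M.add_mem (hover M hM hee) hM0))

end Groth.Agent.S11091
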