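import Groth.Statements.S11094
import Groth.Agent.AVDeg.PointFibre
-- import your own Groth.Agent.* helpers here

set_option autoImplicit false
universe u
open CategoryTheory CategoryTheory.Limits MonoidalCategory CartesianMonoidalCategory MonObj GrpObj AlgebraicGeometry
open AbVar

open CategoryTheory CategoryTheory.Limits MonoidalCategory CartesianMonoidalCategory MonObj GrpObj AlgebraicGeometry
open scoped CategoryTheory.Obj
set_option linter.style.haveILetI false
set_option backward.isDefEq.respectTransparency false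

namespace Groth.Agent.S11094

/-- The degree of a finite flat map of integral schemes is the degree of the function field extension. -/
lemma finrank_functionField {X Y : Scheme.{u}} [IsIntegral X] [IsIntegral Y] (f : X ⟶ Y) [IsFinite f] [Flat f]
    (e : f (genericPoint X) = genericPoint Y) (y : Y) :
    letI := ((Y.presheaf.stalkSpecializes (specializes_of_eq e) ≫ f.stalkMap (genericPoint X)).hom).toAlgebra
    FiniteDimensional Y.functionField X.functionField ∧ Module.finrank Y.functionField X.functionField = f.finrank y := by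
  obtain ⟨W, hW, hy, -⟩ := exists_isAffineOpen_mem_and_subset (X := Y) (x := y) (U := ⊤) trivial
  have hV : IsAffineOpen (f ⁻¹ᵁ W) := hW.preimage f
  haveI : Nonempty W := ⟨⟨y, hy⟩⟩
  have hηY : genericPoint Y ∈ W := ((genericPoint_spec Y).specializes (Set.mem_univ y)).mem_open W.2 hy
  have hηX : genericPoint X ∈ f ⁻¹ᵁ W := show f (genericPoint X) ∈ W by rw [e]; exact hηY
  haveI : Nonempty (f ⁻¹ᵁ W) := ⟨⟨_, hηX⟩⟩
  letI a1 := ((Y.presheaf.stalkSpecializes (specializes_of_eq e) ≫ f.stalkMap (genericPoint X)).hom).toAlgebra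
  letI a2 : Algebra Γ(Y, W) Γ(X, f ⁻¹ᵁ W) := (f.app W).hom.toAlgebra
  letI a3 : Algebra Γ(Y, W) Y.functionField := (Y.presheaf.germ W _ hηY).hom.toAlgebra
  letI a4 : Algebra Γ(X, f ⁻¹ᵁ W) X.functionField := (X.presheaf.germ (f ⁻¹ᵁ W) _ hηX).hom.toAlgebra
  letI a5 : Algebra Γ(Y, W) X.functionField :=
    ((algebraMap Γ(X, f ⁻¹ᵁ W) X.functionField).comp (algebraMap Γ(Y, W) Γ(X, f ⁻¹ᵁ W))).toAlgebra
  haveI : IsScalarTower Γ(Y, W) Γ(X, f ⁻¹ᵁ W) X.functionField := IsScalarTower.of_algebraMap_eq' rfl
  haveI : IsScalarTower Γ(Y, W) Y.functionField X.functionField := IsScalarTower.of_algebraMap_eq fun r => by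
    have h1 := TopCat.Presheaf.germ_stalkSpecializes Y.presheaf hηY (specializes_of_eq e)
    have h2 := Scheme.Hom.germ_stalkMap f W (genericPoint X) hηX
    show (X.presheaf.germ (f ⁻¹ᵁ W) _ hηX) ((f.app W) r) =
      (Y.presheaf.stalkSpecializes (specializes_of_eq e) ≫ f.stalkMap (genericPoint X)) (Y.presheaf.germ W _ hηY r)
    rw [← CommRingCat.comp_apply, ← CommRingCat.comp_apply, reassoc_of% h1, h2]
  haveI : IsFractionRing Γ(Y, W) Y.functionField := functionField_isFractionRing_of_isAffineOpen Y W hW
  haveI : IsFractionRing Γ(X, f ⁻¹ᵁ W) X.functionField :=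
    functionField_isFractionRing_of_isAffineOpen X (f ⁻¹ᵁ W) hV
  have hfin : (f.app W).hom.Finite := f.finite_app W hW
  have hflat : (f.app W).hom.Flat := by
    rw [Scheme.Hom.app_eq_appLE]
    exact f.flat_appLE hW hV le_rfl
  haveI : Module.Finite Γ(Y, W) Γ(X, f ⁻¹ᵁ W) := hfin
  haveI : Module.Flat Γ(Y, W) Γ(X, f ⁻¹ᵁ W) := hflat
  haveI : FaithfulSMul Γ(Y, W) X.functionField := by
    rw [faithfulSMul_iff_algebraMap_injective, IsScalarTower.algebraMap_eq Γ(Y, W) Y.functionField X.functionField]
    exact (algebraMap Y.functionField X.functionField).injective.comp (IsFractionRing.injective _ _)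
  haveI : FaithfulSMul Γ(Y, W) Γ(X, f ⁻¹ᵁ W) := by
    rw [faithfulSMul_iff_algebraMap_injective]
    intro a b h
    have := congrArg (algebraMap Γ(X, f ⁻¹ᵁ W) X.functionField) h
    rw [← IsScalarTower.algebraMap_apply, ← IsScalarTower.algebraMap_apply] at this
    exact FaithfulSMul.algebraMap_injective _ _ this
  haveI : Algebra.IsIntegral Γ(Y, W) Γ(X, f ⁻¹ᵁ W) := Algebra.IsIntegral.of_finite _ _
  haveI : FiniteDimensional Y.functionField X.functionField :=
    Module.Finite.of_isLocalization Γ(Y, W) Γ(X, f ⁻¹ᵁ W) (nonZeroDivisors Γ(Y, W))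
  refine ⟨inferInstance, ?_⟩
  rw [IsFractionRing.finrank_eq Γ(Y, W) Y.functionField Γ(X, f ⁻¹ᵁ W) X.functionField]
  have hsq : IsPullback hV.fromSpec (Spec.map (f.app W)) f hW.fromSpec := by
    refine IsPullback.of_iso (isPullback_morphismRestrict f W).flip hV.isoSpec (Iso.refl _) hW.isoSpec (Iso.refl _)
      ?_ ?_ (by simp) ?_
    · rw [Iso.refl_hom, Category.comp_id, IsAffineOpen.fromSpec, Iso.hom_inv_id_assoc]
    · rw [← cancel_mono hW.fromSpec, Scheme.Hom.app_eq_appLE]
      simp only [Category.assoc, hW.SpecMap_appLE_fromSpec f hV le_rfl]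
      rw [IsAffineOpen.fromSpec, IsAffineOpen.fromSpec, Iso.hom_inv_id_assoc, Category.assoc,
        Iso.hom_inv_id_assoc, morphismRestrict_ι]
    · rw [Iso.refl_hom, Category.comp_id, IsAffineOpen.fromSpec, Iso.hom_inv_id_assoc]
  have hy' : hW.fromSpec (hW.primeIdealOf ⟨y, hy⟩) = y := hW.fromSpec_primeIdealOf _
  rw [← hy', ← Scheme.Hom.finrank_of_isPullback _ _ _ _ hsq,
    Scheme.Hom.finrank_SpecMap_eq_finrank hfin hflat]
  show _ = (algebraMap Γ(Y, W) Γ(X, f ⁻¹ᵁ W)).finrank _
  rw [RingHom.finrank_algebraMap, ← Ideal.finrank_fiber_eq_rankAtStalk, Ideal.finrank_fiber_eq_finrank]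

variable {k : Type u} [Field k] {E E' : Over (Spec (CommRingCat.of k))} [GrpObj E] [GrpObj E']

/-- translation by a point -/
noncomputable def tr (P : 𝟙_ (Over (Spec (CommRingCat.of k))) ⟶ E) : E ⟶ E := 𝟙 E * (toUnit E ≫ P)

lemma tr_comp (P Q : 𝟙_ (Over (Spec (CommRingCat.of k))) ⟶ E) : tr P ≫ tr Q = tr (P * Q) := by
  unfold tr
  rw [MonObj.comp_mul, Category.comp_id, ← Category.assoc, Subsingleton.elim ((𝟙 E * (toUnit E ≫ P)) ≫ toUnit E) (toUnit E),
    _root_.mul_assoc, ← MonObj.comp_mul]

lemma tr_one : tr (1 : 𝟙_ (Over (Spec (CommRingCat.of k))) ⟶ E) = 𝟙 E := by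
  unfold tr
  rw [MonObj.comp_one, _root_.mul_one]

lemma isIso_tr (P : 𝟙_ (Over (Spec (CommRingCat.of k))) ⟶ E) : IsIso (tr P) :=
  ⟨tr P⁻¹, by rw [tr_comp, _root_.mul_inv_cancel, tr_one], by rw [tr_comp, _root_.inv_mul_cancel, tr_one]⟩

lemma tr_hom_comp (φ : E ⟶ E') [IsMonHom φ] (P : 𝟙_ (Over (Spec (CommRingCat.of k))) ⟶ E) (hP : P ≫ φ = η[E']) :
    tr P ≫ φ = φ := by
  unfold tr
  rw [MonObj.mul_comp, Category.id_comp, Category.assoc, hP, ← Hom.one_def, _root_.mul_one]

lemma unit_tr (P : 𝟙_ (Over (Spec (CommRingCat.of k))) ⟶ E) : η[E] ≫ tr P = P := by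
  unfold tr
  rw [MonObj.comp_mul, Category.comp_id, ← Category.assoc, Subsingleton.elim (η[E] ≫ toUnit E) (𝟙 _),
    Category.id_comp, show (η[E] : 𝟙_ (Over (Spec (CommRingCat.of k))) ⟶ E) = 1 by
      rw [Hom.one_def, toUnit_unit, Category.id_comp], _root_.one_mul]


/-- Let k be an algebraically closed field, E and E′ elliptic curves over k — group schemes over Spec k
whose underlying schemes are proper, smooth, integral and one-dimensional — and φ : E → E′ a
homomorphism which is finite, surjective and étale (a separable isogeny), sending the generic point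
of E to that of E′, so that the function field of E′ maps into the function field of E. Then the
function field of E is a Galois extension of that of E′, and the number of its automorphisms over
the function field of E′ equals the number of k-valued points of E that φ sends to the unit of E′. -/
theorem result (k : Type u) [Field k] [IsAlgClosed k]
    (E E' : Over (Spec (CommRingCat.of k)))
    [GrpObj E] [IsProper E.hom] [Smooth E.hom] [IsIntegral E.left] (hE : topologicalKrullDim E.left = 1)
    [GrpObj E'] [IsProper E'.hom] [Smooth E'.hom] [IsIntegral E'.left] (hE' : topologicalKrullDim E'.left = 1)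
    (φ : E ⟶ E') [IsMonHom φ] [IsFinite φ.left] [Surjective φ.left] [Etale φ.left]
    (e : φ.left (genericPoint E.left) = genericPoint E'.left) :
    letI := ((E'.left.presheaf.stalkSpecializes (specializes_of_eq e) ≫
      φ.left.stalkMap (genericPoint E.left)).hom).toAlgebra
    IsGalois E'.left.functionField E.left.functionField ∧
      Nat.card (E.left.functionField ≃ₐ[E'.left.functionField] E.left.functionField) =
        Nat.card {P : 𝟙_ (Over (Spec (CommRingCat.of k))) ⟶ E // P ≫ φ = η[E']} := by
  letI alg := ((E'.left.presheaf.stalkSpecializes (specializes_of_eq e) ≫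
      φ.left.stalkMap (genericPoint E.left)).hom).toAlgebra
  haveI : IsLocallyNoetherian E'.left := LocallyOfFiniteType.isLocallyNoetherian E'.hom
  obtain ⟨hfd, hrank⟩ := finrank_functionField φ.left e (η[E'].left (IsLocalRing.closedPoint k))
  haveI := hfd
  haveI : LocallyOfFiniteType E.hom := inferInstance
  let j : Spec E.left.functionField ⟶ E.left := E.left.fromSpecStalk (genericPoint E.left)
  haveI : IsDominant j := by
    refine ⟨dense_iff_closure_eq.2 (top_le_iff.1 ?_)⟩
    show Set.univ ⊆ _
    rw [← (genericPoint_spec E.left).def]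
    refine closure_mono (Set.singleton_subset_iff.2 ?_)
    show genericPoint E.left ∈ Set.range (E.left.fromSpecStalk _)
    rw [Scheme.range_fromSpecStalk]
    exact specializes_rfl
  let Ker := {P : 𝟙_ (Over (Spec (CommRingCat.of k))) ⟶ E // P ≫ φ = η[E']}
  have hT : ∀ P : Ker, (tr P.1).left (genericPoint E.left) = genericPoint E.left := fun P => by
    haveI := isIso_tr P.1
    haveI : IsIso (tr P.1).left := inferInstanceAs (IsIso ((Over.forget _).map (tr P.1)))
    refine ((genericPoint_spec E.left).image (tr P.1).left.continuous).eq ?_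
    rw [Set.image_univ, Set.range_eq_univ.2 (tr P.1).left.surjective, closure_univ]
    exact genericPoint_spec E.left
  let σ : Ker → (E.left.functionField ⟶ E.left.functionField) := fun P =>
    E.left.presheaf.stalkSpecializes (specializes_of_eq (hT P)) ≫ (tr P.1).left.stalkMap (genericPoint E.left)
  have hσ : ∀ P : Ker, Spec.map (σ P) ≫ j = j ≫ (tr P.1).left := fun P => by
    simp only [σ, j, Spec.map_comp, Category.assoc, Scheme.SpecMap_stalkSpecializes_fromSpecStalk,
      Scheme.SpecMap_stalkMap_fromSpecStalk]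
  let ιφ : E'.left.functionField ⟶ E.left.functionField :=
    E'.left.presheaf.stalkSpecializes (specializes_of_eq e) ≫ φ.left.stalkMap (genericPoint E.left)
  have hιφ : Spec.map ιφ ≫ E'.left.fromSpecStalk (genericPoint E'.left) = j ≫ φ.left := by
    simp only [ιφ, j, Spec.map_comp, Category.assoc, Scheme.SpecMap_stalkSpecializes_fromSpecStalk,
      Scheme.SpecMap_stalkMap_fromSpecStalk]
  have hfix : ∀ P : Ker, ιφ ≫ σ P = ιφ := fun P => by
    apply Spec.map_injective
    rw [← cancel_mono (E'.left.fromSpecStalk (genericPoint E'.left)), Spec.map_comp, Category.assoc, hιφ,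
      reassoc_of% hσ P, ← Over.comp_left, tr_hom_comp φ P.1 P.2]
  let S : Ker → (E.left.functionField →ₐ[E'.left.functionField] E.left.functionField) := fun P =>
    { (σ P).hom with commutes' := fun r => congrArg (fun f : E'.left.functionField ⟶ E.left.functionField => f.hom r) (hfix P) }
  let A : Ker → (E.left.functionField ≃ₐ[E'.left.functionField] E.left.functionField) := fun P =>
    AlgEquiv.ofBijective (S P) (Algebra.IsAlgebraic.algHom_bijective (S P))
  have hA : Function.Injective A := fun P Q h => by
    have h1 : σ P = σ Q := CommRingCat.hom_ext (RingHom.ext fun x => congrArg (fun a : E.left.functionField ≃ₐ[E'.left.functionField] E.left.functionField => a x) h)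
    have h2 : (tr P.1).left = (tr Q.1).left :=
      ext_of_isDominant_of_isSeparated E.hom ((Over.w _).trans (Over.w _).symm) j (by rw [← hσ, ← hσ, h1])
    exact Subtype.ext (by rw [← unit_tr P.1, ← unit_tr Q.1, show tr P.1 = tr Q.1 from Over.OverMorphism.ext h2])
  have hcard : Nat.card Ker = Module.finrank E'.left.functionField E.left.functionField :=
    (AVDeg.natCard_fibre_etale φ η[E']).trans hrank.symm
  haveI : Finite (E.left.functionField ≃ₐ[E'.left.functionField] E.left.functionField) := inferInstance
  have h1 := Nat.card_le_card_of_injective A hA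
  have h2 : Nat.card (E.left.functionField ≃ₐ[E'.left.functionField] E.left.functionField) ≤
      Module.finrank E'.left.functionField E.left.functionField :=
    (Nat.card_le_card_of_injective (fun a => a.toAlgHom) fun a b h => AlgEquiv.ext fun x => AlgHom.congr_fun h x).trans
      (card_algHom_le_finrank E'.left.functionField E.left.functionField E.left.functionField)
  have h3 : Nat.card (E.left.functionField ≃ₐ[E'.left.functionField] E.left.functionField) =
      Module.finrank E'.left.functionField E.left.functionField := le_antisymm h2 (hcard ▸ h1)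
  exact ⟨IsGalois.of_card_aut_eq_finrank _ _ h3, h3.trans hcard.symm⟩

end Groth.Agent.S11094
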