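import Groth.Statements.S11096
import Mathlib

set_option autoImplicit false
universe u
open Neron

namespace Groth.Agent.S11096

/-- Let a Weierstrass equation have coefficients in a commutative ring R and let I be an ideal with a₃,
a₄, a₆ ∈ I. If the discriminant Δ does not lie in I ^ 2, then a₆ does not lie in I ^ 2 and b₂ does
not lie in I. (For a discrete valuation ring with maximal ideal (π): if π divides a₃, a₄, a₆ and
v(Δ) = 1, then v(a₆) = 1 and π does not divide b₂.) -/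
theorem result {R : Type u} [CommRing R] (W : WeierstrassCurve R)
    (I : Ideal R) (h3 : W.a₃ ∈ I) (h4 : W.a₄ ∈ I) (h6 : W.a₆ ∈ I) (hΔ : W.Δ ∉ I ^ 2) :
    W.a₆ ∉ I ^ 2 ∧ W.b₂ ∉ I := by
  have key : (W.a₆ ∈ I ^ 2 ∨ W.b₂ ∈ I) → W.Δ ∈ I ^ 2 := by
    intro h
    rw [← Ideal.Quotient.eq_zero_iff_mem]
    have hb4 : W.b₄ ∈ I := by
      rw [WeierstrassCurve.b₄]
      exact add_mem (Ideal.mul_mem_left _ _ h4) (Ideal.mul_mem_left _ _ h3)
    have hb6 : W.b₆ ∈ I := by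
      rw [WeierstrassCurve.b₆, pow_two]
      exact add_mem (Ideal.mul_mem_left _ _ h3) (Ideal.mul_mem_left _ _ h6)
    have h2 : W.b₂ * W.a₆ ∈ I ^ 2 := by
      rcases h with h | h
      · exact Ideal.mul_mem_left _ _ h
      · rw [pow_two]; exact Ideal.mul_mem_mul h h6
    have hsq : ∀ {x y : R}, x ∈ I → y ∈ I → x * y ∈ I ^ 2 := fun hx hy => by
      rw [pow_two]; exact Ideal.mul_mem_mul hx hy
    rw [Ideal.Quotient.eq_zero_iff_mem, show W.Δ = -W.b₂ * W.b₂ * (W.b₂ * W.a₆) +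
      (W.b₂ ^ 2 * W.a₁ * (W.a₃ * W.a₄) - W.b₂ ^ 2 * W.a₂ * (W.a₃ * W.a₃) + W.b₂ ^ 2 * (W.a₄ * W.a₄)) +
      (-8 * W.b₄) * (W.b₄ * W.b₄) - 27 * (W.b₆ * W.b₆) + 9 * W.b₂ * (W.b₄ * W.b₆) by
        simp only [WeierstrassCurve.Δ, WeierstrassCurve.b₈, WeierstrassCurve.b₂]; ring]
    exact add_mem (sub_mem (add_mem (add_mem (Ideal.mul_mem_left _ _ h2)
      (add_mem (sub_mem (Ideal.mul_mem_left _ _ (hsq h3 h4)) (Ideal.mul_mem_left _ _ (hsq h3 h3)))
        (Ideal.mul_mem_left _ _ (hsq h4 h4))))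
      (Ideal.mul_mem_left _ _ (hsq hb4 hb4))) (Ideal.mul_mem_left _ _ (hsq hb6 hb6)))
      (Ideal.mul_mem_left _ _ (hsq hb4 hb6))
  exact ⟨fun h => hΔ (key (Or.inl h)), fun h => hΔ (key (Or.inr h))⟩

end Groth.Agent.S11096
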