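import Groth.Statements.S11097
import Mathlib
import Groth.Agent.SerreReg.Regular

set_option autoImplicit false
universe u
open Polynomial
open Neron

namespace Groth.Agent.S11097

open Polynomial

theorem quot_regular {R B : Type u} [CommRing R] [IsLocalRing R] [CommRing B] [IsRegularRing B] (ev : B →+* R) (Q : Ideal B)
    [Q.IsMaximal] (hQev : ∀ g ∈ Q, ev g ∈ IsLocalRing.maximalIdeal R) (F : B) (hFQ : F ∈ Q)
    (hF : ev F ∉ IsLocalRing.maximalIdeal R ^ 2) :
    IsRegularLocalRing (Localization.AtPrime Q ⧸ Ideal.span {algebraMap B (Localization.AtPrime Q) F}) := by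
  haveI : IsRegularLocalRing (Localization.AtPrime Q) := IsRegularRing.isRegularLocalRing_localization Q
  have hQ : Q = (IsLocalRing.maximalIdeal R).comap ev :=
    (inferInstance : Q.IsMaximal).eq_of_le (Ideal.comap_ne_top _ Ideal.IsPrime.ne_top') hQev
  have hunit : ∀ y : Q.primeCompl, IsUnit (ev y) := by
    rintro ⟨y, hy⟩
    by_contra hne
    exact hy (hQ.symm ▸ (IsLocalRing.mem_maximalIdeal _).2 hne)
  let evL : Localization.AtPrime Q →+* R := IsLocalization.lift (g := ev) hunit
  have hevL : ∀ g : B, evL (algebraMap B _ g) = ev g := fun g => IsLocalization.lift_eq hunit g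
  refine (SerreReg.isRegularLocalRing_quot ((IsLocalization.AtPrime.to_map_mem_maximal_iff _ Q F).2 hFQ) (fun h => hF ?_)).1
  have hle : (IsLocalRing.maximalIdeal (Localization.AtPrime Q)).map evL ≤ IsLocalRing.maximalIdeal R := by
    rw [← Localization.AtPrime.map_eq_maximalIdeal, Ideal.map_map, Ideal.map_le_iff_le_comap]
    intro g hg
    show evL (algebraMap B _ g) ∈ IsLocalRing.maximalIdeal R
    rw [hevL]; exact hQev g hg
  have h' := Ideal.mem_map_of_mem evL h
  rw [Ideal.map_pow, hevL] at h'
  exact Ideal.pow_right_mono hle 2 h'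

theorem quot_loc {B A : Type u} [CommRing B] [CommRing A] (f : B →+* A) (hf : Function.Surjective f) (F : B)
    (hker : RingHom.ker f = Ideal.span {F}) (P : Ideal A) [P.IsPrime] (Q : Ideal B) [Q.IsPrime] (hQ : Q = P.comap f)
    (h : IsRegularLocalRing (Localization.AtPrime Q ⧸ Ideal.span {algebraMap B (Localization.AtPrime Q) F})) :
    IsRegularLocalRing (Localization.AtPrime P) := by
  subst hQ
  let J := (RingHom.ker f).map (algebraMap B (Localization.AtPrime (P.comap f)))
  have hJ : J = Ideal.span {algebraMap B (Localization.AtPrime (P.comap f)) F} := by simp [J, hker, Ideal.map_span]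
  let e : (B ⧸ RingHom.ker f) ≃+* A := RingHom.quotientKerEquivOfSurjective hf
  have hS : (Algebra.algebraMapSubmonoid (B ⧸ RingHom.ker f) (P.comap f).primeCompl).map e.toMonoidHom = P.primeCompl := by
    ext z
    constructor
    · rintro ⟨_, ⟨y, hy, rfl⟩, rfl⟩
      exact fun h => hy h
    · intro hz
      obtain ⟨y, rfl⟩ := hf z
      exact ⟨_, ⟨y, hz, rfl⟩, rfl⟩
  let eloc : (Localization.AtPrime (P.comap f) ⧸ J) ≃+* Localization.AtPrime P :=
    IsLocalization.ringEquivOfRingEquiv (M := Algebra.algebraMapSubmonoid (B ⧸ RingHom.ker f) (P.comap f).primeCompl)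
      (T := P.primeCompl) _ (Localization.AtPrime P) e hS
  exact IsRegularLocalRing.of_ringEquiv ((Ideal.quotEquivOfEq hJ.symm).trans eloc)


/-- Let R be a discrete valuation ring with maximal ideal m and let y² + a₁xy + a₃y = x³ + a₂x² + a₄x +
a₆ be a Weierstrass equation with coefficients in R such that a₃, a₄, a₆ ∈ m and a₆ ∉ m². Then the
affine scheme defined by the equation over R is regular at the point π = x = y = 0 of its special
fibre: the localization of the coordinate ring at a maximal ideal containing the image of m and the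
classes of x and y is a regular local ring. (The published statement asserts regularity of the
projective Weierstrass scheme; this row states it at the point π = x = y = 0 of the special fibre.) -/
theorem result (R : Type u) [CommRing R] [IsDomain R]
    [IsDiscreteValuationRing R] (W : WeierstrassCurve.Affine R)
    (h3 : W.a₃ ∈ IsLocalRing.maximalIdeal R) (h4 : W.a₄ ∈ IsLocalRing.maximalIdeal R)
    (h6 : W.a₆ ∈ IsLocalRing.maximalIdeal R) (h6' : W.a₆ ∉ IsLocalRing.maximalIdeal R ^ 2)
    (P : Ideal W.CoordinateRing) [P.IsMaximal]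
    (hP : ∀ r ∈ IsLocalRing.maximalIdeal R, algebraMap R W.CoordinateRing r ∈ P)
    (hx : WeierstrassCurve.Affine.CoordinateRing.mk W (C X) ∈ P)
    (hy : WeierstrassCurve.Affine.CoordinateRing.mk W X ∈ P) :
    IsRegularLocalRing (Localization.AtPrime P) := by
  classical
  let B := Polynomial (Polynomial R)
  let F : B := W.polynomial
  let mkF : B →+* W.CoordinateRing := WeierstrassCurve.Affine.CoordinateRing.mk W
  have hsurj : Function.Surjective mkF := AdjoinRoot.mk_surjective
  have hker : RingHom.ker mkF = Ideal.span {F} := by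
    ext g; exact AdjoinRoot.mk_eq_zero.trans Ideal.mem_span_singleton.symm
  let Q : Ideal B := P.comap mkF
  haveI : Q.IsMaximal := Ideal.comap_isMaximal_of_surjective mkF hsurj
  let ev : B →+* R := ((evalRingHom (0 : R)).comp (evalRingHom (0 : Polynomial R)) : Polynomial (Polynomial R) →+* R)
  have hev : ∀ g : Polynomial (Polynomial R), ev g = (g.eval 0).eval 0 := fun g => rfl
  have hevF : ev F = -W.a₆ := by simp [hev, F, WeierstrassCurve.Affine.polynomial]
  have hFQ : F ∈ Q := by
    show mkF F ∈ P
    rw [AdjoinRoot.mk_self]; exact zero_mem _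
  have hQev : ∀ g ∈ Q, ev g ∈ IsLocalRing.maximalIdeal R := by
    intro g hg
    by_contra hne
    have h1 : g - C (C (ev g)) ∈ Q := by
      have e1 : g = g.divX * X + C ((g.coeff 0).divX * X + C ((g.coeff 0).coeff 0)) := by
        rw [Polynomial.divX_mul_X_add, Polynomial.divX_mul_X_add]
      have e2 : ev g = (g.coeff 0).coeff 0 := by simp [hev, Polynomial.coeff_zero_eq_eval_zero]
      have e3 : g - C (C (ev g)) = g.divX * X + C (g.coeff 0).divX * C X := by
        rw [e2]; nth_rewrite 1 [e1]; rw [map_add, map_mul]; ring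
      rw [e3]
      exact Q.add_mem (Q.mul_mem_left _ hy) (Q.mul_mem_left _ hx)
    have h2 : C (C (ev g)) ∈ Q := (Submodule.sub_mem_iff_right _ hg).1 h1
    have hu : IsUnit (ev g) := by simpa [IsLocalRing.mem_maximalIdeal] using hne
    exact (inferInstance : Q.IsMaximal).ne_top (Ideal.eq_top_of_isUnit_mem _ h2 ((hu.map C).map C))
  haveI : IsRegularRing R := isRegularRing_iff.2 fun q _ => by
    haveI : IsPrincipalIdealRing (Localization.AtPrime q) := ⟨fun I => by
      obtain ⟨a, ha⟩ := (IsPrincipalIdealRing.principal (I.under R)).principal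
      exact ⟨⟨algebraMap R _ a, by
        rw [← IsLocalization.map_comap q.primeCompl (Localization.AtPrime q) I, ha]
        exact (Ideal.map_span _ _).trans (by rw [Set.image_singleton])⟩⟩⟩
    infer_instance
  have hF : ev F ∉ IsLocalRing.maximalIdeal R ^ 2 := by rw [hevF, neg_mem_iff]; exact h6'
  exact quot_loc mkF hsurj F hker P Q rfl (quot_regular ev Q hQev F hFQ hF)

end Groth.Agent.S11097
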