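import Groth.Statements.S11100
import Groth.Agent.GrpField.SmoothPoint
import Groth.Agent.SmDesc.Scheme
import Groth.Agent.CMFlat.Scheme
import Groth.Agent.SerreReg.Regular

set_option autoImplicit false
universe u
open CategoryTheory AlgebraicGeometry
open Neron

namespace Groth.Agent.S11100

/-- At a rational point regularity is smoothness. -/
theorem rational_point {K : Type u} [Field K] {F : Scheme.{u}} (g : F ⟶ Spec (CommRingCat.of K))
    [LocallyOfFinitePresentation g] (s : Spec (CommRingCat.of K) ⟶ F) (hs : s ≫ g = 𝟙 _)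
    (h : IsRegularLocalRing (F.presheaf.stalk (s (IsLocalRing.closedPoint K)))) :
    s (IsLocalRing.closedPoint K) ∈ g.smoothLocus := by
  let e : F := s (IsLocalRing.closedPoint K)
  let T : (Spec (CommRingCat.of K)).Opens := ⊤
  have hT : IsAffineOpen T := isAffineOpen_top _
  obtain ⟨V, hV, heV, -⟩ := exists_isAffineOpen_mem_and_subset (X := F) (x := e) (U := ⊤) trivial
  have hsV : T ≤ s ⁻¹ᵁ V := by
    rintro x -
    show s x ∈ V
    rwa [show x = IsLocalRing.closedPoint K from Subsingleton.elim (α := PrimeSpectrum K) _ _]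
  have hVT : V ≤ g ⁻¹ᵁ T := le_top
  let ε := s.appLE V T hsV
  have hε : g.appLE T V hVT ≫ ε = 𝟙 _ := by
    rw [Scheme.Hom.appLE_comp_appLE]
    simp [hs]
    rfl
  let R := Γ(Spec (CommRingCat.of K), T)
  have hR : IsField R := MulEquiv.isField (Field.toIsField K)
    (Scheme.ΓSpecIso (CommRingCat.of K)).commRingCatIsoToRingEquiv.toMulEquiv
  letI : Field R := hR.toField
  letI : Algebra R Γ(F, V) := (g.appLE T V hVT).hom.toAlgebra
  have : Algebra.FiniteType R Γ(F, V) := g.finiteType_appLE hT hV hVT
  let m := (hV.primeIdealOf ⟨e, heV⟩).asIdeal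
  have hm : m = RingHom.ker ε.hom := by
    have h := IsAffineOpen.comap_primeIdealOf_appLE (f := s) (x := IsLocalRing.closedPoint K) V hV T hT hsV trivial
    have h' : Ideal.comap ε.hom (hT.primeIdealOf ⟨IsLocalRing.closedPoint K, trivial⟩).asIdeal = m :=
      congrArg PrimeSpectrum.asIdeal h
    have hbot : ∀ q : Ideal R, q.IsPrime → q = ⊥ := fun q hq =>
      (Ideal.eq_bot_or_top q).resolve_right hq.ne_top
    rw [hbot _ (hT.primeIdealOf _).2] at h'
    exact h'.symm
  have hεc : ∀ c : R, ε (algebraMap R Γ(F, V) c) = c := fun c =>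
    congr($hε c)
  have hres : ∀ b : Γ(F, V), ∃ c : R, b - algebraMap R Γ(F, V) c ∈ m := fun b =>
    ⟨ε b, by rw [hm, RingHom.mem_ker, map_sub, sub_eq_zero]; exact (hεc _).symm⟩
  have hmax : m.IsMaximal := by
    rw [hm]
    exact RingHom.ker_isMaximal_of_surjective ε.hom fun c => ⟨_, hεc c⟩
  rw [Scheme.Hom.mem_smoothLocus, formallySmooth_stalkMap_iff T hT V hV hVT heV]
  have hloc := hV.isLocalization_stalk ⟨e, heV⟩
  show Algebra.FormallySmooth R (Localization.AtPrime m)
  rw [← Groth.Agent.GrpField.regular_iff_smoothAt_of_residue m hres]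
  let := TopCat.Presheaf.algebra_section_stalk F.presheaf ⟨e, heV⟩
  haveI : IsLocalization m.primeCompl (F.presheaf.stalk e) := hloc
  exact IsRegularLocalRing.of_ringEquiv
    (IsLocalization.algEquiv m.primeCompl (F.presheaf.stalk e) (Localization.AtPrime m)).toRingEquiv

theorem map_max_le {A B : Type u} [CommRing A] [IsLocalRing A] [CommRing B] [IsLocalRing B] (a : A →+* B) [IsLocalHom a] :
    (IsLocalRing.maximalIdeal A).map a ≤ IsLocalRing.maximalIdeal B :=
  Ideal.map_le_iff_le_comap.2 fun x hx => map_nonunit a x hx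

open IsLocalRing in
/-- Closed fibres along a retraction are regular. -/
theorem regular_quot {A B A' : Type u} [CommRing A] [IsLocalRing A] [IsDomain A] [IsPrincipalIdealRing A]
    [CommRing B] [IsLocalRing B] [IsRegularLocalRing B] [CommRing A'] [IsLocalRing A'] (a : A →+* B) [IsLocalHom a]
    (σ : B →+* A') [IsLocalHom σ] (hσ : Function.Bijective (σ.comp a)) :
    IsRegularLocalRing (B ⧸ (maximalIdeal A).map a) := by
  obtain ⟨π, hπ⟩ := (IsPrincipalIdealRing.principal (maximalIdeal A)).principal
  rw [hπ, Ideal.submodule_span_eq, Ideal.map_span, Set.image_singleton]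
  by_cases h0 : a π = 0
  · exact IsRegularLocalRing.of_ringEquiv
      ((RingEquiv.quotientBot B).symm.trans (Ideal.quotEquivOfEq (by simp [h0])))
  refine (Groth.Agent.SerreReg.isRegularLocalRing_quot ?_ ?_).1
  · exact map_max_le a
      (Ideal.mem_map_of_mem a (hπ ▸ Ideal.mem_span_singleton_self π))
  intro h2
  have h3 : σ (a π) ∈ maximalIdeal A' ^ 2 := by
    have h4 := Ideal.mem_map_of_mem σ h2
    rw [Ideal.map_pow] at h4
    exact Ideal.pow_right_mono (map_max_le σ) 2 h4
  let e := RingEquiv.ofBijective (σ.comp a) hσ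
  have h5 : π ∈ maximalIdeal A ^ 2 := by
    have h6 := Ideal.mem_map_of_mem e.symm.toRingHom (show e π ∈ maximalIdeal A' ^ 2 from h3)
    rw [Ideal.map_pow, show e.symm.toRingHom (e π) = π from e.symm_apply_apply π] at h6
    exact Ideal.pow_right_mono (@map_max_le _ _ _ _ _ _ e.symm.toRingHom
      ⟨fun x hx => (isUnit_map_iff e.symm x).1 hx⟩) 2 h6
  rw [hπ, Ideal.submodule_span_eq, Ideal.span_singleton_pow, Ideal.mem_span_singleton] at h5
  obtain ⟨c, hc⟩ := h5
  apply h0
  have hmem : π ∈ maximalIdeal A := hπ ▸ Ideal.mem_span_singleton_self π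
  have hu : IsUnit (1 - π * c) := IsLocalRing.isUnit_one_sub_self_of_mem_nonunits _
    ((maximalIdeal A).mul_mem_right c hmem)
  have : π * (1 - π * c) = 0 := by rw [mul_sub, mul_one, ← mul_assoc, ← pow_two, ← hc, sub_self]
  rw [(hu.mul_left_eq_zero).1 this, map_zero]


/-- Let R be a Dedekind domain and p : X → Spec R flat and locally of finite presentation with X regular
(all local rings regular). Then every section s of p factors through the smooth locus of p: for
every point t of Spec R, p is smooth at s(t). (The published statement is for regular arithmetic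
surfaces over a Dedekind domain with perfect residue fields; this row assumes only that X is flat,
locally of finite presentation and regular.) -/
theorem result {R : Type u} [CommRing R] [IsDedekindDomain R]
    {X : Scheme.{u}} (p : X ⟶ Spec (CommRingCat.of R)) [Flat p] [LocallyOfFinitePresentation p]
    (hreg : ∀ x : X, IsRegularLocalRing (X.presheaf.stalk x))
    (s : Spec (CommRingCat.of R) ⟶ X) (hs : s ≫ p = 𝟙 _) (t : Spec (CommRingCat.of R)) :
    s.base t ∈ p.smoothLocus := by
  haveI : IsLocallyNoetherian X := LocallyOfFiniteType.isLocallyNoetherian p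
  obtain ⟨m, hm, hle⟩ := Ideal.exists_le_maximal (PrimeSpectrum.asIdeal t) t.2.ne_top
  let t₀ : Spec (CommRingCat.of R) := ⟨m, hm.isPrime⟩
  suffices h : s.base t₀ ∈ p.smoothLocus by
    exact (((PrimeSpectrum.le_iff_specializes t t₀).1 hle).map s.continuous).mem_open p.smoothLocus.isOpen h
  set x := s.base t₀
  have hsp : ∀ w, p (s w) = w := fun w => by rw [← Scheme.Hom.comp_apply, hs]; rfl
  haveI : IsRegularLocalRing (X.presheaf.stalk x) := hreg x
  have hfib : IsRegularLocalRing ((p.fiber (p x)).presheaf.stalk (p.asFiber x)) := by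
    obtain ⟨e⟩ := Groth.Agent.CMFlat.nonempty_fiberStalk_equiv p x
    haveI hpp : (p x).asIdeal.IsPrime := (p x).2
    letI : Algebra R ((Spec.structureSheaf R).presheaf.stalk (p x : PrimeSpectrum R)) := StructureSheaf.stalkAlgebra (R := R) (p x : PrimeSpectrum R)
    haveI : IsLocalization.AtPrime ((Spec.structureSheaf R).presheaf.stalk (p x : PrimeSpectrum R)) (p x).asIdeal :=
      StructureSheaf.IsLocalization.to_stalk (R := R) (p x : PrimeSpectrum R)
    let e' : ((Spec (CommRingCat.of R)).presheaf.stalk (p x)) ≃+* Localization.AtPrime (p x).asIdeal :=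
      (IsLocalization.algEquiv (p x).asIdeal.primeCompl ((Spec.structureSheaf R).presheaf.stalk (p x : PrimeSpectrum R))
        (Localization.AtPrime (p x).asIdeal)).toRingEquiv
    haveI : IsDomain ((Spec (CommRingCat.of R)).presheaf.stalk (p x)) := e'.toMulEquiv.isDomain _
    haveI : IsPrincipalIdealRing ((Spec (CommRingCat.of R)).presheaf.stalk (p x)) :=
      IsPrincipalIdealRing.of_surjective e'.symm.toRingHom e'.symm.surjective
    haveI := regular_quot (p.stalkMap x).hom (s.stalkMap t₀).hom (by
      have : IsIso (s ≫ p) := by rw [hs]; infer_instance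
      have h := ConcreteCategory.bijective_of_isIso ((s ≫ p).stalkMap t₀)
      rw [Scheme.Hom.stalkMap_comp] at h
      exact h)
    exact IsRegularLocalRing.of_ringEquiv e
  let r : Spec ((Spec (CommRingCat.of R)).residueField (p x)) ⟶ p.fiber (p x) :=
    Limits.pullback.lift ((Spec (CommRingCat.of R)).fromSpecResidueField (p x) ≫ s) (𝟙 _) (by
      rw [Category.assoc, hs, Category.comp_id, Category.id_comp])
  have hr : r (IsLocalRing.closedPoint _) = p.asFiber x := by
    apply (p.fiberι (p x)).isEmbedding.injective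
    refine Eq.trans ?_ (p.fiberι_asFiber x).symm
    change (r ≫ p.fiberι (p x)) (IsLocalRing.closedPoint _) = x
    erw [Limits.pullback.lift_fst]
    change s ((Spec (CommRingCat.of R)).fromSpecResidueField (p x) _) = x
    exact congrArg s.base (((Spec (CommRingCat.of R)).fromSpecResidueField_apply _ _).trans (hsp t₀))
  haveI : LocallyOfFinitePresentation (p.fiberToSpecResidueField (p x)) :=
    inferInstanceAs (LocallyOfFinitePresentation (Limits.pullback.snd p _))
  haveI : LocallyOfFinitePresentation (Limits.pullback.snd p ((Spec (CommRingCat.of R)).fromSpecResidueField (p x))) := inferInstance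
  have h := @rational_point _ _ _ (p.fiberToSpecResidueField (p x)) (by assumption) r (Limits.pullback.lift_snd _ _ _) (hr ▸ hfib)
  erw [hr] at h
  exact Groth.Agent.SmDesc.mem_smoothLocus_of_flat_fibre _ (p.fiberι_asFiber x) h


end Groth.Agent.S11100
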