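import Groth.Statements.S11103
import Mathlib.AlgebraicGeometry.Morphisms.Etale
import Mathlib.AlgebraicGeometry.Morphisms.FinitePresentation

set_option autoImplicit false
universe u
open CategoryTheory CategoryTheory.Limits AlgebraicGeometry
open Neron

namespace Groth.Agent.S11103

/-- The generic point of a finite torsion-free extension is the base change of the generic point. -/
theorem isPullback_genPt (R R' : Type u) [CommRing R] [IsDomain R] [CommRing R'] [IsDomain R']
    [Algebra R R'] [Module.Finite R R'] (hinj : Function.Injective (algebraMap R R')) :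
    ∃ κ : Spec (CommRingCat.of (FractionRing R')) ⟶ Spec (CommRingCat.of (FractionRing R)),
      IsPullback (Neron.genPt R') κ (Spec.map (CommRingCat.ofHom (algebraMap R R'))) (Neron.genPt R) := by
  let φ : FractionRing R →+* FractionRing R' :=
    IsFractionRing.lift (g := (algebraMap R' (FractionRing R')).comp (algebraMap R R'))
      ((IsFractionRing.injective R' (FractionRing R')).comp hinj)
  letI : Algebra (FractionRing R) (FractionRing R') := φ.toAlgebra
  have e : ∀ r : R, φ (algebraMap R (FractionRing R) r) =
      algebraMap R' (FractionRing R') (algebraMap R R' r) :=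
    fun r => IsFractionRing.lift_algebraMap _ r
  haveI : IsScalarTower R (FractionRing R) (FractionRing R') := IsScalarTower.of_algebraMap_eq fun r =>
    (IsScalarTower.algebraMap_apply R R' (FractionRing R') r).trans (e r).symm
  haveI : IsLocalization (Algebra.algebraMapSubmonoid R' (nonZeroDivisors R)) (FractionRing R') := by
    refine (IsLocalization.iff_of_le_of_exists_dvd _ (nonZeroDivisors R') ?_ ?_).mpr inferInstance
    · rintro _ ⟨r, hr, rfl⟩
      exact mem_nonZeroDivisors_of_ne_zero fun h => nonZeroDivisors.ne_zero hr (hinj (h.trans (map_zero _).symm))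
    · intro x hx
      have hne : (Ideal.span {x}).comap (algebraMap R R') ≠ ⊥ :=
        Ideal.comap_ne_bot_of_integral_mem (nonZeroDivisors.ne_zero hx) (Ideal.mem_span_singleton_self x)
          (Algebra.IsIntegral.isIntegral x)
      obtain ⟨r, hr, hr0⟩ := Submodule.exists_mem_ne_zero_of_ne_bot hne
      exact ⟨_, ⟨r, mem_nonZeroDivisors_of_ne_zero hr0, rfl⟩, Ideal.mem_span_singleton.mp hr⟩
  haveI := Algebra.isPushout_of_isLocalization (R := R) (nonZeroDivisors R) (FractionRing R) (T := R') (B := FractionRing R')
  refine ⟨Spec.map (CommRingCat.ofHom φ), isPullback_SpecMap_of_isPushout _ _ _ _ ?_⟩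
  exact CommRingCat.isPushout_of_isPushout R R' (FractionRing R) (FractionRing R')



/-- Let R be a Dedekind domain with fraction field K, let R' be a Dedekind domain finite étale over R
(the integral closure of R in a finite unramified extension K' of K), and let N be a Néron model
over Spec R of its generic fibre N_K. Then the base change N' = N ×_R R' is a Néron model over Spec
R' of its generic fibre N'_{K'}: it is smooth, separated and of finite type over Spec R', and every
K'-morphism from the generic fibre of a smooth R'-scheme to N'_{K'} extends uniquely to an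
R'-morphism into N'. (The published statement concerns the Néron model of an elliptic curve with the
mapping property for rational maps; this row allows any N and tests the mapping property on
morphisms from smooth schemes. The property generally fails for ramified extensions.) -/
theorem result (R R' : Type u) [CommRing R] [IsDedekindDomain R]
    [CommRing R'] [IsDedekindDomain R'] [Algebra R R'] [Module.Finite R R'] [Algebra.Etale R R']
    (N : Over (Spec (CommRingCat.of R)))
    (hN : Neron.IsNeronModelOf R N ((Neron.genericFibre R).obj N) (Iso.refl _)) :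
    Neron.IsNeronModelOf R'
      ((Over.pullback (Spec.map (CommRingCat.ofHom (algebraMap R R')))).obj N)
      ((Neron.genericFibre R').obj ((Over.pullback (Spec.map (CommRingCat.ofHom (algebraMap R R')))).obj N))
      (Iso.refl _) := by
  obtain ⟨hs, hsep, hlft, hqc, hbij⟩ := hN
  have hinj : Function.Injective (algebraMap R R') := by
    rw [injective_iff_map_eq_zero]
    intro r hr
    by_contra h
    have h1 := Module.Flat.lTensor_preserves_injective_linearMap (R := R) (M := R')
      (LinearMap.lsmul R R r) (fun a b hab => mul_left_cancel₀ h hab)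
    have h2 := h1 (a₁ := (1 : R') ⊗ₜ[R] (1 : R)) (a₂ := 0) (by
      rw [LinearMap.lTensor_tmul, map_zero]
      show (1 : R') ⊗ₜ[R] (r • (1 : R)) = 0
      rw [← TensorProduct.smul_tmul, Algebra.smul_def, hr, zero_mul, TensorProduct.zero_tmul])
    have h3 := congrArg (TensorProduct.rid R R') h2
    simp at h3
  obtain ⟨κ, hκ⟩ := isPullback_genPt R R' hinj
  let f := Spec.map (CommRingCat.ofHom (algebraMap R R'))
  haveI : AlgebraicGeometry.Etale f := by
    rw [show f = Spec.map (CommRingCat.ofHom (algebraMap R R')) from rfl, HasRingHomProperty.Spec_iff (P := @AlgebraicGeometry.Etale)]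
    exact RingHom.etale_algebraMap.mpr inferInstance
  have h1 : Smooth (pullback.snd N.hom f) := inferInstance
  have h2 : IsSeparated (pullback.snd N.hom f) := inferInstance
  have h3 : LocallyOfFiniteType (pullback.snd N.hom f) := inferInstance
  have h4 : QuasiCompact (pullback.snd N.hom f) := inferInstance
  refine ⟨h1, h2, h3, h4, fun Y hY => ?_⟩
  let Y₀ : Over (Spec (CommRingCat.of R)) := (Over.map f).obj Y
  haveI := hY
  haveI : Smooth f := inferInstance
  have hY₀ : Smooth Y₀.hom := show Smooth (Y.hom ≫ f) from inferInstance
  have hP : IsPullback (pullback.fst Y.hom (Neron.genPt R')) (pullback.snd Y.hom (Neron.genPt R') ≫ κ)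
      (Y.hom ≫ f) (Neron.genPt R) := (IsPullback.of_hasPullback _ _).paste_vert hκ
  let j := hP.isoPullback
  have hj₁ : j.hom ≫ pullback.fst (Y.hom ≫ f) (Neron.genPt R) = pullback.fst Y.hom (Neron.genPt R') :=
    hP.isoPullback_hom_fst
  have hj₂ : j.hom ≫ pullback.snd (Y.hom ≫ f) (Neron.genPt R) = pullback.snd Y.hom (Neron.genPt R') ≫ κ :=
    hP.isoPullback_hom_snd
  let N' := (Over.pullback f).obj N
  have mR : ∀ u : Y₀ ⟶ N, ((Neron.genericFibre R).map u).left ≫ pullback.fst N.hom (Neron.genPt R) =
      pullback.fst (Y.hom ≫ f) (Neron.genPt R) ≫ u.left := fun u => pullback.lift_fst _ _ _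
  have mR' : ∀ a : Y ⟶ N', ((Neron.genericFibre R').map a).left ≫ pullback.fst N'.hom (Neron.genPt R') =
      pullback.fst Y.hom (Neron.genPt R') ≫ a.left := fun a => pullback.lift_fst _ _ _
  have sY : ∀ (m : (Neron.genericFibre R').obj Y ⟶ (Neron.genericFibre R').obj N'),
      m.left ≫ pullback.snd N'.hom (Neron.genPt R') = pullback.snd Y.hom (Neron.genPt R') := fun m => Over.w m
  have sY₀ : ∀ (m : (Neron.genericFibre R).obj Y₀ ⟶ (Neron.genericFibre R).obj N),
      m.left ≫ pullback.snd N.hom (Neron.genPt R) = pullback.snd (Y.hom ≫ f) (Neron.genPt R) := fun m => Over.w m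
  have es : ∀ a : Y ⟶ N', (((Over.mapPullbackAdj f).homEquiv Y N).symm a).left = a.left ≫ pullback.fst N.hom f := by
    intro a; simp [Over.mapPullbackAdj]
  have eh : ∀ g : Y₀ ⟶ N, ((Over.mapPullbackAdj f).homEquiv Y N g).left ≫ pullback.fst N.hom f = g.left := by
    intro g; simp [Over.mapPullbackAdj, Y₀]; exact pullback.lift_fst _ _ _
  have ew : ∀ a : Y ⟶ N', a.left ≫ pullback.snd N.hom f = Y.hom := fun a => Over.w a
  constructor
  · intro a b hab
    have hab' : (Neron.genericFibre R').map a = (Neron.genericFibre R').map b := by simpa using hab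
    have e1 : ((Over.mapPullbackAdj f).homEquiv Y N).symm a = ((Over.mapPullbackAdj f).homEquiv Y N).symm b := by
      refine (hbij Y₀ hY₀).1 ?_
      simp only [Iso.refl_hom, Category.comp_id]
      apply Over.OverMorphism.ext
      apply pullback.hom_ext
      · rw [mR, mR, es, es]
        refine (cancel_epi j.hom).mp ?_
        rw [← Category.assoc, ← Category.assoc (h := b.left ≫ pullback.fst N.hom f), hj₁,
          ← Category.assoc, ← Category.assoc, ← mR' a, ← mR' b, hab']
      · rw [sY₀, sY₀]
    exact ((Over.mapPullbackAdj f).homEquiv Y N).symm.injective e1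
  · intro h
    let q : pullback (Y.hom ≫ f) (Neron.genPt R) ⟶ N.left :=
      j.inv ≫ h.left ≫ pullback.fst N'.hom (Neron.genPt R') ≫ pullback.fst N.hom f
    have hq : q ≫ N.hom = pullback.snd (Y.hom ≫ f) (Neron.genPt R) ≫ Neron.genPt R := by
      refine (cancel_epi j.hom).mp ?_
      have h7 : pullback.fst N'.hom (Neron.genPt R') ≫ pullback.snd N.hom f =
          pullback.snd N'.hom (Neron.genPt R') ≫ Neron.genPt R' := pullback.condition
      rw [← Category.assoc, ← Category.assoc (h := Neron.genPt R), hj₂]
      simp only [q, Category.assoc, Iso.hom_inv_id_assoc]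
      rw [pullback.condition (f := N.hom) (g := f), reassoc_of% h7, reassoc_of% (sY h)]
      exact congrArg (fun t => pullback.snd Y.hom (Neron.genPt R') ≫ t) hκ.w
    let h' : (Neron.genericFibre R).obj Y₀ ⟶ (Neron.genericFibre R).obj N :=
      Over.homMk (pullback.lift q (pullback.snd _ _) hq) (pullback.lift_snd _ _ _)
    have hh' : h'.left ≫ pullback.fst N.hom (Neron.genPt R) = q := pullback.lift_fst _ _ _
    obtain ⟨g, hg⟩ := (hbij Y₀ hY₀).2 h'
    simp only [Iso.refl_hom, Category.comp_id] at hg
    refine ⟨(Over.mapPullbackAdj f).homEquiv Y N g, ?_⟩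
    simp only [Iso.refl_hom, Category.comp_id]
    apply Over.OverMorphism.ext
    apply pullback.hom_ext
    · rw [mR']
      apply pullback.hom_ext
      · rw [Category.assoc, eh, ← hj₁, Category.assoc, ← mR g, hg, hh']
        simp only [q, Iso.hom_inv_id_assoc, Category.assoc]
        rfl
      · rw [Category.assoc, ew, Category.assoc,
          pullback.condition (f := Y.hom) (g := Neron.genPt R'), ← sY h, Category.assoc]
        exact (congrArg (fun t => h.left ≫ t) (pullback.condition (f := N'.hom) (g := Neron.genPt R'))).symm
    · rw [sY, sY]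

end Groth.Agent.S11103
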