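import Groth.Statements.S11104
import Groth.Agent.S11097

set_option autoImplicit false
universe u
open Neron

namespace Groth.Agent.S11104
open Polynomial

/-- An element with nonzero differential at a prime is not in the square of the maximal ideal. -/
theorem not_mem_sq {B κ : Type u} [CommRing B] [Field κ] (Q : Ideal B) [Q.IsPrime] (ψ : B →+* DualNumber κ)
    (hψ : ∀ g, g ∈ Q ↔ (ψ g).fst = 0) (F : B) (hF : (ψ F).fst = 0) (hF' : (ψ F).snd ≠ 0) :
    algebraMap B (Localization.AtPrime Q) F ∉ IsLocalRing.maximalIdeal (Localization.AtPrime Q) ^ 2 := by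
  intro h
  rw [← Localization.AtPrime.map_eq_maximalIdeal, ← Ideal.map_pow,
    IsLocalization.algebraMap_mem_map_algebraMap_iff Q.primeCompl] at h
  obtain ⟨s, hs, hsF⟩ := h
  have h2 : ∀ g ∈ Q ^ 2, ψ g = 0 := by
    intro g hg
    rw [pow_two] at hg
    induction hg using Submodule.mul_induction_on' with
    | mem_mul_mem a ha b hb =>
      rw [map_mul]
      ext <;> simp [(hψ a).mp ha, (hψ b).mp hb]
    | add a _ b _ ha hb => rw [map_add, ha, hb, add_zero]
  have h3 := congrArg TrivSqZeroExt.snd (h2 _ hsF)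
  rw [map_mul] at h3
  simp [hF] at h3
  exact hs ((hψ s).mpr (h3.resolve_right hF'))

theorem quot_regular' {B : Type u} [CommRing B] [IsRegularRing B] (Q : Ideal B) [Q.IsPrime] (F : B) (hFQ : F ∈ Q)
    (hF : algebraMap B (Localization.AtPrime Q) F ∉ IsLocalRing.maximalIdeal (Localization.AtPrime Q) ^ 2) :
    IsRegularLocalRing (Localization.AtPrime Q ⧸ Ideal.span {algebraMap B (Localization.AtPrime Q) F}) := by
  haveI : IsRegularLocalRing (Localization.AtPrime Q) := IsRegularRing.isRegularLocalRing_localization Q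
  exact (SerreReg.isRegularLocalRing_quot ((IsLocalization.AtPrime.to_map_mem_maximal_iff _ Q F).2 hFQ) hF).1


/-- Let R be a discrete valuation ring with maximal ideal m and y² + a₁xy + a₃y = x³ + a₂x² + a₄x + a₆ a
Weierstrass equation over R with nonzero discriminant (an elliptic curve over the fraction field)
such that a₃, a₄, a₆ ∈ m and a₆ ∉ m². Then the affine scheme over R defined by the equation is
regular: every localization of its coordinate ring at a prime ideal is a regular local ring. (The
published statement asserts regularity of the projective Weierstrass scheme in P²_R; this row states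
it for the affine part.) -/
theorem result (R : Type u) [CommRing R] [IsDomain R]
    [IsDiscreteValuationRing R] (W : WeierstrassCurve.Affine R) (hΔ : W.Δ ≠ 0)
    (h3 : W.a₃ ∈ IsLocalRing.maximalIdeal R) (h4 : W.a₄ ∈ IsLocalRing.maximalIdeal R)
    (h6 : W.a₆ ∈ IsLocalRing.maximalIdeal R) (h6' : W.a₆ ∉ IsLocalRing.maximalIdeal R ^ 2)
    (P : Ideal W.CoordinateRing) [P.IsPrime] :
    IsRegularLocalRing (Localization.AtPrime P) := by
  classical
  let B := Polynomial (Polynomial R)
  let F : B := W.polynomial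
  let mkF : B →+* W.CoordinateRing := WeierstrassCurve.Affine.CoordinateRing.mk W
  have hsurj : Function.Surjective mkF := AdjoinRoot.mk_surjective
  have hker : RingHom.ker mkF = Ideal.span {F} := by
    ext g; exact AdjoinRoot.mk_eq_zero.trans Ideal.mem_span_singleton.symm
  let Q : Ideal B := P.comap mkF
  have hFQ : F ∈ Q := by
    show mkF F ∈ P
    rw [AdjoinRoot.mk_self]; exact zero_mem _
  haveI : IsRegularRing R := isRegularRing_iff.2 fun q _ => by
    haveI : IsPrincipalIdealRing (Localization.AtPrime q) := ⟨fun I => by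
      obtain ⟨a, ha⟩ := (IsPrincipalIdealRing.principal (I.under R)).principal
      exact ⟨⟨algebraMap R _ a, by
        rw [← IsLocalization.map_comap q.primeCompl (Localization.AtPrime q) I, ha]
        exact (Ideal.map_span _ _).trans (by rw [Set.image_singleton])⟩⟩⟩
    infer_instance
  let φ : B →+* Q.ResidueField := algebraMap B Q.ResidueField
  have hφ : ∀ g, g ∈ Q ↔ φ g = 0 := fun g => by
    rw [← RingHom.mem_ker, Ideal.ker_algebraMap_residueField]
  let ι : R →+* Q.ResidueField := φ.comp ((C : Polynomial R →+* B).comp C)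
  let x := φ (C X)
  let y := φ X
  have hev : ∀ g : B, φ g = (g.map (mapRingHom ι)).evalEval x y := by
    have e : (evalEvalRingHom x y).comp (mapRingHom (mapRingHom ι)) = φ :=
      Polynomial.ringHom_ext' (Polynomial.ringHom_ext' (by ext r; simp [ι]) (by simp [x])) (by simp [y])
    exact fun g => (RingHom.congr_fun e g).symm
  have heq : (W.map ι).toAffine.Equation x y := by
    show (W.map ι).toAffine.polynomial.evalEval x y = 0
    rw [WeierstrassCurve.Affine.map_polynomial, ← hev, ← hφ]
    exact hFQ
  let ψ : Q.ResidueField → Q.ResidueField → (B →+* DualNumber Q.ResidueField) := fun a b =>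
    eval₂RingHom (eval₂RingHom ((TrivSqZeroExt.inlHom _ _).comp ι) (TrivSqZeroExt.inl x + TrivSqZeroExt.inr a))
      (TrivSqZeroExt.inl y + TrivSqZeroExt.inr b)
  have hψ : ∀ a b g, g ∈ Q ↔ (ψ a b g).fst = 0 := fun a b g => by
    have e : (TrivSqZeroExt.fstHom Q.ResidueField Q.ResidueField Q.ResidueField).toRingHom.comp (ψ a b) = φ :=
      Polynomial.ringHom_ext' (Polynomial.ringHom_ext' (by ext r; simp [ψ, ι]) (by simp [ψ, x])) (by simp [ψ, y])
    rw [hφ, ← e]
    rfl
  have hψC : ∀ a b r, ψ a b (C (C r)) = TrivSqZeroExt.inl (ι r) := fun a b r => by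
    show eval₂ _ _ (C (C r)) = _
    rw [eval₂_C, coe_eval₂RingHom, eval₂_C]; rfl
  have hψX : ∀ a b, ψ a b (C X) = TrivSqZeroExt.inl x + TrivSqZeroExt.inr a := fun a b => by
    show eval₂ _ _ (C X) = _
    rw [eval₂_C, coe_eval₂RingHom, eval₂_X]
  have hψY : ∀ a b, ψ a b X = TrivSqZeroExt.inl y + TrivSqZeroExt.inr b := fun a b => by
    show eval₂ _ _ X = _
    rw [eval₂_X]
  have hreg : algebraMap B (Localization.AtPrime Q) F ∉ IsLocalRing.maximalIdeal (Localization.AtPrime Q) ^ 2 →
      IsRegularLocalRing (Localization.AtPrime P) := fun h =>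
    Groth.Agent.S11097.quot_loc mkF hsurj F hker P Q rfl (quot_regular' Q F hFQ h)
  by_cases hX : ι W.a₁ * y - (3 * x ^ 2 + 2 * ι W.a₂ * x + ι W.a₄) = 0
  swap
  · refine hreg (not_mem_sq Q (ψ 1 0) (hψ 1 0) F ((hψ 1 0 F).mp hFQ) ?_)
    convert hX using 1
    simp [F, WeierstrassCurve.Affine.polynomial, pow_succ, hψC, hψX, hψY, -map_eq_zero]
    ring
  by_cases hY : 2 * y + ι W.a₁ * x + ι W.a₃ = 0
  swap
  · refine hreg (not_mem_sq Q (ψ 0 1) (hψ 0 1) F ((hψ 0 1 F).mp hFQ) ?_)
    convert hY using 1
    simp [F, WeierstrassCurve.Affine.polynomial, pow_succ, hψC, hψX, hψY, -map_eq_zero]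
    ring
  have hm : ∀ r ∈ IsLocalRing.maximalIdeal R, ι r = 0 := by
    have hker : RingHom.ker ι ≠ ⊥ := fun h0 => by
      have hinj : Function.Injective ι := (RingHom.injective_iff_ker_eq_bot ι).mpr h0
      have hns := ((W.map ι).toAffine.equation_iff_nonsingular_of_Δ_ne_zero (x := x) (y := y) (by
        show (W.map ι).Δ ≠ 0
        rw [WeierstrassCurve.map_Δ]
        exact fun h => hΔ (hinj (h.trans (map_zero ι).symm)))).mp heq
      rcases ((W.map ι).toAffine.nonsingular_iff' x y).mp hns |>.2 with h | h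
      · exact h hX
      · exact h hY
    haveI := RingHom.ker_isPrime ι
    have hmax := IsLocalRing.eq_maximalIdeal (Ideal.IsPrime.isMaximal (inferInstance : (RingHom.ker ι).IsPrime) hker)
    intro r hr
    rw [← hmax] at hr
    exact hr
  have heq' := ((W.map ι).toAffine.equation_iff' x y).mp heq
  simp only [WeierstrassCurve.map_a₁, WeierstrassCurve.map_a₂, WeierstrassCurve.map_a₃, WeierstrassCurve.map_a₄,
    WeierstrassCurve.map_a₆, hm _ h3, hm _ h4, hm _ h6] at heq' hX hY
  have hx0 : x = 0 := by
    have : x ^ 3 = 0 := by linear_combination (norm := ring_nf) 2 * heq' - y * hY - x * hX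
    exact pow_eq_zero_iff (by norm_num) |>.mp this
  have hy0 : y = 0 := by
    have : y ^ 2 = 0 := by
      rw [hx0] at heq'
      linear_combination (norm := ring_nf) heq'
    exact pow_eq_zero_iff (by norm_num) |>.mp this
  let ev : B →+* R := (evalRingHom (0 : R)).comp (evalRingHom (0 : Polynomial R))
  have hQ : ∀ g : B, φ g = ι (ev g) := fun g => by
    rw [hev, hx0, hy0]
    have e : (evalEvalRingHom (0 : Q.ResidueField) 0).comp (mapRingHom (mapRingHom ι)) = ι.comp ev :=
      Polynomial.ringHom_ext' (Polynomial.ringHom_ext' (by ext r; simp [ev]) (by simp [ev])) (by simp [ev])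
    exact RingHom.congr_fun e g
  haveI : P.IsMaximal := by
    have hsurjev : Function.Surjective ev := fun r => ⟨C (C r), by
      show eval 0 (eval 0 (C (C r) : B)) = r
      simp⟩
    have hmax : ((IsLocalRing.maximalIdeal R).comap ev).IsMaximal := Ideal.comap_isMaximal_of_surjective ev hsurjev
    have hQeq : (IsLocalRing.maximalIdeal R).comap ev = Q :=
      hmax.eq_of_le (Ideal.IsPrime.ne_top inferInstance) fun g hg => (hφ g).mpr (by rw [hQ]; exact hm _ hg)
    have hPQ : P = Q.map mkF := (Ideal.map_comap_of_surjective mkF hsurj P).symm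
    rw [hPQ]
    refine (Ideal.map_eq_top_or_isMaximal_of_surjective mkF hsurj (hQeq ▸ hmax)).resolve_left ?_
    rw [← hPQ]
    exact Ideal.IsPrime.ne_top inferInstance
  refine Groth.Agent.S11097.result R W h3 h4 h6 h6' P (fun r hr => ?_) ?_ ?_
  · show mkF (C (C r)) ∈ P
    exact (hφ (C (C r))).mpr (hm r hr)
  · exact (hφ (C X)).mpr hx0
  · exact (hφ X).mpr hy0


end Groth.Agent.S11104
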