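import Groth.Statements.S11105
import Groth.Agent.FixHensel.Basic
-- import your own Groth.Agent.* helpers here

set_option autoImplicit false
universe u
open Hensel

namespace Groth.Agent.S11105

/-- Let R be a discrete valuation ring with fraction field K, K^s a separable closure of K, R^s the
integral closure of R in K^s and P^s a maximal ideal of R^s. Let D be the decomposition group of P^s
— the subgroup of automorphisms of K^s over K carrying P^s into (hence onto) itself — and L its
fixed field. Then the integral closure of R in L, localized at the prime Q = P^s ∩ L below P^s, is a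
Henselian local ring (this local ring is the Henselization of R). -/
theorem result (R K Ks : Type u) [CommRing R] [IsDomain R]
    [IsDiscreteValuationRing R] [Field K] [Algebra R K] [IsFractionRing R K]
    [Field Ks] [Algebra K Ks] [IsSepClosure K Ks] [Algebra R Ks] [IsScalarTower R K Ks]
    (Ps : Ideal (integralClosure R Ks)) [Ps.IsMaximal]
    (L : IntermediateField K Ks)
    (hL : L = IntermediateField.fixedField
      (Subgroup.closure {σ : Ks ≃ₐ[K] Ks | ∀ x : integralClosure R Ks, x ∈ Ps →
        ∃ h : σ (x : Ks) ∈ integralClosure R Ks, (⟨σ (x : Ks), h⟩ : integralClosure R Ks) ∈ Ps}))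
    (Q : Ideal (integralClosure R L)) [Q.IsPrime]
    (hQ : ∀ y : integralClosure R L, y ∈ Q ↔
      ∃ x : integralClosure R Ks, x ∈ Ps ∧ (x : Ks) = ((y : L) : Ks)) :
    HenselianLocalRing (Localization.AtPrime Q) := by
  haveI : IsSepClosed Ks := (inferInstance : IsSepClosure K Ks).sep_closed
  haveI : Ps.IsPrime := Ideal.IsMaximal.isPrime inferInstance
  let S : Set (Ks ≃ₐ[K] Ks) := {σ : Ks ≃ₐ[K] Ks | ∀ x : integralClosure R Ks, x ∈ Ps →
        ∃ h : σ (x : Ks) ∈ integralClosure R Ks, (⟨σ (x : Ks), h⟩ : integralClosure R Ks) ∈ Ps}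
  have hL' : L = IntermediateField.fixedField (Subgroup.closure S) := hL
  have hmem : ∀ σ ∈ S, ∀ l : L, σ (l : Ks) = l := fun σ hσ l => by
    have h : (l : Ks) ∈ IntermediateField.fixedField (Subgroup.closure S) := hL' ▸ l.2
    exact h ⟨σ, Subgroup.subset_closure hσ⟩
  haveI : IsScalarTower R L Ks := IsScalarTower.of_algebraMap_eq fun r => by rw [IsScalarTower.algebraMap_apply R K L, IsScalarTower.algebraMap_apply R K Ks]; rfl
  refine FixHensel.henselianLocalRing_atPrime R L Ks Ps
    {τ : Ks ≃ₐ[L] Ks | τ.restrictScalars K ∈ S} (fun y hy => ?_) (fun τ hτ x hx => ?_) Q hQ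
  · suffices y ∈ L from ⟨⟨y, this⟩, rfl⟩
    rw [hL']
    rintro ⟨σ, hσ⟩
    induction hσ using Subgroup.closure_induction with
    | mem σ hσ => exact hy { σ with commutes' := hmem σ hσ } hσ
    | one => rfl
    | mul a b _ _ ha hb =>
      change a (b y) = y
      rw [show b y = y from hb, show a y = y from ha]
    | inv a _ ha =>
      change a⁻¹ y = y
      rw [AlgEquiv.aut_inv, AlgEquiv.symm_apply_eq]
      exact (show a y = y from ha).symm
  · exact hτ x hx

end Groth.Agent.S11105
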