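import Groth.Statements.S11108
import Groth.Agent.HenselChart.Lift
import Mathlib.RingTheory.Jacobson.Ring
-- import your own Groth.Agent.* helpers here

set_option autoImplicit false
universe u
open CategoryTheory AlgebraicGeometry
open Neron

set_option linter.style.haveILetI false
set_option backward.isDefEq.respectTransparency false

namespace Groth.Agent.S11108

/-- an affine scheme of finite type over a local ring, with nonempty special fibre and algebraically
closed residue field, has a point with values in the residue field -/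
lemma exists_residue_point {R : Type u} [CommRing R] [IsLocalRing R] [IsAlgClosed (IsLocalRing.ResidueField R)]
    {Z : Scheme.{u}} [IsAffine Z] (f : Z ⟶ Spec (CommRingCat.of R)) [LocallyOfFiniteType f]
    (z : Z) (hz : f.base z = IsLocalRing.closedPoint R) :
    ∃ s₀ : Spec (CommRingCat.of (IsLocalRing.ResidueField R)) ⟶ Z,
      s₀ ≫ f = Spec.map (CommRingCat.ofHom (IsLocalRing.residue R)) := by
  let φ := Spec.preimage (Z.isoSpec.inv ≫ f)
  have hf : Spec.map φ = Z.isoSpec.inv ≫ f := Spec.map_preimage _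
  haveI : LocallyOfFiniteType (Spec.map φ) := by
    rw [hf]
    infer_instance
  have hφ : φ.hom.FiniteType := (HasRingHomProperty.Spec_iff (P := @LocallyOfFiniteType)).1 inferInstance
  letI : Algebra R Γ(Z, ⊤) := φ.hom.toAlgebra
  haveI : Algebra.FiniteType R Γ(Z, ⊤) := hφ
  let q : Spec Γ(Z, ⊤) := Z.isoSpec.hom z
  have hq : (Spec.map φ).base q = IsLocalRing.closedPoint R := by
    have e : Z.isoSpec.hom ≫ Spec.map φ = f := by rw [hf, Iso.hom_inv_id_assoc]
    rw [← hz, ← e]
    rfl
  have hne : (IsLocalRing.maximalIdeal R).map (algebraMap R Γ(Z, ⊤)) ≠ ⊤ := by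
    intro h
    have h1 : q.asIdeal.comap φ.hom = IsLocalRing.maximalIdeal R := congrArg PrimeSpectrum.asIdeal hq
    have : (IsLocalRing.maximalIdeal R).map (algebraMap R Γ(Z, ⊤)) ≤ q.asIdeal :=
      Ideal.map_le_iff_le_comap.2 h1.ge
    exact q.isPrime.ne_top (top_le_iff.1 (h ▸ this))
  obtain ⟨M, hM, hle⟩ := Ideal.exists_le_maximal _ hne
  have hMc : M.comap (algebraMap R Γ(Z, ⊤)) = IsLocalRing.maximalIdeal R :=
    ((IsLocalRing.maximalIdeal.isMaximal R).eq_of_le (Ideal.comap_ne_top _ hM.ne_top) (Ideal.map_le_iff_le_comap.1 hle)).symm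
  letI : Field (Γ(Z, ⊤) ⧸ M) := Ideal.Quotient.field M
  letI : Algebra (IsLocalRing.ResidueField R) (Γ(Z, ⊤) ⧸ M) :=
    (Ideal.quotientMap M (algebraMap R Γ(Z, ⊤)) hMc.ge).toAlgebra
  haveI : IsScalarTower R (IsLocalRing.ResidueField R) (Γ(Z, ⊤) ⧸ M) := IsScalarTower.of_algebraMap_eq fun r => rfl
  haveI : Algebra.FiniteType (IsLocalRing.ResidueField R) (Γ(Z, ⊤) ⧸ M) := by
    haveI : Algebra.FiniteType R (Γ(Z, ⊤) ⧸ M) :=
      Algebra.FiniteType.of_surjective (Ideal.Quotient.mkₐ R M) Ideal.Quotient.mk_surjective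
    exact Algebra.FiniteType.of_restrictScalars_finiteType R _ _
  haveI : Module.Finite (IsLocalRing.ResidueField R) (Γ(Z, ⊤) ⧸ M) :=
    finite_of_finite_type_of_isJacobsonRing _ _
  let e := RingEquiv.ofBijective (algebraMap (IsLocalRing.ResidueField R) (Γ(Z, ⊤) ⧸ M))
    (IsAlgClosed.algebraMap_bijective_of_isIntegral)
  let ψ : Γ(Z, ⊤) →+* IsLocalRing.ResidueField R := e.symm.toRingHom.comp (Ideal.Quotient.mk M)
  have hψ : φ ≫ CommRingCat.ofHom ψ = CommRingCat.ofHom (IsLocalRing.residue R) := by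
    refine CommRingCat.hom_ext (RingHom.ext fun r => ?_)
    show e.symm (Ideal.Quotient.mk M (φ.hom r)) = _
    rw [RingEquiv.symm_apply_eq]
    rfl
  exact ⟨Spec.map (CommRingCat.ofHom ψ) ≫ Z.isoSpec.inv, by rw [Category.assoc, ← hf, ← Spec.map_comp, hψ]⟩

/-- Let R be a strictly Henselian discrete valuation ring — Henselian with algebraically closed residue
field — and p : X → Spec R a smooth morphism. Then the image of the reduction map from R-valued
points of X to the special fibre is dense in the special fibre: every point of X over the closed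
point of Spec R lies in the closure of the set of points s(𝔪), s a section of p and 𝔪 the closed
point. -/
theorem result (R : Type u) [CommRing R] [IsDomain R]
    [IsDiscreteValuationRing R] [HenselianLocalRing R] [IsAlgClosed (IsLocalRing.ResidueField R)]
    {X : Scheme.{u}} (p : X ⟶ Spec (CommRingCat.of R)) [Smooth p]
    (x : X) (hx : p.base x = IsLocalRing.closedPoint R) :
    x ∈ closure {y : X | ∃ s : Spec (CommRingCat.of R) ⟶ X, s ≫ p = 𝟙 _ ∧
      s.base (IsLocalRing.closedPoint R) = y} := by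
  rw [mem_closure_iff]
  intro O hO hxO
  obtain ⟨W, hW, hxW, hWO⟩ := exists_isAffineOpen_mem_and_subset (X := X) (x := x) (U := ⟨O, hO⟩) hxO
  haveI : IsAffine (W : Scheme.{u}) := hW
  haveI : Smooth (W.ι ≫ p) := inferInstance
  obtain ⟨s₀, hs₀⟩ := exists_residue_point (W.ι ≫ p) ⟨x, hxW⟩ hx
  obtain ⟨s, hs, -⟩ := HenselChart.exists_section_lift R (W.ι ≫ p) (IsLocalRing.maximalIdeal R)
    (IsLocalRing.maximalIdeal.isMaximal R).ne_top s₀ hs₀
  refine ⟨(s ≫ W.ι).base (IsLocalRing.closedPoint R), hWO ?_, s ≫ W.ι, by rw [Category.assoc, hs], rfl⟩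
  exact (s.base (IsLocalRing.closedPoint R)).2

end Groth.Agent.S11108
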