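import Groth.Statements.S11114
import Groth.Agent.DCohMV.Leray
import Groth.Agent.DQPush.OpenBC
import Groth.Agent.DCohCpt.Unit
import Mathlib

set_option autoImplicit false
set_option backward.isDefEq.respectTransparency false
set_option backward.isDefEq.respectTransparency.types false
set_option maxHeartbeats 1000000
set_option linter.style.haveILetI false
universe u
open CategoryTheory CategoryTheory.Limits AlgebraicGeometry
attribute [local instance] HasDerivedCategory.standard
open DCoh CategoryTheory.Limits AlgebraicGeometry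

namespace Groth.Agent.S11114

section aux

open CategoryTheory.Limits AlgebraicGeometry HomologicalComplex

variable {Y : Scheme.{u}}

lemma eq_zero_of_affine {M N : Y.Modules} (φ : M ⟶ N)
    (h : ∀ W : Y.Opens, IsAffineOpen W → ∀ s : Γ(M, W), φ.app W s = 0) : φ = 0 := by
  refine Scheme.Modules.hom_ext _ _ fun W => ?_
  ext s
  refine QC.section_eq_of_locally fun x hx => ?_
  obtain ⟨_, ⟨(V : Y.Opens), hV, rfl⟩, hxV, hVW⟩ := Y.isBasis_affineOpens.exists_subset_of_mem_open hx W.isOpen
  refine ⟨V, hVW, hxV, ?_⟩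
  refine (QC.app_res φ hVW s).trans ((h V hV _).trans ?_)
  exact (map_zero _).symm

/-- exactness is detected by sections over affine opens -/
theorem acyclic_of_sections [QuasiSeparatedSpace Y] (C : CochainComplex Y.Modules ℤ)
    (h : ∀ W : Y.Opens, IsAffineOpen W → ∀ (i j k : ℤ), i + 1 = j → j + 1 = k → ∀ s : Γ(C.X j, W),
      (C.d j k).app W s = 0 → ∃ t : Γ(C.X i, W), (C.d i j).app W t = s) : C.Acyclic := fun j => by
  rw [exactAt_iff_isZero_homology, IsZero.iff_id_eq_zero, ← cancel_epi (C.homologyπ j), Category.comp_id, comp_zero]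
  refine eq_zero_of_affine _ fun W hW z => ?_
  have hz : (C.d j (j + 1)).app W ((C.iCycles j).app W z) = 0 :=
    congrArg (fun φ => Scheme.Modules.Hom.app φ W z) (C.iCycles_d j (j + 1))
  obtain ⟨t, ht⟩ := h W hW (j - 1) j (j + 1) (by omega) rfl _ hz
  have e : z = (C.toCycles (j - 1) j).app W t := by
    have hinj : Function.Injective ((C.iCycles j).app W) := QC.app_injective_of_mono (C.iCycles j) W
    refine hinj (ht.symm.trans ?_)
    exact congrArg (fun φ => Scheme.Modules.Hom.app φ W t) (C.toCycles_i (j - 1) j).symm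
  rw [e]
  exact congrArg (fun φ => Scheme.Modules.Hom.app φ W t) (C.toCycles_comp_homologyπ (j - 1) j)

variable (U : Y.Opens)

lemma quasiIso_of_isIso [DCoh.HasRΓ (U : Scheme.{u})] {I J : CochainComplex Y.Modules ℤ} [I.IsKInjective]
    [J.IsKInjective] (f : I ⟶ J)
    (h : IsIso ((DCoh.RΓ (U : Scheme.{u})).map ((DCoh.restrictD U.ι).map (DerivedCategory.Q.map f)))) :
    QuasiIso (((DCoh.gammaAb (U : Scheme.{u})).mapHomologicalComplex (ComplexShape.up ℤ)).map
      ((DCoh.restrictCx U).map f)) := by
  let R := DCoh.restrictCx U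
  let q := HomotopyCategory.quotient (U : Scheme.{u}).Modules (ComplexShape.up ℤ)
  haveI : CochainComplex.IsKInjective (R.obj I) := DQPush.isKInjective_restrict_open U.ι I ‹_›
  haveI : CochainComplex.IsKInjective (R.obj J) := DQPush.isKInjective_restrict_open U.ι J ‹_›
  let G := DCoh.RΓ (U : Scheme.{u})
  have h1 : IsIso (G.map (DerivedCategory.Q.map (R.map f))) := by
    refine (NatIso.isIso_map_iff (Functor.isoWhiskerRight
      (Scheme.Modules.restrictFunctor U.ι).mapDerivedCategoryFactors G) f).1 ?_
    exact h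
  have h2 : IsIso (G.map (DerivedCategory.Qh.map (q.map (R.map f)))) :=
    (NatIso.isIso_map_iff (Functor.isoWhiskerRight (DerivedCategory.quotientCompQhIso (U : Scheme.{u}).Modules) G)
      (R.map f)).2 h1
  have key : ∀ K : CochainComplex (U : Scheme.{u}).Modules ℤ, CochainComplex.IsKInjective K →
      IsIso ((DCohMV.gammaUnit (X := (U : Scheme.{u}))).app (q.obj K)) := fun K hK =>
    (KInj.isDeforming_Qh DerPush.exists_kInj_sch (DCoh.gammaKh (U : Scheme.{u}))).isIso_app
      (HomotopyCategory.quasiIso (U : Scheme.{u}).Modules (ComplexShape.up ℤ)) (DCoh.RΓ (U : Scheme.{u}))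
      DCohMV.gammaUnit (show KInj.kinjProp (U : Scheme.{u}).Modules (q.obj K) from hK)
  haveI := key _ ‹CochainComplex.IsKInjective (R.obj I)›
  haveI := key _ ‹CochainComplex.IsKInjective (R.obj J)›
  have h3 : IsIso ((DCoh.gammaKh (U : Scheme.{u})).map (q.map (R.map f))) := by
    have hnat := (DCohMV.gammaUnit (X := (U : Scheme.{u}))).naturality (q.map (R.map f))
    haveI : IsIso ((DerivedCategory.Qh ⋙ G).map (q.map (R.map f))) := h2
    haveI : IsIso ((DCoh.gammaKh (U : Scheme.{u})).map (q.map (R.map f)) ≫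
        (DCohMV.gammaUnit (X := (U : Scheme.{u}))).app (q.obj (R.obj J))) := by
      rw [hnat]; infer_instance
    exact IsIso.of_isIso_comp_right _ ((DCohMV.gammaUnit (X := (U : Scheme.{u}))).app (q.obj (R.obj J)))
  let g := ((DCoh.gammaAb (U : Scheme.{u})).mapHomologicalComplex (ComplexShape.up ℤ)).map (R.map f)
  have h4 : IsIso (DerivedCategory.Q.map g) := by
    refine (NatIso.isIso_map_iff (DerivedCategory.quotientCompQhIso AddCommGrpCat.{u}) g).1 ?_
    exact h3
  exact (DerivedCategory.isIso_Q_map_iff_quasiIso _ g).1 h4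

end aux

/-- Let Y be a quasi-compact quasi-separated scheme and assume the unbounded derived functor of global
sections RΓ(U, -) exists for every open U of Y (existence binder). A morphism φ : G₁ ⟶ G₂ in D(O_Y)
is an isomorphism if and only if for every affine open U of Y the morphism RΓ(U, φ|_U) of D(Ab),
obtained from φ through restriction to U and derived global sections, is an isomorphism. -/
theorem result {Y : Scheme.{u}} [CompactSpace Y] [QuasiSeparatedSpace Y]
    [hR : ∀ U : Y.Opens, DCoh.HasRΓ (U : Scheme.{u})] {G₁ G₂ : DCoh.D Y} (φ : G₁ ⟶ G₂) :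
    IsIso φ ↔ ∀ U : Y.Opens, IsAffineOpen U →
      IsIso ((DCoh.RΓ (U : Scheme.{u})).map ((DCoh.restrictD U.ι).map φ)) := by
  refine ⟨fun h U _ => inferInstance, fun h => ?_⟩
  obtain ⟨I, hI, -, ⟨e₁⟩⟩ := DCohMV.exists_rep G₁
  obtain ⟨J, hJ, -, ⟨e₂⟩⟩ := DCohMV.exists_rep G₂
  haveI := hI
  haveI := hJ
  obtain ⟨f, hf⟩ := DCohCpt.exists_lift (e₁.hom ≫ φ ≫ e₂.inv)
  suffices hC : (CochainComplex.mappingCone f).Acyclic by
    haveI := KFlat.quasiIso_of_acyclic_mappingCone f hC
    have hφ : φ = e₁.inv ≫ DerivedCategory.Q.map f ≫ e₂.hom := by rw [hf]; simp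
    rw [hφ]
    infer_instance
  refine acyclic_of_sections _ fun W hW i j k hij hjk => ?_
  have hq : QuasiIso (((DCoh.gammaAb (W : Scheme.{u})).mapHomologicalComplex (ComplexShape.up ℤ)).map
      ((DCoh.restrictCx W).map f)) := by
    refine quasiIso_of_isIso W f ?_
    haveI := h W hW
    rw [hf, Functor.map_comp, Functor.map_comp, Functor.map_comp, Functor.map_comp]
    infer_instance
  haveI := hq
  let F := Scheme.Modules.restrictFunctor W.ι ⋙ DCoh.gammaAb (W : Scheme.{u})
  have hF : ((F.mapHomologicalComplex (ComplexShape.up ℤ)).obj (CochainComplex.mappingCone f)).Acyclic := by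
    refine KFlat.acyclic_of_iso (CochainComplex.mappingCone.mapHomologicalComplexIso f F).symm ?_
    exact KFlat.mappingCone_acyclic (((DCoh.gammaAb (W : Scheme.{u})).mapHomologicalComplex (ComplexShape.up ℤ)).map
      ((DCoh.restrictCx W).map f))
  have hj := hF j
  rw [HomologicalComplex.exactAt_iff' _ i j k (by simp [← hij]) (by simp [← hjk]), ShortComplex.ab_exact_iff] at hj
  have key : ∀ W' : Y.Opens, W.ι ''ᵁ ⊤ = W' → ∀ s : Γ((CochainComplex.mappingCone f).X j, W'),
      ((CochainComplex.mappingCone f).d j k).app W' s = 0 →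
        ∃ t, ((CochainComplex.mappingCone f).d i j).app W' t = s := by
    rintro W' rfl s hs
    exact hj s hs
  exact key W W.ι_image_top

end Groth.Agent.S11114
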