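import Groth.Statements.S11129
import Mathlib
import Groth.Agent.QCGen.Basic
import Groth.Agent.W7FTH.Basic

set_option autoImplicit false
set_option backward.isDefEq.respectTransparency false
universe u
open CategoryTheory AlgebraicGeometry
open QCohCat

namespace Groth.Agent.S11129

open CategoryTheory CategoryTheory.Limits AlgebraicGeometry Groth.Agent

theorem mono_homMk {Y : Scheme.{u}} {M : QCohCat.QCoh Y} (S : QC.Sub M.obj) (hS : Coh.IsQCoh S.toModules) :
    Mono (ObjectProperty.homMk S.ι : (⟨S.toModules, hS⟩ : QCohCat.QCoh Y) ⟶ M) :=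
  (QCohCat.isQCoh Y).ι.mono_of_mono_map (inferInstanceAs (Mono S.ι))

attribute [local instance] mono_homMk

/-- For a noetherian scheme Y, an object M of the category QCoh(O_Y) of quasi-coherent O_Y-modules (a
full subcategory of all O_Y-modules) is a noetherian object of that category if and only if M is
coherent (quasi-coherent of finite type). (The published statement also records that QCoh(O_Y) is a
locally noetherian category; only the characterisation of its noetherian objects is stated here.) -/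
theorem result (Y : Scheme.{u}) [IsNoetherian Y] (M : QCohCat.QCoh Y) :
    IsNoetherianObject M ↔ Coh.IsCoh M.obj := by
  haveI : IsLocallyNoetherian Y := inferInstance
  have hsub : ∀ (S T : QC.Sub M.obj) (hS : Coh.IsQCoh S.toModules) (hT : Coh.IsQCoh T.toModules),
      (∀ O, S.obj O ≤ T.obj O) →
      Subobject.mk (ObjectProperty.homMk S.ι : (⟨S.toModules, hS⟩ : QCohCat.QCoh Y) ⟶ M) ≤
      Subobject.mk (ObjectProperty.homMk T.ι : (⟨T.toModules, hT⟩ : QCohCat.QCoh Y) ⟶ M) := by
    intro S T hS hT h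
    obtain ⟨ψ, hψ⟩ := QC.exists_lift_of_range T.ι S.ι fun O a =>
      (T.range_ι_app O _).2 (h O ((S.range_ι_app O _).1 ⟨a, rfl⟩))
    exact Subobject.mk_le_mk_of_comm (ObjectProperty.homMk ψ) (ObjectProperty.hom_ext _ hψ)
  constructor
  · intro hM
    haveI : M.obj.IsQuasicoherent := M.property
    let g : W7FTH.FGSub M.obj → Subobject M := fun S =>
      Subobject.mk (ObjectProperty.homMk S.1.ι : (⟨S.1.toModules, (QC.Sub.isCoh_toModules S.2).1⟩ : QCohCat.QCoh Y) ⟶ M)
    obtain ⟨_, ⟨R, rfl⟩, hmax⟩ :=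
      (wellFounded_gt (α := Subobject M)).has_min (Set.range g) (Set.range_nonempty g)
    refine QC.isCoh_iff_finite_sections.2 ⟨M.property, fun U => ?_⟩
    have hall : ∀ t : Γ(M.obj, U.1), t ∈ R.1.obj U.1 := by
      intro t
      classical
      obtain ⟨S', hS', heq⟩ := QC.exists_extend_qcqs (QC.genSub ({t} : Set Γ(M.obj, U.1)))
        (W := U.1) (fun x hx => ⟨U.1, U.2, hx, le_rfl, {t},
          by rw [Finset.coe_singleton]; exact ⟨fun s hs => QC.mem_genSub_of_mem hs, fun O _ => le_rfl⟩⟩)
        U.2.isCompact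
      let R' : W7FTH.FGSub M.obj := ⟨W7FTH.supSub R.1 S', W7FTH.locFinGen_supSub R.2 hS'⟩
      have hle : g R ≤ g R' := hsub R.1 R'.1 _ _ (W7FTH.le_supSub_left R.1 S')
      have heq' : g R' ≤ g R := by
        rcases hle.eq_or_lt with h | h
        · exact h.ge
        · exact absurd h (hmax _ ⟨R', rfl⟩)
      have ht : t ∈ R'.1.obj U.1 := W7FTH.le_supSub_right R.1 S' U.1
        (by rw [heq U.1 le_rfl]; exact QC.mem_genSub_of_mem rfl)
      obtain ⟨a, ha⟩ := (R'.1.range_ι_app U.1 t).2 ht
      refine (R.1.range_ι_app U.1 t).1 ⟨(Subobject.ofMkLEMk _ _ heq').hom.app U.1 a, ?_⟩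
      change ((Subobject.ofMkLEMk _ _ heq').hom ≫ R.1.ι).app U.1 a = t
      rw [show (Subobject.ofMkLEMk _ _ heq').hom ≫ R.1.ι = R'.1.ι from
        congrArg InducedCategory.Hom.hom (Subobject.ofMkLEMk_comp heq'), ha]
    obtain ⟨T, hT⟩ := QC.exists_finset_genOn R.1 R.2 U.2 le_rfl le_top U.2.isCompact
    classical
    refine ⟨T, eq_top_iff.2 fun t _ => ?_⟩
    have h1 := hT.le U.1 le_rfl (hall t)
    rw [QC.mem_genSub_iff U.2 le_rfl, QC.image_res_res] at h1
    refine Submodule.span_le.mpr ?_ h1
    rintro _ ⟨b, hb, rfl⟩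
    rw [QC.res_self]
    exact Submodule.subset_span hb
  · intro hM
    rw [isNoetherianObject_iff_monotone_chain_condition]
    intro f
    let j := fun n => ((f n).arrow).hom
    haveI : ∀ n, Mono (j n) := fun n => inferInstanceAs (Mono ((QCohCat.isQCoh Y).ι.map (f n).arrow))
    let F : ℕ →o Subobject M.obj := ⟨fun n => Subobject.mk (j n), fun a b h =>
      Subobject.mk_le_mk_of_comm (Subobject.ofLE _ _ (f.monotone h)).hom
        (congrArg InducedCategory.Hom.hom (Subobject.ofLE_arrow (f.monotone h)))⟩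
    obtain ⟨n, hn⟩ := QC.acc_subobject hM F fun k =>
      QC.isQCoh_of_iso (Subobject.underlyingIso (j k)).symm ((f k : QCohCat.QCoh Y).property)
    refine ⟨n, fun m hm => le_antisymm (f.monotone hm) ?_⟩
    have h := (hn m hm).le
    exact Subobject.le_of_comm (ObjectProperty.homMk (Subobject.ofMkLEMk (j m) (j n) h))
      (ObjectProperty.hom_ext _ (Subobject.ofMkLEMk_comp h))

end Groth.Agent.S11129
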