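import Groth.Statements.S11136
import Mathlib.RingTheory.Invariant.Basic
import Mathlib.RingTheory.Spectrum.Prime.Topology
import Mathlib.RingTheory.Spectrum.Prime.Noetherian
import Mathlib.Tactic

set_option autoImplicit false
set_option linter.style.haveILetI false
open scoped Pointwise

universe u v
open InvTh

namespace Groth.Agent.S11136

/-- Let a finite group G act on a Noetherian commutative ring R by ring automorphisms, with ring of
invariants A (A → R injective with image the fixed elements). When the prime spectrum of A is
connected, any two connected components of Spec R are exchanged by some element of G: for all points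
x, y of Spec R there is g in G whose induced self-map of Spec R carries the connected component of x
onto the connected component of y. -/
theorem result
    (A : Type u) (R : Type v) [CommRing A] [CommRing R] [Algebra A R] [IsNoetherianRing R]
    (G : Type u) [Group G] [Finite G] [MulSemiringAction G R] [SMulCommClass G A R]
    [Algebra.IsInvariant A R G] [FaithfulSMul A R]
    [ConnectedSpace (PrimeSpectrum A)] (x y : PrimeSpectrum R) :
    ∃ g : G, PrimeSpectrum.comap (MulSemiringAction.toRingHom G R g) '' connectedComponent x =
      connectedComponent y := by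
  classical
  haveI : Algebra.IsIntegral A R := Algebra.IsInvariant.isIntegral A R G
  let φ : G → PrimeSpectrum R → PrimeSpectrum R :=
    fun g => PrimeSpectrum.comap (MulSemiringAction.toRingHom G R g)
  have hcomp : ∀ g h : G, ∀ z, φ g (φ h z) = φ (h * g) z := by
    intro g h z
    refine PrimeSpectrum.ext (Ideal.ext fun r => ?_)
    simp [φ, mul_smul]
  have hone : ∀ z, φ 1 z = z := by
    intro z
    refine PrimeSpectrum.ext (Ideal.ext fun r => ?_)
    simp [φ]
  let e : G → (PrimeSpectrum R ≃ₜ PrimeSpectrum R) := fun g =>
    { toFun := φ g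
      invFun := φ g⁻¹
      left_inv := fun z => by rw [hcomp, mul_inv_cancel, hone]
      right_inv := fun z => by rw [hcomp, inv_mul_cancel, hone]
      continuous_toFun := PrimeSpectrum.continuous_comap _
      continuous_invFun := PrimeSpectrum.continuous_comap _ }
  have he : ∀ g z, φ g '' connectedComponent z = connectedComponent (φ g z) := by
    intro g z
    have := (e g).image_connectedComponentIn (s := Set.univ) (Set.mem_univ z)
    simp only [Set.image_univ, EquivLike.range_eq_univ, connectedComponentIn_univ] at this
    exact this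
  suffices hy : ∃ g : G, y ∈ connectedComponent (φ g x) by
    obtain ⟨g, hg⟩ := hy
    exact ⟨g, (he g x).trans (connectedComponent_eq hg)⟩
  let U : Set (PrimeSpectrum R) := ⋃ g : G, connectedComponent (φ g x)
  have hUc : IsClosed U := isClosed_iUnion_of_finite fun g => isClosed_connectedComponent
  have hfin : (Set.range fun z : PrimeSpectrum R => connectedComponent z).Finite := by
    haveI := TopologicalSpace.NoetherianSpace.finite_irreducibleComponents (α := PrimeSpectrum R)
    refine ((TopologicalSpace.NoetherianSpace.finite_irreducibleComponents (α := PrimeSpectrum R)).image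
      (fun T => if h : T.Nonempty then connectedComponent h.some else ∅)).subset ?_
    rintro _ ⟨z, rfl⟩
    refine ⟨irreducibleComponent z, irreducibleComponent_mem_irreducibleComponents z, ?_⟩
    have hn : (irreducibleComponent z).Nonempty := ⟨z, mem_irreducibleComponent⟩
    simp only [dif_pos hn]
    exact connectedComponent_eq ((isIrreducible_irreducibleComponent).isConnected.2.subset_connectedComponent
      hn.some_mem mem_irreducibleComponent)
  have hUo : IsClosed Uᶜ := by
    have : Uᶜ = ⋃₀ {T ∈ Set.range (fun z : PrimeSpectrum R => connectedComponent z) | Disjoint T U} := by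
      ext z
      constructor
      · intro hz
        refine ⟨connectedComponent z, ⟨⟨z, rfl⟩, Set.disjoint_left.2 fun w hw hwU => hz ?_⟩, mem_connectedComponent⟩
        obtain ⟨g, hg⟩ := Set.mem_iUnion.1 hwU
        exact Set.mem_iUnion.2 ⟨g, (connectedComponent_eq hg) ▸ (connectedComponent_eq hw) ▸ mem_connectedComponent⟩
      · rintro ⟨T, ⟨-, hT⟩, hz⟩
        exact Set.disjoint_left.1 hT hz
    rw [this, Set.sUnion_eq_biUnion]
    refine Set.Finite.isClosed_biUnion (hfin.subset fun T hT => hT.1) ?_
    rintro T ⟨⟨z, rfl⟩, -⟩
    exact isClosed_connectedComponent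
  let f := PrimeSpectrum.comap (algebraMap A R)
  have hcl : IsClosedMap f := PrimeSpectrum.isClosedMap_comap_of_isIntegral _ (algebraMap_isIntegral_iff.2 inferInstance)
  have hsurj : ∀ q, ∃ z, f z = q := by
    intro q
    obtain ⟨Q, -, hQ, hQq⟩ := Ideal.exists_ideal_over_prime_of_isIntegral q.asIdeal (⊥ : Ideal R) (by
      intro a ha
      have h0 : algebraMap A R a = 0 := by simpa using ha
      rw [(FaithfulSMul.algebraMap_injective A R) (h0.trans (map_zero _).symm)]
      exact zero_mem _)
    exact ⟨⟨Q, hQ⟩, PrimeSpectrum.ext hQq⟩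
  have hstab : ∀ z ∈ U, ∀ w, f w = f z → w ∈ U := by
    intro z hz w hwz
    obtain ⟨g, hg⟩ := Set.mem_iUnion.1 hz
    obtain ⟨h, hh⟩ := Algebra.IsInvariant.exists_smul_of_under_eq A R G z.asIdeal w.asIdeal
      (congrArg PrimeSpectrum.asIdeal hwz.symm)
    have hw : w = φ h⁻¹ z := by
      refine PrimeSpectrum.ext (Ideal.ext fun r => ?_)
      rw [hh, Ideal.mem_pointwise_smul_iff_inv_smul_mem]
      rfl
    refine Set.mem_iUnion.2 ⟨g * h⁻¹, ?_⟩
    rw [hw, ← hcomp, ← he]
    exact Set.mem_image_of_mem _ hg
  have hclop : IsClopen (f '' U) := by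
    refine ⟨hcl _ hUc, ?_⟩
    have : (f '' U)ᶜ = f '' Uᶜ := by
      ext q
      constructor
      · intro hq
        obtain ⟨z, rfl⟩ := hsurj q
        exact ⟨z, fun hz => hq ⟨z, hz, rfl⟩, rfl⟩
      · rintro ⟨z, hz, rfl⟩ ⟨w, hw, hwz⟩
        exact hz (hstab w hw z hwz.symm)
    rw [← isClosed_compl_iff, this]
    exact hcl _ hUo
  have hne : (f '' U).Nonempty := ⟨f (φ 1 x), φ 1 x, Set.mem_iUnion.2 ⟨1, mem_connectedComponent⟩, rfl⟩
  have htop := IsClopen.eq_univ hclop hne
  obtain ⟨z, hz, hzy⟩ := (htop ▸ Set.mem_univ (f y) : f y ∈ f '' U)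
  exact Set.mem_iUnion.1 (hstab z hz y hzy.symm)

end Groth.Agent.S11136
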