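import Groth.Statements.S11140
import Groth.Agent.InvFin.Finite
import Groth.Agent.InvFin.Depth
import Groth.Agent.Comod.Reynolds

set_option autoImplicit false
universe u
open TensorProduct
open InvTh

namespace Groth.Agent.S11140

/-- Let k be a field and H a finite-dimensional commutative Hopf algebra over k (the coordinate ring of
a finite k-group scheme G) which is linearly reductive, i.e. every finite-dimensional H-comodule is
semisimple. Let R be a commutative k-algebra of finite type with an H-comodule structure whose
coaction R → R ⊗ H is multiplicative and unital (an action of G on Spec R), and let A be the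
k-subalgebra of invariants. If R is a Cohen–Macaulay ring, then so is A, and R is maximal
Cohen–Macaulay as a module over A: for every prime p of A the localized module R_p over A_p is
Cohen–Macaulay and its support has Krull dimension equal to that of A_p. -/
theorem result (k : Type u) [Field k]
    (H : Type u) [CommRing H] [HopfAlgebra k H] [Module.Finite k H] (hG : HopfRep.IsLinearlyReductive k H)
    (R : Type u) [CommRing R] [Algebra k R] [Algebra.FiniteType k R] [HopfRep.Comod k H R]
    (hmul : ∀ x y : R, HopfRep.Comod.coact (k := k) (A := H) (x * y) =
        HopfRep.Comod.coact (k := k) (A := H) x * HopfRep.Comod.coact (k := k) (A := H) y)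
    (hone : HopfRep.Comod.coact (k := k) (A := H) (1 : R) = 1)
    (A : Subalgebra k R)
    (hA : ∀ a : R, a ∈ A ↔ HopfRep.Comod.coact (k := k) (A := H) a = a ⊗ₜ[k] (1 : H))
    (hR : LocCoh.IsCohenMacaulayRing R) :
    LocCoh.IsCohenMacaulayRing A ∧ ∀ (p : Ideal A) [p.IsPrime],
      LocCoh.IsCohenMacaulayModule (Localization.AtPrime p) (LocalizedModule p.primeCompl R) ∧
        Module.supportDim (Localization.AtPrime p) (LocalizedModule p.primeCompl R) =
          ringKrullDim (Localization.AtPrime p) := by
  haveI : GLin.IsCoactAlg k H R := ⟨hone, hmul⟩
  obtain rfl : A = GLin.invariants k H R := SetLike.ext hA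
  haveI : IsNoetherianRing (GLin.invariants k H R) := Groth.Agent.InvFin.isNoetherianRing_invariants
  haveI : Module.Finite (GLin.invariants k H R) R := Groth.Agent.InvFin.finite_invariants
  haveI : Algebra.HasGoingDown (GLin.invariants k H R) R := Groth.Agent.InvFin.hasGoingDown_invariants
  obtain ⟨ι⟩ := Groth.Agent.Comod.nonempty_integral hG
  let π : R →ₗ[GLin.invariants k H R] GLin.invariants k H R :=
    { toFun := fun x => ⟨Groth.Agent.Comod.reynolds R ι x, Groth.Agent.Comod.reynolds_mem ι x⟩
      map_add' := fun x y => Subtype.ext (map_add _ x y)
      map_smul' := fun a x => Subtype.ext (Groth.Agent.Comod.reynolds_mul ι (a : R) x hmul a.2) }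
  have hπ : π 1 = 1 := Subtype.ext (Groth.Agent.Comod.reynolds_of_mem ι
    (GLin.invariants k H R).one_mem)
  exact Groth.Agent.InvFin.cohenMacaulay_pair π hπ hR

end Groth.Agent.S11140
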