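import Groth.Statements.S11141
import Groth.Agent.InvFin.EqLocus
import Groth.Agent.InvFin.Coact

set_option autoImplicit false
universe u
open TensorProduct
open InvTh

namespace Groth.Agent.S11141

/-- Let k be a field, H a finitely generated commutative Hopf algebra over k (the coordinate ring of a
group scheme affine and of finite type over k), and S a commutative k-algebra which is
ring-isomorphic to a finite product of normal (integrally closed) domains and carries an H-comodule
structure whose coaction S → S ⊗ H is multiplicative and unital. Then the k-subalgebra of invariants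
of S, the elements s whose coaction is s ⊗ 1, is again ring-isomorphic to a finite product of normal
domains. -/
theorem result (k : Type u) [Field k]
    (H : Type u) [CommRing H] [HopfAlgebra k H] [Algebra.FiniteType k H]
    (S : Type u) [CommRing S] [Algebra k S] [HopfRep.Comod k H S]
    (hmul : ∀ x y : S, HopfRep.Comod.coact (k := k) (A := H) (x * y) =
        HopfRep.Comod.coact (k := k) (A := H) x * HopfRep.Comod.coact (k := k) (A := H) y)
    (hone : HopfRep.Comod.coact (k := k) (A := H) (1 : S) = 1)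
    {ι : Type u} [Fintype ι] (D : ι → Type u) [∀ i, CommRing (D i)] [∀ i, IsDomain (D i)]
    [∀ i, IsIntegrallyClosed (D i)] (e : S ≃+* Π i, D i)
    (A : Subalgebra k S)
    (hA : ∀ a : S, a ∈ A ↔ HopfRep.Comod.coact (k := k) (A := H) a = a ⊗ₜ[k] (1 : H)) :
    ∃ (κ : Type u) (_ : Fintype κ) (E : κ → Type u) (_ : ∀ j, CommRing (E j)) (_ : ∀ j, IsDomain (E j))
      (_ : ∀ j, IsIntegrallyClosed (E j)), Nonempty (A ≃+* Π j, E j) := by
  haveI : GLin.IsCoactAlg k H S := ⟨hone, hmul⟩
  let ρ : S →+* S ⊗[k] H := (GLin.coactAlgHom k H S).toRingHom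
  let ι₀ : S →+* S ⊗[k] H := Algebra.TensorProduct.includeLeftRingHom
  let F : Set ((Π i, D i) →+* S ⊗[k] H) := {ρ.comp e.symm.toRingHom, ι₀.comp e.symm.toRingHom}
  have hnz : ∀ s ∈ nonZeroDivisors (Π i, D i), e.symm s ∈ nonZeroDivisors S := fun s hs =>
    MulEquivClass.map_nonZeroDivisors e.symm ▸ Submonoid.mem_map_of_mem _ hs
  have hF : ∀ f ∈ F, ∀ s ∈ nonZeroDivisors (Π i, D i), f s ∈ nonZeroDivisors (S ⊗[k] H) := by
    rintro f (rfl | rfl) s hs
    · exact Groth.Agent.InvFin.mem_nonZeroDivisors_coact (hnz s hs)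
    · exact Groth.Agent.InvFin.mem_nonZeroDivisors_tmul_one (hnz s hs)
  let A' : Subring (Π i, D i) := A.toSubring.map e.toRingHom
  have hA' : ∀ a, a ∈ A' ↔ ∀ f ∈ F, ∀ f' ∈ F, f a = f' a := by
    intro a
    constructor
    · rintro ⟨x, hx, rfl⟩
      have hx' := (hA x).1 hx
      rintro f (rfl | rfl) f' (rfl | rfl) <;>
        simp [ρ, ι₀, hx', GLin.coactAlgHom_apply]
    · intro h
      have h1 := h _ (Or.inl rfl) _ (Or.inr rfl)
      exact ⟨e.symm a, (hA _).2 h1, e.apply_symm_apply a⟩
  obtain ⟨κ, hκ, E, hE, h2, h3, ⟨iso⟩⟩ :=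
    Groth.Agent.InvFin.eqLocus_isProdNormalDomains F hF A' hA'
  exact ⟨κ, hκ, E, hE, h2, h3,
    ⟨(A.toSubring.equivMapOfInjective e.toRingHom e.injective).trans iso⟩⟩

end Groth.Agent.S11141
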