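import Groth.Statements.S11142
import Mathlib
import Groth.Agent.Unibranch.ComponentDim

set_option autoImplicit false
universe u
open CategoryTheory AlgebraicGeometry
open FlatMor

namespace Groth.Agent.S11142

/-- For a flat morphism f : X → Y between locally Noetherian schemes, the preimage under f of any dense
open subset of Y is dense in X. -/
theorem result (X Y : Scheme.{u}) [IsLocallyNoetherian X]
    [IsLocallyNoetherian Y] (f : X ⟶ Y) [Flat f] (U : Y.Opens) (hU : Dense (U : Set Y)) :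
    Dense ((f ⁻¹ᵁ U : X.Opens) : Set X) := by
  intro x
  obtain ⟨ζ, hζ, hζx⟩ := Unibranch.exists_isMaxPt_specializes x
  have hfζ : Unibranch.IsMaxPt (f ζ) := fun z hz => by
    obtain ⟨w, hw, rfl⟩ := Flat.generalizingMap f hz
    rw [hζ w hw]
  have hmem : f ζ ∈ U := by
    obtain ⟨W, hW, hyW, -⟩ := exists_isAffineOpen_mem_and_subset (U := ⊤) (TopologicalSpace.Opens.mem_top (f ζ))
    haveI := IsLocallyNoetherian.component_noetherian (X := Y) ⟨W, hW⟩
    obtain ⟨p, hp⟩ : f ζ ∈ Set.range hW.fromSpec := hW.range_fromSpec.ge hyW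
    have hind := hW.fromSpec.isOpenEmbedding.isInducing
    have hmin : ∀ q : PrimeSpectrum Γ(Y, W), q ⤳ p → q = p := fun q hq =>
      hW.fromSpec.isOpenEmbedding.injective ((hfζ _ (hp ▸ hq.map hW.fromSpec.continuous)).trans hp.symm)
    have hq : ∀ q : PrimeSpectrum Γ(Y, W), q.asIdeal ∈ minimalPrimes Γ(Y, W) →
        hW.fromSpec q ∈ U := by
      classical
      intro q hq
      have hfin := minimalPrimes.finite_of_isNoetherianRing Γ(Y, W)
      obtain ⟨a, haq, ha⟩ : ∃ a, a ∉ q.asIdeal ∧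
          ∀ q' ∈ minimalPrimes Γ(Y, W), q' ≠ q.asIdeal → a ∈ q' := by
        let T := hfin.toFinset.erase q.asIdeal
        by_contra! hc
        have hle : T.inf id ≤ q.asIdeal := fun a ha => by
          by_contra haq
          obtain ⟨q', hq', hne, haq'⟩ := hc a haq
          exact haq' ((Finset.inf_le (f := id) (by simp [T, hne, hq']) : T.inf id ≤ q') ha)
        obtain ⟨q', hq', hle'⟩ := (Ideal.IsPrime.inf_le' q.2).mp hle
        obtain ⟨hne, hq''⟩ := Finset.mem_erase.mp hq'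
        exact hne (le_antisymm hle' (hq.2 (hfin.mem_toFinset.mp hq'').1 hle'))
      obtain ⟨_, hr, r, hrU, rfl⟩ : ∃ z ∈ (U : Set Y), z ∈ hW.fromSpec '' ((PrimeSpectrum.basicOpen a : TopologicalSpace.Opens (PrimeSpectrum Γ(Y, W))) : Set (PrimeSpectrum Γ(Y, W))) := by
        obtain ⟨z, hz1, hz2⟩ := hU.inter_open_nonempty _
          (hW.fromSpec.isOpenEmbedding.isOpenMap _ (PrimeSpectrum.basicOpen a).2) ⟨_, q, haq, rfl⟩
        exact ⟨z, hz2, hz1⟩
      obtain ⟨q₀, hq₀, hle⟩ := Ideal.exists_minimalPrimes_le (show (⊥ : Ideal _) ≤ r.asIdeal from bot_le)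
      have hqq : q₀ = q.asIdeal := by
        by_contra hne
        exact hrU (hle (ha q₀ hq₀ hne))
      have hsp : q ⤳ r := (PrimeSpectrum.le_iff_specializes q r).mp (show q.asIdeal ≤ r.asIdeal from hqq ▸ hle)
      exact (hsp.map hW.fromSpec.continuous).mem_open U.2 hr
    rw [← hp]
    obtain ⟨q₀, hq₀, hle⟩ := Ideal.exists_minimalPrimes_le (show (⊥ : Ideal _) ≤ p.asIdeal from bot_le)
    have hsp : (⟨q₀, hq₀.1.1⟩ : PrimeSpectrum Γ(Y, W)) ⤳ p := (PrimeSpectrum.le_iff_specializes _ p).mp hle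
    exact hmin _ hsp ▸ hq ⟨q₀, hq₀.1.1⟩ hq₀
  exact hζx.mem_closed isClosed_closure (subset_closure hmem)

end Groth.Agent.S11142
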