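import Groth.Statements.S11146
import Groth.Agent.GrpCI.Main
import Groth.Agent.GorMor.Scheme
import Groth.Agent.Goren.Apps
import Groth.Agent.KoszulLib.SchLCI
import Groth.Agent.S5798

set_option autoImplicit false
universe u
open CategoryTheory MonoidalCategory CartesianMonoidalCategory MonObj GrpObj AlgebraicGeometry
attribute [local instance] HasDerivedCategory.standard
open GrpSch

namespace Groth.Agent.S11146

/-- Group schemes over Gorenstein rings: let R be a Gorenstein local ring and G a group scheme over Spec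
R which is flat and of finite type over Spec R. Then G is a Gorenstein scheme (locally Noetherian
with all local rings Gorenstein) and has finite Krull dimension. (The published statement concerns
every member of the diagram Spec R ← G ⇇ G ×_R G of the action groupoid, each of which is Spec R or
again a flat finite-type group scheme over Spec R, and adds that O_S[d], for S = Spec R and d the
dimension of R, is then an equivariant dualizing complex; this row states the first assertion for
G.) -/
theorem result (R : Type u) [CommRing R]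
    [LocCoh.IsGorensteinLocalRing R] (G : Over (Spec (CommRingCat.of R))) [GrpObj G] [Flat G.hom]
    [LocallyOfFiniteType G.hom] [QuasiCompact G.hom] :
    Dual3.IsGorenstein G.left ∧ topologicalKrullDim G.left < ⊤ := by
  haveI : IsNoetherianRing R := inferInstance
  haveI : LocallyOfFinitePresentation G.hom := GrpCI.lfp_of_lft G.hom
  haveI : GrpObj (Over.mk G.hom) := inferInstanceAs (GrpObj G)
  have hsyn := GrpCI.synMor_grp G.hom
  have hk := SyntLib.isKoszulAt_of_synMor G.hom hsyn
  let T : (Spec (CommRingCat.of R)).affineOpens := ⟨⊤, isAffineOpen_top _⟩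
  have hX : Dual3.IsGorenstein (Spec (CommRingCat.of R)) := by
    haveI := Goren.isGorensteinRing_of_local R
    refine ⟨inferInstance, fun x => ?_⟩
    exact GorMor.gor_equiv (IsLocalization.algEquiv x.asIdeal.primeCompl (Localization.AtPrime x.asIdeal)
      ((AlgebraicGeometry.Spec.structureSheaf R).presheaf.stalk x)).toRingEquiv
      (LocCoh.IsGorensteinRing.isGorensteinLocalRing_localization _)
  have hlci : Dual3.IsLCIMor G.hom := by
    intro x
    obtain ⟨_, ⟨U, hU, rfl⟩, hxU, -⟩ :=
      G.left.isBasis_affineOpens.exists_subset_of_mem_open (Set.mem_univ x) isOpen_univ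
    exact ⟨⟨U, hU⟩, T, le_top, hxU, KoszulLib.isLCI_of_isKoszulAt G.hom T ⟨U, hU⟩ le_top fun y _ => hk y⟩
  refine ⟨GorMor.isGorenstein_of_lci G.hom hlci hX, ?_⟩
  haveI : CompactSpace G.left := QuasiCompact.compactSpace_of_compactSpace G.hom
  obtain ⟨t, ht⟩ := isCompact_univ.elim_finite_subcover
    (fun U : G.left.affineOpens => ((U.1 : G.left.Opens) : Set G.left)) (fun U => U.1.isOpen) (fun x _ => by
      obtain ⟨_, ⟨U, hU, rfl⟩, hxU, -⟩ :=
        G.left.isBasis_affineOpens.exists_subset_of_mem_open (Set.mem_univ x) isOpen_univ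
      exact Set.mem_iUnion.2 ⟨⟨U, hU⟩, hxU⟩)
  rw [Groth.Agent.S5798.result G.left ↥t (fun U => U.1.1) (eq_top_iff.2 fun x _ => by
    obtain ⟨U, hU, hxU⟩ := Set.mem_iUnion₂.1 (ht (Set.mem_univ x))
    exact TopologicalSpace.Opens.mem_iSup.2 ⟨⟨U, hU⟩, hxU⟩)]
  have hfin : ∀ U : ↥t, topologicalKrullDim ↥(U.1.1 : G.left.Opens) < ⊤ := by
    intro U
    haveI : IsAffine (U.1.1 : G.left.Opens).toScheme := U.1.2
    have hh := U.1.2.isoSpec.hom.homeomorph
    rw [show topologicalKrullDim ↥(U.1.1 : G.left.Opens) = topologicalKrullDim (PrimeSpectrum Γ(G.left, U.1.1)) from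
      IsHomeomorph.topologicalKrullDim_eq _ hh.isHomeomorph, PrimeSpectrum.topologicalKrullDim_eq_ringKrullDim]
    let σ : CommRingCat.of R ⟶ Γ(G.left, U.1.1) :=
      (Scheme.ΓSpecIso (CommRingCat.of R)).inv ≫ G.hom.appLE ⊤ U.1.1 le_top
    letI : Algebra R Γ(G.left, U.1.1) := σ.hom.toAlgebra
    have h1 := HasRingHomProperty.appLE @LocallyOfFiniteType G.hom inferInstance T U.1 le_top
    haveI : Algebra.FiniteType R Γ(G.left, U.1.1) :=
      (RingHom.finiteType_respectsIso.cancel_left_isIso
        (Scheme.ΓSpecIso (CommRingCat.of R)).inv (G.hom.appLE ⊤ U.1.1 le_top)).mpr h1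
    obtain ⟨n, π, hπ⟩ := Algebra.FiniteType.iff_quotient_mvPolynomial''.mp
      (inferInstance : Algebra.FiniteType R Γ(G.left, U.1.1))
    refine lt_of_le_of_lt (ringKrullDim_le_of_surjective π.toRingHom hπ) ?_
    rw [MvPolynomial.ringKrullDim_of_isNoetherianRing]
    obtain ⟨m, hm⟩ : ∃ m : ℕ, ringKrullDim R = m := by
      refine ⟨(Ideal.height (IsLocalRing.maximalIdeal R)).toNat, ?_⟩
      rw [← IsLocalRing.maximalIdeal_height_eq_ringKrullDim]
      have := Ideal.height_ne_top (I := IsLocalRing.maximalIdeal R) (Ideal.IsMaximal.ne_top inferInstance)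
      conv_lhs => rw [← ENat.coe_toNat this]
      rfl
    rw [hm, ← Nat.cast_add]
    exact WithBot.coe_lt_coe.2 (ENat.coe_lt_top _)
  by_contra hne
  obtain ⟨a, -, ha⟩ : ∃ a, True ∧ ¬ topologicalKrullDim ↥((fun U : ↥t => U.1.1) a) < ⊤ := by
    by_contra! hall
    refine hne ?_
    rw [← Finset.sup_univ_eq_iSup, Finset.sup_lt_iff (WithBot.bot_lt_coe ⊤)]
    exact fun a _ => hall a trivial
  exact ha (hfin a)

end Groth.Agent.S11146
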