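import Groth.Statements.S1116
import Groth.Agent.RHomCx.Main
import Groth.Agent.S1039
import Groth.Agent.K0Coh.Basic

set_option autoImplicit false
set_option backward.isDefEq.respectTransparency false
set_option backward.isDefEq.respectTransparency.types false
universe u
open CategoryTheory CategoryTheory.Limits AlgebraicGeometry Opposite
attribute [local instance] HasDerivedCategory.standard
open Perf

namespace Groth.Agent.S1116

/-- Let X be a locally Noetherian scheme, K a cochain complex of O_X-modules whose image in D(O_X) is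
bounded above with coherent cohomology sheaves, and L ∈ D(O_X) bounded below with coherent
cohomology sheaves. Assuming - ⊗^L K and RHom(K, -) exist, RHom(K, L) is bounded below with coherent
cohomology sheaves. -/
theorem result (X : Scheme.{u}) [IsLocallyNoetherian X] (K : CochainComplex X.Modules ℤ) (b : ℤ) [(DCoh.toD X K).IsLE b]
    (hK : DCoh.IsCohD (DCoh.toD X K)) [DCoh.HasLTensorCx K] [DCoh.HasRSheafHom K] (L : DCoh.D X) (a : ℤ) [L.IsGE a] (hL : DCoh.IsCohD L) :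
    DCoh.IsCohD ((DCoh.RSheafHom K).obj L) ∧ ∃ a' : ℤ, ((DCoh.RSheafHom K).obj L).IsGE a' := by
  refine ⟨fun i => ?_, a - b, RHomCx.exists_isGE_RSheafHom K b L a⟩
  refine RHomCx.prop_RSheafHom_pseudoCoherent RHomCx.locClass_coh (X := X) inferInstance K (a - i - 1) ?_ L hL a i (by omega)
  intro x
  obtain ⟨W, hW, hxW, -⟩ := exists_isAffineOpen_mem_and_subset (x := x) (U := (⊤ : X.Opens)) trivial
  haveI : IsAffine (W : Scheme.{u}) := hW
  haveI : IsNoetherian (W : Scheme.{u}) := {}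
  have e : ∀ i, DCoh.HD (DCoh.toD (W : Scheme.{u}) ((DCoh.restrictCx W).obj K)) i ≅ (DCoh.HD (DCoh.toD X K) i).restrict W.ι := fun i =>
    KFlat.hdIso _ i ≪≫ RHomCx.restrictHIso W K i ≪≫
      (Scheme.Modules.restrictFunctor W.ι).mapIso (KFlat.hdIso K i).symm
  have hc : DCoh.IsCohD (DCoh.toD (W : Scheme.{u}) ((DCoh.restrictCx W).obj K)) := fun i =>
    K0Coh.isCoh_of_iso (e i).symm ⟨QC.isQCoh_restrict W.ι (hK i).1, QC.isFT_restrict W.ι (hK i).2⟩
  have hb : (DCoh.toD (W : Scheme.{u}) ((DCoh.restrictCx W).obj K)).IsLE b := (DerivedCategory.isLE_iff _ _).2 fun i hi =>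
    ((Scheme.Modules.restrictFunctor W.ι).map_isZero ((DerivedCategory.isLE_iff _ _).1 inferInstance i hi)).of_iso (e i)
  have hW' := (DQCoh.pc_iff_near _ _).1 ((S1039.result _ _ (fun i => (hc i).1) (a - i - 1)).2 ⟨fun i _ => hc i, b, hb⟩) ⟨x, hxW⟩
  obtain ⟨U, j, hj, u, hu, hP⟩ := hW'
  haveI := hj
  obtain ⟨k, hk, hkj⟩ := DQCoh.exists_opens (j ≫ W.ι)
  obtain ⟨E, α, hE, hα⟩ := DQCoh.pcOn_congr hkj (DQCoh.pcOn_comp k (j ≫ W.ι)
    (DQCoh.pcOn_push (K := DCoh.toD X K) j W.ι (DQCoh.pcOn_iso (DQCoh.rdIso W.ι K).symm hP)))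
  exact ⟨(j ≫ W.ι).opensRange, ⟨u, by simp [hu]⟩, fun F ⟨eF⟩ =>
    ⟨E, α ≫ (DCoh.restrictD (j ≫ W.ι).opensRange.ι).map eF.inv ≫ (DQCoh.rdIso (j ≫ W.ι).opensRange.ι F).hom, hE,
      DQCoh.mIsoD_comp_right ((DCoh.restrictD (j ≫ W.ι).opensRange.ι).mapIso eF.symm ≪≫
        DQCoh.rdIso (j ≫ W.ι).opensRange.ι F) hα⟩⟩

end Groth.Agent.S1116
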