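import Groth.Statements.S11161
import Mathlib
import Groth.Agent.QCGen.Resolve

set_option autoImplicit false
universe w w' v v' u u'
open CategoryTheory CategoryTheory.Limits
open CohDer

namespace Groth.Agent.S11161

/-- Let ι : A' ⥤ A be an exact fully faithful functor of abelian categories whose essential image is
closed under extensions, and suppose every object of A' admits a monomorphism into an object of A'
whose image in A is injective. Then every object Z of D(A) with H^i(Z) = 0 for i < a and all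
cohomology objects in the essential image of ι is isomorphic to the image under D(A') ⥤ D(A) of a
complex I of objects of A', zero in degrees < a, whose terms are injective in A. -/
theorem result {A' : Type u'} [Category.{v'} A'] [Abelian A'] [HasDerivedCategory.{w'} A']
    {A : Type u} [Category.{v} A] [Abelian A] [HasDerivedCategory.{w} A]
    (ι : A' ⥤ A) [ι.Additive] [PreservesFiniteLimits ι] [PreservesFiniteColimits ι] [ι.Full] [ι.Faithful]
    (hext : ∀ S : ShortComplex A, S.ShortExact → ι.essImage S.X₁ → ι.essImage S.X₃ → ι.essImage S.X₂)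
    (hinj : ∀ X' : A', ∃ (Y' : A') (i : X' ⟶ Y'), Mono i ∧ Injective (ι.obj Y'))
    (Z : DerivedCategory A) (a : ℤ) [Z.IsGE a]
    (hZ : ∀ i : ℤ, ι.essImage ((DerivedCategory.homologyFunctor A i).obj Z)) :
    ∃ (I : CochainComplex A' ℤ), I.IsStrictlyGE a ∧ (∀ n : ℤ, Injective (ι.obj (I.X n))) ∧
      Nonempty (ι.mapDerivedCategory.obj (DerivedCategory.Q.obj I) ≅ Z) := by
  haveI : (Z⟦a⟧).IsGE 0 := (DerivedCategory.TStructure.t).isGE_shift Z a a 0 (by omega)
  obtain ⟨K, hK0, ⟨eK⟩⟩ := DerivedCategory.exists_iso_Q_obj_of_isGE (Z⟦a⟧) 0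
  haveI := hK0
  let H0 := DerivedCategory.homologyFunctor A 0
  have hK : ∀ n, ι.essImage (K.homology n) := fun n => by
    obtain ⟨W, ⟨eW⟩⟩ := hZ (a + n)
    refine ⟨W, ⟨eW ≪≫ ?_⟩⟩
    exact ((H0.shiftIso a n (a + n) rfl).app Z).symm ≪≫ (DerivedCategory.homologyFunctor A n).mapIso eK ≪≫
      (DerivedCategory.homologyFunctorFactors A n).app K
  obtain ⟨I, F, hI0, hIinj, hF⟩ := Groth.Agent.QCGen.Resolve.exists_resolution hext hinj K hK
  haveI := hI0
  haveI := hF
  refine ⟨I⟦(-a : ℤ)⟧, I.isStrictlyGE_shift 0 (-a) a (by omega), fun n => hIinj _, ⟨?_⟩⟩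
  let D := ι.mapDerivedCategory
  exact D.mapIso ((DerivedCategory.Q.commShiftIso (-a)).app I) ≪≫
    (D.commShiftIso (-a)).app (DerivedCategory.Q.obj I) ≪≫
    (shiftFunctor (DerivedCategory A) (-a)).mapIso
      (ι.mapDerivedCategoryFactors.app I ≪≫ (asIso (DerivedCategory.Q.map F)).symm ≪≫ eK.symm) ≪≫
    (shiftShiftNeg Z a)

end Groth.Agent.S11161
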