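import Groth.Statements.S11163
import Groth.Agent.W7Hull.ExtTest

set_option autoImplicit false
universe u
open CategoryTheory CategoryTheory.Limits AlgebraicGeometry
attribute [local instance] HasDerivedCategory.standard
open Coherent

set_option backward.isDefEq.respectTransparency false
set_option linter.style.haveILetI false
namespace Groth.Agent.S11163

/-- (i) ⇔ (iv): let X be a locally Noetherian scheme and F a quasi-coherent O_X-module. Then F is an
injective O_X-module if and only if the sheaf Ext¹_{O_X}(G, F) (the first right derived functor of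
the sheaf-Hom functor Hom_{O_X}(G, -), here the right adjoint of G ⊗ -) vanishes for every coherent
O_X-module G. (The binders asserting that G ⊗ - has a right adjoint, that this adjoint is additive
and that O_X-modules have injective resolutions always hold.) -/
theorem result {X : Scheme.{u}} [IsLocallyNoetherian X]
    [HasInjectiveResolutions X.Modules] (F : X.Modules) (hF : Coh.IsQCoh F) :
    Injective F ↔ ∀ (G : X.Modules) [DCoh.HasSheafHom G] [(DCoh.sheafHom G).Additive],
      Coh.IsCoh G → IsZero (((DCoh.sheafHom G).rightDerived 1).obj F) := by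
  constructor
  · intro hI G _ _ _
    haveI := hI
    exact ((DCoh.sheafHom G).isZero_rightDerived_obj_injective_succ 0 F)
  · intro h
    obtain ⟨A, j, hA, hjm, -⟩ := Groth.Agent.W7Hull.exists_qcoh_injective F hF
    haveI := hA; haveI := hjm
    refine Groth.Agent.W7Hull.injective_of_stalk F hF fun x => ?_
    haveI := Groth.Agent.W7InjStalk.injective_stalk A x
    refine Module.Baer.injective fun I φ => ?_
    let jx := Groth.Agent.W7Hull.st j x
    obtain ⟨e', he'⟩ := Module.Baer.of_injective (R := X.presheaf.stalk x) (Groth.Agent.W7InjStalk.injective_stalk A x) I (jx.comp φ)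
    let e := e' 1
    have hphi : ∀ r (hr : r ∈ I), jx (φ ⟨r, hr⟩) = r • e := fun r hr => by
      change (jx.comp φ) ⟨r, hr⟩ = r • e' 1
      rw [← he' r hr, ← map_smul, smul_eq_mul, mul_one]
    obtain ⟨a, ha, hka⟩ := Groth.Agent.W7Hull.exists_lift_killed F h j x I
      (Groth.Agent.W7Hull.st (cokernel.π j) x e) (fun r hr => by
        rw [← map_smul, ← hphi r hr, ← Groth.Agent.W7Hull.st_comp, cokernel.condition,
          Groth.Agent.W7Hull.st_zero])
    obtain ⟨f₀, hf₀⟩ := Groth.Agent.W7Hull.st_exact_cokernel j x (e - a) (by rw [map_sub, ha, sub_self])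
    refine ⟨LinearMap.toSpanSingleton _ _ f₀, fun r hr => ?_⟩
    refine Groth.Agent.W7Hull.st_injective j x ?_
    rw [LinearMap.toSpanSingleton_apply, map_smul, hf₀, smul_sub, hka r hr, sub_zero]
    exact (hphi r hr).symm

end Groth.Agent.S11163
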