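import Groth.Statements.S11165
import Groth.Agent.CohQC.Push
import Groth.Agent.CohQC.RpushModules

set_option autoImplicit false
universe u
open CategoryTheory CategoryTheory.Limits AlgebraicGeometry
open Coherent

namespace Groth.Agent.S11165

/-- Let f : X ⟶ Y be a separated morphism of schemes, U an open of X on which f restricts to an affine
morphism, i : U ⟶ X the inclusion and F a quasi-coherent O_X-module. Then i_*(F|_U) is acyclic for
f_*: its higher direct images R^j f_* vanish for j > 0. (The binder asserting injective resolutions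
of O_X-modules always holds.) -/
theorem result {X Y : Scheme.{u}} (f : X ⟶ Y) [IsSeparated f]
    (U : X.Opens) [IsAffineHom (U.ι ≫ f)] (F : X.Modules) (hF : Coh.IsQCoh F)
    [HasInjectiveResolutions X.Modules] (j : ℕ) (hj : 0 < j) :
    IsZero ((Coh.Rpush f j).obj ((Scheme.Modules.pushforward U.ι).obj ((Scheme.Modules.restrictFunctor U.ι).obj F))) := by
  haveI : IsAffineHom U.ι := IsAffineHom.of_comp U.ι f
  haveI : (F.restrict U.ι).IsQuasicoherent := Groth.Agent.QC.isQCoh_restrict U.ι hF
  let G := (Scheme.Modules.pushforward U.ι).obj ((Scheme.Modules.restrictFunctor U.ι).obj F)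
  obtain ⟨e⟩ := Groth.Agent.CohQC.toAb_rpush_iso f G j
  refine Groth.Agent.CohQC.isZero_of_isZero_toAb (IsZero.of_iso ?_ e)
  refine Groth.Agent.SiteCoh.isZero_rpush_of_locKilled (K := _) (u := TopologicalSpace.Opens.map f.base)
    (Groth.Agent.CohQC.locKilled_of_basis f.base (Coh.toAb G) j {W | IsAffineOpen (X := Y) W}
      (fun V y hy => Groth.Agent.CohQC.exists_affine_le V y hy) fun W hW => ?_)
  obtain ⟨q, rfl⟩ : ∃ q, j = q + 1 := ⟨j - 1, by omega⟩
  refine Groth.Agent.CohQC.hu_push_vanish U.ι (F.restrict U.ι) (f ⁻¹ᵁ W) ?_ q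
  exact (show IsAffineOpen ((U.ι ≫ f) ⁻¹ᵁ W) from hW.preimage (U.ι ≫ f))

end Groth.Agent.S11165
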