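import Groth.Statements.S11166
import Mathlib
import Groth.Agent.QCGen.Basic
import Groth.Agent.QCGen.Plus
import Groth.Agent.W7Hull.QCoh
import Groth.Agent.DQCoh.Serre
import Groth.Agent.DerPush.Basic

set_option autoImplicit false
set_option backward.isDefEq.respectTransparency false
set_option backward.isDefEq.respectTransparency.types false
universe u
open CategoryTheory CategoryTheory.Limits AlgebraicGeometry
attribute [local instance] HasDerivedCategory.standard
open Coherent

namespace Groth.Agent.S11166

/-- For a locally Noetherian scheme X the natural functor D⁺(QCoh(X)) ⥤ D⁺_qc(O_X) is an equivalence: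
granting that quasi-coherent modules form an abelian full subcategory of all O_X-modules with exact
inclusion (instance hypotheses that always hold), the induced functor D(QCoh(X)) ⥤ D(O_X) is fully
faithful on cohomologically bounded below objects, and every object of D(O_X) with Hⁱ = 0 for i < a
and quasi-coherent cohomology sheaves is isomorphic to the image of an object of D(QCoh(X)) with Hⁱ
= 0 for i < a. -/
theorem result (X : Scheme.{u}) [IsLocallyNoetherian X]
    [ObjectProperty.ContainsZero (fun M : X.Modules => Coh.IsQCoh M)] [ObjectProperty.IsClosedUnderKernels (fun M : X.Modules => Coh.IsQCoh M)]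
    [ObjectProperty.IsClosedUnderCokernels (fun M : X.Modules => Coh.IsQCoh M)] [ObjectProperty.IsClosedUnderFiniteProducts (fun M : X.Modules => Coh.IsQCoh M)]
    [PreservesFiniteLimits (ObjectProperty.ι (fun M : X.Modules => Coh.IsQCoh M))] [PreservesFiniteColimits (ObjectProperty.ι (fun M : X.Modules => Coh.IsQCoh M))] :
    (∀ (M N : DerivedCategory (ObjectProperty.FullSubcategory (fun M : X.Modules => Coh.IsQCoh M))) (a b : ℤ), M.IsGE a → N.IsGE b →
        Function.Bijective (fun f : M ⟶ N => (ObjectProperty.ι (fun M : X.Modules => Coh.IsQCoh M)).mapDerivedCategory.map f)) ∧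
      ∀ (K : DCoh.D X) (a : ℤ), K.IsGE a → DCoh.IsQCohD K →
        ∃ M : DerivedCategory (ObjectProperty.FullSubcategory (fun M : X.Modules => Coh.IsQCoh M)), M.IsGE a ∧
          Nonempty ((ObjectProperty.ι (fun M : X.Modules => Coh.IsQCoh M)).mapDerivedCategory.obj M ≅ K) := by
  let P : ObjectProperty X.Modules := fun M => Coh.IsQCoh M
  have hinj : ∀ J : ObjectProperty.FullSubcategory (fun M : X.Modules => Coh.IsQCoh M),
      Injective J → Injective (P.ι.obj J) := fun J hJ => by
    haveI := hJ
    exact Groth.Agent.W7Hull.injective_of_injective_qcoh J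
  haveI : EnoughInjectives (ObjectProperty.FullSubcategory (fun M : X.Modules => Coh.IsQCoh M)) :=
    Groth.Agent.QCGen.enoughInjectives X
  haveI : IsGrothendieckAbelian.{u} X.Modules := Groth.Agent.DerPush.isGrothendieckAbelian_modules X
  haveI : EnoughInjectives X.Modules := IsGrothendieckAbelian.enoughInjectives
  haveI := Groth.Agent.QCGen.isLeftAdjoint X (QCohCat.isQCoh X).ι
  let adj : P.ι ⊣ (QCohCat.isQCoh X).ι.rightAdjoint := Adjunction.ofIsLeftAdjoint (QCohCat.isQCoh X).ι
  haveI : ((QCohCat.isQCoh X).ι.rightAdjoint).Additive := adj.right_adjoint_additive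
  refine ⟨fun M N a b _ hN => Groth.Agent.QCGen.Plus.map_bijective P.ι hinj M N b hN, fun K a hK hQ => ?_⟩
  exact Groth.Agent.QCGen.Plus.exists_preimage P.ι hinj adj P (fun M => M.property)
    (fun M hM => ⟨⟨M, hM⟩, ⟨Iso.refl _⟩⟩)
    (fun f hM hN => Groth.Agent.QC.isQCoh_kernel hM hN f)
    (fun S hS h1 h3 => Groth.Agent.DQCoh.isQCoh_of_shortExact hS h1 h3)
    (fun f hM hN => Groth.Agent.QC.isQCoh_cokernel hM hN f)
    (fun e hM => Groth.Agent.QC.isQCoh_of_iso e hM) K a hK hQ

end Groth.Agent.S11166
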