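import Groth.Statements.S11168
import Groth.Agent.PClassRes.Basic

set_option autoImplicit false
universe v u
open CategoryTheory CategoryTheory.Limits
open CohDer

namespace Groth.Agent.S11168

/-- Let A be an abelian category and P a class of objects of A such that (i) every object admits a
monomorphism into an object of P; (ii) in a short exact sequence 0 → X → Y → Z → 0 with X in P, Y
lies in P if and only if Z does; (iii) for some n ≥ 1, whenever X⁰ → X¹ → ⋯ → Xⁿ → 0 is exact (a
cochain complex indexed by ℕ, exact in degrees 1, …, n, zero beyond degree n, with surjective last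
differential) and X⁰, …, Xⁿ⁻¹ lie in P, then Xⁿ lies in P. Then every cochain complex of objects of
A admits a quasi-isomorphism into a cochain complex whose terms all lie in P. -/
theorem result {A : Type u} [Category.{v} A] [Abelian A]
    (P : ObjectProperty A)
    (h1 : ∀ X : A, ∃ (Y : A) (i : X ⟶ Y), P Y ∧ Mono i)
    (h2 : ∀ S : ShortComplex A, S.ShortExact → P S.X₁ → (P S.X₂ ↔ P S.X₃))
    (n : ℕ) (hn : 1 ≤ n)
    (h3 : ∀ K : CochainComplex A ℕ, (∀ i : ℕ, 1 ≤ i → i ≤ n → K.ExactAt i) → (∀ i : ℕ, n < i → IsZero (K.X i)) →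
      Epi (K.d (n - 1) n) → (∀ i : ℕ, i < n → P (K.X i)) → P (K.X n))
    (X : CochainComplex A ℤ) :
    ∃ (I : CochainComplex A ℤ) (f : X ⟶ I), QuasiIso f ∧ ∀ k : ℤ, P (I.X k) := by
  have hz : ∀ {Z : A}, IsZero Z → P Z := fun {Z} hZ => by
    obtain ⟨Y, -, hY, -⟩ := h1 Z
    let S : ShortComplex A := ShortComplex.mk (𝟙 Y) (0 : Y ⟶ Z) (by simp)
    exact (h2 S (ShortComplex.Splitting.mk (S := S) (𝟙 Y) 0 (by simp [S]) (hZ.eq_of_src _ _) (by simp [S])).shortExact hY).1 hY
  have hiso : ∀ {U V : A}, (U ≅ V) → P U → P V := fun {U V} e hU => by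
    obtain ⟨Y, -, hY, -⟩ := h1 U
    open scoped ZeroObject in
    let S : ShortComplex A := ShortComplex.mk (0 : 0 ⟶ V) e.inv (by simp)
    exact (h2 S (ShortComplex.Splitting.mk (S := S) 0 e.hom ((Limits.isZero_zero A).eq_of_src _ _) (by simp [S]) (by simp [S])).shortExact (hz (Limits.isZero_zero A))).2 hU
  have hext : ∀ {U V W : A} (f : U ⟶ V) (g : V ⟶ W) (w : f ≫ g = 0),
      (ShortComplex.mk f g w).ShortExact → P U → P W → P V := fun f g w hS hU hW => (h2 _ hS hU).2 hW
  have key : ∀ (m : ℕ) (X : CochainComplex A ℤ), (∀ k, Groth.Agent.PClassRes.D P m (X.X k)) →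
      ∃ (I : CochainComplex A ℤ) (f : X ⟶ I), QuasiIso f ∧ ∀ k : ℤ, P (I.X k) := by
    intro m
    induction m with
    | zero => exact fun X hX => ⟨X, 𝟙 X, inferInstance, hX⟩
    | succ m ih =>
      intro X hX
      obtain ⟨T, ι, hι, hT⟩ := Groth.Agent.PClassRes.exists_mono (P := P) h1
        (fun {U V} hU hV => hext _ _ _ (ShortComplex.Splitting.ofHasBinaryBiproduct U V).shortExact hU hV) X
      let S : ShortComplex (CochainComplex A ℤ) := ShortComplex.mk ι (Limits.cokernel.π ι) (Limits.cokernel.condition ι)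
      have hS : S.ShortExact := ShortComplex.ShortExact.mk' (ShortComplex.exact_cokernel ι) hι
        (inferInstanceAs (Epi (Limits.cokernel.π ι)))
      obtain ⟨J, g, hg, hJ⟩ := ih (Limits.cokernel ι) fun k =>
        hX k _ (hS.map_of_exact (HomologicalComplex.eval A (ComplexShape.up ℤ) k)) rfl (hT k)
      exact Groth.Agent.PClassRes.exists_cocone hext S hS hT g hJ
  exact key n X fun k => Groth.Agent.PClassRes.D_of_codim hiso n hn h3 (X.X k)

end Groth.Agent.S11168
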