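import Groth.Statements.S11169
import Groth.Agent.TMul.ExtendOpen
import Groth.Agent.TMul.GlobGen
import Groth.Agent.ExtShX.Divisor
import Groth.Agent.PBundle.Local
import Groth.Agent.ProjMor.Segre
import Groth.Agent.HQProj.Basic
import Groth.Agent.W7Hull.HomAdj
import Groth.Agent.QC.Localisation

set_option autoImplicit false
universe u
open CategoryTheory CategoryTheory.Limits AlgebraicGeometry
open Coherent

set_option backward.isDefEq.respectTransparency false
set_option backward.isDefEq.respectTransparency.types false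

namespace Groth.Agent.S11169

/-- Let Y be a locally Noetherian scheme, f : P^n_Y ⟶ Y the projection and F a quasi-coherent module on
P^n_Y. Then there are quasi-coherent O_Y-modules G_j, integers m_j > 0 and an epimorphism ∐_j
f^*(G_j) ⊗ O(-m_j) ⟶ F. -/
theorem result (Y : Scheme.{u}) [IsLocallyNoetherian Y]
    (n : ℕ) (F : (CohB1.ProjSpaceOver n Y).Modules) (hF : Coh.IsQCoh F) :
    ∃ (ι : Type u) (G : ι → Y.Modules) (m : ι → ℕ)
      (p : (∐ fun j => CohB1.tensorMod ((Scheme.Modules.pullback (CohB1.ProjSpaceOver.toBase n Y)).obj (G j))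
        (Twist.twistOver n Y (-((m j : ℕ) : ℤ)))) ⟶ F),
      (∀ j, Coh.IsQCoh (G j)) ∧ (∀ j, 0 < m j) ∧ Epi p := by
  classical
  let Xp := CohB1.ProjSpaceOver n Y
  let p := CohB1.ProjSpaceOver.toBase n Y
  let L : Xp.Modules := Twist.twistOver n Y 1
  have hLinv : PicF.IsInvertible L := Groth.Agent.PBundle.isInvertible_twistOver n Y 1
  haveI : IsProper p := Groth.Agent.HQProj.isProper_toBase n Y
  haveI : F.IsQuasicoherent := hF
  let P : ℕ → Xp.Modules := fun k => CohB1.tensorPow L (k + 1)
  let Q : ℕ → Xp.Modules := fun k => Twist.twistOver n Y (-((k + 1 : ℕ) : ℤ))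
  have hPinv : ∀ k, PicF.IsInvertible (P k) := fun k => TMul.isInvertible_tensorPow hLinv (k + 1)
  have hPQ : ∀ k, Nonempty (CohB1.tensorMod (P k) (Q k) ≅ Coh.structureModule Xp) := fun k => by
    obtain ⟨e⟩ := Groth.Agent.W7Hull.nonempty_twistOver_pow n Y (k + 1)
    obtain ⟨i⟩ := Groth.Agent.PBundle.isInverseOf_twistOver n Y ((k + 1 : ℕ) : ℤ)
    exact ⟨PicGrp.tensorModIso e.symm (Iso.refl _) ≪≫ TMul.commIso _ _ ≪≫ i⟩
  haveI hS : ∀ k, ((DCoh.tensorBi (X := Xp)).obj (P k)).IsEquivalence := fun k =>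
    Groth.Agent.ExtShX.isEquivalence_tensor (hPQ k).some
  let S : ℕ → (Xp.Modules ⥤ Xp.Modules) := fun k => (DCoh.tensorBi (X := Xp)).obj (P k)
  let G : ULift.{u} ℕ → Y.Modules := fun j => (Scheme.Modules.pushforward p).obj ((S j.down).obj F)
  have hG : ∀ j, Coh.IsQCoh (G j) := fun j => by
    haveI : ((S j.down).obj F).IsQuasicoherent :=
      Groth.Agent.QC.isQCoh_of_iso (TMul.commIso F (P j.down))
        (TMul.isQCoh_tensor (hPinv j.down))
    exact Groth.Agent.QC.isQCoh_pushforward p
  have hT : ∀ (k : ℕ) (E : Xp.Modules),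
      Nonempty ((S k).inv.obj E ≅ CohB1.tensorMod E (Q k)) := fun k E => by
    obtain ⟨e⟩ := hPQ k
    let w : (S k).obj (CohB1.tensorMod E (Q k)) ≅ E :=
      PicGrp.tensorModIso (Iso.refl (P k)) (TMul.commIso E (Q k)) ≪≫
        (TMul.assocIso (P k) (Q k) E).symm ≪≫ PicGrp.tensorModIso e (Iso.refl E) ≪≫
        TMul.commIso _ _ ≪≫ SecTwist.unitorR E
    exact ⟨(S k).inv.mapIso w.symm ≪≫ (S k).asEquivalence.unitIso.symm.app _⟩
  let adj := Scheme.Modules.pullbackPushforwardAdjunction p
  have a := hT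
  let π : ∀ j : ULift.{u} ℕ, CohB1.tensorMod ((Scheme.Modules.pullback p).obj (G j)) (Q j.down) ⟶ F := fun j =>
    (a j.down ((Scheme.Modules.pullback p).obj (G j))).some.inv ≫
      (S j.down).inv.map (adj.counit.app ((S j.down).obj F)) ≫
        (S j.down).asEquivalence.unitIso.inv.app F
  refine ⟨ULift.{u} ℕ, G, fun j => j.down + 1, Limits.Sigma.desc π, hG, fun j => Nat.succ_pos _, ?_⟩
  refine Preadditive.epi_of_cancel_zero _ fun {M} h h0 => ?_
  have hpush : ∀ k, (Scheme.Modules.pushforward p).map ((S k).map h) = 0 := by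
    intro k
    have h1 : π ⟨k⟩ ≫ h = 0 := by
      rw [← Limits.Sigma.ι_desc π ⟨k⟩, Category.assoc, h0, Limits.comp_zero]
    simp only [π, Category.assoc] at h1
    rw [← Limits.comp_zero (f := (a k ((Scheme.Modules.pullback p).obj (G ⟨k⟩))).some.inv),
      cancel_epi] at h1
    have h2 : (S k).inv.map (adj.counit.app ((S k).obj F) ≫ (S k).map h) = 0 := by
      have hn := (S k).asEquivalence.unitIso.inv.naturality h
      simp only [Functor.comp_map, Functor.id_map] at hn
      rw [← hn] at h1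
      rw [Functor.map_comp, ← cancel_mono ((S k).asEquivalence.unitIso.inv.app M),
        Limits.zero_comp, Category.assoc]
      exact h1
    have h3 := (S k).inv.map_injective (h2.trans ((S k).inv.map_zero _ _).symm)
    have := congrArg (adj.homEquiv _ _) h3
    rw [adj.homEquiv_naturality_right, Adjunction.homEquiv_unit, Adjunction.homEquiv_unit,
      adj.right_triangle_components, Category.id_comp] at this
    simpa using this
  refine Scheme.Modules.hom_ext _ _ fun W => ?_
  ext z
  refine Groth.Agent.QC.section_eq_of_locally fun x hx => ?_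
  obtain ⟨U, hU, hxU, -⟩ := exists_isAffineOpen_mem_and_subset (U := (⊤ : Y.Opens)) (x := p.base x) trivial
  obtain ⟨i, hi⟩ := Groth.Agent.PBundle.mem_genLocus_x n Y x
  let e : Γ(L, ⊤) := ProjMor.pull1 (ProjMor.pz n Y) (MvPolynomial.isHomogeneous_X (ULift.{u} ℤ) i)
  let s := TMul.homOf (L := L) e
  have hloc : CohB1.genLocus L s = ProjMor.pz n Y ⁻¹ᵁ ProjMor.chart.{u} n i :=
    ProjMor.genLocus_pull1 (ProjMor.genDegOne_projSpace n _) _ _
  have hxs : x ∈ CohB1.genLocus L s := by
    have : Groth.Agent.PBundle.x n Y i = e :=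
      congrArg (fun c => ProjUP.pullSec (ProjMor.pz n Y) (Twist.twistProjSpace n (ULift.{u} ℤ) 1) c)
        (ProjMor.sec1_eq_globalOf _).symm
    rwa [this] at hi
  let O := p ⁻¹ᵁ U
  let D := O ⊓ CohB1.genLocus L s
  have hD : IsAffineOpen D := by
    have := ProjMor.isAffineOpen_chartOver (S := Y) n i hU
    rwa [ProjMor.chartOver, ← hloc, inf_comm] at this
  have hgen : TMul.IsGen (TMul.val s D) := by
    have := (TMul.isGen_genLocus s).res (inf_le_right : D ≤ CohB1.genLocus L s)
    rwa [TMul.res_val] at this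
  -- vanishing on the chart
  have hzero : ∀ y : Γ(F, D), h.app D y = 0 := by
    intro y
    haveI : IsAffine U.toScheme := hU
    have hOc : IsCompact (O : Set Xp) := p.isCompact_preimage hU.isCompact
    have hOq : IsQuasiSeparated (O : Set Xp) := by
      haveI : QuasiSeparatedSpace O.toScheme :=
        quasiSeparatedSpace_of_quasiSeparated (p ∣_ U)
      exact (isQuasiSeparated_iff_quasiSeparatedSpace (O : Set Xp) O.isOpen).mpr (inferInstanceAs (QuasiSeparatedSpace O.toScheme))
    obtain ⟨m, hm, t', ht'⟩ := TMul.exists_twist_extends_on hOc hOq hLinv s y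
    obtain ⟨k, rfl⟩ : ∃ k, m = k + 1 := ⟨m - 1, by omega⟩
    let t : Γ((S k).obj F, O) := (TMul.commHom F (P k)).app O t'
    have ht : Groth.Agent.QC.res _ (inf_le_left : D ≤ O) t = TMul.tm (TMul.pw (TMul.val s D) (k + 1)) y := by
      refine (Groth.Agent.QC.app_res _ _ _).trans ?_
      rw [ht', TMul.twist_eq_tm s (one_smul _ _).symm, one_pow, one_smul]
      exact TMul.commHom_tm _ _
    have h4 : ((S k).map h).app O t = 0 := congr($(hpush k).app U t)
    have h5 := congrArg (Groth.Agent.QC.res _ (inf_le_left : D ≤ O)) h4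
    rw [map_zero, Groth.Agent.QC.app_res, ht, Groth.Agent.W7Hull.map_tm] at h5
    have h6 := congrArg ((TMul.commHom (P k) M).app D) h5
    rw [TMul.commHom_tm, map_zero] at h6
    refine (TMul.tm_bijective (M := M) (TMul.isGen_pw hgen (k + 1)) _ le_rfl).1 ?_
    dsimp only
    rw [Groth.Agent.QC.res_self, h6, TMul.zero_tm]
  obtain ⟨f, hf, hxf⟩ := hD.exists_basicOpen_le ⟨x, hx⟩ (show x ∈ D from ⟨hxU, hxs⟩)
  refine ⟨Xp.basicOpen f, hf, hxf, ?_⟩
  rw [Groth.Agent.QC.app_res, Groth.Agent.QC.app_res]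
  have key : ∀ w : Γ(F, Xp.basicOpen f), h.app (Xp.basicOpen f) w = 0 := by
    intro w
    have hmem := Groth.Agent.QC.mem_span_basicOpen hD f
      (show Submodule.span Γ(Xp, D) (Set.univ : Set Γ(F, D)) = ⊤ from Submodule.span_univ) w
    induction hmem using Submodule.span_induction with
    | mem b hb =>
      obtain ⟨c, -, rfl⟩ := hb
      rw [← Groth.Agent.QC.app_res, hzero, map_zero]
    | zero => rw [map_zero]
    | add b c _ _ hb hc => rw [map_add, hb, hc, add_zero]
    | smul r b _ hb => rw [Scheme.Modules.Hom.app_smul, hb, smul_zero]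
  exact (key _).trans rfl

end Groth.Agent.S11169
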