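import Groth.Statements.S1117
import Groth.Agent.CohProperPush.TensorPerfect

set_option autoImplicit false
set_option backward.isDefEq.respectTransparency false
set_option backward.isDefEq.respectTransparency.types false
universe u
open CategoryTheory CategoryTheory.Limits AlgebraicGeometry Opposite
attribute [local instance] HasDerivedCategory.standard
open Perf

namespace Groth.Agent.S1117

/-- In the case of a single module: let S be Noetherian, f : X ⟶ S locally of finite type, E a cochain
complex of O_X-modules whose image in D(O_X) is perfect, and G a coherent O_X-module flat over S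
with support proper over S. Assuming the derived functors exist, Rf_* RHom(E, G) is a perfect object
of D(O_S). (The source allows a bounded complex of such modules G.) -/
theorem result {X S : Scheme.{u}} [IsNoetherian S] (f : X ⟶ S) [LocallyOfFiniteType f]
    (E : CochainComplex X.Modules ℤ) (hE : DCoh.IsPerfect (DCoh.toD X E)) [DCoh.HasLTensorCx E] [DCoh.HasRSheafHom E] [DCoh.HasRpush f]
    (G : X.Modules) (hG : Coh.IsCoh G) (hflat : FlatMod.IsFlatOver f G) (hsupp : ClSub.IsProperOver f (CohB1.support G)) :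
    DCoh.IsPerfect ((DCoh.Rpush f).obj ((DCoh.RSheafHom E).obj (DCoh.inD X G))) := by
  obtain ⟨K, hK, -, ⟨eK⟩⟩ := Groth.Agent.KFlat.exists_isKFlat_rep (DCoh.toD X E)
  haveI := Groth.Agent.KFlat.hasLTensorCx K
  haveI := Groth.Agent.RHomCx.hasRSheafHom K
  have hKp := Groth.Agent.DQCoh.perfect_of_iso eK.symm hE
  obtain ⟨Φ⟩ := Groth.Agent.RHomCx.nonempty_LTensorCx_congr (A := K) (B := E) eK
  let α := ((DCoh.RSheafHomAdj K).ofNatIsoLeft Φ).rightAdjointUniq (DCoh.RSheafHomAdj E)
  obtain ⟨D, hD, -, ⟨d⟩⟩ := Groth.Agent.KFlat.exists_isKFlat_rep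
    ((DCoh.RSheafHom K).obj ((DerivedCategory.singleFunctor X.Modules 0).obj (Coh.structureModule X)))
  haveI := Groth.Agent.KFlat.hasLTensorCx D
  haveI := Groth.Agent.RHomCx.hasRSheafHom D
  obtain ⟨⟨eD⟩, -⟩ := Groth.Agent.RHomCx.nonempty_dual K hK hKp D hD ⟨d⟩ (DCoh.inD X G)
  have hDp := Groth.Agent.DQCoh.perfect_of_iso d.symm (Groth.Agent.RHomCx.isPerfect_dual K hK hKp)
  refine Groth.Agent.DQCoh.perfect_of_iso ((DCoh.Rpush f).mapIso ?_)
    (Groth.Agent.CohProperPush.isPerfect_rpush_tR f hD hDp G hG hflat hsupp)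
  exact (DerivedCategory.Q.mapIso (Groth.Agent.KFlat.tensSingleIso (Groth.Agent.KFlat.schB X) D G ≪≫
      Groth.Agent.KFlat.swapIso (Groth.Agent.KFlat.braid X.sheaf) D
        ((HomologicalComplex.single X.Modules (ComplexShape.up ℤ) 0).obj G))) ≪≫
    (Groth.Agent.KFlat.ltIsoOfKFlat hD _).symm ≪≫
    (DCoh.LTensorCx D).mapIso ((DerivedCategory.singleFunctorIsoCompQ X.Modules 0).app G).symm ≪≫ eD ≪≫
    α.app (DCoh.inD X G)

end Groth.Agent.S1117
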