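import Groth.Statements.S11174
import Mathlib
import Groth.Agent.InjHull.Duality
-- import your own Groth.Agent.* helpers here

set_option autoImplicit false
universe u
open CategoryTheory
open InjHull

namespace Groth.Agent.S11174

/-- Fix a Noetherian local ring A, write m for its maximal ideal and k for its residue field, and let I
be an A-module such that (a) every element of I is killed by some power of m, (b) the A-module
Hom_A(k, I) is isomorphic to k, and (c) there is a decreasing sequence of ideals a_1 ⊇ a_2 ⊇ … of A,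
cofinal with the powers of m in both directions (each a_n contains a power of m and each power of m
contains some a_n), with length_A(A/a_n) = length_A(Hom_A(A/a_n, I)) for every n. Then I is an
injective hull of k: some A-linear map k → I is an essential injection into an injective module. -/
theorem result (A : Type u) [CommRing A] [IsLocalRing A] [IsNoetherianRing A] (I : Type u) [AddCommGroup I] [Module A I] (ha : LocCoh.IsPowerTorsion (IsLocalRing.maximalIdeal A) I) (hb : Nonempty ((IsLocalRing.ResidueField A →ₗ[A] I) ≃ₗ[A] IsLocalRing.ResidueField A)) (a : ℕ → Ideal A) (hanti : Antitone a) (hcof : ∀ n : ℕ, ∃ N : ℕ, IsLocalRing.maximalIdeal A ^ N ≤ a n) (hcof' : ∀ N : ℕ, ∃ n : ℕ, a n ≤ IsLocalRing.maximalIdeal A ^ N) (hlen : ∀ n : ℕ, Module.length A (A ⧸ a n) = Module.length A ((A ⧸ a n) →ₗ[A] I)) : ∃ f : IsLocalRing.ResidueField A →ₗ[A] I, InjHull.IsInjectiveHull f := by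
  obtain ⟨hb⟩ := hb
  let m := IsLocalRing.maximalIdeal A
  have hs : IsSimpleModule A (IsLocalRing.ResidueField A →ₗ[A] I) :=
    isSimpleModule_iff_quot_maximal.2 ⟨m, inferInstance, ⟨hb⟩⟩
  obtain ⟨g, hg⟩ := Groth.Agent.InjHull.exists_isEssentialInj_of_simple_socle (m := m) ha hs
  obtain ⟨E, _, _, f, hf⟩ := Groth.Agent.InjHull.exists_isInjectiveHull A (A ⧸ m)
  have := hf.isInjective
  obtain ⟨α, hα, hαg⟩ := Groth.Agent.InjHull.exists_injective_extend hg f hf.injective
  have hsurj : Function.Surjective α := by
    intro y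
    obtain ⟨k, hk⟩ := Groth.Agent.InjHull.isPowerTorsion_hull hf y
    obtain ⟨n, hn⟩ := hcof' k
    obtain ⟨N, hN⟩ := hcof n
    have hkill : ∀ r ∈ m ^ N, ∀ x : A ⧸ a n, r • x = 0 := fun r hr x => by
      obtain ⟨x, rfl⟩ := Ideal.Quotient.mk_surjective x
      exact Ideal.Quotient.eq_zero_iff_mem.2 (Ideal.mul_mem_right x _ (hN hr))
    have hfl : IsFiniteLength A (A ⧸ a n) :=
      Groth.Agent.InjHull.isFiniteLength_of_pow_smul_eq_zero m N _ inferInstance hkill
    have hl := Groth.Agent.InjHull.length_dual hf hfl fun x => ⟨N, fun r hr => hkill r hr x⟩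
    rw [hlen n] at hl
    let T : ((A ⧸ a n) →ₗ[A] I) →ₗ[A] ((A ⧸ a n) →ₗ[A] E) :=
      { toFun := fun h => α ∘ₗ h
        map_add' := fun p q => LinearMap.comp_add p q α
        map_smul' := fun c p => LinearMap.ext fun x => map_smul α c (p x) }
    have hT : Function.Injective T := fun p q hpq =>
      LinearMap.ext fun x => hα (LinearMap.congr_fun hpq x)
    have hTs : Function.Surjective T := by
      rw [← LinearMap.range_eq_top]
      by_contra hne
      have hfin : IsFiniteLength A ((A ⧸ a n) →ₗ[A] E) := by
        refine Module.length_ne_top_iff.1 ?_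
        rw [hl, ← hlen n]
        exact Module.length_ne_top_iff.2 hfl
      obtain ⟨_, _⟩ := isFiniteLength_iff_isNoetherian_isArtinian.1 hfin
      have h1 := Submodule.length_lt hne
      rw [← (LinearEquiv.ofInjective _ hT).length_eq, hl] at h1
      exact lt_irrefl _ h1
    obtain ⟨h, hh⟩ := hTs ((a n).liftQ (LinearMap.toSpanSingleton A E y) fun r hr => hk r (hn hr))
    refine ⟨h (Submodule.Quotient.mk 1), ?_⟩
    have h2 : α (h (Submodule.Quotient.mk 1)) = (1 : A) • y :=
      LinearMap.congr_fun hh (Submodule.Quotient.mk 1)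
    rw [h2, one_smul]
  let e := LinearEquiv.ofBijective α ⟨hα, hsurj⟩
  exact ⟨e.symm.toLinearMap ∘ₗ f, Groth.Agent.InjHull.isInjectiveHull_of_linearEquiv hf e.symm⟩

end Groth.Agent.S11174
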