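import Groth.Statements.S11175
import Groth.Agent.LocH.WeakDuality
import Groth.Agent.LocH.ChangeRings
import Groth.Agent.LocH.Grothendieck
import Groth.Agent.InjHull.Duality
import Groth.Agent.Goren.Artin
-- import your own Groth.Agent.* helpers here

set_option autoImplicit false
universe u
open CategoryTheory
open Goren

namespace Groth.Agent.S11175

open IsLocalRing

theorem gorenstein_of_injective : ∀ (d : ℕ) (A : Type u) [CommRing A] [IsLocalRing A] [IsNoetherianRing A],
    (∀ i : ℕ, i ≠ d → Subsingleton (LocCoh.H (maximalIdeal A) i A)) →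
    Module.Injective A (LocCoh.H (maximalIdeal A) d A) → LocCoh.IsGorensteinLocalRing A := by
  intro d
  induction d with
  | zero =>
    intro A _ _ _ hvan hinj
    obtain ⟨n, hn⟩ := SerreReg.exists_dim_nat A
    have hn0 : n = 0 := by
      by_contra hne
      exact not_subsingleton_iff_nontrivial.2
        (LocH.nontrivial_at_supportDim A n ((Module.supportDim_self_eq_ringKrullDim (R := A)).trans hn)) (hvan n hne)
    subst hn0
    obtain ⟨-, ht⟩ := Goren.isFiniteLength_of_dim_zero A (by simpa using hn)
    let e₀ := ((LocH.zeroIso (maximalIdeal A)).app (ModuleCat.of A A)).toLinearEquiv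
    let e : LocCoh.H (maximalIdeal A) 0 A ≃ₗ[A] A :=
      e₀.trans (LinearEquiv.ofBijective (DRing.torsionSub (maximalIdeal A) A).subtype
        ⟨Submodule.injective_subtype _, fun a => ⟨⟨a, ht a⟩, rfl⟩⟩)
    have : Module.Injective A A := InjHull.injective_of_linearEquiv e
    have : CategoryTheory.Injective (ModuleCat.of A A) := Module.injective_object_of_injective_module A A
    exact { exists_hasInjectiveDimensionLT := ⟨1, injective_iff_hasInjectiveDimensionLT_one.1 this⟩ }
  | succ d ih =>
    intro A _ _ _ hvan hinj
    have hd : ringKrullDim A = (d + 1 : ℕ) := by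
      obtain ⟨n, hn⟩ := SerreReg.exists_dim_nat A
      rw [hn]
      by_contra hne
      exact not_subsingleton_iff_nontrivial.2
        (LocH.nontrivial_at_supportDim A n ((Module.supportDim_self_eq_ringKrullDim (R := A)).trans hn))
        (hvan n fun e => hne (by rw [e]))
    obtain ⟨rs, hlen, hrs, hmem⟩ := LocH.exists_isWeaklyRegular (maximalIdeal A) 1 A fun i hi => hvan i (by omega)
    obtain ⟨x, rfl⟩ := List.length_eq_one_iff.1 hlen
    have hx : x ∈ maximalIdeal A := hmem x (List.mem_singleton_self x)
    have hreg : IsSMulRegular A x := ((RingTheory.Sequence.isWeaklyRegular_cons_iff A x []).1 hrs).1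
    let B := A ⧸ Ideal.span {x}
    haveI : IsLocalRing B := SerreReg.isLocalRing_quot hx
    refine (Goren.gorenstein_iff_quot x hx hreg).2 ?_
    let X : ShortComplex (ModuleCat.{u} A) :=
      ShortComplex.mk (X₁ := ModuleCat.of A A) (X₂ := ModuleCat.of A A) (X₃ := ModuleCat.of A B)
        (x • 𝟙 (ModuleCat.of A A)) (ModuleCat.ofHom (Algebra.linearMap A B)) (by
          ext
          exact Ideal.Quotient.eq_zero_iff_mem.2 (Ideal.mem_span_singleton'.2 ⟨1, (one_mul x).trans (mul_one x).symm⟩))
    have hX : X.ShortExact :=
      { exact := by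
          rw [ShortComplex.moduleCat_exact_iff]
          intro a ha
          obtain ⟨c, hc⟩ := Ideal.mem_span_singleton'.1 (Ideal.Quotient.eq_zero_iff_mem.1 ha)
          exact ⟨c, (mul_comm x c).trans hc⟩
        mono_f := (ModuleCat.mono_iff_injective _).2 hreg
        epi_g := (ModuleCat.epi_iff_surjective _).2 Ideal.Quotient.mk_surjective }
    have hmax : (maximalIdeal A).map (algebraMap A B) = maximalIdeal B :=
      LocH.map_maximalIdeal_of_surjective Ideal.Quotient.mk_surjective
    have hdimB : Module.supportDim A B < ((d + 1 : ℕ) : WithBot ℕ∞) := by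
      have h := ringKrullDim_quotient_span_singleton_succ_eq_ringKrullDim_of_mem_jacobson hreg
        (by rwa [IsLocalRing.ringJacobson_eq_maximalIdeal])
      rw [hd] at h
      obtain ⟨b, hb⟩ := SerreReg.exists_dim_nat B
      rw [Module.supportDim_quotient_eq_ringKrullDim, hb]
      rw [hb] at h
      have h' : b + 1 = d + 1 := by exact_mod_cast h
      exact_mod_cast (by omega : b < d + 1)
    have hvanB : ∀ i, i ≠ d → Subsingleton (LocCoh.H (maximalIdeal B) i B) := by
      intro i hi
      have h0 : Subsingleton (LocCoh.H (maximalIdeal A) i B) := by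
        rcases eq_or_ne i (d + 1) with rfl | hi'
        · exact LocH.subsingleton_of_supportDim_lt _ _ _ hdimB
        · exact LocH.subsingleton_X₃ hX i (hvan i hi') (hvan (i + 1) (by omega))
      obtain ⟨φ, -⟩ := LocH.exists_semilinearEquiv (R' := B) (I := maximalIdeal A) i B
      rw [← hmax]
      exact φ.toEquiv.subsingleton
    refine ih B hvanB ?_
    obtain ⟨φ, hφ⟩ := LocH.exists_semilinearEquiv (R' := B) (I := maximalIdeal A) d B
    have hinj' : Function.Injective (LocH.delta hX d (I := maximalIdeal A)) := by
      refine (injective_iff_map_eq_zero _).2 fun w hw => ?_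
      obtain ⟨v, rfl⟩ := LocH.exact₃ hX d hw
      have := hvan d (by omega)
      rw [Subsingleton.elim v 0, map_zero]
    have hrange : ∀ w, LocH.delta hX d (I := maximalIdeal A) w ∈
        _root_.LocCoh.torsionBy (Ideal.span {x}) (LocCoh.H (maximalIdeal A) (d + 1) A) := fun w => by
      refine (Submodule.mem_torsionBySet_iff _ _).2 fun a => ?_
      obtain ⟨c, hc⟩ := Ideal.mem_span_singleton'.1 a.2
      show (a : A) • LocH.delta hX d w = 0
      rw [← hc, mul_smul, ← LocH.map_smul_id_apply x (d + 1), show (localCohomology (maximalIdeal A) (d + 1)).map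
        (x • 𝟙 (ModuleCat.of A A)) (LocH.delta hX d w) = 0 from LocH.map_delta hX d w, smul_zero]
    have := InjHull.injective_torsionBy (E := LocCoh.H (maximalIdeal A) (d + 1) A) (Ideal.span {x})
    let f₀ : LocCoh.H ((maximalIdeal A).map (algebraMap A B)) d B →
        _root_.LocCoh.torsionBy (Ideal.span {x}) (LocCoh.H (maximalIdeal A) (d + 1) A) :=
      fun w => ⟨LocH.delta hX d (φ w), hrange _⟩
    have hf₀ : Function.Bijective f₀ := by
      refine ⟨fun a b h => φ.injective (hinj' (congrArg Subtype.val h)), fun v => ?_⟩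
      have h0 : (localCohomology (maximalIdeal A) (d + 1)).map X.f v.1 = 0 :=
        (LocH.map_smul_id_apply x (d + 1) v.1).trans
          ((Submodule.mem_torsionBySet_iff _ _).1 v.2 ⟨x, Ideal.mem_span_singleton_self x⟩)
      obtain ⟨w, hw⟩ := LocH.exact₁ hX d h0
      obtain ⟨u, rfl⟩ := φ.surjective w
      exact ⟨u, Subtype.ext hw⟩
    let f : LocCoh.H ((maximalIdeal A).map (algebraMap A B)) d B →ₗ[B]
        _root_.LocCoh.torsionBy (Ideal.span {x}) (LocCoh.H (maximalIdeal A) (d + 1) A) :=
      { toFun := f₀
        map_add' := fun a b => Subtype.ext (by simp [f₀, map_add])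
        map_smul' := fun c w => by
          obtain ⟨a, rfl⟩ := Ideal.Quotient.mk_surjective c
          refine Subtype.ext ?_
          show LocH.delta hX d (φ (algebraMap A B a • w)) = a • LocH.delta hX d (φ w)
          rw [hφ, map_smul] }
    have h2 := InjHull.injective_of_linearEquiv (LinearEquiv.ofBijective f hf₀).symm
    exact hmax ▸ h2

/-- A Noetherian local ring A with maximal ideal m is Gorenstein (A has finite injective dimension as a
module over itself) if and only if there is a natural number d such that the local cohomology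
modules H^i_m(A) (direct limits of Ext^i(A/m^n, A)) vanish for all i ≠ d and H^d_m(A) is an
injective A-module. -/
theorem result (A : Type u) [CommRing A] [IsLocalRing A] [IsNoetherianRing A] : LocCoh.IsGorensteinLocalRing A ↔ ∃ d : ℕ, (∀ i : ℕ, i ≠ d → Subsingleton (LocCoh.H (IsLocalRing.maximalIdeal A) i A)) ∧ Module.Injective A (LocCoh.H (IsLocalRing.maximalIdeal A) d A) := by
  refine ⟨fun h => ?_, fun ⟨d, hvan, hinj⟩ => gorenstein_of_injective d A hvan hinj⟩
  obtain ⟨d, hd⟩ := SerreReg.exists_dim_nat A
  refine ⟨d, fun i hi => ?_, LocH.WeakDuality.injective_top hd⟩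
  rcases Nat.lt_or_gt_of_ne hi with hi | hi
  · exact LocH.WeakDuality.subsingleton_H_self A hd hi
  · exact LocH.subsingleton_of_supportDim_lt _ _ _ ((Module.supportDim_le_ringKrullDim _ _).trans_lt (by
      rw [hd]; exact_mod_cast hi))

end Groth.Agent.S11175
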