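import Groth.Statements.S11180
import Groth.Agent.S0543
import Mathlib

set_option autoImplicit false
universe u
open scoped TensorProduct
open CAlg Groth.Agent

namespace Groth.Agent.S11180

/-- Let A be a Noetherian ring and M an A-module. If an element m of M is such that 1 ⊗ m = 0 in B ⊗_A M
for every A-algebra B which is a complete Noetherian local ring, flat over A, then m = 0.
(Equivalently the natural map from M to the limit of the modules B ⊗_A M over all such B is
injective.) -/
theorem result (A : Type u) [CommRing A] [IsNoetherianRing A] (M : Type u) [AddCommGroup M] [Module A M] (m : M) (h : ∀ (B : Type u) [CommRing B] [Algebra A B] [IsNoetherianRing B] [IsLocalRing B], IsAdicComplete (IsLocalRing.maximalIdeal B) B → Module.Flat A B → (1 : B) ⊗ₜ[A] m = 0) : m = 0 := by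
  by_contra hm
  have hne : Submodule.colon (⊥ : Submodule A M) {m} ≠ ⊤ := fun h1 => hm (by
    have h2 : (1 : A) ∈ Submodule.colon (⊥ : Submodule A M) {m} := h1 ▸ Submodule.mem_top
    simpa [Submodule.mem_colon_singleton] using h2)
  obtain ⟨p, hp, hle⟩ := Ideal.exists_le_maximal _ hne
  haveI := hp
  let L := Localization.AtPrime p
  let B := AdicCompletion (IsLocalRing.maximalIdeal L) L
  haveI : IsNoetherianRing L := IsLocalization.isNoetherianRing p.primeCompl L inferInstance
  haveI : IsLocalRing B := AdicCompletion.isLocalRing_of_fg (IsLocalRing.maximalIdeal L).fg_of_isNoetherianRing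
  haveI : IsNoetherianRing B := S0543.result L (IsLocalRing.maximalIdeal L)
  haveI : Module.Flat L B := AdicCompletion.flat_of_isNoetherian _
  haveI : Module.Flat A B := Module.Flat.trans A L B
  haveI : IsLocalHom (algebraMap L B) :=
    AdicCompletion.algebraMap_isLocalHom_of_fg (IsLocalRing.maximalIdeal L).fg_of_isNoetherianRing
  haveI : Module.FaithfullyFlat L B := Module.FaithfullyFlat.of_flat_of_isLocalHom
  have h0 : (1 : B) ⊗ₜ[A] m = 0 := h B inferInstance inferInstance
  have h1 : (1 : B) ⊗ₜ[L] ((1 : L) ⊗ₜ[A] m) = 0 := by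
    apply (TensorProduct.AlgebraTensorModule.cancelBaseChange A L L B M).injective
    rw [map_zero, TensorProduct.AlgebraTensorModule.cancelBaseChange_tmul, one_smul, h0]
  have h2 : (1 : L) ⊗ₜ[A] m = 0 :=
    Module.FaithfullyFlat.tensorProduct_mk_injective (A := L) (B := B) (L ⊗[A] M) (h1.trans (TensorProduct.tmul_zero _ _).symm)
  haveI : IsLocalizedModule p.primeCompl (TensorProduct.mk A L M 1) :=
    (isLocalizedModule_iff_isBaseChange p.primeCompl L _).2 (TensorProduct.isBaseChange _ _ _)
  obtain ⟨s, hs⟩ := (IsLocalizedModule.eq_zero_iff p.primeCompl (TensorProduct.mk A L M 1)).1 h2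
  exact s.2 (hle (by rw [Submodule.mem_colon_singleton, Submodule.mem_bot]; exact hs))

end Groth.Agent.S11180
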