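import Groth.Statements.S11184
import Mathlib
import Groth.Agent.CoextHull.Basic
-- import your own Groth.Agent.* helpers here

set_option autoImplicit false
universe u
open Matlis

namespace Groth.Agent.S11184

/-- Let A be a Noetherian local ring with residue field k, k → E an injective hull of k, and B a finite
A-algebra (a semilocal ring all of whose maximal ideals lie over the maximal ideal of A). Then the
B-module Hom_A(B, E), with B acting by (b·φ)(b') = φ(bb'), is the internal direct sum over the
maximal ideals n of B of submodules J_n (independent, with supremum everything), where each J_n is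
an injective hull over B of the residue field B/n: each hull occurs exactly once. -/
theorem result (A B : Type u) [CommRing A] [IsLocalRing A] [IsNoetherianRing A] [CommRing B] [Algebra A B] [Module.Finite A B] (E : Type u) [AddCommGroup E] [Module A E] (f : IsLocalRing.ResidueField A →ₗ[A] E) (hf : InjHull.IsInjectiveHull f) : ∃ J : MaximalSpectrum B → Submodule B ((ModuleCat.coextendScalars (algebraMap A B)).obj (ModuleCat.of A E)), iSupIndep J ∧ iSup J = ⊤ ∧ ∀ n : MaximalSpectrum B, ∃ g : (B ⧸ n.asIdeal) →ₗ[B] J n, InjHull.IsInjectiveHull g := by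
  classical
  haveI : IsNoetherianRing B := IsNoetherianRing.of_finite A B
  let mA := IsLocalRing.maximalIdeal A
  let f' : (A ⧸ mA) →ₗ[A] E := f
  have hf' : InjHull.IsInjectiveHull f' := hf
  have := hf.isInjective
  have : CategoryTheory.Injective (ModuleCat.of A E) := Module.injective_object_of_injective_module A E
  let X := (ModuleCat.coextendScalars (algebraMap A B)).obj (ModuleCat.of A E)
  have hX : CategoryTheory.Injective (ModuleCat.of B X) :=
    (ModuleCat.restrictCoextendScalarsAdj (algebraMap A B)).map_injective (ModuleCat.of A E) inferInstance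
  haveI hXinj : Module.Injective B X := Module.injective_module_of_injective_object B X
  let toHom : X → (B →ₗ[A] E) := fun y =>
    { toFun := fun b => y b
      map_add' := fun a b => (ModuleCat.CoextendScalars.equiv (algebraMap A B) (ModuleCat.of A E) y).map_add a b
      map_smul' := fun t a => by
        rw [Algebra.smul_def]
        exact (ModuleCat.CoextendScalars.equiv (algebraMap A B) (ModuleCat.of A E) y).map_smul t a }
  have hsmul : ∀ (c : B) (y : X) (b : B), toHom (c • y) b = toHom y (b * c) := fun c y b => rfl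
  have hext : ∀ y z : X, (∀ b, toHom y b = toHom z b) → y = z := fun y z h =>
    ModuleCat.CoextendScalars.ext (LinearMap.ext fun (b : B) => h b)
  have hover : ∀ n : MaximalSpectrum B, mA = n.asIdeal.comap (algebraMap A B) := fun n => by
    haveI := n.isMaximal
    exact (IsLocalRing.eq_maximalIdeal (Ideal.isMaximal_comap_of_isIntegral_of_isMaximal n.asIdeal)).symm
  let I : Ideal B := mA.map (algebraMap A B)
  have hmem : ∀ n : MaximalSpectrum B, n.asIdeal ∈ I.minimalPrimes := fun n => by
    haveI := n.isMaximal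
    refine ⟨⟨n.isMaximal.isPrime, Ideal.map_le_iff_le_comap.mpr (hover n).le⟩, fun Q ⟨hQ, hIQ⟩ hle => ?_⟩
    haveI := hQ
    haveI : (Q.comap (algebraMap A B)).IsMaximal := by
      have : mA ≤ Q.comap (algebraMap A B) := Ideal.map_le_iff_le_comap.mp hIQ
      rw [← (IsLocalRing.maximalIdeal.isMaximal A).eq_of_le (Ideal.comap_isPrime _ _).ne_top this]
      exact IsLocalRing.maximalIdeal.isMaximal A
    exact ((Ideal.isMaximal_of_isIntegral_of_isMaximal_comap Q this).eq_of_le n.isMaximal.ne_top hle).ge
  haveI : Finite I.minimalPrimes := (Ideal.finite_minimalPrimes_of_isNoetherianRing B I).to_subtype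
  haveI : Finite (MaximalSpectrum B) := Finite.of_injective (fun n => (⟨_, hmem n⟩ : I.minimalPrimes))
    fun a b h => MaximalSpectrum.ext (congrArg Subtype.val h)
  have hE : LocCoh.IsPowerTorsion mA E := by
    haveI := Groth.Agent.InjHull.isArtinian_hull hf'
    exact Groth.Agent.InjHull.isPowerTorsion_of_isArtinian E
  have hXt : ∀ x : X, ∃ K : ℕ, ∀ a ∈ (⨅ n : MaximalSpectrum B, n.asIdeal) ^ K, a • x = 0 := by
    intro x
    obtain ⟨s, hs⟩ := Module.Finite.fg_top (R := A) (M := B)
    choose N hN using fun b : B => hE (toHom x b)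
    let N0 := s.sup N
    have hkill : ∀ a ∈ mA ^ N0, algebraMap A B a • x = 0 := by
      intro a ha
      refine hext _ _ fun b => ?_
      rw [hsmul, mul_comm, ← Algebra.smul_def, map_smul]
      have : a • toHom x b = 0 := by
        have hb : b ∈ Submodule.span A (s : Set B) := hs ▸ Submodule.mem_top
        induction hb using Submodule.span_induction with
        | mem g hg => exact hN g a (Ideal.pow_le_pow_right (Finset.le_sup hg) ha)
        | zero => simp
        | add g h _ _ h1 h2 => rw [map_add, smul_add, h1, h2, add_zero]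
        | smul c g _ h1 => rw [map_smul, smul_comm, h1, smul_zero]
      rw [this]
      rfl
    have hkill' : ∀ a ∈ I ^ N0, a • x = 0 := by
      rw [← Ideal.map_pow]
      intro a ha
      induction ha using Submodule.span_induction with
      | mem g hg => obtain ⟨c, hc, rfl⟩ := hg; exact hkill c hc
      | zero => exact zero_smul B x
      | add g h _ _ h1 h2 => rw [add_smul, h1, h2, add_zero]
      | smul c g _ h1 => rw [smul_eq_mul, mul_smul, h1, smul_zero]
    have hrad : (⨅ n : MaximalSpectrum B, n.asIdeal) ≤ (I ^ N0).radical := by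
      rcases Nat.eq_zero_or_pos N0 with h0 | h0
      · rw [h0, pow_zero, Ideal.one_eq_top, Ideal.radical_top]; exact le_top
      rw [Ideal.radical_pow I h0.ne', Ideal.radical_eq_sInf]
      refine le_sInf fun Q ⟨hIQ, hQ⟩ => ?_
      haveI := hQ
      haveI : (Q.comap (algebraMap A B)).IsMaximal := by
        have : mA ≤ Q.comap (algebraMap A B) := Ideal.map_le_iff_le_comap.mp hIQ
        rw [← (IsLocalRing.maximalIdeal.isMaximal A).eq_of_le (Ideal.comap_isPrime _ _).ne_top this]
        exact IsLocalRing.maximalIdeal.isMaximal A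
      exact iInf_le (fun n : MaximalSpectrum B => n.asIdeal) ⟨Q, Ideal.isMaximal_of_isIntegral_of_isMaximal_comap Q this⟩
    obtain ⟨K, hK⟩ := Ideal.exists_radical_pow_le_of_fg (I ^ N0) (IsNoetherian.noetherian _)
    exact ⟨K, fun a ha => hkill' a (hK (Ideal.pow_right_mono hrad K ha))⟩
  have htop := Groth.Agent.CoextHull.iSup_torPart_eq_top hXt
  refine ⟨fun n => Groth.Agent.CoextHull.torPart n.asIdeal X, Groth.Agent.CoextHull.iSupIndep_torPart, htop, fun n => ?_⟩
  haveI := n.isMaximal
  let mB := n.asIdeal
  letI := Ideal.Quotient.field mA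
  letI := Ideal.Quotient.field mB
  letI := Ideal.Quotient.algebraQuotientOfLEComap ((hover n).le)
  haveI : IsScalarTower A (A ⧸ mA) (B ⧸ mB) := .of_algebraMap_eq fun x => rfl
  haveI : Module.Finite (A ⧸ mA) (B ⧸ mB) := Module.Finite.of_restrictScalars_finite A _ _
  obtain ⟨v, hv⟩ := exists_ne (0 : B ⧸ mB)
  obtain ⟨φ, hφv⟩ : ∃ φ : (B ⧸ mB) →ₗ[A ⧸ mA] (A ⧸ mA), φ v ≠ 0 := by
    by_contra hcon
    push Not at hcon
    exact hv ((Module.forall_dual_apply_eq_zero_iff (A ⧸ mA) v).1 hcon)
  have hφ : φ ≠ 0 := fun h => hφv (by rw [h, LinearMap.zero_apply])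
  let g0 : X := (ModuleCat.CoextendScalars.equiv (algebraMap A B) (ModuleCat.of A E)).symm
    { toFun := fun (x : B) => f' (φ (Ideal.Quotient.mk mB x))
      map_add' := fun (x y : B) => by
        show f' (φ (Ideal.Quotient.mk mB (x + y))) = _
        rw [map_add, map_add, map_add]
      map_smul' := fun r (x : B) => by
        show f' (φ (Ideal.Quotient.mk mB (algebraMap A B r * x))) = r • f' (φ (Ideal.Quotient.mk mB x))
        rw [← f'.map_smul, ← IsScalarTower.algebraMap_smul (A ⧸ mA) r (φ _), ← φ.map_smul,
          Algebra.smul_def, map_mul]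
        rfl }
  have hkill0 : ∀ a ∈ mB, a • g0 = 0 := fun a ha => hext _ _ fun b => by
    show f' (φ (Ideal.Quotient.mk mB (b * a))) = 0
    rw [Ideal.Quotient.eq_zero_iff_mem.2 (Ideal.mul_mem_left _ _ ha), map_zero, map_zero]
  let J := Groth.Agent.CoextHull.torPart mB X
  have hg0J : g0 ∈ J := ⟨1, fun a ha => hkill0 a (by rwa [pow_one] at ha)⟩
  let φ0 : B →ₗ[B] J := LinearMap.toSpanSingleton B J ⟨g0, hg0J⟩
  have hkill : mB ≤ LinearMap.ker φ0 := fun a ha => LinearMap.mem_ker.mpr (Subtype.ext (hkill0 a ha))
  refine ⟨mB.liftQ φ0 hkill, ⟨Groth.Agent.InjHull.isEssentialInj_of_socle_le (m := mB) ?_ _ ?_ fun y hy => ?_,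
    Groth.Agent.CoextHull.injective_torPart htop n⟩⟩
  · rintro ⟨y, N, hN⟩
    exact ⟨N, fun a ha => Subtype.ext (hN a ha)⟩
  · have hsimp : IsSimpleModule B (B ⧸ mB) :=
      isSimpleModule_iff_quot_maximal.2 ⟨mB, inferInstance, ⟨LinearEquiv.refl B _⟩⟩
    refine (LinearMap.injective_or_eq_zero (mB.liftQ φ0 hkill)).resolve_right fun h0 => ?_
    obtain ⟨v, rfl⟩ := Ideal.Quotient.mk_surjective v
    have h1 : v • g0 = 0 := congrArg Subtype.val (LinearMap.congr_fun h0 (Submodule.Quotient.mk v))
    have h2 : f' (φ (Ideal.Quotient.mk mB ((1 : B) * v))) = 0 := by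
      have := congrArg (fun z => toHom z 1) h1
      exact this
    rw [one_mul] at h2
    exact hφv (hf'.injective (h2.trans (map_zero f').symm))
  · let yl : B →ₗ[A] E := toHom y.1
    have hyB : ∀ b ∈ mB, yl b = 0 := fun b hb => by
      have h1 : toHom (b • y.1) 1 = 0 := by
        rw [show b • y.1 = 0 from congrArg Subtype.val (hy b hb)]
        rfl
      rwa [hsmul, one_mul] at h1
    have hrange : ∀ b, yl b ∈ LinearMap.range f' := fun b =>
      Groth.Agent.InjHull.mem_range_of_smul_eq_zero hf' fun a ha => by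
        rw [← map_smul, Algebra.smul_def]
        exact hyB _ (Ideal.mul_mem_right _ _ ((hover n).le ha))
    let ψA : (B ⧸ mB) →ₗ[A] (A ⧸ mA) := Submodule.liftQ (mB.restrictScalars A)
      ((LinearEquiv.ofInjective f' hf'.injective).symm.toLinearMap ∘ₗ yl.codRestrict _ hrange)
      fun b hb => by
        rw [LinearMap.mem_ker, LinearMap.comp_apply, LinearEquiv.coe_coe,
          show yl.codRestrict (LinearMap.range f') hrange b = 0 from Subtype.ext (hyB b hb), map_zero]
    have hψ : ∀ b, f' (ψA (Ideal.Quotient.mk mB b)) = yl b := fun b =>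
      congrArg Subtype.val ((LinearEquiv.ofInjective f' hf'.injective).apply_symm_apply
        (yl.codRestrict _ hrange b))
    let ψ : (B ⧸ mB) →ₗ[A ⧸ mA] (A ⧸ mA) :=
      ψA.extendScalarsOfSurjective (S := A ⧸ mA) Ideal.Quotient.mk_surjective
    obtain ⟨c, hc⟩ := Groth.Agent.InjHull.exists_mul_eq_of_finite hφ ψ
    obtain ⟨c, rfl⟩ := Ideal.Quotient.mk_surjective c
    refine ⟨Submodule.Quotient.mk c, Subtype.ext (hext _ _ fun x => ?_)⟩
    show f' (φ (Ideal.Quotient.mk mB ((x : B) * c))) = toHom y.1 x
    rw [map_mul, hc]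
    exact hψ x

end Groth.Agent.S11184
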