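import Groth.Statements.S11185
import Groth.Agent.DualCx.Self
import Groth.Agent.Goren.Local

set_option autoImplicit false
universe u
open CategoryTheory
attribute [local instance] HasDerivedCategory.standard
open Dual

namespace Groth.Agent.S11185

/-- Let A be a Noetherian ring all of whose local rings A_p at primes are regular and whose Krull
dimension is finite. Then the complex A[0] is a dualizing complex for A (finite injective dimension,
finite cohomology, A → End(A[0]) bijective and no self-maps of nonzero degree). -/
theorem result (A : Type u) [CommRing A] [IsNoetherianRing A] (hreg : ∀ p : PrimeSpectrum A, IsRegularLocalRing (Localization.AtPrime p.asIdeal)) (hdim : ringKrullDim A < ⊤) : Dual.IsDualizing A (Dual.inD A A) := by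
  haveI : LocCoh.IsGorensteinRing A :=
    { isGorensteinLocalRing_localization := fun p hp => @Goren.isGorenstein_of_regular (Localization.AtPrime p) _ (hreg ⟨p, hp⟩) }
  obtain ⟨n, hn⟩ := Goren.finite_injdim_iff.2 ⟨inferInstance, hdim⟩
  exact DualCx.isDualizing_self n

end Groth.Agent.S11185
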