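import Groth.Statements.S11191
import Mathlib

set_option autoImplicit false
universe u
open CategoryTheory MonoidalCategory CartesianMonoidalCategory MonObj GrpObj AlgebraicGeometry
open scoped TensorProduct
open AGF

namespace Groth.Agent.S11191

open CategoryTheory Limits MonoidalCategory CartesianMonoidalCategory MonObj AlgebraicGeometry
open scoped TensorProduct
set_option backward.isDefEq.respectTransparency false
set_option linter.style.haveILetI false
set_option maxHeartbeats 1000000

variable {k : Type u} [Field k]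

/-- structure map on global functions -/
noncomputable def kMap (X : Over (Spec (CommRingCat.of k))) : k →+* Γ(X.left, ⊤) := Coh.toGlobal X.hom

/-- The tautological point of an affine scheme over `k`. -/
noncomputable def E (X : Over (Spec (CommRingCat.of k))) [IsAffine X.left] :
    letI : Algebra k Γ(X.left, ⊤) := (kMap X).toAlgebra
    VecGrp.pt k Γ(X.left, ⊤) ⟶ X :=
  letI : Algebra k Γ(X.left, ⊤) := (kMap X).toAlgebra
  Over.homMk X.left.isoSpec.inv (by
    show _ ≫ X.hom = Spec.map (CommRingCat.ofHom (kMap X))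
    rw [← Scheme.isoSpec_inv_naturality X.hom]
    simp [kMap, Coh.toGlobal, Scheme.isoSpec_Spec_inv, ← Spec.map_comp])

/-- the algebra map of a morphism -/
noncomputable def φ {X Y : Over (Spec (CommRingCat.of k))} (f : X ⟶ Y) :
    letI : Algebra k Γ(X.left, ⊤) := (kMap X).toAlgebra
    letI : Algebra k Γ(Y.left, ⊤) := (kMap Y).toAlgebra
    Γ(Y.left, ⊤) →ₐ[k] Γ(X.left, ⊤) :=
  letI : Algebra k Γ(X.left, ⊤) := (kMap X).toAlgebra
  letI : Algebra k Γ(Y.left, ⊤) := (kMap Y).toAlgebra
  { f.left.appTop.hom with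
    commutes' := fun c => by
      show f.left.appTop (Y.hom.appTop ((Scheme.ΓSpecIso (CommRingCat.of k)).inv c)) =
        X.hom.appTop ((Scheme.ΓSpecIso (CommRingCat.of k)).inv c)
      rw [← Over.w f, Scheme.Hom.comp_appTop]
      rfl }

lemma ptMap_E {X Y : Over (Spec (CommRingCat.of k))} [IsAffine X.left] [IsAffine Y.left] (f : X ⟶ Y) :
    letI : Algebra k Γ(X.left, ⊤) := (kMap X).toAlgebra
    letI : Algebra k Γ(Y.left, ⊤) := (kMap Y).toAlgebra
    VecGrp.ptMap (φ f) ≫ E Y = E X ≫ f := by
  ext : 1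
  exact Scheme.isoSpec_inv_naturality f.left

/-- the algebra map of a point -/
noncomputable def ψ {B : Type u} [CommRing B] [Algebra k B] {Y : Over (Spec (CommRingCat.of k))}
    (p : VecGrp.pt k B ⟶ Y) :
    letI : Algebra k Γ(Y.left, ⊤) := (kMap Y).toAlgebra
    Γ(Y.left, ⊤) →ₐ[k] B :=
  letI : Algebra k Γ(Y.left, ⊤) := (kMap Y).toAlgebra
  { (p.left.appTop ≫ (Scheme.ΓSpecIso (CommRingCat.of B)).hom).hom with
    commutes' := fun c => by
      show (Scheme.ΓSpecIso (CommRingCat.of B)).hom
        (p.left.appTop (Y.hom.appTop ((Scheme.ΓSpecIso (CommRingCat.of k)).inv c))) = algebraMap k B c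
      have h : Y.hom.appTop ≫ p.left.appTop = (Spec.map (CommRingCat.ofHom (algebraMap k B))).appTop := by
        rw [← Scheme.Hom.comp_appTop, Over.w p]
        rfl
      rw [← ConcreteCategory.comp_apply Y.hom.appTop, h]
      have h' := congrArg (fun t => t.hom c) (Scheme.ΓSpecIso_inv_naturality (CommRingCat.ofHom (algebraMap k B)))
      simp only [CommRingCat.comp_apply] at h'
      refine (congrArg _ h'.symm).trans ?_
      rw [← CommRingCat.comp_apply, Category.assoc, Iso.inv_hom_id, Category.comp_id]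
      rfl }

lemma ptPt_E {B : Type u} [CommRing B] [Algebra k B] {Y : Over (Spec (CommRingCat.of k))} [IsAffine Y.left]
    (p : VecGrp.pt k B ⟶ Y) :
    letI : Algebra k Γ(Y.left, ⊤) := (kMap Y).toAlgebra
    VecGrp.ptMap (ψ p) ≫ E Y = p := by
  ext : 1
  show Spec.map (p.left.appTop ≫ (Scheme.ΓSpecIso (CommRingCat.of B)).hom) ≫ Y.left.isoSpec.inv = p.left
  rw [Spec.map_comp, Category.assoc]
  show _ ≫ Spec.map p.left.appTop ≫ _ = _
  haveI : IsAffine (VecGrp.pt k B).left := inferInstanceAs (IsAffine (Spec (CommRingCat.of B)))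
  rw [Scheme.isoSpec_inv_naturality p.left]
  show Spec.map (Scheme.ΓSpecIso (CommRingCat.of B)).hom ≫ (Spec (CommRingCat.of B)).isoSpec.inv ≫ p.left = p.left
  rw [Scheme.isoSpec_Spec_inv, ← Category.assoc, ← Spec.map_comp, Iso.inv_hom_id, Spec.map_id, Category.id_comp]

variable {M : Type u} [AddCommGroup M] [Module k M]

/-- coordinate -/
noncomputable def co (l : M →ₗ[k] k) (B : Type u) [CommRing B] [Algebra k B] : B ⊗[k] M →ₗ[k] B :=
  (TensorProduct.rid k B).toLinearMap.comp (l.lTensor B)

lemma co_map (l : M →ₗ[k] k) {B B' : Type u} [CommRing B] [Algebra k B] [CommRing B'] [Algebra k B']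
    (f : B →ₐ[k] B') (z : B ⊗[k] M) : co l B' (VecGrp.Wmap f z) = f (co l B z) := by
  induction z using TensorProduct.induction_on with
  | zero => simp
  | tmul b m => simp [co, Algebra.smul_def, mul_comm]
  | add x y hx hy => simp only [map_add, hx, hy]

lemma one_map {B B' : Type u} [CommRing B] [Algebra k B] [CommRing B'] [Algebra k B']
    (f : B →ₐ[k] B') (a : M) : VecGrp.Wmap f ((1 : B) ⊗ₜ[k] a) = (1 : B') ⊗ₜ[k] a := by
  simp

/-- Let k be an algebraically closed field, G a linear algebraic group over k (an affine smooth group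
scheme over k) and H a closed subgroup of G (a smooth closed subgroup scheme, i : H → G), and let M
be a rational G-module. Then every H-invariant element of M is fixed by the observable hull of H: if
a rational point g of G fixes under right translation every right-H-invariant global function on G,
then g fixes every H-invariant element of M. (The published statement is for a commutative algebra
with a rational action by automorphisms; the multiplication plays no role and the row is stated for
modules.) -/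
theorem result (k : Type u) [Field k] [IsAlgClosed k]
    (G : Over (Spec (CommRingCat.of k))) [GrpObj G] [IsAffine G.left] [Smooth G.hom]
    (H : Over (Spec (CommRingCat.of k))) [GrpObj H] [Smooth H.hom] (i : H ⟶ G) [IsMonHom i]
    [IsClosedImmersion i.left]
    (M : Type u) [AddCommGroup M] [Module k M] (ρ : VecGrp.GMod G M)
    (g : VecGrp.pt k k ⟶ G) (hg : ∀ f : Γ(G.left, ⊤), AGF.IsRTransInv i f → AGF.IsRTransInv g f)
    (a : M) (ha : a ∈ ρ.fixedUnder i) :
    ρ.ρ k g ((1 : k) ⊗ₜ[k] a) = (1 : k) ⊗ₜ[k] a := by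
  haveI : IsAffine H.left := isAffine_of_isAffineHom i.left
  haveI : IsAffine (G ⊗ H).left := inferInstanceAs (IsAffine (pullback G.hom H.hom))
  let B := Γ(G.left, ⊤)
  let C := Γ((G ⊗ H).left, ⊤)
  letI : Algebra k B := (kMap G).toAlgebra
  letI : Algebra k C := (kMap (G ⊗ H)).toAlgebra
  let v := ρ.ρ B (E G) ((1 : B) ⊗ₜ[k] a)
  have hkey : ∀ l : M →ₗ[k] k, AGF.IsRTransInv i (co l B v) := by
    intro l
    let P₁ : VecGrp.pt k C ⟶ G := E (G ⊗ H) ≫ fst G H
    let P₂ : VecGrp.pt k C ⟶ H := E (G ⊗ H) ≫ snd G H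
    have hq : (G ◁ i) ≫ μ[G] = fst G H * (snd G H ≫ i) := by
      rw [Hom.mul_def]
      congr 1
    have hfix : ρ.ρ C (P₂ ≫ i) ((1 : C) ⊗ₜ[k] a) = (1 : C) ⊗ₜ[k] a := ha C P₂
    have hmul : E (G ⊗ H) ≫ ((G ◁ i) ≫ μ[G]) = P₁ * (P₂ ≫ i) := by
      rw [hq, MonObj.comp_mul, Category.assoc]
    have h1 : ∀ q : G ⊗ H ⟶ G, q.left.appTop (co l B v) = co l C (ρ.ρ C (E (G ⊗ H) ≫ q) ((1 : C) ⊗ₜ[k] a)) := by
      intro q
      rw [← ptMap_E q, ← one_map (φ q) a, ← ρ.naturality, co_map]
      rfl
    show ((G ◁ i) ≫ μ[G]).left.appTop (co l B v) = (fst G H).left.appTop (co l B v)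
    rw [h1, h1, hmul, map_mul]
    show co l C (ρ.ρ C P₁ (ρ.ρ C (P₂ ≫ i) ((1 : C) ⊗ₜ[k] a))) = _
    rw [hfix]
  let u := ρ.ρ k g ((1 : k) ⊗ₜ[k] a)
  have hu : ∀ l : M →ₗ[k] k, co l k u = l a := by
    intro l
    have hp : ∀ p : VecGrp.pt k k ⟶ G, co l k (ρ.ρ k p ((1 : k) ⊗ₜ[k] a)) =
        (Scheme.ΓSpecIso (CommRingCat.of k)).hom (p.left.appTop (co l B v)) := by
      intro p
      conv_lhs => rw [← ptPt_E p, ← one_map (ψ p) a, ← ρ.naturality, co_map]
      rfl
    have h2 := hg _ (hkey l)
    have h3 := congrArg (fun z => (lift (1 : VecGrp.pt k k ⟶ G) (𝟙 (VecGrp.pt k k))).left.appTop z) h2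
    simp only [← ConcreteCategory.comp_apply, ← Scheme.Hom.comp_appTop, ← Over.comp_left] at h3
    rw [lift_fst] at h3
    have h4 : lift (1 : VecGrp.pt k k ⟶ G) (𝟙 (VecGrp.pt k k)) ≫ (G ◁ g) ≫ μ[G] = g := by
      rw [lift_whiskerLeft_assoc, Category.id_comp, ← Hom.mul_def, _root_.one_mul]
    rw [h4] at h3
    show co l k (ρ.ρ k g ((1 : k) ⊗ₜ[k] a)) = _
    rw [hp, h3, ← hp, map_one]
    simp [co]
  refine (TensorProduct.lid k M).injective ?_
  rw [TensorProduct.lid_tmul, one_smul]
  refine (Module.Basis.ofVectorSpace k M).ext_elem fun j => ?_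
  show (Module.Basis.ofVectorSpace k M).coord j _ = (Module.Basis.ofVectorSpace k M).coord j a
  set l := (Module.Basis.ofVectorSpace k M).coord j
  rw [← hu l]
  have : ∀ z : k ⊗[k] M, l (TensorProduct.lid k M z) = co l k z := fun z => by
    induction z using TensorProduct.induction_on with
    | zero => simp [co]
    | tmul c m => simp [co, mul_comm]
    | add x y hx hy => simp [map_add, hx, hy]
  exact this u

end Groth.Agent.S11191
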