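import Groth.Statements.S11192
import Groth.Agent.Rigid.FibreTranslate
import Groth.Agent.GrpField.AbelianField
import Groth.Agent.NormSect.Basic
import Groth.Agent.SmLocalST.SmoothField
import Groth.Agent.RegLoc.Normal
import Mathlib

set_option autoImplicit false
universe u
open CategoryTheory MonoidalCategory CartesianMonoidalCategory MonObj GrpObj AlgebraicGeometry
open scoped TensorProduct
open AGF

namespace Groth.Agent.S11192

theorem isIntegrallyClosed_eqLocus {A C : Type u} [CommRing A] [IsDomain A] [IsIntegrallyClosed A] [CommRing C]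
    (φ ψ : A →+* C) (hψ : ∀ b : A, b ≠ 0 → IsSMulRegular C (ψ b)) :
    IsIntegrallyClosed (RingHom.eqLocus φ ψ) := by
  set B := RingHom.eqLocus φ ψ
  have hinj : Function.Injective ((algebraMap A (FractionRing A)).comp B.subtype) :=
    fun x y h => Subtype.val_injective (IsFractionRing.injective A (FractionRing A) h)
  rw [isIntegrallyClosed_iff (FractionRing B)]
  intro z hz
  obtain ⟨⟨a, b⟩, hab⟩ := IsLocalization.surj (nonZeroDivisors B) z
  obtain ⟨θ, hθ⟩ : ∃ θ : FractionRing B →+* FractionRing A,
      ∀ r : B, θ (algebraMap B (FractionRing B) r) = algebraMap A (FractionRing A) r.1 :=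
    ⟨IsFractionRing.lift (K := FractionRing B) hinj, fun r => IsFractionRing.lift_algebraMap hinj r⟩
  have hint : IsIntegral A (θ z) := by
    obtain ⟨p, hp, hp0⟩ := hz
    refine ⟨p.map B.subtype, hp.map _, ?_⟩
    rw [Polynomial.eval₂_map, show (algebraMap A (FractionRing A)).comp B.subtype =
      θ.comp (algebraMap B (FractionRing B)) from RingHom.ext fun r => (hθ r).symm,
      ← Polynomial.hom_eval₂, hp0, map_zero]
  obtain ⟨f, hf⟩ := IsIntegrallyClosed.isIntegral_iff.1 hint
  have hb : (b : B).1 ≠ 0 := fun h => nonZeroDivisors.ne_zero b.2 (Subtype.ext h)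
  have hfb : f * (b : B).1 = a.1 := by
    apply IsFractionRing.injective A (FractionRing A)
    have h1 : θ z * θ (algebraMap B (FractionRing B) b) = θ (algebraMap B (FractionRing B) a) := by
      rw [← map_mul, hab]
    rw [hθ, hθ] at h1
    rw [map_mul, hf]
    exact h1
  have hmem : f ∈ B := by
    show φ f = ψ f
    refine hψ _ hb ?_
    show ψ (b : B).1 * φ f = ψ (b : B).1 * ψ f
    have hbb : φ (b : B).1 = ψ (b : B).1 := (b : B).2
    have haa : φ a.1 = ψ a.1 := a.2
    calc ψ (b : B).1 * φ f = φ (f * (b : B).1) := by rw [← hbb, ← map_mul, mul_comm]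
      _ = ψ (f * (b : B).1) := by rw [hfb, haa]
      _ = _ := by rw [map_mul, mul_comm]
  refine ⟨⟨f, hmem⟩, θ.injective ?_⟩
  rw [hθ]
  exact hf

/-- Let k be an algebraically closed field, G a linear algebraic group over k (an affine smooth group
scheme over k) and H a closed subgroup of G (a smooth closed subgroup scheme, i : H → G), with G
connected. Then the ring of global functions on G invariant under right translation by H is
integrally closed. -/
theorem result (k : Type u) [Field k] [IsAlgClosed k]
    (G : Over (Spec (CommRingCat.of k))) [GrpObj G] [IsAffine G.left] [Smooth G.hom]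
    (H : Over (Spec (CommRingCat.of k))) [GrpObj H] [Smooth H.hom] (i : H ⟶ G) [IsMonHom i]
    [IsClosedImmersion i.left] [ConnectedSpace G.left] :
    IsIntegrallyClosed ↥(AGF.rTransInv i) := by
  haveI : GeometricallyConnected G.hom :=
    Groth.Agent.Rigid.geometricallyConnected_of_section G.hom (η[G] : 𝟙_ _ ⟶ G).left (Over.w η[G])
  haveI : IsIntegral G.left := Groth.Agent.GrpField.isIntegral_of_smooth_connected G
  haveI : Nonempty (⊤ : G.left.Opens) := ⟨⟨genericPoint G.left, trivial⟩⟩
  haveI hICG : IsIntegrallyClosed Γ(G.left, ⊤) :=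
    Groth.Agent.NormSect.isIntegrallyClosed_sections ⊤ fun x _ => by
      haveI := Groth.Agent.SmLocalST.isRegularLocalRing_stalk_of_smooth_field G.hom x
      exact Groth.Agent.RegLoc.isIntegrallyClosed
  haveI : IsAffine H.left := isAffine_of_isAffineHom i.left
  haveI : IsAffine (G ⊗ H).left := by
    show IsAffine (Limits.pullback G.hom H.hom)
    infer_instance
  haveI : Flat (fst G H).left := by
    show Flat (Limits.pullback.fst G.hom H.hom)
    infer_instance
  let ψ := (fst G H).left.appTop.hom
  have hflat : ψ.Flat := (HasRingHomProperty.iff_of_isAffine (P := @Flat)).1 inferInstance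
  refine isIntegrallyClosed_eqLocus _ _ fun b hb => ?_
  letI := ψ.toAlgebra
  haveI : Module.Flat Γ(G.left, ⊤) Γ((G ⊗ H).left, ⊤) := hflat
  exact IsSMulRegular.of_flat (R := Γ(G.left, ⊤)) (S := Γ((G ⊗ H).left, ⊤))
    (fun x y hxy => mul_left_cancel₀ hb hxy)

end Groth.Agent.S11192
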