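import Groth.Statements.S11199
import Groth.Agent.GModLib.Obs
import Mathlib

set_option autoImplicit false
universe u
open CategoryTheory MonoidalCategory CartesianMonoidalCategory MonObj GrpObj AlgebraicGeometry
open scoped TensorProduct
open AGF
set_option backward.isDefEq.respectTransparency false

namespace Groth.Agent.S11199

/-- Let k be an algebraically closed field, G a linear algebraic group over k (an affine smooth group
scheme over k) and H a closed subgroup of G (a smooth closed subgroup scheme, i : H → G). Then there
are finitely many right-H-invariant global functions f₁, ..., fₙ on G which already cut out the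
observable hull of H: a rational point of G whose right translation fixes each fⱼ fixes every
right-H-invariant global function. -/
theorem result (k : Type u) [Field k] [IsAlgClosed k]
    (G : Over (Spec (CommRingCat.of k))) [GrpObj G] [IsAffine G.left] [Smooth G.hom]
    (H : Over (Spec (CommRingCat.of k))) [GrpObj H] [Smooth H.hom] (i : H ⟶ G) [IsMonHom i]
    [IsClosedImmersion i.left] :
    ∃ s : Finset Γ(G.left, ⊤), (∀ f ∈ s, AGF.IsRTransInv i f) ∧
      ∀ g : VecGrp.pt k k ⟶ G, (∀ f ∈ s, AGF.IsRTransInv g f) →
        ∀ f : Γ(G.left, ⊤), AGF.IsRTransInv i f → AGF.IsRTransInv g f := by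
  classical
  haveI : IsAffine H.left := isAffine_of_isAffineHom i.left
  obtain ⟨C, _, e, he⟩ := Groth.Agent.FinHopf.exists_hopf (R := CommRingCat.of k) G
  haveI := he
  haveI : IsIso e.hom.left := inferInstanceAs (IsIso ((Over.forget _).map e.hom))
  haveI : Algebra.FiniteType k C := by
    have h0 : LocallyOfFiniteType (e.hom.left ≫ G.hom) := inferInstance
    rw [Over.w e.hom] at h0
    exact RingHom.finiteType_algebraMap.1 ((HasRingHomProperty.Spec_iff (P := @LocallyOfFiniteType)).1 h0)
  let E := RingEquiv.ofBijective (Groth.Agent.GModLib.fnC e) (Groth.Agent.GModLib.fnC_bijective e)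
  obtain ⟨s, hs, hcut⟩ := Groth.Agent.GModLib.exists_finset_fixing (k := k) (C := C) {c | AGF.IsRTransInv i (E.symm c)}
  refine ⟨s.image E.symm, fun f hf => ?_, fun g hg f hf => ?_⟩
  · obtain ⟨c, hc, rfl⟩ := Finset.mem_image.1 hf
    exact hs hc
  · obtain ⟨ψ, rfl⟩ := Groth.Agent.GModLib.exists_eq_pnt e g
    rw [Groth.Agent.GModLib.rTransInv_pt_iff]
    refine hcut ψ (fun c hc => ?_) _ (show AGF.IsRTransInv i (E.symm (E f)) by rwa [E.symm_apply_apply])
    have h1 := hg _ (Finset.mem_image_of_mem _ hc)
    rw [Groth.Agent.GModLib.rTransInv_pt_iff] at h1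
    rwa [show Groth.Agent.GModLib.fnC e (E.symm c) = c from E.apply_symm_apply c] at h1

end Groth.Agent.S11199
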