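import Groth.Statements.S11200
import Groth.Agent.GModLib.OfComod
import Groth.Agent.Comod.LineStab
import Groth.Agent.S11191
import Groth.Agent.MTBridge.Hom
import Mathlib

set_option autoImplicit false
universe u
open CategoryTheory MonoidalCategory CartesianMonoidalCategory MonObj GrpObj AlgebraicGeometry
open scoped TensorProduct
open AGF
set_option backward.isDefEq.respectTransparency false

namespace Groth.Agent.S11200

/-- Let k be an algebraically closed field, G a linear algebraic group over k (an affine smooth group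
scheme over k) and H a closed subgroup of G (a smooth closed subgroup scheme, i : H → G). If H has
no non-trivial character (every homomorphism from H to the multiplicative group is trivial), then H
is observable in G. -/
theorem result (k : Type u) [Field k] [IsAlgClosed k]
    (G : Over (Spec (CommRingCat.of k))) [GrpObj G] [IsAffine G.left] [Smooth G.hom]
    (H : Over (Spec (CommRingCat.of k))) [GrpObj H] [Smooth H.hom] (i : H ⟶ G) [IsMonHom i]
    [IsClosedImmersion i.left]
    (hχ : ∀ (χ : H ⟶ Red.Gm (Spec (CommRingCat.of k))), IsMonHom χ → χ = 1) :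
    AGF.IsObservableIn k i := by
  haveI : IsAffine H.left := isAffine_of_isAffineHom i.left
  obtain ⟨C, _, e, he⟩ := Groth.Agent.FinHopf.exists_hopf (R := CommRingCat.of k) G
  obtain ⟨D, _, e', he'⟩ := Groth.Agent.FinHopf.exists_hopf (R := CommRingCat.of k) H
  haveI := he
  haveI := he'
  haveI : IsIso e.hom.left := inferInstanceAs (IsIso ((Over.forget _).map e.hom))
  haveI : Algebra.FiniteType k C := by
    have h0 : LocallyOfFiniteType (e.hom.left ≫ G.hom) := inferInstance
    rw [Over.w e.hom] at h0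
    exact RingHom.finiteType_algebraMap.1 ((HasRingHomProperty.Spec_iff (P := @LocallyOfFiniteType)).1 h0)
  let w : (Groth.Agent.MTBridge.specGrp k D).X ⟶ (Groth.Agent.MTBridge.specGrp k C).X := e'.hom ≫ i ≫ e.inv
  haveI : IsMonHom w := by dsimp [w]; infer_instance
  obtain ⟨π, hπ⟩ := Groth.Agent.MTBridge.exists_bialgHom w
  have hsurj : Function.Surjective (π : C →ₐ[k] D) := by
    haveI : IsIso e'.hom.left := inferInstanceAs (IsIso ((Over.forget _).map e'.hom))
    haveI : IsIso e.inv.left := inferInstanceAs (IsIso ((Over.forget _).map e.inv))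
    haveI : IsClosedImmersion (Spec.map (CommRingCat.ofHom (π : C →ₐ[k] D).toRingHom)) := by
      have h1 : IsClosedImmersion (e'.hom.left ≫ i.left ≫ e.inv.left) := inferInstance
      have h2 : w.left = e'.hom.left ≫ i.left ≫ e.inv.left := rfl
      rw [← h2, hπ] at h1
      exact h1
    intro d
    obtain ⟨y, hy⟩ := (IsClosedImmersion.isAffine_surjective_of_isAffine
      (f := Spec.map (CommRingCat.ofHom (π : C →ₐ[k] D).toRingHom))).2 ((Scheme.ΓSpecIso (CommRingCat.of D)).inv d)
    refine ⟨(Scheme.ΓSpecIso (CommRingCat.of C)).hom y, ?_⟩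
    have h3 := congr($(Scheme.ΓSpecIso_naturality (CommRingCat.ofHom (π : C →ₐ[k] D).toRingHom)) y)
    simp only [CommRingCat.comp_apply] at h3
    exact h3.symm.trans ((congrArg _ hy).trans (congr($((Scheme.ΓSpecIso (CommRingCat.of D)).inv_hom_id) d)))
  obtain ⟨V, _, _, _, _, v, hv0, hrep, hfix⟩ := Groth.Agent.Comod.LineStab.exists_line_trivial (k := k) π
    (fun χ hgl hocc => by
      obtain rfl := Groth.Agent.GModLib.eq_one_of_no_char e' hχ hgl
      exact ⟨1, one_pos, 1, hgl, by simp, hocc⟩)
  have hcomp : ∀ (B : Type u) [CommRing B] [Algebra k B] (ψ : D →ₐ[k] B),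
      Groth.Agent.GModLib.pnt e' ψ ≫ i = Groth.Agent.GModLib.pnt e (ψ.comp (π : C →ₐ[k] D)) := by
    intro B _ _ ψ
    refine Over.OverMorphism.ext ?_
    show (Spec.map (CommRingCat.ofHom ψ.toRingHom) ≫ e'.hom.left) ≫ i.left =
      Spec.map (CommRingCat.ofHom (ψ.comp (π : C →ₐ[k] D)).toRingHom) ≫ e.hom.left
    have h2 : e'.hom.left ≫ i.left = w.left ≫ e.hom.left := by
      rw [← Over.comp_left, ← Over.comp_left]
      simp [w]
    rw [Category.assoc, h2, hπ, ← Spec.map_comp_assoc]
    rfl
  have hmem : v ∈ (Groth.Agent.GModLib.ofComod e V).fixedUnder i := by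
    intro B _ _ h
    obtain ⟨ψ, rfl⟩ := Groth.Agent.GModLib.exists_eq_pnt e' h
    rw [hcomp, Groth.Agent.GModLib.ofComod_pnt, AlgHom.comp_toLinearMap, LinearMap.lTensor_comp_apply]
    exact (congrArg (fun t => TensorProduct.comm k V B (ψ.toLinearMap.lTensor V t)) hfix).trans (by simp)
  intro g hg
  obtain ⟨φ, rfl⟩ := Groth.Agent.GModLib.exists_eq_pnt e g
  have h1 := Groth.Agent.S11191.result k G H i V (Groth.Agent.GModLib.ofComod e V) _ hg v hmem
  rw [Groth.Agent.GModLib.ofComod_pnt] at h1
  have hst : SGA3.StabilizesLine k C v k φ := ⟨1, (TensorProduct.comm k V k).injective (h1.trans (by simp))⟩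
  have hker := (hrep k φ).2 hst
  let e2 := Ideal.quotientKerAlgEquivOfSurjective hsurj
  let L := Ideal.Quotient.liftₐ (RingHom.ker (π : C →ₐ[k] D)) φ fun a ha => hker a ha
  refine ⟨Groth.Agent.GModLib.pnt e' (L.comp e2.symm.toAlgHom), ?_⟩
  rw [hcomp]
  congr 1
  refine AlgHom.ext fun a => ?_
  show L (e2.symm ((π : C →ₐ[k] D) a)) = φ a
  rw [show (π : C →ₐ[k] D) a = e2 (Ideal.Quotient.mk _ a) from rfl, AlgEquiv.symm_apply_apply]
  rfl

end Groth.Agent.S11200
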