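import Groth.Statements.S11204
import Groth.Agent.GModLib.GrossTrans
-- import your own Groth.Agent.* helpers here

set_option backward.isDefEq.respectTransparency false
set_option linter.style.haveILetI false
set_option synthInstance.maxHeartbeats 400000
set_option maxHeartbeats 1000000

set_option autoImplicit false
universe u
open CategoryTheory MonoidalCategory CartesianMonoidalCategory MonObj GrpObj AlgebraicGeometry
open scoped TensorProduct
open AGF

namespace Groth.Agent.S11204

/-- Let k be an algebraically closed field, G a linear algebraic group over k and K ⊆ H ⊆ G closed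
subgroups (smooth closed subgroup schemes κ : K → H, i : H → G) with K and H observable in G. If
k[G]^K is finitely generated over the constants (K is a Grosshans subgroup of G), then K is
observable in H and k[H]^K is finitely generated over the constants (K is a Grosshans subgroup of
H). -/
theorem result (k : Type u) [Field k] [IsAlgClosed k]
    (G : Over (Spec (CommRingCat.of k))) [GrpObj G] [IsAffine G.left] [Smooth G.hom]
    (H : Over (Spec (CommRingCat.of k))) [GrpObj H] [Smooth H.hom] (i : H ⟶ G) [IsMonHom i]
    [IsClosedImmersion i.left]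
    (K : Over (Spec (CommRingCat.of k))) [GrpObj K] [Smooth K.hom] (κ : K ⟶ H) [IsMonHom κ] [IsClosedImmersion κ.left]
    (hK : AGF.IsObservableIn k (κ ≫ i)) (hH : AGF.IsObservableIn k i)
    (hfg : AGF.SubringFGOver k G (AGF.rTransInv (κ ≫ i))) :
    AGF.IsObservableIn k κ ∧ AGF.SubringFGOver k H (AGF.rTransInv κ) := by
  classical
  obtain ⟨c⟩ := GModLib.exists_coords G H i
  refine ⟨c.obs_factor κ hK, ?_⟩
  obtain ⟨s, hs, hle⟩ := hfg
  have hres : ∀ f ∈ AGF.rTransInv (κ ≫ i), i.left.appTop.hom f ∈ AGF.rTransInv κ := by
    intro f hf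
    rw [GModLib.rTransInv_comp_iff' c κ] at hf
    exact hf.1
  refine ⟨s.image i.left.appTop.hom, ?_, fun f' hf' => ?_⟩
  · rw [Finset.coe_image]
    rintro _ ⟨f, hf, rfl⟩
    exact hres f (hs hf)
  · obtain ⟨f, hf, rfl⟩ := c.exists_inv_lift κ hH f' hf'
    refine (Subring.closure_le (t := (Subring.closure _).comap i.left.appTop.hom)).2 ?_ (hle hf)
    rintro x (⟨r, rfl⟩ | hx)
    · refine Subring.subset_closure (Or.inl ⟨r, ?_⟩)
      show H.hom.appTop _ = i.left.appTop (G.hom.appTop _)
      rw [← GmPts.appTop_comp_apply, Over.w i]
    · exact Subring.subset_closure (Or.inr (Finset.mem_coe.2 (Finset.mem_image_of_mem _ hx)))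

end Groth.Agent.S11204
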