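import Groth.Statements.S11205
import Groth.Agent.NormSect.Basic
import Mathlib.RingTheory.Adjoin.Tower
import Mathlib.AlgebraicGeometry.AlgClosed.Basic
import Mathlib.AlgebraicGeometry.Morphisms.UniversallyInjective

set_option autoImplicit false
set_option backward.isDefEq.respectTransparency false
set_option linter.style.haveILetI false
universe u
open CategoryTheory MonoidalCategory CartesianMonoidalCategory MonObj GrpObj AlgebraicGeometry
open scoped TensorProduct
open AGF

namespace Groth.Agent.S11205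

open TopologicalSpace CategoryTheory.Limits Opposite

/-- A morphism of schemes locally of finite type over an algebraically closed field which is injective
on points is universally injective. -/
theorem universallyInjective_of_injective {k : Type u} [Field k] [IsAlgClosed k] {Y X : Scheme.{u}}
    (π : Y ⟶ X) (sX : X ⟶ Spec (CommRingCat.of k)) [LocallyOfFiniteType (π ≫ sX)] [IsSeparated (π ≫ sX)]
    [LocallyOfFiniteType π] (hπ : Function.Injective π.base) : UniversallyInjective π := by
  haveI : IsSeparated π := IsSeparated.of_comp π sX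
  rw [UniversallyInjective.iff_diagonal]
  let h : pullback π π ⟶ Spec (CommRingCat.of k) := pullback.fst π π ≫ π ≫ sX
  haveI : JacobsonSpace ↥(pullback π π) := LocallyOfFiniteType.jacobsonSpace h
  refine ⟨Set.range_eq_univ.1 ?_⟩
  refine top_le_iff.1 ((closure_closedPoints (X := ↥(pullback π π))).ge.trans
    (closure_minimal (fun z hz => ?_) (pullback.diagonal π).isClosedEmbedding.isClosed_range))
  let p := pointOfClosedPoint h z hz
  have hp : p ≫ h = 𝟙 _ := pointOfClosedPoint_comp h z hz
  have h1 : (p ≫ pullback.fst π π) ≫ π ≫ sX = 𝟙 _ := (Category.assoc _ _ _).trans hp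
  have h2 : (p ≫ pullback.snd π π) ≫ π ≫ sX = 𝟙 _ := by
    rw [← h1, Category.assoc, Category.assoc, pullback.condition_assoc]
  have he : p ≫ pullback.fst π π = p ≫ pullback.snd π π := by
    refine ext_of_apply_closedPoint_eq (π ≫ sX) h1 h2 (hπ ?_)
    change (p ≫ pullback.fst π π ≫ π).base _ = (p ≫ pullback.snd π π ≫ π).base _
    rw [pullback.condition]
  have hd : p = (p ≫ pullback.fst π π) ≫ pullback.diagonal π := by
    apply pullback.hom_ext
    · simp
    · simpa using he.symm
  refine ⟨(p ≫ pullback.fst π π).base (IsLocalRing.closedPoint k), ?_⟩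
  change ((p ≫ pullback.fst π π) ≫ pullback.diagonal π).base _ = z
  rw [← hd]
  exact pointOfClosedPoint_apply h z hz _

/-- In a normal Noetherian domain a denominator which does not divide is detected at a prime. -/
theorem exists_prime_of_not_dvd {R : Type u} [CommRing R] [IsDomain R] [IsNoetherianRing R] [IsIntegrallyClosed R]
    {a b : R} (hb : b ≠ 0) (h : ¬ b ∣ a) :
    ∃ (p : Ideal R) (_ : p.IsPrime) (u v : R), u ∈ p ∧ v ∉ p ∧ u * a = v * b := by
  let I : R → Ideal R := fun t => Submodule.comap (LinearMap.mulRight R t) (Ideal.span {b})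
  have hI : ∀ t r, r ∈ I t ↔ b ∣ r * t := fun t r => Ideal.mem_span_singleton
  obtain ⟨p, ⟨s, hs, rfl⟩, hmax⟩ := set_has_maximal_iff_noetherian.mpr (inferInstance : IsNoetherian R R)
    {J : Ideal R | ∃ s, ¬ b ∣ s * a ∧ I (s * a) = J} ⟨_, 1, by rwa [_root_.one_mul], rfl⟩
  have hp : (I (s * a)).IsPrime := by
    refine ⟨fun ht => hs ?_, fun {x y} hxy => ?_⟩
    · simpa [hI] using (Ideal.eq_top_iff_one _).1 ht
    · by_contra hcon
      rw [not_or] at hcon
      obtain ⟨hx, hy⟩ := hcon
      rw [hI] at hxy hy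
      have hle : I (s * a) ≤ I (y * s * a) := fun r hr => by
        rw [hI] at hr ⊢
        obtain ⟨c, hc⟩ := hr
        exact ⟨y * c, by rw [mul_left_comm b, ← hc]; ring⟩
      have heq : I (s * a) = I (y * s * a) := eq_of_le_of_not_lt hle
        (hmax _ ⟨y * s, by rwa [_root_.mul_assoc], rfl⟩)
      refine hx (heq.ge ?_)
      rw [hI]
      convert hxy using 1
      ring
  refine ⟨I (s * a), hp, ?_⟩
  by_contra hno
  push Not at hno
  refine hs ?_
  let K := FractionRing R
  have hb' : algebraMap R K b ≠ 0 := by simpa using hb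
  let x : K := algebraMap R K (s * a) / algebraMap R K b
  have hbI : b ∈ I (s * a) := (hI _ _).2 (dvd_mul_right _ _)
  have hx : IsIntegral R x := by
    refine isIntegral_of_smul_mem_submodule (M := K) (Submodule.map (Algebra.linearMap R K) (I (s * a))) ?_
      ((IsNoetherian.noetherian _).map _) x ?_
    · intro hbot
      exact hb' ((Submodule.eq_bot_iff _).1 hbot _ ⟨b, hbI, rfl⟩)
    · rintro _ ⟨r, hr, rfl⟩
      obtain ⟨w, hw⟩ := (hI _ _).1 hr
      refine ⟨w, ?_, ?_⟩
      · by_contra hwn
        exact hno (r * s) w ((I (s * a)).mul_mem_right _ hr) hwn (by rw [_root_.mul_assoc, hw, mul_comm])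
      · simp only [Algebra.linearMap_apply, x, smul_eq_mul]
        rw [div_mul_eq_mul_div, eq_div_iff hb', ← map_mul, ← map_mul, mul_comm (s * a) r, hw, mul_comm]
  obtain ⟨w, hw⟩ := IsIntegrallyClosed.isIntegral_iff.1 hx
  refine ⟨w, IsFractionRing.injective R K ?_⟩
  rw [(algebraMap R K).map_mul b w, hw]
  exact (mul_div_cancel₀ _ hb').symm

/-- Some positive power of a global function on the source comes from the target. -/
theorem exists_pow_mem_range {Y X : Scheme.{u}} [IsIntegral X] [IsIntegral Y] [IsLocallyNoetherian X]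
    (π : Y ⟶ X) [UniversallyInjective π] [Surjective π]
    (hX : ∀ x : X, IsIntegrallyClosed (X.presheaf.stalk x)) (g : Γ(Y, ⊤)) :
    ∃ (n : ℕ) (a : Γ(X, ⊤)), 0 < n ∧ π.appTop a = g ^ n := by
  let ζ := genericPoint Y
  let e := π.base ζ
  have hgen : IsGenericPoint e (⊤ : Set X) := by
    have := (genericPoint_spec Y).image π.base.hom.continuous
    rw [Set.image_univ, Set.range_eq_univ.2 π.surjective, closure_univ] at this
    exact this
  have hmem : ∀ U : X.Opens, Nonempty U → e ∈ U := fun U hU => (hgen.mem_open_set_iff U.2).2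
    (by obtain ⟨x⟩ := hU; exact ⟨x.1, trivial, x.2⟩)
  obtain ⟨n, hn, c, hc⟩ : ∃ (n : ℕ), 0 < n ∧ ∃ c : X.presheaf.stalk e,
      π.stalkMap ζ c = Y.presheaf.germ ⊤ ζ trivial (g ^ n) := by
    have hui := ((tfae_universallyInjective π).out 0 2).1 ‹_›
    have hpi := hui.2 ζ
    algebraize [(π.residueFieldMap ζ).hom]
    obtain ⟨n, c', hc'⟩ := IsPurelyInseparable.pow_mem (X.residueField (π.base ζ))
      (ringExpChar (X.residueField (π.base ζ))) (Y.residue ζ (Y.presheaf.germ ⊤ ζ trivial g))
    obtain ⟨c, rfl⟩ := X.residue_surjective e c'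
    refine ⟨ringExpChar (X.residueField (π.base ζ)) ^ n,
      pow_pos (expChar_pos (X.residueField (π.base ζ)) _) n, c, ?_⟩
    haveI : IsField (Y.presheaf.stalk ζ) := Field.toIsField Y.functionField
    letI := this.toField
    refine (Y.residue ζ).hom.injective ?_
    rw [map_pow, map_pow, ← hc']
    exact (congr($(Scheme.residue_residueFieldMap π ζ).hom c)).symm
  have hloc : ∀ x : X, ∃ (U : X.Opens) (hx : x ∈ U) (w : Γ(X, U)),
      X.presheaf.germ U e (hmem U ⟨⟨x, hx⟩⟩) w = c := by
    intro x
    obtain ⟨U, hU, hxU, -⟩ := exists_isAffineOpen_mem_and_subset (X := X) (x := x) (U := ⊤) trivial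
    haveI : Nonempty U := ⟨⟨x, hxU⟩⟩
    haveI : IsNoetherianRing Γ(X, U) := IsLocallyNoetherian.component_noetherian ⟨U, hU⟩
    haveI := NormSect.isIntegrallyClosed_sections U fun x _ => hX x
    have heU : e ∈ U := hmem U inferInstance
    letI := TopCat.Presheaf.algebra_section_stalk X.presheaf (⟨e, heU⟩ : U)
    haveI := hU.isLocalization_stalk ⟨e, heU⟩
    obtain ⟨⟨a, b⟩, hab⟩ := IsLocalization.surj (hU.primeIdealOf ⟨e, heU⟩).asIdeal.primeCompl c
    have hbu : IsUnit (X.presheaf.germ U e heU b.1) := IsLocalization.map_units (X.presheaf.stalk e) b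
    replace hab : c * X.presheaf.germ U e heU b.1 = X.presheaf.germ U e heU a := hab
    have hb : b.1 ≠ 0 := fun h => by simp [h] at hbu
    haveI : Nonempty ↥(π ⁻¹ᵁ U) := ⟨⟨ζ, heU⟩⟩
    let gV : Γ(Y, π ⁻¹ᵁ U) := Y.presheaf.map (homOfLE le_top).op (g ^ n)
    have hid : π.app U a = gV * π.app U b.1 := by
      refine germ_injective_of_isIntegral Y ζ (U := π ⁻¹ᵁ U) heU ?_
      rw [map_mul]
      refine (π.germ_stalkMap_apply U ζ heU a).symm.trans ?_
      refine (congrArg (π.stalkMap ζ) hab).symm.trans ?_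
      rw [map_mul, hc, π.germ_stalkMap_apply U ζ heU b.1]
      exact congrArg (· * _) (Y.presheaf.germ_res_apply (homOfLE le_top) ζ heU (g ^ n)).symm
    by_cases hdvd : b.1 ∣ a
    · obtain ⟨w, hw⟩ := hdvd
      refine ⟨U, hxU, w, hbu.mul_right_cancel ?_⟩
      rw [hab, ← map_mul, mul_comm, ← hw]
    · exfalso
      obtain ⟨p, hp, u, v, hu, hv, huv⟩ := exists_prime_of_not_dvd hb hdvd
      let x' := hU.fromSpec.base (⟨p, hp⟩ : PrimeSpectrum Γ(X, U))
      obtain ⟨y, hy⟩ := π.surjective x'
      have hx'v : x' ∈ X.basicOpen v := by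
        have : (⟨p, hp⟩ : PrimeSpectrum Γ(X, U)) ∈ hU.fromSpec ⁻¹ᵁ X.basicOpen v := by
          rw [hU.fromSpec_preimage_basicOpen]; exact hv
        exact this
      have hx'u : x' ∉ X.basicOpen u := fun h => by
        have : (⟨p, hp⟩ : PrimeSpectrum Γ(X, U)) ∈ hU.fromSpec ⁻¹ᵁ X.basicOpen u := h
        rw [hU.fromSpec_preimage_basicOpen] at this
        exact this hu
      have hyv : y ∈ π ⁻¹ᵁ X.basicOpen v := by
        change π.base y ∈ X.basicOpen v
        exact hy.symm ▸ hx'v
      haveI : IsDomain Γ(Y, π ⁻¹ᵁ U) := @IsIntegral.component_integral _ _ (π ⁻¹ᵁ U) ⟨⟨ζ, heU⟩⟩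
      have hbne : π.app U b.1 ≠ 0 := fun h0 => by
        have := congrArg (Y.presheaf.germ (π ⁻¹ᵁ U) ζ heU) h0
        rw [map_zero, ← π.germ_stalkMap_apply U ζ heU b.1] at this
        exact (hbu.map (π.stalkMap ζ).hom).ne_zero this
      have hvu : π.app U v = π.app U u * gV := by
        refine mul_right_cancel₀ hbne ?_
        rw [_root_.mul_assoc, ← hid, ← map_mul, ← map_mul, huv]
      rw [Scheme.preimage_basicOpen, hvu, Y.basicOpen_mul, ← Scheme.preimage_basicOpen] at hyv
      refine hx'u ?_
      rw [← hy]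
      exact hyv.1
  choose U hxU w hw using hloc
  obtain ⟨a, ha, -⟩ := X.sheaf.existsUnique_gluing' U ⊤ (fun i => homOfLE le_top)
    (fun x _ => Opens.mem_iSup.2 ⟨x, hxU x⟩) w (by
      intro i j
      rcases isEmpty_or_nonempty (U i ⊓ U j : X.Opens) with h0 | h0
      · haveI := h0
        have : (U i ⊓ U j : X.Opens) = ⊥ := eq_bot_iff.2 fun x hx => h0.elim ⟨x, hx⟩
        refine @Subsingleton.elim _ ?_ _ _
        exact CommRingCat.subsingleton_of_isTerminal (TopCat.Sheaf.isTerminalOfEqEmpty X.sheaf this)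
      · refine germ_injective_of_isIntegral X e (U := U i ⊓ U j) (hmem _ h0) ?_
        exact ((X.presheaf.germ_res_apply (Opens.infLELeft (U i) (U j)) e (hmem _ h0) (w i)).trans
          (hw i)).trans ((X.presheaf.germ_res_apply (Opens.infLERight (U i) (U j)) e (hmem _ h0) (w j)).trans
          (hw j)).symm)
  refine ⟨n, a, hn, germ_injective_of_isIntegral Y ζ (U := ⊤) trivial ?_⟩
  refine (π.germ_stalkMap_apply ⊤ ζ trivial a).symm.trans ?_
  rw [← hc]
  refine congrArg (π.stalkMap ζ) ?_
  obtain ⟨x⟩ := (inferInstance : Nonempty X)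
  rw [← hw x, ← ha x]
  exact (X.presheaf.germ_res_apply (homOfLE le_top) e (hmem _ ⟨⟨x, hxU x⟩⟩) a).symm

/-- Let k be an algebraically closed field and let X and Y be irreducible normal varieties over k
(integral separated schemes of finite type over k all of whose local rings are integrally closed),
and π : Y → X a k-morphism which is bijective on points. If the ring of global functions of Y is
finitely generated over k, then so is the ring of global functions of X. (The published statement
asks π bijective on rational points; this row asks bijectivity on all points, which for schemes of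
finite type over an algebraically closed field is the same condition.) -/
theorem result (k : Type u) [Field k] [IsAlgClosed k] (X Y : Over (Spec (CommRingCat.of k)))
    [IsIntegral X.left] [IsIntegral Y.left] [LocallyOfFiniteType X.hom] [QuasiCompact X.hom]
    [IsSeparated X.hom] [LocallyOfFiniteType Y.hom] [QuasiCompact Y.hom] [IsSeparated Y.hom]
    (hX : ∀ x : X.left, IsIntegrallyClosed ↑(X.left.presheaf.stalk x))
    (hY : ∀ y : Y.left, IsIntegrallyClosed ↑(Y.left.presheaf.stalk y))
    (π : Y ⟶ X) (hπ : Function.Bijective π.left.base)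
    (hfg : ((Scheme.ΓSpecIso (CommRingCat.of k)).inv ≫ Y.hom.appTop).hom.FiniteType) :
    ((Scheme.ΓSpecIso (CommRingCat.of k)).inv ≫ X.hom.appTop).hom.FiniteType := by
  haveI : LocallyOfFiniteType (π.left ≫ X.hom) := by rw [Over.w π]; infer_instance
  haveI : IsSeparated (π.left ≫ X.hom) := by rw [Over.w π]; infer_instance
  haveI : LocallyOfFiniteType π.left := locallyOfFiniteType_of_comp π.left X.hom
  haveI := universallyInjective_of_injective π.left X.hom hπ.1
  haveI : Surjective π.left := ⟨hπ.2⟩
  haveI : IsLocallyNoetherian X.left := LocallyOfFiniteType.isLocallyNoetherian X.hom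
  let f := (Scheme.ΓSpecIso (CommRingCat.of k)).inv ≫ X.hom.appTop
  have hf : (Scheme.ΓSpecIso (CommRingCat.of k)).inv ≫ Y.hom.appTop = f ≫ π.left.appTop := by
    have hw : (π.left ≫ X.hom).appTop = Y.hom.appTop := by rw [Over.w π]
    rw [← hw, Scheme.Hom.comp_appTop]
    simp [f]
  rw [hf] at hfg
  algebraize [f.hom, π.left.appTop.hom, (f ≫ π.left.appTop).hom]
  haveI : IsScalarTower k Γ(X.left, ⊤) Γ(Y.left, ⊤) := IsScalarTower.of_algebraMap_eq fun _ => rfl
  haveI : Algebra.FiniteType k Γ(Y.left, ⊤) := hfg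
  haveI : Algebra.FiniteType Γ(X.left, ⊤) Γ(Y.left, ⊤) :=
    Algebra.FiniteType.of_restrictScalars_finiteType k _ _
  haveI : Algebra.IsIntegral Γ(X.left, ⊤) Γ(Y.left, ⊤) := ⟨fun g => by
    obtain ⟨n, a, hn, ha⟩ := exists_pow_mem_range π.left hX g
    exact IsIntegral.of_pow hn (ha ▸ isIntegral_algebraMap)⟩
  haveI : Module.Finite Γ(X.left, ⊤) Γ(Y.left, ⊤) := Algebra.IsIntegral.finite
  refine ⟨fg_of_fg_of_fg k Γ(X.left, ⊤) Γ(Y.left, ⊤) hfg.out Module.Finite.fg_top ?_⟩
  intro a b hab
  refine germ_injective_of_isIntegral X.left (π.left.base (genericPoint Y.left)) (U := ⊤) trivial ?_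
  haveI : IsDominant π.left := ⟨Function.Surjective.denseRange hπ.2⟩
  haveI := IsSchemeTheoreticallyDominant.of_isDominant π.left
  haveI : QuasiCompact (π.left ≫ X.hom) := by rw [Over.w π]; infer_instance
  haveI : QuasiCompact π.left := QuasiCompact.of_comp π.left X.hom
  exact π.left.app_injective ⊤ hab |> congrArg _

end Groth.Agent.S11205
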