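import Groth.Statements.S11206
import Groth.Agent.GrossU.Final
import Groth.Agent.S11202
-- import your own Groth.Agent.* helpers here

set_option backward.isDefEq.respectTransparency false
set_option linter.style.haveILetI false
set_option synthInstance.maxHeartbeats 400000
set_option maxHeartbeats 1000000

set_option autoImplicit false
universe u
open CategoryTheory MonoidalCategory CartesianMonoidalCategory MonObj GrpObj AlgebraicGeometry
open scoped TensorProduct
open AGF

namespace Groth.Agent.S11206

/-- Let k be an algebraically closed field, G a linear algebraic group over k, B a Borel subgroup of G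
and U the unipotent radical of B (a maximal connected unipotent subgroup of G). Assume that
invariants of reductive groups over k on finitely generated algebras are finitely generated (used in
the argument for finite groups). Then U is observable in G and the ring k[G]^U of global functions
on G invariant under right translation by U is finitely generated over the constants (U is a
Grosshans subgroup of G). -/
theorem result (k : Type u) [Field k] [IsAlgClosed k]
    (G : Over (Spec (CommRingCat.of k))) [GrpObj G] [IsAffine G.left] [Smooth G.hom]
    (Bo : Over (Spec (CommRingCat.of k))) [GrpObj Bo] (iB : Bo ⟶ G) (hB : Red.IsBorelOver k iB)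
    (U : Over (Spec (CommRingCat.of k))) [GrpObj U] (u : U ⟶ Bo) (hU : Par.IsUnipotentRadical u)
    (thmA : VecGrp.ReductiveInvariantsFG k) :
    AGF.IsObservableIn k (u ≫ iB) ∧ AGF.SubringFGOver k G (AGF.rTransInv (u ≫ iB)) := by
  obtain ⟨hm, -, hs, -, ht⟩ := Groth.Agent.GModLib.props_of_borel hB hU
  haveI := hm; haveI := hs
  haveI := Groth.Agent.GrossU.isClosedImmersion_radical hB hU
  refine ⟨Groth.Agent.S11202.result k G U (u ≫ iB) fun R _ r _ hr _ _ _ _ T _ j _ _ hT => ?_, ?_⟩
  · haveI := hr
    haveI : Mono r := Groth.Agent.GrpField.SchImg.mono_of_isClosedImmersion r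
    haveI : Mono (j ≫ r) := mono_comp j r
    exact ht T (j ≫ r) hT
  · obtain ⟨c⟩ := Groth.Agent.GModLib.exists_coords G U (u ≫ iB)
    exact (Groth.Agent.GModLib.Coords.subringFGOver_iff c).2 (Groth.Agent.GrossU.exists_finset_inv_coords hB hU c)

end Groth.Agent.S11206
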