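import Groth.Statements.S11217
import Mathlib

set_option linter.style.haveILetI false

set_option autoImplicit false
universe u
open CategoryTheory MonoidalCategory CartesianMonoidalCategory MonObj GrpObj AlgebraicGeometry
open scoped TensorProduct
open AGF

namespace Groth.Agent.S11217

/-- Let k be a field of characteristic zero and m ≥ 2; in the polynomial ring k[x, y, z, s, t, u, v]
(variables 0, …, 6) let δ be the k-derivation with δ(x) = δ(y) = δ(z) = 0, δ(s) = x^(m+1), δ(t) =
y^(m+1), δ(u) = z^(m+1), δ(v) = (xyz)^m, and grade by total degree in s, t, u, v. If f is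
homogeneous of degree n ≥ 1 for this grading and δ(f) = 0, then every coefficient of f, as a
polynomial in s, t, u, v over k[x, y, z], lies in the ideal (x, y, z): every monomial of f has
positive degree in x, y, z. (The published statement allows n = 0, where the constant 1 is a
counterexample; this row assumes n ≥ 1. The published definition of the derivation gives δ(v) =
(xyz)^(m+1), for which the assertion fails: v − (yz)^(m+1)·s is killed by δ and has the monomial v
with coefficient 1; this row uses δ(v) = (xyz)^m, the exponent of the published action formula and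
of the published examples of invariants.) -/
theorem result (k : Type u) [Field k] [CharZero k] (m : ℕ) (hm : 2 ≤ m) (n : ℕ) (hn : 1 ≤ n)
    (f : MvPolynomial (Fin 7) k)
    (hf : MvPolynomial.IsWeightedHomogeneous (![0, 0, 0, 1, 1, 1, 1] : Fin 7 → ℕ) f n)
    (hδ : MvPolynomial.mkDerivation k
      (![0, 0, 0, MvPolynomial.X 0 ^ (m + 1), MvPolynomial.X 1 ^ (m + 1), MvPolynomial.X 2 ^ (m + 1),
        (MvPolynomial.X 0 * MvPolynomial.X 1 * MvPolynomial.X 2) ^ m] : Fin 7 → MvPolynomial (Fin 7) k) f = 0) :
    ∀ d ∈ f.support, 0 < d 0 + d 1 + d 2 := by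
  classical
  have hmk : ∀ g : MvPolynomial (Fin 7) k, MvPolynomial.mkDerivation k
      (![0, 0, 0, MvPolynomial.X 0 ^ (m + 1), MvPolynomial.X 1 ^ (m + 1), MvPolynomial.X 2 ^ (m + 1),
        (MvPolynomial.X 0 * MvPolynomial.X 1 * MvPolynomial.X 2) ^ m] : Fin 7 → MvPolynomial (Fin 7) k) g =
      MvPolynomial.monomial (Finsupp.single 0 (m + 1)) 1 * MvPolynomial.pderiv 3 g +
      MvPolynomial.monomial (Finsupp.single 1 (m + 1)) 1 * MvPolynomial.pderiv 4 g +
      MvPolynomial.monomial (Finsupp.single 2 (m + 1)) 1 * MvPolynomial.pderiv 5 g +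
      MvPolynomial.monomial (Finsupp.single 0 m + Finsupp.single 1 m + Finsupp.single 2 m) 1 * MvPolynomial.pderiv 6 g := by
    intro g
    have e : MvPolynomial.mkDerivation k
        (![0, 0, 0, MvPolynomial.X 0 ^ (m + 1), MvPolynomial.X 1 ^ (m + 1), MvPolynomial.X 2 ^ (m + 1),
          (MvPolynomial.X 0 * MvPolynomial.X 1 * MvPolynomial.X 2) ^ m] : Fin 7 → MvPolynomial (Fin 7) k) =
        MvPolynomial.monomial (Finsupp.single (0 : Fin 7) (m + 1)) (1 : k) • MvPolynomial.pderiv (R := k) (3 : Fin 7) +
        MvPolynomial.monomial (Finsupp.single (1 : Fin 7) (m + 1)) (1 : k) • MvPolynomial.pderiv (R := k) (4 : Fin 7) +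
        MvPolynomial.monomial (Finsupp.single (2 : Fin 7) (m + 1)) (1 : k) • MvPolynomial.pderiv (R := k) (5 : Fin 7) +
        MvPolynomial.monomial (Finsupp.single (0 : Fin 7) m + Finsupp.single (1 : Fin 7) m + Finsupp.single (2 : Fin 7) m) (1 : k) •
          MvPolynomial.pderiv (R := k) (6 : Fin 7) := by
      refine MvPolynomial.derivation_ext fun i => ?_
      fin_cases i <;> simp [MvPolynomial.X_pow_eq_monomial, MvPolynomial.monomial_mul, mul_pow, Pi.single_apply]
    rw [e]
    simp
  intro d hd
  by_contra h0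
  have hd0 : d 0 = 0 := by omega
  have hd1 : d 1 = 0 := by omega
  have hd2 : d 2 = 0 := by omega
  rw [MvPolynomial.mem_support_iff] at hd
  have hw := hf hd
  rw [Finsupp.weight_apply, Finsupp.sum_fintype _ _ (fun _ => by simp)] at hw
  simp [Fin.sum_univ_seven] at hw
  rw [hmk] at hδ
  have hD := fun (D : Fin 7 →₀ ℕ) => congrArg (MvPolynomial.coeff D) hδ
  simp only [MvPolynomial.coeff_add, MvPolynomial.coeff_monomial_mul', MvPolynomial.coeff_pderiv,
    _root_.one_mul, Finsupp.le_def, MvPolynomial.coeff_zero] at hD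
  have finish : ∀ (l : Fin 7) (a : Fin 7 →₀ ℕ), 0 < d l →
      MvPolynomial.coeff (d - Finsupp.single l 1 + a - a + Finsupp.single l 1) f *
        ((((d - Finsupp.single l 1 + a - a : Fin 7 →₀ ℕ) l : ℕ) : k) + 1) = 0 → False := by
    intro l a hl h
    rw [add_tsub_cancel_right, tsub_add_cancel_of_le (Finsupp.single_le_iff.mpr hl)] at h
    rcases mul_eq_zero.mp h with h | h
    · exact hd h
    · exact Nat.cast_add_one_ne_zero _ h
  rcases (show 0 < d 3 ∨ 0 < d 4 ∨ 0 < d 5 ∨ 0 < d 6 by omega) with h | h | h | h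
  · have := hD (d - Finsupp.single 3 1 + Finsupp.single 0 (m + 1))
    simp [Fin.forall_fin_succ, hd0, hd1, hd2, show m ≠ 0 by omega] at this
    exact finish 3 (Finsupp.single 0 (m + 1)) h (by simpa using this)
  · have := hD (d - Finsupp.single 4 1 + Finsupp.single 1 (m + 1))
    simp [Fin.forall_fin_succ, hd0, hd1, hd2, show m ≠ 0 by omega] at this
    exact finish 4 (Finsupp.single 1 (m + 1)) h (by simpa using this)
  · have := hD (d - Finsupp.single 5 1 + Finsupp.single 2 (m + 1))
    simp [Fin.forall_fin_succ, hd0, hd1, hd2, show m ≠ 0 by omega] at this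
    exact finish 5 (Finsupp.single 2 (m + 1)) h (by simpa using this)
  · have := hD (d - Finsupp.single 6 1 + (Finsupp.single 0 m + Finsupp.single 1 m + Finsupp.single 2 m))
    simp [Fin.forall_fin_succ, hd0, hd1, hd2, show m ≠ 0 by omega] at this
    exact finish 6 (Finsupp.single 0 m + Finsupp.single 1 m + Finsupp.single 2 m) h (by simpa using this)


end Groth.Agent.S11217
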