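import Groth.Statements.S11221
import Mathlib

set_option linter.style.haveILetI false

set_option autoImplicit false
universe u
open CategoryTheory MonoidalCategory CartesianMonoidalCategory MonObj GrpObj AlgebraicGeometry
open scoped TensorProduct
open AGF

namespace Groth.Agent.S11221

/-- Let R be a Noetherian integrally closed domain with fraction field K and let p be a prime ideal of R
of height one. Then there is f ∈ K which is not in R but lies in the local ring R_q ⊆ K of every
height-one prime q ≠ p (f = a/b with b ∉ q): a rational function on Spec R with a pole along V(p)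
only. (The published statement is for the coordinate ring of a normal affine variety; this row is
for any Noetherian integrally closed domain, which is all the argument uses.) -/
theorem result (R : Type u) [CommRing R] [IsDomain R] [IsNoetherianRing R] [IsIntegrallyClosed R]
    (p : Ideal R) [p.IsPrime] (hp : p.height = 1) :
    ∃ f : FractionRing R, f ∉ Set.range ⇑(algebraMap R (FractionRing R)) ∧
      ∀ q : Ideal R, q.IsPrime → q.height = 1 → q ≠ p →
        ∃ a b : R, b ∉ q ∧ f * algebraMap R (FractionRing R) b = algebraMap R (FractionRing R) a := by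
  have hp0 : p ≠ ⊥ := fun h => by rw [h, Ideal.height_bot] at hp; exact zero_ne_one hp
  obtain ⟨b, hbp, hb0⟩ := Submodule.exists_mem_ne_zero_of_ne_bot hp0
  have hmin : p ∈ (Ideal.span {b}).minimalPrimes := by
    refine ⟨⟨‹_›, (Ideal.span_singleton_le_iff_mem _).mpr hbp⟩, fun q hq hqp => ?_⟩
    by_contra hne
    have hlt : q < p := lt_of_le_not_ge hqp hne
    have := hq.1
    have h0 : q ≠ ⊥ := fun e => hb0 ((Ideal.mem_bot).mp (e ▸ hq.2 (Ideal.mem_span_singleton_self b)))
    have h2 := Ideal.height_strict_mono_of_isPrime hlt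
    have h3 := Ideal.height_strict_mono_of_isPrime (I := (⊥ : Ideal R)) (J := q) (bot_lt_iff_ne_bot.mpr h0)
    rw [hp, ENat.lt_one_iff_eq_zero] at h2
    rw [h2] at h3
    exact not_lt_zero' h3
  have hass : IsAssociatedPrime p (R ⧸ Ideal.span {b}) :=
    Module.associatedPrimes.minimalPrimes_annihilator_subset_associatedPrimes R (R ⧸ Ideal.span {b})
      (by rwa [Ideal.annihilator_quotient])
  obtain ⟨-, x, hx⟩ := isAssociatedPrime_iff.mp hass
  obtain ⟨a, rfl⟩ := Ideal.Quotient.mk_surjective x
  have hab : ∀ c : R, c ∈ p ↔ c * a ∈ Ideal.span {b} := fun c => by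
    rw [hx, Submodule.mem_colon_singleton, Submodule.mem_bot]
    exact Ideal.Quotient.eq_zero_iff_mem
  have hbK : algebraMap R (FractionRing R) b ≠ 0 :=
    fun h => hb0 (IsFractionRing.injective R (FractionRing R) (by rw [h, map_zero]))
  refine ⟨algebraMap R _ a / algebraMap R _ b, ?_, fun q hq hq1 hqp => ?_⟩
  · rintro ⟨r, hr⟩
    rw [eq_div_iff hbK, ← map_mul] at hr
    have ha : a ∈ Ideal.span {b} :=
      Ideal.mem_span_singleton'.mpr ⟨r, IsFractionRing.injective R (FractionRing R) hr⟩
    exact (Ideal.IsPrime.ne_top ‹_›) ((Ideal.eq_top_iff_one _).mpr ((hab 1).mpr (by rwa [_root_.one_mul])))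
  · obtain ⟨c, hcp, hcq⟩ : ∃ c ∈ p, c ∉ q := by
      by_contra h
      push Not at h
      have hlt : p < q := lt_of_le_of_ne h (Ne.symm hqp)
      have := Ideal.height_strict_mono_of_isPrime hlt
      rw [hp, hq1] at this
      exact lt_irrefl _ this
    obtain ⟨r, hr⟩ := Ideal.mem_span_singleton'.mp ((hab c).mp hcp)
    refine ⟨r, c, hcq, ?_⟩
    rw [div_mul_eq_mul_div, div_eq_iff hbK, ← map_mul, ← map_mul, hr, _root_.mul_comm]

end Groth.Agent.S11221
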