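import Groth.Statements.S11222
import Groth.Agent.GModLib.TransferGrp
import Groth.Agent.GModLib.ObsSquare
import Groth.Agent.S11204
-- import your own Groth.Agent.* helpers here

set_option backward.isDefEq.respectTransparency false
set_option linter.style.haveILetI false
set_option synthInstance.maxHeartbeats 400000
set_option maxHeartbeats 1000000

set_option autoImplicit false
universe u
open CategoryTheory MonoidalCategory CartesianMonoidalCategory MonObj GrpObj AlgebraicGeometry
open scoped TensorProduct
open AGF

namespace Groth.Agent.S11222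

/-- Let k be an algebraically closed field, L a linear algebraic group over k, G a closed subgroup of L
whose identity component is reductive, H a closed subgroup of G which is observable in G with k[G]^H
finitely generated over the constants (a Grosshans subgroup of G), and G₁ a closed subgroup of L,
observable in L, containing H (i₁ : H → G₁ compatible with the inclusions into L). Assume the
following standard results of geometric invariant theory for groups with reductive identity
component, carried as hypotheses: finite generation of invariants on finitely generated algebras,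
and that the quotient map of an affine variety by such a group separates disjoint closed invariant
subsets. Then H is observable in G₁ and k[G₁]^H is finitely generated over the constants (H is a
Grosshans subgroup of G₁). -/
theorem result (k : Type u) [Field k] [IsAlgClosed k]
    (L : Over (Spec (CommRingCat.of k))) [GrpObj L] [IsAffine L.left] [Smooth L.hom]
    (G : Over (Spec (CommRingCat.of k))) [GrpObj G] [Smooth G.hom] (jG : G ⟶ L) [IsMonHom jG] [IsClosedImmersion jG.left]
    (hG : VecGrp.IsReductiveGrp k G)
    (H : Over (Spec (CommRingCat.of k))) [GrpObj H] [Smooth H.hom] (i : H ⟶ G) [IsMonHom i]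
    [IsClosedImmersion i.left]
    (hH : AGF.IsObservableIn k i) (hfg : AGF.SubringFGOver k G (AGF.rTransInv i))
    (G₁ : Over (Spec (CommRingCat.of k))) [GrpObj G₁] [Smooth G₁.hom] (j₁ : G₁ ⟶ L) [IsMonHom j₁] [IsClosedImmersion j₁.left]
    (hG₁ : AGF.IsObservableIn k j₁) (i₁ : H ⟶ G₁) [IsMonHom i₁] (hc : i₁ ≫ j₁ = i ≫ jG)
    (thmA : VecGrp.ReductiveInvariantsFG k) (thmAbiv : AGF.ReductiveQuotSeparates k) :
    AGF.IsObservableIn k i₁ ∧ AGF.SubringFGOver k G₁ (AGF.rTransInv i₁) := by
  haveI : IsAffine G.left := isAffine_of_isAffineHom jG.left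
  obtain ⟨cG⟩ := GModLib.exists_coords L G jG
  have hobsG : AGF.IsObservableIn k jG := cG.obs_of_separates hG thmAbiv
  haveI : IsClosedImmersion (i ≫ jG).left := inferInstanceAs (IsClosedImmersion (i.left ≫ jG.left))
  haveI : IsClosedImmersion i₁.left := by
    haveI : IsClosedImmersion (i₁.left ≫ j₁.left) := by rw [← Over.comp_left, hc]; infer_instance
    exact IsClosedImmersion.of_comp i₁.left j₁.left
  haveI : Mono j₁ := Over.mono_of_mono_left j₁
  haveI : IsMonHom i₁ := MTSplit.isMonHom_of_comp_mono i₁ j₁ (i ≫ jG) hc
  have hobs : AGF.IsObservableIn k (i₁ ≫ j₁) := by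
    rw [hc]
    exact GModLib.obs_comp jG i hH hobsG
  obtain ⟨cH⟩ := GModLib.exists_coords G H i
  obtain ⟨cL⟩ := GModLib.exists_coords L H (i ≫ jG)
  have hρ := GModLib.isMult_res (GModLib.ofComod cL.e cL.C) (GModLib.isMult_regular cL.e) jG
  have hm := GModLib.isMult_res (GModLib.ofComod cL.e cL.C) (GModLib.isMult_regular cL.e) (i ≫ jG)
  have hft := (GModLib.subringFGOver_iff_forall cH hG thmA).1 hfg cL.C
    (GModLib.res (GModLib.ofComod cL.e cL.C) jG) hρ
  have he : (GModLib.res (GModLib.ofComod cL.e cL.C) jG).fixedSubalgebra hρ i = GModLib.Inv (GModLib.SG cL.π) := by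
    rw [← RedQuotAff.fixedSubalgebra_eq cL hm]
    refine SetLike.ext fun a => forall_congr' fun B => forall_congr' fun _ => forall_congr' fun _ =>
      forall_congr' fun q => ?_
    show (GModLib.ofComod cL.e cL.C).ρ B ((q ≫ i) ≫ jG) _ = _ ↔
      (GModLib.ofComod cL.e cL.C).ρ B ((q ≫ 𝟙 H) ≫ i ≫ jG) _ = _
    rw [Category.comp_id, Category.assoc]
  have hfgL : AGF.SubringFGOver k L (AGF.rTransInv (i₁ ≫ j₁)) := by
    rw [hc, cL.subringFGOver_iff]
    obtain ⟨s, hs⟩ := (Subalgebra.fg_iff_finiteType _).2 hft
    rw [he] at hs
    exact ⟨s, hs ▸ Algebra.subset_adjoin, hs.ge⟩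
  exact Groth.Agent.S11204.result k L G₁ j₁ H i₁ hobs hG₁ hfgL

end Groth.Agent.S11222
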