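import Groth.Statements.S11223
import Mathlib.RingTheory.MvPolynomial.Homogeneous
import Mathlib.RingTheory.IntegralClosure.IsIntegralClosure.Basic
import Mathlib.RingTheory.Ideal.Operations
import Mathlib.RingTheory.Adjoin.Basic

set_option autoImplicit false
universe u
open CAlg

namespace Groth.Agent.S11223

/-- Let k be a field, let z_1, ..., z_m be homogeneous polynomials of positive degree in the polynomial
ring k[x_1, ..., x_n], and suppose the radical of the ideal (z_1, ..., z_m) is the ideal (x_1, ...,
x_n) generated by the variables. Then the polynomial ring is integral over the subalgebra generated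
by z_1, ..., z_m. (The published statement is over an algebraically closed field; this row takes any
field, which its proof allows.) -/
theorem result (k : Type u) [Field k] (n m : ℕ)
    (z : Fin m → MvPolynomial (Fin n) k) (d : Fin m → ℕ) (hd : ∀ i, 0 < d i)
    (hz : ∀ i, (z i).IsHomogeneous (d i))
    (hrad : (Ideal.span (Set.range z)).radical =
      Ideal.span (Set.range (MvPolynomial.X : Fin n → MvPolynomial (Fin n) k))) :
    Algebra.IsIntegral (Algebra.adjoin k (Set.range z)) (MvPolynomial (Fin n) k) := by
  classical
  set I := Ideal.span (Set.range z) with hI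
  set S := Algebra.adjoin k (Set.range z) with hS
  obtain ⟨N, hN⟩ : ∃ N : ℕ, ∀ j, (MvPolynomial.X j : MvPolynomial (Fin n) k) ^ N ∈ I := by
    have : ∀ j, ∃ N : ℕ, (MvPolynomial.X j : MvPolynomial (Fin n) k) ^ N ∈ I := fun j =>
      (show MvPolynomial.X j ∈ I.radical by rw [hrad]; exact Ideal.subset_span ⟨j, rfl⟩)
    choose N hN using this
    exact ⟨Finset.univ.sup N, fun j => Ideal.pow_mem_of_pow_mem I (hN j) (Finset.le_sup (Finset.mem_univ j))⟩
  let G : Set (MvPolynomial (Fin n) k) :=
    Set.range fun d : Fin n → Fin N => MvPolynomial.monomial (Finsupp.equivFunOnFinite.symm fun j => (d j : ℕ)) 1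
  let M : Submodule S (MvPolynomial (Fin n) k) := Submodule.span S G
  have hsmul : ∀ (r : k) (x : MvPolynomial (Fin n) k), x ∈ M → r • x ∈ M := fun r x hx => by
    rw [← algebraMap_smul S r x]
    exact M.smul_mem _ hx
  have hmon : ∀ (D : ℕ) (e : Fin n →₀ ℕ), e.degree = D → MvPolynomial.monomial e (1 : k) ∈ M := by
    intro D
    induction D using Nat.strong_induction_on with
    | _ D ih =>
      intro e he
      by_cases hlt : ∀ j, e j < N
      · refine Submodule.subset_span ⟨fun j => ⟨e j, hlt j⟩, ?_⟩
        congr 1
        simp
      push Not at hlt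
      obtain ⟨j, hj⟩ := hlt
      have hmem : MvPolynomial.monomial e (1 : k) ∈ I := by
        obtain ⟨e', rfl⟩ : ∃ e', e = e' + Finsupp.single j N :=
          ⟨e - Finsupp.single j N, (tsub_add_cancel_of_le (Finsupp.single_le_iff.mpr hj)).symm⟩
        rw [show MvPolynomial.monomial (e' + Finsupp.single j N) (1 : k) =
          MvPolynomial.monomial e' 1 * MvPolynomial.X j ^ N from MvPolynomial.monomial_add_single]
        exact Ideal.mul_mem_left _ _ (hN j)
      obtain ⟨c, hc⟩ := Ideal.mem_span_range_iff_exists_fun.mp hmem
      have hlow : ∀ (p : MvPolynomial (Fin n) k) (E : ℕ), E < D → p.IsHomogeneous E → p ∈ M := by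
        intro p E hE hp
        rw [p.as_sum]
        refine sum_mem fun v hv => ?_
        have hv' : v.degree = E := by
          rw [Finsupp.degree_eq_weight_one]
          exact hp (MvPolynomial.mem_support_iff.mp hv)
        rw [show MvPolynomial.monomial v (p.coeff v) = (p.coeff v) • MvPolynomial.monomial v (1 : k) by rw [MvPolynomial.smul_monomial, smul_eq_mul, mul_one]]
        exact hsmul _ _ (ih E hE v hv')
      have hD : MvPolynomial.monomial e (1 : k) = ∑ i, ∑ E ∈ Finset.range ((c i).totalDegree + 1),
          if E + d i = D then MvPolynomial.homogeneousComponent E (c i) * z i else 0 := by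
        conv_lhs => rw [← (if_pos rfl : (if D = D then MvPolynomial.monomial e (1 : k) else 0) = _),
          ← MvPolynomial.homogeneousComponent_of_mem (MvPolynomial.isHomogeneous_monomial _ he), ← hc]
        rw [map_sum]
        refine Finset.sum_congr rfl fun i _ => ?_
        conv_lhs => rw [← MvPolynomial.sum_homogeneousComponent (c i), Finset.sum_mul, map_sum]
        refine Finset.sum_congr rfl fun E _ => ?_
        rw [MvPolynomial.homogeneousComponent_of_mem
          ((MvPolynomial.homogeneousComponent_isHomogeneous E (c i)).mul (hz i))]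
        simp only [eq_comm]
      rw [hD]
      refine sum_mem fun i _ => sum_mem fun E _ => ?_
      split
      · next h =>
        rw [mul_comm]
        exact M.smul_mem (⟨z i, Algebra.subset_adjoin ⟨i, rfl⟩⟩ : S)
          (hlow _ E (by have := hd i; omega) (MvPolynomial.homogeneousComponent_isHomogeneous E (c i)))
      · exact zero_mem _
  haveI : Module.Finite S (MvPolynomial (Fin n) k) := by
    refine ⟨Submodule.fg_def.mpr ⟨G, Set.finite_range _, ?_⟩⟩
    rw [eq_top_iff]
    rintro p -
    rw [p.as_sum]
    refine sum_mem fun v _ => ?_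
    rw [show MvPolynomial.monomial v (p.coeff v) = (p.coeff v) • MvPolynomial.monomial v (1 : k) by rw [MvPolynomial.smul_monomial, smul_eq_mul, mul_one]]
    exact hsmul _ _ (hmon _ v rfl)
  exact Algebra.IsIntegral.of_finite S (MvPolynomial (Fin n) k)

end Groth.Agent.S11223
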