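import Groth.Statements.S11227
import Groth.Agent.GrossU.Use
-- import your own Groth.Agent.* helpers here

set_option backward.isDefEq.respectTransparency false
set_option linter.style.haveILetI false
set_option synthInstance.maxHeartbeats 400000
set_option maxHeartbeats 1000000

set_option autoImplicit false
universe u
open CategoryTheory MonoidalCategory CartesianMonoidalCategory MonObj GrpObj AlgebraicGeometry
open scoped TensorProduct
open AGF

namespace Groth.Agent.S11227

/-- Let k an algebraically closed field, G a linear algebraic group over k (affine, smooth) whose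
identity component is reductive, B a Borel subgroup of G with unipotent radical U (a maximal
unipotent subgroup). Assume finite generation of invariants of reductive groups over k on finitely
generated algebras (a true result which the published text assumes without proof, carried here as a
hypothesis). Let A be a finitely generated commutative k-algebra with a rational action of G by
algebra automorphisms and C a finitely generated subalgebra of A stable under G. Then integrality of
A over C is equivalent to integrality of A^U over C^U = C ∩ A^U, that is, every element of A^U is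
integral over the subalgebra C ∩ A^U. -/
theorem result (k : Type u) [Field k] [IsAlgClosed k]
    (G : Over (Spec (CommRingCat.of k))) [GrpObj G] (hG : VecGrp.IsReductiveGrp k G)
    (Bo : Over (Spec (CommRingCat.of k))) [GrpObj Bo] (iB : Bo ⟶ G) (hB : Red.IsBorelOver k iB)
    (U : Over (Spec (CommRingCat.of k))) [GrpObj U] (u : U ⟶ Bo) (hU : Par.IsUnipotentRadical u)
    (thmA : VecGrp.ReductiveInvariantsFG k)
    (A : Type u) [CommRing A] [Algebra k A] [Algebra.FiniteType k A] (ρ : VecGrp.GMod G A) (hρ : ρ.IsMult)
    (C : Subalgebra k A) (hCfg : C.FG) (hC : ρ.IsStable (𝟙 G) (Subalgebra.toSubmodule C)) :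
    Algebra.IsIntegral ↥C A ↔
      ∀ x ∈ ρ.fixedUnder (u ≫ iB), IsIntegral ↥(C ⊓ ρ.fixedSubalgebra hρ (u ≫ iB)) x := by
  classical
  obtain ⟨C', _, _, _, _, e, he⟩ := Groth.Agent.GrossU.exists_hopf_data hG
  haveI := he; haveI := hG.1
  obtain ⟨hm, hUa, hUs, hUc, hUno⟩ := Groth.Agent.GModLib.props_of_borel hB hU
  haveI := hm; haveI := hUa; haveI := hUs; haveI := hUc
  have fg := Groth.Agent.GrossU.fgInv_of_borel hG hB hU thmA
  obtain ⟨α, hα⟩ := Groth.Agent.GrossU.exists_act e ρ hρ
  have hfix : ∀ x, x ∈ ρ.fixedUnder (u ≫ iB) ↔ x ∈ α.Fixed (Groth.Agent.GrossU.pts e (u ≫ iB)) := fun x =>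
    Groth.Agent.GrossU.mem_fixedUnder_iff_act α e (u ≫ iB) ρ hα x
  have hCσ : ∀ φ, ∀ a ∈ C, α.σ φ a ∈ C := fun φ a ha => by
    rw [hα]; exact Groth.Agent.GrossU.stable_pts e hC φ ha
  constructor
  · intro hint x hx
    haveI : Algebra.FiniteType k C := (Subalgebra.fg_iff_finiteType _).1 hCfg
    haveI : Algebra.FiniteType C A := Algebra.FiniteType.of_restrictScalars_finiteType k C A
    haveI : Module.Finite C A := Algebra.IsIntegral.finite
    obtain ⟨β, hβ⟩ := α.exists_sub C hCσ
    have hδ := hβ.delta (α := β)
    have hA : ∀ (B : Type u) [CommRing B] [Algebra k B] (φ : C' →ₐ[k] B) (a : A),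
        (α.gmod e).ρ B (Groth.Agent.GModLib.pnt e φ) ((1 : B) ⊗ₜ[k] a) =
          TensorProduct.comm k A B (φ.toLinearMap.lTensor A (α.δ a)) := fun B _ _ φ a => by
      letI := α.comod; exact Groth.Agent.GModLib.ofComod_pnt e A φ a
    have hB' : ∀ (B : Type u) [CommRing B] [Algebra k B] (φ : C' →ₐ[k] B) (c : C),
        (β.gmod e).ρ B (Groth.Agent.GModLib.pnt e φ) ((1 : B) ⊗ₜ[k] c) =
          TensorProduct.comm k C B (φ.toLinearMap.lTensor C (β.δ c)) := fun B _ _ φ c => by
      letI := β.comod; exact Groth.Agent.GModLib.ofComod_pnt e C φ c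
    have hsm : ∀ (B : Type u) [CommRing B] [Algebra k B] (x : B ⊗[k] C) (y : B ⊗[k] A),
        VecGrp.GMod.smulW k C A B x y = Algebra.TensorProduct.map (AlgHom.id k B) C.val x * y := by
      intro B _ _ x y
      induction x using TensorProduct.induction_on with
      | zero => simp
      | add x x' hx hx' => simp only [map_add, LinearMap.add_apply, hx, hx', add_mul]
      | tmul b r =>
        induction y using TensorProduct.induction_on with
        | zero => simp
        | add y y' hy hy' => simp only [map_add, hy, hy', mul_add]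
        | tmul b' d' => simp [Groth.Agent.GrossU.smulW_tmul, Algebra.smul_def]
    have hc : VecGrp.GMod.IsCompat (β.gmod e) (α.gmod e) := by
      intro B _ _ g x y
      rw [hsm, hsm, ((α.isMult_gmod e) B g).1]
      congr 1
      obtain ⟨φ, rfl⟩ := Groth.Agent.GModLib.exists_eq_pnt e g
      induction x using TensorProduct.induction_on with
      | zero => simp
      | add x x' hx hx' => simp only [map_add, hx, hx']
      | tmul b r =>
        rw [Algebra.TensorProduct.map_tmul, AlgHom.id_apply, show b ⊗ₜ[k] r = b • ((1 : B) ⊗ₜ[k] r) by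
          simp [TensorProduct.smul_tmul'], show b ⊗ₜ[k] C.val r = b • ((1 : B) ⊗ₜ[k] C.val r) by
          simp [TensorProduct.smul_tmul'], map_smul, map_smul, hA, hB', hδ]
        generalize β.δ r = t
        induction t using TensorProduct.induction_on with
        | zero => simp
        | add p q hp hq => simp only [map_add, smul_add, hp, hq]
        | tmul p q => simp [TensorProduct.smul_tmul']
    obtain ⟨s, hs, hle⟩ := Groth.Agent.GrossU.exists_fixed_span_of_algebra (u ≫ iB) fg (β.gmod e) (β.isMult_gmod e)
      (α.gmod e) hc
    let S : Subalgebra k A := C ⊓ ρ.fixedSubalgebra hρ (u ≫ iB)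
    let T : Subalgebra S A :=
      { (ρ.fixedSubalgebra hρ (u ≫ iB)).toSubsemiring with algebraMap_mem' := fun y => y.2.2 }
    refine IsIntegral.of_mem_of_fg T ⟨s, le_antisymm ?_ ?_⟩ x hx
    · exact Submodule.span_le.2 fun y hy => (hfix y).2 ((α.mem_fixedUnder e _ y).1 (hs hy))
    · intro y hy
      have h1 := hle ((α.mem_fixedUnder e _ y).2 ((hfix y).1 hy))
      rw [Submodule.restrictScalars_mem] at h1
      refine Submodule.span_induction (p := fun z _ => z ∈ Submodule.span S (↑s : Set A)) ?_ ?_ ?_ ?_ h1
      · exact fun z hz => Submodule.subset_span hz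
      · exact Submodule.zero_mem _
      · exact fun z w _ _ hz hw => Submodule.add_mem _ hz hw
      · intro r z _ hz
        have hr : ((r : C) : A) ∈ ρ.fixedSubalgebra hρ (u ≫ iB) :=
          (hfix _).2 (hβ.map_fixed (α := β) ((β.mem_fixedUnder e _ _).1 r.2))
        rw [show r • z = (⟨((r : C) : A), (r : C).2, hr⟩ : S) • z from rfl]
        exact Submodule.smul_mem _ _ hz
  · intro h
    exact Groth.Agent.GrossU.isIntegral_of_fixed e (u ≫ iB) fg hUno α C hCfg hCσ fun a ha =>
      (h a ((hfix a).2 ha)).map_of_comp_eq (Subalgebra.inclusion inf_le_left).toRingHom (RingHom.id A) rfl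

end Groth.Agent.S11227
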