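import Groth.Statements.S11228
import Groth.Agent.GrossU.Use
-- import your own Groth.Agent.* helpers here

set_option backward.isDefEq.respectTransparency false
set_option linter.style.haveILetI false
set_option synthInstance.maxHeartbeats 400000
set_option maxHeartbeats 1000000

set_option autoImplicit false
universe u
open CategoryTheory MonoidalCategory CartesianMonoidalCategory MonObj GrpObj AlgebraicGeometry
open scoped TensorProduct
open AGF

namespace Groth.Agent.S11228

/-- Let k an algebraically closed field, G a linear algebraic group over k (affine, smooth) whose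
identity component is reductive, B a Borel subgroup of G with unipotent radical U (a maximal
unipotent subgroup). Assume finite generation of invariants of reductive groups over k on finitely
generated algebras (a true result which the published text assumes without proof, carried here as a
hypothesis). Let A be a commutative k-algebra with a rational action of G by algebra automorphisms
and let G·A^U be the intersection of all G-stable subalgebras of A containing the invariants A^U.
Then A is integral over G·A^U. -/
theorem result (k : Type u) [Field k] [IsAlgClosed k]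
    (G : Over (Spec (CommRingCat.of k))) [GrpObj G] (hG : VecGrp.IsReductiveGrp k G)
    (Bo : Over (Spec (CommRingCat.of k))) [GrpObj Bo] (iB : Bo ⟶ G) (hB : Red.IsBorelOver k iB)
    (U : Over (Spec (CommRingCat.of k))) [GrpObj U] (u : U ⟶ Bo) (hU : Par.IsUnipotentRadical u)
    (thmA : VecGrp.ReductiveInvariantsFG k)
    (A : Type u) [CommRing A] [Algebra k A] (ρ : VecGrp.GMod G A) (hρ : ρ.IsMult) :
    Algebra.IsIntegral
      ↥(sInf {S : Subalgebra k A | ρ.fixedUnder (u ≫ iB) ≤ Subalgebra.toSubmodule S ∧
        ρ.IsStable (𝟙 G) (Subalgebra.toSubmodule S)}) A := by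
  obtain ⟨C, _, _, _, _, e, he⟩ := Groth.Agent.GrossU.exists_hopf_data hG
  haveI := he; haveI := hG.1
  obtain ⟨hm, hUa, hUs, hUc, hUno⟩ := Groth.Agent.GModLib.props_of_borel hB hU
  haveI := hm; haveI := hUa; haveI := hUs; haveI := hUc
  obtain ⟨α, hα⟩ := Groth.Agent.GrossU.exists_act e ρ hρ
  refine ⟨fun a => ?_⟩
  obtain ⟨Cs, hCs, hle⟩ := Groth.Agent.GrossU.isIntegral_of_fixed_le
    (Groth.Agent.GrossU.fgInv_of_borel hG hB hU thmA) hUno e α a
  have h1 : Cs ≤ sInf {S : Subalgebra k A | ρ.fixedUnder (u ≫ iB) ≤ Subalgebra.toSubmodule S ∧
      ρ.IsStable (𝟙 G) (Subalgebra.toSubmodule S)} := le_sInf fun S hS =>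
    hle S (fun x hx => hS.1 ((Groth.Agent.GrossU.mem_fixedUnder_iff_act α e (u ≫ iB) ρ hα x).2 hx)) fun φ x hx => by
      rw [hα]
      exact Groth.Agent.GrossU.stable_pts e hS.2 φ hx
  exact hCs.map_of_comp_eq (Subalgebra.inclusion h1).toRingHom (RingHom.id A) rfl

end Groth.Agent.S11228
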