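import Groth.Statements.S11229
import Groth.Agent.GModLib.Alg
import Mathlib

set_option autoImplicit false
universe u
open CategoryTheory MonoidalCategory CartesianMonoidalCategory MonObj GrpObj AlgebraicGeometry
open scoped TensorProduct
open AGF

namespace Groth.Agent.S11229

/-- Let k an algebraically closed field, G a connected reductive linear algebraic group over k, B a
Borel subgroup of G with unipotent radical U (a maximal unipotent subgroup), and let A be a
commutative k-algebra with a rational action of G by algebra automorphisms. Then A has a nonzero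
nilpotent element if and only if A^U does; equivalently A is reduced if and only if A^U is reduced. -/
theorem result (k : Type u) [Field k] [IsAlgClosed k]
    (G : Over (Spec (CommRingCat.of k))) [GrpObj G] (hG : Red.IsReductiveOver k G)
    (Bo : Over (Spec (CommRingCat.of k))) [GrpObj Bo] (iB : Bo ⟶ G) (hB : Red.IsBorelOver k iB)
    (U : Over (Spec (CommRingCat.of k))) [GrpObj U] (u : U ⟶ Bo) (hU : Par.IsUnipotentRadical u)
    (A : Type u) [CommRing A] [Algebra k A] (ρ : VecGrp.GMod G A) (hρ : ρ.IsMult) :
    IsReduced A ↔ IsReduced ↥(ρ.fixedSubalgebra hρ (u ≫ iB)) := by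
  haveI := hG.1
  obtain ⟨hm, ha, hs, hc, ht⟩ := Groth.Agent.GModLib.props_of_borel hB hU
  refine ⟨fun h => isReduced_of_injective (ρ.fixedSubalgebra hρ (u ≫ iB)).val Subtype.val_injective, fun h => ⟨fun x hx => ?_⟩⟩
  by_contra hx0
  obtain ⟨w, hw, hw0, hwfix⟩ := Groth.Agent.GModLib.exists_fixed_mem ht ρ (u ≫ iB) ((nilradical A).restrictScalars k)
    (fun g y hy => (mem_nilradical.2 ((mem_nilradical.1 hy).map (Groth.Agent.GModLib.sig ρ hρ (g ≫ u ≫ iB)))))
    ((Submodule.ne_bot_iff _).2 ⟨x, mem_nilradical.2 hx, hx0⟩)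
  obtain ⟨n, hn⟩ := mem_nilradical.1 hw
  exact hw0 (congrArg Subtype.val (IsReduced.eq_zero (⟨w, hwfix⟩ : ρ.fixedSubalgebra hρ (u ≫ iB)) ⟨n, Subtype.ext hn⟩))

end Groth.Agent.S11229
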