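import Groth.Statements.S11230
import Groth.Agent.GModLib.Alg
import Mathlib

set_option autoImplicit false
universe u
open CategoryTheory MonoidalCategory CartesianMonoidalCategory MonObj GrpObj AlgebraicGeometry
open scoped TensorProduct
open AGF

namespace Groth.Agent.S11230

/-- Let k an algebraically closed field, G a connected reductive linear algebraic group over k, B a
Borel subgroup of G with unipotent radical U (a maximal unipotent subgroup), and let A be a
commutative k-algebra with a rational action of G by algebra automorphisms. Then A has zero divisors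
(two nonzero elements with product zero) if and only if the algebra of invariants A^U does. -/
theorem result (k : Type u) [Field k] [IsAlgClosed k]
    (G : Over (Spec (CommRingCat.of k))) [GrpObj G] (hG : Red.IsReductiveOver k G)
    (Bo : Over (Spec (CommRingCat.of k))) [GrpObj Bo] (iB : Bo ⟶ G) (hB : Red.IsBorelOver k iB)
    (U : Over (Spec (CommRingCat.of k))) [GrpObj U] (u : U ⟶ Bo) (hU : Par.IsUnipotentRadical u)
    (A : Type u) [CommRing A] [Algebra k A] (ρ : VecGrp.GMod G A) (hρ : ρ.IsMult) :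
    (∃ a b : A, a ≠ 0 ∧ b ≠ 0 ∧ a * b = 0) ↔
      ∃ a b : ↥(ρ.fixedSubalgebra hρ (u ≫ iB)), a ≠ 0 ∧ b ≠ 0 ∧ a * b = 0 := by
  haveI := hG.1
  obtain ⟨hm, ha, hs, hc, ht⟩ := Groth.Agent.GModLib.props_of_borel hB hU
  constructor
  · rintro ⟨a, b, ha0, hb0, hab⟩
    by_cases hred : IsReduced A
    · obtain ⟨w, hw, hw0, hwfix⟩ := Groth.Agent.GModLib.exists_fixed_mem ht ρ (u ≫ iB) (LinearMap.ker (LinearMap.mulRight k b))
        (fun g y hy => Groth.Agent.GModLib.sig_mul_eq_zero (Groth.Agent.GModLib.res ρ (u ≫ iB))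
          (Groth.Agent.GModLib.isMult_res ρ hρ _) g hy)
        ((Submodule.ne_bot_iff _).2 ⟨a, hab, ha0⟩)
      obtain ⟨w', hw', hw'0, hw'fix⟩ := Groth.Agent.GModLib.exists_fixed_mem ht ρ (u ≫ iB) (LinearMap.ker (LinearMap.mulRight k w))
        (fun g y hy => Groth.Agent.GModLib.sig_mul_eq_zero (Groth.Agent.GModLib.res ρ (u ≫ iB))
          (Groth.Agent.GModLib.isMult_res ρ hρ _) g hy)
        ((Submodule.ne_bot_iff _).2 ⟨b, (mul_comm b w).trans hw, hb0⟩)
      exact ⟨⟨w', hw'fix⟩, ⟨w, hwfix⟩, fun h => hw'0 congr($(h).1), fun h => hw0 congr($(h).1), Subtype.ext hw'⟩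
    · rw [isReduced_iff] at hred
      push Not at hred
      obtain ⟨x, hx, hx0⟩ := hred
      obtain ⟨w, hw, hw0, hwfix⟩ := Groth.Agent.GModLib.exists_fixed_mem ht ρ (u ≫ iB) ((nilradical A).restrictScalars k)
        (fun g y hy => (mem_nilradical.2 ((mem_nilradical.1 hy).map (Groth.Agent.GModLib.sig ρ hρ (g ≫ u ≫ iB)))))
        ((Submodule.ne_bot_iff _).2 ⟨x, mem_nilradical.2 hx, hx0⟩)
      classical
      have hex : ∃ n, w ^ n = 0 := mem_nilradical.1 hw
      have hm : Nat.find hex ≠ 0 := fun h => by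
        have h1 := Nat.find_spec hex
        rw [h, pow_zero] at h1
        exact hw0 (by rw [← _root_.mul_one w, h1, mul_zero])
      obtain ⟨n, hn⟩ := Nat.exists_eq_succ_of_ne_zero hm
      have hn0 : w ^ n ≠ 0 := fun h => Nat.find_min hex (by omega) h
      have hn' : w ^ (n + 1) = 0 := by have h1 := Nat.find_spec hex; rwa [hn] at h1
      exact ⟨⟨w, hwfix⟩, ⟨w, hwfix⟩ ^ n, fun h => hw0 congr($(h).1), fun h => hn0 congr($(h).1),
        Subtype.ext ((pow_succ' w n).symm.trans hn')⟩
  · rintro ⟨a, b, ha0, hb0, hab⟩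
    exact ⟨a.1, b.1, fun h => ha0 (Subtype.ext h), fun h => hb0 (Subtype.ext h), congr($(hab).1)⟩

end Groth.Agent.S11230
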