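import Groth.Statements.S11231
import Mathlib

set_option autoImplicit false
universe u
open CategoryTheory MonoidalCategory CartesianMonoidalCategory MonObj GrpObj AlgebraicGeometry
open scoped TensorProduct
open AGF

namespace Groth.Agent.S11231

/-- Let k an algebraically closed field, G a connected reductive linear algebraic group over k, B a
Borel subgroup of G with unipotent radical U (a maximal unipotent subgroup), and let A be a
commutative k-algebra with a rational action of G by algebra automorphisms. If A is an integrally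
closed domain then so is A^U. (The published statement is for A normal; its proof reduces to the
case of a domain, which is the case stated here.) -/
theorem result (k : Type u) [Field k] [IsAlgClosed k]
    (G : Over (Spec (CommRingCat.of k))) [GrpObj G] (hG : Red.IsReductiveOver k G)
    (Bo : Over (Spec (CommRingCat.of k))) [GrpObj Bo] (iB : Bo ⟶ G) (hB : Red.IsBorelOver k iB)
    (U : Over (Spec (CommRingCat.of k))) [GrpObj U] (u : U ⟶ Bo) (hU : Par.IsUnipotentRadical u)
    (A : Type u) [CommRing A] [IsDomain A] [Algebra k A] [IsIntegrallyClosed A]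
    (ρ : VecGrp.GMod G A) (hρ : ρ.IsMult) :
    IsIntegrallyClosed ↥(ρ.fixedSubalgebra hρ (u ≫ iB)) := by
  set Bi := ρ.fixedSubalgebra hρ (u ≫ iB)
  have hinj : Function.Injective ((algebraMap A (FractionRing A)).comp Bi.val.toRingHom) :=
    fun x y h => Subtype.val_injective (IsFractionRing.injective A (FractionRing A) h)
  rw [isIntegrallyClosed_iff (FractionRing Bi)]
  intro z hz
  obtain ⟨⟨a, b⟩, hab⟩ := IsLocalization.surj (nonZeroDivisors Bi) z
  obtain ⟨θ, hθ⟩ : ∃ θ : FractionRing Bi →+* FractionRing A,
      ∀ r : Bi, θ (algebraMap Bi (FractionRing Bi) r) = algebraMap A (FractionRing A) r.1 :=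
    ⟨IsFractionRing.lift (K := FractionRing Bi) hinj, fun r => IsFractionRing.lift_algebraMap hinj r⟩
  have hint : IsIntegral A (θ z) := by
    obtain ⟨p, hp, hp0⟩ := hz
    refine ⟨p.map Bi.val.toRingHom, hp.map _, ?_⟩
    rw [Polynomial.eval₂_map, show (algebraMap A (FractionRing A)).comp Bi.val.toRingHom =
      θ.comp (algebraMap Bi (FractionRing Bi)) from RingHom.ext fun r => (hθ r).symm,
      ← Polynomial.hom_eval₂, hp0, map_zero]
  obtain ⟨f, hf⟩ := IsIntegrallyClosed.isIntegral_iff.1 hint
  have hb : (b : Bi).1 ≠ 0 := fun h => nonZeroDivisors.ne_zero b.2 (Subtype.ext h)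
  have hfb : f * (b : Bi).1 = a.1 := by
    apply IsFractionRing.injective A (FractionRing A)
    have h1 : θ z * θ (algebraMap Bi (FractionRing Bi) b) = θ (algebraMap Bi (FractionRing Bi) a) := by
      rw [← map_mul, hab]
    rw [hθ, hθ] at h1
    rw [map_mul, hf]
    exact h1
  have hmem : f ∈ Bi := by
    intro C _ _ h
    have hinjb : Function.Injective ((LinearMap.mulLeft k (b : Bi).1).lTensor C) :=
      Module.Flat.lTensor_preserves_injective_linearMap _ (fun x y hxy => mul_left_cancel₀ hb hxy)
    refine hinjb ?_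
    have key : ∀ w : C ⊗[k] A,
        (LinearMap.mulLeft k (b : Bi).1).lTensor C w = ((1 : C) ⊗ₜ[k] (b : Bi).1) * w := by
      intro w
      induction w with
      | zero => simp
      | tmul c x => simp [Algebra.TensorProduct.tmul_mul_tmul]
      | add x y hx hy => rw [map_add, hx, hy, mul_add]
    rw [key, key]
    calc ((1 : C) ⊗ₜ[k] (b : Bi).1) * ρ.ρ C (h ≫ u ≫ iB) ((1 : C) ⊗ₜ[k] f)
        = ρ.ρ C (h ≫ u ≫ iB) (((1 : C) ⊗ₜ[k] (b : Bi).1) * ((1 : C) ⊗ₜ[k] f)) := by
          rw [(hρ C _).1, (b : Bi).2 C h]
      _ = (1 : C) ⊗ₜ[k] a.1 := by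
          rw [Algebra.TensorProduct.tmul_mul_tmul, _root_.one_mul, mul_comm _ f, hfb, a.2 C h]
      _ = _ := by rw [Algebra.TensorProduct.tmul_mul_tmul, _root_.one_mul, mul_comm _ f, hfb]
  refine ⟨⟨f, hmem⟩, θ.injective ?_⟩
  rw [hθ]
  exact hf

end Groth.Agent.S11231
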