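import Groth.Statements.S11232
import Groth.Agent.GModLib.OfComod
import Mathlib

set_option autoImplicit false
universe u
open CategoryTheory MonoidalCategory CartesianMonoidalCategory MonObj GrpObj AlgebraicGeometry
open scoped TensorProduct
open AGF
set_option backward.isDefEq.respectTransparency false

namespace Groth.Agent.S11232

/-- Let k be an algebraically closed field, G a connected linear algebraic group over k (affine, smooth,
connected) admitting no nontrivial character (every homomorphism to the multiplicative group is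
trivial), and A a commutative k-algebra which is a unique factorization domain whose group of units
consists of the nonzero scalars, carrying a rational action of G by algebra automorphisms. Then the
algebra of invariants A^G is a unique factorization domain. -/
theorem result (k : Type u) [Field k] [IsAlgClosed k]
    (G : Over (Spec (CommRingCat.of k))) [GrpObj G] [IsAffine G.left] [Smooth G.hom] [ConnectedSpace G.left]
    (hχ : ∀ χ : G ⟶ Red.Gm (Spec (CommRingCat.of k)), IsMonHom χ → χ = 1)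
    (A : Type u) [CommRing A] [IsDomain A] [Algebra k A] [UniqueFactorizationMonoid A]
    (hunits : ∀ x : Aˣ, (x : A) ∈ Set.range (algebraMap k A))
    (ρ : VecGrp.GMod G A) (hρ : ρ.IsMult) :
    UniqueFactorizationMonoid ↥(ρ.fixedSubalgebra hρ (𝟙 G)) := by
  classical
  obtain ⟨C, _, e, he⟩ := Groth.Agent.FinHopf.exists_hopf (R := CommRingCat.of k) G
  haveI := he
  haveI : IsIso e.hom.left := inferInstanceAs (IsIso ((Over.forget _).map e.hom))
  haveI : Algebra.FiniteType k C := by
    have h0 : LocallyOfFiniteType (e.hom.left ≫ G.hom) := inferInstance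
    rw [Over.w e.hom] at h0
    exact RingHom.finiteType_algebraMap.1 ((HasRingHomProperty.Spec_iff (P := @LocallyOfFiniteType)).1 h0)
  haveI : IsDomain C := Groth.Agent.Chev.Borel.isDomain_of_smooth_connected e
  haveI : _root_.IsReduced C := inferInstance
  have hσinv : ∀ g : VecGrp.pt k k ⟶ G, Function.LeftInverse (Groth.Agent.GModLib.sig ρ hρ g⁻¹) (Groth.Agent.GModLib.sig ρ hρ g) := by
    intro g x
    show Algebra.TensorProduct.lid k A (ρ.ρ k g⁻¹ ((1 : k) ⊗ₜ[k] Groth.Agent.GModLib.sig ρ hρ g x)) = x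
    rw [← Groth.Agent.GModLib.rho_eq_sig, ← LinearEquiv.mul_apply, ← map_mul, inv_mul_cancel, map_one]
    simp
  have key : ∀ (f p : A), f ≠ 0 → f ∈ ρ.fixedUnder (𝟙 G) → Prime p → p ∣ f → p ∈ ρ.fixedUnder (𝟙 G) := by
    intro f p hf0 hf hp hpf
    have hP : (Ideal.span {p}).IsPrime := (Ideal.span_singleton_prime hp.ne_zero).2 hp
    have hQ := Groth.Agent.GModLib.isPrime_iInf_comap ρ hρ hP
    have hfix : ∀ g : VecGrp.pt k k ⟶ G, Groth.Agent.GModLib.sig ρ hρ g f = f := fun g => by
      have h := hf k g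
      rw [Category.comp_id] at h
      show Algebra.TensorProduct.lid k A (ρ.ρ k g ((1 : k) ⊗ₜ[k] f)) = f
      rw [h]; simp
    have hfQ : f ∈ ⨅ g : VecGrp.pt k k ⟶ G, (Ideal.span {p}).comap (Groth.Agent.GModLib.sig ρ hρ g) :=
      Ideal.mem_iInf.2 fun g => by rw [Ideal.mem_comap, hfix, Ideal.mem_span_singleton]; exact hpf
    obtain ⟨q, hqQ, hq⟩ := hQ.exists_mem_prime_of_ne_bot (fun h => hf0 (by rw [h] at hfQ; exact hfQ))
    have hqp : p ∣ q := Ideal.mem_span_singleton.1 (Groth.Agent.GModLib.iInf_comap_le ρ hρ hqQ)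
    have hpQ : ∀ g : VecGrp.pt k k ⟶ G, p ∣ Groth.Agent.GModLib.sig ρ hρ g p := fun g => by
      obtain ⟨u, hu⟩ := hp.irreducible.associated_of_dvd hq.irreducible hqp
      have := Ideal.mem_iInf.1 hqQ g
      rw [Ideal.mem_comap, Ideal.mem_span_singleton, ← hu, map_mul] at this
      exact (u.isUnit.map (Groth.Agent.GModLib.sig ρ hρ g)).dvd_mul_right.1 this
    obtain ⟨χ, hgl, hco⟩ := Groth.Agent.GModLib.exists_groupLike_of_stable_line e ρ hp.ne_zero (fun g => by
      obtain ⟨c, hc⟩ := hpQ g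
      obtain ⟨d, hd⟩ := hpQ g⁻¹
      have h1 := congrArg (Groth.Agent.GModLib.sig ρ hρ g⁻¹) hc
      rw [hσinv g p, map_mul, hd, _root_.mul_assoc] at h1
      obtain ⟨c', hc'⟩ : IsUnit c := by
        have h2 : d * Groth.Agent.GModLib.sig ρ hρ g⁻¹ c = 1 :=
          (mul_left_cancel₀ hp.ne_zero ((_root_.mul_one p).trans h1)).symm
        have h3 := IsUnit.of_mul_eq_one _ ((mul_comm _ d).trans h2)
        have hsurj : Function.LeftInverse (Groth.Agent.GModLib.sig ρ hρ g) (Groth.Agent.GModLib.sig ρ hρ g⁻¹) := by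
          have := hσinv g⁻¹
          rwa [_root_.inv_inv] at this
        have h4 := h3.map (Groth.Agent.GModLib.sig ρ hρ g)
        rwa [hsurj c] at h4
      obtain ⟨r, hr⟩ := hunits c'
      refine Submodule.mem_span_singleton.2 ⟨r, ?_⟩
      show r • p = Groth.Agent.GModLib.sig ρ hρ g p
      rw [hc, ← hc', ← hr, Algebra.smul_def, mul_comm])
    obtain rfl := Groth.Agent.GModLib.eq_one_of_no_char e hχ hgl
    exact Groth.Agent.GModLib.mem_fixedUnder_of_coact e ρ hco
  have hdiv : ∀ (p z : A), p ≠ 0 → p ∈ ρ.fixedUnder (𝟙 G) → p * z ∈ ρ.fixedUnder (𝟙 G) → z ∈ ρ.fixedUnder (𝟙 G) := by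
    intro p z hp0 hp hpz B _ _ h
    have hinjb : Function.Injective ((LinearMap.mulLeft k p).lTensor B) :=
      Module.Flat.lTensor_preserves_injective_linearMap _ (fun x y hxy => mul_left_cancel₀ hp0 hxy)
    have hk : ∀ w : B ⊗[k] A, (LinearMap.mulLeft k p).lTensor B w = ((1 : B) ⊗ₜ[k] p) * w := by
      intro w
      induction w with
      | zero => simp
      | tmul c x => simp [Algebra.TensorProduct.tmul_mul_tmul]
      | add x y hx hy => rw [map_add, hx, hy, mul_add]
    apply hinjb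
    rw [hk, hk]
    nth_rewrite 1 [← hp B h]
    rw [← (hρ B _).1, Algebra.TensorProduct.tmul_mul_tmul, _root_.one_mul, hpz B h]
  let S := ρ.fixedSubalgebra hρ (𝟙 G)
  refine UniqueFactorizationMonoid.of_exists_prime_factors fun a ha => ?_
  have ha0 : (a : A) ≠ 0 := fun h => ha (Subtype.ext h)
  obtain ⟨F, hF, u, hu⟩ := UniqueFactorizationMonoid.exists_prime_factors (a : A) ha0
  have hmem : ∀ p ∈ F, p ∈ S := fun p hp =>
    key a p ha0 a.2 (hF p hp) ((Multiset.dvd_prod hp).trans ⟨u, hu.symm⟩)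
  let F' : Multiset S := F.pmap (fun p hp => (⟨p, hp⟩ : S)) hmem
  have hprod : (F'.prod : A) = F.prod := by
    show S.val F'.prod = F.prod
    rw [map_multiset_prod, Multiset.map_pmap]
    congr 1
    simp [Multiset.pmap_eq_map]
  have hunit : ∀ x : Aˣ, ∃ y : Sˣ, ((y : S) : A) = (x : A) := fun x => by
    obtain ⟨r, hr⟩ := hunits x
    have hr0 : r ≠ 0 := fun h => x.ne_zero (by rw [← hr, h, map_zero])
    exact ⟨Units.map (algebraMap k S).toMonoidHom (Units.mk0 r hr0), hr⟩
  refine ⟨F', fun b hb => ?_, ?_⟩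
  · obtain ⟨p, hp, rfl⟩ := Multiset.mem_pmap.1 hb
    refine ⟨fun h => (hF p hp).ne_zero congr($(h).1), fun h => (hF p hp).not_unit (h.map S.val), fun x y hxy => ?_⟩
    have h : p ∣ (x : A) * y := map_dvd S.val hxy
    rcases (hF p hp).dvd_or_dvd h with ⟨z, hz⟩ | ⟨z, hz⟩
    · exact Or.inl ⟨⟨z, hdiv p z (hF p hp).ne_zero (hmem p hp) (hz ▸ x.2)⟩, Subtype.ext hz⟩
    · exact Or.inr ⟨⟨z, hdiv p z (hF p hp).ne_zero (hmem p hp) (hz ▸ y.2)⟩, Subtype.ext hz⟩
  · obtain ⟨u', hu'⟩ := hunit u
    exact ⟨u', Subtype.ext (by show (F'.prod : A) * ((u' : S) : A) = a; rw [hprod, hu', hu])⟩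

end Groth.Agent.S11232
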