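import Groth.Statements.S11233
import Mathlib.FieldTheory.IsAlgClosed.Basic
import Mathlib.Algebra.MvPolynomial.Funext
import Mathlib.LinearAlgebra.Matrix.NonsingularInverse
import Mathlib.Algebra.MvPolynomial.Eval

set_option autoImplicit false
universe u
open CAlg

namespace Groth.Agent.S11233

/-- Let k be an algebraically closed field, A an integral domain which is a k-algebra, T an m by m
matrix over A with invertible determinant, and let the additive group k^m act on the polynomial ring
A[y_1, ..., y_m] by the A-algebra maps y_s ↦ y_s + Σ_r h_r T_rs. Then the only invariant polynomials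
are the constants: a polynomial fixed by all these substitutions lies in A. -/
theorem result (k : Type u) [Field k] [IsAlgClosed k]
    (A : Type u) [CommRing A] [IsDomain A] [Algebra k A] (m : ℕ) (T : Matrix (Fin m) (Fin m) A)
    (hT : IsUnit T.det) (f : MvPolynomial (Fin m) A)
    (hf : ∀ h : Fin m → k, MvPolynomial.aeval
      (fun s : Fin m => MvPolynomial.X s + MvPolynomial.C (∑ r : Fin m, algebraMap k A (h r) * T r s)) f = f) :
    ∃ a : A, f = MvPolynomial.C a := by
  classical
  open MvPolynomial in
  let f' : MvPolynomial (Fin m) A := aeval (fun s => ∑ r, X r * C (T r s)) f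
  have heval : ∀ h : Fin m → k, MvPolynomial.eval (fun r => algebraMap k A (h r)) f' = MvPolynomial.eval 0 f := by
    intro h
    conv_rhs => rw [← hf h]
    show MvPolynomial.aeval (fun r => algebraMap k A (h r)) (MvPolynomial.aeval _ f) = MvPolynomial.aeval (0 : Fin m → A) (MvPolynomial.aeval _ f)
    rw [MvPolynomial.comp_aeval_apply, MvPolynomial.comp_aeval_apply]
    congr 2
    funext s
    simp
  have hf' : f' = MvPolynomial.C (MvPolynomial.eval 0 f) := by
    refine MvPolynomial.funext_set (fun _ => Set.range (algebraMap k A)) (fun _ => Set.infinite_range_of_injective (algebraMap k A).injective) fun x hx => ?_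
    have hx' : ∀ i, x i ∈ Set.range (algebraMap k A) := fun i => hx i (Set.mem_univ i)
    choose h hh using hx'
    rw [MvPolynomial.eval_C, ← heval h]
    exact congrArg (fun y => MvPolynomial.eval y f') (funext fun i => (hh i).symm)
  refine ⟨MvPolynomial.eval 0 f, ?_⟩
  have h1 := congrArg (MvPolynomial.aeval (fun r => ∑ q, MvPolynomial.X q * MvPolynomial.C (T⁻¹ q r))) hf'
  rw [MvPolynomial.comp_aeval_apply, MvPolynomial.aeval_C, MvPolynomial.algebraMap_eq] at h1
  refine Eq.trans ?_ h1
  conv_lhs => rw [← MvPolynomial.aeval_X_left_apply f]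
  congr 2
  funext s
  simp only [map_sum, map_mul, MvPolynomial.aeval_X, MvPolynomial.aeval_C, MvPolynomial.algebraMap_eq, Finset.sum_mul]
  rw [Finset.sum_comm]
  simp only [mul_assoc, ← map_mul, ← Finset.mul_sum, ← map_sum]
  simp only [← Matrix.mul_apply, Matrix.nonsing_inv_mul T hT, Matrix.one_apply]
  simp

end Groth.Agent.S11233
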