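import Groth.Statements.S11234
import Groth.Agent.GModLib.Epi
import Mathlib

set_option autoImplicit false
universe u
open CategoryTheory MonoidalCategory CartesianMonoidalCategory MonObj GrpObj AlgebraicGeometry
open scoped TensorProduct
open AGF
set_option backward.isDefEq.respectTransparency false

namespace Groth.Agent.S11234

/-- Let k be an algebraically closed field, G a linear algebraic group over k (affine, smooth) and H a
smooth closed subgroup of G. The following are equivalent: (b) every global function on G invariant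
under right translation by H is a constant; (c) for every rational G-module E, the H-invariants of E
coincide with the G-invariants; (e) two homomorphisms from G to a linear algebraic group which agree
on H are equal. (The published list also contains the statement that H is epimorphic in the sense of
its hull under the stabilizer correspondence, and the statement that complementary H-stable
subspaces of a rational G-module are G-stable; this row states the other three.) -/
theorem result (k : Type u) [Field k] [IsAlgClosed k]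
    (G : Over (Spec (CommRingCat.of k))) [GrpObj G] [IsAffine G.left] [Smooth G.hom]
    (H : Over (Spec (CommRingCat.of k))) [GrpObj H] [Smooth H.hom] (i : H ⟶ G) [IsMonHom i]
    [IsClosedImmersion i.left] :
    List.TFAE [
      ∀ f : Γ(G.left, ⊤), ((G ◁ i) ≫ μ[G]).left.appTop f = (fst G H).left.appTop f →
        ∃ c : k, f = G.hom.appTop ((Scheme.ΓSpecIso (CommRingCat.of k)).inv c),
      ∀ (E : Type u) [AddCommGroup E] [Module k E] (ρ : VecGrp.GMod G E),
        ρ.fixedUnder i = ρ.fixedUnder (𝟙 G),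
      ∀ (G' : Over (Spec (CommRingCat.of k))) [GrpObj G'] [IsAffine G'.left] [Smooth G'.hom]
        (r s : G ⟶ G') [IsMonHom r] [IsMonHom s], i ≫ r = i ≫ s → r = s] := by
  obtain ⟨c⟩ := Groth.Agent.GModLib.exists_coords G H i
  have hlid : ∀ (E : Type u) [AddCommGroup E] [Module k E] (ρ : VecGrp.GMod G E) (φ : c.C →ₐ[k] k) (v : E),
      letI := Groth.Agent.GModLib.toComod c.e ρ
      ρ.ρ k (Groth.Agent.GModLib.pnt c.e φ) ((1 : k) ⊗ₜ[k] v) = (1 : k) ⊗ₜ[k] v ↔
        RedLR.ptAct E (WithConv.toConv φ) v = v := by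
    intro E _ _ ρ φ v
    letI := Groth.Agent.GModLib.toComod c.e ρ
    refine Iff.trans ?_ (Eq.congr_left (Groth.Agent.GModLib.ptAct_toComod c.e ρ φ v).symm)
    rw [← (TensorProduct.lid k E).injective.eq_iff, TensorProduct.lid_tmul, one_smul]
  have hG : ∀ (E : Type u) [AddCommGroup E] [Module k E] (ρ : VecGrp.GMod G E) (v : E),
      v ∈ ρ.fixedUnder (𝟙 G) ↔ ∀ φ : c.C →ₐ[k] k,
        ρ.ρ k (Groth.Agent.GModLib.pnt c.e φ) ((1 : k) ⊗ₜ[k] v) = (1 : k) ⊗ₜ[k] v := by
    intro E _ _ ρ v
    have h := Groth.Agent.GModLib.mem_fixedUnder_iff (i := 𝟙 G) c.e ρ v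
    simpa only [Category.comp_id] using h
  have hH : ∀ (E : Type u) [AddCommGroup E] [Module k E] (ρ : VecGrp.GMod G E) (v : E),
      letI := Groth.Agent.GModLib.toComod c.e ρ
      v ∈ ρ.fixedUnder i ↔ ∀ g ∈ Groth.Agent.GModLib.SG c.π, RedLR.ptAct E g v = v := by
    intro E _ _ ρ v
    rw [Groth.Agent.GModLib.mem_fixedUnder_iff c.e' ρ v]
    constructor
    · rintro h _ ⟨ψ, rfl⟩
      have h1 := h ψ.ofConv
      rw [c.comp, hlid] at h1
      exact h1
    · intro h ψ
      rw [c.comp, hlid]
      exact h _ ⟨WithConv.toConv ψ, rfl⟩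
  have hsub : ∀ (E : Type u) [AddCommGroup E] [Module k E] (ρ : VecGrp.GMod G E), ρ.fixedUnder (𝟙 G) ≤ ρ.fixedUnder i := by
    intro E _ _ ρ v hv B _ _ h
    have h1 := hv B (h ≫ i)
    rwa [Category.comp_id] at h1
  tfae_have 2 → 1 := by
    intro hc f hf
    have hmem := (c.rTransInv_iff_mem f).1 hf
    let ρ := Groth.Agent.GModLib.ofComod c.e c.C
    have hval : ∀ (φ : c.C →ₐ[k] k) (x : c.C),
        ρ.ρ k (Groth.Agent.GModLib.pnt c.e φ) ((1 : k) ⊗ₜ[k] x) = (1 : k) ⊗ₜ[k] x ↔
          Groth.Agent.GModLib.rt (WithConv.toConv φ) x = x := by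
      intro φ x
      rw [← (TensorProduct.lid k c.C).injective.eq_iff, TensorProduct.lid_tmul, one_smul,
        Groth.Agent.GModLib.lid_ofComod, RedLR.ptAct_eq_act, Groth.Agent.GModLib.act_eq_rt]
    have h1 : Groth.Agent.GModLib.fnC c.e f ∈ ρ.fixedUnder i := by
      rw [Groth.Agent.GModLib.mem_fixedUnder_iff c.e' ρ]
      intro ψ
      rw [c.comp, hval]
      exact hmem _ ⟨WithConv.toConv ψ, rfl⟩
    rw [hc c.C ρ] at h1
    refine ⟨(1 : WithConv (c.C →ₐ[k] k)).ofConv (Groth.Agent.GModLib.fnC c.e f),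
      (Groth.Agent.GModLib.fnC_bijective c.e).1 ?_⟩
    rw [Groth.Agent.GModLib.fnC_const]
    refine Groth.Agent.GModLib.ext_pt (k := k) fun g => ?_
    rw [AlgHom.commutes]
    have h2 := (hval g.ofConv _).1 ((hG c.C ρ _).1 h1 g.ofConv)
    have h3 := congrArg (1 : WithConv (c.C →ₐ[k] k)).ofConv h2
    rw [Groth.Agent.GModLib.apply_rt, _root_.one_mul] at h3
    exact h3
  tfae_have 1 → 3 := by
    intro hb G' _ _ _ r s _ _ hrs
    exact Groth.Agent.GModLib.eq_of_const hb r s hrs
  tfae_have 3 → 2 := by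
    intro he E _ _ ρ
    refine le_antisymm (fun v hv => (hG E ρ v).2 fun φ => (hlid E ρ φ v).2 ?_) (hsub E ρ)
    letI := Groth.Agent.GModLib.toComod c.e ρ
    exact c.fixed_of_hom_ext he ((hH E ρ v).1 hv) _
  tfae_finish

end Groth.Agent.S11234
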