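import Groth.Statements.S11235
import Mathlib.RingTheory.Polynomial.Basic
import Mathlib.FieldTheory.IsAlgClosed.Basic
import Mathlib.RingTheory.Ideal.Quotient.Operations
import Mathlib.Tactic.Ring

set_option autoImplicit false
universe u
open CAlg

namespace Groth.Agent.S11235

/-- Let k be an algebraically closed field, A a commutative k-algebra, α ∈ k, and M a maximal ideal of
the polynomial ring A[x] containing x - α. Let I ⊆ M be an ideal whose zero set in Spec A[x] is
invariant under the automorphisms x ↦ c·x, c ∈ k nonzero (equivalently: the image of I under each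
such A-algebra automorphism has the same radical as I). Then there is a maximal ideal of A[x]
containing I and x. -/
theorem result (k : Type u) [Field k] [IsAlgClosed k]
    (A : Type u) [CommRing A] [Algebra k A] (α : k)
    (M : Ideal (Polynomial A)) (hM : M.IsMaximal)
    (hα : Polynomial.X - Polynomial.C (algebraMap k A α) ∈ M)
    (I : Ideal (Polynomial A)) (hIM : I ≤ M)
    (hI : ∀ c : kˣ, (I.map (Polynomial.aeval (R := A)
      (algebraMap k A (c : k) • (Polynomial.X : Polynomial A)))).radical = I.radical) :
    ∃ N : Ideal (Polynomial A), N.IsMaximal ∧ I ≤ N ∧ Polynomial.X ∈ N := by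
  classical
  haveI := hM
  let m : Ideal A := M.comap Polynomial.C
  haveI hm : m.IsMaximal := by
    let e : A →+* Polynomial A ⧸ M := (Ideal.Quotient.mk M).comp Polynomial.C
    have he : Function.Surjective e := by
      intro z
      obtain ⟨g, rfl⟩ := Ideal.Quotient.mk_surjective z
      refine ⟨g.eval (algebraMap k A α), ?_⟩
      rw [RingHom.comp_apply, Ideal.Quotient.eq]
      obtain ⟨q, hq⟩ := Polynomial.X_sub_C_dvd_sub_C_eval (a := algebraMap k A α) (p := g)
      have := M.mul_mem_right q hα
      rw [← hq] at this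
      simpa using M.neg_mem this
    letI : Field (Polynomial A ⧸ M) := Ideal.Quotient.field M
    have : RingHom.ker e = m := by
      rw [← RingHom.comap_ker, Ideal.mk_ker]
    exact this ▸ RingHom.ker_isMaximal_of_surjective e he
  let N : Ideal (Polynomial A) := m.comap Polynomial.constantCoeff
  have hXN : Polynomial.X ∈ N := by simp [N]
  refine ⟨N, Ideal.comap_isMaximal_of_surjective _ (fun a => ⟨Polynomial.C a, by simp⟩), ?_, hXN⟩
  by_cases hα0 : α = 0
  · subst hα0
    intro g hg
    have hX : Polynomial.X ∈ M := by simpa using hα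
    show g.coeff 0 ∈ m
    show Polynomial.C (g.coeff 0) ∈ M
    have := M.sub_mem (hIM hg) (M.mul_mem_right (g.divX) hX)
    rwa [show g - Polynomial.X * g.divX = Polynomial.C (g.coeff 0) by
      nth_rewrite 1 [← Polynomial.X_mul_divX_add g]
      ring] at this
  intro g hg
  letI : Field (A ⧸ m) := Ideal.Quotient.field m
  let ρ : k →+* A ⧸ m := (Ideal.Quotient.mk m).comp (algebraMap k A)
  have hkey : ∀ c : kˣ, (g.map (Ideal.Quotient.mk m)).eval (ρ ((c : k) * α)) = 0 := by
    intro c
    let φ : Polynomial A →ₐ[A] Polynomial A := Polynomial.aeval (R := A) (algebraMap k A (c : k) • (Polynomial.X : Polynomial A))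
    have h1 : φ g ∈ (I.map φ).radical := Ideal.le_radical (Ideal.mem_map_of_mem _ hg)
    rw [hI c] at h1
    have h2 : φ g ∈ M := hM.isPrime.radical ▸ Ideal.radical_mono hIM h1
    have hev : ∀ f ∈ M, (f.map (Ideal.Quotient.mk m)).eval (ρ α) = 0 := by
      intro f hf
      obtain ⟨q, hq⟩ := Polynomial.X_sub_C_dvd_sub_C_eval (a := algebraMap k A α) (p := f)
      have h3 := M.sub_mem hf (M.mul_mem_right q hα)
      rw [← hq, sub_sub_cancel] at h3
      show (f.map (Ideal.Quotient.mk m)).eval (Ideal.Quotient.mk m (algebraMap k A α)) = 0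
      rw [Polynomial.eval_map, Polynomial.eval₂_at_apply, Ideal.Quotient.eq_zero_iff_mem]
      exact h3
    have h4 := hev _ h2
    rw [show φ g = g.comp (Polynomial.C (algebraMap k A (c : k)) * Polynomial.X) by
      rw [← Polynomial.smul_eq_C_mul]; rfl] at h4
    rw [Polynomial.map_comp, Polynomial.eval_comp] at h4
    simpa [ρ, map_mul] using h4
  have h0 : g.map (Ideal.Quotient.mk m) = 0 := by
    haveI : Infinite k := inferInstance
    refine Polynomial.eq_zero_of_infinite_isRoot _ ?_
    refine Set.Infinite.mono ?_ ((Set.finite_singleton (0 : k)).infinite_compl.image (f := fun c : k => ρ (c * α)) ?_)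
    · rintro _ ⟨c, hc, rfl⟩
      exact hkey (Units.mk0 c hc)
    · intro a _ b _ hab
      exact mul_right_cancel₀ hα0 (ρ.injective hab)
  show g.coeff 0 ∈ m
  rw [← Ideal.Quotient.eq_zero_iff_mem, ← Polynomial.coeff_map, h0, Polynomial.coeff_zero]

end Groth.Agent.S11235
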