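import Mathlib
import Groth.Statements.S11238


set_option autoImplicit false
universe u
open AGF

namespace Groth.Agent.S11238

open Polynomial in
theorem isAlgebraic_polynomial {k K : Type u} [Field k] [Field K] [Algebra k K] (x : K)
    (hx : Transcendental k x) (halg : Algebra.IsAlgebraic ↥(IntermediateField.adjoin k {x}) K) (s : K) :
    ∃ r : k[X], r ≠ 0 ∧ (s ≠ 0 → ∃ c : K, c ∈ Algebra.adjoin k ({x, s} : Set K) ∧ aeval x r = s * c) := by
  classical
  letI : Algebra k[X] ↥(IntermediateField.adjoin k {x}) :=
    (aeval (R := k) (IntermediateField.AdjoinSimple.gen k x)).toRingHom.toAlgebra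
  letI : Algebra k[X] K := (aeval (R := k) x).toRingHom.toAlgebra
  haveI : IsScalarTower k[X] ↥(IntermediateField.adjoin k {x}) K := by
    refine IsScalarTower.of_algebraMap_eq fun p => ?_
    show aeval x p = ((aeval (IntermediateField.AdjoinSimple.gen k x) p : ↥(IntermediateField.adjoin k {x})) : K)
    rw [IntermediateField.AdjoinSimple.coe_aeval_gen_apply]
  haveI : Algebra.IsAlgebraic k[X] ↥(IntermediateField.adjoin k {x}) := by
    refine ⟨fun z => ?_⟩
    obtain ⟨r, q, hz⟩ := (IntermediateField.mem_adjoin_simple_iff k (α := x) (z : K)).1 z.2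
    by_cases hq : q = 0
    · have : z = 0 := Subtype.ext (by simp [hz, hq])
      rw [this]
      exact isAlgebraic_zero
    refine ⟨C q * X - C r, ?_, ?_⟩
    · intro h
      have := congrArg (fun P => P.coeff 1) h
      simp [hq] at this
    · refine Subtype.ext ?_
      have hq' : aeval x q ≠ 0 := (transcendental_iff_injective.1 hx).ne_iff' (map_zero _) |>.2 hq
      rw [map_sub, map_mul, aeval_C, aeval_C, aeval_X]
      show ((aeval (IntermediateField.AdjoinSimple.gen k x) q : ↥(IntermediateField.adjoin k {x})) : K) * z -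
        ((aeval (IntermediateField.AdjoinSimple.gen k x) r : ↥(IntermediateField.adjoin k {x})) : K) = 0
      rw [IntermediateField.AdjoinSimple.coe_aeval_gen_apply, IntermediateField.AdjoinSimple.coe_aeval_gen_apply, hz,
        mul_div_cancel₀ _ hq', sub_self]
  haveI : Algebra.IsAlgebraic k[X] K := Algebra.IsAlgebraic.trans k[X] ↥(IntermediateField.adjoin k {x}) K
  by_cases hs : s = 0
  · exact ⟨1, one_ne_zero, fun h => absurd hs h⟩
  let S : Subalgebra k K := Algebra.adjoin k ({x, s} : Set K)
  let x' : S := ⟨x, Algebra.subset_adjoin (Set.mem_insert _ _)⟩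
  let s' : S := ⟨s, Algebra.subset_adjoin (Set.mem_insert_of_mem _ rfl)⟩
  letI : Algebra k[X] S := (aeval (R := k) x').toRingHom.toAlgebra
  haveI : IsScalarTower k[X] S K := by
    refine IsScalarTower.of_algebraMap_eq fun p => ?_
    show aeval x p = S.val (aeval x' p)
    rw [← Polynomial.aeval_algHom_apply]
    rfl
  have h1 : IsAlgebraic k[X] s' := (isAlgebraic_algHom_iff (IsScalarTower.toAlgHom k[X] S K)
    (fun a b h => Subtype.ext h)).1 (Algebra.IsAlgebraic.isAlgebraic s)
  obtain ⟨r, hr, c, hc⟩ := h1.exists_nonzero_dvd (mem_nonZeroDivisors_of_ne_zero fun h => hs (congrArg Subtype.val h))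
  refine ⟨r, hr, fun _ => ⟨c, c.2, ?_⟩⟩
  have := congrArg S.val hc
  rw [map_mul] at this
  refine Eq.trans ?_ this
  show aeval x r = S.val (aeval x' r)
  rw [← Polynomial.aeval_algHom_apply]
  rfl

open Polynomial in
theorem exists_embedding {k K : Type u} [Field k] [Infinite k] [Field K] [Algebra k K]
    (hfg : (⊤ : IntermediateField k K).FG) (x : K) (hx : Transcendental k x)
    (halg : Algebra.IsAlgebraic ↥(IntermediateField.adjoin k {x}) K) (n : ℕ)
    (φ : K →ₐ[k] FractionRing (MvPolynomial (Fin n) k)) :
    ∃ ψ : K →ₐ[k] RatFunc k, Transcendental k (ψ x) := by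
  classical
  obtain ⟨T₀, hT₀⟩ := hfg
  let T : Finset K := insert x T₀
  have hT : IntermediateField.adjoin k (T : Set K) = ⊤ :=
    top_le_iff.1 (hT₀ ▸ IntermediateField.adjoin.mono k _ _ (Finset.coe_subset.2 (Finset.subset_insert _ _)))
  let P := MvPolynomial (Fin n) k
  let F := FractionRing P
  have hfrac : ∀ z : F, ∃ a b : P, b ≠ 0 ∧ z = algebraMap P F a / algebraMap P F b := fun z => by
    obtain ⟨a, b, hb, rfl⟩ := IsFractionRing.div_surjective (A := P) z
    exact ⟨a, b, nonZeroDivisors.ne_zero hb, rfl⟩
  choose num den hden hnd using hfrac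
  let G : P := ∏ t ∈ T, den (φ t)
  have hG : G ≠ 0 := Finset.prod_ne_zero_iff.2 fun t _ => hden _
  obtain ⟨p, hp⟩ : ∃ p : Fin n → k, MvPolynomial.eval p G ≠ 0 := by
    by_contra h
    push Not at h
    exact hG (MvPolynomial.funext fun p => by rw [h p, map_zero])
  set f := num (φ x)
  set g := den (φ x)
  have hgG : g ∣ G := Finset.dvd_prod_of_mem _ (Finset.mem_insert_self _ _)
  have hgp : MvPolynomial.eval p g ≠ 0 := fun h => hp <| by
    obtain ⟨q, hq⟩ := hgG
    rw [hq, map_mul, h, zero_mul]
  let c : k := MvPolynomial.eval p f / MvPolynomial.eval p g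
  have hne : f - MvPolynomial.C c * g ≠ 0 := by
    intro h
    have h1 : φ x = φ (algebraMap k K c) := by
      rw [AlgHom.commutes, hnd (φ x), div_eq_iff ((map_ne_zero_iff _ (IsFractionRing.injective P F)).2 (hden _)),
        IsScalarTower.algebraMap_apply k P F, ← map_mul, MvPolynomial.algebraMap_eq]
      exact congrArg _ (sub_eq_zero.1 h)
    exact hx (φ.toRingHom.injective h1 ▸ isAlgebraic_algebraMap c)
  obtain ⟨q, hq⟩ : ∃ q : Fin n → k, MvPolynomial.eval q (G * (f - MvPolynomial.C c * g)) ≠ 0 := by
    by_contra h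
    push Not at h
    exact mul_ne_zero hG hne (MvPolynomial.funext fun p => by rw [h p, map_zero])
  rw [map_mul, mul_ne_zero_iff] at hq
  let ln : P →ₐ[k] k[X] := MvPolynomial.aeval fun j => C (p j) + C (q j - p j) * X
  have hln : ∀ (a : k) (P' : P), (ln P').eval a =
      MvPolynomial.eval (fun j => p j + (q j - p j) * a) P' := fun a P' => by
    have : (Polynomial.aeval a).comp ln = MvPolynomial.aeval fun j => p j + (q j - p j) * a := by
      refine MvPolynomial.algHom_ext fun j => ?_
      simp [ln]
    have h2 := congrArg (fun F : P →ₐ[k] k => F P') this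
    simp only [AlgHom.comp_apply, Polynomial.coe_aeval_eq_eval] at h2
    exact h2.trans (by rw [MvPolynomial.aeval_eq_eval])
  have hlG : ln G ≠ 0 := fun h => hp <| by
    have := hln 0 G
    rw [h, eval_zero] at this
    simpa using this.symm
  let up : P →ₐ[k] RatFunc k := (IsScalarTower.toAlgHom k k[X] (RatFunc k)).comp ln
  have hinjR : Function.Injective (algebraMap k[X] (RatFunc k)) := IsFractionRing.injective _ _
  have hupG : up G ≠ 0 := (map_ne_zero_iff _ hinjR).2 hlG
  let L := Localization.Away G
  let jF : L →ₐ[k] F := IsLocalization.liftAlgHom (M := Submonoid.powers G)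
    (f := IsScalarTower.toAlgHom k P F) (fun y => by
      obtain ⟨m, hm⟩ := y.2
      refine IsUnit.mk0 _ ((map_ne_zero_iff _ (IsFractionRing.injective P F)).2 ?_)
      rw [← hm]; exact pow_ne_zero m hG)
  let jR : L →ₐ[k] RatFunc k := IsLocalization.liftAlgHom (M := Submonoid.powers G) (f := up) (fun y => by
    obtain ⟨m, hm⟩ := y.2
    refine IsUnit.mk0 _ ?_
    rw [← hm, map_pow]; exact pow_ne_zero m hupG)
  have hjF : Function.Injective jF := by
    rw [injective_iff_map_eq_zero]
    intro z hz
    obtain ⟨⟨a, s⟩, hs⟩ := IsLocalization.surj (Submonoid.powers G) z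
    have h2 := congrArg jF hs
    rw [map_mul, hz, zero_mul] at h2
    have h3 : algebraMap P F a = 0 := by
      have := h2.symm
      simp only [jF, IsLocalization.coe_liftAlgHom, IsLocalization.lift_eq] at this
      exact this
    rw [map_eq_zero_iff _ (IsFractionRing.injective P F)] at h3
    subst h3
    rw [map_zero] at hs
    exact (IsUnit.mul_left_eq_zero (IsLocalization.map_units L s)).1 hs
  have hrange : ∀ t ∈ T, φ t ∈ jF.range := by
    intro t ht
    obtain ⟨e, he⟩ : den (φ t) ∣ G := Finset.dvd_prod_of_mem _ ht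
    refine ⟨IsLocalization.mk' L (num (φ t) * e) ⟨G, Submonoid.mem_powers G⟩, ?_⟩
    have hGne : algebraMap P F G ≠ 0 := (map_ne_zero_iff _ (IsFractionRing.injective P F)).2 hG
    show IsLocalization.lift _ _ = _
    rw [IsLocalization.lift_mk'_spec]
    show algebraMap P F (num (φ t) * e) = algebraMap P F G * φ t
    conv_rhs => rw [hnd (φ t)]
    rw [← mul_div_assoc, eq_div_iff ((map_ne_zero_iff _ (IsFractionRing.injective P F)).2 (hden _)),
      ← map_mul, ← map_mul, show (G : P) = den (φ t) * e from he]
    exact congrArg _ (by ring)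
  let S : Subalgebra k K := Algebra.adjoin k (T : Set K)
  have hS : ∀ z : S, φ (z : K) ∈ jF.range := fun z => by
    have : S ≤ jF.range.comap φ := Algebra.adjoin_le fun t ht => hrange t (Finset.mem_coe.1 ht)
    exact this z.2
  let θ : S →ₐ[k] RatFunc k := jR.comp ((AlgEquiv.ofInjective jF hjF).symm.toAlgHom.comp
    ((φ.comp S.val).codRestrict jF.range hS))
  have hxS : x ∈ S := Algebra.subset_adjoin (Finset.mem_coe.2 (Finset.mem_insert_self _ _))
  have hθx : θ ⟨x, hxS⟩ = algebraMap k[X] (RatFunc k) (ln f) / algebraMap k[X] (RatFunc k) (ln g) := by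
    have hupg : up g ≠ 0 := (map_ne_zero_iff _ hinjR).2 (fun h => hgp <| by
      have := hln 0 g
      rw [show ln g = 0 from h, eval_zero] at this
      simpa using this.symm)
    show θ ⟨x, hxS⟩ = up f / up g
    obtain ⟨l, hl⟩ := hS ⟨x, hxS⟩
    have h1 : θ ⟨x, hxS⟩ = jR l := by
      show jR _ = jR l
      congr 1
      apply hjF
      show jF _ = jF l
      rw [show jF l = φ x from hl]
      have h := congrArg Subtype.val ((AlgEquiv.ofInjective jF hjF).apply_symm_apply
        ((φ.comp S.val).codRestrict jF.range hS ⟨x, hxS⟩))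
      rw [AlgEquiv.ofInjective_apply] at h
      exact h
    rw [h1, eq_div_iff hupg]
    have h2 : l * algebraMap P L g = algebraMap P L f := by
      apply hjF
      rw [map_mul, show jF l = φ x from hl]
      simp only [jF, IsLocalization.coe_liftAlgHom, IsLocalization.lift_eq]
      show φ x * algebraMap P F g = algebraMap P F f
      rw [hnd (φ x), div_mul_cancel₀ _ ((map_ne_zero_iff _ (IsFractionRing.injective P F)).2 (hden _))]
    have h3 := congrArg jR h2
    rw [map_mul] at h3
    simp only [jR, IsLocalization.coe_liftAlgHom, IsLocalization.lift_eq] at h3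
    exact h3
  have hgne : algebraMap k[X] (RatFunc k) (ln g) ≠ 0 := (map_ne_zero_iff _ hinjR).2 fun h => hgp <| by
    have := hln 0 g
    rw [show ln g = 0 from h, eval_zero] at this
    simpa using this.symm
  have htr : Transcendental k (θ ⟨x, hxS⟩) := by
    refine RatFunc.transcendental_of_ne_C _ ?_
    rintro ⟨d, hd⟩
    rw [hθx, div_eq_iff hgne, ← RatFunc.algebraMap_C, ← map_mul, hinjR.eq_iff] at hd
    have e0 := congrArg (Polynomial.eval 0) hd
    have e1 := congrArg (Polynomial.eval 1) hd
    rw [eval_mul, eval_C, hln, hln] at e0 e1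
    simp only [mul_zero, add_zero, mul_one, add_sub_cancel] at e0 e1
    apply hq.2
    rw [map_sub, map_mul, MvPolynomial.eval_C, e1, show c = d by
      simp only [c]; rw [e0, mul_div_assoc, div_self hgp, mul_one], sub_self]
  have hθinj : Function.Injective θ := by
    rw [injective_iff_map_eq_zero]
    intro s hs
    by_contra hs0
    obtain ⟨r, hr, hr'⟩ := isAlgebraic_polynomial x hx halg (s : K)
    obtain ⟨c', hc', hc''⟩ := hr' fun h => hs0 (Subtype.ext h)
    have hle : Algebra.adjoin k ({x, (s : K)} : Set K) ≤ S :=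
      Algebra.adjoin_le (Set.insert_subset_iff.2 ⟨hxS, Set.singleton_subset_iff.2 s.2⟩)
    have hc3 : aeval (⟨x, hxS⟩ : S) r = s * ⟨c', hle hc'⟩ := by
      refine Subtype.ext ?_
      show S.val (aeval (⟨x, hxS⟩ : S) r) = (s : K) * c'
      rw [← Polynomial.aeval_algHom_apply]
      exact hc''
    have := congrArg θ hc3
    rw [map_mul, hs, zero_mul, ← Polynomial.aeval_algHom_apply] at this
    exact htr ⟨r, hr, this⟩
  haveI : IsFractionRing S K := by
    refine IsFractionRing.of_field S K fun z => ?_
    obtain ⟨a, ha, b, hb, rfl⟩ := IntermediateField.mem_adjoin_iff_div.1 (hT ▸ (IntermediateField.mem_top : z ∈ (⊤ : IntermediateField k K)))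
    exact ⟨⟨a, ha⟩, ⟨b, hb⟩, rfl⟩
  refine ⟨IsFractionRing.liftAlgHom (A := S) (K := K) (g := θ) hθinj, ?_⟩
  have : IsFractionRing.liftAlgHom (A := S) (K := K) (g := θ) hθinj x = θ ⟨x, hxS⟩ :=
    IsFractionRing.lift_algebraMap hθinj ⟨x, hxS⟩
  rw [this]
  exact htr

/-- Over an algebraically closed field k, a unirational variety of dimension one is rational. Field
form: let K be a finitely generated field extension of k of transcendence degree one (K is algebraic
over k(x) for some x ∈ K transcendental over k) admitting a k-embedding into a purely transcendental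
extension k(t_1, ..., t_n). Then K = k(t) for some t ∈ K transcendental over k. -/
theorem result (k : Type u) [Field k] [IsAlgClosed k]
    (K : Type u) [Field K] [Algebra k K] (hfg : (⊤ : IntermediateField k K).FG)
    (x : K) (hx : Transcendental k x) (halg : Algebra.IsAlgebraic ↥(IntermediateField.adjoin k {x}) K)
    (n : ℕ) (φ : K →ₐ[k] FractionRing (MvPolynomial (Fin n) k)) :
    ∃ t : K, Transcendental k t ∧ IntermediateField.adjoin k {t} = ⊤ := by
  haveI : Infinite k := IsAlgClosed.instInfinite
  obtain ⟨ψ, hψ⟩ := exists_embedding hfg x hx halg n φ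
  have hmem : RatFunc.Luroth.generator ψ.fieldRange ∈ ψ.fieldRange :=
    le_of_eq (RatFunc.Luroth.eq_adjoin_generator (E := ψ.fieldRange)).symm
      (IntermediateField.mem_adjoin_simple_self k _)
  obtain ⟨t, ht⟩ := hmem
  have htop : IntermediateField.adjoin k {t} = ⊤ := by
    apply IntermediateField.map_injective ψ
    rw [IntermediateField.adjoin_map, Set.image_singleton, show ψ t = _ from ht,
      ← AlgHom.fieldRange_eq_map]
    exact (RatFunc.Luroth.eq_adjoin_generator (E := ψ.fieldRange)).symm
  refine ⟨t, fun halg' => ?_, htop⟩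
  haveI := IntermediateField.isAlgebraic_adjoin_simple halg'.isIntegral
  have hxm : x ∈ IntermediateField.adjoin k {t} := htop ▸ IntermediateField.mem_top
  have h2 : IsAlgebraic k (⟨x, hxm⟩ : IntermediateField.adjoin k {t}) := Algebra.IsAlgebraic.isAlgebraic _
  exact hx (h2.algHom (IntermediateField.adjoin k {t}).val)

end Groth.Agent.S11238
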