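import Groth.Statements.S11239
import Mathlib

set_option linter.style.haveILetI false

set_option autoImplicit false
universe u
open AGF

namespace Groth.Agent.S11239

/-- Let X be an m × n matrix over a commutative ring, u an upper triangular n × n matrix with ones on
the diagonal, t a diagonal n × n matrix and p ≤ n. For any choice of p rows, the minor of X·t·u
formed with these rows and the first p columns equals (t_11 ⋯ t_pp) times the corresponding minor of
X: the minors on the first p columns are semi-invariant of weight ω_p under right multiplication by
the upper triangular group. (The published statement is for the generic matrix over an algebraically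
closed field; this row states the identity over any commutative ring.) -/
theorem result (R : Type u) [CommRing R] (m n p : ℕ) (hp : p ≤ n)
    (X : Matrix (Fin m) (Fin n) R) (d : Fin n → R) (u : Matrix (Fin n) (Fin n) R)
    (hu1 : ∀ i, u i i = 1) (hu0 : ∀ i j, j < i → u i j = 0) (I : Fin p → Fin m) :
    ((X * Matrix.diagonal d * u).submatrix I (Fin.castLE hp)).det =
      (∏ i : Fin p, d (Fin.castLE hp i)) * (X.submatrix I (Fin.castLE hp)).det := by
  set c := Fin.castLE hp
  have h : (X * Matrix.diagonal d * u).submatrix I c =
      X.submatrix I c * Matrix.diagonal (fun i => d (c i)) * u.submatrix c c := by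
    ext i j
    simp only [Matrix.submatrix_apply, Matrix.mul_apply (M := X * Matrix.diagonal d),
      Matrix.mul_apply (M := X.submatrix I c * Matrix.diagonal fun i => d (c i)), Matrix.mul_diagonal]
    refine (Finset.sum_of_injOn c (Fin.castLE_injective hp).injOn (fun _ _ => Finset.mem_univ _)
      (fun k _ hk => ?_) (fun k _ => rfl)).symm
    rw [hu0 k (c j) ?_, mul_zero]
    by_contra hle
    push Not at hle
    refine hk ⟨⟨k.val, ?_⟩, Finset.mem_univ _, rfl⟩
    have : (k : ℕ) ≤ (c j).val := hle
    have := j.isLt
    simp only [c, Fin.val_castLE] at *
    omega
  rw [h, Matrix.det_mul, Matrix.det_mul, Matrix.det_diagonal,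
    Matrix.det_of_upperTriangular (M := u.submatrix c c) (fun i j hij => hu0 _ _ hij)]
  simp only [Matrix.submatrix_apply, hu1, Finset.prod_const_one, mul_one]
  rw [mul_comm]

end Groth.Agent.S11239
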