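import Groth.Statements.S11240
import Mathlib

set_option linter.style.haveILetI false

set_option autoImplicit false
universe u
open AGF

namespace Groth.Agent.S11240

/-- For a single root subgroup: let k be an algebraically closed field and X = (x_ab) the generic n × m
matrix over the polynomial ring k[x_ab]. Let i ≠ j be row indices and let I (rows) and J (columns)
be strictly increasing sequences of length p. The minor of X with rows I and columns J is invariant
under replacing X by (1 + b·E_ij)·X for every b ∈ k (the one-parameter unipotent group adding b
times row j to row i) if and only if j occurs in I whenever i does. (The published statement gives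
the criterion for the group generated by several such root subgroups, which is the conjunction of
these.) -/
theorem result (k : Type u) [Field k] [IsAlgClosed k] (n m p : ℕ)
    (i j : Fin n) (hij : i ≠ j) (I : Fin p ↪o Fin n) (J : Fin p ↪o Fin m) :
    (∀ b : k, ((Matrix.transvection i j (MvPolynomial.C b) *
        (Matrix.of fun a c => (MvPolynomial.X (a, c) : MvPolynomial (Fin n × Fin m) k))).submatrix I J).det =
        ((Matrix.of fun a c => (MvPolynomial.X (a, c) : MvPolynomial (Fin n × Fin m) k)).submatrix I J).det) ↔
      (i ∈ Set.range I → j ∈ Set.range I) := by
  classical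
  set X : Matrix (Fin n) (Fin m) (MvPolynomial (Fin n × Fin m) k) :=
    Matrix.of fun a c => MvPolynomial.X (a, c) with hX
  constructor
  · intro h hi
    by_contra hj
    obtain ⟨r, hr⟩ := hi
    have h1 := h 1
    have e : (Matrix.transvection i j (MvPolynomial.C (1 : k) : MvPolynomial (Fin n × Fin m) k) * X).submatrix I J =
        (X.submatrix I J).updateRow r
          ((X.submatrix I J) r + (MvPolynomial.C 1 : MvPolynomial (Fin n × Fin m) k) • fun c => X j (J c)) := by
      refine Matrix.ext fun a c => ?_
      by_cases ha : a = r
      · subst ha; simp [hr]
      · have : I a ≠ i := fun e => ha (I.injective (e.trans hr.symm))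
        simp [ha, this]
    replace h1 := (congrArg Matrix.det e).symm.trans h1
    rw [Matrix.det_updateRow_add, Matrix.updateRow_eq_self, Matrix.det_updateRow_smul,
      map_one, one_mul, add_eq_left] at h1
    let I' : Fin p → Fin n := Function.update I r j
    have hI' : Function.Injective I' := by
      intro a b hab
      by_cases ha : a = r
      · by_cases hb : b = r
        · rw [ha, hb]
        · simp [I', ha, hb] at hab
          exact absurd ⟨b, hab.symm⟩ hj
      · by_cases hb : b = r
        · simp [I', ha, hb] at hab
          exact absurd ⟨a, hab⟩ hj
        · simp [I', ha, hb] at hab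
          exact hab
    have e' : (X.submatrix I J).updateRow r (fun c => X j (J c)) = X.submatrix I' J := by
      refine Matrix.ext fun a c => ?_
      by_cases ha : a = r
      · subst ha; simp [I']
      · simp [I', ha]
    rw [e'] at h1
    let v : Fin n × Fin m → k := fun q => if ∃ t, q.1 = I' t ∧ q.2 = J t then 1 else 0
    have h2 := congrArg (MvPolynomial.eval v) h1
    rw [RingHom.map_det, map_zero] at h2
    have e'' : (MvPolynomial.eval v).mapMatrix (X.submatrix I' J) = 1 := by
      refine Matrix.ext fun a c => ?_
      rw [RingHom.mapMatrix_apply, Matrix.map_apply, Matrix.submatrix_apply, hX, Matrix.of_apply,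
        MvPolynomial.eval_X]
      show (if ∃ t, I' a = I' t ∧ J c = J t then (1 : k) else 0) = _
      by_cases hac : a = c
      · subst hac
        rw [if_pos ⟨a, rfl, rfl⟩, Matrix.one_apply_eq]
      · rw [if_neg, Matrix.one_apply_ne hac]
        rintro ⟨t, h1, h2⟩
        exact hac ((hI' h1).trans (J.injective h2).symm)
    rw [e'', Matrix.det_one] at h2
    exact one_ne_zero h2
  · intro h b
    by_cases hi : i ∈ Set.range I
    · obtain ⟨r, hr⟩ := hi
      obtain ⟨s, hs⟩ := h ⟨r, hr⟩
      have hrs : r ≠ s := fun e => hij (by rw [← hr, ← hs, e])
      have e : (Matrix.transvection i j (MvPolynomial.C b : MvPolynomial (Fin n × Fin m) k) * X).submatrix I J =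
          (X.submatrix I J).updateRow r
            ((X.submatrix I J) r + (MvPolynomial.C b : MvPolynomial (Fin n × Fin m) k) • (X.submatrix I J) s) := by
        refine Matrix.ext fun a c => ?_
        by_cases ha : a = r
        · subst ha; simp [hr, hs]
        · have : I a ≠ i := fun e => ha (I.injective (e.trans hr.symm))
          simp [ha, this]
      exact (congrArg Matrix.det e).trans (Matrix.det_updateRow_add_smul_self _ hrs _)
    · congr 1
      refine Matrix.ext fun a c => ?_
      exact Matrix.transvection_mul_apply_of_ne i j _ _ (fun e => hi ⟨a, e⟩) _ X


end Groth.Agent.S11240
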