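import Groth.Statements.S11241
import Groth.Agent.GModLib.Alg
import Mathlib

set_option autoImplicit false
universe u
open CategoryTheory MonoidalCategory CartesianMonoidalCategory MonObj GrpObj AlgebraicGeometry
open scoped TensorProduct
open AGF

namespace Groth.Agent.S11241

/-- Let k be an algebraically closed field and H a connected unipotent linear algebraic group over k
(affine, smooth, connected, with no nontrivial subtorus), acting rationally by algebra automorphisms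
on a commutative k-algebra A which is an integral domain. An H-invariant element of the fraction
field of A is a quotient of two H-invariant elements of A: if a₀, b₀ ∈ A with b₀ ≠ 0 satisfy
(h·a₀)·b₀ = a₀·(h·b₀) for every point h of H (invariance of a₀/b₀), then there are a, b ∈ A^H with b
≠ 0 and a·b₀ = b·a₀. (The published statement allows any unipotent H; this row takes H connected.) -/
theorem result (k : Type u) [Field k] [IsAlgClosed k]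
    (H : Over (Spec (CommRingCat.of k))) [GrpObj H] [IsAffine H.left] [Smooth H.hom] [ConnectedSpace H.left]
    (hH : Red.HasNoSubtorus k H)
    (A : Type u) [CommRing A] [IsDomain A] [Algebra k A] (ρ : VecGrp.GMod H A) (hρ : ρ.IsMult)
    (a₀ b₀ : A) (hb₀ : b₀ ≠ 0)
    (hinv : ∀ (B : Type u) [CommRing B] [Algebra k B] (h : VecGrp.pt k B ⟶ H),
      ρ.ρ B h ((1 : B) ⊗ₜ[k] a₀) * ((1 : B) ⊗ₜ[k] b₀) = ((1 : B) ⊗ₜ[k] a₀) * ρ.ρ B h ((1 : B) ⊗ₜ[k] b₀)) :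
    ∃ a b : A, a ∈ ρ.fixedUnder (𝟙 H) ∧ b ∈ ρ.fixedUnder (𝟙 H) ∧ b ≠ 0 ∧ a * b₀ = b * a₀ := by
  have hreg : ∀ (B : Type u) [CommRing B] [Algebra k B] (y z : B ⊗[k] A),
      ((1 : B) ⊗ₜ[k] b₀) * y = ((1 : B) ⊗ₜ[k] b₀) * z → y = z := by
    intro B _ _ y z hyz
    have hinjb : Function.Injective ((LinearMap.mulLeft k b₀).lTensor B) :=
      Module.Flat.lTensor_preserves_injective_linearMap _ (fun x y hxy => mul_left_cancel₀ hb₀ hxy)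
    have key : ∀ w : B ⊗[k] A, (LinearMap.mulLeft k b₀).lTensor B w = ((1 : B) ⊗ₜ[k] b₀) * w := by
      intro w
      induction w with
      | zero => simp
      | tmul c x => simp [Algebra.TensorProduct.tmul_mul_tmul]
      | add x y hx hy => rw [map_add, hx, hy, mul_add]
    exact hinjb ((key y).trans (hyz.trans (key z).symm))
  have hid : ∀ (B : Type u) [CommRing B] [Algebra k B] (h : VecGrp.pt k B ⟶ H) (x y : A), x * a₀ = b₀ * y →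
      ρ.ρ B h ((1 : B) ⊗ₜ[k] x) * ((1 : B) ⊗ₜ[k] a₀) = ((1 : B) ⊗ₜ[k] b₀) * ρ.ρ B h ((1 : B) ⊗ₜ[k] y) := by
    intro B _ _ h x y hxy
    have e1 : ρ.ρ B h ((1 : B) ⊗ₜ[k] x) * ρ.ρ B h ((1 : B) ⊗ₜ[k] a₀) =
        ρ.ρ B h ((1 : B) ⊗ₜ[k] b₀) * ρ.ρ B h ((1 : B) ⊗ₜ[k] y) := by
      rw [← (hρ B h).1, ← (hρ B h).1, Algebra.TensorProduct.tmul_mul_tmul, Algebra.TensorProduct.tmul_mul_tmul, hxy]
    have e2 : ρ.ρ B h ((1 : B) ⊗ₜ[k] b₀) * (ρ.ρ B h ((1 : B) ⊗ₜ[k] x) * ((1 : B) ⊗ₜ[k] a₀)) =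
        ρ.ρ B h ((1 : B) ⊗ₜ[k] b₀) * (((1 : B) ⊗ₜ[k] b₀) * ρ.ρ B h ((1 : B) ⊗ₜ[k] y)) := by
      calc ρ.ρ B h ((1 : B) ⊗ₜ[k] b₀) * (ρ.ρ B h ((1 : B) ⊗ₜ[k] x) * ((1 : B) ⊗ₜ[k] a₀))
          = ρ.ρ B h ((1 : B) ⊗ₜ[k] x) * (((1 : B) ⊗ₜ[k] a₀) * ρ.ρ B h ((1 : B) ⊗ₜ[k] b₀)) := by ring
        _ = ρ.ρ B h ((1 : B) ⊗ₜ[k] x) * (ρ.ρ B h ((1 : B) ⊗ₜ[k] a₀) * ((1 : B) ⊗ₜ[k] b₀)) := by rw [hinv]
        _ = (ρ.ρ B h ((1 : B) ⊗ₜ[k] x) * ρ.ρ B h ((1 : B) ⊗ₜ[k] a₀)) * ((1 : B) ⊗ₜ[k] b₀) := by ring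
        _ = _ := by rw [e1]; ring
    generalize ρ.ρ B h ((1 : B) ⊗ₜ[k] x) * ((1 : B) ⊗ₜ[k] a₀) = L at e2 ⊢
    generalize ((1 : B) ⊗ₜ[k] b₀) * ρ.ρ B h ((1 : B) ⊗ₜ[k] y) = R at e2 ⊢
    obtain ⟨l, rfl⟩ := (ρ.ρ B h).surjective L
    obtain ⟨r, rfl⟩ := (ρ.ρ B h).surjective R
    rw [← (hρ B h).1, ← (hρ B h).1] at e2
    rw [hreg B l r ((ρ.ρ B h).injective e2)]
  haveI : IsMonHom (𝟙 H) := inferInstance
  obtain ⟨w, hw, hw0, hwfix⟩ := Groth.Agent.GModLib.exists_fixed_mem hH ρ (𝟙 H)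
    ((LinearMap.range (LinearMap.mulLeft k b₀)).comap (LinearMap.mulRight k a₀)) (fun h x hx => by
      obtain ⟨y, hy⟩ := hx
      refine ⟨Algebra.TensorProduct.lid k A (ρ.ρ k h ((1 : k) ⊗ₜ[k] y)), ?_⟩
      have e := congrArg (Algebra.TensorProduct.lid k A) (hid k h x y hy.symm)
      rw [map_mul, map_mul, Algebra.TensorProduct.lid_tmul, Algebra.TensorProduct.lid_tmul, one_smul, one_smul] at e
      rw [Category.comp_id]
      exact e.symm)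
    ((Submodule.ne_bot_iff _).2 ⟨b₀, ⟨a₀, rfl⟩, hb₀⟩)
  obtain ⟨a, ha : b₀ * a = w * a₀⟩ := hw
  refine ⟨a, w, fun B _ _ h => ?_, hwfix, hw0, by rw [mul_comm, ha]⟩
  apply hreg
  have h1 := hid B (h ≫ 𝟙 H) w a ha.symm
  rw [hwfix B h, Algebra.TensorProduct.tmul_mul_tmul, ← ha, _root_.one_mul] at h1
  rw [← h1, Algebra.TensorProduct.tmul_mul_tmul, _root_.one_mul]

end Groth.Agent.S11241
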