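import Groth.Statements.S5491
import Groth.Agent.RootSys.BaseGen

set_option autoImplicit false
open RootD

namespace Groth.Agent.S5491

open Groth.Agent.RootSys

open Classical in
/-- With ρ^v the half-sum of the positive coroots, the order (height) of any root α relative to the
simple system equals (ρ^v, α); equivalently 2·height(α) = Σ_{β > 0} (β^v, α). -/
theorem result {ι M N : Type*} [AddCommGroup M] [AddCommGroup N]
    (P : RootPairing ι ℤ M N) [Finite ι] [Fintype ι] [P.IsReduced] (b : P.Base) (i : ι) :
    2 * b.height i = ∑ j, if b.IsPos j then P.pairing i j else 0 := by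
  classical
  have key : ∀ k ∈ b.support, (∑ j, if b.IsPos j then P.pairing k j else 0) = 2 := by
    intro k hk
    let s := RootPairing.Equiv.reflection P k
    have hpk : b.IsPos k := RootPairing.Base.isPos_of_mem_support hk
    rw [← Finset.sum_filter, ← Finset.add_sum_erase _ _
      (show k ∈ Finset.univ.filter (fun j => b.IsPos j) by simp [hpk]), P.pairing_same]
    have h0 : ∑ j ∈ (Finset.univ.filter fun j => b.IsPos j).erase k, P.pairing k j = 0 := by
      refine Finset.sum_involution (fun j _ => s • j) ?_ ?_ (fun j hj => ?_) ?_
      · intro j _
        have e : P.pairing k (s • j) = -P.pairing k j := by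
          rw [← gpairing_smul s, show s • s • j = j by rw [← mul_smul, greflection_mul_self, one_smul],
            ← P.root_coroot'_eq_pairing, show P.root (s • k) = -P.root k from groot_opp k, map_neg, P.root_coroot'_eq_pairing]
        rw [e, add_neg_cancel]
      · intro j _ hne he
        have e := gpairing_smul s k j
        rw [he, ← P.root_coroot'_eq_pairing, show P.root (s • k) = -P.root k from groot_opp k, map_neg,
          P.root_coroot'_eq_pairing] at e
        omega
      · simp only [Finset.mem_erase, Finset.mem_filter, Finset.mem_univ, true_and] at hj ⊢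
        refine ⟨fun h => ?_, hj.2.reflectionPerm hk hj.1⟩
        have e := congrArg (fun x => s • x) h
        simp only [← mul_smul, show s * s = 1 from greflection_mul_self k, one_smul] at e
        rw [e, show s • k = P.reflectionPerm k k from rfl, isPos_opp_iff b] at hj
        exact hj.2 hpk
      · intro j _
        rw [← mul_smul, show s * s = 1 from greflection_mul_self k, one_smul]
    rw [h0, add_zero]
  obtain ⟨f, -, -, hf⟩ := b.exists_root_eq_sum_int i
  rw [RootPairing.Base.height_eq_sum hf, Finset.mul_sum]
  have e : ∀ j, P.pairing i j = ∑ k ∈ b.support, f k * P.pairing k j := fun j => by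
    rw [← P.root_coroot'_eq_pairing, hf, map_sum]
    exact Finset.sum_congr rfl fun k _ => by rw [map_zsmul, P.root_coroot'_eq_pairing, smul_eq_mul]
  rw [← Finset.sum_filter]
  simp only [e]
  rw [Finset.sum_comm]
  refine Finset.sum_congr rfl fun k hk => ?_
  rw [← Finset.mul_sum, Finset.sum_filter, key k hk, mul_comm]

end Groth.Agent.S5491
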