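import Groth.Statements.S11243
import Groth.Agent.RootSys.BaseGen
import Groth.Agent.RootSys.Existence
import Groth.Agent.S5491

set_option autoImplicit false
universe u v w
open RootD

namespace Groth.Agent.S11243

open Groth.Agent.RootSys

/-- (b), for a connected group, as a statement about its root datum: let P be a finite reduced
crystallographic root pairing over ℤ with weight lattice M, and b a base of P (simple roots,
determining the positive roots). Then there is an additive map h : M → ℤ which is positive on every
positive root (so that h strictly increases along the dominance order) and non-negative on every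
dominant weight, i.e. on every ω ∈ M pairing non-negatively with all simple coroots. (Part (c),
invariance under the component group of a disconnected group, is not stated.) -/
theorem result {ι : Type u} {M : Type v} {N : Type w}
    [Fintype ι] [AddCommGroup M] [AddCommGroup N]
    (P : RootPairing ι ℤ M N) [P.IsReduced] [P.IsCrystallographic] (b : P.Base) :
    ∃ h : M →+ ℤ, (∀ i : ι, b.IsPos i → 0 < h (P.root i)) ∧
      ∀ ω : M, (∀ j ∈ b.support, 0 ≤ P.toLinearMap ω (P.coroot j)) → 0 ≤ h ω := by
  classical
  have hΔ : RootD.IsSimpleSys P (b.support : Set ι) := ⟨b.linearIndepOn_root, b.root_mem_or_neg_mem⟩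
  refine ⟨∑ i ∈ Finset.univ.filter (fun i => b.IsPos i), (P.coroot' i).toAddMonoidHom, fun i hi => ?_, fun ω hω => ?_⟩
  · rw [AddMonoidHom.finsetSum_apply]
    simp only [LinearMap.toAddMonoidHom_coe, P.root_coroot'_eq_pairing]
    rw [Finset.sum_filter, ← Groth.Agent.S5491.result P b i]
    have := (RootPairing.Base.isPos_iff b).mp hi
    omega
  · rw [AddMonoidHom.finsetSum_apply]
    refine Finset.sum_nonneg fun i hi => ?_
    have hp : i ∈ RootD.posOf P (b.support : Set ι) := by
      have := (Finset.mem_filter.mp hi).2
      refine this.induction_on_add (p := fun k => k ∈ RootD.posOf P (b.support : Set ι))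
        (fun k hk => simple_mem_posOf hΔ hk) ?_
      intro x y z e hx hy
      show P.root z ∈ RootD.natSpan P (b.support : Set ι)
      rw [e]
      exact add_mem hx (simple_mem_posOf hΔ hy)
    have e : P.RootForm (P.root i) (P.root i) * P.coroot' i ω =
        ∑ k, coef hΔ i k * (P.RootForm (P.root k) (P.root k) * P.coroot' k ω) := by
      have h2 : ∀ a, P.RootForm (P.root a) (P.root a) * P.coroot' a ω = 2 * P.RootForm (P.root a) ω := fun a => by
        show P.RootForm (P.root a) (P.root a) * P.toLinearMap ω (P.coroot a) = _
        rw [← smul_eq_mul, ← map_zsmul, P.rootForm_self_smul_coroot, map_nsmul,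
          P.toLinearMap_apply_apply_Polarization, nsmul_eq_mul]
        rfl
      rw [h2]
      conv_lhs => rw [← lc_coef hΔ i, lc, Finsupp.linearCombination_apply, Finsupp.sum_fintype _ _ (by simp)]
      simp only [h2, map_sum, LinearMap.sum_apply, map_zsmul, LinearMap.smul_apply, smul_eq_mul, Finset.mul_sum]
      exact Finset.sum_congr rfl fun k _ => by ring
    refine nonneg_of_mul_nonneg_right ?_ (rootForm_pos (P := P) i)
    show 0 ≤ P.RootForm (P.root i) (P.root i) * P.coroot' i ω
    rw [e]
    refine Finset.sum_nonneg fun k _ => ?_
    by_cases hk : k ∈ b.support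
    · exact mul_nonneg ((mem_posOf_iff hΔ i).mp hp k) (mul_nonneg (rootForm_pos k).le (hω k hk))
    · rw [coef_eq_zero_of_notMem hΔ i (by simpa using hk), zero_mul]

end Groth.Agent.S11243
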