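import Groth.Statements.S11249
import Groth.Agent.SMT.Schubert
import Mathlib.LinearAlgebra.Matrix.Rank

set_option autoImplicit false
universe u
open W4bk4grassmannian

namespace Groth.Agent.S11249

open W4bk4grassmannian in
/-- Injectivity of the Plücker map, in matrix form: let K be a field, A and A' two n × d matrices over K
with linearly independent columns, and suppose there is a nonzero scalar c with det A_θ = c · det
A'_θ for every strictly increasing d-tuple θ of row indices (A_θ the d × d submatrix on the rows θ).
Then the columns of A and of A' span the same subspace of K^n. (The published statement is over an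
algebraically closed field; this row allows any field K.) -/
theorem result (K : Type u) [Field K] (d n : ℕ)
    (A A' : Matrix (Fin n) (Fin d) K) (hA : LinearIndependent K A.transpose)
    (hA' : LinearIndependent K A'.transpose) (c : K) (hc : c ≠ 0)
    (h : ∀ θ : Idx d n, (A.submatrix θ.1 id).det = c * (A'.submatrix θ.1 id).det) :
    Submodule.span K (Set.range A.transpose) = Submodule.span K (Set.range A'.transpose) := by
  classical
  have key : ∀ M : Matrix (Fin n) (Fin d) K, LinearIndependent K M.transpose →
      ∃ θ : Idx d n, (M.submatrix θ.1 id).det ≠ 0 := by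
    intro M hM
    by_contra hcon
    push Not at hcon
    have hrank : M.rank = d := by
      rw [← Matrix.rank_transpose]
      exact hM.rank_matrix.trans (Fintype.card_fin d)
    rw [Matrix.rank_eq_finrank_span_row] at hrank
    obtain ⟨b, hbsub, hspan, hli⟩ := exists_linearIndependent K (Set.range M)
    haveI : Fintype b := (Set.finite_range M |>.subset hbsub).fintype
    have hcard : Fintype.card b = d := by
      rw [← finrank_span_eq_card hli, Subtype.range_coe_subtype, Set.ofPred_mem_eq, hspan]
      exact hrank
    choose g hg using fun x : b => hbsub x.2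
    have hgi : Function.Injective g := fun x y e => Subtype.ext (by rw [← hg x, ← hg y, e])
    set S := Finset.univ.image g
    have hS : S.card = d := by rw [Finset.card_image_of_injective _ hgi, Finset.card_univ, hcard]
    let θ : Idx d n := ⟨S.orderEmbOfFin hS, (S.orderEmbOfFin hS).strictMono⟩
    have hmem : ∀ t, ∃ x : b, g x = θ.1 t := fun t => by
      obtain ⟨x, -, hx⟩ := Finset.mem_image.1 (Finset.orderEmbOfFin_mem S hS t)
      exact ⟨x, hx⟩
    choose e he using hmem
    have hei : Function.Injective e := fun x y h => θ.2.injective (by rw [← he x, ← he y, h])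
    have hrows : LinearIndependent K (M.submatrix θ.1 id) := by
      have e1 : (M.submatrix θ.1 id : Fin d → Fin d → K) = (fun x : b => (x : Fin d → K)) ∘ e := by
        funext t u
        simp only [Function.comp_apply, Matrix.submatrix, Matrix.of_apply, id]
        rw [← he t, hg]
      rw [show (M.submatrix θ.1 id : Fin d → Fin d → K) = _ from e1]
      exact hli.comp e hei
    exact (Matrix.isUnit_iff_isUnit_det _).1 (Matrix.linearIndependent_rows_iff_isUnit.1 hrows) |>.ne_zero (hcon θ)
  obtain ⟨θ, hθ⟩ := key A' hA'
  have hθA : (A.submatrix θ.1 id).det ≠ 0 := by rw [h θ]; exact mul_ne_zero hc hθ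
  have hspan : ∀ M : Matrix (Fin n) (Fin d) K, (M.submatrix θ.1 id).det ≠ 0 →
      Submodule.span K (Set.range M.transpose) =
        Submodule.span K (Set.range (M * (M.submatrix θ.1 id).adjugate).transpose) := by
    intro M hM
    show Submodule.span K (Set.range M.col) = Submodule.span K (Set.range (M * (M.submatrix θ.1 id).adjugate).col)
    rw [← Matrix.range_mulVecLin, ← Matrix.range_mulVecLin,
      Matrix.mulVecLin_mul, LinearMap.range_comp]
    have : LinearMap.range (M.submatrix θ.1 id).adjugate.mulVecLin = ⊤ := LinearMap.range_eq_top.2 (fun y =>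
      ⟨(M.submatrix θ.1 id).det⁻¹ • (M.submatrix θ.1 id).mulVec y, by
        rw [Matrix.mulVecLin_apply, Matrix.mulVec_smul, Matrix.mulVec_mulVec, Matrix.adjugate_mul,
          Matrix.smul_mulVec, Matrix.one_mulVec, smul_smul, inv_mul_cancel₀ hM, one_smul]⟩)
    rw [this, Submodule.map_top]
  rw [hspan A hθA, hspan A' hθ]
  have hN : A * (A.submatrix θ.1 id).adjugate = c • (A' * (A'.submatrix θ.1 id).adjugate) := by
    ext i t
    rw [Matrix.smul_apply, Groth.Agent.SMT.mul_adjugate_apply, Groth.Agent.SMT.mul_adjugate_apply, smul_eq_mul]
    by_cases hinj : (Finset.univ.image (Function.update θ.1 t i)).card = d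
    · rw [Groth.Agent.SMT.det_submatrix_sort _ _ hinj, Groth.Agent.SMT.det_submatrix_sort _ _ hinj, h]
      ring
    · rw [Groth.Agent.SMT.det_submatrix_of_repeat _ _ hinj, Groth.Agent.SMT.det_submatrix_of_repeat _ _ hinj, mul_zero]
  rw [hN]
  have : (c • (A' * (A'.submatrix θ.1 id).adjugate)).transpose =
      fun t => c • (A' * (A'.submatrix θ.1 id).adjugate).transpose t := rfl
  rw [this]
  refine le_antisymm (Submodule.span_le.2 ?_) (Submodule.span_le.2 ?_)
  · rintro _ ⟨t, rfl⟩; exact Submodule.smul_mem _ _ (Submodule.subset_span ⟨t, rfl⟩)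
  · rintro _ ⟨t, rfl⟩
    have hm := Submodule.smul_mem (Submodule.span K (Set.range fun t => c • (A' * (A'.submatrix θ.1 id).adjugate).transpose t)) c⁻¹ (Submodule.subset_span ⟨t, rfl⟩)
    rwa [smul_smul, inv_mul_cancel₀ hc, one_smul] at hm

end Groth.Agent.S11249
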