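import Groth.Statements.S11257
import Mathlib

set_option autoImplicit false
universe u
open W4bk4grassmannian

namespace Groth.Agent.S11257

open RingTheory.Sequence in
theorem prod {A : Type*} [CommRing A] : ∀ (rs : List A) {M N : Type*} [AddCommGroup M] [Module A M] [AddCommGroup N]
    [Module A N], IsWeaklyRegular M rs → IsWeaklyRegular N rs → IsWeaklyRegular (M × N) rs := by
  intro rs
  induction rs with
  | nil => intros; exact IsWeaklyRegular.nil _ _
  | cons r rs ih =>
    intro M N _ _ _ _ hM hN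
    rw [isWeaklyRegular_cons_iff] at hM hN ⊢
    refine ⟨fun a b h => Prod.ext (hM.1 (congrArg Prod.fst h)) (hN.1 (congrArg Prod.snd h)), ?_⟩
    have := ih hM.2 hN.2
    let φ : QuotSMulTop r (M × N) →ₗ[A] QuotSMulTop r M × QuotSMulTop r N :=
      (QuotSMulTop.map r (LinearMap.fst A M N)).prod (QuotSMulTop.map r (LinearMap.snd A M N))
    have hφ : Function.Bijective φ := by
      constructor
      · rw [injective_iff_map_eq_zero]
        intro x hx
        obtain ⟨⟨m, n⟩, rfl⟩ := Submodule.Quotient.mk_surjective _ x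
        have e1 : (Submodule.Quotient.mk m : QuotSMulTop r M) = 0 := congrArg Prod.fst hx
        have e2 : (Submodule.Quotient.mk n : QuotSMulTop r N) = 0 := congrArg Prod.snd hx
        rw [Submodule.Quotient.mk_eq_zero, Submodule.mem_smul_pointwise_iff_exists] at e1 e2 ⊢
        obtain ⟨a, -, ha⟩ := e1
        obtain ⟨b, -, hb⟩ := e2
        exact ⟨(a, b), trivial, Prod.ext ha hb⟩
      · rintro ⟨a, b⟩
        obtain ⟨a, rfl⟩ := Submodule.Quotient.mk_surjective _ a
        obtain ⟨b, rfl⟩ := Submodule.Quotient.mk_surjective _ b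
        exact ⟨Submodule.Quotient.mk (a, b), rfl⟩
    exact ((LinearEquiv.ofBijective φ hφ).isWeaklyRegular_congr rs).2 this

open RingTheory.Sequence in
theorem aux {A : Type*} [CommRing A] : ∀ (rs : List A) {K M N : Type*} [AddCommGroup K] [Module A K] [AddCommGroup M]
    [Module A M] [AddCommGroup N] [Module A N] (f : K →ₗ[A] M) (g : M →ₗ[A] N), Function.Injective f → Function.Surjective g →
    Function.Exact f g → IsWeaklyRegular M rs → IsWeaklyRegular N rs.dropLast → IsWeaklyRegular K rs := by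
  intro rs
  induction rs with
  | nil => intros; exact IsWeaklyRegular.nil _ _
  | cons r rs ih =>
    intro K M N _ _ _ _ _ _ f g hf surj hfg hM hN
    rw [isWeaklyRegular_cons_iff] at hM ⊢
    refine ⟨hM.1.of_injective f hf, ?_⟩
    rcases rs with _ | ⟨r', rs'⟩
    · exact IsWeaklyRegular.nil _ _
    rw [List.dropLast_cons_of_ne_nil (List.cons_ne_nil _ _), isWeaklyRegular_cons_iff] at hN
    have hinj : Function.Injective (QuotSMulTop.map r f) := by
      rw [injective_iff_map_eq_zero]
      intro x hx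
      obtain ⟨k, rfl⟩ := Submodule.Quotient.mk_surjective _ x
      change (Submodule.Quotient.mk (f k) : QuotSMulTop r M) = 0 at hx
      rw [Submodule.Quotient.mk_eq_zero, Submodule.mem_smul_pointwise_iff_exists] at hx ⊢
      obtain ⟨m, -, hm⟩ := hx
      have hgm : g m = 0 := hN.1 (show r • g m = r • 0 by rw [← map_smul, hm, hfg.apply_apply_eq_zero, smul_zero])
      obtain ⟨k', rfl⟩ := (hfg m).1 hgm
      exact ⟨k', trivial, hf (by rw [map_smul, hm])⟩
    have hex : Function.Exact (QuotSMulTop.map r f) (QuotSMulTop.map r g) := by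
      intro x
      obtain ⟨m, rfl⟩ := Submodule.Quotient.mk_surjective _ x
      constructor
      · intro h
        change (Submodule.Quotient.mk (g m) : QuotSMulTop r N) = 0 at h
        rw [Submodule.Quotient.mk_eq_zero, Submodule.mem_smul_pointwise_iff_exists] at h
        obtain ⟨n, -, hn⟩ := h
        by_cases hn' : n ∈ LinearMap.range g
        · obtain ⟨m', rfl⟩ := hn'
          obtain ⟨k, hk⟩ := (hfg (m - r • m')).1 (by rw [map_sub, map_smul, hn, sub_self])
          refine ⟨Submodule.Quotient.mk k, ?_⟩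
          change (Submodule.Quotient.mk (f k) : QuotSMulTop r M) = _
          rw [Submodule.Quotient.eq, Submodule.mem_smul_pointwise_iff_exists, hk]
          exact ⟨-m', trivial, by rw [smul_neg]; abel⟩
        · exact absurd (surj n) hn'
      · rintro ⟨k, hk⟩
        obtain ⟨k, rfl⟩ := Submodule.Quotient.mk_surjective _ k
        rw [← hk]
        change (Submodule.Quotient.mk (g (f k)) : QuotSMulTop r N) = 0
        rw [hfg.apply_apply_eq_zero]; rfl
    exact ih _ _ hinj (QuotSMulTop.map_surjective r surj) hex hM.2 hN.2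

/-- Let A be a Noetherian local integral domain with maximal ideal m, I and J ideals of A, d ≥ 1, and
f_1, …, f_d ∈ m. Assume depth A/(I+J) ≥ d - 1, depth A/I ≥ d and depth A/J ≥ d (depths of the
quotients as A-modules), that f_1, …, f_d is a regular sequence on A/I and on A/J, and that f_1, …,
f_{d-1} is a regular sequence on A/(I+J). Then f_1, …, f_d is a regular sequence on A/(I ∩ J). -/
theorem result (A : Type u) [CommRing A] [IsDomain A]
    [IsNoetherianRing A] [IsLocalRing A] (I J : Ideal A) (d : ℕ) (hd : 0 < d) (f : Fin d → A)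
    (hf : ∀ k, f k ∈ IsLocalRing.maximalIdeal A)
    (hIJd : ((d - 1 : ℕ) : ℕ∞) ≤ LocCoh.depth A (A ⧸ (I ⊔ J)))
    (hId : (d : ℕ∞) ≤ LocCoh.depth A (A ⧸ I)) (hJd : (d : ℕ∞) ≤ LocCoh.depth A (A ⧸ J))
    (hI : RingTheory.Sequence.IsRegular (A ⧸ I) (List.ofFn f))
    (hJ : RingTheory.Sequence.IsRegular (A ⧸ J) (List.ofFn f))
    (hIJ : RingTheory.Sequence.IsRegular (A ⧸ (I ⊔ J)) ((List.ofFn f).take (d - 1))) :
    RingTheory.Sequence.IsRegular (A ⧸ (I ⊓ J)) (List.ofFn f) := by
  haveI : Nontrivial (A ⧸ I) := hI.nontrivial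
  have hIJne : I ⊓ J ≠ ⊤ := fun h => (Ideal.Quotient.nontrivial_iff.1 inferInstance : I ≠ ⊤) (top_le_iff.1 (h ▸ _root_.inf_le_left))
  haveI : Nontrivial (A ⧸ (I ⊓ J)) := Ideal.Quotient.nontrivial_iff.2 hIJne
  haveI : Module.Finite A (A ⧸ (I ⊓ J)) := inferInstance
  rw [IsLocalRing.isRegular_iff_isWeaklyRegular_of_subset_maximalIdeal (by
    intro x hx
    obtain ⟨k, rfl⟩ := (List.mem_ofFn' _ _).1 hx
    exact hf k)]
  let g1 : (A ⧸ (I ⊓ J)) →ₗ[A] (A ⧸ I) × (A ⧸ J) :=
    (Submodule.mapQ (I ⊓ J) I LinearMap.id (fun x hx => (Submodule.mem_inf.1 hx).1)).prod (Submodule.mapQ (I ⊓ J) J LinearMap.id (fun x hx => (Submodule.mem_inf.1 hx).2))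
  let g2 : (A ⧸ I) × (A ⧸ J) →ₗ[A] A ⧸ (I ⊔ J) :=
    (Submodule.mapQ _ _ LinearMap.id (fun x hx => Ideal.mem_sup_left hx)).coprod
      (-Submodule.mapQ _ _ LinearMap.id (fun x hx => Ideal.mem_sup_right hx))
  have h1 : Function.Injective g1 := by
    rw [injective_iff_map_eq_zero]
    intro x hx
    obtain ⟨x, rfl⟩ := Submodule.Quotient.mk_surjective _ x
    rw [Submodule.Quotient.mk_eq_zero]
    exact ⟨(Submodule.Quotient.mk_eq_zero _).1 (congrArg Prod.fst hx), (Submodule.Quotient.mk_eq_zero _).1 (congrArg Prod.snd hx)⟩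
  have h2 : Function.Exact g1 g2 := by
    rintro ⟨a, b⟩
    obtain ⟨a, rfl⟩ := Submodule.Quotient.mk_surjective _ a
    obtain ⟨b, rfl⟩ := Submodule.Quotient.mk_surjective _ b
    constructor
    · intro h
      simp only [g2, LinearMap.coprod_apply, LinearMap.neg_apply, Submodule.mapQ_apply, LinearMap.id_apply,
        ← sub_eq_add_neg, ← Submodule.Quotient.mk_sub, Submodule.Quotient.mk_eq_zero] at h
      obtain ⟨i, hi, j, hj, hij⟩ := Submodule.mem_sup.1 h
      refine ⟨Submodule.Quotient.mk (a - i), Prod.ext ?_ ?_⟩ <;>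
        simp only [g1, LinearMap.prod_apply, Function.prod_apply, Pi.prod, Submodule.mapQ_apply, LinearMap.id_apply, Submodule.Quotient.eq]
      · simpa using hi
      · rw [show a - i - b = j from eq_of_sub_eq_zero (by linear_combination -hij)]; exact hj
    · rintro ⟨z, hz⟩
      obtain ⟨z, rfl⟩ := Submodule.Quotient.mk_surjective _ z
      rw [← hz]
      simp [g1, g2]
  refine aux _ g1 g2 h1 (fun z => ?_) h2 (prod _ hI.toIsWeaklyRegular hJ.toIsWeaklyRegular) ?_
  · obtain ⟨z, rfl⟩ := Submodule.Quotient.mk_surjective _ z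
    exact ⟨(Submodule.Quotient.mk z, 0), by simp [g2]⟩
  · rw [List.dropLast_eq_take, List.length_ofFn]
    exact hIJ.toIsWeaklyRegular

end Groth.Agent.S11257
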