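import Groth.Statements.S1126
import Mathlib.AlgebraicGeometry.Morphisms.FlatDescent
import Mathlib.AlgebraicGeometry.Morphisms.UniversallyInjective

set_option autoImplicit false
open CategoryTheory CategoryTheory.Limits AlgebraicGeometry Opposite
universe u
open Desc

namespace Groth.Agent.S1126

/-- If the base change of a morphism along a quasi-compact flat surjective morphism to its target is a
universal homeomorphism, then the morphism is a universal homeomorphism. (Stated for a single
quasi-compact flat surjective base change; combined with Zariski-locality on the target this gives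
the fpqc-local form.) -/
theorem result :
    MorphismProperty.DescendsAlong (FlatMor.IsUnivHomeo.{u})
      (@Surjective ⊓ @Flat ⊓ @QuasiCompact : MorphismProperty Scheme.{u}) := by
  refine ⟨fun {A X Y Z fst snd f g} h hf hfst ↦ ?_⟩
  have hb : ∀ {X' Y' : Scheme.{u}} (i₁ : X' ⟶ A) (i₂ : Y' ⟶ X) (f' : X' ⟶ Y'),
      IsPullback f' i₁ i₂ fst → IsHomeomorph f'.base := fun i₁ i₂ f' H ↦ hfst _ _ _ H
  have h1 : UniversallyClosed fst := ⟨fun X' Y' i₁ i₂ f' H ↦ (hb i₁ i₂ f' H).isClosedMap⟩
  have h2 : UniversallyInjective fst := ⟨fun X' Y' i₁ i₂ f' H ↦ (hb i₁ i₂ f' H).bijective.1⟩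
  obtain ⟨⟨hf₁, hf₂⟩, hf₃⟩ := id hf
  have hu : UniversallyClosed g := MorphismProperty.of_isPullback_of_descendsAlong h hf h1
  have hi : UniversallyInjective g := MorphismProperty.of_isPullback_of_descendsAlong h hf h2
  have hs : Surjective g := by
    have h0 : IsHomeomorph fst.base := hfst (𝟙 A) (𝟙 X) fst (IsPullback.of_vert_isIso ⟨by simp⟩)
    have : Surjective fst := ⟨h0.bijective.2⟩
    have : Surjective (snd ≫ g) := by rw [← h.w]; infer_instance
    exact Surjective.of_comp snd g
  intro Y' Z' i₁ i₂ g' H
  have : UniversallyClosed g' := MorphismProperty.of_isPullback H.flip hu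
  have : UniversallyInjective g' := MorphismProperty.of_isPullback H.flip hi
  have : Surjective g' := MorphismProperty.of_isPullback H.flip hs
  exact isHomeomorph_iff_continuous_isClosedMap_bijective.mpr
    ⟨g'.continuous, g'.isClosedMap, g'.injective, g'.surjective⟩

end Groth.Agent.S1126
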