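import Groth.Statements.S11262
import Mathlib

set_option autoImplicit false
set_option linter.style.haveILetI false
universe u v
open W4bk4grassmannian

namespace Groth.Agent.S11262

/-- Hilbert function of the Stanley–Reisner ring of a finite distributive lattice: let K be a field, L a
finite distributive lattice, R = K[x_α : α ∈ L], I ⊆ R the ideal generated by the products x_α x_β
over the incomparable (skew) pairs α, β, and m ≥ 1. Then the image in R/I of the homogeneous
polynomials of degree m has K-dimension equal to the sum, over the nonempty chains C ⊆ L, of the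
binomial coefficient (m - 1 choose |C| - 1). (The published statement is that the degree of R/I
equals the number of maximal chains of L; this row states the Hilbert function from which that
degree is read off.) -/
theorem result (K : Type u) [Field K] (L : Type v) [DistribLattice L]
    [Fintype L] (m : ℕ) (hm : 1 ≤ m) :
    Module.finrank K ((MvPolynomial.homogeneousSubmodule L K m).map
        (Ideal.Quotient.mkₐ K (Ideal.span {f : MvPolynomial L K | ∃ a b : L, ¬ a ≤ b ∧ ¬ b ≤ a ∧
          f = MvPolynomial.X a * MvPolynomial.X b})).toLinearMap) =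
      ∑ᶠ C : {C : Finset L // C.Nonempty ∧ IsChain (fun a b : L => a ≤ b) (↑C : Set L)},
        Nat.choose (m - 1) (C.1.card - 1) := by
  classical
  let I : Ideal (MvPolynomial L K) := Ideal.span {f : MvPolynomial L K | ∃ a b : L, ¬ a ≤ b ∧ ¬ b ≤ a ∧
    f = MvPolynomial.X a * MvPolynomial.X b}
  let T : Set (L →₀ ℕ) := {d | d.degree = m ∧ IsChain (fun a b : L => a ≤ b) (↑d.support : Set L)}
  let G : Set (L →₀ ℕ) := {d | ∃ a b : L, ¬ a ≤ b ∧ ¬ b ≤ a ∧ d = Finsupp.single a 1 + Finsupp.single b 1}
  have hI : I = Ideal.span ((fun s => MvPolynomial.monomial s (1 : K)) '' G) := by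
    refine congrArg Ideal.span (Set.ext fun f => ⟨?_, ?_⟩)
    · rintro ⟨a, b, h1, h2, rfl⟩
      exact ⟨_, ⟨a, b, h1, h2, rfl⟩, by simp [MvPolynomial.X, MvPolynomial.monomial_mul]⟩
    · rintro ⟨_, ⟨a, b, h1, h2, rfl⟩, rfl⟩
      exact ⟨a, b, h1, h2, by simp [MvPolynomial.X, MvPolynomial.monomial_mul]⟩
  have hchain : ∀ d : L →₀ ℕ, (∃ s ∈ G, s ≤ d) ↔ ¬ IsChain (fun a b : L => a ≤ b) (↑d.support : Set L) := by
    intro d
    constructor
    · rintro ⟨_, ⟨a, b, h1, h2, rfl⟩, hle⟩ hc
      have hab : a ≠ b := fun h => h1 h.le
      have ha := hle a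
      have hb := hle b
      simp [hab, hab.symm] at ha hb
      rcases hc (x := a) (by simp; omega) (y := b) (by simp; omega) hab with h | h
      · exact h1 h
      · exact h2 h
    · intro hc
      simp only [IsChain, Set.Pairwise, Finset.mem_coe, Finsupp.mem_support_iff, not_forall, not_or] at hc
      obtain ⟨a, ha, b, hb, hab, h1, h2⟩ := hc
      refine ⟨_, ⟨a, b, h1, h2, rfl⟩, fun c => ?_⟩
      rcases eq_or_ne c a with rfl | hca
      · simp [hab]; omega
      rcases eq_or_ne c b with rfl | hcb
      · simp [hab.symm]; omega
      · simp [hca, hcb]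
  let q := (Ideal.Quotient.mkₐ K I).toLinearMap
  have hsub : MvPolynomial.restrictSupport K T ≤ MvPolynomial.homogeneousSubmodule L K m := by
    rw [MvPolynomial.homogeneousSubmodule_eq_finsupp_supported]
    exact AddMonoidAlgebra.supported_mono fun d hd => hd.1
  have himg : (MvPolynomial.homogeneousSubmodule L K m).map q = (MvPolynomial.restrictSupport K T).map q := by
    refine le_antisymm ?_ (Submodule.map_mono hsub)
    rintro _ ⟨p, hp, rfl⟩
    rw [p.as_sum, map_sum]
    refine Submodule.sum_mem _ fun d hd => ?_
    have hdeg : d.degree = m := by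
      rw [SetLike.mem_coe, MvPolynomial.homogeneousSubmodule_eq_finsupp_supported] at hp
      exact hp hd
    by_cases hc : IsChain (fun a b : L => a ≤ b) (↑d.support : Set L)
    · refine Submodule.mem_map_of_mem ?_
      rw [MvPolynomial.mem_restrictSupport_iff]
      exact (Finset.coe_subset.mpr MvPolynomial.support_monomial_subset).trans (by simp [T, hdeg, hc])
    · have : MvPolynomial.monomial d (p.coeff d) ∈ I := by
        rw [hI, MvPolynomial.mem_ideal_span_monomial_image]
        intro x hx
        rw [Finset.mem_singleton.mp (MvPolynomial.support_monomial_subset hx)]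
        exact (hchain d).mpr hc
      have h0 : q (MvPolynomial.monomial d (p.coeff d)) = 0 := Ideal.Quotient.eq_zero_iff_mem.mpr this
      rw [h0]
      exact Submodule.zero_mem _
  have hker : Disjoint (MvPolynomial.restrictSupport K T) (LinearMap.ker q) := by
    rw [Submodule.disjoint_def]
    intro p hp hp0
    have hpI : p ∈ I := Ideal.Quotient.eq_zero_iff_mem.mp hp0
    rw [hI, MvPolynomial.mem_ideal_span_monomial_image] at hpI
    by_contra hne
    obtain ⟨d, hd⟩ := Finset.nonempty_iff_ne_empty.mpr (fun h => hne (MvPolynomial.support_eq_empty.mp h))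
    rw [MvPolynomial.mem_restrictSupport_iff] at hp
    exact (hchain d).mp (hpI d hd) (hp hd).2
  have e1 : Module.finrank K ((MvPolynomial.restrictSupport K T).map q) =
      Module.finrank K (MvPolynomial.restrictSupport K T) := by
    rw [← LinearMap.range_domRestrict]
    refine LinearMap.finrank_range_of_inj (LinearMap.ker_eq_bot.mp ?_)
    rw [LinearMap.ker_domRestrict, ← Submodule.disjoint_iff_comap_eq_bot]
    exact hker
  rw [show (Ideal.Quotient.mkₐ K (Ideal.span {f : MvPolynomial L K | ∃ a b : L, ¬ a ≤ b ∧ ¬ b ≤ a ∧
    f = MvPolynomial.X a * MvPolynomial.X b})).toLinearMap = q from rfl, himg, e1,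
    Module.finrank_eq_nat_card_basis (MvPolynomial.basisRestrictSupport K T)]
  have key : ∀ C : Finset L, C.Nonempty → Nat.card {d : L →₀ ℕ // d.degree = m ∧ d.support = C} =
      Nat.choose (m - 1) (C.card - 1) := by
    intro C hC
    have hpos : 0 < C.card := hC.card_pos
    rcases le_or_gt C.card m with hle | hlt
    · let one : L →₀ ℕ := Finsupp.indicator C (fun _ _ => 1)
      have hone : ∀ a, one a = if a ∈ C then 1 else 0 := fun a => by simp [one, Finsupp.indicator_apply]
      have hsum : one.degree = C.card := by
        rw [Finsupp.degree_apply, Finset.sum_subset (Finsupp.support_indicator_subset _ _) (fun a _ h => Finsupp.notMem_support_iff.mp h)]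
        simp +contextual
      let e : {d : L →₀ ℕ // d.degree = m ∧ d.support = C} ≃ {d // d ∈ C.finsuppAntidiag (m - C.card)} :=
      { toFun := fun d => ⟨d.1 - one, by
          have hle1 : one ≤ d.1 := fun a => by
            rw [hone]; split_ifs with h
            · rw [← d.2.2, Finsupp.mem_support_iff] at h; omega
            · exact Nat.zero_le _
          have h : (d.1 - one).degree + one.degree = m := by
            rw [← map_add, tsub_add_cancel_of_le hle1, d.2.1]
          rw [Finset.mem_finsuppAntidiag]
          have hsupp : (d.1 - one).support ⊆ C := Finsupp.support_tsub.trans d.2.2.subset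
          refine ⟨?_, hsupp⟩
          rw [← Finset.sum_subset hsupp (fun a _ h => by simpa using h)]
          rw [hsum, Finsupp.degree_apply] at h
          exact Nat.eq_sub_of_add_eq h⟩
        invFun := fun d => ⟨d.1 + one, by
          obtain ⟨h1, h2⟩ := Finset.mem_finsuppAntidiag.mp d.2
          refine ⟨?_, ?_⟩
          · rw [map_add, hsum, Finsupp.degree_apply, Finset.sum_subset h2 (fun a _ h => by simpa using h), h1]
            omega
          · ext a
            simp only [Finsupp.mem_support_iff, Finsupp.add_apply, hone]
            split_ifs with h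
            · simp [h]
            · simp [h, show d.1 a = 0 from Finsupp.notMem_support_iff.mp fun h' => h (h2 h')]⟩
        left_inv := fun d => by
          apply Subtype.ext
          ext a
          simp only [Finsupp.add_apply, Finsupp.tsub_apply, hone]
          split_ifs with h
          · rw [← d.2.2, Finsupp.mem_support_iff] at h; omega
          · omega
        right_inv := fun d => by
          apply Subtype.ext
          ext a
          simp }
      rw [Nat.card_congr e, Nat.card_eq_finsetCard, Finset.card_finsuppAntidiag_nat_eq_choose]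
      rw [show C.card + (m - C.card) - 1 = m - 1 by omega]
      exact Nat.choose_symm_of_eq_add (by omega)
    · rw [Nat.choose_eq_zero_of_lt (by omega)]
      haveI : IsEmpty {d : L →₀ ℕ // d.degree = m ∧ d.support = C} := by
        refine ⟨fun ⟨d, hd, hs⟩ => ?_⟩
        have : C.card ≤ d.degree := by
          rw [Finsupp.degree_apply, hs, Finset.card_eq_sum_ones]
          exact Finset.sum_le_sum fun a ha => by
            rw [← hs, Finsupp.mem_support_iff] at ha; omega
        omega
      exact Nat.card_of_isEmpty
  let Ch := {C : Finset L // C.Nonempty ∧ IsChain (fun a b : L => a ≤ b) (↑C : Set L)}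
  let eT : T ≃ Σ C : Ch, {d : L →₀ ℕ // d.degree = m ∧ d.support = C.1} :=
  { toFun := fun d => ⟨⟨d.1.support, Finsupp.support_nonempty_iff.mpr (fun h => by
        have := d.2.1; rw [h, map_zero] at this; omega), d.2.2⟩, ⟨d.1, d.2.1, rfl⟩⟩
    invFun := fun x => ⟨x.2.1, x.2.2.1, by rw [x.2.2.2]; exact x.1.2.2⟩
    left_inv := fun d => rfl
    right_inv := by
      rintro ⟨⟨C, hC⟩, d, hd, hs⟩
      cases hs
      rfl }
  haveI : ∀ C : Ch, Finite {d : L →₀ ℕ // d.degree = m ∧ d.support = C.1} := fun C => by
    refine Finite.of_injective (fun d a => (⟨d.1 a, Nat.lt_succ_of_le ((Finsupp.le_degree a d.1).trans d.2.1.le)⟩ : Fin (m + 1))) ?_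
    intro d d' h
    exact Subtype.ext (Finsupp.ext fun a => congrArg Fin.val (congrFun h a))
  rw [Nat.card_congr eT, Nat.card_sigma, finsum_eq_sum_of_fintype]
  exact Finset.sum_congr rfl fun C _ => key C.1 C.2.1

end Groth.Agent.S11262
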