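import Groth.Statements.S11277
import Mathlib

set_option autoImplicit false
universe u v
open W4bk4grassmannian

namespace Groth.Agent.S11277

/-- Let K be a field, R = ⊕_{i ≥ 0} R_i an ℕ-graded commutative K-algebra which is an integral domain,
and s ∈ R_e a homogeneous element of degree e > 0. Let R_(s) ⊆ R[1/s] be the homogeneous
localization (fractions f / s^k with f homogeneous of degree k e). Then the image of s in R[1/s] is
transcendental over R_(s). -/
theorem result (K : Type u) [Field K] (R : Type v) [CommRing R]
    [IsDomain R] [Algebra K R] (𝒜 : ℕ → Submodule K R) [GradedAlgebra 𝒜] (e : ℕ) (he : 0 < e) (s : R)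
    (hs : s ∈ 𝒜 e) :
    Transcendental (HomogeneousLocalization.Away 𝒜 s) (algebraMap R (Localization.Away s) s) := by
  classical
  rw [transcendental_iff]
  intro p hp
  rcases eq_or_ne s 0 with rfl | hs0
  · haveI : Subsingleton (Localization.Away (0 : R)) := IsLocalization.subsingleton (M := Submonoid.powers (0 : R)) ⟨1, pow_one _⟩
    haveI : Subsingleton (HomogeneousLocalization.Away 𝒜 (0 : R)) :=
      (HomogeneousLocalization.val_injective (𝒜 := 𝒜) (Submonoid.powers (0 : R))).subsingleton
    exact Subsingleton.elim _ _
  set D := HomogeneousLocalization.Away 𝒜 s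
  set S := Localization.Away s
  have hinj : Function.Injective (algebraMap R S) :=
    IsLocalization.injective S (powers_le_nonZeroDivisors_of_noZeroDivisors hs0)
  have hunit : IsUnit (algebraMap R S s) := IsLocalization.Away.algebraMap_isUnit s
  have hsd : ∀ j, s ^ j ∈ 𝒜 (j * e) := fun j => by simpa using SetLike.pow_mem_graded j hs
  have hc : ∀ i : ℕ, ∃ m, ∀ N, m ≤ N → ∃ b ∈ 𝒜 (N * e),
      algebraMap D S (p.coeff i) * algebraMap R S s ^ N = algebraMap R S b := by
    intro i
    obtain ⟨m, a, ha, heq⟩ := HomogeneousLocalization.Away.mk_surjective 𝒜 hs (p.coeff i)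
    refine ⟨m, fun N hN => ⟨a * s ^ (N - m), ?_, ?_⟩⟩
    · have := SetLike.mul_mem_graded ha (hsd (N - m))
      rwa [show m • e + (N - m) * e = N * e by rw [smul_eq_mul, ← add_mul, Nat.add_sub_of_le hN]] at this
    · rw [← heq]
      show (HomogeneousLocalization.Away.mk 𝒜 hs m a ha).val * _ = _
      rw [HomogeneousLocalization.Away.val_mk, map_mul, map_pow, ← Nat.add_sub_of_le hN, pow_add, ← mul_assoc,
        Nat.add_sub_cancel_left, Localization.mk_eq_mk', ← map_pow (algebraMap R S) s m]
      congr 1
      exact IsLocalization.mk'_spec _ _ _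
  choose m hm using hc
  set r := p.natDegree + 1
  let N := (Finset.range r).sup m
  choose! b hb hbe using fun i (hi : i ∈ Finset.range r) => hm i N (Finset.le_sup hi)
  have h1 : algebraMap R S (∑ i ∈ Finset.range r, b i * s ^ i) = 0 := by
    rw [map_sum, ← zero_mul (algebraMap R S s ^ N), ← hp, Polynomial.aeval_eq_sum_range, Finset.sum_mul]
    refine Finset.sum_congr rfl fun i hi => ?_
    rw [map_mul, map_pow, ← hbe i hi, Algebra.smul_def]
    ring
  have h2 := hinj (h1.trans (map_zero _).symm)
  refine Polynomial.ext fun i => ?_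
  rw [Polynomial.coeff_zero]
  by_cases hi : i ∈ Finset.range r
  · have h3 := congrArg (fun x => (DirectSum.decompose 𝒜 x ((N + i) * e) : R)) h2
    simp only [DirectSum.decompose_sum, DirectSum.decompose_zero] at h3
    rw [DirectSum.sum_apply, AddSubmonoidClass.coe_finset_sum, Finset.sum_eq_single i] at h3
    · rw [DirectSum.decompose_of_mem_same 𝒜 (by rw [add_mul]; exact SetLike.mul_mem_graded (hb i hi) (hsd i))] at h3
      have hb0 : b i = 0 := by simpa [hs0] using h3
      have h4 := hbe i hi
      rw [hb0, map_zero, mul_eq_zero] at h4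
      rcases h4 with h4 | h4
      · exact HomogeneousLocalization.val_injective _ (h4.trans HomogeneousLocalization.val_zero.symm)
      · haveI : IsDomain S := IsLocalization.isDomain_localization (powers_le_nonZeroDivisors_of_noZeroDivisors hs0)
        exact absurd h4 (pow_ne_zero N hunit.ne_zero)
    · intro j hj hji
      refine DirectSum.decompose_of_mem_ne 𝒜 (SetLike.mul_mem_graded (hb j hj) (hsd j)) ?_
      rw [← add_mul]
      intro h
      exact hji (by have := Nat.eq_of_mul_eq_mul_right he h; omega)
    · exact fun h => absurd hi h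
  · exact Polynomial.coeff_eq_zero_of_natDegree_lt (by simp [r] at hi; omega)

end Groth.Agent.S11277
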