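import Groth.Statements.S11278
import Mathlib

set_option autoImplicit false
universe u v
open W4bk4grassmannian

namespace Groth.Agent.S11278

/-- Unique factorization lifts from the homogeneous localization at a prime element of degree one, in
the generality of the published argument: let K be a field, R = ⊕_{i ≥ 0} R_i a Noetherian ℕ-graded
commutative K-algebra which is an integral domain, and s ∈ R_1 a homogeneous element of degree one
which is a prime element of R. If the homogeneous localization R_(s) (degree-zero part of R[1/s])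
has unique factorization, then R is a unique factorization domain. (The published statement is the
case where R is the homogeneous coordinate ring of a Schubert variety, s the Plücker coordinate of
the least index, which is a prime element there, and R_(s) the coordinate ring of the opposite
cell.) -/
theorem result (K : Type u) [Field K] (R : Type v)
    [CommRing R] [IsDomain R] [IsNoetherianRing R] [Algebra K R] (𝒜 : ℕ → Submodule K R) [GradedAlgebra 𝒜]
    (s : R) (hs : s ∈ 𝒜 1) (hp : Prime s)
    (h : UniqueFactorizationMonoid (HomogeneousLocalization.Away 𝒜 s)) :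
    UniqueFactorizationMonoid R := by
  classical
  let D := HomogeneousLocalization.Away 𝒜 s
  let S := Localization.Away s
  have hs0 : s ≠ 0 := hp.ne_zero
  have hinjS : Function.Injective (algebraMap R S) :=
    IsLocalization.injective S (powers_le_nonZeroDivisors_of_noZeroDivisors hs0)
  haveI : IsDomain S := IsLocalization.isDomain_localization (powers_le_nonZeroDivisors_of_noZeroDivisors hs0)
  haveI : IsDomain D := Function.Injective.isDomain (algebraMap D S) (HomogeneousLocalization.val_injective _)
  let φ : Polynomial D →+* S := Polynomial.eval₂RingHom (algebraMap D S) (algebraMap R S s)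
  letI : Algebra (Polynomial D) S := φ.toAlgebra
  have hX : φ Polynomial.X = algebraMap R S s := Polynomial.eval₂_X _ _
  have hunit : IsUnit (algebraMap R S s) := IsLocalization.Away.algebraMap_isUnit s
  have hsd : ∀ d, s ^ d ∈ 𝒜 d := fun d => by simpa using SetLike.pow_mem_graded d hs
  have hmk : ∀ (n : ℕ) (a : R) (ha : a ∈ 𝒜 (n • 1)),
      algebraMap D S (HomogeneousLocalization.Away.mk 𝒜 hs n a ha) * algebraMap R S s ^ n = algebraMap R S a := by
    intro n a ha
    show (HomogeneousLocalization.Away.mk 𝒜 hs n a ha).val * _ = _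
    rw [HomogeneousLocalization.Away.val_mk, Localization.mk_eq_mk', ← map_pow]
    exact IsLocalization.mk'_spec _ _ _
  have hsurj : ∀ z : S, ∃ (p : Polynomial D) (k : ℕ), z * algebraMap R S s ^ k = φ p := by
    intro z
    obtain ⟨⟨a, _, k, rfl⟩, h⟩ := IsLocalization.surj (Submonoid.powers s) z
    rw [map_pow] at h
    suffices ∀ a : R, ∃ p, φ p = algebraMap R S a by
      obtain ⟨p, hp'⟩ := this a
      exact ⟨p, k, h.trans hp'.symm⟩
    intro a
    induction a using DirectSum.Decomposition.inductionOn 𝒜 with
    | zero => exact ⟨0, by simp⟩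
    | @homogeneous i m =>
      refine ⟨Polynomial.C (HomogeneousLocalization.Away.mk 𝒜 hs i m.1 (by simp [m.2])) * Polynomial.X ^ i, ?_⟩
      rw [map_mul, map_pow, hX, show φ (Polynomial.C _) = _ from Polynomial.eval₂_C _ _]
      exact hmk i m.1 _
    | add a b ha hb =>
      obtain ⟨pa, hpa⟩ := ha
      obtain ⟨pb, hpb⟩ := hb
      exact ⟨pa + pb, by rw [map_add, map_add, hpa, hpb]⟩
  have hinj : Function.Injective φ := by
    rw [injective_iff_map_eq_zero]
    intro p hp'
    have hc : ∀ d, ∃ (n : ℕ), ∀ N, n ≤ N → ∃ b ∈ 𝒜 N, algebraMap D S (p.coeff d) * algebraMap R S s ^ N = algebraMap R S b := by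
      intro d
      obtain ⟨n, a, ha, he⟩ := HomogeneousLocalization.Away.mk_surjective 𝒜 hs (p.coeff d)
      refine ⟨n, fun N hN => ⟨a * s ^ (N - n), ?_, ?_⟩⟩
      · have := SetLike.mul_mem_graded ha (hsd (N - n))
        rwa [show n • 1 + (N - n) = N by simp; omega] at this
      · rw [← he, map_mul, ← hmk n a ha, map_pow, mul_assoc, ← pow_add, Nat.add_sub_of_le hN]
    choose n hn using hc
    let N := (Finset.range (p.natDegree + 1)).sup n
    choose! b hb hbe using fun d (hd : d ∈ Finset.range (p.natDegree + 1)) => hn d N (Finset.le_sup hd)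
    have h1 : algebraMap R S (∑ d ∈ Finset.range (p.natDegree + 1), b d * s ^ d) = φ p * algebraMap R S s ^ N := by
      show _ = Polynomial.eval₂ _ _ p * _
      rw [Polynomial.eval₂_eq_sum_range, Finset.sum_mul, map_sum]
      refine Finset.sum_congr rfl fun d hd => ?_
      rw [map_mul, map_pow, ← hbe d hd]; ring
    rw [hp', zero_mul] at h1
    have h2 := hinjS (h1.trans (map_zero _).symm)
    refine Polynomial.ext fun d => ?_
    rw [Polynomial.coeff_zero]
    by_cases hd : d ∈ Finset.range (p.natDegree + 1)
    · have h3 := congrArg (fun r => (DirectSum.decompose 𝒜 r (N + d) : R)) h2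
      simp only [DirectSum.decompose_sum, DirectSum.decompose_zero] at h3
      rw [DirectSum.sum_apply, AddSubmonoidClass.coe_finset_sum, Finset.sum_eq_single d] at h3
      · rw [DirectSum.decompose_of_mem_same 𝒜 (SetLike.mul_mem_graded (hb d hd) (hsd d))] at h3
        have hb0 : b d = 0 := by simpa [hs0] using h3
        have h4 := hbe d hd
        rw [hb0, map_zero, mul_eq_zero] at h4
        rcases h4 with h4 | h4
        · exact HomogeneousLocalization.val_injective _ (h4.trans HomogeneousLocalization.val_zero.symm)
        · exact absurd h4 (pow_ne_zero N hunit.ne_zero)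
      · intro e he hed
        exact DirectSum.decompose_of_mem_ne 𝒜 (SetLike.mul_mem_graded (hb e he) (hsd e)) (by omega)
      · exact fun h => absurd hd h
    · exact Polynomial.coeff_eq_zero_of_natDegree_lt (by simpa using hd)
  haveI : IsLocalization.Away (Polynomial.X : Polynomial D) S := by
    refine { map_units := ?_, surj := ?_, exists_of_eq := fun h => ⟨1, by simpa using hinj h⟩ }
    · rintro ⟨_, k, rfl⟩
      show IsUnit (φ (Polynomial.X ^ k))
      rw [map_pow, hX]
      exact hunit.pow k
    · intro z
      obtain ⟨p, k, hk⟩ := hsurj z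
      refine ⟨⟨p, ⟨Polynomial.X ^ k, k, rfl⟩⟩, ?_⟩
      show z * φ (Polynomial.X ^ k) = φ p
      rw [map_pow, hX, hk]
  haveI : UniqueFactorizationMonoid D := h
  haveI : UniqueFactorizationMonoid S :=
    UniqueFactorizationMonoid.of_isLocalization (Submonoid.powers (Polynomial.X : Polynomial D)) S
  refine UniqueFactorizationMonoid.iff_exists_prime_mem_of_isPrime.mpr fun I hI hIp => ?_
  by_cases hsI : s ∈ I
  · exact ⟨s, hsI, hp⟩
  have hdisj : Disjoint (Submonoid.powers s : Set R) (I : Set R) :=
    Set.disjoint_left.mpr fun a ⟨k, hk⟩ ha => hsI (hIp.mem_of_pow_mem k (by rw [← hk] at ha; exact ha))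
  haveI : (I.map (algebraMap R S)).IsPrime := IsLocalization.isPrime_of_isPrime_disjoint _ _ _ hIp hdisj
  have hIS : I.map (algebraMap R S) ≠ ⊥ := by
    rw [Ne, Ideal.map_eq_bot_iff_of_injective hinjS]; exact hI
  obtain ⟨z, hzI, hzp⟩ := Ideal.IsPrime.exists_mem_prime_of_ne_bot (I := I.map (algebraMap R S)) inferInstance hIS
  obtain ⟨⟨a, m⟩, hza⟩ := IsLocalization.surj (Submonoid.powers s) z
  have hap : Prime (algebraMap R S a) := by
    have := (associated_mul_unit_left z _ (IsLocalization.map_units S m)).symm.prime hzp
    rwa [hza] at this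
  have ha0 : a ≠ 0 := fun h => hap.ne_zero (by rw [h, map_zero])
  obtain ⟨k, a', ha', rfl⟩ := WfDvdMonoid.max_power_factor ha0 hp.irreducible
  have hap' : Prime (algebraMap R S a') := by
    have : IsUnit (algebraMap R S (s ^ k)) := by rw [map_pow]; exact hunit.pow k
    rw [map_mul] at hap
    exact ((associated_unit_mul_left _ _ this).prime_iff).mp hap
  have haI : a' ∈ I := by
    have h1 : algebraMap R S (s ^ k * a') ∈ I.map (algebraMap R S) := by
      rw [← hza]; exact Ideal.mul_mem_right _ _ hzI
    have h2 := IsLocalization.under_map_of_isPrime_disjoint (Submonoid.powers s) S hIp hdisj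
    have h3 : s ^ k * a' ∈ I := h2.le h1
    exact (hIp.mem_or_mem h3).resolve_left fun h => hsI (hIp.mem_of_pow_mem k h)
  refine ⟨a', haI, right_ne_zero_of_mul ha0, fun hu => hIp.ne_top (Ideal.eq_top_of_isUnit_mem I haI hu), fun x y hxy => ?_⟩
  have key : ∀ x : R, algebraMap R S a' ∣ algebraMap R S x → a' ∣ x := by
    rintro x ⟨c, hc⟩
    obtain ⟨⟨c₀, _, j, rfl⟩, hcj⟩ := IsLocalization.surj (Submonoid.powers s) c
    have h5 : a' * c₀ = s ^ j * x := hinjS (by rw [map_mul, map_mul, hc, ← hcj]; ring)
    have h6 : s ^ j ∣ c₀ := hp.pow_dvd_of_dvd_mul_left j ha' ⟨x, h5⟩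
    obtain ⟨c₁, rfl⟩ := h6
    exact ⟨c₁, mul_left_cancel₀ (pow_ne_zero j hs0) (by rw [← h5]; ring)⟩
  have h4 : algebraMap R S a' ∣ algebraMap R S x * algebraMap R S y := by rw [← map_mul]; exact map_dvd _ hxy
  exact (hap'.dvd_or_dvd h4).imp (key x) (key y)

end Groth.Agent.S11278
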