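import Groth.Statements.S11280
import Groth.Agent.NilSmooth.Basic

set_option autoImplicit false
universe u
open Deform

namespace Groth.Agent.S11280

/-- Let k be an algebraically closed field, A a local Artinian k-algebra with residue field k and t an
element of the maximal ideal of A annihilated by the maximal ideal, so that A is a small extension
of A/tA. Let B be a flat A-algebra whose closed fibre B/m_A B is a formally smooth k-algebra (an
infinitesimal deformation over A of a formally smooth k-algebra). Then every A-algebra automorphism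
of B/tB is induced by an A-algebra automorphism of B. (The published statement asks the automorphism
of B/tB to induce the identity on B/m_A B; this row does not. The published statement takes the
closed fibre smooth, that is formally smooth and essentially of finite type; this row asks the
closed fibre to be formally smooth over k in the sense of lifting along all square-zero surjections
of commutative k-algebras, with no finiteness condition.) -/
theorem result
    {k : Type u} [Field k] [IsAlgClosed k]
    {A : Type u} [CommRing A] [Algebra k A] [IsLocalRing A] [IsArtinianRing A]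
    (hres : ∀ a : A, ∃ c : k, a - algebraMap k A c ∈ IsLocalRing.maximalIdeal A)
    (t : A) (ht : t ∈ IsLocalRing.maximalIdeal A)
    (htm : ∀ a ∈ IsLocalRing.maximalIdeal A, a * t = 0)
    {B : Type u} [CommRing B] [Algebra A B] [Module.Flat A B] [Algebra k B] [IsScalarTower k A B]
    (hsm : Algebra.FormallySmooth k (B ⧸ (IsLocalRing.maximalIdeal A).map (algebraMap A B)))
    (σ : (B ⧸ Ideal.span {algebraMap A B t}) ≃ₐ[A] (B ⧸ Ideal.span {algebraMap A B t})) :
    ∃ τ : B ≃ₐ[A] B, ∀ b : B,
      Ideal.Quotient.mk (Ideal.span {algebraMap A B t}) (τ b) =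
        σ (Ideal.Quotient.mk (Ideal.span {algebraMap A B t}) b) := by
  obtain ⟨n, hn⟩ := IsArtinianRing.isNilpotent_jacobson_bot (R := A)
  rw [IsLocalRing.jacobson_eq_maximalIdeal ⊥ bot_ne_top] at hn
  have hn' : IsLocalRing.maximalIdeal A ^ (n + 1) = ⊥ := by rw [pow_succ, hn]; exact Ideal.bot_mul _
  let mB := (IsLocalRing.maximalIdeal A).map (algebraMap A B)
  let e : k →+* A ⧸ IsLocalRing.maximalIdeal A := (Ideal.Quotient.mk _).comp (algebraMap k A)
  have hebij : Function.Bijective e := ⟨e.injective, fun y => by
    obtain ⟨a, rfl⟩ := Ideal.Quotient.mk_surjective y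
    obtain ⟨c, hc⟩ := hres a
    exact ⟨c, (Ideal.Quotient.eq.2 hc).symm⟩⟩
  let g : A ⧸ IsLocalRing.maximalIdeal A →+* B ⧸ mB :=
    Ideal.Quotient.lift _ ((Ideal.Quotient.mk mB).comp (algebraMap A B)) fun a ha =>
      Ideal.Quotient.eq_zero_iff_mem.2 (Ideal.mem_map_of_mem _ ha)
  have hg : g.FormallySmooth := by
    have he : g.comp e = algebraMap k (B ⧸ mB) := RingHom.ext fun c => by
      show Ideal.Quotient.mk mB (algebraMap A B (algebraMap k A c)) = Ideal.Quotient.mk mB (algebraMap k B c)
      rw [← IsScalarTower.algebraMap_apply]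
    have h1 : (g.comp e).FormallySmooth := he ▸ RingHom.formallySmooth_algebraMap.2 hsm
    have h2 := RingHom.FormallySmooth.comp (RingHom.FormallySmooth.of_bijective (RingEquiv.ofBijective e hebij).symm.bijective
      : ((RingEquiv.ofBijective e hebij).symm : A ⧸ IsLocalRing.maximalIdeal A →+* k).FormallySmooth) h1
    convert h2 using 1
    refine RingHom.ext fun y => ?_
    show g y = g (e _)
    exact congrArg g ((RingEquiv.ofBijective e hebij).apply_symm_apply y).symm
  haveI : Algebra.FormallySmooth A B := RingHom.formallySmooth_algebraMap.1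
    (Groth.Agent.NilSmooth.formallySmooth_of_flat_nilpotent n (Ideal.Quotient.mk (IsLocalRing.maximalIdeal A))
      (Ideal.Quotient.mk mB) g Ideal.Quotient.mk_surjective Ideal.Quotient.mk_surjective rfl
      (by rw [Ideal.mk_ker]; exact hn') (by rw [Ideal.mk_ker, Ideal.mk_ker]) hg)
  let π : B →ₐ[A] B ⧸ Ideal.span {algebraMap A B t} := Ideal.Quotient.mkₐ A _
  have hker : IsNilpotent (RingHom.ker π) := ⟨2, by
    rw [pow_two, show RingHom.ker π = Ideal.span {algebraMap A B t} from Ideal.mk_ker, Ideal.span_singleton_mul_span_singleton,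
      ← map_mul, htm t ht, map_zero, Ideal.span_singleton_eq_bot.2 rfl]; rfl⟩
  let lift' : ((B ⧸ Ideal.span {algebraMap A B t}) ≃ₐ[A] (B ⧸ Ideal.span {algebraMap A B t})) → (B →ₐ[A] B) :=
    fun s => Algebra.FormallySmooth.liftOfSurjective (s.toAlgHom.comp π) π Ideal.Quotient.mk_surjective hker
  have hlift : ∀ s b, π (lift' s b) = s (π b) := fun s b =>
    Algebra.FormallySmooth.liftOfSurjective_apply (s.toAlgHom.comp π) π Ideal.Quotient.mk_surjective hker b
  have h1 : Function.Bijective ((lift' σ.symm).comp (lift' σ)) :=
    Groth.Agent.NilSmooth.bijective_of_sub_mem t (htm t ht) _ fun b => Ideal.Quotient.eq.1 (by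
      show π (lift' σ.symm (lift' σ b)) = π b
      rw [hlift, hlift, AlgEquiv.symm_apply_apply])
  have h2 : Function.Bijective ((lift' σ).comp (lift' σ.symm)) :=
    Groth.Agent.NilSmooth.bijective_of_sub_mem t (htm t ht) _ fun b => Ideal.Quotient.eq.1 (by
      show π (lift' σ (lift' σ.symm b)) = π b
      rw [hlift, hlift, AlgEquiv.apply_symm_apply])
  have hbij : Function.Bijective (lift' σ) :=
    ⟨Function.Injective.of_comp (f := lift' σ.symm) h1.1, Function.Surjective.of_comp (g := lift' σ.symm) h2.2⟩
  exact ⟨AlgEquiv.ofBijective (lift' σ) hbij, fun b => hlift σ b⟩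

end Groth.Agent.S11280
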