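import Groth.Statements.S11281
import Groth.Agent.ExalTrunc.Local
import Mathlib

set_option autoImplicit false
universe u
open Deform

namespace Groth.Agent.S11281

open IsLocalRing Groth.Agent.ExalTrunc in
theorem trivial_of_lift {k : Type u} [Field k] {Λ : Type u} [CommRing Λ] [Algebra k Λ]
    {R : Type u} [CommRing R] [Algebra Λ R] [IsLocalRing R] [IsNoetherianRing R]
    (hR : ∀ r : R, ∃ c : k, r - algebraMap Λ R (algebraMap k Λ c) ∈ maximalIdeal R)
    (h : ∀ (B : Type u) [CommRing B] [Algebra Λ B] [IsLocalRing B] [IsArtinianRing B],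
      (∀ b : B, ∃ c : k, b - algebraMap Λ B (algebraMap k Λ c) ∈ maximalIdeal B) →
      ∀ t : B, t ∈ maximalIdeal B → (∀ b ∈ maximalIdeal B, b * t = 0) →
      ∀ φ : R →ₐ[Λ] B ⧸ Ideal.span {t},
        ∃ φ' : R →ₐ[Λ] B, (Ideal.Quotient.mkₐ Λ (Ideal.span {t})).comp φ' = φ)
    (X : Exal.Ext Λ R (ResidueField R)) : X.IsTrivial := by
  obtain ⟨n, hn⟩ := exists_uniform (A := Λ) (maximalIdeal R)
    (fun j hj z => smul_residueField_eq_zero (B := R) hj z)
  have hX := fun x hx h0 => hn n le_rfl X x hx h0
  haveI := isLocalRing_mid X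
  haveI := isNoetherian_residueField (B := R)
  haveI := isNoetherianRing_mid X
  let M := liftIdeal X (maximalIdeal R)
  let I : Ideal X.E := M ^ (n + 1)
  have hM : maximalIdeal X.E = M := Ideal.ext (mem_maximalIdeal_mid X)
  have hIM : I ≤ M := Ideal.pow_le_self (Nat.succ_ne_zero n)
  haveI : Nontrivial (X.E ⧸ I) := Ideal.Quotient.nontrivial_iff.2 fun e =>
    (maximalIdeal.isMaximal X.E).ne_top (top_le_iff.1 (e ▸ hM ▸ hIM))
  haveI : IsLocalRing (X.E ⧸ I) := IsLocalRing.of_surjective' (Ideal.Quotient.mk I) Ideal.Quotient.mk_surjective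
  have hmax : ∀ x : X.E, Ideal.Quotient.mk I x ∈ maximalIdeal (X.E ⧸ I) ↔ x ∈ M := fun x => by
    constructor
    · intro hx
      rw [← hM, IsLocalRing.mem_maximalIdeal]
      exact fun hu => hx (hu.map _)
    · intro hx
      rw [IsLocalRing.mem_maximalIdeal, mem_nonunits_iff]
      intro hu
      obtain ⟨v, hv⟩ := isUnit_iff_exists_inv.1 hu
      obtain ⟨y, rfl⟩ := Ideal.Quotient.mk_surjective v
      rw [← map_mul, ← map_one (Ideal.Quotient.mk I), Ideal.Quotient.eq] at hv
      have h1 : (1 : X.E) ∈ M := (Submodule.sub_mem_iff_right M (Ideal.mul_mem_right y M hx)).1 (hIM hv)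
      exact (maximalIdeal.isMaximal X.E).ne_top ((Ideal.eq_top_iff_one _).2 (hM ▸ h1))
  haveI : IsArtinianRing (X.E ⧸ I) := by
    rw [isArtinianRing_iff_isNilpotent_maximalIdeal]
    refine ⟨n + 1, ?_⟩
    rw [Ideal.zero_eq_bot, ← le_bot_iff, ← Ideal.map_quotient_self I]
    refine (Ideal.pow_right_mono (fun y hy => ?_) (n + 1)).trans (Ideal.map_pow (Ideal.Quotient.mk I) M (n + 1)).ge
    obtain ⟨x, rfl⟩ := Ideal.Quotient.mk_surjective y
    exact Ideal.mem_map_of_mem _ ((hmax x).1 hy)
  let t : X.E ⧸ I := Ideal.Quotient.mk I (X.incl 1)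
  have hp1 : X.proj (X.incl 1) = 0 := Groth.Agent.ExalLib.proj_incl X 1
  have ht : t ∈ maximalIdeal (X.E ⧸ I) := (hmax _).2 (by
    rw [mem_liftIdeal, hp1]; exact zero_mem _)
  let q : X.E →ₐ[Λ] (X.E ⧸ I) ⧸ Ideal.span {t} :=
    (Ideal.Quotient.mkₐ Λ (Ideal.span {t})).comp (Ideal.Quotient.mkₐ Λ I)
  have hker : RingHom.ker X.proj ≤ RingHom.ker q := by
    intro x hx
    obtain ⟨z, rfl⟩ := (X.isExtension.exact x).1 hx
    obtain ⟨r, rfl⟩ := residue_surjective z
    obtain ⟨e, rfl⟩ := X.isExtension.proj_surjective r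
    have h1 : X.incl (residue R (X.proj e)) = e * X.incl 1 := by
      rw [X.isExtension.mul_incl, Algebra.smul_def, mul_one, ResidueField.algebraMap_eq]
    rw [RingHom.mem_ker, h1]
    exact Ideal.Quotient.eq_zero_iff_mem.2 (Ideal.mem_span_singleton'.2 ⟨Ideal.Quotient.mk I e, (map_mul _ _ _).symm⟩)
  let φ := AlgHom.liftOfSurjective X.proj X.isExtension.proj_surjective q hker
  obtain ⟨φ', hφ'⟩ := h (X.E ⧸ I) (fun b => by
    obtain ⟨x, rfl⟩ := Ideal.Quotient.mk_surjective b
    obtain ⟨c, hc⟩ := hR (X.proj x)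
    refine ⟨c, ?_⟩
    rw [show algebraMap Λ (X.E ⧸ I) (algebraMap k Λ c) = Ideal.Quotient.mk I (algebraMap Λ X.E (algebraMap k Λ c)) from rfl,
      ← map_sub, hmax, mem_liftIdeal, map_sub, AlgHom.commutes]
    exact hc) t ht (fun b hb => by
    obtain ⟨x, rfl⟩ := Ideal.Quotient.mk_surjective b
    show Ideal.Quotient.mk I x * Ideal.Quotient.mk I (X.incl 1) = 0
    rw [← map_mul, mul_incl_eq_zero (fun j hj z => smul_residueField_eq_zero (B := R) hj z) ((hmax x).1 hb), map_zero]) φ
  have hgh : ∀ r, ∃ x, X.proj x = AlgHom.id Λ R r ∧ Ideal.Quotient.mk I x = φ' r := by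
    intro r
    obtain ⟨e, rfl⟩ := X.isExtension.proj_surjective r
    have h1 : Ideal.Quotient.mk (Ideal.span {t}) (φ' (X.proj e)) = q e :=
      (DFunLike.congr_fun hφ' (X.proj e)).trans (AlgHom.liftOfSurjective_apply _ _ _ _ e)
    obtain ⟨a, ha⟩ := Ideal.mem_span_singleton'.1 (Ideal.Quotient.eq.1 h1)
    obtain ⟨a', rfl⟩ := Ideal.Quotient.mk_surjective a
    refine ⟨e + a' * X.incl 1, by rw [map_add, map_mul, hp1, mul_zero, add_zero]; rfl, ?_⟩
    rw [map_add, map_mul]
    show Ideal.Quotient.mk I e + Ideal.Quotient.mk I a' * t = _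
    rw [ha]
    exact add_sub_cancel _ _
  obtain ⟨s, hs, -⟩ := exists_lift_pair hX (AlgHom.id Λ R) φ' hgh
  exact ⟨s, hs⟩

open IsLocalRing in
theorem lift_of_trivial {k : Type u} [Field k] {Λ : Type u} [CommRing Λ] [Algebra k Λ]
    {R : Type u} [CommRing R] [Algebra Λ R] [IsLocalRing R]
    (h : ∀ X : Exal.Ext Λ R (ResidueField R), X.IsTrivial)
    (B : Type u) [CommRing B] [Algebra Λ B] [IsLocalRing B]
    (hB : ∀ b : B, ∃ c : k, b - algebraMap Λ B (algebraMap k Λ c) ∈ maximalIdeal B)
    (t : B) (ht : t ∈ maximalIdeal B) (hmt : ∀ b ∈ maximalIdeal B, b * t = 0)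
    (φ : R →ₐ[Λ] B ⧸ Ideal.span {t}) :
    ∃ φ' : R →ₐ[Λ] B, (Ideal.Quotient.mkₐ Λ (Ideal.span {t})).comp φ' = φ := by
  classical
  by_cases ht0 : t = 0
  · subst ht0
    have hinj : Function.Bijective (Ideal.Quotient.mkₐ Λ (Ideal.span {(0 : B)})) := by
      refine ⟨fun x y e => ?_, Ideal.Quotient.mk_surjective⟩
      have := Ideal.Quotient.eq.1 e
      rw [Ideal.span_singleton_zero, Ideal.mem_bot, sub_eq_zero] at this
      exact this
    refine ⟨(AlgEquiv.ofBijective _ hinj).symm.toAlgHom.comp φ, AlgHom.ext fun r => ?_⟩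
    exact (AlgEquiv.ofBijective _ hinj).apply_symm_apply (φ r)
  have hsp : Ideal.span {t} ≤ maximalIdeal B := (Ideal.span_singleton_le_iff_mem (I := maximalIdeal B)).2 ht
  let p : R →+* ResidueField B := (Ideal.Quotient.factor hsp).comp φ.toRingHom
  have hp : ∀ r b, Ideal.Quotient.mk (Ideal.span {t}) b = φ r → residue B b = p r := by
    intro r b e
    show _ = Ideal.Quotient.factor hsp (φ r)
    rw [← e]; rfl
  have hpsurj : Function.Surjective p := by
    intro y
    obtain ⟨b, rfl⟩ := residue_surjective y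
    obtain ⟨c, hc⟩ := hB b
    refine ⟨algebraMap Λ R (algebraMap k Λ c), ?_⟩
    rw [← hp _ (algebraMap Λ B (algebraMap k Λ c)) (φ.commutes _).symm]
    exact (Ideal.Quotient.eq.2 hc).symm
  have hpker : RingHom.ker p = maximalIdeal R := IsLocalRing.eq_maximalIdeal (RingHom.ker_isMaximal_of_surjective p hpsurj)
  let j : ResidueField R →+* ResidueField B := Ideal.Quotient.lift _ p (fun r hr => RingHom.mem_ker.1 (hpker.ge hr))
  have hj : ∀ r, j (residue R r) = p r := fun r => rfl
  choose l hl using residue_surjective (R := B)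
  have hη : ∀ b b' : B, residue B b = residue B b' → b * t = b' * t := fun b b' e => by
    rw [← sub_eq_zero, ← sub_mul]
    exact hmt _ (Ideal.Quotient.eq.1 e)
  let E : Subalgebra Λ (R × B) :=
    AlgHom.equalizer (φ.comp (AlgHom.fst Λ R B)) ((Ideal.Quotient.mkₐ Λ (Ideal.span {t})).comp (AlgHom.snd Λ R B))
  have hmem : ∀ x : R × B, x ∈ E ↔ φ x.1 = Ideal.Quotient.mk (Ideal.span {t}) x.2 := fun x => Iff.rfl
  let X : Exal.Ext Λ R (ResidueField R) :=
    { E := E
      proj := (AlgHom.fst Λ R B).comp E.val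
      incl :=
        { toFun := fun z => ⟨(0, l (j z) * t), (hmem _).2 (by
            rw [map_zero, eq_comm, Ideal.Quotient.eq_zero_iff_mem]
            exact Ideal.mem_span_singleton'.2 ⟨_, rfl⟩)⟩
          map_zero' := Subtype.ext (Prod.ext rfl (by
            show l (j 0) * t = 0
            rw [hη _ 0 (by rw [hl, map_zero, map_zero]), zero_mul]))
          map_add' := fun z w => Subtype.ext (Prod.ext (add_zero 0).symm (by
            show l (j (z + w)) * t = l (j z) * t + l (j w) * t
            rw [← add_mul]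
            exact hη _ _ (by rw [hl, map_add, map_add, hl, hl]))) }
      isExtension :=
        { proj_surjective := fun r => by
            obtain ⟨b, hb⟩ := Ideal.Quotient.mk_surjective (φ r)
            exact ⟨⟨(r, b), (hmem _).2 hb.symm⟩, rfl⟩
          incl_injective := fun z w e => by
            have e' : l (j z) * t = l (j w) * t := congrArg (fun x : E => x.1.2) e
            rw [← sub_eq_zero, ← sub_mul] at e'
            by_contra hne
            have hu : IsUnit (l (j z) - l (j w)) := by
              by_contra hu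
              have := (residue_eq_zero_iff _).2 ((IsLocalRing.mem_maximalIdeal _).2 hu)
              rw [map_sub, hl, hl, sub_eq_zero] at this
              exact hne (j.injective this)
            exact ht0 ((hu.mul_right_eq_zero).1 e')
          exact := fun x => by
            obtain ⟨⟨r, b⟩, hx⟩ := x
            constructor
            · intro (hr : r = 0)
              subst hr
              have hb : Ideal.Quotient.mk (Ideal.span {t}) b = 0 := ((hmem _).1 hx).symm.trans (map_zero φ)
              obtain ⟨a, ha⟩ := Ideal.mem_span_singleton'.1 (Ideal.Quotient.eq_zero_iff_mem.1 hb)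
              obtain ⟨r, hr⟩ := hpsurj (residue B a)
              refine ⟨residue R r, Subtype.ext (Prod.ext rfl ?_)⟩
              show l (j (residue R r)) * t = b
              rw [← ha]
              exact hη _ _ (by rw [hl, hj, hr])
            · rintro ⟨z, hz⟩
              exact (congrArg (fun x : E => x.1.1) hz).symm
          mul_incl := fun x z => by
            obtain ⟨⟨r, b⟩, hx⟩ := x
            refine Subtype.ext (Prod.ext (mul_zero r) ?_)
            show b * (l (j z) * t) = l (j (r • z)) * t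
            rw [← mul_assoc]
            refine hη _ _ ?_
            rw [map_mul, hl, hl, Algebra.smul_def, ResidueField.algebraMap_eq, map_mul, hj,
              hp r b ((hmem _).1 hx).symm] } }
  obtain ⟨s, hs⟩ := h X
  refine ⟨((AlgHom.snd Λ R B).comp E.val).comp s, AlgHom.ext fun r => ?_⟩
  have h1 := (hmem _).1 (s r).2
  rw [show (s r).1.1 = r from hs r] at h1
  exact h1.symm


/-- Let k be an algebraically closed field, Λ a local Noetherian k-algebra with residue field k, and R a
local Noetherian Λ-algebra, with local structure map and residue field k. The following are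
equivalent: (a) every Λ-extension of R by its residue field k is trivial, i.e. the relative
obstruction space o(R/Λ) = Ex_Λ(R, k) vanishes; (b) for every local Artinian Λ-algebra B with
residue field k and every t in the maximal ideal of B annihilated by the maximal ideal, every
Λ-algebra map R → B/tB lifts to a Λ-algebra map R → B (formal smoothness of R over Λ tested on small
extensions of Artinian rings). The test algebras B range over the universe of R. -/
theorem result
    {k : Type u} [Field k] [IsAlgClosed k]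
    {Λ : Type u} [CommRing Λ] [Algebra k Λ] [IsLocalRing Λ] [IsNoetherianRing Λ]
    (hΛ : ∀ a : Λ, ∃ c : k, a - algebraMap k Λ c ∈ IsLocalRing.maximalIdeal Λ)
    {R : Type u} [CommRing R] [Algebra Λ R] [IsLocalRing R] [IsNoetherianRing R]
    [IsLocalHom (algebraMap Λ R)]
    (hR : ∀ r : R, ∃ c : k, r - algebraMap Λ R (algebraMap k Λ c) ∈ IsLocalRing.maximalIdeal R) :
    (∀ X : Exal.Ext Λ R (IsLocalRing.ResidueField R), X.IsTrivial) ↔
    (∀ (B : Type u) [CommRing B] [Algebra Λ B] [IsLocalRing B] [IsArtinianRing B],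
      (∀ b : B, ∃ c : k, b - algebraMap Λ B (algebraMap k Λ c) ∈ IsLocalRing.maximalIdeal B) →
      ∀ t : B, t ∈ IsLocalRing.maximalIdeal B → (∀ b ∈ IsLocalRing.maximalIdeal B, b * t = 0) →
      ∀ φ : R →ₐ[Λ] B ⧸ Ideal.span {t},
        ∃ φ' : R →ₐ[Λ] B, (Ideal.Quotient.mkₐ Λ (Ideal.span {t})).comp φ' = φ) := by
  constructor
  · intro h B _ _ _ _ hB t ht hmt φ
    exact lift_of_trivial h B hB t ht hmt φ
  · intro h X
    exact trivial_of_lift hR h X

end Groth.Agent.S11281
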