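import Groth.Statements.S11282
import Groth.Agent.ExalTrunc.Basic
import Mathlib

set_option autoImplicit false
universe u
open Deform

namespace Groth.Agent.S11282

/-- Let k be an algebraically closed field, Λ a complete local Noetherian k-algebra with residue field
k, and R a local Noetherian Λ-algebra with local structure map, residue field k and maximal ideal m.
Then for some n the pull-back map o((R/m^(n+1))/Λ) → o(R/Λ) on obstruction spaces is onto: every
Λ-extension 0 → k → E → R → 0 of R by its residue field is the inverse image of a Λ-extension of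
R/m^(n+1) by k. Concretely, the middle ring E of every such extension contains an ideal I which
meets the kernel k only in 0 and whose image in R is exactly m^(n+1) (then E/I is an extension of
R/m^(n+1) by k whose inverse image along R → R/m^(n+1) is E). -/
theorem result
    {k : Type u} [Field k] [IsAlgClosed k]
    {Λ : Type u} [CommRing Λ] [Algebra k Λ] [IsLocalRing Λ] [IsNoetherianRing Λ]
    [IsAdicComplete (IsLocalRing.maximalIdeal Λ) Λ]
    (hΛ : ∀ a : Λ, ∃ c : k, a - algebraMap k Λ c ∈ IsLocalRing.maximalIdeal Λ)
    {R : Type u} [CommRing R] [Algebra Λ R] [IsLocalRing R] [IsNoetherianRing R]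
    [IsLocalHom (algebraMap Λ R)]
    (hR : ∀ r : R, ∃ c : k, r - algebraMap Λ R (algebraMap k Λ c) ∈ IsLocalRing.maximalIdeal R) :
    ∃ n : ℕ, ∀ X : Exal.Ext Λ R (IsLocalRing.ResidueField R),
      ∃ I : Ideal X.E, (∀ x ∈ I, X.proj x = 0 → x = 0) ∧
        Ideal.map X.proj I = IsLocalRing.maximalIdeal R ^ (n + 1) := by
  obtain ⟨n, hn⟩ := Groth.Agent.ExalTrunc.exists_uniform (A := Λ)
    (L := IsLocalRing.ResidueField R) (IsLocalRing.maximalIdeal R) (fun j hj z => by
      rw [Algebra.smul_def, IsLocalRing.ResidueField.algebraMap_eq,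
        (IsLocalRing.residue_eq_zero_iff j).2 hj, zero_mul])
  refine ⟨n, fun X => ⟨Groth.Agent.ExalTrunc.liftIdeal X (IsLocalRing.maximalIdeal R) ^ (n + 1),
    fun x hx h0 => hn n le_rfl X x hx h0, ?_⟩⟩
  exact Groth.Agent.ExalTrunc.map_liftIdeal_pow X _ _

end Groth.Agent.S11282
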