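import Groth.Statements.S11283
import Groth.Agent.ExalTrunc.Basic
import Groth.Agent.FormalStalk.Completion
import Mathlib

set_option autoImplicit false
universe u
open Deform

namespace Groth.Agent.S11283

open Groth.Agent.ExalTrunc

section

variable {A R S L : Type u} [CommRing A] [CommRing R] [CommRing S] [Algebra A R] [Algebra A S] [Algebra R S]
  [IsScalarTower A R S] [AddCommGroup L] [Module S L] [Module R L] [IsScalarTower R S L]
  (J : Ideal R) (N : ℕ) (e : S →ₐ[A] R ⧸ J ^ N)
  (he : ∀ r, e (algebraMap R S r) = Ideal.Quotient.mk (J ^ N) r)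
  (hker : ∀ s, e s = 0 ↔ s ∈ (J.map (algebraMap R S)) ^ N)

include he hker in
theorem sub_mem_of_eq {s : S} {r : R} (h : e s = Ideal.Quotient.mk (J ^ N) r) :
    s - algebraMap R S r ∈ (J.map (algebraMap R S)) ^ N := by
  rw [← hker, map_sub, he, h, sub_self]

theorem fst_mem_liftIdeal_pow (X : Exal.Ext A S L) {q : (X.pullback R).E}
    (hq : q ∈ liftIdeal (X.pullback R) J ^ N) : q.1.1 ∈ liftIdeal X (J.map (algebraMap R S)) ^ N := by
  let π1 : (X.pullback R).E →ₐ[A] X.E := (AlgHom.fst A X.E R).comp (X.fiberProd R).val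
  have h1 : (liftIdeal (X.pullback R) J).map π1 ≤ liftIdeal X (J.map (algebraMap R S)) := by
    refine Ideal.map_le_iff_le_comap.2 fun p hp => ?_
    show X.proj p.1.1 ∈ J.map (algebraMap R S)
    rw [show X.proj p.1.1 = algebraMap R S p.1.2 from p.2]
    exact Ideal.mem_map_of_mem _ hp
  have h2 := Ideal.mem_map_of_mem π1 hq
  rw [Ideal.map_pow] at h2
  exact Ideal.pow_right_mono h1 N h2

variable (hS : ∀ (X : Exal.Ext A S L) (x : X.E),
    x ∈ liftIdeal X (J.map (algebraMap R S)) ^ N → X.proj x = 0 → x = 0)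
  (hR : ∀ (X : Exal.Ext A R L) (x : X.E), x ∈ liftIdeal X J ^ N → X.proj x = 0 → x = 0)

include he hker hS in
theorem equiv_of_pullback_equiv (X X' : Exal.Ext A S L) (g : (X.pullback R).Equiv (X'.pullback R)) :
    Nonempty (X.Equiv X') := by
  let I : Ideal X.E := liftIdeal X (J.map (algebraMap R S)) ^ N
  let I' : Ideal X'.E := liftIdeal X' (J.map (algebraMap R S)) ^ N
  let π : (X.pullback R).E →ₐ[A] X.E ⧸ I :=
    (Ideal.Quotient.mkₐ A I).comp ((AlgHom.fst A X.E R).comp (X.fiberProd R).val)
  have hπ : ∀ x : X.E, ∃ p : (X.pullback R).E, π p = Ideal.Quotient.mk I x ∧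
      X.proj x - algebraMap R S p.1.2 ∈ (J.map (algebraMap R S)) ^ N := by
    intro x
    obtain ⟨r, hr⟩ := Ideal.Quotient.mk_surjective (e (X.proj x))
    have hd := sub_mem_of_eq J N e he hker hr.symm
    obtain ⟨x', h1, h2⟩ := exists_of_trunc (X := X) (J := J.map (algebraMap R S)) (N := N) x
      (b := algebraMap R S r) (by rw [← neg_sub]; exact neg_mem hd)
    exact ⟨⟨(x', r), h1⟩, h2, hd⟩
  let π' : (X.pullback R).E →ₐ[A] X'.E ⧸ I' :=
    ((Ideal.Quotient.mkₐ A I').comp ((AlgHom.fst A X'.E R).comp (X'.fiberProd R).val)).comp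
      g.toAlgEquiv.toAlgHom
  have hkk : RingHom.ker π ≤ RingHom.ker π' := by
    intro p hp
    have hp1 : p.1.1 ∈ I := Ideal.Quotient.eq_zero_iff_mem.1 hp
    have hp2 : (X.pullback R).proj p ∈ J ^ N := by
      rw [← Ideal.Quotient.eq_zero_iff_mem, ← he, hker]
      show algebraMap R S p.1.2 ∈ _
      rw [← show X.proj p.1.1 = algebraMap R S p.1.2 from p.2]
      exact proj_mem_pow hp1
    obtain ⟨q, hq, hq'⟩ := exists_mem_pow_of_mem (X.pullback R) J hp2
    obtain ⟨z, hz⟩ := Groth.Agent.ExalLib.exists_incl (X.pullback R) (x := p) (y := q) hq'.symm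
    have hq1 := fst_mem_liftIdeal_pow J N X hq
    have hz1 : p.1.1 = q.1.1 + X.incl z := congrArg (fun w : (X.pullback R).E => w.1.1) hz
    have hz0 : X.incl z = 0 := hS X _ (by
      rw [show X.incl z = p.1.1 - q.1.1 by rw [hz1]; ring]
      exact sub_mem hp1 hq1) (Groth.Agent.ExalLib.proj_incl X z)
    have hpq : p = q := by
      rw [hz, X.isExtension.incl_injective (hz0.trans (map_zero _).symm), map_zero, add_zero]
    subst hpq
    have hgq : g.toAlgEquiv p ∈ liftIdeal (X'.pullback R) J ^ N := by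
      have h3 : (liftIdeal (X.pullback R) J).map g.toAlgEquiv.toAlgHom ≤ liftIdeal (X'.pullback R) J := by
        refine Ideal.map_le_iff_le_comap.2 fun w hw => ?_
        show (X'.pullback R).proj (g.toAlgEquiv w) ∈ J
        rw [g.proj_apply]
        exact hw
      have h4 := Ideal.mem_map_of_mem g.toAlgEquiv.toAlgHom hq
      rw [Ideal.map_pow] at h4
      exact Ideal.pow_right_mono h3 N h4
    exact Ideal.Quotient.eq_zero_iff_mem.2 (fst_mem_liftIdeal_pow J N X' hgq)
  have hsurj : Function.Surjective π := fun y => by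
    obtain ⟨x, rfl⟩ := Ideal.Quotient.mk_surjective y
    obtain ⟨p, hp, -⟩ := hπ x
    exact ⟨p, hp⟩
  let φ := AlgHom.liftOfSurjective π hsurj π' hkk
  let h : X.E →ₐ[A] X'.E ⧸ I' := φ.comp (Ideal.Quotient.mkₐ A I)
  have hh : ∀ p : (X.pullback R).E, h p.1.1 = Ideal.Quotient.mk I' (g.toAlgEquiv p).1.1 := fun p =>
    AlgHom.liftOfSurjective_apply π hsurj π' hkk p
  have hgh : ∀ x, ∃ x', X'.proj x' = X.proj x ∧ Ideal.Quotient.mk I' x' = h x := by
    intro x
    obtain ⟨p, hp, hd⟩ := hπ x
    have h5 : h x = Ideal.Quotient.mk I' (g.toAlgEquiv p).1.1 := by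
      rw [← hh p]
      exact congrArg φ hp.symm
    have h6 : X'.proj (g.toAlgEquiv p).1.1 = algebraMap R S p.1.2 := by
      rw [show X'.proj (g.toAlgEquiv p).1.1 = algebraMap R S (g.toAlgEquiv p).1.2 from (g.toAlgEquiv p).2]
      exact congrArg _ (g.proj_apply p)
    rw [h5]
    exact exists_of_trunc (X := X') (J := J.map (algebraMap R S)) (N := N) _ (by rwa [h6])
  obtain ⟨f, hf1, hf2⟩ := exists_lift_pair (hS X') X.proj h hgh
  refine ⟨Groth.Agent.ExalLib.mkEquiv f hf1 fun z => eq_of_trunc (hS X') ?_ ((hf2 _).trans ?_)⟩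
  · rw [hf1, Groth.Agent.ExalLib.proj_incl, Groth.Agent.ExalLib.proj_incl]
  · refine (hh ((X.pullback R).incl z)).trans ?_
    rw [g.apply_incl]
    rfl

include he hker hR in
theorem exists_pullback_equiv (hN : N ≠ 0)
    (hkill : ∀ j ∈ J.map (algebraMap R S), ∀ z : L, j • z = 0) (Y : Exal.Ext A R L) :
    ∃ X : Exal.Ext A S L, Nonempty ((X.pullback R).Equiv Y) := by
  let I : Ideal Y.E := liftIdeal Y J ^ N
  let q : Y.E ⧸ I →ₐ[A] R ⧸ J ^ N :=
    Ideal.Quotient.liftₐ I ((Ideal.Quotient.mkₐ A (J ^ N)).comp Y.proj)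
      (fun y hy => Ideal.Quotient.eq_zero_iff_mem.2 (proj_mem_pow hy))
  let F : Subalgebra A (S × (Y.E ⧸ I)) :=
    AlgHom.equalizer (e.comp (AlgHom.fst A S (Y.E ⧸ I))) (q.comp (AlgHom.snd A S (Y.E ⧸ I)))
  have hF : ∀ x : S × (Y.E ⧸ I), x ∈ F ↔ e x.1 = q x.2 := fun x => Iff.rfl
  have hincl : ∀ z, ((0 : S), Ideal.Quotient.mk I (Y.incl z)) ∈ F := fun z => by
    rw [hF, map_zero]
    show _ = Ideal.Quotient.mk (J ^ N) (Y.proj (Y.incl z))
    rw [Groth.Agent.ExalLib.proj_incl, map_zero]
  let X : Exal.Ext A S L :=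
    { E := F
      proj := (AlgHom.fst A S (Y.E ⧸ I)).comp F.val
      incl :=
        { toFun := fun z => ⟨(0, Ideal.Quotient.mk I (Y.incl z)), hincl z⟩
          map_zero' := Subtype.ext (Prod.ext rfl (by
            show Ideal.Quotient.mk I (Y.incl 0) = 0
            rw [map_zero, map_zero]))
          map_add' := fun z w => Subtype.ext (Prod.ext (add_zero 0).symm (by
            show Ideal.Quotient.mk I (Y.incl (z + w)) = _
            rw [map_add, map_add]; rfl)) }
      isExtension :=
        { proj_surjective := fun s => by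
            obtain ⟨r, hr⟩ := Ideal.Quotient.mk_surjective (e s)
            obtain ⟨y, rfl⟩ := Y.isExtension.proj_surjective r
            exact ⟨⟨(s, Ideal.Quotient.mk I y), (hF _).2 hr.symm⟩, rfl⟩
          incl_injective := fun z w h => by
            refine Y.isExtension.incl_injective (eq_of_trunc (hR Y) ?_ (congrArg (fun x : F => x.1.2) h))
            rw [Groth.Agent.ExalLib.proj_incl, Groth.Agent.ExalLib.proj_incl]
          exact := fun x => by
            obtain ⟨⟨s, yb⟩, hx⟩ := x
            constructor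
            · intro (hs : s = 0)
              subst hs
              obtain ⟨y, rfl⟩ := Ideal.Quotient.mk_surjective yb
              have h1 : Ideal.Quotient.mk (J ^ N) (Y.proj y) = 0 := ((hF _).1 hx).symm.trans (map_zero e)
              obtain ⟨y0, h0, h0'⟩ := exists_mem_pow_of_mem Y J (Ideal.Quotient.eq_zero_iff_mem.1 h1)
              obtain ⟨z, hz⟩ := Groth.Agent.ExalLib.exists_incl Y h0'.symm
              refine ⟨z, Subtype.ext (Prod.ext rfl (Ideal.Quotient.eq.2 ?_))⟩
              rw [hz, show Y.incl z - (y0 + Y.incl z) = -y0 by ring]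
              exact neg_mem h0
            · rintro ⟨z, hz⟩
              exact (congrArg (fun x : F => x.1.1) hz).symm
          mul_incl := fun x z => by
            obtain ⟨⟨s, yb⟩, hx⟩ := x
            obtain ⟨y, rfl⟩ := Ideal.Quotient.mk_surjective yb
            refine Subtype.ext (Prod.ext (mul_zero s) ?_)
            show Ideal.Quotient.mk I y * Ideal.Quotient.mk I (Y.incl z) = Ideal.Quotient.mk I (Y.incl (s • z))
            rw [← map_mul, Y.isExtension.mul_incl]
            have hd := sub_mem_of_eq J N e he hker (show e s = Ideal.Quotient.mk (J ^ N) (Y.proj y) from (hF _).1 hx)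
            have := hkill _ (Ideal.pow_le_self hN hd) z
            rw [sub_smul, sub_eq_zero, algebraMap_smul] at this
            rw [this] } }
  let T : Y.E →ₐ[A] X.E :=
    ((((IsScalarTower.toAlgHom A R S).comp Y.proj).prod (Ideal.Quotient.mkₐ A I)).codRestrict F
      fun y => he (Y.proj y))
  let T' : Y.E →ₐ[A] (X.pullback R).E :=
    (T.prod Y.proj).codRestrict (X.fiberProd R) fun y => rfl
  refine ⟨X, ⟨(Groth.Agent.ExalLib.mkEquiv T' (fun y => rfl) fun z => ?_).symm⟩⟩
  refine Subtype.ext (Prod.ext (Subtype.ext (Prod.ext ?_ rfl)) (Groth.Agent.ExalLib.proj_incl Y z))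
  show algebraMap R S (Y.proj (Y.incl z)) = 0
  rw [Groth.Agent.ExalLib.proj_incl, map_zero]

end

theorem smul_eq_zero_of_simple {R L : Type u} [CommRing R] [IsLocalRing R] [AddCommGroup L] [Module R L]
    [IsSimpleModule R L] {j : R} (hj : j ∈ IsLocalRing.maximalIdeal R) (z : L) : j • z = 0 := by
  obtain ⟨I, hI, ⟨eL⟩⟩ := isSimpleModule_iff_quot_maximal.1 ‹IsSimpleModule R L›
  apply eL.injective
  rw [map_smul, map_zero]
  obtain ⟨a, ha⟩ := Ideal.Quotient.mk_surjective (eL z)
  rw [← ha]
  refine Ideal.Quotient.eq_zero_iff_mem.2 ?_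
  exact I.mul_mem_right a (IsLocalRing.eq_maximalIdeal hI ▸ hj)


/-- Let k be an algebraically closed field, Λ a complete local Noetherian k-algebra with residue field
k, R a local Noetherian Λ-algebra with local structure map and residue field k, and R̂ the
completion of R at its maximal ideal. Let L be a simple R-module (a one-dimensional k-vector space
on which R acts through its residue field) carrying a compatible R̂-module structure. Then inverse
image of Λ-extensions along R → R̂ induces a bijection o(R̂/Λ) → o(R/Λ) on classes of Λ-extensions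
by L: two Λ-extensions of R̂ by L whose inverse images over R are equivalent are equivalent, and
every Λ-extension of R by L is equivalent to the inverse image of one of R̂. -/
theorem result
    {k : Type u} [Field k] [IsAlgClosed k]
    {Λ : Type u} [CommRing Λ] [Algebra k Λ] [IsLocalRing Λ] [IsNoetherianRing Λ]
    [IsAdicComplete (IsLocalRing.maximalIdeal Λ) Λ]
    (hΛ : ∀ a : Λ, ∃ c : k, a - algebraMap k Λ c ∈ IsLocalRing.maximalIdeal Λ)
    {R : Type u} [CommRing R] [Algebra Λ R] [IsLocalRing R] [IsNoetherianRing R]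
    [IsLocalHom (algebraMap Λ R)]
    (hR : ∀ r : R, ∃ c : k, r - algebraMap Λ R (algebraMap k Λ c) ∈ IsLocalRing.maximalIdeal R)
    (L : Type u) [AddCommGroup L] [Module (AdicCompletion (IsLocalRing.maximalIdeal R) R) L] [Module R L]
    [IsScalarTower R (AdicCompletion (IsLocalRing.maximalIdeal R) R) L] [IsSimpleModule R L] :
    (∀ X X' : Exal.Ext Λ (AdicCompletion (IsLocalRing.maximalIdeal R) R) L,
        Nonempty ((X.pullback R).Equiv (X'.pullback R)) → Nonempty (X.Equiv X')) ∧
    (∀ Y : Exal.Ext Λ R L, ∃ X : Exal.Ext Λ (AdicCompletion (IsLocalRing.maximalIdeal R) R) L,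
        Nonempty ((X.pullback R).Equiv Y)) := by
  let J := IsLocalRing.maximalIdeal R
  have hkR : ∀ j ∈ J, ∀ z : L, j • z = 0 := fun j hj z => smul_eq_zero_of_simple hj z
  have hkS : ∀ j ∈ J.map (algebraMap R (AdicCompletion J R)), ∀ z : L, j • z = 0 := by
    intro j hj
    induction hj using Submodule.span_induction with
    | mem j hj =>
      obtain ⟨r, hr, rfl⟩ := hj
      intro z
      rw [algebraMap_smul, hkR r hr]
    | zero => intro z; rw [zero_smul]
    | add a b _ _ ha hb => intro z; rw [add_smul, ha, hb, add_zero]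
    | smul a b _ hb => intro z; rw [smul_eq_mul, mul_smul, hb, smul_zero]
  have : IsNoetherianRing (AdicCompletion J R) :=
    Groth.Agent.ResExt.isNoetherianRing_adicCompletion J (IsNoetherian.noetherian J)
  obtain ⟨n₁, hn₁⟩ := Groth.Agent.ExalTrunc.exists_uniform (A := Λ) (L := L) J hkR
  obtain ⟨n₂, hn₂⟩ := Groth.Agent.ExalTrunc.exists_uniform (A := Λ) (L := L)
    (J.map (algebraMap R (AdicCompletion J R))) hkS
  let N := n₁ + n₂ + 1
  let e : AdicCompletion J R →ₐ[Λ] R ⧸ J ^ N := (AdicCompletion.evalₐ J N).restrictScalars Λ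
  have he : ∀ r, e (algebraMap R (AdicCompletion J R) r) = Ideal.Quotient.mk (J ^ N) r :=
    fun r => Groth.Agent.FormalStalk.evalₐ_algebraMap J N r
  have hker : ∀ s, e s = 0 ↔ s ∈ (J.map (algebraMap R (AdicCompletion J R))) ^ N := fun s => by
    rw [← Groth.Agent.FormalStalk.ker_evalₐ J (IsNoetherian.noetherian J) N]
    exact Iff.rfl
  have hS : ∀ (X : Exal.Ext Λ (AdicCompletion J R) L) (x : X.E),
      x ∈ Groth.Agent.ExalTrunc.liftIdeal X (J.map (algebraMap R (AdicCompletion J R))) ^ N →
        X.proj x = 0 → x = 0 := fun X x hx h0 => hn₂ (n₁ + n₂) (by omega) X x hx h0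
  have hR' : ∀ (X : Exal.Ext Λ R L) (x : X.E),
      x ∈ Groth.Agent.ExalTrunc.liftIdeal X J ^ N → X.proj x = 0 → x = 0 :=
    fun X x hx h0 => hn₁ (n₁ + n₂) (by omega) X x hx h0
  exact ⟨fun X X' ⟨g⟩ => equiv_of_pullback_equiv J N e he hker hS X X' g,
    fun Y => exists_pullback_equiv J N e he hker hR' (Nat.succ_ne_zero _) hkS Y⟩

end Groth.Agent.S11283
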