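import Groth.Statements.S11287
import Groth.Agent.ExalTrunc.Trivial
import Groth.Agent.ExalTrunc.Basic
import Groth.Agent.ArtPow.Basic
import Mathlib

set_option autoImplicit false
universe u
open Deform

namespace Groth.Agent.S11287

set_option backward.isDefEq.respectTransparency false

open Groth.Agent.ExalTrunc

attribute [local instance] Exal.opModule Exal.isCentralScalar_opModule

section

variable {A P L : Type u} [CommRing A] [CommRing P] [Algebra A P] (J : Ideal P) [AddCommGroup L]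
  [Module (P ⧸ J) L] [Module P L] [IsScalarTower P (P ⧸ J) L]

/-- The map from the trivial extension of `P` determined by a lift. -/
noncomputable def evalLift (X : Exal.Ext A (P ⧸ J) L) (u : P →ₐ[A] X.E)
    (hu : ∀ p, X.proj (u p) = Ideal.Quotient.mk J p) :
    (Exal.Ext.trivial A P L).E →ₐ[A] X.E where
  toFun := fun x => u (TrivSqZeroExt.fst (x : TrivSqZeroExt P L)) + X.incl (TrivSqZeroExt.snd (x : TrivSqZeroExt P L))
  map_one' := by
    show u (TrivSqZeroExt.fst (1 : TrivSqZeroExt P L)) + X.incl (TrivSqZeroExt.snd (1 : TrivSqZeroExt P L)) = 1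
    rw [TrivSqZeroExt.fst_one, TrivSqZeroExt.snd_one, map_one, map_zero, add_zero]
  map_mul' := fun (x y : TrivSqZeroExt P L) => by
    show u (x * y).fst + X.incl (x * y).snd = (u x.fst + X.incl x.snd) * (u y.fst + X.incl y.snd)
    have h1 : u x.fst * X.incl y.snd = X.incl (x.fst • y.snd) := by
      rw [X.isExtension.mul_incl, hu, ← Ideal.Quotient.algebraMap_eq, algebraMap_smul]
    have h2 : u y.fst * X.incl x.snd = X.incl (y.fst • x.snd) := by
      rw [X.isExtension.mul_incl, hu, ← Ideal.Quotient.algebraMap_eq, algebraMap_smul]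
    rw [TrivSqZeroExt.fst_mul, TrivSqZeroExt.snd_mul, map_mul, op_smul_eq_smul, map_add, ← h1, ← h2]
    linear_combination -Groth.Agent.ExalLib.incl_mul_incl X x.snd y.snd
  map_zero' := by
    show u (TrivSqZeroExt.fst (0 : TrivSqZeroExt P L)) + X.incl (TrivSqZeroExt.snd (0 : TrivSqZeroExt P L)) = 0
    rw [TrivSqZeroExt.fst_zero, TrivSqZeroExt.snd_zero, map_zero, map_zero, add_zero]
  map_add' := fun (x y : TrivSqZeroExt P L) => by
    show u (x + y).fst + X.incl (x + y).snd = (u x.fst + X.incl x.snd) + (u y.fst + X.incl y.snd)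
    rw [TrivSqZeroExt.fst_add, TrivSqZeroExt.snd_add, map_add, map_add]
    abel
  commutes' := fun a => by
    show u (TrivSqZeroExt.fst (TrivSqZeroExt.inl (algebraMap A P a) : TrivSqZeroExt P L))
      + X.incl (TrivSqZeroExt.snd (TrivSqZeroExt.inl (algebraMap A P a) : TrivSqZeroExt P L)) = _
    rw [TrivSqZeroExt.fst_inl, TrivSqZeroExt.snd_inl, map_zero, add_zero, AlgHom.commutes]

theorem evalLift_apply (X : Exal.Ext A (P ⧸ J) L) (u : P →ₐ[A] X.E)
    (hu : ∀ p, X.proj (u p) = Ideal.Quotient.mk J p) (x : TrivSqZeroExt P L) :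
    evalLift J X u hu x = u x.fst + X.incl x.snd := rfl

theorem evalLift_surjective (X : Exal.Ext A (P ⧸ J) L) (u : P →ₐ[A] X.E)
    (hu : ∀ p, X.proj (u p) = Ideal.Quotient.mk J p) : Function.Surjective (evalLift J X u hu) := by
  intro y
  obtain ⟨p, hp⟩ := Ideal.Quotient.mk_surjective (X.proj y)
  obtain ⟨z, hz⟩ := Groth.Agent.ExalLib.exists_incl X (x := y) (y := u p) (by rw [hu, hp])
  exact ⟨(TrivSqZeroExt.inl p + TrivSqZeroExt.inr z : TrivSqZeroExt P L), by
    rw [evalLift_apply, hz]; simp⟩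

theorem equiv_of_eq (X X' : Exal.Ext A (P ⧸ J) L) (u : P →ₐ[A] X.E) (u' : P →ₐ[A] X'.E)
    (hu : ∀ p, X.proj (u p) = Ideal.Quotient.mk J p) (hu' : ∀ p, X'.proj (u' p) = Ideal.Quotient.mk J p)
    (h : ∀ j ∈ J, ∃ z : L, X.incl z = u j ∧ X'.incl z = u' j) : Nonempty (X.Equiv X') := by
  have hk : RingHom.ker (evalLift J X u hu) ≤ RingHom.ker (evalLift J X' u' hu') := by
    intro (x : TrivSqZeroExt P L) hx
    rw [RingHom.mem_ker] at hx ⊢
    rw [evalLift_apply] at hx ⊢
    have hj : x.fst ∈ J := by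
      have := congrArg X.proj hx
      rw [map_add, hu, Groth.Agent.ExalLib.proj_incl, add_zero, map_zero] at this
      exact Ideal.Quotient.eq_zero_iff_mem.1 this
    obtain ⟨z, hz, hz'⟩ := h _ hj
    rw [← hz, ← map_add] at hx
    rw [← hz', ← map_add, X.isExtension.incl_injective (hx.trans (map_zero _).symm), map_zero]
  let f := AlgHom.liftOfSurjective _ (evalLift_surjective J X u hu) (evalLift J X' u' hu') hk
  have hf : ∀ x, f (evalLift J X u hu x) = evalLift J X' u' hu' x := fun x =>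
    AlgHom.liftOfSurjective_apply _ _ _ _ x
  refine ⟨Groth.Agent.ExalLib.mkEquiv f (fun y => ?_) fun z => ?_⟩
  · obtain ⟨(x : TrivSqZeroExt P L), rfl⟩ := evalLift_surjective J X u hu y
    rw [hf, evalLift_apply, evalLift_apply, map_add, map_add, hu, hu', Groth.Agent.ExalLib.proj_incl,
      Groth.Agent.ExalLib.proj_incl]
  · have e := hf (TrivSqZeroExt.inr z : TrivSqZeroExt P L)
    rw [evalLift_apply, evalLift_apply, TrivSqZeroExt.fst_inr, TrivSqZeroExt.snd_inr, map_zero, map_zero,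
      zero_add, zero_add] at e
    exact e

theorem eq_of_equiv (M : Ideal P) (hJ : J ≤ M ^ 2) (hM : ∀ p ∈ M, ∀ z : L, p • z = 0)
    (X X' : Exal.Ext A (P ⧸ J) L) (u : P →ₐ[A] X.E) (u' : P →ₐ[A] X'.E)
    (hu : ∀ p, X.proj (u p) = Ideal.Quotient.mk J p) (hu' : ∀ p, X'.proj (u' p) = Ideal.Quotient.mk J p)
    (g : X.Equiv X') (j : P) (hj : j ∈ J) : ∃ z : L, X.incl z = u j ∧ X'.incl z = u' j := by
  have key : ∀ q ∈ M ^ 2, g.toAlgEquiv (u q) = u' q := by
    intro q hq
    rw [pow_two] at hq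
    refine Submodule.mul_induction_on hq (fun a ha b hb => ?_) (fun a b ha hb => by
      rw [map_add, map_add, map_add, ha, hb])
    obtain ⟨za, hza⟩ := Groth.Agent.ExalLib.exists_incl X' (x := g.toAlgEquiv (u a)) (y := u' a)
      (by rw [g.proj_apply, hu, hu'])
    obtain ⟨zb, hzb⟩ := Groth.Agent.ExalLib.exists_incl X' (x := g.toAlgEquiv (u b)) (y := u' b)
      (by rw [g.proj_apply, hu, hu'])
    have h1 : u' a * X'.incl zb = 0 := by
      rw [X'.isExtension.mul_incl, hu', ← Ideal.Quotient.algebraMap_eq, algebraMap_smul, hM a ha, map_zero]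
    have h2 : u' b * X'.incl za = 0 := by
      rw [X'.isExtension.mul_incl, hu', ← Ideal.Quotient.algebraMap_eq, algebraMap_smul, hM b hb, map_zero]
    rw [map_mul, map_mul, map_mul, hza, hzb]
    linear_combination h1 + h2 + Groth.Agent.ExalLib.incl_mul_incl X' za zb
  obtain ⟨z, hz⟩ := (X.isExtension.exact (u j)).1 (by rw [hu]; exact Ideal.Quotient.eq_zero_iff_mem.2 hj)
  exact ⟨z, hz, by rw [← key j (hJ hj), ← hz, g.apply_incl]⟩

theorem exists_ext_of_linear (hJL : ∀ j ∈ J, ∀ z : L, j • z = 0) (δ : J →ₗ[P] L) :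
    ∃ (X : Exal.Ext A (P ⧸ J) L) (u : P →ₐ[A] X.E),
      (∀ p, X.proj (u p) = Ideal.Quotient.mk J p) ∧ ∀ j : J, X.incl (δ j) = u j := by
  let T := Exal.Ext.trivial A P L
  let K : Ideal T.E :=
    { carrier := {x | ∃ j : J, (TrivSqZeroExt.inl (j : P) - TrivSqZeroExt.inr (δ j) : TrivSqZeroExt P L) = x}
      zero_mem' := ⟨0, by
        show (TrivSqZeroExt.inl (0 : P) - TrivSqZeroExt.inr (δ 0) : TrivSqZeroExt P L) = 0
        rw [map_zero]; simp⟩
      add_mem' := by
        rintro (a : TrivSqZeroExt P L) (b : TrivSqZeroExt P L) ⟨i, hi⟩ ⟨j, hj⟩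
        refine ⟨i + j, ?_⟩
        show (TrivSqZeroExt.inl ((i : P) + (j : P)) - TrivSqZeroExt.inr (δ (i + j)) : TrivSqZeroExt P L) = a + b
        rw [map_add, ← hi, ← hj, TrivSqZeroExt.inl_add, TrivSqZeroExt.inr_add]
        abel
      smul_mem' := by
        rintro (c : TrivSqZeroExt P L) (a : TrivSqZeroExt P L) ⟨j, hj⟩
        refine ⟨c.fst • j, ?_⟩
        show _ = c * a
        rw [← hj]
        refine TrivSqZeroExt.ext ?_ ?_
        · simp
        · simp [hJL _ j.2] }
  have hK : ∀ x : TrivSqZeroExt P L, (x : T.E) ∈ K ↔ ∃ h : x.fst ∈ J, x.snd = -δ ⟨x.fst, h⟩ := by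
    intro x
    constructor
    · rintro ⟨j, hj⟩
      have h1 : x.fst = (j : P) := by rw [← hj]; simp
      refine ⟨h1 ▸ j.2, ?_⟩
      rw [show (⟨x.fst, h1 ▸ j.2⟩ : J) = j from Subtype.ext h1, ← hj]
      simp
    · rintro ⟨h, e⟩
      exact ⟨⟨x.fst, h⟩, TrivSqZeroExt.ext (by simp) (by simp [e])⟩
  let pr : T.E ⧸ K →ₐ[A] P ⧸ J := Ideal.Quotient.liftₐ K ((Ideal.Quotient.mkₐ A J).comp T.proj)
    (fun (x : TrivSqZeroExt P L) hx => Ideal.Quotient.eq_zero_iff_mem.2 ((hK x).1 hx).1)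
  let X : Exal.Ext A (P ⧸ J) L :=
    { E := T.E ⧸ K
      proj := pr
      incl := (Ideal.Quotient.mk K).toAddMonoidHom.comp T.incl
      isExtension :=
        { proj_surjective := fun r => by
            obtain ⟨p, rfl⟩ := Ideal.Quotient.mk_surjective r
            exact ⟨Ideal.Quotient.mk K (TrivSqZeroExt.inl p : TrivSqZeroExt P L), rfl⟩
          incl_injective := by
            rw [injective_iff_map_eq_zero]
            intro z hz
            obtain ⟨h, e⟩ := (hK (TrivSqZeroExt.inr z)).1 (Ideal.Quotient.eq_zero_iff_mem.1 hz)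
            rw [TrivSqZeroExt.snd_inr] at e
            rw [e, show (⟨(TrivSqZeroExt.inr z : TrivSqZeroExt P L).fst, h⟩ : J) = 0 from Subtype.ext rfl,
              map_zero, neg_zero]
          exact := fun q => by
            obtain ⟨(x : TrivSqZeroExt P L), rfl⟩ := Ideal.Quotient.mk_surjective q
            constructor
            · intro (hx : Ideal.Quotient.mk J x.fst = 0)
              have hj := Ideal.Quotient.eq_zero_iff_mem.1 hx
              refine ⟨x.snd + δ ⟨x.fst, hj⟩, Ideal.Quotient.eq.2 ((hK _).2 ⟨?_, ?_⟩)⟩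
              · show (0 : P) - x.fst ∈ J
                rw [zero_sub]; exact neg_mem hj
              · show x.snd + δ ⟨x.fst, hj⟩ - x.snd = -δ ⟨(0 : P) - x.fst, _⟩
                rw [show (⟨(0 : P) - x.fst, _⟩ : J) = -⟨x.fst, hj⟩ from Subtype.ext (zero_sub _), map_neg, neg_neg]
                abel
            · rintro ⟨z, hz⟩
              rw [← hz]
              exact map_zero (Ideal.Quotient.mk J)
          mul_incl := fun q z => by
            obtain ⟨(x : TrivSqZeroExt P L), rfl⟩ := Ideal.Quotient.mk_surjective q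
            show Ideal.Quotient.mk K x * Ideal.Quotient.mk K (T.incl z) =
              Ideal.Quotient.mk K (T.incl (Ideal.Quotient.mk J x.fst • z))
            rw [← Ideal.Quotient.algebraMap_eq J, algebraMap_smul]
            exact (map_mul _ _ _).symm.trans (congrArg _ (T.isExtension.mul_incl x z)) } }
  obtain ⟨σ, hσ⟩ := Groth.Agent.ExalTrunc.isTrivial_trivial (A := A) (B := P) (L := L)
  refine ⟨X, (Ideal.Quotient.mkₐ A K).comp
    ({ toRingHom := (TrivSqZeroExt.inlHom P L : P →+* TrivSqZeroExt P L), commutes' := fun _ => rfl } : P →ₐ[A] T.E),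
    fun p => rfl, fun j => Ideal.Quotient.eq.2 ((hK _).2 ⟨?_, ?_⟩)⟩
  · show (0 : P) - (j : P) ∈ J
    rw [zero_sub]; exact neg_mem j.2
  · show δ j - 0 = -δ ⟨(0 : P) - (j : P), _⟩
    rw [show (⟨(0 : P) - (j : P), _⟩ : J) = -j from Subtype.ext (zero_sub _), map_neg, neg_neg, sub_zero]

end

open IsLocalRing MvPowerSeries in
theorem exists_lift {Λ : Type u} [CommRing Λ] [IsNoetherianRing Λ] {d : ℕ}
    (J : Ideal (MvPowerSeries (Fin d) Λ)) {L : Type u} [AddCommGroup L] [Module (MvPowerSeries (Fin d) Λ ⧸ J) L]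
    (hL : ∀ j ∈ Ideal.span (Set.range fun i => Ideal.Quotient.mk J (X i)), ∀ z : L, j • z = 0)
    (Y : Exal.Ext Λ (MvPowerSeries (Fin d) Λ ⧸ J) L) :
    ∃ u : MvPowerSeries (Fin d) Λ →ₐ[Λ] Y.E, ∀ p, Y.proj (u p) = Ideal.Quotient.mk J p := by
  let M : Ideal (MvPowerSeries (Fin d) Λ ⧸ J) := Ideal.span (Set.range fun i => Ideal.Quotient.mk J (X i))
  obtain ⟨n, hn⟩ := exists_uniform (A := Λ) (L := L) M hL
  have hY := fun x hx h0 => hn n le_rfl Y x hx h0
  let I : Ideal Y.E := liftIdeal Y M ^ (n + 1)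
  choose e he using fun i => Y.isExtension.proj_surjective (Ideal.Quotient.mk J (X i : MvPowerSeries (Fin d) Λ))
  have heM : ∀ i, e i ∈ liftIdeal Y M := fun i => by
    rw [mem_liftIdeal, he]; exact Ideal.subset_span ⟨i, rfl⟩
  have hnil : ∀ i, IsNilpotent (Ideal.Quotient.mk I (e i)) := fun i =>
    ⟨n + 1, by rw [← map_pow, Ideal.Quotient.eq_zero_iff_mem]; exact Ideal.pow_mem_pow (heM i) _⟩
  let h : MvPowerSeries (Fin d) Λ →ₐ[Λ] Y.E ⧸ I := Groth.Agent.ArtPow.evalNil _ hnil
  let q : Y.E ⧸ I →ₐ[Λ] (MvPowerSeries (Fin d) Λ ⧸ J) ⧸ M ^ (n + 1) :=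
    Ideal.Quotient.liftₐ I ((Ideal.Quotient.mkₐ Λ (M ^ (n + 1))).comp Y.proj)
      (fun y hy => Ideal.Quotient.eq_zero_iff_mem.2 (proj_mem_pow hy))
  have hqh : q.comp h = (Ideal.Quotient.mkₐ Λ (M ^ (n + 1))).comp (Ideal.Quotient.mkₐ Λ J) := by
    refine Groth.Agent.ArtPow.algHom_ext (I := M.map (Ideal.Quotient.mk (M ^ (n + 1)))) (N := n + 1)
      (by rw [← Ideal.map_pow, Ideal.map_quotient_self]) (fun i => ?_) (fun i => ?_)
    · rw [AlgHom.comp_apply, Groth.Agent.ArtPow.evalNil_X]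
      show Ideal.Quotient.mk (M ^ (n + 1)) (Y.proj (e i)) = _
      rw [he]; rfl
    · rw [AlgHom.comp_apply, Groth.Agent.ArtPow.evalNil_X]
      show Ideal.Quotient.mk (M ^ (n + 1)) (Y.proj (e i)) ∈ _
      exact Ideal.mem_map_of_mem _ (heM i)
  have hgh : ∀ p, ∃ x, Y.proj x = Ideal.Quotient.mkₐ Λ J p ∧ Ideal.Quotient.mk I x = h p := by
    intro p
    obtain ⟨x0, hx0⟩ := Ideal.Quotient.mk_surjective (h p)
    obtain ⟨x, h1, h2⟩ := exists_of_trunc (X := Y) (J := M) (N := n + 1) x0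
      (b := Ideal.Quotient.mkₐ Λ J p) (by
        rw [← Ideal.Quotient.eq]
        have := DFunLike.congr_fun hqh p
        rw [AlgHom.comp_apply, ← hx0] at this
        exact this.symm)
    exact ⟨x, h1, h2.trans hx0⟩
  obtain ⟨u, hu, -⟩ := exists_lift_pair hY (Ideal.Quotient.mkₐ Λ J) h hgh
  exact ⟨u, hu⟩


/-- Let k be an algebraically closed field, Λ a complete local Noetherian k-algebra with residue field
k, P = Λ[[X_1, …, X_d]] the power series ring, J an ideal of P contained in (X_1, …, X_d)^2, R =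
P/J, and L a simple R-module (a copy of the residue field k). Then: (a) for every Λ-extension 0 → L
→ E → R → 0 the quotient map P → R lifts to a Λ-algebra map u : P → E; (b) for two such extensions
E, E' with lifts u, u', the extensions are equivalent if and only if u and u' send every element of
J to the images of the same element of L (the restrictions J → L of the lifts agree); (c) every
P-linear map J → L is the restriction of a lift for some extension. Thus the classes of Λ-extensions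
of R by L correspond bijectively to Hom_P(J, L), the dual of J/m_P J; this is the identification of
the obstruction space o(R/Λ) for a complete R (the general case reduces to it by passing to the
completion). -/
theorem result
    {k : Type u} [Field k] [IsAlgClosed k]
    {Λ : Type u} [CommRing Λ] [Algebra k Λ] [IsLocalRing Λ] [IsNoetherianRing Λ]
    [IsAdicComplete (IsLocalRing.maximalIdeal Λ) Λ]
    (hΛ : ∀ a : Λ, ∃ c : k, a - algebraMap k Λ c ∈ IsLocalRing.maximalIdeal Λ)
    (d : ℕ) (J : Ideal (MvPowerSeries (Fin d) Λ))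
    (hJ : J ≤ Ideal.span (Set.range (MvPowerSeries.X : Fin d → MvPowerSeries (Fin d) Λ)) ^ 2)
    (L : Type u) [AddCommGroup L] [Module (MvPowerSeries (Fin d) Λ ⧸ J) L] [Module (MvPowerSeries (Fin d) Λ) L]
    [IsScalarTower (MvPowerSeries (Fin d) Λ) (MvPowerSeries (Fin d) Λ ⧸ J) L] [IsSimpleModule (MvPowerSeries (Fin d) Λ ⧸ J) L] :
    (∀ X : Exal.Ext Λ (MvPowerSeries (Fin d) Λ ⧸ J) L,
        ∃ u : MvPowerSeries (Fin d) Λ →ₐ[Λ] X.E, ∀ p, X.proj (u p) = Ideal.Quotient.mk J p) ∧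
    (∀ (X X' : Exal.Ext Λ (MvPowerSeries (Fin d) Λ ⧸ J) L) (u : MvPowerSeries (Fin d) Λ →ₐ[Λ] X.E) (u' : MvPowerSeries (Fin d) Λ →ₐ[Λ] X'.E),
        (∀ p, X.proj (u p) = Ideal.Quotient.mk J p) → (∀ p, X'.proj (u' p) = Ideal.Quotient.mk J p) →
        (Nonempty (X.Equiv X') ↔ ∀ j ∈ J, ∃ z : L, X.incl z = u j ∧ X'.incl z = u' j)) ∧
    (∀ δ : J →ₗ[MvPowerSeries (Fin d) Λ] L, ∃ (X : Exal.Ext Λ (MvPowerSeries (Fin d) Λ ⧸ J) L) (u : MvPowerSeries (Fin d) Λ →ₐ[Λ] X.E),
        (∀ p, X.proj (u p) = Ideal.Quotient.mk J p) ∧ ∀ j : J, X.incl (δ j) = u j) := by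
  let P := MvPowerSeries (Fin d) Λ
  let M : Ideal P := Ideal.span (Set.range MvPowerSeries.X)
  have hJM : J ≤ M := hJ.trans (Ideal.pow_le_self two_ne_zero)
  have hM1 : ∀ p ∈ M, MvPowerSeries.constantCoeff p = 0 := fun p hp => by
    have hle : M ≤ RingHom.ker (MvPowerSeries.constantCoeff (σ := Fin d) (R := Λ)) :=
      Ideal.span_le.2 (by rintro _ ⟨i, rfl⟩; exact MvPowerSeries.constantCoeff_X i)
    exact hle hp
  have hJ1 : J ≠ ⊤ := fun e => one_ne_zero
    (map_one (MvPowerSeries.constantCoeff (σ := Fin d) (R := Λ)) ▸ hM1 1 (hJM (e ▸ trivial)))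
  have : Nontrivial (P ⧸ J) := Ideal.Quotient.nontrivial_iff.2 hJ1
  have : IsLocalRing (P ⧸ J) := IsLocalRing.of_surjective' (Ideal.Quotient.mk J) Ideal.Quotient.mk_surjective
  have hX : ∀ i, Ideal.Quotient.mk J (MvPowerSeries.X i) ∈ IsLocalRing.maximalIdeal (P ⧸ J) := by
    intro i
    rw [IsLocalRing.mem_maximalIdeal, mem_nonunits_iff]
    intro hu
    obtain ⟨v, hv⟩ := isUnit_iff_exists_inv.1 hu
    obtain ⟨y, rfl⟩ := Ideal.Quotient.mk_surjective v
    rw [← map_mul, ← map_one (Ideal.Quotient.mk J), Ideal.Quotient.eq] at hv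
    have := hM1 _ (hJM hv)
    simp at this
  have hkill : ∀ j ∈ Ideal.span (Set.range fun i => Ideal.Quotient.mk J (MvPowerSeries.X i : P)),
      ∀ z : L, j • z = 0 := by
    intro j hj z
    obtain ⟨I, hI, ⟨eL⟩⟩ := isSimpleModule_iff_quot_maximal.1 ‹IsSimpleModule (P ⧸ J) L›
    have hjm : j ∈ I := by
      rw [IsLocalRing.eq_maximalIdeal hI]
      exact (Ideal.span_le (I := IsLocalRing.maximalIdeal (P ⧸ J))).2 (by rintro _ ⟨i, rfl⟩; exact hX i) hj
    apply eL.injective
    rw [map_smul, map_zero]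
    obtain ⟨a, ha⟩ := Ideal.Quotient.mk_surjective (eL z)
    rw [← ha]
    exact Ideal.Quotient.eq_zero_iff_mem.2 (I.mul_mem_right a hjm)
  have hMkill : ∀ p ∈ M, ∀ z : L, p • z = 0 := fun p hp z => by
    rw [← algebraMap_smul (P ⧸ J) p z]
    refine hkill _ ?_ z
    have := Ideal.mem_map_of_mem (Ideal.Quotient.mk J) hp
    rw [Ideal.map_span, ← Set.range_comp] at this
    exact this
  refine ⟨fun X => exists_lift J hkill X, ?_, fun δ => ?_⟩
  · intro X X' u u' hu hu'
    constructor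
    · rintro ⟨g⟩ j hj
      exact eq_of_equiv J M hJ hMkill X X' u u' hu hu' g j hj
    · exact equiv_of_eq J X X' u u' hu hu'
  · exact exists_ext_of_linear J (fun j hj z => hMkill j (hJM hj) z) δ

end Groth.Agent.S11287
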