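import Groth.Statements.S11288
import Groth.Agent.ObsBound.Residue
import Mathlib.LinearAlgebra.Dual.Lemmas
import Mathlib.Tactic.LinearCombination

set_option autoImplicit false
universe u
open Deform

namespace Groth.Agent.S11288

/-- Let K be a field, R' a local Artinian K-algebra with residue field K, and t a nonzero element of the
maximal ideal m' of R' with m' t = 0, so that R' → R = R'/(t) is a small extension of R. Then the
extension is trivial, i.e. the projection admits a section which is a K-algebra map, if and only if
t is not in m'^2; equivalently, iff the surjection m'/m'^2 → m_R/m_R^2 induced on cotangent spaces,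
whose kernel is spanned by the class of t, is not bijective. For instance K[t]/(t^(n+1)) →
K[t]/(t^n) is a non-trivial small extension for n ≥ 2. (The published example allows any local
K-algebra with residue field K; the row takes R' Artinian, the case in which the subalgebra
generated by lifts of a basis of the cotangent space maps onto R.) -/
theorem result
    {K : Type u} [Field K]
    {R' : Type u} [CommRing R'] [Algebra K R'] [IsLocalRing R'] [IsArtinianRing R']
    (hres : ∀ a : R', ∃ c : K, a - algebraMap K R' c ∈ IsLocalRing.maximalIdeal R')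
    (t : R') (ht : t ∈ IsLocalRing.maximalIdeal R') (ht0 : t ≠ 0)
    (htm : ∀ a ∈ IsLocalRing.maximalIdeal R', a * t = 0) :
    (∃ s : (R' ⧸ Ideal.span {t}) →ₐ[K] R', ∀ x, Ideal.Quotient.mk (Ideal.span {t}) (s x) = x) ↔
      t ∉ IsLocalRing.maximalIdeal R' ^ 2 := by
  classical
  constructor
  · rintro ⟨s, hs⟩ ht2
    have key : ∀ x ∈ IsLocalRing.maximalIdeal R' ^ 2, s (Ideal.Quotient.mk _ x) = x := by
      intro x hx
      rw [pow_two] at hx
      induction hx using Submodule.mul_induction_on' with
      | mem_mul_mem a ha b hb =>
        obtain ⟨p, hp⟩ := Ideal.mem_span_singleton'.1 (Ideal.Quotient.eq.1 (hs (Ideal.Quotient.mk _ a)))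
        obtain ⟨q, hq⟩ := Ideal.mem_span_singleton'.1 (Ideal.Quotient.eq.1 (hs (Ideal.Quotient.mk _ b)))
        rw [map_mul, map_mul, show s (Ideal.Quotient.mk _ a) = a + p * t by rw [hp]; ring,
          show s (Ideal.Quotient.mk _ b) = b + q * t by rw [hq]; ring]
        linear_combination q * htm a ha + p * htm b hb + p * q * htm t ht
      | add a _ b _ ha hb => rw [map_add, map_add, ha, hb]
    apply ht0
    rw [← key t ht2, Ideal.Quotient.eq_zero_iff_mem.2 (Ideal.mem_span_singleton_self t), map_zero]
  · intro ht2
    have hne : (IsLocalRing.maximalIdeal R').toCotangent ⟨t, ht⟩ ≠ 0 := fun h => ht2 ((Ideal.toCotangent_eq_zero _ _).1 h)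
    obtain ⟨ℓ₀, hℓ₀⟩ : ∃ ℓ : Module.Dual K (IsLocalRing.CotangentSpace R'), ℓ ((IsLocalRing.maximalIdeal R').toCotangent ⟨t, ht⟩) ≠ 0 := by
      by_contra hc
      push Not at hc
      exact hne ((Module.forall_dual_apply_eq_zero_iff K _).1 hc)
    set a₀ := ℓ₀ ((IsLocalRing.maximalIdeal R').toCotangent ⟨t, ht⟩)
    obtain ⟨c, D, hc, hadd, hmul, hC, hℓ⟩ := Groth.Agent.ObsBound.exists_split hres (a₀⁻¹ • ℓ₀)
    have hDt : D t = 1 := by
      rw [show D t = _ from hℓ ⟨t, ht⟩, LinearMap.smul_apply, smul_eq_mul]
      exact inv_mul_cancel₀ hℓ₀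
    have hat : ∀ a : R', a * t = algebraMap K R' (c a) * t := fun a => by linear_combination htm _ (hc a)
    let r : R' →ₐ[K] R' :=
      { toFun := fun a => a - algebraMap K R' (D a) * t
        map_one' := by rw [← map_one (algebraMap K R'), hC, map_zero, zero_mul, sub_zero]
        map_mul' := fun a b => by
          simp only [hmul, map_add, map_mul]
          linear_combination algebraMap K R' (D b) * hat a + algebraMap K R' (D a) * hat b -
            algebraMap K R' (D a) * algebraMap K R' (D b) * htm t ht
        map_zero' := by rw [← map_zero (algebraMap K R'), hC, map_zero, zero_mul, sub_zero]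
        map_add' := fun a b => by simp only [hadd, map_add]; ring
        commutes' := fun x => by simp only [hC, map_zero, zero_mul, sub_zero] }
    refine ⟨Ideal.Quotient.liftₐ _ r fun a ha => ?_, fun x => ?_⟩
    · obtain ⟨u, rfl⟩ := Ideal.mem_span_singleton'.1 ha
      rw [map_mul, show r t = 0 by show t - algebraMap K R' (D t) * t = 0; rw [hDt, map_one, one_mul, sub_self], mul_zero]
    · obtain ⟨x, rfl⟩ := Ideal.Quotient.mk_surjective x
      show Ideal.Quotient.mk _ (x - algebraMap K R' (D x) * t) = Ideal.Quotient.mk _ x
      rw [map_sub, map_mul, Ideal.Quotient.eq_zero_iff_mem.2 (Ideal.mem_span_singleton_self t), mul_zero, sub_zero]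

end Groth.Agent.S11288
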