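import Groth.Statements.S11289
import Groth.Agent.DefLift.Rigid

set_option autoImplicit false
universe u
open CategoryTheory CategoryTheory.Limits AlgebraicGeometry
open Deform

namespace Groth.Agent.S11289

/-- Let k be an algebraically closed field and X a nonsingular variety over k (an integral scheme,
separated, quasi-compact and smooth over Spec k). Call X rigid when every infinitesimal deformation
of X is trivial: for every local Artinian k-algebra A with a k-algebra augmentation e : A → k, every
scheme Y flat over Spec A and every morphism i : X → Y making X the fibre of Y over the closed point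
Spec k → Spec A, there is an isomorphism of Y with the product X ×_k Spec A over Spec A under which
i becomes the canonical inclusion of X. Then X is rigid if and only if H^1(X, T_X) = 0, written here
as the vanishing of Ext^1(Ω_{X/k}, O_X) in the category of O_X-modules (the same group, Ω_{X/k}
being locally free). The Artinian algebras A range over the universe of X. -/
theorem result
    {k : Type u} [Field k] [IsAlgClosed k]
    (X : Scheme.{u}) [X.Over (Spec (CommRingCat.of k))] [IsIntegral X]
    [Smooth (X ↘ Spec (CommRingCat.of k))] [IsSeparated (X ↘ Spec (CommRingCat.of k))]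
    [QuasiCompact (X ↘ Spec (CommRingCat.of k))] [HasExt.{u} X.Modules] :
    (∀ (A : Type u) [CommRing A] [Algebra k A] [IsLocalRing A] [IsArtinianRing A] (e : A →ₐ[k] k)
        (Y : Scheme.{u}) (f : Y ⟶ Spec (CommRingCat.of A)) (i : X ⟶ Y), Flat f →
        IsPullback i (X ↘ Spec (CommRingCat.of k)) f (Spec.map (CommRingCat.ofHom e.toRingHom)) →
        ∃ φ : Y ≅ pullback (X ↘ Spec (CommRingCat.of k)) (Spec.map (CommRingCat.ofHom (algebraMap k A))),
          φ.hom ≫ pullback.snd _ _ = f ∧ i ≫ φ.hom ≫ pullback.fst _ _ = 𝟙 X) ↔
    Subsingleton (Abelian.Ext.{u} (Omega.sheaf (X ↘ Spec (CommRingCat.of k))) (Coh.structureModule X) 1) := by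
  refine ⟨fun rigid => ?_, fun h A _ _ _ _ e Y f i hf hc => ?_⟩
  · refine Groth.Agent.DefLift.subsingleton_ext_of_rigid (X ↘ Spec (CommRingCat.of k)) fun Y f i hf hc => ?_
    haveI : IsArtinianRing (DualNumber k) :=
      haveI : Module.Finite k (DualNumber k) := inferInstanceAs (Module.Finite k (k × k))
      IsArtinianRing.of_finite k _
    obtain ⟨φ, hφ, hi⟩ := rigid (DualNumber k) (TrivSqZeroExt.fstHom k k k) Y f i hf hc
    exact ⟨φ.hom ≫ pullback.fst _ _, hi, by rw [Category.assoc, pullback.condition, ← Category.assoc, hφ]⟩
  · haveI := hf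
    refine Groth.Agent.DefLift.exists_trivialisation (X ↘ Spec (CommRingCat.of k)) h A e ?_ Y f i hc
    haveI : (RingHom.ker e.toRingHom).IsMaximal :=
      RingHom.ker_isMaximal_of_surjective _ fun c => ⟨algebraMap k A c, (e.commutes c).trans (by simp)⟩
    rw [IsLocalRing.eq_maximalIdeal ‹(RingHom.ker e.toRingHom).IsMaximal›, ← IsLocalRing.jacobson_eq_maximalIdeal (R := A) ⊥ bot_ne_top]
    exact IsArtinianRing.isNilpotent_jacobson_bot

end Groth.Agent.S11289
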