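import Groth.Statements.S11290
import Groth.Agent.DefLift.FibreLifting
set_option linter.style.haveILetI false

set_option autoImplicit false
universe u
open CategoryTheory CategoryTheory.Limits AlgebraicGeometry
open Deform

namespace Groth.Agent.S11290

/-- Let k be an algebraically closed field and X a nonsingular variety over k (integral, separated,
quasi-compact and smooth over Spec k) with H^2(X, T_X) = 0, written as the vanishing of
Ext^2(Ω_{X/k}, O_X) in the category of O_X-modules. Then X is unobstructed: for every local Artinian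
k-algebra A', every t in the maximal ideal of A' annihilated by the maximal ideal (so that A' → A =
A'/(t) is a small extension), every k-algebra augmentation e : A → k and every infinitesimal
deformation of X over A — a scheme Y flat over Spec A with a morphism i : X → Y making X the fibre
over the point Spec k → Spec A given by e — there are a scheme Y' flat over Spec A' and a morphism Y
→ Y' making Y the base change of Y' along Spec A → Spec A' (a lifting of the deformation to A'). -/
theorem result
    {k : Type u} [Field k] [IsAlgClosed k]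
    (X : Scheme.{u}) [X.Over (Spec (CommRingCat.of k))] [IsIntegral X]
    [Smooth (X ↘ Spec (CommRingCat.of k))] [IsSeparated (X ↘ Spec (CommRingCat.of k))]
    [QuasiCompact (X ↘ Spec (CommRingCat.of k))] [HasExt.{u} X.Modules]
    (h2 : Subsingleton (Abelian.Ext.{u} (Omega.sheaf (X ↘ Spec (CommRingCat.of k))) (Coh.structureModule X) 2))
    (A' : Type u) [CommRing A'] [Algebra k A'] [IsLocalRing A'] [IsArtinianRing A']
    (t : A') (ht : t ∈ IsLocalRing.maximalIdeal A') (htm : ∀ a ∈ IsLocalRing.maximalIdeal A', a * t = 0)
    (e : (A' ⧸ Ideal.span {t}) →ₐ[k] k)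
    (Y : Scheme.{u}) (f : Y ⟶ Spec (CommRingCat.of (A' ⧸ Ideal.span {t}))) (i : X ⟶ Y) (hf : Flat f)
    (hY : IsPullback i (X ↘ Spec (CommRingCat.of k)) f (Spec.map (CommRingCat.ofHom e.toRingHom))) :
    ∃ (Y' : Scheme.{u}) (f' : Y' ⟶ Spec (CommRingCat.of A')) (j : Y ⟶ Y'), Flat f' ∧
      IsPullback j f f' (Spec.map (CommRingCat.ofHom (Ideal.Quotient.mk (Ideal.span {t})))) := by
  let π := Ideal.Quotient.mk (Ideal.span {t})
  have hk : RingHom.ker (e.toRingHom.comp π) = IsLocalRing.maximalIdeal A' := by
    haveI : (RingHom.ker (e.toRingHom.comp π)).IsMaximal := by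
      refine RingHom.ker_isMaximal_of_surjective _ fun c => ⟨algebraMap k A' c, ?_⟩
      change e (Ideal.Quotient.mk _ (algebraMap k A' c)) = c
      exact (e.commutes c).trans (by simp)
    exact IsLocalRing.eq_maximalIdeal inferInstance
  have he : Function.Surjective e.toRingHom := fun c => ⟨algebraMap k _ c, (e.commutes c).trans (by simp)⟩
  have hn : IsNilpotent (RingHom.ker e.toRingHom) := by
    obtain ⟨n, hn⟩ := IsArtinianRing.isNilpotent_jacobson_bot (R := A')
    refine ⟨n, ?_⟩
    rw [← Ideal.map_comap_of_surjective π Ideal.Quotient.mk_surjective (RingHom.ker e.toRingHom),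
      RingHom.comap_ker, hk, ← Ideal.map_pow]
    have : IsLocalRing.maximalIdeal A' = Ideal.jacobson ⊥ :=
      (IsLocalRing.jacobson_eq_maximalIdeal ⊥ bot_ne_top).symm
    rw [this, hn]
    exact Ideal.map_bot.trans rfl
  haveI := hf
  obtain ⟨Y', f', j, hs, hp⟩ := Groth.Agent.DefLift.exists_lifting_of_fibre π Ideal.Quotient.mk_surjective
    e.toRingHom he hn (fun a ha r hr => by
      obtain ⟨c, rfl⟩ := Ideal.mem_span_singleton'.1 (Ideal.mk_ker.le hr)
      rw [← mul_assoc, mul_comm a c, mul_assoc, htm a (hk ▸ ha), mul_zero])
    (by rw [Ideal.mk_ker]; exact Submodule.fg_span_singleton t) f i (X ↘ Spec (CommRingCat.of k)) hY h2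
  haveI := hs
  exact ⟨Y', f', j, inferInstance, hp⟩

end Groth.Agent.S11290
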