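import Groth.Statements.S11291
import Mathlib

set_option autoImplicit false
universe u
open Deform

namespace Groth.Agent.S11291

open MvPolynomial in
theorem exists_minimal_presentation {k : Type u} [Field k] {A : Type u} [CommRing A] [Algebra k A]
    [IsLocalRing A] [IsArtinianRing A]
    (hres : ∀ a : A, ∃ c : k, a - algebraMap k A c ∈ IsLocalRing.maximalIdeal A)
    (hA : IsLocalRing.maximalIdeal A ≠ ⊥) :
    ∃ (n : ℕ) (φ : MvPolynomial (Fin n) k →ₐ[k] A), Function.Surjective φ ∧
      (∀ p, φ p - algebraMap k A (constantCoeff p) ∈ IsLocalRing.maximalIdeal A) ∧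
      RingHom.ker φ ≤ (RingHom.ker (constantCoeff : MvPolynomial (Fin n) k →+* k)) ^ 2 ∧
      RingHom.ker φ ≠ ⊥ := by
  classical
  set m := IsLocalRing.maximalIdeal A with hm
  have hex : ∃ (n : ℕ) (a : Fin n → A), Submodule.span A (Set.range a) = m :=
    Submodule.fg_iff_exists_fin_generating_family.1 (IsNoetherian.noetherian m)
  let n := Nat.find hex
  obtain ⟨a, ha⟩ : ∃ a : Fin n → A, Submodule.span A (Set.range a) = m := Nat.find_spec hex
  have ham : ∀ i, a i ∈ m := fun i => ha ▸ Submodule.subset_span ⟨i, rfl⟩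
  let φ : MvPolynomial (Fin n) k →ₐ[k] A := aeval a
  have hdiff : ∀ p, φ p - algebraMap k A (constantCoeff p) ∈ m := by
    intro p
    induction p using MvPolynomial.induction_on with
    | C c => simp [φ]
    | add p q hp hq =>
      simp only [map_add]
      convert add_mem hp hq using 1
      ring
    | mul_X p i hp =>
      simp only [map_mul, constantCoeff_X, mul_zero, map_zero, sub_zero, φ, aeval_X]
      exact m.mul_mem_left _ (ham i)
  have hinj : ∀ c : k, algebraMap k A c ∈ m → c = 0 := by
    intro c hc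
    by_contra h
    exact (IsLocalRing.mem_maximalIdeal _).1 hc ((isUnit_iff_ne_zero.2 h).map _)
  -- surjectivity
  let S : Submodule k A := LinearMap.range φ.toLinearMap
  have hS : ∀ p, φ p ∈ S := fun p => ⟨p, rfl⟩
  have hstep1 : ∀ y ∈ m, ∃ s ∈ S, y - s ∈ m ^ 2 := by
    intro y hy
    rw [← ha, Submodule.mem_span_range_iff_exists_fun] at hy
    obtain ⟨r, rfl⟩ := hy
    choose c hc using fun i => hres (r i)
    refine ⟨φ (∑ i, C (c i) * X i), hS _, ?_⟩
    rw [map_sum, ← Finset.sum_sub_distrib]
    refine Ideal.sum_mem _ fun i _ => ?_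
    have : r i • a i - φ (C (c i) * X i) = (r i - algebraMap k A (c i)) * a i := by
      simp [φ, sub_mul]
    rw [this, sq]
    exact Ideal.mul_mem_mul (hc i) (ham i)
  have hstep : ∀ j, ∀ x ∈ m ^ (j + 1), ∃ s ∈ S, x - s ∈ m ^ (j + 2) := by
    intro j
    induction j with
    | zero => simpa using hstep1
    | succ j ih =>
      intro x hx
      rw [pow_succ] at hx
      refine Submodule.mul_induction_on hx (fun u hu v hv => ?_) (fun u v hu hv => ?_)
      · obtain ⟨s, ⟨p, rfl⟩, hs⟩ := ih u hu
        obtain ⟨t, ⟨q, rfl⟩, ht⟩ := hstep1 v hv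
        refine ⟨φ (p * q), hS _, ?_⟩
        have hp : φ p ∈ m ^ (j + 1) := by
          have := Ideal.sub_mem _ hu (Ideal.pow_le_pow_right (Nat.le_succ _) hs)
          simpa using this
        have : u * v - φ (p * q) = φ p * (v - φ q) + (u - φ p) * v := by rw [map_mul]; ring
        rw [this, show j + 1 + 2 = (j + 1) + 2 from rfl]
        refine add_mem ?_ ?_
        · rw [pow_add]; exact Ideal.mul_mem_mul hp ht
        · rw [show j + 1 + 2 = (j + 2) + 1 from rfl, pow_succ]; exact Ideal.mul_mem_mul hs hv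
      · obtain ⟨s, hs, hs'⟩ := hu
        obtain ⟨t, ht, ht'⟩ := hv
        refine ⟨s + t, add_mem hs ht, ?_⟩
        convert add_mem hs' ht' using 1
        ring
  obtain ⟨N, hN⟩ : IsNilpotent m := by
    rw [hm, ← IsLocalRing.jacobson_eq_maximalIdeal ⊥ bot_ne_top]
    exact IsArtinianRing.isNilpotent_jacobson_bot
  have hall : ∀ j x, ∃ s ∈ S, x - s ∈ m ^ (j + 1) := by
    intro j
    induction j with
    | zero =>
      intro x
      obtain ⟨c, hc⟩ := hres x
      exact ⟨φ (C c), hS _, by simpa [φ] using hc⟩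
    | succ j ih =>
      intro x
      obtain ⟨s, hs, hs'⟩ := ih x
      obtain ⟨t, ht, ht'⟩ := hstep j _ hs'
      refine ⟨s + t, add_mem hs ht, ?_⟩
      convert ht' using 1
      ring
  have hsurj : Function.Surjective φ := by
    intro x
    obtain ⟨s, ⟨p, rfl⟩, hs⟩ := hall N x
    refine ⟨p, ?_⟩
    have : m ^ (N + 1) = ⊥ := by rw [pow_succ, hN]; simp
    rw [this, Ideal.mem_bot, sub_eq_zero] at hs
    exact hs.symm
  have hker : ∀ p : MvPolynomial (Fin n) k, p - C (constantCoeff p) ∈
      Ideal.span (Set.range (X : Fin n → MvPolynomial (Fin n) k)) := by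
    intro p
    induction p using MvPolynomial.induction_on with
    | C c => simp
    | add p q hp hq =>
      simp only [map_add]
      convert add_mem hp hq using 1
      ring
    | mul_X p i hp =>
      simp only [map_mul, constantCoeff_X, mul_zero, map_zero, sub_zero]
      exact Ideal.mul_mem_left _ _ (Ideal.subset_span ⟨i, rfl⟩)
  refine ⟨n, φ, hsurj, hdiff, ?_, ?_⟩
  · intro p hp
    rw [RingHom.mem_ker] at hp
    have h0 : constantCoeff p = 0 := hinj _ (by
      have := hdiff p; rw [hp, zero_sub, neg_mem_iff] at this; exact this)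
    have hp1 : p ∈ Ideal.span (Set.range (X : Fin n → MvPolynomial (Fin n) k)) := by
      simpa [h0] using hker p
    obtain ⟨r, hr⟩ := (Submodule.mem_span_range_iff_exists_fun _).1 hp1
    have hc : ∀ i, constantCoeff (r i) = 0 := by
      intro j
      by_contra hj
      have hu : IsUnit (φ (r j)) := by
        by_contra hnu
        have h1 := (IsLocalRing.mem_maximalIdeal _).2 hnu
        exact hj (hinj _ (by simpa using m.sub_mem h1 (hdiff (r j))))
      let T : Submodule A A := Submodule.span A (a '' {i | i ≠ j})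
      have hT : m ≤ T := by
        rw [← ha, Submodule.span_le]
        rintro _ ⟨i, rfl⟩
        rcases eq_or_ne i j with rfl | hi
        · have h2 : ∑ l, φ (r l) * a l = 0 := by
            rw [← hr] at hp; simpa [φ] using hp
          rw [← Finset.add_sum_erase _ _ (Finset.mem_univ i)] at h2
          show a i ∈ T
          have h3 : φ (r i) * a i ∈ T := by
            rw [eq_neg_of_add_eq_zero_left h2]
            refine neg_mem (Submodule.sum_mem _ fun l hl => ?_)
            exact T.smul_mem _ (Submodule.subset_span ⟨l, (Finset.mem_erase.1 hl).1, rfl⟩)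
          obtain ⟨u, hu⟩ := hu
          have h4 := T.smul_mem (↑u⁻¹ : A) h3
          rwa [smul_eq_mul, ← hu, ← mul_assoc, Units.inv_mul, one_mul] at h4
        · exact Submodule.subset_span ⟨i, hi, rfl⟩
      have hT' : T = m := le_antisymm (by
        rw [Submodule.span_le]; rintro _ ⟨i, _, rfl⟩; exact ham i) hT
      obtain ⟨n', hn'⟩ : ∃ n', n = n' + 1 := ⟨n - 1, by have := j.2; omega⟩
      have hlt : n' < n := by omega
      have := Nat.find_min hex hlt
      apply this
      let e : Fin n' ≃ {i : Fin n // i ≠ j} := (Fintype.equivFinOfCardEq (by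
        rw [Fintype.card_subtype_compl, Fintype.card_fin, Fintype.card_subtype_eq]; omega)).symm
      refine ⟨fun i => a (e i).1, ?_⟩
      rw [← hT']
      congr 1
      ext x
      constructor
      · rintro ⟨i, rfl⟩; exact ⟨_, (e i).2, rfl⟩
      · rintro ⟨i, hi, rfl⟩; exact ⟨e.symm ⟨i, hi⟩, by simp⟩
    rw [← hr, sq]
    refine Ideal.sum_mem _ fun i _ => ?_
    exact Ideal.mul_mem_mul (RingHom.mem_ker.2 (hc i)) (RingHom.mem_ker.2 (by simp))
  · intro h0
    have hinjφ : Function.Injective φ := by
      rw [injective_iff_map_eq_zero]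
      intro x hx
      have : x ∈ (⊥ : Ideal (MvPolynomial (Fin n) k)) := h0 ▸ RingHom.mem_ker.2 hx
      exact this
    rcases Nat.eq_zero_or_pos n with hn0 | hpos
    · apply hA
      rw [← ha, Submodule.span_eq_bot]
      rintro _ ⟨i, rfl⟩
      exact absurd i.2 (by omega)
    · have h1 : a ⟨0, hpos⟩ ^ N = 0 := by
        have h1 := Ideal.pow_mem_pow (ham ⟨0, hpos⟩) N
        rw [hN, Submodule.zero_eq_bot, Ideal.mem_bot] at h1
        exact h1
      have h2 : (X ⟨0, hpos⟩ : MvPolynomial (Fin n) k) ^ N = 0 := hinjφ (by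
        rw [map_pow, map_zero]; simpa [φ] using h1)
      exact MvPolynomial.X_ne_zero _ (pow_eq_zero_iff'.1 h2).1


/-- Let k be an algebraically closed field and A a local Artinian k-algebra with residue field k and
non-zero maximal ideal, i.e. A is not k. Then the obstruction space o(A) = Ex_k(A, k) is not zero:
there is a k-extension 0 → k → E → A → 0 of A by its residue field which is not trivial (admits no
k-algebra section). Equivalently, k is the only formally smooth object among local Artinian
k-algebras with residue field k. -/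
theorem result
    {k : Type u} [Field k] [IsAlgClosed k]
    {A : Type u} [CommRing A] [Algebra k A] [IsLocalRing A] [IsArtinianRing A]
    (hres : ∀ a : A, ∃ c : k, a - algebraMap k A c ∈ IsLocalRing.maximalIdeal A)
    (hA : IsLocalRing.maximalIdeal A ≠ ⊥) :
    ∃ X : Exal.Ext k A (IsLocalRing.ResidueField A), ¬ X.IsTrivial := by
  classical
  obtain ⟨n, φ, hφ, hdiff, hle, hne⟩ := exists_minimal_presentation hres hA
  let P := MvPolynomial (Fin n) k
  let cc : P →+* k := MvPolynomial.constantCoeff
  let 𝔫 : Ideal P := RingHom.ker cc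
  let I : Ideal P := RingHom.ker φ
  let res := IsLocalRing.residue A
  have hne' : ¬ I ≤ 𝔫 * I := by
    intro h
    obtain ⟨r, hr1, hr⟩ := Submodule.exists_sub_one_mem_and_smul_eq_zero_of_fg_of_le_smul 𝔫 I
      (IsNoetherian.noetherian I) h
    obtain ⟨x, hx, hx0⟩ := Submodule.exists_mem_ne_zero_of_ne_bot hne
    have := hr x hx
    rw [smul_eq_mul, mul_eq_zero] at this
    obtain rfl := this.resolve_right hx0
    rw [RingHom.mem_ker, map_sub, map_zero, map_one] at hr1
    simp at hr1
  obtain ⟨e, heI, he⟩ := SetLike.not_le_iff_exists.1 hne'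
  obtain ⟨lam, hlam, hlamI⟩ := Submodule.exists_dual_map_eq_bot_of_notMem
    (p := (𝔫 * I).restrictScalars k) (x := e) he inferInstance
  let lam' : P →ₗ[k] k := (lam e)⁻¹ • lam
  have hle1 : lam' e = 1 := by simp [lam', hlam]
  have hl0 : ∀ x ∈ 𝔫 * I, lam' x = 0 := by
    intro x hx
    have : lam x ∈ (⊥ : Submodule k k) := hlamI ▸ Submodule.mem_map_of_mem (f := lam) hx
    simp [lam', (Submodule.mem_bot k).1 this]
  have hl : ∀ r : P, ∀ x ∈ I, lam' (r * x) = cc r * lam' x := by
    intro r x hx
    have h1 : (r - MvPolynomial.C (cc r)) * x ∈ 𝔫 * I :=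
      Ideal.mul_mem_mul (RingHom.mem_ker.2 (by rw [map_sub]; exact sub_eq_zero.2 (MvPolynomial.constantCoeff_C _ _).symm)) hx
    have h2 := hl0 _ h1
    rw [sub_mul, map_sub, sub_eq_zero, ← MvPolynomial.smul_eq_C_mul, map_smul, smul_eq_mul] at h2
    exact h2
  let H : Ideal P :=
    { carrier := {x | x ∈ I ∧ lam' x = 0}
      add_mem' := fun ha hb => ⟨add_mem ha.1 hb.1, by rw [map_add, ha.2, hb.2, add_zero]⟩
      zero_mem' := ⟨zero_mem _, map_zero _⟩
      smul_mem' := fun r x hx => ⟨I.mul_mem_left r hx.1, by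
        rw [smul_eq_mul, hl r x hx.1, hx.2, mul_zero]⟩ }
  let ψ : k →+* IsLocalRing.ResidueField A := res.comp (algebraMap k A)
  have hψ : Function.Bijective ψ := by
    refine ⟨ψ.injective, fun z => ?_⟩
    obtain ⟨a, rfl⟩ := IsLocalRing.residue_surjective z
    obtain ⟨c, hc⟩ := hres a
    refine ⟨c, ?_⟩
    exact (Ideal.Quotient.eq.2 hc).symm
  let ψe : k ≃+* IsLocalRing.ResidueField A := RingEquiv.ofBijective ψ hψ
  let proj : (P ⧸ H) →ₐ[k] A := Ideal.Quotient.liftₐ H φ (fun x hx => hx.1)
  let incl : IsLocalRing.ResidueField A →+ (P ⧸ H) :=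
    AddMonoidHom.mk' (fun z => Ideal.Quotient.mk H (MvPolynomial.C (ψe.symm z) * e)) (fun z w => by
      simp only [map_add, add_mul])
  have hproj : ∀ x, proj (Ideal.Quotient.mk H x) = φ x := fun x => rfl
  have hlamC : ∀ c, lam' (MvPolynomial.C c * e) = c := fun c => by
    rw [hl _ _ heI, hle1, mul_one]; exact MvPolynomial.constantCoeff_C _ _
  have hcoh : ∀ z, ψe (ψe.symm z) = z := fun z => ψe.apply_symm_apply z
  have hxe : Exal.IsExtension proj incl := by
    refine ⟨fun a => ?_, ?_, fun x => ?_, fun x z => ?_⟩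
    · obtain ⟨p, rfl⟩ := hφ a
      exact ⟨Ideal.Quotient.mk H p, rfl⟩
    · rw [injective_iff_map_eq_zero]
      intro z hz
      have h1 := (Ideal.Quotient.eq_zero_iff_mem.1 (show Ideal.Quotient.mk H _ = 0 from hz)).2
      rw [hlamC] at h1
      rw [← hcoh z, h1, map_zero]
    · obtain ⟨x, rfl⟩ := Ideal.Quotient.mk_surjective x
      rw [hproj]
      constructor
      · intro hx
        refine ⟨ψe (lam' x), ?_⟩
        show Ideal.Quotient.mk H (MvPolynomial.C (ψe.symm (ψe (lam' x))) * e) = _
        rw [RingEquiv.symm_apply_apply, Ideal.Quotient.eq]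
        exact ⟨I.sub_mem (I.mul_mem_left _ heI) hx, by rw [map_sub, hlamC, sub_self]⟩
      · rintro ⟨z, hz⟩
        have : φ (MvPolynomial.C (ψe.symm z) * e) = φ x := congrArg proj hz
        rw [← this, map_mul, RingHom.mem_ker.1 heI, mul_zero]
    · obtain ⟨x, rfl⟩ := Ideal.Quotient.mk_surjective x
      show Ideal.Quotient.mk H x * Ideal.Quotient.mk H _ =
        Ideal.Quotient.mk H (MvPolynomial.C (ψe.symm (φ x • z)) * e)
      have h2 : ψe.symm (φ x • z) = cc x * ψe.symm z := by
        have h3 : res (φ x) = ψe (cc x) := Ideal.Quotient.eq.2 (hdiff x)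
        rw [Algebra.smul_def, IsLocalRing.ResidueField.algebraMap_eq,
          show IsLocalRing.residue A (φ x) = ψe (cc x) from h3, map_mul, RingEquiv.symm_apply_apply]
      rw [h2, ← map_mul, Ideal.Quotient.eq]
      refine ⟨I.sub_mem (I.mul_mem_left _ (I.mul_mem_left _ heI)) (I.mul_mem_left _ heI), ?_⟩
      rw [map_sub, hl x _ (I.mul_mem_left _ heI), hlamC, hlamC, sub_self]
  refine ⟨{ E := P ⧸ H, proj := proj, incl := incl, isExtension := hxe }, ?_⟩
  rintro ⟨s, hs⟩
  let σ : P →ₐ[k] (P ⧸ H) := s.comp φ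
  have hK : ∀ p : P, proj (Ideal.Quotient.mk H p - σ p) = 0 := fun p => by
    have hs' : proj (s (φ p)) = φ p := hs (φ p)
    rw [map_sub, hproj]; show φ p - proj (s (φ p)) = 0; rw [hs', sub_self]
  have hmul : ∀ (y d : P ⧸ H), proj y ∈ IsLocalRing.maximalIdeal A → proj d = 0 → y * d = 0 := by
    intro y d hy hd
    obtain ⟨z, rfl⟩ := (hxe.exact d).1 hd
    have : proj y • z = 0 := by
      rw [Algebra.smul_def, IsLocalRing.ResidueField.algebraMap_eq,
        (IsLocalRing.residue_eq_zero_iff _).2 hy, zero_mul]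
    rw [hxe.mul_incl, this, map_zero]
  have hm : ∀ p ∈ 𝔫, φ p ∈ IsLocalRing.maximalIdeal A := fun p hp => by
    have := hdiff p
    rw [show MvPolynomial.constantCoeff p = 0 from RingHom.mem_ker.1 hp, map_zero, sub_zero] at this
    exact this
  have hsq : ∀ p ∈ 𝔫 ^ 2, Ideal.Quotient.mk H p = σ p := by
    intro p hp
    rw [sq] at hp
    refine Submodule.mul_induction_on hp (fun u hu v hv => ?_) (fun u v hu hv => ?_)
    · have h1 := hmul (Ideal.Quotient.mk H u) _ (hm u hu) (hK v)
      have h2 := hmul (σ v) _ (by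
        show proj (s (φ v)) ∈ _
        rw [show proj (s (φ v)) = φ v from hs (φ v)]; exact hm v hv) (hK u)
      rw [map_mul, map_mul]
      linear_combination h1 + h2
    · rw [map_add, map_add, hu, hv]
  have := hsq e (hle heI)
  rw [show σ e = 0 by show s (φ e) = 0; rw [RingHom.mem_ker.1 heI, map_zero],
    Ideal.Quotient.eq_zero_iff_mem] at this
  exact one_ne_zero (hle1.symm.trans this.2)

end Groth.Agent.S11291
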