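import Groth.Statements.S11292
import Groth.Agent.ExalTrunc.Trivial
import Mathlib

set_option autoImplicit false
universe u
open Deform

namespace Groth.Agent.S11292

set_option backward.isDefEq.respectTransparency false

attribute [local instance] Exal.opModule Exal.isCentralScalar_opModule

section

variable {k Λ R L : Type u} [CommRing k] [CommRing Λ] [Algebra k Λ] [CommRing R] [Algebra Λ R] [Algebra k R]
  [IsScalarTower k Λ R] [AddCommGroup L] [Module R L] [Module Λ L] [IsScalarTower Λ R L] [Module k L]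
  [IsScalarTower k Λ L] [IsScalarTower k R L]

theorem derivation_extends (h : ∀ X : Exal.Ext Λ R L, X.IsTrivial) (D : Derivation k Λ L) :
    ∃ D' : Derivation k R L, ∀ a : Λ, D' (algebraMap Λ R a) = D a := by
  let X : Exal.Ext Λ R L := Exal.Ext.ofDerivation (C := R) D
  obtain ⟨s, hs⟩ := h X
  refine ⟨Groth.Agent.ExalLib.diffDer (A := k) X s.toRingHom (Groth.Agent.ExalLib.derSec (C := R) D)
    (fun r => (hs r).trans (Groth.Agent.ExalLib.derSec_proj D r).symm)
    (fun r z => by rw [Groth.Agent.ExalLib.derSec_proj])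
    (fun c => by
      rw [Groth.Agent.ExalLib.derSec_algebraMap, IsScalarTower.algebraMap_apply k Λ R c]
      exact s.commutes _), fun a => ?_⟩
  apply X.isExtension.incl_injective
  rw [Groth.Agent.ExalLib.incl_diffDer]
  show s (algebraMap Λ R a) - _ = _
  rw [s.commutes, sub_eq_iff_eq_add']
  rfl

end

section Diff

variable {k R L : Type u} [CommRing k] [CommRing R] [Algebra k R] [AddCommGroup L] [Module R L]
  (Y Y' : Exal.Ext k R L)

/-- Pairs with equal projections. -/
def pairs : Subalgebra k (Y.E × Y'.E) :=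
  AlgHom.equalizer (Y.proj.comp (AlgHom.fst k Y.E Y'.E)) (Y'.proj.comp (AlgHom.snd k Y.E Y'.E))

theorem mem_pairs (x : Y.E × Y'.E) : x ∈ pairs Y Y' ↔ Y.proj x.1 = Y'.proj x.2 := Iff.rfl

/-- The diagonal copy of the kernel module. -/
def diag : Ideal (pairs Y Y') where
  carrier := {x | ∃ z : L, Y.incl z = x.1.1 ∧ Y'.incl z = x.1.2}
  zero_mem' := ⟨0, map_zero _, map_zero _⟩
  add_mem' := by
    rintro a b ⟨z, hz, hz'⟩ ⟨w, hw, hw'⟩
    exact ⟨z + w, by rw [map_add, hz, hw]; rfl, by rw [map_add, hz', hw']; rfl⟩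
  smul_mem' := by
    rintro c a ⟨z, hz, hz'⟩
    refine ⟨Y.proj c.1.1 • z, ?_, ?_⟩
    · rw [← Y.isExtension.mul_incl, hz]; rfl
    · rw [(mem_pairs Y Y' _).1 c.2, ← Y'.isExtension.mul_incl, hz']; rfl

/-- The difference ring. -/
def DiffRing : Type u := pairs Y Y' ⧸ diag Y Y'

noncomputable instance : CommRing (DiffRing Y Y') := Ideal.Quotient.commRing (diag Y Y')

noncomputable instance : Algebra k (DiffRing Y Y') := Ideal.instAlgebraQuotient k (diag Y Y')

/-- The class of a pair. -/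
noncomputable def mkD : pairs Y Y' →ₐ[k] DiffRing Y Y' := Ideal.Quotient.mkₐ k (diag Y Y')

theorem mkD_surjective : Function.Surjective (mkD Y Y') := Ideal.Quotient.mk_surjective

theorem mkD_eq_iff (x y : pairs Y Y') :
    mkD Y Y' x = mkD Y Y' y ↔ ∃ z : L, Y.incl z = (x - y).1.1 ∧ Y'.incl z = (x - y).1.2 :=
  Ideal.Quotient.eq

theorem mkD_eq_zero_iff (x : pairs Y Y') :
    mkD Y Y' x = 0 ↔ ∃ z : L, Y.incl z = x.1.1 ∧ Y'.incl z = x.1.2 :=
  Ideal.Quotient.eq_zero_iff_mem

/-- The projection of the difference ring. -/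
noncomputable def diffProj : DiffRing Y Y' →ₐ[k] R :=
  Ideal.Quotient.liftₐ (diag Y Y') ((Y.proj.comp (AlgHom.fst k Y.E Y'.E)).comp (pairs Y Y').val)
    (by
      rintro x ⟨z, hz, -⟩
      show Y.proj x.1.1 = 0
      rw [← hz, Groth.Agent.ExalLib.proj_incl])

theorem diffProj_mk (x : pairs Y Y') : diffProj Y Y' (mkD Y Y' x) = Y.proj x.1.1 := rfl

/-- The kernel module of the difference ring. -/
noncomputable def diffIncl : L →+ DiffRing Y Y' where
  toFun z := mkD Y Y' ⟨(Y.incl z, 0), (mem_pairs Y Y' _).2 (by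
    rw [Groth.Agent.ExalLib.proj_incl, map_zero])⟩
  map_zero' := by
    rw [mkD_eq_zero_iff]
    exact ⟨0, rfl, map_zero _⟩
  map_add' z w := by
    exact (congrArg (mkD Y Y') (Subtype.ext (Prod.ext (map_add Y.incl z w) (add_zero 0).symm))).trans
      (map_add _ _ _)

theorem isExtension_diff : Exal.IsExtension (diffProj Y Y') (diffIncl Y Y') where
  proj_surjective r := by
    obtain ⟨x, rfl⟩ := Y.isExtension.proj_surjective r
    obtain ⟨y, hy⟩ := Y'.isExtension.proj_surjective (Y.proj x)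
    exact ⟨mkD Y Y' ⟨(x, y), hy.symm⟩, rfl⟩
  incl_injective z w e := by
    obtain ⟨v, hv, hv'⟩ := (mkD_eq_iff Y Y' _ _).1 e
    have h0 : v = 0 := Y'.isExtension.incl_injective (hv'.trans (by simp))
    subst h0
    have h1 : Y.incl z - Y.incl w = 0 := hv.symm.trans (map_zero _)
    exact Y.isExtension.incl_injective (sub_eq_zero.1 h1)
  exact x := by
    obtain ⟨⟨⟨a, b⟩, hab⟩, rfl⟩ := mkD_surjective Y Y' x
    constructor
    · intro (ha : Y.proj a = 0)
      obtain ⟨z, rfl⟩ := (Y.isExtension.exact a).1 ha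
      obtain ⟨w, rfl⟩ := (Y'.isExtension.exact b).1 (((mem_pairs Y Y' _).1 hab).symm.trans ha)
      refine ⟨z - w, (mkD_eq_iff Y Y' _ _).2 ⟨-w, ?_, ?_⟩⟩
      · show Y.incl (-w) = Y.incl (z - w) - Y.incl z
        rw [← map_sub]; congr 1; abel
      · show Y'.incl (-w) = 0 - Y'.incl w
        rw [map_neg, zero_sub]
    · rintro ⟨z, hz⟩
      rw [← hz]
      exact Groth.Agent.ExalLib.proj_incl Y z
  mul_incl x z := by
    obtain ⟨⟨⟨a, b⟩, hab⟩, rfl⟩ := mkD_surjective Y Y' x
    show mkD Y Y' _ * mkD Y Y' _ = mkD Y Y' _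
    refine (map_mul _ _ _).symm.trans (congrArg (mkD Y Y') ?_)
    exact Subtype.ext (Prod.ext (Y.isExtension.mul_incl a z) (mul_zero b))

/-- A section of the difference gives an equivalence. -/
theorem equiv_of_diff_section (s : R →ₐ[k] DiffRing Y Y') (hs : ∀ r, diffProj Y Y' (s r) = r) :
    Nonempty (Y.Equiv Y') := by
  have hex : ∀ x : Y.E, ∃ y : Y'.E, ∃ hxy : (x, y) ∈ pairs Y Y',
      mkD Y Y' ⟨(x, y), hxy⟩ = s (Y.proj x) := by
    intro x
    obtain ⟨⟨⟨a, b⟩, hab⟩, hq⟩ := mkD_surjective Y Y' (s (Y.proj x))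
    have ha : Y.proj a = Y.proj x := (congrArg (diffProj Y Y') hq).trans (hs _)
    obtain ⟨z, rfl⟩ := Groth.Agent.ExalLib.exists_incl Y ha.symm
    refine ⟨b + Y'.incl z, ?_, ((mkD_eq_iff Y Y' _ _).2 ⟨z, ?_, ?_⟩).trans hq⟩
    · rw [mem_pairs]
      show Y.proj (a + Y.incl z) = Y'.proj (b + Y'.incl z)
      rw [map_add, map_add, Groth.Agent.ExalLib.proj_incl, Groth.Agent.ExalLib.proj_incl,
        (mem_pairs Y Y' _).1 hab]
    · show Y.incl z = a + Y.incl z - a
      ring
    · show Y'.incl z = b + Y'.incl z - b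
      ring
  choose f hf hf' using hex
  have huniq : ∀ (x : Y.E) (y : Y'.E) (hxy : (x, y) ∈ pairs Y Y'),
      mkD Y Y' ⟨(x, y), hxy⟩ = s (Y.proj x) → f x = y := by
    intro x y hxy e
    obtain ⟨v, hv, hv'⟩ := (mkD_eq_iff Y Y' _ _).1 ((hf' x).trans e.symm)
    have h0 : v = 0 := Y.isExtension.incl_injective (hv.trans (by simp))
    subst h0
    exact sub_eq_zero.1 (hv'.symm.trans (map_zero _))
  have hone : f 1 = 1 := huniq _ _ (one_mem (pairs Y Y')) (by rw [map_one, map_one]; rfl)
  have hzero : f 0 = 0 := huniq _ _ (zero_mem (pairs Y Y')) (by rw [map_zero, map_zero]; rfl)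
  have hmul : ∀ x y, f (x * y) = f x * f y := fun x y => huniq _ _ (mul_mem (hf x) (hf y)) (by
    rw [map_mul, map_mul, ← hf' x, ← hf' y]; rfl)
  have hadd : ∀ x y, f (x + y) = f x + f y := fun x y => huniq _ _ (add_mem (hf x) (hf y)) (by
    rw [map_add, map_add, ← hf' x, ← hf' y]; rfl)
  have halg : ∀ c : k, f (algebraMap k Y.E c) = algebraMap k Y'.E c := fun c =>
    huniq _ _ ((pairs Y Y').algebraMap_mem c) (by rw [AlgHom.commutes, AlgHom.commutes]; rfl)
  refine ⟨Groth.Agent.ExalLib.mkEquiv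
    { toFun := f, map_one' := hone, map_mul' := hmul, map_zero' := hzero, map_add' := hadd,
      commutes' := halg } (fun x => ((mem_pairs Y Y' _).1 (hf x)).symm) fun z => ?_⟩
  refine huniq _ _ ((mem_pairs Y Y' _).2 (by
    rw [Groth.Agent.ExalLib.proj_incl, Groth.Agent.ExalLib.proj_incl])) ?_
  refine Eq.trans ?_ ((congrArg s (Groth.Agent.ExalLib.proj_incl Y z)).trans (map_zero s)).symm
  exact (mkD_eq_zero_iff Y Y' _).2 ⟨z, rfl, rfl⟩

end Diff

section

variable {k Λ R L : Type u} [CommRing k] [CommRing Λ] [Algebra k Λ] [CommRing R] [Algebra Λ R] [Algebra k R]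
  [IsScalarTower k Λ R] [AddCommGroup L] [Module R L] [Module Λ L] [IsScalarTower Λ R L] [Module k L]
  [IsScalarTower k Λ L] [IsScalarTower k R L]

theorem trivial_diff_of_lift (h : ∀ X : Exal.Ext Λ R L, X.IsTrivial) (Y Y' : Exal.Ext k R L)
    (ρ : Λ →ₐ[k] DiffRing Y Y') (hρ : ∀ a, diffProj Y Y' (ρ a) = algebraMap Λ R a) :
    ∃ s : R →ₐ[k] DiffRing Y Y', ∀ r, diffProj Y Y' (s r) = r := by
  let _ : Algebra Λ (DiffRing Y Y') := ρ.toRingHom.toAlgebra
  let X : Exal.Ext Λ R L :=
    { E := DiffRing Y Y'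
      proj := { toRingHom := (diffProj Y Y').toRingHom, commutes' := hρ }
      incl := diffIncl Y Y'
      isExtension :=
        { proj_surjective := (isExtension_diff Y Y').proj_surjective
          incl_injective := (isExtension_diff Y Y').incl_injective
          exact := (isExtension_diff Y Y').exact
          mul_incl := (isExtension_diff Y Y').mul_incl } }
  obtain ⟨s, hs⟩ := h X
  refine ⟨{ toRingHom := s.toRingHom, commutes' := fun c => ?_ }, hs⟩
  have e := s.commutes (algebraMap k Λ c)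
  rw [← IsScalarTower.algebraMap_apply k Λ R c] at e
  exact e.trans (ρ.commutes c)

theorem exists_rho (Y Y' : Exal.Ext k R L)
    (g : (Y.pullback Λ).Equiv (Y'.pullback Λ)) :
    ∃ ρ : Λ →ₐ[k] DiffRing Y Y', ∀ a, diffProj Y Y' (ρ a) = algebraMap Λ R a := by
  let toPair : (Y.pullback Λ).E →ₐ[k] Y.E × Y'.E :=
    ((AlgHom.fst k Y.E Λ).comp (Y.fiberProd Λ).val).prod
      (((AlgHom.fst k Y'.E Λ).comp (Y'.fiberProd Λ).val).comp g.toAlgEquiv.toAlgHom)
  have hpair : ∀ p, toPair p ∈ pairs Y Y' := fun p => by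
    rw [mem_pairs]
    have h1 : Y.proj p.1.1 = algebraMap Λ R p.1.2 := p.2
    have h2 : Y'.proj (g.toAlgEquiv p).1.1 = algebraMap Λ R (g.toAlgEquiv p).1.2 := (g.toAlgEquiv p).2
    have h3 : (g.toAlgEquiv p).1.2 = p.1.2 := g.proj_apply p
    show Y.proj p.1.1 = Y'.proj (g.toAlgEquiv p).1.1
    rw [h1, h2, h3]
  let ρ0 : (Y.pullback Λ).E →ₐ[k] DiffRing Y Y' :=
    (mkD Y Y').comp (toPair.codRestrict (pairs Y Y') hpair)
  have hρ0 : RingHom.ker (Y.pullback Λ).proj ≤ RingHom.ker ρ0 := by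
    intro p hp
    obtain ⟨z, rfl⟩ := ((Y.pullback Λ).isExtension.exact p).1 hp
    rw [RingHom.mem_ker]
    refine (mkD_eq_zero_iff Y Y' _).2 ⟨z, rfl, ?_⟩
    show Y'.incl z = ((g.toAlgEquiv ((Y.pullback Λ).incl z)).1).1
    rw [g.apply_incl]
    rfl
  refine ⟨AlgHom.liftOfSurjective (Y.pullback Λ).proj (Y.pullback Λ).isExtension.proj_surjective ρ0 hρ0,
    fun a => ?_⟩
  obtain ⟨p, rfl⟩ := (Y.pullback Λ).isExtension.proj_surjective a
  rw [AlgHom.liftOfSurjective_apply]
  exact p.2

theorem pullback_injective (h : ∀ X : Exal.Ext Λ R L, X.IsTrivial) (Y Y' : Exal.Ext k R L)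
    (g : (Y.pullback Λ).Equiv (Y'.pullback Λ)) : Nonempty (Y.Equiv Y') := by
  obtain ⟨ρ, hρ⟩ := exists_rho Y Y' g
  obtain ⟨s, hs⟩ := trivial_diff_of_lift h Y Y' ρ hρ
  exact equiv_of_diff_section Y Y' s hs

theorem trivial_of_conditions
    (ha : ∀ D : Derivation k Λ L, ∃ D' : Derivation k R L, ∀ a : Λ, D' (algebraMap Λ R a) = D a)
    (hb : ∀ Y Y' : Exal.Ext k R L, Nonempty ((Y.pullback Λ).Equiv (Y'.pullback Λ)) → Nonempty (Y.Equiv Y'))
    (X : Exal.Ext Λ R L) : X.IsTrivial := by
  have h1 : ((Exal.Ext.trivial k R L).pullback Λ).IsTrivial := by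
    obtain ⟨σ, hσ⟩ := Groth.Agent.ExalTrunc.isTrivial_trivial (A := k) (B := R) (L := L)
    refine ⟨((σ.comp (IsScalarTower.toAlgHom k Λ R)).prod (AlgHom.id k Λ)).codRestrict
      ((Exal.Ext.trivial k R L).fiberProd Λ) (fun a => hσ _), fun a => rfl⟩
  have h2 : ((X.restrictBase k).pullback Λ).IsTrivial := by
    let al : Λ →ₐ[k] (X.restrictBase k).E :=
      { toRingHom := (algebraMap Λ X.E : Λ →+* X.E)
        commutes' := fun c => rfl }
    exact ⟨(al.prod (AlgHom.id k Λ)).codRestrict ((X.restrictBase k).fiberProd Λ)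
      (fun a => X.proj.commutes a), fun a => rfl⟩
  obtain ⟨e⟩ := hb _ _ (Groth.Agent.ExalTrunc.equiv_of_isTrivial h1 h2)
  have hk : X.IsTrivialOver k :=
    Groth.Agent.ExalLib.isTrivial_of_equiv e (Groth.Agent.ExalTrunc.isTrivial_trivial (A := k) (B := R) (L := L))
  obtain ⟨s, hs, hA⟩ := Groth.Agent.ExalLib.exists_sec hk
  obtain ⟨D', hD'⟩ := ha (Groth.Agent.ExalLib.derOf X s hs hA)
  have hmul : ∀ r r', s (r * r') + X.incl (D' (r * r')) = (s r + X.incl (D' r)) * (s r' + X.incl (D' r')) := by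
    intro r r'
    have e1 := X.isExtension.mul_incl (s r) (D' r')
    have e2 := X.isExtension.mul_incl (s r') (D' r)
    rw [hs] at e1 e2
    rw [map_mul, Derivation.leibniz, map_add, ← e1, ← e2]
    linear_combination -Groth.Agent.ExalLib.incl_mul_incl X (D' r) (D' r')
  refine ⟨{ toFun := fun r => s r + X.incl (D' r)
            map_one' := by rw [Derivation.map_one_eq_zero, map_zero, add_zero, map_one]
            map_mul' := hmul
            map_zero' := by rw [map_zero, map_zero, map_zero, add_zero]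
            map_add' := fun r r' => by rw [map_add, map_add, map_add]; abel
            commutes' := fun a => by
              rw [hD', Groth.Agent.ExalLib.incl_derOf]; ring }, fun r => ?_⟩
  show X.proj (s r + X.incl (D' r)) = r
  rw [map_add, hs, Groth.Agent.ExalLib.proj_incl, add_zero]

end


/-- Let k be an algebraically closed field, Λ and R local Noetherian k-algebras with residue field k,
and Λ → R a local k-algebra homomorphism. Then the relative obstruction space vanishes — every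
Λ-extension of R by its residue field k is trivial — if and only if (a) the tangent map t_R → t_Λ is
surjective: every k-derivation of Λ into k extends along Λ → R to a k-derivation of R into k, and
(b) the obstruction map o(R) → o(Λ) given by inverse image is injective on classes: two k-extensions
of R by k whose inverse images over Λ are equivalent are equivalent (R is less obstructed than Λ).
Here k is the residue field of R, a module over R, Λ and k through the structure maps. -/
theorem result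
    {k : Type u} [Field k] [IsAlgClosed k]
    {Λ : Type u} [CommRing Λ] [Algebra k Λ] [IsLocalRing Λ] [IsNoetherianRing Λ]
    (hΛ : ∀ a : Λ, ∃ c : k, a - algebraMap k Λ c ∈ IsLocalRing.maximalIdeal Λ)
    {R : Type u} [CommRing R] [Algebra Λ R] [Algebra k R] [IsScalarTower k Λ R]
    [IsLocalRing R] [IsNoetherianRing R] [IsLocalHom (algebraMap Λ R)]
    (hR : ∀ r : R, ∃ c : k, r - algebraMap k R c ∈ IsLocalRing.maximalIdeal R) :
    (∀ X : Exal.Ext Λ R (IsLocalRing.ResidueField R), X.IsTrivial) ↔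
    ((∀ D : Derivation k Λ (IsLocalRing.ResidueField R),
        ∃ D' : Derivation k R (IsLocalRing.ResidueField R), ∀ a : Λ, D' (algebraMap Λ R a) = D a) ∧
     (∀ Y Y' : Exal.Ext k R (IsLocalRing.ResidueField R),
        Nonempty ((Y.pullback Λ).Equiv (Y'.pullback Λ)) → Nonempty (Y.Equiv Y'))) := by
  constructor
  · intro h
    exact ⟨fun D => derivation_extends h D, fun Y Y' ⟨g⟩ => pullback_injective h Y Y' g⟩
  · rintro ⟨ha, hb⟩ X
    exact trivial_of_conditions ha hb X

end Groth.Agent.S11292
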