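import Groth.Statements.S11294


set_option autoImplicit false
universe u
open Deform

namespace Groth.Agent.S11294

open TrivSqZeroExt in
/-- Let P be a commutative ring, J an ideal, and P[ε] the ring of dual numbers over P. First-order
embedded deformations of Spec(P/J) in Spec P, namely ideals J' of P[ε] lifting J (the image of J'
under ε ↦ 0 is J) with P[ε]/J' flat over the dual numbers — flatness being replaced by the condition
that every element of P[ε]/J' annihilated by ε is a multiple of ε (equivalent to flatness over k[ε]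
when P is an algebra over a field k) — are in canonical bijection with Hom_P(J, P/J) =
Hom_{P/J}(J/J^2, P/J), the normal module: to φ corresponds the ideal of all a + εb with a in J and b
reducing to φ(a) modulo J. The first clause says this rule defines exactly one ideal for each φ; the
second says an ideal J' is a flat lift of J precisely when its membership is given by this rule for
some φ. (The published statement is the global one, identifying first-order deformations of a closed
subscheme X of an algebraic scheme Y with H^0(X, N_{X/Y}); this row is the affine computation in its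
proof, valid for every commutative ring P.) -/
theorem result (P : Type u) [CommRing P] (J : Ideal P) :
    (∀ φ : J →ₗ[P] (P ⧸ J), ∃! J' : Ideal (DualNumber P),
        ∀ a b : P, (inl a + inr b : DualNumber P) ∈ J' ↔ ∃ h : a ∈ J, Ideal.Quotient.mk J b = φ ⟨a, h⟩) ∧
    (∀ J' : Ideal (DualNumber P),
      (J'.map (TrivSqZeroExt.fstHom P P P) = J ∧
        ∀ m : DualNumber P ⧸ J', Ideal.Quotient.mk J' DualNumber.eps * m = 0 →
          ∃ m' : DualNumber P ⧸ J', m = Ideal.Quotient.mk J' DualNumber.eps * m') ↔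
      ∃ φ : J →ₗ[P] (P ⧸ J), ∀ a b : P,
        (inl a + inr b : DualNumber P) ∈ J' ↔ ∃ h : a ∈ J, Ideal.Quotient.mk J b = φ ⟨a, h⟩) := by
  have hval : ∀ (J' : Ideal (DualNumber P)) (φ : J →ₗ[P] (P ⧸ J)),
      (∀ a b : P, (inl a + inr b : DualNumber P) ∈ J' ↔ ∃ h : a ∈ J, Ideal.Quotient.mk J b = φ ⟨a, h⟩) →
      ∀ z : DualNumber P, z ∈ J' ↔ ∃ h : z.fst ∈ J, Ideal.Quotient.mk J z.snd = φ ⟨z.fst, h⟩ := fun J' φ h z => by
    conv_lhs => rw [← inl_fst_add_inr_snd_eq z]
    exact h z.fst z.snd
  have hmul : ∀ z : DualNumber P, DualNumber.eps * z = inr z.fst := fun z =>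
    TrivSqZeroExt.ext (by simp) (by simp)
  refine ⟨fun φ => ?_, fun J' => ⟨fun ⟨hmap, hflat⟩ => ?_, fun ⟨φ, hφ⟩ => ⟨?_, ?_⟩⟩⟩
  · let J' : Ideal (DualNumber P) :=
      { carrier := {z | ∃ h : z.fst ∈ J, Ideal.Quotient.mk J z.snd = φ ⟨z.fst, h⟩}
        add_mem' := fun {x y} ⟨h, e⟩ ⟨h', e'⟩ => ⟨J.add_mem h h', by
          show Ideal.Quotient.mk J (x.snd + y.snd) = φ (⟨x.fst, h⟩ + ⟨y.fst, h'⟩)
          rw [LinearMap.map_add, map_add, e, e']⟩
        zero_mem' := ⟨J.zero_mem, (LinearMap.map_zero φ).symm⟩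
        smul_mem' := fun c x ⟨h, e⟩ => ⟨J.mul_mem_left _ h, by
          show Ideal.Quotient.mk J ((c * x).snd) = φ (c.fst • ⟨x.fst, h⟩)
          rw [LinearMap.map_smul, ← e, DualNumber.snd_mul, map_add, map_mul, map_mul,
            Ideal.Quotient.eq_zero_iff_mem.2 h, mul_zero, add_zero]
          rfl⟩ }
    refine ⟨J', fun a b => ?_, fun J'' h'' => ?_⟩
    · show (∃ h : (inl a + inr b : DualNumber P).fst ∈ J, _) ↔ _
      simp
    · ext z
      rw [hval J'' φ h'' z]
      rfl
  · have hfst : ∀ z, z ∈ J' → z.fst ∈ J := fun z hz => hmap ▸ Ideal.mem_map_of_mem (TrivSqZeroExt.fstHom P P P) hz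
    have hzero : ∀ b : P, (inr b : DualNumber P) ∈ J' → b ∈ J := by
      intro b hb
      obtain ⟨m', hm'⟩ := hflat (Ideal.Quotient.mk J' (inl b)) (by
        rw [← map_mul, hmul, fst_inl, Ideal.Quotient.eq_zero_iff_mem]; exact hb)
      obtain ⟨w, rfl⟩ := Ideal.Quotient.mk_surjective m'
      rw [← map_mul, hmul, Ideal.Quotient.eq] at hm'
      simpa using hfst _ hm'
    have hex : ∀ a : J, ∃ z ∈ J', z.fst = a := fun a =>
      (Ideal.mem_map_iff_of_surjective (TrivSqZeroExt.fstHom P P P) (fun p => ⟨inl p, fst_inl (M := P) p⟩)).1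
        (hmap.symm ▸ a.2)
    choose s hs he using hex
    have key : ∀ (a : J) (z), z ∈ J' → z.fst = a → Ideal.Quotient.mk J z.snd = Ideal.Quotient.mk J (s a).snd := by
      intro a z hz hza
      rw [Ideal.Quotient.eq]
      refine hzero (z.snd - (s a).snd) ?_
      have : (inr (z.snd - (s a).snd) : DualNumber P) = z - s a :=
        TrivSqZeroExt.ext (by simp [hza, he]) (by simp)
      rw [this]; exact sub_mem hz (hs a)
    let φ : J →ₗ[P] (P ⧸ J) :=
      { toFun := fun a => Ideal.Quotient.mk J (s a).snd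
        map_add' := fun a b => by
          rw [← map_add, ← snd_add]
          exact (key (a + b) _ (add_mem (hs a) (hs b)) (by simp [he])).symm
        map_smul' := fun c a => by
          refine (key (c • a) (inl c * s a) (Ideal.mul_mem_left _ _ (hs a)) (by simp [he])).symm.trans ?_
          simp
          rfl }
    refine ⟨φ, fun a b => ⟨fun h => ?_, ?_⟩⟩
    · have ha : a ∈ J := by simpa using hfst _ h
      refine ⟨ha, ?_⟩
      show _ = Ideal.Quotient.mk J (s ⟨a, ha⟩).snd
      simpa using key ⟨a, ha⟩ _ h (by simp)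
    · rintro ⟨ha, hj⟩
      have hc : b - (s ⟨a, ha⟩).snd ∈ J := Ideal.Quotient.eq.1 hj
      have hd : (inl a + inr b : DualNumber P) = s ⟨a, ha⟩ + DualNumber.eps * s ⟨_, hc⟩ := by
        rw [hmul, he]
        exact TrivSqZeroExt.ext (by simp [he]) (by simp)
      rw [hd]
      exact add_mem (hs _) (Ideal.mul_mem_left _ _ (hs _))
  · refine le_antisymm (Ideal.map_le_iff_le_comap.2 fun z hz => ((hval J' φ hφ z).1 hz).1) fun a ha => ?_
    obtain ⟨b, hb⟩ := Ideal.Quotient.mk_surjective (φ ⟨a, ha⟩)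
    have h1 := Ideal.mem_map_of_mem (TrivSqZeroExt.fstHom P P P) ((hφ a b).2 ⟨ha, hb⟩)
    simpa using h1
  · intro x hx
    obtain ⟨z, rfl⟩ := Ideal.Quotient.mk_surjective x
    rw [← map_mul, hmul, Ideal.Quotient.eq_zero_iff_mem, hval J' φ hφ] at hx
    obtain ⟨h, e⟩ := hx
    have hj : z.fst ∈ J := by
      rwa [show (⟨(inr z.fst : DualNumber P).fst, h⟩ : J) = 0 from Subtype.ext (fst_inr (R := P) z.fst),
        LinearMap.map_zero, snd_inr, Ideal.Quotient.eq_zero_iff_mem] at e
    obtain ⟨b, hb⟩ := Ideal.Quotient.mk_surjective (φ ⟨z.fst, hj⟩)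
    refine ⟨Ideal.Quotient.mk J' (inl (z.snd - b)), ?_⟩
    rw [← map_mul, hmul, fst_inl, Ideal.Quotient.eq]
    convert (hφ z.fst b).2 ⟨hj, hb⟩ using 1
    exact TrivSqZeroExt.ext (by simp) (by simp)

end Groth.Agent.S11294
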