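import Groth.Statements.S11298
import Mathlib
import Groth.Agent.LocH.DepthMisc
-- import your own Groth.Agent.* helpers here

set_option autoImplicit false
universe u v
open LocCoh

namespace Groth.Agent.S11298

/-- Let X = Spec B be an affine Noetherian scheme, Z = V(I) a closed subscheme and G a coherent sheaf,
i.e. a finitely generated B-module M, with dual G^v = Hom_B(M, B). If depth_Z(O_X) ≥ 2 then
depth_Z(G^v) ≥ 2. Here the depth along I of a module N is the supremum of the lengths of N-regular
sequences contained in I (and is infinite when I N = N). (The published statement adds that sections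
of the dual over X and over X minus Z agree; this row omits that clause.) -/
theorem result (B : Type u) [CommRing B] [IsNoetherianRing B]
    (I : Ideal B) (M : Type v) [AddCommGroup M] [Module B M] [Module.Finite B M]
    (h : 2 ≤ LocCoh.idealDepth I B) : 2 ≤ LocCoh.idealDepth I (M →ₗ[B] B) := by
  obtain ⟨N, _, _, _, ⟨e⟩⟩ := Groth.Agent.LocH.exists_small_copy B M
  rw [Groth.Agent.LocH.idealDepth_congr (LinearEquiv.congrLeft B B e) I]
  obtain ⟨rs, hlen, hrs, hmem⟩ := Groth.Agent.LocH.exists_isWeaklyRegular I 2 B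
    ((Groth.Agent.LocH.le_idealDepth_iff I B 2).1 (by exact_mod_cast h))
  obtain ⟨x, y, rfl⟩ := List.length_eq_two.1 hlen
  obtain ⟨hx, hy⟩ := (RingTheory.Sequence.isWeaklyRegular_cons_iff B x [y]).1 hrs
  replace hy : IsSMulRegular (QuotSMulTop x B) y := ((RingTheory.Sequence.isWeaklyRegular_cons_iff _ y []).1 hy).1
  have hx' : IsSMulRegular (N →ₗ[B] B) x := fun f g hfg => LinearMap.ext fun m => hx (LinearMap.congr_fun hfg m)
  have hy' : IsSMulRegular (QuotSMulTop x (N →ₗ[B] B)) y := by
    refine (isSMulRegular_iff_right_eq_zero_of_smul).2 fun f hf => ?_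
    obtain ⟨f, rfl⟩ := Submodule.Quotient.mk_surjective _ f
    rw [← Submodule.Quotient.mk_smul, Submodule.Quotient.mk_eq_zero, Submodule.mem_smul_pointwise_iff_exists] at hf
    obtain ⟨g, -, hg⟩ := hf
    have hdiv : ∀ m, ∃ b, x * b = f m := fun m => by
      have h0 : y • (Submodule.Quotient.mk (f m) : QuotSMulTop x B) = 0 := by
        rw [← Submodule.Quotient.mk_smul, Submodule.Quotient.mk_eq_zero, Submodule.mem_smul_pointwise_iff_exists]
        exact ⟨g m, Submodule.mem_top, LinearMap.congr_fun hg m⟩
      have := (isSMulRegular_iff_right_eq_zero_of_smul).1 hy _ h0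
      rw [Submodule.Quotient.mk_eq_zero, Submodule.mem_smul_pointwise_iff_exists] at this
      obtain ⟨b, -, hb⟩ := this
      exact ⟨b, hb⟩
    choose φ hφ using hdiv
    refine (Submodule.Quotient.mk_eq_zero _).2 ((Submodule.mem_smul_pointwise_iff_exists _ _ _).2
      ⟨⟨⟨φ, fun m m' => hx ?_⟩, fun c m => hx ?_⟩, Submodule.mem_top, LinearMap.ext hφ⟩)
    · show x * φ (m + m') = x * (φ m + φ m')
      rw [mul_add, hφ, hφ, hφ, map_add]
    · show x * φ (c • m) = x * (c * φ m)
      rw [mul_left_comm, hφ, hφ, map_smul, smul_eq_mul]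
  refine (Groth.Agent.LocH.le_idealDepth_iff I (N →ₗ[B] B) 2).2 fun i hi => ?_
  exact Groth.Agent.LocH.subsingleton_of_isWeaklyRegular I [x, y] _
    (RingTheory.Sequence.IsWeaklyRegular.cons hx' (RingTheory.Sequence.IsWeaklyRegular.cons hy' (RingTheory.Sequence.IsWeaklyRegular.nil B _)))
    hmem i (by simpa using hi)

end Groth.Agent.S11298
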