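import Groth.Statements.S11299
import Mathlib.Algebra.Module.Projective
import Mathlib.LinearAlgebra.FreeModule.Basic
import Mathlib.RingTheory.Ideal.Quotient.Operations

set_option autoImplicit false
universe u
open CAlg

namespace Groth.Agent.S11299

variable {P : Type u} [CommRing P] {J : Ideal P}

abbrev D {F : Type u} [AddCommGroup F] [Module P F] (J : Ideal P) (j : F →ₗ[P] P) :
    Submodule P (↥(LinearMap.ker j) →ₗ[P] P ⧸ J) :=
  LinearMap.range (LinearMap.lcomp P (P ⧸ J) (LinearMap.ker j).subtype)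

abbrev K0 {F : Type u} [AddCommGroup F] [Module P F] (J : Ideal P) (j : F →ₗ[P] P) :
    Submodule P (↥(LinearMap.ker j) →ₗ[P] P ⧸ J) :=
  LinearMap.ker (LinearMap.lcomp P (P ⧸ J)
    (Submodule.comap (LinearMap.ker j).subtype
      (Submodule.span P {y : F | ∃ u v : F, y = j u • v - j v • u})).subtype)

/-- Comparison data along a map of presentations. -/
theorem exists_map {F F' : Type u} [AddCommGroup F] [Module P F] [AddCommGroup F'] [Module P F']
    (j : F →ₗ[P] P) (j' : F' →ₗ[P] P) (f : F →ₗ[P] F') (hf : j' ∘ₗ f = j) :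
    ∃ fR : LinearMap.ker j →ₗ[P] LinearMap.ker j',
      (∀ x, (fR x : F') = f (x : F)) ∧
      (∀ φ ∈ D J j', φ ∘ₗ fR ∈ D J j) ∧ (∀ φ ∈ K0 J j', φ ∘ₗ fR ∈ K0 J j) := by
  have hmem : ∀ x ∈ LinearMap.ker j, f x ∈ LinearMap.ker j' := fun x hx ↦ by
    rw [LinearMap.mem_ker, ← LinearMap.comp_apply, hf]; exact hx
  refine ⟨f.restrict hmem, fun x ↦ rfl, ?_, ?_⟩
  · rintro _ ⟨ψ, rfl⟩
    exact ⟨ψ ∘ₗ f, LinearMap.ext fun x ↦ rfl⟩
  · intro φ hφ
    refine LinearMap.ext fun x ↦ ?_
    have hx : f ((x : LinearMap.ker j) : F) ∈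
        Submodule.span P {y : F' | ∃ u v : F', y = j' u • v - j' v • u} := by
      have h : f ((x : LinearMap.ker j) : F) ∈ Submodule.map f
          (Submodule.span P {y : F | ∃ u v : F, y = j u • v - j v • u}) := ⟨_, x.2, rfl⟩
      rw [Submodule.map_span] at h
      refine Submodule.span_mono ?_ h
      rintro _ ⟨_, ⟨u, v, rfl⟩, rfl⟩
      exact ⟨f u, f v, by rw [map_sub, map_smul, map_smul, ← hf]; rfl⟩
    exact LinearMap.congr_fun hφ ⟨f.restrict hmem x.1, hx⟩

/-- The second cotangent module does not depend on the presentation: let P be a commutative ring, J an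
ideal and B = P/J. For a presentation of J, i.e. a finitely generated free P-module F with a
P-linear map j : F → P with image J, let R = ker j be the relation module and R^tr ⊆ R the span of
the trivial relations j(u) • v - j(v) • u; the module T^2 of the presentation is the quotient of
Hom_B(R/R^tr, B), realised as the P-linear maps R → P/J vanishing on R^tr, by the restrictions to R
of the P-linear maps F → P/J (here: the image of that submodule in the quotient of Hom_P(R, P/J) by
the restrictions). Then for two presentations (F, j) and (F', j') of the same ideal J the two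
modules T^2 are isomorphic as P-modules (existence of an isomorphism; the comparison maps depend on
expressing one system of generators through the other). (The published statement takes B essentially
of finite type over a field and P smooth; this row allows any commutative ring P and ideal J.) -/
theorem result (P : Type u) [CommRing P] (J : Ideal P)
    (F : Type u) [AddCommGroup F] [Module P F] [Module.Free P F] [Module.Finite P F]
    (F' : Type u) [AddCommGroup F'] [Module P F'] [Module.Free P F'] [Module.Finite P F']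
    (j : F →ₗ[P] P) (j' : F' →ₗ[P] P) (hj : LinearMap.range j = J) (hj' : LinearMap.range j' = J) :
    Nonempty (↥(Submodule.map
          (LinearMap.range (LinearMap.lcomp P (P ⧸ J) (LinearMap.ker j).subtype)).mkQ
          (LinearMap.ker (LinearMap.lcomp P (P ⧸ J)
            (Submodule.comap (LinearMap.ker j).subtype
              (Submodule.span P {y : F | ∃ u v : F, y = j u • v - j v • u})).subtype))) ≃ₗ[P]
      ↥(Submodule.map
          (LinearMap.range (LinearMap.lcomp P (P ⧸ J) (LinearMap.ker j').subtype)).mkQ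
          (LinearMap.ker (LinearMap.lcomp P (P ⧸ J)
            (Submodule.comap (LinearMap.ker j').subtype
              (Submodule.span P {y : F' | ∃ u v : F', y = j' u • v - j' v • u})).subtype)))) := by
  have hlift : ∀ {A B : Type u} [AddCommGroup A] [Module P A] [Module.Free P A] [AddCommGroup B]
      [Module P B] (a : A →ₗ[P] P) (b : B →ₗ[P] P),
      LinearMap.range a = J → LinearMap.range b = J → ∃ f : A →ₗ[P] B, b ∘ₗ f = a := by
    intro A B _ _ _ _ _ a b ha hb
    obtain ⟨f, hf⟩ := Module.projective_lifting_property b.rangeRestrict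
      (a.codRestrict (LinearMap.range b) fun x ↦ by rw [hb, ← ha]; exact ⟨x, rfl⟩)
      b.surjective_rangeRestrict
    exact ⟨f, LinearMap.ext fun x ↦ congrArg Subtype.val (LinearMap.congr_fun hf x)⟩
  obtain ⟨f, hf⟩ := hlift j j' hj hj'
  obtain ⟨g, hg⟩ := hlift j' j hj' hj
  obtain ⟨fR, hfR, hfD, hfK⟩ := exists_map (J := J) j j' f hf
  obtain ⟨gR, hgR, hgD, hgK⟩ := exists_map (J := J) j' j g hg
  let Af := (D J j').mapQ (D J j) (LinearMap.lcomp P (P ⧸ J) fR) hfD
  let Ag := (D J j).mapQ (D J j') (LinearMap.lcomp P (P ⧸ J) gR) hgD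
  have hAf : ∀ x ∈ (K0 J j').map (D J j').mkQ, Af x ∈ (K0 J j).map (D J j).mkQ := by
    rintro _ ⟨φ, hφ, rfl⟩; exact ⟨_, hfK φ hφ, rfl⟩
  have hAg : ∀ x ∈ (K0 J j).map (D J j).mkQ, Ag x ∈ (K0 J j').map (D J j').mkQ := by
    rintro _ ⟨φ, hφ, rfl⟩; exact ⟨_, hgK φ hφ, rfl⟩
  -- a self-map over `P` differs from the identity by a map into the relations
  have key : ∀ {A : Type u} [AddCommGroup A] [Module P A] (a : A →ₗ[P] P) (h : A →ₗ[P] A)
      (hR : LinearMap.ker a →ₗ[P] LinearMap.ker a), (∀ x, (hR x : A) = h (x : A)) → a ∘ₗ h = a →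
      ∀ φ, φ ∘ₗ hR - φ ∈ D J a := by
    intro A _ _ a h hR hval ha φ
    refine ⟨φ ∘ₗ (h - LinearMap.id).codRestrict (LinearMap.ker a) (fun x ↦ by
      simp [LinearMap.mem_ker, ← LinearMap.comp_apply, ha]), LinearMap.ext fun x ↦ ?_⟩
    rw [LinearMap.sub_apply, LinearMap.comp_apply, ← map_sub]
    exact congrArg φ (Subtype.ext (by simp [hval]))
  refine ⟨(LinearEquiv.ofLinear (Af.restrict hAf) (Ag.restrict hAg) ?_ ?_).symm⟩
  · refine LinearMap.ext fun x ↦ Subtype.ext ?_
    obtain ⟨x, φ, -, rfl⟩ := x
    exact (Submodule.Quotient.eq _).2 (key j (g ∘ₗ f) (gR ∘ₗ fR)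
      (fun y ↦ by rw [LinearMap.comp_apply, hgR, hfR]; rfl)
      (by rw [← LinearMap.comp_assoc, hg, hf]) φ)
  · refine LinearMap.ext fun x ↦ Subtype.ext ?_
    obtain ⟨x, φ, -, rfl⟩ := x
    exact (Submodule.Quotient.eq _).2 (key j' (f ∘ₗ g) (fR ∘ₗ gR)
      (fun y ↦ by rw [LinearMap.comp_apply, hfR, hgR]; rfl)
      (by rw [← LinearMap.comp_assoc, hf, hg]) φ)

end Groth.Agent.S11299
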