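import Groth.Statements.S11302
import Mathlib

set_option autoImplicit false
universe u
open Deform

namespace Groth.Agent.S11302

open RingTheory.Sequence in
theorem syzygy {R : Type u} [CommRing R] : ∀ (n : ℕ) (f : Fin n → R), IsWeaklyRegular R (List.ofFn f) →
    ∀ a : Fin n → R, ∑ i, a i * f i = 0 → ∀ i, a i ∈ Ideal.span (Set.range f) := by
  intro n
  induction n with
  | zero => exact fun _ _ _ _ i => i.elim0
  | succ n ih =>
    intro f hf a ha
    have hl : List.ofFn f = List.ofFn (fun i : Fin n => f i.castSucc) ++ [f (Fin.last n)] := by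
      rw [List.ofFn_succ', List.concat_eq_append]
    rw [hl, isWeaklyRegular_append_iff] at hf
    obtain ⟨h1, h2⟩ := hf
    have h3 := ((isWeaklyRegular_cons_iff _ _ _).1 h2).1
    set I' := Ideal.span (Set.range fun i : Fin n => f i.castSucc) with hI'
    have hle : I' ≤ Ideal.span (Set.range f) := Ideal.span_mono (by rintro _ ⟨i, rfl⟩; exact ⟨_, rfl⟩)
    have hIeq : (Ideal.ofList (List.ofFn fun i : Fin n => f i.castSucc) • ⊤ : Submodule R R) = I' := by
      rw [smul_eq_mul, Ideal.mul_top, hI']
      simp [Ideal.ofList, List.mem_ofFn, Set.range]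
    rw [Fin.sum_univ_castSucc] at ha
    have hlast : a (Fin.last n) ∈ I' := by
      rw [hIeq] at h3
      have hmem : f (Fin.last n) * a (Fin.last n) ∈ I' := by
        rw [mul_comm, eq_neg_of_add_eq_zero_right ha]
        exact neg_mem (Submodule.sum_mem _ fun i _ => Ideal.mul_mem_left _ _ (Ideal.subset_span ⟨i, rfl⟩))
      have h4 : f (Fin.last n) • (Submodule.Quotient.mk (a (Fin.last n)) : R ⧸ I') = f (Fin.last n) • 0 := by
        rw [smul_zero, ← Submodule.Quotient.mk_smul, Submodule.Quotient.mk_eq_zero]
        exact hmem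
      exact (Submodule.Quotient.mk_eq_zero _).1 (h3 h4)
    obtain ⟨c, hc⟩ := (Submodule.mem_span_range_iff_exists_fun R).1 hlast
    have h0 : ∑ i : Fin n, (a i.castSucc + c i * f (Fin.last n)) * f i.castSucc = 0 := by
      rw [← hc, Finset.sum_mul, ← Finset.sum_add_distrib] at ha
      rw [← ha]
      refine Finset.sum_congr rfl fun i _ => ?_
      rw [smul_eq_mul]; ring
    intro i
    refine Fin.lastCases (hle hlast) (fun j => ?_) i
    have := hle (ih _ h1 _ h0 j)
    have hm : c j * f (Fin.last n) ∈ Ideal.span (Set.range f) := Ideal.mul_mem_left _ _ (Ideal.subset_span ⟨_, rfl⟩)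
    simpa using sub_mem this hm

/-- Evaluation on a regular sequence identifies `Hom(I, R/I)` with tuples. -/
theorem exists_hom_equiv {R : Type u} [CommRing R] (n : ℕ) (f : Fin n → R)
    (hreg : RingTheory.Sequence.IsWeaklyRegular R (List.ofFn f)) :
    ∃ E : ((Ideal.span (Set.range f)) →ₗ[R] (R ⧸ Ideal.span (Set.range f))) ≃ₗ[R]
        (Fin n → R ⧸ Ideal.span (Set.range f)),
      ∀ φ i, E φ i = φ ⟨f i, Ideal.subset_span (Set.mem_range_self i)⟩ := by
  set I := Ideal.span (Set.range f) with hI
  let fe : Fin n → I := fun i => ⟨f i, Ideal.subset_span (Set.mem_range_self i)⟩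
  let π : (Fin n → R) →ₗ[R] I := Fintype.linearCombination R fe
  have hπv : ∀ a, ((π a : I) : R) = ∑ i, a i * f i := fun a => by
    simp [π, fe, Fintype.linearCombination_apply]
  have hπ : Function.Surjective π := fun x => by
    obtain ⟨c, hc⟩ := (Submodule.mem_span_range_iff_exists_fun R).1 x.2
    exact ⟨c, Subtype.ext (by rw [hπv]; simpa using hc)⟩
  let E : (I →ₗ[R] (R ⧸ I)) →ₗ[R] (Fin n → R ⧸ I) := LinearMap.pi fun i => LinearMap.applyₗ (fe i)
  refine ⟨LinearEquiv.ofBijective E ⟨fun φ ψ h => ?_, fun b => ?_⟩, fun φ i => rfl⟩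
  · ext x
    obtain ⟨a, rfl⟩ := hπ x
    have h' : ∀ i, φ (fe i) = ψ (fe i) := fun i => congrFun h i
    simp [π, Fintype.linearCombination_apply, map_sum, h']
  · let g : (Fin n → R) →ₗ[R] (R ⧸ I) := Fintype.linearCombination R b
    have hker : LinearMap.ker π ≤ LinearMap.ker g := by
      intro a ha
      have h0 : ∑ i, a i * f i = 0 := by rw [← hπv, LinearMap.mem_ker.1 ha]; rfl
      rw [LinearMap.mem_ker, Fintype.linearCombination_apply]
      refine Finset.sum_eq_zero fun i _ => ?_
      obtain ⟨c, hc⟩ := Ideal.Quotient.mk_surjective (b i)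
      rw [← hc]
      show Ideal.Quotient.mk I (a i * c) = 0
      exact Ideal.Quotient.eq_zero_iff_mem.2 (Ideal.mul_mem_right _ _ (syzygy n f hreg a h0 i))
    refine ⟨((LinearMap.ker π).liftQ g hker).comp
      (LinearMap.quotKerEquivOfSurjective π hπ).symm.toLinearMap, funext fun i => ?_⟩
    have e1 : π (Pi.single i 1) = fe i := by simp [π, Fintype.linearCombination_apply, Pi.single_apply]
    have e2 : (LinearMap.quotKerEquivOfSurjective π hπ).symm (fe i) = Submodule.Quotient.mk (Pi.single i 1) :=
      (LinearEquiv.symm_apply_eq _).2 e1.symm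
    show (LinearMap.ker π).liftQ g hker ((LinearMap.quotKerEquivOfSurjective π hπ).symm (fe i)) = b i
    rw [e2, Submodule.liftQ_apply]
    simp [g, Fintype.linearCombination_apply, Pi.single_apply]


open MvPolynomial in
/-- T^1 of a complete intersection; the hypersurface case P/(f, ∂f/∂X_1, ..., ∂f/∂X_d) is n = 1: let k
be an algebraically closed field, P = k[X_1, ..., X_d], f_1, ..., f_n a regular sequence in P (each
f_i a non-zero-divisor modulo the preceding ones), J the ideal they generate and B = P/J. The first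
cotangent module T^1_B — the cokernel of Der_k(P, B) → Hom_P(J, B), a derivation being restricted to
J — is isomorphic, as a P-module, to B^n modulo the B-submodule generated by the d columns
(∂f_1/∂X_j, ..., ∂f_n/∂X_j), j = 1, ..., d, of the Jacobian matrix reduced modulo J, through the map
sending the class of φ : J → B to the class of (φ(f_1), ..., φ(f_n)). (The published formula allows
P to be a localisation of the polynomial ring; this row takes the polynomial ring.) -/
theorem result (k : Type u) [Field k] [IsAlgClosed k] (d n : ℕ)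
    (f : Fin n → MvPolynomial (Fin d) k) (hreg : RingTheory.Sequence.IsWeaklyRegular (MvPolynomial (Fin d) k) (List.ofFn f)) :
    ∃ e : ((↥(Ideal.span (Set.range f)) →ₗ[MvPolynomial (Fin d) k] (MvPolynomial (Fin d) k ⧸ Ideal.span (Set.range f))) ⧸
            Submodule.span (MvPolynomial (Fin d) k)
              {ψ : ↥(Ideal.span (Set.range f)) →ₗ[MvPolynomial (Fin d) k] (MvPolynomial (Fin d) k ⧸ Ideal.span (Set.range f)) |
                ∃ D : Derivation k (MvPolynomial (Fin d) k) (MvPolynomial (Fin d) k ⧸ Ideal.span (Set.range f)), ∀ a : ↥(Ideal.span (Set.range f)), ψ a = D (a : MvPolynomial (Fin d) k)}) ≃ₗ[MvPolynomial (Fin d) k]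
          ((Fin n → MvPolynomial (Fin d) k ⧸ Ideal.span (Set.range f)) ⧸
            Submodule.span (MvPolynomial (Fin d) k ⧸ Ideal.span (Set.range f))
              (Set.range fun j : Fin d => fun i : Fin n => Ideal.Quotient.mk (Ideal.span (Set.range f)) (pderiv j (f i)))),
      ∀ φ : ↥(Ideal.span (Set.range f)) →ₗ[MvPolynomial (Fin d) k] (MvPolynomial (Fin d) k ⧸ Ideal.span (Set.range f)),
        e (Submodule.Quotient.mk φ) =
          Submodule.Quotient.mk (fun i : Fin n => φ ⟨f i, Ideal.subset_span (Set.mem_range_self i)⟩) := by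
  classical
  set I := Ideal.span (Set.range f) with hI
  obtain ⟨E, hE⟩ := exists_hom_equiv n f hreg
  let W : Submodule (MvPolynomial (Fin d) k ⧸ I) (Fin n → MvPolynomial (Fin d) k ⧸ I) :=
    Submodule.span _ (Set.range fun j : Fin d => fun i : Fin n => Ideal.Quotient.mk I (pderiv j (f i)))
  set U := Submodule.span (MvPolynomial (Fin d) k)
    {ψ : ↥I →ₗ[MvPolynomial (Fin d) k] (MvPolynomial (Fin d) k ⧸ I) |
      ∃ D : Derivation k (MvPolynomial (Fin d) k) (MvPolynomial (Fin d) k ⧸ I), ∀ a : ↥I, ψ a = D (a : MvPolynomial (Fin d) k)}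
  have hDsum : ∀ (D : Derivation k (MvPolynomial (Fin d) k) (MvPolynomial (Fin d) k ⧸ I)) (p : MvPolynomial (Fin d) k),
      D p = ∑ j, Ideal.Quotient.mk I (pderiv j p) * D (X j) := by
    intro D p
    induction p using MvPolynomial.induction_on with
    | C c => simp
    | add p q hp hq => simp only [map_add, hp, hq, add_mul, Finset.sum_add_distrib]
    | mul_X p i hp =>
      have hsm : ∀ (a : MvPolynomial (Fin d) k) (z : MvPolynomial (Fin d) k ⧸ I),
          a • z = Ideal.Quotient.mk I a * z := fun a z => by
        obtain ⟨z, rfl⟩ := Ideal.Quotient.mk_surjective z; rfl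
      have h1 : ∀ j, Ideal.Quotient.mk I (pderiv j (p * X i)) * D (X j) =
          Ideal.Quotient.mk I p * (if j = i then D (X i) else 0) +
            Ideal.Quotient.mk I (X i) * (Ideal.Quotient.mk I (pderiv j p) * D (X j)) := by
        intro j
        rw [pderiv_mul, map_add, map_mul, map_mul]
        rcases eq_or_ne j i with rfl | hji
        · rw [pderiv_X_self, map_one, if_pos rfl]; ring
        · rw [pderiv_X_of_ne hji.symm, map_zero, if_neg hji]; ring
      rw [Derivation.leibniz, hsm, hsm, hp, Finset.sum_congr rfl fun j _ => h1 j, Finset.sum_add_distrib,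
        ← Finset.mul_sum, ← Finset.mul_sum, Finset.sum_ite_eq', if_pos (Finset.mem_univ i)]
  have hmap : U.map E.toLinearMap = W.restrictScalars (MvPolynomial (Fin d) k) := by
    apply le_antisymm
    · rw [Submodule.map_span, Submodule.span_le]
      rintro _ ⟨ψ, ⟨D, hD⟩, rfl⟩
      show E ψ ∈ W
      have : E ψ = ∑ j, D (X j) • fun i : Fin n => Ideal.Quotient.mk I (pderiv j (f i)) := by
        funext i
        rw [hE, hD, hDsum, Finset.sum_apply]
        exact Finset.sum_congr rfl fun j _ => mul_comm _ _
      rw [this]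
      exact Submodule.sum_mem _ fun j _ => Submodule.smul_mem _ _ (Submodule.subset_span ⟨j, rfl⟩)
    · intro w hw
      rw [Submodule.restrictScalars_mem] at hw
      obtain ⟨c, rfl⟩ := (Submodule.mem_span_range_iff_exists_fun _).1 hw
      let D := mkDerivation k c
      have hres : ∀ (r a : MvPolynomial (Fin d) k), a ∈ I → D (r * a) = r • D a := fun r a ha => by
        have ha0 : Ideal.Quotient.mk I a = 0 := Ideal.Quotient.eq_zero_iff_mem.2 ha
        rw [Derivation.leibniz, add_eq_left]
        obtain ⟨z, hz⟩ := Ideal.Quotient.mk_surjective (D r)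
        rw [← hz]
        show Ideal.Quotient.mk I (a * z) = 0
        rw [map_mul, ha0, zero_mul]
      let ψ : ↥I →ₗ[MvPolynomial (Fin d) k] (MvPolynomial (Fin d) k ⧸ I) :=
        { toFun := fun a => D a.1
          map_add' := fun a b => map_add D a.1 b.1
          map_smul' := fun r a => hres r a.1 a.2 }
      refine ⟨ψ, Submodule.subset_span ⟨D, fun a => rfl⟩, ?_⟩
      funext i
      rw [LinearEquiv.coe_coe, hE, Finset.sum_apply]
      show D (f i) = _
      rw [hDsum]
      refine Finset.sum_congr rfl fun j _ => ?_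
      rw [show D (X j) = c j from mkDerivation_X k c j, mul_comm]
      rfl
  refine ⟨(Submodule.Quotient.equiv U _ E hmap).trans
    (Submodule.Quotient.restrictScalarsEquiv (MvPolynomial (Fin d) k) W), fun φ => ?_⟩
  show Submodule.Quotient.mk (E φ) = _
  congr 1
  funext i
  exact hE φ i

end Groth.Agent.S11302
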