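import Groth.Statements.S11306
import Mathlib.RingTheory.LocalRing.Module
import Mathlib.LinearAlgebra.Dimension.OrzechProperty
import Mathlib.RingTheory.Localization.FractionRing
import Mathlib.LinearAlgebra.Dimension.Finrank
import Mathlib.RingTheory.TensorProduct.Finite
import Mathlib.LinearAlgebra.FiniteDimensional.Lemmas

set_option autoImplicit false
universe u
open TensorProduct
open CAlg

namespace Groth.Agent.S11306

/-- Take a Noetherian local domain A, with residue field k and fraction field K, and let M be a finitely
generated A-module. If k ⊗_A M and K ⊗_A M have the same dimension r (over k and over K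
respectively), then M is a free A-module of rank r. -/
theorem result (A : Type u) [CommRing A] [IsDomain A]
    [IsNoetherianRing A] [IsLocalRing A] (M : Type u) [AddCommGroup M] [Module A M] [Module.Finite A M] (r : ℕ)
    (hk : Module.finrank (IsLocalRing.ResidueField A) (IsLocalRing.ResidueField A ⊗[A] M) = r)
    (hK : Module.finrank (FractionRing A) (FractionRing A ⊗[A] M) = r) :
    Module.Free A M ∧ Module.finrank A M = r := by
  let k := IsLocalRing.ResidueField A
  let K := FractionRing A
  let b : Module.Basis (Fin r) k (k ⊗[A] M) := Module.finBasisOfFinrankEq k _ hk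
  choose v hv using fun i => TensorProduct.mk_surjective A M k Ideal.Quotient.mk_surjective (b i)
  have hspan : Submodule.span A (Set.range v) = ⊤ := IsLocalRing.span_eq_top_of_tmul_eq_basis v b hv
  let w : Fin r → K ⊗[A] M := fun i => 1 ⊗ₜ v i
  have hspanK : ⊤ ≤ Submodule.span K (Set.range w) := fun z _ => by
    induction z using TensorProduct.induction_on with
    | zero => exact zero_mem _
    | tmul c m =>
      obtain ⟨a, rfl⟩ := (Submodule.mem_span_range_iff_exists_fun A).1 (hspan.ge (Submodule.mem_top (x := m)))
      rw [TensorProduct.tmul_sum]
      refine sum_mem fun i _ => ?_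
      rw [show c ⊗ₜ[A] (a i • v i) = (a i • c) • w i by
        rw [TensorProduct.smul_tmul', smul_eq_mul, mul_one, TensorProduct.tmul_smul, TensorProduct.smul_tmul']]
      exact Submodule.smul_mem _ _ (Submodule.subset_span ⟨i, rfl⟩)
    | add x y hx hy => exact add_mem (hx Submodule.mem_top) (hy Submodule.mem_top)
  have hli : LinearIndependent K w := linearIndependent_of_top_le_span_of_card_eq_finrank hspanK (by rw [Fintype.card_fin, hK])
  have hli' : LinearIndependent A v := by
    refine LinearIndependent.of_comp (TensorProduct.mk A K M 1) ?_
    exact hli.restrict_scalars (fun x y h => IsFractionRing.injective A K (by simpa [Algebra.smul_def] using h))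
  let bA : Module.Basis (Fin r) A M := Module.Basis.mk hli' hspan.ge
  exact ⟨Module.Free.of_basis bA, by rw [Module.finrank_eq_card_basis bA, Fintype.card_fin]⟩

end Groth.Agent.S11306
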