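import Groth.Statements.S11321
import Groth.Agent.FlatClosure.Basic

set_option linter.style.haveILetI false
set_option backward.isDefEq.respectTransparency false
set_option maxHeartbeats 1000000

set_option autoImplicit false
universe u
open CategoryTheory CategoryTheory.Limits AlgebraicGeometry
open FlatMor

namespace Groth.Agent.S11321

/-- Flat limits over a curve: let Y be a locally Noetherian integral scheme of dimension one all of
whose local rings are regular local rings, P a closed point of Y with open complement U, V = P^n_U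
the inverse image of U in P^n_Y, and X a closed subscheme of V (a closed immersion i : X → V) which
is flat over Y, equivalently over U. Then X extends to a closed subscheme X' of P^n_Y which is flat
over Y and whose restriction to V is X — there are a closed immersion i' : X' → P^n_Y with X' → Y
flat and a morphism j : X → X' making X the fibre product of X' and V over P^n_Y — and such an
extension is unique: for any second one (X'', i'', j'') there is an isomorphism X' ≅ X'' over P^n_Y.
(The published statement does not say that Y is locally Noetherian; the printed argument, through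
associated points and the scheme-theoretic closure, uses it, and this row assumes it.) -/
theorem result
    {Y : Scheme.{u}} [IsIntegral Y] [IsLocallyNoetherian Y] (hreg : ∀ y : Y, IsRegularLocalRing (Y.presheaf.stalk y))
    (hY : topologicalKrullDim ↥Y = 1) (P : Y) (U : Y.Opens) (hU : (U : Set ↥Y) = {P}ᶜ) (n : ℕ)
    (X : Scheme.{u}) (i : X ⟶ ↑(CohB1.ProjSpaceOver.toBase n Y ⁻¹ᵁ U)) [IsClosedImmersion i]
    [Flat (i ≫ (CohB1.ProjSpaceOver.toBase n Y ⁻¹ᵁ U).ι ≫ CohB1.ProjSpaceOver.toBase n Y)] :
    ∃ (X' : Scheme.{u}) (i' : X' ⟶ CohB1.ProjSpaceOver n Y) (j : X ⟶ X'),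
      IsClosedImmersion i' ∧ Flat (i' ≫ CohB1.ProjSpaceOver.toBase n Y) ∧
      IsPullback j i i' (CohB1.ProjSpaceOver.toBase n Y ⁻¹ᵁ U).ι ∧
      ∀ (X'' : Scheme.{u}) (i'' : X'' ⟶ CohB1.ProjSpaceOver n Y) (j'' : X ⟶ X''),
        IsClosedImmersion i'' → Flat (i'' ≫ CohB1.ProjSpaceOver.toBase n Y) →
        IsPullback j'' i i'' (CohB1.ProjSpaceOver.toBase n Y ⁻¹ᵁ U).ι →
        ∃ e : X' ≅ X'', e.hom ≫ i'' = i' := by
  let π := CohB1.ProjSpaceOver.toBase n Y
  let ι := (π ⁻¹ᵁ U).ι
  have hdimY : ∀ y : Y, IsRegularLocalRing (Y.presheaf.stalk y) ∧ ringKrullDim (Y.presheaf.stalk y) ≤ 1 := fun y => by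
    refine ⟨hreg y, ?_⟩
    rw [← PrimeSpectrum.topologicalKrullDim_eq_ringKrullDim, ← hY]
    exact (Y.fromSpecStalk y).isEmbedding.isInducing.topologicalKrullDim_le
  haveI : Nonempty U := by
    by_contra hne
    rw [not_nonempty_iff] at hne
    have hs : Subsingleton Y := ⟨fun a b => by
      have ha : a = P := by_contra fun h => hne.elim ⟨a, show a ∈ (U : Set Y) from hU ▸ h⟩
      have hb : b = P := by_contra fun h => hne.elim ⟨b, show b ∈ (U : Set Y) from hU ▸ h⟩
      rw [ha, hb]⟩
    have h0 : topologicalKrullDim ↥Y ≤ 0 := by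
      haveI : DiscreteTopology ↥Y := Subsingleton.discreteTopology
      exact topologicalKrullDim_zero_of_discreteTopology _
    rw [hY] at h0
    exact absurd h0 (by norm_num)
  haveI : QuasiCompact U.ι := inferInstance
  haveI : IsSchemeTheoreticallyDominant U.ι := by
    haveI : IsDominant U.ι := ⟨by
      rw [DenseRange, Scheme.Opens.range_ι]
      exact U.2.dense ⟨(Classical.arbitrary U : U).1, (Classical.arbitrary U : U).2⟩⟩
    exact .of_isDominant _
  have hres : IsPullback ι (π ∣_ U) π U.ι := (isPullback_morphismRestrict π U).flip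
  haveI : QuasiCompact ι := MorphismProperty.of_isPullback (P := @QuasiCompact) hres.flip inferInstance
  have key : ∀ (Z : Scheme.{u}) (z : Z ⟶ CohB1.ProjSpaceOver n Y) (w : X ⟶ Z), IsClosedImmersion z →
      Flat (z ≫ π) → IsPullback w i z ι → z.ker = (i ≫ ι).ker := by
    intro Z z w hz hf hp
    have hbig : IsPullback w (i ≫ π ∣_ U) (z ≫ π) U.ι := hp.paste_vert hres
    haveI : IsSchemeTheoreticallyDominant w := IsSchemeTheoreticallyDominant.of_isPullback hbig.flip
    haveI : QuasiCompact w := MorphismProperty.of_isPullback (P := @QuasiCompact) hp.flip inferInstance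
    rw [← hp.w, Scheme.Hom.ker_comp, w.ker_eq_bot, Scheme.IdealSheafData.map_bot]
  let k := i ≫ ι
  haveI : QuasiCompact k := inferInstanceAs (QuasiCompact (i ≫ ι))
  haveI hkf : Flat (k ≫ π) := by
    change Flat ((i ≫ ι) ≫ π)
    rw [Category.assoc]
    infer_instance
  let ξ := Y.fromSpecResidueField (genericPoint Y)
  haveI : Flat ξ := FlatClosure.flat_fromSpecResidueField_generic Y
  haveI : IsSchemeTheoreticallyDominant ξ := FlatClosure.dominant_fromSpecResidueField_generic Y
  let a := pullback.fst (k ≫ π) ξ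
  haveI : IsSchemeTheoreticallyDominant a :=
    IsSchemeTheoreticallyDominant.of_isPullback (IsPullback.of_hasPullback (k ≫ π) ξ).flip
  haveI : QuasiCompact a := inferInstanceAs (QuasiCompact (pullback.fst (k ≫ π) ξ))
  have hker : (a ≫ k).ker = k.ker := by
    rw [Scheme.Hom.ker_comp, a.ker_eq_bot, Scheme.IdealSheafData.map_bot]
  haveI hflat : Flat (k.imageι ≫ π) := by
    have h := FlatClosure.flat_imageι_comp hdimY (a ≫ k) π (pullback.snd (k ≫ π) ξ)
      ((Category.assoc a k π).trans pullback.condition)
    change Flat (k.ker.subschemeι ≫ π)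
    rw [← hker]
    exact h
  haveI : Mono ι := inferInstanceAs (Mono (π ⁻¹ᵁ U).ι)
  haveI : Flat ι := inferInstanceAs (Flat (π ⁻¹ᵁ U).ι)
  let s : X ⟶ pullback k.imageι ι := pullback.lift k.toImage i k.toImage_imageι
  haveI : Flat (pullback.fst k.imageι ι) := inferInstance
  haveI : Mono (pullback.fst k.imageι ι) := inferInstance
  haveI : QuasiCompact (pullback.fst k.imageι ι) := inferInstance
  have hs : IsPullback (𝟙 X) s k.toImage (pullback.fst k.imageι ι) := by
    refine IsPullback.of_isLimit' ⟨by simp [s]⟩ (PullbackCone.IsLimit.mk _ (fun c => c.fst)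
      (fun c => by simp) (fun c => ?_) (fun c l h1 h2 => by simpa using h1))
    rw [← cancel_mono (pullback.fst k.imageι ι), Category.assoc, pullback.lift_fst]
    exact c.condition
  haveI : IsSchemeTheoreticallyDominant k.toImage := ⟨by
    refine Scheme.IdealSheafData.ext_of_iSup_eq_top
      (fun V : (CohB1.ProjSpaceOver n Y).affineOpens => (⟨k.imageι ⁻¹ᵁ V.1, V.2.preimage k.imageι⟩ : k.image.affineOpens))
      (top_le_iff.1 fun z _ => ?_) fun V => ?_
    · obtain ⟨V, hV, hzV, -⟩ := exists_isAffineOpen_mem_and_subset (X := CohB1.ProjSpaceOver n Y)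
        (x := k.imageι z) (U := ⊤) trivial
      exact TopologicalSpace.Opens.mem_iSup.2 ⟨⟨V, hV⟩, hzV⟩
    rw [Scheme.Hom.ker_apply, Scheme.IdealSheafData.ideal_bot]
    exact (RingHom.injective_iff_ker_eq_bot _).1 (k.toImage_app_injective V)⟩
  haveI : IsSchemeTheoreticallyDominant s := IsSchemeTheoreticallyDominant.of_isPullback hs
  haveI : IsClosedImmersion s := by
    haveI : IsClosedImmersion (s ≫ pullback.snd k.imageι ι) := by rw [pullback.lift_snd]; infer_instance
    exact IsClosedImmersion.of_comp s (pullback.snd k.imageι ι)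
  haveI : IsIso s := IsClosedImmersion.isIso_of_ker_eq s (𝟙 _) s (Category.comp_id _) (by
    rw [s.ker_eq_bot, Scheme.Hom.ker_eq_bot (𝟙 (pullback k.imageι ι))])
  have hpb : IsPullback k.toImage i k.imageι ι :=
    (IsPullback.of_hasPullback k.imageι ι).of_iso (asIso s).symm (Iso.refl _) (Iso.refl _) (Iso.refl _)
      (by simp [s]) (by simp [s]) (by simp) (by simp)
  refine ⟨k.image, k.imageι, k.toImage, inferInstance, hflat, hpb, fun X'' i'' j'' hi'' hf'' hp'' => ?_⟩
  have heq : i''.ker = k.imageι.ker := (key _ _ _ hi'' hf'' hp'').trans (key _ _ _ inferInstance hflat hpb).symm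
  haveI := IsClosedImmersion.isIso_lift i'' k.imageι heq
  exact ⟨asIso (IsClosedImmersion.lift i'' k.imageι heq.le), IsClosedImmersion.lift_fac _ _ _⟩

end Groth.Agent.S11321
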