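import Groth.Statements.S11326
import Groth.Agent.TwistPairing.Main


set_option autoImplicit false
set_option backward.isDefEq.respectTransparency false
universe u
open CategoryTheory AlgebraicGeometry
open ProjDual

namespace Groth.Agent.S11326

/-- Let A be a Noetherian ring, r ≥ 1, X = P^r_A and ω = O_X(-r-1). Then there is an A-linear
isomorphism t : H^r(X, ω) ≅ A such that for every integer n and every A-linear form ψ on H^r(X,
O_X(-n-r-1)) there is exactly one morphism of O_X-modules φ : O_X(-n-r-1) → ω with ψ = t ∘ H^r(φ).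
(The published form of the pairing assertion is a perfect pairing H^0(X, O_X(n)) × H^r(X,
O_X(-n-r-1)) → H^r(X, ω) ≅ A of finitely generated free A-modules; here the first factor is written
as Hom(O_X(-n-r-1), ω), which the pairing identifies with H^0(X, O_X(n)), and only the resulting
bijection onto the A-dual of H^r(X, O_X(-n-r-1)) is stated.) -/
theorem result (A : Type u) [CommRing A]
    [IsNoetherianRing A] (r : ℕ) (hr : 1 ≤ r) :
    ∃ t : Coh.HH (CohB1.ProjSpace r A) (Twist.twistProjSpace r A (-((r : ℤ) + 1))) r ≃ₗ[A] A,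
      ∀ (n : ℤ) (ψ : Coh.HH (CohB1.ProjSpace r A) (Twist.twistProjSpace r A (-(n + r + 1))) r →ₗ[A] A),
        ∃! φ : Twist.twistProjSpace r A (-(n + r + 1)) ⟶ Twist.twistProjSpace r A (-((r : ℤ) + 1)),
          ∀ x : Coh.HH (CohB1.ProjSpace r A) (Twist.twistProjSpace r A (-(n + r + 1))) r,
            ψ x = t (Sheaf.H.map ((SheafOfModules.toSheaf (CohB1.ProjSpace r A).ringCatSheaf).map φ) r x) := by
  obtain ⟨t, ht⟩ := Groth.Agent.TwistPairing.exists_trace_perfect A r
  refine ⟨t, fun n ψ => ?_⟩
  rcases le_or_gt 0 n with hn | hn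
  · obtain ⟨k, rfl⟩ := Int.eq_ofNat_of_zero_le hn
    exact ht k _ rfl ψ
  · haveI := Groth.Agent.ProjCech.twist_vanish (R := A) r (-(n + r + 1)) r
      (fun h => by omega) (fun h => by omega)
    have h0 : ∀ u v : Twist.twistProjSpace r A (-(n + r + 1)) ⟶ Twist.twistProjSpace r A (-((r : ℤ) + 1)), u = v := by
      intro u v
      obtain ⟨i⟩ := Groth.Agent.TwistPairing.nonempty_twist_twist (R := A) r (-((r : ℤ) + 1)) (n + r + 1) n (by ring)
      obtain ⟨i₀⟩ := Groth.Agent.TwistPairing.nonempty_twist_twist (R := A) r (n + r + 1) (-(n + r + 1)) 0 (by ring)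
      obtain ⟨j⟩ := GrT.nonempty_twist_zero_iso (𝒜 := CohB1.polyGrading r A)
      obtain ⟨h₁⟩ := Groth.Agent.SerrePn.nonempty_homEquiv A (Groth.Agent.CohFinite.isInvertible_twist r A (n + r + 1))
        (i₀ ≪≫ j) (Twist.twistProjSpace r A (-((r : ℤ) + 1)))
      haveI := Groth.Agent.ProjCech.twist_vanish (R := A) r n 0 (fun h => by omega) (fun h => by omega)
      exact (h₁.trans (Groth.Agent.CohFinite.hhEquiv A i 0)).injective (Subsingleton.elim _ _)
    refine ⟨0, fun x => ?_, fun φ _ => h0 φ 0⟩
    rw [Subsingleton.elim x 0, map_zero]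
    exact (map_zero t).symm.trans (congrArg t (map_zero (Groth.Agent.CohFinite.hhMap A
      (0 : Twist.twistProjSpace r A (-(n + r + 1)) ⟶ Twist.twistProjSpace r A (-((r : ℤ) + 1))) r)).symm)

end Groth.Agent.S11326
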