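import Groth.Statements.S11328
import Groth.Agent.ExtShX.AffineSections


set_option autoImplicit false
set_option backward.isDefEq.respectTransparency false
set_option backward.isDefEq.respectTransparency.types false
universe u
open CategoryTheory AlgebraicGeometry
open Coherent

namespace Groth.Agent.S11328

/-- Let X be a scheme, U an open subscheme, F and G O_X-modules and i ≥ 0. Then the restriction to U of
the Ext sheaf Ext^i_X(F, G) — the i-th right derived functor of the internal Hom functor Hom(F, -)
on O_X-modules, evaluated at G — is isomorphic to the Ext sheaf Ext^i_U(F|_U, G|_U) formed on U.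
(The internal Hom functors and injective resolutions on X and on U are the stated instance
hypotheses, all true; stated for schemes, the published statement being for ringed spaces; existence
of an isomorphism of O_U-modules.) -/
theorem result (X : Scheme.{u}) (U : X.Opens) (F G : X.Modules) (i : ℕ)
    [ModSite.HasSheafHom (O := X.sheaf) F] [HasInjectiveResolutions (ModSite.Mod X.sheaf)]
    [ModSite.HasSheafHom (O := (↑U : Scheme.{u}).sheaf) (F.restrict U.ι)]
    [HasInjectiveResolutions (ModSite.Mod (↑U : Scheme.{u}).sheaf)] :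
    Nonempty ((Scheme.Modules.restrictFunctor U.ι).obj ((ModSite.extSh (O := X.sheaf) F i).obj G) ≅
      (ModSite.extSh (O := (↑U : Scheme.{u}).sheaf) (F.restrict U.ι) i).obj (G.restrict U.ι)) := by
  let ρ := Scheme.Modules.restrictFunctorIsoPullback U.ι
  obtain ⟨e₁⟩ := Groth.Agent.ExtShX.nonempty_extShIso F i G
  obtain ⟨e₂⟩ := Groth.Agent.ExtShX.nonempty_R_restrict U F i
  obtain ⟨e₃⟩ := Groth.Agent.ExtShX.nonempty_extShIso (F.restrict U.ι) i (G.restrict U.ι)
  exact ⟨(Scheme.Modules.restrictFunctor U.ι).mapIso e₁ ≪≫ ρ.app _ ≪≫ e₂.app G ≪≫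
    (Groth.Agent.ExtShX.RIso (ρ.app F).symm i).app _ ≪≫
    (Groth.Agent.ExtShX.R _ i).mapIso (ρ.app G).symm ≪≫ e₃.symm⟩

end Groth.Agent.S11328
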