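import Groth.Statements.S11333
import Groth.Agent.CurveFrob.Basic

set_option autoImplicit false
universe u
open CategoryTheory CategoryTheory.Limits AlgebraicGeometry
open Curves

namespace Groth.Agent.S11333

/-- Let f : X → Y be a finite morphism over k of curves over an algebraically closed field k (integral,
proper over k, of dimension one, all local rings regular), sending the generic point of X to that of
Y, such that the function field extension K(X)/K(Y) is purely inseparable. Then X and Y are
isomorphic as schemes (the isomorphism need not be compatible with the k-structures; existence of an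
isomorphism only). -/
theorem result (k : Type u) [Field k] [IsAlgClosed k] (X : Scheme.{u}) [X.Over (Spec (CommRingCat.of k))]
    [IsIntegral X] [IsProper (X ↘ (Spec (CommRingCat.of k)))] (hdimX : topologicalKrullDim X = 1)
    (hregX : ∀ x : X, IsRegularLocalRing (X.presheaf.stalk x))
    (Y : Scheme.{u}) [Y.Over (Spec (CommRingCat.of k))]
    [IsIntegral Y] [IsProper (Y ↘ (Spec (CommRingCat.of k)))] (hdimY : topologicalKrullDim Y = 1)
    (hregY : ∀ x : Y, IsRegularLocalRing (Y.presheaf.stalk x))
    (f : X ⟶ Y) [IsFinite f] (hf : f ≫ (Y ↘ (Spec (CommRingCat.of k))) = X ↘ (Spec (CommRingCat.of k)))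
    (e : f (genericPoint X) = genericPoint Y) :
    letI := ((Y.presheaf.stalkSpecializes (specializes_of_eq e) ≫ f.stalkMap (genericPoint X)).hom).toAlgebra
    IsPurelyInseparable Y.functionField X.functionField → Nonempty (X ≅ Y) := by
  intro hpi
  have hn : ∀ (Z : Scheme.{u}) (_ : ∀ z : Z, IsRegularLocalRing (Z.presheaf.stalk z)), Pi1.IsNormalScheme Z :=
    fun Z h z => by
      haveI := h z
      exact ⟨Groth.Agent.RegLoc.isDomain (A := Z.presheaf.stalk z), Groth.Agent.RegLoc.isIntegrallyClosed⟩
  haveI : Smooth (X ↘ Spec (CommRingCat.of k)) := Scheme.Hom.smoothLocus_eq_top_iff.1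
    (TopologicalSpace.Opens.ext (Set.eq_univ_of_forall fun x =>
      Groth.Agent.GeomProp.mem_smoothLocus_of_regular_perfect (X ↘ Spec (CommRingCat.of k)) (hregX x)))
  obtain hc | ⟨p, hp, hpk⟩ := CharP.exists' k
  · letI aψ : Algebra Y.functionField X.functionField :=
      ((Y.presheaf.stalkSpecializes (specializes_of_eq e) ≫ f.stalkMap (genericPoint X)).hom).toAlgebra
    haveI : IsPurelyInseparable Y.functionField X.functionField := hpi
    haveI : CharZero Y.functionField :=
      charZero_of_injective_ringHom (Curv2.stalkMap k Y (genericPoint Y)).injective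
    haveI : Algebra.IsAlgebraic Y.functionField X.functionField := IsPurelyInseparable.isIntegral.isAlgebraic
    haveI : Algebra.IsSeparable Y.functionField X.functionField := inferInstance
    have hsurj := IsPurelyInseparable.surjective_algebraMap_of_isSeparable Y.functionField X.functionField
    have hgen := Groth.Agent.CurveBir.genHom_eq_of_stalkMap X Y f e
    have hψk : (algebraMap Y.functionField X.functionField).comp (Curv2.stalkMap k Y (genericPoint Y)) =
        Curv2.stalkMap k X (genericPoint X) := by
      have h1 : Spec.map (CommRingCat.ofHom ((algebraMap Y.functionField X.functionField).comp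
          (Curv2.stalkMap k Y (genericPoint Y)))) =
          Spec.map (CommRingCat.ofHom (Curv2.stalkMap k X (genericPoint X))) := by
        rw [← Groth.Agent.CurveBir.fromSpecStalk_over, CommRingCat.ofHom_comp, Spec.map_comp,
          ← Groth.Agent.CurveBir.fromSpecStalk_over, ← hf, ← Category.assoc, ← Category.assoc, ← hgen]
        rfl
      exact congrArg CommRingCat.Hom.hom (Spec.map_injective h1)
    obtain ⟨i, -⟩ := Groth.Agent.CurveBir.exists_iso k X Y
      (Groth.Agent.SmoothCompl.ringKrullDim_stalk_eq_one (X ↘ Spec (CommRingCat.of k)) hdimX) (hn X hregX)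
      (Groth.Agent.SmoothCompl.ringKrullDim_stalk_eq_one (Y ↘ Spec (CommRingCat.of k)) hdimY) (hn Y hregY)
      (RingEquiv.ofBijective _ ⟨(algebraMap Y.functionField X.functionField).injective, hsurj⟩) hψk
    exact ⟨i⟩
  · haveI := hp
    obtain ⟨r, i, -⟩ := Groth.Agent.CurveFrob.exists_iso k p X Y hdimX hdimY (hn Y hregY) f hf e hpi
    haveI : ExpChar k p := .prime hp.out
    haveI : IsIso (CommRingCat.ofHom (iterateFrobenius k p r)) :=
      (ConcreteCategory.isIso_iff_bijective _).2 (bijective_iterateFrobenius k p r)
    haveI : IsIso (Spec.map (CommRingCat.ofHom (iterateFrobenius k p r))) := inferInstance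
    exact ⟨(i ≪≫ asIso (pullback.fst _ _)).symm⟩

end Groth.Agent.S11333
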