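import Groth.Statements.S11336
import Groth.Agent.CurveOmega.Duality

set_option autoImplicit false
universe u
open CategoryTheory CategoryTheory.Limits AlgebraicGeometry
open Curves

set_option backward.isDefEq.respectTransparency false
set_option backward.isDefEq.respectTransparency.types false

open Groth.Agent

namespace Groth.Agent.S11336

/-- Let k be an algebraically closed field and X a curve over k (an integral scheme, proper over k, of
dimension one, with all local rings regular), and L an invertible O_X-module with an inverse M (L ⊗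
M ≅ O_X) such that H^0(X, L) ≠ 0 and H^0(X, Ω_{X/k} ⊗ M) ≠ 0 (L comes from an effective special
divisor D). Then dim |D| ≤ deg D / 2, i.e. 2 (dim_k H^0(X, L) - 1) ≤ deg L, with deg L = χ(L) -
χ(O_X). -/
theorem result (k : Type u) [Field k] [IsAlgClosed k] (X : Scheme.{u}) [X.Over (Spec (CommRingCat.of k))]
    [IsIntegral X] [IsProper (X ↘ (Spec (CommRingCat.of k)))] (hdim : topologicalKrullDim X = 1)
    (hreg : ∀ x : X, IsRegularLocalRing (X.presheaf.stalk x))
    (L M : X.Modules) (hL : PicF.IsInvertible L) (hM : ClSub.IsInverseOf L M)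
    (hs : Nontrivial (Coh.HH X L 0)) (hsp : Nontrivial (Coh.HH X (CohB1.tensorMod (Omega.sheaf (X ↘ (Spec (CommRingCat.of k)))) M) 0)) :
    2 * (Module.finrank k (Coh.HH X L 0) : ℤ) ≤ Curv2.deg k X L 1 + 2 := by
  have hC := CurveOmega.smoothProper k X hdim hreg
  obtain ⟨e⟩ := hM
  have hMi := NegTwist.isInvertible_inverse hL e
  obtain ⟨hI, -, -, -⟩ := CurveOmega.omega_facts k X hC
  have h1 := CurveOmega.h1_eq k X hC hL e
  haveI := CurveRR.isNoetherian_of_proper k X
  haveI := CohFinite.finite_proper k X _ (CurveRR.isCoh_of_inv hL) 0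
  haveI := CohFinite.finite_proper k X _ (CurveRR.isCoh_of_inv (TMul.isInvertible_tensorMod hI hMi)) 0
  have a0 : 0 < CurveRR.h k L 0 := Module.finrank_pos (R := k) (M := Coh.HH X L 0)
  have a1 : 0 < CurveRR.h k (CohB1.tensorMod (Omega.sheaf (X ↘ (Spec (CommRingCat.of k)))) M) 0 :=
    Module.finrank_pos (R := k)
  rcases CurveRR.h0_cases (k := k) hdim.le hL (by omega) with he | he
  · exfalso
    rw [Curv2.deg, CurveRR.euler_eq hdim.le, CurveRR.euler_structure hdim.le (CurveRR.h0_structure k X)] at he
    push_cast at he
    omega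
  · exact he

end Groth.Agent.S11336
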