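import Groth.Statements.S11337
import Groth.Agent.CurveOmega.CliffordCurve
import Groth.Agent.CurveOmega.Canonical
import Groth.Agent.CurveRR.Pencil

set_option autoImplicit false
universe u
open CategoryTheory CategoryTheory.Limits AlgebraicGeometry
open Curves

set_option backward.isDefEq.respectTransparency false
set_option backward.isDefEq.respectTransparency.types false

open Groth.Agent

namespace Groth.Agent.S11337

/-- Let k be an algebraically closed field and X a curve over k (an integral scheme, proper over k, of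
dimension one, with all local rings regular), and L an invertible O_X-module with an inverse M such
that H^0(X, L) ≠ 0, H^0(X, Ω_{X/k} ⊗ M) ≠ 0, L is isomorphic neither to O_X nor to Ω_{X/k}, and 2
(dim_k H^0(X, L) - 1) = deg L. Then X is hyperelliptic and L is a multiple of the g^1_2: there is an
invertible module N of degree 2 with two k-linearly independent global sections (a g^1_2) such that
L ≅ N^{⊗ r} with r = dim_k H^0(X, L) - 1. (Only the implication from equality is stated here; the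
converse, that on a hyperelliptic curve the effective special multiples of the g^1_2 attain
equality, is not part of this statement.) -/
theorem result (k : Type u) [Field k] [IsAlgClosed k] (X : Scheme.{u}) [X.Over (Spec (CommRingCat.of k))]
    [IsIntegral X] [IsProper (X ↘ (Spec (CommRingCat.of k)))] (hdim : topologicalKrullDim X = 1)
    (hreg : ∀ x : X, IsRegularLocalRing (X.presheaf.stalk x))
    (L M : X.Modules) (hL : PicF.IsInvertible L) (hM : ClSub.IsInverseOf L M)
    (hs : Nontrivial (Coh.HH X L 0)) (hsp : Nontrivial (Coh.HH X (CohB1.tensorMod (Omega.sheaf (X ↘ (Spec (CommRingCat.of k)))) M) 0))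
    (h0 : IsEmpty (L ≅ Coh.structureModule X)) (hK : IsEmpty (L ≅ (Omega.sheaf (X ↘ (Spec (CommRingCat.of k))))))
    (heq : 2 * (Module.finrank k (Coh.HH X L 0) : ℤ) = Curv2.deg k X L 1 + 2) :
    ∃ (N : X.Modules) (s : Fin 2 → LinSer.Sect X N), LinSer.IsLinSer k X N 2 1 s ∧
      Nonempty (L ≅ CohB1.tensorPow N (Module.finrank k (Coh.HH X L 0) - 1)) := by
  haveI := CurveRR.isNoetherian_of_proper k X
  have hC := CurveOmega.smoothProper k X hdim hreg
  haveI := CohFinite.finite_proper k X L (CurveRR.isCoh_of_inv hL) 0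
  obtain ⟨hΩ, -, -, -⟩ := CurveOmega.omega_facts k X hC
  obtain ⟨e⟩ := hM
  have hMi := NegTwist.isInvertible_inverse hL e
  haveI := CohFinite.finite_proper k X _ (CurveRR.isCoh_of_inv (TMul.isInvertible_tensorMod hΩ hMi)) 0
  have hL0 : 0 < CurveRR.h k L 0 := Module.finrank_pos
  have hh1 : CurveRR.h k L 1 ≠ 0 := by
    rw [CurveOmega.h1_eq k X hC hL e]
    exact (Module.finrank_pos (R := k) (M := Coh.HH X (CohB1.tensorMod (Omega.sheaf (X ↘ (Spec (CommRingCat.of k)))) M) 0)).ne'
  change 2 * (CurveRR.h k L 0 : ℤ) = Curv2.deg k X L 1 + 2 at heq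
  obtain ⟨s₀, hs₀⟩ := CurveRR.exists_section (k := k) (L := L) (by omega)
  have hpos : 0 < Curv2.deg k X L 1 := by
    obtain ⟨hle, hiso⟩ := CurveRR.deg_le_and_isIso (k := k) hdim.le TMul.isInvertible_structureModule hL s₀ hs₀
    rw [CurveRR.deg_structure] at hle hiso
    rcases hle.lt_or_eq with h | h
    · exact h
    · haveI := hiso h
      exact h0.elim (asIso s₀).symm
  have hsum := CurveRR.h0_add_h1_le (k := k) hdim.le hL (by omega) hh1
  have hrr : (CurveRR.h k L 0 : ℤ) - CurveRR.h k L 1 = Curv2.deg k X L 1 + 1 - Curv2.genus k X := by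
    rw [Curv2.deg, CurveRR.euler_eq hdim.le, CurveRR.euler_structure hdim.le (CurveRR.h0_structure k X)]
    push_cast
    ring
  have hlt : Curv2.deg k X L 1 < 2 * (Curv2.genus k X : ℤ) - 2 := by
    by_contra hge
    exact hK.elim (CurveOmega.nonempty_iso_omega k X hC hL (by omega) (by omega)).some
  obtain ⟨N, hN, hdN, hN2⟩ := CurveOmega.exists_pencil_of_eq hC hL (by omega) hh1 heq hlt
  obtain ⟨M', s, hs⟩ := (CurveOmega.exists_linSer_iff (k := k) (X := X) 2).mpr ⟨N, hN, by exact_mod_cast hdN, hN2⟩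
  obtain ⟨hM'i, hM'd, hs2⟩ := hs
  refine ⟨M', s, ⟨hM'i, hM'd, hs2⟩, ?_⟩
  have hM'2 := CurveRR.two_le_h0_of_linIndep k (CurveRR.isCoh_of_inv hM'i) s hs2
  push_cast at hM'd
  change Nonempty (L ≅ CohB1.tensorPow M' (CurveRR.h k L 0 - 1))
  obtain ⟨r, hr⟩ : ∃ r, CurveRR.h k L 0 = r + 1 := ⟨_, (Nat.sub_add_cancel hL0).symm⟩
  rw [hr, Nat.add_sub_cancel]
  obtain ⟨m, hm⟩ : ∃ m, Curv2.genus k X = r + 1 + m := ⟨Curv2.genus k X - (r + 1), by omega⟩
  have hNm := TMul.isInvertible_tensorPow hM'i m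
  have hNr := TMul.isInvertible_tensorPow hM'i r
  have hm0 := CurveOmega.h0_pow hC hM'i hM'2 m
  have hr0 := CurveOmega.h0_pow hC hM'i hM'2 r
  have key : ∀ A : X.Modules, PicF.IsInvertible A → Curv2.deg k X A 1 = 2 * (r : ℤ) → r + 1 ≤ CurveRR.h k A 0 →
      Nonempty (CohB1.tensorMod A (CohB1.tensorPow M' m) ≅ Omega.sheaf (X ↘ (Spec (CommRingCat.of k)))) := by
    intro A hA hAd hA0
    refine CurveOmega.nonempty_iso_omega k X hC (TMul.isInvertible_tensorMod hA hNm) ?_ ?_
    · rw [CurveRR.deg_tensor_inv hdim.le hA hNm, CurveRR.deg_tensorPow hdim.le hM'i, hAd, hM'd, hm]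
      push_cast
      ring
    · have := CurveOmega.h0_add_le_tensor hC hA hNm (by omega) (by omega)
      omega
  obtain ⟨eA⟩ := key L hL (by omega) (by omega)
  obtain ⟨eB⟩ := key _ hNr (by rw [CurveRR.deg_tensorPow hdim.le hM'i, hM'd]; ring) hr0
  obtain ⟨J, hJ, ⟨θ⟩⟩ := W7Hull.exists_tensor_inverse hNm
  let u : ∀ A : X.Modules, CohB1.tensorMod (CohB1.tensorMod A (CohB1.tensorPow M' m)) J ≅ A := fun A =>
    TMul.assocIso A _ J ≪≫ PicGrp.tensorModIso (Iso.refl A) θ ≪≫ TMul.commIso _ _ ≪≫ TMul.leftUnitIso A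
  exact ⟨(u L).symm ≪≫ PicGrp.tensorModIso (eA ≪≫ eB.symm) (Iso.refl J) ≪≫ u _⟩

end Groth.Agent.S11337
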