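import Groth.Statements.S11345
import Groth.Agent.PlaneBlow.TrivialOff
import Groth.Agent.PtPush.StrictChi
import Groth.Agent.SurfAdj.Basic
import Groth.Agent.StabK3.Curve
import Groth.Agent.Horrocks.Dim
import Groth.Agent.HurwitzAlg.Chart

set_option backward.isDefEq.respectTransparency false
set_option linter.style.haveILetI false
-- import your own Groth.Agent.* helpers here

set_option autoImplicit false
universe u
open CategoryTheory CategoryTheory.Limits AlgebraicGeometry
open Surf

namespace Groth.Agent.S11345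

attribute [local instance] W7Cube.law

/-- Let X be a surface over an algebraically closed field k (an integral scheme of dimension two with
all local rings regular, admitting a closed immersion into some P^n_k over k), P a closed point of X
with ideal sheaf m_P, and π : X' → X the monoidal transformation with centre P (a blowing up of X in
m_P, characterised by its universal property), with exceptional curve E of ideal I_E = m_P · O_{X'};
let W and W' be canonical sheaves of X and X' (second exterior powers of the sheaves of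
differentials), X' being again a surface of the same kind. Then K_{X'} = π^* K_X + E in Pic X', i.e.
W' ⊗ I_E ≅ π^* W (existence of an isomorphism), and K_{X'}^2 = K_X^2 - 1, intersection numbers being
(L·M) = χ(O) - χ(L) - χ(M) + χ(L ⊗ M) (packaged as FGA.intNum). -/
theorem result (k : Type u) [Field k] [IsAlgClosed k] (X : Scheme.{u}) [X.Over (Spec (CommRingCat.of k))]
    [IsIntegral X] (hdim : topologicalKrullDim X = 2) (hreg : ∀ x : X, IsRegularLocalRing (X.presheaf.stalk x))
    (hproj : ∃ (n : ℕ) (ι : X ⟶ CohB1.ProjSpace n k), IsClosedImmersion ι ∧ ι ≫ CohB1.ProjSpace.toSpec n k = (X ↘ (Spec (CommRingCat.of k))))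
    (W : X.Modules) (hW : ExtPow.IsExtPow 2 (Omega.sheaf (X ↘ (Spec (CommRingCat.of k)))) W)
    (P : X) (hP : IsClosed ({P} : Set X))
    (X' : Scheme.{u}) (π : X' ⟶ X) (hπ : BlowUp.IsBlowUp π (Scheme.IdealSheafData.vanishingIdeal ⟨{P}, hP⟩))
    [IsIntegral X'] (hdim' : topologicalKrullDim X' = 2) (hreg' : ∀ x : X', IsRegularLocalRing (X'.presheaf.stalk x))
    (hproj' : ∃ (n : ℕ) (ι : X' ⟶ CohB1.ProjSpace n k), IsClosedImmersion ι ∧ ι ≫ CohB1.ProjSpace.toSpec n k = π ≫ (X ↘ (Spec (CommRingCat.of k))))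
    (W' : X'.Modules) (hW' : ExtPow.IsExtPow 2 (Omega.sheaf (π ≫ (X ↘ (Spec (CommRingCat.of k))))) W') :
    letI : X'.Over (Spec (CommRingCat.of k)) := ⟨π ≫ (X ↘ (Spec (CommRingCat.of k)))⟩
    Nonempty (CohB1.tensorMod W' (ClSub.idealMod (BlowUp.exceptional π (Scheme.IdealSheafData.vanishingIdeal ⟨{P}, hP⟩))) ≅
        (Scheme.Modules.pullback π).obj W) ∧
      FGA.intNum k X' 2 ![W', W'] (Coh.structureModule X') = FGA.intNum k X 2 ![W, W] (Coh.structureModule X) - 1 := by
  letI : X'.Over (Spec (CommRingCat.of k)) := ⟨π ≫ (X ↘ (Spec (CommRingCat.of k)))⟩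
  obtain ⟨N₀, ι₀, hι₀, hι₀k⟩ := hproj
  obtain ⟨N₁, ι₁, hι₁, hι₁k⟩ := hproj'
  haveI := ProjMor.isProper_toSpec N₀ k
  haveI := ProjMor.isProper_toSpec N₁ k
  haveI : IsProper (X ↘ Spec (CommRingCat.of k)) := by rw [← hι₀k]; infer_instance
  haveI : IsProper (π ≫ (X ↘ Spec (CommRingCat.of k))) := by rw [← hι₁k]; infer_instance
  haveI : IsProper (X' ↘ Spec (CommRingCat.of k)) := inferInstanceAs (IsProper (π ≫ (X ↘ Spec (CommRingCat.of k))))
  haveI : Smooth (X ↘ Spec (CommRingCat.of k)) := Castel.smooth_of_regular_stalks _ hreg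
  haveI : Smooth (X' ↘ Spec (CommRingCat.of k)) := Castel.smooth_of_regular_stalks _ hreg'
  haveI := SurfAdj.smooth2 k hdim
  haveI := SurfAdj.smooth2 k hdim'
  haveI : SmoothOfRelativeDimension 2 (π ≫ (X ↘ Spec (CommRingCat.of k))) :=
    inferInstanceAs (SmoothOfRelativeDimension 2 (X' ↘ Spec (CommRingCat.of k)))
  haveI := CurveRR.isNoetherian_of_proper k X
  haveI := CurveRR.isNoetherian_of_proper k X'
  have hp : PtBlow.IsRegPt X P := ⟨hP, hreg P, (Intersect.dim_stalk_closed k hP).trans hdim⟩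
  set E := BlowUp.exceptional π (Scheme.IdealSheafData.vanishingIdeal ⟨{P}, hP⟩) with hEdef
  have hE : BlowUp.IsEffCartierIdeal E := hπ.1
  haveI : IsIntegral E.subscheme := by
    obtain ⟨K, _, ι, i, hι, -, -, hker, -, -⟩ := PtPush.exists_line_data hp hπ
    haveI := hι
    haveI : IsIntegral (CohB1.ProjSpace 1 K) := Horrocks.isIntegral_projSpace
    have h := StabK3.isIntegral_ker ι
    rwa [hker] at h
  have hEs : (E.support : Set X') = π.base ⁻¹' {P} := by
    have h : E = (PtBlow.pt hp).comap π := rfl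
    rw [h, Scheme.IdealSheafData.support_comap]
    show π.base ⁻¹' ((PtBlow.pt hp).support : Set X) = _
    rw [PtBlow.coe_support_pt hp]
  have hEi := (Groth.Agent.S8914.result E).2 hE
  have hWi := SurfAdj.isInvertible_W k hdim hW
  have hW'i := SurfAdj.isInvertible_W k hdim' hW'
  have hPi := PicLoc.isInvertible_pullback π hWi
  -- off the exceptional curve
  let V : X.Opens := ⟨({P} : Set X)ᶜ, hP.isOpen_compl⟩
  haveI : IsIso (π ∣_ V) := PtPush.isIso_restrict_le π (V := (PtBlow.pt hp).support.compl) (fun v hv => by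
    show v ∉ ((PtBlow.pt hp).support : Set X)
    rw [PtBlow.coe_support_pt hp]
    exact hv) (BlowUpLib.isIso_restrict hπ)
  let U : X'.Opens := π ⁻¹ᵁ V
  have hU : (U : Set X') = (E.support : Set X')ᶜ := by
    rw [hEs]
    rfl
  haveI : IsOpenImmersion (U.ι ≫ π) := by rw [← morphismRestrict_ι]; infer_instance
  obtain ⟨eU⟩ := PlaneBlow.nonempty_topPower_pullback_iso (π ≫ (X ↘ Spec (CommRingCat.of k)))
    (X ↘ Spec (CommRingCat.of k)) 2 hW' hW U.ι (U.ι ≫ π) (Category.assoc _ _ _).symm
  obtain ⟨M, hM, hMinv⟩ := Castel.exists_inverse_module hPi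
  obtain ⟨q⟩ := id hMinv
  obtain ⟨p⟩ := TMul.nonempty_pullTensorIso U.ι W' M
  obtain ⟨p'⟩ := TMul.nonempty_pullTensorIso U.ι M ((Scheme.Modules.pullback π).obj W)
  let t : (Scheme.Modules.pullback U.ι).obj (CohB1.tensorMod W' M) ≅ Coh.structureModule (U : Scheme.{u}) :=
    p.symm ≪≫ PicGrp.tensorModIso (eU ≪≫ ((Scheme.Modules.pullbackComp U.ι π).app W).symm) (Iso.refl _) ≪≫
      TMul.commIso _ _ ≪≫ p' ≪≫ (Scheme.Modules.pullback U.ι).mapIso q ≪≫ PicLoc.pullbackStructureIso U.ι
  have hG := TMul.isInvertible_tensorMod hW'i hM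
  obtain ⟨a, ha⟩ := PlaneBlow.exists_zpow_of_trivial_off hE hG U hU t
  rw [Castel.cls_tensor hW'i hM, Castel.cls_eq_inv hM hPi hMinv, mul_inv_eq_iff_eq_mul] at ha
  -- intersection numbers
  obtain ⟨D, hD, hDinv⟩ := Castel.exists_inverse_module hEi
  obtain ⟨hDi', hDc⟩ := Castel.cls_inverse hE hDinv
  have hcls : ∀ C : X'.Modules, PicF.IsInvertible C →
      Nakai.inter k W' C = Nakai.inter k ((Scheme.Modules.pullback π).obj W) C +
        (a : ℚ) * Nakai.inter k (ClSub.idealMod E) C := by
    intro C hC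
    obtain ⟨n, rfl | rfl⟩ := Int.eq_nat_or_neg a
    · have h : Nonempty (W' ≅ CohB1.tensorMod ((Scheme.Modules.pullback π).obj W)
          (CohB1.tensorPow (ClSub.idealMod E) n)) := by
        rw [Castel.nonempty_iso_iff hW'i (TMul.isInvertible_tensorMod hPi (TMul.isInvertible_tensorPow hEi n)),
          Castel.cls_tensor hPi (TMul.isInvertible_tensorPow hEi n), Castel.cls_tensorPow hEi n, ha,
          Castel.clsD_eq hEi, zpow_natCast, mul_comm]
      rw [Nakai.inter_iso k ((PicGrp.cl_eq_cl_iff _ _).2 h), Nakai.inter_tensor k hdim'.le hPi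
        (TMul.isInvertible_tensorPow hEi n) hC, Nakai.inter_pow k hdim'.le hEi hC n, Int.cast_natCast]
    · have h : Nonempty (W' ≅ CohB1.tensorMod ((Scheme.Modules.pullback π).obj W)
          (CohB1.tensorPow D n)) := by
        rw [Castel.nonempty_iso_iff hW'i (TMul.isInvertible_tensorMod hPi (TMul.isInvertible_tensorPow hD n)),
          Castel.cls_tensor hPi (TMul.isInvertible_tensorPow hD n), Castel.cls_tensorPow hD n, ha, hDc,
          zpow_neg, zpow_natCast, inv_pow, mul_comm]
      rw [Nakai.inter_iso k ((PicGrp.cl_eq_cl_iff _ _).2 h), Nakai.inter_tensor k hdim'.le hPi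
        (TMul.isInvertible_tensorPow hD n) hC, Nakai.inter_pow k hdim'.le hD hC n,
        Nakai.inter_inv k hdim'.le hEi ⟨TMul.commIso _ _ ≪≫ hDinv.some⟩ hC, Int.cast_neg, Int.cast_natCast]
      ring
  have h5 : (letI : Algebra k (X.residueField P) := Curv2.resAlgebra k X P
      Module.finrank k (X.residueField P)) = 1 := by
    obtain ⟨V₀, hV₀, hPV₀, -⟩ := exists_isAffineOpen_mem_and_subset (show P ∈ (⊤ : X.Opens) from trivial)
    letI : Algebra k (X.residueField P) := Curv2.resAlgebra k X P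
    haveI := HurwitzAlg.finite_residueField (k := k) hV₀ hPV₀ hP
    rw [← (AlgEquiv.ofBijective (Algebra.ofId k (X.residueField P))
      IsAlgClosed.algebraMap_bijective_of_isIntegral).toLinearEquiv.finrank_eq, Module.finrank_self]
  obtain ⟨hWW, hWE, hEE⟩ := PtPush.intNum_blowUp hp k rfl hreg hπ hdim.le hdim'.le W W hWi hWi
  rw [h5, Nat.cast_one] at hEE
  have hEO := PtPush.euler_exceptional k hp rfl hπ
  rw [h5, Nat.cast_one] at hEO
  have hRR := SurfAdj.riemann_roch k hdim' hW' hEi
  have hEW : FGA.intNum k X' 2 ![ClSub.idealMod E, W'] (Coh.structureModule X') = 1 := by linarith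
  have hEW' : Nakai.inter k W' (ClSub.idealMod E) = 1 := by
    rw [Nakai.inter_comm, ← SurfAdj.intNum_inter k hdim', hEW, Int.cast_one]
  have hEE' : Nakai.inter k (ClSub.idealMod E) (ClSub.idealMod E) = -1 := by
    rw [← SurfAdj.intNum_inter k hdim', hEE, Int.cast_neg, Int.cast_one]
  have hWE' : Nakai.inter k ((Scheme.Modules.pullback π).obj W) (ClSub.idealMod E) = 0 := by
    rw [← SurfAdj.intNum_inter k hdim', hWE, Int.cast_zero]
  have hWW' : Nakai.inter k ((Scheme.Modules.pullback π).obj W) ((Scheme.Modules.pullback π).obj W) =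
      (FGA.intNum k X 2 ![W, W] (Coh.structureModule X) : ℚ) := by
    rw [← SurfAdj.intNum_inter k hdim', hWW]
  have ha1 : a = -1 := by
    have h := hcls _ hEi
    rw [hEW', hWE', hEE'] at h
    have h' : (a : ℚ) = ((-1 : ℤ) : ℚ) := by push_cast; linarith
    exact_mod_cast h'
  refine ⟨?_, ?_⟩
  · rw [Castel.nonempty_iso_iff (TMul.isInvertible_tensorMod hW'i hEi) hPi, Castel.cls_tensor hW'i hEi, ha, ha1,
      Castel.clsD_eq hEi, zpow_neg_one, mul_comm _ (PicGrp.cls _ hPi), mul_assoc, inv_mul_cancel, mul_one]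
  · have h1 := hcls _ hW'i
    have h2 := hcls _ hPi
    rw [Nakai.inter_comm k (ClSub.idealMod E) W', hEW', ha1] at h1
    rw [Nakai.inter_comm k (ClSub.idealMod E) ((Scheme.Modules.pullback π).obj W), hWE', hWW', ha1] at h2
    rw [Nakai.inter_comm k ((Scheme.Modules.pullback π).obj W) W', h2] at h1
    have h3 : (FGA.intNum k X' 2 ![W', W'] (Coh.structureModule X') : ℚ) =
        ((FGA.intNum k X 2 ![W, W] (Coh.structureModule X) - 1 : ℤ) : ℚ) := by
      rw [SurfAdj.intNum_inter k hdim', h1]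
      push_cast
      ring
    exact_mod_cast h3

end Groth.Agent.S11345
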