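import Groth.Statements.S11348
import Groth.Agent.VBTwo.GenusOne

set_option autoImplicit false
universe u
open CategoryTheory CategoryTheory.Limits AlgebraicGeometry
open Curves

set_option backward.isDefEq.respectTransparency false
set_option backward.isDefEq.respectTransparency.types false

open Groth.Agent

namespace Groth.Agent.S11348

/-- Let C be an elliptic curve over an algebraically closed field k — integral, proper over k, of
dimension one, all local rings regular, of genus dim_k H^1(C, O_C) = 1 — and E a locally free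
O_C-module of rank 2 which is normalized (H^0(C, E) ≠ 0 while H^0(C, E ⊗ M) = 0 for every invertible
M of negative degree) and indecomposable (not isomorphic to a direct sum of two invertible modules).
Then the invariant e = -deg E is 0 or -1, i.e. deg E ∈ {0, 1}, with deg E = χ(E) - 2 χ(O_C). -/
theorem result (k : Type u) [Field k] [IsAlgClosed k] (C : Scheme.{u}) [C.Over (Spec (CommRingCat.of k))]
    [IsIntegral C] [IsProper (C ↘ (Spec (CommRingCat.of k)))] (hdimC : topologicalKrullDim C = 1)
    (hregC : ∀ x : C, IsRegularLocalRing (C.presheaf.stalk x)) (hg : Curv2.genus k C = 1)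
    (E : C.Modules) (hE : FlatMod.IsFinLocFreeOfRank 2 E)
    (hn0 : Nontrivial (Coh.HH C E 0))
    (hneg : ∀ M : C.Modules, PicF.IsInvertible M → Curv2.deg k C M 1 < 0 → Subsingleton (Coh.HH C (CohB1.tensorMod E M) 0))
    (hind : ∀ L₁ L₂ : C.Modules, PicF.IsInvertible L₁ → PicF.IsInvertible L₂ → IsEmpty (E ≅ L₁ ⊞ L₂)) :
    Curv2.deg k C E 2 = 0 ∨ Curv2.deg k C E 2 = 1 := by
  haveI := CurveRR.isNoetherian_of_proper k C
  have hX : W7Slope.RegCurve C := ⟨hdimC.le, hregC⟩
  haveI := CohFinite.finite_proper k C E (CurveRR.isCoh_of_rank hE) 0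
  haveI := hn0
  obtain ⟨s, hs⟩ := CurveRR.exists_section (k := k) (L := E) (Module.finrank_pos (R := k) (M := Coh.HH C E 0)).ne'
  obtain ⟨hm, hQ, hdQ⟩ := VBTwo.exists_normalized hX hE hneg s hs
  haveI := hm
  have hS : (ShortComplex.mk s (cokernel.π s) (cokernel.condition s)).ShortExact :=
    { exact := ShortComplex.exact_cokernel s }
  have hlow : 0 ≤ Curv2.deg k C E 2 := by
    by_contra hlt
    obtain ⟨e⟩ := VBTwo.iso_biprod_of_isSplitEpi hS (VBTwo.isSplitEpi_of_deg k hX _ hS
      TMul.isInvertible_structureModule hQ (by dsimp only; rw [CurveRR.deg_structure, hdQ, hg]; omega))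
    exact (hind _ _ TMul.isInvertible_structureModule hQ).false e
  have hhigh : Curv2.deg k C E 2 ≤ 2 := by
    obtain ⟨J, J', hJ, -, hdJ, -, -⟩ := VBTwo.exists_deg k hdimC hX (-1)
    haveI := hneg J hJ (by omega)
    have h1 := VBTwo.le_h0 (k := k) hX (CohB1.tensorMod E J) 2
    rw [CurveRR.h_eq_zero ‹_›, W7Slope.deg_twist (k := k) hX.dim hE hJ, hdJ, hg] at h1
    push_cast at h1
    omega
  have hne : Curv2.deg k C E 2 ≠ 2 := by
    intro h2
    obtain ⟨L, i, hi, hL, hdL⟩ := VBTwo.exists_sub_deg_two hdimC hX hg hE h2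
    obtain ⟨J, hJ, ⟨e⟩⟩ := W7Hull.exists_tensor_inverse hL
    have hd := CurveRR.deg_tensor_inv (k := k) hX.dim hL hJ
    rw [W7Slope.deg_iso (k := k) e, CurveRR.deg_structure] at hd
    haveI := hneg J hJ (by omega)
    haveI := hi
    haveI := W7Slope.mono_tmap hJ i
    have h0 : Subsingleton (Coh.HH C (CohB1.tensorMod L J) 0) :=
      (CurveRR.injective_f (k := k) (S := ShortComplex.mk (CohFinite.tmap i J) (cokernel.π _) (cokernel.condition _))
        { exact := ShortComplex.exact_cokernel _ }).subsingleton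
    have : Subsingleton (Coh.HH C (Coh.structureModule C) 0) := ((CohFinite.hhEquiv k e 0).symm.toEquiv).subsingleton
    haveI : Nonempty (⊤ : C.Opens) := ⟨⟨genericPoint C, trivial⟩⟩
    exact not_subsingleton Γ(C, ⊤) ((CurveRR.secH0 (k := k) (Coh.structureModule C)).toEquiv.subsingleton)
  omega

end Groth.Agent.S11348
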