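import Groth.Statements.S11351
import Groth.Agent.GenusOneInvol.TwoMaps
import Groth.Agent.FEtRank.PushRank
import Groth.Agent.GeomProp.SmoothPoint

set_option autoImplicit false
universe u
open CategoryTheory CategoryTheory.Limits AlgebraicGeometry
open Curves

set_option backward.isDefEq.respectTransparency false
set_option backward.isDefEq.respectTransparency.types false

namespace Groth.Agent.S11351

/-- Take an algebraically closed field k of characteristic different from 2 and an elliptic curve X over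
k (integral, proper over k, of dimension one, all local rings regular, of genus dim_k H^1(X, O_X) =
1), and let f₁, f₂ : X → P^1_k be two finite morphisms over k of degree 2 (the direct image of O_X
is locally free of rank 2). Then there are an automorphism σ of X over k and an automorphism τ of
P^1_k over k such that f₂ ∘ σ = τ ∘ f₁. -/
theorem result (k : Type u) [Field k] [IsAlgClosed k] (X : Scheme.{u}) [X.Over (Spec (CommRingCat.of k))]
    [IsIntegral X] [IsProper (X ↘ (Spec (CommRingCat.of k)))] (hdim : topologicalKrullDim X = 1)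
    (hreg : ∀ x : X, IsRegularLocalRing (X.presheaf.stalk x)) (hchar : ringChar k ≠ 2) (hg : Curv2.genus k X = 1)
    (f₁ f₂ : X ⟶ (CohB1.ProjSpace 1 k)) [IsFinite f₁] [IsFinite f₂]
    (hf₁ : f₁ ≫ CohB1.ProjSpace.toSpec 1 k = (X ↘ (Spec (CommRingCat.of k)))) (hf₂ : f₂ ≫ CohB1.ProjSpace.toSpec 1 k = (X ↘ (Spec (CommRingCat.of k))))
    (hd₁ : FlatMod.IsFinLocFreeOfRank 2 ((Scheme.Modules.pushforward f₁).obj (Coh.structureModule X)))
    (hd₂ : FlatMod.IsFinLocFreeOfRank 2 ((Scheme.Modules.pushforward f₂).obj (Coh.structureModule X))) :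
    ∃ (σ : X ≅ X) (τ : (CohB1.ProjSpace 1 k) ≅ (CohB1.ProjSpace 1 k)), σ.hom ≫ (X ↘ (Spec (CommRingCat.of k))) = (X ↘ (Spec (CommRingCat.of k))) ∧
      τ.hom ≫ CohB1.ProjSpace.toSpec 1 k = CohB1.ProjSpace.toSpec 1 k ∧ σ.hom ≫ f₂ = f₁ ≫ τ.hom := by
  haveI : Smooth (X ↘ Spec (CommRingCat.of k)) := by
    rw [← Scheme.Hom.smoothLocus_eq_top_iff]
    exact top_le_iff.1 fun x _ => (GeomProp.smoothLocus_iff_regular k X x).2 (hreg x)
  haveI := CurveRR.isNoetherian_of_proper k X
  haveI := Horrocks.isIntegral_projSpace (k := k) (n := 1)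
  haveI := ProjMor.isProper_toSpec 1 k
  haveI : IsNoetherian (CohB1.ProjSpace 1 k) := LocImmBlow.isNoetherian_of_ft (CohB1.ProjSpace.toSpec 1 k)
  have hd : topologicalKrullDim (CohB1.ProjSpace 1 k) ≤ 1 := (Groth.Agent.S10829.result k 1).le
  have hflat : ∀ (f : X ⟶ CohB1.ProjSpace 1 k) [IsFinite f], Flat f := fun f _ => by
    refine W7Cover.flat_of_map_genericPoint hd (W7Cover.isIntegrallyClosed_stalk_projSpace 1) f ?_
    by_contra hne
    have hc := W7Cover.isClosed_of_ne_genericPoint (CohB1.ProjSpace.toSpec 1 k) hd hne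
    have huniv : f ⁻¹' {f (genericPoint X)} = Set.univ := by
      refine Set.eq_univ_of_univ_subset ?_
      rw [← genericPoint_closure (α := X)]
      exact closure_minimal (Set.singleton_subset_iff.2 rfl) (hc.preimage f.continuous)
    exact GenusOneInvol.infinite_closedPoints (k := k) hdim
      ((huniv ▸ IsFinite.finite_preimage_singleton f (f (genericPoint X))).subset (Set.subset_univ _))
  haveI := hflat f₁
  haveI := hflat f₂
  have h2 : (2 : k) ≠ 0 := by exact_mod_cast Ring.two_ne_zero hchar
  exact GenusOneInvol.exists_auts_of_double_covers h2 hdim hg f₁ f₂ hf₁ hf₂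
    (FEtRank.finrank_eq_of_isFinLocFreeOfRank f₁ hd₁) (FEtRank.finrank_eq_of_isFinLocFreeOfRank f₂ hd₂)

end Groth.Agent.S11351
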