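import Groth.Statements.S11352
import Groth.Agent.CurveRR.Clifford
import Groth.Agent.CurveRR.SmoothPt

set_option autoImplicit false
universe u
open CategoryTheory CategoryTheory.Limits AlgebraicGeometry
open Curves

set_option backward.isDefEq.respectTransparency false
set_option backward.isDefEq.respectTransparency.types false

open Groth.Agent Groth.Agent.CurveRR Groth.Agent.CohFinite CategoryTheory.Limits

namespace Groth.Agent.S11352

/-- Let k be an algebraically closed field and X a curve over k (an integral scheme, proper over k, of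
dimension one, with all local rings regular), and L, L' invertible O_X-modules each with a nonzero
global section (the sheaves of effective divisors D and E). Then dim |D| + dim |E| ≤ dim |D + E|; in
terms of sections, dim_k H^0(X, L) + dim_k H^0(X, L') ≤ dim_k H^0(X, L ⊗ L') + 1. -/
theorem result (k : Type u) [Field k] [IsAlgClosed k] (X : Scheme.{u}) [X.Over (Spec (CommRingCat.of k))]
    [IsIntegral X] [IsProper (X ↘ (Spec (CommRingCat.of k)))] (hdim : topologicalKrullDim X = 1)
    (hreg : ∀ x : X, IsRegularLocalRing (X.presheaf.stalk x))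
    (L L' : X.Modules) (hL : PicF.IsInvertible L) (hL' : PicF.IsInvertible L')
    (hs : Nontrivial (Coh.HH X L 0)) (hs' : Nontrivial (Coh.HH X L' 0)) :
    Module.finrank k (Coh.HH X L 0) + Module.finrank k (Coh.HH X L' 0) ≤ Module.finrank k (Coh.HH X (CohB1.tensorMod L L') 0) + 1 := by
  haveI := isNoetherian_of_proper k X
  haveI := finite_proper k X L (isCoh_of_inv hL) 0
  haveI := finite_proper k X L' (isCoh_of_inv hL') 0
  haveI := finite_proper k X (CohB1.tensorMod L L') (isCoh_of_inv (TMul.isInvertible_tensorMod hL hL')) 0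
  letI := secMod k L ⊤
  letI := secMod k L' ⊤
  letI := secMod k (CohB1.tensorMod L L') ⊤
  haveI : Module.Finite k Γ(L, ⊤) := Module.Finite.equiv (secH0 (k := k) L).symm
  haveI : Module.Finite k Γ(L', ⊤) := Module.Finite.equiv (secH0 (k := k) L').symm
  haveI : Module.Finite k Γ(CohB1.tensorMod L L', ⊤) := Module.Finite.equiv (secH0 (k := k) _).symm
  haveI : Nontrivial Γ(L, ⊤) := (secH0 (k := k) L).toEquiv.nontrivial
  haveI : Nontrivial Γ(L', ⊤) := (secH0 (k := k) L').toEquiv.nontrivial
  let B : Γ(L, ⊤) →ₗ[k] Γ(L', ⊤) →ₗ[k] Γ(CohB1.tensorMod L L', ⊤) :=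
    LinearMap.mk₂ k (fun s t => TMul.tm s t) (fun _ _ _ => TMul.tm_add _ _ _)
      (fun a s t => TMul.smul_tm (cst k X ⊤ a) s t)
      (fun _ _ _ => TMul.add_tm _ _ _) (fun a s t => TMul.tm_smul (cst k X ⊤ a) s t)
  have key := finrank_add_le_of_no_zero_divisors B fun s t hst => by
    by_contra! hne
    have hη : genericPoint X ∈ CohB1.genLocus (CohB1.tensorMod L L')
        (SecTwist.tmulHom (TMul.homOf s) (TMul.homOf t)) := by
      rw [TMul.genLocus_tmulHom hL hL']
      exact ⟨generic_mem_genLocus hL hne.1, generic_mem_genLocus hL' hne.2⟩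
    obtain ⟨D, g, hηD, hg⟩ := TMul.exists_isGen (TMul.isInvertible_tensorMod hL hL') (genericPoint X)
    have hz : TMul.val (SecTwist.tmulHom (TMul.homOf s) (TMul.homOf t)) D = (0 : Γ(X, D)) • g := by
      rw [zero_smul, TMul.val_tmulHom, TMul.val_homOf, TMul.val_homOf, ← TMul.res_tm]
      change QC.res _ le_top (B s t) = 0
      rw [hst, map_zero]
    have := (TMul.mem_genLocus_iff_isUnit _ hg hz hηD).1 hη
    rw [map_zero] at this
    exact not_isUnit_zero this
  rw [finrank_sec, finrank_sec, finrank_sec] at key
  exact key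

end Groth.Agent.S11352
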