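import Groth.Statements.S11357
import Groth.Agent.FittInv.Basic
import Groth.Agent.Hurwitz.Basic
import Groth.Agent.S1561
import Groth.Agent.CurveRR.Deg

set_option autoImplicit false
universe u
open CategoryTheory CategoryTheory.Limits AlgebraicGeometry
open Curves

set_option backward.isDefEq.respectTransparency false
set_option backward.isDefEq.respectTransparency.types false

namespace Groth.Agent.S11357

/-- Let f : X → Y be a finite morphism over k of curves over an algebraically closed field k (integral,
proper over k, of dimension one, all local rings regular), sending the generic point to the generic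
point, with K(X)/K(Y) separable, and let R be the ramification divisor Σ_P length(Ω_{X/Y,P}) · P,
whose ideal sheaf I_R is the 0-th Fitting ideal of the torsion sheaf Ω_{X/Y} (at P it is m_P to the
power length(Ω_{X/Y,P})). Then K_X is linearly equivalent to f^* K_Y + R: Ω_{X/k} ⊗ I_R ≅ f^*
Ω_{Y/k} (existence of an isomorphism, i.e. equality of classes in Pic X). -/
theorem result (k : Type u) [Field k] [IsAlgClosed k] (X : Scheme.{u}) [X.Over (Spec (CommRingCat.of k))]
    [IsIntegral X] [IsProper (X ↘ (Spec (CommRingCat.of k)))] (hdimX : topologicalKrullDim X = 1)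
    (hregX : ∀ x : X, IsRegularLocalRing (X.presheaf.stalk x))
    (Y : Scheme.{u}) [Y.Over (Spec (CommRingCat.of k))]
    [IsIntegral Y] [IsProper (Y ↘ (Spec (CommRingCat.of k)))] (hdimY : topologicalKrullDim Y = 1)
    (hregY : ∀ x : Y, IsRegularLocalRing (Y.presheaf.stalk x))
    (f : X ⟶ Y) [IsFinite f] (hf : f ≫ (Y ↘ (Spec (CommRingCat.of k))) = X ↘ (Spec (CommRingCat.of k)))
    (e : f (genericPoint X) = genericPoint Y) :
    letI := ((Y.presheaf.stalkSpecializes (specializes_of_eq e) ≫ f.stalkMap (genericPoint X)).hom).toAlgebra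
    Algebra.IsSeparable Y.functionField X.functionField →
      Nonempty (CohB1.tensorMod (Omega.sheaf (X ↘ (Spec (CommRingCat.of k)))) (ClSub.idealMod (Fitt.sheafIdeal (Omega.sheaf f) 0)) ≅
        (Scheme.Modules.pullback f).obj (Omega.sheaf (Y ↘ (Spec (CommRingCat.of k))))) := by
  intro hsep
  open Groth.Agent in
  haveI : LocallyOfFinitePresentation (X ↘ Spec (CommRingCat.of k)) := InfLift.lfp_of_lft _
  haveI : LocallyOfFinitePresentation (Y ↘ Spec (CommRingCat.of k)) := Groth.Agent.InfLift.lfp_of_lft _
  haveI : Smooth (X ↘ Spec (CommRingCat.of k)) := (X ↘ Spec (CommRingCat.of k)).smoothLocus_eq_top_iff.1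
    (top_le_iff.1 fun x _ => ((Groth.Agent.S1561.result k X).1 x).2 (hregX x))
  haveI : Smooth (Y ↘ Spec (CommRingCat.of k)) := (Y ↘ Spec (CommRingCat.of k)).smoothLocus_eq_top_iff.1
    (top_le_iff.1 fun x _ => ((Groth.Agent.S1561.result k Y).1 x).2 (hregY x))
  obtain ⟨U, hU, hE⟩ := Groth.Agent.Hurwitz.exists_etale_open k hdimX hdimY f hf e hsep
  haveI := hE
  have hIX := Groth.Agent.CurveOmega.isInvertible_omega k X hdimX (Groth.Agent.CurveRR.h0_structure k X)
  have hIY := Groth.Agent.CurveOmega.isInvertible_omega k Y hdimY (Groth.Agent.CurveRR.h0_structure k Y)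
  rw [← hf] at hIX ⊢
  obtain ⟨c, p, w, -, hS⟩ := Groth.Agent.Hurwitz.exists_shortExact k (Y ↘ Spec (CommRingCat.of k)) f hIX hIY U hU
  haveI := Groth.Agent.CurveRR.isNoetherian_of_proper k X
  have hIP := PicLoc.isInvertible_pullback f hIY
  have hF : Coh.IsCoh (Omega.sheaf f) := Groth.Agent.CohFinite.isCoh_of_iso
    (IsColimit.coconePointUniqueUpToIso (cokernelIsCokernel c) hS.gIsCokernel)
    (Groth.Agent.QC.isCoh_cokernel (Groth.Agent.CurveRR.isCoh_of_inv hIP).1 (Groth.Agent.CurveRR.isCoh_of_inv hIX) c)
  exact Groth.Agent.FittInv.exists_iso hIP hIX hF.1 hF.2 c p w hS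

end Groth.Agent.S11357
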