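import Groth.Statements.S11365
import Groth.Agent.ExtFlatCM.Gor
import Groth.Agent.ExtFlatCM.Bridge
import Groth.Agent.ShriekAffine.Chart

set_option autoImplicit false
universe u
open CategoryTheory
open scoped TensorProduct
open Dual

set_option backward.isDefEq.respectTransparency false
set_option backward.isDefEq.respectTransparency.types false

namespace Groth.Agent.S11365

/-- Let A be a Noetherian ring, n ≤ N, P = A[t_1, …, t_N], I an ideal of P with B = P/I flat over A, and
suppose Ext^j_P(B, P) vanishes for j ≠ N − n while Ext^{N−n}_P(B, P) is A-flat. Then Ext^{N−n}_P(B,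
P) is P-isomorphic to an invertible B-module if and only if all fibre rings B ⊗_A κ(p) are
Gorenstein. (The published statement is for the degree −n cohomology of f^! of the structure sheaf
of a CM morphism of locally Noetherian schemes with pure relative dimension n; this row is the
affine case of a closed subscheme of affine N-space.) -/
theorem result (A : Type u) [CommRing A] [IsNoetherianRing A] (N n : ℕ) (hnN : n ≤ N) (I : Ideal (MvPolynomial (Fin N) A)) [Module.Flat A (MvPolynomial (Fin N) A ⧸ I)] (hvan : ∀ j : ℕ, j ≠ N - n → Subsingleton (Abelian.Ext (ModuleCat.of (MvPolynomial (Fin N) A) (MvPolynomial (Fin N) A ⧸ I)) (ModuleCat.of (MvPolynomial (Fin N) A) (MvPolynomial (Fin N) A)) j)) (hflat : Module.Flat A (RestrictScalars A (MvPolynomial (Fin N) A) (Abelian.Ext (ModuleCat.of (MvPolynomial (Fin N) A) (MvPolynomial (Fin N) A ⧸ I)) (ModuleCat.of (MvPolynomial (Fin N) A) (MvPolynomial (Fin N) A)) (N - n)))) : (∃ (L : Type u) (_ : AddCommGroup L) (_ : Module (MvPolynomial (Fin N) A ⧸ I)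 L), Module.Invertible (MvPolynomial (Fin N) A ⧸ I) L ∧ Nonempty (RestrictScalars (MvPolynomial (Fin N) A) (MvPolynomial (Fin N) A ⧸ I) L ≃ₗ[(MvPolynomial (Fin N) A)] Abelian.Ext (ModuleCat.of (MvPolynomial (Fin N) A) (MvPolynomial (Fin N) A ⧸ I)) (ModuleCat.of (MvPolynomial (Fin N) A) (MvPolynomial (Fin N) A)) (N - n))) ↔ ∀ p : PrimeSpectrum A, LocCoh.IsGorensteinRing ((MvPolynomial (Fin N) A ⧸ I) ⊗[A] p.asIdeal.ResidueField) := by
  haveI := fun (S T : Type u) [CommRing S] [CommRing T] (φ : S →+* T) => DRingKP.hasLBaseChange φ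
  have hψ := ExtFlatCM.pres_surjective I
  obtain ⟨Rψ, ⟨adj⟩⟩ := ShriekAffine.exists_adjoint (ExtFlatCM.pres I).toRingHom
  have hv := (ExtFlatCM.ext_vanish_iff I adj hnN).1 hvan
  obtain ⟨e, he⟩ := (ExtFlatCM.hd_ext I adj (-(n : ℤ))).1 (N - n) (by omega)
  rw [← ExtFlatCM.gorenstein_fibres_iff_invertible A _ hψ adj hv]
  let P := MvPolynomial (Fin N) A
  let H : Type u := Dual.HD (P ⧸ I) (Dual2.shriekVia N Rψ (Dual.inD A A)) (-(n : ℤ))
  constructor
  · rintro ⟨L, _, _, hL, ⟨g⟩⟩
    haveI := hL
    let f : L ≃+ H := ((RestrictScalars.addEquiv P (P ⧸ I) L).symm.trans g.toAddEquiv).trans e.symm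
    refine Module.Invertible.congr ({ f with map_smul' := fun b x => ?_ } : L ≃ₗ[P ⧸ I] H)
    obtain ⟨p, rfl⟩ := Ideal.Quotient.mk_surjective b
    refine e.injective ((e.apply_symm_apply _).trans ?_)
    refine Eq.trans ?_ (he p (f x)).symm
    refine Eq.trans ?_ (congrArg (p • ·) (e.apply_symm_apply _)).symm
    exact (congrArg g (RestrictScalars.addEquiv_symm_map_algebraMap_smul P (P ⧸ I) L p x)).trans (g.map_smul p _)
  · intro hI
    refine ⟨H, inferInstance, inferInstance, hI,
      ⟨{ (RestrictScalars.addEquiv P (P ⧸ I) H).trans e with map_smul' := fun p x => ?_ }⟩⟩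
    exact he p ((RestrictScalars.addEquiv P (P ⧸ I) H) x)

end Groth.Agent.S11365
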