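import Groth.Statements.S11372
import Groth.Agent.Nakai.SemiAmple
import Groth.Agent.Nakai.Strict
import Groth.Agent.TMul.AffineLocus
import Mathlib.AlgebraicGeometry.ZariskisMainTheorem

set_option autoImplicit false
set_option backward.isDefEq.respectTransparency false
set_option linter.style.haveILetI false
universe u
open CategoryTheory CategoryTheory.Limits AlgebraicGeometry TopologicalSpace
open Variety
open TMul (val homOf)

namespace Groth.Agent.S11372


theorem homOf_app {X : Scheme.{u}} {M L : X.Modules} (φ : M ⟶ L) (v : Γ(M, ⊤)) :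
    homOf (L := L) (φ.app ⊤ v) = homOf v ≫ φ :=
  TMul.hom_ext_val (by rw [TMul.val_comp, TMul.val_homOf, TMul.val_homOf, Groth.Agent.QC.res_self,
    Groth.Agent.QC.res_self])

/-- A closed point that is not isolated in a closed subset has a proper generization in it. -/
theorem exists_ne_specializes {X : Type*} [TopologicalSpace X] [NoetherianSpace X] [QuasiSober X]
    {Z : Set X} (hZ : IsClosed Z) {x : X} (hxZ : x ∈ Z) (hx : IsClosed ({x} : Set X))
    (hno : ¬ IsOpen ({⟨x, hxZ⟩} : Set Z)) : ∃ ξ ∈ Z, ξ ≠ x ∧ ξ ⤳ x := by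
  by_contra hc
  push Not at hc
  have := hZ.isClosedEmbedding_subtypeVal.quasiSober
  have hmax : ∀ C : Set Z, IsIrreducible C → IsClosed C → (⟨x, hxZ⟩ : Z) ∈ C → C = {⟨x, hxZ⟩} := by
    intro C hC hC' hxC
    have hg := IsIrreducible.isGenericPoint_genericPoint hC hC'
    have hgx : (hC.genericPoint : X) = x := by
      by_contra hne
      exact hc _ hC.genericPoint.2 hne ((hg.specializes hxC).map continuous_subtype_val)
    have hgx' : hC.genericPoint = ⟨x, hxZ⟩ := Subtype.ext hgx
    rw [← hg.def, hgx']
    have h2 : IsClosed ({⟨x, hxZ⟩} : Set Z) := by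
      convert hx.preimage continuous_subtype_val using 1
      ext; simp [Subtype.ext_iff]
    exact h2.closure_eq
  apply hno
  have hclosed : IsClosed (⋃₀ (irreducibleComponents Z \ {{⟨x, hxZ⟩}})) := by
    rw [Set.sUnion_eq_biUnion]
    exact ((NoetherianSpace.finite_irreducibleComponents (α := Z)).sdiff).isClosed_biUnion
      fun C hC => isClosed_of_mem_irreducibleComponents C hC.1
  convert hclosed.isOpen_compl using 1
  ext z
  constructor
  · rintro rfl ⟨C, ⟨hC, hCne⟩, hxC⟩
    exact hCne (hmax C hC.1 (isClosed_of_mem_irreducibleComponents C hC) hxC)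
  · intro hz
    by_contra hne
    refine hz ⟨irreducibleComponent z, ⟨irreducibleComponent_mem_irreducibleComponents z, ?_⟩,
      mem_irreducibleComponent⟩
    intro he
    exact hne ((Set.mem_singleton_iff.1 he) ▸ mem_irreducibleComponent)

/-- Two distinct points one specializing to the other give positive dimension. -/
theorem one_le_dim_closure {X : Type*} [TopologicalSpace X] {x ξ : X} (hx : IsClosed ({x} : Set X))
    (hne : ξ ≠ x) (hs : ξ ⤳ x) : 1 ≤ topologicalKrullDim (closure ({ξ} : Set X)) := by
  let ξ' : closure ({ξ} : Set X) := ⟨ξ, subset_closure rfl⟩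
  let x' : closure ({ξ} : Set X) := ⟨x, hs.mem_closure⟩
  have hx' : IsClosed ({x'} : Set (closure ({ξ} : Set X))) := by
    convert hx.preimage continuous_subtype_val using 1
    ext; simp [x', Subtype.ext_iff]
  let a : IrreducibleCloseds (closure ({ξ} : Set X)) := ⟨{x'}, isIrreducible_singleton, hx'⟩
  let b : IrreducibleCloseds (closure ({ξ} : Set X)) :=
    ⟨closure {ξ'}, isIrreducible_singleton.closure, isClosed_closure⟩
  have hab : a < b := by
    refine lt_of_le_of_ne ?_ fun h => hne ?_
    · change ({x'} : Set _) ⊆ closure {ξ'}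
      exact Set.singleton_subset_iff.2 ((Topology.IsInducing.subtypeVal.specializes_iff
        (x := ξ') (y := x')).1 hs).mem_closure
    · have h' : ({x'} : Set _) = closure {ξ'} := congrArg IrreducibleCloseds.carrier h
      have h2 : ξ' ∈ ({x'} : Set (closure ({ξ} : Set X))) := by
        rw [h']; exact subset_closure rfl
      exact congrArg Subtype.val (Set.mem_singleton_iff.1 h2)
  exact le_iSup_of_le (RelSeries.singleton _ a |>.snoc b hab) le_rfl

/-- Let X be proper and integral over an algebraically closed field k, L an invertible O_X-module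
generated by its global sections, and s : O_X ⟶ L a global section, with U = X_s the open subset
where s generates L (the complement of the support of the effective divisor of s). If U contains no
integral closed subscheme of X of dimension one, then U is an affine open of X. -/
theorem result (k : Type u) [Field k] [IsAlgClosed k] (X : Scheme.{u})
    [X.Over (Spec (CommRingCat.of k))] [IsProper (X ↘ (Spec (CommRingCat.of k)))] [IsIntegral X]
    (L : X.Modules) (hL : PicF.IsInvertible L) (hgen : Curv2.IsGloballyGenerated L)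
    (s : Coh.structureModule X ⟶ L)
    (hcurves : ∀ C : X.IdealSheafData, IsIntegral C.subscheme →
      topologicalKrullDim (C.support : Set X) = 1 →
        ¬ ((C.support : Set X) ⊆ (CohB1.genLocus L s : Set X))) :
    IsAffineOpen (CohB1.genLocus L s) := by
  classical
  haveI := CurveRR.isNoetherian_of_proper k X
  choose t ht using Groth.Agent.S1664.gen_of_globallyGenerated hL hgen
  obtain ⟨F, hF⟩ := isCompact_univ.elim_finite_subcover (fun x => (CohB1.genLocus _ (t x) : Set X))
    (fun x => (CohB1.genLocus _ (t x)).2) (fun x _ => Set.mem_iUnion.mpr ⟨x, ht x⟩)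
  let σ : Fin (F.card + 1) → ProjUP.Γm L :=
    Fin.cons (val s ⊤) fun j => val (t (F.equivFin.symm j).1) ⊤
  have hσ : ProjUP.GeneratedBy L σ := ProjMor.generatedBy_of_mem_genLocus σ fun x => by
    obtain ⟨p, hp, hxp⟩ := Set.mem_iUnion₂.mp (hF (Set.mem_univ x))
    refine ⟨(F.equivFin ⟨p, hp⟩).succ, ?_⟩
    have e : σ (F.equivFin ⟨p, hp⟩).succ = val (t p) ⊤ := by simp [σ]
    rw [e, CohFinite.homOf_val]
    exact hxp
  obtain ⟨r, hr, τ, hτ⟩ := ProjMor.exists_projSpace (R := k) (X ↘ Spec (CommRingCat.of k)) hL σ hσ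
  haveI := ProjMor.isProper_toSpec F.card k
  haveI : IsProper (r ≫ CohB1.ProjSpace.toSpec F.card k) := hr.symm ▸ inferInstance
  haveI : IsProper r := IsProper.of_comp r (CohB1.ProjSpace.toSpec F.card k)
  haveI : JacobsonSpace X := LocallyOfFiniteType.jacobsonSpace (X ↘ Spec (CommRingCat.of k))
  have hA := Intersect.isAmple_twistProj_one F.card k
  set V := CohB1.genLocus (Twist.twistProjSpace F.card k 1) (homOf (ProjUP.coord F.card k 0)) with hVdef
  have hV : IsAffineOpen V := TMul.isAffineOpen_genLocus_of_universallyClosed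
    (CohB1.ProjSpace.toSpec F.card k) hA _
  have hU : CohB1.genLocus L s = r ⁻¹ᵁ V := by
    rw [← ProjMor.genLocus_pullSec r hA.1, ← TMul.genLocus_comp _ τ.hom, ← homOf_app, hτ 0]
    exact (congrArg _ (CohFinite.homOf_val s)).symm
  rw [hU] at hcurves ⊢
  -- the fibres over `V` are finite
  have hqf : r ⁻¹ᵁ V ≤ r.quasiFiniteLocus := by
    intro y hy
    by_contra hyq
    obtain ⟨x, ⟨⟨hxV, hxq⟩, hxc⟩⟩ := nonempty_inter_closedPoints
      (Z := (r ⁻¹ᵁ V : Set X) ∩ (r.quasiFiniteLocus : Set X)ᶜ) ⟨y, hy, hyq⟩
      ((r ⁻¹ᵁ V).2.isLocallyClosed.inter r.quasiFiniteLocus.2.isClosed_compl.isLocallyClosed)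
    have hrx : IsClosed ({r x} : Set _) := by
      rw [← Set.image_singleton]; exact r.isClosedMap _ hxc
    obtain ⟨ξ, hξZ, hne, hs⟩ := exists_ne_specializes (hrx.preimage r.continuous)
      (x := x) rfl hxc fun h => hxq (by
        rw [SetLike.mem_coe, Scheme.Hom.mem_quasiFiniteLocus,
          Scheme.Hom.quasiFiniteAt_iff_isOpen_singleton_asFiber, ← (r.fiberHomeo (r x)).isOpen_image]
        simpa only [Set.image_singleton, Scheme.Hom.asFiber, Homeomorph.apply_symm_apply] using h)
    obtain ⟨d, hd⟩ := Nakai.exists_dim_closure k ξ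
    obtain ⟨e, rfl⟩ : ∃ e, d = e + 1 := by
      refine ⟨d - 1, ?_⟩
      have := hd ▸ one_le_dim_closure hxc hne hs
      have : 1 ≤ d := by exact_mod_cast this
      omega
    obtain ⟨ζ, hζ, hζd⟩ := Nakai.exists_curve_point e hd
    refine hcurves (Scheme.IdealSheafData.vanishingIdeal (Devissage.Zc ζ)) (Devissage.Zi_isIntegral ζ)
      (by rw [Nakai.support_vanishing, hζd]; rfl) ?_
    rw [Nakai.support_vanishing]
    intro z hz
    have h1 : z ∈ closure ({ξ} : Set X) :=
      closure_minimal (Set.singleton_subset_iff.mpr hζ) isClosed_closure hz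
    have h2 : r z = r x := (hrx.preimage r.continuous).closure_subset_iff.2
      (Set.singleton_subset_iff.mpr hξZ) h1
    change r z ∈ V
    rw [h2]
    exact hxV
  haveI : LocallyQuasiFinite ((r ∣_ V) ≫ V.ι) := by
    rw [morphismRestrict_ι, ← X.homOfLE_ι hqf, Category.assoc]
    infer_instance
  haveI : LocallyQuasiFinite (r ∣_ V) := LocallyQuasiFinite.of_comp _ V.ι
  haveI : IsFinite (r ∣_ V) := (IsFinite.iff_isProper_and_locallyQuasiFinite _).2 ⟨inferInstance, inferInstance⟩
  haveI : IsAffine V := hV
  exact isAffine_of_isAffineHom (r ∣_ V)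

end Groth.Agent.S11372
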