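import Groth.Statements.S11373
import Groth.Agent.Lich.Goodman

set_option autoImplicit false
universe u
open CategoryTheory CategoryTheory.Limits AlgebraicGeometry TopologicalSpace
open Variety

set_option backward.isDefEq.respectTransparency false
set_option backward.isDefEq.respectTransparency.types false

open Groth.Agent

namespace Groth.Agent.S11373

/-- Let X be proper and integral over an algebraically closed field k with dim X ≥ 2, and let U ≠ X be
an affine open subset. Then X ∖ U is connected. (The published statement names only a complete
scheme of dimension ≥ 2; the standing setting of its chapter, which this row keeps, takes X complete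
and integral, and the published proof passes to the normalization of an integral X. Integrality
cannot be dropped: for two projective planes glued at one point and U the complement of a line in
each plane avoiding that point, U is affine and X ∖ U is two disjoint lines.) -/
theorem result (k : Type u) [Field k] [IsAlgClosed k] (X : Scheme.{u})
    [X.Over (Spec (CommRingCat.of k))] [IsProper (X ↘ (Spec (CommRingCat.of k)))] [IsIntegral X]
    (hdim : (2 : WithBot ℕ∞) ≤ topologicalKrullDim X)
    (U : X.Opens) (hU : IsAffineOpen U) (hUX : U ≠ ⊤) :
    _root_.IsConnected ((U : Set X)ᶜ) := by
  classical
  let f := X ↘ (Spec (CommRingCat.of k))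
  obtain ⟨n, hn⟩ : ∃ n : ℕ, topologicalKrullDim X = n := ⟨_, Rigid.topologicalKrullDim_eq_pdim f⟩
  have h2 : 2 ≤ n := by rw [hn] at hdim; exact_mod_cast hdim
  rcases (U : Set X).eq_empty_or_nonempty with h | h
  · rw [h, Set.compl_empty]
    exact isConnected_univ
  · exact Lich.isConnected_compl f n hn h2 U hU h

end Groth.Agent.S11373
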