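import Groth.Statements.S11377
import Groth.Agent.CohDimLF.Basic
import Groth.Agent.ExtShX.TwistCover
import Groth.Agent.Nakai.ClMul
import Groth.Agent.W7Proj.NegAffine
import Groth.Agent.S2122

set_option autoImplicit false
universe u
open CategoryTheory CategoryTheory.Limits AlgebraicGeometry TopologicalSpace
open CohDim

namespace Groth.Agent.S11377

/-- Let S be an integral scheme, separated and of finite type over an algebraically closed field k, with
all local rings regular, let L be an ample invertible O_S-module with tensor inverse M (so S is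
quasi-projective and M^{⊗m} plays the role of O_S(-m)), and let r ≥ 0. If there is m₀ such that
H^i(S, M^{⊗m}) = 0 for every i > r and every m ≥ m₀, then H^i(S, F) = 0 for every i > r and every
coherent O_S-module F. (The published statement takes O_S(1) from a quasi-projective embedding; the
printed proof uses only that F ⊗ O_S(m) is generated by finitely many global sections for m ≫ 0,
which holds for any ample L.) -/
theorem result (k : Type u) [Field k] [IsAlgClosed k] (S : Scheme.{u})
    [S.Over (Spec (CommRingCat.of k))] [IsSeparated (S ↘ (Spec (CommRingCat.of k)))]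
    [LocallyOfFiniteType (S ↘ (Spec (CommRingCat.of k)))] [QuasiCompact (S ↘ (Spec (CommRingCat.of k)))]
    [IsIntegral S] (hreg : ∀ x : S, IsRegularLocalRing (S.presheaf.stalk x))
    (L M : S.Modules) (hL : CohB1.IsAmple L) (hM : ClSub.IsInverseOf M L) (r : ℕ)
    (hneg : ∃ m₀ : ℕ, ∀ m : ℕ, m₀ ≤ m → ∀ i : ℕ, r < i → Subsingleton (Coh.HH S (CohB1.tensorPow M m) i))
    (F : S.Modules) (hF : Coh.IsCoh F) (i : ℕ) (hi : r < i) :
    Subsingleton (Coh.HH S F i) := by
  haveI : S.IsSeparated := by
    rw [Scheme.isSeparated_iff, show terminal.from S = (S ↘ Spec (CommRingCat.of k)) ≫ terminal.from _ from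
      terminal.hom_ext _ _]
    infer_instance
  haveI : CompactSpace S := QuasiCompact.compactSpace_of_compactSpace (S ↘ Spec (CommRingCat.of k))
  haveI : IsLocallyNoetherian S := LocallyOfFiniteType.isLocallyNoetherian (S ↘ Spec (CommRingCat.of k))
  letI := Groth.Agent.Nakai.clMonoid S
  obtain ⟨m₀, hm⟩ := hneg
  have hone : PicF.cl M * PicF.cl L = 1 := by
    have := (PicGrp.cl_eq_cl_iff _ _).2 hM
    rwa [Groth.Agent.Nakai.cl_tensor, Groth.Agent.Nakai.cl_one] at this
  have hiso : ∀ n, Nonempty (RefHull.dual (CohB1.tensorPow L n) ≅ CohB1.tensorPow M n) := fun n => by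
    obtain ⟨e⟩ := Groth.Agent.ResDesc.nonempty_dual_tensor_iso (TMul.isInvertible_tensorPow hL.1 n)
    have h1 := (PicGrp.cl_eq_cl_iff _ _).2 ⟨e⟩
    rw [Groth.Agent.Nakai.cl_tensor, Groth.Agent.Nakai.cl_tensor, Groth.Agent.Nakai.cl_one, mul_one,
      Groth.Agent.Nakai.cl_pow] at h1
    refine Groth.Agent.Nakai.iso_of_cl ?_
    rw [Groth.Agent.Nakai.cl_pow]
    have h2 : PicF.cl M ^ n * PicF.cl L ^ n = 1 := by rw [← mul_pow, hone, one_pow]
    exact left_inv_eq_right_inv h1 ((mul_comm _ _).trans h2)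
  obtain ⟨M', hM', hinv⟩ : ∃ M' : S.Modules, M' = M ∧ PicF.IsInvertible M := ⟨M, rfl, Groth.Agent.S2122.result _ _ hM.some⟩
  obtain ⟨d, hd⟩ := Groth.Agent.CohDimLF.exists_bound_hh (X := S)
  obtain ⟨N, hN⟩ : ∃ N, d ≤ i + N := ⟨d, by omega⟩
  induction N generalizing F i with
  | zero => exact hd F hF.1 i (by omega)
  | succ N ih =>
    obtain ⟨n₀, hn₀⟩ := Groth.Agent.ExtShX.exists_cover_twists hL F hF.1 hF.2
    obtain ⟨c, π, hπ⟩ := hn₀ (max n₀ m₀) (le_max_left _ _)
    obtain ⟨e⟩ := hiso (max n₀ m₀)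
    let π' : (∐ fun _ : Fin c => CohB1.tensorPow M (max n₀ m₀)) ⟶ F :=
      (Limits.Sigma.mapIso fun _ : Fin c => e.symm).hom ≫ π
    haveI : Epi π' := @epi_comp _ _ _ _ _ _ inferInstance π hπ
    have hP : Coh.IsCoh (∐ fun _ : Fin c => CohB1.tensorPow M (max n₀ m₀)) :=
      Groth.Agent.K0Coh.isCoh_of_iso (biproduct.isoCoproduct _) (Groth.Agent.Devissage.isCoh_biproduct _ fun _ =>
        Groth.Agent.K0Coh.isCoh_of_isFinLocFree (Groth.Agent.ResDesc.isFinLocFree_of_isInvertible
          (TMul.isInvertible_tensorPow hinv _)))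
    have hK : Coh.IsCoh (kernel π') := Groth.Agent.QC.isCoh_kernel hP hF.1 π'
    exact Groth.Agent.CohDimLF.subsingleton_right (Groth.Agent.K0Res.kerSeq_shortExact π') i
      (Groth.Agent.W7Proj.subsingleton_hh_sigma (hm _ (le_max_right _ _) i hi) c)
      (ih _ hK (i + 1) (by omega) (by omega))

end Groth.Agent.S11377
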