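import Groth.Statements.S11378
import Groth.Agent.Lich.Goodman

set_option autoImplicit false
universe u
open CategoryTheory CategoryTheory.Limits AlgebraicGeometry TopologicalSpace
open CohDim

set_option backward.isDefEq.respectTransparency false
set_option backward.isDefEq.respectTransparency.types false

open Groth.Agent

namespace Groth.Agent.S11378

/-- Let X be proper and integral over an algebraically closed field k, of dimension n ≥ 2, with all
local rings regular, and let U ≠ X be an open subscheme whose cohomological dimension is at most n -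
2: H^i(U, F) = 0 for every coherent O_U-module F and every i with n - 2 < i. Then Y = X ∖ U is
connected. -/
theorem result (k : Type u) [Field k] [IsAlgClosed k] (X : Scheme.{u})
    [X.Over (Spec (CommRingCat.of k))] [IsProper (X ↘ (Spec (CommRingCat.of k)))] [IsIntegral X]
    (hreg : ∀ x : X, IsRegularLocalRing (X.presheaf.stalk x))
    (n : ℕ) (hn : 2 ≤ n) (hdim : topologicalKrullDim X = n)
    (U : X.Opens) (hUX : U ≠ ⊤)
    (hcd : ∀ F : (U : Scheme.{u}).Modules, Coh.IsCoh F → ∀ i : ℕ, n - 2 < i → Subsingleton (Coh.HH (U : Scheme.{u}) F i)) :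
    _root_.IsConnected ((U : Set X)ᶜ) := by
  classical
  let f := X ↘ (Spec (CommRingCat.of k))
  rcases (U : Set X).eq_empty_or_nonempty with h | h
  · rw [h, Set.compl_empty]
    exact isConnected_univ
  obtain ⟨m, rfl⟩ : ∃ m, n = m + 1 := ⟨n - 1, by omega⟩
  refine Lich.isConnected_compl_of_vanish f m hdim U h hUX fun M hM => ?_
  obtain ⟨e⟩ := CohQC.hu_restrict M U m
  haveI := hcd _ (DCohShriek.isCoh_restrictFunctor U.ι hM) m (by omega)
  exact e.toEquiv.subsingleton

end Groth.Agent.S11378
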