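import Groth.Statements.S11382
import Groth.Agent.YBlowUp.Core
import Groth.Agent.NegTwist.Sections
import Groth.Agent.S8851
import Groth.Agent.RefStalk.Refl
import Groth.Agent.TMul.AffineLocus
-- import your own Groth.Agent.* helpers here

set_option autoImplicit false
set_option backward.isDefEq.respectTransparency false
set_option backward.isDefEq.respectTransparency.types false
universe u
open CategoryTheory CategoryTheory.Limits AlgebraicGeometry TopologicalSpace
open Variety

namespace Groth.Agent.S11382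

open Groth.Agent

/-- Associated points of an integral scheme are generic. -/
theorem eq_genericPoint_of_isAssPoint {W : Scheme.{u}} [IsIntegral W] {y : W}
    (hy : Curv2.IsAssPoint (Coh.structureModule W) y) : y = genericPoint W := by
  obtain ⟨m, hm⟩ := (WeakAssLib.isAssPoint_iff _ y).1 hy
  have hfield : IsField (W.presheaf.stalk y) := by
    rw [IsLocalRing.isField_iff_maximalIdeal_eq]
    have hm0 : m ≠ 0 := fun h0 => (IsLocalRing.maximalIdeal.isMaximal (W.presheaf.stalk y)).ne_top
      (hm ▸ by rw [h0]; simp)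
    rw [← hm, ← Ideal.radical_bot_of_isReduced]
    refine congrArg Ideal.radical (eq_bot_iff.2 fun a ha => ?_)
    obtain ⟨e, -⟩ := RefStalk.exists_structStalk y
    obtain ⟨b, rfl⟩ := e.surjective m
    have h : e (a • b) = e 0 := by rw [map_smul, map_zero]; simpa using ha
    exact (mul_eq_zero.1 (e.injective h)).resolve_right fun hb => hm0 (by rw [hb, map_zero])
  letI := hfield.toField
  obtain ⟨z, hz⟩ := (Scheme.range_fromSpecStalk (X := W) (x := y)).ge
    ((genericPoint_spec W).specializes (Set.mem_univ y))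
  haveI : Subsingleton (PrimeSpectrum (W.presheaf.stalk y)) :=
    ⟨fun a b => PrimeSpectrum.ext ((Ideal.eq_bot_of_prime a.asIdeal).trans (Ideal.eq_bot_of_prime b.asIdeal).symm)⟩
  rw [← hz, @Subsingleton.elim (PrimeSpectrum (W.presheaf.stalk y)) _ z (IsLocalRing.closedPoint (W.presheaf.stalk y))]
  exact Scheme.fromSpecStalk_closedPoint.symm


/-- Let X be proper and integral over an algebraically closed field k and U ⊆ X an open subset with
closed complement Y. Then U is affine if and only if there exist a closed subscheme Z of X, defined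
by a quasi-coherent ideal 𝓙 with support contained in Y, and a blowing-up f : X' ⟶ X of X in Z
(characterised by its universal property; X' is again proper over k), such that f⁻¹(Y) is the
support of an effective Cartier divisor D on X' admitting an ample invertible module O_{X'}(D), i.e.
an ample tensor inverse of the ideal of D. -/
theorem result (k : Type u) [Field k] [IsAlgClosed k] (X : Scheme.{u})
    [X.Over (Spec (CommRingCat.of k))] [IsProper (X ↘ (Spec (CommRingCat.of k)))] [IsIntegral X]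
    (U : X.Opens) :
    IsAffineOpen U ↔
      ∃ 𝓙 : X.IdealSheafData, (𝓙.support : Set X) ⊆ (U : Set X)ᶜ ∧
        ∃ (X' : Scheme.{u}) (f : X' ⟶ X), BlowUp.IsBlowUp f 𝓙 ∧
          IsProper (f ≫ (X ↘ (Spec (CommRingCat.of k)))) ∧
          ∃ (D : X'.IdealSheafData) (L : X'.Modules), BlowUp.IsEffCartierIdeal D ∧
            (D.support : Set X') = (fun x => f x) ⁻¹' ((U : Set X)ᶜ) ∧
            ClSub.IsInverseOf L (ClSub.idealMod D) ∧ CohB1.IsAmple L := by
  let K := Spec (CommRingCat.of k)
  let g : X ⟶ K := X ↘ Spec (CommRingCat.of k)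
  haveI : IsProper g := inferInstanceAs (IsProper (X ↘ Spec (CommRingCat.of k)))
  haveI : IsNoetherian X := LocImmBlow.isNoetherian_of_ft g
  constructor
  · intro hU
    haveI : IsAffine (U : Scheme.{u}) := hU
    let g₀ : (U : Scheme.{u}) ⟶ K := U.ι ≫ g
    haveI : IsNoetherian (U : Scheme.{u}) := LocImmFT.isNoetherian_opens U
    obtain ⟨P, q, i, M, σ, hproj, _, _, hiq, hM, hiσ, hcl⟩ := YBlowUp.exists_embedding g₀
    haveI : IsProper q := (SymAlg.isProper_and_ftData_of_isProjective hproj).1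
    haveI : IsNoetherian P := LocImmBlow.isNoetherian_of_ft q
    haveI : IsNoetherian i.image := LocImmBlow.isNoetherian_of_ft i.imageι
    let P' : Fin 2 → Scheme.{u} := fun | 0 => i.image | 1 => X
    let r : ∀ a, P' a ⟶ K := fun | 0 => i.imageι ≫ q | 1 => g
    let h : ∀ a, (U : Scheme.{u}) ⟶ P' a := fun | 0 => i.toImage | 1 => U.ι
    haveI : ∀ a, IsNoetherian (P' a) := fun
      | 0 => (inferInstance : IsNoetherian i.image)
      | 1 => (inferInstance : IsNoetherian X)
    haveI : ∀ a, IsProper (r a) := fun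
      | 0 => (inferInstance : IsProper (i.imageι ≫ q))
      | 1 => (inferInstance : IsProper g)
    obtain ⟨W, ρ, w, _, _, -, hwd, hwρ, hc⟩ := LocImmBlow.exists_common g₀ 1 P' r h
      (fun | 0 => LocImmFT.isLocImmersion_of_isOpenImmersion (i.toImage)
           | 1 => LocImmFT.isLocImmersion_of_isOpenImmersion (U.ι))
      (fun | 0 => show i.toImage ≫ i.imageι ≫ q = g₀ by rw [Scheme.Hom.toImage_imageι_assoc, hiq]
           | 1 => rfl)
    obtain ⟨c₀, J₀, hc₀, hJ₀, hwc₀, hc₀ρ⟩ : ∃ (c : W ⟶ i.image) (J : i.image.IdealSheafData), BlowUp.IsBlowUp c J ∧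
        Disjoint (J.support : Set i.image) (Set.range i.toImage) ∧ w ≫ c = i.toImage ∧ c ≫ i.imageι ≫ q = ρ := hc 0
    obtain ⟨c₁, J₁, hc₁, hJ₁, hwc₁, hc₁ρ⟩ : ∃ (c : W ⟶ X) (J : X.IdealSheafData), BlowUp.IsBlowUp c J ∧
        Disjoint (J.support : Set X) (Set.range U.ι) ∧ w ≫ c = U.ι ∧ c ≫ g = ρ := hc 1
    rw [Scheme.Opens.range_ι] at hJ₁
    refine ⟨J₁, fun x hx hxU => Set.disjoint_left.1 hJ₁ hx hxU, W, c₁, hc₁,
      show IsProper (c₁ ≫ g) by rw [hc₁ρ]; infer_instance, ?_⟩
    let c' := c₀ ≫ i.imageι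
    let e := (PicLoc.pullbackStructureIso c').symm
    have hMi := TMul.isInvertible_of_isRelAmple hM
    let σ' := e.hom ≫ (Scheme.Modules.pullback c').map σ
    have hσ' : CohB1.genLocus _ σ' = c' ⁻¹ᵁ CohB1.genLocus M σ := TMul.genLocus_pullback c' hMi σ e
    have hrange : ∀ z : i.image, i.imageι z ∈ CohB1.genLocus M σ → z ∈ Set.range i.toImage := by
      intro z hz
      have h1 : i.imageι z ∈ closure (Set.range i) := by
        rw [← Scheme.Hom.support_ker, ← Scheme.IdealSheafData.range_subschemeι]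
        exact ⟨z, rfl⟩
      obtain ⟨y, hy⟩ | h2 := closure_minimal Set.subset_union_left hcl h1
      · exact ⟨y, i.imageι.isClosedEmbedding.injective (by rw [← Scheme.Hom.comp_apply, i.toImage_imageι]; exact hy)⟩
      · exact (h2 hz).elim
    have hG : ((c' ⁻¹ᵁ CohB1.genLocus M σ : W.Opens) : Set W) = ((c₁ ⁻¹ᵁ U : W.Opens) : Set W) := by
      ext z
      constructor
      · intro hz
        obtain ⟨y, hy⟩ := hrange (c₀ z) hz
        have hzy : w y = z := RZExt.eq_of_isBlowUp hc₀
          (fun h' => Set.disjoint_left.1 hJ₀ h' ⟨y, by rw [← Scheme.Hom.comp_apply, hwc₀]⟩)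
          (by rw [← Scheme.Hom.comp_apply, hwc₀]; exact hy)
        show c₁ z ∈ U
        rw [← hzy, ← Scheme.Hom.comp_apply, hwc₁]
        exact y.2
      · intro hz
        have hzU : c₁ z ∈ U := hz
        have hzy : w ⟨c₁ z, hzU⟩ = z := RZExt.eq_of_isBlowUp hc₁
          (fun h' => Set.disjoint_left.1 hJ₁ h' (by rw [← Scheme.Hom.comp_apply, hwc₁]; exact hzU))
          (by rw [← Scheme.Hom.comp_apply, hwc₁]; rfl)
        show i.imageι (c₀ z) ∈ CohB1.genLocus M σ
        rw [← hzy, ← Scheme.Hom.comp_apply w c₀, hwc₀, ← Scheme.Hom.comp_apply, i.toImage_imageι]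
        exact hiσ _
    have hdisj : Disjoint ((J₀.comap c₀).support : Set W) ((c' ⁻¹ᵁ CohB1.genLocus M σ : W.Opens) : Set W) := by
      rw [Scheme.IdealSheafData.support_comap, Closeds.coe_preimage]
      exact Set.disjoint_left.2 fun z hz hz' => Set.disjoint_left.1 hJ₀ hz (hrange (c₀ z) hz')
    obtain ⟨s, hs⟩ := YBlowUp.exists_gen_idealMod (J₀.comap c₀) _ hdisj
    let Mi := (Scheme.Modules.pullback i.imageι).obj M
    have hM₁ : RelAmple.IsRelAmple (i.imageι ≫ q) Mi :=
      TMul.isRelAmple_pullback_of_isInducing i.imageι i.imageι.isClosedEmbedding.isInducing hM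
    haveI := LocImmBlow.isProper_blowUp hc₀
    have hLi : PicF.IsInvertible (ClSub.idealMod (J₀.comap c₀)) := (Groth.Agent.S8914.result _).mpr hc₀.1
    obtain ⟨k₀, hk₀⟩ := TMul.exists_genLocus_extend_pow hLi (PicLoc.isInvertible_pullback c' hMi) σ' hσ' s
    obtain ⟨n₀, -, hn₀⟩ := TMul.exists_isRelAmple_comp c₀ (i.imageι ≫ q) (L := ClSub.idealMod (J₀.comap c₀))
      ⟨inferInstance, fun V => BlowAmp.isAmple_restrict_exceptional hc₀ (RZUnion.isFiniteType_of_isLocallyNoetherian _) V⟩
      hM₁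
    obtain ⟨t, ht⟩ := hk₀ (max k₀ n₀) (le_max_left _ _)
    obtain ⟨e₁⟩ := TMul.nonempty_pullPowIso c₀ Mi (max k₀ n₀)
    let e₀ : (Scheme.Modules.pullback c').obj M ≅ (Scheme.Modules.pullback c₀).obj Mi :=
      ((Scheme.Modules.pullbackComp c₀ i.imageι).app M).symm
    obtain ⟨e₂⟩ := TMul.nonempty_powCongr e₀ (max k₀ n₀)
    let φ := PicGrp.tensorModIso (Iso.refl (ClSub.idealMod (J₀.comap c₀))) (e₂ ≪≫ e₁)
    have hLW := hn₀ _ (le_max_right k₀ n₀)
    have hgen : CohB1.genLocus _ (t ≫ φ.hom) = c' ⁻¹ᵁ CohB1.genLocus M σ := by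
      rw [TMul.genLocus_comp, ← ht, hs, Scheme.Hom.image_top_eq_opensRange, Scheme.Opens.opensRange_ι]
    have hass : ∀ y : W, Curv2.IsAssPoint (Coh.structureModule W) y → y ∈ CohB1.genLocus _ (t ≫ φ.hom) := by
      intro y hy
      haveI : Nonempty W := ⟨y⟩
      haveI : Nonempty (U : Scheme.{u}) := hwd.nonempty_iff.2 inferInstance
      haveI : IsIntegral (U : Scheme.{u}) := isIntegral_of_isOpenImmersion U.ι
      haveI : IsReduced W := Groth.Agent.S8851.result J₁ c₁ hc₁
      haveI : IrreducibleSpace W := by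
        have h0 := ((IrreducibleSpace.isIrreducible_univ (U : Scheme.{u})).image w w.continuous.continuousOn).closure
        rw [Set.image_univ, hwd.closure_range] at h0
        exact { isPreirreducible_univ := h0.2, toNonempty := ⟨y⟩ }
      haveI : IsIntegral W := isIntegral_of_irreducibleSpace_of_isReduced W
      rw [eq_genericPoint_of_isAssPoint hy, hgen]
      obtain ⟨u⟩ := (inferInstance : Nonempty (U : Scheme.{u}))
      refine ((genericPoint_spec W).mem_open_set_iff (c' ⁻¹ᵁ CohB1.genLocus M σ).2).2 ⟨w u, trivial, ?_⟩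
      refine hG.ge ?_
      show c₁ (w u) ∈ U
      rw [← Scheme.Hom.comp_apply, hwc₁]
      exact u.2
    obtain ⟨D, hD, hDs, ⟨eD⟩⟩ := NegTwist.exists_cartier_of_section_support (TMul.isInvertible_of_isRelAmple hLW)
      (t ≫ φ.hom) hass
    refine ⟨D, _, hD, ?_, ⟨TMul.commIso _ _ ≪≫ eD⟩, (TMul.isRelAmple_iff_isAmple (f := c₀ ≫ i.imageι ≫ q)).1 hLW⟩
    rw [hDs, hgen, hG]
    rfl
  · rintro ⟨J, hJ, X', f, hf, hp, D, L, hD, hDs, hL, hamp⟩
    obtain ⟨e⟩ := hL
    obtain ⟨σ, hσ⟩ := ResDesc.exists_section_of_inverse D hD hamp.1 e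
    have hG : CohB1.genLocus L σ = f ⁻¹ᵁ U := by
      rw [hσ]
      refine TopologicalSpace.Opens.ext ?_
      show ((D.support : Set X'))ᶜ = _
      rw [hDs]
      ext z
      exact not_not
    haveI := hp
    have ha : IsAffineOpen (f ⁻¹ᵁ U) := hG ▸ TMul.isAffineOpen_genLocus_of_universallyClosed
      (f ≫ (X ↘ Spec (CommRingCat.of k))) hamp σ
    haveI := BlowUpLib.isIso_restrict hf
    haveI : IsIso (f ∣_ U) := by
      let C : X.Opens := J.support.compl
      have hU : U ≤ C := fun x hx h => hJ h hx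
      have h : C.ι ''ᵁ (C.ι ⁻¹ᵁ U) = U := by
        rw [Scheme.Hom.image_preimage_eq_opensRange_inf, Scheme.Opens.opensRange_ι, inf_eq_right.2 hU]
      exact ((MorphismProperty.isomorphisms Scheme.{u}).arrow_mk_iso_iff
        (morphismRestrictRestrict f C (C.ι ⁻¹ᵁ U) ≪≫ morphismRestrictEq f h)).1
        (IsZariskiLocalAtTarget.restrict (P := MorphismProperty.isomorphisms Scheme.{u})
          (show IsIso (f ∣_ C) from inferInstance) _)
    haveI : IsAffine (f ⁻¹ᵁ U : Scheme.{u}) := ha
    exact IsAffine.of_isIso (inv (f ∣_ U))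

end Groth.Agent.S11382
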