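import Groth.Statements.S11393
import Groth.Agent.FormalFun.Local

set_option autoImplicit false
set_option backward.isDefEq.respectTransparency false
universe u
open CategoryTheory CategoryTheory.Limits AlgebraicGeometry TopologicalSpace
open Variety

namespace Groth.Agent.S11393

/-- Let X be proper over an algebraically closed field k and 𝓘 a quasi-coherent ideal whose closed
subscheme Y is connected (and nonempty); let Y_m be the closed subscheme of 𝓘^{m+1} and A = lim_m
Γ(Y_m, O_{Y_m}) the ring of formal-regular functions along Y (global sections of the structure sheaf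
of the formal completion), formed as the limit in commutative rings along the restriction maps
Γ(Y_{m+1}, O) → Γ(Y_m, O). Then A is a local ring, and every element a of A differs from the image
of some constant c ∈ k by an element whose image in each Γ(Y_m, O_{Y_m}) is nilpotent (so the
residue field of A is k through the structure map). (The published statement also asserts that A is
a complete local ring; that clause is not included here.) -/
theorem result (k : Type u) [Field k] [IsAlgClosed k] (X : Scheme.{u})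
    [X.Over (Spec (CommRingCat.of k))] [IsProper (X ↘ (Spec (CommRingCat.of k)))]
    (𝓘 : X.IdealSheafData) (hY : _root_.IsConnected (𝓘.support : Set X)) :
    IsLocalRing ↑(limit (Functor.ofOpSequence
        (X := fun m : ℕ => Γ((𝓘 ^ (m + 1)).subscheme, ⊤))
        (fun m : ℕ => (Scheme.IdealSheafData.inclusion (Lef.pow_succ_le 𝓘 m)).appTop))) ∧
      ∀ a : ↑(limit (Functor.ofOpSequence
        (X := fun m : ℕ => Γ((𝓘 ^ (m + 1)).subscheme, ⊤))
        (fun m : ℕ => (Scheme.IdealSheafData.inclusion (Lef.pow_succ_le 𝓘 m)).appTop))),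
        ∃ c : k, ∀ m : ℕ, IsNilpotent (Sub.sub (α := ↑Γ((𝓘 ^ (m + 1)).subscheme, ⊤))
          ((limit.π (Functor.ofOpSequence
              (X := fun m : ℕ => Γ((𝓘 ^ (m + 1)).subscheme, ⊤))
              (fun m : ℕ => (Scheme.IdealSheafData.inclusion (Lef.pow_succ_le 𝓘 m)).appTop)) (Opposite.op m)).hom a)
          (((𝓘 ^ (m + 1)).subschemeι ≫ (X ↘ Spec (CommRingCat.of k))).appTop.hom
            ((Scheme.ΓSpecIso (CommRingCat.of k)).inv.hom c))) := by
  classical
  let F := Functor.ofOpSequence (X := fun m : ℕ => Γ((𝓘 ^ (m + 1)).subscheme, ⊤))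
    (fun m : ℕ => (Scheme.IdealSheafData.inclusion (Lef.pow_succ_le 𝓘 m)).appTop)
  let sm : ∀ m : ℕ, (𝓘 ^ (m + 1)).subscheme ⟶ Spec (CommRingCat.of k) := fun m =>
    (𝓘 ^ (m + 1)).subschemeι ≫ (X ↘ Spec (CommRingCat.of k))
  let ψ : ∀ m : ℕ, k →+* Γ((𝓘 ^ (m + 1)).subscheme, ⊤) := fun m => Coh.toGlobal (sm m)
  have hconn : ∀ m : ℕ, ConnectedSpace ↥(𝓘 ^ (m + 1)).subscheme := fun m => by
    haveI : ConnectedSpace (Set.range (𝓘 ^ (m + 1)).subschemeι) := by
      refine isConnected_iff_connectedSpace.1 ?_
      rw [Scheme.IdealSheafData.range_subschemeι, Scheme.IdealSheafData.support_pow_succ]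
      exact hY
    exact ((𝓘 ^ (m + 1)).subschemeι.isEmbedding.toHomeomorph).symm.surjective.connectedSpace
      ((𝓘 ^ (m + 1)).subschemeι.isEmbedding.toHomeomorph).symm.continuous
  haveI : ∀ m : ℕ, Nontrivial Γ((𝓘 ^ (m + 1)).subscheme, ⊤) := fun m => by
    haveI := hconn m
    obtain ⟨x⟩ := (hconn m).toNonempty
    exact ((𝓘 ^ (m + 1)).subscheme.presheaf.germ ⊤ x trivial).hom.domain_nontrivial
  have hex : ∀ (m : ℕ) (b : Γ((𝓘 ^ (m + 1)).subscheme, ⊤)), ∃ c : k, IsNilpotent (b - ψ m c) := fun m b => by
    haveI := hconn m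
    exact FormalFun.exists_const (ψ m) (AltN1.finite_global (sm m)) (fun e he => LefConn.idem_trivial he) b
  have hψ : ∀ (m : ℕ) (c : k),
      (Scheme.IdealSheafData.inclusion (Lef.pow_succ_le 𝓘 m)).appTop (ψ (m + 1) c) = ψ m c := fun m c => by
    show ((sm (m + 1)).appTop ≫ (Scheme.IdealSheafData.inclusion (Lef.pow_succ_le 𝓘 m)).appTop) _ = (sm m).appTop _
    rw [← Scheme.Hom.comp_appTop]
    congr 3
    exact Scheme.IdealSheafData.inclusion_subschemeι_assoc _ _
  have hw : ∀ (a : ↑(limit F)) (m : ℕ), (Scheme.IdealSheafData.inclusion (Lef.pow_succ_le 𝓘 m)).appTop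
      ((limit.π F (Opposite.op (m + 1))).hom a) = (limit.π F (Opposite.op m)).hom a := fun a m => by
    have h := limit.w F (homOfLE (Nat.le_add_right m 1)).op
    rw [Functor.ofOpSequence_map_homOfLE_succ] at h
    exact congrArg (fun φ => φ.hom a) h
  have key : ∀ a : ↑(limit F), ∃ c : k, ∀ m : ℕ, IsNilpotent (Sub.sub (α := ↑Γ((𝓘 ^ (m + 1)).subscheme, ⊤)) ((limit.π F (Opposite.op m)).hom a) (ψ m c)) := fun a => by
    choose c hc using fun m => hex m ((limit.π F (Opposite.op m)).hom a)
    refine ⟨c 0, fun m => ?_⟩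
    suffices hm : c m = c 0 by exact hm ▸ hc m
    induction m with
    | zero => rfl
    | succ m ih =>
      refine Eq.trans (FormalFun.const_unique (ψ m) ?_ (hc m)) ih
      have h := (hc (m + 1)).map (Scheme.IdealSheafData.inclusion (Lef.pow_succ_le 𝓘 m)).appTop.hom
      rw [map_sub] at h
      rwa [show (Scheme.IdealSheafData.inclusion (Lef.pow_succ_le 𝓘 m)).appTop.hom ((limit.π F (Opposite.op (m + 1))).hom a) = _
        from hw a m, show (Scheme.IdealSheafData.inclusion (Lef.pow_succ_le 𝓘 m)).appTop.hom (ψ (m + 1) (c (m + 1))) = _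
        from hψ m _] at h
  refine ⟨?_, key⟩
  haveI : Nontrivial ↑(F.obj (Opposite.op 0)) :=
    inferInstanceAs (Nontrivial Γ((𝓘 ^ (0 + 1)).subscheme, ⊤))
  haveI : Nontrivial ↑(limit F) := (limit.π F (Opposite.op 0)).hom.domain_nontrivial
  have hunit : ∀ a : ↑(limit F), (∀ m : ℕ, IsUnit ((limit.π F (Opposite.op m)).hom a)) → IsUnit a := fun a ha => by
    let L : ∀ j : ℕᵒᵖ, Localization.Away a →+* F.obj j := fun j =>
      IsLocalization.Away.lift a (g := (limit.π F j).hom) (by obtain ⟨m⟩ := j; exact ha m)
    let cn : Cone F :=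
      { pt := CommRingCat.of (Localization.Away a)
        π :=
          { app := fun j => CommRingCat.ofHom (L j)
            naturality := fun i j φ => by
              refine (Category.id_comp _).trans (CommRingCat.hom_ext ?_)
              show L j = (F.map φ).hom.comp (L i)
              refine IsLocalization.ringHom_ext (Submonoid.powers a) ?_
              rw [RingHom.comp_assoc, IsLocalization.Away.lift_comp, IsLocalization.Away.lift_comp]
              exact (congrArg CommRingCat.Hom.hom (limit.w F φ)).symm } }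
    have hid : CommRingCat.ofHom (algebraMap ↑(limit F) (Localization.Away a)) ≫ limit.lift F cn = 𝟙 _ := by
      refine limit.hom_ext fun j => ?_
      rw [Category.assoc, limit.lift_π]
      refine Eq.trans ?_ (Category.id_comp (limit.π F j)).symm
      refine CommRingCat.hom_ext ?_
      show (L j).comp (algebraMap ↑(limit F) (Localization.Away a)) = (limit.π F j).hom
      exact IsLocalization.Away.lift_comp _ _
    have h := (IsLocalization.Away.algebraMap_isUnit (S := Localization.Away a) a).map (limit.lift F cn).hom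
    rwa [show (limit.lift F cn).hom (algebraMap _ _ a) = a from congrArg (fun φ => φ.hom a) hid] at h
  refine IsLocalRing.of_isUnit_or_isUnit_one_sub_self fun a => ?_
  obtain ⟨c, hc⟩ := key a
  by_cases h0 : c = 0
  · refine Or.inr (hunit _ fun m => ?_)
    let x : Γ((𝓘 ^ (m + 1)).subscheme, ⊤) := (limit.π F (Opposite.op m)).hom a
    have h : IsNilpotent (x - ψ m c) := hc m
    rw [h0, map_zero, sub_zero] at h
    rw [map_sub, map_one]
    exact h.isUnit_one_sub
  · refine Or.inl (hunit _ fun m => ?_)
    let x : Γ((𝓘 ^ (m + 1)).subscheme, ⊤) := (limit.π F (Opposite.op m)).hom a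
    have h : IsUnit (ψ m c + (x - ψ m c)) :=
      IsNilpotent.isUnit_add_left_of_commute (hc m) ((IsUnit.mk0 c h0).map (ψ m)) (Commute.all _ _)
    rw [add_sub_cancel] at h
    exact h

end Groth.Agent.S11393
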