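import Groth.Statements.S11396
import Groth.Agent.Chev.InsepDescent
import Groth.Agent.Chev.TorsorMap
import Groth.Agent.S2500
import Groth.Agent.Rigid.FibreTranslate

set_option autoImplicit false
universe u
open CategoryTheory MonoidalCategory CartesianMonoidalCategory MonObj GrpObj AlgebraicGeometry CategoryTheory.Limits
open AlgGrp

namespace Groth.Agent.S11396

open Groth.Agent.Chev IsLocalRing

set_option backward.isDefEq.respectTransparency false

section Norm

variable {k : Type u} [Field k] {A X : Over (Spec (CommRingCat.of k))} [GrpObj A] [IsCommMonObj A]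
  (a : AlgGrp.Action A X) (ζ : X.left)

/-- The product of the group components of the solutions. -/
noncomputable def nrm {Ω : Type u} [Field Ω] [Algebra k Ω] (x : VecGrp.pt k Ω ⟶ X) : VecGrp.pt k Ω ⟶ A :=
  ∏ᶠ w ∈ AVAct.Sol a ζ x, w ≫ fst A X

theorem comp_nrm {Ω Ω' : Type u} [Field Ω] [Algebra k Ω] [Field Ω'] [Algebra k Ω'] (ψ : Ω →ₐ[k] Ω')
    (x : VecGrp.pt k Ω ⟶ X) (hfin : (AVAct.Sol a ζ x).Finite)
    (h : Set.BijOn (fun w => VecGrp.ptMap ψ ≫ w) (AVAct.Sol a ζ x) (AVAct.Sol a ζ (VecGrp.ptMap ψ ≫ x))) :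
    VecGrp.ptMap ψ ≫ nrm a ζ x = nrm a ζ (VecGrp.ptMap ψ ≫ x) := by
  classical
  rw [nrm, nrm, finprod_mem_eq_finite_toFinset_prod _ hfin, comp_finsetProd,
    ← h.image_eq, finprod_mem_image h.injOn, finprod_mem_eq_finite_toFinset_prod _ hfin]
  exact Finset.prod_congr rfl fun w _ => (Category.assoc _ _ _).symm

theorem one_act_pt {T : Over (Spec (CommRingCat.of k))} (x : T ⟶ X) : lift (1 : T ⟶ A) x ≫ a.act = x := by
  have h := congrArg (fun z => lift (toUnit T) x ≫ z) a.one_act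
  simp only [lift_whiskerRight_assoc, lift_leftUnitor_hom] at h
  rw [Hom.one_def]
  exact h

/-- Translation of solutions. -/
theorem bijOn_translate {Ω : Type u} [Field Ω] [Algebra k Ω] (g : VecGrp.pt k Ω ⟶ A) (x : VecGrp.pt k Ω ⟶ X) :
    Set.BijOn (fun w => lift (g * (w ≫ fst A X)) (w ≫ snd A X)) (AVAct.Sol a ζ x)
      (AVAct.Sol a ζ (lift g x ≫ a.act)) := by
  have key : ∀ (g : VecGrp.pt k Ω ⟶ A) (x : VecGrp.pt k Ω ⟶ X) (w), w ∈ AVAct.Sol a ζ x →
      lift (g * (w ≫ fst A X)) (w ≫ snd A X) ∈ AVAct.Sol a ζ (lift g x ≫ a.act) := by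
    rintro g x w ⟨h₁, h₂⟩
    refine ⟨?_, ?_⟩
    · rw [lift_mul_act, ← comp_lift_assoc, lift_fst_snd, Category.id_comp, h₁]
    · rwa [lift_snd]
  refine ⟨key g x, fun w _ w' _ h => ?_, fun w' hw' => ?_⟩
  · simp only at h
    have h1 := congrArg (fun q => q ≫ fst A X) h
    have h2 := congrArg (fun q => q ≫ snd A X) h
    simp only [lift_fst, lift_snd] at h1 h2
    exact CartesianMonoidalCategory.hom_ext _ _ (mul_left_cancel h1) h2
  · refine ⟨lift (g⁻¹ * (w' ≫ fst A X)) (w' ≫ snd A X), ?_, ?_⟩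
    · have := key g⁻¹ _ w' hw'
      rwa [← lift_mul_act, inv_mul_cancel, one_act_pt] at this
    · simp only [lift_fst, lift_snd, mul_inv_cancel_left]
      rw [← comp_lift, lift_fst_snd, Category.comp_id]

theorem nrm_translate {Ω : Type u} [Field Ω] [Algebra k Ω] (g : VecGrp.pt k Ω ⟶ A) (x : VecGrp.pt k Ω ⟶ X)
    (hfin : (AVAct.Sol a ζ x).Finite) :
    nrm a ζ (lift g x ≫ a.act) = g ^ (AVAct.Sol a ζ x).ncard * nrm a ζ x := by
  classical
  rw [nrm, nrm, ← (bijOn_translate a ζ g x).image_eq, finprod_mem_image (bijOn_translate a ζ g x).injOn,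
    finprod_mem_eq_finite_toFinset_prod _ hfin, finprod_mem_eq_finite_toFinset_prod _ hfin,
    Set.ncard_eq_toFinset_card _ hfin, ← Finset.prod_const, ← Finset.prod_mul_distrib]
  exact Finset.prod_congr rfl fun w _ => lift_fst _ _

end Norm


/-- Over an algebraically closed field k, let A be an abelian variety (a proper, smooth, connected
k-group scheme) acting on a smooth variety X (integral, separated, of finite type over k),
faithfully in the sense that every rational point of A acting as the identity of X is the identity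
element. Then there exist a k-morphism φ : X → A and a positive integer n such that φ(a · x) = φ(x)
· aⁿ for all points a of A and x of X (with values in any k-scheme). -/
theorem result (k : Type u) [Field k] [IsAlgClosed k]
    (A X : Over (Spec (CommRingCat.of k))) [GrpObj A] [IsProper A.hom] [Smooth A.hom] [ConnectedSpace ↥A.left]
    [LocallyOfFiniteType X.hom] [QuasiCompact X.hom] [IsSeparated X.hom] [IsIntegral X.left] [Smooth X.hom]
    (a : AlgGrp.Action A X)
    (hfaith : ∀ g : 𝟙_ (Over (Spec (CommRingCat.of k))) ⟶ A, lift (toUnit X ≫ g) (𝟙 X) ≫ a.act = 𝟙 X → g = η[A]) :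
    ∃ (φ : X ⟶ A) (n : ℕ), 0 < n ∧
      ∀ (T : Over (Spec (CommRingCat.of k))) (g : T ⟶ A) (x : T ⟶ X), lift g x ≫ a.act ≫ φ = (x ≫ φ) * g ^ n := by
  classical
  haveI : LocallyOfFiniteType A.hom := inferInstance
  haveI := geometricallyIntegral_of_group (A := A)
  haveI : IsCommMonObj A := isCommMonObj_of_isProper_of_geometricallyIntegral A
  haveI : IrreducibleSpace X.left := inferInstance
  haveI : GeometricallyIrreducible X.hom := Groth.Agent.S2500.result X.hom
  haveI : GeometricallyReduced X.hom := Groth.Agent.Rigid.geometricallyReduced_of_perfect X.hom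
  haveI : GeometricallyIntegral X.hom := GeometricallyIntegral.of_geometricallyReduced_of_geometricallyIrreducible _
  haveI := Groth.Agent.AVRat.geometricallyIntegral_prod (X := A) (Y := X)
  haveI : IsIntegral (A ⊗ X).left := GeometricallyIntegral.isIntegral_of_subsingleton (A ⊗ X).hom
  haveI : IsFinite (lift a.act (snd A X)).left := isFinite_actGraph a hfaith
  obtain ⟨ζ, hζ⟩ := AVAct.exists_sol a
  haveI : Surjective (snd A X).left :=
    MorphismProperty.pullback_snd (P := @Surjective) A.hom X.hom (by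
      refine ⟨fun y => ?_⟩
      haveI : Nonempty A.left := (inferInstance : ConnectedSpace A.left).toNonempty
      obtain ⟨z⟩ := (inferInstance : Nonempty A.left)
      exact ⟨z, @Subsingleton.elim _ (inferInstanceAs (Subsingleton (PrimeSpectrum k))) _ _⟩)
  haveI : Surjective a.act.left := by
    have e : lift (toUnit X ≫ η[A]) (𝟙 X) ≫ a.act = 𝟙 X := by
      rw [show toUnit X ≫ η[A] = (1 : X ⟶ A) from Hom.one_def.symm]
      exact one_act_pt a (𝟙 X)
    refine ⟨fun y => ⟨(lift (toUnit X ≫ η[A]) (𝟙 X)).left y, ?_⟩⟩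
    rw [← Scheme.Hom.comp_apply, ← Over.comp_left, e]
    rfl
  let Ω := AlgebraicClosure (KF X)
  let xb := VecGrp.ptMap (IsScalarTower.toAlgHom k (KF X) Ω) ≫ gen X
  have himg : ∀ (E : Type u) [Field E] [Algebra k E] (j : KF X →ₐ[k] E),
      img (VecGrp.ptMap j ≫ gen X) = genericPoint X.left := by
    intro E _ _ j
    show (spt (genericPoint X.left)).left ((VecGrp.ptMap j).left (closedPoint E)) = _
    rw [@Subsingleton.elim _ (inferInstanceAs (Subsingleton (PrimeSpectrum (KF X))))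
      ((VecGrp.ptMap j).left (closedPoint E)) (closedPoint (KF X)), spt_apply]
  obtain ⟨hfin, hne, hbij⟩ := hζ Ω xb (himg Ω _)
  have hfix : ∀ τ : Ω ≃ₐ[KF X] Ω, VecGrp.ptMap (τ.toAlgHom.restrictScalars k) ≫ nrm a ζ xb = nrm a ζ xb := by
    intro τ
    rw [comp_nrm a ζ _ xb hfin (hbij Ω _)]
    congr 1
    rw [← Category.assoc, ← ptMap_comp]
    congr 2
    exact AlgHom.ext fun c => τ.commutes c
  obtain ⟨n₁, y, hn₁, hy⟩ := Insep.exists_pow_descent_algClosure (nrm a ζ xb) hfix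
  obtain ⟨φ, hφ⟩ := exists_extension (A := A) y
  refine ⟨φ, (AVAct.Sol a ζ xb).ncard * n₁, Nat.mul_pos ((Set.ncard_pos hfin).2 hne) hn₁, fun T g x => ?_⟩
  let w := gen (A ⊗ X)
  let E := KF (A ⊗ X)
  let Ω' := AlgebraicClosure E
  let wb := VecGrp.ptMap (IsScalarTower.toAlgHom k E Ω') ≫ w
  have hlift : ∀ j : KF X →ₐ[k] E, ∃ J : Ω →ₐ[k] Ω',
      J.comp (IsScalarTower.toAlgHom k (KF X) Ω) = (IsScalarTower.toAlgHom k E Ω').comp j := by
    intro j
    letI : Algebra (KF X) Ω' := ((IsScalarTower.toAlgHom k E Ω').comp j).toRingHom.toAlgebra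
    haveI : IsScalarTower k (KF X) Ω' :=
      IsScalarTower.of_algebraMap_eq fun c => (((IsScalarTower.toAlgHom k E Ω').comp j).commutes c).symm
    exact ⟨(IsAlgClosed.lift : Ω →ₐ[KF X] Ω').restrictScalars k,
      AlgHom.ext fun c => (IsAlgClosed.lift : Ω →ₐ[KF X] Ω').commutes c⟩
  obtain ⟨J₁, hJ₁⟩ := hlift (fmap (w ≫ a.act) (img_gen_comp a.act))
  obtain ⟨J₂, hJ₂⟩ := hlift (fmap (w ≫ snd A X) (img_gen_comp (snd A X)))
  have sq : ∀ (f : A ⊗ X ⟶ X) (hf : img (w ≫ f) = genericPoint X.left) (J : Ω →ₐ[k] Ω'),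
      J.comp (IsScalarTower.toAlgHom k (KF X) Ω) = (IsScalarTower.toAlgHom k E Ω').comp (fmap (w ≫ f) hf) →
      VecGrp.ptMap J ≫ xb = wb ≫ f ∧
        VecGrp.ptMap J ≫ nrm a ζ xb ^ n₁ = VecGrp.ptMap (IsScalarTower.toAlgHom k E Ω') ≫ w ≫ f ≫ φ := by
    intro f hf J hJ
    have e : ∀ {Z : Over (Spec (CommRingCat.of k))} (z : VecGrp.pt k (KF X) ⟶ Z),
        VecGrp.ptMap J ≫ VecGrp.ptMap (IsScalarTower.toAlgHom k (KF X) Ω) ≫ z =
          VecGrp.ptMap (IsScalarTower.toAlgHom k E Ω') ≫ VecGrp.ptMap (fmap (w ≫ f) hf) ≫ z := by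
      intro Z z
      rw [← Category.assoc, ← ptMap_comp, hJ, ptMap_comp, Category.assoc]
    refine ⟨?_, ?_⟩
    · rw [e, ptMap_fmap, Category.assoc]
    · rw [← hy, e, ← hφ, ← Category.assoc (VecGrp.ptMap (fmap (w ≫ f) hf)), ptMap_fmap, Category.assoc]
  obtain ⟨hx₁, hφ₁⟩ := sq a.act _ J₁ hJ₁
  obtain ⟨hx₂, hφ₂⟩ := sq (snd A X) _ J₂ hJ₂
  obtain ⟨hfin₂, -, -⟩ := hζ Ω' (VecGrp.ptMap J₂ ≫ xb) (by
    rw [← Category.assoc, ← ptMap_comp]; exact himg Ω' _)
  have hact : lift (wb ≫ fst A X) (VecGrp.ptMap J₂ ≫ xb) ≫ a.act = VecGrp.ptMap J₁ ≫ xb := by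
    rw [hx₁, hx₂, ← comp_lift_assoc, lift_fst_snd, Category.id_comp]
  have hgl : a.act ≫ φ = fst A X ^ ((AVAct.Sol a ζ xb).ncard * n₁) * (snd A X ≫ φ) := by
    apply hom_ext_gen
    apply ptMap_cancel (IsScalarTower.toAlgHom k E Ω')
    rw [← hφ₁, MonObj.comp_pow, comp_nrm a ζ J₁ xb hfin (hbij Ω' J₁), ← hact,
      nrm_translate a ζ _ _ hfin₂, mul_pow, ← pow_mul, ← comp_nrm a ζ J₂ xb hfin (hbij Ω' J₂),
      show (VecGrp.ptMap J₂ ≫ nrm a ζ xb) ^ n₁ = _ from (MonObj.comp_pow _ _ _).symm.trans hφ₂, ← (hbij Ω' J₂).image_eq, Set.ncard_image_of_injOn (hbij Ω' J₂).injOn]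
    simp only [MonObj.comp_mul, MonObj.comp_pow, wb, w, Category.assoc]
  have h2 := congrArg (fun q => lift g x ≫ q) hgl
  simp only [MonObj.comp_mul, MonObj.comp_pow, lift_fst, lift_snd_assoc] at h2
  rw [h2, _root_.mul_comm]

end Groth.Agent.S11396
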