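import Groth.Statements.S11400
import Groth.Agent.Chev.Divisible

set_option autoImplicit false
universe u
open CategoryTheory MonoidalCategory CartesianMonoidalCategory MonObj GrpObj AlgebraicGeometry CategoryTheory.Limits
open AlgGrp

namespace Groth.Agent.S11400

/-- Over an algebraically closed field k, let G be a connected algebraic group (smooth k-group scheme of
finite type), let i : N → G be its largest connected affine normal algebraic subgroup G_aff (a
homomorphism and closed immersion from a smooth, connected, affine k-group scheme, normal in G,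
through which every other such subgroup factors), and let j : Z → G be the scheme-theoretic centre
of G. Then G = Z · G_aff, in the sense that the multiplication morphism Z × G_aff → G is surjective,
and G is commutative exactly when G_aff is. (The published statement also gives G = Z⁰_red · G_aff
and identifies the scheme-theoretic intersection Z ∩ G_aff with the centre of G_aff; those clauses
are not stated here.) -/
theorem result (k : Type u) [Field k] [IsAlgClosed k]
    (G : Over (Spec (CommRingCat.of k))) [GrpObj G] [Smooth G.hom] [QuasiCompact G.hom] [ConnectedSpace ↥G.left]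
    (N : Over (Spec (CommRingCat.of k))) [GrpObj N] (i : N ⟶ G) [IsMonHom i] [IsClosedImmersion i.left]
    [Smooth N.hom] [ConnectedSpace ↥N.left] [IsAffine N.left] (hN : AlgGrp.IsNormalHom i)
    (hNmax : ∀ (N' : Over (Spec (CommRingCat.of k))) [GrpObj N'] (i' : N' ⟶ G) [IsMonHom i'] [IsClosedImmersion i'.left]
      [Smooth N'.hom] [ConnectedSpace ↥N'.left] [IsAffine N'.left], AlgGrp.IsNormalHom i' → ∃ f : N' ⟶ N, f ≫ i = i')
    (Z : Over (Spec (CommRingCat.of k))) [GrpObj Z] (j : Z ⟶ G) (hZ : Red.IsCentre j) :
    Surjective ((j ⊗ₘ i) ≫ μ[G]).left ∧ (IsCommMonObj G ↔ IsCommMonObj N) := by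
  obtain ⟨D, hD, jD, hc, hs, hcomm⟩ := Groth.Agent.Chev.centre_mul_affPart i hNmax
  obtain ⟨z, hz⟩ := (hZ.2.2 D jD).2 fun X' x h => by
    rw [Category.comp_id]; exact hc X' x h
  haveI : Mono i := Groth.Agent.GrpField.SchImg.mono_of_isClosedImmersion i
  refine ⟨?_, fun hG => haveI := hG; Groth.Agent.Chev.isCommMonObj_of_mono i, hcomm⟩
  have e : (jD ⊗ₘ i) ≫ μ[G] = (z ▷ N) ≫ (j ⊗ₘ i) ≫ μ[G] := by
    rw [← Category.assoc (z ▷ N)]; congr 1
    apply CartesianMonoidalCategory.hom_ext <;> simp [hz]
  rw [e, Over.comp_left] at hs
  haveI := hs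
  exact Surjective.of_comp (z ▷ N).left _

end Groth.Agent.S11400
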