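import Groth.Statements.S11404
import Mathlib
import Groth.Agent.AntiAffRig.Basic
import Groth.Agent.Rigid.Lemma
import Groth.Agent.Rigid.FibreTranslate
import Groth.Agent.SmoothRed.Scheme
import Groth.Agent.S14578

set_option autoImplicit false
universe u
open CategoryTheory MonoidalCategory CartesianMonoidalCategory MonObj GrpObj AlgebraicGeometry CategoryTheory.Limits
open AlgGrp

namespace Groth.Agent.S11404

/-- Over an algebraically closed field k, let A be an abelian variety (a proper, smooth, connected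
k-group scheme) and S a connected k-scheme of finite type. For every automorphism f of A × S over S
there are a unique k-morphism g : S → A and a unique group automorphism h of A with f(a, s) = (g(s)
· h(a), s) on points. (This is the functor-of-points form, over a connected base, of the
identification of the automorphism group scheme of A with the semidirect product of A, acting by
translations, and the constant group of group automorphisms; in particular the neutral component is
A.) -/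
theorem result (k : Type u) [Field k] [IsAlgClosed k]
    (A S : Over (Spec (CommRingCat.of k))) [GrpObj A] [IsProper A.hom] [Smooth A.hom] [ConnectedSpace ↥A.left]
    [LocallyOfFiniteType S.hom] [QuasiCompact S.hom] [ConnectedSpace ↥S.left]
    (f : A ⊗ S ≅ A ⊗ S) (hf : f.hom ≫ snd A S = snd A S) :
    ∃ (g : S ⟶ A) (h : A ⟶ A), IsMonHom h ∧ IsIso h ∧
      f.hom ≫ fst A S = (snd A S ≫ g) * (fst A S ≫ h) ∧
      ∀ (g' : S ⟶ A) (h' : A ⟶ A), IsMonHom h' →
        f.hom ≫ fst A S = (snd A S ≫ g') * (fst A S ≫ h') → g' = g ∧ h' = h := by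
  haveI : IsReduced A.left := Groth.Agent.SmoothRed.isReduced_of_smooth_scheme A.hom
  haveI : IsSeparated A.hom := inferInstance
  haveI : GeometricallyReduced A.hom := Groth.Agent.Rigid.geometricallyReduced_of_perfect A.hom
  haveI : GeometricallyConnected A.hom := Groth.Agent.Rigid.geometricallyConnected_of_section A.hom η[A].left (Over.w η[A])
  have hA : Groth.Agent.AntiAffRig.OnlyConst A := by
    have h := Groth.Agent.Rigid.bijective_appTop_of_section A.hom (Groth.Agent.Rigid.goodFibres_of_geometrically A.hom)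
      η[A].left (Over.w η[A])
    have h2 := ConcreteCategory.bijective_of_isIso (Scheme.ΓSpecIso (CommRingCat.of k)).inv
    exact h.comp h2
  haveI : JacobsonSpace S.left := LocallyOfFiniteType.jacobsonSpace S.hom
  obtain ⟨x, -, hx⟩ := nonempty_inter_closedPoints (X := S.left) (Z := Set.univ) Set.univ_nonempty isClosed_univ.isLocallyClosed
  let s₀ : 𝟙_ (Over (Spec (CommRingCat.of k))) ⟶ S :=
    Over.homMk (pointOfClosedPoint S.hom x hx) (pointOfClosedPoint_comp S.hom x hx)
  let F := f.hom ≫ fst A S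
  let g : S ⟶ A := lift (toUnit S ≫ η[A]) (𝟙 S) ≫ F
  let h₀ : A ⟶ A := lift (𝟙 A) (toUnit A ≫ s₀) ≫ F
  let c : 𝟙_ (Over (Spec (CommRingCat.of k))) ⟶ A := s₀ ≫ g
  let h : A ⟶ A := (toUnit A ≫ c)⁻¹ * h₀
  have e0 : η[A] ≫ toUnit A = 𝟙 _ := toUnit_unique _ _
  have e1 : s₀ ≫ toUnit S = 𝟙 _ := toUnit_unique _ _
  have hη1 : (η[A] : 𝟙_ _ ⟶ A) = 1 := by
    rw [Hom.one_def, toUnit_unique (toUnit (𝟙_ (Over (Spec (CommRingCat.of k))))) (𝟙 _), Category.id_comp]
  have hc : η[A] ≫ h₀ = c := by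
    simp only [h₀, c, g, ← Category.assoc, comp_lift, e0, e1, Category.comp_id, Category.id_comp]
  have hh1 : η[A] ≫ h = η[A] := by
    rw [MonObj.comp_mul, GrpObj.comp_inv, ← Category.assoc η[A] (toUnit A), e0, Category.id_comp, hc, hη1]
    exact inv_mul_cancel _
  haveI hh : IsMonHom h := Groth.Agent.S14578.result k A A hA h hh1
  -- inverse
  let ι₀ : A ⟶ A ⊗ S := lift (𝟙 A) (toUnit A ≫ s₀)
  have hι : ι₀ ≫ f.hom = lift h₀ (toUnit A ≫ s₀) := by
    ext1
    · simp [ι₀, h₀, F]
    · rw [Category.assoc, hf, lift_snd, lift_snd]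
  have hfi : f.inv ≫ snd A S = snd A S := by rw [Iso.inv_comp_eq, hf]
  let k₀ : A ⟶ A := ι₀ ≫ f.inv ≫ fst A S
  have hιi : ι₀ ≫ f.inv = lift k₀ (toUnit A ≫ s₀) := by
    ext1
    · simp [k₀]
    · rw [Category.assoc, hfi, lift_snd, lift_snd]
  have hk1 : k₀ ≫ h₀ = 𝟙 A := by
    have : k₀ ≫ ι₀ = ι₀ ≫ f.inv := by
      rw [hιi, comp_lift, Category.comp_id, ← Category.assoc, toUnit_unique (k₀ ≫ toUnit A) (toUnit A)]
    simp only [h₀, F, ← Category.assoc]
    rw [show lift (𝟙 A) (toUnit A ≫ s₀) = ι₀ from rfl, this, Category.assoc ι₀, Iso.inv_hom_id, Category.comp_id,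
      lift_fst]
  have hk2 : h₀ ≫ k₀ = 𝟙 A := by
    have : h₀ ≫ ι₀ = ι₀ ≫ f.hom := by
      rw [hι, comp_lift, Category.comp_id, ← Category.assoc, toUnit_unique (h₀ ≫ toUnit A) (toUnit A)]
    simp only [k₀, ← Category.assoc]
    rw [this, Category.assoc ι₀, Iso.hom_inv_id, Category.comp_id, lift_fst]
  let τ : ∀ d : 𝟙_ (Over (Spec (CommRingCat.of k))) ⟶ A, A ⟶ A := fun d => (toUnit A ≫ d) * 𝟙 A
  have hτ : ∀ d e, τ d ≫ τ e = (toUnit A ≫ e) * ((toUnit A ≫ d) * 𝟙 A) := by
    intro d e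
    simp only [τ, MonObj.comp_mul, ← Category.assoc, toUnit_unique (((toUnit A ≫ d) * 𝟙 A) ≫ toUnit A) (toUnit A),
      Category.comp_id]
  have hh0 : h = h₀ ≫ τ c⁻¹ := by
    simp only [h, τ, MonObj.comp_mul, GrpObj.comp_inv, ← Category.assoc, toUnit_unique (h₀ ≫ toUnit A) (toUnit A),
      Category.comp_id]
  haveI : IsIso (τ c⁻¹) := by
    refine ⟨τ c, ?_, ?_⟩ <;> rw [hτ, GrpObj.comp_inv]
    · exact mul_inv_cancel_left _ _
    · exact inv_mul_cancel_left _ _
  haveI : IsIso h₀ := ⟨k₀, hk2, hk1⟩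
  have hiso : IsIso h := by rw [hh0]; infer_instance
  -- rigidity
  let G' : A ⊗ S ⟶ A := (snd A S ≫ g)⁻¹ * F * (fst A S ≫ h)⁻¹
  have hG0 : (A ◁ s₀) ≫ G' = toUnit _ ≫ (1 : 𝟙_ _ ⟶ A) := by
    have hl : A ◁ s₀ = lift (fst A (𝟙_ _)) (snd A (𝟙_ _) ≫ s₀) := by ext1 <;> simp
    have hF : (A ◁ s₀) ≫ F = fst A (𝟙_ _) ≫ h₀ := by
      rw [hl]
      simp only [h₀, ← Category.assoc, comp_lift, Category.comp_id,
        toUnit_unique (fst A (𝟙_ (Over (Spec (CommRingCat.of k)))) ≫ toUnit A) (snd A (𝟙_ _))]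
    simp only [G', MonObj.comp_mul, GrpObj.comp_inv, hF, MonObj.comp_one, whiskerLeft_fst_assoc, whiskerLeft_snd_assoc]
    simp only [h, c, MonObj.comp_mul, GrpObj.comp_inv, ← Category.assoc,
      toUnit_unique (fst A (𝟙_ (Over (Spec (CommRingCat.of k)))) ≫ toUnit A) (snd A (𝟙_ _)),
      _root_.mul_inv_rev, _root_.inv_inv, _root_.mul_assoc]
    simp
  have hG := Groth.Agent.AntiAffRig.eq_snd_of_connected hA η[A] s₀ 1 G' hG0
  have hg1 : lift (toUnit S ≫ η[A]) (𝟙 S) ≫ G' = 1 := by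
    simp only [G', MonObj.comp_mul, GrpObj.comp_inv, ← Category.assoc, lift_fst, lift_snd, Category.id_comp]
    rw [Category.assoc (toUnit S) η[A] h, hh1, ← Hom.one_def, inv_one, _root_.mul_one]
    exact inv_mul_cancel _
  rw [hg1, MonObj.comp_one] at hG
  refine ⟨g, h, hh, hiso, ?_, ?_⟩
  · simp only [G'] at hG
    rw [mul_inv_eq_one, inv_mul_eq_iff_eq_mul] at hG
    exact hG
  · intro g' h' hh' hf'
    have hg : g' = g := by
      simp only [g, F, hf', MonObj.comp_mul, lift_fst_assoc, lift_snd_assoc, Category.id_comp, Category.assoc,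
        IsMonHom.one_hom (f := h')]
      rw [← Hom.one_def, _root_.mul_one]
    refine ⟨hg, ?_⟩
    simp only [h, h₀, c, F, hf', MonObj.comp_mul, lift_fst_assoc, lift_snd_assoc, Category.id_comp, Category.assoc, hg,
      inv_mul_cancel_left]

end Groth.Agent.S11404
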