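import Groth.Statements.S11405
import Groth.Agent.AffHull.GModTriv

set_option autoImplicit false
universe u
open CategoryTheory MonoidalCategory CartesianMonoidalCategory MonObj GrpObj AlgebraicGeometry CategoryTheory.Limits
open AlgGrp

namespace Groth.Agent.S11405

/-- Over an algebraically closed field k, the following are equivalent for an algebraic group G (a
smooth k-group scheme of finite type): (i) the only global functions on G are the constants; (ii)
every finite-dimensional linear representation of G is trivial (every point of G with values in a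
k-algebra B acts as the identity on B ⊗ M, for every G-module structure on a finite-dimensional
k-vector space M); (iii) every action of G on a variety (integral, separated k-scheme of finite
type) with a fixed rational point is the trivial action. Stated as (i) ⇔ (ii) and (i) ⇔ (iii). -/
theorem result (k : Type u) [Field k] [IsAlgClosed k]
    (G : Over (Spec (CommRingCat.of k))) [GrpObj G] [Smooth G.hom] [QuasiCompact G.hom] :
    (Function.Bijective ((Scheme.ΓSpecIso (CommRingCat.of k)).inv ≫ G.hom.appTop).hom ↔
      ∀ (M : Type u) [AddCommGroup M] [Module k M] [Module.Finite k M] (m : VecGrp.GMod G M)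
        (B : Type u) [CommRing B] [Algebra k B] (g : VecGrp.pt k B ⟶ G), m.ρ B g = 1) ∧
    (Function.Bijective ((Scheme.ΓSpecIso (CommRingCat.of k)).inv ≫ G.hom.appTop).hom ↔
      ∀ (X : Over (Spec (CommRingCat.of k))) [LocallyOfFiniteType X.hom] [QuasiCompact X.hom] [IsSeparated X.hom]
        [IsIntegral X.left] (a : AlgGrp.Action G X) (x : 𝟙_ (Over (Spec (CommRingCat.of k))) ⟶ X), a.IsFixedPt x → a.act = snd G X) := by
  haveI : IsSeparated G.hom := GrpField.isSeparated_hom G
  refine ⟨⟨fun hG M _ _ _ m B _ _ g => AffHull.gmod_trivial hG m B g, fun H =>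
      AffHull.bijective_of_gmod_trivial fun n m B _ _ g => H (Fin n → k) m B g⟩,
    ⟨fun hG X _ _ _ _ a x hx => AffHull.act_eq_snd hG a x hx, fun H =>
      AffHull.bijective_of_actions_trivial G fun n a ha => ?_⟩⟩
  haveI : IsAffineHom (AffHull.affSpace k n).hom := inferInstanceAs (IsAffineHom (AffineSpace (ULift.{u} (Fin n)) (Spec (CommRingCat.of k)) ↘ Spec (CommRingCat.of k)))
  haveI : LocallyOfFiniteType (AffHull.affSpace k n).hom := inferInstanceAs (LocallyOfFiniteType (AffineSpace (ULift.{u} (Fin n)) (Spec (CommRingCat.of k)) ↘ Spec (CommRingCat.of k)))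
  haveI : IsIntegral (AffHull.affSpace k n).left := inferInstanceAs (IsIntegral (AffineSpace (ULift.{u} (Fin n)) (Spec (CommRingCat.of k))))
  exact H _ a _ ha

end Groth.Agent.S11405
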