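import Groth.Statements.S11407
import Groth.Agent.Chev.AntiCharP
import Groth.Agent.Rigid.Sections
import Groth.Agent.GrpField.AffImage

set_option autoImplicit false
universe u
open CategoryTheory MonoidalCategory CartesianMonoidalCategory MonObj GrpObj AlgebraicGeometry CategoryTheory.Limits
open AlgGrp

namespace Groth.Agent.S11407
open Groth.Agent

/-- Over an algebraically closed field k of characteristic p > 0, let G be a connected commutative
algebraic group (smooth k-group scheme of finite type) which is an extension of an abelian variety A
(a proper, smooth, connected k-group scheme) by a connected unipotent algebraic group U: i : U → G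
is a homomorphism and closed immersion from a smooth, connected, affine k-group scheme containing no
non-trivial subtorus (for smooth connected affine groups over an algebraically closed field this is
unipotency), and α : G → A is a flat surjective homomorphism with kernel i. Then the only global
functions on G are the constants if and only if U is the trivial group. -/
theorem result (k : Type u) [Field k] [IsAlgClosed k]
    (p : ℕ) [Fact p.Prime] [CharP k p]
    (G : Over (Spec (CommRingCat.of k))) [GrpObj G] [Smooth G.hom] [QuasiCompact G.hom] [ConnectedSpace ↥G.left] [IsCommMonObj G]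
    (U : Over (Spec (CommRingCat.of k))) [GrpObj U] (i : U ⟶ G) [IsMonHom i] [IsClosedImmersion i.left]
    [Smooth U.hom] [ConnectedSpace ↥U.left] [IsAffine U.left] (hU : Red.HasNoSubtorus k U)
    (A : Over (Spec (CommRingCat.of k))) [GrpObj A] [IsProper A.hom] [Smooth A.hom] [ConnectedSpace ↥A.left]
    (α : G ⟶ A) [IsMonHom α] [Surjective α.left] [Flat α.left] (hker : AlgGrp.IsKernel i α) :
    Function.Bijective ((Scheme.ΓSpecIso (CommRingCat.of k)).inv ≫ G.hom.appTop).hom ↔ IsIso U.hom := by
  haveI : IsSeparated G.hom := GrpField.isSeparated_hom G
  constructor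
  · intro hG
    obtain ⟨T, hT, l, B, hB, q, hlm, hlc, htor, hqm, hqs, hqf, hk, hBp, hBs, hBc⟩ := Chev.isSA_of_anti p G hG
    haveI := hlm; haveI := hlc; haveI := hqm; haveI := hBp
    let v : U ⟶ T := hk.lift i _ ((Chev.eq_one_of_affine_of_proper _).trans Hom.one_def)
    have hv : v ≫ l = i := hk.lift_fst _ _ _
    haveI : Mono l := GrpField.SchImg.mono_of_isClosedImmersion l
    haveI : IsMonHom (v ≫ l) := by rw [hv]; infer_instance
    haveI : IsMonHom v := Chev.isMonHom_of_comp v l
    haveI : IsSeparated T.hom := by rw [← Over.w l]; infer_instance
    haveI : IsClosedImmersion v.left := by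
      haveI : IsClosedImmersion (v.left ≫ l.left) := by
        rw [← Over.comp_left, hv]; infer_instance
      exact IsClosedImmersion.of_comp v.left l.left
    exact hU U (𝟙 U) (Chev.isTorus_of_subgroup htor v)
  · intro hiso
    have htriv : ∀ (T : Over (Spec (CommRingCat.of k))) (w : T ⟶ U), w = toUnit T ≫ η[U] := fun T w => by
      haveI : Mono U.hom := inferInstance
      ext1
      rw [← cancel_mono U.hom, Over.w, Over.w]
    haveI : QuasiCompact α.left := by
      haveI : QuasiCompact (α.left ≫ A.hom) := by rw [Over.w]; infer_instance
      exact QuasiCompact.of_comp _ A.hom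
    haveI : IsIso α.left := by
      haveI : Flat (𝟙 G ≫ α).left := by rw [Category.id_comp]; infer_instance
      haveI : Surjective (𝟙 G ≫ α).left := by rw [Category.id_comp]; infer_instance
      haveI : QuasiCompact (𝟙 G ≫ α).left := by rw [Category.id_comp]; infer_instance
      refine GrpField.AffImage.isIso_of_kernel (𝟙 G) α (Scheme.Hom.ker_eq_bot_of_isIso _) fun T z hz => ?_
      rw [Category.id_comp] at hz
      rw [Category.comp_id]
      have e1 := hker.lift_fst z (toUnit T) (hz.trans Hom.one_def)
      exact e1.symm.trans ((congrArg (· ≫ i) (htriv T _)).trans (by rw [Category.assoc, IsMonHom.one_hom, Hom.one_def]))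
    haveI : IsProper G.hom := by rw [← Over.w α]; infer_instance
    haveI : IsReduced G.left := Chev.isReduced_of_smooth' G
    have hs : η[G].left ≫ G.hom = 𝟙 (Spec (CommRingCat.of k)) := Over.w η[G]
    let F := (Scheme.ΓSpecIso (CommRingCat.of k)).inv ≫ G.hom.appTop
    have hr : ∀ a, η[G].left.appTop (G.hom.appTop a) = a := fun a => by
      rw [← CommRingCat.comp_apply, ← Scheme.Hom.comp_appTop, hs]
      rfl
    have hb : Function.Bijective G.hom.appTop := by
      refine ⟨fun a b e => by rw [← hr a, ← hr b, e], fun φ => ⟨η[G].left.appTop φ, ?_⟩⟩
      refine sub_eq_zero.1 (Rigid.eq_zero_of_section_field G.hom η[G].left hs _ ?_)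
      rw [map_sub, hr, sub_self]
    exact hb.comp (ConcreteCategory.bijective_of_isIso (Scheme.ΓSpecIso (CommRingCat.of k)).inv)

end Groth.Agent.S11407
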