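import Groth.Statements.S11410
import Groth.Agent.AdjRep.KerAffine

set_option autoImplicit false
universe u
open CategoryTheory MonoidalCategory CartesianMonoidalCategory MonObj GrpObj AlgebraicGeometry CategoryTheory.Limits
open AlgGrp

namespace Groth.Agent.S11410

/-- Over an algebraically closed field k, let G be an algebraic group (a smooth k-group scheme of finite
type) acting on a variety X (an integral, separated k-scheme of finite type), faithfully in the
sense that every rational point of G acting as the identity of X is the identity element. Then for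
every rational point x of X, the isotropy subgroup scheme of x (a closed subgroup scheme of G whose
points are exactly the points of G fixing x) is affine. -/
theorem result (k : Type u) [Field k] [IsAlgClosed k]
    (G X : Over (Spec (CommRingCat.of k))) [GrpObj G] [Smooth G.hom] [QuasiCompact G.hom]
    [LocallyOfFiniteType X.hom] [QuasiCompact X.hom] [IsSeparated X.hom] [IsIntegral X.left]
    (a : AlgGrp.Action G X)
    (hfaith : ∀ g : 𝟙_ (Over (Spec (CommRingCat.of k))) ⟶ G, lift (toUnit X ≫ g) (𝟙 X) ≫ a.act = 𝟙 X → g = η[G])
    (x : 𝟙_ (Over (Spec (CommRingCat.of k))) ⟶ X) (St : Over (Spec (CommRingCat.of k))) [GrpObj St] (s : St ⟶ G) [IsMonHom s] [IsClosedImmersion s.left]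
    (hs : ∀ (T : Over (Spec (CommRingCat.of k))) (g : T ⟶ G), (∃ t : T ⟶ St, t ≫ s = g) ↔ lift g (toUnit T ≫ x) ≫ a.act = toUnit T ≫ x) :
    IsAffine St.left := by
  haveI : LocallyOfFiniteType G.hom := inferInstance
  haveI : LocallyOfFiniteType St.hom := by rw [← Over.w s]; infer_instance
  haveI : QuasiCompact St.hom := by rw [← Over.w s]; infer_instance
  haveI : IsLocallyNoetherian X.left := LocallyOfFiniteType.isLocallyNoetherian X.hom
  let a' : AlgGrp.Action St X :=
    { act := (s ▷ X) ≫ a.act
      one_act := by
        rw [← comp_whiskerRight_assoc, IsMonHom.one_hom]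
        exact a.one_act
      mul_act := by
        have h1 : (μ[St] ▷ X) ≫ (s ▷ X) ≫ a.act =
            AdjRep.smulPt a ((fst _ X ≫ fst St St ≫ s) * (fst _ X ≫ snd St St ≫ s)) (snd _ X) := by
          rw [← MonObj.comp_mul, AdjRep.smulPt, ← Category.assoc]
          congr 1
          refine CartesianMonoidalCategory.hom_ext _ _ ?_ ?_
          · simp [Hom.mul_def]
          · simp
        rw [h1, AdjRep.mul_smulPt, AdjRep.smulPt, AdjRep.smulPt]
        simp only [← Category.assoc]
        congr 1
        refine CartesianMonoidalCategory.hom_ext _ _ ?_ ?_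
        · simp
        · simp only [Category.assoc, lift_snd, whiskerRight_snd, whiskerLeft_snd, ← comp_lift_assoc]
          simp only [← Category.assoc]
          congr 1
          refine CartesianMonoidalCategory.hom_ext _ _ ?_ ?_ <;> simp }
  have hact : ∀ (T : Over (Spec (CommRingCat.of k))) (g : T ⟶ St) (y : T ⟶ X),
      lift g y ≫ a'.act = lift (g ≫ s) y ≫ a.act := fun T g y => by
    change lift g y ≫ (s ▷ X) ≫ a.act = _
    rw [lift_whiskerRight_assoc]
  have hx : a'.IsFixedPt x := fun T g => by
    rw [hact]
    exact (hs T (g ≫ s)).1 ⟨g, rfl⟩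
  obtain ⟨m, u, hu, hker⟩ := AdjRep.exists_rep_of_fixedPt a' x hx
  let N : Over (Spec (CommRingCat.of k)) := Over.mk ((GrpField.LimImage.kerIdeal u).subschemeι ≫ St.hom)
  let n : N ⟶ St := Over.homMk (GrpField.LimImage.kerIdeal u).subschemeι
  haveI : IsClosedImmersion n.left := inferInstanceAs (IsClosedImmersion (GrpField.LimImage.kerIdeal u).subschemeι)
  haveI : Mono n.left := inferInstance
  haveI : Mono n := Over.mono_of_mono_left n
  haveI : Mono s.left := inferInstance
  haveI : Mono s := Over.mono_of_mono_left s
  have hn : n ≫ u = 1 :=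
    (GrpField.LimImage.eq_one_iff_le u n).2 (le_of_eq (Scheme.IdealSheafData.ker_subschemeι _).symm)
  have hN : ∀ (T : Over (Spec (CommRingCat.of k))) (g : T ⟶ St), (∃ w : T ⟶ N, w ≫ n = g) ↔ g ≫ u = 1 := by
    intro T g
    refine ⟨?_, fun h => ?_⟩
    · rintro ⟨w, rfl⟩
      rw [Category.assoc, hn, MonObj.comp_one]
    · have hle := (GrpField.LimImage.eq_one_iff_le u g).1 h
      let l := IsClosedImmersion.lift (GrpField.LimImage.kerIdeal u).subschemeι g.left
        (by rw [Scheme.IdealSheafData.ker_subschemeι]; exact hle)
      have hl : l ≫ (GrpField.LimImage.kerIdeal u).subschemeι = g.left := IsClosedImmersion.lift_fac _ _ _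
      exact ⟨Over.homMk l (by
        change l ≫ (GrpField.LimImage.kerIdeal u).subschemeι ≫ St.hom = _
        rw [reassoc_of% hl, Over.w]), Over.OverMorphism.ext hl⟩
  haveI : LocallyOfFiniteType N.hom := inferInstanceAs
    (LocallyOfFiniteType ((GrpField.LimImage.kerIdeal u).subschemeι ≫ St.hom))
  have hpt : ∀ z : 𝟙_ (Over (Spec (CommRingCat.of k))) ⟶ N, z ≫ n = η[St] := by
    intro z
    have h1 := (hker _ (z ≫ n)).1 ((hN _ _).1 ⟨z, rfl⟩) X (toUnit X) (𝟙 X)
    rw [hact] at h1
    rw [← cancel_mono s, IsMonHom.one_hom]
    refine hfaith _ ?_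
    simpa only [Category.assoc] using h1
  haveI : JacobsonSpace N.left := LocallyOfFiniteType.jacobsonSpace N.hom
  let e : St.left := η[St].left.base (IsLocalRing.closedPoint k)
  have hcl : closedPoints N.left ⊆ n.left.base ⁻¹' {e} := by
    intro y hy
    have := congrArg (fun q : 𝟙_ (Over (Spec (CommRingCat.of k))) ⟶ St => q.left.base (IsLocalRing.closedPoint k))
      (hpt (Over.homMk (pointOfClosedPoint N.hom y hy) (pointOfClosedPoint_comp N.hom y hy)))
    change n.left.base y = e
    refine Eq.trans ?_ this
    change _ = n.left.base ((pointOfClosedPoint N.hom y hy).base (IsLocalRing.closedPoint k))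
    exact congrArg n.left.base (pointOfClosedPoint_apply N.hom y hy _).symm
  have hinj : Function.Injective n.left.base := n.left.isClosedEmbedding.injective
  haveI hsub : Subsingleton N.left := by
    have hfin : (closedPoints N.left).Subsingleton := (Set.subsingleton_singleton.preimage hinj).anti hcl
    have hclosed : IsClosed (closedPoints N.left) := by
      rcases hfin.eq_empty_or_singleton with h | ⟨y, hy⟩
      · rw [h]; exact isClosed_empty
      · rw [hy]
        exact (Set.ext_iff.1 hy y).2 rfl
    have := closure_closedPoints (X := N.left)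
    rw [hclosed.closure_eq] at this
    exact ⟨fun p q => hfin (this ▸ Set.mem_univ p) (this ▸ Set.mem_univ q)⟩
  exact AdjRep.isAffine_of_affine_kernel St m u N n hN


end Groth.Agent.S11410
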