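import Groth.Statements.S11411
import Groth.Agent.AffHull.Basic
import Groth.Agent.GrpField.QAAffine

set_option autoImplicit false
universe u
open CategoryTheory MonoidalCategory CartesianMonoidalCategory MonObj GrpObj AlgebraicGeometry CategoryTheory.Limits
open AlgGrp

namespace Groth.Agent.S11411

/-- Over an algebraically closed field k, let G be an algebraic group (a smooth k-group scheme of finite
type) and N the kernel of the canonical morphism ρ : G → Spec O(G), i.e. the fibre of ρ over the
image of the unit. Then N is the smallest normal subgroup scheme of G with affine quotient: for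
every closed normal subgroup scheme H of G with a flat surjective homomorphism G → Q of k-group
schemes of finite type with kernel H and Q affine, the inclusion of N factors through H. And N is
the largest anti-affine subgroup scheme: every homomorphism and closed immersion into G from a
k-group scheme whose only global functions are the constants factors through N. (The published
statement also asserts O(N) = k, that N is a connected algebraic group central in G⁰, and O(G/N) =
O(G) finitely generated; those parts are not restated here.) -/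
theorem result (k : Type u) [Field k] [IsAlgClosed k]
    (G : Over (Spec (CommRingCat.of k))) [GrpObj G] [Smooth G.hom] [QuasiCompact G.hom] :
    (∀ (H Q : Over (Spec (CommRingCat.of k))) [GrpObj H] [GrpObj Q] (h : H ⟶ G) [IsMonHom h] [IsClosedImmersion h.left]
        [LocallyOfFiniteType Q.hom] [QuasiCompact Q.hom] (q : G ⟶ Q) [IsMonHom q] [Surjective q.left] [Flat q.left],
        AlgGrp.IsKernel h q → IsAffine Q.left →
        ∃ f : pullback G.left.toSpecΓ (η[G].left ≫ G.left.toSpecΓ) ⟶ H.left, f ≫ h.left = pullback.fst G.left.toSpecΓ (η[G].left ≫ G.left.toSpecΓ)) ∧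
    (∀ (M : Over (Spec (CommRingCat.of k))) [GrpObj M] (j : M ⟶ G) [IsMonHom j] [IsClosedImmersion j.left],
        Function.Bijective ((Scheme.ΓSpecIso (CommRingCat.of k)).inv ≫ M.hom.appTop).hom →
        ∃ f : M.left ⟶ pullback G.left.toSpecΓ (η[G].left ≫ G.left.toSpecΓ), f ≫ pullback.fst G.left.toSpecΓ (η[G].left ≫ G.left.toSpecΓ) = j.left) := by
  haveI : IsSeparated G.hom := Groth.Agent.GrpField.isSeparated_hom G
  haveI : CompactSpace G.left := QuasiCompact.compactSpace_of_compactSpace G.hom
  haveI : QuasiSeparatedSpace G.left := (quasiSeparated_iff_quasiSeparatedSpace G.hom).1 inferInstance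
  let N := pullback G.left.toSpecΓ (η[G].left ≫ G.left.toSpecΓ)
  refine ⟨fun H Q _ _ h _ _ _ _ q _ _ _ hker _ => ?_, fun M _ j _ _ hM => ?_⟩
  · obtain ⟨qb, hqb⟩ := Groth.Agent.AffHull.exists_factor (Groth.Agent.AffHull.toHull G) q
    let N₀ : Over (Spec (CommRingCat.of k)) :=
      Over.mk (pullback.fst G.left.toSpecΓ (η[G].left ≫ G.left.toSpecΓ) ≫ G.hom)
    let m : N₀ ⟶ G := Over.homMk (pullback.fst G.left.toSpecΓ (η[G].left ≫ G.left.toSpecΓ)) rfl
    let t : N₀ ⟶ 𝟙_ (Over (Spec (CommRingCat.of k))) := toUnit N₀
    have hm : m ≫ Groth.Agent.AffHull.toHull G = toUnit N₀ ≫ η[G] ≫ Groth.Agent.AffHull.toHull G := by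
      let t' : N₀ ⟶ 𝟙_ (Over (Spec (CommRingCat.of k))) :=
        Over.homMk (pullback.snd G.left.toSpecΓ (η[G].left ≫ G.left.toSpecΓ)) (by
          change pullback.snd G.left.toSpecΓ (η[G].left ≫ G.left.toSpecΓ) ≫ 𝟙 _ =
            pullback.fst G.left.toSpecΓ (η[G].left ≫ G.left.toSpecΓ) ≫ G.hom
          have h1 := congrArg (· ≫ (Groth.Agent.AffHull.hull G).hom)
            (pullback.condition (f := G.left.toSpecΓ) (g := η[G].left ≫ G.left.toSpecΓ))
          change ((_ ≫ (Groth.Agent.AffHull.toHull G).left) ≫ _) = ((_ ≫ _ ≫ (Groth.Agent.AffHull.toHull G).left) ≫ _) at h1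
          rw [Category.assoc, Category.assoc, Category.assoc, Over.w, Over.w η[G]] at h1
          exact h1.symm)
      rw [toUnit_unique (toUnit N₀) t']
      exact Over.OverMorphism.ext pullback.condition
    have hmq : m ≫ q = toUnit N₀ ≫ η[Q] := by
      rw [← hqb, reassoc_of% hm, hqb, IsMonHom.one_hom]
    exact ⟨(hker.lift m (toUnit N₀) hmq).left, congrArg CommaMorphism.left (hker.lift_fst m (toUnit N₀) hmq)⟩
  · have h := Groth.Agent.AffHull.eq_const_of_affine hM η[M] (j ≫ Groth.Agent.AffHull.toHull G)
    rw [← Category.assoc η[M], IsMonHom.one_hom j] at h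
    exact ⟨pullback.lift j.left (toUnit M).left (congrArg CommaMorphism.left h), pullback.lift_fst _ _ _⟩


end Groth.Agent.S11411
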