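import Groth.Statements.S11413
import Groth.Agent.Chev.FiniteFieldAnti
import Groth.Agent.LimModel.FgSubalgebra
import Groth.Agent.S6085

set_option autoImplicit false
universe u
open CategoryTheory MonoidalCategory CartesianMonoidalCategory MonObj GrpObj AlgebraicGeometry CategoryTheory.Limits
open AlgGrp

namespace Groth.Agent.S11413
open Groth.Agent

/-- Let k be an algebraically closed field of characteristic p > 0 which is algebraic over its prime
field (every element x satisfies x^(p^n) = x for some n ≥ 1), so that k is an algebraic closure of a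
finite field. Over such a field k, anti-affine algebraic groups are abelian varieties: every smooth
k-group scheme of finite type whose only global functions are the constants is proper over k. -/
theorem result (k : Type u) [Field k] [IsAlgClosed k]
    (p : ℕ) [Fact p.Prime] [CharP k p] (halg : ∀ x : k, ∃ n : ℕ, 0 < n ∧ x ^ p ^ n = x)
    (G : Over (Spec (CommRingCat.of k))) [GrpObj G] [Smooth G.hom] [QuasiCompact G.hom]
    (hG : Function.Bijective ((Scheme.ΓSpecIso (CommRingCat.of k)).inv ≫ G.hom.appTop).hom) : IsProper G.hom := by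
  classical
  haveI : IsSeparated G.hom := GrpField.isSeparated_hom G
  haveI : IsLocallyNoetherian (Spec (CommRingCat.of k)) := inferInstance
  haveI : LocallyOfFinitePresentation G.hom := inferInstance
  let D := LimModel.fgDiagram k
  let c := LimModel.fgCone k
  haveI : IsCofiltered (LimModel.FgSub k)ᵒᵖ := isCofiltered_op_of_isFiltered _
  haveI : ∀ i : (LimModel.FgSub k)ᵒᵖ, CompactSpace (D.obj i) := fun i => inferInstanceAs (CompactSpace ((LimModel.fgDiagram k).obj i))
  haveI : ∀ i : (LimModel.FgSub k)ᵒᵖ, QuasiSeparatedSpace (D.obj i) := fun i => inferInstanceAs (QuasiSeparatedSpace ((LimModel.fgDiagram k).obj i))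
  haveI : LocallyOfFinitePresentation (X := G.left) (Y := c.pt) G.hom := ‹LocallyOfFinitePresentation G.hom›
  haveI : QuasiCompact (X := G.left) (Y := c.pt) G.hom := ‹QuasiCompact G.hom›
  haveI : QuasiSeparated (X := G.left) (Y := c.pt) G.hom := inferInstanceAs (QuasiSeparated G.hom)
  haveI : GrpObj (show Over c.pt from G) := inferInstanceAs (GrpObj G)
  obtain ⟨j, Gj, hGj, e, hem, hlfp, hqc, hqs⟩ := S6085.result D c (LimModel.fgIsLimit k) (show Over c.pt from G)
  letI := hGj
  let B := j.unop.1
  haveI : Finite B := by
    obtain ⟨s, hs⟩ := j.unop.2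
    choose n hn0 hn using halg
    let N := ∏ x ∈ s, n x
    have hN : ∀ x ∈ s, x ^ p ^ N = x := by
      intro x hx
      obtain ⟨m, hm⟩ := Finset.dvd_prod_of_mem n hx
      show x ^ p ^ N = x
      rw [show N = n x * m from hm, pow_mul]
      clear hm
      induction m with
      | zero => simp
      | succ m ih => rw [pow_succ, pow_mul, ih, hn]
    haveI : ExpChar k p := ExpChar.prime Fact.out
    let φ : k →ₐ[ℤ] k := (iterateFrobenius k p N).toIntAlgHom
    let E := AlgHom.equalizer φ (AlgHom.id ℤ k)
    have hle : B ≤ E := by
      show (j.unop.1 : Subalgebra ℤ k) ≤ E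
      rw [← hs, Algebra.adjoin_le_iff]
      intro x hx
      show iterateFrobenius k p N x = x
      rw [iterateFrobenius_def]
      exact hN x hx
    have hN0 : 0 < N := Finset.prod_pos fun x _ => hn0 x
    have hpN : 1 < p ^ N := Nat.one_lt_pow hN0.ne' (Fact.out : p.Prime).one_lt
    haveI : Finite E := by
      have hfin : {x : k | (Polynomial.X ^ (p ^ N) - Polynomial.X : Polynomial k).IsRoot x}.Finite :=
        Polynomial.finite_setOf_isRoot (FiniteField.X_pow_card_sub_X_ne_zero k hpN)
      refine Set.Finite.to_subtype (hfin.subset fun x hx => ?_)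
      have hx' : x ^ p ^ N = x := by
        have h0 : iterateFrobenius k p N x = x := hx
        rwa [iterateFrobenius_def] at h0
      simp [hx']
    exact Finite.of_injective _ (Subalgebra.inclusion_injective hle)
  letI : Field B := (Finite.isField_of_domain B).toField
  let Gb : Over (Spec (CommRingCat.of B)) := Gj
  letI : GrpObj Gb := hGj
  haveI : LocallyOfFiniteType Gb.hom := by
    haveI : LocallyOfFinitePresentation Gb.hom := hlfp
    infer_instance
  haveI : QuasiCompact Gb.hom := hqc
  letI : Algebra B k := (algebraMap B k).toAlgebra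
  let w := Spec.map (CommRingCat.ofHom (algebraMap B k))
  let e' : G ⟶ Red.bc w Gb := e.hom
  haveI : IsIso e' := inferInstanceAs (IsIso e.hom)
  haveI : IsIso e'.left := inferInstanceAs (IsIso ((Over.forget _).map e'))
  have hb : Function.Bijective ((Scheme.ΓSpecIso (CommRingCat.of k)).inv ≫ (Red.bc w Gb).hom.appTop).hom := by
    have h1 : (Scheme.ΓSpecIso (CommRingCat.of k)).inv ≫ G.hom.appTop =
        ((Scheme.ΓSpecIso (CommRingCat.of k)).inv ≫ (Red.bc w Gb).hom.appTop) ≫ e'.left.appTop := by
      rw [Category.assoc, ← Scheme.Hom.comp_appTop, Over.w e']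
    rw [h1, CommRingCat.hom_comp, RingHom.coe_comp] at hG
    haveI : IsIso e'.left.appTop := inferInstanceAs (IsIso (Scheme.Γ.map e'.left.op))
    exact (Function.Bijective.of_comp_iff' (ConcreteCategory.bijective_of_isIso e'.left.appTop) _).1 hG
  haveI : IsProper Gb.hom := Chev.isProper_of_anti_finite B Gb ((S19702.result B k Gb).2 hb)
  haveI : IsProper (Red.bc w Gb).hom := inferInstanceAs (IsProper (pullback.snd Gb.hom w))
  rw [← Over.w e']
  infer_instance


end Groth.Agent.S11413
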