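import Groth.Statements.S11414
import Groth.Agent.HomogProp.Main
-- import your own Groth.Agent.* helpers here

set_option backward.isDefEq.respectTransparency false
set_option linter.style.haveILetI false
set_option synthInstance.maxHeartbeats 400000
set_option maxHeartbeats 1000000

set_option autoImplicit false
universe u
open CategoryTheory MonoidalCategory CartesianMonoidalCategory MonObj GrpObj AlgebraicGeometry CategoryTheory.Limits
open AlgGrp

namespace Groth.Agent.S11414

/-- Over an algebraically closed field k, let G be a connected algebraic group (smooth k-group scheme of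
finite type), let i : N → G be its largest connected affine normal algebraic subgroup G_aff (a
homomorphism and closed immersion from a smooth, connected, affine k-group scheme, normal in G,
through which every other such subgroup factors), let H be a closed subgroup scheme of G and X = G/H
a quotient (a k-scheme with a G-action and a rational point o whose orbit map is flat and surjective
and identifies G × H with G ×_X G). Then X is proper over k exactly when some Borel subgroup of
G_aff lies in H (factors through H). (The published statement adds, for such a Borel subgroup B, an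
isomorphism of G/B with the product of G/G_aff and G_aff/B; it is not stated here.) -/
theorem result (k : Type u) [Field k] [IsAlgClosed k]
    (G : Over (Spec (CommRingCat.of k))) [GrpObj G] [Smooth G.hom] [QuasiCompact G.hom] [ConnectedSpace ↥G.left]
    (N : Over (Spec (CommRingCat.of k))) [GrpObj N] (i : N ⟶ G) [IsMonHom i] [IsClosedImmersion i.left]
    [Smooth N.hom] [ConnectedSpace ↥N.left] [IsAffine N.left] (hN : AlgGrp.IsNormalHom i)
    (hNmax : ∀ (N' : Over (Spec (CommRingCat.of k))) [GrpObj N'] (i' : N' ⟶ G) [IsMonHom i'] [IsClosedImmersion i'.left]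
      [Smooth N'.hom] [ConnectedSpace ↥N'.left] [IsAffine N'.left], AlgGrp.IsNormalHom i' → ∃ f : N' ⟶ N, f ≫ i = i')
    (H : Over (Spec (CommRingCat.of k))) [GrpObj H] (h : H ⟶ G) [IsMonHom h] [IsClosedImmersion h.left]
    (X : Over (Spec (CommRingCat.of k))) (a : AlgGrp.Action G X) (o : 𝟙_ (Over (Spec (CommRingCat.of k))) ⟶ X) (hX : AGF.IsQuotient h X a o) :
    IsProper X.hom ↔ ∃ (B : Over (Spec (CommRingCat.of k))) (_ : GrpObj B) (b : B ⟶ N) (f : B ⟶ H),
      Red.IsBorelOver k b ∧ f ≫ h = b ≫ i := by
  obtain ⟨hlft, hflat, hsurj, hpb⟩ := id hX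
  haveI := hlft; haveI := hflat; haveI := hsurj
  haveI : LocallyOfFiniteType G.hom := inferInstance
  haveI : Nonempty G.left := inferInstance
  haveI : Mono i := Groth.Agent.GrpField.SchImg.mono_of_isClosedImmersion i
  haveI : QuasiCompact N.hom := by rw [← Over.w i]; infer_instance
  constructor
  · intro hp
    haveI := hp
    obtain ⟨B₀, hB₀g, b₀, hb₀, -⟩ := Groth.Agent.Chev.Borel.exists_borel_proper N
    obtain ⟨hbm, hbc, hbs, hbconn, hbsol, hbmax⟩ := id hb₀
    haveI := hbm; haveI := hbc; haveI := hbs; haveI := hbconn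
    haveI : IsAffine B₀.left := isAffine_of_isAffineHom b₀.left
    haveI : QuasiCompact B₀.hom := by rw [← Over.w b₀]; infer_instance
    haveI := Groth.Agent.Chev.Borel.isSolvable_rp hbsol
    obtain ⟨g, f, hf⟩ := Groth.Agent.Chev.Borel.exists_conj_le h a o hX (b₀ ≫ i)
    have hconj : ∀ x : 𝟙_ (Over (Spec (CommRingCat.of k))) ⟶ G, ∃ φ : N ⟶ N, φ ≫ i = AGF.conjBy x i := fun x => by
      obtain ⟨n', hn'⟩ := hN N (toUnit N ≫ x) (𝟙 N)
      exact ⟨n', by rw [← hn', Category.id_comp]⟩
    obtain ⟨φ, hφ⟩ := hconj g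
    obtain ⟨φ', hφ'⟩ := hconj g⁻¹
    have h1 : φ ≫ φ' = 𝟙 N := by
      rw [← cancel_mono i, Category.assoc, hφ', Groth.Agent.Chev.Borel.comp_conjBy', hφ,
        Groth.Agent.Chev.Borel.conjBy_conjBy, inv_mul_cancel, Groth.Agent.Chev.Borel.conjBy_one, Category.id_comp]
    have h2 : φ' ≫ φ = 𝟙 N := by
      rw [← cancel_mono i, Category.assoc, hφ, Groth.Agent.Chev.Borel.comp_conjBy', hφ',
        Groth.Agent.Chev.Borel.conjBy_conjBy, mul_inv_cancel, Groth.Agent.Chev.Borel.conjBy_one, Category.id_comp]
    haveI : IsMonHom (φ ≫ i) := by rw [hφ]; exact Groth.Agent.Chev.Borel.isMonHom_conjBy g i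
    haveI : IsMonHom (φ' ≫ i) := by rw [hφ']; exact Groth.Agent.Chev.Borel.isMonHom_conjBy g⁻¹ i
    haveI : IsMonHom φ := Groth.Agent.Chev.isMonHom_of_comp φ i
    haveI : IsMonHom φ' := Groth.Agent.Chev.isMonHom_of_comp φ' i
    haveI : IsIso φ.left := ((Over.forget _).mapIso (⟨φ, φ', h1, h2⟩ : N ≅ N)).isIso_hom
    haveI : IsIso φ'.left := ((Over.forget _).mapIso (⟨φ, φ', h1, h2⟩ : N ≅ N)).isIso_inv
    refine ⟨B₀, hB₀g, b₀ ≫ φ, f, ⟨inferInstance, ?_, hbs, hbconn, hbsol, ?_⟩, ?_⟩
    · rw [Over.comp_left]; infer_instance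
    · intro B' _ i' _ r hi' hs' hc' hsol' hr
      haveI := hi'
      exact hbmax B' (i' ≫ φ') r (by rw [Over.comp_left]; infer_instance) hs' hc' hsol'
        (by rw [reassoc_of% hr, h1, Category.comp_id])
    · rw [hf, Category.assoc, hφ, Groth.Agent.Chev.Borel.comp_conjBy']
  · rintro ⟨B, hBg, b, f, hb, hf⟩
    obtain ⟨hbm, hbc, hbs, hbconn, hbsol, -⟩ := id hb
    haveI := hbm; haveI := hbc; haveI := hbs
    haveI : Mono b := Groth.Agent.GrpField.SchImg.mono_of_isClosedImmersion b
    haveI : QuasiCompact B.hom := by rw [← Over.w b]; infer_instance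
    obtain ⟨L, hL, l, A, hA, α, hlm, hlc, hla, hls, hlcon, hln, hαm, hαs, hαf, hker, hAp, -, -⟩ :=
      Groth.Agent.Chev.exists_structure G
    haveI := hlm; haveI := hlc; haveI := hla; haveI := hls; haveI := hlcon; haveI := hαm; haveI := hαs
    haveI := hαf; haveI := hAp
    haveI : Mono l := Groth.Agent.GrpField.SchImg.mono_of_isClosedImmersion l
    obtain ⟨u, hu⟩ := hNmax L l hln
    obtain ⟨w, hw⟩ := Groth.Agent.Chev.exists_factor_affPart hker i
    have huw : u ≫ w = 𝟙 L := by rw [← cancel_mono l, Category.assoc, hw, hu, Category.id_comp]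
    have hwu : w ≫ u = 𝟙 N := by rw [← cancel_mono i, Category.assoc, hu, hw, Category.id_comp]
    have hker' : AlgGrp.IsKernel i α :=
      IsPullback.of_iso hker ⟨u, w, huw, hwu⟩ (Iso.refl _) (Iso.refl _) (Iso.refl _)
        (by simpa using hu.symm) (toUnit_unique _ _) (by simp) (by simp)
    obtain ⟨Y, aY, oY, hYl, hYq, hYf, hYs, hYp⟩ := Groth.Agent.S3279.result k N B b
    have hY : AGF.IsQuotient b Y aY oY := ⟨hYl, hYf, hYs, hYp⟩
    haveI := hYl; haveI := hYq; haveI := hYs
    haveI : IsProper Y.hom := Groth.Agent.Chev.Borel.isProper_quotient_borel b hb aY oY hY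
    haveI : CompactSpace G.left := (quasiCompact_iff_compactSpace G.hom).1 inferInstance
    haveI : CompactSpace X.left := ⟨by
      rw [← Set.range_eq_univ.2 (a.orbitMap o).left.surjective]
      exact isCompact_range (a.orbitMap o).left.continuous⟩
    haveI : QuasiCompact X.hom := quasiCompact_iff_compactSpace X.hom |>.2 inferInstance
    obtain ⟨v, ⟨-, hv⟩, -⟩ := Groth.Agent.S8014.result k N B b Y aY oY hY X
      (Groth.Agent.Chev.BorelFixed.resAction i a) o (fun T t => by
        rw [Groth.Agent.Chev.Borel.resAction_smul, Category.assoc, ← hf, ← Category.assoc]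
        exact (Groth.Agent.GrpAct.mem_iff h a o hpb _).1 ⟨t ≫ f, rfl⟩)
    rw [Groth.Agent.Chev.Borel.resAction_orbitMap] at hv
    haveI : IsSeparated X.hom := Groth.Agent.Chev.Borel.isSeparated_quot a o hX
    haveI := Groth.Agent.HomogProp.universallyClosed_of_factor i α hker' (aY.orbitMap oY) a o v hv
    exact { }

end Groth.Agent.S11414
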