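import Groth.Statements.S11415
import Groth.Agent.TorusStab.Main

set_option autoImplicit false
set_option backward.isDefEq.respectTransparency false
set_option linter.style.haveILetI false
set_option maxHeartbeats 800000
set_option synthInstance.maxHeartbeats 400000
universe u
open CategoryTheory MonoidalCategory CartesianMonoidalCategory MonObj GrpObj AlgebraicGeometry CategoryTheory.Limits
open AlgGrp

namespace Groth.Agent.S11415

/-- Over an algebraically closed field k, let T be a torus (a k-group scheme isomorphic to the
diagonalizable group of ℤ^r for some r) acting on a variety X (an integral, separated k-scheme of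
finite type), faithfully in the scheme-theoretic sense: every point of T with values in a k-scheme S
which acts as the identity on X × S is the identity. Then there is a dense open subset U of X such
that for every rational point x of X in U the isotropy subgroup scheme of x is trivial: every
S-valued point of T fixing x is the identity. -/
theorem result (k : Type u) [Field k] [IsAlgClosed k]
    (T X : Over (Spec (CommRingCat.of k))) [GrpObj T] (r : ℕ) (hT : Red.IsSplitTorusWith (Fin r → ℤ) T)
    [LocallyOfFiniteType X.hom] [QuasiCompact X.hom] [IsSeparated X.hom] [IsIntegral X.left]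
    (a : AlgGrp.Action T X)
    (hfaith : ∀ (S : Over (Spec (CommRingCat.of k))) (g : S ⟶ T),
      (∀ (S' : Over (Spec (CommRingCat.of k))) (s : S' ⟶ S) (x : S' ⟶ X), lift (s ≫ g) x ≫ a.act = x) → g = 1) :
    ∃ U : X.left.Opens, Dense (U : Set ↥X.left) ∧
      ∀ x : 𝟙_ (Over (Spec (CommRingCat.of k))) ⟶ X, x.left (IsLocalRing.closedPoint k) ∈ U →
        ∀ (S : Over (Spec (CommRingCat.of k))) (g : S ⟶ T), lift g (toUnit S ≫ x) ≫ a.act = toUnit S ≫ x → g = 1 := by
  obtain ⟨e⟩ := hT
  let i : Red.DS (Spec (CommRingCat.of k)) (Fin r → ℤ) ⟶ T := e.inv.hom.hom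
  let j : T ⟶ Red.DS (Spec (CommRingCat.of k)) (Fin r → ℤ) := e.hom.hom.hom
  haveI : IsMonHom i := e.inv.hom.isMonHom_hom
  haveI : IsMonHom j := e.hom.hom.isMonHom_hom
  have hij : i ≫ j = 𝟙 _ := congrArg (fun f => f.hom.hom) e.inv_hom_id
  have hji : j ≫ i = 𝟙 _ := congrArg (fun f => f.hom.hom) e.hom_inv_id
  obtain ⟨b, hb⟩ := Groth.Agent.TorusStab.exists_transfer i a
  obtain ⟨U, hU, hU'⟩ := Groth.Agent.TorusStab.exists_open b fun S g h =>
    Groth.Agent.TorusStab.eq_one_of_comp i j hij g <| hfaith S (g ≫ i) fun S' s x => by
      have := h S' s x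
      rwa [hb, Category.assoc] at this
  refine ⟨U, hU, fun x hx S g hg => Groth.Agent.TorusStab.eq_one_of_comp j i hji g ?_⟩
  exact hU' x hx S (g ≫ j) (by rwa [hb, Category.assoc, hji, Category.comp_id])

end Groth.Agent.S11415
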