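import Groth.Statements.S11418
import Groth.Agent.Assoc.Bundle

set_option autoImplicit false
set_option backward.isDefEq.respectTransparency false
universe u
open CategoryTheory MonoidalCategory CartesianMonoidalCategory MonObj GrpObj AlgebraicGeometry CategoryTheory.Limits
open AlgGrp

namespace Groth.Agent.S11418

/-- Over an algebraically closed field k, let G be an affine algebraic group (smooth affine k-group
scheme of finite type) and π : X → Y a principal G-bundle of k-schemes of finite type: G acts on X,
π is G-invariant, faithfully flat, and the square formed by the action, the second projection G × X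
→ X and π is cartesian. Then the map θ sending a G-equivariant morphism f : X → G (for the
conjugation action on G, i.e. f(g·x) = g f(x) g⁻¹ on points) to the automorphism x ↦ f(x)·x is a
bijection onto the bundle automorphisms: every G-equivariant automorphism φ of X with π ∘ φ = π
equals θ(f) for exactly one such f. -/
theorem result (k : Type u) [Field k] [IsAlgClosed k]
    (G X Y : Over (Spec (CommRingCat.of k))) [GrpObj G] [Smooth G.hom] [QuasiCompact G.hom] [IsAffine G.left]
    [LocallyOfFiniteType X.hom] [QuasiCompact X.hom] [LocallyOfFiniteType Y.hom] [QuasiCompact Y.hom]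
    (a : AlgGrp.Action G X) (π : X ⟶ Y) (hinv : a.act ≫ π = snd G X ≫ π) [Flat π.left] [Surjective π.left]
    (hcart : IsPullback (snd G X) a.act π π)
    (φ : X ≅ X) (hφ : φ.hom ≫ π = π) (hφeq : (G ◁ φ.hom) ≫ a.act = a.act ≫ φ.hom) :
    ∃! f : X ⟶ G, (∀ (S : Over (Spec (CommRingCat.of k))) (g : S ⟶ G) (x : S ⟶ X),
        lift g x ≫ a.act ≫ f = g * (x ≫ f) * g⁻¹) ∧ φ.hom = lift f (𝟙 X) ≫ a.act := by
  have hsq := (hcart.flip).map (Over.forget _)
  let f : X ⟶ G := Groth.Agent.Assoc.div a π hsq φ.hom (𝟙 X) (by rw [hφ, Category.id_comp])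
  have hf : lift f (𝟙 X) ≫ a.act = φ.hom := Groth.Agent.Assoc.div_spec a π hsq _ _ _
  have hpt : ∀ {S : Over (Spec (CommRingCat.of k))} (x : S ⟶ X),
      lift (x ≫ f) x ≫ a.act = x ≫ φ.hom := fun x => by
    rw [← hf, ← Category.assoc, comp_lift, Category.comp_id]
  refine ⟨f, ⟨fun S g x => ?_, hf.symm⟩, fun f' hf' => ?_⟩
  · rw [← Category.assoc]
    refine Groth.Agent.Assoc.div_unique a π hsq (lift g x ≫ a.act) _ _ ?_
    rw [hpt, Category.assoc, ← hφeq, lift_whiskerLeft_assoc, ← hpt, ← Groth.Agent.GrpAct.mul_smul,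
      ← Groth.Agent.GrpAct.mul_smul, inv_mul_cancel_right]
  · exact Groth.Agent.Assoc.div_unique a π hsq (𝟙 X) _ _ (hf'.2.symm.trans hf.symm)

end Groth.Agent.S11418
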