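import Groth.Statements.S11419
import Groth.Agent.Chev.NonAffBorel
import Groth.Agent.Chev.BorelKernel
import Groth.Agent.Chev.Complement
import Groth.Agent.MonoFactor.Points
import Groth.Agent.S11399
import Groth.Agent.S11403
import Groth.Agent.S7996
-- import your own Groth.Agent.* helpers here

set_option backward.isDefEq.respectTransparency false
set_option linter.style.haveILetI false
set_option synthInstance.maxHeartbeats 400000
set_option maxHeartbeats 1000000

set_option autoImplicit false
universe u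
open CategoryTheory MonoidalCategory CartesianMonoidalCategory MonObj GrpObj AlgebraicGeometry CategoryTheory.Limits
open AlgGrp

namespace Groth.Agent.S11419

/-- Over an algebraically closed field k, let G be a connected algebraic group (smooth k-group scheme of
finite type), let i : N → G be its largest connected affine normal algebraic subgroup G_aff (a
homomorphism and closed immersion from a smooth, connected, affine k-group scheme, normal in G,
through which every other such subgroup factors), let j : M → G be its largest anti-affine subgroup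
scheme G_ant (a homomorphism and closed immersion from a k-group scheme M whose only global
functions are the constants, through which every other such subgroup scheme factors), and let h : H
→ G be a maximal connected solvable algebraic subgroup (maximal among smooth, connected, solvable
closed subgroup schemes). Then H contains G_ant; there is a Borel subgroup B of G_aff contained in H
with H = B · G_ant (the multiplication B × G_ant → H is surjective); and every other maximal
connected solvable algebraic subgroup of G is conjugate to H by a rational point of G. (The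
published statement also identifies B with the scheme-theoretic intersection of G_aff and H, says H
is its own set-theoretic normalizer, and gives G/H ≅ G_aff/B; those clauses are not stated here.) -/
theorem result (k : Type u) [Field k] [IsAlgClosed k]
    (G : Over (Spec (CommRingCat.of k))) [GrpObj G] [Smooth G.hom] [QuasiCompact G.hom] [ConnectedSpace ↥G.left]
    (N : Over (Spec (CommRingCat.of k))) [GrpObj N] (i : N ⟶ G) [IsMonHom i] [IsClosedImmersion i.left]
    [Smooth N.hom] [ConnectedSpace ↥N.left] [IsAffine N.left] (hN : AlgGrp.IsNormalHom i)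
    (hNmax : ∀ (N' : Over (Spec (CommRingCat.of k))) [GrpObj N'] (i' : N' ⟶ G) [IsMonHom i'] [IsClosedImmersion i'.left]
      [Smooth N'.hom] [ConnectedSpace ↥N'.left] [IsAffine N'.left], AlgGrp.IsNormalHom i' → ∃ f : N' ⟶ N, f ≫ i = i')
    (M : Over (Spec (CommRingCat.of k))) [GrpObj M] (j : M ⟶ G) [IsMonHom j] [IsClosedImmersion j.left]
    (hM : Function.Bijective ((Scheme.ΓSpecIso (CommRingCat.of k)).inv ≫ M.hom.appTop).hom)
    (hMmax : ∀ (M' : Over (Spec (CommRingCat.of k))) [GrpObj M'] (j' : M' ⟶ G) [IsMonHom j'] [IsClosedImmersion j'.left],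
      Function.Bijective ((Scheme.ΓSpecIso (CommRingCat.of k)).inv ≫ M'.hom.appTop).hom → ∃ f : M' ⟶ M, f ≫ j = j')
    (H : Over (Spec (CommRingCat.of k))) [GrpObj H] (h : H ⟶ G) (hH : Red.IsBorelOver k h) :
    (∃ f : M ⟶ H, f ≫ h = j) ∧
    (∃ (B : Over (Spec (CommRingCat.of k))) (_ : GrpObj B) (b : B ⟶ N) (f : B ⟶ H), Red.IsBorelOver k b ∧ f ≫ h = b ≫ i ∧
        ∀ f' : M ⟶ H, f' ≫ h = j → Surjective ((f ⊗ₘ f') ≫ μ[H]).left) ∧
    (∀ (H' : Over (Spec (CommRingCat.of k))) [GrpObj H'] (h' : H' ⟶ G), Red.IsBorelOver k h' →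
        ∃ (g : 𝟙_ (Over (Spec (CommRingCat.of k))) ⟶ G) (e : H' ≅ H), e.hom ≫ h = AGF.conjBy g h') := by
  obtain ⟨hhm, hhc, hhs, hhconn, hhsol, hhmax⟩ := id hH
  haveI := hhm; haveI := hhc; haveI := hhs; haveI := hhconn
  haveI : Mono h := Groth.Agent.GrpField.SchImg.mono_of_isClosedImmersion h
  haveI : Mono i := Groth.Agent.GrpField.SchImg.mono_of_isClosedImmersion i
  haveI : Mono j := Groth.Agent.GrpField.SchImg.mono_of_isClosedImmersion j
  haveI : QuasiCompact H.hom := by rw [← Over.w h]; infer_instance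
  haveI : LocallyOfFiniteType M.hom := by rw [← Over.w j]; infer_instance
  haveI : QuasiCompact M.hom := by rw [← Over.w j]; infer_instance
  have hcentM : ∀ (X' : Over (Spec (CommRingCat.of k))) (x : X' ⟶ M) (g : X' ⟶ G), (x ≫ j) * g = g * (x ≫ j) := fun X' x g => by
    have := Groth.Agent.S7996.result k M G hM j X' x X' (𝟙 X') g
    rwa [Category.id_comp] at this
  obtain ⟨fM, hfM⟩ := Groth.Agent.Chev.Borel.central_factor_borel h hH j hcentM
  refine ⟨⟨fM, hfM⟩, ?_, fun H' _ h' hH' => ?_⟩
  swap
  · obtain ⟨g, e, he⟩ := Groth.Agent.Chev.Borel.borel_conj_nonaff h' h hH' hH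
    exact ⟨g, e, he⟩
  obtain ⟨L, D, Q, hL, hD, hQ, l, d, q, R⟩ := Groth.Agent.Chev.Borel.exists_affReduction G
  haveI := R.l_hom; haveI := R.l_closed; haveI := R.l_affine; haveI := R.l_smooth; haveI := R.l_connected
  haveI : Mono l := Groth.Agent.GrpField.SchImg.mono_of_isClosedImmersion l
  haveI : QuasiCompact L.hom := by rw [← Over.w l]; infer_instance
  obtain ⟨w, hw⟩ := R.factor N i
  obtain ⟨u, hu⟩ := Groth.Agent.S11399.result k G N i hN hNmax L l
  have huw : u ≫ w = 𝟙 L := by rw [← cancel_mono l, Category.assoc, hw, hu, Category.id_comp]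
  have hwu : w ≫ u = 𝟙 N := by rw [← cancel_mono i, Category.assoc, hu, hw, Category.id_comp]
  haveI : IsMonHom (u ≫ i) := by rw [hu]; infer_instance
  haveI : IsMonHom (w ≫ l) := by rw [hw]; infer_instance
  haveI : IsMonHom u := Groth.Agent.Chev.isMonHom_of_comp u i
  haveI : IsMonHom w := Groth.Agent.Chev.isMonHom_of_comp w l
  haveI : IsIso u.left := ((Over.forget _).mapIso (⟨u, w, huw, hwu⟩ : L ≅ N)).isIso_hom
  haveI : IsIso w.left := ((Over.forget _).mapIso (⟨u, w, huw, hwu⟩ : L ≅ N)).isIso_inv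
  obtain ⟨B₀, hB₀g, i₀, hB₀, hrp⟩ := Groth.Agent.Chev.Borel.exists_borel_form R h hH
  obtain ⟨h0m, h0c, h0s, h0conn, h0sol, h0max⟩ := id hB₀
  haveI := h0m; haveI := h0c; haveI := h0s; haveI := h0conn
  haveI : QuasiCompact B₀.hom := by rw [← Over.w i₀]; infer_instance
  haveI : IsReduced B₀.left := Groth.Agent.SmoothRed.isReduced_of_smooth_scheme B₀.hom
  haveI := R.d_hom
  obtain ⟨f, hf⟩ := Groth.Agent.Chev.BorelFixed.exists_lift_rp (i₀ ≫ l) h fun a => by
    obtain ⟨x, hx⟩ := (hrp (a ≫ i₀ ≫ l)).2 ⟨a, 1, by rw [MonObj.one_comp, _root_.mul_one]⟩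
    exact ⟨Groth.Agent.SubGen.rpt x, by rw [Groth.Agent.SubGen.map_rpt, hx]⟩
  refine ⟨B₀, hB₀g, i₀ ≫ u, f, ⟨inferInstance, ?_, h0s, h0conn, h0sol, ?_⟩, ?_, ?_⟩
  · rw [Over.comp_left]; infer_instance
  · intro B' _ i' _ r hi' hs' hc' hsol' hr
    haveI := hi'
    exact h0max B' (i' ≫ w) r (by rw [Over.comp_left]; infer_instance) hs' hc' hsol'
      (by rw [reassoc_of% hr, huw, Category.comp_id])
  · rw [hf, Category.assoc, hu]
  intro f' hf'
  haveI : LocallyOfFiniteType (B₀ ⊗ M).hom :=
    inferInstanceAs (LocallyOfFiniteType (Limits.pullback.fst B₀.hom M.hom ≫ B₀.hom))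
  haveI : QuasiCompact (B₀ ⊗ M).hom :=
    inferInstanceAs (QuasiCompact (Limits.pullback.fst B₀.hom M.hom ≫ B₀.hom))
  haveI : LocallyOfFiniteType (N ⊗ M).hom :=
    inferInstanceAs (LocallyOfFiniteType (Limits.pullback.fst N.hom M.hom ≫ N.hom))
  set μf : B₀ ⊗ M ⟶ H := (f ⊗ₘ f') ≫ μ[H] with hμf
  haveI : LocallyOfFiniteType μf.left := by
    haveI : LocallyOfFiniteType (μf.left ≫ H.hom) := by rw [Over.w]; infer_instance
    exact locallyOfFiniteType_of_comp μf.left H.hom
  haveI : QuasiCompact μf.left := by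
    haveI : IsSeparated H.hom := Groth.Agent.GrpField.isSeparated_hom H
    haveI : QuasiCompact (μf.left ≫ H.hom) := by rw [Over.w]; infer_instance
    exact QuasiCompact.of_comp _ H.hom
  haveI : IsLocallyNoetherian H.left := LocallyOfFiniteType.isLocallyNoetherian H.hom
  haveI : LocallyOfFinitePresentation μf.left :=
    LocallyOfFinitePresentation.iff_locallyOfFiniteType.2 ‹_›
  haveI : JacobsonSpace H.left := LocallyOfFiniteType.jacobsonSpace H.hom
  haveI : CompactSpace H.left := (quasiCompact_iff_compactSpace H.hom).1 inferInstance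
  haveI : QuasiSeparatedSpace H.left := inferInstance
  refine Groth.Agent.MonoFactor.surjective_of_closedPoints μf.left fun y hy => ?_
  obtain ⟨x, rfl⟩ := Groth.Agent.SubGen.exists_rpt hy
  haveI hsur := (Groth.Agent.S11403.result k G N i hN hNmax M j hM hMmax).1
  obtain ⟨v, hv⟩ := Groth.Agent.Chev.Borel.exists_rp_preimage ((i ⊗ₘ j) ≫ μ[G]) (x ≫ h)
  rw [Groth.Agent.Chev.comp_tensor_mul] at hv
  obtain ⟨a, z, haz⟩ := (hrp ((v ≫ fst N M) ≫ i)).1 ⟨x * ((v ≫ snd N M) ≫ fM)⁻¹, by
    rw [MonObj.mul_comp, GrpObj.inv_comp, Category.assoc _ fM, hfM, ← hv]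
    simp only [Category.assoc, _root_.mul_inv_cancel_right]⟩
  obtain ⟨b₁, hb₁⟩ := Groth.Agent.Chev.Borel.central_mem_borel i₀ hB₀ ((a ≫ i₀)⁻¹ * ((v ≫ fst N M) ≫ w)) fun g => by
    rw [← cancel_mono l]
    simp only [MonObj.mul_comp, GrpObj.inv_comp]
    rw [Category.assoc _ w, hw, ← haz, Category.assoc a, inv_mul_cancel_left]
    exact (R.central _ z (g ≫ l)).symm
  have hn : (v ≫ fst N M) ≫ i = (a * b₁) ≫ i₀ ≫ l := by
    rw [← Category.assoc (a * b₁), MonObj.mul_comp, hb₁, mul_inv_cancel_left, Category.assoc _ w, hw]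
  refine ⟨Groth.Agent.SubGen.rpt (lift (a * b₁) (v ≫ snd N M)), ?_⟩
  rw [Groth.Agent.SubGen.map_rpt]
  refine congrArg Groth.Agent.SubGen.rpt ?_
  rw [← cancel_mono h, hμf, Groth.Agent.Chev.comp_tensor_mul, lift_fst, lift_snd, MonObj.mul_comp, Category.assoc,
    Category.assoc, hf, hf', ← hn, ← hv]

end Groth.Agent.S11419
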