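import Groth.Statements.S11420
import Groth.Agent.Blanchard.Main
import Groth.Agent.PerfPush.H0

set_option autoImplicit false
set_option backward.isDefEq.respectTransparency false
universe u
open CategoryTheory MonoidalCategory CartesianMonoidalCategory MonObj GrpObj AlgebraicGeometry CategoryTheory.Limits
open AlgGrp

namespace Groth.Agent.S11420

open CategoryTheory.Limits in
theorem isIso_app_of_fields {k : Type u} [Field k] [IsAlgClosed k] {X Y : Over (Spec (CommRingCat.of k))}
    [IsProper Y.hom] [IsIntegral Y.left] [LocallyOfFiniteType X.hom] :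
    (∀ U, IsIso ((fst X Y).left.app U)) ∧ (∀ U, IsIso ((snd Y X).left.app U)) := by
  have h0 : ∀ U, IsIso (Y.hom.app U) := by
    have htop : IsIso Y.hom.appTop := (ConcreteCategory.isIso_iff_bijective _).mpr
      (Groth.Agent.PerfPush.bijective_appTop_of_algClosed Y.hom)
    intro U
    rcases U.1.eq_empty_or_nonempty with hU | hU
    · obtain rfl : U = ⊥ := TopologicalSpace.Opens.ext hU
      exact (ConcreteCategory.isIso_iff_bijective _).mpr
        ⟨fun _ _ _ => Subsingleton.elim _ _, fun b => ⟨0, Subsingleton.elim (α := Γ(Y.left, ⊥)) _ _⟩⟩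
    · obtain rfl : U = ⊤ := eq_top_iff.mpr fun w _ => by
        obtain ⟨v, hv⟩ := hU
        have : Subsingleton (Spec (CommRingCat.of k)) := inferInstanceAs (Subsingleton (PrimeSpectrum k))
        exact Subsingleton.elim v w ▸ hv
      exact htop
  exact ⟨Groth.Agent.Blanchard.isIso_app_of_flat_baseChange Y.hom h0 _ _ X.hom
      (IsPullback.of_hasPullback X.hom Y.hom).flip,
    Groth.Agent.Blanchard.isIso_app_of_flat_baseChange Y.hom h0 _ _ X.hom (IsPullback.of_hasPullback Y.hom X.hom)⟩

/-- Over an algebraically closed field k, let X and Y be complete varieties (proper, integral, separated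
k-schemes of finite type) and let a connected k-group scheme of finite type G act on X × Y. Then
there are unique actions of G on X and on Y such that the given action is the product action g·(x,
y) = (g·x, g·y). (This is the form, for actions of connected group schemes, of the identification of
the neutral component of the automorphism group scheme of X × Y with the product of those of X and
Y; the representability of these group schemes is not asserted here.) -/
theorem result (k : Type u) [Field k] [IsAlgClosed k]
    (G X Y : Over (Spec (CommRingCat.of k))) [GrpObj G] [LocallyOfFiniteType G.hom] [QuasiCompact G.hom] [ConnectedSpace ↥G.left]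
    [IsProper X.hom] [IsIntegral X.left]
    [IsProper Y.hom] [IsIntegral Y.left]
    (a : AlgGrp.Action G (X ⊗ Y)) :
    ∃ (b : AlgGrp.Action G X) (c : AlgGrp.Action G Y),
      a.act = lift ((G ◁ fst X Y) ≫ b.act) ((G ◁ snd X Y) ≫ c.act) ∧
      ∀ (b' : AlgGrp.Action G X) (c' : AlgGrp.Action G Y),
        a.act = lift ((G ◁ fst X Y) ≫ b'.act) ((G ◁ snd X Y) ≫ c'.act) → b' = b ∧ c' = c := by
  have : IsProper (fst X Y).left := inferInstanceAs (IsProper (Limits.pullback.fst X.hom Y.hom))
  have : IsProper (snd X Y).left := inferInstanceAs (IsProper (Limits.pullback.snd X.hom Y.hom))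
  have : LocallyOfFiniteType (X ⊗ Y).hom :=
    inferInstanceAs (LocallyOfFiniteType (Limits.pullback.fst X.hom Y.hom ≫ X.hom))
  obtain ⟨b, hb, hbu⟩ := Groth.Agent.Blanchard.existsUnique_action (fst X Y)
    (isIso_app_of_fields (X := X) (Y := Y)).1 a
  obtain ⟨c, hc, hcu⟩ := Groth.Agent.Blanchard.existsUnique_action (snd X Y)
    (isIso_app_of_fields (X := Y) (Y := X)).2 a
  refine ⟨b, c, ?_, fun b' c' h => ⟨hbu b' ?_, hcu c' ?_⟩⟩
  · apply CartesianMonoidalCategory.hom_ext
    · rw [lift_fst]; exact hb.symm
    · rw [lift_snd]; exact hc.symm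
  · rw [h, lift_fst]
  · rw [h, lift_snd]

end Groth.Agent.S11420
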