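import Groth.Statements.S11421
import Mathlib
import Groth.Agent.AntiAffRig.Basic
import Groth.Agent.ClosedRep.Over
import Groth.Agent.S14578

set_option autoImplicit false
universe u
open CategoryTheory MonoidalCategory CartesianMonoidalCategory MonObj GrpObj AlgebraicGeometry CategoryTheory.Limits
open AlgGrp

namespace Groth.Agent.S11421

/-- Over an algebraically closed field k, let G be an algebraic group (smooth k-group scheme of finite
type) whose only global functions are the constants, H a connected algebraic group, S a connected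
k-scheme of finite type and f : G × S → H a morphism of k-schemes. Then there are a unique
k-morphism φ : S → H and a unique homomorphism ψ : G → H with f(g, s) = φ(s) · ψ(g) on points. (This
is the decomposition, over a connected base, behind the identification of the functor of morphisms
from G to H with H × Hom_gp(G, H); the published statement is the equivalence of representability of
that functor with anti-affineness of G, whose converse direction is not stated here.) -/
theorem result (k : Type u) [Field k] [IsAlgClosed k]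
    (G H S : Over (Spec (CommRingCat.of k))) [GrpObj G] [Smooth G.hom] [QuasiCompact G.hom]
    (hG : Function.Bijective ((Scheme.ΓSpecIso (CommRingCat.of k)).inv ≫ G.hom.appTop).hom)
    [GrpObj H] [Smooth H.hom] [QuasiCompact H.hom] [ConnectedSpace ↥H.left]
    [LocallyOfFiniteType S.hom] [QuasiCompact S.hom] [ConnectedSpace ↥S.left]
    (f : G ⊗ S ⟶ H) :
    ∃ (φ : S ⟶ H) (ψ : G ⟶ H), IsMonHom ψ ∧ f = (snd G S ≫ φ) * (fst G S ≫ ψ) ∧
      ∀ (φ' : S ⟶ H) (ψ' : G ⟶ H), IsMonHom ψ' → f = (snd G S ≫ φ') * (fst G S ≫ ψ') → φ' = φ ∧ ψ' = ψ := by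
  haveI : IsSeparated H.hom := Groth.Agent.ClosedRep.isSeparated_of_field k H
  haveI : IsSeparated G.hom := Groth.Agent.ClosedRep.isSeparated_of_field k G
  haveI : JacobsonSpace S.left := LocallyOfFiniteType.jacobsonSpace S.hom
  obtain ⟨x, -, hx⟩ := nonempty_inter_closedPoints (X := S.left) (Z := Set.univ) Set.univ_nonempty isClosed_univ.isLocallyClosed
  let s₀ : 𝟙_ (Over (Spec (CommRingCat.of k))) ⟶ S :=
    Over.homMk (pointOfClosedPoint S.hom x hx) (pointOfClosedPoint_comp S.hom x hx)
  let φ : S ⟶ H := lift (toUnit S ≫ η[G]) (𝟙 S) ≫ f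
  let ψ : G ⟶ H := (toUnit G ≫ s₀ ≫ φ)⁻¹ * (lift (𝟙 G) (toUnit G ≫ s₀) ≫ f)
  have hψ1 : η[G] ≫ ψ = η[H] := by
    have e0 : η[G] ≫ toUnit G = 𝟙 _ := toUnit_unique _ _
    have h1 : η[H] = (1 : 𝟙_ _ ⟶ H) := by
      rw [Hom.one_def, toUnit_unique (toUnit (𝟙_ (Over (Spec (CommRingCat.of k))))) (𝟙 _), Category.id_comp]
    rw [h1, MonObj.comp_mul, GrpObj.comp_inv, ← Category.assoc η[G] (toUnit G), e0, Category.id_comp,
      inv_mul_eq_one]
    simp only [φ, ← Category.assoc, comp_lift, Category.comp_id]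
    congr 1
    ext1
    · simp only [lift_fst, ← Category.assoc]
      rw [toUnit_unique (s₀ ≫ toUnit S) (𝟙 _), Category.id_comp]
    · simp only [lift_snd, ← Category.assoc, e0, Category.id_comp]
  haveI hψ : IsMonHom ψ := Groth.Agent.S14578.result k G H hG ψ hψ1
  let F : G ⊗ S ⟶ H := (snd G S ≫ φ)⁻¹ * f * (fst G S ≫ ψ)⁻¹
  have hF0 : (G ◁ s₀) ≫ F = toUnit _ ≫ (1 : 𝟙_ _ ⟶ H) := by
    simp only [F, ψ, MonObj.comp_mul, GrpObj.comp_inv, _root_.mul_inv_rev, _root_.inv_inv, MonObj.comp_one, ← Category.assoc,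
      whiskerLeft_fst, whiskerLeft_snd, comp_lift, Category.comp_id,
      toUnit_unique (fst G (𝟙_ (Over (Spec (CommRingCat.of k)))) ≫ toUnit G) (snd G (𝟙_ _))]
    rw [show G ◁ s₀ = lift (fst G (𝟙_ _)) (snd G (𝟙_ _) ≫ s₀) by ext1 <;> simp]
    simp [_root_.mul_assoc]
  have hF := Groth.Agent.AntiAffRig.eq_snd_of_connected hG η[G] s₀ 1 F hF0
  have hg1 : lift (toUnit S ≫ η[G]) (𝟙 S) ≫ F = 1 := by
    simp only [F, MonObj.comp_mul, GrpObj.comp_inv, ← Category.assoc, lift_fst, lift_snd, Category.id_comp]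
    rw [Category.assoc (toUnit S) η[G] ψ, IsMonHom.one_hom (f := ψ), ← Hom.one_def, ← Hom.one_def, inv_one, _root_.mul_one]
    exact inv_mul_cancel _
  rw [hg1, MonObj.comp_one] at hF
  refine ⟨φ, ψ, hψ, ?_, ?_⟩
  · simp only [F] at hF
    rw [mul_inv_eq_one, inv_mul_eq_iff_eq_mul] at hF
    exact hF
  · intro φ' ψ' hψ' hf'
    have hφ : φ' = φ := by
      simp only [φ, hf', MonObj.comp_mul, lift_fst_assoc, lift_snd_assoc, Category.id_comp, Category.assoc,
        IsMonHom.one_hom (f := ψ')]
      rw [← Hom.one_def, _root_.mul_one]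
    refine ⟨hφ, ?_⟩
    simp only [ψ]
    rw [hf', MonObj.comp_mul, lift_fst_assoc, lift_snd_assoc, Category.id_comp, Category.assoc, hφ,
      inv_mul_cancel_left]

end Groth.Agent.S11421
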