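import Groth.Statements.S11428
import Mathlib

set_option autoImplicit false
universe u
open CategoryTheory MonoidalCategory CartesianMonoidalCategory MonObj GrpObj AlgebraicGeometry Topology
open GIT

set_option backward.isDefEq.respectTransparency false
namespace Groth.Agent.S11428

/-- If (Y, φ) is a geometric quotient of X by G over S, then Y is separated over S exactly when the
action is separated, i.e. the image of (σ, p₂) : G ×_S X → X ×_S X is closed. -/
theorem result (S : Scheme.{u}) (G X Y : Over S) [GrpObj G]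
    (a : AlgGrp.Action G X) (φ : X ⟶ Y) (h : GIT.IsGeomQuot a φ) :
    IsSeparated Y.hom ↔ IsClosed (Set.range (GIT.psi a (𝟙 X)).left.base) := by
  let m : (X ⊗ X).left ⟶ (Y ⊗ Y).left :=
    Limits.pullback.map X.hom X.hom Y.hom Y.hom φ.left φ.left (𝟙 S) (by simp) (by simp)
  have hq : IsQuotientMap m.base := by
    let m1 : Limits.pullback X.hom X.hom ⟶ Limits.pullback Y.hom X.hom :=
      Limits.pullback.map X.hom X.hom Y.hom X.hom φ.left (𝟙 _) (𝟙 S) (by simp) (by simp)
    let m2 : Limits.pullback Y.hom X.hom ⟶ Limits.pullback Y.hom Y.hom :=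
      Limits.pullback.map Y.hom X.hom Y.hom Y.hom (𝟙 _) φ.left (𝟙 S) (by simp) (by simp)
    have e : m1 ≫ m2 = m := by
      apply Limits.pullback.hom_ext <;> simp [m1, m2, m]
    have p1 : IsPullback (Limits.pullback.fst X.hom X.hom) m1 φ.left (Limits.pullback.fst Y.hom X.hom) := by
      refine IsPullback.of_bot ?_ (by simp [m1]) (IsPullback.of_hasPullback Y.hom X.hom)
      simpa [m1] using IsPullback.of_hasPullback X.hom X.hom
    have p2 : IsPullback (Limits.pullback.snd Y.hom X.hom) m2 φ.left (Limits.pullback.snd Y.hom Y.hom) := by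
      refine IsPullback.of_bot ?_ (by simp [m2]) (IsPullback.of_hasPullback Y.hom Y.hom).flip
      simpa [m2] using (IsPullback.of_hasPullback Y.hom X.hom).flip
    have q1 : IsQuotientMap m1.base := h.subm _ _ _ p1.flip
    have q2 : IsQuotientMap m2.base := h.subm _ _ _ p2.flip
    rw [← e]
    exact q2.comp q1
  have hr : Set.range (GIT.psi a (𝟙 X)).left = m ⁻¹' Set.range (Limits.pullback.diagonal Y.hom) := by
    let j : Limits.pullback φ.left φ.left ⟶ (X ⊗ X).left :=
      Limits.pullback.map φ.left φ.left X.hom X.hom (𝟙 _) (𝟙 _) Y.hom (by simp) (by simp)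
    have hj : GIT.PsiY a φ h.inv ≫ j = (GIT.psi a (𝟙 X)).left := by
      apply Limits.pullback.hom_ext
      · simp only [GIT.PsiY, j, Category.assoc, Limits.pullback.lift_fst, Category.comp_id]
        have := congrArg CommaMorphism.left (show GIT.psi a (𝟙 X) ≫ fst X X = a.act by simp [GIT.psi])
        exact this.symm
      · simp only [GIT.PsiY, j, Category.assoc, Limits.pullback.lift_snd, Category.comp_id]
        have := congrArg CommaMorphism.left (show GIT.psi a (𝟙 X) ≫ snd X X = snd G X by simp [GIT.psi])
        exact this.symm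
    have sq : IsPullback j (Limits.pullback.fst φ.left φ.left ≫ φ.left) m (Limits.pullback.diagonal Y.hom) := by
      have key : ∀ (x y : X.left ⟶ S) (hx : φ.left ≫ Y.hom = x) (hy : φ.left ≫ Y.hom = y),
          IsPullback (Limits.pullback.map φ.left φ.left x y (𝟙 _) (𝟙 _) Y.hom (by simp [hx]) (by simp [hy]))
            (Limits.pullback.fst φ.left φ.left ≫ φ.left)
            (Limits.pullback.map x y Y.hom Y.hom φ.left φ.left (𝟙 S) (by simp [hx]) (by simp [hy]))
            (Limits.pullback.diagonal Y.hom) := by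
        rintro x y rfl rfl
        exact (Limits.pullback_map_diagonal_isPullback φ.left φ.left Y.hom).flip
      exact key X.hom X.hom (Over.w φ) (Over.w φ)
    ext z
    constructor
    · rintro ⟨w, rfl⟩
      refine ⟨(Limits.pullback.fst φ.left φ.left ≫ φ.left) (GIT.PsiY a φ h.inv w), ?_⟩
      rw [← hj, Scheme.Hom.comp_apply]
      exact (congr($(sq.w).base (GIT.PsiY a φ h.inv w))).symm
    · rintro ⟨y, hy⟩
      obtain ⟨p, hp, -⟩ := Scheme.exists_preimage_of_isPullback sq z y hy.symm
      obtain ⟨w, rfl⟩ := h.orbit p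
      exact ⟨w, by rw [← hj, Scheme.Hom.comp_apply]; exact hp⟩
  change IsSeparated Y.hom ↔ IsClosed (Set.range (GIT.psi a (𝟙 X)).left)
  rw [hr, hq.isClosed_preimage]
  exact ⟨fun _ => (Limits.pullback.diagonal Y.hom).isClosedEmbedding.isClosed_range,
    fun hc => ⟨IsClosedImmersion.of_isPreimmersion _ hc⟩⟩

end Groth.Agent.S11428
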