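import Groth.Statements.S11432
import Groth.Agent.AffQuot.Red

set_option autoImplicit false
universe u
open CategoryTheory MonoidalCategory CartesianMonoidalCategory MonObj GrpObj AlgebraicGeometry Topology
open GIT

namespace Groth.Agent.S11432

/-- Let k be a field of characteristic zero, G a connected reductive algebraic group over k acting on an
affine scheme X over k, and W₁, W₂ disjoint closed invariant subsets of X. Then there is an
invariant f ∈ Γ(X, O_X) which is 0 at every point of W₁ and 1 at every point of W₂. (The published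
statement is for any reductive G in any characteristic; this row is the characteristic-zero case
with G connected.) -/
theorem result (k : Type u) [Field k] [CharZero k]
    (G X : Over (Spec (CommRingCat.of k))) [GrpObj G] (hG : Red.IsReductive G) [IsAffine X.left]
    (a : AlgGrp.Action G X) (W₁ W₂ : Set X.left) (h₁ : IsClosed W₁) (h₂ : IsClosed W₂)
    (hi₁ : a.act.left.base '' ((snd G X).left.base ⁻¹' W₁) ⊆ W₁)
    (hi₂ : a.act.left.base '' ((snd G X).left.base ⁻¹' W₂) ⊆ W₂) (hd : Disjoint W₁ W₂) :
    ∃ f : Γ(X.left, ⊤), a.act.left.appTop f = (snd G X).left.appTop f ∧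
      W₁ ⊆ X.left.zeroLocus (U := ⊤) {f} ∧ W₂ ⊆ X.left.zeroLocus (U := ⊤) {1 - f} := by
  obtain ⟨Y, φ, hY, h, -, -⟩ := Groth.Agent.AffQuot.exists_quotient_of_isReductive hG a
  haveI := hY
  let W : Bool → Set X.left := fun b => Bool.rec W₁ W₂ b
  have he : ⋂ b, W b = ∅ := by
    rw [Set.eq_empty_iff_forall_notMem]
    intro x hx
    exact Set.disjoint_left.1 hd (Set.mem_iInter.1 hx false) (Set.mem_iInter.1 hx true)
  have hs : ∀ b, Groth.Agent.AffQuot.Good.Stable a.act.left (snd G X).left (W b) := by
    rintro (_ | _)
    exacts [Groth.Agent.AffQuot.stable_of_image_subset hi₁, Groth.Agent.AffQuot.stable_of_image_subset hi₂]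
  have hd' : Disjoint (φ.left '' W₁) (φ.left '' W₂) := Set.disjoint_left.2 fun y hy₁ hy₂ => by
    have : y ∈ ⋂ b, φ.left '' W b := Set.mem_iInter.2 (by rintro (_ | _); exacts [hy₁, hy₂])
    rw [h.iInter_image_eq_empty (by rintro (_ | _); exacts [h₁, h₂]) hs he] at this
    exact this
  obtain ⟨c, hc₁, hc₂⟩ := Groth.Agent.AffQuot.exists_separating_of_isAffine
    (h.isClosed_image h₁ (hs false)) (h.isClosed_image h₂ (hs true)) hd'
  refine ⟨φ.left.appTop c, ?_, ?_, ?_⟩
  · have := Set.mem_range_self (f := φ.left.appTop) c
    rw [(Groth.Agent.AffQuot.appTop_of_good h).2] at this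
    exact this
  · intro x hx
    have := hc₁ ⟨x, hx, rfl⟩
    rw [← Set.mem_preimage, Scheme.preimage_zeroLocus] at this
    rw [Set.image_singleton] at this
    exact this
  · intro x hx
    have := hc₂ ⟨x, hx, rfl⟩
    rw [← Set.mem_preimage, Scheme.preimage_zeroLocus] at this
    rw [Set.image_singleton, map_sub, map_one] at this
    exact this

end Groth.Agent.S11432
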