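import Groth.Statements.S11441
import Mathlib
import Groth.Agent.ReflSpec.Basic

set_option autoImplicit false
universe u
open CategoryTheory MonoidalCategory CartesianMonoidalCategory MonObj GrpObj AlgebraicGeometry Topology
open GIT

set_option backward.isDefEq.respectTransparency false
namespace Groth.Agent.S11441

/-- If a geometric quotient of X by G over S exists, then the action of G on X is closed (orbits of
geometric points are closed in the geometric fibres). -/
theorem result (S : Scheme.{u}) (G X Y : Over S) [GrpObj G]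
    (a : AlgGrp.Action G X) (φ : X ⟶ Y) (h : GIT.IsGeomQuot a φ) : GIT.IsClosedAction a := by
  intro Ω _ _ T eT f
  let y : T ⟶ Y ⊗ T := lift (f ≫ φ) (𝟙 T)
  let q : X ⊗ T ⟶ Y ⊗ T := φ ▷ T
  haveI hT : Subsingleton ↥T.left :=
    haveI : Subsingleton ↥(Spec (CommRingCat.of Ω)) := inferInstanceAs (Subsingleton (PrimeSpectrum Ω))
    eT.hom.homeomorph.toEquiv.subsingleton
  have hyp : IsClosed (Set.range y.left) := by
    obtain ⟨t₀, -⟩ : ∃ t₀ : T.left, True := ⟨eT.inv (IsLocalRing.closedPoint Ω), trivial⟩
    have hr : Set.range y.left = {y.left t₀} := Set.eq_singleton_iff_unique_mem.2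
      ⟨⟨t₀, rfl⟩, fun _ ⟨t, ht⟩ => ht ▸ congrArg y.left.base (Subsingleton.elim t t₀)⟩
    rw [hr, ← closure_subset_iff_isClosed]
    intro z hz
    have hs : y.left t₀ ⤳ z := specializes_iff_mem_closure.2 hz
    obtain ⟨V, hV, hzV, -⟩ := exists_isAffineOpen_mem_and_subset (show z ∈ (⊤ : (Y ⊗ T).left.Opens) from trivial)
    have hyV : y.left t₀ ∈ V := hs.mem_open V.2 hzV
    haveI : IsAffine (V : Scheme.{u}) := hV
    haveI : IsAffine T.left := IsAffine.of_isIso eT.hom
    have hsub : Set.range y.left ⊆ Set.range V.ι := by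
      rw [Scheme.Opens.range_ι, hr]
      simpa using hyV
    let yV : T.left ⟶ (V : Scheme.{u}) := IsOpenImmersion.lift V.ι y.left hsub
    have hyV' : yV ≫ V.ι ≫ (snd Y T).left = 𝟙 _ := by
      rw [IsOpenImmersion.lift_fac_assoc, ← Over.comp_left, lift_snd]
      rfl
    haveI : IsClosedImmersion yV := by
      haveI : IsClosedImmersion (yV ≫ V.ι ≫ (snd Y T).left) := by rw [hyV']; infer_instance
      exact IsClosedImmersion.of_comp yV (V.ι ≫ (snd Y T).left)
    have h1 : (⟨y.left t₀, hyV⟩ : V) = yV t₀ :=
      V.ι.isOpenEmbedding.injective (by rw [← Scheme.Hom.comp_apply, IsOpenImmersion.lift_fac]; rfl)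
    have h2 : (⟨z, hzV⟩ : V) ∈ Set.range yV := by
      have hsp : yV t₀ ⤳ (⟨z, hzV⟩ : V) := by
        rw [← h1]
        exact (subtype_specializes_iff _ _).2 hs
      exact hsp.mem_closed yV.isClosedEmbedding.isClosed_range ⟨t₀, rfl⟩
    obtain ⟨t, ht⟩ := h2
    rw [Subsingleton.elim t t₀, ← h1] at ht
    exact (congrArg Subtype.val ht).symm
  suffices hrange : Set.range (GIT.psi a f).left = q.left ⁻¹' Set.range y.left by
    change IsClosed (Set.range (GIT.psi a f).left)
    rw [hrange]; exact hyp.preimage q.left.continuous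
  apply Set.Subset.antisymm
  · rintro _ ⟨w, rfl⟩
    refine ⟨(snd G T).left w, ?_⟩
    rw [← Scheme.Hom.comp_apply, ← Scheme.Hom.comp_apply, ← Over.comp_left, ← Over.comp_left]
    suffices e : snd G T ≫ y = GIT.psi a f ≫ q by rw [e]
    apply CartesianMonoidalCategory.hom_ext
    · simp only [GIT.psi, q, y, Category.assoc, whiskerRight_fst, lift_fst, lift_fst_assoc]
      rw [show a.act ≫ φ = snd G X ≫ φ from h.inv]
      simp
    · simp [GIT.psi, q, y]
  · rintro z ⟨t₀, ht₀⟩
    let F := (X ⊗ T).left.residueField z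
    let P : Over S := Over.mk ((X ⊗ T).left.fromSpecResidueField z ≫ (X ⊗ T).hom)
    let p : P ⟶ X ⊗ T := Over.homMk ((X ⊗ T).left.fromSpecResidueField z) rfl
    have hmem : ∀ r, (p ≫ q).left r = y.left t₀ := fun r => by
      rw [Over.comp_left, Scheme.Hom.comp_apply]
      exact ((congrArg q.left.base (Scheme.fromSpecResidueField_apply z r)).trans ht₀.symm)
    haveI : IsAffine T.left := IsAffine.of_isIso eT.hom
    -- the composite to `Y ⊗ T` factors through the rational point
    have hq : p ≫ q = (p ≫ snd X T) ≫ y := by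
      haveI : IsSplitMono y.left := ⟨⟨⟨(snd Y T).left, by rw [← Over.comp_left, lift_snd]; rfl⟩⟩⟩
      obtain ⟨b, hb⟩ := Groth.Agent.ReflSpec.exists_fieldPt_lift y.left F (p ≫ q).left t₀ (hmem _)
      have e2 : b = (p ≫ snd X T).left := by
        have := congrArg (fun m => m ≫ (snd Y T).left) hb
        simp only [Category.assoc, ← Over.comp_left] at this
        rw [lift_snd] at this
        simpa [q] using this
      apply Over.OverMorphism.ext
      rw [← hb, e2]
      rfl
    have hφ : (p ≫ fst X T) ≫ φ = ((p ≫ snd X T) ≫ f) ≫ φ := by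
      have := congrArg (· ≫ fst Y T) hq
      simpa [q, y] using this
    let w : Spec F ⟶ Limits.pullback φ.left φ.left :=
      Limits.pullback.lift (p ≫ fst X T).left ((p ≫ snd X T) ≫ f).left (by
        rw [← Over.comp_left, ← Over.comp_left, hφ])
    obtain ⟨v, hv⟩ := h.orbit (w (IsLocalRing.closedPoint F))
    obtain ⟨n, -, -⟩ := Scheme.Pullback.exists_preimage_pullback (f := GIT.PsiY a φ h.inv) (g := w) v
      (IsLocalRing.closedPoint F) hv
    let N := Limits.pullback (GIT.PsiY a φ h.inv) w
    let l := N.fromSpecResidueField n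
    let Q : Over S := Over.mk ((l ≫ Limits.pullback.snd _ _) ≫ P.hom)
    let b : Q ⟶ P := Over.homMk (l ≫ Limits.pullback.snd _ _) rfl
    have hcond : (l ≫ Limits.pullback.fst _ _) ≫ GIT.PsiY a φ h.inv = (l ≫ Limits.pullback.snd _ _) ≫ w := by
      rw [Category.assoc, Limits.pullback.condition, ← Category.assoc]
    have hact : (l ≫ Limits.pullback.fst _ _) ≫ a.act.left = b.left ≫ (p ≫ fst X T).left := by
      have := congrArg (· ≫ Limits.pullback.fst φ.left φ.left) hcond
      simp only [GIT.PsiY, w, Category.assoc, Limits.pullback.lift_fst] at this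
      exact (Category.assoc _ _ _).trans (this.trans (Category.assoc _ _ _).symm)
    have hsnd : (l ≫ Limits.pullback.fst _ _) ≫ (snd G X).left = b.left ≫ ((p ≫ snd X T) ≫ f).left := by
      have := congrArg (· ≫ Limits.pullback.snd φ.left φ.left) hcond
      simp only [GIT.PsiY, w, Category.assoc, Limits.pullback.lift_snd] at this
      exact (Category.assoc _ _ _).trans (this.trans (Category.assoc _ _ _).symm)
    let c : Q ⟶ G ⊗ X := Over.homMk (l ≫ Limits.pullback.fst _ _) (by
      have e := congrArg (· ≫ X.hom) hsnd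
      simp only [Category.assoc, Over.w] at e
      exact (Category.assoc _ _ _).trans (e.trans (by rfl)))
    let d : Q ⟶ G ⊗ T := lift (c ≫ fst G X) (b ≫ p ≫ snd X T)
    have hd : d ≫ GIT.psi a f = b ≫ p := by
      apply CartesianMonoidalCategory.hom_ext
      · have hc : d ≫ (G ◁ f) = c := by
          apply CartesianMonoidalCategory.hom_ext
          · simp [d]
          · apply Over.OverMorphism.ext
            simp only [d, Category.assoc, whiskerLeft_snd, lift_snd_assoc, Over.comp_left]
            simpa [c] using hsnd.symm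
        simp only [GIT.psi, Category.assoc, lift_fst]
        rw [← Category.assoc d, hc]
        apply Over.OverMorphism.ext
        simpa [c] using hact
      · simp [GIT.psi, d]
    refine ⟨d.left (IsLocalRing.closedPoint (N.residueField n)), ?_⟩
    rw [← Scheme.Hom.comp_apply, ← Over.comp_left, hd, Over.comp_left, Scheme.Hom.comp_apply]
    exact Scheme.fromSpecResidueField_apply z _

end Groth.Agent.S11441
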