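import Groth.Statements.S11433
import Groth.Agent.AffQuot.Red
import Groth.Agent.S11441

set_option autoImplicit false
universe u
open CategoryTheory MonoidalCategory CartesianMonoidalCategory MonObj GrpObj AlgebraicGeometry Topology
open GIT

namespace Groth.Agent.S11433

/-- Let k be a field of characteristic zero, G a connected reductive algebraic group over k acting on an
affine scheme X over k, and (Y, φ) a categorical quotient of X by G. Then (Y, φ) is a geometric
quotient exactly when every orbit of a geometric point is closed, and in that case (Y, φ) is even a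
universal geometric quotient. (The published statement is for any reductive G, the universal
conclusion being stated in characteristic zero; this row is the characteristic-zero case with G
connected.) -/
theorem result (k : Type u) [Field k] [CharZero k]
    (G X Y : Over (Spec (CommRingCat.of k))) [GrpObj G] (hG : Red.IsReductive G) [IsAffine X.left]
    (a : AlgGrp.Action G X) (φ : X ⟶ Y) (hq : GIT.IsCatQuot a φ) :
    (GIT.IsGeomQuot a φ ↔ GIT.IsClosedAction a) ∧ (GIT.IsClosedAction a → GIT.IsUnivGeomQuot a φ) := by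
  obtain ⟨Y₀, φ₀, -, h₀, -, -⟩ := Groth.Agent.AffQuot.exists_quotient_of_isReductive hG a
  have hc₀ := Groth.Agent.AffQuot.isCatQuot_of_goodAct h₀
  obtain ⟨χ, hχ, -⟩ := hc₀.2 Y φ hq.1
  obtain ⟨χ', hχ', -⟩ := hq.2 Y₀ φ₀ hc₀.1
  have e₁ : χ ≫ χ' = 𝟙 Y₀ := (hc₀.2 Y₀ φ₀ hc₀.1).unique
    (show φ₀ ≫ χ ≫ χ' = φ₀ by rw [← Category.assoc, hχ, hχ']) (Category.comp_id _)
  have e₂ : χ' ≫ χ = 𝟙 Y := (hq.2 Y φ hq.1).unique
    (show φ ≫ χ' ≫ χ = φ by rw [← Category.assoc, hχ', hχ]) (Category.comp_id _)
  haveI : IsIso χ' := ⟨χ, e₂, e₁⟩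
  have h : Groth.Agent.AffQuot.GoodAct a φ :=
    Groth.Agent.AffQuot.goodAct_baseChange h₀ (𝟙 X) φ χ'
      (IsPullback.of_horiz_isIso ⟨by rw [Category.id_comp, hχ']⟩) a (by simp) hq.1
  have hu : GIT.IsClosedAction a → GIT.IsUnivGeomQuot a φ :=
    Groth.Agent.AffQuot.isUnivGeomQuot_of_goodAct h
  exact ⟨⟨Groth.Agent.S11441.result _ G X Y a φ, fun hc => (hu hc).1⟩, hu⟩

end Groth.Agent.S11433
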