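import Groth.Statements.S11435
import Groth.Agent.GrpAct.OrbitProper
import Groth.Agent.GrpField.QAAffine

set_option autoImplicit false
set_option backward.isDefEq.respectTransparency false
universe u
open CategoryTheory MonoidalCategory CartesianMonoidalCategory MonObj GrpObj AlgebraicGeometry Topology
open GIT

namespace Groth.Agent.S11435

/-- Over an algebraically closed field k, let a group scheme G of finite type act on a scheme X of
finite type and let x be a k-rational point of X. Then the orbit morphism ψ_x : G × Spec k → X ×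
Spec k, g ↦ (g · x, pt), is proper if and only if the orbit of x (the image of ψ_x) is closed and
the stabilizer of x (the fibre of ψ_x over (x, pt)) is proper over k. -/
theorem result (k : Type u) [Field k] [IsAlgClosed k]
    (G X : Over (Spec (CommRingCat.of k))) [GrpObj G] [LocallyOfFiniteType G.hom] [QuasiCompact G.hom]
    [LocallyOfFiniteType X.hom] [QuasiCompact X.hom] (a : AlgGrp.Action G X)
    (x : 𝟙_ (Over (Spec (CommRingCat.of k))) ⟶ X) :
    IsProper (GIT.psi a x).left ↔
      IsClosed (Set.range (GIT.psi a x).left.base) ∧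
        IsProper (Limits.pullback.snd (GIT.psi a x).left (lift x (𝟙 (𝟙_ (Over (Spec (CommRingCat.of k)))))).left ≫
          (𝟙_ (Over (Spec (CommRingCat.of k)))).hom) := by
  let eG := (Over.forget _).mapIso (ρ_ G)
  let eX := (Over.forget _).mapIso (ρ_ X)
  let ψ := (GIT.psi a x).left
  let f := (a.orbitMap x).left
  have hψ : GIT.psi a x ≫ (ρ_ X).hom = (ρ_ G).hom ≫ a.orbitMap x := by
    rw [rightUnitor_hom, rightUnitor_hom, GIT.psi, lift_fst, AlgGrp.Action.orbitMap, comp_lift_assoc,
      Category.comp_id, comp_toUnit_assoc]
    congr 1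
    apply CartesianMonoidalCategory.hom_ext
    · simp
    · rw [whiskerLeft_snd, lift_snd, toUnit_unique (snd G _) (toUnit _)]
  have hψl : ψ ≫ eX.hom = eG.hom ≫ f := congrArg (fun m : G ⊗ _ ⟶ X => m.left) hψ
  have hiff : IsProper ψ ↔ IsProper f :=
    MorphismProperty.arrow_mk_iso_iff @IsProper (Arrow.isoMk eG eX hψl.symm)
  let δ := (lift x (𝟙 (𝟙_ (Over (Spec (CommRingCat.of k)))))).left
  have hδ : δ ≫ eX.hom = x.left := by
    refine congrArg (fun m : 𝟙_ _ ⟶ X => m.left)
      (show lift x (𝟙 _) ≫ (ρ_ X).hom = x by rw [rightUnitor_hom, lift_fst])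
  have hH : IsPullback (Limits.pullback.fst ψ δ ≫ eG.hom) (Limits.pullback.snd ψ δ) f x.left :=
    (IsPullback.of_hasPullback ψ δ).of_iso (Iso.refl _) eG (Iso.refl _) eX (by simp) (by simp)
      hψl (by simp [hδ])
  have hu : IsProper (𝟙_ (Over (Spec (CommRingCat.of k)))).hom :=
    inferInstanceAs (IsProper (𝟙 (Spec (CommRingCat.of k))))
  constructor
  · intro hp
    have : IsProper ψ := hp
    exact ⟨ψ.isClosedMap.isClosed_range, inferInstanceAs (IsProper (Limits.pullback.snd ψ δ ≫ _))⟩
  · rintro ⟨hcl, hst⟩
    refine hiff.mpr ?_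
    let H : Over (Spec (CommRingCat.of k)) :=
      Over.mk (Limits.pullback.snd ψ δ ≫ (𝟙_ (Over (Spec (CommRingCat.of k)))).hom)
    let i : H ⟶ G := Over.homMk (Limits.pullback.fst ψ δ ≫ eG.hom) (by
      show _ = Limits.pullback.snd ψ δ ≫ _
      rw [← Over.w x, ← Over.w (a.orbitMap x)]
      exact hH.w_assoc _)
    have hHo : IsPullback i (toUnit H) (a.orbitMap x) x := by
      refine IsPullback.of_map (Over.forget _) (Over.OverMorphism.ext ?_) ?_ <;>
        rw [show toUnit H = Over.homMk (Limits.pullback.snd ψ δ) rfl from toUnit_unique _ _]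
      · exact hH.w
      · exact hH
    have hk := ((Groth.Agent.GrpAct.isPullback_of_stabilizer a x i hHo).map (Over.forget _)).flip
    have hfst : UniversallyClosed (fst G H).left := by
      have : IsProper H.hom := hst
      exact inferInstanceAs (UniversallyClosed (Limits.pullback.fst G.hom H.hom))
    have hk2 : UniversallyClosed (Limits.pullback.snd f f) :=
      (MorphismProperty.arrow_mk_iso_iff @UniversallyClosed
        (Arrow.isoMk hk.isoPullback (Iso.refl _) (hk.isoPullback_hom_snd.trans (Category.comp_id _).symm))).mp hfst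
    have hclf : IsClosed (Set.range f) := by
      have e : Set.range f = eX.hom '' Set.range ψ := by
        rw [← Set.range_comp]
        have : (eX.hom : _ → _) ∘ ψ = (f : _ → _) ∘ eG.hom := funext fun w => congr($hψl w)
        rw [this, Set.range_comp, eG.hom.surjective.range_eq, Set.image_univ]
      rw [e]
      exact eX.hom.homeomorph.isClosedMap _ hcl
    have := Groth.Agent.GrpAct.universallyClosed_orbitMap a x hclf hk2
    have : IsSeparated G.hom := Groth.Agent.GrpField.isSeparated_hom G
    have : IsSeparated (f ≫ X.hom) := by rw [Over.w]; infer_instance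
    have : IsSeparated f := IsSeparated.of_comp f X.hom
    have : LocallyOfFiniteType (f ≫ X.hom) := by rw [Over.w]; infer_instance
    have : LocallyOfFiniteType f := locallyOfFiniteType_of_comp f X.hom
    exact { }

end Groth.Agent.S11435
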