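import Groth.Statements.S11437
import Groth.Agent.AffQuot.Finite
import Groth.Agent.S11441

set_option autoImplicit false
universe u
open CategoryTheory MonoidalCategory CartesianMonoidalCategory MonObj GrpObj AlgebraicGeometry Topology
open GIT

namespace Groth.Agent.S11437

/-- Over a field k of characteristic zero, let G be a connected reductive algebraic group, X and Y
separated schemes of finite type, σ an action of G on X such that the stabilizers of geometric
points of X are finite (the stabilizer group scheme over X is locally quasi-finite), and (Y, φ) a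
geometric quotient of X by G. If φ is affine, then the action is proper. (The published statement is
for any reductive G over any field; this row is the characteristic-zero case with G connected.) -/
theorem result (k : Type u) [Field k] [CharZero k]
    (G X Y : Over (Spec (CommRingCat.of k))) [GrpObj G] (hG : Red.IsReductive G)
    [LocallyOfFiniteType X.hom] [QuasiCompact X.hom] [IsSeparated X.hom]
    [LocallyOfFiniteType Y.hom] [QuasiCompact Y.hom] [IsSeparated Y.hom]
    (a : AlgGrp.Action G X)
    [LocallyQuasiFinite (Limits.pullback.snd (GIT.psi a (𝟙 X)).left (lift (𝟙 X) (𝟙 X)).left)]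
    (φ : X ⟶ Y) (h : GIT.IsGeomQuot a φ) [IsAffineHom φ.left] :
    IsProper (GIT.psi a (𝟙 X)).left := by
  obtain ⟨H, _, _, e, _, hLR, hft⟩ := Groth.Agent.AffQuot.exists_linearlyReductive_hopf hG
  haveI := hG.1
  haveI : Smooth G.hom := hG.2.1
  haveI : IsAffine G.left := isAffine_of_isAffineHom G.hom
  haveI : LocallyOfFiniteType (G ⊗ X).hom :=
    inferInstanceAs (LocallyOfFiniteType (Limits.pullback.fst G.hom X.hom ≫ G.hom))
  haveI : QuasiCompact (G ⊗ X).hom := inferInstanceAs (QuasiCompact (Limits.pullback.fst G.hom X.hom ≫ G.hom))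
  haveI : IsSeparated (X ⊗ X).hom := inferInstanceAs (IsSeparated (Limits.pullback.fst X.hom X.hom ≫ X.hom))
  let Ψ := GIT.psi a (𝟙 X)
  haveI : LocallyOfFiniteType Ψ.left := by
    haveI : LocallyOfFiniteType (Ψ.left ≫ (X ⊗ X).hom) := by rw [Over.w]; infer_instance
    exact locallyOfFiniteType_of_comp Ψ.left (X ⊗ X).hom
  haveI : QuasiCompact Ψ.left := by
    haveI : QuasiCompact (Ψ.left ≫ (X ⊗ X).hom) := by rw [Over.w]; infer_instance
    exact QuasiCompact.of_comp Ψ.left (X ⊗ X).hom
  haveI : LocallyQuasiFinite Ψ.left := Groth.Agent.AffQuot.locallyQuasiFinite_psi a ‹_›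
  let mm : Limits.pullback φ.left φ.left ⟶ (X ⊗ X).left :=
    Limits.pullback.mapDesc φ.left φ.left Y.hom ≫
      (Limits.pullback.congrHom (Over.w φ) (Over.w φ)).hom
  have hmm : GIT.PsiY a φ h.inv ≫ mm = Ψ.left := by
    apply Limits.pullback.hom_ext
    · simp only [mm, GIT.PsiY, Category.assoc, Limits.pullback.congrHom_hom, Limits.pullback.mapDesc,
        Limits.pullback.map, Category.comp_id]
      erw [Limits.pullback.lift_fst, Limits.pullback.lift_fst, Limits.pullback.lift_fst]
      simp [Ψ, GIT.psi]
      exact (Limits.pullback.lift_fst _ _ _).symm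
    · simp only [mm, GIT.PsiY, Category.assoc, Limits.pullback.congrHom_hom, Limits.pullback.mapDesc,
        Limits.pullback.map, Category.comp_id]
      erw [Limits.pullback.lift_snd, Limits.pullback.lift_snd, Limits.pullback.lift_snd]
      simp [Ψ, GIT.psi]
      exact (Limits.pullback.lift_snd _ _ _).symm
  haveI : LocallyOfFiniteType (GIT.PsiY a φ h.inv) := by
    haveI : LocallyOfFiniteType (GIT.PsiY a φ h.inv ≫ mm) := by rw [hmm]; infer_instance
    exact locallyOfFiniteType_of_comp _ mm
  haveI : LocallyQuasiFinite (GIT.PsiY a φ h.inv) := by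
    haveI : LocallyQuasiFinite (GIT.PsiY a φ h.inv ≫ mm) := by rw [hmm]; infer_instance
    exact LocallyQuasiFinite.of_comp _ mm
  haveI : IsFinite (GIT.PsiY a φ h.inv) :=
    Groth.Agent.AffQuot.isFinite_PsiY a φ h.inv e hLR (Groth.Agent.S11441.result _ G X Y a φ h)
  show IsProper Ψ.left
  rw [← hmm]
  infer_instance

end Groth.Agent.S11437
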