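import Groth.Statements.S11438
import Groth.Agent.Rigid.BijOver

set_option autoImplicit false
universe u
open CategoryTheory MonoidalCategory CartesianMonoidalCategory MonObj GrpObj AlgebraicGeometry Topology
open GIT

namespace Groth.Agent.S11438

/-- Let S be connected and locally Noetherian, G a locally Noetherian group scheme separated over S, X →
S proper and flat with κ(s) → H⁰(X_s, O_{X_s}) bijective for every s, and f, g : X → G morphisms
over S which agree on one fibre X_s. Then there is a section t of G over S with f = (t ∘ p) · g, the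
product taken in the group of X-valued points of G. -/
theorem result (S : Scheme.{u}) [IsLocallyNoetherian S] [ConnectedSpace S]
    (X G : Over S) [GrpObj G] [IsLocallyNoetherian G.left] [IsSeparated G.hom] [IsProper X.hom] [Flat X.hom]
    (h0 : ∀ s : S, Function.Bijective (Limits.pullback.snd X.hom (S.fromSpecResidueField s)).appTop)
    (f g : X ⟶ G) (s : S)
    (hs : Limits.pullback.fst X.hom (S.fromSpecResidueField s) ≫ f.left =
      Limits.pullback.fst X.hom (S.fromSpecResidueField s) ≫ g.left) :
    ∃ t : 𝟙_ (Over S) ⟶ G, f = (toUnit X ≫ t) * g := by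

  haveI : LocallyOfFinitePresentation X.hom := inferInstance
  haveI : Surjective X.hom := Groth.Agent.Rigid.surjective_of_bijective X.hom h0
  let d : X ⟶ G := f * g⁻¹
  let j : Over.mk (Limits.pullback.fst X.hom (S.fromSpecResidueField s) ≫ X.hom) ⟶ X :=
    Over.homMk (Limits.pullback.fst X.hom (S.fromSpecResidueField s)) rfl
  have hjd : j ≫ d = 1 := by
    have hfg : j ≫ f = j ≫ g := Over.OverMorphism.ext hs
    simp only [d, MonObj.comp_mul, GrpObj.comp_inv, hfg]
    exact mul_inv_cancel _
  have key : ∀ x, X.hom x = s → d.left x = η[G].left s := by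
    intro x hx
    obtain ⟨z, rfl⟩ : x ∈ Set.range (Limits.pullback.fst X.hom (S.fromSpecResidueField s)) := by
      rw [Scheme.Pullback.range_fst, Scheme.range_fromSpecResidueField]
      exact hx
    refine (congrArg (fun m => m.left z) (hjd.trans Hom.one_def)).trans ?_
    change η[G].left (X.hom (Limits.pullback.fst X.hom (S.fromSpecResidueField s) z)) = _
    rw [hx]
  have hcol : (d.left '' (X.hom ⁻¹' {s})).Subsingleton := by
    rintro _ ⟨x, hx, rfl⟩ _ ⟨x', hx', rfl⟩
    rw [key x hx, key x' hx']
  obtain ⟨k, ⟨hk, hk'⟩, -⟩ := Groth.Agent.Rigid.exists_factor_of_connected X.hom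
    (Groth.Agent.Rigid.goodFibres_of_bijective X.hom h0) (𝟙 S) G.hom d.left
    (by rw [Over.w d, Category.comp_id]) s hcol
  refine ⟨Over.homMk k hk, ?_⟩
  have hd : d = toUnit X ≫ (Over.homMk k hk : 𝟙_ (Over S) ⟶ G) := Over.OverMorphism.ext hk'
  rw [← hd]
  simp only [d, inv_mul_cancel_right]


end Groth.Agent.S11438
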