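import Groth.Statements.S11439
import Groth.Agent.Rigid.BijOver

set_option autoImplicit false
universe u
open CategoryTheory MonoidalCategory CartesianMonoidalCategory MonObj GrpObj AlgebraicGeometry Topology
open GIT

namespace Groth.Agent.S11439

/-- Let S be locally Noetherian, G a locally Noetherian group scheme separated over S, X → S proper and
flat with κ(s) → H⁰(X_s, O_{X_s}) bijective for every s, and Y connected, locally Noetherian,
separated over S with a section over S. Then every morphism f : X ×_S Y → G over S factors as f = (g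
∘ p₁) · (h ∘ p₂) with g : X → G and h : Y → G. -/
theorem result (S : Scheme.{u}) [IsLocallyNoetherian S]
    (X Y G : Over S) [GrpObj G] [IsLocallyNoetherian G.left] [IsSeparated G.hom] [IsProper X.hom] [Flat X.hom]
    (h0 : ∀ s : S, Function.Bijective (Limits.pullback.snd X.hom (S.fromSpecResidueField s)).appTop)
    [IsLocallyNoetherian Y.left] [IsSeparated Y.hom] [ConnectedSpace Y.left] (e : 𝟙_ (Over S) ⟶ Y)
    (f : X ⊗ Y ⟶ G) :
    ∃ (g : X ⟶ G) (h : Y ⟶ G), f = (fst X Y ≫ g) * (snd X Y ≫ h) := by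

  haveI : LocallyOfFinitePresentation X.hom := inferInstance
  haveI : Surjective X.hom := Groth.Agent.Rigid.surjective_of_bijective X.hom h0
  let p₂ := (snd X Y).left
  haveI : IsProper p₂ := inferInstanceAs (IsProper (Limits.pullback.snd X.hom Y.hom))
  haveI : Flat p₂ := inferInstanceAs (Flat (Limits.pullback.snd X.hom Y.hom))
  haveI : LocallyOfFinitePresentation p₂ := inferInstanceAs (LocallyOfFinitePresentation (Limits.pullback.snd X.hom Y.hom))
  haveI : Surjective p₂ := inferInstanceAs (Surjective (Limits.pullback.snd X.hom Y.hom))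
  have hg₂ : Groth.Agent.Rigid.GoodFibres p₂ := (Groth.Agent.Rigid.goodFibres_of_bijective X.hom h0).of_isPullback
    (IsPullback.of_hasPullback X.hom Y.hom)
  let g : X ⟶ G := lift (𝟙 X) (toUnit X ≫ e) ≫ f
  let φ : X ⊗ Y ⟶ G := (fst X Y ≫ g)⁻¹ * f
  have hax : lift (𝟙 X) (toUnit X ≫ e) ≫ φ = 1 := by
    simp only [φ, MonObj.comp_mul, GrpObj.comp_inv, lift_fst_assoc, Category.id_comp]
    exact inv_mul_cancel _
  obtain ⟨y₁⟩ : Nonempty Y.left := inferInstance
  have key : ∀ w, p₂ w = e.left (Y.hom y₁) → φ.left w = η[G].left (Y.hom y₁) := by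
    intro w hw
    obtain ⟨x, rfl⟩ := Groth.Agent.Rigid.exists_lift_of_snd e w _ hw
    have hx : X.hom x = Y.hom y₁ := by
      have e' := congrArg Y.hom hw
      rw [← Scheme.Hom.comp_apply, ← Scheme.Hom.comp_apply, ← Scheme.Hom.comp_apply, Over.w e,
        show p₂ ≫ Y.hom = (X ⊗ Y).hom from Over.w (snd X Y), Over.w (lift (𝟙 X) (toUnit X ≫ e))] at e'
      exact e'
    refine (congrArg (fun m => m.left x) (hax.trans Hom.one_def)).trans ?_
    change η[G].left (X.hom x) = _
    rw [hx]
  have hcol : (φ.left '' (p₂ ⁻¹' {e.left (Y.hom y₁)})).Subsingleton := by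
    rintro _ ⟨x, hx, rfl⟩ _ ⟨x', hx', rfl⟩
    rw [key x hx, key x' hx']
  obtain ⟨k, ⟨hk, hk'⟩, -⟩ := Groth.Agent.Rigid.exists_factor_of_connected p₂ hg₂ Y.hom G.hom φ.left
    (by rw [Over.w φ, Over.w (snd X Y)]) _ hcol
  refine ⟨g, Over.homMk k hk, ?_⟩
  have hd : φ = snd X Y ≫ (Over.homMk k hk : Y ⟶ G) := Over.OverMorphism.ext hk'
  rw [← hd]
  simp only [φ, mul_inv_cancel_left]


end Groth.Agent.S11439
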