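import Groth.Statements.S1145
-- import your own Groth.Agent.* helpers here
import Groth.Agent.Purity.AtInfinity

set_option autoImplicit false
universe u
open Pi1

namespace Groth.Agent.S1145

open AlgebraicGeometry CategoryTheory CategoryTheory.Limits in
/-- Let X be a scheme and U a dense open subscheme with quasi-compact inclusion such that every point of
the complement of U is closed and, for every such point x and every strict henselization R of the
local ring at x, the punctured spectrum of R is connected. Then restriction of finite etale covers
from X to U is fully faithful. -/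
theorem result {X : Scheme.{u}} (U : X.Opens)
    (hU : Dense (U : Set X)) [QuasiCompact U.ι] (hcl : ∀ x : X, x ∉ U → IsClosed ({x} : Set X))
    (hsh : ∀ x : X, x ∉ U → ∀ (R : Type u) [CommRing R] [IsLocalRing R] [Algebra (X.presheaf.stalk x) R]
      [IsLocalHom (algebraMap (X.presheaf.stalk x) R)] [Hensel.IsStrictHenselization (X.presheaf.stalk x) R],
      ConnectedSpace (FEt.puncturedSpec R : Scheme.{u})) :
    (FEt.restrict U.ι).Full ∧ (FEt.restrict U.ι).Faithful := by
  refine Groth.Agent.Purity.restrict_full_faithful_of_clopen U.ι fun Z π hf he C hC => ?_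
  haveI : IsFinite π := hf
  haveI : Etale π := he
  refine Groth.Agent.Purity.existsUnique_clopen_of_punctured U hU hsh π (fun D hD z hz => ?_) hC
  let V : (pullback π U.ι).Opens := ⟨D, hD.2⟩
  haveI : IsClosedImmersion V.ι := IsClosedImmersion.of_isPreimmersion V.ι (by
    rw [Scheme.Opens.range_ι]; exact hD.1)
  haveI : QuasiCompact (pullback.fst π U.ι) := MorphismProperty.pullback_fst (P := @QuasiCompact) _ _ ‹_›
  obtain ⟨y, hy⟩ := Groth.Agent.FpqcDescent.exists_specializes_of_mem_closure (V.ι ≫ pullback.fst π U.ι)
    (x := z) (by
      have e : Set.range (V.ι ≫ pullback.fst π U.ι) = pullback.fst π U.ι '' D := by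
        rw [Scheme.Hom.comp_base, TopCat.coe_comp, Set.range_comp, Scheme.Opens.range_ι]
        rfl
      rw [e]; exact hz)
  exact ⟨V.ι y, y.2, hy⟩

end Groth.Agent.S1145
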