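import Groth.Statements.S11450
import Mathlib
import Groth.Agent.EtMilLib.TorEpi

set_option autoImplicit false
universe u
open CategoryTheory
open DefT

namespace Groth.Agent.S11450

/-- A module M over a Noetherian commutative ring A is flat if and only if Tor_1^A(M, A/p) vanishes for
every prime ideal p of A. -/
theorem result (A : Type u) [CommRing A]
    [IsNoetherianRing A] (M : Type u) [AddCommGroup M] [Module A M] :
    Module.Flat A M ↔ ∀ p : Ideal A, p.IsPrime →
      Limits.IsZero (((CategoryTheory.Tor (ModuleCat.{u} A) 1).obj (ModuleCat.of A M)).obj (ModuleCat.of A (A ⧸ p))) := by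
  classical
  open scoped TensorProduct in
  open MonoidalCategory in
  have htor : ∀ (X : ModuleCat.{u} A) (P : ProjectiveResolution X),
      Limits.IsZero (((CategoryTheory.Tor (ModuleCat.{u} A) 1).obj (ModuleCat.of A M)).obj X) ↔
        Function.Injective ((LinearMap.ker (P.π.f 0).hom).subtype.lTensor M) := by
    intro X P
    obtain ⟨d', hd1, hd', hex⟩ := Groth.Agent.EtMilLib.pres P M
    let F := (MonoidalCategory.tensoringLeft (ModuleCat.{u} A)).obj (ModuleCat.of A M)
    let K := (F.mapHomologicalComplex (ComplexShape.down ℕ)).obj P.complex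
    have e : Limits.IsZero (((CategoryTheory.Tor (ModuleCat.{u} A) 1).obj (ModuleCat.of A M)).obj X) ↔
        Function.Exact ((P.complex.d 2 1).hom.lTensor M) ((P.complex.d 1 0).hom.lTensor M) := by
      refine (P.isoLeftDerivedObj F 1).isZero_iff.trans ?_
      refine (HomologicalComplex.exactAt_iff_isZero_homology K 1).symm.trans ?_
      rw [HomologicalComplex.exactAt_iff' K 2 1 0 (by simp) (by simp)]
      exact ShortComplex.ShortExact.moduleCat_exact_iff_function_exact _
    have hcomp : (P.complex.d 1 0).hom.lTensor M =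
        (LinearMap.ker (P.π.f 0).hom).subtype.lTensor M ∘ₗ d'.lTensor M := by
      rw [← LinearMap.lTensor_comp, hd1]
    rw [e]
    constructor
    · intro h
      rw [injective_iff_map_eq_zero]
      intro z hz
      obtain ⟨y, rfl⟩ := LinearMap.lTensor_surjective M hd' z
      obtain ⟨w, rfl⟩ := (h y).1 (by rw [hcomp]; exact hz)
      exact hex.apply_apply_eq_zero w
    · intro h y
      refine ⟨fun hy => (hex y).1 ?_, ?_⟩
      · refine h ?_
        rw [hcomp] at hy
        rw [map_zero]; exact hy
      · rintro ⟨w, rfl⟩
        rw [hcomp]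
        show (LinearMap.ker (P.π.f 0).hom).subtype.lTensor M (d'.lTensor M _) = 0
        rw [hex.apply_apply_eq_zero w, map_zero]
  constructor
  · intro hflat p _
    exact (htor _ (ProjectiveResolution.of _)).2
      (Module.Flat.lTensor_preserves_injective_linearMap _ Subtype.val_injective)
  intro h
  let Q : ∀ (N : Type u) [AddCommGroup N] [Module A N], Prop := fun N _ _ =>
    ∀ (P : Type u) [AddCommGroup P] [Module A P] [Module.Projective A P] (π : P →ₗ[A] N),
      Function.Surjective π → Function.Injective ((LinearMap.ker π).subtype.lTensor M)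
  have hQ : ∀ (N : Type u) [AddCommGroup N] [Module A N], Module.Finite A N → Q N := by
    intro N _ _ hfin
    refine IsNoetherianRing.induction_on_isQuotientEquivQuotientPrime A hfin
      (motive := fun N _ _ _ => Q N) ?_ ?_ ?_
    · intro N _ _ _ _
      intro P _ _ _ π _
      refine Function.LeftInverse.injective (g := (LinearMap.id.codRestrict (LinearMap.ker π)
        fun x => LinearMap.mem_ker.2 (Subsingleton.elim _ _)).lTensor M) fun x => ?_
      rw [← LinearMap.comp_apply, ← LinearMap.lTensor_comp]
      exact (congrArg (fun f => LinearMap.lTensor M f x) (LinearMap.ext fun z => rfl)).trans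
        (LinearMap.lTensor_id_apply M _ x)
    · intro N _ _ _ p e
      intro P _ _ _ π hπ
      let R := ProjectiveResolution.of (ModuleCat.of A (A ⧸ p.1))
      have h0 := (htor _ R).1 (h p.1 p.2)
      let P0 := R.complex.X 0
      let π₀ : P0 →ₗ[A] A ⧸ p.1 := (R.π.f 0).hom
      haveI : Module.Projective A P0 := (ModuleCat.projective_of_module_projective P0)
      have hπ₀ : Function.Surjective π₀ := (ModuleCat.epi_iff_surjective (R.π.f 0)).1 inferInstance
      obtain ⟨a, ha⟩ := Module.projective_lifting_property π₀ (e.toLinearMap ∘ₗ π) hπ₀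
      obtain ⟨b, hb⟩ := Module.projective_lifting_property (e.toLinearMap ∘ₗ π) π₀ (e.surjective.comp hπ)
      let θ : P →ₗ[A] LinearMap.ker π := (LinearMap.id - b ∘ₗ a).codRestrict _ fun x => by
        have h1 := LinearMap.congr_fun ha x
        have h2 := LinearMap.congr_fun hb (a x)
        simp only [LinearMap.comp_apply, LinearEquiv.coe_coe] at h1 h2
        rw [h1] at h2
        rw [LinearMap.mem_ker, LinearMap.sub_apply, map_sub, sub_eq_zero]
        exact (e.injective h2).symm
      let a' : LinearMap.ker π →ₗ[A] LinearMap.ker π₀ := (a ∘ₗ (LinearMap.ker π).subtype).codRestrict _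
        fun x => by
          have h1 := LinearMap.congr_fun ha x.1
          simp only [LinearMap.comp_apply, LinearEquiv.coe_coe] at h1
          rw [LinearMap.mem_ker]
          exact h1.trans (by rw [LinearMap.mem_ker.1 x.2, map_zero])
      let b' : LinearMap.ker π₀ →ₗ[A] LinearMap.ker π := (b ∘ₗ (LinearMap.ker π₀).subtype).codRestrict _
        fun x => by
          have h2 := LinearMap.congr_fun hb x.1
          simp only [LinearMap.comp_apply, LinearEquiv.coe_coe] at h2
          rw [LinearMap.mem_ker]
          exact e.injective (h2.trans ((LinearMap.mem_ker.1 x.2).trans (map_zero e).symm))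
      rw [injective_iff_map_eq_zero]
      intro x hx
      have hid : (LinearMap.id : LinearMap.ker π →ₗ[A] LinearMap.ker π) =
          θ ∘ₗ (LinearMap.ker π).subtype + b' ∘ₗ a' := by
        ext z; simp [θ, a', b']
      have hcomm := congrArg (fun φ => LinearMap.lTensor M φ x)
        (show (LinearMap.ker π₀).subtype ∘ₗ a' = a ∘ₗ (LinearMap.ker π).subtype from rfl)
      simp only [LinearMap.lTensor_comp, LinearMap.comp_apply] at hcomm
      rw [hx, map_zero] at hcomm
      have ha0 : a'.lTensor M x = 0 := (injective_iff_map_eq_zero _).1 h0 _ hcomm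
      rw [← LinearMap.lTensor_id_apply M _ x, hid, LinearMap.lTensor_add, LinearMap.add_apply,
        LinearMap.lTensor_comp, LinearMap.lTensor_comp, LinearMap.comp_apply, LinearMap.comp_apply, hx,
        ha0, map_zero, map_zero, add_zero]
    · intro N₁ _ _ _ N₂ _ _ _ N₃ _ _ _ f g hf hg hfg h₁ h₃
      intro P _ _ _ π hπ
      let π₃ := g ∘ₗ π
      let K₂ := LinearMap.ker π
      let K₃ := LinearMap.ker π₃
      let ef := LinearEquiv.ofInjective f hf
      let c : K₃ →ₗ[A] N₁ := ef.symm.toLinearMap ∘ₗ (π ∘ₗ K₃.subtype).codRestrict (LinearMap.range f)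
        fun z => (hfg _).1 z.2
      have hc : ∀ z, f (c z) = π z := fun z => congrArg Subtype.val (ef.apply_symm_apply _)
      have hcs : Function.Surjective c := by
        intro n
        obtain ⟨y, hy⟩ := hπ (f n)
        refine ⟨⟨y, show g (π y) = 0 by rw [hy]; exact hfg.apply_apply_eq_zero n⟩, hf ?_⟩
        rw [hc]; exact hy
      let G := K₃ →₀ A
      let s : G →ₗ[A] K₃ := Finsupp.linearCombination A id
      have hs : Function.Surjective s := Finsupp.linearCombination_id_surjective A K₃
      let L := LinearMap.ker (c ∘ₗ s)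
      let q : L →ₗ[A] K₂ := (K₃.subtype ∘ₗ s ∘ₗ L.subtype).codRestrict _ fun l => by
        rw [LinearMap.mem_ker, LinearMap.comp_apply, LinearMap.comp_apply, Submodule.coe_subtype, ← hc,
          Submodule.coe_subtype, LinearMap.mem_ker.1 (show c (s l.1) = 0 from l.2), map_zero]
      have hq : Function.Surjective q := by
        intro z
        obtain ⟨y, hy⟩ := hs ⟨z.1, show g (π z.1) = 0 by rw [LinearMap.mem_ker.1 z.2, map_zero]⟩
        refine ⟨⟨y, hf ?_⟩, Subtype.ext (show (s y).1 = z.1 from congrArg Subtype.val hy)⟩
        rw [LinearMap.comp_apply, hc, map_zero, hy]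
        exact z.2
      let r : LinearMap.ker s →ₗ[A] L := Submodule.inclusion fun y hy => by
        rw [LinearMap.mem_ker, LinearMap.comp_apply, LinearMap.mem_ker.1 hy, map_zero]
      let j : K₂ →ₗ[A] K₃ := Submodule.inclusion fun y hy => by
        rw [LinearMap.mem_ker, LinearMap.comp_apply, LinearMap.mem_ker.1 hy, map_zero]
      rw [injective_iff_map_eq_zero]
      intro x hx
      have hx3 : j.lTensor M x = 0 := (injective_iff_map_eq_zero _).1 (h₃ P π₃ (hg.comp hπ)) _ (by
        rw [← LinearMap.comp_apply, ← LinearMap.lTensor_comp]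
        exact hx)
      obtain ⟨y, rfl⟩ := LinearMap.lTensor_surjective M hq x
      have hy : s.lTensor M (L.subtype.lTensor M y) = 0 := by
        rw [← LinearMap.comp_apply, ← LinearMap.lTensor_comp, ← hx3, ← LinearMap.comp_apply (j.lTensor M),
          ← LinearMap.lTensor_comp]
        rfl
      have hexs : Function.Exact (LinearMap.ker s).subtype s :=
        fun y => ⟨fun h => ⟨⟨y, h⟩, rfl⟩, fun ⟨w, hw⟩ => hw ▸ w.2⟩
      obtain ⟨z, hz⟩ := ((lTensor_exact (R := A) (M := ↥(LinearMap.ker s)) (N := G) (P := ↥K₃) (f := (LinearMap.ker s).subtype) (g := s) M hexs hs) _).1 hy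
      have hyz : y = r.lTensor M z := by
        refine h₁ G (c ∘ₗ s) (hcs.comp hs) ?_
        rw [← hz]
        show _ = L.subtype.lTensor M (r.lTensor M z)
        rw [← LinearMap.comp_apply, ← LinearMap.lTensor_comp]
        rfl
      rw [hyz, ← LinearMap.comp_apply, ← LinearMap.lTensor_comp,
        show q ∘ₗ r = 0 from LinearMap.ext fun w => Subtype.ext (show ((s w.1).1 : P) = 0 from congrArg Subtype.val (LinearMap.mem_ker.1 w.2)), LinearMap.lTensor_zero,
        LinearMap.zero_apply]
  rw [Module.Flat.iff_lTensor_injective']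
  intro I
  have h' := hQ (A ⧸ I) (Module.Finite.quotient A I) A (Submodule.mkQ I) (Submodule.mkQ_surjective I)
  rw [Submodule.ker_mkQ] at h'
  exact h'

end Groth.Agent.S11450
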