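import Groth.Statements.S11452
import Groth.Agent.TrivDef.Basic
import Groth.Agent.NilAffine.Main
import Groth.Agent.GenBertini.Basic

set_option autoImplicit false
universe u
open CategoryTheory AlgebraicGeometry
open DefT

namespace Groth.Agent.S11452

/-- Let k be an algebraically closed field, X an affine scheme of finite type over k whose local rings
are all regular, A a local Artin k-algebra with a k-algebra augmentation e : A → k, and g : X' →
Spec A a flat morphism whose fibre over the k-point Spec k → Spec A given by e is X (with its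
structure map to Spec k). Then there is an isomorphism from X' to the trivial deformation X ×_{Spec
k} Spec A compatible with the projections to Spec A. -/
theorem result (k : Type u) [Field k]
    [IsAlgClosed k] (X : Scheme.{u}) (hX : X ⟶ Spec (CommRingCat.of k)) [IsAffine X]
    [LocallyOfFiniteType hX] (hreg : ∀ x : X, IsRegularLocalRing (X.presheaf.stalk x))
    (A : Type u) [CommRing A] [IsLocalRing A] [IsArtinianRing A] [Algebra k A] (e : A →ₐ[k] k)
    (X' : Scheme.{u}) (g : X' ⟶ Spec (CommRingCat.of A)) [Flat g] (i : X ⟶ X')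
    (hsq : IsPullback i hX g (Spec.map (CommRingCat.ofHom e.toRingHom))) :
    ∃ φ : X' ≅ Limits.pullback hX (Spec.map (CommRingCat.ofHom (algebraMap k A))),
      φ.hom ≫ Limits.pullback.snd hX (Spec.map (CommRingCat.ofHom (algebraMap k A))) = g := by
  have hme : RingHom.ker e.toRingHom = IsLocalRing.maximalIdeal A := by
    haveI : (RingHom.ker e.toRingHom).IsMaximal :=
      RingHom.ker_isMaximal_of_surjective _ (fun c => ⟨algebraMap k A c, e.commutes c⟩)
    exact IsLocalRing.eq_maximalIdeal inferInstance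
  let ι := Spec.map (CommRingCat.ofHom e.toRingHom)
  haveI : IsClosedImmersion ι :=
    IsClosedImmersion.spec_of_surjective _ (fun c => ⟨algebraMap k A c, e.commutes c⟩)
  haveI : Surjective ι := ⟨fun q => ⟨⟨⊥, Ideal.isPrime_bot⟩, by
    refine PrimeSpectrum.ext ?_
    show (⊥ : Ideal k).comap e.toRingHom = q.asIdeal
    rw [← RingHom.ker_eq_comap_bot, hme]
    exact (IsLocalRing.eq_maximalIdeal (IsArtinianRing.isMaximal_of_isPrime q.asIdeal)).symm⟩⟩
  haveI : IsClosedImmersion i := MorphismProperty.of_isPullback (P := @IsClosedImmersion) hsq.flip inferInstance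
  haveI : Surjective i := MorphismProperty.of_isPullback (P := @Surjective) hsq.flip inferInstance
  haveI : IsAffine X' := NilAffine.isAffine_of_surjective i
  let φ : CommRingCat.of k ⟶ Γ(X, ⊤) := (Scheme.ΓSpecIso (CommRingCat.of k)).inv ≫ hX.appTop
  let γ : CommRingCat.of A ⟶ Γ(X', ⊤) := (Scheme.ΓSpecIso (CommRingCat.of A)).inv ≫ g.appTop
  have H : IsPushout γ (CommRingCat.ofHom e.toRingHom) i.appTop φ := by
    refine (isPushout_appTop_of_isPullback hsq).of_iso (Scheme.ΓSpecIso (CommRingCat.of A)) (Iso.refl _)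
      (Scheme.ΓSpecIso (CommRingCat.of k)) (Iso.refl _) ?_ ?_ ?_ ?_
    · simp [γ]
    · exact Scheme.ΓSpecIso_naturality _
    · simp
    · simp [φ]
  letI : Algebra k Γ(X, ⊤) := φ.hom.toAlgebra
  letI : Algebra A Γ(X', ⊤) := γ.hom.toAlgebra
  letI : Algebra k Γ(X', ⊤) := (γ.hom.comp (algebraMap k A)).toAlgebra
  haveI : IsScalarTower k A Γ(X', ⊤) := IsScalarTower.of_algebraMap_eq fun _ => rfl
  have hwe : ∀ a, i.appTop (γ a) = φ (e a) := fun a => ConcreteCategory.congr_hom H.w a
  let π : Γ(X', ⊤) →ₐ[k] Γ(X, ⊤) :=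
    { i.appTop.hom with
      commutes' := fun c => by
        show i.appTop (γ (algebraMap k A c)) = φ c
        rw [hwe, AlgHom.commutes, Algebra.algebraMap_self_apply] }
  have hπ : Function.Surjective π := i.app_surjective ⊤ (isAffineOpen_top X')
  haveI : Module.Flat A Γ(X', ⊤) := by
    refine RingHom.flat_algebraMap_iff.1 ?_
    show γ.hom.Flat
    exact RingHom.Flat.comp (RingHom.Flat.of_bijective
      (ConcreteCategory.bijective_of_isIso (Scheme.ΓSpecIso (CommRingCat.of A)).inv))
      (HasRingHomProperty.appTop (P := @Flat) g inferInstance)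
  haveI : Algebra.FiniteType k Γ(X, ⊤) := by
    refine RingHom.finiteType_algebraMap.1 ?_
    show φ.hom.FiniteType
    exact RingHom.FiniteType.comp
      (HasRingHomProperty.appTop (P := @LocallyOfFiniteType) hX inferInstance)
      (RingHom.FiniteType.of_surjective _
        (ConcreteCategory.bijective_of_isIso (Scheme.ΓSpecIso (CommRingCat.of k)).inv).2)
  haveI : IsNoetherianRing Γ(X, ⊤) := Algebra.FiniteType.isNoetherianRing k _
  haveI : IsRegularRing Γ(X, ⊤) := ⟨fun q hq => by
    let x : X := (isAffineOpen_top X).fromSpec ⟨q, hq⟩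
    have hxq : (isAffineOpen_top X).primeIdealOf ⟨x, trivial⟩ = ⟨q, hq⟩ :=
      (isAffineOpen_top X).fromSpec.isOpenEmbedding.injective
        ((isAffineOpen_top X).fromSpec_primeIdealOf ⟨x, trivial⟩)
    letI := (X.presheaf.germ ⊤ x trivial).hom.toAlgebra
    haveI : IsLocalization.AtPrime (X.presheaf.stalk x) q := by
      have h := (isAffineOpen_top X).isLocalization_stalk ⟨x, trivial⟩
      rw [hxq] at h
      exact h
    haveI := hreg x
    exact IsRegularLocalRing.of_ringEquiv
      (IsLocalization.algEquiv q.primeCompl (X.presheaf.stalk x) (Localization.AtPrime q)).toRingEquiv⟩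
  haveI : Algebra.Smooth k Γ(X, ⊤) := GenBertini.smooth_of_regular k _
  obtain ⟨σ, hσ⟩ := TrivDef.exists_algEquiv k A Γ(X, ⊤) Γ(X', ⊤) e π hπ (fun b hb => by
    let q : Γ(X', ⊤) →+* Γ(X', ⊤) ⧸ (IsLocalRing.maximalIdeal A).map (algebraMap A Γ(X', ⊤)) :=
      Ideal.Quotient.mk _
    have hw : γ ≫ CommRingCat.ofHom q = CommRingCat.ofHom e.toRingHom ≫
        CommRingCat.ofHom (q.comp (algebraMap k Γ(X', ⊤))) := by
      refine CommRingCat.hom_ext (RingHom.ext fun a => ?_)
      show q (γ a) = q (γ (algebraMap k A (e a)))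
      refine Ideal.Quotient.eq.2 ?_
      rw [← map_sub]
      refine Ideal.mem_map_of_mem (algebraMap A Γ(X', ⊤)) ?_
      rw [← hme]
      show e (a - algebraMap k A (e a)) = 0
      simp
    have e2 := ConcreteCategory.congr_hom (H.inl_desc _ _ hw) b
    rw [CommRingCat.comp_apply, show i.appTop b = 0 from hb, map_zero] at e2
    exact Ideal.Quotient.eq_zero_iff_mem.1 e2.symm) hwe
  let Ψ := Algebra.TensorProduct.lift (Algebra.ofId A Γ(X', ⊤)) σ (fun _ _ => Commute.all _ _)
  have HP : IsPushout φ (CommRingCat.ofHom (algebraMap k A)) (CommRingCat.ofHom σ.toRingHom) γ := by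
    refine ((CommRingCat.isPushout_tensorProduct k A Γ(X, ⊤)).flip).of_iso (Iso.refl _) (Iso.refl _)
      (Iso.refl _) (RingEquiv.ofBijective Ψ hσ).toCommRingCatIso ?_ ?_ ?_ ?_
    · rfl
    · rfl
    · refine CommRingCat.hom_ext (RingHom.ext fun r => ?_)
      show Ψ (1 ⊗ₜ r) = σ r
      simp [Ψ]
    · refine CommRingCat.hom_ext (RingHom.ext fun a => ?_)
      show Ψ (a ⊗ₜ 1) = γ a
      simp [Ψ]
      rfl
  have eX : hX = X.isoSpec.hom ≫ Spec.map φ := by
    rw [Spec.map_comp, Scheme.isoSpec_hom_naturality_assoc, Scheme.isoSpec_Spec_hom, ← Spec.map_comp,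
      Iso.inv_hom_id, Spec.map_id, Category.comp_id]
  have eg : g = X'.isoSpec.hom ≫ Spec.map γ := by
    rw [Spec.map_comp, Scheme.isoSpec_hom_naturality_assoc, Scheme.isoSpec_Spec_hom, ← Spec.map_comp,
      Iso.inv_hom_id, Spec.map_id, Category.comp_id]
  have P : IsPullback (X'.isoSpec.hom ≫ Spec.map (CommRingCat.ofHom σ.toRingHom) ≫ X.isoSpec.inv) g hX
      (Spec.map (CommRingCat.ofHom (algebraMap k A))) := by
    refine (isPullback_SpecMap_of_isPushout _ _ _ _ HP).of_iso X'.isoSpec.symm X.isoSpec.symm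
      (Iso.refl _) (Iso.refl _) ?_ ?_ ?_ ?_
    · simp
    · rw [eg]; simp
    · rw [eX]; simp
    · simp
  exact ⟨P.isoPullback, P.isoPullback_hom_snd⟩

end Groth.Agent.S11452
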