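import Groth.Statements.S11453

import Mathlib

set_option autoImplicit false
universe u
open scoped Polynomial
open DefT

namespace Groth.Agent.S11453


open Polynomial

section Core

variable {k : Type u} [Field k]

/-- the comparison `k[x][y] → k[X₀,X₁]` -/
noncomputable def psi (i0 i1 : Fin 2) : (k[X])[X] →+* MvPolynomial (Fin 2) k :=
  Polynomial.eval₂RingHom (Polynomial.aeval (MvPolynomial.X i0 : MvPolynomial (Fin 2) k)).toRingHom
    (MvPolynomial.X i1)

noncomputable def theta (i0 : Fin 2) : MvPolynomial (Fin 2) k →+* (k[X])[X] :=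
  MvPolynomial.eval₂Hom (Polynomial.C.comp Polynomial.C)
    (fun i => if i = i0 then Polynomial.C Polynomial.X else Polynomial.X)

lemma psi_theta {i0 i1 : Fin 2} (h : i0 ≠ i1) (f : MvPolynomial (Fin 2) k) :
    psi i0 i1 (theta i0 f) = f := by
  have : (psi i0 i1).comp (theta i0) = RingHom.id (MvPolynomial (Fin 2) k) := by
    apply MvPolynomial.ringHom_ext
    · intro a; simp [psi, theta]
    · intro i
      by_cases hi : i = i0
      · subst hi; simp [psi, theta]
      · have : i = i1 := by omega
        subst this; simp [psi, theta, hi]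
  exact DFunLike.congr_fun this f

lemma theta_psi {i0 i1 : Fin 2} (h : i0 ≠ i1) (f : (k[X])[X]) :
    theta i0 (psi i0 i1 f) = f := by
  have : (theta i0).comp (psi i0 i1) = RingHom.id ((k[X])[X]) := by
    apply Polynomial.ringHom_ext'
    · apply Polynomial.ringHom_ext
      · intro a; simp [psi, theta]
      · simp [psi, theta]
    · simp [psi, theta, h.symm]
  exact DFunLike.congr_fun this f

/-- monic polynomial of minimal degree in `I`, congruent to `Y^m` mod `x` -/
lemma exists_weierstrass (I : Ideal (k[X])[X]) (hI : I ≠ ⊤)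
    (hx : ∃ N, (C X : (k[X])[X]) ^ N ∈ I) (hy : ∃ N, (X : (k[X])[X]) ^ N ∈ I)
    (hIx : I ⊔ Ideal.span {C X} ≠ ⊤) :
    ∃ G : (k[X])[X], G.Monic ∧ 1 ≤ G.natDegree ∧ G ∈ I ∧
      ∀ F ∈ I, C X ∣ F %ₘ G := by
  classical
  have hex : ∃ n, (X : (k[X])[X]) ^ n ∈ I ⊔ Ideal.span {C X} := by
    obtain ⟨N, hN⟩ := hy
    exact ⟨N, Ideal.mem_sup_left hN⟩
  let m := Nat.find hex
  have hm : (X : (k[X])[X]) ^ m ∈ I ⊔ Ideal.span {C X} := Nat.find_spec hex
  have hm1 : 1 ≤ m := by
    by_contra h0
    have : m = 0 := by omega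
    rw [this, pow_zero] at hm
    exact hIx ((Ideal.eq_top_iff_one _).2 hm)
  obtain ⟨a, ha, b, hb, hab⟩ := Submodule.mem_sup.1 hm
  obtain ⟨H, rfl⟩ := Ideal.mem_span_singleton.1 hb
  have hXm : (X ^ m : (k[X])[X]).Monic := monic_X_pow m
  -- division with small remainder
  have key : ∀ (n : ℕ) (F : (k[X])[X]), ∃ r : (k[X])[X], r.degree < m ∧
      F - r ∈ I ⊔ Ideal.span {(C X : (k[X])[X]) ^ n} := by
    intro n
    induction n with
    | zero =>
      intro F
      refine ⟨0, by simp, ?_⟩
      rw [pow_zero, Ideal.span_singleton_one, sup_top_eq]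
      exact Submodule.mem_top
    | succ n ih =>
      intro F
      obtain ⟨r, hr, hrF⟩ := ih (H * (F /ₘ X ^ m))
      refine ⟨F %ₘ X ^ m + C X * r, ?_, ?_⟩
      · refine lt_of_le_of_lt (degree_add_le _ _) (max_lt ?_ ?_)
        · simpa using degree_modByMonic_lt F hXm
        · exact lt_of_le_of_lt (by rw [← smul_eq_C_mul]; exact degree_smul_le _ _) hr
      · obtain ⟨u, hu, v, hv, huv⟩ := Submodule.mem_sup.1 hrF
        obtain ⟨w, rfl⟩ := Ideal.mem_span_singleton.1 hv
        have hF := modByMonic_add_div F (X ^ m)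
        refine Submodule.mem_sup.2 ⟨a * (F /ₘ X ^ m) + C X * u, ?_, (C X) ^ (n + 1) * w, ?_, ?_⟩
        · exact add_mem (I.mul_mem_right _ ha) (I.mul_mem_left _ hu)
        · exact Ideal.mem_span_singleton.2 ⟨w, rfl⟩
        · linear_combination (F /ₘ X ^ m) * hab + (C X : (k[X])[X]) * huv + hF
  obtain ⟨N, hN⟩ := hx
  obtain ⟨r, hr, hrH⟩ := key N H
  have hrH' : H - r ∈ I :=
    (sup_le le_rfl (Ideal.span_le.2 (Set.singleton_subset_iff.2 hN))) hrH
  let G : (k[X])[X] := X ^ m - C X * r
  have hdeg : (C X * r : (k[X])[X]).degree < m :=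
    lt_of_le_of_lt (by rw [← smul_eq_C_mul]; exact degree_smul_le _ _) hr
  have hGm : G.Monic := hXm.sub_of_left (by rwa [degree_X_pow])
  have hGdeg : G.degree = m := by
    rw [show G = X ^ m - C X * r from rfl, degree_sub_eq_left_of_degree_lt (by rwa [degree_X_pow]),
      degree_X_pow]
  have hGI : G ∈ I := by
    have : G = a + C X * (H - r) := by
      simp only [G]; linear_combination -hab
    rw [this]
    exact add_mem ha (I.mul_mem_left _ hrH')
  refine ⟨G, hGm, ?_, hGI, ?_⟩
  · rw [natDegree_eq_of_degree_eq_some hGdeg]; exact hm1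
  · intro F hF
    have hrI : F %ₘ G ∈ I := by
      rw [eq_sub_of_add_eq (modByMonic_add_div F G)]
      exact sub_mem hF (I.mul_mem_right _ hGI)
    -- restrict to `x = 0`
    let e : (k[X])[X] →+* k[X] := mapRingHom (evalRingHom (0 : k))
    have hesurj : Function.Surjective e := map_surjective _ (fun c => ⟨C c, by simp⟩)
    have hXpow : ∀ j, (X : k[X]) ^ j ∈ I.map e → m ≤ j := by
      intro j hj
      obtain ⟨p, hp, hpe⟩ := (Ideal.mem_map_iff_of_surjective e hesurj).1 hj
      refine Nat.find_min' hex ?_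
      have hdvd : (C X : (k[X])[X]) ∣ X ^ j - p := by
        rw [C_dvd_iff_dvd_coeff]
        intro i
        rw [X_dvd_iff, coeff_zero_eq_eval_zero]
        have := congrArg (fun q : k[X] => q.coeff i) hpe
        simp only [e, coe_mapRingHom, coeff_map, coe_evalRingHom] at this
        simp [this, coeff_X_pow, apply_ite (Polynomial.eval (0 : k))]
      have hsub := Ideal.mem_sup_right (S := I) (Ideal.mem_span_singleton.2 hdvd)
      simpa using add_mem (Ideal.mem_sup_left hp) hsub
    obtain ⟨d, hd⟩ := (IsPrincipalIdealRing.principal (I.map e)).principal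
    have hXm' : (X : k[X]) ^ m ∈ I.map e := by
      have h := Ideal.mem_map_of_mem e ha
      have h2 : e a = X ^ m := by
        have := congrArg e hab
        simpa [e] using this
      rwa [h2] at h
    rw [hd] at hXm'
    obtain ⟨j, hj, hassoc⟩ := (dvd_prime_pow prime_X m).1 (Ideal.mem_span_singleton.1 hXm')
    have hjm : j = m := le_antisymm hj (hXpow j (by
      rw [hd]; exact Ideal.mem_span_singleton.2 hassoc.dvd))
    have h0 : e (F %ₘ G) = 0 := by
      have hmem := Ideal.mem_map_of_mem e hrI
      rw [hd] at hmem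
      have hdvd : (X : k[X]) ^ m ∣ e (F %ₘ G) :=
        hjm ▸ hassoc.symm.dvd.trans (Ideal.mem_span_singleton.1 hmem)
      refine eq_zero_of_dvd_of_degree_lt hdvd ?_
      rw [degree_X_pow]
      exact lt_of_le_of_lt degree_map_le (by rw [← hGdeg]; exact degree_modByMonic_lt F hGm)
    rw [C_dvd_iff_dvd_coeff]
    intro i
    rw [X_dvd_iff, coeff_zero_eq_eval_zero]
    have := congrArg (fun q : k[X] => q.coeff i) h0
    simpa [e, coeff_map] using this

lemma smul_mem_span_monic {G F : (k[X])[X]} (hG : G.Monic) {p : k[X]} (hp : p ≠ 0)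
    (h : G ∣ C p * F) : G ∣ F := by
  rw [← modByMonic_eq_zero_iff_dvd hG] at h ⊢
  rw [← smul_eq_C_mul, smul_modByMonic] at h
  exact (smul_eq_zero.1 h).resolve_left hp

lemma mem_span_X_sub_C (p : Fin 2 → k) (f : MvPolynomial (Fin 2) k)
    (hf : MvPolynomial.eval p f = 0) :
    f ∈ Ideal.span (Set.range (fun i : Fin 2 => MvPolynomial.X i - MvPolynomial.C (p i))) := by
  have key : ∀ g : MvPolynomial (Fin 2) k, g - MvPolynomial.C (MvPolynomial.eval p g) ∈
      Ideal.span (Set.range (fun i : Fin 2 => MvPolynomial.X i - MvPolynomial.C (p i))) := by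
    intro g
    induction g using MvPolynomial.induction_on with
    | C a => simp
    | add a b ha hb =>
      have := add_mem ha hb
      convert this using 1
      simp; ring
    | mul_X a i ha =>
      have h1 := Ideal.mul_mem_right (MvPolynomial.X i) _ ha
      have h2 := Ideal.mul_mem_left _ (MvPolynomial.C (MvPolynomial.eval p a))
        (Ideal.subset_span ⟨i, rfl⟩ : MvPolynomial.X i - MvPolynomial.C (p i) ∈
          Ideal.span (Set.range (fun i : Fin 2 => MvPolynomial.X i - MvPolynomial.C (p i))))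
      convert add_mem h1 h2 using 1
      simp; ring
  simpa [hf] using key f

lemma flat_of_torsion_free {S : Type u} [CommRing S] (f : k[X] →+* S)
    (h : ∀ (p : k[X]), p ≠ 0 → ∀ z, f p * z = 0 → z = 0) : f.Flat := by
  let _ : Algebra k[X] S := f.toAlgebra
  change Module.Flat k[X] S
  have : Module.IsTorsionFree k[X] S := Module.isTorsionFree_iff_smul_eq_zero.2 fun p z hz => by
    by_cases hp : p = 0
    · exact Or.inl hp
    · exact Or.inr (h p hp z (by rwa [Algebra.smul_def, RingHom.algebraMap_toAlgebra] at hz))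
  infer_instance

lemma finite_of_gens {S : Type u} [CommRing S] (f : k[X] →+* S) (xb yb : S)
    (P : (k[X])[X]) (hP : P.Monic) (hPx : P.eval₂ f xb = 0)
    (j : (k[X])[X]) (hj : j.Monic) (hjy : j.eval₂ (eval₂RingHom (f.comp C) xb) yb = 0)
    (hgen : ∀ T : Subring S, (∀ p, f p ∈ T) → xb ∈ T → yb ∈ T → ∀ z, z ∈ T) :
    f.Finite := by
  let _ : Algebra k[X] S := f.toAlgebra
  change Module.Finite k[X] S
  have hxint : IsIntegral k[X] xb := ⟨P, hP, by rw [RingHom.algebraMap_toAlgebra]; exact hPx⟩
  let Bx := Algebra.adjoin k[X] ({xb} : Set S)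
  have hyint : IsIntegral Bx yb := by
    have hmem : ∀ q : k[X], eval₂RingHom (f.comp C) xb q ∈ Bx := by
      intro q
      induction q using Polynomial.induction_on' with
      | add a b ha hb => rw [map_add]; exact add_mem ha hb
      | monomial n a =>
        rw [coe_eval₂RingHom, eval₂_monomial]
        refine mul_mem ?_ (pow_mem (Algebra.self_mem_adjoin_singleton _ _) n)
        exact (RingHom.algebraMap_toAlgebra f) ▸ Bx.algebraMap_mem (C a)
    let τ : k[X] →+* Bx := (eval₂RingHom (f.comp C) xb).codRestrict Bx hmem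
    exact ⟨j.map τ, hj.map _, by rw [eval₂_map]; exact hjy⟩
  have hfg := fg_adjoin_of_finite (R := k[X]) (Set.toFinite {xb, yb}) (by
    rintro z (rfl | rfl)
    · exact hxint
    · have : Algebra.IsIntegral k[X] Bx :=
        Algebra.IsIntegral.adjoin (by simpa using hxint)
      exact isIntegral_trans _ hyint)
  have htop : Algebra.adjoin k[X] ({xb, yb} : Set S) = ⊤ := by
    rw [eq_top_iff]
    rintro z -
    refine hgen (Algebra.adjoin k[X] ({xb, yb} : Set S)).toSubring (fun p => ?_)
      (Algebra.subset_adjoin (Or.inl rfl)) (Algebra.subset_adjoin (Or.inr rfl)) z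
    exact (RingHom.algebraMap_toAlgebra f) ▸
      (Algebra.adjoin k[X] ({xb, yb} : Set S)).algebraMap_mem p
  rw [htop, Algebra.top_toSubmodule] at hfg
  exact Module.Finite.of_fg_top hfg

end Core

set_option maxHeartbeats 1000000 in
theorem main (k : Type u) [Field k] [IsAlgClosed k]
    (𝔞 : Ideal (MvPolynomial (Fin 2) k))
    (hne : 𝔞 ≠ Ideal.span {MvPolynomial.X 0, MvPolynomial.X 1}) (hneTop : 𝔞 ≠ ⊤)
    (hsupp : 𝔞.radical = Ideal.span {MvPolynomial.X 0, MvPolynomial.X 1}) :
    ∃ 𝔞' : Ideal (MvPolynomial (Fin 2) k)[X],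
      RingHom.Flat (R := k[X]) (S := (MvPolynomial (Fin 2) k)[X] ⧸ 𝔞')
        ((Ideal.Quotient.mk 𝔞').comp (Polynomial.mapRingHom (algebraMap k (MvPolynomial (Fin 2) k)))) ∧
      RingHom.Finite (A := k[X]) (B := (MvPolynomial (Fin 2) k)[X] ⧸ 𝔞')
        ((Ideal.Quotient.mk 𝔞').comp (Polynomial.mapRingHom (algebraMap k (MvPolynomial (Fin 2) k)))) ∧
      Ideal.map (Polynomial.evalRingHom (0 : MvPolynomial (Fin 2) k)) 𝔞' = 𝔞 ∧
      ∀ c : k, c ≠ 0 →
        Ideal.map (Polynomial.evalRingHom (MvPolynomial.C c)) 𝔞' ≤ Ideal.span {MvPolynomial.X 0, MvPolynomial.X 1} ∧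
        ∃ p : Fin 2 → k, p ≠ 0 ∧
          Ideal.map (Polynomial.evalRingHom (MvPolynomial.C c)) 𝔞' ≤
            Ideal.span (Set.range (fun i : Fin 2 => MvPolynomial.X i - MvPolynomial.C (p i))) := by
  classical
  let 𝔪 : Ideal (MvPolynomial (Fin 2) k) := Ideal.span {MvPolynomial.X 0, MvPolynomial.X 1}
  have h𝔞m : 𝔞 ≤ 𝔪 := Ideal.le_radical.trans hsupp.le
  have hXm : ∀ i : Fin 2, (MvPolynomial.X i : MvPolynomial (Fin 2) k) ∈ 𝔪 := by
    intro i; fin_cases i <;> exact Ideal.subset_span (by simp)
  have hXrad : ∀ i : Fin 2, ∃ N, (MvPolynomial.X i : MvPolynomial (Fin 2) k) ^ N ∈ 𝔞 := by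
    intro i
    have h := hXm i
    rw [show 𝔪 = 𝔞.radical from hsupp.symm] at h
    exact h
  obtain ⟨i0, i1, hi, hx0⟩ : ∃ i0 i1 : Fin 2, i0 ≠ i1 ∧
      (MvPolynomial.X i0 : MvPolynomial (Fin 2) k) ∉ 𝔞 := by
    by_contra hcon
    push Not at hcon
    have h0 := hcon 0 1 (by decide)
    have h1 := hcon 1 0 (by decide)
    exact hne (le_antisymm h𝔞m (Ideal.span_le.2 (Set.insert_subset h0 (Set.singleton_subset_iff.2 h1))))
  let x : MvPolynomial (Fin 2) k := MvPolynomial.X i0
  let y : MvPolynomial (Fin 2) k := MvPolynomial.X i1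
  let ψ := psi (k := k) i0 i1
  have hψx : ψ (C X) = x := by simp [ψ, psi, x]
  have hψy : ψ X = y := by simp [ψ, psi, y]
  have hψinj : Function.Injective ψ := Function.LeftInverse.injective (theta_psi hi)
  have hψsurj : Function.Surjective ψ := fun f => ⟨_, psi_theta hi f⟩
  have hm_top : 𝔪 ≠ ⊤ := by
    intro h
    apply hneTop
    rw [← Ideal.radical_eq_top, hsupp]
    exact h
  have hcomap : ∀ {F}, F ∈ 𝔞.comap ψ ⊔ Ideal.span {C X} → ψ F ∈ 𝔪 := by
    intro F hF
    obtain ⟨u, hu, v, hv, rfl⟩ := Submodule.mem_sup.1 hF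
    obtain ⟨w, rfl⟩ := Ideal.mem_span_singleton.1 hv
    rw [map_add, map_mul, hψx]
    exact add_mem (h𝔞m hu) (Ideal.mul_mem_right _ _ (hXm i0))
  obtain ⟨G, hGm, hGd, hGI, hGdiv⟩ := exists_weierstrass (𝔞.comap ψ)
    (by
      intro h
      apply hneTop
      rw [Ideal.eq_top_iff_one] at h ⊢
      simpa using h)
    ((hXrad i0).imp fun N hN => by simpa [Ideal.mem_comap, hψx] using hN)
    ((hXrad i1).imp fun N hN => by simpa [Ideal.mem_comap, hψy] using hN)
    (fun h => hm_top ((Ideal.eq_top_iff_one _).2 (by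
      simpa using hcomap (h ▸ Submodule.mem_top : (1 : (k[X])[X]) ∈ _))))
  let g := ψ G
  have hg : g ∈ 𝔞 := hGI
  have hg0 : g ≠ 0 := fun h => hGm.ne_zero (hψinj (h.trans (map_zero ψ).symm))
  let b : Ideal (MvPolynomial (Fin 2) k) := 𝔞.colon ({x} : Set (MvPolynomial (Fin 2) k))
  have hb : ∀ {f}, f ∈ b ↔ f * x ∈ 𝔞 := fun {f} => Submodule.mem_colon_singleton
  have hab : 𝔞 ≤ b := fun f hf => hb.2 (Ideal.mul_mem_right _ _ hf)
  have hbm : b ≤ 𝔪 := by
    intro f hf
    by_contra hfm
    apply hx0
    have h1 : Ideal.span {f} ⊔ 𝔪 = ⊤ := by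
      have hmax : 𝔪.IsMaximal := by
        refine ⟨⟨hm_top, fun J hJ => ?_⟩⟩
        obtain ⟨z, hz, hz'⟩ := SetLike.exists_of_lt hJ
        by_contra hJtop
        apply hz'
        have hd := mem_span_X_sub_C (0 : Fin 2 → k) (z - MvPolynomial.C (MvPolynomial.eval 0 z))
          (by simp)
        have hle : Ideal.span (Set.range (fun i : Fin 2 =>
            MvPolynomial.X i - MvPolynomial.C ((0 : Fin 2 → k) i))) ≤ 𝔪 := by
          rw [Ideal.span_le]; rintro _ ⟨i, rfl⟩; simpa using hXm i
        by_cases hc : MvPolynomial.eval (0 : Fin 2 → k) z = 0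
        · have := hle hd
          rwa [hc, map_zero, sub_zero] at this
        · exfalso
          apply hJtop
          have := sub_mem hz (hJ.le (hle hd))
          rw [sub_sub_cancel] at this
          exact Ideal.eq_top_of_isUnit_mem _ this ((isUnit_iff_ne_zero.2 hc).map _)
      refine hmax.out.2 _ (lt_of_le_of_ne le_sup_right fun h => hfm ?_)
      rw [h]; exact Ideal.mem_sup_left (Ideal.mem_span_singleton_self f)
    have h2 : Ideal.span {f} ⊔ 𝔞 = ⊤ := by
      rw [← Ideal.radical_eq_top, eq_top_iff, ← h1]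
      refine sup_le ((le_sup_left).trans Ideal.le_radical) ?_
      rw [show 𝔪 = 𝔞.radical from hsupp.symm]
      exact Ideal.radical_mono le_sup_right
    obtain ⟨u, hu, v, hv, huv⟩ := Submodule.mem_sup.1 ((Ideal.eq_top_iff_one _).1 h2)
    obtain ⟨w, rfl⟩ := Ideal.mem_span_singleton.1 hu
    have : x = f * x * w + x * v := by linear_combination -x * huv
    rw [show MvPolynomial.X i0 = x from rfl, this]
    exact add_mem (Ideal.mul_mem_right _ _ (hb.1 hf)) (Ideal.mul_mem_left _ _ hv)
  let 𝔞' : Ideal (MvPolynomial (Fin 2) k)[X] :=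
    Ideal.span {C g} ⊔ Ideal.span {X - C x} * b.map C
  have hev : ∀ a : MvPolynomial (Fin 2) k, 𝔞'.map (evalRingHom a) =
      Ideal.span {g} ⊔ Ideal.span {a - x} * b := by
    intro a
    simp only [𝔞', Ideal.map_sup, Ideal.map_mul, Ideal.map_span, Set.image_singleton, Ideal.map_map]
    rw [show (evalRingHom a).comp C = RingHom.id _ from RingHom.ext fun z => by simp, Ideal.map_id]
    simp
  -- membership helper
  have hmemw : ∀ w ∈ b.map C, (X - C x) * w ∈ 𝔞' := fun w hw =>
    Ideal.mem_sup_right (Ideal.mul_mem_mul (Ideal.mem_span_singleton_self _) hw)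
  let φ : (MvPolynomial (Fin 2) k)[X] →+* MvPolynomial (Fin 2) k := evalRingHom x
  have hφ' : ∀ f ∈ 𝔞', g ∣ φ f := by
    intro f hf
    have := Ideal.mem_map_of_mem φ hf
    rw [hev x] at this
    simpa [Ideal.mem_span_singleton] using this
  have hdiv : ∀ f w, f = (X - C x) * w → f ∈ 𝔞' → w ∈ b.map C := by
    intro f w hfw hf
    obtain ⟨u, hu, v, hv, huv⟩ := Submodule.mem_sup.1 hf
    obtain ⟨u', rfl⟩ := Ideal.mem_span_singleton.1 hu
    obtain ⟨v', hv', rfl⟩ := Ideal.mem_span_singleton_mul.1 hv
    have hu0 : u'.eval x = 0 := by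
      have := congrArg φ (huv.trans hfw)
      simp [φ] at this
      exact this.resolve_left hg0
    obtain ⟨u'', rfl⟩ := dvd_iff_isRoot.2 hu0
    have : w = C g * u'' + v' := by
      refine mul_left_cancel₀ (X_sub_C_ne_zero x) ?_
      rw [← hfw, ← huv]; ring
    rw [this]
    exact add_mem (Ideal.mul_mem_right _ _ (Ideal.mem_map_of_mem C (hab hg))) hv'
  refine ⟨𝔞', ?_, ?_, ?_, ?_⟩
  · -- flat
    let f : k[X] →+* (MvPolynomial (Fin 2) k)[X] ⧸ 𝔞' := (Ideal.Quotient.mk 𝔞').comp (Polynomial.mapRingHom (algebraMap k (MvPolynomial (Fin 2) k)))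
    refine @flat_of_torsion_free k _ ((MvPolynomial (Fin 2) k)[X] ⧸ 𝔞') _ f fun p hp z hz => ?_
    obtain ⟨F, rfl⟩ := Ideal.Quotient.mk_surjective z
    let P : (MvPolynomial (Fin 2) k)[X] := p.map (algebraMap k _)
    have hz' : P * F ∈ 𝔞' := by
      rw [← Ideal.Quotient.eq_zero_iff_mem]
      simpa [f, P] using hz
    have hφP : φ P = ψ (C p) := by
      simp [φ, P, ψ, psi, eval_map, x, aeval_def]
    have hGF : g ∣ φ F := by
      obtain ⟨F0, hF0⟩ := hψsurj (φ F)
      have := hφ' _ hz'
      rw [map_mul, hφP, ← hF0, ← map_mul] at this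
      obtain ⟨q, hq⟩ := this
      obtain ⟨q0, rfl⟩ := hψsurj q
      have h' : G ∣ C p * F0 := ⟨q0, hψinj (by rw [hq, map_mul])⟩
      rw [← hF0]
      exact map_dvd ψ (smul_mem_span_monic hGm hp h')
    obtain ⟨u, hu⟩ := hGF
    obtain ⟨w, hw⟩ : (X - C x) ∣ F - C g * C u := by
      rw [← C_mul, ← hu]; exact X_sub_C_dvd_sub_C_eval
    have hPw : P * w ∈ b.map C := by
      refine hdiv _ _ rfl ?_
      have : (X - C x) * (P * w) = P * F - C g * (P * C u) := by
        linear_combination -P * hw
      rw [this]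
      exact sub_mem hz' (Ideal.mem_sup_left (Ideal.mul_mem_right _ _ (Ideal.mem_span_singleton_self _)))
    have hwb : w ∈ b.map C := by
      have hc : p.leadingCoeff ≠ 0 := leadingCoeff_ne_zero.2 hp
      have hmon := monic_mul_leadingCoeff_inv hp
      let q := (p * C p.leadingCoeff⁻¹).map ((Ideal.Quotient.mk b).comp (algebraMap k _))
      have hq : q.Monic := hmon.map _
      have hPw' : (P * C (algebraMap k _ p.leadingCoeff⁻¹) * w).map (Ideal.Quotient.mk b) = 0 := by
        rw [← coe_mapRingHom, ← RingHom.mem_ker, ker_mapRingHom, Ideal.mk_ker,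
          mul_comm P, mul_assoc]
        exact Ideal.mul_mem_left _ _ hPw
      have : q * w.map (Ideal.Quotient.mk b) = 0 := by
        rw [← hPw']
        simp [q, P, Polynomial.map_mul, Polynomial.map_map]
      rw [← Ideal.mk_ker (I := b), ← ker_mapRingHom, RingHom.mem_ker, coe_mapRingHom]
      exact hq.mul_right_eq_zero_iff.1 this
    rw [Ideal.Quotient.eq_zero_iff_mem, show F = C g * C u + (X - C x) * w by linear_combination hw]
    exact add_mem (Ideal.mem_sup_left (Ideal.mul_mem_right _ _ (Ideal.mem_span_singleton_self _)))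
      (hmemw w hwb)
  · -- finite
    let f : k[X] →+* (MvPolynomial (Fin 2) k)[X] ⧸ 𝔞' := (Ideal.Quotient.mk 𝔞').comp (Polynomial.mapRingHom (algebraMap k (MvPolynomial (Fin 2) k)))
    obtain ⟨N, hN⟩ := hXrad i0
    refine finite_of_gens (S := (MvPolynomial (Fin 2) k)[X] ⧸ 𝔞') f (Ideal.Quotient.mk 𝔞' (C x)) (Ideal.Quotient.mk 𝔞' (C y))
      ((X - C X) * X ^ N) ((monic_X_sub_C _).mul (monic_X_pow N)) ?_ G hGm ?_ ?_
    · have h0 : (C x - X) * (C x) ^ N ∈ 𝔞' := by
        have := neg_mem (hmemw _ (Ideal.mem_map_of_mem C (hab hN)))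
        rw [map_pow, show ((X : (MvPolynomial (Fin 2) k)[X]) - C x) * C (MvPolynomial.X i0) ^ N =
          -((C x - X) * C x ^ N) by simp only [x]; ring, neg_neg] at this
        exact this
      have he : eval₂RingHom f (Ideal.Quotient.mk 𝔞' (C x)) ((X - C X) * X ^ N) = 0 := by
        rw [map_mul, map_sub, map_pow]
        rw [← Ideal.Quotient.eq_zero_iff_mem, map_mul, map_sub, map_pow] at h0
        simpa [f] using h0
      exact he
    · have : eval₂RingHom (f.comp C) (Ideal.Quotient.mk 𝔞' (C x)) =
          ((Ideal.Quotient.mk 𝔞').comp C).comp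
            (Polynomial.aeval (MvPolynomial.X i0 : MvPolynomial (Fin 2) k)).toRingHom := by
        apply Polynomial.ringHom_ext
        · intro a
          simp [f]
        · simp [x]
      rw [this, show Ideal.Quotient.mk 𝔞' (C y) = ((Ideal.Quotient.mk 𝔞').comp C) (MvPolynomial.X i1) from rfl, ← hom_eval₂]
      change Ideal.Quotient.mk 𝔞' (C g) = 0
      exact Ideal.Quotient.eq_zero_iff_mem.2 (Ideal.mem_sup_left (Ideal.mem_span_singleton_self _))
    · intro T hf hxT hyT z
      obtain ⟨F, rfl⟩ := Ideal.Quotient.mk_surjective z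
      induction F using Polynomial.induction_on' with
      | add p q hp hq => rw [map_add]; exact add_mem hp hq
      | monomial n a =>
        rw [← C_mul_X_pow_eq_monomial, map_mul]
        refine mul_mem ?_ ?_
        · induction a using MvPolynomial.induction_on with
          | C c => simpa [f] using hf (C c)
          | add p q hp hq => rw [map_add, map_add]; exact add_mem hp hq
          | mul_X p i hp =>
            rw [map_mul, map_mul]
            refine mul_mem hp ?_
            rcases (show i = i0 ∨ i = i1 by omega) with rfl | rfl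
            · exact hxT
            · exact hyT
        · simpa [f] using hf (X ^ n)
  · -- special fibre
    rw [hev 0]
    apply le_antisymm
    · refine sup_le (Ideal.span_le.2 (Set.singleton_subset_iff.2 hg)) ?_
      rw [Ideal.span_singleton_mul_le_iff]
      intro z hz
      have := hb.1 hz
      simpa [mul_comm] using neg_mem this
    · intro a ha
      obtain ⟨F, rfl⟩ := hψsurj a
      obtain ⟨r, hr⟩ := hGdiv F ha
      have hdec := congrArg ψ (modByMonic_add_div F G)
      rw [hr, map_add, map_mul, map_mul, hψx] at hdec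
      have hrb : ψ r ∈ b := by
        apply hb.2
        have : ψ r * x = ψ F - g * ψ (F /ₘ G) := by
          simp only [g]; linear_combination hdec
        rw [this]
        exact sub_mem ha (Ideal.mul_mem_right _ _ hg)
      rw [← hdec]
      refine add_mem (Ideal.mem_sup_right ?_) (Ideal.mem_sup_left ?_)
      · rw [show x * ψ r = (0 - x) * (-ψ r) by ring]
        exact Ideal.mul_mem_mul (Ideal.mem_span_singleton_self _) (neg_mem hrb)
      · exact Ideal.mul_mem_right _ _ (Ideal.mem_span_singleton_self _)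
  · intro c hc
    rw [hev]
    constructor
    · exact sup_le (Ideal.span_le.2 (Set.singleton_subset_iff.2 (h𝔞m hg)))
        (Ideal.mul_le_right.trans hbm)
    · let Gc : k[X] := G.map (evalRingHom c)
      obtain ⟨q, hq⟩ := IsAlgClosed.exists_root Gc (by
        rw [degree_eq_natDegree (hGm.map _).ne_zero, hGm.natDegree_map]
        exact_mod_cast (by omega : G.natDegree ≠ 0))
      let p : Fin 2 → k := fun i => if i = i0 then c else q
      refine ⟨p, fun h => hc (by simpa [p] using congrFun h i0), ?_⟩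
      refine sup_le ?_ (Ideal.mul_le_left.trans ?_)
      · rw [Ideal.span_le, Set.singleton_subset_iff]
        apply mem_span_X_sub_C
        have hcomp : (MvPolynomial.eval p).comp (Polynomial.aeval (MvPolynomial.X i0 : MvPolynomial (Fin 2) k)).toRingHom = evalRingHom c := by
          apply Polynomial.ringHom_ext
          · intro a; simp
          · simp [p]
        simp only [g, ψ, psi, coe_eval₂RingHom]
        rw [hom_eval₂, hcomp]
        rw [IsRoot, eval_map] at hq
        simpa [p, hi.symm] using hq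
      · rw [Ideal.span_le, Set.singleton_subset_iff]
        apply mem_span_X_sub_C
        simp [p, x]

/-- Let k be an algebraically closed field, A = k[x, y], and 𝔞 ⊆ A an ideal of finite colength n ≥ 2
with radical (x, y), i.e. Spec(A/𝔞) is supported at the origin. Then there is an ideal 𝔞' ⊆ A[t]
defining a family finite and flat over k[t] (A[t]/𝔞' is a finitely generated flat k[t]-module, hence
locally free of rank n) whose fibre at t = 0 is 𝔞 and whose fibre ideal 𝔞_c at every c ≠ 0 is
contained in the maximal ideal of the origin and in the maximal ideal of some other k-point p ≠ (0,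
0); so for t ≠ 0 the fibre is supported at two or more distinct points. (The published statement
allows colength 1 and puts the second point at (0, t); for colength 1 every finite flat family has
one-point fibres, and the family constructed in the published proof has its second piece at the
roots of f(x, t) on the line y = t after a linear change of the coordinates x, y, which need not lie
at x = 0; this row states what that construction yields. The published statement asks the family to
be flat over k[t]; this row asks it to be finite and flat, as the constructed family is — f is monic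
in x and (y − t)·y^N lies in the ideal for some N — and as the published proof's count of the
constant fibre length n presupposes; with flatness alone the fibre conditions here could be met by
adjoining a component that never meets t = 0.) -/
theorem result (k : Type u) [Field k] [IsAlgClosed k]
    (𝔞 : Ideal (MvPolynomial (Fin 2) k)) [Module.Finite k (MvPolynomial (Fin 2) k ⧸ 𝔞)]
    (hn : 2 ≤ Module.finrank k (MvPolynomial (Fin 2) k ⧸ 𝔞))
    (hsupp : 𝔞.radical = Ideal.span {MvPolynomial.X 0, MvPolynomial.X 1}) :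
    ∃ 𝔞' : Ideal (MvPolynomial (Fin 2) k)[X],
      RingHom.Flat (R := k[X]) (S := (MvPolynomial (Fin 2) k)[X] ⧸ 𝔞')
        ((Ideal.Quotient.mk 𝔞').comp (Polynomial.mapRingHom (algebraMap k (MvPolynomial (Fin 2) k)))) ∧
      RingHom.Finite (A := k[X]) (B := (MvPolynomial (Fin 2) k)[X] ⧸ 𝔞')
        ((Ideal.Quotient.mk 𝔞').comp (Polynomial.mapRingHom (algebraMap k (MvPolynomial (Fin 2) k)))) ∧
      Ideal.map (Polynomial.evalRingHom (0 : MvPolynomial (Fin 2) k)) 𝔞' = 𝔞 ∧
      ∀ c : k, c ≠ 0 →
        Ideal.map (Polynomial.evalRingHom (MvPolynomial.C c)) 𝔞' ≤ Ideal.span {MvPolynomial.X 0, MvPolynomial.X 1} ∧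
        ∃ p : Fin 2 → k, p ≠ 0 ∧
          Ideal.map (Polynomial.evalRingHom (MvPolynomial.C c)) 𝔞' ≤
            Ideal.span (Set.range (fun i : Fin 2 => MvPolynomial.X i - MvPolynomial.C (p i))) := by
  classical
  refine main k 𝔞 ?_ ?_ hsupp
  · intro h
    subst h
    have hle : Module.finrank k (MvPolynomial (Fin 2) k ⧸
        Ideal.span {(MvPolynomial.X 0 : MvPolynomial (Fin 2) k), MvPolynomial.X 1}) ≤ 1 := by
      refine finrank_le_one (Ideal.Quotient.mk _ 1) fun w => ?_
      obtain ⟨f, rfl⟩ := Ideal.Quotient.mk_surjective w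
      refine ⟨MvPolynomial.eval 0 f, ?_⟩
      rw [← Ideal.Quotient.mkₐ_eq_mk k, ← map_smul, Ideal.Quotient.mkₐ_eq_mk, Ideal.Quotient.eq]
      have h := mem_span_X_sub_C (0 : Fin 2 → k) (f - MvPolynomial.C (MvPolynomial.eval 0 f)) (by simp)
      have hle : Ideal.span (Set.range (fun i : Fin 2 =>
          MvPolynomial.X i - MvPolynomial.C ((0 : Fin 2 → k) i))) ≤
          Ideal.span {(MvPolynomial.X 0 : MvPolynomial (Fin 2) k), MvPolynomial.X 1} := by
        rw [Ideal.span_le]; rintro _ ⟨i, rfl⟩
        fin_cases i <;> simp <;> exact Ideal.subset_span (by simp)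
      have := neg_mem (hle h)
      simpa [MvPolynomial.smul_eq_C_mul] using this
    omega
  · intro h
    subst h
    have : Subsingleton (MvPolynomial (Fin 2) k ⧸ (⊤ : Ideal (MvPolynomial (Fin 2) k))) :=
      Ideal.Quotient.subsingleton_iff.2 rfl
    rw [Module.finrank_zero_of_subsingleton] at hn
    omega

end Groth.Agent.S11453
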