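import Groth.Statements.S11454
import Groth.Agent.FlatLift.RegSeq

set_option autoImplicit false
universe u
open DefT

namespace Groth.Agent.S11454

/-- Let C' be a local Artin ring, J ⊊ C' a proper ideal annihilated by the maximal ideal, C = C'/J, A' a
flat C'-algebra whose reduction modulo the maximal ideal of C' is a Cohen–Macaulay local ring, and A
= A'/JA'. If a'_1, …, a'_r ∈ A' have images in A forming a regular sequence with A/(a_1, …, a_r)
flat over C, then a'_1, …, a'_r is a regular sequence on A' and A'/(a'_1, …, a'_r) is flat over C'.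
(Regular sequences stand in for the exactness of the Koszul complexes in the published statement;
over a Noetherian local ring with the elements in the maximal ideal the two are equivalent.) -/
theorem result (C' : Type u) [CommRing C'] [IsLocalRing C'] [IsArtinianRing C'] (J : Ideal C')
    (hJ : IsLocalRing.maximalIdeal C' * J = ⊥) (hJne : J ≠ ⊤) (A' : Type u) [CommRing A'] [Algebra C' A'] [Module.Flat C' A']
    [LocCoh.IsCohenMacaulayLocalRing (A' ⧸ (IsLocalRing.maximalIdeal C').map (algebraMap C' A'))]
    (r : ℕ) (a' : Fin r → A')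
    (hreg : RingTheory.Sequence.IsRegular (A' ⧸ J.map (algebraMap C' A'))
      (List.ofFn (fun i => Ideal.Quotient.mk (J.map (algebraMap C' A')) (a' i))))
    [Module.Flat (C' ⧸ J) ((A' ⧸ J.map (algebraMap C' A')) ⧸
      Ideal.span (Set.range (fun i => Ideal.Quotient.mk (J.map (algebraMap C' A')) (a' i))))] :
    RingTheory.Sequence.IsRegular A' (List.ofFn a') ∧ Module.Flat C' (A' ⧸ Ideal.span (Set.range a')) := by
  obtain ⟨n, hn⟩ := FlatLift.exists_pow_eq_bot C'
  set P := (IsLocalRing.maximalIdeal C').map (algebraMap C' A') with hPdef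
  set Q := J.map (algebraMap C' A') with hQdef
  have hQP : Q ≤ P := Ideal.map_mono (IsLocalRing.le_maximalIdeal hJne)
  have hP : P ≤ nilradical A' := fun x hx => ⟨n, by
    have h := Ideal.pow_mem_pow hx n
    rw [hPdef, ← Ideal.map_pow, hn, Ideal.map_bot] at h
    exact (Submodule.mem_bot _).1 h⟩
  have : IsNoetherianRing A' :=
    FlatLift.isNoetherianRing_of_quotient P (Ideal.FG.map (IsNoetherian.noetherian _) _) hP
  have : Nontrivial A' := (Ideal.Quotient.mk P).domain_nontrivial
  have hcm := Ideal.comap_isMaximal_of_surjective (Ideal.Quotient.mk P) Ideal.Quotient.mk_surjective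
    (K := IsLocalRing.maximalIdeal (A' ⧸ P))
  have : IsLocalRing A' := .of_unique_max_ideal ⟨_, hcm, fun M hM => by
    have hPM : P ≤ M := hP.trans (nilradical_le_prime M)
    refine hM.eq_of_le hcm.ne_top ?_
    rw [← Ideal.map_le_iff_le_comap]
    refine IsLocalRing.le_maximalIdeal fun htop => hM.ne_top ?_
    have := congrArg (Ideal.comap (Ideal.Quotient.mk P)) htop
    rwa [Ideal.comap_map_of_surjective' _ Ideal.Quotient.mk_surjective, Ideal.mk_ker, sup_eq_left.2 hPM,
      Ideal.comap_top] at this⟩
  have : Nontrivial (A' ⧸ Q) := Ideal.Quotient.nontrivial_iff.2 fun h => by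
    have := (Ideal.Quotient.nontrivial_iff (I := P)).1 inferInstance
    exact this (top_le_iff.1 (h ▸ hQP))
  have : IsLocalRing (A' ⧸ Q) := .of_surjective' (Ideal.Quotient.mk Q) Ideal.Quotient.mk_surjective
  set S := Ideal.span (Set.range a') with hS
  have hspan : ∀ R : Ideal A', Ideal.ofList (List.ofFn fun i => Ideal.Quotient.mk R (a' i)) =
      S.map (Ideal.Quotient.mk R) := fun R => by
    rw [hS, Ideal.map_span, ← Set.range_comp, Ideal.ofList]
    congr 1; ext x; simp
  have hdim : ∀ R : Ideal A', R ≤ nilradical A' →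
      ringKrullDim ((A' ⧸ R) ⧸ S.map (Ideal.Quotient.mk R)) = ringKrullDim (A' ⧸ S) ∧
        ringKrullDim (A' ⧸ R) = ringKrullDim A' := fun R hR => by
    refine ⟨?_, ?_⟩
    · rw [ringKrullDim_eq_of_ringEquiv (DoubleQuot.quotQuotEquivQuotSup R S)]
      refine FlatLift.ringKrullDim_quotient_congr (le_antisymm ?_ (Ideal.radical_mono le_sup_right))
      refine Ideal.radical_le_radical_iff.2 (sup_le (hR.trans ?_) Ideal.le_radical)
      exact Ideal.radical_mono bot_le
    · rw [← ringKrullDim_eq_of_ringEquiv (RingEquiv.quotientBot A')]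
      refine FlatLift.ringKrullDim_quotient_congr (le_antisymm ?_ (Ideal.radical_mono bot_le))
      exact Ideal.radical_le_radical_iff.2 hR
  have hne : ∀ R : Ideal A', R ≤ nilradical A' → Ideal.ofList (List.ofFn fun i => Ideal.Quotient.mk R (a' i)) ≠ ⊤ := by
    intro R hR h
    rw [hspan] at h
    have h1 := congrArg (Ideal.comap (Ideal.Quotient.mk R)) h
    rw [Ideal.comap_map_of_surjective' _ Ideal.Quotient.mk_surjective, Ideal.mk_ker, Ideal.comap_top] at h1
    have hS1 : S ≠ ⊤ := fun hS1 => hreg.top_ne_smul (by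
      rw [smul_eq_mul, Ideal.mul_top, hspan, hS1, Ideal.map_top])
    have h2 : S ⊔ R ≤ IsLocalRing.maximalIdeal A' :=
      sup_le (IsLocalRing.le_maximalIdeal hS1) (hR.trans (nilradical_le_prime _))
    exact (IsLocalRing.maximalIdeal.isMaximal A').ne_top (top_le_iff.1 (h1 ▸ h2))
  have hA : (r : WithBot ℕ∞) + ringKrullDim (A' ⧸ S) = ringKrullDim A' := by
    have h := ringKrullDim_add_length_eq_ringKrullDim_of_isRegular _ hreg
    rw [hspan, (hdim Q (hQP.trans hP)).1, (hdim Q (hQP.trans hP)).2, List.length_ofFn, add_comm] at h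
    exact h
  have hw : RingTheory.Sequence.IsWeaklyRegular (A' ⧸ P) (List.ofFn fun i => Ideal.Quotient.mk P (a' i)) := by
    refine FlatLift.isWeaklyRegular_of_dim_cm _ (hne P hP) ?_
    rw [hspan, (hdim P hP).1, (hdim P hP).2, List.length_ofFn]
    exact hA
  obtain ⟨h1, h2⟩ := FlatLift.regular_flat_ring (C := C') (List.ofFn a') (by
    rw [List.map_ofFn]
    exact ⟨hw, fun h => hne P hP (by
      simpa [smul_eq_mul, Ideal.mul_top, Function.comp_def] using h.symm)⟩)
  refine ⟨h1, ?_⟩
  have hS' : Ideal.ofList (List.ofFn a') = Ideal.span (Set.range a') := by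
    rw [Ideal.ofList]; congr 1; ext x; simp
  rw [← show Ideal.ofList (List.ofFn a') = S from hS']
  exact h2

end Groth.Agent.S11454
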