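import Groth.Statements.S11459
import Groth.Agent.HBDef.Lift
import Mathlib

set_option autoImplicit false
universe u
open DefT

namespace Groth.Agent.S11459

/-- Let C' be a local Artin ring, J ⊊ C' a proper ideal annihilated by the maximal ideal, C = C'/J, A' a
flat C'-algebra of finite type with smooth special fibre, A = A'/JA', and φ an (r+1) × r matrix over
A with 0 → A^r → A^{r+1} → A exact (matrix, then signed maximal minors f_i) A/(f_0, …, f_r) flat
over C, and every prime of A containing (f_0, …, f_r) of height ≥ 2 (codimension 2). Then any ideal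
I' ⊆ A' such that A'/I' is flat over C' and the image of I' in A is (f_0, …, f_r) is generated by
the signed maximal minors of some matrix φ' over A' reducing to φ. -/
theorem result (C' : Type u) [CommRing C'] [IsLocalRing C'] [IsArtinianRing C'] (J : Ideal C')
    (hJ : IsLocalRing.maximalIdeal C' * J = ⊥) (hJne : J ≠ ⊤) (A' : Type u) [CommRing A'] [Algebra C' A'] [Module.Flat C' A']
    [Algebra.FiniteType C' A']
    [Algebra.Smooth (C' ⧸ IsLocalRing.maximalIdeal C') (A' ⧸ (IsLocalRing.maximalIdeal C').map (algebraMap C' A'))]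
    (r : ℕ) (φ : Matrix (Fin (r + 1)) (Fin r) (A' ⧸ J.map (algebraMap C' A')))
    (hφ : Function.Injective φ.mulVecLin ∧
      LinearMap.range φ.mulVecLin = LinearMap.ker (Fintype.linearCombination (A' ⧸ J.map (algebraMap C' A')) (fun i : Fin (r + 1) => (-1 : (A' ⧸ J.map (algebraMap C' A'))) ^ (i : ℕ) * ((φ).submatrix i.succAbove id).det)))
    [Module.Flat (C' ⧸ J) ((A' ⧸ J.map (algebraMap C' A')) ⧸ Ideal.span (Set.range (fun i : Fin (r + 1) => (-1 : (A' ⧸ J.map (algebraMap C' A'))) ^ (i : ℕ) * ((φ).submatrix i.succAbove id).det)))]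
    (hcodim : ∀ p : Ideal (A' ⧸ J.map (algebraMap C' A')), p.IsPrime →
      Ideal.span (Set.range (fun i : Fin (r + 1) => (-1 : (A' ⧸ J.map (algebraMap C' A'))) ^ (i : ℕ) * ((φ).submatrix i.succAbove id).det)) ≤ p → (2 : ℕ∞) ≤ p.height)
    (I' : Ideal A') [Module.Flat C' (A' ⧸ I')]
    (hI' : I'.map (Ideal.Quotient.mk (J.map (algebraMap C' A'))) = Ideal.span (Set.range (fun i : Fin (r + 1) => (-1 : (A' ⧸ J.map (algebraMap C' A'))) ^ (i : ℕ) * ((φ).submatrix i.succAbove id).det))) :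
    ∃ φ' : Matrix (Fin (r + 1)) (Fin r) A', φ'.map (Ideal.Quotient.mk (J.map (algebraMap C' A'))) = φ ∧
      I' = Ideal.span (Set.range (fun i : Fin (r + 1) => (-1 : A') ^ (i : ℕ) * ((φ').submatrix i.succAbove id).det)) := by
  obtain ⟨hinj, hex⟩ := hφ
  haveI : IsNoetherianRing A' := Algebra.FiniteType.isNoetherianRing C' A'
  let Q := J.map (algebraMap C' A')
  have hQ : Q = J.map (algebraMap C' A') := rfl
  haveI hflat : Module.Flat (C' ⧸ J) ((A' ⧸ J.map (algebraMap C' A')) ⧸ Ideal.span (Set.range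
      (Groth.Agent.HilbBurch.Δ φ))) :=
    (inferInstance : Module.Flat (C' ⧸ J) ((A' ⧸ J.map (algebraMap C' A')) ⧸ Ideal.span (Set.range
      (fun i : Fin (r + 1) => (-1 : (A' ⧸ J.map (algebraMap C' A'))) ^ (i : ℕ) *
        ((φ).submatrix i.succAbove id).det))))
  have hJ2 : J ^ 2 = ⊥ := by
    rw [pow_two]
    exact le_bot_iff.1 (le_of_le_of_eq (Ideal.mul_mono_left (IsLocalRing.le_maximalIdeal hJne)) hJ)
  have hnil : ∀ x, Ideal.Quotient.mk Q x = 0 → IsNilpotent x := fun x hx => ⟨2, by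
    have h := Ideal.pow_mem_pow (Ideal.Quotient.eq_zero_iff_mem.1 hx) 2
    rw [hQ, ← Ideal.map_pow, hJ2, Ideal.map_bot] at h
    exact (Submodule.mem_bot _).1 h⟩
  obtain ⟨a, ha, hab⟩ := Groth.Agent.FlatLift.exists_lifts Q I' (Groth.Agent.HilbBurch.Δ φ) hI'
  have hI : I' = Ideal.span (Set.range a) := Groth.Agent.FlatLift.eq_span_of_flat J hJ2 I' a ha (by
    rw [hI', funext hab]
    exact le_rfl)
  haveI : Module.Flat C' (A' ⧸ Ideal.span (Set.range a)) := hI ▸ (inferInstance : Module.Flat C' (A' ⧸ I'))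
  obtain ⟨ψ, hψ, hψa⟩ := Groth.Agent.HBDef.exists_lift_relations J a φ (fun j => by
    rw [← Groth.Agent.HilbBurch.sum_Δ_mul φ j]
    exact Finset.sum_congr rfl fun i _ => by rw [hab i])
  subst hψ
  obtain ⟨hinj', hex', -⟩ := Groth.Agent.HBDef.exact_lift J hJne r ψ hinj hex
  obtain ⟨c, hc⟩ := Groth.Agent.HBDef.exists_smul_Δ ψ hinj' hex' a hψa
  refine ⟨ψ, rfl, ?_⟩
  rw [hI]
  exact Groth.Agent.HBDef.span_eq_of_smul ψ (Ideal.Quotient.mk Q) hnil a c hc hinj hab

end Groth.Agent.S11459
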