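import Groth.Statements.S11461
import Mathlib.Algebra.Homology.ShortComplex.ModuleCat
import Mathlib.RingTheory.Ideal.AssociatedPrime.Finiteness
import Mathlib.RingTheory.Finiteness.Nakayama

set_option autoImplicit false
universe u
open CategoryTheory
open DefT

namespace Groth.Agent.S11461

/-- Let B be a Noetherian ring and F an additive, B-linear endofunctor of B-modules which preserves
finite generation and is semi-exact on short exact sequences of finitely generated modules (the
image sequence is exact in the middle). If F kills B/m for every maximal ideal m, then F kills every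
finitely generated B-module. (The published statement assumes F only additive; this row assumes F
B-linear, and takes the functor on all B-modules with the hypotheses and the conclusion on the
finitely generated ones.) -/
theorem result (B : Type u) [CommRing B]
    [IsNoetherianRing B] (F : ModuleCat.{u} B ⥤ ModuleCat.{u} B) [F.Additive] [F.Linear B]
    (hfg : ∀ M : ModuleCat.{u} B, Module.Finite B M → Module.Finite B (F.obj M))
    (hex : ∀ S : ShortComplex (ModuleCat.{u} B), S.ShortExact → Module.Finite B S.X₂ → (S.map F).Exact)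
    (h0 : ∀ m : Ideal B, m.IsMaximal → Limits.IsZero (F.obj (ModuleCat.of B (B ⧸ m))))
    (M : ModuleCat.{u} B) (hM : Module.Finite B M) : Limits.IsZero (F.obj M) := by
  by_contra hM0
  have hprime : ∀ p : PrimeSpectrum B, Limits.IsZero (F.obj (ModuleCat.of B (B ⧸ p.asIdeal))) := by
    by_contra hne
    push Not at hne
    obtain ⟨p, hp, hmax⟩ := (InvImage.wf (fun p : PrimeSpectrum B => p.asIdeal) (wellFounded_gt (α := Ideal B))).has_min
      {p | ¬ Limits.IsZero (F.obj (ModuleCat.of B (B ⧸ p.asIdeal)))} hne
    obtain ⟨m, hm, hle⟩ := Ideal.exists_le_maximal p.asIdeal p.2.ne_top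
    have hlt : p.asIdeal ≠ m := fun e => hp (by have := h0 m hm; rw [← e] at this; exact this)
    obtain ⟨x, hxm, hxp⟩ := SetLike.exists_of_lt (lt_of_le_of_ne hle hlt)
    set N := F.obj (ModuleCat.of B (B ⧸ p.asIdeal))
    -- modules with support strictly inside `V(p)` are killed
    have hsmall : ∀ (y : B), y ∉ p.asIdeal → ∀ z : N, ∃ w : N, y • w = z := by
      intro y hy
      have hq : ∀ (Q : Type u) [AddCommGroup Q] [Module B Q] [Module.Finite B Q],
          (∀ a ∈ p.asIdeal ⊔ Ideal.span {y}, ∀ q : Q, a • q = 0) → Limits.IsZero (F.obj (ModuleCat.of B Q)) := by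
        intro Q _ _ _
        refine IsNoetherianRing.induction_on_isQuotientEquivQuotientPrime B (M := Q) ‹_›
          (motive := fun Q _ _ _ => (∀ a ∈ p.asIdeal ⊔ Ideal.span {y}, ∀ q : Q, a • q = 0) →
            Limits.IsZero (F.obj (ModuleCat.of B Q))) ?_ ?_ ?_
        · intro Q _ _ _ _ _
          exact F.map_isZero (ModuleCat.isZero_of_subsingleton _)
        · intro Q _ _ _ q e
          intro hann
          have hqp : p.asIdeal ⊔ Ideal.span {y} ≤ q.asIdeal := fun a ha => by
            have h1 := hann a ha (e.symm (Ideal.Quotient.mk _ 1))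
            rw [← map_smul, e.symm.map_eq_zero_iff, Algebra.smul_def, Ideal.Quotient.algebraMap_eq, map_one, mul_one] at h1
            exact Ideal.Quotient.eq_zero_iff_mem.1 h1
          have hpq : p < q := lt_of_le_of_ne (le_sup_left.trans hqp)
            fun e => hy (e ▸ hqp (Ideal.mem_sup_right (Ideal.mem_span_singleton_self y)))
          have hz : Limits.IsZero (F.obj (ModuleCat.of B (B ⧸ q.asIdeal))) := by
            by_contra hz
            exact hmax q hz (show p.asIdeal < q.asIdeal from hpq)
          exact hz.of_iso (F.mapIso e.toModuleIso)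
        · intro Q₁ _ _ _ Q₂ _ _ _ Q₃ _ _ _ f g hf hg hfg h₁ h₃
          intro hann
          have hS : (ShortComplex.mk (ModuleCat.ofHom f) (ModuleCat.ofHom g)
              (ModuleCat.hom_ext hfg.linearMap_comp_eq_zero)).ShortExact :=
            { exact := (ShortComplex.ShortExact.moduleCat_exact_iff_function_exact _).2 hfg
              mono_f := (ModuleCat.mono_iff_injective _).2 hf
              epi_g := (ModuleCat.epi_iff_surjective _).2 hg }
          have h1 := h₁ fun a ha q => hf (by rw [map_smul, map_zero]; exact hann a ha _)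
          have h3 := h₃ fun a ha q => by
            obtain ⟨q', rfl⟩ := hg q
            rw [← map_smul, hann a ha, map_zero]
          exact (hex _ hS inferInstance).isZero_of_both_zeros (h1.eq_of_src _ _) (h3.eq_of_tgt _ _)
      let f : B ⧸ p.asIdeal →ₗ[B] B ⧸ p.asIdeal := y • LinearMap.id
      let g : B ⧸ p.asIdeal →ₗ[B] B ⧸ (p.asIdeal ⊔ Ideal.span {y}) := Submodule.factor le_sup_left
      have hfg : Function.Exact f g := by
        intro z
        obtain ⟨z, rfl⟩ := Ideal.Quotient.mk_surjective z
        constructor
        · intro hz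
          obtain ⟨a, ha, b, hb, hab⟩ := Submodule.mem_sup.1 (Ideal.Quotient.eq_zero_iff_mem.1 hz)
          obtain ⟨c, rfl⟩ := Ideal.mem_span_singleton'.1 hb
          change a + c * y = z at hab
          refine ⟨Ideal.Quotient.mk _ c, ?_⟩
          show y • (Ideal.Quotient.mk p.asIdeal c) = _
          rw [← hab, map_add, Ideal.Quotient.eq_zero_iff_mem.2 ha, zero_add, map_mul, Algebra.smul_def,
            Ideal.Quotient.algebraMap_eq, mul_comm]
        · rintro ⟨w, hw⟩
          rw [← hw]
          obtain ⟨w, rfl⟩ := Ideal.Quotient.mk_surjective w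
          exact Ideal.Quotient.eq_zero_iff_mem.2 (Ideal.mem_sup_right (Ideal.mem_span_singleton'.2 ⟨w, mul_comm w y⟩))
      have hinj : Function.Injective f := by
        refine (injective_iff_map_eq_zero _).2 fun z hz => ?_
        obtain ⟨z, rfl⟩ := Ideal.Quotient.mk_surjective z
        have h1 : Ideal.Quotient.mk p.asIdeal (y * z) = 0 := hz
        exact Ideal.Quotient.eq_zero_iff_mem.2 ((p.2.mem_or_mem (Ideal.Quotient.eq_zero_iff_mem.1 h1)).resolve_left hy)
      have hS : (ShortComplex.mk (ModuleCat.ofHom f) (ModuleCat.ofHom g)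
          (ModuleCat.hom_ext hfg.linearMap_comp_eq_zero)).ShortExact :=
        { exact := (ShortComplex.ShortExact.moduleCat_exact_iff_function_exact _).2 hfg
          mono_f := (ModuleCat.mono_iff_injective _).2 hinj
          epi_g := (ModuleCat.epi_iff_surjective _).2 (Submodule.factor_surjective le_sup_left) }
      have hz := hq (B ⧸ (p.asIdeal ⊔ Ideal.span {y})) fun a ha q => by
        obtain ⟨q, rfl⟩ := Ideal.Quotient.mk_surjective q
        exact Ideal.Quotient.eq_zero_iff_mem.2 (Ideal.mul_mem_right q _ ha)
      have hepi : Epi (F.map (ModuleCat.ofHom f)) :=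
        ((hex _ hS (inferInstanceAs (Module.Finite B (B ⧸ p.asIdeal)))).epi_f (hz.eq_of_tgt _ _) : _)
      intro z
      obtain ⟨w, hw⟩ := (ModuleCat.epi_iff_surjective _).1 hepi z
      refine ⟨w, ?_⟩
      rw [← hw, show ModuleCat.ofHom f = y • 𝟙 (ModuleCat.of B (B ⧸ p.asIdeal)) from rfl, F.map_smul, F.map_id]
      rfl
    have hfin : Module.Finite B N := hfg _ (inferInstanceAs (Module.Finite B (B ⧸ p.asIdeal)))
    have htop : (⊤ : Submodule B N) ≤ Ideal.span {x} • (⊤ : Submodule B N) := fun z _ => by
      obtain ⟨w, rfl⟩ := hsmall x hxp z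
      exact Submodule.smul_mem_smul (Ideal.mem_span_singleton_self x) Submodule.mem_top
    obtain ⟨r, hr, hr0⟩ := Submodule.exists_sub_one_mem_and_smul_eq_zero_of_fg_of_le_smul _ _ hfin.fg_top htop
    have hrp : r ∉ p.asIdeal := fun h => hm.ne_top ((Ideal.eq_top_iff_one _).2 (by
      obtain ⟨c, hc⟩ := Ideal.mem_span_singleton'.1 hr
      rw [show (1 : B) = r - c * x by rw [hc]; ring]
      exact sub_mem (hle h) (Ideal.mul_mem_left _ _ hxm)))
    have : Subsingleton N := subsingleton_of_forall_eq 0 fun z => by
      obtain ⟨w, rfl⟩ := hsmall r hrp z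
      exact hr0 w Submodule.mem_top
    exact hp (ModuleCat.isZero_of_subsingleton _)
  refine hM0 ?_
  have hall : ∀ (Q : Type u) [AddCommGroup Q] [Module B Q] [Module.Finite B Q], Limits.IsZero (F.obj (ModuleCat.of B Q)) := by
    intro Q _ _ _
    refine IsNoetherianRing.induction_on_isQuotientEquivQuotientPrime B (M := Q) ‹_›
      (motive := fun Q _ _ _ => Limits.IsZero (F.obj (ModuleCat.of B Q))) ?_ ?_ ?_
    · intro Q _ _ _ _
      exact F.map_isZero (ModuleCat.isZero_of_subsingleton _)
    · intro Q _ _ _ q e
      exact (hprime q).of_iso (F.mapIso e.toModuleIso)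
    · intro Q₁ _ _ _ Q₂ _ _ _ Q₃ _ _ _ f g hf hg hfg h₁ h₃
      have hS : (ShortComplex.mk (ModuleCat.ofHom f) (ModuleCat.ofHom g)
          (ModuleCat.hom_ext hfg.linearMap_comp_eq_zero)).ShortExact :=
        { exact := (ShortComplex.ShortExact.moduleCat_exact_iff_function_exact _).2 hfg
          mono_f := (ModuleCat.mono_iff_injective _).2 hf
          epi_g := (ModuleCat.epi_iff_surjective _).2 hg }
      exact (hex _ hS inferInstance).isZero_of_both_zeros (h₁.eq_of_src _ _) (h₃.eq_of_tgt _ _)
  exact hall M

end Groth.Agent.S11461
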