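import Groth.Statements.S11462
import Groth.Agent.DepthExtend.Basic
import Groth.Agent.FlatDepth.Serre
import Groth.Agent.Catenary.NormalDepth

set_option autoImplicit false
universe u
open CategoryTheory AlgebraicGeometry Opposite
open DefT

namespace Groth.Agent.S11462

/-- Let C be a local Artin ring with maximal ideal m, A a Noetherian C-algebra flat over C such that
Spec(A/mA) is a normal scheme, and U ⊆ X = Spec A an open subset whose closed complement has
codimension ≥ 2, i.e. every prime of A not in U has height at least 2. Then the restriction map Γ(X,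
O_X) → Γ(U, O_X) is bijective. (The published statement assumes only that A is flat over C with
normal special fibre; this row also assumes A Noetherian: for a valuation ring of rank two over a
field, which is normal and flat, the functions on the complement of the closed point are not all
global.) -/
theorem result (C : Type u) [CommRing C]
    [IsLocalRing C] [IsArtinianRing C] (A : Type u) [CommRing A] [IsNoetherianRing A] [Algebra C A]
    [Module.Flat C A]
    (hnorm : Pi1.IsNormalScheme (Spec (CommRingCat.of (A ⧸ (IsLocalRing.maximalIdeal C).map (algebraMap C A)))))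
    (U : (Spec (CommRingCat.of A)).Opens)
    (hU : ∀ p : ↥(Spec (CommRingCat.of A)), p ∉ U → (2 : ℕ∞) ≤ p.asIdeal.height) :
    Function.Bijective ((Spec (CommRingCat.of A)).presheaf.map (homOfLE (le_top : U ≤ ⊤)).op) := by
  classical
  let m := IsLocalRing.maximalIdeal C
  let I := m.map (algebraMap C A)
  -- the ideal of the special fibre is nilpotent
  have hI : ∀ q : Ideal A, q.IsPrime → q.comap (algebraMap C A) = m ∧ I ≤ q := fun q _ => by
    have h : q.comap (algebraMap C A) = m :=
      IsLocalRing.eq_maximalIdeal inferInstance
    exact ⟨h, Ideal.map_le_iff_le_comap.2 h.ge⟩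
  have hdepth : ∀ x : ↥(Spec (CommRingCat.of A)), x ∉ U →
      (2 : ℕ∞) ≤ LocCoh.depth ((Spec (CommRingCat.of A)).presheaf.stalk x)
        ((Spec (CommRingCat.of A)).presheaf.stalk x) := by
    intro x hx
    let p : Ideal A := x.asIdeal
    haveI : p.IsPrime := x.isPrime
    let S := Localization.AtPrime p
    haveI : IsNoetherianRing S := IsLocalization.isNoetherianRing p.primeCompl _ inferInstance
    haveI : Module.Flat A S := IsLocalization.flat S p.primeCompl
    haveI : Module.Flat C S := Module.Flat.trans C A S
    have hcomap : ((IsLocalRing.maximalIdeal S).comap (algebraMap C S)) = m := by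
      rw [IsScalarTower.algebraMap_eq C A S, ← Ideal.comap_comap]
      exact (hI _ inferInstance).1
    haveI : IsLocalHom (algebraMap C S) :=
      ((IsLocalRing.local_hom_TFAE (algebraMap C S)).out 0 4).2 hcomap
    let q : Ideal (A ⧸ I) := p.map (Ideal.Quotient.mk I)
    have hcq : q.comap (Ideal.Quotient.mk I) = p := by
      rw [Ideal.comap_map_mk]
      exact (hI p inferInstance).2
    haveI : q.IsPrime := Ideal.map_isPrime_of_surjective Ideal.Quotient.mk_surjective
      (by rw [Ideal.mk_ker]; exact (hI p inferInstance).2)
    have hmax : m.map (algebraMap C S) = I.map (algebraMap A S) := by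
      rw [Ideal.map_map, IsScalarTower.algebraMap_eq C A S]
    have hsub : Algebra.algebraMapSubmonoid (A ⧸ I) p.primeCompl = q.primeCompl := by
      ext y
      constructor
      · rintro ⟨a, ha, rfl⟩ hy
        exact ha (hcq ▸ hy)
      · intro hy
        obtain ⟨a, rfl⟩ := Ideal.Quotient.mk_surjective y
        exact ⟨a, fun ha => hy (Ideal.mem_map_of_mem _ ha), rfl⟩
    let F := S ⧸ I.map (algebraMap A S)
    haveI : IsLocalization.AtPrime F q := by
      show IsLocalization q.primeCompl F
      rw [← hsub]
      infer_instance
    let x₀ : PrimeSpectrum (A ⧸ I) := ⟨q, inferInstance⟩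
    obtain ⟨h₁, h₂⟩ := hnorm x₀
    let e : (Spec (CommRingCat.of (A ⧸ I))).presheaf.stalk x₀ ≃+* F :=
      (Spec.stalkIso (CommRingCat.of (A ⧸ I)) x₀).commRingCatIsoToRingEquiv.trans
        (IsLocalization.algEquiv q.primeCompl (Localization.AtPrime q) F).toRingEquiv
    haveI := h₁
    haveI := h₂
    haveI : IsDomain F := e.symm.toMulEquiv.isDomain _
    haveI : IsIntegrallyClosed F := IsIntegrallyClosed.of_equiv e
    haveI : IsLocalRing F := IsLocalization.AtPrime.isLocalRing F q
    have hdim : ringKrullDim F = ringKrullDim S := by
      rw [ringKrullDim_quotient]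
      refine le_antisymm (Order.krullDim_le_of_strictMono Subtype.val fun _ _ h => h) ?_
      refine Order.krullDim_le_of_strictMono (fun P : PrimeSpectrum S => (⟨P, ?_⟩ : PrimeSpectrum.zeroLocus _))
        fun _ _ h => h
      exact Ideal.map_le_iff_le_comap.2 (hI _ inferInstance).2
    have hF : (2 : ℕ∞) ≤ LocCoh.depth F F := by
      refine Catenary.two_le_depth_of_normal fun hle => ?_
      rw [hdim, IsLocalization.AtPrime.ringKrullDim_eq_height p S] at hle
      have h2 := le_trans (WithBot.coe_le_coe.2 (hU x hx)) hle
      exact absurd (WithBot.coe_le_coe.1 h2) (by decide)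
    have hFm : (2 : ℕ∞) ≤ LocCoh.depth S S := by
      haveI : IsLocalRing (S ⧸ m.map (algebraMap C S)) := by rw [hmax]; infer_instance
      rw [FlatDepth.depth_eq_add (R := C) (S := S),
        FlatDepth.depth_ringEquiv (Ideal.quotEquivOfEq hmax)]
      exact hF.trans le_add_self
    let eS : S ≃+* (Spec (CommRingCat.of A)).presheaf.stalk x :=
      (Spec.stalkIso (CommRingCat.of A) x).commRingCatIsoToRingEquiv.symm
    haveI : IsNoetherianRing ((Spec (CommRingCat.of A)).presheaf.stalk x) := isNoetherianRing_of_ringEquiv S eS
    rw [← FlatDepth.depth_ringEquiv eS]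
    exact hFm
  haveI : IsNoetherianRing (CommRingCat.of A) := inferInstanceAs (IsNoetherianRing A)
  have h := DepthExtend.bijective_sections U hdepth ⊤
  have e : (⊤ : (Spec (CommRingCat.of A)).Opens) ⊓ U = U := top_inf_eq U
  have hiso : IsIso ((Spec (CommRingCat.of A)).presheaf.map (eqToHom e.symm).op) := inferInstance
  have := (ConcreteCategory.bijective_of_isIso ((Spec (CommRingCat.of A)).presheaf.map (eqToHom e.symm).op)).comp h
  rw [show (homOfLE (le_top : U ≤ ⊤)).op = (homOfLE inf_le_left).op ≫ (eqToHom e.symm).op from rfl, Functor.map_comp]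
  exact this

end Groth.Agent.S11462
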