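import Groth.Statements.S11463
import Groth.Agent.HilbSurf.Main
import Groth.Agent.ExtFund.SmoothPn
import Groth.Agent.ProjOverIso.Basic
import Groth.Agent.ProjMor.ProjSpaceBase
import Groth.Agent.Horrocks.Dim

set_option autoImplicit false
set_option backward.isDefEq.respectTransparency false
universe u
open CategoryTheory AlgebraicGeometry
open DefT

namespace Groth.Agent.S11463

/-- For k algebraically closed and every n > 0, the Hilbert scheme Hilb^n(P²_k) of zero-dimensional
closed subschemes of length n of the projective plane is irreducible: any k-scheme H representing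
the functor Hilb^n of P²_k over Spec k (with universal family Z) has irreducible underlying space. -/
theorem result (k : Type u) [Field k] [IsAlgClosed k]
    (n : ℕ) (hn : 0 < n) (H : Over (Spec (CommRingCat.of k)))
    (Z : HilbD.Obj (CohB1.ProjSpace.toSpec 2 k) n H)
    (hH : HilbD.IsUniversal (CohB1.ProjSpace.toSpec 2 k) n H Z) :
    IrreducibleSpace H.left := by
  obtain ⟨e, he⟩ := ProjOverIso.exists_iso 2 k
  haveI := Horrocks.isIntegral_projSpace (k := k) (n := 2)
  haveI := ProjMor.isProper_toSpec 2 k
  haveI := ExtFund.smoothOfRelativeDimension_projSpace (k := k) 2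
  haveI : Smooth (CohB1.ProjSpace.toSpec 2 k) := SmoothOfRelativeDimension.smooth 2 _
  haveI : CompactSpace (CohB1.ProjSpace 2 k) :=
    QuasiCompact.compactSpace_of_compactSpace (CohB1.ProjSpace.toSpec 2 k)
  have hproj : Neron.IsProjectiveOver k (Over.mk (CohB1.ProjSpace.toSpec 2 k)) :=
    ⟨2, e.inv, inferInstance, by simp [← he]⟩
  haveI : ConnectedSpace (CohB1.ProjSpace 2 k) := inferInstance
  obtain ⟨hc, hreg, -⟩ := HilbSurf.fogarty (f := CohB1.ProjSpace.toSpec 2 k)
    (fun S hS => HilbConn.exists_affine_of_finite (Y := Over.mk (CohB1.ProjSpace.toSpec 2 k)) hproj S hS)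
    (Groth.Agent.S10829.result k 2) n H Z hH
  haveI := hc
  haveI : LocallyOfFiniteType H.hom := HilbSurf.locallyOfFiniteType_hilb (fun s x _ => by
    obtain ⟨U, hU, hxU⟩ :=
      HilbConn.exists_affine_of_finite (Y := Over.mk (CohB1.ProjSpace.toSpec 2 k)) hproj _ (Set.finite_range x)
    exact ⟨U, hU, fun i => hxU ⟨i, rfl⟩⟩) H Z hH
  haveI : IsLocallyNoetherian H.left := LocallyOfFiniteType.isLocallyNoetherian H.hom
  exact HilbSurf.irreducible_of_regular hreg

end Groth.Agent.S11463
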