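import Groth.Statements.S11468
import Mathlib.RingTheory.HopkinsLevitzki
import Mathlib.RingTheory.Nakayama


set_option autoImplicit false
universe u
open CategoryTheory AlgebraicGeometry
open DefT

namespace Groth.Agent.S11468

/-- Let C be a local Artin ring with maximal ideal m and residue field k = C/m, g : X → Spec C a flat
morphism, and i : X₀ → X the fibre of g over the closed point, i.e. a pullback of g along Spec k →
Spec C, with structure map f₀ : X₀ → Spec k. If the induced ring map k → Γ(X₀, O_{X₀}) is bijective,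
then so is C → Γ(X, O_X). -/
theorem result (C : Type u) [CommRing C]
    [IsLocalRing C] [IsArtinianRing C] (X X₀ : Scheme.{u}) (g : X ⟶ Spec (CommRingCat.of C)) [Flat g]
    (i : X₀ ⟶ X) (f₀ : X₀ ⟶ Spec (CommRingCat.of (C ⧸ IsLocalRing.maximalIdeal C)))
    (hsq : IsPullback i f₀ g
      (Spec.map (CommRingCat.ofHom (Ideal.Quotient.mk (IsLocalRing.maximalIdeal C)))))
    (h0 : Function.Bijective ((Scheme.ΓSpecIso (CommRingCat.of (C ⧸ IsLocalRing.maximalIdeal C))).inv ≫
      f₀.appTop)) :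
    Function.Bijective ((Scheme.ΓSpecIso (CommRingCat.of C)).inv ≫ g.appTop) := by
  classical
  let 𝔪 := IsLocalRing.maximalIdeal C
  let α₀ : C →+* Γ(X, ⊤) := ((Scheme.ΓSpecIso (CommRingCat.of C)).inv ≫ g.appTop).hom
  let α : ∀ U : X.Opens, C →+* Γ(X, U) := fun U => (X.presheaf.map (homOfLE le_top).op).hom.comp α₀
  let π := Spec.map (CommRingCat.ofHom (Ideal.Quotient.mk 𝔪))
  have hres : ∀ {U V : X.Opens} (h : V ≤ U) (c : C), X.presheaf.map (homOfLE h).op (α U c) = α V c := by
    intro U V h c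
    show (X.presheaf.map _ ≫ X.presheaf.map _) (α₀ c) = _
    rw [← Functor.map_comp]
    rfl
  have hflat : ∀ U : X.Opens, IsAffineOpen U → (α U).Flat := by
    intro U hU
    have h1 : (g.appLE ⊤ U le_top).hom.Flat :=
      HasRingHomProperty.appLE (P := @Flat) g inferInstance ⟨⊤, isAffineOpen_top _⟩ ⟨U, hU⟩ le_top
    have h2 : α U = (g.appLE ⊤ U le_top).hom.comp (Scheme.ΓSpecIso (CommRingCat.of C)).inv.hom := rfl
    rw [h2]
    exact RingHom.Flat.comp (RingHom.Flat.of_bijective
      (ConcreteCategory.bijective_of_isIso (Scheme.ΓSpecIso (CommRingCat.of C)).inv)) h1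
  have hi0 : ∀ (U : X.Opens) (m : C), m ∈ 𝔪 → i.app U (α U m) = 0 := by
    intro U m hm
    have e : i.appTop (α₀ m) = 0 := by
      show (((Scheme.ΓSpecIso (CommRingCat.of C)).inv ≫ g.appTop) ≫ i.appTop) m = 0
      rw [Category.assoc, ← Scheme.Hom.comp_appTop, hsq.w, Scheme.Hom.comp_appTop, ← Category.assoc,
        ← Scheme.ΓSpecIso_inv_naturality]
      have hm0 : (CommRingCat.ofHom (Ideal.Quotient.mk (IsLocalRing.maximalIdeal C))) m = 0 :=
        Ideal.Quotient.eq_zero_iff_mem.2 hm
      show f₀.appTop ((Scheme.ΓSpecIso (CommRingCat.of (C ⧸ IsLocalRing.maximalIdeal C))).inv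
        ((CommRingCat.ofHom (Ideal.Quotient.mk (IsLocalRing.maximalIdeal C))) m)) = 0
      rw [hm0, map_zero, map_zero]
    show (X.presheaf.map (homOfLE le_top).op ≫ i.app U) (α₀ m) = 0
    rw [Scheme.Hom.naturality, CommRingCat.comp_apply]
    show X₀.presheaf.map _ (i.appTop (α₀ m)) = 0
    rw [e, map_zero]
  have hker : ∀ (U : X.Opens), IsAffineOpen U → ∀ x, i.app U x = 0 → x ∈ 𝔪.map (α U) := by
    intro U hU x hx
    have hU0 : i ⁻¹ᵁ U = i ⁻¹ᵁ U ⊓ f₀ ⁻¹ᵁ ⊤ := by simp
    have hP := (isIso_pushoutSection_iff hsq (US := ⊤) (UT := ⊤) (UX := U) (UY := i ⁻¹ᵁ U) le_top le_top hU0).1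
      (isIso_pushoutSection_of_isAffineOpen hsq _ _ _ (isAffineOpen_top _) (isAffineOpen_top _) hU)
    let q : Γ(X, U) →+* Γ(X, U) ⧸ 𝔪.map (α U) := Ideal.Quotient.mk _
    let r : Γ(Spec (CommRingCat.of (C ⧸ 𝔪)), ⊤) →+* Γ(X, U) ⧸ 𝔪.map (α U) :=
      (Ideal.Quotient.lift 𝔪 (q.comp (α U)) (fun c hc =>
        Ideal.Quotient.eq_zero_iff_mem.2 (Ideal.mem_map_of_mem _ hc))).comp
        (Scheme.ΓSpecIso (CommRingCat.of (C ⧸ 𝔪))).hom.hom
    have hw : g.appLE ⊤ U le_top ≫ CommRingCat.ofHom q = π.appLE ⊤ ⊤ le_top ≫ CommRingCat.ofHom r := by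
      rw [← cancel_epi (Scheme.ΓSpecIso (CommRingCat.of C)).inv]
      have e1 : π.appLE ⊤ ⊤ le_top = π.appTop := by rw [Scheme.Hom.appTop, Scheme.Hom.app_eq_appLE]; rfl
      rw [e1, ← Category.assoc, ← Category.assoc, ← Scheme.ΓSpecIso_inv_naturality, Category.assoc,
        Category.assoc]
      ext c
      show q (α U c) = Ideal.Quotient.lift 𝔪 (q.comp (α U))
        (fun c hc => Ideal.Quotient.eq_zero_iff_mem.2 (Ideal.mem_map_of_mem _ hc))
        ((Scheme.ΓSpecIso (CommRingCat.of (C ⧸ 𝔪))).hom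
          ((Scheme.ΓSpecIso (CommRingCat.of (C ⧸ 𝔪))).inv (Ideal.Quotient.mk 𝔪 c)))
      rw [← CommRingCat.comp_apply, Iso.inv_hom_id]
      rfl
    have e2 := ConcreteCategory.congr_hom (hP.inl_desc _ _ hw) x
    rw [CommRingCat.comp_apply] at e2
    refine Ideal.Quotient.eq_zero_iff_mem.1 ?_
    change q x = 0
    rw [← show (CommRingCat.ofHom q) x = q x from rfl, ← e2]
    simp only [← Scheme.Hom.app_eq_appLE]
    rw [hx, map_zero]
  have key : ∀ J : Ideal C, ∀ s : Γ(X, ⊤), (∀ U : X.Opens, IsAffineOpen U →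
      X.presheaf.map (homOfLE le_top).op s ∈ J.map (α U)) → ∃ c : C, α₀ c = s := by
    intro J
    induction J using WellFoundedLT.induction with
    | ind J ih =>
    intro s hs
    rcases eq_or_ne J ⊥ with rfl | hJ
    · refine ⟨0, ?_⟩
      rw [map_zero]
      refine X.IsSheaf.section_ext fun x _ => ?_
      obtain ⟨U, hU, hxU, -⟩ := exists_isAffineOpen_mem_and_subset (X := X) (x := x) (U := ⊤) trivial
      have h1 := hs U hU
      rw [Ideal.map_bot, Ideal.mem_bot] at h1
      exact ⟨U, le_top, hxU, by rw [map_zero]; exact h1.symm⟩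
    haveI : IsNoetherianRing C := inferInstance
    haveI : WellFoundedGT (Ideal C) := isNoetherian_iff'.1 (inferInstance : IsNoetherian C C)
    obtain ⟨J', hJ', hmax⟩ := WellFounded.has_min (wellFounded_gt (α := Ideal C)) {K | K < J}
      ⟨⊥, bot_lt_iff_ne_bot.2 hJ⟩
    simp only [Set.mem_ofPred_eq] at hJ'
    obtain ⟨ε, hεJ, hεJ'⟩ := SetLike.exists_of_lt hJ'
    have hsup : J = J' ⊔ Ideal.span {ε} := by
      rcases (sup_le hJ'.le ((Ideal.span_singleton_le_iff_mem _).2 hεJ)).eq_or_lt with h | h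
      · exact h.symm
      · exact absurd (lt_of_le_of_ne le_sup_left fun he => hεJ'
          (by rw [he]; exact Ideal.mem_sup_right (Ideal.mem_span_singleton_self ε))) (hmax _ h)
    have hmε : ∀ m ∈ 𝔪, m * ε ∈ J' := by
      intro m hm
      rcases (sup_le hJ'.le (Ideal.mul_le_right : 𝔪 * J ≤ J)).eq_or_lt with h | h
      · exact absurd hJ' (not_lt_of_ge (Submodule.le_of_le_smul_of_le_jacobson_bot (IsNoetherian.noetherian J)
          (IsLocalRing.maximalIdeal_le_jacobson _) h.ge))
      · have : J' ⊔ 𝔪 * J = J' := by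
          by_contra hne
          exact hmax _ h (lt_of_le_of_ne le_sup_left (Ne.symm hne))
        exact this ▸ Ideal.mem_sup_right (Ideal.mul_mem_mul hm hεJ)
    have huniq : ∀ (U : X.Opens), IsAffineOpen U → ∀ a : Γ(X, U), α U ε * a ∈ J'.map (α U) →
        a ∈ 𝔪.map (α U) := by
      intro U hU a ha
      algebraize [α U]
      haveI : Module.Flat C Γ(X, U) := hflat U hU
      let μ : (C ⧸ 𝔪) →ₗ[C] C ⧸ J' := Submodule.mapQ 𝔪 J' (LinearMap.mul C C ε) fun m hm => by
        show ε * m ∈ J'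
        rw [mul_comm]; exact hmε m hm
      have hμ : Function.Injective μ := by
        rw [injective_iff_map_eq_zero]
        intro z hz
        obtain ⟨z, rfl⟩ := Ideal.Quotient.mk_surjective z
        refine Ideal.Quotient.eq_zero_iff_mem.2 ?_
        by_contra hz'
        have hu : IsUnit z := by
          by_contra hu
          exact hz' hu
        have hz2 : ε * z ∈ J' := Ideal.Quotient.eq_zero_iff_mem.1 hz
        exact hεJ' ((Ideal.mul_unit_mem_iff_mem J' hu).1 hz2)
      have hj := Module.Flat.rTensor_preserves_injective_linearMap (M := Γ(X, U)) μ hμ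
      have h0' : TensorProduct.tmul C (Ideal.Quotient.mk J' (1 : C)) (α U ε * a) = 0 := by
        refine (TensorProduct.quotTensorEquivQuotSMul Γ(X, U) J').injective ?_
        rw [map_zero, TensorProduct.quotTensorEquivQuotSMul_mk_tmul, one_smul,
          Submodule.Quotient.mk_eq_zero, Ideal.smul_top_eq_map]
        exact ha
      have h1 : TensorProduct.tmul C (Ideal.Quotient.mk 𝔪 (1 : C)) a = 0 := by
        refine hj ?_
        rw [map_zero, LinearMap.rTensor_tmul]
        rw [← h0']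
        show TensorProduct.tmul C (Submodule.Quotient.mk (ε * 1)) a = _
        rw [show (α U ε * a) = ε • a from (Algebra.smul_def ε a).symm, ← TensorProduct.smul_tmul]
        congr 1
      have h2 := congrArg (TensorProduct.quotTensorEquivQuotSMul Γ(X, U) 𝔪) h1
      rw [map_zero, TensorProduct.quotTensorEquivQuotSMul_mk_tmul, one_smul,
        Submodule.Quotient.mk_eq_zero, Ideal.smul_top_eq_map] at h2
      exact h2
    have hdec : ∀ U : X.affineOpens, ∃ a : Γ(X, U.1),
        X.presheaf.map (homOfLE le_top).op s - α U.1 ε * a ∈ J'.map (α U.1) := by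
      intro U
      have h1 := hs U.1 U.2
      rw [hsup, Ideal.map_sup, Ideal.map_span, Set.image_singleton, Submodule.mem_sup] at h1
      obtain ⟨y, hy, z, hz, e⟩ := h1
      obtain ⟨a, rfl⟩ := Ideal.mem_span_singleton'.1 hz
      exact ⟨a, by rw [← e, mul_comm a, add_sub_cancel_right]; exact hy⟩
    choose a ha using hdec
    let sf : ∀ U : X.affineOpens, Γ(X₀, i ⁻¹ᵁ U.1) := fun U => i.app U.1 (a U)
    have hmapJ : ∀ (K : Ideal C) {U V : X.Opens} (h : V ≤ U) (x : Γ(X, U)), x ∈ K.map (α U) →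
        X.presheaf.map (homOfLE h).op x ∈ K.map (α V) := by
      intro K U V h x hx
      have := Ideal.mem_map_of_mem (X.presheaf.map (homOfLE h).op).hom hx
      rw [Ideal.map_map] at this
      rwa [show (X.presheaf.map (homOfLE h).op).hom.comp (α U) = α V from RingHom.ext (hres h)] at this
    have hcompat : TopCat.Presheaf.IsCompatible X₀.presheaf (fun U : X.affineOpens => i ⁻¹ᵁ U.1) sf := by
      intro U V
      refine X₀.IsSheaf.section_ext fun x hx => ?_
      obtain ⟨W, hW, hxW, hWle⟩ :=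
        exists_isAffineOpen_mem_and_subset (X := X) (x := i x) (U := U.1 ⊓ V.1) hx
      have hWU : W ≤ U.1 := fun y hy => (hWle hy).1
      have hWV : W ≤ V.1 := fun y hy => (hWle hy).2
      refine ⟨i ⁻¹ᵁ W, fun y hy => ⟨hWU hy, hWV hy⟩, hxW, ?_⟩
      have hd : X.presheaf.map (homOfLE hWU).op (a U) - X.presheaf.map (homOfLE hWV).op (a V)
          ∈ 𝔪.map (α W) := by
        refine huniq W hW _ ?_
        have e1 := hmapJ J' hWU _ (ha U)
        have e2 := hmapJ J' hWV _ (ha V)
        rw [map_sub, map_mul, hres, ← CommRingCat.comp_apply, ← Functor.map_comp] at e1 e2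
        have e3 := sub_mem e2 e1
        rw [mul_sub]
        simp only [← op_comp, homOfLE_comp] at e3
        convert e3 using 1
        rw [sub_sub_sub_cancel_left]
      have hz : i.app W (X.presheaf.map (homOfLE hWU).op (a U) - X.presheaf.map (homOfLE hWV).op (a V)) = 0 := by
        refine (Ideal.map_le_iff_le_comap (I := 𝔪) (f := α W) (K := RingHom.ker (i.app W).hom)).2 ?_ hd
        intro m hm
        exact hi0 W m hm
      rw [map_sub, sub_eq_zero, ← CommRingCat.comp_apply, ← CommRingCat.comp_apply,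
        Scheme.Hom.naturality, Scheme.Hom.naturality] at hz
      simp only [sf, ← CommRingCat.comp_apply, Category.assoc, ← Functor.map_comp]
      exact hz
    obtain ⟨t, ht, -⟩ := TopCat.Sheaf.existsUnique_gluing' X₀.sheaf (fun U : X.affineOpens => i ⁻¹ᵁ U.1) ⊤
      (fun U => homOfLE le_top) (by
        intro x _
        obtain ⟨U, hU, hxU, -⟩ := exists_isAffineOpen_mem_and_subset (X := X) (x := i x) (U := ⊤) trivial
        exact TopologicalSpace.Opens.mem_iSup.2 ⟨⟨U, hU⟩, hxU⟩) sf hcompat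
    obtain ⟨c₀, hc₀⟩ := h0.2 t
    obtain ⟨c, rfl⟩ := Ideal.Quotient.mk_surjective c₀
    have hc : ∀ U : X.affineOpens, a U - α U.1 c ∈ 𝔪.map (α U.1) := by
      intro U
      refine hker U.1 U.2 _ ?_
      rw [map_sub, sub_eq_zero]
      have e : i.appTop (α₀ c) = t := by
        rw [← hc₀]
        show (((Scheme.ΓSpecIso (CommRingCat.of C)).inv ≫ g.appTop) ≫ i.appTop) c = _
        rw [Category.assoc, ← Scheme.Hom.comp_appTop, hsq.w, Scheme.Hom.comp_appTop, ← Category.assoc,
          ← Scheme.ΓSpecIso_inv_naturality]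
        rfl
      show sf U = (X.presheaf.map (homOfLE le_top).op ≫ i.app U.1) (α₀ c)
      rw [Scheme.Hom.naturality, CommRingCat.comp_apply]
      show sf U = X₀.presheaf.map _ (i.appTop (α₀ c))
      rw [e]
      exact (ht U).symm
    obtain ⟨c', hc'⟩ := ih J' hJ' (s - α₀ (ε * c)) fun U hU => by
      rw [map_sub]
      show X.presheaf.map (homOfLE le_top).op s - α U (ε * c) ∈ _
      have e1 := ha ⟨U, hU⟩
      have e2 : α U ε * (a ⟨U, hU⟩ - α U c) ∈ J'.map (α U) := by
        refine Ideal.map_mono (f := α U) (show 𝔪 * Ideal.span {ε} ≤ J' from ?_) ?_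
        · rw [Ideal.mul_le]
          intro m hm z hz
          obtain ⟨r, rfl⟩ := Ideal.mem_span_singleton'.1 hz
          rw [show m * (r * ε) = r * (m * ε) by ring]
          exact J'.mul_mem_left _ (hmε m hm)
        · rw [Ideal.map_mul, mul_comm (α U ε)]
          exact Ideal.mul_mem_mul (hc ⟨U, hU⟩) (Ideal.mem_map_of_mem _ (Ideal.mem_span_singleton_self ε))
      have := add_mem e1 e2
      rw [mul_sub, ← map_mul] at this
      convert this using 1
      ring
    exact ⟨c' + ε * c, by rw [map_add, hc', sub_add_cancel]⟩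
  refine ⟨(injective_iff_map_eq_zero α₀).2 fun c hc => ?_, fun s => key ⊤ s fun U hU => ?_⟩
  · have hne : Nonempty ↥X₀ := by
      by_contra hh
      haveI : IsEmpty ↥X₀ := not_nonempty_iff.1 hh
      haveI : Subsingleton Γ(X₀, ⊤) := CommRingCat.subsingleton_of_isTerminal
        (X₀.sheaf.isTerminalOfEqEmpty (Subsingleton.elim _ _))
      have := h0.1 (Subsingleton.elim (((Scheme.ΓSpecIso (CommRingCat.of (C ⧸ IsLocalRing.maximalIdeal C))).inv ≫
        f₀.appTop) 1) (((Scheme.ΓSpecIso (CommRingCat.of (C ⧸ IsLocalRing.maximalIdeal C))).inv ≫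
        f₀.appTop) 0))
      exact one_ne_zero this
    obtain ⟨x₀⟩ := hne
    obtain ⟨U, hU, hxU, -⟩ := exists_isAffineOpen_mem_and_subset (X := X) (x := i x₀) (U := ⊤) trivial
    have h1 : α U c = 0 := by
      show X.presheaf.map _ (α₀ c) = 0
      rw [hc, map_zero]
    algebraize [α U]
    haveI : Module.Flat C Γ(X, U) := hflat U hU
    have hne : (⊤ : Submodule C Γ(X, U)) ≠ 𝔪 • ⊤ := fun he => by
      have h2 : (1 : Γ(X, U)) ∈ 𝔪.map (α U) := by
        have : (1 : Γ(X, U)) ∈ (𝔪 • ⊤ : Submodule C Γ(X, U)) := he ▸ Submodule.mem_top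
        rwa [Ideal.smul_top_eq_map] at this
      have h3 : i.app U 1 = 0 := (Ideal.map_le_iff_le_comap (I := 𝔪) (f := α U)
        (K := RingHom.ker (i.app U).hom)).2 (fun m hm => hi0 U m hm) h2
      haveI : Subsingleton Γ(X₀, i ⁻¹ᵁ U) := subsingleton_of_zero_eq_one (by rw [← h3, map_one])
      exact not_subsingleton (X₀.presheaf.stalk x₀) (subsingleton_of_zero_eq_one (by
        rw [← map_one (X₀.presheaf.germ (i ⁻¹ᵁ U) x₀ hxU).hom,
          Subsingleton.elim (1 : Γ(X₀, i ⁻¹ᵁ U)) 0, map_zero]))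
    haveI : Module.FaithfullyFlat C Γ(X, U) := ⟨fun {m} hm => by
      rw [IsLocalRing.eq_maximalIdeal hm]
      exact fun he => hne he.symm⟩
    exact FaithfulSMul.algebraMap_injective C Γ(X, U) (by rw [map_zero]; exact h1)
  · rw [Ideal.map_top]
    trivial

end Groth.Agent.S11468
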