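import Groth.Statements.S11469

set_option autoImplicit false
universe u
open scoped TensorProduct
open DefT

namespace Groth.Agent.S11469

/-- Let C' be a local Artin ring with maximal ideal m, J ⊊ C' a proper ideal with mJ = 0, A' a
C'-algebra, M' an A'-module flat over C', and M₀ = M'/mM'. Then (1) every A'-linear endomorphism σ
of M' that is the identity modulo JM' is bijective, and there is exactly one A'-linear τ : M₀ → M₀
⊗_{C'} J such that, for all x ∈ M' and all z ∈ M' ⊗_{C'} J mapping to σ(x) − x in M', the image of z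
in M₀ ⊗_{C'} J is τ applied to the class of x; and (2) every A'-linear τ : M₀ → M₀ ⊗_{C'} J comes in
this way from some such σ. Thus the automorphisms of the extension M' inducing the identity on
M'/JM' correspond to Hom(M₀, M₀ ⊗ J). -/
theorem result (C' : Type u) [CommRing C'] [IsLocalRing C']
    [IsArtinianRing C'] (J : Ideal C') (hJ : IsLocalRing.maximalIdeal C' * J = ⊥) (hJne : J ≠ ⊤)
    (A' : Type u) [CommRing A'] [Algebra C' A'] (M' : Type u) [AddCommGroup M'] [Module A' M'] [Module C' M']
    [IsScalarTower C' A' M'] [Module.Flat C' M'] :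
    (∀ σ : M' →ₗ[A'] M', (∀ x : M', σ x - x ∈ (J.map (algebraMap C' A')) • (⊤ : Submodule A' M')) →
      Function.Bijective σ ∧
        ∃! τ : (M' ⧸ ((IsLocalRing.maximalIdeal C').map (algebraMap C' A')) • (⊤ : Submodule A' M')) →ₗ[A'] ((M' ⧸ ((IsLocalRing.maximalIdeal C').map (algebraMap C' A')) • (⊤ : Submodule A' M')) ⊗[C'] ↥J),
          (∀ (x : M') (z : M' ⊗[C'] ↥J), TensorProduct.rid C' M' (LinearMap.lTensor M' (Submodule.subtype J) z) = σ x - x →
            LinearMap.rTensor ↥J ((Submodule.mkQ (((IsLocalRing.maximalIdeal C').map (algebraMap C' A')) • (⊤ : Submodule A' M'))).restrictScalars C') z =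
              τ (Submodule.mkQ _ x))) ∧
    (∀ τ : (M' ⧸ ((IsLocalRing.maximalIdeal C').map (algebraMap C' A')) • (⊤ : Submodule A' M')) →ₗ[A'] ((M' ⧸ ((IsLocalRing.maximalIdeal C').map (algebraMap C' A')) • (⊤ : Submodule A' M')) ⊗[C'] ↥J),
      ∃ σ : M' →ₗ[A'] M', (∀ x : M', σ x - x ∈ (J.map (algebraMap C' A')) • (⊤ : Submodule A' M')) ∧
          (∀ (x : M') (z : M' ⊗[C'] ↥J), TensorProduct.rid C' M' (LinearMap.lTensor M' (Submodule.subtype J) z) = σ x - x →
            LinearMap.rTensor ↥J ((Submodule.mkQ (((IsLocalRing.maximalIdeal C').map (algebraMap C' A')) • (⊤ : Submodule A' M'))).restrictScalars C') z =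
              τ (Submodule.mkQ _ x))) := by
  classical
  have hJm : J ≤ IsLocalRing.maximalIdeal C' := IsLocalRing.le_maximalIdeal hJne
  have hzero : ∀ c ∈ IsLocalRing.maximalIdeal C', ∀ j : J, c • j = 0 := fun c hc j => by
    have h : c * (j : C') ∈ IsLocalRing.maximalIdeal C' * J := Ideal.mul_mem_mul hc j.2
    rw [hJ] at h
    exact Subtype.ext ((Submodule.mem_bot C').1 h)
  let mA := (IsLocalRing.maximalIdeal C').map (algebraMap C' A')
  let P : Submodule A' M' := mA • ⊤
  let JM : Submodule A' M' := (J.map (algebraMap C' A')) • ⊤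
  have hann : ∀ a ∈ mA, ∀ z : M' ⊗[C'] ↥J, a • z = 0 := by
    intro a ha
    induction ha using Submodule.span_induction with
    | mem a ha =>
      obtain ⟨c, hc, rfl⟩ := ha
      intro z
      induction z using TensorProduct.induction_on with
      | zero => exact smul_zero _
      | tmul x j =>
        rw [algebraMap_smul, ← TensorProduct.tmul_smul, hzero c hc j, TensorProduct.tmul_zero]
      | add y z hy hz => rw [smul_add, hy, hz, add_zero]
    | zero => exact fun z => zero_smul _ _
    | add a b _ _ ha hb => exact fun z => by rw [add_smul, ha, hb, add_zero]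
    | smul r a _ ha => exact fun z => by rw [smul_eq_mul, mul_smul, ha, smul_zero]
  let φ : M' ⊗[C'] ↥J →ₗ[A'] M' :=
    { toFun := fun z => TensorProduct.rid C' M' (LinearMap.lTensor M' (Submodule.subtype J) z)
      map_add' := fun y z => by rw [map_add, map_add]
      map_smul' := fun a z => by
        induction z using TensorProduct.induction_on with
        | zero => simp
        | tmul x j =>
          rw [TensorProduct.smul_tmul', LinearMap.lTensor_tmul, LinearMap.lTensor_tmul, TensorProduct.rid_tmul,
            TensorProduct.rid_tmul, RingHom.id_apply, smul_comm]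
        | add y z hy hz => simp only [smul_add, map_add, RingHom.id_apply] at hy hz ⊢; rw [hy, hz] }
  have hφ : ∀ z, φ z = TensorProduct.rid C' M' (LinearMap.lTensor M' (Submodule.subtype J) z) := fun z => rfl
  have hφinj : Function.Injective φ :=
    (TensorProduct.rid C' M').injective.comp
      (Module.Flat.lTensor_preserves_injective_linearMap _ (Submodule.subtype_injective J))
  have hrange : LinearMap.range φ = JM := by
    refine le_antisymm ?_ ?_
    · rintro _ ⟨z, rfl⟩
      induction z using TensorProduct.induction_on with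
      | zero => rw [map_zero]; exact JM.zero_mem
      | tmul x j =>
        rw [hφ, LinearMap.lTensor_tmul, TensorProduct.rid_tmul, ← algebraMap_smul A' (J.subtype j) x]
        exact Submodule.smul_mem_smul (Ideal.mem_map_of_mem _ j.2) Submodule.mem_top
      | add y z hy hz => rw [map_add]; exact JM.add_mem hy hz
    · refine Submodule.smul_le.2 fun a ha x _ => ?_
      induction ha using Submodule.span_induction with
      | mem a ha =>
        obtain ⟨c, hc, rfl⟩ := ha
        exact ⟨x ⊗ₜ ⟨c, hc⟩, by simp [hφ, algebraMap_smul]⟩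
      | zero => rw [zero_smul]; exact Submodule.zero_mem _
      | add a b _ _ ha hb => rw [add_smul]; exact Submodule.add_mem _ ha hb
      | smul r a _ ha => rw [smul_eq_mul, mul_smul]; exact Submodule.smul_mem _ _ ha
  -- reduction of the first factor is an isomorphism
  let ψ : M' ⊗[C'] ↥J →ₗ[A'] (M' ⧸ P) ⊗[C'] ↥J :=
    { toFun := LinearMap.rTensor ↥J (P.mkQ.restrictScalars C')
      map_add' := map_add _
      map_smul' := fun a z => by
        induction z using TensorProduct.induction_on with
        | zero => simp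
        | tmul x j => simp [TensorProduct.smul_tmul']
        | add y z hy hz => simp only [smul_add, map_add, RingHom.id_apply] at hy hz ⊢; rw [hy, hz] }
  have hψ : ∀ z, ψ z = LinearMap.rTensor ↥J (P.mkQ.restrictScalars C') z := fun z => rfl
  have hPzero : ∀ x ∈ P, ∀ j : J, (x ⊗ₜ[C'] j : M' ⊗[C'] ↥J) = 0 := fun x hx j => by
    refine Submodule.smul_induction_on hx (fun a ha y _ => ?_) (fun y z hy hz => ?_)
    · rw [← TensorProduct.smul_tmul']
      exact hann a ha _
    · rw [TensorProduct.add_tmul, hy, hz, add_zero]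
  have hψbij : Function.Bijective ψ := by
    refine ⟨?_, LinearMap.rTensor_surjective _ P.mkQ_surjective⟩
    have hle : P.restrictScalars C' ≤ LinearMap.ker (TensorProduct.mk C' M' ↥J) := fun x hx =>
      LinearMap.mem_ker.2 (LinearMap.ext fun j => hPzero x hx j)
    let g : (M' ⧸ P) ⊗[C'] ↥J →ₗ[C'] M' ⊗[C'] ↥J :=
      TensorProduct.lift (((P.restrictScalars C').liftQ _ hle) ∘ₗ
        (Submodule.Quotient.restrictScalarsEquiv C' P).symm.toLinearMap)
    have hg : ∀ z, g (ψ z) = z := fun z => by
      induction z using TensorProduct.induction_on with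
      | zero => simp
      | tmul x j => rfl
      | add y z hy hz => rw [map_add, map_add, hy, hz]
    exact Function.LeftInverse.injective hg
  let e : M' ⊗[C'] ↥J ≃ₗ[A'] JM := LinearEquiv.ofBijective (φ.codRestrict JM fun z => hrange ▸ ⟨z, rfl⟩)
    ⟨fun y z h => hφinj (congrArg Subtype.val h), fun v => by
      obtain ⟨z, hz⟩ : (v : M') ∈ LinearMap.range φ := by rw [hrange]; exact v.2
      exact ⟨z, Subtype.ext hz⟩⟩
  have he : ∀ z, (e z : M') = φ z := fun z => rfl
  let Ψ : M' ⊗[C'] ↥J ≃ₗ[A'] (M' ⧸ P) ⊗[C'] ↥J := LinearEquiv.ofBijective ψ hψbij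
  have hφψ : ∀ a ∈ mA, ∀ z, a • φ z = 0 := fun a ha z => by rw [← map_smul, hann a ha, map_zero]
  refine ⟨fun σ hσ => ?_, fun τ => ?_⟩
  · let δ : M' →ₗ[A'] JM := (σ - LinearMap.id).codRestrict JM hσ
    let ε : M' →ₗ[A'] M' ⊗[C'] ↥J := e.symm.toLinearMap ∘ₗ δ
    have hε : ∀ x, φ (ε x) = σ x - x := fun x => by
      rw [← he]
      show ((e (e.symm (δ x)) : JM) : M') = _
      rw [LinearEquiv.apply_symm_apply]
      rfl
    have hP : P ≤ LinearMap.ker ε := by
      refine Submodule.smul_le.2 fun a ha x _ => ?_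
      rw [LinearMap.mem_ker, map_smul, hann a ha]
    have hJP : JM ≤ P := Submodule.smul_mono_left (Ideal.map_mono hJm)
    have hδ : ∀ x, σ (σ x - x) = σ x - x := fun x => by
      have h0 : ε (σ x - x) = 0 := hP (hJP (hσ x))
      have h := hε (σ x - x)
      rw [h0, map_zero] at h
      exact sub_eq_zero.1 h.symm
    refine ⟨⟨fun y z h => ?_, fun y => ⟨y - (σ y - y), by rw [map_sub, hδ, sub_sub_cancel]⟩⟩, ?_⟩
    · have hy := hδ (y - z)
      rw [map_sub σ y z, h, sub_self, zero_sub, map_neg, map_sub, h, sub_self, neg_zero] at hy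
      exact (sub_eq_zero.1 (neg_eq_zero.1 hy.symm))
    refine ⟨P.liftQ (Ψ.toLinearMap ∘ₗ ε) (hP.trans (LinearMap.ker_le_ker_comp _ _)), fun x z hz => ?_, fun τ hτ => ?_⟩
    · have : z = ε x := hφinj (hz.trans (hε x).symm)
      rw [this]
      rfl
    · refine LinearMap.ext fun v => ?_
      obtain ⟨x, rfl⟩ := P.mkQ_surjective v
      exact (hτ x (ε x) (hε x)).symm
  · let ε : M' →ₗ[A'] M' ⊗[C'] ↥J := Ψ.symm.toLinearMap ∘ₗ τ ∘ₗ P.mkQ
    refine ⟨LinearMap.id + φ ∘ₗ ε, fun x => ?_, fun x z hz => ?_⟩
    · rw [LinearMap.add_apply, LinearMap.id_apply, add_sub_cancel_left]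
      show (φ ∘ₗ ε) x ∈ JM
      rw [← hrange]
      exact ⟨_, rfl⟩
    · rw [LinearMap.add_apply, LinearMap.id_apply, add_sub_cancel_left] at hz
      have : z = ε x := hφinj hz
      rw [this]
      exact Ψ.apply_symm_apply _

end Groth.Agent.S11469
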