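import Groth.Statements.S11470


set_option autoImplicit false
set_option backward.isDefEq.respectTransparency false
set_option linter.style.haveILetI false
universe u
open Curves

namespace Groth.Agent.S11470

theorem inv_invariant {K : Type u} [Field K] (x : K) (h0 : x ≠ 0) (h1 : x - 1 ≠ 0) :
    (x⁻¹ ^ 2 - x⁻¹ + 1) ^ 3 / (x⁻¹ ^ 2 * (x⁻¹ - 1) ^ 2) = (x ^ 2 - x + 1) ^ 3 / (x ^ 2 * (x - 1) ^ 2) := by
  rw [show x⁻¹ ^ 2 - x⁻¹ + 1 = (x ^ 2 - x + 1) * x⁻¹ ^ 2 by field_simp; ring, show x⁻¹ - 1 = -(x - 1) * x⁻¹ by field_simp; ring,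
    mul_pow, mul_pow (-(x - 1)), neg_sq, div_eq_div_iff (by simp [h0, h1]) (by simp [h0, h1])]
  field_simp

open Polynomial in
theorem key {k : Type u} [Field k] [IsAlgClosed k] (h2 : (2 : k) ≠ 0) (σ τ : RatFunc k ≃ₐ[k] RatFunc k)
    (hσ : σ RatFunc.X = (RatFunc.X : RatFunc k)⁻¹) (hτ : τ RatFunc.X = 1 - (RatFunc.X : RatFunc k))
    (J : RatFunc k) (hJ : J = (((RatFunc.X : RatFunc k) ^ 2 - RatFunc.X + 1) ^ 3 / ((RatFunc.X : RatFunc k) ^ 2 * ((RatFunc.X : RatFunc k) - 1) ^ 2)))
    (hJσ : σ J = J) (hJτ : τ J = J)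
    (n : ℕ) : ∀ (b : RatFunc k) (P : k[X]), σ b = b → τ b = b →
      b * (RatFunc.X * (RatFunc.X - 1)) ^ (2 * n) = aeval (RatFunc.X : RatFunc k) P →
      b ∈ Algebra.adjoin k ({J} : Set (RatFunc k)) := by
  set x : RatFunc k := RatFunc.X with hx
  have hx0 : x ≠ 0 := RatFunc.X_ne_zero
  have hinj : Function.Injective (aeval x : k[X] → RatFunc k) := by
    intro P Q h
    have e : ∀ P : k[X], aeval x P = algebraMap k[X] (RatFunc k) P := fun P => by
      rw [hx, ← RatFunc.algebraMap_X, aeval_algebraMap_apply, aeval_X_left_apply]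
    rw [e, e] at h
    exact RatFunc.algebraMap_injective k h
  have hx1 : x - 1 ≠ 0 := fun h => by
    have : aeval x (Polynomial.X - 1 : k[X]) = aeval x (0 : k[X]) := by simpa using h
    exact Polynomial.X_sub_C_ne_zero (1 : k) (by simpa using hinj this)
  induction n with
  | zero =>
    intro b P hσb _ hP
    simp only [mul_zero, pow_zero, mul_one] at hP
    have h1 : aeval x⁻¹ P = aeval x P := by
      rw [← hσ, aeval_algHom_apply σ.toAlgHom x P |> fun e => (show aeval (σ x) P = σ (aeval x P) from e), ← hP, hσb]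
    by_cases hd : P.natDegree = 0
    · rw [hP, eq_C_of_natDegree_eq_zero hd, aeval_C]
      exact Subalgebra.algebraMap_mem _ _
    · exfalso
      set S : k[X] := ∑ i ∈ Finset.range (P.natDegree + 1), C (P.coeff i) * X ^ (P.natDegree - i) with hS
      have hSval : aeval x S = x ^ P.natDegree * aeval x⁻¹ P := by
        rw [aeval_eq_sum_range (p := P) (x⁻¹), Finset.mul_sum, hS, map_sum]
        refine Finset.sum_congr rfl fun i hi => ?_
        rw [map_mul, aeval_C, map_pow, aeval_X, Algebra.smul_def, pow_sub₀ _ hx0 (Nat.lt_succ_iff.mp (Finset.mem_range.mp hi)), inv_pow]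
        ring
      have hSP : S = X ^ P.natDegree * P := hinj (by rw [hSval, h1, map_mul, map_pow, aeval_X])
      have := congrArg (fun Q : k[X] => Q.coeff 0) hSP
      simp only [hS, finset_sum_coeff, coeff_C_mul, coeff_X_pow, mul_coeff_zero] at this
      rw [Finset.sum_eq_single P.natDegree] at this
      · simp [Ne.symm hd] at this
        exact hd (by rw [this, natDegree_zero])
      · intro i hi hne
        have := Finset.mem_range.mp hi
        rw [if_neg (by omega), mul_zero]
      · intro h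
        exact absurd (Finset.self_mem_range_succ _) h
  | succ n ih =>
    intro b P hσb hτb hP
    set q : k[X] := X ^ 2 - X + 1 with hq
    set b' : RatFunc k := b - algebraMap k (RatFunc k) (P.eval 0) * J ^ (n + 1) with hb'
    set P' : k[X] := P - C (P.eval 0) * q ^ (3 * (n + 1)) with hP'
    clear_value b' P'
    have hb'σ : σ b' = b' := by rw [hb', map_sub, map_mul, map_pow, AlgEquiv.commutes, hσb, hJσ]
    have hb'τ : τ b' = b' := by rw [hb', map_sub, map_mul, map_pow, AlgEquiv.commutes, hτb, hJτ]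
    have hPeq : b' * (x * (x - 1)) ^ (2 * (n + 1)) = aeval x P' := by
      have hqv : aeval x q = x ^ 2 - x + 1 := by simp [hq]
      rw [hb', hP', map_sub, map_mul, aeval_C, map_pow, hqv, ← hP, sub_mul, hJ]
      congr 1
      rw [mul_assoc, div_pow, pow_mul (x ^ 2 - x + 1), pow_mul (x * (x - 1)), mul_pow x (x - 1), div_mul_cancel₀ _ (pow_ne_zero _ (mul_ne_zero (pow_ne_zero _ hx0) (pow_ne_zero _ hx1)))]
    have hP'0 : P'.eval 0 = 0 := by simp [hP', hq]
    have hP'1 : P'.eval 1 = 0 := by
      have : P'.comp (1 - X) = P' := hinj (by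
        have e1 : aeval (τ x) P' = τ (aeval x P') := aeval_algHom_apply τ.toAlgHom x P'
        rw [aeval_comp, map_sub, map_one, aeval_X, ← hτ, e1, ← hPeq, map_mul, map_pow, map_mul, map_sub, map_one, hτ, hb'τ, show (1 - x) * (1 - x - 1) = x * (x - 1) by ring])
      rw [← this, eval_comp]
      simpa using hP'0
    obtain ⟨R, hR⟩ : (X * (X - 1) : k[X]) ∣ P' := by
      refine (IsCoprime.mul_dvd ?_ ?_ ?_)
      · exact ⟨1, -1, by ring⟩
      · rw [X_dvd_iff, coeff_zero_eq_eval_zero, hP'0]
      · have := dvd_iff_isRoot.mpr (show P'.IsRoot 1 from hP'1)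
        simpa using this
    have hRv : b' * (x * (x - 1)) ^ (2 * n + 1) = aeval x R := by
      apply mul_left_cancel₀ (mul_ne_zero hx0 hx1)
      calc x * (x - 1) * (b' * (x * (x - 1)) ^ (2 * n + 1)) = b' * (x * (x - 1)) ^ (2 * (n + 1)) := by ring
        _ = _ := by rw [hPeq, hR]; simp
    -- invariance under `x ↦ x / (x - 1)` kills the constant term
    have hR0 : R.eval 0 = 0 := by
      set ρ : RatFunc k ≃ₐ[k] RatFunc k := σ.trans (τ.trans σ) with hρ
      have hρx : ρ x = x / (x - 1) := by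
        show σ (τ (σ x)) = _
        rw [hσ, map_inv₀, hτ, map_inv₀, map_sub, map_one, hσ]
        field_simp
      have hρb : ρ b' = b' := by
        show σ (τ (σ b')) = _
        rw [hb'σ, hb'τ, hb'σ]
      have e1 : aeval (ρ x) R = b' * (x / (x - 1) ^ 2) ^ (2 * n + 1) := by
        rw [show aeval (ρ x) R = ρ (aeval x R) from aeval_algHom_apply ρ.toAlgHom x R, ← hRv, map_mul, map_pow, hρb, map_mul, map_sub, map_one, hρx]
        congr 2
        field_simp
        ring
      set d := R.natDegree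
      set S : k[X] := ∑ i ∈ Finset.range (d + 1), C (R.coeff i) * X ^ i * (X - 1) ^ (d - i) with hS
      have hSval : aeval x S = (x - 1) ^ d * aeval (x / (x - 1)) R := by
        rw [aeval_eq_sum_range (p := R) (x / (x - 1)), Finset.mul_sum, hS, map_sum]
        refine Finset.sum_congr rfl fun i hi => ?_
        rw [map_mul, map_mul, aeval_C, map_pow, map_pow, map_sub, map_one, aeval_X, Algebra.smul_def, pow_sub₀ _ hx1 (Nat.lt_succ_iff.mp (Finset.mem_range.mp hi)), div_pow, div_eq_mul_inv]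
        ring
      have hSR : S * (X - 1) ^ (3 * (2 * n + 1)) = (X - 1) ^ d * R := hinj (by
        rw [map_mul, hSval, ← hρx, e1, map_mul, map_pow, map_pow, map_sub, map_one, aeval_X, ← hRv, pow_mul (x - 1), mul_assoc, mul_assoc]
        congr 2
        rw [← mul_pow, show x / (x - 1) ^ 2 * (x - 1) ^ 3 = x * (x - 1) by field_simp])
      have := congrArg (fun Q : k[X] => Q.eval 0) hSR
      simp only [hS, eval_mul, eval_finset_sum, eval_pow, eval_sub, eval_C, eval_X, eval_one, zero_sub] at this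
      rw [Finset.sum_eq_single 0] at this
      · simp only [pow_zero, mul_one, Nat.sub_zero, coeff_zero_eq_eval_zero] at this
        rw [Odd.neg_one_pow (n := 3 * (2 * n + 1)) ⟨3 * n + 1, by ring⟩] at this
        have h2' : (2 : k) * ((-1) ^ d * R.eval 0) = 0 := by linear_combination -this
        simpa [h2] using h2'
      · intro i _ hne
        simp [zero_pow hne]
      · intro h
        simp at h
    have hR1 : R.eval 1 = 0 := by
      have : R.comp (1 - X) = R := hinj (by
        have e1 : aeval (τ x) R = τ (aeval x R) := aeval_algHom_apply τ.toAlgHom x R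
        rw [aeval_comp, map_sub, map_one, aeval_X, ← hτ, e1, ← hRv, map_mul, map_pow, map_mul, map_sub, map_one, hτ, hb'τ, show (1 - x) * (1 - x - 1) = x * (x - 1) by ring])
      rw [← this, eval_comp]
      simpa using hR0
    obtain ⟨R', hR'⟩ : (X * (X - 1) : k[X]) ∣ R := by
      refine (IsCoprime.mul_dvd ?_ ?_ ?_)
      · exact ⟨1, -1, by ring⟩
      · rw [X_dvd_iff, coeff_zero_eq_eval_zero, hR0]
      · have := dvd_iff_isRoot.mpr (show R.IsRoot 1 from hR1)
        simpa using this
    have hmem := ih b' R' hb'σ hb'τ (by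
      apply mul_left_cancel₀ (mul_ne_zero hx0 hx1)
      calc x * (x - 1) * (b' * (x * (x - 1)) ^ (2 * n)) = b' * (x * (x - 1)) ^ (2 * n + 1) := by ring
        _ = _ := by rw [hRv, hR']; simp)
    have : b = b' + algebraMap k (RatFunc k) (P.eval 0) * J ^ (n + 1) := by rw [hb']; ring
    rw [this]
    exact add_mem hmem (mul_mem (Subalgebra.algebraMap_mem _ _) (pow_mem (Algebra.subset_adjoin (R := k) (Set.mem_singleton J)) _))

/-- The algebraic step of its proof: Fix an algebraically closed field k whose characteristic is neither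
2 nor 3, let B ⊆ k(λ) be the k-subalgebra generated by λ, λ⁻¹ and (λ - 1)⁻¹ (the coordinate ring of
the λ-line with 0 and 1 removed), and let σ and τ be the k-algebra automorphisms of k(λ) determined
by σ(λ) = λ⁻¹ and τ(λ) = 1 - λ (they generate the group of order six permuting λ, 1/λ, 1-λ, 1/(1-λ),
λ/(λ-1), (λ-1)/λ). Then the elements of B fixed by σ and τ are exactly the elements of the
k-subalgebra generated by j = 256 (λ² - λ + 1)³ / (λ² (λ - 1)²); in other words the ring of
invariants of B is the polynomial ring k[j]. -/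
theorem result (k : Type u) [Field k] [IsAlgClosed k]
    (h2 : (2 : k) ≠ 0) (h3 : (3 : k) ≠ 0)
    (σ τ : RatFunc k ≃ₐ[k] RatFunc k) (hσ : σ RatFunc.X = (RatFunc.X : RatFunc k)⁻¹)
    (hτ : τ RatFunc.X = 1 - (RatFunc.X : RatFunc k)) (b : RatFunc k) :
    (b ∈ Algebra.adjoin k ({RatFunc.X, (RatFunc.X : RatFunc k)⁻¹, ((RatFunc.X : RatFunc k) - 1)⁻¹} : Set (RatFunc k)) ∧
        σ b = b ∧ τ b = b) ↔
      b ∈ Algebra.adjoin k ({(256 : RatFunc k) * ((RatFunc.X : RatFunc k) ^ 2 - RatFunc.X + 1) ^ 3 /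
        ((RatFunc.X : RatFunc k) ^ 2 * ((RatFunc.X : RatFunc k) - 1) ^ 2)} : Set (RatFunc k)) := by
  set x : RatFunc k := RatFunc.X with hx
  set J : RatFunc k := (x ^ 2 - x + 1) ^ 3 / (x ^ 2 * (x - 1) ^ 2) with hJ
  have hx0 : x ≠ 0 := RatFunc.X_ne_zero
  have hx1 : x - 1 ≠ 0 := fun h => by
    rw [sub_eq_zero, hx, ← RatFunc.algebraMap_X, ← map_one (algebraMap (Polynomial k) (RatFunc k))] at h
    have := congrArg (Polynomial.eval 0) (RatFunc.algebraMap_injective k h)
    simp at this
  have hx1' : 1 - x ≠ 0 := fun h => hx1 (by linear_combination -h)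
  have hJσ : σ J = J := by
    rw [hJ]
    simp only [map_div₀, map_mul, map_pow, map_add, map_sub, map_one, hσ]
    exact inv_invariant x hx0 hx1
  have hJτ : τ J = J := by
    rw [hJ]
    simp only [map_div₀, map_mul, map_pow, map_add, map_sub, map_one, hτ]
    rw [show (1 - x) ^ 2 - (1 - x) + 1 = x ^ 2 - x + 1 by ring, show (1 - x) ^ 2 * (1 - x - 1) ^ 2 = x ^ 2 * (x - 1) ^ 2 by ring]
  have h256 : (256 : k) ≠ 0 := by
    rw [show (256 : k) = 2 ^ 8 by norm_num]
    exact pow_ne_zero _ h2
  have hadj : Algebra.adjoin k ({(256 : RatFunc k) * (x ^ 2 - x + 1) ^ 3 / (x ^ 2 * (x - 1) ^ 2)} : Set (RatFunc k)) = Algebra.adjoin k ({J} : Set (RatFunc k)) := by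
    have e : (256 : RatFunc k) * (x ^ 2 - x + 1) ^ 3 / (x ^ 2 * (x - 1) ^ 2) = algebraMap k (RatFunc k) 256 * J := by
      rw [map_ofNat, hJ, mul_div_assoc]
    rw [e]
    refine le_antisymm (Algebra.adjoin_le (Set.singleton_subset_iff.mpr (mul_mem (Subalgebra.algebraMap_mem _ _) (Algebra.subset_adjoin rfl)))) (Algebra.adjoin_le (Set.singleton_subset_iff.mpr ?_))
    have := mul_mem (Subalgebra.algebraMap_mem (Algebra.adjoin k {algebraMap k (RatFunc k) 256 * J}) (256 : k)⁻¹) (Algebra.subset_adjoin (R := k) (Set.mem_singleton (algebraMap k (RatFunc k) 256 * J)))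
    rwa [← mul_assoc, ← map_mul, inv_mul_cancel₀ h256, map_one, one_mul] at this
  rw [hadj]
  constructor
  · rintro ⟨hb, hσb, hτb⟩
    suffices ∃ (n : ℕ) (P : Polynomial k), b * (x * (x - 1)) ^ n = Polynomial.aeval x P by
      obtain ⟨n, P, hP⟩ := this
      refine key h2 σ τ hσ hτ J hJ hJσ hJτ n b (P * (Polynomial.X * (Polynomial.X - 1)) ^ n) hσb hτb ?_
      rw [two_mul, pow_add, ← mul_assoc, hP]
      simp only [map_mul, map_pow, map_sub, map_one, Polynomial.aeval_X, hx]
    clear hσb hτb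
    induction hb using Algebra.adjoin_induction with
    | mem y hy =>
      rcases hy with rfl | rfl | rfl
      · exact ⟨0, Polynomial.X, by simp⟩
      · exact ⟨1, Polynomial.X - 1, by simp only [pow_one, map_sub, Polynomial.aeval_X, map_one]; field_simp⟩
      · exact ⟨1, Polynomial.X, by simp only [pow_one, Polynomial.aeval_X]; field_simp⟩
    | algebraMap r => exact ⟨0, Polynomial.C r, by simp⟩
    | add y z _ _ hy hz =>
      obtain ⟨n, P, hP⟩ := hy
      obtain ⟨m, Q, hQ⟩ := hz
      refine ⟨n + m, P * (Polynomial.X * (Polynomial.X - 1)) ^ m + Q * (Polynomial.X * (Polynomial.X - 1)) ^ n, ?_⟩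
      simp only [map_add, map_mul, map_pow, map_sub, map_one, Polynomial.aeval_X, ← hP, ← hQ, pow_add]
      ring
    | mul y z _ _ hy hz =>
      obtain ⟨n, P, hP⟩ := hy
      obtain ⟨m, Q, hQ⟩ := hz
      refine ⟨n + m, P * Q, ?_⟩
      simp only [map_mul, ← hP, ← hQ, pow_add]
      ring
  · intro hb
    induction hb using Algebra.adjoin_induction with
    | mem y hy =>
      rw [Set.mem_singleton_iff] at hy
      subst hy
      refine ⟨?_, hJσ, hJτ⟩
      set B := Algebra.adjoin k ({x, x⁻¹, (x - 1)⁻¹} : Set (RatFunc k))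
      have m1 : x ∈ B := Algebra.subset_adjoin (by simp)
      have m2 : x⁻¹ ∈ B := Algebra.subset_adjoin (by simp)
      have m3 : (x - 1)⁻¹ ∈ B := Algebra.subset_adjoin (by simp)
      rw [hJ, div_eq_mul_inv, mul_inv, ← inv_pow, ← inv_pow]
      exact mul_mem (pow_mem (add_mem (sub_mem (pow_mem m1 _) m1) (one_mem _)) _) (mul_mem (pow_mem m2 _) (pow_mem m3 _))
    | algebraMap r => exact ⟨Subalgebra.algebraMap_mem _ _, AlgEquiv.commutes σ r, AlgEquiv.commutes τ r⟩
    | add y z _ _ hy hz => exact ⟨add_mem hy.1 hz.1, by rw [map_add, hy.2.1, hz.2.1], by rw [map_add, hy.2.2, hz.2.2]⟩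
    | mul y z _ _ hy hz => exact ⟨mul_mem hy.1 hz.1, by rw [map_mul, hy.2.1, hz.2.1], by rw [map_mul, hy.2.2, hz.2.2]⟩

end Groth.Agent.S11470
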