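import Groth.Statements.S11475
import Groth.Agent.EmbLift.Algebraize
import Groth.Agent.PerfGen.PnPC

set_option autoImplicit false
universe u
open CategoryTheory CategoryTheory.Limits AlgebraicGeometry
open Lift

namespace Groth.Agent.S11475

/-- Let R be a complete discrete valuation ring of characteristic zero whose residue field k is perfect
of characteristic p > 0; write Pʳ_k for the closed fibre Pʳ_R ×_R k. Let ι₀ : X₀ → Pʳ_k be a regular
closed immersion (X₀ is a local complete intersection in Pʳ_k) with H¹(X₀, N) = 0 for the normal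
sheaf N = Hom(I/I², O_{X₀}), written as Ext¹(I/I², O_{X₀}) = 0 for the conormal sheaf I/I² (the same
group, I/I² being locally free). Then X₀ lifts to R as a subscheme of Pʳ: there is a closed
subscheme X of Pʳ_R, flat over R, with X ×_{Pʳ_R} Pʳ_k = X₀. (The published statement allows any
locally unobstructed X₀, for instance locally Cohen–Macaulay of codimension two; this row states the
local complete intersection case.) -/
theorem result (R : Type u) [CommRing R] [IsDomain R]
    [IsDiscreteValuationRing R] [IsAdicComplete (IsLocalRing.maximalIdeal R) R] [CharZero R]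
    [PerfectField (IsLocalRing.ResidueField R)] (p : ℕ) [Fact p.Prime] [CharP (IsLocalRing.ResidueField R) p]
    (r : ℕ) (X₀ : Scheme.{u})
    (ι₀ : X₀ ⟶ pullback (CohB1.ProjSpace.toSpec r R) (Spec.map (CommRingCat.ofHom (IsLocalRing.residue R))))
    (hι₀ : Mor2.IsRegularClosedImmersion ι₀) [HasExt.{u} X₀.Modules]
    (hN : Subsingleton (Abelian.Ext.{u} (Omega.conormal ι₀) (Coh.structureModule X₀) 1)) :
    ∃ (X : Scheme.{u}) (j : X ⟶ CohB1.ProjSpace r R) (i : X₀ ⟶ X), IsClosedImmersion j ∧
      Flat (j ≫ CohB1.ProjSpace.toSpec r R) ∧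
      IsPullback i ι₀ j (pullback.fst (CohB1.ProjSpace.toSpec r R)
        (Spec.map (CommRingCat.ofHom (IsLocalRing.residue R)))) := by
  haveI : IsProper (CohB1.ProjSpace.toSpec r R) := ProjMor.isProper_toSpec r R
  haveI : Flat (CohB1.ProjSpace.toSpec r R) := (PerfGen.flat_lfp_toSpec r R).1
  exact EmbLift.exists_flat_lift (CohB1.ProjSpace.toSpec r R) ι₀ hι₀ hN

end Groth.Agent.S11475
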