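import Groth.Statements.S11476
import Groth.Agent.MoriBB.Twist
import Groth.Agent.MoriBB.Dim
import Groth.Agent.MoriBB.Main
import Groth.Agent.ExtFund.Adjunction
import Groth.Agent.SmDiff.Scheme
import Groth.Agent.CurveRR.Multi
import Groth.Agent.HNSplit.Dual
import Groth.Agent.Nakai.Big
import Groth.Agent.ProjMor.ProjSpaceBase

set_option linter.style.haveILetI false
set_option backward.isDefEq.respectTransparency false
set_option backward.isDefEq.respectTransparency.types false
set_option synthInstance.maxHeartbeats 400000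
set_option maxHeartbeats 1000000

set_option autoImplicit false
universe u
open CategoryTheory CategoryTheory.Limits AlgebraicGeometry
open Curves

namespace Groth.Agent.S11476

/-- Let k be algebraically closed of characteristic p > 0 and X a nonsingular projective variety over k
(integral, smooth over k, with a closed immersion into some Pⁿ_k over k) of dimension m. Suppose the
canonical class of X is not numerically effective, expressed through a curve: there is a smooth
proper integral curve C over k with a nonconstant k-morphism h : C → X such that the pullback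
h^*Ω_{X/k}, a locally free sheaf of rank m, has negative degree on C (its degree equals deg h^*ω_X,
a positive multiple of the intersection number of the image curve with the canonical class). Then X
contains a rational curve: there is a nonconstant k-morphism P¹_k → X. -/
theorem result (k : Type u) [Field k] [IsAlgClosed k]
    (p : ℕ) [Fact p.Prime] [CharP k p] (X : Scheme.{u}) [X.Over (Spec (CommRingCat.of k))] [IsIntegral X]
    [Smooth (X ↘ Spec (CommRingCat.of k))]
    (hproj : ∃ (n : ℕ) (ι : X ⟶ CohB1.ProjSpace n k), IsClosedImmersion ι ∧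
      ι ≫ CohB1.ProjSpace.toSpec n k = X ↘ Spec (CommRingCat.of k))
    (m : ℕ) (hm : topologicalKrullDim X = m)
    (C : Scheme.{u}) [C.Over (Spec (CommRingCat.of k))] (hC : Curve.IsSmoothProperCurve k C (C ↘ Spec (CommRingCat.of k)))
    (h : C ⟶ X) (hh : h ≫ (X ↘ Spec (CommRingCat.of k)) = C ↘ Spec (CommRingCat.of k))
    (hnc : ¬ ∃ x : X, Set.range h.base ⊆ {x})
    (hdeg : Curv2.deg k C ((Scheme.Modules.pullback h).obj (Omega.sheaf (X ↘ Spec (CommRingCat.of k)))) m < 0) :
    ∃ g : CohB1.ProjSpace 1 k ⟶ X, g ≫ (X ↘ Spec (CommRingCat.of k)) = CohB1.ProjSpace.toSpec 1 k ∧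
      ¬ ∃ x : X, Set.range g.base ⊆ {x} := by
  obtain ⟨N, ι, hι, hιq⟩ := id hproj
  haveI := hι
  haveI : IsProper (X ↘ Spec (CommRingCat.of k)) := by
    haveI := ProjMor.isProper_toSpec N k
    rw [← hιq]; infer_instance
  rcases Nat.eq_zero_or_pos m with rfl | hm0
  · exfalso
    apply hnc
    haveI : IrreducibleSpace X := inferInstance
    haveI : Subsingleton X := Groth.Agent.Nakai.subsingleton_of_dim_zero k (X := X) hm
    haveI := hC.2.2.1
    exact ⟨h (genericPoint C), fun x _ => Subsingleton.elim _ _⟩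
  let q := X ↘ Spec (CommRingCat.of k)
  haveI : SmoothOfRelativeDimension m q := Groth.Agent.SmDiff.smoothOfRelativeDimension_of_dim _ m hm
  haveI : IsProper q := inferInstanceAs (IsProper (X ↘ Spec (CommRingCat.of k)))
  have hΩ := Groth.Agent.ExtFund.isFinLocFreeOfRank_omega q m
  have hE := Groth.Agent.CurveRR.Multi.isFinLocFreeOfRank_pullback h hΩ
  set d := -Curv2.deg k C ((Scheme.Modules.pullback h).obj (Omega.sheaf q)) m with hd
  have hd0 : 1 ≤ d := by
    change Curv2.deg k C ((Scheme.Modules.pullback h).obj (Omega.sheaf q)) m < 0 at hdeg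
    omega
  set χ := Curv2.euler k C (Coh.structureModule C)
  let e : ℕ := m + 1 + ((m : ℤ) * χ).natAbs
  obtain ⟨C', oC', φ, hC', hφ, -, hχ, hdeg'⟩ := Groth.Agent.MoriBB.exists_frob_cover p hC _ m hE e
  letI := oC'
  haveI := hC'.1
  haveI := hC'.2.1
  haveI := hC'.2.2.1
  have hE' : FlatMod.IsFinLocFreeOfRank m ((Scheme.Modules.pullback (φ ≫ h)).obj (Omega.sheaf q)) :=
    Groth.Agent.CurveRR.Multi.isFinLocFreeOfRank_pullback _ hΩ
  have hD := (Groth.Agent.HNSplit.rank_deg_dual k hC'.2.2.2
    (Groth.Agent.W7Slope.regCurve_of_smooth (k := k) hC'.2.2.2) m hm0 hE').2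
  rw [Groth.Agent.W7Slope.deg_iso (k := k) ((Scheme.Modules.pullbackComp φ h).app (Omega.sheaf q)).symm] at hD
  change Curv2.deg k C' _ m = - Curv2.deg k C' ((Scheme.Modules.pullback φ).obj
    ((Scheme.Modules.pullback h).obj (Omega.sheaf q))) m at hD
  rw [hdeg'] at hD
  have hpe : e < p ^ e := Nat.lt_pow_self (Fact.out : p.Prime).one_lt
  have hn : ((m + 1 : ℕ) : ℤ) ≤ Curv2.euler k C'
      (RefHull.dual ((Scheme.Modules.pullback (φ ≫ h)).obj (Omega.sheaf q))) := by
    have h1 : ((p ^ e : ℕ) : ℤ) ≤ ((p ^ e : ℕ) : ℤ) * d := le_mul_of_one_le_right (by positivity) hd0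
    have h2 : ((e : ℤ)) < ((p ^ e : ℕ) : ℤ) := by exact_mod_cast hpe
    have h3 : -((m : ℤ) * χ) ≤ (((m : ℤ) * χ).natAbs : ℤ) := by omega
    rw [Curv2.deg, hχ] at hD
    have h4 : ((e : ℕ) : ℤ) = (m : ℤ) + 1 + (((m : ℤ) * χ).natAbs : ℤ) := by push_cast [e]; rfl
    rw [hd] at h1
    push_cast at hD h1 h2 ⊢
    linarith
  obtain ⟨M, hM, v, hv, m₀, -, hdim⟩ := Groth.Agent.MoriBB.exists_mor_dim hproj hC' (φ ≫ h)
    (by rw [Category.assoc, hh, hφ]) (m + 1) hn
  haveI := hM
  exact Groth.Agent.MoriBB.exists_rational_of_dim q m hm _ hC' hv m₀ hdim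

end Groth.Agent.S11476
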