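import Groth.Statements.S1148
import Groth.Agent.CMFlat.FiberRing
import Mathlib.RingTheory.Spectrum.Prime.Topology
import Mathlib.RingTheory.Ideal.MinimalPrime.Noetherian
import Mathlib.RingTheory.Ideal.GoingDown
import Mathlib.RingTheory.FiniteType
import Mathlib.RingTheory.Flat.Basic
import Mathlib.RingTheory.Polynomial.Basic
-- import your own Groth.Agent.* helpers here

set_option autoImplicit false
universe u
open Desc

namespace Groth.Agent.S1148

/-- Affine form (finiteness of irreducible components of quasi-compact opens is fppf local; this is the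
ascent direction for a morphism of affine schemes). Let A → B be a flat ring map of finite
presentation. If Spec A has finitely many irreducible components, then so does Spec B. -/
theorem result (A B : Type u) [CommRing A] [CommRing B] [Algebra A B]
    [Module.Flat A B] [Algebra.FinitePresentation A B] (h : (irreducibleComponents (PrimeSpectrum A)).Finite) :
    (irreducibleComponents (PrimeSpectrum B)).Finite := by
  have hA : (minimalPrimes A).Finite := by
    haveI := h.to_subtype
    exact Set.finite_coe_iff.1 (Finite.of_equiv _ ((minimalPrimes.equivIrreducibleComponents (R := A)).toEquiv.trans OrderDual.ofDual).symm)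
  suffices hB : (minimalPrimes B).Finite by
    haveI := hB.to_subtype
    exact Set.finite_coe_iff.1 (Finite.of_equiv _ ((minimalPrimes.equivIrreducibleComponents (R := B)).toEquiv.trans OrderDual.ofDual))
  have hfin : ∀ p : Ideal A, {q : Ideal B | q ∈ minimalPrimes B ∧ q.comap (algebraMap A B) = p}.Finite := by
    intro p
    by_cases hp : p.IsPrime
    · haveI : IsNoetherianRing (p.Fiber B) := Algebra.FiniteType.isNoetherianRing p.ResidueField _
      refine ((minimalPrimes.finite_of_isNoetherianRing (p.Fiber B)).image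
        (fun Q => Q.comap (Algebra.TensorProduct.includeRight : B →ₐ[A] p.Fiber B))).subset ?_
      rintro q ⟨hq, hqp⟩
      haveI : q.IsPrime := hq.1.1
      obtain ⟨Q, hQ, rfl⟩ := Groth.Agent.CMFlat.exists_prime_fiber q p hqp
      obtain ⟨Q₀, hQ₀, hle⟩ := Ideal.exists_minimalPrimes_le (bot_le : (⊥ : Ideal (p.Fiber B)) ≤ Q)
      haveI : Q₀.IsPrime := hQ₀.1.1
      exact ⟨Q₀, hQ₀, le_antisymm (Ideal.comap_mono hle) (hq.2 ⟨Ideal.IsPrime.comap _, bot_le⟩ (Ideal.comap_mono hle))⟩
    · refine Set.finite_empty.subset fun q hq => hp ?_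
      rw [← hq.2]
      haveI : q.IsPrime := hq.1.1.1
      exact Ideal.IsPrime.comap _
  refine (hA.biUnion fun p _ => hfin p).subset fun q hq => ?_
  haveI : q.IsPrime := hq.1.1
  refine Set.mem_biUnion (x := q.comap (algebraMap A B)) ?_ ⟨hq, rfl⟩
  refine ⟨⟨Ideal.IsPrime.comap _, bot_le⟩, fun p hp hple => ?_⟩
  haveI := hp.1
  haveI : q.LiesOver (q.comap (algebraMap A B)) := ⟨rfl⟩
  obtain ⟨Q, hQ, hQp, hQo⟩ := Ideal.exists_ideal_le_liesOver_of_le (S := B) q hple
  have hqQ : q ≤ Q := hq.2 ⟨hQp, bot_le⟩ hQ
  intro a ha
  rw [Ideal.mem_comap] at ha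
  rw [hQo.over]
  exact hqQ ha

end Groth.Agent.S1148
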