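import Groth.Statements.S11482
import Groth.Agent.VBTwo.Basic
import Groth.Agent.VBTwo.Ext

set_option autoImplicit false
universe u
open CategoryTheory CategoryTheory.Limits AlgebraicGeometry
open Curves

set_option backward.isDefEq.respectTransparency false
set_option backward.isDefEq.respectTransparency.types false

open Groth.Agent

namespace Groth.Agent.S11482

/-- Fix an algebraically closed field k and a nonsingular projective curve X over k of genus g (smooth,
proper, integral, of dimension one, g = dim H¹(X, O_X)) and E a locally free sheaf of rank 2 and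
degree d (degree = χ(E) − 2χ(O_X)) that is indecomposable: in any decomposition E ≅ E₁ ⊕ E₂ one
summand is zero. Then (a) every invertible subsheaf L ⊆ E has 2·deg L ≤ d + 2g − 2, and (b) there is
an invertible subsheaf L ⊆ E with d − 2g ≤ 2·deg L. (The published statement is that indecomposable
bundles of fixed rank and degree form a bounded family; this row states, in rank two, the degree
bounds for invertible subsheaves on which its proof rests.) -/
theorem result (k : Type u) [Field k] [IsAlgClosed k]
    (X : Scheme.{u}) [X.Over (Spec (CommRingCat.of k))] (hX : Curve.IsSmoothProperCurve k X (X ↘ Spec (CommRingCat.of k)))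
    (E : X.Modules) (hE : FlatMod.IsFinLocFreeOfRank 2 E)
    (hind : ∀ (E₁ E₂ : X.Modules), Nonempty (E ≅ E₁ ⊞ E₂) → IsZero E₁ ∨ IsZero E₂) :
    (∀ (L : X.Modules) (ι : L ⟶ E), PicF.IsInvertible L → Mono ι →
        2 * Curv2.deg k X L 1 ≤ Curv2.deg k X E 2 + 2 * (Curv2.genus k X : ℤ) - 2) ∧
      ∃ (L : X.Modules) (ι : L ⟶ E), PicF.IsInvertible L ∧ Mono ι ∧
        Curv2.deg k X E 2 - 2 * (Curv2.genus k X : ℤ) ≤ 2 * Curv2.deg k X L 1 := by
  obtain ⟨hp, hsm, hint, hdim⟩ := hX
  haveI := hp
  haveI := hsm
  haveI := hint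
  have hC : W7Slope.RegCurve X := W7Slope.regCurve_of_smooth (k := k) hdim
  refine ⟨fun L ι hL hι => ?_, VBTwo.exists_sub hdim hC hE⟩
  haveI := hι
  obtain ⟨L', Q, i, l, p, w, hS, -, hL', hQ, hle, -, hdeg⟩ := VBTwo.exists_sat k hC hL hE ι
  by_contra hlt
  obtain ⟨e⟩ := VBTwo.iso_biprod_of_isSplitEpi hS (VBTwo.isSplitEpi_of_deg k hC _ hS hL' hQ
    (by dsimp only; omega))
  rcases hind _ _ ⟨e⟩ with h | h
  · exact W7Slope.pos_rank_not_isZero k one_pos (CurveRR.isFinLocFreeOfRank_one hL') h
  · exact W7Slope.pos_rank_not_isZero k one_pos (CurveRR.isFinLocFreeOfRank_one hQ) h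

end Groth.Agent.S11482
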