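import Groth.Statements.S11489
import Groth.Agent.DetDeg.Trivial
import Groth.Agent.Horrocks.Main
import Groth.Agent.ProjMor.ProjSpaceBase

set_option autoImplicit false
universe u
open VBPn

set_option backward.isDefEq.respectTransparency false
set_option backward.isDefEq.respectTransparency.types false

open Groth.Agent

namespace Groth.Agent.S11489

open CategoryTheory CategoryTheory.Limits AlgebraicGeometry in
/-- Let k be a characteristic-zero algebraically closed field and E a finite locally free O-module of
rank r on P^n_k. If E is globally generated (there is an epimorphism O^N → E for some N) and its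
first Chern class vanishes, in the sense that an r-th exterior power det E of E is isomorphic to O,
then E ≅ O^r. -/
theorem result (k : Type u) [Field k] [IsAlgClosed k] [CharZero k]
    (n r : ℕ) (E : (CohB1.ProjSpace n k).Modules) (hE : FlatMod.IsFinLocFreeOfRank r E)
    (hgen : ∃ (N : ℕ) (φ : FlatMod.freeMod (CohB1.ProjSpace n k) N ⟶ E), Epi φ)
    (hdet : ∃ L : (CohB1.ProjSpace n k).Modules, ExtPow.IsExtPow r E L ∧
      Nonempty (L ≅ Coh.structureModule (CohB1.ProjSpace n k))) :
    Nonempty (E ≅ FlatMod.freeMod (CohB1.ProjSpace n k) r) := by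
  obtain ⟨L, hL, ⟨e⟩⟩ := hdet
  obtain ⟨N, φ, hφ⟩ := hgen
  haveI : IsIntegral (CohB1.ProjSpace n k) := Groth.Agent.Horrocks.isIntegral_projSpace
  letI : (CohB1.ProjSpace n k).Over (Spec (CommRingCat.of k)) := ⟨CohB1.ProjSpace.toSpec n k⟩
  haveI : IsProper (CohB1.ProjSpace n k ↘ Spec (CommRingCat.of k)) := _root_.ProjMor.isProper_toSpec n k
  let q : (SheafOfModules.free (ULift.{u} (Fin N)) : (CohB1.ProjSpace n k).Modules) ⟶ FlatMod.freeMod (CohB1.ProjSpace n k) N :=
    (Sigma.whiskerEquiv (f := fun _ : ULift.{u} (Fin N) => Coh.structureModule (CohB1.ProjSpace n k))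
      (g := fun _ : Fin N => Coh.structureModule (CohB1.ProjSpace n k)) Equiv.ulift (fun _ => Iso.refl _)).hom
  haveI : IsIso q := inferInstanceAs (IsIso (Iso.hom _))
  exact Groth.Agent.DetDeg.nonempty_iso_free (k := k) hE ⟨_, q ≫ φ, epi_comp _ _⟩
    (Groth.Agent.DetDeg.hasDet_of_isExtPow hE hL) e

end Groth.Agent.S11489
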