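import Groth.Statements.S11491
import Groth.Agent.GenSection.Main
import Groth.Agent.ProjMor.ProjSpaceBase
import Groth.Agent.S10829

set_option autoImplicit false
universe u
open VBPn

set_option backward.isDefEq.respectTransparency false
set_option backward.isDefEq.respectTransparency.types false

namespace Groth.Agent.S11491

open CategoryTheory CategoryTheory.Limits AlgebraicGeometry in
/-- Let k be a characteristic-zero algebraically closed field and E a globally generated finite locally
free O-module of rank r > n on P^n_k (globally generated: an epimorphic image of some O^N). Then E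
sits in a short exact sequence of vector bundles 0 → O^(r−n) → E → F → 0 with F of rank n: a
monomorphism O^(r−n) → E whose cokernel is finite locally free of rank n. -/
theorem result (k : Type u) [Field k] [IsAlgClosed k] [CharZero k]
    (n r : ℕ) (hrn : n < r) (E : (CohB1.ProjSpace n k).Modules) (hE : FlatMod.IsFinLocFreeOfRank r E)
    (hgen : ∃ (N : ℕ) (ψ : FlatMod.freeMod (CohB1.ProjSpace n k) N ⟶ E), Epi ψ) :
    ∃ φ : FlatMod.freeMod (CohB1.ProjSpace n k) (r - n) ⟶ E,
      Mono φ ∧ FlatMod.IsFinLocFreeOfRank n (cokernel φ) := by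
  obtain ⟨N, ψ, hψ⟩ := hgen
  haveI := hψ
  haveI : IsProper (CohB1.ProjSpace.toSpec n k) := ProjMor.isProper_toSpec n k
  haveI : CompactSpace (CohB1.ProjSpace n k) :=
    QuasiCompact.compactSpace_of_compactSpace (CohB1.ProjSpace.toSpec n k)
  let eF : (SheafOfModules.free (R := (CohB1.ProjSpace n k).ringCatSheaf) (ULift.{u} (Fin N)) :
      (CohB1.ProjSpace n k).Modules) ≅ FlatMod.freeMod (CohB1.ProjSpace n k) N :=
    Sigma.whiskerEquiv (f := fun _ : ULift.{u} (Fin N) => Coh.structureModule (CohB1.ProjSpace n k))
      (g := fun _ : Fin N => Coh.structureModule (CohB1.ProjSpace n k)) Equiv.ulift fun _ => Iso.refl _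
  haveI : Epi (eF.hom ≫ ψ) := inferInstance
  obtain ⟨s, h1, h2⟩ := GenSection.exists_famHom_of_epi (CohB1.ProjSpace.toSpec n k)
    (Groth.Agent.S10829.result k n).le (j := r - n) (show n + (r - n) ≤ r by omega) hE (eF.hom ≫ ψ)
  refine ⟨_, h1, ?_⟩
  rwa [show r - (r - n) = n by omega] at h2

end Groth.Agent.S11491
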