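import Groth.Statements.S11492
import Groth.Agent.GenSection.Main
import Groth.Agent.ProjMor.ProjSpaceBase
import Groth.Agent.S10829
import Groth.Agent.SerrePn.ClosedTwist
import Groth.Agent.SerrePn.HomTwist
import Groth.Agent.W7Slope.Twist
import Groth.Agent.HorrocksPn.Main
import Groth.Agent.Horrocks.Dim

set_option autoImplicit false
universe u
open VBPn

set_option backward.isDefEq.respectTransparency false
set_option backward.isDefEq.respectTransparency.types false

namespace Groth.Agent.S11492

open CategoryTheory CategoryTheory.Limits AlgebraicGeometry in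
/-- Let k be a characteristic-zero algebraically closed field and E a finite locally free O-module of
rank r > n on P^n_k. Then for some integer a, E sits in a short exact sequence of vector bundles 0 →
O(a)^(r−n) → E → F → 0 with F of rank n: a monomorphism from the direct sum of r − n copies of O(a)
into E whose cokernel is finite locally free of rank n. -/
theorem result (k : Type u) [Field k] [IsAlgClosed k] [CharZero k]
    (n r : ℕ) (hrn : n < r) (E : (CohB1.ProjSpace n k).Modules) (hE : FlatMod.IsFinLocFreeOfRank r E) :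
    ∃ (a : ℤ) (φ : (∐ fun _ : Fin (r - n) => Twist.twistProjSpace n k a) ⟶ E),
      Mono φ ∧ FlatMod.IsFinLocFreeOfRank n (cokernel φ) := by
  let P := CohB1.ProjSpace n k
  haveI : IsProper (CohB1.ProjSpace.toSpec n k) := ProjMor.isProper_toSpec n k
  haveI : CompactSpace P := QuasiCompact.compactSpace_of_compactSpace (CohB1.ProjSpace.toSpec n k)
  haveI : IsIntegral P := Horrocks.isIntegral_projSpace
  haveI : IsLocallyNoetherian P := LocallyOfFiniteType.isLocallyNoetherian (CohB1.ProjSpace.toSpec n k)
  have hEc : Coh.IsCoh E := ⟨GenSection.isQCoh_of_rank hE,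
    LocFree.isFT_of_isFinLocFree fun x => let ⟨U, hx, he⟩ := hE x; ⟨U, r, hx, he⟩⟩
  obtain ⟨m₀, hm⟩ := HorrocksPn.exists_regular E hEc
  let L := Twist.twistProjSpace n k m₀
  let L' := Twist.twistProjSpace n k (-m₀)
  have hL : PicF.IsInvertible L := CohFinite.isInvertible_twist n k m₀
  obtain ⟨ι, p, hp⟩ := SerrePn.isGloballyGenerated_twist E hEc m₀ (hm m₀ le_rfl)
  haveI := hp
  have hE' := W7Slope.rank_tensor_inv hE hL
  obtain ⟨s, h1, h2⟩ := GenSection.exists_famHom_of_epi (CohB1.ProjSpace.toSpec n k)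
    (Groth.Agent.S10829.result k n).le (j := r - n) (show n + (r - n) ≤ r by omega) hE' p
  obtain ⟨j₀⟩ := GrT.nonempty_twist_zero_iso (𝒜 := CohB1.polyGrading n k)
  obtain ⟨i⟩ := RegCx.twist_twist (k := k) (n := n) m₀ (-m₀) 0 (by ring)
  obtain ⟨i'⟩ := RegCx.twist_twist (k := k) (n := n) (-m₀) m₀ 0 (by ring)
  let θ : CohB1.tensorMod L L' ≅ Coh.structureModule P := i ≪≫ j₀
  let θ' : CohB1.tensorMod L' L ≅ Coh.structureModule P := i' ≪≫ j₀
  let T := SerrePn.tens (X := P) L'
  haveI : T.IsEquivalence := (SerrePn.tensEquiv θ θ').isEquivalence_inverse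
  let eu : T.obj (Coh.structureModule P) ≅ L' := TMul.commIso _ _ ≪≫ SecTwist.unitorR L'
  let ec : T.obj (FlatMod.freeMod P (r - n)) ≅ ∐ fun _ : Fin (r - n) => L' :=
    PreservesCoproduct.iso T _ ≪≫ Sigma.mapIso fun _ => eu
  let eE : T.obj (CohB1.tensorMod E L) ≅ E := W7Slope.untw θ E
  refine ⟨-m₀, ec.inv ≫ T.map (GenSection.famHom s) ≫ eE.hom, ?_, ?_⟩
  · haveI := h1
    infer_instance
  · rw [show r - (r - n) = n by omega] at h2
    have h3 := W7Slope.rank_tensor_inv h2 (CohFinite.isInvertible_twist n k (-m₀))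
    refine GenSection.rank_of_iso ?_ h3
    exact PreservesCokernel.iso T _ ≪≫ cokernel.mapIso (T.map (GenSection.famHom s))
      (ec.inv ≫ T.map (GenSection.famHom s) ≫ eE.hom) ec eE (by simp)

end Groth.Agent.S11492
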