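import Groth.Statements.S11493
import Mathlib

set_option autoImplicit false
universe u
open CategoryTheory
open VBPn

namespace Groth.Agent.S11493


section helpers
open Module

variable {A : Type u} [CommRing A]

lemma ext_one_free_eq_zero {M N K : ModuleCat.{u} A} (e : N ≅ ModuleCat.of A A)
    [Module.Free A K] [Module.Finite A K]
    (h : ∀ x : Abelian.Ext M N 1, x = 0) (x : Abelian.Ext M K 1) : x = 0 := by
  classical
  let b := Module.Free.chooseBasis A K
  let p : ∀ _ : Module.Free.ChooseBasisIndex A K, K ⟶ N := fun i => ModuleCat.ofHom (b.coord i) ≫ e.inv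
  let j : ∀ _ : Module.Free.ChooseBasisIndex A K, N ⟶ K := fun i => e.hom ≫
    ModuleCat.ofHom (LinearMap.toSpanSingleton A K (b i))
  have hid : (∑ i, p i ≫ j i) = 𝟙 K := by
    apply ModuleCat.hom_ext
    rw [ModuleCat.hom_sum]
    ext y
    simp only [LinearMap.sum_apply, p, j, Category.assoc, Iso.inv_hom_id_assoc,
      ModuleCat.hom_comp, ModuleCat.hom_ofHom, LinearMap.comp_apply,
      LinearMap.toSpanSingleton_apply, ModuleCat.hom_id, LinearMap.id_apply, Basis.coord_apply]
    exact b.sum_repr y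
  have h1 : x = x.comp (Abelian.Ext.mk₀ (∑ i, p i ≫ j i)) (add_zero 1) := by
    rw [hid, Abelian.Ext.comp_mk₀_id]
  rw [h1, Abelian.Ext.mk₀_sum, Abelian.Ext.comp_sum]
  refine Finset.sum_eq_zero (fun i _ => ?_)
  rw [← Abelian.Ext.mk₀_comp_mk₀, ← Abelian.Ext.comp_assoc_of_second_deg_zero,
    h (x.comp _ (add_zero 1)), Abelian.Ext.zero_comp]

lemma free_iff [IsNoetherianRing A] [IsLocalRing A] (I : Ideal A)
    (hres : ∃ (q : ℕ) (φ : (Fin q → A) →ₗ[A] ↥I),
      Function.Surjective φ ∧ Module.Free A ↥(LinearMap.ker φ))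
    (S : ShortComplex (ModuleCat.{u} A)) (hS : S.ShortExact)
    (e₁ : S.X₁ ≅ ModuleCat.of A A) (e₃ : S.X₃ ≅ ModuleCat.of A ↥I) :
    Module.Free A S.X₂ ↔ ∀ x : Abelian.Ext S.X₃ S.X₁ 1, ∃ f : S.X₁ ⟶ S.X₁,
      hS.extClass.comp (Abelian.Ext.mk₀ f) (add_zero 1) = x := by
  have hP₁ : Projective S.X₁ :=
    Projective.of_iso e₁.symm (ModuleCat.projective_of_free (Module.Basis.singleton Unit A))
  constructor
  · intro hfree x
    haveI : Projective S.X₂ := ModuleCat.projective_of_free (Module.Free.chooseBasis A S.X₂)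
    obtain ⟨y, hy⟩ := Abelian.Ext.contravariant_sequence_exact₃ hS S.X₁ x
      (Abelian.Ext.eq_zero_of_projective _) (n₀ := 0) rfl
    obtain ⟨f, rfl⟩ := (Abelian.Ext.mk₀_bijective S.X₁ S.X₁).2 y
    exact ⟨f, hy⟩
  · intro hgen
    haveI := hP₁
    haveI := hS.mono_f
    haveI := hS.epi_g
    have h0 : ∀ x : Abelian.Ext S.X₂ S.X₁ 1, x = 0 := by
      intro x
      obtain ⟨y, hy⟩ := Abelian.Ext.contravariant_sequence_exact₂ hS S.X₁ x
        (Abelian.Ext.eq_zero_of_projective _)
      obtain ⟨f, rfl⟩ := hgen y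
      rw [← hy, ← Abelian.Ext.comp_assoc_of_third_deg_zero, hS.comp_extClass,
        Abelian.Ext.zero_comp]
    -- finiteness and projective dimension
    haveI : Module.Finite A S.X₁ := Module.Finite.equiv e₁.toLinearEquiv.symm
    haveI : Module.Finite A S.X₃ := Module.Finite.equiv e₃.toLinearEquiv.symm
    haveI : Module.Finite A S.X₂ := by
      refine ⟨Submodule.fg_of_fg_map_of_fg_inf_ker S.g.hom ?_ ?_⟩
      · rw [Submodule.map_top, LinearMap.range_eq_top.2 ((ModuleCat.epi_iff_surjective S.g).1 hS.epi_g)]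
        exact Module.Finite.fg_top
      · rw [top_inf_eq, ← hS.exact.moduleCat_range_eq_ker, ← Submodule.map_top]
        exact Submodule.FG.map _ Module.Finite.fg_top
    obtain ⟨q, φ, hφ, hker⟩ := hres
    have hI : HasProjectiveDimensionLT (ModuleCat.of A ↥I) 2 := by
      haveI := hker
      haveI : Projective φ.shortComplexKer.X₂ :=
        ModuleCat.projective_of_free (M := ModuleCat.of A (Fin q → A))
          (Module.Free.chooseBasis A (Fin q → A))
      haveI : Projective φ.shortComplexKer.X₁ :=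
        ModuleCat.projective_of_free (M := ModuleCat.of A (LinearMap.ker φ))
          (Module.Free.chooseBasis A (LinearMap.ker φ))
      exact (LinearMap.shortExact_shortComplexKer hφ).hasProjectiveDimensionLT_X₃ 1
        inferInstance inferInstance
    haveI := hI
    have h2 : HasProjectiveDimensionLT S.X₂ 2 :=
      hS.hasProjectiveDimensionLT_X₂ 2 (haveI := hP₁; inferInstance)
        (hasProjectiveDimensionLT_of_iso e₃.symm 2)
    -- a finite free cover
    obtain ⟨n, ψ, hψ⟩ := Module.Finite.exists_fin' A S.X₂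
    have hT := LinearMap.shortExact_shortComplexKer hψ
    haveI : Projective ψ.shortComplexKer.X₂ :=
      ModuleCat.projective_of_free (M := ModuleCat.of A (Fin n → A))
        (Module.Free.chooseBasis A (Fin n → A))
    haveI hK : Projective ψ.shortComplexKer.X₁ :=
      CategoryTheory.projective_iff_hasProjectiveDimensionLT_one.2
        (hT.hasProjectiveDimensionLT_X₁ 1 inferInstance h2)
    haveI : Module.Projective A (LinearMap.ker ψ) :=
      (IsProjective.iff_projective (R := A) (LinearMap.ker ψ)).2 hK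
    haveI : Module.Finite A (LinearMap.ker ψ) := inferInstance
    haveI : Module.Free A ψ.shortComplexKer.X₁ := Module.free_of_flat_of_isLocalRing
    haveI : Module.Finite A ψ.shortComplexKer.X₁ := inferInstanceAs (Module.Finite A (LinearMap.ker ψ))
    have hz : hT.extClass = 0 := ext_one_free_eq_zero (M := S.X₂) e₁ h0 hT.extClass
    obtain ⟨r, hr⟩ := Abelian.Ext.contravariant_sequence_exact₁ hT _
      (Abelian.Ext.mk₀ (𝟙 ψ.shortComplexKer.X₁)) (n₁ := 1) rfl
      (by rw [hz, Abelian.Ext.zero_comp])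
    obtain ⟨r, rfl⟩ := (Abelian.Ext.mk₀_bijective _ _).2 r
    rw [Abelian.Ext.mk₀_comp_mk₀] at hr
    have hr' := (Abelian.Ext.mk₀_bijective _ _).1 hr
    haveI := hT.epi_g
    let sp := ShortComplex.Splitting.ofExactOfRetraction _ hT.exact r hr' inferInstance
    have hs : ψ.comp sp.s.hom = LinearMap.id := congrArg ModuleCat.Hom.hom sp.s_g
    haveI : Module.Projective A S.X₂ := Module.Projective.of_split sp.s.hom ψ hs
    exact Module.free_of_flat_of_isLocalRing

end helpers

/-- Let A be a Noetherian local ring and I an ideal with a free resolution of length 1, 0 → A^p → A^q →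
I → 0 (equivalently: a surjection A^q → I with free kernel). Let 0 → A → M → I → 0 be an extension
with class e ∈ Ext^1(I, A). Then M is free if and only if e generates the A-module Ext^1(I, A); the
A-module structure being through End(A) = A, this says every element of Ext^1(I, A) is the composite
of e with an endomorphism of A. -/
theorem result (A : Type u) [CommRing A] [IsNoetherianRing A] [IsLocalRing A]
    (I : Ideal A)
    (hres : ∃ (q : ℕ) (φ : (Fin q → A) →ₗ[A] ↥I), Function.Surjective φ ∧ Module.Free A ↥(LinearMap.ker φ))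
    (S : ShortComplex (ModuleCat.{u} A)) (hS : S.ShortExact)
    (h₁ : Nonempty (S.X₁ ≅ ModuleCat.of A A)) (h₃ : Nonempty (S.X₃ ≅ ModuleCat.of A ↥I)) :
    Module.Free A S.X₂ ↔
      ∀ x : Abelian.Ext S.X₃ S.X₁ 1, ∃ f : S.X₁ ⟶ S.X₁, hS.extClass.comp (Abelian.Ext.mk₀ f) (add_zero 1) = x := by
  obtain ⟨e₁⟩ := h₁
  obtain ⟨e₃⟩ := h₃
  exact free_iff I hres S hS e₁ e₃

end Groth.Agent.S11493
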