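import Groth.Statements.S11496
import Groth.Agent.SerreReg.Descent
import Groth.Agent.Purity.FlatDim
-- import your own Groth.Agent.* helpers here

set_option autoImplicit false
universe u
open CategoryTheory
open VBPn

namespace Groth.Agent.S11496

/-- Let A be a regular local ring, M a finitely generated A-module and i ≥ 0. The support of Ext^i_A(M,
A) has dimension at most dim A − i: for every prime ideal p of A such that Ext^i over the
localization A_p of M_p into A_p is nonzero (this Ext group is the localization at p of Ext^i_A(M,
A)), one has dim(A/p) + i ≤ dim A. The published statement is for coherent analytic sheaves on an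
n-dimensional complex manifold; this row is stated for any regular local ring. -/
theorem result (A : Type u) [CommRing A] [IsRegularLocalRing A]
    (M : Type u) [AddCommGroup M] [Module A M] [Module.Finite A M] (i : ℕ) (p : Ideal A) [p.IsPrime]
    (h : Nontrivial (Abelian.Ext
      (ModuleCat.of (Localization.AtPrime p) (LocalizedModule p.primeCompl M))
      (ModuleCat.of (Localization.AtPrime p) (Localization.AtPrime p)) i)) :
    ringKrullDim (A ⧸ p) + (i : WithBot ℕ∞) ≤ ringKrullDim A := by
  haveI := Groth.Agent.SerreReg.isRegularLocalRing_localization A p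
  let L := Localization.AtPrime p
  obtain ⟨d, hd⟩ := Groth.Agent.SerreReg.exists_dim L
  have hi : i ≤ d := by
    by_contra hlt
    haveI : HasProjectiveDimensionLE (ModuleCat.of L (LocalizedModule p.primeCompl M)) d :=
      Groth.Agent.SerreReg.pdLE_of_isRegularLocalRing L d hd _
    have := HasProjectiveDimensionLT.subsingleton (ModuleCat.of L (LocalizedModule p.primeCompl M))
      (d + 1) i (by omega) (ModuleCat.of L L)
    exact not_subsingleton _ this
  have hheight : ((Order.height (⟨p, inferInstance⟩ : PrimeSpectrum A) : ℕ∞) : WithBot ℕ∞) = (d : WithBot ℕ∞) := by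
    rw [← hd, IsLocalization.AtPrime.ringKrullDim_eq_height p L]
    exact congrArg WithBot.some (PrimeSpectrum.height_eq_orderHeight ⟨p, inferInstance⟩).symm
  have h1 := Groth.Agent.Purity.height_add_coheight_le (⟨p, inferInstance⟩ : PrimeSpectrum A)
  rw [WithBot.coe_add, hheight] at h1
  rw [Groth.Agent.Purity.dim_quotient_eq_coheight (⟨p, inferInstance⟩ : PrimeSpectrum A)]
  refine le_trans ?_ h1
  rw [add_comm (d : WithBot ℕ∞)]
  exact add_le_add le_rfl (by exact_mod_cast hi)

end Groth.Agent.S11496
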