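import Groth.Statements.S11497
import Mathlib

set_option autoImplicit false
universe w v u
open CategoryTheory
open VBPn

namespace Groth.Agent.S11497


section helpers
open ShortComplex CategoryTheory.Limits

variable {C : Type u} [Category.{v} C] [Abelian C] [HasExt.{w} C]

lemma cyclesSES (M : ShortComplex C) [Epi M.g] :
    (ShortComplex.mk M.iCycles M.g M.iCycles_g).ShortExact where
  exact := ShortComplex.exact_of_f_is_kernel _ M.cyclesIsKernel

lemma homologySES (M : ShortComplex C) [Mono M.f] :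
    (ShortComplex.mk M.toCycles M.homologyπ M.toCycles_comp_homologyπ).ShortExact :=
  haveI : Mono M.toCycles := mono_of_mono_fac M.toCycles_i
  { exact := ShortComplex.exact_of_g_is_cokernel _ M.homologyIsCokernel
    mono_f := this
    epi_g := inferInstance }

lemma homologyMap_bijective (M M' : ShortComplex C) [Mono M.f] [Epi M.g] [Mono M'.f] [Epi M'.g]
    (hBA : ∀ f : M.X₂ ⟶ M'.X₁, f = 0) (hCB : ∀ f : M.X₃ ⟶ M'.X₂, f = 0)
    (hCA₁ : Subsingleton (Abelian.Ext M.X₃ M'.X₁ 1))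
    (hBA₁ : Subsingleton (Abelian.Ext M.X₂ M'.X₁ 1))
    (hCB₁ : Subsingleton (Abelian.Ext M.X₃ M'.X₂ 1))
    (hCA₂ : Subsingleton (Abelian.Ext M.X₃ M'.X₁ 2)) :
    Function.Bijective (fun φ : M ⟶ M' => ShortComplex.homologyMap φ) := by
  have hT := cyclesSES M
  have hT' := homologySES M'
  have hKA : ∀ v : M.cycles ⟶ M'.X₁, v = 0 := by
    intro v
    obtain ⟨x, hx⟩ := Abelian.Ext.contravariant_sequence_exact₁ hT M'.X₁ (Abelian.Ext.mk₀ v)
      (n₁ := 1) rfl (@Subsingleton.elim _ hCA₁ _ _)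
    obtain ⟨u, rfl⟩ := (Abelian.Ext.mk₀_bijective M.X₂ M'.X₁).2 x
    rw [Abelian.Ext.mk₀_comp_mk₀] at hx
    rw [← (Abelian.Ext.mk₀_bijective _ _).1 hx, hBA u, comp_zero]
  constructor
  · suffices key : ∀ φ : M ⟶ M', ShortComplex.homologyMap φ = 0 → φ = 0 by
      intro φ ψ h
      simp only at h
      rw [← sub_eq_zero]
      apply key
      rw [ShortComplex.homologyMap_sub, h, sub_self]
    intro φ h
    haveI := hT'.mono_f
    have h1 : ShortComplex.cyclesMap φ ≫ M'.homologyπ = 0 := by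
      rw [← ShortComplex.homologyπ_naturality, h, comp_zero]
    have h2 : ShortComplex.cyclesMap φ = 0 := by
      have hf := hT'.exact.lift_f (ShortComplex.cyclesMap φ) h1
      rw [← hf, hKA (hT'.exact.lift (ShortComplex.cyclesMap φ) h1), zero_comp]
    have h3 : M.iCycles ≫ φ.τ₂ = 0 := by
      rw [← ShortComplex.cyclesMap_i, h2, zero_comp]
    haveI := hT.epi_g
    have h4 : φ.τ₂ = 0 := by
      have hf := hT.exact.g_desc φ.τ₂ h3
      rw [← hf, hCB (hT.exact.desc φ.τ₂ h3), comp_zero]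
    refine ShortComplex.hom_ext _ _ ?_ h4 ?_
    · rw [← cancel_mono M'.f, φ.comm₁₂, h4, comp_zero, ShortComplex.zero_τ₁, zero_comp]
    · rw [← cancel_epi M.g, ← φ.comm₂₃, h4, zero_comp, ShortComplex.zero_τ₃, comp_zero]
  · intro h
    have hob : (Abelian.Ext.mk₀ (M.homologyπ ≫ h)).comp hT'.extClass
        (zero_add 1) = (0 : Abelian.Ext M.cycles M'.X₁ 1) := by
      obtain ⟨y, hy⟩ := Abelian.Ext.contravariant_sequence_exact₁ hT M'.X₁
        ((Abelian.Ext.mk₀ (M.homologyπ ≫ h)).comp hT'.extClass (zero_add 1))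
        (n₁ := 2) rfl (@Subsingleton.elim _ hCA₂ _ _)
      rw [← hy, @Subsingleton.elim _ hBA₁ y 0, Abelian.Ext.comp_zero]
    obtain ⟨x, hx⟩ := Abelian.Ext.covariant_sequence_exact₃ _ hT'
      (Abelian.Ext.mk₀ (M.homologyπ ≫ h)) (zero_add 1) hob
    obtain ⟨ψ, rfl⟩ := (Abelian.Ext.mk₀_bijective M.cycles M'.cycles).2 x
    rw [Abelian.Ext.mk₀_comp_mk₀] at hx
    have hψ : ψ ≫ M'.homologyπ = M.homologyπ ≫ h := (Abelian.Ext.mk₀_bijective _ _).1 hx
    obtain ⟨x₂, hx₂⟩ := Abelian.Ext.contravariant_sequence_exact₁ hT M'.X₂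
      (Abelian.Ext.mk₀ (ψ ≫ M'.iCycles)) (n₁ := 1) rfl (@Subsingleton.elim _ hCB₁ _ _)
    obtain ⟨b, rfl⟩ := (Abelian.Ext.mk₀_bijective M.X₂ M'.X₂).2 x₂
    rw [Abelian.Ext.mk₀_comp_mk₀] at hx₂
    have hb : M.iCycles ≫ b = ψ ≫ M'.iCycles := (Abelian.Ext.mk₀_bijective _ _).1 hx₂
    haveI := hT'.mono_f
    haveI := hT.epi_g
    have ha : (M.toCycles ≫ ψ) ≫ M'.homologyπ = 0 := by
      rw [Category.assoc, hψ, ← Category.assoc, M.toCycles_comp_homologyπ, zero_comp]
    let a : M.X₁ ⟶ M'.X₁ := hT'.exact.lift (M.toCycles ≫ ψ) ha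
    have ha' : a ≫ M'.toCycles = M.toCycles ≫ ψ := hT'.exact.lift_f _ ha
    have hc : M.iCycles ≫ b ≫ M'.g = 0 := by
      rw [← Category.assoc, hb, Category.assoc, M'.iCycles_g, comp_zero]
    let c : M.X₃ ⟶ M'.X₃ := hT.exact.desc (b ≫ M'.g) hc
    have hc' : M.g ≫ c = b ≫ M'.g := hT.exact.g_desc _ hc
    let φ : M ⟶ M' := ⟨a, b, c, by
      rw [← M'.toCycles_i, ← Category.assoc, ha', Category.assoc, ← hb, ← Category.assoc,
        M.toCycles_i], hc'.symm⟩
    have hcm : ShortComplex.cyclesMap φ = ψ := by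
      rw [← cancel_mono M'.iCycles, ShortComplex.cyclesMap_i, hb]
    refine ⟨φ, ?_⟩
    show ShortComplex.homologyMap φ = h
    rw [← cancel_epi M.homologyπ, ShortComplex.homologyπ_naturality, hcm, hψ]

end helpers

/-- In an abelian category, let M : A → B → C and M' : A' → B' → C' be monads, i.e. short complexes
whose first map is a monomorphism and whose second map is an epimorphism, with cohomology (homology)
objects E and E'. Suppose Hom(B, A') = 0, Hom(C, B') = 0 and Ext^1(C, A') = Ext^1(B, A') = Ext^1(C,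
B') = Ext^2(C, A') = 0. Then the map sending a morphism of monads M → M' to the induced morphism E →
E' is bijective. The published statement is for monads of vector bundles on a complex manifold X,
with Ext^i(C, A') written H^i(X, C^* ⊗ A'); this row is stated in any abelian category. -/
theorem result {C : Type u} [Category.{v} C] [Abelian C] [HasExt.{w} C]
    (M M' : ShortComplex C) [Mono M.f] [Epi M.g] [Mono M'.f] [Epi M'.g]
    (hBA : ∀ f : M.X₂ ⟶ M'.X₁, f = 0) (hCB : ∀ f : M.X₃ ⟶ M'.X₂, f = 0)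
    (hCA₁ : Subsingleton (Abelian.Ext M.X₃ M'.X₁ 1)) (hBA₁ : Subsingleton (Abelian.Ext M.X₂ M'.X₁ 1))
    (hCB₁ : Subsingleton (Abelian.Ext M.X₃ M'.X₂ 1)) (hCA₂ : Subsingleton (Abelian.Ext M.X₃ M'.X₁ 2)) :
    Function.Bijective (fun φ : M ⟶ M' => ShortComplex.homologyMap φ) := by
  exact homologyMap_bijective M M' hBA hCB hCA₁ hBA₁ hCB₁ hCA₂

end Groth.Agent.S11497
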