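import Groth.Statements.S11499
import Mathlib

set_option autoImplicit false
universe u
open TensorProduct
open VBPn

namespace Groth.Agent.S11499

/-- Let A be an integral domain with fraction field K and M a finitely generated torsion-free A-module
of rank r (K ⊗_A M is r-dimensional over K). Then there is an injective A-linear map M → A^r. The
published statement is for torsion-free coherent sheaves on a complex manifold, locally near a
point; this row is its statement for one stalk, over any domain. -/
theorem result (A : Type u) [CommRing A] [IsDomain A]
    (M : Type u) [AddCommGroup M] [Module A M] [Module.Finite A M] [NoZeroSMulDivisors A M] (r : ℕ)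
    (hr : Module.finrank (FractionRing A) (FractionRing A ⊗[A] M) = r) :
    ∃ f : M →ₗ[A] (Fin r → A), Function.Injective f := by
  classical
  let K := FractionRing A
  let V := K ⊗[A] M
  have : Module.Finite K V := inferInstance
  let b := Module.finBasisOfFinrankEq K V hr
  let ι : M →ₗ[A] V := TensorProduct.mk A K M 1
  have hι : Function.Injective ι := by
    rw [injective_iff_map_eq_zero]
    intro m hm
    have : IsLocalizedModule (nonZeroDivisors A) ι :=
      (isLocalizedModule_iff_isBaseChange (nonZeroDivisors A) K ι).2 (TensorProduct.isBaseChange A M K)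
    obtain ⟨c, hc⟩ := (IsLocalizedModule.eq_zero_iff (nonZeroDivisors A) ι).1 hm
    exact (smul_eq_zero.1 hc).resolve_left (nonZeroDivisors.ne_zero c.2)
  obtain ⟨s, hs⟩ := Module.Finite.fg_top (R := A) (M := M)
  obtain ⟨d, hd⟩ := IsLocalization.exist_integer_multiples (nonZeroDivisors A) (S := K)
    (s ×ˢ (Finset.univ : Finset (Fin r))) (fun p => b.repr (ι p.1) p.2)
  let coordA : Fin r → (M →ₗ[A] K) := fun i => ((b.coord i).restrictScalars A).comp ι
  have hint : ∀ (i : Fin r) (m : M), (d : A) • coordA i m ∈ LinearMap.range (Algebra.linearMap A K) := by
    intro i m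
    have hm : m ∈ Submodule.span A (s : Set M) := hs ▸ Submodule.mem_top
    induction hm using Submodule.span_induction with
    | mem x hx => exact hd (x, i) (Finset.mem_product.2 ⟨hx, Finset.mem_univ i⟩)
    | zero => simp
    | add x y _ _ hx hy => rw [map_add, smul_add]; exact add_mem hx hy
    | smul a x _ hx => rw [map_smul, smul_comm]; exact Submodule.smul_mem _ _ hx
  have hinjA : LinearMap.ker (Algebra.linearMap A K) = ⊥ :=
    LinearMap.ker_eq_bot.2 (IsFractionRing.injective A K)
  let e := LinearEquiv.ofInjective (Algebra.linearMap A K) (IsFractionRing.injective A K)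
  refine ⟨LinearMap.pi fun i => e.symm.toLinearMap.comp
    (LinearMap.codRestrict _ ((d : A) • coordA i) (hint i)), fun x y h => hι ?_⟩
  apply b.repr.injective
  ext i
  have h' := congrArg (fun z => ((e z : LinearMap.range (Algebra.linearMap A K)) : K)) (congrFun h i)
  simp only [LinearMap.pi_apply, LinearMap.comp_apply, LinearEquiv.coe_coe, LinearEquiv.apply_symm_apply] at h'
  exact (smul_right_injective K (nonZeroDivisors.ne_zero d.2)) h'

end Groth.Agent.S11499
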