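import Groth.Statements.S11503
import Groth.Agent.PicPn.Main
import Groth.Agent.ProjMor.ProjSpaceBase
import Groth.Agent.CurveRR.Curve
import Groth.Agent.TMul.Frame
import Groth.Agent.Nagata.Bundles
import Groth.Agent.W7Slope.Basic

set_option autoImplicit false
universe u
open VBPn

set_option backward.isDefEq.respectTransparency false
set_option backward.isDefEq.respectTransparency.types false

set_option backward.isDefEq.respectTransparency false
set_option backward.isDefEq.respectTransparency.types false
open Opposite Groth.Agent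

namespace Groth.Agent.S11503

open CategoryTheory CategoryTheory.Limits AlgebraicGeometry in
/-- Let k be a characteristic-zero algebraically closed field and E a finite locally free O-module of
rank r > 1 on P^n_k. If E has a nonzero section (a nonzero morphism O → E) and its dual has a
nonzero section (a nonzero morphism E → O), then E is not simple: there is an endomorphism of E
which is not a homothety, i.e. whose underlying map of abelian sheaves is not multiplication by any
scalar c ∈ k. -/
theorem result (k : Type u) [Field k] [IsAlgClosed k] [CharZero k]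
    (n r : ℕ) (hr : 1 < r) (E : (CohB1.ProjSpace n k).Modules) (hE : FlatMod.IsFinLocFreeOfRank r E)
    (s : Coh.structureModule (CohB1.ProjSpace n k) ⟶ E) (hs : s ≠ 0)
    (t : E ⟶ Coh.structureModule (CohB1.ProjSpace n k)) (ht : t ≠ 0) :
    ∃ φ : E ⟶ E, ∀ c : k, (SheafOfModules.toSheaf (CohB1.ProjSpace n k).ringCatSheaf).map φ ≠
      Coh.smulAb E (Coh.toGlobal (CohB1.ProjSpace.toSpec n k) c) := by
  let X := CohB1.ProjSpace n k
  haveI : AlgebraicGeometry.IsIntegral X := PicPn.isIntegral
  haveI : IsProper (X ↘ Spec (CommRingCat.of k)) := ProjMor.isProper_toSpec (n := n) (R := k)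
  haveI := CurveRR.isNoetherian_of_proper k X
  refine ⟨t ≫ s, fun c hc => ?_⟩
  by_cases hc0 : c = 0
  · subst hc0
    have h0 : t ≫ s = 0 := by
      apply (SheafOfModules.toSheaf X.ringCatSheaf).map_injective
      rw [hc, map_zero, Coh.smulAb_zero, Functor.map_zero]
    refine hs (TMul.hom_ext_val ?_)
    change TMul.val s ⊤ = TMul.val (0 : Coh.structureModule X ⟶ E) ⊤
    rw [show TMul.val (0 : Coh.structureModule X ⟶ E) ⊤ = 0 from rfl]
    have hgerm : WeakAssLib.mgerm E (show genericPoint X ∈ (⊤ : X.Opens) from trivial) (TMul.val s ⊤) = 0 := by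
      obtain ⟨z, hz⟩ := CurveRR.surjective_stalk_generic TMul.isInvertible_structureModule t ht
        (WeakAssLib.mgerm (Coh.structureModule X) (show genericPoint X ∈ (⊤ : X.Opens) from trivial) (1 : Γ(X, ⊤)))
      obtain ⟨U, hU, a, rfl⟩ := E.presheaf.exists_germ_eq (x := genericPoint X) z
      refine ((WeakAssLib.stalkHom_germ s (show genericPoint X ∈ (⊤ : X.Opens) from trivial) (1 : Γ(X, ⊤))).symm).trans ?_
      rw [← hz, WeakAssLib.stalkHom_germ, WeakAssLib.stalkHom_germ,
        show s.app U (t.app U a) = 0 from congrArg (fun f : E ⟶ E => f.app U a) h0, map_zero]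
    refine Groth.Agent.QC.section_eq_of_locally fun x _ => ?_
    obtain ⟨U, m, e, hxU, he⟩ := TMul.exists_isFrame (Nagata.isFinLocFree_of_rank' hE) x
    refine ⟨U, le_top, hxU, ?_⟩
    have hη : genericPoint X ∈ U := (genericPoint_specializes x).mem_open U.2 hxU
    obtain ⟨a, ha⟩ := he.comb_surjective le_rfl (Groth.Agent.QC.res E le_top (TMul.val s ⊤))
    have h1 : (fun i => (X.presheaf.germ U _ hη).hom (a i)) = fun _ => 0 := by
      refine (he _ hη).1 ?_
      show ∑ i, (X.presheaf.germ U _ hη).hom (a i) • WeakAssLib.mgerm E hη (e i) = _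
      rw [← TMul.germ_comb le_rfl hη, ha, WeakAssLib.mgerm_res, hgerm]
      simp
    have h2 : a = 0 := funext fun i =>
      germ_injective_of_isIntegral X _ hη ((congrFun h1 i).trans (map_zero _).symm)
    rw [← ha, h2, map_zero]
    simp
  · haveI : IsIso (Coh.smulAb E (Coh.toGlobal (CohB1.ProjSpace.toSpec n k) c)) := by
      refine ⟨Coh.smulAb E (Coh.toGlobal (CohB1.ProjSpace.toSpec n k) c⁻¹), ?_, ?_⟩ <;>
      · rw [← Coh.smulAb_mul, ← map_mul]
        simp [hc0, Coh.smulAb_one]
    haveI : IsIso ((SheafOfModules.toSheaf X.ringCatSheaf).map (t ≫ s)) := hc ▸ inferInstance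
    haveI : IsIso ((SheafOfModules.toSheaf X.ringCatSheaf).map t ≫ (SheafOfModules.toSheaf X.ringCatSheaf).map s) := by
      rw [← Functor.map_comp]; infer_instance
    haveI : Mono ((SheafOfModules.toSheaf X.ringCatSheaf).map t) :=
      mono_of_mono _ ((SheafOfModules.toSheaf X.ringCatSheaf).map s)
    haveI : Mono t := (SheafOfModules.toSheaf X.ringCatSheaf).mono_of_mono_map inferInstance
    have h := W7Slope.grk_le_of_mono k t (RefStalk.isCoh_structureModule (X := X))
    rw [W7Slope.grk_of_rank hE, W7Slope.grk_of_rank (CurveRR.isFinLocFreeOfRank_one TMul.isInvertible_structureModule)] at h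
    omega

end Groth.Agent.S11503
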