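import Groth.Statements.S11507
import Groth.Agent.PnEuler.NullExist
import Groth.Agent.Horrocks.Main
import Groth.Agent.ProjMor.ProjSpaceBase
-- import your own Groth.Agent.* helpers here

set_option autoImplicit false
universe u
open VBPn

namespace Groth.Agent.S11507

open CategoryTheory CategoryTheory.Limits AlgebraicGeometry in
/-- Let k be an algebraically closed field of characteristic zero and n odd. Then there is a
monomorphism of O-modules O(−1) → Ω^1 ⊗ O(1) on P^n_k (Ω^1 the sheaf of differentials of P^n_k over
k) whose cokernel is finite locally free of rank n − 1; dually, a bundle epimorphism T(−1) → O(1)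
whose kernel is a null-correlation bundle. The published statement also gives the total Chern class
1 + h^2 + ⋯ + h^{n−1} of the null-correlation bundle; this row does not state it. -/
theorem result (k : Type u) [Field k] [IsAlgClosed k] [CharZero k]
    (n : ℕ) (hn : Odd n) :
    ∃ u : Twist.twistProjSpace n k (-1) ⟶
        CohB1.tensorMod (Omega.sheaf (CohB1.ProjSpace.toSpec n k)) (Twist.twistProjSpace n k 1),
      Mono u ∧ FlatMod.IsFinLocFreeOfRank (n - 1) (cokernel u) := by
  haveI : IsIntegral (CohB1.ProjSpace n k) := Groth.Agent.Horrocks.isIntegral_projSpace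
  obtain ⟨l, rfl⟩ := hn
  obtain ⟨q, hq, ⟨ε⟩⟩ := Groth.Agent.PnEuler.exists_euler (k := k) (2 * l + 1)
  haveI := hq
  obtain ⟨η⟩ := Groth.Agent.PnEuler.nonempty_eta (k := k) (2 * l + 1) 1 (-1) (by norm_num)
  obtain ⟨u, hu, hr⟩ := Groth.Agent.PnEuler.exists_null_presentation
    (Groth.Agent.CohFinite.isInvertible_twist (2 * l + 1) k 1)
    (Groth.Agent.CohFinite.isInvertible_twist (2 * l + 1) k (-1)) η q ε
  refine ⟨u, hu, ?_⟩
  rw [show 2 * l + 1 - 1 = 2 * l by omega]
  exact hr

end Groth.Agent.S11507
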