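import Groth.Statements.S1151
import Groth.Agent.LeffKill.Reduce
import Groth.Agent.LefDepth.Sections
import Groth.Agent.PureExtend.LocNoeth
-- import your own Groth.Agent.* helpers here

set_option autoImplicit false
universe u
open Pi1

namespace Groth.Agent.S1151

open AlgebraicGeometry CategoryTheory CategoryTheory.Limits in
/-- Lefschetz Theorem for finite étale covers, essential surjectivity: let X be a proper scheme over a
field k, L an ample invertible O_X-module, s a global section of L and Y = Z(s) its zero scheme.
Assume depth(O_{X,x}) + dim(closure of {x}) > 2 for every point x of X not in Y, and that purity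
holds for the local ring O_{X,x} at every closed point x of X not in Y. Then the functor restricting
finite étale covers from X to Y is essentially surjective. (Together with its full faithfulness,
stated separately, it is an equivalence of categories.) -/
theorem result (k : Type u) [Field k] (X : Scheme.{u})
    (f : X ⟶ Spec (CommRingCat.of k)) [IsProper f] (L : X.Modules) (hL : CohB1.IsAmple L)
    (s : Coh.structureModule X ⟶ L)
    (hd : ∀ x : X, x ∉ (PicF2.zeroScheme L s).support →
      (2 : WithBot ℕ∞) < (LocCoh.depth (X.presheaf.stalk x) (X.presheaf.stalk x) : WithBot ℕ∞) +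
        topologicalKrullDim (closure ({x} : Set X)))
    (hp : ∀ x : X, x ∉ (PicF2.zeroScheme L s).support → IsClosed ({x} : Set X) →
      FEt.PurityHolds (X.presheaf.stalk x)) :
    (FEt.restrict (PicF2.zeroScheme L s).subschemeι).EssSurj := by
  letI : X.Over (Spec (CommRingCat.of k)) := ⟨f⟩
  haveI : IsProper (X ↘ Spec (CommRingCat.of k)) := inferInstanceAs (IsProper f)
  haveI : IsLocallyNoetherian X := LocallyOfFiniteType.isLocallyNoetherian f
  let Z := PicF2.zeroScheme L s
  refine ⟨fun R => ?_⟩
  obtain ⟨V, R', hV, hR⟩ := LeffKill.exists_extension k hL s hd R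
  have hcl : ∀ x : X, x ∉ V → IsClosed ({x} : Set X) := LefDepth.isClosed_singleton_of_notMem k hL s V hV
  haveI : (FEt.restrict V.ι).EssSurj := PureExtend.essSurj_restrict_locallyNoetherian V (fun x hx => by
    have h1 := hd x fun h => hx (hV h)
    have h2 := LefDepth.dim_closure_nonpos_of_isClosed (hcl x hx)
    have h3 : (2 : WithBot ℕ∞) < (LocCoh.depth (X.presheaf.stalk x) (X.presheaf.stalk x) : WithBot ℕ∞) + 0 :=
      lt_of_lt_of_le h1 (add_le_add le_rfl h2)
    rw [add_zero] at h3
    exact le_of_lt (WithBot.coe_lt_coe.1 h3))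
    fun W x hx => LefEssSurj.purityHolds_congr (W.stalkIso x).commRingCatIsoToRingEquiv
      (hp x.1 (fun h => hx (hV h)) (hcl x.1 hx))
  let i : Z.subscheme ⟶ (V : Scheme.{u}) := IsOpenImmersion.lift V.ι Z.subschemeι (by
    rw [Scheme.Opens.range_ι, Scheme.IdealSheafData.range_subschemeι]; exact hV)
  obtain ⟨η⟩ := hR i (IsOpenImmersion.lift_fac _ _ _)
  refine ⟨(FEt.restrict V.ι).objPreimage R', ⟨(LefEssSurj.restrictComp i V.ι Z.subschemeι
    (IsOpenImmersion.lift_fac _ _ _)).app _ ≪≫ (FEt.restrict i).mapIso ((FEt.restrict V.ι).objObjPreimageIso R') ≪≫ η⟩⟩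

end Groth.Agent.S1151
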