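import Groth.Statements.S1153
import Groth.Agent.FpqcDescent.Sep
import Mathlib.AlgebraicGeometry.Morphisms.Proper
import Mathlib.AlgebraicGeometry.IdealSheaf.Functorial

set_option autoImplicit false
open CategoryTheory CategoryTheory.Limits AlgebraicGeometry Opposite
universe u
open Desc

namespace Groth.Agent.S1153

set_option backward.isDefEq.respectTransparency.types false in
/-- Let f : X ⟶ Y be locally of finite type, Z a closed subset of X and g : Y' ⟶ Y quasi-compact, flat
and surjective. If the preimage of Z in X ×_Y Y' is proper over Y', then Z is proper over Y. -/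
theorem result {X Y Y' : Scheme.{u}} (f : X ⟶ Y) [LocallyOfFiniteType f] (Z : Set X) (hZ : IsClosed Z)
    (g : Y' ⟶ Y) [QuasiCompact g] [Flat g] [Surjective g]
    (h : ClSub.IsProperOver (pullback.snd f g) ((pullback.fst f g).base ⁻¹' Z)) :
    ClSub.IsProperOver f Z := by
  obtain ⟨hc, hR⟩ := h
  refine ⟨hZ, ?_⟩
  let IZ := Scheme.IdealSheafData.vanishingIdeal ⟨Z, hZ⟩
  let IR := Scheme.IdealSheafData.vanishingIdeal ⟨_, hc⟩
  have hrZ : Set.range IZ.subschemeι = Z := by
    rw [Scheme.IdealSheafData.range_subschemeι, Scheme.IdealSheafData.coe_support_vanishingIdeal]; rfl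
  let h := IZ.subschemeι ≫ f
  let iP : pullback h g ⟶ pullback f g := pullback.map h g f g IZ.subschemeι (𝟙 _) (𝟙 _)
    (Category.comp_id _) ((Category.comp_id _).trans (Category.id_comp _).symm)
  have hPB : IsPullback iP (pullback.fst h g) (pullback.fst f g) IZ.subschemeι := by
    refine IsPullback.of_right ?_ (pullback.lift_fst _ _ _) (IsPullback.of_hasPullback f g).flip
    rw [show iP ≫ pullback.snd f g = pullback.snd h g from
      (pullback.lift_snd _ _ _).trans (Category.comp_id _)]
    exact (IsPullback.of_hasPullback h g).flip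
  have : IsClosedImmersion iP :=
    MorphismProperty.of_isPullback (P := @IsClosedImmersion) hPB.flip inferInstance
  have hrP : Set.range iP = (pullback.fst f g).base ⁻¹' Z := by
    ext w
    constructor
    · rintro ⟨v, rfl⟩
      rw [Set.mem_preimage, ← Scheme.Hom.comp_apply, hPB.w, ← hrZ]
      exact ⟨_, rfl⟩
    · intro hw
      obtain ⟨z, hz⟩ := hrZ.symm ▸ hw
      obtain ⟨v, hv, -⟩ := Scheme.exists_preimage_of_isPullback hPB w z hz.symm
      exact ⟨v, hv⟩
  have hle : iP.ker ≤ IR := by
    rw [← Scheme.IdealSheafData.le_support_iff_le_vanishingIdeal]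
    intro w hw
    change w ∈ (iP.ker.support : Set _)
    rw [Scheme.Hom.support_ker]
    exact subset_closure (hrP.symm ▸ hw)
  let i := IsClosedImmersion.lift iP IR.subschemeι (by rwa [Scheme.IdealSheafData.ker_subschemeι])
  have hi : i ≫ iP = IR.subschemeι := IsClosedImmersion.lift_fac _ _ _
  have : IsClosedImmersion (i ≫ iP) := hi ▸ inferInstance
  have : IsClosedImmersion i := .of_comp i iP
  have : Surjective i := ⟨fun v ↦ by
    have hv : iP v ∈ (pullback.fst f g).base ⁻¹' Z := hrP ▸ ⟨v, rfl⟩
    have : iP v ∈ Set.range IR.subschemeι := by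
      rw [Scheme.IdealSheafData.range_subschemeι, Scheme.IdealSheafData.coe_support_vanishingIdeal]
      exact hv
    obtain ⟨r, hr⟩ := this
    exact ⟨r, iP.isClosedEmbedding.injective (by rw [← Scheme.Hom.comp_apply, hi, hr])⟩⟩
  let p2 := pullback.snd h g
  have hcomp : i ≫ p2 = IR.subschemeι ≫ pullback.snd f g := by
    rw [← hi, Category.assoc,
      show iP ≫ pullback.snd f g = p2 from (pullback.lift_snd _ _ _).trans (Category.comp_id _)]
  have : IsProper (i ≫ p2) := hcomp ▸ hR
  have : UniversallyClosed p2 := .of_comp_surjective i p2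
  have hsep : IsSeparated p2 := by
    constructor
    let R := i ≫ p2
    let m : pullback R R ⟶ pullback p2 p2 := pullback.map R R p2 p2 i i (𝟙 _)
      (Category.comp_id _) (Category.comp_id _)
    have hfac : pullback.diagonal R ≫ m = i ≫ pullback.diagonal p2 := by
      apply pullback.hom_ext
      · rw [Category.assoc, pullback.lift_fst, pullback.diagonal_fst_assoc, Category.assoc,
          pullback.diagonal_fst, Category.comp_id]
      · rw [Category.assoc, pullback.lift_snd, pullback.diagonal_snd_assoc, Category.assoc,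
          pullback.diagonal_snd, Category.comp_id]
    have : IsClosedImmersion m := MorphismProperty.pullbackMap (P := @IsClosedImmersion)
      ‹IsClosedImmersion i› ‹IsClosedImmersion i› rfl rfl
    have hrange : Set.range (pullback.diagonal p2) = m '' Set.range (pullback.diagonal R) := by
      rw [← Set.range_comp]
      ext w
      constructor
      · rintro ⟨v, rfl⟩
        obtain ⟨r, rfl⟩ := i.surjective v
        exact ⟨r, by rw [Function.comp_apply, ← Scheme.Hom.comp_apply, hfac, Scheme.Hom.comp_apply]⟩
      · rintro ⟨r, rfl⟩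
        exact ⟨i r, by rw [Function.comp_apply, ← Scheme.Hom.comp_apply, ← hfac, Scheme.Hom.comp_apply]⟩
    refine .of_isPreimmersion _ ?_
    rw [hrange]
    exact m.isClosedEmbedding.isClosedMap _ (pullback.diagonal R).isClosedEmbedding.isClosed_range
  have hQ : (@Surjective ⊓ @Flat ⊓ @QuasiCompact : MorphismProperty Scheme.{u}) g :=
    ⟨⟨‹_›, ‹_›⟩, ‹_›⟩
  have hs : IsSeparated h := MorphismProperty.of_pullback_snd_of_descendsAlong hQ hsep
  have hu : UniversallyClosed h :=
    MorphismProperty.of_pullback_snd_of_descendsAlong hQ ‹UniversallyClosed p2›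
  exact { toIsSeparated := hs, toUniversallyClosed := hu, toLocallyOfFiniteType := inferInstanceAs (LocallyOfFiniteType h) }

end Groth.Agent.S1153
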