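import Groth.Statements.S1154
import Groth.Agent.PicFrob.Stage
import Groth.Agent.PicRoot.Main
-- import your own Groth.Agent.* helpers here

set_option autoImplicit false
set_option backward.isDefEq.respectTransparency false
set_option backward.isDefEq.respectTransparency.types false
set_option linter.style.haveILetI false
set_option maxHeartbeats 1000000
open CategoryTheory CategoryTheory.Limits AlgebraicGeometry Opposite
universe u
open PicF

namespace Groth.Agent.S1154

attribute [local instance] Groth.Agent.W7Cube.law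

/-- Let k have characteristic p > 0, let X be quasi-compact and quasi-separated over k whose ring of
global functions is k itself (the structure morphism induces an isomorphism on global sections), let
n be prime to p and k'/k purely inseparable. Then every isomorphism class of invertible modules M on
X_{k'} with M^n trivial is the pullback of such a class on X (injectivity of this pullback on
classes being a separate fact). -/
theorem result (k : Type u) [Field k] (p : ℕ) [Fact p.Prime] [CharP k p]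
    (X : Scheme.{u}) (f : X ⟶ Spec (CommRingCat.of k)) [CompactSpace X] [QuasiSeparatedSpace X]
    (hH0 : IsIso f.appTop) (n : ℕ) (hn : ¬ p ∣ n) (k' : Type u) [Field k'] [Algebra k k'] [IsPurelyInseparable k k'] :
    ∀ d : PicF.Cl (pullback f (Spec.map (CommRingCat.ofHom (algebraMap k k')))), (PicF.IsInvertibleCl d ∧ ∃ M : ((pullback f (Spec.map (CommRingCat.ofHom (algebraMap k k'))))).Modules, PicF.cl M = d ∧ Nonempty (CohB1.tensorPow M n ≅ Coh.structureModule ((pullback f (Spec.map (CommRingCat.ofHom (algebraMap k k'))))))) →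
      ∃ c : PicF.Cl X, (PicF.IsInvertibleCl c ∧ ∃ M : (X).Modules, PicF.cl M = c ∧ Nonempty (CohB1.tensorPow M n ≅ Coh.structureModule (X))) ∧ PicF.pullCl (pullback.fst f (Spec.map (CommRingCat.ofHom (algebraMap k k')))) c = d := by
  intro d hd
  obtain ⟨hdinv, M, rfl, ⟨eM⟩⟩ := hd
  let Xk : Scheme.{u} := pullback f (Spec.map (CommRingCat.ofHom (algebraMap k k')))
  have hM : PicF.IsInvertible M := by
    obtain ⟨L, hL, hLi⟩ := hdinv
    obtain ⟨eL⟩ := (PicGrp.cl_eq_cl_iff _ _).1 hL
    exact ParaFLib.isInvertible_of_iso eL hLi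
  let x : PicLoc.PicSet Xk := PicGrp.cls M hM
  have hx : x ^ n = 1 := by
    rw [PicRoot.cls_pow hM n, PicGrp.cls_eq_one_iff]; exact ⟨eM⟩
  haveI : IsCofiltered (AVUniv.KSub k k')ᵒᵖ := isCofiltered_op_of_isFiltered _
  let D := AVUniv.kDiagram k k'
  let bot : AVUniv.KSub k k' := ⟨⊥, Subalgebra.fg_bot⟩
  let i₀ : (AVUniv.KSub k k')ᵒᵖ := op bot
  let e₀ : Spec (CommRingCat.of k) ⟶ D.obj i₀ :=
    Spec.map (CommRingCat.ofHom (Algebra.botEquiv k k').toRingEquiv.toRingHom)
  haveI : IsIso e₀ := by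
    have : IsIso (CommRingCat.ofHom (Algebra.botEquiv k k').toRingEquiv.toRingHom) :=
      (Algebra.botEquiv k k').toRingEquiv.toCommRingCatIso.isIso_hom
    exact inferInstanceAs (IsIso (Spec.map _))
  let g₀ : X ⟶ D.obj i₀ := f ≫ e₀
  have hbot : ∀ r : ↥(⊥ : Subalgebra k k'), algebraMap k k' (Algebra.botEquiv k k' r) = r.1 := fun r => by
    obtain ⟨a, ha⟩ := (Algebra.botEquiv k k').symm.surjective r
    subst ha
    rw [AlgEquiv.apply_symm_apply]
    rfl
  have hπ : (AVUniv.kCone k k').π.app i₀ = Spec.map (CommRingCat.ofHom (algebraMap k k')) ≫ e₀ := by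
    refine Eq.trans ?_ (Spec.map_comp _ _)
    change Spec.map _ = Spec.map _
    congr 1
    ext r
    exact (hbot r).symm
  have hY : IsPullback (pullback.fst f (Spec.map (CommRingCat.ofHom (algebraMap k k'))))
      (pullback.snd f (Spec.map (CommRingCat.ofHom (algebraMap k k')))) g₀ ((AVUniv.kCone k k').π.app i₀) :=
    IsPullback.of_iso (IsPullback.of_hasPullback f (Spec.map (CommRingCat.ofHom (algebraMap k k'))))
      (Iso.refl _) (Iso.refl _) (Iso.refl _) (asIso e₀) (by simp) (by simp) (by simp [g₀]) (by simp [hπ])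
  let D' := LimDesc.tower D g₀
  let c' := LimDesc.towerCone D g₀ (AVUniv.kCone k k') hY
  have hc' : IsLimit c' := LimDesc.isLimitTowerCone D g₀ (AVUniv.kCone k k') hY (AVUniv.kIsLimit k k')
  haveI : CompactSpace (D'.obj (Over.mk (𝟙 i₀))) := LimDesc.compactSpace_stage _ g₀ _
  haveI : QuasiSeparatedSpace (D'.obj (Over.mk (𝟙 i₀))) := LimDesc.quasiSeparatedSpace_stage _ g₀ _
  obtain ⟨j₁, -, y, hy⟩ := PicFrob.exists_cls_stage (D := D') (c := c') (i₀ := Over.mk (𝟙 i₀)) hc' x
  haveI : CompactSpace (D'.obj j₁) := LimDesc.compactSpace_stage _ g₀ _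
  haveI : QuasiSeparatedSpace (D'.obj j₁) := LimDesc.quasiSeparatedSpace_stage _ g₀ _
  obtain ⟨j, φ, hφ⟩ := PicFrob.exists_eq_stage (D := D') (c := c') (i₀ := j₁) hc' (y ^ n) 1
    (by rw [map_pow, hy, map_one]; exact hx)
  let y' : PicLoc.PicSet (D'.obj j) := W7Cube.pull (D'.map φ) y
  have hy'n : y' ^ n = 1 := (map_pow _ _ _).symm.trans (hφ.trans (map_one _))
  have hy' : W7Cube.pull (c'.π.app j) y' = x := (W7Cube.pull_pull _ _ _).trans ((congrArg (fun m => W7Cube.pull m y) (c'.w φ)).trans hy)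
  let B : AVUniv.KSub k k' := j.left.unop
  obtain ⟨e, θ, hθ⟩ := PicFrob.exists_retract p B.1 B.2
  haveI : ExpChar k p := ExpChar.prime Fact.out
  haveI : CharP ↥B.1 p := charP_of_injective_algebraMap (algebraMap k ↥B.1).injective p
  haveI : ExpChar ↥B.1 p := ExpChar.prime Fact.out
  haveI : FrobSch.IsCharP (D.obj j.left) p := FrobSch.isCharP_Spec' (CommRingCat.of ↥B.1) p
  haveI : FrobSch.IsCharP X p := FrobSch.IsCharP.of_hom f p
  let Y : Scheme.{u} := LimDesc.stage D g₀ j
  let η : Y ⟶ X := LimDesc.toBase D g₀ j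
  let tB : Y ⟶ D.obj j.left := LimDesc.toStage D g₀ j
  haveI : FrobSch.IsCharP Y p := FrobSch.IsCharP.of_hom tB p
  have hj0 : D.map j.hom = Spec.map (CommRingCat.ofHom (algebraMap k ↥B.1)) ≫ e₀ := by
    refine Eq.trans ?_ (Spec.map_comp _ _)
    change Spec.map _ = Spec.map _
    congr 1
    ext r
    exact Subtype.ext (hbot r).symm
  have hη : η ≫ f = tB ≫ Spec.map (CommRingCat.ofHom (algebraMap k ↥B.1)) := by
    rw [← cancel_mono e₀, Category.assoc, Category.assoc, ← hj0]
    exact pullback.condition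
  have hθk : θ.comp (algebraMap k ↥B.1) = iterateFrobenius k p e := RingHom.ext fun a => by
    refine (algebraMap k ↥B.1).injective ?_
    rw [RingHom.comp_apply, hθ, iterateFrobenius_def, map_pow]
  have hθB : (algebraMap k ↥B.1).comp θ = iterateFrobenius ↥B.1 p e := RingHom.ext fun b => by
    rw [RingHom.comp_apply, hθ, iterateFrobenius_def]
  let σ : Spec (CommRingCat.of k) ⟶ D.obj j.left := Spec.map (CommRingCat.ofHom θ)
  have hσ : σ ≫ Spec.map (CommRingCat.ofHom (algebraMap k ↥B.1)) = WeilLib.frobPow p (Spec (CommRingCat.of k)) e := by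
    rw [WeilLib.frobPow_Spec p k e, ← hθk]
    exact (Spec.map_comp _ _).symm
  let ψ : X ⟶ Y := pullback.lift (WeilLib.frobPow p X e) (f ≫ σ) (by
    rw [hj0]
    change WeilLib.frobPow p X e ≫ f ≫ e₀ = (f ≫ σ) ≫ Spec.map _ ≫ e₀
    rw [Category.assoc, reassoc_of% hσ, reassoc_of% (WeilLib.frobPow_comp p f e)])
  have hηψ : η ≫ ψ = WeilLib.frobPow p Y e := by
    refine pullback.hom_ext ?_ ?_
    · rw [Category.assoc, pullback.lift_fst]
      exact (WeilLib.frobPow_comp p η e).symm
    · rw [Category.assoc, pullback.lift_snd, reassoc_of% hη]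
      change tB ≫ Spec.map _ ≫ Spec.map _ = WeilLib.frobPow p Y e ≫ tB
      rw [← Spec.map_comp, ← CommRingCat.ofHom_comp, hθB, WeilLib.frobPow_comp]
      exact congrArg (tB ≫ ·) (WeilLib.frobPow_Spec p (↥B.1) e).symm
  let cX : PicLoc.PicSet X := W7Cube.pull ψ y'
  have hcX : W7Cube.pull (pullback.fst f (Spec.map (CommRingCat.ofHom (algebraMap k k')))) cX = x ^ p ^ e := by
    rw [← LimDesc.proj_toBase D g₀ (AVUniv.kCone k k') hY j, ← W7Cube.pull_pull, W7Cube.pull_pull η ψ, hηψ,
      FrobPic.pull_frobPow, map_pow]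
    exact congrArg (· ^ p ^ e) hy'
  have hcop : Nat.Coprime (p ^ e) (orderOf x) :=
    Nat.Coprime.pow_left e (Nat.Coprime.coprime_dvd_right (orderOf_dvd_of_pow_eq_one hx)
      ((Fact.out : p.Prime).coprime_iff_not_dvd.2 hn))
  obtain ⟨b, hb⟩ := exists_pow_eq_self_of_coprime hcop
  obtain ⟨N, hN, hcls⟩ := PicGrp.exists_eq_cls (cX ^ b)
  have hcn : (cX ^ b) ^ n = 1 := by
    rw [← pow_mul, mul_comm, pow_mul, ← map_pow, hy'n, map_one, one_pow]
  have hpb : W7Cube.pull (pullback.fst f (Spec.map (CommRingCat.ofHom (algebraMap k k')))) (cX ^ b) = x := by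
    rw [map_pow, hcX, hb]
  refine ⟨(cX ^ b).1, ⟨(cX ^ b).2, N, ?_, ?_⟩, ?_⟩
  · exact (congrArg Subtype.val hcls).symm
  · rw [hcls, PicRoot.cls_pow hN n, PicGrp.cls_eq_one_iff] at hcn
    exact hcn
  · exact congrArg Subtype.val hpb

end Groth.Agent.S1154
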