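import Groth.Statements.S11547
import Mathlib
import Groth.Agent.AdicRingLib.RigAdm
-- import your own Groth.Agent.* helpers here

set_option autoImplicit false
universe u
open AdicRing

namespace Groth.Agent.S11547

/-- Let R be a complete valuation ring of height one with t a nonzero element generating an ideal of
definition, φ : A → A' a homomorphism of admissible R-algebras, and u' : A' → B' a surjective
R-algebra homomorphism onto an admissible R-algebra B' which is a local integral domain of Krull
dimension one. Then the image of A in B' is an admissible R-algebra and a local integral domain of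
Krull dimension one. -/
theorem result
    (R : Type u) [CommRing R] [IsDomain R] [ValuationRing R] [Ring.KrullDimLE 1 R]
    (t : R) (ht : t ≠ 0) [IsAdicComplete (Ideal.span {t}) R]
    (A : Type u) [CommRing A] [Algebra R A] (hA : AdicRing.Admissible R (Ideal.span {t}) A)
    (A' : Type u) [CommRing A'] [Algebra R A'] (hA' : AdicRing.Admissible R (Ideal.span {t}) A')
    (φ : A →ₐ[R] A')
    (B' : Type u) [CommRing B'] [Algebra R B'] [IsDomain B'] [IsLocalRing B']
    (hB' : AdicRing.Admissible R (Ideal.span {t}) B') (hdim : ringKrullDim B' = 1)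
    (u' : A' →ₐ[R] B') (hu' : Function.Surjective u') :
    AdicRing.Admissible R (Ideal.span {t}) ((u'.comp φ).range) ∧
      IsLocalRing ((u'.comp φ).range) ∧ ringKrullDim ((u'.comp φ).range) = 1 := by
  obtain ⟨⟨n, φ', hφ', -⟩, hN⟩ := hB'
  obtain ⟨m, ψ, hψ, -⟩ := hA.1
  haveI : Ring.KrullDimLE 1 B' := Ring.krullDimLE_iff.2 hdim.le
  have htB : algebraMap R B' t ≠ 0 := fun h => one_ne_zero (hN 1 1 fun a ha => by
    rw [pow_one, Ideal.mem_span_singleton'] at ha
    obtain ⟨c, rfl⟩ := ha
    rw [mul_smul, Algebra.smul_def t, h, zero_mul, smul_zero])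
  haveI := Groth.Agent.AdicRingLib.finite_of_krullDimLE_one t ht htB φ' hφ'
  have hinj := Groth.Agent.AdicRingLib.algebraMap_injective_of_ne_zero t htB
  haveI := Groth.Agent.AdicRingLib.finite_range t ψ hψ B' hinj (u'.comp φ)
  have hinjC : Function.Injective (algebraMap R (u'.comp φ).range) := fun x y h => hinj (congrArg Subtype.val h)
  exact ⟨Groth.Agent.AdicRingLib.admissible_of_finite_domain t _ ht hinjC,
    Groth.Agent.AdicRingLib.isLocalRing_of_finite_domain t ht _ hinjC,
    Groth.Agent.AdicRingLib.ringKrullDim_eq_one t _ ht hinjC⟩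

end Groth.Agent.S11547
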