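import Groth.Statements.S14512
import Groth.Agent.DualGeneric.GenusZero
import Groth.Agent.SerrePn.Local
-- import your own Groth.Agent.* helpers here

set_option autoImplicit false
set_option backward.isDefEq.respectTransparency false
set_option backward.isDefEq.respectTransparency.types false
set_option maxHeartbeats 1000000
universe u
open CategoryTheory CategoryTheory.Limits AlgebraicGeometry
open Curves

namespace Groth.Agent.S14512

/-- Let k be an algebraically closed field and X a complete curve over k (integral, proper over k, of
dimension one) of arithmetic genus dim_k H^1(X, O_X) = 0. Then X is smooth over k. (Over a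
non-closed field an integral proper curve with vanishing H^1 need not be smooth, e.g. a projective
line over an inseparable extension of k viewed over k.) -/
theorem result (k : Type u) [Field k] [IsAlgClosed k] (X : Scheme.{u}) [X.Over (Spec (CommRingCat.of k))]
    [IsIntegral X] [IsProper (X ↘ (Spec (CommRingCat.of k)))] (hdim : topologicalKrullDim X = 1)
    (hg : Curv2.genus k X = 0) :
    Smooth (X ↘ (Spec (CommRingCat.of k))) := by
  obtain ⟨P, hP, -, hreg⟩ := CurveRR.exists_closed_regular_mem (k := k) (⊤ : X.Opens) trivial
  haveI := CurveRR.isNoetherian_of_proper k X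
  have hI := CurveRR.isInvertible_pointIdeal hdim.le hP (CurveRR.genericPoint_ne_of_closed (k := k) hdim hP) hreg
  obtain ⟨J, hJ, hJd, -⟩ := CurveRR.exists_point_inverse (k := k) hP hI
  obtain ⟨e, he⟩ := DualGeneric.exists_iso_of_deg_one k hdim hg hJ hJd
  haveI : LocallyOfFinitePresentation (X ↘ Spec (CommRingCat.of k)) := Groth.Agent.InfLift.lfp_of_lft _
  have hreg' : ∀ x : X, x ∈ (X ↘ Spec (CommRingCat.of k)).smoothLocus := fun x =>
    ((Groth.Agent.S1561.result k X).1 x).2 (by
      haveI := SerrePn.isRegularLocalRing_stalk (n := 1) (k := k) (e.hom x)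
      exact IsRegularLocalRing.of_ringEquiv (asIso (e.hom.stalkMap x)).commRingCatIsoToRingEquiv)
  exact (X ↘ Spec (CommRingCat.of k)).smoothLocus_eq_top_iff.1 (top_le_iff.1 fun x _ => hreg' x)

end Groth.Agent.S14512
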