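import Groth.Statements.S5096
import Groth.Agent.MeroLib.Basic
import Groth.Agent.InvGen.Basic
open Groth.Agent.MeroLib

set_option autoImplicit false
universe u
open CategoryTheory CategoryTheory.Limits AlgebraicGeometry TopologicalSpace
open Mero

namespace Groth.Agent.S5096

/-- For every divisor D on a scheme X, the fractional ideal O_X(D) — the sub-O_X-module of the sheaf of
meromorphic functions whose sections are the t with t_x · g ∈ O_{X,x} for a representative g of the
germ of D at x, at every point x — is an invertible O_X-module (locally isomorphic to O_X; where D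
is the divisor of a local unit g of K_X it is O · g⁻¹). -/
theorem result (X : Scheme.{u}) (D : Mero.Divisor X) : PicF.IsInvertible (Mero.divMod D) := by
  refine InvGen.isInvertible fun x => ?_
  obtain ⟨U, f, -, hxU, hf⟩ := exists_local D x
  refine ⟨U, gen D f hf, hxU, fun V hV => ⟨fun c c' hcc => ?_, fun t => ?_⟩⟩
  · refine TopCat.Presheaf.section_ext X.sheaf V c c' fun y hy => iK_inj y ?_
    have h1 : gO y hy c • ((f⁻¹ : (Γ(Mero.kmod X, U))ˣ) : Γ(Mero.kmod X, U)).1 ⟨y, hV hy⟩ =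
        gO y hy c' • ((f⁻¹ : (Γ(Mero.kmod X, U))ˣ) : Γ(Mero.kmod X, U)).1 ⟨y, hV hy⟩ :=
      congrArg (fun w : Γ(Mero.divMod D, V) => w.1 ⟨y, hy⟩) hcc
    rw [Algebra.smul_def, Algebra.smul_def] at h1
    exact ((uval f ⟨y, hV hy⟩)⁻¹).isUnit.mul_left_injective h1
  · let t0 : Γ(Mero.kmod X, V) := ⟨t.1, t.2.1⟩
    obtain ⟨c, hc⟩ := exists_of_range (t0 *
      (Mero.kmod X).presheaf.map (homOfLE hV).op (f : Γ(Mero.kmod X, U))) fun y =>
      (divCond_iff (hf ⟨y.1, hV y.2⟩) _).mp (t.2.2 y)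
    refine ⟨c, Subtype.ext (funext fun y => ?_)⟩
    change gO y.1 y.2 c • ((f⁻¹ : (Γ(Mero.kmod X, U))ˣ) : Γ(Mero.kmod X, U)).1 ⟨y.1, hV y.2⟩ = t.1 y
    rw [Algebra.smul_def, show algebraMap _ _ (gO y.1 y.2 c) = _ from (hc y).symm, Mero.kmod_mul_apply, res_val,
      mul_assoc, mul_comm ((f : Γ(Mero.kmod X, U)).1 _), uval_inv, mul_one]

end Groth.Agent.S5096
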