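import Groth.Statements.S1162
import Mathlib.AlgebraicGeometry.Morphisms.UniversallyOpen


set_option linter.style.haveILetI false
open AlgebraicGeometry CategoryTheory in
lemma eq_of_surjective_residueFieldMap.{v} {X Y : Scheme.{v}} (f : X ⟶ Y) (K : Type v) [Field K]
    (g₁ g₂ : Spec (.of K) ⟶ X) (hg : g₁ ≫ f = g₂ ≫ f)
    (he : g₁ (IsLocalRing.closedPoint K) = g₂ (IsLocalRing.closedPoint K))
    (hs : Function.Surjective (f.residueFieldMap (g₁ (IsLocalRing.closedPoint K))).hom) :
    g₁ = g₂ := by
  obtain ⟨e, h⟩ := Scheme.SpecToEquivOfField_eq_iff.mp congr((Y.SpecToEquivOfField K) $(hg))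
  apply (X.SpecToEquivOfField K).injective
  dsimp [Scheme.SpecToEquivOfField] at e h
  simp only [Scheme.descResidueField_stalkClosedPointTo_comp] at e h
  rw [← f.residueFieldMap_congr'_assoc he, CommRingCat.hom_ext_iff] at h
  rw [Scheme.SpecToEquivOfField_eq_iff]
  refine ⟨he, CommRingCat.hom_ext (RingHom.ext fun a ↦ ?_)⟩
  obtain ⟨b, rfl⟩ := hs a
  exact congr($h b)


set_option autoImplicit false
open CategoryTheory CategoryTheory.Limits AlgebraicGeometry Opposite
universe u
open Desc

namespace Groth.Agent.S1162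

/-- Let f : X ⟶ Y be flat and separated. Write X⁰ for the generic points of the irreducible components
of X. If for every ξ in X⁰ the residue field extension κ(f ξ) ⊆ κ(ξ) is trivial and f is injective
on X⁰, then f is universally injective. -/
theorem result {X Y : Scheme.{u}} (f : X ⟶ Y) [Flat f] [IsSeparated f]
    (h2 : ∀ ξ : X, closure ({ξ} : Set X) ∈ irreducibleComponents (X : Type u) →
      Function.Surjective (f.residueFieldMap ξ).hom)
    (h3 : Set.InjOn f.base {ξ : X | closure ({ξ} : Set X) ∈ irreducibleComponents (X : Type u)}) :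
    UniversallyInjective f := by
  rw [UniversallyInjective.iff_diagonal, surjective_iff]
  intro z
  obtain ⟨C, hC, hzC⟩ := exists_mem_irreducibleComponents_subset_of_isIrreducible
    (closure {z}) isIrreducible_singleton.closure
  obtain ⟨z₀, hz₀⟩ : ∃ z₀, closure ({z₀} : Set ↥(pullback f f)) = C :=
    ⟨_, (QuasiSober.sober hC.1 (isClosed_of_mem_irreducibleComponents C hC)).choose_spec⟩
  have hspec : z₀ ⤳ z := by
    rw [specializes_iff_mem_closure, hz₀]
    exact hzC (subset_closure rfl)
  have hgen : ∀ (p : pullback f f ⟶ X) [Flat p],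
      closure ({p z₀} : Set X) ∈ irreducibleComponents (X : Type u) := by
    intro p _
    obtain ⟨D, hD, hsub⟩ := exists_mem_irreducibleComponents_subset_of_isIrreducible
      (closure {p z₀}) isIrreducible_singleton.closure
    obtain ⟨ξ, hξ⟩ : ∃ ξ, closure ({ξ} : Set X) = D :=
      ⟨_, (QuasiSober.sober hD.1 (isClosed_of_mem_irreducibleComponents D hD)).choose_spec⟩
    have hs : ξ ⤳ p z₀ := by
      rw [specializes_iff_mem_closure, hξ]
      exact hsub (subset_closure rfl)
    obtain ⟨z₁, hz₁, hz₁'⟩ := Flat.generalizingMap p hs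
    have h1 : closure {z₁} ⊆ C :=
      hC.2 isIrreducible_singleton.closure
        (hz₀ ▸ closure_minimal (Set.singleton_subset_iff.2
          (specializes_iff_mem_closure.1 hz₁)) isClosed_closure)
    have h2 : z₀ ⤳ z₁ := by
      rw [specializes_iff_mem_closure, hz₀]
      exact h1 (subset_closure rfl)
    have h3 : p z₀ ⤳ ξ := hz₁' ▸ h2.map p.continuous
    rwa [(h3.antisymm hs).eq, hξ]
  let φ := (pullback f f).fromSpecResidueField z₀
  have hz : ∀ (p : pullback f f ⟶ X),
      (φ ≫ p) (IsLocalRing.closedPoint ((pullback f f).residueField z₀)) = p z₀ := by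
    intro p
    simp [φ, Scheme.fromSpecResidueField_apply]
  have hpt : pullback.fst f f z₀ = pullback.snd f f z₀ := by
    refine h3 (hgen _) (hgen _) ?_
    change (pullback.fst f f ≫ f) z₀ = (pullback.snd f f ≫ f) z₀
    rw [pullback.condition]
  have hφ₁ : φ ≫ pullback.fst f f = φ ≫ pullback.snd f f :=
    eq_of_surjective_residueFieldMap f ((pullback f f).residueField z₀) (φ ≫ pullback.fst f f)
      (φ ≫ pullback.snd f f) (by simp [pullback.condition])
      ((hz _).trans (hpt.trans (hz _).symm)) (h2 _ ((hz (pullback.fst f f)).symm ▸ hgen _))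
  obtain ⟨w, hw⟩ : ∃ w, pullback.diagonal f w = z₀ := by
    refine ⟨(φ ≫ pullback.fst f f) (IsLocalRing.closedPoint _), ?_⟩
    have hφ₂ : φ = (φ ≫ pullback.fst f f) ≫ pullback.diagonal f := by
      apply pullback.hom_ext <;> simp [hφ₁]
    rw [← Scheme.Hom.comp_apply, ← hφ₂, Scheme.fromSpecResidueField_apply]
  have hcl : IsClosed (Set.range (pullback.diagonal f)) :=
    (pullback.diagonal f).isClosedEmbedding.isClosed_range
  exact hcl.closure_subset_iff.2 (Set.singleton_subset_iff.2 ⟨w, hw⟩)
    (specializes_iff_mem_closure.1 hspec)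


end Groth.Agent.S1162
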