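import Groth.Statements.S1163
import Mathlib.AlgebraicGeometry.Morphisms.Flat
import Mathlib.RingTheory.Flat.FaithfullyFlat.Algebra
import Mathlib.RingTheory.RingHom.FaithfullyFlat
-- import your own Groth.Agent.* helpers here

set_option autoImplicit false
open CategoryTheory CategoryTheory.Limits AlgebraicGeometry Opposite
universe u
open Desc

namespace Groth.Agent.S1163

open TensorProduct in
private theorem flat_of_pure {R C A B : Type u} [CommRing R] [CommRing C] [CommRing A] [CommRing B]
    (φ : R →+* C) (α : C →+* A) (β : A →+* B) (hA : (α.comp φ).Flat) (h : (β.comp α).FaithfullyFlat) :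
    φ.Flat := by
  letI := φ.toAlgebra
  letI := α.toAlgebra
  letI := (α.comp φ).toAlgebra
  letI := β.toAlgebra
  letI := (β.comp α).toAlgebra
  letI := ((β.comp α).comp φ).toAlgebra
  haveI : IsScalarTower R C A := IsScalarTower.of_algebraMap_eq fun _ => rfl
  haveI : IsScalarTower R C B := IsScalarTower.of_algebraMap_eq fun _ => rfl
  haveI : IsScalarTower R A B := IsScalarTower.of_algebraMap_eq fun _ => rfl
  haveI : IsScalarTower C A B := IsScalarTower.of_algebraMap_eq fun _ => rfl
  haveI : Module.Flat R A := hA
  haveI : Module.FaithfullyFlat C B := h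
  show Module.Flat R C
  have hinj : ∀ (N : Type u) [AddCommGroup N] [Module R N],
      Function.Injective ((IsScalarTower.toAlgHom R C A).toLinearMap.rTensor N) := by
    intro N _ _
    rw [injective_iff_map_eq_zero]
    intro z hz
    have key : ∀ z : C ⊗[R] N, AlgebraTensorModule.cancelBaseChange R C C B N ((1 : B) ⊗ₜ[C] z) =
        (IsScalarTower.toAlgHom R A B).toLinearMap.rTensor N ((IsScalarTower.toAlgHom R C A).toLinearMap.rTensor N z) := by
      intro z
      induction z using TensorProduct.induction_on with
      | zero => simp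
      | tmul c n => simp [Algebra.smul_def, ← IsScalarTower.algebraMap_apply C A B]
      | add a b ha hb => rw [TensorProduct.tmul_add, map_add, map_add, map_add, ha, hb]
    have h1 := key z
    rw [hz, map_zero] at h1
    refine Module.FaithfullyFlat.tensorProduct_mk_injective (A := C) (B := B) (C ⊗[R] N) ?_
    rw [map_zero]
    exact (AlgebraTensorModule.cancelBaseChange R C C B N).injective (h1.trans (map_zero _).symm)
  refine Module.Flat.iff_lTensor_preserves_injective_linearMap.2 fun N M _ _ _ _ f hf => ?_
  have hsq : (IsScalarTower.toAlgHom R C A).toLinearMap.rTensor M ∘ₗ f.lTensor C =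
      f.lTensor A ∘ₗ (IsScalarTower.toAlgHom R C A).toLinearMap.rTensor N := by
    rw [LinearMap.rTensor_comp_lTensor, LinearMap.lTensor_comp_rTensor]
  have : Function.Injective ((IsScalarTower.toAlgHom R C A).toLinearMap.rTensor M ∘ₗ f.lTensor C) := by
    rw [hsq]
    exact (Module.Flat.lTensor_preserves_injective_linearMap f hf).comp (hinj N)
  exact Function.Injective.of_comp this


/-- The case P = flat, single fppf cover: Let f : X ⟶ Y and q : Y ⟶ Z be morphisms of schemes, and
suppose there is a flat, surjective morphism g : Y' ⟶ Y locally of finite presentation which factors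
through f. If f ≫ q is flat, then q is flat. -/
theorem result {X Y Z Y' : Scheme.{u}} (f : X ⟶ Y) (q : Y ⟶ Z) (g : Y' ⟶ Y) [Flat g] [Surjective g]
    [LocallyOfFinitePresentation g] (l : Y' ⟶ X) (hl : l ≫ f = g) [Flat (f ≫ q)] : Flat q := by
  subst hl
  refine Flat.of_stalkMap q fun y => ?_
  obtain ⟨y', rfl⟩ := (l ≫ f).surjective y
  let x := l y'
  have h1 : ((f ≫ q).stalkMap x).hom.Flat := Flat.stalkMap _ x
  have h2 : ((l ≫ f).stalkMap y').hom.FaithfullyFlat := by
    have hfl := Flat.stalkMap (l ≫ f) y'
    haveI : IsLocalHom ((l ≫ f).stalkMap y').hom := (l ≫ f).toLRSHom.prop y'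
    algebraize [((l ≫ f).stalkMap y').hom]
    haveI : IsLocalHom (algebraMap (Y.presheaf.stalk ((l ≫ f) y')) (Y'.presheaf.stalk y')) :=
      inferInstanceAs (IsLocalHom ((l ≫ f).stalkMap y').hom)
    exact (Module.FaithfullyFlat.of_flat_of_isLocalHom :
      Module.FaithfullyFlat (Y.presheaf.stalk ((l ≫ f) y')) (Y'.presheaf.stalk y'))
  rw [Scheme.Hom.stalkMap_comp] at h1 h2
  exact flat_of_pure (q.stalkMap (f x)).hom (f.stalkMap x).hom (l.stalkMap y').hom h1 h2

end Groth.Agent.S1163
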