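import Groth.Statements.S1178
import Groth.Agent.LocFree.Props
import Groth.Agent.QC.Localisation
import Groth.Agent.QC.FiniteType

set_option autoImplicit false
open CategoryTheory CategoryTheory.Limits AlgebraicGeometry Opposite
universe u
open Desc

namespace Groth.Agent.S1178

theorem fp_congr {R M N : Type u} [CommRing R] [AddCommGroup M] [Module R M] [AddCommGroup N] [Module R N]
    (e : M ≃ₗ[R] N) : Module.FinitePresentation R M ↔ Module.FinitePresentation R N :=
  ⟨fun _ => Module.FinitePresentation.of_equiv e, fun _ => Module.FinitePresentation.of_equiv e.symm⟩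

theorem fp_iff (A B M : Type u) [CommRing A] [CommRing B] [Algebra A B] [AddCommGroup M] [Module A M]
    [Module B M] [IsScalarTower A B M] [Module.FinitePresentation A B] :
    Module.FinitePresentation B M ↔ Module.FinitePresentation A M := by
  refine ⟨fun _ => Module.FinitePresentation.trans A M B, fun _ => ?_⟩
  haveI : Module.Finite B M := Module.Finite.of_restrictScalars_finite A B M
  obtain ⟨n, π, hπ⟩ := Module.Finite.exists_fin' B M
  refine Module.finitePresentation_of_surjective π hπ ?_
  haveI : Module.FinitePresentation A (Fin n → B) := Module.FinitePresentation.trans A (Fin n → B) B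
  have h := Module.FinitePresentation.fg_ker (π.restrictScalars A) hπ
  haveI : Module.Finite A (LinearMap.ker π) := Module.Finite.iff_fg.mpr h
  haveI : Module.Finite B (LinearMap.ker π) := Module.Finite.of_restrictScalars_finite A B _
  exact Module.Finite.iff_fg.mp inferInstance

/-- Let f : X ⟶ Y be finite and locally of finite presentation and F a quasi-coherent O_X-module. Then F
is finitely presented exactly when its pushforward f_*F is a finitely presented O_Y-module. -/
theorem result {X Y : Scheme.{u}} (f : X ⟶ Y) [IsFinite f] [LocallyOfFinitePresentation f]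
    (F : X.Modules) [F.IsQuasicoherent] :
    CohB1.IsFP F ↔ CohB1.IsFP ((Scheme.Modules.pushforward f).obj F) := by
  have key : ∀ V : Y.affineOpens, Module.FinitePresentation Γ(X, f ⁻¹ᵁ V.1) Γ(F, f ⁻¹ᵁ V.1) ↔
      Module.FinitePresentation Γ(Y, V.1) Γ((Scheme.Modules.pushforward f).obj F, V.1) := by
    intro V
    letI : Algebra Γ(Y, V.1) Γ(X, f ⁻¹ᵁ V.1) := (f.app V.1).hom.toAlgebra
    haveI : Module.Finite Γ(Y, V.1) Γ(X, f ⁻¹ᵁ V.1) := IsFinite.finite_app f V.1 V.2
    haveI : Algebra.FinitePresentation Γ(Y, V.1) Γ(X, f ⁻¹ᵁ V.1) := by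
      have := f.finitePresentation_appLE V.2 (V.2.preimage f) le_rfl
      rw [← Scheme.Hom.app_eq_appLE] at this
      exact this
    haveI := Module.FinitePresentation.of_finite_of_finitePresentation (R := Γ(Y, V.1)) (S := Γ(X, f ⁻¹ᵁ V.1))
    letI : Module Γ(Y, V.1) Γ(F, f ⁻¹ᵁ V.1) := Module.compHom _ (f.app V.1).hom
    haveI : IsScalarTower Γ(Y, V.1) Γ(X, f ⁻¹ᵁ V.1) Γ(F, f ⁻¹ᵁ V.1) :=
      IsScalarTower.of_algebraMap_smul fun _ _ => rfl
    let e : Γ(F, f ⁻¹ᵁ V.1) ≃ₗ[Γ(Y, V.1)] Γ((Scheme.Modules.pushforward f).obj F, V.1) :=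
      { toFun := fun x => x, invFun := fun x => x, left_inv := fun _ => rfl, right_inv := fun _ => rfl
        map_add' := fun _ _ => rfl, map_smul' := fun _ _ => rfl }
    exact (fp_iff Γ(Y, V.1) Γ(X, f ⁻¹ᵁ V.1) Γ(F, f ⁻¹ᵁ V.1)).trans (fp_congr e)
  have hF : Coh.IsQCoh F := inferInstance
  haveI hq : ((Scheme.Modules.pushforward f).obj F).IsQuasicoherent := QC.isQCoh_pushforward f
  constructor
  · intro h
    refine QC.isFP_iff_exists_hasFinPres.mpr fun y => ?_
    obtain ⟨V, hV, hyV, -⟩ := exists_isAffineOpen_mem_and_subset (X := Y) (x := y) (U := ⊤) trivial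
    haveI := (key ⟨V, hV⟩).mp (LocFree.finitePresentation_sections_of_isFP hF h (hV.preimage f))
    exact ⟨V, hyV, QC.hasFinPres_of_finitePresentation hV (hM := hq)⟩
  · intro h
    refine QC.isFP_iff_exists_hasFinPres.mpr fun x => ?_
    obtain ⟨V, hV, hyV, -⟩ := exists_isAffineOpen_mem_and_subset (X := Y) (x := f x) (U := ⊤) trivial
    haveI := (key ⟨V, hV⟩).mpr (LocFree.finitePresentation_sections_of_isFP hq h hV)
    exact ⟨f ⁻¹ᵁ V, hyV, QC.hasFinPres_of_finitePresentation (hV.preimage f)⟩


end Groth.Agent.S1178
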