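import Groth.Statements.S1183
import Groth.Agent.FlatDepth.Serre
import Groth.Agent.FlatDepth.Fibre
import Groth.Agent.GeomProp.SmoothReg
-- import your own Groth.Agent.* helpers here

set_option autoImplicit false
universe u
open Desc

namespace Groth.Agent.S1183

/-- Let A → B be a smooth ring map of Noetherian rings and k a natural number. If A satisfies (R_k) then
so does B; and if moreover A → B is faithfully flat and B satisfies (R_k), then A does. -/
theorem result (A B : Type u) [CommRing A] [CommRing B] [IsNoetherianRing A] [IsNoetherianRing B]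
    [Algebra A B] [Algebra.Smooth A B] (k : ℕ) :
    (LocCoh.HasRk k A → LocCoh.HasRk k B) ∧
    (Module.FaithfullyFlat A B → LocCoh.HasRk k B → LocCoh.HasRk k A) := by
  haveI : Module.Flat A B := inferInstance
  refine ⟨fun hA => ?_, fun hff hB => ?_⟩
  · refine Groth.Agent.FlatDepth.hasRk_of_flat k hA fun q _ _ => ?_
    obtain ⟨Q, _, ⟨e⟩⟩ := Groth.Agent.FlatDepth.exists_fibre_equiv (A := A) q
    haveI := Groth.Agent.GeomProp.isRegularRing_of_smooth (q.comap (algebraMap A B)).ResidueField ((q.comap (algebraMap A B)).Fiber B)
    haveI : IsRegularLocalRing (Localization.AtPrime Q) := inferInstance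
    exact IsRegularLocalRing.of_ringEquiv (R := Localization.AtPrime Q) e
  · haveI := hff
    exact Groth.Agent.FlatDepth.hasRk_descent (B := B) k hB

end Groth.Agent.S1183
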