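import Groth.Statements.S15609
import Groth.Agent.DimField.Scheme
-- import your own Groth.Agent.* helpers here

set_option autoImplicit false
universe u
open CategoryTheory MonoidalCategory CartesianMonoidalCategory MonObj GrpObj AlgebraicGeometry
open AlgGrp

namespace Groth.Agent.S15609

open CategoryTheory.Limits

/-- An augmented finite type algebra over a field with one prime ideal and no nontrivial
point with values in the dual numbers at the augmentation is the field itself. -/
theorem injective_of_trivial_tangent (k A : Type u) [Field k] [CommRing A] [Algebra k A]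
    [Algebra.FiniteType k A] [Subsingleton (PrimeSpectrum A)] (φ : A →ₐ[k] k)
    (h : ∀ D : A →ₐ[k] DualNumber k, (∀ a, TrivSqZeroExt.fst (D a) = φ a) →
      ∀ a, TrivSqZeroExt.snd (D a) = 0) :
    Function.Injective φ := by
  classical
  haveI : IsNoetherianRing A := Algebra.FiniteType.isNoetherianRing k A
  let m : Ideal A := RingHom.ker (φ : A →+* k)
  have hsurj : Function.Surjective φ := fun c => ⟨algebraMap k A c, φ.commutes c⟩
  have hmax : m.IsMaximal := RingHom.ker_isMaximal_of_surjective _ hsurj
  have hnil : ∀ a ∈ m, IsNilpotent a := by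
    intro a ha
    rw [nilpotent_iff_mem_prime]
    intro J hJ
    have e : (⟨J, hJ⟩ : PrimeSpectrum A) = ⟨m, hmax.isPrime⟩ := Subsingleton.elim _ _
    have e' : J = m := congrArg PrimeSpectrum.asIdeal e
    exact e' ▸ ha
  have hsq : ∀ a ∈ m, a ∈ m * m := by
    intro a ha
    by_contra hne
    have hne' : a ∉ Submodule.restrictScalars k (m * m) := hne
    obtain ⟨l, hl, hlm⟩ := Submodule.exists_dual_map_eq_bot_of_notMem hne' inferInstance
    have hl0 : ∀ b ∈ m * m, l b = 0 := fun b hb => by
      have : l b ∈ (Submodule.restrictScalars k (m * m)).map l := ⟨b, hb, rfl⟩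
      rw [hlm] at this
      exact this
    have hm : ∀ b, b - algebraMap k A (φ b) ∈ m := fun b => by
      change φ (b - algebraMap k A (φ b)) = 0
      rw [map_sub, AlgHom.commutes, Algebra.algebraMap_self_apply, sub_self]
    let ρ : A →ₗ[k] k := l.comp (LinearMap.id - (Algebra.linearMap k A).comp φ.toLinearMap)
    have hρ : ∀ b, ρ b = l (b - algebraMap k A (φ b)) := fun b => rfl
    have hρmul : ∀ b c, ρ (b * c) = φ b * ρ c + φ c * ρ b := by
      intro b c
      have hd : l ((b - algebraMap k A (φ b)) * (c - algebraMap k A (φ c))) = 0 :=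
        hl0 _ (Ideal.mul_mem_mul (hm b) (hm c))
      have e : b * c - algebraMap k A (φ (b * c)) =
          (b - algebraMap k A (φ b)) * (c - algebraMap k A (φ c)) +
            (φ b • (c - algebraMap k A (φ c)) + φ c • (b - algebraMap k A (φ b))) := by
        simp only [map_mul, Algebra.smul_def]
        ring
      rw [hρ, hρ, hρ, e, map_add, map_add, map_smul, map_smul, hd, zero_add, smul_eq_mul,
        smul_eq_mul]
    let D : A →ₐ[k] DualNumber k :=
      AlgHom.ofLinearMap
        ((TrivSqZeroExt.inlAlgHom k k k).toLinearMap.comp φ.toLinearMap +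
          (TrivSqZeroExt.inrHom k k).comp ρ)
        (by
          have h1 : ρ 1 = 0 := by rw [hρ]; simp
          simp [h1])
        (by
          intro b c
          refine TrivSqZeroExt.ext ?_ ?_
          · simp [map_mul]
          · simp [hρmul, mul_comm (φ c)])
    have h2 := h D (fun b => by simp [D]) a
    have h3 : ρ a = 0 := by simpa [D] using h2
    have h4 : φ a = 0 := ha
    rw [hρ, h4, map_zero, sub_zero] at h3
    exact hl h3
  have hpow : ∀ n : ℕ, m ≤ m ^ (n + 1) := by
    intro n
    induction n with
    | zero => simp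
    | succ n ih =>
      intro a ha
      rw [pow_succ]
      exact Ideal.mul_mono ih le_rfl (hsq a ha)
  have hmnil : IsNilpotent m := by
    have hle : m ≤ nilradical A := fun a ha => mem_nilradical.2 (hnil a ha)
    obtain ⟨n, hn⟩ := IsNoetherianRing.isNilpotent_nilradical A
    exact ⟨n, le_bot_iff.1 ((Ideal.pow_right_mono hle n).trans hn.le)⟩
  obtain ⟨n, hn⟩ := hmnil
  have hbot : m = ⊥ := by
    refine le_bot_iff.1 ((hpow n).trans ?_)
    rw [pow_succ, hn]
    simp
  exact (RingHom.injective_iff_ker_eq_bot (φ : A →+* k)).2 hbot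

/-- The implication (ii) ⇒ (i). Let k be a field and f : G ⟶ G' a homomorphism of k-group schemes of
finite type. Suppose that f is injective on K-points for every algebraically closed field K over k,
and that f is injective on tangent spaces at the identity: every point of G with values in the dual
numbers k[ε] which restricts to the identity at ε = 0 and is sent by f to the identity point of G'
is itself the identity point. Then f has trivial kernel: it is a monomorphism. (The published
statement assumes G smooth; this implication does not use it.) -/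
theorem result (k : Type u) [Field k]
    (G G' : Over (Spec (CommRingCat.of k))) [GrpObj G] [GrpObj G'] [LocallyOfFiniteType G.hom] [QuasiCompact G.hom]
    [LocallyOfFiniteType G'.hom] [QuasiCompact G'.hom] (f : G ⟶ G') [IsMonHom f]
    (hgeom : ∀ (K : Type u) [Field K] [IsAlgClosed K] [Algebra k K],
      Function.Injective (fun g : (Over.mk (Spec.map (CommRingCat.ofHom (algebraMap k K)))) ⟶ G => g ≫ f))
    (htan : ∀ g : (Over.mk (Spec.map (CommRingCat.ofHom (algebraMap k (DualNumber k))))) ⟶ G,
      (∀ x : 𝟙_ (Over (Spec (CommRingCat.of k))) ⟶ (Over.mk (Spec.map (CommRingCat.ofHom (algebraMap k (DualNumber k))))), x ≫ g = η[G]) →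
        g ≫ f = toUnit _ ≫ η[G'] → g = toUnit _ ≫ η[G]) :
    Mono f := by
  haveI : LocallyOfFiniteType f.left := by
    haveI : LocallyOfFiniteType (f.left ≫ G'.hom) := by rw [Over.w f]; infer_instance
    exact locallyOfFiniteType_of_comp f.left G'.hom
  have hη : η[G] ≫ f = η[G'] := IsMonHom.one_hom f
  have hηl : η[G].left ≫ f.left = η[G'].left := by rw [← Over.comp_left, hη]
  -- the kernel as a scheme
  let Ksch : Scheme.{u} := pullback f.left η[G'].left
  let π : Ksch ⟶ Spec (CommRingCat.of k) := pullback.snd f.left η[G'].left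
  let j : Ksch ⟶ G.left := pullback.fst f.left η[G'].left
  haveI : LocallyOfFiniteType π :=
    MorphismProperty.pullback_snd f.left η[G'].left inferInstance
  let e0 : Spec (CommRingCat.of k) ⟶ Ksch :=
    pullback.lift η[G].left (𝟙 _) (by rw [hηl]; exact (Category.id_comp _).symm)
  have he0j : e0 ≫ j = η[G].left := pullback.lift_fst _ _ _
  have he0π : e0 ≫ π = 𝟙 _ := pullback.lift_snd _ _ _
  have hjw : j ≫ G.hom = π := by
    have h1 : f.left ≫ G'.hom = G.hom := Over.w f
    have h2 : η[G'].left ≫ G'.hom = 𝟙 _ := Over.w η[G']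
    rw [← h1, ← Category.assoc, pullback.condition, Category.assoc, h2, Category.comp_id]
  have hc : j ≫ f.left = π ≫ η[G'].left := pullback.condition
  -- one point
  have hpt : ∀ x : Ksch, ∃ y, e0.base y = x := by
    intro x
    let L : Type u := AlgebraicClosure (Ksch.residueField x)
    let p : Spec (CommRingCat.of L) ⟶ Ksch :=
      Spec.map (CommRingCat.ofHom (algebraMap (Ksch.residueField x) L)) ≫
        Ksch.fromSpecResidueField x
    letI : Algebra k L := (Spec.preimage (p ≫ π)).hom.toAlgebra
    have hp : p ≫ π = Spec.map (CommRingCat.ofHom (algebraMap k L)) :=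
      (Spec.map_preimage (p ≫ π)).symm
    let g : Over.mk (Spec.map (CommRingCat.ofHom (algebraMap k L))) ⟶ G :=
      Over.homMk (p ≫ j) (by simp [hjw, hp])
    have hg : g ≫ f = (toUnit _ ≫ η[G]) ≫ f := by
      rw [Category.assoc, hη]
      ext1
      change (p ≫ j) ≫ f.left = Spec.map (CommRingCat.ofHom (algebraMap k L)) ≫ η[G'].left
      rw [Category.assoc p j, hc, ← hp, Category.assoc p π]
    have hg2 : p ≫ j = Spec.map (CommRingCat.ofHom (algebraMap k L)) ≫ η[G].left :=
      congrArg CommaMorphism.left (hgeom L hg)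
    have hpe : p = (p ≫ π) ≫ e0 := by
      refine pullback.hom_ext ?_ ?_
      · change p ≫ j = ((p ≫ π) ≫ e0) ≫ j
        rw [Category.assoc _ e0 j, he0j, hp]
        exact hg2
      · change p ≫ π = ((p ≫ π) ≫ e0) ≫ π
        rw [Category.assoc _ e0 π, he0π, Category.comp_id]
    let q : ↥(Spec (CommRingCat.of L)) := (⊥ : PrimeSpectrum L)
    refine ⟨(p ≫ π).base q, ?_⟩
    have h1 : ((p ≫ π) ≫ e0).base q = x := by
      rw [← hpe]
      exact Scheme.fromSpecResidueField_apply x _
    exact h1
  haveI : Subsingleton ↥(Spec (CommRingCat.of k)) := inferInstanceAs (Subsingleton (PrimeSpectrum k))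
  haveI : Subsingleton Ksch := ⟨fun a b => by
    obtain ⟨y, rfl⟩ := hpt a
    obtain ⟨z, rfl⟩ := hpt b
    rw [Subsingleton.elim y z]⟩
  haveI : IsAffine Ksch := Groth.Agent.DimField.isAffine_of_subsingleton Ksch
  let A : CommRingCat.{u} := Γ(Ksch, ⊤)
  let i : Spec A ≅ Ksch := Ksch.isoSpec.symm
  let α : CommRingCat.of k ⟶ A := Spec.preimage (i.hom ≫ π)
  have hα : Spec.map α = i.hom ≫ π := Spec.map_preimage _
  have hft : α.hom.FiniteType :=
    (HasRingHomProperty.Spec_iff (P := @LocallyOfFiniteType)).1 (hα ▸ inferInstance)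
  letI : Algebra k A := α.hom.toAlgebra
  haveI : Algebra.FiniteType k A := hft
  haveI : Subsingleton (PrimeSpectrum A) := Equiv.subsingleton (Scheme.homeoOfIso i).toEquiv
  let φr : A ⟶ CommRingCat.of k := Spec.preimage (e0 ≫ i.inv)
  have hφ : Spec.map φr = e0 ≫ i.inv := Spec.map_preimage _
  have hαφ : α ≫ φr = 𝟙 _ := by
    apply Spec.map_injective
    rw [Spec.map_comp, hα, hφ, Category.assoc, Iso.inv_hom_id_assoc, he0π, Spec.map_id]
  let φ : A →ₐ[k] k := { toRingHom := φr.hom, commutes' := fun c => congrArg (fun t => t.hom c) hαφ }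
  have hinj : Function.Injective φ := by
    refine injective_of_trivial_tangent k A φ fun D hD a => ?_
    let Dc : A ⟶ CommRingCat.of (DualNumber k) := CommRingCat.ofHom D.toRingHom
    let s : Spec (CommRingCat.of (DualNumber k)) ⟶ Ksch := Spec.map Dc ≫ i.hom
    have hs : s ≫ π = Spec.map (CommRingCat.ofHom (algebraMap k (DualNumber k))) := by
      rw [Category.assoc, ← hα, ← Spec.map_comp]
      congr 1
      exact CommRingCat.hom_ext (RingHom.ext fun c => D.commutes c)
    let g : Over.mk (Spec.map (CommRingCat.ofHom (algebraMap k (DualNumber k)))) ⟶ G :=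
      Over.homMk (s ≫ j) (by simp [hjw, hs])
    have hg : g = toUnit _ ≫ η[G] := by
      refine htan g (fun x => ?_) ?_
      · obtain ⟨ψ, hψ⟩ : ∃ ψ : CommRingCat.of (DualNumber k) ⟶ CommRingCat.of k,
            Spec.map ψ = x.left := ⟨Spec.preimage x.left, Spec.map_preimage _⟩
        have hw : CommRingCat.ofHom (algebraMap k (DualNumber k)) ≫ ψ = 𝟙 _ := by
          apply Spec.map_injective
          rw [Spec.map_comp, hψ, Spec.map_id]
          exact Over.w x
        have hψc : ∀ z : DualNumber k, ψ.hom z = TrivSqZeroExt.fst z := by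
          intro z
          have h1 : ∀ c : k, ψ.hom (algebraMap k (DualNumber k) c) = c :=
            fun c => congrArg (fun t => t.hom c) hw
          have h2 : ψ.hom (DualNumber.eps : DualNumber k) = 0 := by
            have h3 : ψ.hom (DualNumber.eps : DualNumber k) * ψ.hom DualNumber.eps = 0 := by
              rw [← map_mul, DualNumber.eps_mul_eps, map_zero]
            exact mul_self_eq_zero.1 h3
          have h4 : z = algebraMap k (DualNumber k) (TrivSqZeroExt.fst z) +
              algebraMap k (DualNumber k) (TrivSqZeroExt.snd z) * DualNumber.eps := by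
            refine TrivSqZeroExt.ext ?_ ?_ <;> simp [TrivSqZeroExt.algebraMap_eq_inl]
          conv_lhs => rw [h4]
          rw [map_add, map_mul, h1, h2, mul_zero, add_zero]
        ext1
        change x.left ≫ s ≫ j = η[G].left
        rw [← he0j, ← hψ, ← Category.assoc]
        congr 1
        rw [← Category.assoc, ← Spec.map_comp, show Dc ≫ ψ = φr from ?_, hφ, Category.assoc,
          i.inv_hom_id, Category.comp_id]
        ext b
        exact (hψc (D b)).trans (hD b)
      · ext1
        change (s ≫ j) ≫ f.left = Spec.map (CommRingCat.ofHom (algebraMap k (DualNumber k))) ≫ η[G'].left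
        rw [Category.assoc s j, hc, ← hs, Category.assoc s π]
    have hs2 : s = (s ≫ π) ≫ e0 := by
      refine pullback.hom_ext ?_ ?_
      · change s ≫ j = ((s ≫ π) ≫ e0) ≫ j
        rw [Category.assoc _ e0 j, he0j, hs]
        exact congrArg CommaMorphism.left hg
      · change s ≫ π = ((s ≫ π) ≫ e0) ≫ π
        rw [Category.assoc _ e0 π, he0π, Category.comp_id]
    have hD2 : Dc = φr ≫ CommRingCat.ofHom (algebraMap k (DualNumber k)) := by
      apply Spec.map_injective
      rw [Spec.map_comp, hφ, ← cancel_mono i.hom]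
      simp only [Category.assoc, Iso.inv_hom_id, Category.comp_id]
      exact hs2.trans (by rw [hs])
    have h5 := congrArg (fun t => TrivSqZeroExt.snd (t.hom a)) hD2
    simpa [Dc, TrivSqZeroExt.algebraMap_eq_inl] using h5
  have hπe : π ≫ e0 = 𝟙 _ := by
    have h1 : φr ≫ α = 𝟙 _ := by
      ext a
      apply hinj
      exact congrArg (fun t => t.hom (φr.hom a)) hαφ
    have h2 : (i.hom ≫ π) ≫ (e0 ≫ i.inv) = 𝟙 _ := by
      rw [← hα, ← hφ, ← Spec.map_comp, h1, Spec.map_id]
    rw [← cancel_epi i.hom, ← cancel_mono i.inv]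
    simpa using h2
  -- conclude
  have htriv : ∀ (T : Over (Spec (CommRingCat.of k))) (g : T ⟶ G), g ≫ f = 1 → g = 1 := by
    intro T g hg
    have hg' : g.left ≫ f.left = T.hom ≫ η[G'].left := congrArg CommaMorphism.left hg
    let l : T.left ⟶ Ksch := pullback.lift g.left T.hom hg'
    have h1 : l = T.hom ≫ e0 := by
      have h2 : l ≫ π = T.hom := pullback.lift_snd _ _ _
      rw [← h2, Category.assoc, hπe, Category.comp_id]
    have h3 : g.left = T.hom ≫ η[G].left := by
      have h4 : l ≫ j = g.left := pullback.lift_fst _ _ _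
      rw [← h4, h1, Category.assoc, he0j]
    ext1
    exact h3
  refine ⟨fun {T} g₁ g₂ h => ?_⟩
  have h1 : (g₁ * g₂⁻¹) ≫ f = 1 := by
    rw [MonObj.mul_comp, GrpObj.inv_comp, h, mul_inv_cancel]
  exact mul_inv_eq_one.1 (htriv T _ h1)

end Groth.Agent.S15609
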