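import Groth.Statements.S1191
import Mathlib.RingTheory.Ideal.AssociatedPrime.Finiteness
import Mathlib.RingTheory.LocalRing.ResidueField.Fiber
import Mathlib.RingTheory.FiniteType
import Mathlib.RingTheory.Polynomial.Basic
import Mathlib.RingTheory.TensorProduct.Finite
import Mathlib.RingTheory.FinitePresentation
import Mathlib.RingTheory.Spectrum.Prime.Basic
-- import your own Groth.Agent.* helpers here

set_option autoImplicit false
universe u
open FlatMor

namespace Groth.Agent.S1191

open TensorProduct in
/-- For a finitely presented algebra S over R, a finitely presented S-module N and a prime q of S over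
p, some element of S outside q maps into every associated prime of the fibre module of N over p that
is not contained in the extension of q to the fibre ring. -/
theorem result {R S : Type u} [CommRing R] [CommRing S] [Algebra R S] [Algebra.FinitePresentation R S]
    (N : Type u) [AddCommGroup N] [Module S N] [Module R N] [IsScalarTower R S N] [Module.FinitePresentation S N]
    (p : Ideal R) [p.IsPrime] (q : Ideal S) [q.IsPrime] [q.LiesOver p] :
    ∃ g : S, g ∉ q ∧ ∀ r ∈ associatedPrimes (p.Fiber S) (FlatCA.fiberMod p S N),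
      ¬ r ≤ FlatCA.fiberIdeal p q → (1 : p.ResidueField) ⊗ₜ[R] g ∈ r := by
  classical
  let F := p.Fiber S
  let ι : S →+* F := (Algebra.TensorProduct.includeRight (R := R) (A := p.ResidueField) (B := S)).toRingHom
  let M := FlatCA.fiberMod p S N
  haveI : IsNoetherianRing F := Algebra.FiniteType.isNoetherianRing p.ResidueField F
  letI := Algebra.TensorProduct.rightAlgebra (R := R) (A := p.ResidueField) (B := S)
  haveI : Module.Finite F (TensorProduct S F N) := Module.Finite.base_change S F N
  haveI : Module.Finite F M := this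
  have hfin : (associatedPrimes F M).Finite := associatedPrimes.finite F M
  have hunit : ∀ c ∉ p, IsUnit (algebraMap R F c) := fun c hc => by
    rw [IsScalarTower.algebraMap_apply R p.ResidueField F]
    exact (IsUnit.mk0 _ (fun h => hc (Ideal.algebraMap_residueField_eq_zero.1 h))).map _
  have hnot : ∀ r ∈ associatedPrimes F M, ¬ r ≤ FlatCA.fiberIdeal p q → ∃ s, s ∉ q ∧ ι s ∈ r := by
    intro r hr hle
    by_contra! h
    refine hle fun y hy => ?_
    obtain ⟨c, hc, s, e⟩ := Ideal.Fiber.exists_smul_eq_one_tmul p y
    have hys : ι s ∈ r := by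
      show (1 : p.ResidueField) ⊗ₜ[R] s ∈ r
      rw [← e, Algebra.smul_def]
      exact r.mul_mem_left _ hy
    have hsq : s ∈ q := by
      by_contra hsq
      exact h s hsq hys
    refine (Ideal.unit_mul_mem_iff_mem _ (hunit c hc)).1 ?_
    rw [← Algebra.smul_def, e]
    exact Ideal.mem_map_of_mem _ hsq
  choose g hgq hgr using hnot
  let s : Finset (Ideal F) := hfin.toFinset.filter fun r => ¬ r ≤ FlatCA.fiberIdeal p q
  let G : s → S := fun r => g r.1 (hfin.mem_toFinset.1 (Finset.mem_filter.1 r.2).1) (Finset.mem_filter.1 r.2).2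
  refine ⟨∏ r, G r, fun hmem => ?_, fun r hr hle => ?_⟩
  · obtain ⟨r, -, hrq⟩ := (‹q.IsPrime›).prod_mem_iff.1 hmem
    exact hgq r.1 (hfin.mem_toFinset.1 (Finset.mem_filter.1 r.2).1) (Finset.mem_filter.1 r.2).2 hrq
  · have hrs : r ∈ s := Finset.mem_filter.2 ⟨hfin.mem_toFinset.2 hr, hle⟩
    obtain ⟨c, hc⟩ := Finset.dvd_prod_of_mem G (Finset.mem_univ (⟨r, hrs⟩ : s))
    show ι (∏ r, G r) ∈ r
    rw [hc, map_mul]
    exact r.mul_mem_right _ (hgr r hr hle)

end Groth.Agent.S1191
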