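import Groth.Statements.S1193
import Mathlib.RingTheory.Ideal.AssociatedPrime.Finiteness
import Mathlib.RingTheory.Ideal.AssociatedPrime.Localization
import Mathlib.RingTheory.Ideal.MinimalPrime.Noetherian
import Mathlib.RingTheory.Localization.Ideal
-- import your own Groth.Agent.* helpers here

set_option autoImplicit false
universe u
open FlatMor

namespace Groth.Agent.S1193

/-- associated primes over `S` of a finite module over a Noetherian `S`-algebra -/
private theorem ass_restrict {S F : Type u} [CommRing S] [CommRing F] [IsNoetherianRing F] (ι : S →+* F)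
    {M : Type u} [AddCommGroup M] [Module F M] [Module S M] (hι : ∀ (s : S) (m : M), ι s • m = s • m) :
    associatedPrimes S M = Ideal.comap ι '' associatedPrimes F M := by
  have hcolon : ∀ x : M, (⊥ : Submodule S M).colon {x} = ((⊥ : Submodule F M).colon {x}).comap ι := fun x => by
    ext s
    rw [Ideal.mem_comap, Submodule.mem_colon_singleton, Submodule.mem_colon_singleton, Submodule.mem_bot,
      Submodule.mem_bot, hι]
  ext q
  constructor
  · rintro ⟨hq, x, hx⟩
    let J : Ideal F := (⊥ : Submodule F M).colon {x}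
    have hfin := Ideal.finite_minimalPrimes_of_isNoetherianRing F J
    have hle : hfin.toFinset.inf (fun Q => Q.comap ι) ≤ q := by
      intro s hs
      rw [hx, hcolon x, ← Ideal.comap_radical, Ideal.mem_comap, ← Ideal.sInf_minimalPrimes, Submodule.mem_sInf]
      intro Q hQ
      exact (Finset.inf_le (f := fun Q => Q.comap ι) (hfin.mem_toFinset.2 hQ)) hs
    obtain ⟨Q, hQ, hQq⟩ := hq.inf_le'.1 hle
    rw [hfin.mem_toFinset] at hQ
    refine ⟨Q, ?_, le_antisymm hQq ?_⟩
    · have hJ : J = Module.annihilator F ↥(Submodule.span F {x}) := Ideal.ext fun y => by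
        show y ∈ (⊥ : Submodule F M).colon {x} ↔ y ∈ (Submodule.span F {x}).annihilator
        rw [Submodule.mem_colon_singleton, Submodule.mem_bot, Submodule.mem_annihilator_span_singleton]
      haveI : Module.Finite F ↥(Submodule.span F {x}) := Module.Finite.span_of_finite F (Set.finite_singleton x)
      have hmem := Module.associatedPrimes.minimalPrimes_annihilator_subset_associatedPrimes F
        ↥(Submodule.span F {x}) (hJ ▸ hQ)
      exact IsAssociatedPrime.map_of_injective (Submodule.span F {x}).subtype hmem (Submodule.injective_subtype _)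
    · rw [hx, hcolon x, ← Ideal.comap_radical, ← Ideal.sInf_minimalPrimes]
      exact Ideal.comap_mono (sInf_le hQ)
  · rintro ⟨Q, hQ, rfl⟩
    obtain ⟨hQp, x, rfl⟩ := isAssociatedPrime_iff.1 hQ
    haveI := hQp
    refine ⟨Ideal.IsPrime.comap ι, x, ?_⟩
    rw [hcolon]
    exact (Ideal.IsPrime.comap ι).radical.symm


open IsLocalRing in
/-- Let R be a local ring, S an R-algebra whose closed fibre ring is Noetherian and N an S-module whose
closed fibre module N/𝔪N is finite. Let Σ be the set of elements of S acting injectively on N/𝔪N.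
Then a prime of S is disjoint from Σ exactly when it lies inside an associated prime of N/𝔪N (the
primes of the localization at Σ), the localization of S at Σ has finitely many maximal ideals, and
an ideal of that localization is maximal exactly when it is prime and contracts to a maximal member
of the set of associated primes of N/𝔪N. -/
theorem result {R S : Type u} [CommRing R] [IsLocalRing R] [CommRing S] [Algebra R S]
    (N : Type u) [AddCommGroup N] [Module S N] [Module R N] [IsScalarTower R S N]
    [IsNoetherianRing ((maximalIdeal R).Fiber S)]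
    [Module.Finite ((maximalIdeal R).Fiber S) (FlatCA.fiberMod (maximalIdeal R) S N)] :
    (∀ (q : Ideal S) [q.IsPrime], Disjoint (q : Set S) (FlatCA.nzdFiber R S N) ↔
        ∃ q' ∈ associatedPrimes S (FlatCA.fiberMod (maximalIdeal R) S N), q ≤ q') ∧
    {Q : Ideal (Localization (FlatCA.nzdFiber R S N)) | Q.IsMaximal}.Finite ∧
    (∀ Q : Ideal (Localization (FlatCA.nzdFiber R S N)), Q.IsMaximal ↔ (Q.IsPrime ∧
        Maximal (fun r => r ∈ associatedPrimes S (FlatCA.fiberMod (maximalIdeal R) S N))
          (Q.comap (algebraMap S (Localization (FlatCA.nzdFiber R S N)))))) := by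
  classical
  let F := (maximalIdeal R).Fiber S
  let M := FlatCA.fiberMod (maximalIdeal R) S N
  let ι : S →+* F := (Algebra.TensorProduct.includeRight (R := R) (A := (maximalIdeal R).ResidueField) (B := S)).toRingHom
  have hι : ∀ (s : S) (y : M), ι s • y = s • y := by
    letI := Algebra.TensorProduct.rightAlgebra (R := R) (A := (maximalIdeal R).ResidueField) (B := S)
    intro s y
    have key : ∀ y : TensorProduct S F N, algebraMap S F s • y = s • y := fun y => algebraMap_smul _ s y
    exact key y
  let T : Set (Ideal S) := associatedPrimes S M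
  have hT : T = Ideal.comap ι '' associatedPrimes F M := ass_restrict ι hι
  have hTfin : T.Finite := hT ▸ (associatedPrimes.finite F M).image _
  have hTp : ∀ a ∈ T, a.IsPrime := fun a ha => ha.1
  have hnzd : ∀ s : S, s ∉ FlatCA.nzdFiber R S N ↔ ∃ a ∈ T, s ∈ a := by
    intro s
    have h1 := Set.ext_iff.1 (biUnion_associatedPrimes_eq_zero_divisors F M) (ι s)
    simp only [Set.mem_iUnion, SetLike.mem_coe, Set.mem_setOf_eq, exists_prop] at h1
    constructor
    · intro hs
      obtain ⟨m, hm, hm0⟩ : ∃ m : M, s • m = 0 ∧ m ≠ 0 := by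
        by_contra! h
        exact hs h
      obtain ⟨Q, hQ, hsQ⟩ := h1.2 ⟨m, hm0, (hι s m).trans hm⟩
      exact ⟨Q.comap ι, hT ▸ ⟨Q, hQ, rfl⟩, hsQ⟩
    · rintro ⟨a, ha, hsa⟩ hs
      rw [hT] at ha
      obtain ⟨Q, hQ, rfl⟩ := ha
      obtain ⟨m, hm0, hm⟩ := h1.1 ⟨Q, hQ, hsa⟩
      exact hm0 (hs m ((hι s m).symm.trans hm))
  have key : ∀ (q : Ideal S) [q.IsPrime], Disjoint (q : Set S) (FlatCA.nzdFiber R S N) ↔ ∃ q' ∈ T, q ≤ q' := by
    intro q _
    constructor
    · intro hd
      have hsub : (q : Set S) ⊆ ⋃ a ∈ ((hTfin.toFinset : Finset (Ideal S)) : Set (Ideal S)), (a : Set S) := fun s hs => by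
        obtain ⟨a, ha, hsa⟩ := (hnzd s).1 (Set.disjoint_left.1 hd hs)
        exact Set.mem_biUnion (by simpa using ha) hsa
      obtain ⟨a, ha, hqa⟩ := (Ideal.subset_union_prime q q (fun i hi _ _ => hTp i (hTfin.mem_toFinset.1 hi))).1 hsub
      exact ⟨a, hTfin.mem_toFinset.1 ha, hqa⟩
    · rintro ⟨a, ha, hqa⟩
      exact Set.disjoint_left.2 fun s hs => (hnzd s).2 ⟨a, ha, hqa hs⟩
  let W := FlatCA.nzdFiber R S N
  let L := Localization W
  have hTd : ∀ a ∈ T, Disjoint (W : Set S) (a : Set S) := fun a ha =>
    haveI := hTp a ha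
    ((key a).2 ⟨a, ha, le_rfl⟩).symm
  have hmapP : ∀ a ∈ T, (a.map (algebraMap S L)).IsPrime ∧ (a.map (algebraMap S L)).comap (algebraMap S L) = a := fun a ha =>
    ⟨IsLocalization.isPrime_of_isPrime_disjoint W L a (hTp a ha) (hTd a ha),
      IsLocalization.comap_map_of_isPrime_disjoint W L (hTp a ha) (hTd a ha)⟩
  have hpr : ∀ Q : Ideal L, Q.IsPrime → ∃ b ∈ T, Q.comap (algebraMap S L) ≤ b := fun Q hQ => by
    obtain ⟨hc, hd⟩ := (IsLocalization.isPrime_iff_isPrime_disjoint W L Q).1 hQ
    haveI := hc
    exact (key _).1 hd.symm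
  have hmax : ∀ Q : Ideal L, Q.IsMaximal ↔ (Q.IsPrime ∧ Maximal (fun r => r ∈ T) (Q.comap (algebraMap S L))) := by
    intro Q
    constructor
    · intro hQ
      obtain ⟨b, hb, hle⟩ := hpr Q hQ.isPrime
      have hQb : ∀ c ∈ T, Q.comap (algebraMap S L) ≤ c → Q.comap (algebraMap S L) = c := fun c hc hle' => by
        have : Q ≤ c.map (algebraMap S L) := by
          conv_lhs => rw [← IsLocalization.map_comap W L Q]
          exact Ideal.map_mono hle'
        rw [hQ.eq_of_le (hmapP c hc).1.ne_top this]
        exact (hmapP c hc).2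
      refine ⟨hQ.isPrime, hQb b hb hle ▸ hb, fun c hc hle' => (hQb c hc hle').ge⟩
    · rintro ⟨hQp, hQ⟩
      obtain ⟨Q', hQ'm, hle⟩ := Ideal.exists_le_maximal Q hQp.ne_top
      obtain ⟨b, hb, hle'⟩ := hpr Q' hQ'm.isPrime
      have h1 : b ≤ Q.comap (algebraMap S L) := hQ.2 hb ((Ideal.comap_mono hle).trans hle')
      have h2 : Q' ≤ Q := by
        rw [← IsLocalization.map_comap W L Q', ← IsLocalization.map_comap W L Q]
        exact Ideal.map_mono (hle'.trans h1)
      rwa [← le_antisymm h2 hle]
  refine ⟨key, ?_, hmax⟩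
  refine (hTfin.image (fun a => a.map (algebraMap S L))).subset fun Q hQ => ?_
  exact ⟨_, ((hmax Q).1 hQ).2.1, IsLocalization.map_comap W L Q⟩

end Groth.Agent.S1193
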