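import Groth.Statements.S1194
import Mathlib
import Groth.Agent.InjFibre.Alg
import Groth.Agent.FibCrit.EssFP

set_option autoImplicit false
universe u
open FlatMor

namespace Groth.Agent.S1194

set_option linter.style.haveILetI false

open TensorProduct in
attribute [local instance] Algebra.TensorProduct.rightAlgebra in
/-- The kernel of the map to the closed fibre module. -/
theorem toFiberMod_eq_zero_iff {R S : Type u} [CommRing R] [IsLocalRing R] [CommRing S] [Algebra R S] {N : Type u}
    [AddCommGroup N] [Module S N] [Module R N] [IsScalarTower R S N] (z : N) :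
    FlatCA.toFiberMod (IsLocalRing.maximalIdeal R) S N z = 0 ↔
      z ∈ (IsLocalRing.maximalIdeal R).map (algebraMap R S) • (⊤ : Submodule S N) := by
  let m := IsLocalRing.maximalIdeal R
  let F := m.Fiber S
  let ι : S →ₐ[R] F := Algebra.TensorProduct.includeRight
  let f₀ : R →ₐ[R] m.ResidueField := Algebra.ofId R _
  have hf₀ : Function.Surjective f₀ := Ideal.algebraMap_residueField_surjective m
  let π := Algebra.TensorProduct.map f₀ (AlgHom.id R S)
  have hπι : ∀ y, π ((Algebra.TensorProduct.lid R S).symm y) = ι y := fun y => by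
    simp [π, ι, f₀]; rfl
  have hπs : Function.Surjective π := TensorProduct.map_surjective hf₀ Function.surjective_id
  have hker : RingHom.ker π = (RingHom.ker f₀).map (Algebra.TensorProduct.includeLeft : R →ₐ[R] R ⊗[R] S) :=
    Algebra.TensorProduct.rTensor_ker f₀ hf₀
  have hf0k : RingHom.ker f₀ = m := Ideal.ker_algebraMap_residueField m
  have hιk : RingHom.ker ι.toRingHom = m.map (algebraMap R S) := by
    let e := (Algebra.TensorProduct.lid R S).symm.toRingEquiv
    have h1 : RingHom.ker ι.toRingHom = (RingHom.ker π).comap e := by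
      ext y
      simp only [RingHom.mem_ker, Ideal.mem_comap]
      exact Iff.of_eq (congrArg (· = 0) (hπι y).symm)
    rw [h1, hker, hf0k, ← Ideal.map_symm]
    have he : ∀ r : R, e.symm ((Algebra.TensorProduct.includeLeft : R →ₐ[R] R ⊗[R] S) r) = algebraMap R S r :=
      fun r => by simp [e, Algebra.smul_def]
    refine le_antisymm (Ideal.map_le_iff_le_comap.2 (Ideal.map_le_iff_le_comap.2 fun r hr => ?_))
      (Ideal.map_le_iff_le_comap.2 fun r hr => ?_)
    · rw [Ideal.mem_comap, Ideal.mem_comap, he]
      exact Ideal.mem_map_of_mem _ hr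
    · rw [Ideal.mem_comap, ← he]
      exact Ideal.mem_map_of_mem _ (Ideal.mem_map_of_mem _ hr)
  have hιs : Function.Surjective ι.toRingHom := fun y => by
    obtain ⟨w, rfl⟩ := hπs y
    obtain ⟨v, rfl⟩ := (Algebra.TensorProduct.lid R S).symm.surjective w
    exact ⟨v, (hπι v).symm⟩
  let J := m.map (algebraMap R S)
  let e₁ : (S ⧸ J) →ₗ[S] F := Submodule.liftQ J (Algebra.linearMap S F) (le_of_eq hιk.symm)
  have he₁ : Function.Bijective e₁ := by
    refine ⟨LinearMap.ker_eq_bot.1 (Submodule.ker_liftQ_eq_bot _ _ _ (le_of_eq hιk)), fun y => ?_⟩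
    obtain ⟨v, rfl⟩ := hιs y
    exact ⟨Submodule.Quotient.mk v, rfl⟩
  let E := (TensorProduct.quotTensorEquivQuotSMul N J).symm.trans
    (TensorProduct.congr (LinearEquiv.ofBijective e₁ he₁) (LinearEquiv.refl S N))
  have hE : E (Submodule.Quotient.mk z) = FlatCA.toFiberMod m S N z := by
    change TensorProduct.congr (LinearEquiv.ofBijective e₁ he₁) (LinearEquiv.refl S N)
      ((TensorProduct.quotTensorEquivQuotSMul N J).symm (Submodule.Quotient.mk z)) = _
    rw [TensorProduct.quotTensorEquivQuotSMul_symm_mk, TensorProduct.congr_tmul]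
    change e₁ (Submodule.Quotient.mk (1 : S)) ⊗ₜ[S] z = (1 : F) ⊗ₜ[S] z
    congr 1
  exact (iff_of_eq (congrArg (· = 0) hE.symm)).trans ((LinearEquiv.map_eq_zero_iff E).trans (Submodule.Quotient.mk_eq_zero _))

theorem univInj_of_exact {R M N C : Type u} [CommRing R] [AddCommGroup M] [AddCommGroup N] [AddCommGroup C]
    [Module R M] [Module R N] [Module R C] [Module.Flat R C] (f : M →ₗ[R] N) (π : N →ₗ[R] C)
    (hπ : Function.Surjective π) (hf : Function.Injective f) (hex : Function.Exact f π) : FlatCA.UnivInj R f :=
  fun Q _ _ => LinearMap.lTensor_injective_of_exact_of_flat π hπ f hf hex Q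

/-- An injective map with flat cokernel is universally injective. -/
theorem univInj_of_flat_coker {R S N : Type u} [CommRing R] [CommRing S] [Algebra R S] [AddCommGroup N] [Module S N]
    [Module R N] [IsScalarTower R S N] (u : N →ₗ[S] N) (hinj : Function.Injective u)
    (hfl : Module.Flat R (N ⧸ LinearMap.range u)) : FlatCA.UnivInj R (u.restrictScalars R) :=
  haveI := hfl
  let π : N →ₗ[R] N ⧸ LinearMap.range u := (LinearMap.range u).mkQ.restrictScalars R
  have hπ : Function.Surjective π := fun y => Submodule.mkQ_surjective (LinearMap.range u) y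
  have hf : Function.Injective (u.restrictScalars R) := hinj
  have hex : Function.Exact (u.restrictScalars R) π := fun y => LinearMap.exact_map_mkQ_range u y
  univInj_of_exact (R := R) (u.restrictScalars R) π hπ hf hex

open TensorProduct in
/-- Localization at universally injective elements is universally injective. -/
theorem univInj_localization {R S N : Type u} [CommRing R] [CommRing S] [Algebra R S] [AddCommGroup N] [Module S N]
    [Module R N] [IsScalarTower R S N] (T : Submonoid S)
    (h : ∀ s ∈ T, FlatCA.UnivInj R ((LinearMap.lsmul S N s).restrictScalars R)) :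
    FlatCA.UnivInj R ((LocalizedModule.mkLinearMap T N).restrictScalars R) := fun Q _ _ => by
  let g := LocalizedModule.mkLinearMap T N
  rw [LinearMap.lTensor_inj_iff_rTensor_inj]
  change Function.Injective (AlgebraTensorModule.rTensor R Q g)
  rw [injective_iff_map_eq_zero]
  intro w hw
  obtain ⟨⟨s, hs⟩, hsw⟩ := (IsLocalizedModule.eq_zero_iff T _).1 hw
  have h2 : ((LinearMap.lsmul S N s).restrictScalars R).rTensor Q w = s • w := by
    clear hsw hw
    induction w with
    | zero => simp
    | tmul a b => simp [TensorProduct.smul_tmul']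
    | add a b ha hb => rw [map_add, ha, hb, smul_add]
  exact (injective_iff_map_eq_zero _).1 ((LinearMap.lTensor_inj_iff_rTensor_inj _ _).1 (h s hs Q)) w (h2.trans hsw)

open IsLocalRing in
/-- Let R → S be a local homomorphism of local rings which is essentially of finite presentation, and N
a finitely presented S-module flat over R. Then multiplication by any element of S acting
injectively on N/𝔪_R N is a universally injective map of R-modules on N, and the localization map
from N to its localization at all such elements is universally injective over R. -/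
theorem result {R S : Type u} [CommRing R] [IsLocalRing R] [CommRing S] [IsLocalRing S] [Algebra R S]
    [IsLocalHom (algebraMap R S)] (hS : FlatCA.EssFinitePresentation R S)
    (N : Type u) [AddCommGroup N] [Module S N] [Module R N] [IsScalarTower R S N] [Module.FinitePresentation S N] [Module.Flat R N] :
    (∀ s ∈ FlatCA.nzdFiber R S N, FlatCA.UnivInj R ((LinearMap.lsmul S N s).restrictScalars R)) ∧
    FlatCA.UnivInj R ((LocalizedModule.mkLinearMap (FlatCA.nzdFiber R S N) N).restrictScalars R) := by
  obtain ⟨S₀, _, _, _, _, M, hfp, hloc⟩ := hS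
  let q : Ideal S₀ := (maximalIdeal S).comap (algebraMap S₀ S)
  haveI : IsLocalization.AtPrime S q := FibCrit.isLocalization_atPrime_of_local M q rfl
  have hq : q.comap (algebraMap R S₀) = maximalIdeal R := by
    rw [Ideal.comap_comap, ← IsScalarTower.algebraMap_eq]
    exact IsLocalRing.maximalIdeal_comap _
  let J : Ideal S := (maximalIdeal R).map (algebraMap R S)
  have key : ∀ s ∈ FlatCA.nzdFiber R S N, ∀ z : N, s • z ∈ J • (⊤ : Submodule S N) → z ∈ J • (⊤ : Submodule S N) := by
    intro s hs z hz
    rw [← toFiberMod_eq_zero_iff] at hz ⊢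
    rw [map_smul] at hz
    exact hs _ hz
  have h1 : ∀ s ∈ FlatCA.nzdFiber R S N, FlatCA.UnivInj R ((LinearMap.lsmul S N s).restrictScalars R) := by
    intro s hs
    obtain ⟨hinj, hflat⟩ := InjFibre.atPrime (R := R) q (LinearMap.lsmul S N s)
      (fun z hz => by rw [hq] at hz ⊢; exact key s hs z hz)
    exact univInj_of_flat_coker (LinearMap.lsmul S N s) hinj hflat
  exact ⟨h1, univInj_localization (FlatCA.nzdFiber R S N) h1⟩

end Groth.Agent.S1194
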