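import Groth.Statements.S6347
import Groth.Agent.MLMod.Flat

set_option autoImplicit false
universe u
open CAlg Groth.Agent TensorProduct

namespace Groth.Agent.S6347

/-- Over a Noetherian ring R, the product module R^A (functions from any set A to R) is flat and
Mittag-Leffler. -/
theorem result (R : Type u) [CommRing R] [IsNoetherianRing R]
    (A : Type u) : Module.Flat R (A → R) ∧ CAlg.IsMittagLeffler R (A → R) := by
  classical
  haveI hflat : Module.Flat R (A → R) := by
    refine Module.Flat.iff_rTensor_injective'.mpr fun I => ?_
    haveI : Module.FinitePresentation R I := Module.finitePresentation_of_finite R I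
    rw [injective_iff_map_eq_zero]
    intro x hx
    refine MLMod.isML_of_finitePresentation A (fun _ => R) (funext fun a => ?_)
    rw [map_zero, Pi.zero_apply]
    refine (Module.Flat.rTensor_preserves_injective_linearMap I.subtype Subtype.val_injective) ?_
    rw [← MLMod.natural (Q := fun _ : A => R), map_zero]
    exact congrFun ((congrArg _ hx).trans (map_zero _)) a
  refine ⟨hflat, MLMod.isML_of_smallest fun n x => ?_⟩
  let val : A → (Fin n → R) := fun a => TensorProduct.rid R (Fin n → R) (TensorProduct.piRightHom R R (Fin n → R) (fun _ : A => R) x a)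
  let F' : Submodule R (Fin n → R) := Submodule.span R (Set.range val)
  refine ⟨F', ?_, fun F'' hx => Submodule.span_le.2 ?_⟩
  · obtain ⟨z, hz⟩ := MLMod.piRightHom_surjective (M := F') (Q := fun _ : A => R)
      (fun a => (⟨val a, Submodule.subset_span ⟨a, rfl⟩⟩ : F') ⊗ₜ[R] (1 : R))
    refine ⟨z, MLMod.isML_of_free A (fun _ => R) (funext fun a => ?_)⟩
    rw [MLMod.natural (Q := fun _ : A => R), hz]
    apply (TensorProduct.rid R (Fin n → R)).injective
    simp [val]
  · rintro _ ⟨a, rfl⟩
    obtain ⟨z, rfl⟩ := hx
    simp only [val, MLMod.natural (Q := fun _ : A => R), SetLike.mem_coe]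
    generalize TensorProduct.piRightHom R R F'' (fun _ : A => R) z a = w
    induction w with
    | zero => simp
    | tmul m r => simpa using F''.smul_mem r m.2
    | add p q hp hq => rw [map_add, map_add]; exact add_mem hp hq

end Groth.Agent.S6347
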