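import Groth.Statements.S1197
import Groth.Agent.MLMod.Completion
import Groth.Agent.S6347

set_option autoImplicit false
universe u
open FlatMor Groth.Agent

namespace Groth.Agent.S1197

/-- Over a Noetherian ring R which is I-adically complete, the I-adic completion of a free module on an
arbitrary index set is a flat and Mittag-Leffler R-module. (Flatness alone, without completeness of
R, is stated separately.) -/
theorem result (R : Type u) [CommRing R] [IsNoetherianRing R] (I : Ideal R) [IsAdicComplete I R] (α : Type u) :
    Module.Flat R (AdicCompletion I (α →₀ R)) ∧ CAlg.IsMittagLeffler R (AdicCompletion I (α →₀ R)) := by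
  haveI : Module.Flat R (α → AdicCompletion I R) := MLMod.flat_pi fun _ : α => AdicCompletion I R
  refine ⟨MLMod.flat_of_universallyInjective _ (MLMod.universallyInjective_toPi I α),
    MLMod.isML_of_universallyInjective _ (MLMod.universallyInjective_toPi I α) ?_⟩
  exact MLMod.isML_of_linearEquiv
    (LinearEquiv.piCongrRight fun _ : α => (AdicCompletion.ofLinearEquiv I R).symm) (S6347.result R α).2

end Groth.Agent.S1197
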