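import Groth.Statements.S1198
import Groth.Agent.MLMod.LiftFlat
import Groth.Agent.S1197

set_option autoImplicit false
universe u
open FlatMor Groth.Agent

namespace Groth.Agent.S1198

/-- Let R be a Noetherian ring complete with respect to an ideal I and M a flat R-module whose reduction
M/IM is projective over R/I. Then M's I-adic completion is a flat and Mittag-Leffler R-module. -/
theorem result (R : Type u) [CommRing R] [IsNoetherianRing R] (I : Ideal R) [IsAdicComplete I R]
    (M : Type u) [AddCommGroup M] [Module R M] [Module.Flat R M]
    [Module.Projective (R ⧸ I) (M ⧸ (I • ⊤ : Submodule R M))] :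
    Module.Flat R (AdicCompletion I M) ∧ CAlg.IsMittagLeffler R (AdicCompletion I M) := by
  let π : (M →₀ R) →ₗ[R] M := Finsupp.linearCombination R (id : M → M)
  have hπ : Function.Surjective π := fun m =>
    ⟨Finsupp.single m 1, (Finsupp.linearCombination_single R (1 : R) m).trans (one_smul R m)⟩
  obtain ⟨s, hs⟩ := MLMod.exists_completion_section I π hπ
  let p : AdicCompletion I (M →₀ R) →ₗ[R] AdicCompletion I M :=
    (AdicCompletion.map I π).restrictScalars R
  have hps : p ∘ₗ s = LinearMap.id := LinearMap.ext fun x => AdicCompletion.ext fun k => by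
    show (AdicCompletion.map I π (s x)).val k = x.val k
    rw [AdicCompletion.map_val_apply]
    exact hs x k
  obtain ⟨h1, h2⟩ := S1197.result R I M
  exact ⟨Module.Flat.of_retract s p hps, MLMod.isML_of_retract s p hps h2⟩

end Groth.Agent.S1198
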