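import Groth.Statements.S1199
import Mathlib.RingTheory.Filtration
import Mathlib.RingTheory.Ideal.AssociatedPrime.Basic
import Mathlib.RingTheory.TensorProduct.DirectLimitFG
import Mathlib.LinearAlgebra.TensorProduct.RightExactness
import Mathlib.LinearAlgebra.TensorProduct.Pi
-- import your own Groth.Agent.* helpers here

set_option autoImplicit false
universe u
open FlatMor

namespace Groth.Agent.S1199

open TensorProduct in
/-- finite R-module case -/
private theorem inj_finite {R S : Type u} [CommRing R] [CommRing S] [Algebra R S] [IsNoetherianRing S] (I : Ideal R)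
    (N : Type u) [AddCommGroup N] [Module S N] [Module R N] [IsScalarTower R S N] [Module.Finite S N]
    (Q : Type u) [AddCommGroup Q] [Module R Q] [Module.Finite R Q]
    (h : ∀ q ∈ associatedPrimes S (N ⊗[R] Q), I.map (algebraMap R S) ⊔ q ≠ ⊤)
    (z : Q ⊗[R] N) (hz : (AdicCompletion.of I N).lTensor Q z = 0) : z = 0 := by
  let J : Ideal S := I.map (algebraMap R S)
  let z' : N ⊗[R] Q := TensorProduct.comm R Q N z
  haveI : Module.Finite S (N ⊗[R] Q) := by
    obtain ⟨k, f, hf⟩ := Module.Finite.exists_fin' R Q
    have hsurj : Function.Surjective (TensorProduct.AlgebraTensorModule.lTensor S N f) :=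
      LinearMap.lTensor_surjective N hf
    haveI : Module.Finite S (N ⊗[R] (Fin k → R)) :=
      Module.Finite.equiv (TensorProduct.piScalarRight R S N (Fin k)).symm
    exact Module.Finite.of_surjective _ hsurj
  have hmem : z' ∈ (⨅ n : ℕ, J ^ n • ⊤ : Submodule S (N ⊗[R] Q)) := by
    rw [Submodule.mem_iInf]
    intro n
    let p : Submodule R N := I ^ n • ⊤
    have h0 : p.mkQ.lTensor Q z = 0 := by
      have : p.mkQ = AdicCompletion.eval I N n ∘ₗ AdicCompletion.of I N := rfl
      rw [this, LinearMap.lTensor_comp, LinearMap.comp_apply, hz, map_zero]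
    obtain ⟨w, hw⟩ := (lTensor_exact Q (LinearMap.exact_subtype_mkQ p) p.mkQ_surjective z).1 h0
    have key : ∀ w : Q ⊗[R] ↥p,
        TensorProduct.comm R Q N (p.subtype.lTensor Q w) ∈ (J ^ n • ⊤ : Submodule S (N ⊗[R] Q)) := by
      intro w
      induction w using TensorProduct.induction_on with
      | zero => simp
      | add a b ha hb => rw [map_add, map_add]; exact add_mem ha hb
      | tmul a b =>
        rw [LinearMap.lTensor_tmul, TensorProduct.comm_tmul]
        obtain ⟨b, hb⟩ := b
        show b ⊗ₜ[R] a ∈ _
        refine Submodule.smul_induction_on hb (fun r hr x _ => ?_) (fun x y hx hy => ?_)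
        · rw [← IsScalarTower.algebraMap_smul S r x, ← TensorProduct.smul_tmul']
          refine Submodule.smul_mem_smul ?_ trivial
          rw [← Ideal.map_pow]
          exact Ideal.mem_map_of_mem _ hr
        · rw [TensorProduct.add_tmul]; exact add_mem hx hy
    have hkey := key w
    rw [hw] at hkey
    exact hkey
  obtain ⟨r, hr⟩ := (Ideal.mem_iInf_smul_pow_eq_bot_iff J z').1 hmem
  by_contra hne
  have hne' : z' ≠ 0 := fun e => hne ((TensorProduct.comm R Q N).injective (e.trans (map_zero _).symm))
  obtain ⟨q, hq, hle⟩ := exists_le_isAssociatedPrime_of_isNoetherianRing S z' hne'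
  refine h q hq ?_
  rw [Ideal.eq_top_iff_one]
  have h1 : (1 : S) - r ∈ q := hle (by
    rw [Submodule.mem_colon]
    intro y hy
    obtain rfl : y = z' := hy
    rw [sub_smul, one_smul, hr, sub_self]
    exact zero_mem _)
  rw [show (1 : S) = (r : S) + (1 - r) by ring]
  exact add_mem (Submodule.mem_sup_left r.2) (Submodule.mem_sup_right h1)


open TensorProduct in
/-- Let R → S be a map of Noetherian rings, I an ideal of R and N a finite S-module. Assume that for
every finite R-module Q and every associated prime q of the S-module N ⊗_R Q the ideal IS + q is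
proper. Then the canonical map from N to its I-adic completion is universally injective as a map of
R-modules. -/
theorem result {R S : Type u} [CommRing R] [CommRing S] [Algebra R S] [IsNoetherianRing R] [IsNoetherianRing S] (I : Ideal R)
    (N : Type u) [AddCommGroup N] [Module S N] [Module R N] [IsScalarTower R S N] [Module.Finite S N]
    (h : ∀ (Q : Type u) [AddCommGroup Q] [Module R Q], Module.Finite R Q →
      ∀ q ∈ associatedPrimes S (N ⊗[R] Q), I.map (algebraMap R S) ⊔ q ≠ ⊤) :
    FlatCA.UnivInj R (AdicCompletion.of I N) := by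
  intro Q _ _
  rw [injective_iff_map_eq_zero]
  intro z hz
  obtain ⟨P, hP, t, ht⟩ := TensorProduct.exists_of_fg z
  have comm : ∀ (A B : Type u) [AddCommGroup A] [Module R A] [AddCommGroup B] [Module R B]
      (g : A →ₗ[R] B) (x : A ⊗[R] N), (AdicCompletion.of I N).lTensor B (g.rTensor N x) =
        g.rTensor (AdicCompletion I N) ((AdicCompletion.of I N).lTensor A x) := fun A B _ _ _ _ g x => by
    rw [← LinearMap.comp_apply, ← LinearMap.comp_apply, LinearMap.rTensor_comp_lTensor,
      LinearMap.lTensor_comp_rTensor]
  rw [← ht, comm] at hz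
  obtain ⟨P', hPP', hP', h0⟩ := TensorProduct.eq_zero_of_fg_of_subtype_eq_zero hP hz
  rw [← comm] at h0
  haveI : Module.Finite R ↥P' := Module.Finite.iff_fg.2 hP'
  have := inj_finite I N ↥P' (h ↥P' inferInstance) _ h0
  rw [← ht, ← Submodule.subtype_comp_inclusion P P' hPP', LinearMap.rTensor_comp, LinearMap.comp_apply,
    this, map_zero]

end Groth.Agent.S1199
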