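import Groth.Statements.S1200
import Groth.Agent.S1199
import Groth.Agent.FlatCAFib.Basic
import Mathlib.RingTheory.Ideal.AssociatedPrime.Finiteness
import Mathlib.LinearAlgebra.TensorProduct.RightExactness
import Mathlib.RingTheory.LocalRing.ResidueField.Fiber
-- import your own Groth.Agent.* helpers here

set_option autoImplicit false
universe u
open FlatMor

namespace Groth.Agent.S1200

open TensorProduct

attribute [local instance] Algebra.TensorProduct.rightAlgebra

private theorem smul_top_iff {R S : Type u} [CommRing R] [CommRing S] [Algebra R S] (p : Ideal R)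
    (N : Type u) [AddCommGroup N] [Module S N] [Module R N] [IsScalarTower R S N] (y : N) :
    y ∈ (p.map (algebraMap R S) • ⊤ : Submodule S N) ↔ y ∈ (p • ⊤ : Submodule R N) := by
  rw [← Submodule.restrictScalars_mem R (p.map (algebraMap R S) • ⊤ : Submodule S N),
    Ideal.smul_restrictScalars, Submodule.restrictScalars_top]

private theorem ass_tensor {R S : Type u} [CommRing R] [IsNoetherianRing R] [CommRing S] [Algebra R S]
    [IsNoetherianRing S] (N : Type u) [AddCommGroup N] [Module S N] [Module R N] [IsScalarTower R S N]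
    [Module.Flat R N] (Q : Type u) [AddCommGroup Q] [Module R Q] (hQ : Module.Finite R Q) :
    ∀ q ∈ associatedPrimes S (N ⊗[R] Q), ∃ p : PrimeSpectrum R,
      q ∈ associatedPrimes S (N ⧸ (p.asIdeal.map (algebraMap R S) • ⊤ : Submodule S N)) := by
  induction hQ using IsNoetherianRing.induction_on_isQuotientEquivQuotientPrime with
  | subsingleton Q =>
    intro q hq
    haveI : Subsingleton (N ⊗[R] Q) := subsingleton_iff_forall_eq 0 |>.2 fun x => by
      induction x using TensorProduct.induction_on with
      | zero => rfl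
      | tmul n c => rw [Subsingleton.elim c 0, TensorProduct.tmul_zero]
      | add a b ha hb => rw [ha, hb, add_zero]
    exact (not_isAssociatedPrime_of_subsingleton hq).elim
  | quotient Q p e =>
    intro q hq
    refine ⟨p, ?_⟩
    let P : Submodule S N := p.asIdeal.map (algebraMap R S) • ⊤
    let g : N →ₗ[S] N ⊗[R] (R ⧸ p.asIdeal) :=
      { toFun := fun n => n ⊗ₜ[R] Submodule.Quotient.mk (1 : R)
        map_add' := fun a b => TensorProduct.add_tmul a b _
        map_smul' := fun s n => rfl }
    have hg : ∀ n, g n = 0 ↔ n ∈ P := fun n => by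
      rw [smul_top_iff, ← Submodule.Quotient.mk_eq_zero,
        ← (TensorProduct.tensorQuotEquivQuotSMul N p.asIdeal).injective.eq_iff, map_zero]
      refine Eq.congr_left ?_
      exact TensorProduct.quotTensorEquivQuotSMul_mk_one_tmul p.asIdeal n
    let φ : (N ⧸ P) →ₗ[S] N ⊗[R] (R ⧸ p.asIdeal) := P.liftQ g fun n hn => (hg n).2 hn
    have hφi : Function.Injective φ := by
      rw [← LinearMap.ker_eq_bot]
      exact Submodule.ker_liftQ_eq_bot _ _ _ fun n hn => (hg n).1 hn
    have hφs : Function.Surjective φ := fun x => by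
      induction x using TensorProduct.induction_on with
      | zero => exact ⟨0, map_zero _⟩
      | tmul n c =>
        obtain ⟨r, rfl⟩ := Submodule.Quotient.mk_surjective _ c
        refine ⟨Submodule.Quotient.mk (r • n), ?_⟩
        show (r • n) ⊗ₜ[R] Submodule.Quotient.mk (1 : R) = _
        rw [TensorProduct.smul_tmul, ← Submodule.Quotient.mk_smul, smul_eq_mul, mul_one]
      | add a b ha hb =>
        obtain ⟨a', ha⟩ := ha
        obtain ⟨b', hb⟩ := hb
        exact ⟨a' + b', by rw [map_add, ha, hb]⟩
    let E := (TensorProduct.AlgebraTensorModule.congr (LinearEquiv.refl S N) e).trans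
      (LinearEquiv.ofBijective φ ⟨hφi, hφs⟩).symm
    exact E.isAssociatedPrime_iff.1 hq
  | exact Q₁ Q₂ Q₃ f g hf hg hfg h₁ h₃ =>
    intro q hq
    have hi : Function.Injective (TensorProduct.AlgebraTensorModule.lTensor S N f) :=
      Module.Flat.lTensor_preserves_injective_linearMap f hf
    have he : Function.Exact (TensorProduct.AlgebraTensorModule.lTensor S N f)
        (TensorProduct.AlgebraTensorModule.lTensor S N g) := lTensor_exact N hfg hg
    exact (associatedPrimes.subset_union_of_exact hi he hq).elim (h₁ q) (h₃ q)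

private theorem fibre_ass {R S : Type u} [CommRing R] [CommRing S] [Algebra R S]
    (N : Type u) [AddCommGroup N] [Module S N] [Module R N] [IsScalarTower R S N] [Module.Flat R N]
    [IsNoetherianRing S] (p : Ideal R) [p.IsPrime] (q : Ideal S)
    (hq : q ∈ associatedPrimes S (N ⧸ (p.map (algebraMap R S) • ⊤ : Submodule S N))) :
    ∃ _ : q.IsPrime, q.LiesOver p ∧ FlatCA.fiberIdeal p q ∈ associatedPrimes (p.Fiber S) (FlatCA.fiberMod p S N) := by
  obtain ⟨hqp, n, hn⟩ := isAssociatedPrime_iff.1 hq
  haveI := hqp
  have hn' : ∀ s : S, s ∈ q ↔ s • n = 0 := fun s => by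
    rw [hn, Submodule.mem_colon_singleton, Submodule.mem_bot]
  have hout : ∀ r ∉ p, algebraMap R S r ∉ q := fun r hr hmem => hqp.ne_top ((Ideal.eq_top_iff_one _).2
    ((hn' 1).2 (by rw [one_smul]; exact Groth.Agent.FlatCAFib.eq_zero_of_smul p N hr n ((hn' _).1 hmem))))
  have hin : ∀ r ∈ p, algebraMap R S r ∈ q := fun r hr =>
    (hn' _).2 (Groth.Agent.FlatCAFib.smul_mk_eq_zero p N (Ideal.mem_map_of_mem _ hr) n)
  refine ⟨hqp, ⟨?_⟩, ?_⟩
  · exact le_antisymm hin fun r hr => by_contra fun h => hout r h hr
  have hqa : q = (Submodule.span S {n}).annihilator := Ideal.ext fun s => by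
    rw [hn', Submodule.mem_annihilator_span_singleton]
  have hx := Groth.Agent.FlatCAFib.ann_jmap p N hout n hqa
  set x := Groth.Agent.FlatCAFib.jmap p N n
  let ι := (Algebra.TensorProduct.includeRight (R := R) (A := p.ResidueField) (B := S)).toRingHom
  have hι : ∀ (s : S) (y : FlatCA.fiberMod p S N), ι s • y = s • y := fun s y => by
    have key : ∀ y : (p.Fiber S) ⊗[S] N, algebraMap S (p.Fiber S) s • y = s • y := fun y => algebraMap_smul _ s y
    exact key y
  have hunit : ∀ r ∉ p, IsUnit (algebraMap R (p.Fiber S) r) := fun r hr => by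
    rw [IsScalarTower.algebraMap_apply R p.ResidueField (p.Fiber S)]
    exact (IsUnit.mk0 _ (fun h => hr (Ideal.algebraMap_residueField_eq_zero.1 h))).map _
  have hrep : ∀ y : p.Fiber S, ∃ (u : p.Fiber S) (s : S), IsUnit u ∧ u * y = ι s := fun y => by
    obtain ⟨r, hr, s, e⟩ := Ideal.Fiber.exists_smul_eq_one_tmul p y
    exact ⟨_, s, hunit r hr, by rw [← Algebra.smul_def]; exact e⟩
  have hiff : ∀ y : p.Fiber S, y ∈ FlatCA.fiberIdeal p q ↔ y • x = 0 := fun y => by
    constructor
    · intro hy
      induction hy using Submodule.span_induction with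
      | mem z hz =>
        obtain ⟨s, hs, rfl⟩ := hz
        show ι s • x = 0
        rw [hι]
        exact (Submodule.mem_annihilator_span_singleton x s).1 (hx ▸ hs)
      | zero => exact zero_smul _ _
      | add a b _ _ ha hb => rw [add_smul, ha, hb, add_zero]
      | smul c z _ hz => rw [smul_eq_mul, mul_smul, hz, smul_zero]
    · intro hy
      obtain ⟨u, s, hu, e⟩ := hrep y
      have hs : s ∈ q := by
        rw [hx, Submodule.mem_annihilator_span_singleton, ← hι, ← e, mul_smul, hy, smul_zero]
      refine (Ideal.unit_mul_mem_iff_mem _ hu).1 ?_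
      rw [e]
      exact Ideal.mem_map_of_mem _ hs
  have hprime : (FlatCA.fiberIdeal p q).IsPrime := by
    refine ⟨fun htop => hqp.ne_top ((Ideal.eq_top_iff_one _).2 ?_), fun {a b} hab => ?_⟩
    · rw [hx, Submodule.mem_annihilator_span_singleton]
      have h1 : (1 : p.Fiber S) • x = 0 := (hiff 1).1 (htop ▸ Submodule.mem_top)
      rw [one_smul] at h1 ⊢
      exact h1
    · obtain ⟨ua, sa, hua, ea⟩ := hrep a
      obtain ⟨ub, sb, hub, eb⟩ := hrep b
      have h1 : sa * sb ∈ q := by
        rw [hx, Submodule.mem_annihilator_span_singleton, ← hι, map_mul, ← ea, ← eb,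
          mul_mul_mul_comm, mul_smul, (hiff _).1 hab, smul_zero]
      refine (hqp.mem_or_mem h1).imp (fun h => ?_) (fun h => ?_)
      · exact (Ideal.unit_mul_mem_iff_mem _ hua).1 (ea ▸ Ideal.mem_map_of_mem _ h)
      · exact (Ideal.unit_mul_mem_iff_mem _ hub).1 (eb ▸ Ideal.mem_map_of_mem _ h)
  refine ⟨hprime, x, ?_⟩
  refine hprime.radical.symm.trans (congrArg Ideal.radical (Ideal.ext fun y => ?_))
  rw [hiff y, Submodule.mem_colon_singleton, Submodule.mem_bot]


/-- Let R → S be a map of Noetherian rings, I an ideal of R and N a finite S-module which is flat over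
R. Assume that for every prime q of S, over p in R, whose extension to the fibre ring over p is an
associated prime of the fibre module of N, the ideal IS + q is proper. Then the canonical map from N
to its I-adic completion is universally injective as a map of R-modules. -/
theorem result {R S : Type u} [CommRing R] [CommRing S] [Algebra R S] [IsNoetherianRing R] [IsNoetherianRing S] (I : Ideal R)
    (N : Type u) [AddCommGroup N] [Module S N] [Module R N] [IsScalarTower R S N] [Module.Finite S N] [Module.Flat R N]
    (h : ∀ (p : Ideal R) (q : Ideal S) [p.IsPrime] [q.IsPrime] [q.LiesOver p],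
      FlatCA.fiberIdeal p q ∈ associatedPrimes (p.Fiber S) (FlatCA.fiberMod p S N) → I.map (algebraMap R S) ⊔ q ≠ ⊤) :
    FlatCA.UnivInj R (AdicCompletion.of I N) := by
  refine Groth.Agent.S1199.result (S := S) I N fun Q _ _ hQ q hq => ?_
  obtain ⟨p, hp⟩ := ass_tensor N Q hQ q hq
  obtain ⟨hqp, hover, hfib⟩ := fibre_ass N p.asIdeal q hp
  haveI := hqp
  haveI := hover
  exact h p.asIdeal q hfib

end Groth.Agent.S1200
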