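import Groth.Statements.S1842
import Groth.Agent.AVDeg.Fibrewise

set_option autoImplicit false
universe u v
open CategoryTheory MonoidalCategory CartesianMonoidalCategory MonObj GrpObj AlgebraicGeometry
open GrpSch

namespace Groth.Agent.S1842

/-- Let A be an abelian variety of dimension g over a field (a proper, geometrically integral group
scheme) and d a nonzero integer. Multiplication by d (the d-th power of the identity in the group
Hom(A, A)) is finite and flat, and its rank function is constant with value d^(2g). (The source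
writes no hypothesis on d; d = 0 is excluded here since the constant map is not finite in positive
dimension.) -/
theorem result (K : Type u) [Field K] (A : Over (Spec (CommRingCat.of K))) [GrpObj A] [IsProper A.hom] [GeometricallyIntegral A.hom] (g : ℕ) (hg : topologicalKrullDim A.left = g) (d : ℤ) (hd : d ≠ 0) : IsFinite (𝟙 A ^ d).left ∧ Flat (𝟙 A ^ d).left ∧ ∀ a : A.left, Scheme.Hom.finrank (𝟙 A ^ d).left a = d.natAbs ^ (2 * g) := by
  haveI : IsCommMonObj A := isCommMonObj_of_isProper_of_geometricallyIntegral A
  haveI := Groth.Agent.AVDeg.isIntegral_av A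
  haveI := Groth.Agent.AVDeg.isMonHom_zpow (𝟙 A) d
  haveI hfin := Groth.Agent.AVDeg.isFinite_zpow_id (A := A) hg hd
  haveI : Surjective (𝟙 A ^ d).left := Groth.Agent.GrpField.surjective_of_isFinite _ rfl
  refine ⟨hfin, Groth.Agent.GrpField.flat_of_surjective _, fun a => ?_⟩
  have h : (Groth.Agent.AVDeg.deg (𝟙 A ^ d) : ℚ) = ((d.natAbs ^ (2 * g) : ℕ) : ℚ) := by
    rw [Groth.Agent.AVDeg.deg_zpow_id hg, pow_mul, pow_mul, Nat.cast_pow, Nat.cast_pow, Nat.cast_natAbs, Int.cast_abs, sq_abs]
  rw [Groth.Agent.AVDeg.finrank_eq_deg hg _ hfin]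
  exact_mod_cast h

end Groth.Agent.S1842
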