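import Groth.Statements.S1204
import Groth.Agent.RG.Dev.GenericFreeTools

set_option autoImplicit false
open Groth.Agent
universe u
open FlatMor

namespace Groth.Agent.S1204

open TensorProduct IsLocalRing in
/-- Let R be a local ring and S a finitely presented flat R-algebra with geometrically integral fibres,
so that 𝔭 = 𝔪_R S is a prime of S; let q be a prime of S over 𝔪_R and N a finite S-module. Then
there is an S-linear map α from a finite free module S^r to N inducing a bijection after base change
to κ(𝔭); and for any such α the following are equivalent: N_q is flat over R; α is universally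
injective over R and the cokernel of α is flat over R at q; α is injective and the cokernel is flat
at q; α localized at 𝔭 is bijective and the cokernel is flat at q; α localized at q is injective and
the cokernel is flat at q. -/
theorem result {R S : Type u} [CommRing R] [IsLocalRing R] [CommRing S] [Algebra R S] [Algebra.FinitePresentation R S] [Module.Flat R S]
    (hgi : FlatCA.GeomIntegralFibres R S) [((maximalIdeal R).map (algebraMap R S)).IsPrime]
    (q : Ideal S) [q.IsPrime] [q.LiesOver (maximalIdeal R)]
    (N : Type u) [AddCommGroup N] [Module S N] [Module R N] [IsScalarTower R S N] [Module.Finite S N] :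
    (∃ (r : ℕ) (α : (Fin r → S) →ₗ[S] N), Function.Bijective (α.baseChange ((maximalIdeal R).map (algebraMap R S)).ResidueField)) ∧
    ∀ (r : ℕ) (α : (Fin r → S) →ₗ[S] N), Function.Bijective (α.baseChange ((maximalIdeal R).map (algebraMap R S)).ResidueField) →
      [FlatCA.FlatAt R q N,
       FlatCA.UnivInj R (α.restrictScalars R) ∧ FlatCA.FlatAt R q (N ⧸ LinearMap.range α),
       Function.Injective α ∧ FlatCA.FlatAt R q (N ⧸ LinearMap.range α),
       Function.Bijective (LocalizedModule.map ((maximalIdeal R).map (algebraMap R S)).primeCompl α) ∧ FlatCA.FlatAt R q (N ⧸ LinearMap.range α),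
       Function.Injective (LocalizedModule.map q.primeCompl α) ∧ FlatCA.FlatAt R q (N ⧸ LinearMap.range α)].TFAE := by
  classical
  refine ⟨RG.Dev.exists_bijective_residue ((maximalIdeal R).map (algebraMap R S)) N, ?_⟩
  intro r α hα
  haveI := RG.Dev.projective_of_geomIntegral hgi
  have hcomap := RG.Dev.comap_map_prime' (maximalIdeal R) q
  tfae_have 1 → 4 := fun hflat => by
    obtain ⟨hloc, hC⟩ := RG.Dev.injective_and_flat_coker (maximalIdeal R) q hflat α hα.1
    refine ⟨⟨RG.Dev.map_injective_of _ α fun x hx => ?_, RG.Dev.map_surjective_generic _ α hα.2⟩, hC⟩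
    obtain ⟨c, hc, hcx⟩ := hloc x hx
    refine ⟨algebraMap R S c, fun h => hc ?_, by rw [algebraMap_smul, hcx]⟩
    rw [← hcomap]; exact h
  tfae_have 4 → 2 := fun ⟨hbij, hC⟩ => by
    refine ⟨fun Q _ _ => ?_, hC⟩
    exact RG.Dev.univInj_of_bijective_localized hgi R α _ hbij (fun h hh m hm => by
      obtain rfl : m = maximalIdeal R := IsLocalRing.eq_maximalIdeal hm
      exact ⟨_, inferInstance, by rw [hcomap]; exact (Ideal.comap_id _).symm, hh⟩) Q
  tfae_have 2 → 3 := fun ⟨hU, hC⟩ => ⟨RG.Dev.injective_of_univInj (f := α.restrictScalars R) hU, hC⟩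
  tfae_have 3 → 5 := fun ⟨hi, hC⟩ =>
    ⟨RG.Dev.map_injective_of _ α fun x hx => ⟨1, one_mem _, by rw [one_smul]; exact hi (hx.trans (map_zero α).symm)⟩, hC⟩
  tfae_have 5 → 1 := fun ⟨hi, hC⟩ => RG.Dev.flatAt_of_injective q α hi hC
  tfae_finish

end Groth.Agent.S1204
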