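import Groth.Statements.S1205
import Groth.Agent.RG.Dev.GenericFreeTools

set_option autoImplicit false
open Groth.Agent
universe u
open FlatMor

namespace Groth.Agent.S1205

open TensorProduct in
/-- Let S be a finitely presented flat R-algebra with geometrically integral fibres, q a prime of S over
the prime 𝔯 of R, so that 𝔭 = 𝔯S is a prime of S, and N a finitely presented S-module. Then there is
an S-linear map α from a finite free module S^r to N inducing a bijection after base change to κ(𝔭);
and for any such α the following are equivalent: N_q is flat over R; for some f ∈ R outside 𝔯 the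
localization α_f is universally injective over R and for some g ∈ S outside q the localization of
the cokernel at g is flat over R; α localized at (the image of) 𝔯 is universally injective over R
and the cokernel is flat over R at q; α localized at 𝔯 is injective and the cokernel is flat at q; α
localized at 𝔭 is bijective and the cokernel is flat at q; α localized at q is injective and the
cokernel is flat at q. (Universal injectivity over R_f or R_𝔯 of a map of modules over these
localizations is the same as over R, which is how it is written.) -/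
theorem result {R S : Type u} [CommRing R] [CommRing S] [Algebra R S] [Algebra.FinitePresentation R S] [Module.Flat R S]
    (hgi : FlatCA.GeomIntegralFibres R S) (rr : Ideal R) [rr.IsPrime] [(rr.map (algebraMap R S)).IsPrime]
    (q : Ideal S) [q.IsPrime] [q.LiesOver rr]
    (N : Type u) [AddCommGroup N] [Module S N] [Module R N] [IsScalarTower R S N] [Module.FinitePresentation S N] :
    (∃ (r : ℕ) (α : (Fin r → S) →ₗ[S] N), Function.Bijective (α.baseChange (rr.map (algebraMap R S)).ResidueField)) ∧
    ∀ (r : ℕ) (α : (Fin r → S) →ₗ[S] N), Function.Bijective (α.baseChange (rr.map (algebraMap R S)).ResidueField) →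
      [FlatCA.FlatAt R q N,
       (∃ f : R, f ∉ rr ∧ FlatCA.UnivInj R ((LocalizedModule.map (Submonoid.powers (algebraMap R S f)) α).restrictScalars R)) ∧
         (∃ g : S, g ∉ q ∧ Module.Flat R (LocalizedModule (Submonoid.powers g) (N ⧸ LinearMap.range α))),
       FlatCA.UnivInj R ((LocalizedModule.map (Algebra.algebraMapSubmonoid S rr.primeCompl) α).restrictScalars R) ∧ FlatCA.FlatAt R q (N ⧸ LinearMap.range α),
       Function.Injective (LocalizedModule.map (Algebra.algebraMapSubmonoid S rr.primeCompl) α) ∧ FlatCA.FlatAt R q (N ⧸ LinearMap.range α),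
       Function.Bijective (LocalizedModule.map (rr.map (algebraMap R S)).primeCompl α) ∧ FlatCA.FlatAt R q (N ⧸ LinearMap.range α),
       Function.Injective (LocalizedModule.map q.primeCompl α) ∧ FlatCA.FlatAt R q (N ⧸ LinearMap.range α)].TFAE := by
  classical
  refine ⟨RG.Dev.exists_bijective_residue (rr.map (algebraMap R S)) N, ?_⟩
  intro r α hα
  haveI := RG.Dev.projective_of_geomIntegral hgi
  have hcomap := RG.Dev.comap_map_prime' rr q
  have hcξ : ∀ c : R, c ∉ rr → algebraMap R S c ∈ (rr.map (algebraMap R S)).primeCompl := fun c hc h => hc (by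
    rw [← hcomap]; exact h)
  have hξq : rr.map (algebraMap R S) ≤ q := Ideal.map_le_iff_le_comap.2 (Ideal.over_def q rr).le
  tfae_have 1 → 5 := fun hflat => by
    obtain ⟨hloc, hC⟩ := RG.Dev.injective_and_flat_coker rr q hflat α hα.1
    refine ⟨⟨RG.Dev.map_injective_of _ α fun x hx => ?_, RG.Dev.map_surjective_generic _ α hα.2⟩, hC⟩
    obtain ⟨c, hc, hcx⟩ := hloc x hx
    exact ⟨algebraMap R S c, hcξ c hc, by rw [algebraMap_smul, hcx]⟩
  tfae_have 5 → 2 := fun ⟨hbij, hC⟩ => by
    let uX : (Fin r → S) →ₗ[S] _ := LocalizedModule.mkLinearMap (rr.map (algebraMap R S)).primeCompl (Fin r → S)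
    let uN : N →ₗ[S] _ := LocalizedModule.mkLinearMap (rr.map (algebraMap R S)).primeCompl N
    obtain ⟨h, hh, hhbij⟩ := Module.FinitePresentation.exists_notMem_bijective α (rr.map (algebraMap R S)) uX uN hbij
    have hopen : IsOpenMap (PrimeSpectrum.comap (algebraMap R S)) :=
      PrimeSpectrum.isOpenMap_comap_of_hasGoingDown_of_finitePresentation
    obtain ⟨_, ⟨_, ⟨f, rfl⟩, rfl⟩, hff, hsub⟩ := PrimeSpectrum.isBasis_basic_opens.exists_subset_of_mem_open
      (show (⟨rr, ‹_›⟩ : PrimeSpectrum R) ∈ PrimeSpectrum.comap (algebraMap R S) '' (PrimeSpectrum.basicOpen h : Set _)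
        from ⟨⟨rr.map (algebraMap R S), ‹_›⟩, hh, PrimeSpectrum.ext hcomap⟩) (hopen _ (PrimeSpectrum.basicOpen h).isOpen)
    refine ⟨⟨f, hff, ?_⟩, ?_⟩
    · have hU := RG.Dev.univInj_map (Submonoid.powers f) α fun Q _ _ _ _ =>
        RG.Dev.univInj_of_bijective_away hgi (Localization (Submonoid.powers f)) α h hhbij (fun m hm => by
          have hfm : f ∉ m.comap (algebraMap R (Localization (Submonoid.powers f))) := fun hmem =>
            hm.ne_top (m.eq_top_of_isUnit_mem hmem (IsLocalization.map_units (Localization (Submonoid.powers f))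
              (⟨f, Submonoid.mem_powers f⟩ : Submonoid.powers f)))
          obtain ⟨P, hP, hPt⟩ := hsub (show (⟨m.comap (algebraMap R _), Ideal.IsPrime.comap _⟩ : PrimeSpectrum R) ∈
            (PrimeSpectrum.basicOpen f : Set _) from hfm)
          exact ⟨P.asIdeal, P.isPrime, congrArg PrimeSpectrum.asIdeal hPt, hP⟩) Q
      have hpow : Algebra.algebraMapSubmonoid S (Submonoid.powers f) = Submonoid.powers (algebraMap R S f) :=
        Submonoid.map_powers _ _
      rw [← hpow]
      exact hU
    · haveI : Module.FinitePresentation S (N ⧸ LinearMap.range α) :=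
        Module.finitePresentation_of_surjective _ (Submodule.mkQ_surjective _)
          (by rw [Submodule.ker_mkQ]; exact LinearMap.range_eq_map α ▸ (Module.Finite.fg_top.map α))
      obtain ⟨_, ⟨_, ⟨g, rfl⟩, rfl⟩, hgq, hgsub⟩ := PrimeSpectrum.isBasis_basic_opens.exists_subset_of_mem_open
        (show (⟨q, ‹_›⟩ : PrimeSpectrum S) ∈ {x : PrimeSpectrum S | Module.Flat R
          (LocalizedModule x.asIdeal.primeCompl (N ⧸ LinearMap.range α))} from hC)
        (FlatSpread.isOpen_flatLocus (R := R))
      refine ⟨g, hgq, (InjFibre.flat_localized_comap_iff (A := R) (C := S) (Submonoid.powers g)).2 fun x hx => hgsub ?_⟩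
      exact hx g (Submonoid.mem_powers g)
  tfae_have 2 → 3 := fun ⟨⟨f, hf, hU⟩, g, hg, hgflat⟩ => by
    refine ⟨RG.Dev.univInj_map rr.primeCompl α fun Q _ _ _ _ =>
      RG.Dev.lTensor_injective_of_map f α hU (Localization rr.primeCompl)
        (IsLocalization.map_units (Localization rr.primeCompl) (⟨f, hf⟩ : rr.primeCompl)) Q, ?_⟩
    exact (InjFibre.flat_localized_comap_iff (A := R) (C := S) (Submonoid.powers g)).1 hgflat ⟨q, ‹_›⟩ (by
      rintro _ ⟨k, rfl⟩ hk
      exact hg (‹q.IsPrime›.mem_of_pow_mem k hk))
  tfae_have 3 → 4 := fun ⟨hU, hC⟩ => ⟨RG.Dev.injective_of_univInj (f := (LocalizedModule.map (Algebra.algebraMapSubmonoid S rr.primeCompl) α).restrictScalars R) hU, hC⟩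
  tfae_have 4 → 6 := fun ⟨hi, hC⟩ => by
    refine ⟨RG.Dev.map_injective_of _ α fun x hx => ?_, hC⟩
    obtain ⟨_, ⟨c, hc, rfl⟩, hcx⟩ := RG.Dev.of_map_injective hi x hx
    exact ⟨algebraMap R S c, fun h => hc (by rw [Ideal.over_def q rr]; exact h), hcx⟩
  tfae_have 6 → 1 := fun ⟨hi, hC⟩ => RG.Dev.flatAt_of_injective q α hi hC
  tfae_finish

end Groth.Agent.S1205
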