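import Groth.Statements.S1393
import Mathlib
import Groth.Agent.FlatRes.FibreFree
import Groth.Agent.LocFree.Props

set_option autoImplicit false
universe u
open FlatMor Groth.Agent.QC
open scoped TensorProduct
set_option linter.style.haveILetI false

namespace Groth.Agent.S1393

open AlgebraicGeometry CategoryTheory Limits in
/-- Let f : X → S be of finite presentation, F a finitely presented quasi-coherent O_X-module and x a
point with image s. If F is flat over S at x and the stalk at x of the restriction of F to the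
fibre, namely F_x / m_s F_x, is flat over the local ring of the fibre at x, namely O_{X,x} / m_s
O_{X,x}, then F is free of finite rank on some open neighbourhood of x. -/
theorem result {X S : Scheme.{u}} (f : X ⟶ S) [LocallyOfFinitePresentation f] [QuasiCompact f] [QuasiSeparated f]
    (F : X.Modules) (hFq : Coh.IsQCoh F) (hFp : CohB1.IsFP F) (x : X) (h1 : FlatMod.IsFlatOverAt f F x)
    (h2 : Module.Flat (↑(X.presheaf.stalk x) ⧸ Ideal.map (f.stalkMap x).hom (IsLocalRing.maximalIdeal ↑(S.presheaf.stalk (f x))))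
      (↑(F.presheaf.stalk x) ⧸ (Ideal.map (f.stalkMap x).hom (IsLocalRing.maximalIdeal ↑(S.presheaf.stalk (f x))) • (⊤ : Submodule ↑(X.presheaf.stalk x) ↑(F.presheaf.stalk x))))) :
    ∃ (U : X.Opens) (n : ℕ), x ∈ U ∧ Nonempty (F.restrict U.ι ≅ FlatMod.freeMod (↑U) n) := by
  classical
  obtain ⟨U, hU, hxU⟩ := exists_affine_mem x
  haveI := LocFree.finitePresentation_sections_of_isFP hFq hFp hU
  let A := ↑(S.presheaf.stalk (f x))
  let B := ↑(X.presheaf.stalk x)
  let N := ↑(F.presheaf.stalk x)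
  letI : Algebra A B := (f.stalkMap x).hom.toAlgebra
  letI : Module A N := FlatMod.moduleStalkOver f F x
  haveI : IsScalarTower A B N := IsScalarTower.of_algebraMap_smul fun a m => rfl
  haveI : Module.Flat A N := h1
  letI := (X.presheaf.germ U x hxU).hom.toAlgebra
  haveI := hU.isLocalization_stalk ⟨x, hxU⟩
  obtain ⟨g, hg⟩ := LocFree.exists_stalkMap hU hFq hxU
  letI := Module.compHom N (X.presheaf.germ U x hxU).hom
  haveI : IsScalarTower Γ(X, U) B N := ⟨fun a c m => mul_smul ((X.presheaf.germ U x hxU).hom a) c m⟩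
  haveI := hg
  let P := (hU.primeIdealOf ⟨x, hxU⟩).asIdeal.primeCompl
  haveI : Module.FinitePresentation B N :=
    FinitePresentation.of_isBaseChange g ((isLocalizedModule_iff_isBaseChange P B g).mp hg)
  let m := IsLocalRing.maximalIdeal A
  let 𝔞 := m.map (algebraMap A B)
  haveI : IsLocalHom (algebraMap A B) := inferInstanceAs (IsLocalHom (f.stalkMap x).hom)
  have hle : 𝔞 ≤ IsLocalRing.maximalIdeal B := Ideal.map_le_iff_le_comap.2 fun a ha =>
    (IsLocalRing.mem_maximalIdeal _).2 fun hu => (IsLocalRing.mem_maximalIdeal a).1 ha (IsUnit.of_map _ a hu)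
  haveI : Nontrivial (B ⧸ 𝔞) := Ideal.Quotient.nontrivial_iff.2
    fun e => (IsLocalRing.maximalIdeal.isMaximal B).ne_top (top_le_iff.1 (e ▸ hle))
  haveI : IsLocalRing (B ⧸ 𝔞) := IsLocalRing.of_surjective' (Ideal.Quotient.mk _) Ideal.Quotient.mk_surjective
  have h2' : Module.Flat (B ⧸ 𝔞) (N ⧸ 𝔞 • (⊤ : Submodule B N)) := h2
  haveI := h2'
  haveI : Module.Flat (B ⧸ 𝔞) ((B ⧸ 𝔞) ⊗[B] N) :=
    Module.Flat.of_linearEquiv (LinearEquiv.extendScalarsOfSurjective (R := B) Ideal.Quotient.mk_surjective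
      (TensorProduct.quotTensorEquivQuotSMul N 𝔞))
  haveI := FlatRes.free_of_fibre_free m hle (Module.free_of_flat_of_isLocalRing :
    Module.Free (B ⧸ 𝔞) ((B ⧸ 𝔞) ⊗[B] N))
  obtain ⟨r, hr, hr', -⟩ := Module.FinitePresentation.exists_free_localizedModule_powers P g B
  obtain ⟨hf1, hf2⟩ := LocFree.free_finite_basicOpen hFq hU r (M := F)
  obtain ⟨n, e⟩ := LocFree.exists_iso_free_of_affine (hM := hFq) (M := F) (hU.basicOpen r)
  refine ⟨X.basicOpen r, n, ?_, e⟩
  exact (X.mem_basicOpen r x hxU).2 (IsLocalization.map_units B (⟨r, hr⟩ : P))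

end Groth.Agent.S1393
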