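import Groth.Statements.S14119
import Groth.Agent.Catenary.Flat
import Groth.Agent.BlowUpLib.Basic
import Groth.Agent.EquidimPt.Height
import Groth.Agent.DimFormula.Equidim

set_option autoImplicit false
universe u
open CategoryTheory CategoryTheory.Limits AlgebraicGeometry Opposite TopologicalSpace
open BlowUp

namespace Groth.Agent.S14119

theorem exists_equation {X : Scheme.{u}} {I : X.IdealSheafData} (hI : BlowUp.IsEffCartierIdeal I) (x : X) :
    ∃ f : X.presheaf.stalk x, ∀ P : PrimeSpectrum (X.presheaf.stalk x),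
      X.fromSpecStalk x P ∈ I.support ↔ f ∈ P.asIdeal := by
  obtain ⟨U, hxU, g, -, he⟩ := hI x
  refine ⟨X.presheaf.germ U.1 x hxU g, fun P => ?_⟩
  let q := PrimeSpectrum.comap (X.presheaf.germ U.1 x hxU).hom P
  have hz : X.fromSpecStalk x P = U.2.fromSpec q := by
    rw [← U.2.fromSpecStalk_eq_fromSpecStalk hxU]
    rfl
  have hzU : X.fromSpecStalk x P ∈ U.1 := by rw [hz, ← SetLike.mem_coe, ← U.2.range_fromSpec]; exact ⟨q, rfl⟩
  rw [← not_iff_not, Groth.Agent.BlowUpLib.mem_basicOpen_of_notMem_support he hzU, hz]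
  show q ∈ U.2.fromSpec ⁻¹ᵁ X.basicOpen g ↔ _
  rw [U.2.fromSpec_preimage_basicOpen]
  rfl

theorem dim_stalk_fromSpecStalk {X : Scheme.{u}} (x : X) (P : PrimeSpectrum (X.presheaf.stalk x)) :
    ringKrullDim (X.presheaf.stalk (X.fromSpecStalk x P)) = (P.asIdeal.height : WithBot ℕ∞) := by
  rw [ringKrullDim_stalk_eq_coheight, P.height_eq_orderHeight, WithBot.coe_inj]
  have hiff : ∀ a b : PrimeSpectrum (X.presheaf.stalk x), X.fromSpecStalk x b ≤ X.fromSpecStalk x a ↔ a ≤ b :=
    fun a b => (Groth.Agent.EquidimPt.fromSpecStalk_le_iff x a b).symm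
  refine le_antisymm ?_ ?_
  · refine Order.coheight_le fun l hl => ?_
    have hx : ∀ i, l i ⤳ x := fun i => by
      have h1 : l i ⤳ l.head := l.monotone (Fin.zero_le i)
      rw [hl] at h1
      exact h1.trans ((Scheme.range_fromSpecStalk).le ⟨P, rfl⟩)
    choose a ha using fun i => Groth.Agent.EquidimPt.exists_fromSpecStalk_eq (hx i)
    let l' : LTSeries (PrimeSpectrum (X.presheaf.stalk x)) := LTSeries.mk l.length (fun i => a i.rev) fun i j hij => by
      have h1 : l j.rev < l i.rev := l.strictMono (Fin.rev_lt_rev.mpr hij)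
      rw [← ha, ← ha, lt_iff_le_not_ge, hiff, hiff, ← lt_iff_le_not_ge] at h1
      exact h1
    have hlast : l'.last = P := (X.fromSpecStalk x).isEmbedding.injective (by
      show X.fromSpecStalk x (a (Fin.last _).rev) = _
      rw [ha, Fin.rev_last]
      exact hl)
    exact hlast ▸ Order.length_le_height_last (p := l')
  · rw [← Order.height_toDual]
    exact Order.height_le_height_apply_of_strictMono
      (fun a : PrimeSpectrum (X.presheaf.stalk x) => OrderDual.toDual (X.fromSpecStalk x a))
      (fun (a b : PrimeSpectrum (X.presheaf.stalk x)) h => by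
        show X.fromSpecStalk x b < X.fromSpecStalk x a
        rw [lt_iff_le_not_ge, hiff, hiff]
        exact lt_iff_le_not_ge.mp h) P

/-- Let X be a locally Noetherian scheme, Y an effective Cartier divisor on X (a quasi-coherent ideal
sheaf which, near every point, is generated on some affine open by one nonzerodivisor; Y is its
support) and Z a closed integral subscheme (a closed immersion i from an integral scheme with
generic point ξ). Assume X irreducible with all local rings catenary (the first of the two printed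
sufficient conditions), and assume that the inverse image ideal sheaf of Y on Z is the ideal of an
effective Cartier divisor on Z. Then Y and Z intersect properly: every point ζ of Y ∩ Z that is
maximal under generization inside Y ∩ Z satisfies dim O_{X,ζ} = codim(Y,X) + codim(Z,X), where
codim(Y,X) is the infimum over y ∈ Y of dim O_{X,y} and codim(Z,X) = dim O_{X,i(ξ)}. (The published
statement also has a second sufficient condition, X biequidimensional, and a fourth equivalent
condition, vanishing of the higher Tor sheaves of O_Y against O_Z; neither is included in this row.) -/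
theorem result {X Z : Scheme.{u}}
    [IsLocallyNoetherian X] [IrreducibleSpace ↥X] (hcat : ∀ x : ↥X, CAlg.IsCatenary ↑(X.presheaf.stalk x))
    (𝓘 : X.IdealSheafData) (hY : BlowUp.IsEffCartierIdeal 𝓘)
    (i : Z ⟶ X) [IsClosedImmersion i] [IsIntegral Z] (hc : BlowUp.IsEffCartierIdeal (𝓘.comap i)) :
    (∀ ζ : ↥X, ζ ∈ (𝓘.support : Set ↥X) ∩ Set.range i.base →
        (∀ ζ' : ↥X, ζ' ∈ (𝓘.support : Set ↥X) ∩ Set.range i.base → ζ' ⤳ ζ → ζ' = ζ) →
        ringKrullDim ↑(X.presheaf.stalk ζ) =
          (⨅ y : (𝓘.support : Set ↥X), ringKrullDim ↑(X.presheaf.stalk y.1)) +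
            ringKrullDim ↑(X.presheaf.stalk (i (genericPoint ↥Z)))) := by
  intro ζ hζ hmax
  obtain ⟨f, hf⟩ := exists_equation hY ζ
  obtain ⟨hζY, w, hw⟩ := hζ
  -- the generic point of `Z`
  have hξY : i (genericPoint ↥Z) ∉ 𝓘.support := by
    have h := Groth.Agent.BlowUpLib.notMem_support_of_maximalPt hc (x := genericPoint ↥Z)
      fun y hy => (hy.antisymm (genericPoint_specializes y)).eq
    rw [Scheme.IdealSheafData.support_comap] at h
    exact h
  have hξζ : i (genericPoint ↥Z) ⤳ ζ := hw ▸ (genericPoint_specializes w).map i.continuous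
  obtain ⟨P, hP⟩ := Groth.Agent.EquidimPt.exists_fromSpecStalk_eq hξζ
  let A := X.presheaf.stalk ζ
  -- codimension of `Y`
  have hY1 : (⨅ y : (𝓘.support : Set ↥X), ringKrullDim ↑(X.presheaf.stalk y.1)) = 1 := by
    refine le_antisymm ?_ (le_iInf fun y => ?_)
    · have hfm : Ideal.span {f} ≤ IsLocalRing.maximalIdeal A := by
        rw [Ideal.span_singleton_le_iff_mem]
        exact (hf (IsLocalRing.closedPoint A)).mp (by rw [Scheme.fromSpecStalk_closedPoint]; exact hζY)
      obtain ⟨Q, hQ, -⟩ := Ideal.exists_minimalPrimes_le hfm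
      let q : PrimeSpectrum A := ⟨Q, hQ.1.1⟩
      refine (iInf_le _ ⟨X.fromSpecStalk ζ q, (hf q).mpr (hQ.1.2 (Ideal.mem_span_singleton_self f))⟩).trans ?_
      show ringKrullDim (X.presheaf.stalk (X.fromSpecStalk ζ q)) ≤ 1
      rw [dim_stalk_fromSpecStalk]
      haveI := hQ.1.1
      exact_mod_cast Ideal.height_le_one_of_isPrincipal_of_mem_minimalPrimes (Ideal.span {f}) Q hQ
    · obtain ⟨d, hd⟩ := Groth.Agent.SerreReg.exists_dim_nat (X.presheaf.stalk y.1)
      rw [hd]
      rcases Nat.eq_zero_or_pos d with rfl | hd0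
      · refine absurd y.2 (Groth.Agent.BlowUpLib.notMem_support_of_maximalPt hY fun z hz => ?_)
        obtain ⟨a, rfl⟩ := Groth.Agent.EquidimPt.exists_fromSpecStalk_eq hz
        haveI : Ring.KrullDimLE 0 (X.presheaf.stalk y.1) :=
          ringKrullDimZero_iff_ringKrullDim_eq_zero.mpr (by exact_mod_cast hd)
        rw [Subsingleton.elim a (IsLocalRing.closedPoint _), Scheme.fromSpecStalk_closedPoint]
      · exact_mod_cast hd0
  -- `Z` has dimension one at `ζ`
  haveI : Nontrivial (A ⧸ P.asIdeal) := Ideal.Quotient.nontrivial_iff.mpr P.2.ne_top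
  haveI : IsLocalRing (A ⧸ P.asIdeal) := IsLocalRing.of_surjective' _ Ideal.Quotient.mk_surjective
  have hfP : f ∉ P.asIdeal := fun h => hξY (hP ▸ (hf P).mpr h)
  have hA1 : ringKrullDim (A ⧸ P.asIdeal) = 1 := by
    have hmin : IsLocalRing.maximalIdeal (A ⧸ P.asIdeal) ∈
        (Ideal.span {Ideal.Quotient.mk P.asIdeal f}).minimalPrimes := by
      refine ⟨⟨(IsLocalRing.maximalIdeal.isMaximal _).isPrime, ?_⟩, fun Q ⟨hQ, hfQ⟩ hQm => ?_⟩
      · refine (Ideal.span_singleton_le_iff_mem _).mpr fun hu => ?_
        haveI := IsLocalHom.of_surjective (Ideal.Quotient.mk P.asIdeal) Ideal.Quotient.mk_surjective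
        exact (hf (IsLocalRing.closedPoint A)).mp (by rw [Scheme.fromSpecStalk_closedPoint]; exact hζY)
          (isUnit_of_map_unit (Ideal.Quotient.mk P.asIdeal) f hu)
      · haveI := hQ
        let q : PrimeSpectrum A := PrimeSpectrum.comap (Ideal.Quotient.mk P.asIdeal) ⟨Q, hQ⟩
        have hPq : P ≤ q := fun a ha => by
          show Ideal.Quotient.mk P.asIdeal a ∈ Q
          rw [Ideal.Quotient.eq_zero_iff_mem.mpr ha]
          exact Q.zero_mem
        have hqr : X.fromSpecStalk ζ q ∈ Set.range i.base := by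
          refine i.isClosedEmbedding.isClosed_range.closure_subset ?_
          have h1 := (Groth.Agent.EquidimPt.fromSpecStalk_le_iff ζ P q).mp hPq
          rw [hP] at h1
          exact closure_mono (Set.singleton_subset_iff.mpr (Set.mem_range_self (f := ⇑i) (genericPoint ↥Z)))
            (specializes_iff_mem_closure.mp h1)
        have hqζ := hmax _ ⟨(hf q).mpr (hfQ (Ideal.mem_span_singleton_self _)), hqr⟩
          ((Scheme.range_fromSpecStalk).le ⟨q, rfl⟩)
        have hq : q = IsLocalRing.closedPoint A :=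
          (X.fromSpecStalk ζ).isEmbedding.injective (hqζ.trans Scheme.fromSpecStalk_closedPoint.symm)
        intro a ha
        obtain ⟨b, rfl⟩ := Ideal.Quotient.mk_surjective a
        have hb : b ∈ IsLocalRing.maximalIdeal A := fun hu => ha (hu.map _)
        exact (show IsLocalRing.maximalIdeal A ≤ q.asIdeal from (congrArg PrimeSpectrum.asIdeal hq).ge) hb
    refine le_antisymm ?_ ?_
    · rw [← IsLocalRing.maximalIdeal_height_eq_ringKrullDim]
      exact_mod_cast Ideal.height_le_one_of_isPrincipal_of_mem_minimalPrimes _ _ hmin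
    · rw [← IsLocalRing.maximalIdeal_height_eq_ringKrullDim, ← WithBot.coe_one, WithBot.coe_le_coe,
        Order.one_le_iff_ne_zero, Ne, Ideal.height_eq_zero_iff_eq_bot]
      intro e
      have : Ideal.Quotient.mk P.asIdeal f = 0 := (Submodule.eq_bot_iff _).mp e _ (hmin.1.2 (Ideal.mem_span_singleton_self _))
      exact hfP (Ideal.Quotient.eq_zero_iff_mem.mp this)
  -- equidimensionality
  have heq : EGA4.IsEquidim A := fun p hp => by
    have huniq : ∀ p' ∈ minimalPrimes A, p' = p := fun p' hp' => by
      have h1 := (Groth.Agent.DimFormula.isMaxPt_fromSpecStalk ζ ⟨p', hp'.1.1⟩).mpr hp'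
      have h2 := (Groth.Agent.DimFormula.isMaxPt_fromSpecStalk ζ ⟨p, hp.1.1⟩).mpr hp
      exact congrArg PrimeSpectrum.asIdeal ((X.fromSpecStalk ζ).isEmbedding.injective
        ((h1 _ (genericPoint_specializes _)).symm.trans (h2 _ (genericPoint_specializes _))))
    refine le_antisymm (ringKrullDim_le_of_surjective _ Ideal.Quotient.mk_surjective) ?_
    rw [ringKrullDim_quotient]
    refine (Order.krullDim_le_of_strictMono (fun a : PrimeSpectrum A => (⟨a, ?_⟩ : PrimeSpectrum.zeroLocus (p : Set A)))
      (fun a b h => h))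
    obtain ⟨p', hp', hle⟩ := Ideal.exists_minimalPrimes_le (bot_le : (⊥ : Ideal A) ≤ a.asIdeal)
    exact fun x hx => hle (huniq p' hp' ▸ hx)
  have h := Groth.Agent.Catenary.dim_equidim_add (hcat ζ) heq P.asIdeal
  rw [hA1] at h
  rw [hY1, ← hP, dim_stalk_fromSpecStalk, h]

end Groth.Agent.S14119
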