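import Groth.Statements.S12056
import Mathlib

set_option autoImplicit false
open Red

namespace Groth.Agent.S12056

/-- In formal-power-series form, let R be a commutative ring and F ∈ R⟦X⟧ with constant term 1 whose
linear coefficient a is a unit of R. Suppose that in R⟦X₀, X₁⟧ one has F(X₀ + X₁ · F(X₀)) = F(X₀) ·
F(X₁) (the functional equation F(x + y F(x)) = F(x) F(y)). Then F = 1 + a X. (The published
statement concerns a morphism to the multiplicative group from an open neighbourhood of the zero
section in the additive group over a base scheme, the identity holding on an open neighbourhood of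
the origin of the plane on which all terms are defined, with a the derivative at 0; this row states
it for formal power series over a ring.) -/
theorem result (R : Type) [CommRing R] (F : PowerSeries R)
    (h0 : PowerSeries.constantCoeff F = 1) (ha : IsUnit (PowerSeries.coeff 1 F))
    (hFE : PowerSeries.subst
        (MvPowerSeries.X (0 : Fin 2) + MvPowerSeries.X 1 * PowerSeries.subst (MvPowerSeries.X (0 : Fin 2)) F :
          MvPowerSeries (Fin 2) R) F =
      PowerSeries.subst (MvPowerSeries.X (0 : Fin 2)) F * PowerSeries.subst (MvPowerSeries.X (1 : Fin 2)) F) :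
    F = 1 + PowerSeries.C (PowerSeries.coeff 1 F) * PowerSeries.X := by
  classical
  let x : MvPowerSeries (Fin 2) R := MvPowerSeries.X 0
  let y : MvPowerSeries (Fin 2) R := MvPowerSeries.X 1
  have hx : PowerSeries.HasSubst x := PowerSeries.HasSubst.X 0
  have hy : PowerSeries.HasSubst y := PowerSeries.HasSubst.X 1
  let a : MvPowerSeries (Fin 2) R := x + y * PowerSeries.subst x F
  let b : MvPowerSeries (Fin 2) R := y + x * PowerSeries.subst y F
  have haS : PowerSeries.HasSubst a := PowerSeries.HasSubst.of_constantCoeff_zero (by simp [a, x, y])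
  have hbS : PowerSeries.HasSubst b := PowerSeries.HasSubst.of_constantCoeff_zero (by simp [b, x, y])
  let s : Fin 2 → MvPowerSeries (Fin 2) R := ![y, x]
  have hs : MvPowerSeries.HasSubst s := MvPowerSeries.hasSubst_of_constantCoeff_zero fun i => by
    fin_cases i <;> simp [s, x, y]
  have sx : MvPowerSeries.subst s x = y := by simp [x, MvPowerSeries.subst_X hs, s]
  have sy : MvPowerSeries.subst s y = x := by simp [y, MvPowerSeries.subst_X hs, s]
  have sc : ∀ {c : MvPowerSeries (Fin 2) R}, PowerSeries.HasSubst c →
      MvPowerSeries.subst s (PowerSeries.subst c F) = PowerSeries.subst (MvPowerSeries.subst s c) F :=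
    fun hc => MvPowerSeries.subst_comp_subst_apply hc.const hs F
  have hFE' : PowerSeries.subst b F = PowerSeries.subst x F * PowerSeries.subst y F := by
    have h := congrArg (MvPowerSeries.subst (R := R) s) hFE
    rw [MvPowerSeries.subst_mul hs, sc haS, sc hx, sc hy, sx, sy] at h
    have hab : MvPowerSeries.subst s a = b := by
      simp only [a, b, MvPowerSeries.subst_add hs, MvPowerSeries.subst_mul hs, sc hx, sx, sy]
    rw [hab] at h
    rw [h, mul_comm]
  let P : PowerSeries R := F - 1
  have hP0 : P.constantCoeff = 0 := by simp [P, h0]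
  have hP1 : IsUnit (PowerSeries.coeff 1 P) := by simpa [P] using ha
  have hab : a = b := by
    have hPs : PowerSeries.HasSubst P := PowerSeries.HasSubst.of_constantCoeff_zero' hP0
    have key : ∀ {c : MvPowerSeries (Fin 2) R}, PowerSeries.HasSubst c →
        PowerSeries.subst (PowerSeries.subst c F - 1) (P.substInvOfIsUnit hP1) = c := by
      intro c hc
      have e1 : PowerSeries.subst c P = PowerSeries.subst c F - 1 := by
        rw [show P = F - PowerSeries.C 1 by simp [P], PowerSeries.subst_sub hc,
          PowerSeries.subst_C, map_one]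
      rw [← e1, ← PowerSeries.subst_comp_subst_apply hPs hc,
        PowerSeries.subst_substInvOfIsUnit_left P hP0 hP1, PowerSeries.subst_X hc]
    rw [← key haS, ← key hbS]
    exact congrArg (fun t => PowerSeries.subst (t - 1) _) (hFE.trans hFE'.symm)
  have cX : ∀ (i : Fin 2) (e : Fin 2 →₀ ℕ), MvPowerSeries.coeff e
      (PowerSeries.subst (MvPowerSeries.X i : MvPowerSeries (Fin 2) R) F) =
        if e = Finsupp.single i (e i) then PowerSeries.coeff (e i) F else 0 := by
    intro i e
    rw [PowerSeries.coeff_subst (PowerSeries.HasSubst.X i)]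
    rw [finsum_eq_single _ (e i) (fun d hd => ?_)]
    · by_cases he : e = Finsupp.single i (e i)
      · rw [if_pos he, MvPowerSeries.coeff_X_pow, if_pos he]; simp
      · rw [if_neg he, MvPowerSeries.coeff_X_pow, if_neg he]; simp
    · rw [MvPowerSeries.coeff_X_pow, if_neg, smul_zero]
      rintro rfl
      exact hd (by simp)
  ext n
  rcases n with _ | _ | n
  · simp [h0]
  · simp [PowerSeries.coeff_one]
  · have h := congrArg (MvPowerSeries.coeff
      (Finsupp.single (1 : Fin 2) 1 + Finsupp.single (0 : Fin 2) (n + 2))) hab
    simp only [a, b, map_add, x, y] at h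
    have hXm : ∀ i : Fin 2, (MvPowerSeries.X i : MvPowerSeries (Fin 2) R) =
        MvPowerSeries.monomial (Finsupp.single i 1) 1 := fun i => rfl
    rw [hXm 1, MvPowerSeries.coeff_add_monomial_mul, one_mul, cX,
      show Finsupp.single (1 : Fin 2) 1 + Finsupp.single (0 : Fin 2) (n + 2) =
        Finsupp.single (0 : Fin 2) 1 +
          (Finsupp.single (1 : Fin 2) 1 + Finsupp.single (0 : Fin 2) (n + 1)) by
        ext i; fin_cases i <;> simp <;> omega,
      hXm 0, MvPowerSeries.coeff_add_monomial_mul, one_mul, ← hXm 1, cX] at h
    simp [MvPowerSeries.coeff_monomial, Finsupp.ext_iff, Fin.forall_fin_two,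
      Finsupp.single_apply] at h
    have hX1 : ∀ m : Fin 2 →₀ ℕ, m 0 ≠ 0 → MvPowerSeries.coeff m (MvPowerSeries.X (1 : Fin 2) : MvPowerSeries (Fin 2) R) = 0 := by
      intro m hm
      rw [MvPowerSeries.coeff_X, if_neg]
      rintro rfl
      simp at hm
    rw [hX1 _ (by simp)] at h
    simp [PowerSeries.coeff_one, h]

end Groth.Agent.S12056
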