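import Groth.Statements.S12057
import Groth.Agent.W7Strat.Counit
import Groth.Agent.W7Strat.Frame

set_option autoImplicit false
universe u
open CategoryTheory CategoryTheory.Limits AlgebraicGeometry
open FGA

namespace Groth.Agent.S12057

/-- Let f : X ⟶ S be a morphism of schemes such that for every open U of S the induced map from sections
of the structure sheaf of S over U to sections of the structure sheaf of X over the inverse image of
U is bijective. Let L be an invertible module on X which is trivial locally over S: every point of S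
has an open neighbourhood U such that the restriction of L to the inverse image of U is isomorphic
to the structure sheaf. Then L is isomorphic to the pullback along f of an invertible module on S.
(The relative Picard group here is the group of global sections of the first higher direct image of
the sheaf of units, so its elements vanishing are exactly the classes trivial locally over the
base.) -/
theorem result {X S : Scheme.{u}} (f : X ⟶ S)
    (hf : ∀ U : S.Opens, Function.Bijective (f.app U)) (L : X.Modules) (hL : PicF.IsInvertible L)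
    (hloc : ∀ s : S, ∃ U : S.Opens, s ∈ U ∧
      Nonempty ((Scheme.Modules.pullback (f ⁻¹ᵁ U).ι).obj L ≅ Coh.structureModule (f ⁻¹ᵁ U))) :
    ∃ N : S.Modules, PicF.IsInvertible N ∧ Nonempty (L ≅ (Scheme.Modules.pullback f).obj N) := by
  have hfr : ∀ s : S, ∃ V : S.Opens, s ∈ V ∧ ∃ (n : ℕ) (e : Fin n → Γ(L, f ⁻¹ᵁ V)), TMul.IsFrame e ∧ n = 1 := by
    intro s
    obtain ⟨U, hs, ⟨ψ⟩⟩ := hloc s
    let W := f ⁻¹ᵁ U
    let φ : FlatMod.freeMod W 1 ≅ L.restrict W.ι :=
      coproductUniqueIso (fun _ : Fin 1 => Coh.structureModule (W : Scheme.{u})) ≪≫ ψ.symm ≪≫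
        ((Scheme.Modules.restrictFunctorIsoPullback W.ι).app L).symm
    have h2 := Groth.Agent.W7Strat.isFrame_app φ (Groth.Agent.W7Strat.isFrame_freeMod (W : Scheme.{u}) 1)
    let b : Fin 1 → Γ(L, W.ι ''ᵁ ⊤) := fun i => φ.hom.app ⊤
      ((Sigma.ι (fun _ : Fin 1 => Coh.structureModule (W : Scheme.{u})) i).app ⊤ (1 : Γ(W, ⊤)))
    suffices hb : TMul.IsFrame b from
      ⟨U, hs, 1, _, Groth.Agent.W7Strat.isFrame_res hb (W.ι_image_top).ge, rfl⟩
    refine Groth.Agent.W7Strat.isFrame_of_bijective fun A hA => ?_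
    obtain ⟨A', rfl⟩ : ∃ A' : W.toScheme.Opens, W.ι ''ᵁ A' = A :=
      ⟨W.ι ⁻¹ᵁ A, by
        rw [W.ι.image_preimage_eq_opensRange_inf, inf_eq_right.mpr (hA.trans (W.ι.image_le_opensRange ⊤))]⟩
    have hbij : Function.Bijective (fun c : Fin 1 → Γ(W, A') =>
        ∑ i, c i • Groth.Agent.QC.res (L.restrict W.ι) (le_top : A' ≤ ⊤) (φ.hom.app ⊤
          ((Sigma.ι (fun _ : Fin 1 => Coh.structureModule (W : Scheme.{u})) i).app ⊤ (1 : Γ(W, ⊤))))) :=
      ⟨h2.comb_injective le_top, h2.comb_surjective le_top⟩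
    rw [show (fun c : Fin 1 → Γ(W, A') =>
        ∑ i, c i • Groth.Agent.QC.res (L.restrict W.ι) (le_top : A' ≤ ⊤) (φ.hom.app ⊤
          ((Sigma.ι (fun _ : Fin 1 => Coh.structureModule (W : Scheme.{u})) i).app ⊤ (1 : Γ(W, ⊤))))) =
      (fun c : Fin 1 → Γ(X, W.ι ''ᵁ A') => (∑ i, c i • Groth.Agent.QC.res L hA (b i) : Γ(L, W.ι ''ᵁ A'))) ∘
        fun c i => (W.ι.appIso A').inv.hom (c i) from rfl] at hbij
    exact (Function.Bijective.of_comp_iff _ (Function.Bijective.piMap fun _ =>
      ConcreteCategory.bijective_of_isIso (W.ι.appIso A').inv)).1 hbij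
  haveI := (Groth.Agent.W7Strat.counit_of_frames f hf fun s => by
    obtain ⟨V, hV, n, e, he, -⟩ := hfr s
    exact ⟨V, hV, n, e, he⟩).2
  refine ⟨(Scheme.Modules.pushforward f).obj L, fun s => ?_,
    ⟨(asIso ((Scheme.Modules.pullbackPushforwardAdjunction f).counit.app L)).symm⟩⟩
  obtain ⟨V, hV, n, e, he, rfl⟩ := hfr s
  obtain ⟨ι⟩ := Groth.Agent.W7Strat.nonempty_iso_free V.ι V.opensRange_ι.le (Groth.Agent.W7Strat.isFrame_push f hf he)
  exact ⟨V, hV, ⟨ι ≪≫ coproductUniqueIso fun _ : Fin 1 => Coh.structureModule (V : Scheme.{u})⟩⟩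

end Groth.Agent.S12057
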