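import Groth.Statements.S12058
import Mathlib

set_option autoImplicit false
universe w v u
open CategoryTheory CategoryTheory.Limits CategoryTheory.Abelian
open SGA3

namespace Groth.Agent.S12058

/-- In an abelian category, let 0 → A' → A → A'' → 0 be a short exact sequence, φ : A' ⟶ Q a morphism
and π : A'' ⟶ P an epimorphism with kernel C. Consider the quadruples (B, f, g, h) with 0 → Q → B →
P → 0 short exact (maps f, g) and h : A ⟶ B such that the squares commute: (A' → A → B) = (A' → Q →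
B) and (A → B → P) = (A → A'' → P). Such a quadruple exists if and only if the image in Ext¹(C, Q)
of the class of the given extension in Ext¹(A'', A') (push forward along φ, pull back along the
inclusion C → A'') is zero. -/
theorem result {C : Type u} [Category.{v} C] [Abelian C]
    [HasExt.{w} C] {S : ShortComplex C} (hS : S.ShortExact) {Q P : C} (φ : S.X₁ ⟶ Q) (π : S.X₃ ⟶ P) [Epi π] :
    (∃ (B : C) (f : Q ⟶ B) (g : B ⟶ P) (h : S.X₂ ⟶ B) (w : f ≫ g = 0),
        (ShortComplex.mk f g w).ShortExact ∧ S.f ≫ h = φ ≫ f ∧ h ≫ g = S.g ≫ π) ↔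
      (Ext.mk₀ (kernel.ι π)).comp (hS.extClass.comp (Ext.mk₀ φ) (add_zero 1)) (zero_add 1) = 0 := by
  open CategoryTheory CategoryTheory.Limits in
  haveI := hS.mono_f
  haveI := hS.epi_g
  let K₂ := kernel (S.g ≫ π)
  let i₂ : K₂ ⟶ S.X₂ := kernel.ι _
  let j : S.X₁ ⟶ K₂ := kernel.lift _ S.f (by simp)
  let q : K₂ ⟶ kernel π := kernel.lift _ (i₂ ≫ S.g) (by simp [i₂, kernel.condition, Category.assoc])
  have hji : j ≫ i₂ = S.f := kernel.lift_ι _ _ _
  have hqi : q ≫ kernel.ι π = i₂ ≫ S.g := kernel.lift_ι _ _ _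
  have hjq : j ≫ q = 0 := by
    rw [← cancel_mono (kernel.ι π), Category.assoc, hqi, ← Category.assoc, hji, S.zero, zero_comp]
  let T := ShortComplex.mk j q hjq
  haveI : Mono j := mono_of_mono_fac hji
  haveI : Epi q := by
    rw [epi_iff_surjective_up_to_refinements]
    intro W a
    obtain ⟨W', e, he, x, hx⟩ := surjective_up_to_refinements_of_epi S.g (a ≫ kernel.ι π)
    refine ⟨W', e, he, kernel.lift _ x (by rw [← Category.assoc, ← hx]; simp), ?_⟩
    rw [← cancel_mono (kernel.ι π)]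
    simp only [Category.assoc, hqi]
    refine hx.trans ?_
    rw [← Category.assoc]
    exact congrArg (· ≫ S.g) (kernel.lift_ι _ _ _).symm
  have hT : T.ShortExact :=
    { exact := by
        rw [ShortComplex.exact_iff_exact_up_to_refinements]
        intro W x hx
        have h0 : (x ≫ i₂) ≫ S.g = 0 := by
          rw [Category.assoc, ← hqi, ← Category.assoc, show x ≫ q = 0 from hx, zero_comp]
        obtain ⟨W', e, he, y, hy⟩ := hS.exact.exact_up_to_refinements _ h0
        refine ⟨W', e, he, y, ?_⟩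
        rw [← cancel_mono i₂]
        simp only [T, Category.assoc, hji, hy]
      mono_f := ‹Mono j›
      epi_g := ‹Epi q› }
  let τ : T ⟶ S := ShortComplex.homMk (𝟙 _) i₂ (kernel.ι π) (by simp [T, hji]) (by simp [T, hqi])
  have hnat := ShortComplex.ShortExact.extClass_naturality hT hS τ
  have hkey : (Ext.mk₀ (kernel.ι π)).comp (hS.extClass.comp (Ext.mk₀ φ) (add_zero 1)) (zero_add 1) =
      hT.extClass.comp (Ext.mk₀ φ) (add_zero 1) := by
    rw [← Ext.comp_assoc_of_third_deg_zero, show Ext.mk₀ (kernel.ι π) = Ext.mk₀ τ.τ₃ from rfl, ← hnat]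
    simp [τ]
  rw [hkey]
  constructor
  · rintro ⟨B, f, g, h, w, hB, hf, hg⟩
    haveI := hB.mono_f
    have h0 : (i₂ ≫ h) ≫ g = 0 := by rw [Category.assoc, hg]; exact kernel.condition _
    obtain ⟨ψ, hψ⟩ := KernelFork.IsLimit.lift' hB.fIsKernel (i₂ ≫ h) h0
    have hψ' : j ≫ ψ = φ := by
      rw [← cancel_mono f, Category.assoc, show ψ ≫ f = i₂ ≫ h from hψ, ← Category.assoc, hji, hf]
    rw [← hψ', ← Ext.mk₀_comp_mk₀]
    exact hT.extClass_comp_assoc _
  · intro h0
    obtain ⟨x₂, hx₂⟩ := Ext.contravariant_sequence_exact₁ hT Q (Ext.mk₀ φ) (add_zero 1) h0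
    obtain ⟨ψ, rfl⟩ := (Ext.mk₀_bijective _ _).2 x₂
    have hψ : j ≫ ψ = φ := (Ext.mk₀_bijective _ _).1 (by rw [← Ext.mk₀_comp_mk₀]; exact hx₂)
    haveI : Mono (pushout.inr i₂ ψ) := Abelian.mono_pushout_of_mono_f _ _
    let g : pushout i₂ ψ ⟶ P := pushout.desc (S.g ≫ π) 0 (by simp [i₂, kernel.condition])
    have hgl : pushout.inl i₂ ψ ≫ g = S.g ≫ π := pushout.inl_desc _ _ _
    have w : pushout.inr i₂ ψ ≫ g = 0 := pushout.inr_desc _ _ _
    haveI : Epi (S.g ≫ π) := epi_comp _ _
    haveI : Epi g := epi_of_epi_fac hgl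
    refine ⟨pushout i₂ ψ, pushout.inr i₂ ψ, g, pushout.inl i₂ ψ, w, { exact := ?_ }, ?_, hgl⟩
    · apply ShortComplex.exact_of_g_is_cokernel
      refine CokernelCofork.IsColimit.ofπ' _ _ fun {W} t ht => ?_
      have hc : i₂ ≫ (pushout.inl i₂ ψ ≫ t) = 0 := by
        rw [← Category.assoc, pushout.condition, Category.assoc, show pushout.inr i₂ ψ ≫ t = 0 from ht, comp_zero]
      obtain ⟨l, hl⟩ := CokernelCofork.IsColimit.desc' (Abelian.epiIsCokernelOfKernel _ (kernelIsKernel (S.g ≫ π))) _ hc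
      refine ⟨l, pushout.hom_ext ?_ ?_⟩
      · rw [← Category.assoc, hgl]; exact hl
      · rw [← Category.assoc, w, zero_comp]; exact ht.symm
    · rw [← hji, Category.assoc, pushout.condition, ← Category.assoc, hψ]

end Groth.Agent.S12058
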