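import Groth.Statements.S1206
import Mathlib.Order.Zorn
import Mathlib.RingTheory.Ideal.Operations
import Mathlib.RingTheory.LocalRing.Basic
import Mathlib.RingTheory.Finiteness.Ideal
import Mathlib.RingTheory.LocalRing.MaximalIdeal.Basic
-- import your own Groth.Agent.* helpers here

set_option autoImplicit false
universe u
open FlatMor

namespace Groth.Agent.S1206

/-- Let A be a local domain which is not a field and 𝒮 a set of finitely generated ideals of A, closed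
under products, such that the union of the closed sets V(I), I ∈ 𝒮, is exactly the set of nonzero
primes (every nonzero prime contains a member of 𝒮 and no member is zero). Then the intersection of
all members of 𝒮 is zero. -/
theorem result (A : Type u) [CommRing A] [IsDomain A] [IsLocalRing A] (hA : ¬ IsField A)
    (𝒮 : Set (Ideal A)) (hfg : ∀ I ∈ 𝒮, I.FG) (hmul : ∀ I ∈ 𝒮, ∀ J ∈ 𝒮, I * J ∈ 𝒮)
    (hne : ∀ I ∈ 𝒮, I ≠ ⊥) (hcov : ∀ (p : Ideal A), p.IsPrime → p ≠ ⊥ → ∃ I ∈ 𝒮, I ≤ p) :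
    sInf 𝒮 = ⊥ := by
  classical
  rw [eq_bot_iff]
  intro f hf
  rw [Submodule.mem_bot]
  by_contra hf0
  rw [Submodule.mem_sInf] at hf
  let 𝔪 := IsLocalRing.maximalIdeal A
  have hm : 𝔪 ≠ ⊥ := fun h => hA (IsLocalRing.isField_iff_maximalIdeal_eq.2 h)
  let J₀ : Ideal A := Ideal.span {f} * 𝔪
  have hno : ∀ I ∈ 𝒮, ¬ I ≤ J₀ := fun I hI hle => by
    obtain ⟨z, hz, e⟩ := Ideal.mem_span_singleton_mul.1 (hle (hf I hI))
    rw [show z = 1 from mul_left_cancel₀ hf0 (by rw [e, mul_one])] at hz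
    exact (Ideal.ne_top_iff_one 𝔪).1 (IsLocalRing.maximalIdeal.isMaximal A).ne_top hz
  let Bad : Set (Ideal A) := {J | ∀ I ∈ 𝒮, ¬ I ≤ J}
  obtain ⟨P, hJP, hP⟩ := zorn_le_nonempty₀ Bad (fun c hc hchain y hy => by
    refine ⟨sSup c, fun I hI hle => ?_, fun J hJ => le_sSup hJ⟩
    obtain ⟨J, hJ, hIJ⟩ := (Submodule.fg_iff_compact I).1 (hfg I hI) c (sSup c)
      ⟨y, hy⟩ hchain.directedOn (isLUB_sSup c) hle
    exact hc hJ I hI hIJ) J₀ hno
  obtain ⟨I₀, hI₀, -⟩ := hcov 𝔪 inferInstance hm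
  have hPtop : P ≠ ⊤ := fun h => hP.1 I₀ hI₀ (h ▸ le_top)
  have hPprime : P.IsPrime := by
    refine ⟨hPtop, fun {a b} hab => ?_⟩
    by_contra! hno'
    have aux : ∀ c ∉ P, ∃ I ∈ 𝒮, I ≤ P ⊔ Ideal.span {c} := fun c hc => by
      by_contra! h
      exact hc (hP.2 h le_sup_left (Ideal.mem_sup_right (Ideal.mem_span_singleton_self c)))
    obtain ⟨I, hI, hIa⟩ := aux a hno'.1
    obtain ⟨I', hI', hIb⟩ := aux b hno'.2
    refine hP.1 _ (hmul I hI I' hI') ((Ideal.mul_mono hIa hIb).trans ?_)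
    rw [Ideal.sup_mul, Ideal.mul_sup, Ideal.mul_sup, Ideal.span_singleton_mul_span_singleton]
    simp only [sup_le_iff, Ideal.span_le, Set.singleton_subset_iff]
    exact ⟨⟨Ideal.mul_le_left, Ideal.mul_le_left⟩, Ideal.mul_le_right, hab⟩
  obtain ⟨c, hc, hc0⟩ := Submodule.exists_mem_ne_zero_of_ne_bot hm
  have hPne : P ≠ ⊥ := fun h => by
    have := hJP (Ideal.mul_mem_mul (Ideal.mem_span_singleton_self f) hc)
    rw [h, Ideal.mem_bot] at this
    exact mul_ne_zero hf0 hc0 this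
  obtain ⟨I, hI, hIP⟩ := hcov P hPprime hPne
  exact hP.1 I hI hIP

end Groth.Agent.S1206
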