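import Groth.Statements.S12063
import Groth.Agent.TorScheme.Normalizer

set_option autoImplicit false
universe u
open CategoryTheory MonoidalCategory CartesianMonoidalCategory MonObj GrpObj AlgebraicGeometry CategoryTheory.Limits
open SGA3x

set_option backward.isDefEq.respectTransparency false

namespace Groth.Agent.S12063

/-- Let G be an S-group scheme, smooth and affine over S, T a maximal torus of G and N = Norm_G(T) its
normalizer. If q : G → Q represents the fppf quotient G/N (q is surjective, flat and locally of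
finite presentation, and G ×_S N → G ×_Q G, (g, n) ↦ (g, g n), is an isomorphism), then Q is affine
over S. (With a maximal torus defined over S the reductive rank of G is locally constant, as the
published statement assumes.) -/
theorem result (S : Scheme.{u}) (G : Over S) [GrpObj G]
    [IsAffineHom G.hom] [Smooth G.hom]
    (T : Over S) [GrpObj T] (i : T ⟶ G) (hT : Red.IsMaximalTorus i)
    (N : Over S) [GrpObj N] (n : N ⟶ G) (hN : Red.IsNormalizerOf i n)
    (Q : Over S) (q : G ⟶ Q) (hq : RedSub.IsQuotient n q) :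
    IsAffineHom Q.hom := by
  have hfp : SGA3x.HasMaxTorusFpqcLocally G :=
    ⟨S, 𝟙 S, inferInstance, inferInstance, fun V hV => ⟨V, hV.isCompact, by simp⟩,
      _, inferInstance, (Over.pullback (𝟙 S)).map i, Groth.Agent.Chev.MaxTorusBC.isMaximalTorus_bc i hT (𝟙 S)⟩
  obtain ⟨P, U, hUg, iu, hP, hsm, haff⟩ := Groth.Agent.TorScheme.exists_torScheme (G := G) hfp
  haveI := hsm
  haveI := haff
  obtain ⟨q₀, hq₀, hrel₀⟩ := Groth.Agent.TorScheme.exists_orbit hP hT n hN
  obtain ⟨hrel, hcov⟩ := Groth.Agent.MTQuot.isRel_of_isQuotient n q hq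
  have hiff : ∀ (X : Over S) (a b : X ⟶ G), a ≫ q = b ≫ q ↔ a ≫ q₀ = b ≫ q₀ := fun X a b => by
    rw [hrel X a b, hrel₀ X a b]
    exact exists_congr fun z => ⟨fun h => by rw [h, inv_mul_cancel_left], fun h => by rw [h, mul_inv_cancel_left]⟩
  haveI := Groth.Agent.CoverMap.epi_over hcov
  haveI := Groth.Agent.CoverMap.epi_over hq₀
  obtain ⟨d, hd, -⟩ := Groth.Agent.CoverMap.existsUnique_fac hcov q₀ fun X a b h => (hiff X a b).1 h
  obtain ⟨d', hd', -⟩ := Groth.Agent.CoverMap.existsUnique_fac hq₀ q fun X a b h => (hiff X a b).2 h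
  let e : Q ≅ P :=
    { hom := d
      inv := d'
      hom_inv_id := by rw [← cancel_epi q, reassoc_of% hd, hd', Category.comp_id]
      inv_hom_id := by rw [← cancel_epi q₀, reassoc_of% hd', hd, Category.comp_id] }
  haveI : IsIso e.hom.left := ((Over.forget S).mapIso e).isIso_hom
  rw [← Over.w e.hom]
  infer_instance

end Groth.Agent.S12063
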