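import Groth.Statements.S12064
import Groth.Agent.TorScheme.WeylQuot

set_option autoImplicit false
universe u
open CategoryTheory MonoidalCategory CartesianMonoidalCategory MonObj GrpObj AlgebraicGeometry CategoryTheory.Limits
open SGA3x

set_option backward.isDefEq.respectTransparency false

namespace Groth.Agent.S12064

/-- Let G be an S-group scheme, smooth and affine over S, T a maximal torus of G, C = Centr_G(T) and N =
Norm_G(T), with C → N the inclusion. Suppose the Weyl group W(T) = N/C is finite over S: some w : N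
→ W represents the fppf quotient of N by C with W finite over S. Then if q′ : G → Q′ represents the
fppf quotient G/C, Q′ is affine over S. -/
theorem result (S : Scheme.{u}) (G : Over S) [GrpObj G]
    [IsAffineHom G.hom] [Smooth G.hom]
    (T : Over S) [GrpObj T] (i : T ⟶ G) (hT : Red.IsMaximalTorus i)
    (C : Over S) [GrpObj C] (c : C ⟶ G) (hC : Red.IsCentralizerOf i c)
    (N : Over S) [GrpObj N] (n : N ⟶ G) (hN : Red.IsNormalizerOf i n)
    (c' : C ⟶ N) [IsMonHom c'] (hc' : c' ≫ n = c)
    (W : Over S) (w : N ⟶ W) (hw : RedSub.IsQuotient c' w) [IsFinite W.hom]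
    (Q' : Over S) (q' : G ⟶ Q') (hq' : RedSub.IsQuotient c q') :
    IsAffineHom Q'.hom := by
  have hfp : SGA3x.HasMaxTorusFpqcLocally G :=
    ⟨S, 𝟙 S, inferInstance, inferInstance, fun V hV => ⟨V, hV.isCompact, by simp⟩,
      _, inferInstance, (Over.pullback (𝟙 S)).map i, Groth.Agent.Chev.MaxTorusBC.isMaximalTorus_bc i hT (𝟙 S)⟩
  obtain ⟨P, U, hUg, iu, hP, hsm, haff⟩ := Groth.Agent.TorScheme.exists_torScheme (G := G) hfp
  haveI := hsm
  haveI := haff
  haveI := hN.1
  haveI := hN.2.1
  obtain ⟨q₀, hq₀, hrel₀⟩ := Groth.Agent.TorScheme.exists_orbit hP hT n hN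
  obtain ⟨d, hd⟩ := Groth.Agent.TorScheme.exists_finite_of_quotients n c c' hc' w hw q₀ hq₀ hrel₀ q' hq'
  haveI := hd
  rw [← Over.w d]
  infer_instance

end Groth.Agent.S12064
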