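import Groth.Statements.S12065
import Groth.Agent.CommMaxTorus.CartanImage
import Groth.Agent.Chev.MaxTorusImage
import Groth.Agent.S4118
import Groth.Agent.S8407

set_option autoImplicit false
universe u
open CategoryTheory MonoidalCategory CartesianMonoidalCategory MonObj GrpObj AlgebraicGeometry
open SGA3x

open CategoryTheory.Limits
set_option linter.style.haveILetI false
set_option backward.isDefEq.respectTransparency false
set_option maxHeartbeats 1000000
set_option synthInstance.maxHeartbeats 400000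

namespace Groth.Agent.S12065

/-- Let G and H be smooth connected algebraic groups (not necessarily affine) over an algebraically
closed field k and v : G → H a surjective homomorphism. Let T be a maximal torus of G and C its
centralizer, and let T′ = v(T), C′ = v(C) be their images: subgroup schemes t′ : T′ → H, c′ : C′ → H
together with flat surjective homomorphisms T → T′ and C → C′ over v. Then C′ is the centralizer of
T′ in H. -/
theorem result (k : Type u) [Field k] [IsAlgClosed k]
    (G H : Over (Spec (CommRingCat.of k))) [GrpObj G] [GrpObj H]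
    [Smooth G.hom] [QuasiCompact G.hom] [ConnectedSpace ↥G.left]
    [Smooth H.hom] [QuasiCompact H.hom] [ConnectedSpace ↥H.left]
    (v : G ⟶ H) [IsMonHom v] [Surjective v.left]
    (T : Over (Spec (CommRingCat.of k))) [GrpObj T] (i : T ⟶ G) (hT : Red.IsMaximalTorus i)
    (C : Over (Spec (CommRingCat.of k))) [GrpObj C] (c : C ⟶ G) (hC : Red.IsCentralizerOf i c)
    (T' : Over (Spec (CommRingCat.of k))) [GrpObj T'] (t' : T' ⟶ H) [IsMonHom t'] [Mono t']
    (wT : T ⟶ T') [IsMonHom wT] [Flat wT.left] [Surjective wT.left] (hwT : wT ≫ t' = i ≫ v)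
    (C' : Over (Spec (CommRingCat.of k))) [GrpObj C'] (c' : C' ⟶ H) [IsMonHom c'] [Mono c']
    (wC : C ⟶ C') [IsMonHom wC] [Flat wC.left] [Surjective wC.left] (hwC : wC ≫ c' = c ≫ v) :
    Red.IsCentralizerOf t' c' := by
  obtain ⟨him, himono, hTt, -⟩ := id hT
  haveI := him; haveI := himono; haveI := hC.1; haveI := hC.2.1
  have hTmax := Chev.Borel.isMaxTorus_of_isMaximalTorus i hT
  haveI := Chev.smooth_of_isTorus hTt
  haveI := Chev.isAffine_of_isTorus hTt
  haveI := Chev.locallyOfFiniteType_of_isTorus hTt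
  haveI : IsAffineHom T.hom := isAffineHom_of_isAffine _
  haveI : IsSeparated G.hom := GrpField.isSeparated_hom G
  haveI : IsSeparated H.hom := GrpField.isSeparated_hom H
  obtain ⟨C₀, _, c₀, hc₀, hc₀c, -⟩ := Groth.Agent.S4118.result _ G T i hT
  haveI := hc₀c; haveI := hc₀.2.1
  haveI : IsClosedImmersion c.left := CommMaxTorus.isClosedImmersion_of_universal c c₀ fun X g =>
    (hC.2.2 X g).trans (hc₀.2.2 X g).symm
  haveI : QuasiCompact C.hom := by rw [← Over.w c]; infer_instance
  obtain ⟨hCs, hCc⟩ := Groth.Agent.S8407.result k G T i hTt C c hC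
  haveI := hCs
  obtain ⟨hT's, hT'q, ht'c⟩ := CommMaxTorus.image_props (i ≫ v) t' wT hwT
  haveI := hT's; haveI := hT'q; haveI := ht'c
  obtain ⟨hC's, hC'q, hc'c⟩ := CommMaxTorus.image_props (c ≫ v) c' wC hwC
  haveI := hC's; haveI := hC'q; haveI := hc'c
  have hT't : Red.IsTorus T' := Chev.isTorus_of_surjective hTt wT
  have hT'm : Red.IsMaximalTorus t' := Chev.Borel.isMaximalTorus_of_isMaxTorus t'
    (Chev.MaxTorusImage.isMaxTorus_image v i hTmax t' hT't wT hwT)
  obtain ⟨C₁, _, c₁, hc₁, hc₁c, -⟩ := Groth.Agent.S4118.result _ H T' t' hT'm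
  haveI := hc₁.1; haveI := hc₁.2.1; haveI := hc₁c
  obtain ⟨hC₁s, hC₁c⟩ := Groth.Agent.S8407.result k H T' t' hT't C₁ c₁ hc₁
  haveI := hC₁s; haveI := hC₁c
  haveI : QuasiCompact C₁.hom := by rw [← Over.w c₁]; infer_instance
  haveI := GrpField.geometricallyIrreducible_of_connected C₁
  haveI : UniversallyOpen C₁.hom := inferInstance
  haveI : IrreducibleSpace C₁.left := GeometricallyIrreducible.irreducibleSpace C₁.hom C₁.hom.isOpenMap
  have hsurj := CommMaxTorus.surjective_cartan_image v i hTmax c hC t' wT hwT c' wC hwC c₁ hc₁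
  obtain ⟨a, ha⟩ : ∃ a : C' ⟶ C₁, a ≫ c₁ = c' := (hc₁.2.2 C' c').2 fun X' x h => by
    haveI : Smooth (C' ⊗ T').hom := by
      show Smooth (pullback.fst C'.hom T'.hom ≫ C'.hom)
      infer_instance
    haveI : AlgebraicGeometry.IsReduced (C' ⊗ T').left := SmoothRed.isReduced_of_smooth_scheme (C' ⊗ T').hom
    have huniv : (fst C' T' ≫ c') * (snd C' T' ≫ t') = (snd C' T' ≫ t') * (fst C' T' ≫ c') :=
      Chev.BorelFixed.hom_ext_rp fun z => by
        obtain ⟨zC, hzC⟩ := Chev.exists_rat_lift wC (z ≫ fst C' T')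
        obtain ⟨zT, hzT⟩ := Chev.exists_rat_lift wT (z ≫ snd C' T')
        have e := congrArg (· ≫ v) ((hC.2.2 _ (zC ≫ c)).1 ⟨zC, rfl⟩ _ (𝟙 _) zT)
        simp only [MonObj.mul_comp, Category.id_comp, Category.assoc, ← hwC, ← hwT, reassoc_of% hzC,
          reassoc_of% hzT] at e
        simp only [MonObj.comp_mul]
        exact e
    have e := congrArg (fun m => lift x h ≫ m) huniv
    simpa only [MonObj.comp_mul, lift_fst_assoc, lift_snd_assoc] using e
  haveI : IsClosedImmersion a.left := by
    haveI : IsClosedImmersion (a.left ≫ c₁.left) := by rw [← Over.comp_left, ha]; infer_instance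
    exact IsClosedImmersion.of_comp a.left c₁.left
  haveI : Surjective a.left := ⟨fun y => by
    obtain ⟨z, hz⟩ := hsurj ⟨y, rfl⟩
    refine ⟨z, c₁.left.isClosedEmbedding.injective ?_⟩
    rw [← hz, ← ha, Over.comp_left, Scheme.Hom.comp_apply]⟩
  haveI : AlgebraicGeometry.IsReduced C₁.left := SmoothRed.isReduced_of_smooth_scheme C₁.hom
  haveI : IsIso a.left := isIso_of_isClosedImmersion_of_surjective a.left
  haveI : IsIso ((Over.forget _).map a) := ‹IsIso a.left›
  haveI : IsIso a := isIso_of_reflects_iso a (Over.forget _)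
  refine ⟨inferInstance, inferInstance, fun X g => Iff.trans ?_ (hc₁.2.2 X g)⟩
  constructor
  · rintro ⟨z, rfl⟩
    exact ⟨z ≫ a, by rw [Category.assoc, ha]⟩
  · rintro ⟨z, rfl⟩
    exact ⟨z ≫ inv a, by rw [Category.assoc, IsIso.inv_comp_eq _ |>.2 ha.symm]⟩

end Groth.Agent.S12065
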