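import Groth.Statements.S1207
import Mathlib.Tactic.LinearCombination
import Mathlib.RingTheory.Ideal.Maps
import Mathlib.RingTheory.Finiteness.Ideal
import Mathlib.RingTheory.LocalRing.MaximalIdeal.Basic
-- import your own Groth.Agent.* helpers here

set_option autoImplicit false
universe u
open FlatMor

namespace Groth.Agent.S1207

/-- Let A be a local ring and I, J ideals of A with J finitely generated, J ≠ A, and I ⊆ J^n for all n ≥
1. Then every prime p not containing J which is maximal among the primes not containing J (a closed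
point of Spec A ∖ V(J)) contains I. (The published statement leaves the hypothesis J ≠ A implicit;
for J = A the assertion fails.) -/
theorem result (A : Type u) [CommRing A] [IsLocalRing A] (I J : Ideal A) (hJ : J.FG) (hJ1 : J ≠ ⊤)
    (hI : ∀ n : ℕ, 1 ≤ n → I ≤ J ^ n) (p : Ideal A) [p.IsPrime] (hp : ¬ J ≤ p)
    (hmax : ∀ (p' : Ideal A), p'.IsPrime → p ≤ p' → ¬ J ≤ p' → p' = p) : I ≤ p := by
  intro a ha
  by_contra hap
  have hrad : J ≤ (p ⊔ Ideal.span {a}).radical := by
    rw [Ideal.radical_eq_sInf]
    refine le_sInf ?_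
    rintro q ⟨hq, hqp⟩
    by_contra hJq
    have : q = p := hmax q hqp (le_sup_left.trans hq) hJq
    exact hap (this ▸ hq (Ideal.mem_sup_right (Ideal.mem_span_singleton_self a)))
  obtain ⟨N, hN⟩ := Ideal.exists_pow_le_of_le_radical_of_fg hrad hJ
  have h1 : a ∈ J * (p ⊔ Ideal.span {a}) := by
    refine Ideal.mul_mono_right hN ?_
    rw [← pow_succ']
    exact hI _ (by omega) ha
  rw [Ideal.mul_sup] at h1
  obtain ⟨x, hx, y, hy, hxy⟩ := Submodule.mem_sup.1 h1
  rw [mul_comm J, Ideal.mem_span_singleton_mul] at hy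
  obtain ⟨j, hj, rfl⟩ := hy
  have h2 : a * (1 - j) ∈ p := by
    have e : a * (1 - j) = x := by rw [mul_sub, mul_one]; exact (sub_eq_iff_eq_add.2 hxy.symm)
    rw [e]
    exact (Ideal.mul_le_right : J * p ≤ p) hx
  refine (Ideal.IsPrime.mem_or_mem inferInstance h2).elim hap fun hmem => ?_
  refine (inferInstance : p.IsPrime).ne_top (p.eq_top_of_isUnit_mem hmem ?_)
  exact IsLocalRing.isUnit_one_sub_self_of_mem_nonunits _
    ((IsLocalRing.mem_maximalIdeal _).1 (IsLocalRing.le_maximalIdeal hJ1 hj))

end Groth.Agent.S1207
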