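import Groth.Statements.S3361
import Groth.Agent.LeffAmple.Algebraize
import Groth.Agent.LeffAmple.RelVan

set_option autoImplicit false
universe u
open CategoryTheory CategoryTheory.Limits AlgebraicGeometry
open LefX

namespace Groth.Agent.S3361

/-- Over an affine base. Let A be a Noetherian ring, X a proper flat A-scheme, 𝓘 a quasi-coherent ideal
whose ideal module is invertible with ample inverse L, such that the closed subscheme X_0 = V(𝓘) is
also flat over A (so 𝓘 is cut out by a section t of L whose restriction to every fibre is regular).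
Assume that for every s the fibre (X_0)_s has depth ≥ 2 at its closed points and the fibre X_s has
depth ≥ 2 at its closed points. Then the effective Lefschetz condition Leff(X, X_0) holds: Lef(X,
X_0), and every levelwise finite locally free system of modules on the completion of X along X_0 is
the completion of a finite locally free module defined on an open neighbourhood of X_0. -/
theorem result (A : Type u) [CommRing A] [IsNoetherianRing A] (X : Scheme.{u}) [X.Over (Spec (CommRingCat.of A))] [IsProper (X ↘ Spec (CommRingCat.of A))] [Flat (X ↘ Spec (CommRingCat.of A))] (𝓘 : X.IdealSheafData) (L : X.Modules) (hL : ClSub.IsInverseOf L (ClSub.idealMod 𝓘)) (hamp : CohB1.IsAmple L) [Flat (𝓘.subschemeι ≫ (X ↘ Spec (CommRingCat.of A)))] (hdepth0 : ∀ y : ↥(𝓘.subscheme), IsClosed ({((𝓘.subschemeι ≫ (X ↘ Spec (CommRingCat.of A)))).asFiber y} : Set ↥(((𝓘.subschemeι ≫ (X ↘ Spec (CommRingCat.of A)))).fiber (((𝓘.subschemeι ≫ (X ↘ Spec (CommRingCat.of A)))).base y))) → (2 : ℕ∞) ≤ LocCoh.depth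 ↑(CInt.fiberStalk (𝓘.subschemeι ≫ (X ↘ Spec (CommRingCat.of A))) y) ↑(CInt.fiberStalk (𝓘.subschemeι ≫ (X ↘ Spec (CommRingCat.of A))) y)) (hdepth : ∀ x : X, IsClosed ({((X ↘ Spec (CommRingCat.of A))).asFiber x} : Set ↥(((X ↘ Spec (CommRingCat.of A))).fiber (((X ↘ Spec (CommRingCat.of A))).base x))) → (2 : ℕ∞) ≤ LocCoh.depth ↑(CInt.fiberStalk (X ↘ Spec (CommRingCat.of A)) x) ↑(CInt.fiberStalk (X ↘ Spec (CommRingCat.of A)) x)) : LefX.LeffCond X 𝓘 := by
  have hi : PicF.IsInvertible (ClSub.idealMod 𝓘) :=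
    (Groth.Agent.S8914.result 𝓘).2 (Groth.Agent.LeffAmple.isEffCartier_of_inverse hL)
  obtain ⟨e⟩ := hL
  have hinv : ClSub.IsInverseOf (ClSub.idealMod 𝓘) L := ⟨TMul.commIso _ _ ≪≫ e⟩
  have hL' : ClSub.IsInverseOf L (ClSub.idealMod 𝓘) := ⟨e⟩
  refine ⟨Groth.Agent.LefRel.lefCond A hL' hamp hdepth, fun 𝔐 h𝔐 => ?_⟩
  refine Groth.Agent.LeffAmple.exists_algebraization A hL' hamp (fun P hP =>
    Groth.Agent.LefRel.homToFormal_coherent A hL' hamp hdepth P
      (Groth.Agent.K0Coh.isCoh_of_isFinLocFree (Groth.Agent.ResDesc.isFinLocFree_of_isInvertible hP))) ?_ 𝔐 h𝔐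
  have key : ∀ J : X.IdealSheafData, J = 𝓘 → ∀ G : (J.subscheme).Modules, FlatMod.IsFinLocFree G →
      ∃ m₀, ∀ m, m₀ ≤ m → Subsingleton (Coh.HH X (CohB1.tensorMod ((Scheme.Modules.pushforward J.subschemeι).obj G)
        (CohB1.tensorPow (ClSub.idealMod 𝓘) m)) 1) := by
    intro J hJ G hG
    subst hJ
    exact Groth.Agent.LeffAmple.exists_van_closed A J.subschemeι 2 hdepth0 hamp hi hinv G hG 1 one_lt_two
  exact key _ (pow_one 𝓘)

end Groth.Agent.S3361
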