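import Groth.Statements.S12070
import Groth.Agent.S3361
import Groth.Agent.LefEssSurj.Pure
import Groth.Agent.CIPicGlobal.Main
import Groth.Agent.LefZero.Depth

set_option autoImplicit false
set_option backward.isDefEq.respectTransparency false
set_option backward.isDefEq.respectTransparency.types false
set_option maxHeartbeats 1000000
set_option linter.style.haveILetI false

universe u
open Pi1

namespace Groth.Agent.S12070

open AlgebraicGeometry CategoryTheory CategoryTheory.Limits in
/-- Let X be a proper scheme over a field k, L an ample O_X-module, t a global section of L which is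
regular (the map O_X → L it defines is a monomorphism) and X_0 = Z(t) its zero scheme. Assume that
the local ring of X at every closed point has depth ≥ 2, that it has depth ≥ 3 at every closed point
of X_0, and that purity holds for the local ring of X at every closed point not in X_0 (for instance
a regular local ring or a complete intersection). Then restriction of finite étale covers from X to
X_0 is an equivalence of categories; in particular, for a geometric base point on X_0, π_1(X_0) →
π_1(X) is an isomorphism. (The published statement is phrased with π_0 and π_1; this row states the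
equivalence of the categories of finite étale covers that underlies it.) -/
theorem result (k : Type u) [Field k] (X : Scheme.{u})
    (f : X ⟶ Spec (CommRingCat.of k)) [IsProper f] (L : X.Modules) (hL : CohB1.IsAmple L)
    (s : Coh.structureModule X ⟶ L) [Mono s]
    (hd2 : ∀ x : X, IsClosed ({x} : Set X) → (2 : ℕ∞) ≤ LocCoh.depth (X.presheaf.stalk x) (X.presheaf.stalk x))
    (hd3 : ∀ x : X, IsClosed ({x} : Set X) → x ∈ (PicF2.zeroScheme L s).support →
      (3 : ℕ∞) ≤ LocCoh.depth (X.presheaf.stalk x) (X.presheaf.stalk x))
    (hp : ∀ x : X, IsClosed ({x} : Set X) → x ∉ (PicF2.zeroScheme L s).support →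
      FEt.PurityHolds (X.presheaf.stalk x)) :
    (FEt.restrict (PicF2.zeroScheme L s).subschemeι).IsEquivalence := by
  letI : X.Over (Spec (CommRingCat.of k)) := ⟨f⟩
  haveI : IsProper (X ↘ Spec (CommRingCat.of k)) := ‹IsProper f›
  haveI : IsLocallyNoetherian X := LocallyOfFiniteType.isLocallyNoetherian f
  let I := PicF2.zeroScheme L s
  obtain ⟨hE, hinv⟩ := Groth.Agent.LefZero.isInverseOf_zeroScheme hL.1 s
  haveI : IsLocallyNoetherian I.subscheme := LocallyOfFiniteType.isLocallyNoetherian I.subschemeι
  haveI : Flat (X ↘ Spec (CommRingCat.of k)) := inferInstance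
  haveI : Flat (I.subschemeι ≫ (X ↘ Spec (CommRingCat.of k))) := inferInstance
  have hdepth : ∀ {Y : Scheme.{u}} [IsLocallyNoetherian Y] (g : Y ⟶ Spec (CommRingCat.of k)) (y : Y) (n : ℕ∞),
      n ≤ LocCoh.depth (Y.presheaf.stalk y) (Y.presheaf.stalk y) →
        n ≤ LocCoh.depth ↑(CInt.fiberStalk g y) ↑(CInt.fiberStalk g y) := fun g y n hn => by
    obtain ⟨e⟩ := Groth.Agent.CIPicGlobal.nonempty_fiberStalk_field g y
    haveI : IsNoetherianRing ↑(CInt.fiberStalk g y) := isNoetherianRing_of_ringEquiv _ e
    rwa [← Groth.Agent.FlatDepth.depth_ringEquiv e]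
  have hLeff : LefX.LeffCond X I := by
    refine Groth.Agent.S3361.result k X I L hinv hL (fun y hy => hdepth _ y _ ?_) fun x hx => hdepth _ x _ ?_
    · have hyc := Groth.Agent.CIPicGlobal.isClosed_singleton_of_asFiber _ hy
      have hxc : IsClosed ({I.subschemeι y} : Set X) := by
        rw [← Set.image_singleton]
        exact I.subschemeι.isClosedEmbedding.isClosedMap _ hyc
      refine Groth.Agent.LefZero.le_depth_stalk_cartier I hE y (n := 2) ?_
      exact le_trans (le_of_eq (by norm_num)) (hd3 _ hxc (Set.mem_of_eq_of_mem rfl ((Scheme.IdealSheafData.range_subschemeι I).subset ⟨y, rfl⟩)))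
    · exact hd2 x (Groth.Agent.CIPicGlobal.isClosed_singleton_of_asFiber _ hx)
  refine Groth.Agent.LefEssSurj.isEquivalence_of_leff_pure I hLeff fun U hU x hx => ?_
  have hxc : IsClosed ({x} : Set X) := Groth.Agent.CIPicGlobal.isClosed_singleton_of_asFiber f
    (Groth.Agent.LefDiv.isClosed_asFiber_of_disjoint f I L hinv hL ((U : Set X)ᶜ) U.isOpen.isClosed_compl
      (Set.disjoint_left.2 fun z hz hz' => hz (hU hz')) x hx)
  exact ⟨hd2 x hxc, hp x hxc fun h => hx (hU h)⟩

end Groth.Agent.S12070
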