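import Groth.Statements.S12071
import Mathlib.GroupTheory.Archimedean


set_option autoImplicit false
open RootD

namespace Groth.Agent.S12071

/-- Let G be the group generated by two elements x, y subject to x² = y² = 1 (the infinite dihedral
group; here Mathlib's DihedralGroup 0 with x = sr 0 and y = sr 1, so that x y = r 1). Then every
normal subgroup of G containing neither x nor y is generated by an element (x y)^n with n > 0; such
a subgroup is cyclic, generated by r n. (The published statement does not exclude the trivial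
subgroup, for which no n > 0 works; this row assumes the subgroup nontrivial.) -/
theorem result (N : Subgroup (DihedralGroup 0)) [N.Normal]
    (hN : N ≠ ⊥) (hx : DihedralGroup.sr (0 : ZMod 0) ∉ N) (hy : DihedralGroup.sr (1 : ZMod 0) ∉ N) :
    ∃ n : ℕ, 0 < n ∧ N = Subgroup.zpowers (DihedralGroup.r (n : ZMod 0)) := by
  open DihedralGroup in
  have hcj : ∀ i j : ZMod 0, sr i ∈ N → sr (2 * j - i) ∈ N := fun i j h => by
    have := ‹N.Normal›.conj_mem _ h (sr j)
    simp only [inv_sr, sr_mul_sr, r_mul_sr] at this
    convert this using 2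
    ring
  have hsr : ∀ i : ℤ, DihedralGroup.sr (i : ZMod 0) ∉ N := by
    intro i h
    rcases Int.even_or_odd i with ⟨q, rfl⟩ | ⟨q, rfl⟩
    · have h1 := hcj _ (q : ZMod 0) h
      exact hx (by convert h1 using 2; show (0 : ℤ) = 2 * q - (q + q); omega)
    · have h1 := hcj _ ((q + 1 : ℤ) : ZMod 0) h
      exact hy (by convert h1 using 2; show (1 : ℤ) = 2 * (q + 1) - (2 * q + 1); omega)
  let H : AddSubgroup ℤ :=
    { carrier := {i : ℤ | DihedralGroup.r (i : ZMod 0) ∈ N}
      zero_mem' := by show DihedralGroup.r ((0 : ℤ) : ZMod 0) ∈ N; exact N.one_mem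
      add_mem' := fun {a b} ha hb => by
        have := N.mul_mem ha hb
        rw [DihedralGroup.r_mul_r] at this
        exact this
      neg_mem' := fun {a} ha => by
        have := N.inv_mem ha
        rw [DihedralGroup.inv_r] at this
        exact this }
  obtain ⟨n, hn⟩ := Int.subgroup_cyclic H
  have hnpos : n ≠ 0 := by
    rintro rfl
    refine hN ((Subgroup.eq_bot_iff_forall N).mpr fun g hg => ?_)
    rcases g with i | i
    · obtain ⟨k, hk⟩ := (AddSubgroup.mem_closure_singleton (x := (0 : ℤ)) (y := (i : ℤ))).mp (hn.le hg)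
      rw [smul_zero] at hk
      rw [show i = 0 from hk.symm]
      rfl
    · exact absurd hg (hsr i)
  refine ⟨n.natAbs, Int.natAbs_pos.mpr hnpos, ?_⟩
  have hnat : ((n.natAbs : ℕ) : ZMod 0) = (n.natAbs : ℤ) := rfl
  rw [hnat]
  ext g
  rw [Subgroup.mem_zpowers_iff]
  constructor
  · intro hg
    rcases g with i | i
    · obtain ⟨k, hk⟩ := (AddSubgroup.mem_closure_singleton (x := n) (y := (i : ℤ))).mp (hn.le hg)
      refine ⟨k * n.sign, ?_⟩
      refine (DihedralGroup.r_zpow _ _).trans (congrArg DihedralGroup.r ?_)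
      show (n.natAbs : ℤ) * (k * n.sign) = i
      rw [show i = k • n from hk.symm, smul_eq_mul, ← mul_assoc, mul_comm _ k, mul_assoc, mul_comm _ n.sign,
        Int.sign_mul_natAbs]
    · exact absurd hg (hsr i)
  · rintro ⟨k, rfl⟩
    refine N.zpow_mem ?_ k
    show ((n.natAbs : ℕ) : ℤ) ∈ H
    rw [hn, AddSubgroup.mem_closure_singleton]
    exact ⟨n.sign, by rw [smul_eq_mul, Int.sign_mul_self_eq_natAbs]⟩

end Groth.Agent.S12071
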