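import Groth.Statements.S12072
import Groth.Agent.CommMaxTorus.TorusImageMax
import Groth.Agent.S12065
import Groth.Agent.S4118
import Groth.Agent.S8407
import Groth.Agent.MTImage.CartanField

set_option autoImplicit false
universe u
open CategoryTheory MonoidalCategory CartesianMonoidalCategory MonObj GrpObj AlgebraicGeometry
open SGA3x

open CategoryTheory.Limits
set_option linter.style.haveILetI false
set_option backward.isDefEq.respectTransparency false
set_option maxHeartbeats 1000000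
set_option synthInstance.maxHeartbeats 400000

namespace Groth.Agent.S12072

/-- Let G and H be smooth connected algebraic groups (not necessarily affine) over an algebraically
closed field k and v : G → H a surjective homomorphism. Then the Cartan subgroups of H are the
images of the Cartan subgroups of G: if C is a Cartan subgroup of G and c′ : C′ → H a subgroup
scheme with a flat surjective homomorphism C → C′ over v (so C′ = v(C)), then C′ is a Cartan
subgroup of H; and every Cartan subgroup C′ of H arises in this way from some Cartan subgroup C of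
G. -/
theorem result (k : Type u) [Field k] [IsAlgClosed k]
    (G H : Over (Spec (CommRingCat.of k))) [GrpObj G] [GrpObj H]
    [Smooth G.hom] [QuasiCompact G.hom] [ConnectedSpace ↥G.left]
    [Smooth H.hom] [QuasiCompact H.hom] [ConnectedSpace ↥H.left]
    (v : G ⟶ H) [IsMonHom v] [Surjective v.left] :
    (∀ (C : Over (Spec (CommRingCat.of k))) [GrpObj C] (c : C ⟶ G), SGA3x.IsCartanOver k c →
      ∀ (C' : Over (Spec (CommRingCat.of k))) [GrpObj C'] (c' : C' ⟶ H) [IsMonHom c'] [Mono c'] (w : C ⟶ C') [IsMonHom w]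
        [Flat w.left] [Surjective w.left], w ≫ c' = c ≫ v → SGA3x.IsCartanOver k c') ∧
    (∀ (C' : Over (Spec (CommRingCat.of k))) [GrpObj C'] (c' : C' ⟶ H), SGA3x.IsCartanOver k c' →
      ∃ (C : Over (Spec (CommRingCat.of k))) (_ : GrpObj C) (c : C ⟶ G) (w : C ⟶ C'), SGA3x.IsCartanOver k c ∧ IsMonHom w ∧
        Flat w.left ∧ Surjective w.left ∧ w ≫ c' = c ≫ v) := by
  haveI : IsSeparated G.hom := GrpField.isSeparated_hom G
  refine ⟨fun C _ c hc C' _ c' _ _ w _ _ _ hw => ?_, fun C' _ c' hc' => ?_⟩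
  · obtain ⟨hcm, hcmono, T, _, i, hi, hC⟩ := hc
    obtain ⟨T', _, t', wT, ht'm, ht'mono, hwm, hwf, hws, ht'max, hwT⟩ := CommMaxTorus.exists_image_maxTorus v i hi
    haveI := ht'm; haveI := ht'mono; haveI := hwm; haveI := hwf; haveI := hws
    exact ⟨inferInstance, inferInstance, T', inferInstance, t', ht'max,
      Groth.Agent.S12065.result k G H v T i hi C c hC T' t' wT hwT C' c' w hw⟩
  obtain ⟨hc'm, hc'mono, T₂, _, i₂, hi₂, hC₂⟩ := hc'
  haveI := hc'm; haveI := hc'mono; haveI := hi₂.1; haveI := hi₂.2.1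
  obtain ⟨T, _, i, hi⟩ := MTImage.exists_maxTorus_general G
  haveI := hi.1
  obtain ⟨T', _, t', wT, ht'm, ht'mono, hwm, hwf, hws, ht'max, hwT⟩ := CommMaxTorus.exists_image_maxTorus v i hi
  haveI := ht'm; haveI := ht'mono; haveI := hwm; haveI := hwf; haveI := hws
  obtain ⟨h, φ, hφ⟩ := MTImage.exists_conjBy_maxTori t' (Chev.Borel.isMaxTorus_of_isMaximalTorus t' ht'max) i₂
    (Chev.Borel.isMaxTorus_of_isMaximalTorus i₂ hi₂)
  obtain ⟨g, hg⟩ := Chev.exists_rat_lift v h
  have hgmax := Chev.Borel.isMaxTorus_conjBy g i (Chev.Borel.isMaxTorus_of_isMaximalTorus i hi)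
  haveI := hgmax.1; haveI := hgmax.2.1
  have hgm : Red.IsMaximalTorus (AGF.conjBy g i) := Chev.Borel.isMaximalTorus_of_isMaxTorus _ hgmax
  let w₂ : T ⟶ T₂ := wT ≫ φ.hom
  have hw₂ : w₂ ≫ i₂ = AGF.conjBy g i ≫ v := by
    have e := congrArg (wT ≫ ·) hφ
    simp only [MonObj.comp_mul, GrpObj.comp_inv, comp_toUnit_assoc, hwT] at e
    simp only [w₂, Category.assoc, AGF.conjBy, MonObj.mul_comp, GrpObj.inv_comp, hg, ← e]
  haveI : IsMonHom φ.hom := by
    haveI := Chev.Borel.isMonHom_conjBy h t'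
    exact MTSplit.isMonHom_of_comp_mono φ.hom i₂ (AGF.conjBy h t') hφ.symm
  haveI : IsMonHom w₂ := inferInstanceAs (IsMonHom (wT ≫ φ.hom))
  haveI : IsIso φ.hom.left := inferInstanceAs (IsIso ((Over.forget _).map φ.hom))
  haveI : Flat w₂.left := inferInstanceAs (Flat (wT.left ≫ φ.hom.left))
  haveI : Surjective w₂.left := inferInstanceAs (Surjective (wT.left ≫ φ.hom.left))
  obtain ⟨C, _, c, hC, hcc, -⟩ := Groth.Agent.S4118.result _ G T (AGF.conjBy g i) hgm
  haveI := hC.1; haveI := hC.2.1; haveI := hcc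
  haveI : QuasiCompact C.hom := by rw [← Over.w c]; infer_instance
  haveI := (Groth.Agent.S8407.result k G T (AGF.conjBy g i) hgm.2.2.1 C c hC).1
  obtain ⟨P, _, cP, wC, hcPm, hcPmono, hwCm, hwCf, hwCs, -, -, hwC⟩ := CommMaxTorus.exists_image_flat (c ≫ v)
  haveI := hcPm; haveI := hcPmono; haveI := hwCm; haveI := hwCf; haveI := hwCs
  have hP := Groth.Agent.S12065.result k G H v T (AGF.conjBy g i) hgm C c hC T₂ i₂ w₂ hw₂ P cP wC hwC
  obtain ⟨a, ha⟩ := (hC₂.2.2 P cP).2 ((hP.2.2 P cP).1 ⟨𝟙 P, Category.id_comp _⟩)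
  obtain ⟨b, hb⟩ := (hP.2.2 C' c').2 ((hC₂.2.2 C' c').1 ⟨𝟙 C', Category.id_comp _⟩)
  haveI : IsIso a := ⟨b, by rw [← cancel_mono cP, Category.assoc, hb, ha, Category.id_comp],
    by rw [← cancel_mono c', Category.assoc, ha, hb, Category.id_comp]⟩
  haveI : IsMonHom a := MTSplit.isMonHom_of_comp_mono a c' cP ha
  haveI : IsIso a.left := inferInstanceAs (IsIso ((Over.forget _).map a))
  exact ⟨C, inferInstance, c, wC ≫ a, ⟨inferInstance, inferInstance, T, inferInstance, _, hgm, hC⟩,
    inferInstance, inferInstanceAs (Flat (wC.left ≫ a.left)), inferInstanceAs (Surjective (wC.left ≫ a.left)),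
    by rw [Category.assoc, ha, hwC]⟩

end Groth.Agent.S12072
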