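import Groth.Statements.S12076
import Groth.Agent.RootSys.BaseGen

set_option autoImplicit false
open RootD

namespace Groth.Agent.S12076

open Groth.Agent.RootSys

/-- Let Δ be a system of simple roots (a base b of a root pairing P over ℤ) and Γ₀ the subgroup
generated by the roots. Then Γ₀ has a structure of totally ordered group for which the roots > 0 are
exactly the positive roots defined by Δ and for which the height (the additive function with value 1
on each simple root) is monotone. The order is given here by its positive cone C ⊆ Γ₀: 0 ∉ C, C + C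
⊆ C, and for every x ≠ 0 exactly one of x, −x lies in C (x < y meaning y − x ∈ C). -/
theorem result {ι M N : Type*} [AddCommGroup M] [AddCommGroup N]
    (P : RootPairing ι ℤ M N) [Finite ι] (b : P.Base) :
    ∃ C : Set ↥(Submodule.span ℤ (Set.range P.root)),
      0 ∉ C ∧ (∀ x ∈ C, ∀ y ∈ C, x + y ∈ C) ∧ (∀ x, x ≠ 0 → (x ∈ C ∨ -x ∈ C)) ∧ (∀ x ∈ C, -x ∉ C) ∧
      (∀ i : ι, (⟨P.root i, Submodule.subset_span (Set.mem_range_self i)⟩ : ↥(Submodule.span ℤ (Set.range P.root))) ∈ C ↔
        b.IsPos i) ∧
      ∀ φ : ↥(Submodule.span ℤ (Set.range P.root)) →+ ℤ,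
        (∀ j ∈ b.support, φ ⟨P.root j, Submodule.subset_span (Set.mem_range_self j)⟩ = 1) →
        ∀ x y : ↥(Submodule.span ℤ (Set.range P.root)), y - x ∈ C → φ x ≤ φ y := by
  classical
  let V : Submodule ℤ M := Submodule.span ℤ (Set.range P.root)
  have hspan : Submodule.span ℤ (Set.range fun a : b.support => P.root (a : ι)) = V := by
    refine le_antisymm (Submodule.span_mono (by rintro _ ⟨a, rfl⟩; exact ⟨_, rfl⟩)) (Submodule.span_le.mpr ?_)
    rintro _ ⟨i, rfl⟩
    obtain ⟨f, -, -, hf⟩ := b.exists_root_eq_sum_int i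
    rw [hf]
    exact Submodule.sum_mem _ fun j hj => Submodule.smul_mem _ _ (Submodule.subset_span ⟨⟨j, hj⟩, rfl⟩)
  let B : Module.Basis b.support ℤ V :=
    (Module.Basis.span b.linearIndepOn_root.linearIndependent).map (LinearEquiv.ofEq _ _ hspan)
  have hB : ∀ a, ((B a : V) : M) = P.root (a : ι) := fun a => by
    simp [B, Module.Basis.span_apply]
  let φ₀ : V →ₗ[ℤ] ℤ := B.constr ℤ fun _ => 1
  let e := (Fintype.equivFin b.support)
  let χ : V → Lex (Fin (Fintype.card b.support) → ℤ) := fun x => toLex fun a => B.repr x (e.symm a)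
  have χadd : ∀ x y, χ (x + y) = χ x + χ y := fun x y => funext fun a => by simp [χ]; rfl
  have χneg : ∀ x, χ (-x) = -χ x := fun x => funext fun a => by simp [χ]; rfl
  refine ⟨{x | 0 < φ₀ x ∨ (φ₀ x = 0 ∧ 0 < χ x)}, ?_, ?_, ?_, ?_, fun i => ?_, fun φ hφ x y hxy => ?_⟩
  · rintro (h | ⟨-, h⟩)
    · simp at h
    · have : χ 0 = 0 := funext fun a => by simp [χ]; rfl
      rw [this] at h; exact lt_irrefl _ h
  · intro x hx y hy
    simp only [Set.mem_setOf_eq, map_add, χadd] at hx hy ⊢
    rcases hx with hx | ⟨hx, hx'⟩ <;> rcases hy with hy | ⟨hy, hy'⟩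
    · exact Or.inl (by omega)
    · exact Or.inl (by omega)
    · exact Or.inl (by omega)
    · exact Or.inr ⟨by omega, add_pos hx' hy'⟩
  · intro x hx
    simp only [Set.mem_setOf_eq, map_neg, χneg, neg_pos]
    rcases lt_trichotomy (φ₀ x) 0 with h | h | h
    · exact Or.inr (Or.inl h)
    · rcases lt_trichotomy (χ x) 0 with h' | h' | h'
      · exact Or.inr (Or.inr ⟨by omega, h'⟩)
      · refine absurd (B.repr.injective (Finsupp.ext fun a => ?_)) hx
        have h2 : B.repr x (e.symm (e a)) = 0 := congrFun h' (e a)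
        rw [e.symm_apply_apply] at h2
        simpa using h2
      · exact Or.inl (Or.inr ⟨h, h'⟩)
    · exact Or.inl (Or.inl h)
  · intro x hx hn
    simp only [Set.mem_setOf_eq, map_neg, χneg, neg_pos] at hx hn
    rcases hx with hx | ⟨hx, hx'⟩ <;> rcases hn with hn | ⟨hn, hn'⟩
    · omega
    · omega
    · omega
    · exact lt_asymm hx' hn'
  · obtain ⟨f, -, -, hf⟩ := b.exists_root_eq_sum_int i
    have hx : (⟨P.root i, Submodule.subset_span (Set.mem_range_self i)⟩ : V) = ∑ a : b.support, f a • B a := by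
      refine Subtype.ext ?_
      rw [Submodule.coe_sum]
      simp only [Submodule.coe_smul, hB]
      rw [Finset.sum_coe_sort b.support fun a => f a • P.root a]
      exact hf
    have hval : φ₀ ⟨P.root i, Submodule.subset_span (Set.mem_range_self i)⟩ = b.height i := by
      rw [hx, map_sum, RootPairing.Base.height_eq_sum hf, ← Finset.sum_coe_sort b.support]
      simp [φ₀]
    simp only [Set.mem_setOf_eq]
    rw [hval, RootPairing.Base.isPos_iff]
    exact ⟨fun h => h.resolve_right fun h' => b.height_ne_zero i h'.1, Or.inl⟩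
  · have hφ₀ : φ.toIntLinearMap = φ₀ := B.ext fun a => by
      rw [show B a = ⟨P.root (a : ι), Submodule.subset_span (Set.mem_range_self (a : ι))⟩ from Subtype.ext (hB a)]
      refine (hφ a a.2).trans ?_
      rw [← show B a = ⟨P.root (a : ι), Submodule.subset_span (Set.mem_range_self (a : ι))⟩ from Subtype.ext (hB a)]
      simp [φ₀]
    have h0 : 0 ≤ φ (y - x) := by
      rw [show φ (y - x) = φ₀ (y - x) from LinearMap.congr_fun hφ₀ (y - x)]
      rcases hxy with h | h
      · exact h.le
      · exact h.1.ge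
    rw [map_sub] at h0
    omega

end Groth.Agent.S12076
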