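import Groth.Statements.S12077
import Mathlib
import Groth.Agent.SplitAlg.Basic

set_option autoImplicit false
universe u
open Polynomial
open CAlg

namespace Groth.Agent.S12077

def chainMap {G : ℕ → Type u} [∀ n, CommRing (G n)] (ι : ∀ n, G n →+* G (n + 1)) (i j : ℕ) (h : i ≤ j) : G i →+* G j :=
  Nat.leRecOn (C := fun k => G i →+* G k) h (fun {k} φ => (ι k).comp φ) (RingHom.id _)

/-- Every commutative ring `A` admits an injective ring map into an absolutely integrally closed
commutative ring `B`, that is, one over which every monic polynomial is a product of linear factors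
`X - b`. (Only the existence of such an extension is stated, not the finer structure of the
construction.) -/
theorem result (A : Type u) [CommRing A] :
    ∃ (B : Type u) (_ : CommRing B) (_ : Algebra A B), Function.Injective (algebraMap A B) ∧
      ∀ f : B[X], f.Monic → ∃ s : Multiset B, f = (s.map fun b => X - C b).prod := by
  classical
  have fin : ∀ (A : Type u) [CommRing A] (s : Finset A[X]), (∀ f ∈ s, f.Monic) →
      ∃ (S : Type u) (_ : CommRing S) (φ : A →+* S), Function.Injective φ ∧
        ∀ f ∈ s, ∃ a : Fin f.natDegree → S, f.map φ = ∏ i, (X - C (a i)) := by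
    intro A _ s
    induction s using Finset.induction with
    | empty => exact fun _ => ⟨A, inferInstance, RingHom.id A, Function.injective_id, fun f hf => absurd hf (Finset.notMem_empty f)⟩
    | insert f s _ ih =>
      intro hm
      obtain ⟨S, _, φ, hφ, hs⟩ := ih fun g hg => hm g (Finset.mem_insert_of_mem hg)
      rcases subsingleton_or_nontrivial A with hA | hA
      · refine ⟨A, inferInstance, RingHom.id A, Function.injective_id, fun g hg => ⟨0, Subsingleton.elim _ _⟩⟩
      · haveI : Nontrivial S := hφ.nontrivial
        obtain ⟨T, _, _, -, -, hff, a, ha⟩ := Groth.Agent.SplitAlg.exists_split f.natDegree S (f.map φ)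
          ((hm f (Finset.mem_insert_self f s)).map φ) ((hm f (Finset.mem_insert_self f s)).natDegree_map φ)
        refine ⟨T, inferInstance, (algebraMap S T).comp φ, (FaithfulSMul.algebraMap_injective S T).comp hφ, fun g hg => ?_⟩
        rcases Finset.mem_insert.1 hg with rfl | hg
        · exact ⟨a, by rw [← Polynomial.map_map, ha]⟩
        · obtain ⟨b, hb⟩ := hs g hg
          exact ⟨fun i => algebraMap S T (b i), by rw [← Polynomial.map_map, hb, Polynomial.map_prod]; simp⟩
  have step : ∀ A : CommRingCat.{u}, ∃ (B : CommRingCat.{u}) (φ : A →+* B), Function.Injective φ ∧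
      ∀ f : Polynomial A, f.Monic → ∃ s : Multiset B, f.map φ = (s.map fun b => X - C b).prod := by
    intro A
    let σ := Σ f : {f : Polynomial A // f.Monic}, Fin f.1.natDegree
    let rel : {f : Polynomial A // f.Monic} → Polynomial (MvPolynomial σ A) := fun f =>
      ∏ i, (X - C (MvPolynomial.X (⟨f, i⟩ : σ))) - f.1.map MvPolynomial.C
    let J : Ideal (MvPolynomial σ A) := Ideal.span (Set.range fun x : {f : Polynomial A // f.Monic} × ℕ => (rel x.1).coeff x.2)
    refine ⟨CommRingCat.of (MvPolynomial σ A ⧸ J), (Ideal.Quotient.mk J).comp MvPolynomial.C,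
      (injective_iff_map_eq_zero _).2 fun a ha => ?_, fun f hf => ?_⟩
    · rw [RingHom.comp_apply, Ideal.Quotient.eq_zero_iff_mem] at ha
      obtain ⟨T, hT, haT⟩ := Submodule.mem_span_finite_of_mem_span ha
      haveI : Nonempty ({f : Polynomial A // f.Monic} × ℕ) := ⟨⟨⟨1, monic_one⟩, 0⟩⟩
      choose! x hx using fun t (ht : t ∈ T) => hT ht
      rcases subsingleton_or_nontrivial A with hA | hA
      · exact Subsingleton.elim _ _
      let s : Finset {f : Polynomial A // f.Monic} := T.image fun t => (x t).1
      obtain ⟨S, _, φ, hφ, hs⟩ := fin A (s.image Subtype.val) (fun f hf => by obtain ⟨g, -, rfl⟩ := Finset.mem_image.1 hf; exact g.2)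
      choose! r hr using fun (f : {f : Polynomial A // f.Monic}) (hf : f ∈ s) => hs f.1 (Finset.mem_image_of_mem _ hf)
      let ev : MvPolynomial σ A →+* S := MvPolynomial.eval₂Hom φ fun v => r v.1 v.2
      have hker : Ideal.span (T : Set (MvPolynomial σ A)) ≤ RingHom.ker ev := by
        rw [Ideal.span_le]
        intro t ht
        rw [SetLike.mem_coe, RingHom.mem_ker, ← hx t ht, ← Polynomial.coeff_map]
        have h0 : (rel (x t).1).map ev = 0 := by
          simp only [rel, Polynomial.map_sub, Polynomial.map_prod, Polynomial.map_X, Polynomial.map_C, Polynomial.map_map, ev]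
          rw [show (MvPolynomial.eval₂Hom φ fun v : σ => r v.1 v.2).comp MvPolynomial.C = φ from RingHom.ext fun a => MvPolynomial.eval₂Hom_C _ _ a,
            hr _ (Finset.mem_image_of_mem _ ht)]
          simp
        simp [h0]
      refine hφ ?_
      rw [map_zero]
      have h1 := hker haT
      rwa [RingHom.mem_ker, MvPolynomial.eval₂Hom_C] at h1
    · refine ⟨Finset.univ.val.map fun i => Ideal.Quotient.mk J (MvPolynomial.X (⟨⟨f, hf⟩, i⟩ : σ)), ?_⟩
      rw [Multiset.map_map]
      have h0 : (rel ⟨f, hf⟩).map (Ideal.Quotient.mk J) = 0 := Polynomial.ext fun n => by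
        rw [Polynomial.coeff_map, Polynomial.coeff_zero, Ideal.Quotient.eq_zero_iff_mem]
        exact Ideal.subset_span ⟨(⟨f, hf⟩, n), rfl⟩
      simp only [rel, Polynomial.map_sub, Polynomial.map_prod, Polynomial.map_X, Polynomial.map_C, Polynomial.map_map, sub_eq_zero] at h0
      exact h0.symm.trans (Finset.prod_eq_multiset_prod _ _)
  choose next ι hι hsplit using step
  let G : ℕ → CommRingCat.{u} := fun n => Nat.rec (motive := fun _ => CommRingCat.{u}) (CommRingCat.of A) (fun _ B => next B) n
  let f : ∀ i j : ℕ, i ≤ j → ((G i : Type u) →+* (G j : Type u)) := fun i j h =>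
    chainMap (G := fun n => (G n : Type u)) (fun n => ι (G n)) i j h
  have f_self : ∀ i, f i i le_rfl = RingHom.id _ := fun i => Nat.leRecOn_self _
  have f_succ : ∀ i j (h : i ≤ j), f i (j + 1) (h.trans j.le_succ) = (ι (G j)).comp (f i j h) := fun i j h =>
    Nat.leRecOn_succ h _
  haveI : DirectedSystem (fun n => (G n : Type u)) fun i j h => f i j h :=
    { map_self := fun i x => by rw [f_self]; rfl
      map_map := fun k j i hij hjk x => by
        induction hjk with
        | refl => rw [f_self]; rfl
        | @step m hm ihm =>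
          rw [f_succ j m hm, f_succ i m (hij.trans hm)]
          exact congrArg (ι (G m)) ihm }
  have finj : ∀ i j (h : i ≤ j), Function.Injective (f i j h) := by
    intro i j h
    induction h with
    | refl => rw [f_self]; exact Function.injective_id
    | @step m hm ihm => rw [f_succ i m hm]; exact (hι (G m)).comp ihm
  let B := Ring.DirectLimit (fun n => (G n : Type u)) fun i j h => f i j h
  let φ : A →+* B := Ring.DirectLimit.of (fun n => (G n : Type u)) (fun i j h => f i j h) 0
  refine ⟨B, inferInstance, φ.toAlgebra, Ring.DirectLimit.of_injective (fun i j h => f i j h) finj 0, fun g hg => ?_⟩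
  obtain ⟨n, q, rfl⟩ := Ring.DirectLimit.Polynomial.exists_of g
  have hinj := Ring.DirectLimit.of_injective (fun i j h => f i j h) finj n
  obtain ⟨s, hs⟩ := hsplit (G n) q (Polynomial.monic_of_injective hinj hg)
  refine ⟨s.map (Ring.DirectLimit.of (fun n => (G n : Type u)) (fun i j h => f i j h) (n + 1)), ?_⟩
  have he : Ring.DirectLimit.of (fun n => (G n : Type u)) (fun i j h => f i j h) n =
      (Ring.DirectLimit.of (fun n => (G n : Type u)) (fun i j h => f i j h) (n + 1)).comp (ι (G n)) := RingHom.ext fun x => by
    refine (Ring.DirectLimit.of_f (G := fun n => (G n : Type u)) (f := fun i j h => f i j h) (Nat.le_succ n) x).symm.trans ?_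
    rw [f_succ n n le_rfl, f_self]
    rfl
  rw [he, ← Polynomial.map_map, hs, Polynomial.map_multiset_prod, Multiset.map_map, Multiset.map_map]
  exact congrArg Multiset.prod (Multiset.map_congr rfl fun b _ => by simp)

end Groth.Agent.S12077
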