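import Groth.Statements.S12078
import Mathlib.RingTheory.Bezout
import Mathlib.Data.Matrix.Mul
import Mathlib.LinearAlgebra.Matrix.Notation

set_option autoImplicit false
universe u
open CAlg

namespace Groth.Agent.S12078

/-- An elementary divisor domain is Bézout. Here `R` is a domain such that for all `n, m ≥ 1` and every
`n × m` matrix `A` there are invertible matrices `U` (`n × n`) and `V` (`m × m`) with `U * A * V`
zero off the diagonal and with diagonal entries `f 0 ∣ f 1 ∣ f 2 ∣ …`; the conclusion is that every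
finitely generated ideal of `R` is principal. -/
theorem result (R : Type u) [CommRing R] [IsDomain R]
    (hR : ∀ n m : ℕ, 1 ≤ n → 1 ≤ m → ∀ A : Matrix (Fin n) (Fin m) R,
      ∃ (U : (Matrix (Fin n) (Fin n) R)ˣ) (V : (Matrix (Fin m) (Fin m) R)ˣ) (f : ℕ → R),
        (∀ k : ℕ, f k ∣ f (k + 1)) ∧
        ∀ (i : Fin n) (j : Fin m), ((U : Matrix (Fin n) (Fin n) R) * A * (V : Matrix (Fin m) (Fin m) R)) i j =
          if (i : ℕ) = (j : ℕ) then f i else 0) :
    IsBezout R := by
  refine IsBezout.iff_span_pair_isPrincipal.2 fun x y => ?_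
  obtain ⟨U, V, f, -, hf⟩ := hR 1 2 le_rfl (by norm_num) !![x, y]
  let A : Matrix (Fin 1) (Fin 2) R := !![x, y]
  refine ⟨f 0, le_antisymm (Submodule.span_le.2 ?_) ((Submodule.span_singleton_le_iff_mem _ _).2 ?_)⟩
  · have hA : A = ((U⁻¹ : (Matrix (Fin 1) (Fin 1) R)ˣ) : Matrix (Fin 1) (Fin 1) R) *
        ((U : Matrix (Fin 1) (Fin 1) R) * A * (V : Matrix (Fin 2) (Fin 2) R)) *
        ((V⁻¹ : (Matrix (Fin 2) (Fin 2) R)ˣ) : Matrix (Fin 2) (Fin 2) R) := by
      simp only [Matrix.mul_assoc, Units.mul_inv, Matrix.mul_one]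
      rw [← Matrix.mul_assoc, Units.inv_mul, Matrix.one_mul]
    have hmem : ∀ j, A 0 j ∈ R ∙ f 0 := fun j => by
      rw [hA, Matrix.mul_apply]
      refine sum_mem fun k _ => Ideal.mul_mem_right _ _ ?_
      rw [Matrix.mul_apply]
      refine sum_mem fun l _ => Ideal.mul_mem_left _ _ ?_
      rw [hf l k]
      split_ifs with h
      · rw [show (l : ℕ) = 0 by omega]; exact Submodule.mem_span_singleton_self _
      · exact zero_mem _
    rintro z (rfl | rfl)
    · exact hmem 0
    · exact hmem 1
  · have h := hf 0 0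
    simp only [Fin.val_zero, if_true] at h
    rw [← h, Matrix.mul_apply]
    refine sum_mem fun k _ => Ideal.mul_mem_right _ _ ?_
    rw [Matrix.mul_apply]
    refine sum_mem fun l _ => Ideal.mul_mem_left _ _ ?_
    fin_cases l; fin_cases k
    · exact Ideal.subset_span (Or.inl rfl)
    · exact Ideal.subset_span (Or.inr rfl)

end Groth.Agent.S12078
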