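import Groth.Statements.S12079
import Mathlib.LinearAlgebra.Contraction
import Mathlib.RingTheory.Flat.Basic
import Mathlib.RingTheory.Finiteness.Cardinality
import Mathlib.Algebra.Module.FinitePresentation

set_option autoImplicit false
universe u
open TensorProduct
open CAlg

namespace Groth.Agent.S12079

/-- For a finitely presented `R`-module `M`, any `R`-module `N` and a flat `R`-module `L`, the canonical
map `Hom_R(M, N) ⊗_R L → Hom_R(M, N ⊗_R L)` sending `f ⊗ l` to `m ↦ f m ⊗ l` is bijective. -/
theorem result (R : Type u) [CommRing R]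
    (M N L : Type u) [AddCommGroup M] [Module R M] [AddCommGroup N] [Module R N] [AddCommGroup L] [Module R L]
    [Module.FinitePresentation R M] [Module.Flat R L] :
    Function.Bijective (TensorProduct.rTensorHomToHomRTensor (RingHom.id R) M N L) := by
  let Φ := fun (P : Type u) [AddCommGroup P] [Module R P] => TensorProduct.rTensorHomToHomRTensor (RingHom.id R) P N L
  obtain ⟨b, π, hπ⟩ := Module.Finite.exists_fin' R M
  have hker := Module.FinitePresentation.fg_ker π hπ
  haveI : Module.Finite R (LinearMap.ker π) := Module.Finite.iff_fg.2 hker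
  obtain ⟨a, σ', hσ'⟩ := Module.Finite.exists_fin' R (LinearMap.ker π)
  let σ : (Fin a → R) →ₗ[R] (Fin b → R) := (LinearMap.ker π).subtype ∘ₗ σ'
  have hπσ : ∀ v, π (σ v) = 0 := fun v => (σ' v).2
  have hbij : ∀ k : ℕ, Function.Bijective (TensorProduct.rTensorHomToHomRTensor (RingHom.id R) (Fin k → R) N L) := by
    intro k
    rw [show ⇑(TensorProduct.rTensorHomToHomRTensor (RingHom.id R) (Fin k → R) N L) =
      ⇑(rTensorHomEquivHomRTensor R (Fin k → R) N L) from funext fun x => (rTensorHomEquivHomRTensor_apply x).symm]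
    exact (rTensorHomEquivHomRTensor R (Fin k → R) N L).bijective
  let α : (M →ₗ[R] N) →ₗ[R] ((Fin b → R) →ₗ[R] N) := LinearMap.lcomp R N π
  let β : ((Fin b → R) →ₗ[R] N) →ₗ[R] ((Fin a → R) →ₗ[R] N) := LinearMap.lcomp R N σ
  have hα : Function.Injective α := fun f g h => LinearMap.ext fun m => by
    obtain ⟨v, rfl⟩ := hπ m
    exact LinearMap.congr_fun h v
  have hex : Function.Exact α β := by
    intro f
    constructor
    · intro hf
      have hle : LinearMap.ker π ≤ LinearMap.ker f := by
        intro v hv
        obtain ⟨w, hw⟩ := hσ' ⟨v, hv⟩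
        have h2 : σ w = v := congrArg Subtype.val hw
        rw [LinearMap.mem_ker, ← h2]
        exact LinearMap.congr_fun hf w
      refine ⟨((LinearMap.ker π).liftQ f hle) ∘ₗ (π.quotKerEquivOfSurjective hπ).symm.toLinearMap, ?_⟩
      apply LinearMap.ext
      intro v
      change ((LinearMap.ker π).liftQ f hle) ((π.quotKerEquivOfSurjective hπ).symm (π v)) = f v
      have : (π.quotKerEquivOfSurjective hπ).symm (π v) = Submodule.Quotient.mk v := by
        rw [LinearEquiv.symm_apply_eq]; rfl
      rw [this, Submodule.liftQ_apply]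
    · rintro ⟨g, rfl⟩
      exact LinearMap.ext fun v => by simp [α, β, hπσ]
  have comm : ∀ (P Q : Type u) [AddCommGroup P] [Module R P] [AddCommGroup Q] [Module R Q] (h : Q →ₗ[R] P)
      (x : (P →ₗ[R] N) ⊗[R] L) (q : Q),
      TensorProduct.rTensorHomToHomRTensor (RingHom.id R) Q N L ((LinearMap.lcomp R N h).rTensor L x) q =
        TensorProduct.rTensorHomToHomRTensor (RingHom.id R) P N L x (h q) := by
    intro P Q _ _ _ _ h x q
    induction x with
    | zero => simp
    | add u v hu hv => simp only [map_add, LinearMap.add_apply, hu, hv]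
    | tmul f l => simp
  constructor
  · rw [injective_iff_map_eq_zero]
    intro x hx
    apply Module.Flat.rTensor_preserves_injective_linearMap α hα
    rw [map_zero]
    apply (hbij b).1
    rw [map_zero]
    apply LinearMap.ext
    intro v
    rw [comm M (Fin b → R) π x v, hx]
    simp
  · intro g
    obtain ⟨y, hy⟩ := (hbij b).2 (g ∘ₗ π)
    have hy0 : β.rTensor L y = 0 := by
      apply (hbij a).1
      rw [map_zero]
      apply LinearMap.ext
      intro w
      rw [comm (Fin b → R) (Fin a → R) σ y w, hy]
      simp [hπσ]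
    obtain ⟨x, hx⟩ := (Module.Flat.rTensor_exact L hex y).1 hy0
    refine ⟨x, LinearMap.ext fun m => ?_⟩
    obtain ⟨v, rfl⟩ := hπ m
    rw [← comm M (Fin b → R) π x v]
    change TensorProduct.rTensorHomToHomRTensor (RingHom.id R) (Fin b → R) N L (α.rTensor L x) v = g (π v)
    rw [hx, hy]
    rfl

end Groth.Agent.S12079
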