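import Groth.Statements.S12080
import Mathlib.RingTheory.PicardGroup
import Mathlib.RingTheory.LocalProperties.FinitePresentation
import Mathlib.RingTheory.Flat.Localization
import Mathlib.RingTheory.Flat.EquationalCriterion
import Mathlib.RingTheory.Flat.Stability

set_option autoImplicit false
universe u
open TensorProduct
open CAlg

namespace Groth.Agent.S12080

/-- (1) ⇒ (2): let `M` be a finite locally free `R`-module of rank `1`, i.e. there is a set `s ⊆ R`
generating the unit ideal with `M_f ≅ R_f` as `R_f`-modules for every `f ∈ s`. Then the evaluation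
map `Hom_R(M, R) ⊗_R M → R` is bijective, so `M` is invertible with inverse its dual. -/
theorem result (R : Type u) [CommRing R] (M : Type u) [AddCommGroup M]
    [Module R M] (s : Set R) (hs : Ideal.span s = ⊤)
    (hfree : ∀ f ∈ s, Nonempty (LocalizedModule.Away f M ≃ₗ[Localization.Away f] Localization.Away f)) :
    Module.Invertible R M := by
  classical
  let ι := fun f : R => LocalizedModule.mkLinearMap (Submonoid.powers f) M
  haveI : Module.FinitePresentation R M := Module.FinitePresentation.of_localizationSpan s hs fun g => by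
    obtain ⟨e⟩ := hfree g.1 g.2
    exact Module.FinitePresentation.of_equiv e.symm
  haveI : Module.Flat R M := by
    refine Module.flat_of_localized_span R M s hs fun g => ?_
    obtain ⟨e⟩ := hfree g.1 g.2
    exact Module.Flat.of_linearEquiv (e.restrictScalars R)
  haveI : Module.Projective R M := Module.Flat.projective_of_finitePresentation
  have hE : ∀ (g : Module.Dual R M) (m n : M), g n • m = g m • n := by
    intro g m n
    refine Module.eq_of_isLocalized_span s hs _ (fun r : s => ι r.1) _ _ fun r => ?_
    obtain ⟨e⟩ := hfree r.1 r.2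
    let Sf := Submonoid.powers r.1
    let A := Localization.Away r.1
    let gA : M →ₗ[R] A := Algebra.linearMap R A ∘ₗ g
    have hu : ∀ x : Sf, IsUnit (algebraMap R (Module.End R A) x) :=
      IsLocalizedModule.map_units (Algebra.linearMap R A)
    let G₀ : LocalizedModule.Away r.1 M →ₗ[R] A := IsLocalizedModule.lift Sf (ι r.1) gA hu
    let G : LocalizedModule.Away r.1 M →ₗ[A] A := G₀.extendScalarsOfIsLocalization Sf A
    have hG : ∀ x, G (ι r.1 x) = algebraMap R A (g x) := fun x =>
      LinearMap.congr_fun (IsLocalizedModule.lift_comp Sf (ι r.1) gA hu) x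
    set u := e.symm 1 with hu1
    have hx : ∀ x, x = e x • u := fun x => by
      rw [hu1, ← map_smul, smul_eq_mul, mul_one, LinearEquiv.symm_apply_apply]
    have hgx : ∀ x, algebraMap R A (g x) = e (ι r.1 x) * G u := fun x => by
      rw [← hG]
      conv_lhs => rw [hx (ι r.1 x)]
      rw [map_smul, smul_eq_mul]
    rw [map_smul, map_smul, ← algebraMap_smul A (g n), ← algebraMap_smul A (g m), hgx, hgx,
      hx (ι r.1 m), hx (ι r.1 n)]
    simp only [smul_smul, map_smul, hu1, LinearEquiv.apply_symm_apply, smul_eq_mul, mul_one]
    congr 1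
    ring
  let T : Ideal R := ⨆ g : Module.Dual R M, LinearMap.range g
  have hTM : ∀ x : M, x ∈ T • (⊤ : Submodule R M) := by
    intro x
    obtain ⟨σ, hσ⟩ := (Module.projective_def'.1 (inferInstance : Module.Projective R M))
    have hx : Finsupp.linearCombination R id (σ x) = x := LinearMap.congr_fun hσ x
    rw [← hx, Finsupp.linearCombination_apply]
    refine Submodule.sum_mem _ fun i _ => Submodule.smul_mem_smul ?_ Submodule.mem_top
    exact Submodule.mem_iSup_of_mem ((Finsupp.lapply i) ∘ₗ σ) ⟨x, rfl⟩
  have hT : T = ⊤ := by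
    by_contra hne
    obtain ⟨P, hP, hTP⟩ := Ideal.exists_le_maximal T hne
    obtain ⟨r, hr, hrP⟩ : ∃ r ∈ s, r ∉ P := by
      by_contra! hc
      exact hP.ne_top (top_le_iff.1 (hs ▸ Ideal.span_le.2 hc))
    obtain ⟨e⟩ := hfree r hr
    let A := Localization.Away r
    have hdis : Disjoint (Submonoid.powers r : Set R) P := by
      rw [Set.disjoint_left]
      rintro _ ⟨k, rfl⟩ hk
      exact hrP (hP.isPrime.mem_of_pow_mem k hk)
    have hle : ∀ x : M, e (ι r x) ∈ P.map (algebraMap R A) := by
      intro x
      refine Submodule.smul_induction_on (p := fun y => e (ι r y) ∈ P.map (algebraMap R A)) (hTM x)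
        (fun t ht y _ => ?_) (fun y z hy hz => ?_)
      · rw [map_smul, ← algebraMap_smul A t, map_smul, smul_eq_mul]
        exact Ideal.mul_mem_right _ _ (Ideal.mem_map_of_mem _ (hTP ht))
      · rw [map_add, map_add]; exact add_mem hy hz
    have h1 : (1 : A) ∈ P.map (algebraMap R A) := by
      obtain ⟨⟨x, t⟩, hxt⟩ := IsLocalizedModule.surj (Submonoid.powers r) (ι r) (e.symm 1)
      have h2 : algebraMap R A t ∈ P.map (algebraMap R A) := by
        have := hle x
        rw [← hxt, Submonoid.smul_def, ← algebraMap_smul A (t : R), map_smul,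
          LinearEquiv.apply_symm_apply, smul_eq_mul, mul_one] at this
        exact this
      exact (Ideal.eq_top_iff_one _).1 (Ideal.eq_top_of_isUnit_mem _ h2 (IsLocalization.map_units A t))
    have := IsLocalization.under_map_of_isPrime_disjoint (Submonoid.powers r) A hP.isPrime hdis
    apply hP.ne_top
    rw [← this, (Ideal.eq_top_iff_one _).2 h1]
    exact Ideal.comap_top
  obtain ⟨z, hz⟩ : (1 : R) ∈ LinearMap.range (contractLeft R M) := by
    have hle : T ≤ LinearMap.range (contractLeft R M) := iSup_le fun g => by
      rintro _ ⟨x, rfl⟩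
      exact ⟨g ⊗ₜ x, contractLeft_apply g x⟩
    exact hle (hT ▸ Submodule.mem_top)
  refine ⟨⟨fun a b hab => ?_, fun t => ⟨t • z, by rw [map_smul, hz, smul_eq_mul, mul_one]⟩⟩⟩
  have key : ∀ a : Module.Dual R M ⊗[R] M, a = contractLeft R M a • z := by
    have h2 : ∀ (g : Module.Dual R M) (m : M) (w : Module.Dual R M ⊗[R] M),
        contractLeft R M w • g ⊗ₜ[R] m = g m • w := by
      intro g m w
      induction w with
      | zero => simp
      | add a b ha hb => rw [map_add, add_smul, smul_add, ha, hb]
      | tmul f x =>
        rw [contractLeft_apply]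
        have h3 : f x • g = g x • f := LinearMap.ext fun n => by
          simp only [LinearMap.smul_apply, smul_eq_mul]
          have := congrArg g (hE f x n)
          rw [map_smul, map_smul, smul_eq_mul, smul_eq_mul] at this
          linear_combination -this
        calc f x • g ⊗ₜ[R] m = (f x • g) ⊗ₜ[R] m := TensorProduct.smul_tmul' _ _ _
          _ = (g x • f) ⊗ₜ[R] m := by rw [h3]
          _ = f ⊗ₜ[R] (g x • m) := by rw [TensorProduct.smul_tmul]
          _ = f ⊗ₜ[R] (g m • x) := by rw [hE g m x]
          _ = g m • f ⊗ₜ[R] x := TensorProduct.tmul_smul _ _ _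
    intro a
    induction a with
    | zero => simp
    | add a b ha hb => rw [map_add, add_smul, ← ha, ← hb]
    | tmul g m =>
      have := h2 g m z
      rw [hz, one_smul] at this
      rw [contractLeft_apply, ← this]
  rw [key a, key b, hab]

end Groth.Agent.S12080
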