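import Groth.Statements.S12081
import Groth.Agent.EtMilLib.Basic

set_option autoImplicit false
universe u
open TensorProduct
open EtAlg Groth.Agent
open scoped TensorProduct

namespace Groth.Agent.S12081

/-- Let `B' = B ×_A A'` be a fibre square of rings with `A' → A` surjective with kernel `I`, let `J =
Ker(B' → B)`, let `D'` be a `B'`-algebra and `C' = D' ⊗_{B'} A'`. Then the ideal `I C'` is, as a
subset of `C'`, the image of the ideal `J D'` under `D' → C'`; that is, the map `J D' → I C'` is
surjective. -/
theorem result (B' B A' A : Type u) [CommRing B'] [CommRing B] [CommRing A'] [CommRing A]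
    [Algebra B' B] [Algebra B' A'] [Algebra B A] [Algebra A' A] [Algebra B' A] [IsScalarTower B' B A] [IsScalarTower B' A' A]
    (hsq : EtMil.IsFibreSquare B' B A' A)
    (D' C' : Type u) [CommRing D'] [CommRing C'] [Algebra B' D'] [Algebra A' C']
    [Algebra D' C'] [Algebra B' C'] [IsScalarTower B' A' C'] [IsScalarTower B' D' C'] [Algebra.IsPushout B' A' D' C'] :
    (algebraMap D' C') '' ((RingHom.ker (algebraMap B' B)).map (algebraMap B' D') : Set D') =
      ((RingHom.ker (algebraMap A' A)).map (algebraMap A' C') : Set C') := by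
  refine Set.Subset.antisymm ?_ fun c hc => ?_
  · rintro _ ⟨d, hd, rfl⟩
    have h := Ideal.mem_map_of_mem (algebraMap D' C') hd
    rwa [Ideal.map_map, ← IsScalarTower.algebraMap_eq, IsScalarTower.algebraMap_eq B' A' C', ← Ideal.map_map,
      EtMilLib.ker_map hsq] at h
  · have hmem : ∀ (a : A'), a ∈ RingHom.ker (algebraMap A' A) → ∀ z : C',
        algebraMap A' C' a * z ∈ algebraMap D' C' '' ((RingHom.ker (algebraMap B' B)).map (algebraMap B' D') : Set D') := by
      intro a ha z
      refine (Algebra.IsPushout.out (R := B') (S := A') (R' := D') (S' := C')).inductionOn z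
        (fun z => ∀ a : A', a ∈ RingHom.ker (algebraMap A' A) → algebraMap A' C' a * z ∈
          algebraMap D' C' '' ((RingHom.ker (algebraMap B' B)).map (algebraMap B' D') : Set D'))
        ?_ ?_ ?_ ?_ a ha
      · exact fun a _ => ⟨0, zero_mem _, by rw [map_zero, mul_zero]⟩
      · intro d a ha
        obtain ⟨j, hj, rfl⟩ := (EtMilLib.ker_bijOn hsq).surjOn ha
        refine ⟨algebraMap B' D' j * d, Ideal.mul_mem_right _ _ (Ideal.mem_map_of_mem _ hj), ?_⟩
        rw [map_mul, ← IsScalarTower.algebraMap_apply, ← IsScalarTower.algebraMap_apply]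
        rfl
      · intro b z hz a ha
        have := hz (a * b) (Ideal.mul_mem_right _ _ ha)
        rwa [map_mul, mul_assoc, ← Algebra.smul_def b] at this
      · intro z w hz hw a ha
        obtain ⟨d, hd, e⟩ := hz a ha; obtain ⟨d', hd', e'⟩ := hw a ha
        exact ⟨d + d', add_mem hd hd', by rw [map_add, e, e', mul_add]⟩
    refine Submodule.span_induction (p := fun c _ => ∀ z : C', c * z ∈
      algebraMap D' C' '' ((RingHom.ker (algebraMap B' B)).map (algebraMap B' D') : Set D')) ?_ ?_ ?_ ?_ hc 1 |> fun h => mul_one c ▸ h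
    · rintro _ ⟨a, ha, rfl⟩ z; exact hmem a ha z
    · exact fun z => ⟨0, zero_mem _, by rw [map_zero, zero_mul]⟩
    · intro x y _ _ hx hy z
      obtain ⟨d, hd, e⟩ := hx z; obtain ⟨d', hd', e'⟩ := hy z
      exact ⟨d + d', add_mem hd hd', by rw [map_add, e, e', add_mul]⟩
    · intro r x _ hx z
      rw [smul_eq_mul, mul_comm r x, mul_assoc]; exact hx _

end Groth.Agent.S12081
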