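import Groth.Statements.S9474
import Mathlib.RingTheory.Kaehler.Polynomial
import Mathlib.RingTheory.Unramified.Basic
import Mathlib.Algebra.MvPolynomial.PDeriv
import Mathlib.LinearAlgebra.TensorProduct.Basis
import Mathlib.RingTheory.Ideal.Cotangent

set_option autoImplicit false
universe u
open CAlg
open scoped TensorProduct

namespace Groth.Agent.S9474

theorem formallyUnramified_aux {A : Type u} [CommRing A] {n : ℕ} {T : Type u} [CommRing T] [Algebra A T] (π : MvPolynomial (Fin n) A →ₐ[A] T)
    (hπ : Function.Surjective π) (g : Fin n → MvPolynomial (Fin n) A) (hg : ∀ i, π (g i) = 0)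
    (hd : ∀ i j, π (MvPolynomial.pderiv j (g i)) = if j = i then 1 else 0) :
    Algebra.FormallyUnramified A T := by
  classical
  refine ⟨?_⟩
  let v : Fin n → Ω[T⁄A] := fun i =>
    KaehlerDifferential.D A T (π (MvPolynomial.X i))
  have key : ∀ q : MvPolynomial (Fin n) A,
      KaehlerDifferential.D A T (π q) =
      ∑ j, (π (MvPolynomial.pderiv j q)) • v j := by
    intro q
    induction q using MvPolynomial.induction_on with
    | C c =>
      have : π (MvPolynomial.C c) = algebraMap A T c := π.commutes c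
      rw [this, Derivation.map_algebraMap]
      simp
    | add a b ha hb =>
      simp only [map_add, ha, hb, add_smul, Finset.sum_add_distrib]
    | mul_X a i ha =>
      rw [map_mul, Derivation.leibniz, ha]
      simp only [Derivation.leibniz, smul_eq_mul, map_add, map_mul, add_smul, mul_smul,
        Finset.sum_add_distrib, MvPolynomial.pderiv_X, Pi.single_apply, apply_ite (π),
        map_one, map_zero, ite_smul, one_smul, zero_smul, smul_ite, smul_zero, Finset.sum_ite_eq,
        Finset.mem_univ, if_true, Finset.smul_sum]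
      rfl
  have hv : ∀ i, v i = 0 := by
    intro i
    have h2 := key (g i)
    rw [hg i, map_zero] at h2
    have h1 : ∀ j, π (MvPolynomial.pderiv j (g i)) = if j = i then 1 else 0 := fun j => hd i j
    simp only [h1, ite_smul, one_smul, zero_smul, Finset.sum_ite_eq', Finset.mem_univ, if_true] at h2
    exact h2.symm
  refine subsingleton_of_forall_eq 0 fun x => ?_
  have hx : x ∈ (⊤ : Submodule T _) := Submodule.mem_top
  rw [← KaehlerDifferential.span_range_derivation] at hx
  refine (Submodule.mem_bot T).mp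
    ((Submodule.span_le (p := (⊥ : Submodule T _))).mpr ?_ hx)
  rintro y ⟨s, rfl⟩
  obtain ⟨q, rfl⟩ := hπ s
  simp [key q, hv]

open TensorProduct in
/-- If R → S is unramified (of finite type with vanishing module of differentials), then there are a
finite type ℤ-algebra R₀, an unramified R₀-algebra S₀, a ring map R₀ → R, and a surjective R-algebra
map from R ⊗_{R₀} S₀ onto S. -/
theorem result (R : Type u) [CommRing R] (S : Type u)
    [CommRing S] [Algebra R S] [Algebra.Unramified R S] :
    ∃ (R₀ : Type u) (_ : CommRing R₀) (_ : Algebra.FiniteType ℤ R₀) (S₀ : Type u) (_ : CommRing S₀)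
      (_ : Algebra R₀ S₀) (_ : Algebra.Unramified R₀ S₀) (_ : Algebra R₀ R)
      (ψ : R ⊗[R₀] S₀ →ₐ[R] S), Function.Surjective ψ := by
  classical
  obtain ⟨n, f, hf⟩ := Algebra.FiniteType.iff_quotient_mvPolynomial''.mp (inferInstance : Algebra.FiniteType R S)
  let P := MvPolynomial (Fin n) R
  letI : Algebra P S := f.toRingHom.toAlgebra
  haveI : IsScalarTower R P S := IsScalarTower.of_algebraMap_eq fun r => (f.commutes r).symm
  have hsurj : Function.Surjective (algebraMap P S) := hf
  have hex := KaehlerDifferential.exact_kerCotangentToTensor_mapBaseChange R P S hsurj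
  haveI : Subsingleton (Ω[S⁄R]) := inferInstance
  have hg : ∀ i : Fin n, ∃ g : P, f g = 0 ∧
      ∀ j, f (MvPolynomial.pderiv j g) = if j = i then 1 else 0 := by
    intro i
    obtain ⟨z, hz⟩ := (hex ((1 : S) ⊗ₜ[P] KaehlerDifferential.D R P (MvPolynomial.X i))).mp
      (Subsingleton.elim _ _)
    obtain ⟨g, rfl⟩ := Ideal.toCotangent_surjective _ z
    refine ⟨g.1, RingHom.mem_ker.mp g.2, fun j => ?_⟩
    rw [KaehlerDifferential.kerCotangentToTensor_toCotangent] at hz
    have h := congrArg (fun t => ((KaehlerDifferential.mvPolynomialBasis R (Fin n)).baseChange S).repr t j) hz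
    erw [Module.Basis.baseChange_repr_tmul, Module.Basis.baseChange_repr_tmul,
      KaehlerDifferential.mvPolynomialBasis_repr_apply, KaehlerDifferential.mvPolynomialBasis_repr_apply,
      Algebra.smul_def, Algebra.smul_def, mul_one, mul_one] at h
    rw [MvPolynomial.pderiv_X, Pi.single_apply, apply_ite (algebraMap P S), map_one, map_zero] at h
    simp only [eq_comm (a := i)] at h
    exact h
  choose g hg0 hgd using hg
  let T : Set R := ⋃ i, ((g i).coeffs : Set R)
  have hT : T.Finite := Set.finite_iUnion fun i => (g i).coeffs.finite_toSet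
  let R₀ := Algebra.adjoin ℤ T
  haveI hR₀ : Algebra.FiniteType ℤ R₀ := Algebra.FiniteType.adjoin_of_finite hT
  have hlift : ∀ i, ∃ g₀ : MvPolynomial (Fin n) R₀, MvPolynomial.map (algebraMap R₀ R) g₀ = g i := by
    intro i
    refine MvPolynomial.mem_range_map_iff_coeffs_subset.mpr ?_
    intro c hc
    exact ⟨⟨c, Algebra.subset_adjoin (Set.mem_iUnion.mpr ⟨i, hc⟩)⟩, rfl⟩
  choose g₀ hg₀ using hlift
  let h₀ : Fin n → Fin n → (MvPolynomial (Fin n) R₀) := fun i j => MvPolynomial.pderiv j (g₀ i) - (if j = i then 1 else 0)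
  let J₀ : Ideal (MvPolynomial (Fin n) R₀) := Ideal.span (Set.range g₀ ∪ Set.range (fun ij : Fin n × Fin n => h₀ ij.1 ij.2))
  let φ₀ : (MvPolynomial (Fin n) R₀) →ₐ[R₀] S := MvPolynomial.aeval (fun i => f (MvPolynomial.X i))
  have hφ : ∀ q : (MvPolynomial (Fin n) R₀), φ₀ q = f (MvPolynomial.map (algebraMap R₀ R) q) := by
    intro q
    induction q using MvPolynomial.induction_on with
    | C c => simp [φ₀, IsScalarTower.algebraMap_apply R₀ R S]
    | add a b ha hb => simp only [map_add, ha, hb]
    | mul_X a i ha =>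
      simp only [map_mul, ha, MvPolynomial.map_X]
      simp [φ₀]
  have hJ : ∀ a ∈ J₀, φ₀ a = 0 := by
    intro a ha
    refine RingHom.mem_ker.mp ((Ideal.span_le (I := RingHom.ker φ₀.toRingHom)).mpr ?_ ha)
    rintro x (⟨i, rfl⟩ | ⟨⟨i, j⟩, rfl⟩)
    · change φ₀ (g₀ i) = 0
      rw [hφ, hg₀, hg0]
    · change φ₀ (h₀ i j) = 0
      simp only [h₀, map_sub, hφ, ← MvPolynomial.pderiv_map, hg₀, hgd]
      split_ifs <;> simp
  let φ : ((MvPolynomial (Fin n) R₀) ⧸ J₀) →ₐ[R₀] S := Ideal.Quotient.liftₐ J₀ φ₀ hJ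
  haveI hfu : Algebra.FormallyUnramified R₀ ((MvPolynomial (Fin n) R₀) ⧸ J₀) :=
    formallyUnramified_aux (Ideal.Quotient.mkₐ R₀ J₀) Ideal.Quotient.mk_surjective g₀
      (fun i => Ideal.Quotient.eq_zero_iff_mem.mpr (Ideal.subset_span (Or.inl ⟨i, rfl⟩)))
      (fun i j => by
        have h : Ideal.Quotient.mk J₀ (h₀ i j) = 0 :=
          Ideal.Quotient.eq_zero_iff_mem.mpr (Ideal.subset_span (Or.inr ⟨(i, j), rfl⟩))
        simp only [h₀, map_sub, sub_eq_zero] at h
        rw [Ideal.Quotient.mkₐ_eq_mk, h, apply_ite (Ideal.Quotient.mk J₀), map_one, map_zero])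
  haveI : Algebra.Unramified R₀ ((MvPolynomial (Fin n) R₀) ⧸ J₀) := ⟨hfu, inferInstance⟩
  refine ⟨R₀, inferInstance, ?_, ((MvPolynomial (Fin n) R₀) ⧸ J₀), inferInstance, inferInstance, inferInstance, inferInstance,
    Algebra.TensorProduct.lift (Algebra.ofId R S) φ (fun _ _ => Commute.all _ _), ?_⟩
  · convert hR₀ using 2
  · intro s
    obtain ⟨q, rfl⟩ := hf s
    induction q using MvPolynomial.induction_on with
    | C c =>
      exact ⟨c ⊗ₜ 1, by simp⟩
    | add a b ha hb =>
      obtain ⟨x, hx⟩ := ha; obtain ⟨y, hy⟩ := hb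
      exact ⟨x + y, by rw [map_add, map_add, hx, hy]⟩
    | mul_X a i ha =>
      obtain ⟨x, hx⟩ := ha
      refine ⟨x * ((1 : R) ⊗ₜ Ideal.Quotient.mk J₀ (MvPolynomial.X i)), ?_⟩
      rw [map_mul, map_mul, hx]
      simp [φ, φ₀]

end Groth.Agent.S9474
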