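import Groth.Statements.S12085
import Groth.Agent.S9474
import Mathlib.RingTheory.FinitePresentation
import Mathlib.RingTheory.Kaehler.Polynomial
import Mathlib.Algebra.MvPolynomial.PDeriv
import Mathlib.LinearAlgebra.TensorProduct.Basis
import Mathlib.RingTheory.Ideal.Cotangent

set_option autoImplicit false
universe u
open TensorProduct
open CAlg

namespace Groth.Agent.S12085

theorem iso_aux {A R S T : Type u} [CommRing A] [CommRing R] [CommRing S] [CommRing T] [Algebra A R]
    [Algebra A S] [Algebra R S] [IsScalarTower A R S] [Algebra A T] {n : ℕ}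
    (f : MvPolynomial (Fin n) R →ₐ[R] S) (hf : Function.Surjective f)
    (π : MvPolynomial (Fin n) A →ₐ[A] T) (hπ : Function.Surjective π) (φ : T →ₐ[A] S)
    (hφ : ∀ q, φ (π q) = f (MvPolynomial.map (algebraMap A R) q))
    (hker : RingHom.ker f.toRingHom ≤
      Ideal.span (MvPolynomial.map (algebraMap A R) '' {q | π q = 0})) :
    Nonempty (R ⊗[A] T ≃ₐ[R] S) := by
  let η : MvPolynomial (Fin n) R →ₐ[R] R ⊗[A] T :=
    MvPolynomial.aeval fun i => (1 : R) ⊗ₜ[A] π (MvPolynomial.X i)
  let ψ : R ⊗[A] T →ₐ[R] S := Algebra.TensorProduct.lift (Algebra.ofId R S) φ (fun _ _ => Commute.all _ _)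
  have hψη : ψ.comp η = f := MvPolynomial.algHom_ext fun i => by simp [ψ, η, hφ]
  have hηmap : ∀ q : MvPolynomial (Fin n) A, η (MvPolynomial.map (algebraMap A R) q) = (1 : R) ⊗ₜ π q := by
    intro q
    induction q using MvPolynomial.induction_on with
    | C c =>
      rw [MvPolynomial.map_C, ← MvPolynomial.algebraMap_eq, η.commutes, ← MvPolynomial.algebraMap_eq, π.commutes,
        Algebra.TensorProduct.algebraMap_apply, Algebra.algebraMap_self_apply,
        Algebra.algebraMap_eq_smul_one, Algebra.algebraMap_eq_smul_one, TensorProduct.smul_tmul]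
    | add a b ha hb => rw [map_add, map_add, ha, hb, map_add, TensorProduct.tmul_add]
    | mul_X a i ha =>
      rw [map_mul, map_mul, ha, MvPolynomial.map_X, map_mul]
      simp [η]
  have hker' : ∀ a ∈ RingHom.ker f.toRingHom, η a = 0 := by
    intro a ha
    refine (Ideal.span_le (I := RingHom.ker η.toRingHom)).mpr ?_ (hker ha)
    rintro _ ⟨q, hq, rfl⟩
    show η (MvPolynomial.map (algebraMap A R) q) = 0
    rw [hηmap, hq, TensorProduct.tmul_zero]
  have hηsurj : Function.Surjective η := by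
    intro z
    induction z using TensorProduct.induction_on with
    | zero => exact ⟨0, map_zero _⟩
    | tmul r q =>
      obtain ⟨q, rfl⟩ := hπ q
      refine ⟨algebraMap R _ r * MvPolynomial.map (algebraMap A R) q, ?_⟩
      rw [map_mul, hηmap, η.commutes, Algebra.TensorProduct.algebraMap_apply, Algebra.algebraMap_self_apply,
        Algebra.TensorProduct.tmul_mul_tmul, mul_one, one_mul]
    | add a b ha hb =>
      obtain ⟨x, rfl⟩ := ha
      obtain ⟨y, rfl⟩ := hb
      exact ⟨x + y, map_add _ _ _⟩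
  refine ⟨AlgEquiv.ofBijective ψ ⟨?_, fun s => ?_⟩⟩
  · rw [injective_iff_map_eq_zero]
    intro z hz
    obtain ⟨q, rfl⟩ := hηsurj z
    exact hker' q ((AlgHom.congr_fun hψη q).symm.trans hz)
  · obtain ⟨q, rfl⟩ := hf s
    exact ⟨η q, AlgHom.congr_fun hψη q⟩

/-- If `R → S` is G-unramified (of finite presentation and formally unramified), then there are a finite
type `ℤ`-algebra `R₀`, a ring map `R₀ → R` and a G-unramified ring map `R₀ → S₀` such that `S ≅ R
⊗_{R₀} S₀` as `R`-algebras (existence of an isomorphism). -/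
theorem result (R : Type u) [CommRing R] (S : Type u) [CommRing S]
    [Algebra R S] [Algebra.FinitePresentation R S] [Algebra.FormallyUnramified R S] :
    ∃ (R₀ : Type u) (_ : CommRing R₀) (_ : Algebra.FiniteType ℤ R₀) (S₀ : Type u) (_ : CommRing S₀)
      (_ : Algebra R₀ S₀) (_ : Algebra.FinitePresentation R₀ S₀) (_ : Algebra.FormallyUnramified R₀ S₀)
      (_ : Algebra R₀ R), Nonempty (R ⊗[R₀] S₀ ≃ₐ[R] S) := by
  classical
  obtain ⟨n, f, hf, ⟨t, ht⟩⟩ := (inferInstance : Algebra.FinitePresentation R S).out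
  let P := MvPolynomial (Fin n) R
  letI : Algebra P S := f.toRingHom.toAlgebra
  haveI : IsScalarTower R P S := IsScalarTower.of_algebraMap_eq fun r => (f.commutes r).symm
  have hsurj : Function.Surjective (algebraMap P S) := hf
  have hex := KaehlerDifferential.exact_kerCotangentToTensor_mapBaseChange R P S hsurj
  haveI : Subsingleton (Ω[S⁄R]) := inferInstance
  have hg : ∀ i : Fin n, ∃ g : P, f g = 0 ∧
      ∀ j, f (MvPolynomial.pderiv j g) = if j = i then 1 else 0 := by
    intro i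
    obtain ⟨z, hz⟩ := (hex ((1 : S) ⊗ₜ[P] KaehlerDifferential.D R P (MvPolynomial.X i))).mp
      (Subsingleton.elim _ _)
    obtain ⟨g, rfl⟩ := Ideal.toCotangent_surjective _ z
    refine ⟨g.1, RingHom.mem_ker.mp g.2, fun j => ?_⟩
    rw [KaehlerDifferential.kerCotangentToTensor_toCotangent] at hz
    have h := congrArg (fun t => ((KaehlerDifferential.mvPolynomialBasis R (Fin n)).baseChange S).repr t j) hz
    erw [Module.Basis.baseChange_repr_tmul, Module.Basis.baseChange_repr_tmul,
      KaehlerDifferential.mvPolynomialBasis_repr_apply, KaehlerDifferential.mvPolynomialBasis_repr_apply,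
      Algebra.smul_def, Algebra.smul_def, mul_one, mul_one] at h
    rw [MvPolynomial.pderiv_X, Pi.single_apply, apply_ite (algebraMap P S), map_one, map_zero] at h
    simp only [eq_comm (a := i)] at h
    exact h
  choose g hg0 hgd using hg
  let T : Set R := (⋃ i, ((g i).coeffs : Set R)) ∪ ⋃ z : t, ((z.1).coeffs : Set R)
  have hT : T.Finite := (Set.finite_iUnion fun i => (g i).coeffs.finite_toSet).union
    (Set.finite_iUnion fun z => (z.1).coeffs.finite_toSet)
  let R₀ := Algebra.adjoin ℤ T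
  haveI hR₀ : Algebra.FiniteType ℤ R₀ := Algebra.FiniteType.adjoin_of_finite hT
  have hlift : ∀ i, ∃ g₀ : MvPolynomial (Fin n) R₀, MvPolynomial.map (algebraMap R₀ R) g₀ = g i := by
    intro i
    refine MvPolynomial.mem_range_map_iff_coeffs_subset.mpr ?_
    intro c hc
    exact ⟨⟨c, Algebra.subset_adjoin (Or.inl (Set.mem_iUnion.mpr ⟨i, hc⟩))⟩, rfl⟩
  choose g₀ hg₀ using hlift
  have hlift' : ∀ z : t, ∃ z₀ : MvPolynomial (Fin n) R₀, MvPolynomial.map (algebraMap R₀ R) z₀ = z.1 := by
    intro z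
    refine MvPolynomial.mem_range_map_iff_coeffs_subset.mpr ?_
    intro c hc
    exact ⟨⟨c, Algebra.subset_adjoin (Or.inr (Set.mem_iUnion.mpr ⟨z, hc⟩))⟩, rfl⟩
  choose t₀ ht₀ using hlift'
  let h₀ : Fin n → Fin n → (MvPolynomial (Fin n) R₀) := fun i j => MvPolynomial.pderiv j (g₀ i) - (if j = i then 1 else 0)
  let J₀ : Ideal (MvPolynomial (Fin n) R₀) := Ideal.span ((Set.range g₀ ∪ Set.range (fun ij : Fin n × Fin n => h₀ ij.1 ij.2)) ∪ Set.range t₀)
  let φ₀ : (MvPolynomial (Fin n) R₀) →ₐ[R₀] S := MvPolynomial.aeval (fun i => f (MvPolynomial.X i))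
  have hφ : ∀ q : (MvPolynomial (Fin n) R₀), φ₀ q = f (MvPolynomial.map (algebraMap R₀ R) q) := by
    intro q
    induction q using MvPolynomial.induction_on with
    | C c => simp [φ₀, IsScalarTower.algebraMap_apply R₀ R S]
    | add a b ha hb => simp only [map_add, ha, hb]
    | mul_X a i ha =>
      simp only [map_mul, ha, MvPolynomial.map_X]
      simp [φ₀]
  have hJ : ∀ a ∈ J₀, φ₀ a = 0 := by
    intro a ha
    refine RingHom.mem_ker.mp ((Ideal.span_le (I := RingHom.ker φ₀.toRingHom)).mpr ?_ ha)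
    rintro x ((⟨i, rfl⟩ | ⟨⟨i, j⟩, rfl⟩) | ⟨z, rfl⟩)
    · change φ₀ (g₀ i) = 0
      rw [hφ, hg₀, hg0]
    · change φ₀ (h₀ i j) = 0
      simp only [h₀, map_sub, hφ, ← MvPolynomial.pderiv_map, hg₀, hgd]
      split_ifs <;> simp
    · change φ₀ (t₀ z) = 0
      rw [hφ, ht₀]
      have hz : (z.1 : P) ∈ RingHom.ker f.toRingHom := ht ▸ Ideal.subset_span z.2
      exact hz
  let φ : ((MvPolynomial (Fin n) R₀) ⧸ J₀) →ₐ[R₀] S := Ideal.Quotient.liftₐ J₀ φ₀ hJ
  haveI hfu : Algebra.FormallyUnramified R₀ ((MvPolynomial (Fin n) R₀) ⧸ J₀) :=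
    Groth.Agent.S9474.formallyUnramified_aux (Ideal.Quotient.mkₐ R₀ J₀) Ideal.Quotient.mk_surjective g₀
      (fun i => Ideal.Quotient.eq_zero_iff_mem.mpr (Ideal.subset_span (Or.inl (Or.inl ⟨i, rfl⟩))))
      (fun i j => by
        have h : Ideal.Quotient.mk J₀ (h₀ i j) = 0 :=
          Ideal.Quotient.eq_zero_iff_mem.mpr (Ideal.subset_span (Or.inl (Or.inr ⟨(i, j), rfl⟩)))
        simp only [h₀, map_sub, sub_eq_zero] at h
        rw [Ideal.Quotient.mkₐ_eq_mk, h, apply_ite (Ideal.Quotient.mk J₀), map_one, map_zero])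
  haveI : Algebra.FinitePresentation R₀ ((MvPolynomial (Fin n) R₀) ⧸ J₀) :=
    Algebra.FinitePresentation.quotient (Submodule.fg_span
      (((Set.finite_range g₀).union (Set.finite_range _)).union (Set.finite_range t₀)))
  refine ⟨R₀, inferInstance, ?_, ((MvPolynomial (Fin n) R₀) ⧸ J₀), inferInstance, inferInstance, inferInstance, hfu,
    inferInstance, iso_aux f hf (Ideal.Quotient.mkₐ R₀ J₀) Ideal.Quotient.mk_surjective φ
      (fun q => (hφ q)) (ht.symm.le.trans (Ideal.span_le.mpr fun z hz => ?_))⟩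
  rotate_left
  · exact Ideal.subset_span ⟨t₀ ⟨z, hz⟩, Ideal.Quotient.eq_zero_iff_mem.mpr (Ideal.subset_span (Or.inr ⟨_, rfl⟩)), ht₀ ⟨z, hz⟩⟩
  convert hR₀ using 2

end Groth.Agent.S12085
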