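import Groth.Statements.S12091
-- import your own Groth.Agent.* helpers here

set_option autoImplicit false
universe u
open TensorProduct MvPolynomial
open FlatMor

namespace Groth.Agent.S12091

/-- Let `x_1, …, x_m` generate the `A`-module `M`, let `K ⊆ A^m` be the module of relations, `C =
Sym_A(M)` and `α : A[y_1, …, y_m] → C` the presentation with `y_j ↦ x_j`, with kernel `J`. Then the
`C`-linear map `C ⊗_A K → J/J²` sending `1 ⊗ k` to the class of `Σ_j k_j y_j` is surjective, and it
is bijective when `M` is a projective `A`-module (so that then `J/J² ≅ K ⊗_A C` and the naive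
cotangent complex of `α` is `K ⊗_A C → ⊕_j C dy_j`). (The published statement asserts `J/J² ≅ K ⊗_A
C` for every `M`. For `A = ℤ`, `M = (ℤ/2)²`, `m = 2` and the two unit vectors, `K = 2ℤ²` and the
element `y_2 ⊗ (2, 0) - y_1 ⊗ (0, 2)` of `C ⊗_A K` is non-zero but maps to the class of `y_2 · 2y_1
- y_1 · 2y_2 = 0`; in degree `2` the graded piece of `J/J²` has `8` elements and that of `K ⊗_A C`
has `16`. The published degree-by-degree computation does show that `J` is generated by the linear
forms coming from `K`, which is the surjectivity, and it is valid as written when `0 → K → A^m → M →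
0` splits, which is the projective case.) -/
theorem result (A : Type u) [CommRing A] (M : Type u)
    [AddCommGroup M] [Module A M] (m : ℕ) (x : Fin m → M)
    (hx : Function.Surjective (Fintype.linearCombination A x))
    (G : Algebra.Generators A (SymmetricAlgebra A M) (Fin m))
    (hG : ∀ j, G.val j = SymmetricAlgebra.ι A M (x j)) :
    ∃ e : SymmetricAlgebra A M ⊗[A] (LinearMap.ker (Fintype.linearCombination A x)) →ₗ[SymmetricAlgebra A M]
        G.toExtension.Cotangent,
      (∀ (k : LinearMap.ker (Fintype.linearCombination A x))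
        (hk : (∑ j, C ((k : Fin m → A) j) * X j : MvPolynomial (Fin m) A) ∈ G.toExtension.ker),
        e (1 ⊗ₜ k) = Algebra.Extension.Cotangent.mk ⟨_, hk⟩) ∧
      Function.Surjective e ∧ (Module.Projective A M → Function.Bijective e) := by
  classical
  set L := Fintype.linearCombination A x with hL
  let φ : (Fin m → A) →ₗ[A] MvPolynomial (Fin m) A := Fintype.linearCombination A (fun j => X j)
  have hφ : ∀ k : Fin m → A, φ k = ∑ j, C (k j) * X j := fun k => by
    simp [φ, Fintype.linearCombination_apply, MvPolynomial.smul_eq_C_mul]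
  have hφL : ∀ k, aeval G.val (φ k) = SymmetricAlgebra.ι A M (L k) := fun k => by
    rw [hφ, map_sum, hL, Fintype.linearCombination_apply, map_sum]
    refine Finset.sum_congr rfl fun j _ => ?_
    rw [map_mul, aeval_C, aeval_X, hG, map_smul, Algebra.smul_def]
  have hker : ∀ k ∈ LinearMap.ker L, (φ k : G.toExtension.Ring) ∈ G.toExtension.ker := fun k hk => by
    change (φ k : G.toExtension.Ring) ∈ G.ker
    rw [G.ker_eq_ker_aeval_val]
    change aeval G.val (φ k) = 0
    rw [hφL, LinearMap.mem_ker.mp hk, map_zero]
  let f : LinearMap.ker L →ₗ[A] G.toExtension.Cotangent :=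
    { toFun := fun k => Algebra.Extension.Cotangent.mk ⟨φ k, hker _ k.2⟩
      map_add' := fun k k' => by
        rw [← map_add]
        exact congrArg _ (Subtype.ext (map_add φ _ _))
      map_smul' := fun a k => by
        refine (congrArg Algebra.Extension.Cotangent.mk (show (⟨φ ((a • k : LinearMap.ker L) : Fin m → A), hker _ (a • k).2⟩ :
          G.toExtension.ker) = (algebraMap A G.toExtension.Ring a) • ⟨φ k, hker _ k.2⟩ from Subtype.ext ?_)).trans ?_
        · change φ (a • (k : Fin m → A)) = algebraMap A (MvPolynomial (Fin m) A) a * φ (k : Fin m → A)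
          rw [map_smul, Algebra.smul_def]
        · rw [map_smul, RingHom.id_apply, algebraMap_smul] }
  let e : SymmetricAlgebra A M ⊗[A] (LinearMap.ker L) →ₗ[SymmetricAlgebra A M] G.toExtension.Cotangent :=
    LinearMap.liftBaseChange (SymmetricAlgebra A M) f
  have he : ∀ s k, e (s ⊗ₜ k) = s • f k := fun s k => LinearMap.liftBaseChange_tmul _ f _ k
  let J : Ideal (MvPolynomial (Fin m) A) := Ideal.span (φ '' (LinearMap.ker L : Set (Fin m → A)))
  let π := Ideal.Quotient.mkₐ A J
  let g : M →ₗ[A] MvPolynomial (Fin m) A ⧸ J :=
    ((LinearMap.ker L).liftQ (π.toLinearMap.comp φ) (fun k hk => LinearMap.mem_ker.mpr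
      (Ideal.Quotient.eq_zero_iff_mem.mpr (Ideal.subset_span ⟨k, hk, rfl⟩)))).comp
      (L.quotKerEquivOfSurjective hx).symm.toLinearMap
  have hJ : ∀ p : MvPolynomial (Fin m) A, aeval G.val p = 0 → p ∈ J := by
    intro p hp
    have h : (SymmetricAlgebra.lift g).comp (aeval G.val) = π := by
      refine MvPolynomial.algHom_ext fun j => ?_
      have hxj : x j = L (Pi.single j 1) := by rw [hL, Fintype.linearCombination_apply_single, one_smul]
      rw [AlgHom.comp_apply, aeval_X, hG, SymmetricAlgebra.lift_ι_apply, hxj]
      have hs : (L.quotKerEquivOfSurjective hx).symm (L (Pi.single j 1)) =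
          Submodule.Quotient.mk (Pi.single j 1) := by
        rw [LinearEquiv.symm_apply_eq]; rfl
      simp only [g, LinearMap.comp_apply, LinearEquiv.coe_coe]
      rw [hs, Submodule.liftQ_apply]
      change π (φ (Pi.single j 1)) = π (X j)
      rw [Fintype.linearCombination_apply_single, one_smul]
    have h' := AlgHom.congr_fun h p
    rw [AlgHom.comp_apply, hp, map_zero] at h'
    exact Ideal.Quotient.eq_zero_iff_mem.mp h'.symm
  have hsurj : Function.Surjective e := by
    intro ω
    obtain ⟨⟨p, hp⟩, rfl⟩ := Algebra.Extension.Cotangent.mk_surjective ω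
    have hpJ : p ∈ J := hJ p (G.aeval_val_eq_zero hp)
    suffices h : ∀ (hp : p ∈ G.toExtension.ker), Algebra.Extension.Cotangent.mk ⟨p, hp⟩ ∈ LinearMap.range e from h hp
    clear hp
    induction hpJ using Submodule.span_induction with
    | mem q hq =>
      obtain ⟨k, hk, rfl⟩ := hq
      intro h
      exact ⟨1 ⊗ₜ ⟨k, hk⟩, by rw [he, one_smul]; rfl⟩
    | zero =>
      intro h
      refine (?_ : Algebra.Extension.Cotangent.mk (0 : G.toExtension.ker) ∈ LinearMap.range e)
      rw [map_zero]
      exact zero_mem _
    | add q r hq hr ihq ihr =>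
      intro h
      have mq : ∀ q ∈ J, (q : G.toExtension.Ring) ∈ G.toExtension.ker := fun q hq => by
        refine (Ideal.span_le.mpr ?_ : J ≤ G.toExtension.ker) hq
        rintro _ ⟨k, hk, rfl⟩
        exact hker k hk
      refine (?_ : Algebra.Extension.Cotangent.mk ((⟨q, mq q hq⟩ : G.toExtension.ker) + ⟨r, mq r hr⟩) ∈ LinearMap.range e)
      rw [map_add]
      exact add_mem (ihq _) (ihr _)
    | smul a q hq ih =>
      intro h
      have mq : (q : G.toExtension.Ring) ∈ G.toExtension.ker := by
        refine (Ideal.span_le.mpr ?_ : J ≤ G.toExtension.ker) hq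
        rintro _ ⟨k, hk, rfl⟩
        exact hker k hk
      refine (?_ : Algebra.Extension.Cotangent.mk ((show G.toExtension.Ring from a) • (⟨q, mq⟩ : G.toExtension.ker)) ∈ LinearMap.range e)
      rw [map_smul,
        ← algebraMap_smul (SymmetricAlgebra A M) (show G.toExtension.Ring from a)]
      exact Submodule.smul_mem _ _ (ih _)
  refine ⟨e, fun k hk => ?_, hsurj, fun hM => ⟨?_, hsurj⟩⟩
  · rw [he, one_smul]
    exact congrArg Algebra.Extension.Cotangent.mk (Subtype.ext (hφ _))
  · skip
    obtain ⟨σ, hσ⟩ := Module.projective_lifting_property L LinearMap.id hx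
    let r : (Fin m → A) →ₗ[A] LinearMap.ker L := LinearMap.codRestrict _ (LinearMap.id - σ.comp L) fun v => by
      rw [LinearMap.mem_ker, LinearMap.sub_apply, LinearMap.id_apply, map_sub, LinearMap.comp_apply,
        ← LinearMap.comp_apply L σ, hσ, LinearMap.id_apply, sub_self]
    have hr : ∀ k : LinearMap.ker L, r (k : Fin m → A) = k := fun k => by
      refine Subtype.ext ?_
      change (k : Fin m → A) - σ (L k) = k
      rw [LinearMap.mem_ker.mp k.2, map_zero, sub_zero]
    let D : G.toExtension.Cotangent → Fin m → SymmetricAlgebra A M := fun w i =>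
      G.cotangentSpaceBasis.repr (G.toExtension.cotangentComplex w) i
    have hD : ∀ t, ∑ i, D (e t) i ⊗ₜ[A] r (Pi.single i 1) = t := by
      intro t
      induction t using TensorProduct.induction_on with
      | zero => simp [D]
      | add a b ha hb =>
        calc _ = ∑ i, D (e a) i ⊗ₜ[A] r (Pi.single i 1) + ∑ i, D (e b) i ⊗ₜ[A] r (Pi.single i 1) := by
              rw [← Finset.sum_add_distrib]
              simp [D, TensorProduct.add_tmul]
          _ = _ := by rw [ha, hb]
      | tmul s k =>
        have hDk : ∀ i, D (e (s ⊗ₜ k)) i = (k : Fin m → A) i • s := fun i => by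
          simp only [D, he, map_smul, Finsupp.smul_apply, smul_eq_mul]
          change s * G.cotangentSpaceBasis.repr ((1 : SymmetricAlgebra A M) ⊗ₜ
            KaehlerDifferential.D A G.toExtension.Ring (φ k)) i = _
          rw [G.cotangentSpaceBasis_repr_one_tmul]
          rw [hφ, map_sum, map_sum, Finset.sum_eq_single i]
          · rw [pderiv_C_mul, pderiv_X_self, mul_one, aeval_C, Algebra.smul_def, mul_comm]
          · intro j _ hj
            rw [pderiv_C_mul, pderiv_X_of_ne hj, mul_zero, map_zero]
          · simp
        simp only [hDk, TensorProduct.smul_tmul, ← map_smul r]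
        rw [← TensorProduct.tmul_sum, ← map_sum, show (∑ i, (k : Fin m → A) i • (Pi.single i 1 : Fin m → A)) = k by
          ext j; simp [Finset.sum_apply, Pi.single_apply], hr]
    intro a b hab
    rw [← hD a, hab, hD b]


end Groth.Agent.S12091
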