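import Groth.Statements.S12095
import Mathlib.Algebra.Polynomial.Module.Basic

set_option autoImplicit false
universe u
open CAlg

namespace Groth.Agent.S12095

/-- Let `R'` be an `R`-algebra of finite type, `M` a finite `R'`-module, and `S` an `ℕ`-graded
`R`-algebra with `f ∈ S_1` and a ring isomorphism `e : S_(f) ≅ R'` compatible with the maps from
`R`. Then there is a finite graded `S`-module `N` whose degree-zero localization `N_(f)` (the
elements `n / f^k` of `N_f` with `n` homogeneous of degree `k`) is identified with `M`: an
`R`-linear bijection `e' : N_(f) → M` with `e'(a · x) = e(a) · e'(x)` for all `a ∈ S_(f)`. (The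
published lemma produces `S`, `f` and `N` together from `R'` and `M`; here `N` is produced for any
such `S`, `f`, `e`, which the same construction gives.) -/
theorem result (R R' : Type u) [CommRing R] [CommRing R']
    [Algebra R R'] [Algebra.FiniteType R R']
    (M : Type u) [AddCommGroup M] [Module R' M] [Module R M] [IsScalarTower R R' M] [Module.Finite R' M]
    (S : Type u) [CommRing S] [Algebra R S] (𝒜 : ℕ → Submodule R S) [GradedAlgebra 𝒜] (f : S) (hf : f ∈ 𝒜 1)
    (e : HomogeneousLocalization.Away 𝒜 f ≃+* R')
    (he : ∀ r : R, (e.symm (algebraMap R R' r)).val = algebraMap S (Localization.Away f) (algebraMap R S r)) :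
    ∃ (N : Type u) (_ : AddCommGroup N) (_ : Module S N) (_ : Module R N) (_ : IsScalarTower R S N)
      (ℳ : ℕ → Submodule R N) (_ : DirectSum.Decomposition ℳ) (_ : SetLike.GradedSMul 𝒜 ℳ)
      (Nf : Submodule R (LocalizedModule (Submonoid.powers f) N)) (e' : ↥Nf ≃ₗ[R] M),
      Module.Finite S N ∧
      (∀ x, x ∈ Nf ↔ ∃ k : ℕ, ∃ n ∈ ℳ k, f ^ k • x = LocalizedModule.mk n 1) ∧
      (∀ (a : HomogeneousLocalization.Away 𝒜 f) (x y : ↥Nf),
        a.val • (x : LocalizedModule (Submonoid.powers f) N) = y → e' y = e a • e' x) := by
  classical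
  -- the degree-wise maps
  let φ : ∀ d : ℕ, 𝒜 d →+ R' := fun d => AddMonoidHom.mk'
    (fun a => e (HomogeneousLocalization.Away.mk 𝒜 hf d a (by simpa using a.2))) fun a b => by
      rw [← map_add]; congr 1
      apply HomogeneousLocalization.val_injective
      simp only [HomogeneousLocalization.val_add, HomogeneousLocalization.Away.val_mk, Submodule.coe_add, Localization.add_mk_self]
  have hφ1 : φ 0 ⟨1, SetLike.one_mem_graded 𝒜⟩ = 1 := by
    show e _ = 1
    rw [← map_one e]; congr 1
    apply HomogeneousLocalization.val_injective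
    simp only [HomogeneousLocalization.Away.val_mk, HomogeneousLocalization.val_one, pow_zero]
    exact Localization.mk_self 1
  have hφmul : ∀ i j (a : 𝒜 i) (b : 𝒜 j), φ (i + j) ⟨(a : S) * b, SetLike.mul_mem_graded a.2 b.2⟩ = φ i a * φ j b := by
    intro i j a b
    show e _ = e _ * e _
    rw [← map_mul]; congr 1
    apply HomogeneousLocalization.val_injective
    simp only [HomogeneousLocalization.Away.val_mk, HomogeneousLocalization.val_mul, Localization.mk_mul]
    congr 1
    exact Subtype.ext (pow_add f i j)
  let ψ : S →+* Polynomial R' := (DirectSum.toSemiring (fun d => ((Polynomial.monomial d).toAddMonoidHom).comp (φ d))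
    (show Polynomial.monomial 0 (φ 0 ⟨1, SetLike.one_mem_graded 𝒜⟩) = 1 by rw [hφ1]; simp)
    (fun {i j} a b => show Polynomial.monomial (i + j) (φ (i + j) ⟨(a : S) * b, SetLike.mul_mem_graded a.2 b.2⟩) =
      Polynomial.monomial i (φ i a) * Polynomial.monomial j (φ j b) by
      rw [hφmul, Polynomial.monomial_mul_monomial])).comp (DirectSum.decomposeRingEquiv 𝒜).toRingHom
  have hψ : ∀ d (a : 𝒜 d), ψ (a : S) = Polynomial.monomial d (φ d a) := fun d a => by
    simp only [ψ, RingHom.comp_apply]
    erw [DirectSum.decompose_coe, DirectSum.toSemiring_of]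
    rfl
  have hψR : ∀ r : R, ψ (algebraMap R S r) = Polynomial.C (algebraMap R R' r) := fun r => by
    rw [show algebraMap R S r = ((⟨algebraMap R S r, SetLike.algebraMap_mem_graded 𝒜 r⟩ : 𝒜 0) : S) from rfl, hψ,
      Polynomial.monomial_zero_left]
    congr 1
    show e _ = _
    conv_rhs => rw [← e.apply_symm_apply (algebraMap R R' r)]
    congr 1
    apply HomogeneousLocalization.val_injective
    rw [he, HomogeneousLocalization.Away.val_mk, ← Localization.mk_one_eq_algebraMap]
    congr 1
    exact Subtype.ext (pow_zero f)
  have hψf : ψ f = Polynomial.X := by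
    rw [show f = ((⟨f, hf⟩ : 𝒜 1) : S) from rfl, hψ, Polynomial.X]
    congr 1
    show e _ = 1
    rw [← map_one e]; congr 1
    apply HomogeneousLocalization.val_injective
    simp only [HomogeneousLocalization.Away.val_mk, HomogeneousLocalization.val_one, pow_one]
    exact Localization.mk_self ⟨f, Submonoid.mem_powers f⟩
  -- modules
  letI : Module S (PolynomialModule R' M) := Module.compHom _ ψ
  letI : Module S M := Module.compHom M ((Polynomial.evalRingHom 1).comp ψ)
  have hsm : ∀ (s : S) (x : PolynomialModule R' M), s • x = ψ s • x := fun _ _ => rfl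
  have hsM : ∀ (s : S) (m : M), s • m = (ψ s).eval 1 • m := fun _ _ => rfl
  haveI : IsScalarTower R S (PolynomialModule R' M) := IsScalarTower.of_algebraMap_smul fun r x => by
    rw [hsm, hψR]
    ext n
    rw [PolynomialModule.smul_apply, Finset.sum_eq_single (0, n)]
    · rw [Polynomial.coeff_C_zero]
      exact algebraMap_smul R' r _
    · rintro ⟨a, b⟩ h hne
      rw [Finset.HasAntidiagonal.mem_antidiagonal] at h
      rw [Polynomial.coeff_C_ne_zero (fun h' : a = 0 => hne (Prod.ext h' (by omega))), zero_smul]
    · intro h; exact absurd (by simp) h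
  haveI : IsScalarTower R S M := IsScalarTower.of_algebraMap_smul fun r m => by
    rw [hsM, hψR, Polynomial.eval_C, algebraMap_smul]
  have hco : ∀ (s : S) (d : ℕ) (m : M) (n : ℕ),
      (s • PolynomialModule.single R' d m).coeff n = if d ≤ n then (ψ s).coeff (n - d) • m else 0 := fun s d m n =>
    PolynomialModule.smul_single_apply d (ψ s) m n
  have hhom : ∀ (i : ℕ) (a : 𝒜 i) (d : ℕ) (m : M),
      (a : S) • PolynomialModule.single R' d m = PolynomialModule.single R' (i + d) (φ i a • m) := fun i a d m => by
    rw [hsm, hψ, PolynomialModule.monomial_smul_single]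
  obtain ⟨g, hg⟩ := Module.Finite.fg_top (R := R') (M := M)
  let N : Submodule S (PolynomialModule R' M) := Submodule.span S ((fun m => PolynomialModule.single R' 0 m) '' (g : Set M))
  have hcomp : ∀ x ∈ N, ∀ d, PolynomialModule.single R' d (x.coeff d) ∈ N := by
    intro x hx
    induction hx using Submodule.span_induction with
    | mem x hx =>
      obtain ⟨m, hm, rfl⟩ := hx
      intro d
      rcases d with _ | d
      · rw [PolynomialModule.coeff_single, Finsupp.single_eq_same]
        exact Submodule.subset_span ⟨m, hm, rfl⟩
      · rw [PolynomialModule.coeff_single, Finsupp.single_eq_of_ne (by omega)]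
        rw [show PolynomialModule.single R' (d + 1) (0 : M) = 0 from PolynomialModule.ext (by simp)]
        exact N.zero_mem
    | zero =>
      intro d
      rw [show PolynomialModule.single R' d ((0 : PolynomialModule R' M).coeff d) = 0 from PolynomialModule.ext (by simp)]
      exact N.zero_mem
    | add x y _ _ hx hy =>
      intro d
      rw [PolynomialModule.coeff_add, Finsupp.add_apply,
        show PolynomialModule.single R' d (x.coeff d + y.coeff d) = PolynomialModule.single R' d (x.coeff d) +
          PolynomialModule.single R' d (y.coeff d) from PolynomialModule.ext (by simp)]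
      exact N.add_mem (hx d) (hy d)
    | smul s x _ hx =>
      intro d
      induction s using DirectSum.Decomposition.inductionOn 𝒜 with
      | zero =>
        rw [zero_smul, show PolynomialModule.single R' d ((0 : PolynomialModule R' M).coeff d) = 0 from
          PolynomialModule.ext (by simp)]
        exact N.zero_mem
      | add a b ha hb =>
        rw [add_smul, PolynomialModule.coeff_add, Finsupp.add_apply,
          show ∀ u v : M, PolynomialModule.single R' d (u + v) = PolynomialModule.single R' d u +
            PolynomialModule.single R' d v from fun u v => PolynomialModule.ext (by simp)]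
        exact N.add_mem ha hb
      | @homogeneous i a =>
        rw [hsm, hψ, PolynomialModule.monomial_smul_apply]
        split_ifs with hid
        · have h := N.smul_mem (a : S) (hx (d - i))
          rwa [hhom, Nat.add_sub_cancel' hid] at h
        · rw [show PolynomialModule.single R' d (0 : M) = 0 from PolynomialModule.ext (by simp)]
          exact N.zero_mem
  let ℳ : ℕ → Submodule R N := fun d =>
    { carrier := {x | (x : PolynomialModule R' M) = PolynomialModule.single R' d ((x : PolynomialModule R' M).coeff d)}
      add_mem' := fun {x y} hx hy => PolynomialModule.ext (by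
        simp only [Submodule.coe_add, PolynomialModule.coeff_add, PolynomialModule.coeff_single, Finsupp.add_apply,
          Finsupp.single_add]
        conv_lhs => rw [hx, hy]
        simp)
      zero_mem' := PolynomialModule.ext (by simp)
      smul_mem' := fun r x hx => by
        show ((r • x : N) : PolynomialModule R' M) = _
        rw [Submodule.coe_smul_of_tower, ← algebraMap_smul S r (x : PolynomialModule R' M), hx, hsm, hψR,
          ← Polynomial.monomial_zero_left, PolynomialModule.monomial_smul_single, zero_add,
          PolynomialModule.coeff_single, Finsupp.single_eq_same] }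
  have hℳ : ∀ d (x : N), x ∈ ℳ d ↔
      (x : PolynomialModule R' M) = PolynomialModule.single R' d ((x : PolynomialModule R' M).coeff d) := fun _ _ => Iff.rfl
  let pr : ∀ d : ℕ, N →ₗ[R] ℳ d := fun d =>
    { toFun := fun x => ⟨⟨PolynomialModule.single R' d ((x : PolynomialModule R' M).coeff d), hcomp x.1 x.2 d⟩,
        (hℳ _ _).2 (by simp)⟩
      map_add' := fun x y => Subtype.ext (Subtype.ext (PolynomialModule.ext (by simp)))
      map_smul' := fun r x => Subtype.ext (Subtype.ext (by
        show PolynomialModule.single R' d (((r • x : N) : PolynomialModule R' M).coeff d) = _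
        simp only [RingHom.id_apply, Submodule.coe_smul_of_tower]
        rw [← algebraMap_smul S r (x : PolynomialModule R' M),
          ← algebraMap_smul S r (PolynomialModule.single R' d ((x : PolynomialModule R' M).coeff d)), hsm, hsm, hψR,
          ← Polynomial.monomial_zero_left, PolynomialModule.monomial_smul_apply, if_pos (Nat.zero_le d),
          PolynomialModule.monomial_smul_single, zero_add, Nat.sub_zero])) }
  have hsum : ∀ x : N, ∑ d ∈ (x : PolynomialModule R' M).coeff.support, ((pr d x : ℳ d) : N) = x := fun x => by
    refine Subtype.ext (PolynomialModule.ext ?_)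
    simp only [AddSubmonoidClass.coe_finsetSum, PolynomialModule.coeff_sum]
    exact Finsupp.sum_single _
  letI : DirectSum.Decomposition ℳ :=
    { decompose' := fun x => ∑ d ∈ (x : PolynomialModule R' M).coeff.support, DirectSum.of (fun d => ℳ d) d (pr d x)
      left_inv := fun x => by
        rw [map_sum]
        simp only [DirectSum.coeAddMonoidHom_of]
        exact hsum x
      right_inv := fun z => by
        refine DFunLike.ext _ _ fun n => Subtype.ext (Subtype.ext ?_)
        have hz : ∀ m, (((DirectSum.coeAddMonoidHom ℳ z : N) : PolynomialModule R' M)).coeff m =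
            ((z m : N) : PolynomialModule R' M).coeff m := fun m => by
          induction z using DirectSum.induction_on with
          | zero => simp
          | of d x =>
            rw [DirectSum.coeAddMonoidHom_of]
            by_cases h : d = m
            · subst h; rw [DirectSum.of_eq_same]
            · rw [DirectSum.of_eq_of_ne _ _ _ (Ne.symm h), (hℳ d x.1).1 x.2, PolynomialModule.coeff_single,
                Finsupp.single_eq_of_ne (Ne.symm h)]
              simp
          | add a b ha hb => simp [ha, hb]
        rw [DFinsupp.finsetSum_apply, (hℳ n (z n).1).1 (z n).2]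
        simp only [AddSubmonoidClass.coe_finsetSum]
        rw [Finset.sum_eq_single n (fun d _ hd => by rw [DirectSum.of_eq_of_ne _ _ _ (Ne.symm hd)]; rfl)
          (fun h => by
            rw [DirectSum.of_eq_same]
            show PolynomialModule.single R' n _ = 0
            rw [Finsupp.notMem_support_iff.1 h]
            exact PolynomialModule.ext (by simp))]
        rw [DirectSum.of_eq_same]
        show PolynomialModule.single R' n _ = _
        rw [hz] }
  haveI : SetLike.GradedSMul 𝒜 ℳ := ⟨fun {i j a x} ha hx => by
    rw [hℳ] at hx ⊢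
    show ((a • x : N) : PolynomialModule R' M) = _
    rw [Submodule.coe_smul, hx]
    have h := hhom i ⟨a, ha⟩ j ((x : PolynomialModule R' M).coeff j)
    rw [h]
    exact PolynomialModule.ext (by simp [vadd_eq_add])⟩
  -- evaluation at one
  let ε : N →ₗ[S] M :=
    { toFun := fun x => PolynomialModule.eval 1 (x : PolynomialModule R' M)
      map_add' := fun x y => map_add _ _ _
      map_smul' := fun s x => PolynomialModule.eval_smul (ψ s) _ 1 }
  have hunit : ∀ x : Submonoid.powers f, IsUnit (algebraMap S (Module.End S M) x) := by
    rintro ⟨_, k, rfl⟩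
    rw [show algebraMap S (Module.End S M) (f ^ k) = 1 from LinearMap.ext fun m => by
      show (f ^ k) • m = m
      rw [hsM, map_pow, hψf, Polynomial.eval_pow, Polynomial.eval_X, one_pow, one_smul]]
    exact isUnit_one
  let L : LocalizedModule (Submonoid.powers f) N →ₗ[S] M := LocalizedModule.lift _ ε hunit
  have hL : ∀ n : N, L (LocalizedModule.mk n 1) = ε n := fun n => LocalizedModule.lift_mk_one _ _ _ n
  have hLf : ∀ (k : ℕ) x, L ((f ^ k) • x) = L x := fun k x => by
    rw [map_smul, hsM, map_pow, hψf, Polynomial.eval_pow, Polynomial.eval_X, one_pow, one_smul]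
  have hfN : ∀ (k l : ℕ) (n : N), n ∈ ℳ k → f ^ l • n ∈ ℳ (l + k) := fun k l n hn => by
    have h := SetLike.GradedSMul.smul_mem (A := 𝒜) (B := ℳ) (SetLike.pow_mem_graded l hf) hn
    simpa [vadd_eq_add] using h
  have hmk : ∀ (l : ℕ) (n : N), (f ^ l) • LocalizedModule.mk n (1 : Submonoid.powers f) = LocalizedModule.mk (f ^ l • n) 1 :=
    fun l n => LocalizedModule.smul'_mk _ _ _
  let Nf : Submodule R (LocalizedModule (Submonoid.powers f) N) :=
    { carrier := {x | ∃ k : ℕ, ∃ n ∈ ℳ k, f ^ k • x = LocalizedModule.mk n 1}
      zero_mem' := ⟨0, 0, (ℳ 0).zero_mem, by rw [smul_zero, LocalizedModule.zero_mk]⟩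
      add_mem' := by
        rintro x y ⟨k, n, hn, hx⟩ ⟨l, n', hn', hy⟩
        refine ⟨l + k, f ^ l • n + f ^ k • n', Submodule.add_mem _ (hfN k l n hn) (Nat.add_comm l k ▸ hfN l k n' hn'), ?_⟩
        rw [smul_add, pow_add, mul_smul, hx, mul_comm, mul_smul, hy, hmk, hmk]
        simp [LocalizedModule.mk_add_mk]
      smul_mem' := by
        rintro r x ⟨k, n, hn, hx⟩
        refine ⟨k, r • n, (ℳ k).smul_mem r hn, ?_⟩
        rw [← algebraMap_smul S r x, smul_comm, hx, LocalizedModule.smul'_mk, algebraMap_smul] }
  let L₀ : Nf →ₗ[R] M := (L.restrictScalars R).comp Nf.subtype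
  have hε : ∀ k (n : N), n ∈ ℳ k → ε n = (n : PolynomialModule R' M).coeff k := fun k n hn => by
    show PolynomialModule.eval 1 (n : PolynomialModule R' M) = _
    conv_lhs => rw [(hℳ k n).1 hn]
    rw [PolynomialModule.eval_single, one_pow, one_smul]
  have hinj : Function.Injective L₀ := (injective_iff_map_eq_zero _).2 fun x hx => by
    obtain ⟨k, n, hn, hkn⟩ := x.2
    have h0 : L (x : LocalizedModule (Submonoid.powers f) N) = 0 := hx
    have hn0 : n = 0 := Subtype.ext (by
      rw [(hℳ k n).1 hn, ← hε k n hn, ← hL, ← hkn, hLf, h0]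
      exact PolynomialModule.ext (by simp))
    rw [hn0, LocalizedModule.zero_mk] at hkn
    refine Subtype.ext ?_
    have hu := IsLocalizedModule.map_units (LocalizedModule.mkLinearMap (Submonoid.powers f) N) (Submonoid.pow f k)
    exact ((Module.End.isUnit_iff _).1 hu).1 (hkn.trans (map_zero _).symm)
  have hsurj : Function.Surjective L₀ := by
    let T : Submodule R' M :=
      { carrier := {m | ∃ k, ∃ n ∈ ℳ k, ε n = m}
        zero_mem' := ⟨0, 0, (ℳ 0).zero_mem, map_zero ε⟩
        add_mem' := by
          rintro _ _ ⟨k, n, hn, rfl⟩ ⟨l, n', hn', rfl⟩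
          refine ⟨l + k, f ^ l • n + f ^ k • n', Submodule.add_mem _ (hfN k l n hn) (Nat.add_comm l k ▸ hfN l k n' hn'), ?_⟩
          simp only [map_add, map_smul, hsM, map_pow, hψf, Polynomial.eval_pow, Polynomial.eval_X, one_pow, one_smul]
        smul_mem' := by
          rintro c _ ⟨k, n, hn, rfl⟩
          obtain ⟨a, rfl⟩ := e.surjective c
          obtain ⟨j, s, hs, rfl⟩ := HomogeneousLocalization.Away.mk_surjective 𝒜 hf a
          refine ⟨j + k, s • n, ?_, ?_⟩
          · have h := SetLike.GradedSMul.smul_mem (A := 𝒜) (B := ℳ) (show s ∈ 𝒜 j by simpa using hs) hn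
            simpa [vadd_eq_add] using h
          · have hs' : s ∈ 𝒜 j := by simpa using hs
            rw [map_smul, hsM, show ψ s = _ from hψ j ⟨s, hs'⟩, Polynomial.eval_monomial, one_pow, mul_one]
            rfl }
    have hT : T = ⊤ := eq_top_iff.2 (hg.ge.trans (Submodule.span_le.2 fun m hm =>
      ⟨0, ⟨_, Submodule.subset_span ⟨m, hm, rfl⟩⟩, (hℳ _ _).2 (by simp), by
        show PolynomialModule.eval 1 _ = _
        rw [PolynomialModule.eval_single, one_pow, one_smul]⟩))
    intro m
    obtain ⟨k, n, hn, rfl⟩ : m ∈ T := hT ▸ Submodule.mem_top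
    have hu := IsLocalizedModule.map_units (LocalizedModule.mkLinearMap (Submonoid.powers f) N) (Submonoid.pow f k)
    obtain ⟨x, hx⟩ := ((Module.End.isUnit_iff _).1 hu).2 (LocalizedModule.mk n 1)
    refine ⟨⟨x, k, n, hn, hx⟩, ?_⟩
    show L x = ε n
    rw [← hLf k, ← hL]
    exact congrArg L hx
  refine ⟨N, inferInstance, inferInstance, inferInstance, inferInstance, ℳ, inferInstance, inferInstance, Nf,
    LinearEquiv.ofBijective L₀ ⟨hinj, hsurj⟩, Module.Finite.iff_fg.2 (Submodule.fg_span (g.finite_toSet.image _)),
    fun x => Iff.rfl, fun a x y hxy => ?_⟩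
  obtain ⟨j, s, hs, rfl⟩ := HomogeneousLocalization.Away.mk_surjective 𝒜 hf a
  have hs' : s ∈ 𝒜 j := by simpa using hs
  show L y = e _ • L x
  rw [← hxy, HomogeneousLocalization.Away.val_mk, ← hLf j, ← smul_assoc, Localization.smul_mk,
    show Localization.mk (f ^ j • s) (⟨f ^ j, ⟨j, rfl⟩⟩ : Submonoid.powers f) = algebraMap S (Localization.Away f) s by
      rw [← Localization.mk_one_eq_algebraMap, Localization.mk_eq_mk_iff, Localization.r_iff_exists]
      exact ⟨1, by simp⟩,
    algebraMap_smul, map_smul, hsM, show ψ s = _ from hψ j ⟨s, hs'⟩, Polynomial.eval_monomial, one_pow,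
    mul_one]
  rfl

end Groth.Agent.S12095
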