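import Groth.Statements.S12098
import Groth.Agent.TrivSum.Free

set_option autoImplicit false
universe u
open CategoryTheory CategoryTheory.Limits
attribute [local instance] HasDerivedCategory.standard
open DRing

namespace Groth.Agent.S12098

/-- Let `p ⊆ R` be a prime and `M•`, `N•` bounded complexes whose terms are finite projective
`R`-modules and which are isomorphic in `D(R)`. Then for some `f ∉ p` the localized complexes `M•_f`
and `N•_f` become isomorphic once a finite direct sum of trivial complexes is added to each: `M•_f ⊕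
P•` and `N•_f ⊕ Q•` are isomorphic as complexes, with `P•`, `Q•` finite direct sums of copies of `0
→ R_f = R_f → 0` (placed in arbitrary degrees), expressed here as: bounded, with finite free terms
and free boundary modules, and with null-homotopic identity. -/
theorem result (R : Type u) [CommRing R] (p : Ideal R) [p.IsPrime]
    (M N : DRing.Cx R) (a b : ℤ) (hM : DRing.VanishesOutside M a b) (hN : DRing.VanishesOutside N a b)
    (hMp : DRing.TermwiseFiniteProjective M) (hNp : DRing.TermwiseFiniteProjective N)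
    (h : Nonempty (DRing.toD M ≅ DRing.toD N)) :
    ∃ f : R, f ∉ p ∧ ∃ P Q : DRing.Cx (Localization.Away f),
      ((∃ a' b' : ℤ, DRing.VanishesOutside P a' b') ∧ DRing.TermwiseFiniteFree P ∧
          (∀ i : ℤ, Module.Free (Localization.Away f) (LinearMap.range (P.d i (i + 1)).hom)) ∧ Nonempty (Homotopy (𝟙 P) 0)) ∧
      ((∃ a' b' : ℤ, DRing.VanishesOutside Q a' b') ∧ DRing.TermwiseFiniteFree Q ∧
          (∀ i : ℤ, Module.Free (Localization.Away f) (LinearMap.range (Q.d i (i + 1)).hom)) ∧ Nonempty (Homotopy (𝟙 Q) 0)) ∧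
      Nonempty ((((ModuleCat.extendScalars (algebraMap R (Localization.Away f))).mapHomologicalComplex (ComplexShape.up ℤ)).obj M) ⊞ P ≅ (((ModuleCat.extendScalars (algebraMap R (Localization.Away f))).mapHomologicalComplex (ComplexShape.up ℤ)).obj N) ⊞ Q) := by
  have kproj : ∀ {P : DRing.Cx R} {a' b' : ℤ}, DRing.VanishesOutside P a' b' →
      DRing.TermwiseFiniteProjective P → P.IsKProjective := fun hv hP =>
    Groth.Agent.DRingKP.isKProjective_of_vanishesAbove (fun i hi => hv i (Or.inr hi)) fun i =>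
      haveI := (hP i).2
      (IsProjective.iff_projective _).1 inferInstance
  haveI := kproj hM hMp
  haveI := kproj hN hNp
  obtain ⟨e⟩ := h
  obtain ⟨φ, hφ⟩ := Groth.Agent.PerfLocal.exists_lift e.hom
  haveI : IsIso (DerivedCategory.Q.map φ) := by rw [hφ]; infer_instance
  haveI hq : QuasiIso φ := (DerivedCategory.isIso_Q_map_iff_quasiIso _ φ).1 inferInstance
  obtain ⟨E, rfl⟩ := (CochainComplex.IsKProjective.quasiIso_iff φ).1 hq
  obtain ⟨Ψ⟩ := Groth.Agent.TrivSum.nonempty_iso E
  have hvK := Groth.Agent.TrivSum.vanishes_cone E.hom hM hN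
  have hvC := Groth.Agent.TrivSum.vanishes_cone (𝟙 M) hM hM
  have hpK := Groth.Agent.TrivSum.finiteProjective_cone E.hom hMp hNp
  have hpC := Groth.Agent.TrivSum.finiteProjective_cone (𝟙 M) hMp hMp
  haveI := kproj hvK hpK
  have hK : Homotopy (𝟙 (CochainComplex.mappingCone E.hom)) 0 :=
    CochainComplex.IsKProjective.homotopyZero _
      ((Groth.Agent.DerPlus.quasiIso_iff_acyclic_mappingCone E.hom).1 hq)
  obtain ⟨f1, hf1, hF1⟩ := Groth.Agent.TrivSum.exists_trivial p hvK hpK hK
  obtain ⟨f2, hf2, hF2⟩ := Groth.Agent.TrivSum.exists_trivial p hvC hpC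
    (CochainComplex.mappingCone.homotopyToZeroOfId M)
  refine ⟨f1 * f2, fun h => (Ideal.IsPrime.mem_or_mem ‹p.IsPrime› h).elim hf1 hf2, _, _,
    hF1 _ (dvd_mul_right f1 f2), hF2 _ (dvd_mul_left f2 f1), ?_⟩
  set Φ := (ModuleCat.extendScalars.{u, u, u} (algebraMap R (Localization.Away (f1 * f2)))).mapHomologicalComplex
    (ComplexShape.up ℤ)
  haveI : PreservesBinaryBiproducts Φ := preservesBinaryBiproducts_of_preservesBiproducts Φ
  exact ⟨(Φ.mapBiprod _ _).symm ≪≫ Φ.mapIso Ψ ≪≫ Φ.mapBiprod _ _⟩

end Groth.Agent.S12098
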