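import Groth.Statements.S12104
import Groth.Agent.BorelConj.TypeR

set_option autoImplicit false
set_option linter.style.haveILetI false
set_option backward.isDefEq.respectTransparency false
set_option maxHeartbeats 1000000
universe u
open CategoryTheory MonoidalCategory CartesianMonoidalCategory MonObj GrpObj AlgebraicGeometry
open RedSub
namespace Groth.Agent.S12104

/-- Let G be a reductive S-group and (M, h : H ⟶ G_M) a representing pair for the functor of subgroups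
of type (RC) of G (type (R) with closed root sets on the geometric fibres; every such subgroup of a
base change G_{S'} has the same points as the pullback of h along exactly one S-morphism S' ⟶ M).
Suppose (Cl₁, cl₁ : M ⟶ Cl₁) and (Cl₂, cl₂ : M ⟶ Cl₂) are two pairs with the following properties:
Clᵢ finite and etale over S; clᵢ smooth, surjective, quasi-compact, locally of finite presentation
and locally quasi-projective with connected geometric fibres; and two subgroups of type (RC) of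
G_{S'} with classifying maps g₁, g₂ : S' ⟶ M have the same image under clᵢ if and only if at every
point of S' their geometric fibres are conjugate under a point of the geometric fibre of G. Then
there is exactly one S-isomorphism e : Cl₁ ≅ Cl₂ with cl₁ ≫ e.hom = cl₂. -/
theorem result {S : Scheme.{u}} (G : Over S) [GrpObj G] (hG : Red.IsReductive G)
    (M : Over S) (H : Over M.left) [GrpObj H] (h : H ⟶ Red.bc M.hom G) (hh : RedSub.IsTypeR h)
    (hRC : (∀ (s : ↥M.left) (D' : Red.SplitRed (Red.geomFibre s (Red.bc M.hom G))) (t' : D'.T ⟶ Red.geomFibre s _),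
        t' ≫ (Over.pullback (Red.geomPt s)).map h = D'.i →
        ∀ a b c : D'.idx, (∃ v, v ≫ (Over.pullback (Red.geomPt s)).map h = D'.u a) →
          (∃ v, v ≫ (Over.pullback (Red.geomPt s)).map h = D'.u b) → D'.P.root a + D'.P.root b = D'.P.root c →
          ∃ v, v ≫ (Over.pullback (Red.geomPt s)).map h = D'.u c))
    (huniv : ∀ (S' : Scheme.{u}) (f : S' ⟶ S) (H' : Over S') [GrpObj H'] (h' : H' ⟶ Red.bc f G), RedSub.IsTypeR h' →
        (∀ (s : ↥S') (D' : Red.SplitRed (Red.geomFibre s (Red.bc f G))) (t' : D'.T ⟶ Red.geomFibre s _),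
        t' ≫ (Over.pullback (Red.geomPt s)).map h' = D'.i →
        ∀ a b c : D'.idx, (∃ v, v ≫ (Over.pullback (Red.geomPt s)).map h' = D'.u a) →
          (∃ v, v ≫ (Over.pullback (Red.geomPt s)).map h' = D'.u b) → D'.P.root a + D'.P.root b = D'.P.root c →
          ∃ v, v ≫ (Over.pullback (Red.geomPt s)).map h' = D'.u c) →
        ∃! g : S' ⟶ M.left, g ≫ M.hom = f ∧ RedSub.SamePoints G f h' M h g) 
    (Cl₁ : Over S) (cl₁ : M ⟶ Cl₁) (Cl₂ : Over S) (cl₂ : M ⟶ Cl₂)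
    (hCl₁ : IsFinite Cl₁.hom ∧ Etale Cl₁.hom ∧ Smooth cl₁.left ∧ Surjective cl₁.left ∧
      QuasiCompact cl₁.left ∧ LocallyOfFinitePresentation cl₁.left ∧ RedSub.IsLocallyQuasiProjective (Over.mk cl₁.left) ∧
      (∀ c : ↥Cl₁.left, ConnectedSpace ↥(Red.geomFibre c (Over.mk cl₁.left)).left) ∧
      ∀ (S' : Scheme.{u}) (f : S' ⟶ S) (H₁ H₂ : Over S') [GrpObj H₁] [GrpObj H₂] (h₁ : H₁ ⟶ Red.bc f G)
        (h₂ : H₂ ⟶ Red.bc f G) (g₁ g₂ : S' ⟶ M.left), RedSub.IsTypeR h₁ → RedSub.IsTypeR h₂ →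
        g₁ ≫ M.hom = f → g₂ ≫ M.hom = f → RedSub.SamePoints G f h₁ M h g₁ → RedSub.SamePoints G f h₂ M h g₂ →
        (g₁ ≫ cl₁.left = g₂ ≫ cl₁.left ↔
          ∀ s : ↥S', ∃ gpt : 𝟙_ _ ⟶ Red.geomFibre s (Red.bc f G),
            RedSub.ConjEq ((Over.pullback (Red.geomPt s)).map h₁) ((Over.pullback (Red.geomPt s)).map h₂) gpt))
    (hCl₂ : IsFinite Cl₂.hom ∧ Etale Cl₂.hom ∧ Smooth cl₂.left ∧ Surjective cl₂.left ∧
      QuasiCompact cl₂.left ∧ LocallyOfFinitePresentation cl₂.left ∧ RedSub.IsLocallyQuasiProjective (Over.mk cl₂.left) ∧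
      (∀ c : ↥Cl₂.left, ConnectedSpace ↥(Red.geomFibre c (Over.mk cl₂.left)).left) ∧
      ∀ (S' : Scheme.{u}) (f : S' ⟶ S) (H₁ H₂ : Over S') [GrpObj H₁] [GrpObj H₂] (h₁ : H₁ ⟶ Red.bc f G)
        (h₂ : H₂ ⟶ Red.bc f G) (g₁ g₂ : S' ⟶ M.left), RedSub.IsTypeR h₁ → RedSub.IsTypeR h₂ →
        g₁ ≫ M.hom = f → g₂ ≫ M.hom = f → RedSub.SamePoints G f h₁ M h g₁ → RedSub.SamePoints G f h₂ M h g₂ →
        (g₁ ≫ cl₂.left = g₂ ≫ cl₂.left ↔
          ∀ s : ↥S', ∃ gpt : 𝟙_ _ ⟶ Red.geomFibre s (Red.bc f G),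
            RedSub.ConjEq ((Over.pullback (Red.geomPt s)).map h₁) ((Over.pullback (Red.geomPt s)).map h₂) gpt)) :
    ∃! e : Cl₁ ≅ Cl₂, cl₁ ≫ e.hom = cl₂ := by
  haveI := hG.1; haveI := hG.2.1
  obtain ⟨hf₁, he₁, hs₁, hsu₁, hq₁, -, -, -, hr₁⟩ := hCl₁
  obtain ⟨hf₂, he₂, hs₂, hsu₂, hq₂, -, -, -, hr₂⟩ := hCl₂
  haveI := hs₁; haveI := hsu₁; haveI := hq₁; haveI := hs₂; haveI := hsu₂; haveI := hq₂
  -- the two maps have the same kernel pairs
  have key : ∀ {W : Scheme.{u}} (a b : W ⟶ M.left), a ≫ M.hom = b ≫ M.hom →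
      (a ≫ cl₁.left = b ≫ cl₁.left ↔ a ≫ cl₂.left = b ≫ cl₂.left) := fun {W} a b hab => by
    let A : Over.mk (a ≫ M.hom) ⟶ M := Over.homMk a
    let B : Over.mk (a ≫ M.hom) ⟶ M := Over.homMk b hab.symm
    have hA := BorelConj.isTypeR_pullMap h hh A
    have hB := BorelConj.isTypeR_pullMap h hh B
    have hpA : RedSub.SamePoints G (a ≫ M.hom) (MTDescent.pullMap h A) M h a :=
      (GrpSubRep.samePoints_iff (a ≫ M.hom) _ h a rfl).2 fun Y g t => GrpSubRep.inK_pullMap_iff h A g t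
    have hpB : RedSub.SamePoints G (a ≫ M.hom) (MTDescent.pullMap h B) M h b :=
      (GrpSubRep.samePoints_iff (a ≫ M.hom) _ h b hab.symm).2 fun Y g t => GrpSubRep.inK_pullMap_iff h B g t
    exact (hr₁ W (a ≫ M.hom) _ _ _ _ a b hA hB rfl hab.symm hpA hpB).trans
      (hr₂ W (a ≫ M.hom) _ _ _ _ a b hA hB rfl hab.symm hpA hpB).symm
  have w₁ : ∀ {W : Scheme.{u}} (a b : W ⟶ M.left), a ≫ cl₁.left = b ≫ cl₁.left → a ≫ cl₂.left = b ≫ cl₂.left :=
    fun a b e => (key a b (by rw [← Over.w cl₁, ← Category.assoc, e, Category.assoc])).1 e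
  have w₂ : ∀ {W : Scheme.{u}} (a b : W ⟶ M.left), a ≫ cl₂.left = b ≫ cl₂.left → a ≫ cl₁.left = b ≫ cl₁.left :=
    fun a b e => (key a b (by rw [← Over.w cl₂, ← Category.assoc, e, Category.assoc])).2 e
  let f := EffectiveEpi.desc cl₁.left cl₂.left fun a b e => w₁ a b e
  let g := EffectiveEpi.desc cl₂.left cl₁.left fun a b e => w₂ a b e
  have hf : cl₁.left ≫ f = cl₂.left := EffectiveEpi.fac _ _ _
  have hg : cl₂.left ≫ g = cl₁.left := EffectiveEpi.fac _ _ _
  have hfg : f ≫ g = 𝟙 _ := by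
    rw [← cancel_epi cl₁.left, reassoc_of% hf, hg, Category.comp_id]
  have hgf : g ≫ f = 𝟙 _ := by
    rw [← cancel_epi cl₂.left, reassoc_of% hg, hf, Category.comp_id]
  have hfS : f ≫ Cl₂.hom = Cl₁.hom := by
    rw [← cancel_epi cl₁.left, reassoc_of% hf, Over.w, Over.w]
  let e : Cl₁ ≅ Cl₂ := Over.isoMk ⟨f, g, hfg, hgf⟩ hfS
  refine ⟨e, Over.OverMorphism.ext hf, fun e' he' => Iso.ext (Over.OverMorphism.ext ?_)⟩
  rw [← cancel_epi cl₁.left]
  exact (congrArg CommaMorphism.left he').trans hf.symm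

end Groth.Agent.S12104
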