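import Groth.Statements.S12105
import Groth.Agent.GrothSS.Ext
import Groth.Agent.SiteCoh.TotAcyclic

set_option autoImplicit false
universe u
open CategoryTheory
open CohSite

namespace Groth.Agent.S12105

open CategoryTheory.Limits in
/-- On a small site (C, J), for a presheaf of sets R on C and an abelian sheaf M there is a bounded E_2
spectral sequence of abelian groups with E_2^{p,q} isomorphic to H^p(R, H^q(M)) — the cohomology, in
the topos of presheaves (sheaves for the trivial topology), of the presheaf V ↦ H^q(V, M) with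
respect to R, i.e. the p-th Ext out of the free abelian presheaf on R — for p, q ≥ 0 and zero
otherwise, with abutment data whose filtrations are finite on H^n(aR, M), the cohomology of M with
respect to the sheaf of sets associated to R (n ≥ 0; zero for n < 0). The E_2 identifications and
abutment isomorphisms are asserted to exist only, not pinned to the canonical maps, so edge maps and
functoriality in R and M are not part of this statement. -/
theorem result {C : Type u} [SmallCategory C]
    (J : GrothendieckTopology C) (R : Cᵒᵖ ⥤ Type u) (M : Sheaf J AddCommGrpCat.{u}) :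
    ∃ (E : E₂CohomologicalSpectralSequence AddCommGrpCat.{u})
      (a : SpSeq.Abutment E (fun n : ℤ =>
        if 0 ≤ n then AddCommGrpCat.of (CohCx.HK ((presheafToSheaf J (Type u)).obj R) M n.toNat)
        else AddCommGrpCat.of PUnit.{u + 1})),
      (∀ n, a.IsFinite n) ∧ SpSeq.IsBounded E ∧
      ∀ p q : ℤ, Nonempty ((E.page 2 le_rfl).X (p, q) ≅
        (if 0 ≤ p ∧ 0 ≤ q then
          AddCommGrpCat.of (CohCx.HK (J := (⊥ : GrothendieckTopology C)) ⟨R, Presheaf.isSheaf_bot _⟩
            ⟨M.cohomologyPresheaf q.toNat, Presheaf.isSheaf_bot _⟩ p.toNat)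
         else AddCommGrpCat.of PUnit.{u + 1})) := by
  let B : GrothendieckTopology C := ⊥
  let L := presheafToSheaf J AddCommGrpCat.{u}
  let L0 := presheafToSheaf B AddCommGrpCat.{u}
  let T := sheafToPresheaf J AddCommGrpCat.{u} ⋙ L0
  let adj := sheafificationAdjunction J AddCommGrpCat.{u}
  let adj0 := sheafificationAdjunction B AddCommGrpCat.{u}
  let c : ∀ Pp : Cᵒᵖ ⥤ AddCommGrpCat.{u}, L0.obj Pp ≅ (⟨Pp, Presheaf.isSheaf_bot _⟩ : Sheaf B AddCommGrpCat.{u}) :=
    fun Pp => asIso (adj0.counit.app ⟨Pp, Presheaf.isSheaf_bot _⟩)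
  let α : L0 ⋙ sheafToPresheaf B AddCommGrpCat.{u} ≅ 𝟭 _ :=
    (@asIso _ _ _ _ adj0.unit (@NatIso.isIso_of_isIso_app _ _ _ _ _ _ _ fun Pp =>
      isIso_toSheafify B (Presheaf.isSheaf_bot Pp))).symm
  let P := L0.obj (R ⋙ AddCommGrpCat.free.{u})
  let Q := L.obj (((presheafToSheaf J (Type u)).obj R).obj ⋙ AddCommGrpCat.free.{u})
  let a : L.obj (R ⋙ AddCommGrpCat.free.{u}) ≅ Q :=
    asIso (L.map (Functor.whiskerRight (toSheafify J R) AddCommGrpCat.free.{u}))
  haveI : L.Additive := inferInstance
  haveI : L0.Additive := inferInstance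
  haveI : T.Additive := inferInstance
  let e : ∀ F : Sheaf J AddCommGrpCat.{u}, (P ⟶ T.obj F) ≃+ (Q ⟶ F) := fun F =>
    { toFun := fun φ => a.inv ≫ (adj.homEquiv _ F).symm (adj0.homEquiv _ _ φ ≫ α.hom.app F.obj)
      invFun := fun ψ => (adj0.homEquiv _ _).symm (adj.homEquiv _ F (a.hom ≫ ψ) ≫ α.inv.app F.obj)
      left_inv := fun φ => by
        dsimp only
        rw [Iso.hom_inv_id_assoc, Equiv.apply_symm_apply, Category.assoc, Iso.hom_inv_id_app]
        exact (congrArg _ (Category.comp_id _)).trans ((adj0.homEquiv _ _).symm_apply_apply φ)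
      right_inv := fun ψ => by
        dsimp only
        rw [Equiv.apply_symm_apply, Category.assoc, Iso.inv_hom_id_app]
        exact (congrArg (fun t => a.inv ≫ (adj.homEquiv _ F).symm t) (Category.comp_id _)).trans
          ((congrArg (a.inv ≫ ·) ((adj.homEquiv _ F).symm_apply_apply _)).trans (a.inv_hom_id_assoc ψ))
      map_add' := fun φ ψ => by
        have h1 : adj0.homEquiv (R ⋙ AddCommGrpCat.free.{u}) (T.obj F) (φ + ψ) =
            adj0.homEquiv _ _ φ + adj0.homEquiv _ _ ψ := (adj0.homAddEquiv _ _).map_add φ ψ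
        rw [h1, Preadditive.add_comp]
        exact (congrArg (a.inv ≫ ·) ((adj.homAddEquiv (R ⋙ AddCommGrpCat.free.{u}) F).symm.map_add _ _)).trans
          (Preadditive.comp_add _ _ _ _ _ _) }
  refine Groth.Agent.GrothSS.exists_ext T P Q e (fun {F G} f φ => ?_) (fun I hI q => ?_) M
    (fun n => AddCommGrpCat.of (CohCx.HK ((presheafToSheaf J (Type u)).obj R) M n))
    (fun p q => AddCommGrpCat.of (CohCx.HK (J := B) ⟨R, Presheaf.isSheaf_bot _⟩
      ⟨M.cohomologyPresheaf q, Presheaf.isSheaf_bot _⟩ p)) _ (AddCommGrpCat.isZero_of_subsingleton _)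
    (fun n => ⟨AddEquiv.refl _⟩) (fun p q => ?_)
  · change a.inv ≫ (adj.homEquiv _ G).symm (adj0.homEquiv _ _ (φ ≫ L0.map f.hom) ≫ α.hom.app G.obj) =
      (a.inv ≫ (adj.homEquiv _ F).symm (adj0.homEquiv _ _ φ ≫ α.hom.app F.obj)) ≫ f
    rw [Category.assoc]
    refine congrArg (a.inv ≫ ·) ((congrArg _ ?_).trans (adj.homEquiv_naturality_right_symm _ f))
    rw [adj0.homEquiv_naturality_right, Category.assoc, Category.assoc]
    exact congrArg (_ ≫ ·) (α.hom.naturality f.hom)
  · haveI : Injective ((sheafToPresheaf J AddCommGrpCat.{u}).obj I) := Injective.injective_of_adjoint adj I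
    haveI : Injective (⟨I.obj, Presheaf.isSheaf_bot _⟩ : Sheaf B AddCommGrpCat.{u}) :=
      ⟨fun {X Y} g f _ => ⟨ObjectProperty.homMk (Injective.factorThru (J := (sheafToPresheaf J AddCommGrpCat.{u}).obj I)
          ((sheafToPresheaf B AddCommGrpCat.{u}).map g) ((sheafToPresheaf B AddCommGrpCat.{u}).map f)),
        Sheaf.hom_ext (Injective.comp_factorThru (J := (sheafToPresheaf J AddCommGrpCat.{u}).obj I)
          ((sheafToPresheaf B AddCommGrpCat.{u}).map g) ((sheafToPresheaf B AddCommGrpCat.{u}).map f))⟩⟩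
    haveI : Injective (T.obj I) := Injective.of_iso (c I.obj).symm inferInstance
    exact Groth.Agent.SiteCoh.subsingleton_ext_injective P (T.obj I) q
  · obtain ⟨i⟩ := Groth.Agent.GrothSS.nonempty_rightDerived_comp_exact (sheafToPresheaf J AddCommGrpCat.{u}) L0 q M
    let Res := injectiveResolution M
    let i2 : ((sheafToPresheaf J AddCommGrpCat.{u}).rightDerived q).obj M ≅ Groth.Agent.SiteCoh.hPre M q :=
      Res.isoRightDerivedObj (sheafToPresheaf J AddCommGrpCat.{u}) q ≪≫
        Groth.Agent.SiteCoh.homologyIsoCohomology M q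
    let i3 : (T.rightDerived q).obj M ≅ (⟨M.cohomologyPresheaf q, Presheaf.isSheaf_bot _⟩ : Sheaf B AddCommGrpCat.{u}) :=
      i ≪≫ L0.mapIso i2 ≪≫ c _
    exact ⟨(((Abelian.extFunctorObj P p).mapIso i3).addCommGroupIsoToAddEquiv :)⟩

end Groth.Agent.S12105
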