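import Groth.Statements.S12107
import Groth.Agent.OpenClosed.Glue

set_option autoImplicit false
set_option linter.style.haveILetI false
universe u
open CategoryTheory
open SGA4

namespace Groth.Agent.S12107

open CategoryTheory.Limits in
/-- In the topos of sheaves of sets on a small site, let U be an open (a subobject of the final object)
and, for an object X, let X_CU be the pushout of U ← U × X → X along the two projections. For a
morphism m : X ⟶ X' let k : X_CU ⟶ X'_CU be the induced morphism (compatible with the maps from U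
and with m). Then the square with sides m, k and the canonical maps X ⟶ X_CU, X' ⟶ X'_CU is
cartesian if and only if id_U × m : U × X ⟶ U × X' is an isomorphism (that is, m restricts to an
isomorphism over U). -/
theorem result {C : Type u} [SmallCategory C] (J : GrothendieckTopology C)
    (U : Sheaf J (Type u)) (hU : SGA4.IsOpen U) {X X' : Sheaf J (Type u)} (m : X ⟶ X')
    (k : pushout (prod.fst : U ⨯ X ⟶ U) (prod.snd : U ⨯ X ⟶ X) ⟶
      pushout (prod.fst : U ⨯ X' ⟶ U) (prod.snd : U ⨯ X' ⟶ X'))
    (hk₁ : pushout.inl (prod.fst : U ⨯ X ⟶ U) (prod.snd : U ⨯ X ⟶ X) ≫ k =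
      pushout.inl (prod.fst : U ⨯ X' ⟶ U) (prod.snd : U ⨯ X' ⟶ X'))
    (hk₂ : pushout.inr (prod.fst : U ⨯ X ⟶ U) (prod.snd : U ⨯ X ⟶ X) ≫ k =
      m ≫ pushout.inr (prod.fst : U ⨯ X' ⟶ U) (prod.snd : U ⨯ X' ⟶ X')) :
    IsPullback m (pushout.inr (prod.fst : U ⨯ X ⟶ U) (prod.snd : U ⨯ X ⟶ X))
        (pushout.inr (prod.fst : U ⨯ X' ⟶ U) (prod.snd : U ⨯ X' ⟶ X')) k ↔
      IsIso (prod.map (𝟙 U) m) := by
  open Groth.Agent.OpenClosed in
  let e := (isPushout_clFun hU X).isoPushout
  open Groth.Agent.OpenClosed in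
  let e' := (isPushout_clFun hU X').isoPushout
  open Groth.Agent.OpenClosed in
  have hkey : (clFun U).map m ≫ e'.hom = e.hom ≫ k := by
    refine clFun_hom_ext _ _ ?_ ?_
    · have h1 : clPt U X ≫ (clFun U).map m = clPt U X' :=
        closed_hom_ext (closedCompl_clFun hU X') (𝟙 U) _ _
      rw [← Category.assoc, h1, (isPushout_clFun hU X').inl_isoPushout_hom,
        (isPushout_clFun hU X).inl_isoPushout_hom_assoc, hk₁]
    · rw [← Category.assoc, clEta_naturality, Category.assoc, (isPushout_clFun hU X').inr_isoPushout_hom,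
        (isPushout_clFun hU X).inr_isoPushout_hom_assoc, hk₂]
  open Groth.Agent.OpenClosed in
  constructor
  · intro h
    rw [isIso_prodMap_iff hU]
    intro c hc
    have h' : IsPullback m (clEta U X) (clEta U X') ((clFun U).map m) :=
      IsPullback.of_iso h (Iso.refl _) (Iso.refl _) e.symm e'.symm (by simp)
        (by simp [e]) (by simp [e'])
        (by
          rw [Iso.symm_hom, Iso.symm_hom, Iso.eq_inv_comp, ← Category.assoc, ← hkey]
          simp)
    haveI : IsIso ((secFun c).map ((clFun U).map m)) := by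
      refine (isIso_iff_bijective _).2 ?_
      obtain ⟨⟨p⟩, hp⟩ := (closedCompl_iff hU _).1 (closedCompl_clFun hU X) c hc
      obtain ⟨-, hp'⟩ := (closedCompl_iff hU _).1 (closedCompl_clFun hU X') c hc
      exact ⟨fun a b _ => hp.elim a b, fun b => ⟨p, hp'.elim _ _⟩⟩
    exact (isIso_iff_bijective _).1 (h'.map (secFun c)).isIso_fst_of_isIso
  · intro h
    refine IsPullback.of_iso (isPullback_clEta m ((isIso_prodMap_iff hU m).1 h))
      (Iso.refl _) (Iso.refl _) e e' (by simp) (by simp [e]) (by simp [e']) hkey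

end Groth.Agent.S12107
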