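import Groth.Statements.S12111
import Groth.Agent.SerrePn.ClosedTwist
import Groth.Agent.QC.Localisation

set_option backward.isDefEq.respectTransparency false

set_option autoImplicit false
universe u
open CategoryTheory CategoryTheory.Limits AlgebraicGeometry
open Pic13

namespace Groth.Agent.S12111

/-- Let k be an algebraically closed field, i : X ⟶ P^n_k a closed immersion and O_X(1) = i^*O(1). If a
coherent O_X-module F is m-regular (H^q(X, F(m - q)) = 0 for every q ≥ 1) then for every integer n'
≥ m, F is n'-regular and F(n') is generated by its global sections. (The published statement is for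
a projective k-scheme with an ample O_X(1) generated by its sections at the points of the support of
F; this row is the case of a closed subscheme of projective space.) -/
theorem result (k : Type u) [Field k] [IsAlgClosed k] (n : ℕ) {X : Scheme.{u}}
    (i : X ⟶ CohB1.ProjSpace n k) [IsClosedImmersion i] (F : X.Modules) (hF : Coh.IsCoh F) (m : ℤ)
    (h : Pic13.IsMRegular k i F m) (n' : ℤ) (hn' : m ≤ n') :
    Pic13.IsMRegular k i F n' ∧ Curv2.IsGloballyGenerated (Pic13.twistOn k i F n') := by
  letI : X.Over (Spec (CommRingCat.of k)) := ⟨i ≫ CohB1.ProjSpace.toSpec n k⟩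
  haveI : IsNoetherian (CohB1.ProjSpace n k) := Groth.Agent.CohFinite.isNoetherian_projSpace n k
  haveI := hF.1
  have hG : Coh.IsCoh ((Scheme.Modules.pushforward i).obj F) := Groth.Agent.QC.isCoh_pushforward_of_isFinite i hF.2
  have hL : ∀ d : ℤ, PicF.IsInvertible (Twist.twistProjSpace n k d) := Groth.Agent.CohFinite.isInvertible_twist n k
  have hreg : Curv2.IsMRegular k n ((Scheme.Modules.pushforward i).obj F) m := fun q hq _ => by
    obtain ⟨e⟩ := Groth.Agent.SerrePn.nonempty_hh_pushTwist k i rfl F (hL (m - q)) q
    exact e.toEquiv.subsingleton_congr.1 (h q hq)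
  refine ⟨fun q hq => ?_, ?_⟩
  · obtain ⟨e⟩ := Groth.Agent.SerrePn.nonempty_hh_pushTwist k i rfl F (hL (n' - q)) q
    exact e.toEquiv.subsingleton_congr.2
      (Groth.Agent.SerrePn.vanish_of_regular _ hG m hreg q (n' - q) hq (by omega))
  · refine Groth.Agent.SerrePn.isGloballyGenerated_of_push i _ ?_
    obtain ⟨e⟩ := Groth.Agent.SerrePn.nonempty_pushTwist i F (hL n')
    obtain ⟨ι, p, hp⟩ := Groth.Agent.SerrePn.isGloballyGenerated_twist _ hG n'
      (Groth.Agent.SerrePn.regular_of_le _ hG m hreg n' hn')
    exact ⟨ι, p ≫ e.hom, epi_comp _ _⟩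

end Groth.Agent.S12111
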