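import Groth.Statements.S12112
import Groth.Agent.RegTilde.ExtTwist
import Groth.Agent.ResDesc.Main
import Groth.Agent.QC.Localisation

set_option autoImplicit false
universe u
open CategoryTheory CategoryTheory.Limits AlgebraicGeometry
open Pic13

set_option backward.isDefEq.respectTransparency false
set_option backward.isDefEq.respectTransparency.types false

set_option backward.isDefEq.respectTransparency false
set_option backward.isDefEq.respectTransparency.types false
open CategoryTheory CategoryTheory.Limits AlgebraicGeometry Opposite TopologicalSpace Groth.Agent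

namespace Groth.Agent.S12112

/-- Let k be an algebraically closed field, i : X ⟶ P^n_k a closed k-immersion, O_X(1) = i^*O(1), and F,
G coherent O_X-modules with a short exact sequence 0 → F(-1) → F → G → 0 and G m-regular. Then (i)
H^q(X, F(n')) = 0 for q ≥ 2 and n' ≥ m - q; (ii) h^1(F(n' - 1)) ≥ h^1(F(n')) for n' ≥ m - 1, h^1
being the dimension over k; (iii) H^1(X, F(n')) = 0 for n' ≥ (m - 1) + h^1(F(m - 1)); in particular
F is (m + h^1(F(m - 1)))-regular. (The published statement takes F(-1) → F given by a section of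
O_X(1); the printed argument uses only the short exact sequence and its twists, so any short exact
sequence of this shape is allowed here.) -/
theorem result (k : Type u) [Field k] [IsAlgClosed k] (n : ℕ) (X : Scheme.{u})
    [X.Over (Spec (CommRingCat.of k))] (i : X ⟶ CohB1.ProjSpace n k) [IsClosedImmersion i]
    (hi : i ≫ CohB1.ProjSpace.toSpec n k = X ↘ Spec (CommRingCat.of k))
    (F G : X.Modules) (hF : Coh.IsCoh F) (hG : Coh.IsCoh G)
    (f : Pic13.twistOn k i F (-1) ⟶ F) (g : F ⟶ G) (hfg : f ≫ g = 0) (hS : (ShortComplex.mk f g hfg).ShortExact)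
    (m : ℤ) (hGm : Pic13.IsMRegular k i G m) :
    (∀ (q : ℕ) (n' : ℤ), 2 ≤ q → m - q ≤ n' → Subsingleton (Coh.HH X (Pic13.twistOn k i F n') q)) ∧
    (∀ n' : ℤ, m - 1 ≤ n' →
      Module.finrank k (Coh.HH X (Pic13.twistOn k i F n') 1) ≤ Module.finrank k (Coh.HH X (Pic13.twistOn k i F (n' - 1)) 1)) ∧
    (∀ n' : ℤ, (m - 1) + (Module.finrank k (Coh.HH X (Pic13.twistOn k i F (m - 1)) 1) : ℤ) ≤ n' →
      Subsingleton (Coh.HH X (Pic13.twistOn k i F n') 1)) ∧
    Pic13.IsMRegular k i F (m + Module.finrank k (Coh.HH X (Pic13.twistOn k i F (m - 1)) 1)) := by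
  haveI : IsNoetherian (CohB1.ProjSpace n k) := Groth.Agent.CohFinite.isNoetherian_projSpace n k
  haveI := hF.1
  haveI := hG.1
  have hL : ∀ d : ℤ, PicF.IsInvertible (Twist.twistProjSpace n k d) := Groth.Agent.CohFinite.isInvertible_twist n k
  have hF' : Coh.IsCoh ((Scheme.Modules.pushforward i).obj F) := Groth.Agent.QC.isCoh_pushforward_of_isFinite i hF.2
  have hG' : Coh.IsCoh ((Scheme.Modules.pushforward i).obj G) := Groth.Agent.QC.isCoh_pushforward_of_isFinite i hG.2
  have hreg : Curv2.IsMRegular k n ((Scheme.Modules.pushforward i).obj G) m := fun q hq _ => by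
    obtain ⟨e⟩ := Groth.Agent.SerrePn.nonempty_hh_pushTwist k i hi G (hL (m - q)) q
    exact e.toEquiv.subsingleton_congr.1 (hGm q hq)
  have hS' : ((ShortComplex.mk f g hfg).map (Scheme.Modules.pushforward i)).ShortExact := by
    haveI := hS.mono_f
    haveI := hS.epi_g
    haveI : PreservesLimitsOfSize.{0, 0} (Scheme.Modules.pushforward i) :=
      (Scheme.Modules.pullbackPushforwardAdjunction i).rightAdjoint_preservesLimits
    refine { exact := hS.exact.map_of_mono_of_preservesKernel _ hS.mono_f inferInstance, mono_f := (Scheme.Modules.pushforward i).map_mono f, epi_g := ?_ }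
    exact Groth.Agent.ResDesc.epi_push i hF.1 hG.1 g
  obtain ⟨e₁⟩ := Groth.Agent.SerrePn.nonempty_pushTwist i F (hL (-1))
  obtain ⟨h1, h2, h3, h4⟩ := Groth.Agent.ExtTwist.main (S := (ShortComplex.mk f g hfg).map (Scheme.Modules.pushforward i))
    hS' e₁.symm hF' hG' hreg
  have hE : ∀ (d : ℤ) (q : ℕ), Nonempty (Coh.HH X (Pic13.twistOn k i F d) q ≃ₗ[k]
      Coh.HH (CohB1.ProjSpace n k) (Groth.Agent.ExtTwist.tw ((Scheme.Modules.pushforward i).obj F) d) q) :=
    fun d q => Groth.Agent.SerrePn.nonempty_hh_pushTwist k i hi F (hL d) q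
  have ha : ∀ d : ℤ, Module.finrank k (Coh.HH X (Pic13.twistOn k i F d) 1) =
      Groth.Agent.ExtTwist.a ((Scheme.Modules.pushforward i).obj F) d := fun d => (hE d 1).some.finrank_eq
  refine ⟨fun q d hq hd => (hE d q).some.toEquiv.subsingleton_congr.2 (h1 q d hq hd), fun d hd => ?_,
    fun d hd => ?_, fun q hq => ?_⟩
  · rw [ha, ha]
    exact h2 d hd
  · rw [ha] at hd
    exact (hE d 1).some.toEquiv.subsingleton_congr.2 (h3 d hd)
  · rw [ha]
    exact (hE _ q).some.toEquiv.subsingleton_congr.2 (h4 q hq)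

end Groth.Agent.S12112
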