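import Groth.Statements.S12118
-- import your own Groth.Agent.* helpers here
import Mathlib

set_option autoImplicit false
universe u v
open EGA41

namespace Groth.Agent.S12118

/-- Let A be a commutative ring, M an A-module, (M_k)_{k ≥ 0} a decreasing filtration of M by submodules
with M_0 = M and ⋂_k M_k = 0, and f an element of A which is a non-zero-divisor on every graded
piece M_k/M_{k+1} (equivalently on the associated graded module). Then (i) f is a non-zero-divisor
on M, and (ii) M_k ∩ fM = fM_k for every k ≥ 0. -/
theorem result {A : Type u} [CommRing A] {M : Type v} [AddCommGroup M] [Module A M]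
    (F : ℕ → Submodule A M) (hanti : Antitone F) (h0 : F 0 = ⊤) (hsep : ⨅ k, F k = ⊥) (f : A)
    (hreg : ∀ k : ℕ, IsSMulRegular (↥(F k) ⧸ Submodule.comap (F k).subtype (F (k + 1))) f) :
    IsSMulRegular M f ∧ ∀ k : ℕ, F k ⊓ (Ideal.span {f} • (⊤ : Submodule A M)) = Ideal.span {f} • F k := by
  have step : ∀ j (y : M), y ∈ F j → f • y ∈ F (j + 1) → y ∈ F (j + 1) := by
    intro j y hy hfy
    have h : f • (Submodule.Quotient.mk ⟨y, hy⟩ :
        ↥(F j) ⧸ Submodule.comap (F j).subtype (F (j + 1))) = f • 0 := by
      rw [smul_zero, ← Submodule.Quotient.mk_smul, Submodule.Quotient.mk_eq_zero]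
      exact hfy
    have h2 := hreg j h
    rw [Submodule.Quotient.mk_eq_zero] at h2
    exact h2
  have hmem : ∀ k (y : M), f • y ∈ F k → y ∈ F k := by
    intro k
    induction k with
    | zero => intro y _; rw [h0]; trivial
    | succ k ih => intro y hy; exact step k y (ih y (hanti (Nat.le_succ k) hy)) hy
  refine ⟨fun a b hab => ?_, fun k => le_antisymm ?_ ?_⟩
  · have : a - b ∈ ⨅ k, F k := by
      refine Submodule.mem_iInf _ |>.mpr fun k => hmem k _ ?_
      rw [smul_sub, show f • a = f • b from hab, sub_self]
      exact zero_mem _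
    rwa [hsep, Submodule.mem_bot, sub_eq_zero] at this
  · rintro z ⟨hz, hz'⟩
    rw [SetLike.mem_coe, Submodule.ideal_span_singleton_smul] at hz'
    obtain ⟨y, -, rfl⟩ := hz'
    exact Submodule.smul_mem_smul (Ideal.subset_span rfl) (hmem k y hz)
  · exact le_inf Submodule.smul_le_right (Submodule.smul_mono le_rfl le_top)

end Groth.Agent.S12118
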