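import Groth.Statements.S12119
import Groth.Agent.FlatCx.Length

set_option autoImplicit false
universe u
open FlatCx

namespace Groth.Agent.S12119

open CategoryTheory CategoryTheory.Limits in
/-- Let A be a commutative Artinian local ring with residue field k, P a chain complex of flat A-modules
(terms not necessarily finitely generated), T_i(M) = H_i(P ⊗_A M), and suppose T_p(k) has finite
length d. If length T_p(A) = d · length A (lengths in ℕ∞), then T_p(A) → T_p(k), induced by the
projection A → k, is surjective and T_p(A) is a flat A-module. -/
theorem result {A : Type u} [CommRing A] [IsArtinianRing A]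
    [IsLocalRing A] (P : ChainComplex (ModuleCat.{u} A) ℤ) (hP : ∀ i, Module.Flat A (P.X i)) (p : ℤ)
    (hd : Module.length A (CohIII.T P p (ModuleCat.of A (IsLocalRing.ResidueField A))) ≠ ⊤)
    (hj : Module.length A (CohIII.T P p (ModuleCat.of A A)) =
      Module.length A (CohIII.T P p (ModuleCat.of A (IsLocalRing.ResidueField A))) * Module.length A A) :
    Function.Surjective ((CohIII.TFun P p).map
        (ModuleCat.ofHom (Algebra.linearMap A (IsLocalRing.ResidueField A)))).hom ∧
      Module.Flat A (CohIII.T P p (ModuleCat.of A A)) := by
  have h := Groth.Agent.FlatCx.exact_of_length_eq P p hP (Groth.Agent.FlatCx.down_prev_next p) hd hj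
  exact ⟨(Groth.Agent.FlatCx.preservesEpi_iff_surjective_residue_artinian hP
      (Groth.Agent.FlatCx.down_prev_next p)).1 h.2,
    ((Groth.Agent.FlatCx.exact_iff_preservesEpi_and_flat P p hP
      (Groth.Agent.FlatCx.down_prev_next p)).1 h).2⟩

end Groth.Agent.S12119
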