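import Groth.Statements.S1212
import Mathlib.RingTheory.TensorProduct.Finite
import Mathlib.RingTheory.Nakayama
import Mathlib.RingTheory.FiniteType
import Mathlib.RingTheory.LocalRing.MaximalIdeal.Basic
import Mathlib.Algebra.Module.Projective
import Mathlib.LinearAlgebra.Finsupp.Supported
-- import your own Groth.Agent.* helpers here

set_option autoImplicit false
universe u
open FlatMor

namespace Groth.Agent.S1212

open TensorProduct in
/-- An endomorphism of a free module with image in `𝔪F` fixes no nonzero tensor. -/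
private theorem fixed_eq_zero {R : Type u} [CommRing R] [IsLocalRing R] {ι : Type u} {M : Type u}
    [AddCommGroup M] [Module R M] (θ : (ι →₀ R) →ₗ[R] (ι →₀ R))
    (hθ : ∀ x, θ x ∈ IsLocalRing.maximalIdeal R • (⊤ : Submodule R (ι →₀ R)))
    (k : (ι →₀ R) ⊗[R] M) (hk : θ.rTensor M k = k) : k = 0 := by
  classical
  obtain ⟨N₀, ⟨gs, hgs⟩, y, hy⟩ := Submodule.exists_fg_le_eq_rTensor_subtype k
  let T : Finset ι := gs.biUnion fun g => g.support
  let e : (↥T →₀ R) →ₗ[R] (ι →₀ R) := Finsupp.lmapDomain R R Subtype.val
  let p : (ι →₀ R) →ₗ[R] (↥T →₀ R) := Finsupp.lcomapDomain Subtype.val Subtype.val_injective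
  have hep : e ∘ₗ p ∘ₗ N₀.subtype = N₀.subtype := by
    refine LinearMap.ext fun x => ?_
    have hx := x.2
    show e (p x.1) = x.1
    generalize x.1 = w at hx ⊢
    rw [← hgs] at hx
    induction hx using Submodule.span_induction with
    | mem g hg =>
      refine Finsupp.mapDomain_comapDomain _ Subtype.val_injective _ fun i hi => ?_
      exact ⟨⟨i, Finset.mem_biUnion.2 ⟨g, hg, hi⟩⟩, rfl⟩
    | zero => simp
    | add a b _ _ ha hb => rw [map_add, map_add, ha, hb]
    | smul c a _ ha => rw [map_smul, map_smul, ha]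
  have hk' : e.rTensor M (p.rTensor M k) = k := by
    rw [hy, ← LinearMap.comp_apply, ← LinearMap.comp_apply, ← LinearMap.rTensor_comp, ← LinearMap.rTensor_comp, LinearMap.comp_assoc, hep]
  let θ' : (↥T →₀ R) →ₗ[R] (↥T →₀ R) := p ∘ₗ θ ∘ₗ e
  let ψ : (↥T →₀ R) →ₗ[R] (↥T →₀ R) := LinearMap.id - θ'
  have hθ' : ∀ w, θ' w ∈ IsLocalRing.maximalIdeal R • (⊤ : Submodule R (↥T →₀ R)) := fun w => by
    have := Submodule.mem_map_of_mem (f := p) (hθ (e w))
    rw [Submodule.map_smul''] at this
    exact Submodule.smul_mono le_rfl le_top this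
  have hψ : Function.Surjective ψ := by
    rw [← LinearMap.range_eq_top, eq_top_iff]
    refine Submodule.le_of_le_smul_of_le_jacobson_bot Module.Finite.fg_top
      (IsLocalRing.maximalIdeal_le_jacobson ⊥) ?_
    intro w _
    rw [show w = ψ w + θ' w by simp [ψ]]
    exact add_mem (Submodule.mem_sup_left ⟨w, rfl⟩) (Submodule.mem_sup_right (hθ' w))
  have hψi : Function.Injective ψ := OrzechProperty.injective_of_surjective_endomorphism ψ hψ
  have hfix : θ'.rTensor M (p.rTensor M k) = p.rTensor M k := by
    show (p ∘ₗ θ ∘ₗ e).rTensor M (p.rTensor M k) = p.rTensor M k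
    rw [LinearMap.rTensor_comp, LinearMap.rTensor_comp, LinearMap.comp_apply, LinearMap.comp_apply, hk', hk]
  have hp0 : p.rTensor M k = 0 := by
    refine (LinearEquiv.rTensor M (LinearEquiv.ofBijective ψ ⟨hψi, hψ⟩)).injective ?_
    rw [map_zero]
    show ψ.rTensor M (p.rTensor M k) = 0
    rw [show ψ = LinearMap.id - θ' from rfl, LinearMap.rTensor_sub, LinearMap.rTensor_id]
    exact sub_eq_zero.2 hfix.symm
  rw [← hk', hp0, map_zero]


open TensorProduct IsLocalRing in
/-- Let R be a local ring, S an R-algebra and N an S-module which is projective as an R-module, such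
that the closed fibre ring of S is Noetherian and the closed fibre module of N is finite over it.
Then every prime q of S, over p in R, which is an associated prime (the annihilator of an element)
of the S-module N ⊗_R κ(p) satisfies q + 𝔪_R S ≠ S. -/
theorem result {R S : Type u} [CommRing R] [IsLocalRing R] [CommRing S] [Algebra R S]
    (N : Type u) [AddCommGroup N] [Module S N] [Module R N] [IsScalarTower R S N] [Module.Projective R N]
    [IsNoetherianRing ((maximalIdeal R).Fiber S)]
    [Module.Finite ((maximalIdeal R).Fiber S) (FlatCA.fiberMod (maximalIdeal R) S N)]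
    (p : Ideal R) [p.IsPrime] (q : Ideal S) [q.IsPrime] [q.LiesOver p]
    (hq : q ∈ FlatCA.ass S (N ⊗[R] p.ResidueField)) :
    q ⊔ (maximalIdeal R).map (algebraMap R S) ≠ ⊤ := by
  intro htop
  obtain ⟨v, hv, u, hu, huv⟩ := Submodule.mem_sup.1 ((Ideal.eq_top_iff_one _).1 htop)
  obtain ⟨hqp, m, hm⟩ := hq
  obtain ⟨i, hi⟩ := Module.projective_def.1 (inferInstance : Module.Projective R N)
  let π : (N →₀ R) →ₗ[R] N := Finsupp.linearCombination R id
  have hπi : π ∘ₗ i = LinearMap.id := LinearMap.ext hi
  let μ : N →ₗ[R] N := (LinearMap.lsmul S N u).restrictScalars R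
  have hmul : ∀ z ∈ (maximalIdeal R).map (algebraMap R S), ∀ x : N,
      z • x ∈ maximalIdeal R • (⊤ : Submodule R N) := by
    intro z hz
    induction hz using Submodule.span_induction with
    | mem z hz =>
      obtain ⟨a, ha, rfl⟩ := hz
      intro x
      rw [IsScalarTower.algebraMap_smul]
      exact Submodule.smul_mem_smul ha trivial
    | zero => intro x; rw [zero_smul]; exact zero_mem _
    | add a b _ _ ha hb => intro x; rw [add_smul]; exact add_mem (ha x) (hb x)
    | smul a b _ hb => intro x; rw [smul_eq_mul, mul_comm, mul_smul]; exact hb (a • x)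
  let θ : (N →₀ R) →ₗ[R] (N →₀ R) := i ∘ₗ μ ∘ₗ π
  have hθ : ∀ x, θ x ∈ maximalIdeal R • (⊤ : Submodule R (N →₀ R)) := fun x => by
    have := Submodule.mem_map_of_mem (f := i) (hmul u hu (π x))
    rw [Submodule.map_smul''] at this
    exact Submodule.smul_mono le_rfl le_top this
  have h0 : v • m = 0 := by
    rw [hm] at hv
    exact (Submodule.mem_annihilator_span_singleton _ _).1 hv
  have hum : u • m = m := by
    calc u • m = v • m + u • m := by rw [h0, zero_add]
      _ = m := by rw [← add_smul, huv, one_smul]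
  have hact : ∀ z : N ⊗[R] p.ResidueField, u • z = μ.rTensor _ z := by
    intro z
    induction z using TensorProduct.induction_on with
    | zero => rw [smul_zero, map_zero]
    | tmul a b => simp [μ, TensorProduct.smul_tmul']
    | add a b ha hb => rw [smul_add, map_add, ha, hb]
  have hback : π.rTensor p.ResidueField (i.rTensor p.ResidueField m) = m := by
    rw [← LinearMap.comp_apply, ← LinearMap.rTensor_comp, hπi, LinearMap.rTensor_id, LinearMap.id_apply]
  have hk := fixed_eq_zero θ hθ (i.rTensor p.ResidueField m) (by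
    show (i ∘ₗ μ ∘ₗ π).rTensor _ _ = _
    rw [LinearMap.rTensor_comp, LinearMap.rTensor_comp, LinearMap.comp_apply, LinearMap.comp_apply, hback,
      ← hact, hum])
  refine hqp.ne_top ?_
  rw [hm, ← hback, hk, map_zero]
  refine eq_top_iff.2 fun x _ => Submodule.mem_annihilator.2 fun n hn => ?_
  rw [Submodule.span_zero_singleton, Submodule.mem_bot] at hn
  rw [hn, smul_zero]

end Groth.Agent.S1212
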