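import Groth.Statements.S12123
import Groth.Agent.ConsTop.Basic

set_option autoImplicit false
universe u
open EGA41

namespace Groth.Agent.S12123

open AlgebraicGeometry Topology in
/-- Let X be a quasi-separated scheme and X^cons its underlying set with the constructible topology,
generated by the quasi-compact open subsets and their complements (for X quasi-separated this is the
topology whose open sets are the ind-constructible subsets). Then X^cons is a Hausdorff, locally
compact, totally disconnected space. (The published statement also asserts that X^cons is Hausdorff
only if X is quasi-separated; for the topology used here that converse fails when X is not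
quasi-separated, where the two constructible topologies differ, so it is not part of this row.) -/
theorem result (X : Scheme.{u}) [QuasiSeparatedSpace X] :
    T2Space (WithConstructibleTopology X) ∧ LocallyCompactSpace (WithConstructibleTopology X) ∧
      TotallyDisconnectedSpace (WithConstructibleTopology X) := by
  let e : @Homeomorph X (WithConstructibleTopology X) (constructibleTopology X) _ :=
    @Homeomorph.mk X (WithConstructibleTopology X) (constructibleTopology X) _ (WithTopology.equiv X _).symm
      (WithTopology.continuous_toTopology _) (WithTopology.continuous_ofTopology _)
  have h1 : T2Space (WithConstructibleTopology X) :=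
    @Homeomorph.t2Space X (WithConstructibleTopology X) (constructibleTopology X) _ (ConsTop.t2Space_cons (X := X)) e
  haveI : WeaklyLocallyCompactSpace (WithConstructibleTopology X) :=
    @Topology.IsClosedEmbedding.weaklyLocallyCompactSpace (WithConstructibleTopology X) X _ (constructibleTopology X)
      (ConsTop.weaklyLocallyCompactSpace_cons (X := X)) _ (@Homeomorph.isClosedEmbedding (WithConstructibleTopology X) X _ (constructibleTopology X) (@Homeomorph.symm X _ (constructibleTopology X) _ e))
  refine ⟨h1, inferInstance, ?_⟩
  haveI : @TotallySeparatedSpace X (constructibleTopology X) := ConsTop.totallySeparatedSpace_cons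
  refine @TotallySeparatedSpace.totallyDisconnectedSpace _ _ ⟨fun a _ b _ hab => ?_⟩
  obtain ⟨u, v, hu, hv, ha, hb, huv, hd⟩ := @TotallySeparatedSpace.isTotallySeparated_univ X (constructibleTopology X) _
    (WithTopology.ofTopology a) (Set.mem_univ _) (WithTopology.ofTopology b) (Set.mem_univ _)
    (fun h => hab ((WithTopology.ofTopology_injective _) h))
  exact ⟨WithTopology.ofTopology ⁻¹' u, WithTopology.ofTopology ⁻¹' v, @IsOpen.preimage (WithConstructibleTopology X) X _ (constructibleTopology X) _ (WithTopology.continuous_ofTopology _) _ hu,
    @IsOpen.preimage (WithConstructibleTopology X) X _ (constructibleTopology X) _ (WithTopology.continuous_ofTopology _) _ hv, ha, hb, fun z _ => huv (Set.mem_univ _), hd.preimage _⟩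

end Groth.Agent.S12123
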