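import Groth.Statements.S12125
import Groth.Agent.Nagata.Criterion

set_option autoImplicit false
universe u
open EGA4

namespace Groth.Agent.S12125

/-- Let A be a Noetherian ring. Then every quotient of A by a prime ideal is N-2 (i.e. A is a Nagata
ring) if and only if (1) for every maximal ideal m of A every quotient of A_m by a prime ideal is
N-2, and (2) for every prime p of A, writing B = A/p with fraction field K, for every finite purely
inseparable field extension K' of K and every sub-B-algebra B' of K' which is a finite B-module and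
has K' as its fraction field, there is a nonzero element f of B' such that B'_f is an integrally
closed domain. -/
theorem result (A : Type u) [CommRing A] [IsNoetherianRing A] :
    CAlg.IsNagata A ↔
      ((∀ (m : Ideal A) [m.IsMaximal] (P : Ideal (Localization.AtPrime m)) [P.IsPrime],
          CAlg.IsN2 (Localization.AtPrime m ⧸ P)) ∧
        ∀ (p : Ideal A) [p.IsPrime] (K' : Type u) [Field K'] [Algebra (A ⧸ p) K']
          [Algebra (FractionRing (A ⧸ p)) K'] [IsScalarTower (A ⧸ p) (FractionRing (A ⧸ p)) K']
          [FiniteDimensional (FractionRing (A ⧸ p)) K'] [IsPurelyInseparable (FractionRing (A ⧸ p)) K']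
          (B' : Subalgebra (A ⧸ p) K'), Module.Finite (A ⧸ p) B' → IsFractionRing B' K' →
            ∃ f : B', f ≠ 0 ∧ IsIntegrallyClosed (Localization.Away f)) := by
  classical
  constructor
  · intro hA
    refine ⟨fun m _ P _ => (Nagata.isNagata_of_isLocalization hA m.primeCompl (Localization.AtPrime m)).2 P, ?_⟩
    intro p _ K' _ _ _ _ _ _ B' hfin hfr
    haveI := hfin
    haveI := hfr
    haveI : FaithfulSMul (A ⧸ p) B' := (faithfulSMul_iff_algebraMap_injective _ _).mpr fun a b hab => by
      have h1 : algebraMap (A ⧸ p) K' a = algebraMap (A ⧸ p) K' b := congrArg Subtype.val hab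
      rw [IsScalarTower.algebraMap_apply (A ⧸ p) (FractionRing (A ⧸ p)) K',
        IsScalarTower.algebraMap_apply (A ⧸ p) (FractionRing (A ⧸ p)) K' b] at h1
      exact IsFractionRing.injective (A ⧸ p) (FractionRing (A ⧸ p)) ((algebraMap _ K').injective h1)
    haveI : Module.Finite B' (integralClosure B' K') :=
      Nagata.finite_closure_of_frac (Nagata.isN2_of_finite (hA.2 p)) K' K'
    obtain ⟨G, hG⟩ := (Module.Finite.fg_top : (⊤ : Submodule B' (integralClosure B' K')).FG)
    obtain ⟨f, hf⟩ := IsLocalization.exist_integer_multiples (nonZeroDivisors B') G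
      (fun g : integralClosure B' K' => (g : K'))
    have hf0 : (f : B') ≠ 0 := nonZeroDivisors.coe_ne_zero f
    have hall : ∀ z : integralClosure B' K', ∃ r : B', algebraMap B' K' r = (f : B') • (z : K') := fun z => by
      have hz : z ∈ Submodule.span B' (G : Set (integralClosure B' K')) := hG ▸ trivial
      induction hz using Submodule.span_induction with
      | mem g hg => exact hf g hg
      | zero => exact ⟨0, by rw [map_zero, ZeroMemClass.coe_zero, smul_zero]⟩
      | add a b _ _ ha hb =>
        obtain ⟨r, hr⟩ := ha
        obtain ⟨s, hs⟩ := hb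
        exact ⟨r + s, by rw [map_add, hr, hs, ← smul_add]; rfl⟩
      | smul c a _ ha =>
        obtain ⟨r, hr⟩ := ha
        refine ⟨c * r, ?_⟩
        rw [map_mul, hr]
        show algebraMap B' K' c * ((f : B') • (a : K')) = (f : B') • (c • (a : K'))
        rw [Algebra.smul_def, Algebra.smul_def, Algebra.smul_def]
        ring
    refine ⟨f, hf0, ?_⟩
    let Bf := Localization.Away (f : B')
    have hu : IsUnit (algebraMap B' K' (f : B')) :=
      Ne.isUnit fun h => hf0 (Subtype.val_injective (h.trans (map_zero (algebraMap B' K')).symm))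
    letI : Algebra Bf K' := (IsLocalization.Away.lift (f : B') hu).toAlgebra
    haveI : IsScalarTower B' Bf K' :=
      IsScalarTower.of_algebraMap_eq fun a => (IsLocalization.Away.lift_eq (f : B') hu a).symm
    haveI : IsDomain Bf := IsLocalization.isDomain_localization (by
      rintro _ ⟨n, rfl⟩
      exact mem_nonZeroDivisors_of_ne_zero (pow_ne_zero n hf0))
    haveI : IsFractionRing Bf K' :=
      IsFractionRing.isFractionRing_of_isDomain_of_isLocalization (Submonoid.powers (f : B')) Bf K'
    refine (isIntegrallyClosed_iff K').mpr fun {x} hx => ?_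
    obtain ⟨⟨m, k, hk⟩, hm⟩ := IsIntegral.exists_multiple_integral_of_isLocalization (Submonoid.powers (f : B')) x hx
    obtain ⟨r, hr⟩ := hall ⟨m • x, hm⟩
    refine ⟨IsLocalization.mk' Bf r (⟨(f : B') ^ (k + 1), k + 1, rfl⟩ : Submonoid.powers (f : B')), ?_⟩
    apply (IsUnit.pow (k + 1) hu).mul_left_injective
    show algebraMap Bf K' _ * algebraMap B' K' (f : B') ^ (k + 1) = x * algebraMap B' K' (f : B') ^ (k + 1)
    rw [← map_pow, IsScalarTower.algebraMap_apply B' Bf K', ← map_mul, IsLocalization.mk'_spec,
      ← IsScalarTower.algebraMap_apply, ← IsScalarTower.algebraMap_apply, hr]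
    subst hk
    show (f : B') • (((f : B') ^ k) • x) = _
    rw [Algebra.smul_def, Algebra.smul_def, map_pow, map_pow]
    ring
  · rintro ⟨h1, h2⟩
    refine ⟨inferInstance, fun p hp => ?_⟩
    refine Nagata.isN2_of_loc_and_normal (fun n _ => ?_) (fun K' _ _ _ _ _ _ B' => h2 p K' B')
    let m := n.comap (Ideal.Quotient.mk p)
    haveI : m.IsMaximal := Ideal.comap_isMaximal_of_surjective _ Ideal.Quotient.mk_surjective
    have hdisj : Disjoint (m.primeCompl : Set A) (p : Set A) := Set.disjoint_left.mpr fun a ha hap => ha (by
      show Ideal.Quotient.mk p a ∈ n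
      rw [Ideal.Quotient.eq_zero_iff_mem.mpr hap]
      exact zero_mem n)
    let P := p.map (algebraMap A (Localization.AtPrime m))
    haveI : P.IsPrime := IsLocalization.isPrime_of_isPrime_disjoint m.primeCompl _ p hp hdisj
    exact Nagata.isN2_atPrime_quotient m P (h1 m P) p
      (IsLocalization.comap_map_of_isPrime_disjoint m.primeCompl _ hp hdisj) n rfl

end Groth.Agent.S12125
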