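import Groth.Statements.S12127
import Groth.Agent.EGA43QH.Basic

set_option autoImplicit false
universe u
open EGA43

namespace Groth.Agent.S12127

/-- Let f : X → Y be a quasi-homeomorphism, i.e. a continuous map such that U ↦ f⁻¹(U) is a bijection
from the open subsets of Y onto the open subsets of X. Call a subset quasi-constructible when it is
a finite union of locally closed subsets, and locally quasi-constructible when every point of the
space has an open neighbourhood V whose intersection with it is quasi-constructible in V. Then Z ↦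
f⁻¹(Z) induces a bijection from the quasi-constructible subsets of Y onto those of X, and from the
locally quasi-constructible subsets of Y onto those of X. -/
theorem result {X Y : Type u}
    [TopologicalSpace X] [TopologicalSpace Y] (f : X → Y) (hf : Continuous f)
    (hq : Function.Bijective (fun U : TopologicalSpace.Opens Y =>
      (⟨f ⁻¹' (U : Set Y), U.isOpen.preimage hf⟩ : TopologicalSpace.Opens X))) :
    Set.BijOn (fun Z : Set Y => f ⁻¹' Z)
        {Z : Set Y | ∃ T : Set (Set Y), T.Finite ∧ (∀ t ∈ T, IsLocallyClosed t) ∧ Z = ⋃₀ T}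
        {Z : Set X | ∃ T : Set (Set X), T.Finite ∧ (∀ t ∈ T, IsLocallyClosed t) ∧ Z = ⋃₀ T} ∧
      Set.BijOn (fun Z : Set Y => f ⁻¹' Z)
        {Z : Set Y | ∀ y : Y, ∃ V : Set Y, IsOpen V ∧ y ∈ V ∧
          ∃ T : Set (Set V), T.Finite ∧ (∀ t ∈ T, IsLocallyClosed t) ∧ (Subtype.val ⁻¹' Z : Set V) = ⋃₀ T}
        {Z : Set X | ∀ x : X, ∃ V : Set X, IsOpen V ∧ x ∈ V ∧
          ∃ T : Set (Set V), T.Finite ∧ (∀ t ∈ T, IsLocallyClosed t) ∧ (Subtype.val ⁻¹' Z : Set V) = ⋃₀ T} := by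
  have hq' := EGA43QH.IsQH.of_bijective hf hq
  refine ⟨⟨fun Z hZ => EGA43QH.FLC.preimage hf hZ, ?_, ?_⟩, ⟨?_, ?_, ?_⟩⟩
  · intro Z₁ h₁ Z₂ h₂ h
    exact hq'.eq_of_preimage_eq (EGA43QH.FLC.locFLC h₁) (EGA43QH.FLC.locFLC h₂) h
  · intro W hW
    obtain ⟨Z, hZ, rfl⟩ := hq'.exists_flc hW
    exact ⟨Z, hZ, rfl⟩
  · intro Z hZ x
    obtain ⟨V, hV, hxV, hT⟩ := hZ (f x)
    refine ⟨f ⁻¹' V, hV.preimage hf, hxV, ?_⟩
    have := EGA43QH.FLC.preimage (hf.restrictPreimage (s := V)) (show EGA43QH.FLC (Subtype.val ⁻¹' Z : Set V) from hT)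
    exact this
  · intro Z₁ h₁ Z₂ h₂ h
    refine hq'.eq_of_preimage_eq (fun y => ?_) (fun y => ?_) h
    · obtain ⟨V, hV, hyV, hT⟩ := h₁ y
      exact ⟨V, hV, hyV, (EGA43QH.subspace_flc_iff hV).1 hT⟩
    · obtain ⟨V, hV, hyV, hT⟩ := h₂ y
      exact ⟨V, hV, hyV, (EGA43QH.subspace_flc_iff hV).1 hT⟩
  · intro W hW
    obtain ⟨Z, hZ, hZ'⟩ := hq'.locFLC_of_glue hf (W := W) (fun _ C => EGA43QH.FLC C) (fun _ _ h => h) (fun x => by
      obtain ⟨V, hV, hxV, hT⟩ := hW x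
      obtain ⟨U, hU, rfl⟩ := hq'.surj V hV
      obtain ⟨C, hC, hCW⟩ := (hq'.restrict (Z := U) (EGA43QH.LocFLC.of_open hU)).exists_flc hT
      exact ⟨U, hU, hxV, C, hC, fun z hz => (Set.ext_iff.1 hCW ⟨z, hz⟩).symm⟩)
    exact ⟨Z, hZ', hZ⟩

end Groth.Agent.S12127
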