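import Groth.Statements.S12129
import Mathlib.AlgebraicGeometry.Stalk
import Mathlib.AlgebraicGeometry.Properties
import Mathlib.RingTheory.Ideal.KrullsHeightTheorem

set_option autoImplicit false
universe u
open EGA2

namespace Groth.Agent.S12129

open AlgebraicGeometry CategoryTheory TopologicalSpace in
theorem dim_stalk_eq_one_iff {X : Scheme.{u}} (x : X) :
    ringKrullDim (X.presheaf.stalk x) = 1 ↔
      (∃ y, y ⤳ x ∧ y ≠ x) ∧ ∀ y z : X, z ⤳ y → y ⤳ x → y ≠ x → z = y := by
  let e := X.fromSpecStalk x
  have hr : ∀ y : X, y ⤳ x ↔ ∃ p : PrimeSpectrum (X.presheaf.stalk x), e.base p = y := fun y => by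
    show y ∈ {y | y ⤳ x} ↔ y ∈ Set.range e.base
    rw [← Scheme.range_fromSpecStalk]
  let c : PrimeSpectrum (X.presheaf.stalk x) := IsLocalRing.closedPoint (X.presheaf.stalk x)
  have hc : e.base c = x := Scheme.fromSpecStalk_closedPoint
  have hle : ∀ p q : PrimeSpectrum (X.presheaf.stalk x), p ≤ q ↔ e.base p ⤳ e.base q := fun p q =>
    (PrimeSpectrum.le_iff_specializes p q).trans e.isEmbedding.isInducing.specializes_iff.symm
  have hinj : ∀ p q : PrimeSpectrum (X.presheaf.stalk x), e.base p = e.base q → p = q := fun p q h =>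
    e.isEmbedding.injective h
  constructor
  · intro hd
    refine ⟨?_, fun y z hzy hyx hne => ?_⟩
    · by_contra hno
      simp only [not_exists, not_and, not_not] at hno
      have : Subsingleton (PrimeSpectrum (X.presheaf.stalk x)) := ⟨fun p q => hinj p q
        ((hno _ ((hr _).2 ⟨p, rfl⟩)).trans (hno _ ((hr _).2 ⟨q, rfl⟩)).symm)⟩
      have h0 : ringKrullDim (X.presheaf.stalk x) ≤ 0 := Order.krullDim_nonpos_iff_forall_isMax.2 fun p q h =>
        (Subsingleton.elim q p).le
      rw [hd] at h0
      exact absurd h0 (by norm_num)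
    · by_contra hzy'
      obtain ⟨p, hp⟩ := (hr y).1 hyx
      obtain ⟨q, hq⟩ := (hr z).1 (hzy.trans hyx)
      have h1 : q < p := lt_of_le_of_ne ((hle q p).2 (hp.symm ▸ hq.symm ▸ hzy))
        (fun h => hzy' (by rw [← hq, ← hp, h]))
      have h2 : p < c := lt_of_le_of_ne ((hle p c).2 (hc.symm ▸ hp.symm ▸ hyx))
        (fun h => hne (by rw [← hp, h, hc]))
      have := Order.LTSeries.length_le_krullDim
        ({ length := 2, toFun := ![q, p, c], step := fun i => by fin_cases i <;> simp [h1, h2] } :
          LTSeries (PrimeSpectrum (X.presheaf.stalk x)))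
      rw [show Order.krullDim (PrimeSpectrum (X.presheaf.stalk x)) = 1 from hd] at this
      exact absurd this (by norm_num)
  · rintro ⟨⟨y, hy, hyne⟩, h2⟩
    refine le_antisymm ?_ ?_
    · refine iSup_le fun s => ?_
      by_contra hs
      have hs' : 2 ≤ s.length := by
        by_contra hlt
        exact hs (by exact_mod_cast (show s.length ≤ 1 by omega))
      let p₀ := s.toFun ⟨0, by omega⟩
      let p₁ := s.toFun ⟨1, by omega⟩
      let p₂ := s.toFun ⟨2, by omega⟩
      have l1 : p₀ < p₁ := s.step ⟨0, by omega⟩
      have l2 : p₁ < p₂ := s.step ⟨1, by omega⟩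
      have hne : e.base p₁ ≠ x := fun h => by
        have : p₁ = c := hinj _ _ (h.trans hc.symm)
        exact ((hle p₂ c).2 (hc.symm ▸ (hr _).2 ⟨p₂, rfl⟩)).not_gt (this ▸ l2)
      exact l1.ne (hinj _ _ (h2 _ _ ((hle p₀ p₁).1 l1.le) ((hr _).2 ⟨p₁, rfl⟩) hne))
    · obtain ⟨p, hp⟩ := (hr y).1 hy
      have h1 : p < c := lt_of_le_of_ne ((hle p c).2 (hc.symm ▸ hp.symm ▸ hy))
        (fun h => hyne (by rw [← hp, h, hc]))
      exact le_iSup_of_le ({ length := 1, toFun := ![p, c], step := fun i => by fin_cases i; simp [h1] } :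
          LTSeries (PrimeSpectrum (X.presheaf.stalk x))) (by simp)

open AlgebraicGeometry CategoryTheory TopologicalSpace in
theorem main {k : Type u} [Field k] {X : Scheme.{u}} (f : X ⟶ Spec (CommRingCat.of k)) [LocallyOfFiniteType f] :
    (∀ x : X, IsClosed ({x} : Set X) → ringKrullDim (X.presheaf.stalk x) = 1) ↔
      ((∀ F : Set X, IsClosed F → IsIrreducible F → F ∉ irreducibleComponents (X : Type u) →
          ∃ x : X, IsClosed ({x} : Set X) ∧ F = {x}) ∧
        ∀ x : X, IsClosed ({x} : Set X) → ({x} : Set X) ∉ irreducibleComponents (X : Type u)) := by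
  have : JacobsonSpace X := LocallyOfFiniteType.jacobsonSpace f
  constructor
  · intro h
    refine ⟨fun F hFc hFi hnc => ?_, fun x hx hxc => ?_⟩
    · obtain ⟨x, hxF, hxc⟩ := nonempty_inter_closedPoints hFi.1 hFc.isLocallyClosed
      obtain ⟨Z, hZ, hFZ⟩ := exists_mem_irreducibleComponents_subset_of_isIrreducible F hFi
      obtain ⟨-, h2⟩ := (dim_stalk_eq_one_iff x).1 (h x hxc)
      have hFη := hFi.closure_genericPoint hFc
      have hZc := isClosed_of_mem_irreducibleComponents Z hZ
      have hZη := hZ.1.closure_genericPoint hZc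
      have hyx : hFi.genericPoint ⤳ x := specializes_iff_mem_closure.2 (hFη.symm ▸ hxF)
      have hzy : hZ.1.genericPoint ⤳ hFi.genericPoint :=
        specializes_iff_mem_closure.2 (hZη.symm ▸ hFZ (hFη.subset (subset_closure rfl)))
      by_cases hne : hFi.genericPoint = x
      · exact ⟨x, hxc, by rw [← hFη, hne, hxc.closure_eq]⟩
      · exact absurd (show F ∈ irreducibleComponents (X : Type u) by
          rw [← hFη, ← h2 _ _ hzy hyx hne, hZη]; exact hZ) hnc
    · obtain ⟨⟨y, hy, hyne⟩, -⟩ := (dim_stalk_eq_one_iff x).1 (h x hx)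
      have hsub : ({x} : Set X) ⊆ closure {y} := Set.singleton_subset_iff.2 (specializes_iff_mem_closure.1 hy)
      exact hyne (hxc.2 (isIrreducible_singleton.closure) hsub (subset_closure rfl))
  · rintro ⟨h1, h2⟩ x hx
    refine (dim_stalk_eq_one_iff x).2 ⟨?_, fun y z hzy hyx hne => ?_⟩
    · obtain ⟨Z, hZ, hxZ⟩ := exists_mem_irreducibleComponents_subset_of_isIrreducible ({x} : Set X) isIrreducible_singleton
      have hZη := hZ.1.closure_genericPoint (isClosed_of_mem_irreducibleComponents Z hZ)
      refine ⟨hZ.1.genericPoint, specializes_iff_mem_closure.2 (hZη.symm ▸ hxZ rfl), fun e => h2 x hx ?_⟩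
      rw [← hx.closure_eq, ← e, hZη]
      exact hZ
    · by_cases hc : closure ({y} : Set X) ∈ irreducibleComponents (X : Type u)
      · have := hc.2 ((isIrreducible_singleton (x := z)).closure)
          (closure_minimal (Set.singleton_subset_iff.2 (specializes_iff_mem_closure.1 hzy)) isClosed_closure)
        exact hzy.antisymm (specializes_iff_mem_closure.2 (this (subset_closure rfl))) |>.eq
      · obtain ⟨w, hw, hyw⟩ := h1 _ isClosed_closure isIrreducible_singleton.closure hc
        have hxw : x = w := hyw.subset (specializes_iff_mem_closure.1 hyx)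
        have hyw' : y = w := hyw.subset (subset_closure rfl)
        exact absurd (hyw'.trans hxw.symm) hne

open AlgebraicGeometry CategoryTheory in
/-- Let X be a scheme of finite type over a field k. Then the local ring of X at every closed point has
dimension one if and only if the irreducible closed subsets of X other than its irreducible
components are exactly the (singletons of) closed points of X — that is, every irreducible closed
subset which is not an irreducible component is a closed point, and no closed point is by itself an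
irreducible component. -/
theorem result (k : Type u) [Field k] (X : Scheme.{u})
    [X.Over (Spec (CommRingCat.of k))] [LocallyOfFiniteType (X ↘ (Spec (CommRingCat.of k)))]
    [QuasiCompact (X ↘ (Spec (CommRingCat.of k)))] :
    (∀ x : X, IsClosed ({x} : Set X) → ringKrullDim (X.presheaf.stalk x) = 1) ↔
      ((∀ F : Set X, IsClosed F → IsIrreducible F → F ∉ irreducibleComponents (X : Type u) →
          ∃ x : X, IsClosed ({x} : Set X) ∧ F = {x}) ∧
        ∀ x : X, IsClosed ({x} : Set X) → ({x} : Set X) ∉ irreducibleComponents (X : Type u)) := by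
  exact main (X ↘ Spec (CommRingCat.of k))

end Groth.Agent.S12129
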