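import Groth.Statements.S1213
import Mathlib.RingTheory.TensorProduct.Finite
import Mathlib.RingTheory.Nakayama
import Mathlib.RingTheory.FiniteType
import Mathlib.Algebra.DirectSum.Module
import Mathlib.RingTheory.LocalRing.MaximalIdeal.Basic
-- import your own Groth.Agent.* helpers here

set_option autoImplicit false
universe u
open scoped Classical
open FlatMor

namespace Groth.Agent.S1213

open TensorProduct IsLocalRing in
/-- Let R be a local ring, S an R-algebra and N an S-module which, as an R-module, is an internal direct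
sum of finite R-submodules. Then for every R-module M and every prime q of S which is the
annihilator of an element of the S-module N ⊗_R M we have q + 𝔪_R S ≠ S. -/
theorem result {R S : Type u} [CommRing R] [IsLocalRing R] [CommRing S] [Algebra R S]
    (N : Type u) [AddCommGroup N] [Module S N] [Module R N] [IsScalarTower R S N]
    (ι : Type u) (F : ι → Submodule R N) (hF : DirectSum.IsInternal F) (hfin : ∀ i, Module.Finite R (F i))
    (M : Type u) [AddCommGroup M] [Module R M]
    (q : Ideal S) [q.IsPrime] (hq : q ∈ FlatCA.ass S (N ⊗[R] M)) :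
    q ⊔ (maximalIdeal R).map (algebraMap R S) ≠ ⊤ := by
  classical
  intro htop
  obtain ⟨v, hv, u, hu, huv⟩ := Submodule.mem_sup.1 ((Ideal.eq_top_iff_one _).1 htop)
  obtain ⟨hqp, m, hm⟩ := hq
  let m₀ : Ideal R := IsLocalRing.maximalIdeal R
  have hmul : ∀ z ∈ m₀.map (algebraMap R S), ∀ x : N, z • x ∈ m₀ • (⊤ : Submodule R N) := by
    intro z hz
    induction hz using Submodule.span_induction with
    | mem z hz =>
      obtain ⟨a, ha, rfl⟩ := hz
      intro x
      rw [IsScalarTower.algebraMap_smul]
      exact Submodule.smul_mem_smul ha trivial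
    | zero => intro x; rw [zero_smul]; exact zero_mem _
    | add a b _ _ ha hb => intro x; rw [add_smul]; exact add_mem (ha x) (hb x)
    | smul a b _ hb => intro x; rw [smul_eq_mul, mul_comm, mul_smul]; exact hb (a • x)
  let dec : N ≃ₗ[R] DirectSum ι fun i => ↥(F i) := (LinearEquiv.ofBijective (DirectSum.coeLinearMap F) hF).symm
  obtain ⟨N₀, hN₀fg, y, hy⟩ := Submodule.exists_fg_le_eq_rTensor_subtype m
  obtain ⟨gs, hgs⟩ := hN₀fg
  let T : Finset ι := gs.biUnion fun g => (dec g).support
  let W : Submodule R N := ⨆ i ∈ T, F i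
  haveI : Module.Finite R ↥W := by
    refine Module.Finite.iff_fg.2 ?_
    exact Submodule.fg_biSup T F fun i _ => Module.Finite.iff_fg.1 (hfin i)
  let p : N →ₗ[R] ↥W := LinearMap.codRestrict W
    (∑ i ∈ T, (F i).subtype ∘ₗ (DirectSum.component R ι (fun i => ↥(F i)) i) ∘ₗ dec.toLinearMap)
    (fun x => by
      simp only [LinearMap.sum_apply, LinearMap.comp_apply, Submodule.subtype_apply]
      exact Submodule.sum_mem _ fun i hi => Submodule.mem_iSup_of_mem i (Submodule.mem_iSup_of_mem hi (Subtype.mem _)))
  have hp : ∀ x ∈ N₀, (p x : N) = x := by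
    intro x hx
    rw [← hgs] at hx
    induction hx using Submodule.span_induction with
    | mem g hg =>
      show (∑ i ∈ T, (F i).subtype ∘ₗ (DirectSum.component R ι (fun i => ↥(F i)) i) ∘ₗ dec.toLinearMap) g = g
      simp only [LinearMap.sum_apply, LinearMap.comp_apply, Submodule.subtype_apply, LinearEquiv.coe_coe]
      have h1 : (DirectSum.coeLinearMap F) (dec g) = g := dec.symm_apply_apply g
      have h2 : ∀ d : DirectSum ι fun i => ↥(F i),
          DirectSum.coeLinearMap F d = ∑ i ∈ d.support, (d i : N) := fun d => by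
        conv_lhs => rw [← DirectSum.sum_support_of d, map_sum]
        simp
      rw [h2] at h1
      refine Eq.trans ?_ h1
      refine (Finset.sum_subset (Finset.subset_biUnion_of_mem _ hg) fun i _ hi => ?_).symm
      rw [DFinsupp.notMem_support_iff] at hi
      show ((dec g) i : N) = 0
      rw [hi, ZeroMemClass.coe_zero]
    | zero => simp
    | add a b _ _ ha hb => rw [map_add, Submodule.coe_add, ha, hb]
    | smul c a _ ha => rw [map_smul, Submodule.coe_smul, ha]
  have hpW : ∀ x : N₀, p x = p x := fun _ => rfl
  let θ : ↥W →ₗ[R] ↥W := p ∘ₗ ((LinearMap.lsmul S N u).restrictScalars R) ∘ₗ W.subtype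
  let ψ : ↥W →ₗ[R] ↥W := LinearMap.id - θ
  have hθ : ∀ w, θ w ∈ m₀ • (⊤ : Submodule R ↥W) := fun w => by
    have := Submodule.mem_map_of_mem (f := p) (hmul u hu (w : N))
    rw [Submodule.map_smul''] at this
    exact Submodule.smul_mono le_rfl le_top this
  have hψ : Function.Surjective ψ := by
    rw [← LinearMap.range_eq_top, eq_top_iff]
    refine Submodule.le_of_le_smul_of_le_jacobson_bot Module.Finite.fg_top
      (IsLocalRing.maximalIdeal_le_jacobson ⊥) ?_
    intro w _
    rw [show w = ψ w + θ w by simp [ψ]]
    exact add_mem (Submodule.mem_sup_left ⟨w, rfl⟩) (Submodule.mem_sup_right (hθ w))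
  have hψi : Function.Injective ψ := OrzechProperty.injective_of_surjective_endomorphism ψ hψ
  let k : ↥W ⊗[R] M := (p ∘ₗ N₀.subtype).rTensor M y
  have hk : W.subtype.rTensor M k = m := by
    rw [← LinearMap.comp_apply, ← LinearMap.rTensor_comp,
      show W.subtype ∘ₗ (p ∘ₗ N₀.subtype) = N₀.subtype from LinearMap.ext fun x => hp x x.2, ← hy]
  have hum : u • m = m := by
    have h0 : v • m = 0 := by
      rw [hm] at hv
      exact (Submodule.mem_annihilator_span_singleton _ _).1 hv
    calc u • m = v • m + u • m := by rw [h0, zero_add]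
      _ = m := by rw [← add_smul, huv, one_smul]
  have hact : ∀ z : N ⊗[R] M, u • z = ((LinearMap.lsmul S N u).restrictScalars R).rTensor M z := by
    intro z
    induction z using TensorProduct.induction_on with
    | zero => rw [smul_zero, map_zero]
    | tmul a b => simp [TensorProduct.smul_tmul']
    | add a b ha hb => rw [smul_add, map_add, ha, hb]
  have hθk : θ.rTensor M k = k := by
    show (p ∘ₗ ((LinearMap.lsmul S N u).restrictScalars R) ∘ₗ W.subtype).rTensor M k = k
    rw [LinearMap.rTensor_comp, LinearMap.rTensor_comp, LinearMap.comp_apply, LinearMap.comp_apply, hk,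
      ← hact, hum, hy, ← LinearMap.comp_apply, ← LinearMap.rTensor_comp]
  have hk0 : k = 0 := by
    refine (LinearEquiv.rTensor M (LinearEquiv.ofBijective ψ ⟨hψi, hψ⟩)).injective ?_
    rw [map_zero]
    show ψ.rTensor M k = 0
    rw [show ψ = LinearMap.id - θ from rfl, LinearMap.rTensor_sub, LinearMap.rTensor_id,
      LinearMap.sub_apply, LinearMap.id_apply, hθk, sub_self]
  refine hqp.ne_top ?_
  rw [hm, ← hk, hk0, map_zero]
  refine eq_top_iff.2 fun x _ => Submodule.mem_annihilator.2 fun n hn => ?_
  rw [Submodule.span_zero_singleton, Submodule.mem_bot] at hn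
  rw [hn, smul_zero]

end Groth.Agent.S1213
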