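import Groth.Statements.S12133
import Groth.Agent.GradVero.Basic
-- import your own Groth.Agent.* helpers here

set_option autoImplicit false
universe u
open EGA2

namespace Groth.Agent.S12133

open Groth.Agent

set_option linter.style.haveILetI false
set_option maxHeartbeats 2000000
set_option backward.isDefEq.respectTransparency false

open DirectSum in
theorem core {A : Type u} [CommRing A] (𝒢 : ℕ → AddSubgroup A) [GradedRing 𝒢] {R : Type u} [CommRing R]
    (σ : R →+* A) (hσ : ∀ r, σ r ∈ 𝒢 0) (hft : σ.FiniteType) :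
    ∃ h : ℕ, 0 < h ∧ ∀ c : ℕ, 0 < c →
      (∀ n : ℕ, 0 < n → AddSubgroup.toIntSubmodule (𝒢 (n * (c * h))) = AddSubgroup.toIntSubmodule (𝒢 (c * h)) ^ n) ∧
      ∃ T : Finset A, (↑T : Set A) ⊆ (𝒢 (c * h) : Set A) ∧
        AddSubgroup.toIntSubmodule (𝒢 (c * h)) = AddSubgroup.toIntSubmodule (𝒢 0) * Submodule.span ℤ (↑T : Set A) := by
  classical
  letI : Algebra R A := σ.toAlgebra
  let 𝒜 : ℕ → Submodule R A := fun n =>
    { (𝒢 n).toAddSubmonoid with
      smul_mem' := fun r x hx => by
        show σ r * x ∈ 𝒢 n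
        have := SetLike.GradedMul.mul_mem (A := 𝒢) (hσ r) hx
        rwa [zero_add] at this }
  letI : GradedAlgebra 𝒜 :=
    { one_mem := SetLike.GradedOne.one_mem (A := 𝒢)
      mul_mem := fun _ _ _ _ ha hb => SetLike.GradedMul.mul_mem (A := 𝒢) ha hb
      decompose' := DirectSum.Decomposition.decompose' (ℳ := 𝒢)
      left_inv := DirectSum.Decomposition.left_inv (ℳ := 𝒢)
      right_inv := DirectSum.Decomposition.right_inv (ℳ := 𝒢) }
  have htr : ∀ n, (𝒜 n).restrictScalars ℤ = AddSubgroup.toIntSubmodule (𝒢 n) := fun n => SetLike.ext fun x => Iff.rfl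
  have hmul : ∀ P Q : Submodule R A, (P * Q).restrictScalars ℤ = P.restrictScalars ℤ * Q.restrictScalars ℤ := fun P Q =>
    le_antisymm (fun x hx => Submodule.mul_induction_on (M := P) (N := Q) hx
      (fun a ha b hb => Submodule.mul_mem_mul (show a ∈ P.restrictScalars ℤ from ha) (show b ∈ Q.restrictScalars ℤ from hb))
      fun a b ha hb => add_mem ha hb)
      (Submodule.mul_le.2 fun a ha b hb => Submodule.mul_mem_mul (show a ∈ P from ha) (show b ∈ Q from hb))
  haveI : Algebra.FiniteType (𝒜 0) A := by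
    let σ₀ : R →+* 𝒜 0 :=
      { toFun := fun r => ⟨σ r, hσ r⟩
        map_one' := Subtype.ext σ.map_one
        map_mul' := fun a b => Subtype.ext (σ.map_mul a b)
        map_zero' := Subtype.ext σ.map_zero
        map_add' := fun a b => Subtype.ext (σ.map_add a b) }
    rw [← RingHom.finiteType_algebraMap]
    exact RingHom.FiniteType.of_comp_finiteType (f := σ₀) (g := algebraMap (𝒜 0) A) hft
  obtain ⟨G⟩ := Groth.Agent.GradVero.nonempty_gens 𝒜
  obtain ⟨h, hh, hpow⟩ := Groth.Agent.GradVero.exists_pow_degree 𝒜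
  refine ⟨h, hh, fun c hc => ⟨fun n hn => ?_, ?_⟩⟩
  · have e : 𝒜 (n * (c * h)) = 𝒜 (c * h) ^ n := by
      rw [← mul_assoc, hpow (n * c) (Nat.mul_pos hn hc), hpow c hc, ← pow_mul, mul_comm n c]
    rw [← htr, e, ← htr]
    clear e
    induction n, hn using Nat.le_induction with
    | base => rw [pow_one, pow_one]
    | succ m hm ih => rw [pow_succ, pow_succ, hmul, ih]
  · set d := c * h
    let K := (Fintype.piFinset fun _ : G.s => Finset.range (d + 1)).filter fun k => GradVero.deg G k = d
    refine ⟨K.image (GradVero.mon G), fun x hx => ?_, le_antisymm (fun y hy => ?_) ?_⟩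
    · obtain ⟨k, hk, rfl⟩ := Finset.mem_image.1 hx
      exact (Finset.mem_filter.1 hk).2 ▸ GradVero.mon_mem G k
    · have key : ∀ z : A, (DirectSum.decompose 𝒜 z d : A) ∈
          AddSubgroup.toIntSubmodule (𝒢 0) * Submodule.span ℤ (↑(K.image (GradVero.mon G)) : Set A) := by
        intro z
        refine GradVero.induction_mon G (P := fun z => (DirectSum.decompose 𝒜 z d : A) ∈
          AddSubgroup.toIntSubmodule (𝒢 0) * Submodule.span ℤ (↑(K.image (GradVero.mon G)) : Set A)) ?_ ?_ ?_ z
        · simp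
        · intro a b ha hb; rw [DirectSum.decompose_add, DFinsupp.add_apply, AddMemClass.coe_add]
          exact add_mem ha hb
        · intro k e he
          have hm : e * GradVero.mon G k ∈ 𝒜 (GradVero.deg G k) := by
            have := SetLike.mul_mem_graded he (GradVero.mon_mem G k)
            rwa [zero_add] at this
          by_cases hd : GradVero.deg G k = d
          · rw [← hd, DirectSum.decompose_of_mem_same 𝒜 hm]
            refine Submodule.mul_mem_mul (show e ∈ AddSubgroup.toIntSubmodule (𝒢 0) from he) (Submodule.subset_span (Finset.mem_image.2 ⟨k, ?_, rfl⟩))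
            refine Finset.mem_filter.2 ⟨Fintype.mem_piFinset.2 fun e => Finset.mem_range.2 ?_, hd⟩
            have h1 : k e * G.dg e ≤ GradVero.deg G k :=
              Finset.single_le_sum (f := fun e => k e * G.dg e) (fun _ _ => Nat.zero_le _) (Finset.mem_univ e)
            have h2 : k e ≤ k e * G.dg e := Nat.le_mul_of_pos_right _ (G.pos e)
            omega
          · rw [DirectSum.decompose_of_mem_ne 𝒜 hm hd]; exact zero_mem _
      have := key y
      rwa [DirectSum.decompose_of_mem_same 𝒜 hy] at this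
    · refine Submodule.mul_le.2 fun a ha b hb => ?_
      have hb' : b ∈ 𝒜 d := by
        refine ((Submodule.span_le (p := (𝒜 d).restrictScalars ℤ)).2 ?_) hb
        intro x hx
        obtain ⟨k, hk, rfl⟩ := Finset.mem_image.1 hx
        exact (Finset.mem_filter.1 hk).2 ▸ GradVero.mon_mem G k
      have := SetLike.mul_mem_graded (show a ∈ 𝒜 0 from ha) hb'
      rwa [zero_add] at this

open CategoryTheory AlgebraicGeometry Opposite in
/-- Let Y be a scheme, 𝒮 a quasi-coherent positively graded O_Y-algebra, and (U_i) a finite cover of Y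
by affine open sets such that each graded ring 𝒮(U_i) is an algebra of finite type over O_Y(U_i).
Then there is an integer d > 0 such that for every i: 𝒮(U_i)_{nd} = (𝒮(U_i)_d)^n for all n > 0 (as
additive subgroups of the ring 𝒮(U_i); that is, 𝒮^{(d)} is generated by 𝒮_d), and 𝒮(U_i)_d is a
finitely generated module over the degree-zero subring 𝒮(U_i)_0. (The published statement says 𝒮_d
is an O_Y-module of finite type; its proof gives finite generation over 𝒮_0, which is what is stated
here — for 𝒮 = O_Y[x][T] with x of degree 0 and T of degree 1 over an affine Y, 𝒮 is of finite type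
but 𝒮_1 = O_Y[x] T is not a finitely generated O_Y-module.) -/
theorem result {Y : Scheme.{u}} (𝒮 : RelProj.QCGrAlg Y)
    {ι : Type u} [Finite ι] (U : ι → Y.Opens) (hU : ∀ i, IsAffineOpen (U i)) (hcov : ⨆ i, U i = ⊤)
    (hft : ∀ i, (𝒮.str.app (op (U i))).hom.FiniteType) :
    ∃ d : ℕ, 0 < d ∧ ∀ i,
      (∀ n : ℕ, 0 < n →
        AddSubgroup.toIntSubmodule (𝒮.deg (U i) (hU i) (n * d)) =
          AddSubgroup.toIntSubmodule (𝒮.deg (U i) (hU i) d) ^ n) ∧
      ∃ T : Finset (𝒮.presheaf.obj (op (U i))),
        (↑T : Set (𝒮.presheaf.obj (op (U i)))) ⊆ (𝒮.deg (U i) (hU i) d : Set (𝒮.presheaf.obj (op (U i)))) ∧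
        AddSubgroup.toIntSubmodule (𝒮.deg (U i) (hU i) d) =
          AddSubgroup.toIntSubmodule (𝒮.deg (U i) (hU i) 0) *
            Submodule.span ℤ (↑T : Set (𝒮.presheaf.obj (op (U i)))) := by
  classical
  haveI := Fintype.ofFinite ι
  choose h hh hprop using fun i => core (𝒮.deg (U i) (hU i)) (𝒮.str.app (op (U i))).hom (𝒮.str_mem (U i) (hU i)) (hft i)
  refine ⟨∏ i, h i, Finset.prod_pos fun i _ => hh i, fun i => ?_⟩
  obtain ⟨c, hc⟩ : h i ∣ ∏ j, h j := Finset.dvd_prod_of_mem h (Finset.mem_univ i)
  have hc0 : 0 < c := by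
    have h1 : 0 < ∏ j, h j := Finset.prod_pos fun j _ => hh j
    rw [hc] at h1
    exact Nat.pos_of_mul_pos_left h1
  rw [hc, mul_comm (h i) c]
  exact hprop i c hc0

end Groth.Agent.S12133
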