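import Groth.Statements.S12135
import Groth.Agent.ConsTop.Basic

set_option autoImplicit false
universe u
open EGA41

namespace Groth.Agent.S12135

open AlgebraicGeometry Topology in
/-- Let f : X → Y be a morphism of schemes with X and Y quasi-separated, and let X^cons, Y^cons denote
the underlying sets with the constructible topology (generated by the quasi-compact open subsets and
their complements; for quasi-separated schemes the open sets are exactly the ind-constructible
subsets). Then f is quasi-compact if and only if the map X^cons → Y^cons underlying f is proper
(continuous and universally closed). (The published statement is for arbitrary schemes with the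
ind-constructible topology; this row covers the quasi-separated case, where that topology is the one
used here.) -/
theorem result {X Y : Scheme.{u}} [QuasiSeparatedSpace X]
    [QuasiSeparatedSpace Y] (f : X ⟶ Y) :
    QuasiCompact f ↔ @IsProperMap X Y (constructibleTopology X) (constructibleTopology Y) f := by
  constructor
  · intro hf
    have hcont : @Continuous X Y (constructibleTopology X) (constructibleTopology Y) f := by
      refine continuous_generateFrom_iff.mpr fun s hs => ?_
      rcases hs with ⟨hso, hsc⟩ | ⟨hsc, hsc'⟩
      · exact (QuasiCompact.isCompact_preimage _ hso hsc).isOpen_constructibleTopology_of_isOpen (hso.preimage f.continuous)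
      · refine IsCompact.isOpen_constructibleTopology_of_isClosed ?_ (hsc.preimage f.continuous)
        rw [← Set.preimage_compl]
        exact QuasiCompact.isCompact_preimage _ hsc.isOpen_compl hsc'
    haveI h2 : @T2Space Y (constructibleTopology Y) := ConsTop.t2Space_cons
    haveI h3 : @WeaklyLocallyCompactSpace Y (constructibleTopology Y) :=
      ConsTop.weaklyLocallyCompactSpace_cons
    refine (@isProperMap_iff_isCompact_preimage X Y (constructibleTopology X) (constructibleTopology Y)
      h2 inferInstance f).mpr ⟨hcont, fun K hK => ?_⟩
    have hbasis := PrespectralSpace.isTopologicalBasis (X := Y)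
    choose W hW hyW hWs using fun y : Y =>
      hbasis.exists_subset_of_mem_open (Set.mem_univ y) isOpen_univ
    obtain ⟨t, ht⟩ := @IsCompact.elim_finite_subcover Y (constructibleTopology Y) _ _ hK W
      (fun y => (hW y).2.isOpen_constructibleTopology_of_isOpen (hW y).1)
      (fun y _ => Set.mem_iUnion.mpr ⟨y, hyW y⟩)
    have hc : @IsCompact X (constructibleTopology X) (⋃ y ∈ t, f ⁻¹' W y) :=
      @Finset.isCompact_biUnion X _ (constructibleTopology X) t _ fun y _ =>
        ConsTop.isCompact_cons ((hW y).1.preimage f.continuous) (QuasiCompact.isCompact_preimage _ (hW y).1 (hW y).2)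
    have hKc : @IsClosed Y (constructibleTopology Y) K := @IsCompact.isClosed Y (constructibleTopology Y) h2 _ hK
    have : f ⁻¹' K = (⋃ y ∈ t, f ⁻¹' W y) ∩ f ⁻¹' K := by
      refine (Set.inter_eq_right.mpr fun x hx => ?_).symm
      obtain ⟨y, hy, hxy⟩ := Set.mem_iUnion₂.mp (ht hx)
      exact Set.mem_biUnion hy hxy
    rw [this]
    exact @IsCompact.inter_right X (constructibleTopology X) _ _ hc
      (@IsClosed.preimage X Y (constructibleTopology X) (constructibleTopology Y) f hcont K hKc)
  · intro h
    refine ⟨fun U hU hUc => ConsTop.isCompact_of_isCompact_cons ?_⟩
    exact @IsProperMap.isCompact_preimage X Y (constructibleTopology X) (constructibleTopology Y) f h U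
      (ConsTop.isCompact_cons hU hUc)

end Groth.Agent.S12135
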