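import Groth.Statements.S12136
-- import your own Groth.Agent.* helpers here
import Groth.Agent.EGA41SymGr.Quotient

set_option autoImplicit false
universe u
open TensorProduct KaehlerDifferential
open EGA41

namespace Groth.Agent.S12136

/-- In the Noetherian adic case, which the published statement itself singles out, let A → B be a ring
homomorphism with B Noetherian, I and J ideals of B, and suppose B, with the I-adic topology, is
formally smooth over the discrete ring A. Put C = B/J with the quotient (IC-adic) topology and let Q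
be an ideal of definition of C, i.e. an ideal containing a power of IC and a power of which lies in
IC. Then C is formally smooth over A for the IC-adic topology if and only if the C/Q-linear map
(J/J²) ⊗ (C/Q) → Ω_{B/A} ⊗_B (C/Q), obtained by base change from the conormal map J/J² → Ω_{B/A} ⊗_B
C, x ↦ 1 ⊗ dx, has a C/Q-linear left inverse (is an isomorphism onto a direct summand). Here J is
written as the kernel of B → C and the tensor products are taken over B, which for these C-modules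
is the same as over C. (The published statement allows A to be any topological ring with A → B
continuous; this row takes A discrete.) -/
theorem result {A B : Type u} [CommRing A]
    [CommRing B] [Algebra A B] [IsNoetherianRing B] (I J : Ideal B) (hB : CAlgX.IsAdicFormallySmooth A B I)
    (Q : Ideal (B ⧸ J)) (hQ : ∃ n : ℕ, (I.map (Ideal.Quotient.mk J)) ^ n ≤ Q)
    (hQ' : ∃ m : ℕ, Q ^ m ≤ I.map (Ideal.Quotient.mk J)) :
    CAlgX.IsAdicFormallySmooth A (B ⧸ J) (I.map (Ideal.Quotient.mk J)) ↔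
      ∃ g : ((B ⧸ J) ⧸ Q) ⊗[B] ((B ⧸ J) ⊗[B] Ω[B⁄A]) →ₗ[(B ⧸ J) ⧸ Q]
          ((B ⧸ J) ⧸ Q) ⊗[B] (RingHom.ker (algebraMap B (B ⧸ J))).Cotangent,
        g ∘ₗ LinearMap.baseChange ((B ⧸ J) ⧸ Q) (KaehlerDifferential.kerCotangentToTensor A B (B ⧸ J)) =
          LinearMap.id := by
  open Groth.Agent.EGA41SymGr in
  classical
  obtain ⟨n, hn⟩ := hQ
  obtain ⟨m, hm⟩ := hQ'
  let mk := Ideal.Quotient.mk J
  let 𝔔 : Ideal B := Q.comap mk
  have hJ𝔔 : J ≤ 𝔔 := fun x hx => by
    show mk x ∈ Q
    rw [show mk x = 0 from Ideal.Quotient.eq_zero_iff_mem.mpr hx]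
    exact zero_mem _
  have hn' : I ^ n ≤ 𝔔 := Ideal.map_le_iff_le_comap.mp (by rw [Ideal.map_pow]; exact hn)
  have hm' : 𝔔 ^ m ≤ I ⊔ J := by
    intro x hx
    have h1 : mk x ∈ I.map mk := hm (Ideal.pow_right_mono (Ideal.map_le_of_le_comap (le_refl 𝔔)) m (by
      rw [← Ideal.map_pow]; exact Ideal.mem_map_of_mem mk hx))
    obtain ⟨y, hy, hyx⟩ := (Ideal.mem_map_iff_of_surjective mk Ideal.Quotient.mk_surjective).mp h1
    rw [show x = y + (x - y) by ring]
    exact add_mem (Ideal.mem_sup_left hy) (Ideal.mem_sup_right (Ideal.Quotient.eq.mp hyx.symm))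
  let K₀ : Ideal B := RingHom.ker (algebraMap B (B ⧸ J))
  have hK : ∀ x, x ∈ K₀ ↔ x ∈ J := fun x => by
    show algebraMap B (B ⧸ J) x = 0 ↔ _
    rw [Ideal.Quotient.algebraMap_eq, Ideal.Quotient.eq_zero_iff_mem]
  let u := LinearMap.baseChange ((B ⧸ J) ⧸ Q) (KaehlerDifferential.kerCotangentToTensor A B (B ⧸ J))
  constructor
  · intro hC
    let M := ((B ⧸ J) ⧸ Q) ⊗[B] K₀.Cotangent
    have hMk : ∀ b ∈ 𝔔, ∀ x : M, b • x = 0 := fun b hb x => by
      rw [← algebraMap_smul ((B ⧸ J) ⧸ Q) b x,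
        show algebraMap B ((B ⧸ J) ⧸ Q) b = 0 from Ideal.Quotient.eq_zero_iff_mem.mpr hb]
      exact zero_smul ((B ⧸ J) ⧸ Q) x
    let h : J →ₗ[B] M :=
      { toFun := fun x => (1 : (B ⧸ J) ⧸ Q) ⊗ₜ[B] K₀.toCotangent ⟨x, (hK _).mpr x.2⟩
        map_add' := fun a b => by rw [← TensorProduct.tmul_add, ← map_add]; rfl
        map_smul' := fun c a => by rw [RingHom.id_apply, ← TensorProduct.tmul_smul, ← map_smul]; rfl }
    obtain ⟨D, hD⟩ := extendsIdeal_of_isAdicFormallySmooth (A := A) hJ𝔔 hn' hC M hMk h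
    let L₁ : (B ⧸ J) ⊗[B] Ω[B⁄A] →ₗ[B] M := (D.liftKaehlerDifferential.liftBaseChange (B ⧸ J)).restrictScalars B
    refine ⟨L₁.liftBaseChange ((B ⧸ J) ⧸ Q), ?_⟩
    refine TensorProduct.AlgebraTensorModule.ext fun c z => ?_
    obtain ⟨⟨x, hx⟩, rfl⟩ := K₀.toCotangent_surjective z
    show (L₁.liftBaseChange _) (c ⊗ₜ[B] KaehlerDifferential.kerCotangentToTensor A B (B ⧸ J) (K₀.toCotangent ⟨x, hx⟩)) = _
    rw [KaehlerDifferential.kerCotangentToTensor_toCotangent, LinearMap.liftBaseChange_tmul]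
    show c • ((1 : B ⧸ J) • D.liftKaehlerDifferential (KaehlerDifferential.D A B x)) = _
    rw [one_smul, Derivation.liftKaehlerDifferential_comp_D, hD ⟨x, (hK x).mp hx⟩]
    show c • ((1 : (B ⧸ J) ⧸ Q) ⊗ₜ[B] K₀.toCotangent ⟨x, hx⟩) = _
    rw [TensorProduct.smul_tmul', smul_eq_mul, mul_one]
    rfl
  · rintro ⟨g, hg⟩
    refine isAdicFormallySmooth_quotient hB hJ𝔔 hn' hm' ?_
    intro M _ _ _ _ hM h
    let T := (B ⧸ J) ⧸ Q
    have hker : (RingHom.ker (algebraMap B T) : Set B) ⊆ 𝔔 := fun x hx =>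
      show mk x ∈ Q from Ideal.Quotient.eq_zero_iff_mem.mp (RingHom.mem_ker.mp hx)
    have hs : Function.Surjective (algebraMap B T) := fun y => by
      obtain ⟨z, rfl⟩ := Ideal.Quotient.mk_surjective y
      obtain ⟨x, rfl⟩ := Ideal.Quotient.mk_surjective z
      exact ⟨x, rfl⟩
    let sec := Function.surjInv hs
    have hwd : ∀ (b : B) (c : T) (x : M), algebraMap B T b = c → b • x = sec c • x := fun b c x hb => by
      refine sub_eq_zero.mp ?_
      rw [← sub_smul]
      refine hM _ (hker ?_) x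
      show algebraMap B T (b - sec c) = 0
      rw [map_sub, hb, Function.surjInv_eq hs, sub_self]
    letI : Module T M :=
      { smul := fun c x => sec c • x
        one_smul := fun x => (hwd 1 1 x (map_one _)).symm.trans (one_smul B x)
        mul_smul := fun c d x => by
          show sec (c * d) • x = sec c • sec d • x
          rw [← mul_smul, hwd (sec c * sec d) (c * d) x (by rw [map_mul, Function.surjInv_eq hs, Function.surjInv_eq hs])]
        smul_zero := fun c => smul_zero (sec c)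
        smul_add := fun c x y => smul_add (sec c) x y
        add_smul := fun c d x => by
          show sec (c + d) • x = sec c • x + sec d • x
          rw [← add_smul, hwd (sec c + sec d) (c + d) x (by rw [map_add, Function.surjInv_eq hs, Function.surjInv_eq hs])]
        zero_smul := fun x => (hwd 0 0 x (map_zero _)).symm.trans (zero_smul B x) }
    haveI : IsScalarTower B T M := ⟨fun b c x => by
      show sec (b • c) • x = b • sec c • x
      rw [← mul_smul]
      refine (hwd (b * sec c) (b • c) x ?_).symm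
      rw [map_mul, Function.surjInv_eq hs]
      exact (Algebra.smul_def b c).symm⟩
    let h' : K₀ →ₗ[B] M := h ∘ₗ
      { toFun := fun x => ⟨x, (hK _).mp x.2⟩
        map_add' := fun a b => rfl
        map_smul' := fun c a => rfl }
    have hsq : (K₀ • ⊤ : Submodule B K₀) ≤ LinearMap.ker h' := Submodule.smul_le.mpr fun b hb y _ => by
      rw [LinearMap.mem_ker, map_smul]
      exact hM b (hJ𝔔 ((hK b).mp hb)) _
    let hbar : K₀.Cotangent →ₗ[B] M := Submodule.liftQ _ h' hsq
    let L : Ω[B⁄A] →ₗ[B] M := ((hbar.liftBaseChange T) ∘ₗ g).restrictScalars B ∘ₗ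
      TensorProduct.mk B T ((B ⧸ J) ⊗[B] Ω[B⁄A]) 1 ∘ₗ TensorProduct.mk B (B ⧸ J) Ω[B⁄A] 1
    refine ⟨L.compDer (KaehlerDifferential.D A B), fun j => ?_⟩
    show hbar.liftBaseChange T (g ((1 : T) ⊗ₜ[B] ((1 : B ⧸ J) ⊗ₜ[B] KaehlerDifferential.D A B (j : B)))) = h j
    have hu : (1 : T) ⊗ₜ[B] ((1 : B ⧸ J) ⊗ₜ[B] KaehlerDifferential.D A B (j : B)) =
        u ((1 : T) ⊗ₜ[B] K₀.toCotangent ⟨j, (hK _).mpr j.2⟩) := by
      show _ = (1 : T) ⊗ₜ[B] KaehlerDifferential.kerCotangentToTensor A B (B ⧸ J) (K₀.toCotangent ⟨j, (hK _).mpr j.2⟩)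
      rw [KaehlerDifferential.kerCotangentToTensor_toCotangent]
    rw [hu, show g (u ((1 : T) ⊗ₜ[B] K₀.toCotangent ⟨j, (hK _).mpr j.2⟩)) = _ from LinearMap.congr_fun hg _,
      LinearMap.id_apply, LinearMap.liftBaseChange_tmul, one_smul]
    try rfl

end Groth.Agent.S12136
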