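import Groth.Prelude.Def_RelProj2
import Mathlib.Algebra.Polynomial.Eval.Defs
import Mathlib.RingTheory.Localization.Away.Basic
import Groth.Agent.ConeLib.DegZero

set_option backward.isDefEq.respectTransparency false
set_option backward.isDefEq.respectTransparency.types false
-- import your own Groth.Agent.* helpers here

set_option autoImplicit false
universe u
open CategoryTheory CategoryTheory.Limits AlgebraicGeometry Opposite TopologicalSpace
open scoped HomogeneousIdeal
noncomputable section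
open EGA2

namespace Groth.Agent.S12137

/-- Let Y be a scheme, 𝒜 a quasi-coherent O_Y-algebra and Ŝ = 𝒜[T], graded with 𝒜 in degree 0 and T in
degree 1 — presented through a homomorphism of algebras ι : 𝒜 → Ŝ landing in degree 0 and a global
section z of Ŝ of degree 1 such that, over every affine open U, the map 𝒜(U)[X] → Ŝ(U) sending X to
z is bijective — and let p : P → Y with its charts be the relative homogeneous spectrum Proj(Ŝ). For
each affine open U let θ_U : Ŝ(U)_(z) → 𝒜(U) be the ring isomorphism sending ι(a) z^k / z^k to a.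
Then there is a unique morphism i : Spec(𝒜) → P which, on the chart Spec 𝒜(U) of Spec(𝒜) over each
affine open U, is Spec(θ_U) followed by the open immersion of D_+(z|U) into Proj Ŝ(U) and the chart
of P; moreover i is an isomorphism and lies over Y. In particular Proj(O_Y[T]) is Y. -/
theorem result {Y P : Scheme.{u}} (𝒜 : RelSpec.QCAlg Y) (Sh : RelProj.QCGrAlg Y)
    (ι : 𝒜 ⟶ Sh.toQCAlg)
    (hι : ∀ (U : Y.Opens) (hU : IsAffineOpen U) (a : 𝒜.presheaf.obj (op U)), (ι.hom.app (op U)).hom a ∈ Sh.deg U hU 0)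
    (z : Sh.presheaf.obj (op ⊤))
    (hz : ∀ (U : Y.Opens) (hU : IsAffineOpen U), (Sh.presheaf.map (homOfLE le_top).op).hom z ∈ Sh.deg U hU 1)
    (hpoly : ∀ (U : Y.Opens) (hU : IsAffineOpen U),
      Function.Bijective (Polynomial.eval₂RingHom (ι.hom.app (op U)).hom ((Sh.presheaf.map (homOfLE le_top).op).hom z)))
    (p : P ⟶ Y)
    (chart : ∀ (U : Y.Opens) (hU : IsAffineOpen U), (((p ⁻¹ᵁ U : P.Opens) : Scheme.{u}) ≅ Proj (Sh.deg U hU)))
    (hP : RelProj.IsRelProj Sh p chart)
    (θ : ∀ (U : Y.Opens) (hU : IsAffineOpen U),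
      CommRingCat.of (HomogeneousLocalization.Away (Sh.deg U hU) ((Sh.presheaf.map (homOfLE le_top).op).hom z)) ⟶
        𝒜.presheaf.obj (op U))
    (hθ : ∀ (U : Y.Opens) (hU : IsAffineOpen U)
      (q : HomogeneousLocalization.Away (Sh.deg U hU) ((Sh.presheaf.map (homOfLE le_top).op).hom z))
      (k : ℕ) (a : 𝒜.presheaf.obj (op U)),
        q.val = Localization.mk ((ι.hom.app (op U)).hom a * (Sh.presheaf.map (homOfLE le_top).op).hom z ^ k)
          ⟨(Sh.presheaf.map (homOfLE le_top).op).hom z ^ k,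
            pow_mem (Submonoid.mem_powers ((Sh.presheaf.map (homOfLE le_top).op).hom z)) k⟩ →
        (θ U hU).hom q = a) :
    (∃! i : 𝒜.spec ⟶ P, ∀ (U : Y.Opens) (hU : IsAffineOpen U),
        𝒜.ι U hU ≫ i =
          Spec.map (θ U hU) ≫
            Proj.awayι (Sh.deg U hU) ((Sh.presheaf.map (homOfLE le_top).op).hom z) (hz U hU) one_pos ≫
              RelProj.emb p chart U hU) ∧
      ∀ i : 𝒜.spec ⟶ P, (∀ (U : Y.Opens) (hU : IsAffineOpen U),
        𝒜.ι U hU ≫ i =
          Spec.map (θ U hU) ≫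
            Proj.awayι (Sh.deg U hU) ((Sh.presheaf.map (homOfLE le_top).op).hom z) (hz U hU) one_pos ≫
              RelProj.emb p chart U hU) →
        IsIso i ∧ i ≫ p = 𝒜.π := by
  let 𝒮 := ConeLib.degZeroGrAlg 𝒜
  have hg : RelProj.IsGradedHom (𝒜 := 𝒮) (ℬ := Sh) ι := fun U hU d x hx => by
    rcases ConeLib.mem_inDegZero.1 hx with rfl | rfl
    · exact hι U hU x
    · simp
  have hp : RelCone.IsPolyOver 𝒮 Sh ι z := ⟨hg, hz, hpoly⟩
  have hθ' : ∀ U hU, θ U hU = CommRingCat.ofHom (hp.awayZToBase U hU) := fun U hU => by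
    refine CommRingCat.hom_ext ?_
    refine ((ConeLib.isPoly hp U hU).eq_awayTo _ fun q k x hx hq => ?_).trans ?_
    · rcases ConeLib.mem_inDegZero.1 hx with rfl | rfl
      · exact hθ U hU q 0 x (hq.trans (by simp only [pow_zero, mul_one]; rfl))
      · exact hθ U hU q k 0 (hq.trans (by simp only [map_zero, zero_mul]))
    · exact ConeLib.awayTo_eq hp U hU
  simp only [hθ']
  refine ⟨ConeLib.existsUnique_coneImm hp hP, fun i hi => ⟨?_, ConeLib.coneImm_over hp hP hi⟩⟩
  haveI := ConeLib.isOpenImmersion_coneImm hp hP hi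
  haveI : Epi i.base := by
    rw [TopCat.epi_iff_surjective]
    intro x
    obtain ⟨U, hU, hxU, -⟩ := exists_isAffineOpen_mem_and_subset (x := p x) (U := (⊤ : Y.Opens)) trivial
    obtain ⟨y, rfl⟩ : x ∈ Set.range (RelProj.emb p chart U hU) :=
      (RelProjLib.opensRange_emb (q := p) (ch := chart) U hU).ge hxU
    refine ((ConeLib.range_coneImm_inter hp hP hi U hU).ge ⟨y, ?_, rfl⟩).1
    rw [ConeLib.basicOpen_z_eq_top (ConeLib.isPoly hp U hU) fun n a ha => ConeLib.mem_inDegZero.1 ha]
    trivial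
  exact IsOpenImmersion.isIso i

end Groth.Agent.S12137
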