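import Groth.Statements.S1214
import Mathlib.RingTheory.AdicCompletion.Functoriality
import Mathlib.LinearAlgebra.TensorProduct.Basic
-- import your own Groth.Agent.* helpers here

set_option autoImplicit false
universe u
open FlatMor

namespace Groth.Agent.S1214

open TensorProduct in
/-- Let R → S be a ring map, I an ideal of R and N an S-module which is I-adically complete. Then for
every R-module M and every prime q of S which is the annihilator of an element of the S-module N ⊗_R
M we have q + IS ≠ S. -/
theorem result {R S : Type u} [CommRing R] [CommRing S] [Algebra R S] (I : Ideal R)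
    (N : Type u) [AddCommGroup N] [Module S N] [Module R N] [IsScalarTower R S N] [IsAdicComplete I N]
    (M : Type u) [AddCommGroup M] [Module R M]
    (q : Ideal S) [q.IsPrime] (hq : q ∈ FlatCA.ass S (N ⊗[R] M)) :
    q ⊔ I.map (algebraMap R S) ≠ ⊤ := by
  intro htop
  obtain ⟨v, hv, u, hu, huv⟩ := Submodule.mem_sup.1 ((Ideal.eq_top_iff_one _).1 htop)
  obtain ⟨hqp, m, hm⟩ := hq
  let φ : N →ₗ[R] N := (LinearMap.lsmul S N v).restrictScalars R
  have hgen : ∀ z ∈ I.map (algebraMap R S), ∀ (k : ℕ) (x : N),
      x ∈ (I ^ k • ⊤ : Submodule R N) → z • x ∈ (I ^ (k + 1) • ⊤ : Submodule R N) := by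
    intro z hz
    induction hz using Submodule.span_induction with
    | mem z hz =>
      obtain ⟨a, ha, rfl⟩ := hz
      intro k x hx
      rw [IsScalarTower.algebraMap_smul, pow_succ', Submodule.mul_smul]
      exact Submodule.smul_mem_smul ha hx
    | zero => intro k x _; rw [zero_smul]; exact zero_mem _
    | add a b _ _ ha hb => intro k x hx; rw [add_smul]; exact add_mem (ha k x hx) (hb k x hx)
    | smul a b _ hb =>
      intro k x hx
      rw [smul_eq_mul, mul_comm, mul_smul]
      refine hb k _ ?_
      have := Submodule.mem_map_of_mem (f := (LinearMap.lsmul S N a).restrictScalars R) hx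
      rw [Submodule.map_smul''] at this
      exact Submodule.smul_mono le_rfl le_top this
  have hinj : Function.Injective φ := by
    rw [injective_iff_map_eq_zero]
    intro x hx
    have hx' : u • x = x := by
      have h0 : v • x = 0 := hx
      calc u • x = v • x + u • x := by rw [h0, zero_add]
        _ = x := by rw [← add_smul, huv, one_smul]
    refine IsHausdorff.haus (inferInstance : IsHausdorff I N) x fun k => ?_
    rw [SModEq.zero]
    induction k with
    | zero => simp
    | succ k ih => rw [← hx']; exact hgen u hu k x ih
  have hsurj : Function.Surjective φ := by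
    refine surjective_of_mkQ_comp_surjective (I := I) (f := φ) fun z => ?_
    obtain ⟨x, rfl⟩ := Submodule.mkQ_surjective _ z
    refine ⟨x, ?_⟩
    show Submodule.Quotient.mk (v • x) = Submodule.Quotient.mk x
    rw [Submodule.Quotient.eq, show v • x - x = -(u • x) by
      rw [show v = 1 - u from eq_sub_of_add_eq huv, sub_smul, one_smul]; abel]
    refine neg_mem ?_
    have := hgen u hu 0 x (by simp)
    simpa using this
  have hact : ∀ z : TensorProduct R N M, v • z = φ.rTensor M z := by
    intro z
    induction z using TensorProduct.induction_on with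
    | zero => rw [smul_zero, map_zero]
    | tmul a b => simp [φ, TensorProduct.smul_tmul']
    | add a b ha hb => rw [smul_add, map_add, ha, hb]
  have hvm : v • m = 0 := by
    rw [hm] at hv
    exact (Submodule.mem_annihilator_span_singleton _ _).1 hv
  rw [hact] at hvm
  have hm0 : m = 0 := (LinearEquiv.rTensor M (LinearEquiv.ofBijective φ ⟨hinj, hsurj⟩)).injective
    (hvm.trans (map_zero _).symm)
  refine hqp.ne_top ?_
  rw [hm, hm0]
  refine eq_top_iff.2 fun x _ => Submodule.mem_annihilator.2 fun n hn => ?_
  rw [Submodule.span_zero_singleton, Submodule.mem_bot] at hn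
  rw [hn, smul_zero]

end Groth.Agent.S1214
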