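import Groth.Statements.S12142
import Groth.Agent.RelProjLib.BaseChange
import Groth.Agent.RelSpecUP.QMap

set_option linter.style.haveILetI false
set_option backward.isDefEq.respectTransparency false

set_option autoImplicit false
universe u
open CategoryTheory CategoryTheory.Limits AlgebraicGeometry TopologicalSpace Opposite
open scoped HomogeneousIdeal
noncomputable section
open EGA2

namespace Groth.Agent.S12142

/-- Let g : S' → S be a morphism of schemes, A a quasi-coherent O_S-algebra and B = g^*A, presented as a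
quasi-coherent O_{S'}-algebra with a g-morphism u : A → g_*B whose squares of rings over affine
opens U' ⊆ g⁻¹(U) are pushouts; let h = Spec(u) : Spec(B) → Spec(A) be the induced morphism of
relative spectra (chartwise Spec of A(U) → B(U')). Then h and the structure morphisms form a
cartesian square: Spec(g^*A) is the fibre product Spec(A) ×_S S'. -/
theorem result {S S' : Scheme.{u}} (g : S' ⟶ S)
    (A : RelSpec.QCAlg S) (B : RelSpec.QCAlg S') (u : RelSpec.QHom g A B) (hu : RelSpec.IsQBaseChange u)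
    (h : B.spec ⟶ A.spec) (hh : RelSpec.IsSpecQMap u h) :
    IsPullback h B.π A.π g := by
  refine Groth.Agent.RelProjLib.isPullback_of_charts (Groth.Agent.RelSpecUP.specQMap_π hh)
    (ι := Σ U : S.affineOpens, {U' : S'.affineOpens // U'.1 ≤ g ⁻¹ᵁ U.1}) _ _
    (fun i => Spec Γ(S', i.2.1.1)) (fun i => B.ι i.2.1.1 i.2.1.2) (fun i => A.ι i.1.1 i.1.2)
    (fun i => i.2.1.2.fromSpec) (fun i => Spec.map (u.appLE i.1.1 i.2.1.1 i.2.2))
    (fun i => Spec.map (B.str.app (op i.2.1.1))) (fun i => (hh _ i.1.2 _ i.2.1.2 i.2.2).symm)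
    (fun i => (B.ι_π _ i.2.1.2).symm) (fun i => ?_) (fun i => ?_) (fun x y hxy => ?_)
  · rw [A.ι_π, ← IsAffineOpen.SpecMap_appLE_fromSpec g i.1.2 i.2.1.2 i.2.2]
    have H := isPullback_SpecMap_of_isPushout _ _ _ _ (hu i.1.1 i.1.2 i.2.1.1 i.2.1.2 i.2.2)
    exact ⟨⟨by rw [H.flip.w_assoc]⟩,
      ⟨PullbackCone.isLimitOfCompMono _ _ i.1.2.fromSpec _ H.flip.isLimit⟩⟩
  · rw [IsAffineOpen.opensRange_fromSpec, ← B.π_preimage _ i.2.1.2]
    exact inf_le_right
  · obtain ⟨U, hU⟩ := TopologicalSpace.Opens.mem_iSup.mp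
      ((iSup_affineOpens_eq_top S).ge (Set.mem_univ (A.π x)))
    obtain ⟨_, ⟨U', hU', rfl⟩, hy, hle⟩ := S'.isBasis_affineOpens.exists_subset_of_mem_open
      (show y ∈ g ⁻¹ᵁ U.1 by have h2 : A.π x ∈ U.1 := hU; rw [hxy] at h2; exact h2) (g ⁻¹ᵁ U.1).2
    exact ⟨⟨U, ⟨⟨U', hU'⟩, hle⟩⟩, by rw [← A.π_preimage _ U.2]; exact hU,
      by rw [IsAffineOpen.opensRange_fromSpec]; exact hy⟩

end Groth.Agent.S12142
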