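import Groth.Statements.S12149
import Groth.Agent.RelProjLib.QMapComp

set_option linter.style.haveILetI false
set_option backward.isDefEq.respectTransparency false

set_option autoImplicit false
universe u
open CategoryTheory CategoryTheory.Limits AlgebraicGeometry TopologicalSpace Opposite
open scoped HomogeneousIdeal
noncomputable section
open EGA2

namespace Groth.Agent.S12149

/-- Let q : X → Y be a morphism, L an invertible O_X-module with 𝒮L = ⊕ L^{⊗n} (whose Proj, with its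
charts, is X), v : 𝒯 → 𝒮 a graded homomorphism of quasi-coherent positively graded O_Y-algebras, ψ♭
= u : 𝒮 → q_*𝒮L a graded q-morphism and ψ'♭ = u' its composite with v; let r = r_{L,ψ} : G(ψ) →
Proj(𝒮) and r' = r_{L,ψ'} : G(ψ') → Proj(𝒯) be the associated morphisms. If v is (TN)-injective
(there is n with v injective on 𝒯_k for every k ≥ n, on sections over affine opens) and r is
dominant, then r' is dominant. -/
theorem result {Y X P PL P' : Scheme.{u}} (q : X ⟶ Y)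
    (L : X.Modules) (hL : PicF.IsInvertible L) (hLq : Coh.IsQCoh L)
    (𝒮 : RelProj.QCGrAlg Y) (𝒮L : RelProj.QCGrAlg X) (j : L ⟶ 𝒮L.toModule) (hj : RelProj.IsGrSymAlg L 𝒮L j)
    (u : RelProj.QGrHom q 𝒮 𝒮L)
    (p : P ⟶ Y) (chart : ∀ (U : Y.Opens) (hU : IsAffineOpen U), (((p ⁻¹ᵁ U : P.Opens) : Scheme.{u}) ≅ Proj (𝒮.deg U hU)))
    (hP : RelProj.IsRelProj 𝒮 p chart)
    (pL : PL ⟶ X) (chartL : ∀ (U : X.Opens) (hU : IsAffineOpen U), (((pL ⁻¹ᵁ U : PL.Opens) : Scheme.{u}) ≅ Proj (𝒮L.deg U hU)))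
    (hPL : RelProj.IsRelProj 𝒮L pL chartL)
    (r : ((RelProj.domQ u pL chartL : PL.Opens) : Scheme.{u}) ⟶ P)
    (hr : RelProj.IsProjQMapOn u p chart pL chartL (RelProj.domQ u pL chartL) r)
    (𝒯 : RelProj.QCGrAlg Y) (v : 𝒯.toQCAlg ⟶ 𝒮.toQCAlg) (hv : RelProj.IsGradedHom v)
    (u' : RelProj.QGrHom q 𝒯 𝒮L) (hu' : ∀ U : Y.Opens, u'.app U = v.hom.app (op U) ≫ u.app U)
    (p' : P' ⟶ Y) (chart' : ∀ (U : Y.Opens) (hU : IsAffineOpen U), (((p' ⁻¹ᵁ U : P'.Opens) : Scheme.{u}) ≅ Proj (𝒯.deg U hU)))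
    (hP' : RelProj.IsRelProj 𝒯 p' chart')
    (r' : ((RelProj.domQ u' pL chartL : PL.Opens) : Scheme.{u}) ⟶ P')
    (hr' : RelProj.IsProjQMapOn u' p' chart' pL chartL (RelProj.domQ u' pL chartL) r')
    (hTN : ∃ n : ℕ, ∀ k, n ≤ k → ∀ (U : Y.Opens) (hU : IsAffineOpen U), ∀ x ∈ 𝒯.deg U hU k,
      (v.hom.app (op U)).hom x = 0 → x = 0) (hdom : IsDominant r) :
    IsDominant r' := by
  obtain ⟨Φ, hΦ, -⟩ := Groth.Agent.RelProjLib.existsUnique_qmap (g := 𝟙 Y) (RelProj.QGrHom.ofHom v hv) hP' hP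
  obtain ⟨k, hk₁, hk₂⟩ := Groth.Agent.RelProjLib.qmap_comp u v hv u' hu' hP hP' hPL hr hr' hΦ
  obtain ⟨N, hN⟩ := hTN
  refine ⟨dense_iff_inter_open.mpr fun W hW hne => ?_⟩
  obtain ⟨x, hx⟩ := hne
  obtain ⟨U, hU⟩ := TopologicalSpace.Opens.mem_iSup.mp
    ((Groth.Agent.RelProjLib.iSup_opensRange_emb (𝒮 := 𝒯) (q := p') (ch := chart')).ge (Set.mem_univ x))
  obtain ⟨w, rfl⟩ := hU
  obtain ⟨f, d, hf, hd, hwf, hfW⟩ := ProjLib.exists_homogeneous_basicOpen (𝒯.deg U.1 U.2) w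
    (hW.preimage (RelProj.emb p' chart' U.1 U.2).continuous) hx
  have hnil : ¬ IsNilpotent (Groth.Agent.RelProjLib.gAt v hv U.1 U.2 f) := by
    rintro ⟨n, hn⟩
    rw [← map_pow] at hn
    have h2 : f ^ (n + N) = 0 := hN ((n + N) • d) (by rw [smul_eq_mul]; nlinarith) U.1 U.2 _
      (SetLike.pow_mem_graded _ hf) (by
        rw [← Groth.Agent.RelProjLib.gAt_apply v hv U.1 U.2, pow_add, map_mul, hn, zero_mul])
    exact hwf (w.isPrime.mem_of_pow_mem _ (by rw [h2]; exact Ideal.zero_mem _))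
  obtain ⟨y, hy⟩ := ProjLib.exists_mem_basicOpen (𝒮.deg U.1 U.2) (Graded.map_mem _ hf) hd hnil
  obtain ⟨_, ⟨⟨y', hy', hyz⟩, z, rfl⟩⟩ := r.denseRange.inter_open_nonempty
    ((RelProj.emb p chart U.1 U.2) ''ᵁ Proj.basicOpen (𝒮.deg U.1 U.2) (Groth.Agent.RelProjLib.gAt v hv U.1 U.2 f) : P.Opens)
    (RelProj.emb p chart U.1 U.2 ''ᵁ Proj.basicOpen (𝒮.deg U.1 U.2) (Groth.Agent.RelProjLib.gAt v hv U.1 U.2 f)).2
    ⟨_, y, hy, rfl⟩
  have hzD : r z ∈ RelProj.domQ (RelProj.QGrHom.ofHom v hv) p chart := by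
    rw [← hyz]
    exact le_iSup (fun V : {V : Y.affineOpens × Y.affineOpens // (V.2 : Y.Opens) ≤ (𝟙 Y) ⁻¹ᵁ (V.1 : Y.Opens)} =>
      (RelProj.emb p chart V.1.2.1 V.1.2.2) ''ᵁ
        RelCone.domOpen ((RelProj.QGrHom.ofHom v hv).gradedAt V.1.1.1 V.1.1.2 V.1.2.1 V.1.2.2 V.2))
      ⟨(U, U), le_refl U.1⟩ ⟨y', (RelCone.mem_domOpen _ _).mpr
        ⟨f, HomogeneousIdeal.mem_irrelevant_of_mem _ hd hf, hy'⟩, rfl⟩
  have hz' := (Groth.Agent.RelProjLib.mem_domQ_comp_iff u v hv u' hu' hPL hP hr z).mpr hzD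
  let z' : (RelProj.domQ u' pL chartL : PL.Opens).toScheme := ⟨_, hz'⟩
  have hz2 : PL.homOfLE (Groth.Agent.RelProjLib.domQ_comp_le (ch' := chartL) u v hv u' hu') z' = z := by
    refine (RelProj.domQ u pL chartL).ι.isOpenEmbedding.injective ?_
    rw [← Scheme.Hom.comp_apply, Scheme.homOfLE_ι]
    rfl
  have hkz : (RelProj.domQ (RelProj.QGrHom.ofHom v hv) p chart).ι (k z') = r z := by
    rw [← Scheme.Hom.comp_apply, hk₁, Scheme.Hom.comp_apply, hz2]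
  refine ⟨r' z', ?_, z', rfl⟩
  have hkU : p ((RelProj.domQ (RelProj.QGrHom.ofHom v hv) p chart).ι (k z')) ∈ U.1 := by
    rw [hkz, ← hyz]
    have : RelProj.emb p chart U.1 U.2 y' ∈ (RelProj.emb p chart U.1 U.2).opensRange := ⟨y', rfl⟩
    rwa [Groth.Agent.RelProjLib.opensRange_emb] at this
  have hmem := (Groth.Agent.RelProjLib.mem_preimage_iff (g := 𝟙 Y) (RelProj.QGrHom.ofHom v hv) hP hΦ U.2 U.2
    (le_refl U.1) hd hf (k z') hkU).mpr (by rw [hkz, ← hyz]; exact ⟨y', hy', rfl⟩)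
  rw [← hk₂, Scheme.Hom.comp_apply]
  obtain ⟨w', hw', e⟩ := hmem
  rw [← e]
  exact hfW hw' 

end Groth.Agent.S12149
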