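import Groth.Statements.S12154
import Groth.Agent.RelProjLib.QMapComp

set_option linter.style.haveILetI false
set_option backward.isDefEq.respectTransparency false

set_option autoImplicit false
universe u
open CategoryTheory CategoryTheory.Limits AlgebraicGeometry TopologicalSpace Opposite
open scoped HomogeneousIdeal
noncomputable section
open EGA2

namespace Groth.Agent.S12154

/-- Let q : X → Y be a morphism, L an invertible O_X-module with 𝒮L = ⊕ L^{⊗n} (whose Proj, with its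
charts, is X), v : 𝒯 → 𝒮 a graded homomorphism of quasi-coherent positively graded O_Y-algebras, ψ♭
= u : 𝒮 → q_*𝒮L a graded q-morphism and ψ'♭ = u' its composite with v; let r = r_{L,ψ} : G(ψ) →
Proj(𝒮) and r' = r_{L,ψ'} : G(ψ') → Proj(𝒯), with r' everywhere defined and v (TN)-surjective (v :
𝒯_k → 𝒮_k surjective for all large k, on sections over affine opens). If r' is an open immersion, so
is r; if r' is a closed immersion, so is r. -/
theorem result {Y X P PL P' : Scheme.{u}} (q : X ⟶ Y)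
    (L : X.Modules) (hL : PicF.IsInvertible L) (hLq : Coh.IsQCoh L)
    (𝒮 : RelProj.QCGrAlg Y) (𝒮L : RelProj.QCGrAlg X) (j : L ⟶ 𝒮L.toModule) (hj : RelProj.IsGrSymAlg L 𝒮L j)
    (u : RelProj.QGrHom q 𝒮 𝒮L)
    (p : P ⟶ Y) (chart : ∀ (U : Y.Opens) (hU : IsAffineOpen U), (((p ⁻¹ᵁ U : P.Opens) : Scheme.{u}) ≅ Proj (𝒮.deg U hU)))
    (hP : RelProj.IsRelProj 𝒮 p chart)
    (pL : PL ⟶ X) (chartL : ∀ (U : X.Opens) (hU : IsAffineOpen U), (((pL ⁻¹ᵁ U : PL.Opens) : Scheme.{u}) ≅ Proj (𝒮L.deg U hU)))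
    (hPL : RelProj.IsRelProj 𝒮L pL chartL)
    (r : ((RelProj.domQ u pL chartL : PL.Opens) : Scheme.{u}) ⟶ P)
    (hr : RelProj.IsProjQMapOn u p chart pL chartL (RelProj.domQ u pL chartL) r)
    (𝒯 : RelProj.QCGrAlg Y) (v : 𝒯.toQCAlg ⟶ 𝒮.toQCAlg) (hv : RelProj.IsGradedHom v)
    (u' : RelProj.QGrHom q 𝒯 𝒮L) (hu' : ∀ U : Y.Opens, u'.app U = v.hom.app (op U) ≫ u.app U)
    (p' : P' ⟶ Y) (chart' : ∀ (U : Y.Opens) (hU : IsAffineOpen U), (((p' ⁻¹ᵁ U : P'.Opens) : Scheme.{u}) ≅ Proj (𝒯.deg U hU)))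
    (hP' : RelProj.IsRelProj 𝒯 p' chart')
    (r' : ((RelProj.domQ u' pL chartL : PL.Opens) : Scheme.{u}) ⟶ P')
    (hr' : RelProj.IsProjQMapOn u' p' chart' pL chartL (RelProj.domQ u' pL chartL) r')
    (hTN : ∃ n : ℕ, ∀ k, n ≤ k → ∀ (U : Y.Opens) (hU : IsAffineOpen U), ∀ y ∈ 𝒮.deg U hU k,
      ∃ x ∈ 𝒯.deg U hU k, (v.hom.app (op U)).hom x = y)
    (hdef : RelProj.domQ u' pL chartL = ⊤) :
    (IsOpenImmersion r' → IsOpenImmersion r) ∧ (IsClosedImmersion r' → IsClosedImmersion r) := by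
  obtain ⟨Φ, hΦ, -⟩ := Groth.Agent.RelProjLib.existsUnique_qmap (g := 𝟙 Y) (RelProj.QGrHom.ofHom v hv) hP' hP
  obtain ⟨k, hk₁, hk₂⟩ := Groth.Agent.RelProjLib.qmap_comp u v hv u' hu' hP hP' hPL hr hr' hΦ
  have hDu : RelProj.domQ u pL chartL = ⊤ := top_le_iff.mp (hdef ▸ Groth.Agent.RelProjLib.domQ_comp_le u v hv u' hu')
  haveI : IsIso (PL.homOfLE (Groth.Agent.RelProjLib.domQ_comp_le (ch' := chartL) u v hv u' hu')) := by
    refine ⟨PL.homOfLE (by rw [hdef]; exact le_top), ?_, ?_⟩ <;> simp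
  obtain ⟨N, hN⟩ := hTN
  obtain ⟨hι, hci⟩ := Groth.Agent.RelProjLib.isClosedImmersion_qmap_of_large v hv hP hP' hN hΦ
  constructor
  · intro h
    haveI : IsOpenImmersion (k ≫ Φ) := hk₂ ▸ h
    have H : IsPullback (𝟙 _) k (k ≫ Φ) Φ := IsPullback.of_horiz_isIso_mono ⟨by rw [Category.id_comp]⟩
    have hko : IsOpenImmersion k := MorphismProperty.of_isPullback H (inferInstance : IsOpenImmersion (k ≫ Φ))
    have h2 : IsOpenImmersion (PL.homOfLE (Groth.Agent.RelProjLib.domQ_comp_le (ch' := chartL) u v hv u' hu') ≫ r) :=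
      hk₁ ▸ (inferInstance : IsOpenImmersion (k ≫ _))
    exact (MorphismProperty.cancel_left_of_respectsIso (P := @IsOpenImmersion) _ r).mp h2
  · intro h
    haveI : IsClosedImmersion (k ≫ Φ) := hk₂ ▸ h
    haveI : IsClosedImmersion k := IsClosedImmersion.of_comp k Φ
    have h2 : IsClosedImmersion (PL.homOfLE (Groth.Agent.RelProjLib.domQ_comp_le (ch' := chartL) u v hv u' hu') ≫ r) :=
      hk₁ ▸ (inferInstance : IsClosedImmersion (k ≫ _))
    exact (MorphismProperty.cancel_left_of_respectsIso (P := @IsClosedImmersion) _ r).mp h2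

end Groth.Agent.S12154
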