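import Groth.Statements.S12159
import Groth.Agent.S12147
import Groth.Agent.SymAlg.RL

set_option autoImplicit false
universe u
open CategoryTheory CategoryTheory.Limits AlgebraicGeometry TopologicalSpace Opposite
open scoped HomogeneousIdeal
noncomputable section
open EGA2

namespace Groth.Agent.S12159

/-- Let Y be a quasi-compact scheme, q : X → Y a quasi-compact morphism, L an invertible O_X-module with
𝒮L = ⊕ L^{⊗n} (whose Proj is X), 𝒮 = colim 𝒮^i a filtered colimit of quasi-coherent positively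
graded O_Y-algebras along graded homomorphisms φ_i : 𝒮^i → 𝒮 (colimit taken on sections over affine
opens), ψ♭ = u : 𝒮 → q_*𝒮L a graded q-morphism and ψ_i♭ = u ∘ φ_i. Then r_{L,ψ} is everywhere
defined if and only if some r_{L,ψ_i} is everywhere defined, and in that case r_{L,ψ_j} is
everywhere defined for all j ≥ i. -/
theorem result {Y X P PL : Scheme.{u}} (q : X ⟶ Y)
    (L : X.Modules) (hL : PicF.IsInvertible L) (hLq : Coh.IsQCoh L)
    (𝒮 : RelProj.QCGrAlg Y) (𝒮L : RelProj.QCGrAlg X) (j : L ⟶ 𝒮L.toModule) (hj : RelProj.IsGrSymAlg L 𝒮L j)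
    (u : RelProj.QGrHom q 𝒮 𝒮L)
    (p : P ⟶ Y) (chart : ∀ (U : Y.Opens) (hU : IsAffineOpen U), (((p ⁻¹ᵁ U : P.Opens) : Scheme.{u}) ≅ Proj (𝒮.deg U hU)))
    (hP : RelProj.IsRelProj 𝒮 p chart)
    (pL : PL ⟶ X) (chartL : ∀ (U : X.Opens) (hU : IsAffineOpen U), (((pL ⁻¹ᵁ U : PL.Opens) : Scheme.{u}) ≅ Proj (𝒮L.deg U hU)))
    (hPL : RelProj.IsRelProj 𝒮L pL chartL)
    [CompactSpace Y] [QuasiCompact q]
    (Λ : Type u) [Preorder Λ] [IsDirected Λ (· ≤ ·)] [Nonempty Λ]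
    (𝒮i : Λ → RelProj.QCGrAlg Y) (φ : ∀ i, (𝒮i i).toQCAlg ⟶ 𝒮.toQCAlg) (hφ : ∀ i, RelProj.IsGradedHom (φ i))
    (t : ∀ i j, i ≤ j → ((𝒮i i).toQCAlg ⟶ (𝒮i j).toQCAlg)) (ht : ∀ i j (h : i ≤ j), RelProj.IsGradedHom (t i j h))
    (hφt : ∀ i j (h : i ≤ j), t i j h ≫ φ j = φ i)
    (hsurj : ∀ (U : Y.Opens), IsAffineOpen U → ∀ x : 𝒮.presheaf.obj (op U),
      ∃ (i : Λ) (y : (𝒮i i).presheaf.obj (op U)), ((φ i).hom.app (op U)).hom y = x)
    (hker : ∀ (U : Y.Opens), IsAffineOpen U → ∀ (i : Λ) (y : (𝒮i i).presheaf.obj (op U)),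
      ((φ i).hom.app (op U)).hom y = 0 → ∃ (j : Λ) (h : i ≤ j), ((t i j h).hom.app (op U)).hom y = 0)
    (ui : ∀ i, RelProj.QGrHom q (𝒮i i) 𝒮L) (hui : ∀ i (U : Y.Opens), (ui i).app U = (φ i).hom.app (op U) ≫ u.app U) :
    (RelProj.domQ u pL chartL = ⊤ ↔ ∃ i, RelProj.domQ (ui i) pL chartL = ⊤) ∧
      ∀ i, RelProj.domQ (ui i) pL chartL = ⊤ → ∀ j, i ≤ j → RelProj.domQ (ui j) pL chartL = ⊤ := by
  classical
  have hle : ∀ i, RelProj.domQ (ui i) pL chartL ≤ RelProj.domQ u pL chartL := fun i =>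
    Groth.Agent.S12147.result q L hL hLq 𝒮 𝒮L j hj u p chart hP pL chartL hPL (𝒮i i) (φ i) (hφ i) (ui i) (hui i)
  obtain ⟨hgood⟩ : Nonempty (∀ i k, i ≤ k → RelProj.domQ (ui i) pL chartL ≤ RelProj.domQ (ui k) pL chartL) := by
    refine ⟨fun i k h => iSup_le fun V => ?_⟩
    rintro _ ⟨w, hw, rfl⟩
    obtain ⟨f, hf, hfw⟩ := (RelCone.mem_domOpen _ _).mp hw
    refine TopologicalSpace.Opens.mem_iSup.mpr ⟨V, w, (RelCone.mem_domOpen _ _).mpr
      ⟨RelProj.gradedHomAt (t i k h) (ht i k h) V.1.1.1 V.1.1.2 f, ?_, ?_⟩, rfl⟩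
    · rw [HomogeneousIdeal.mem_iff, HomogeneousIdeal.mem_irrelevant_iff] at *
      rw [GradedRing.proj_apply, ← GradedRingHom.map_directSumDecompose, ← GradedRing.proj_apply, hf, map_zero]
    · refine fun hh => hfw ?_
      have he : (ui i).gradedAt V.1.1.1 V.1.1.2 V.1.2.1 V.1.2.2 V.2 f =
          (ui k).gradedAt V.1.1.1 V.1.1.2 V.1.2.1 V.1.2.2 V.2
            (RelProj.gradedHomAt (t i k h) (ht i k h) V.1.1.1 V.1.1.2 f) := by
        simp only [RelProj.QGrHom.gradedAt_apply, RelSpec.QHom.appLE, hui, ← hφt i k h]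
        rfl
      rw [he]; exact hh
  have hloc : ∀ z : PL, z ∈ RelProj.domQ u pL chartL → ∃ i, z ∈ RelProj.domQ (ui i) pL chartL := by
    intro z hz
    obtain ⟨V, w, hw, rfl⟩ := TopologicalSpace.Opens.mem_iSup.1 hz
    obtain ⟨f, hf, hfw⟩ := (RelCone.mem_domOpen _ _).mp hw
    obtain ⟨i, y, hy⟩ := hsurj V.1.1.1 V.1.1.2 f
    let g := RelProj.gradedHomAt (φ i) (hφ i) V.1.1.1 V.1.1.2
    let y₁ := y - GradedRing.proj ((𝒮i i).deg V.1.1.1 V.1.1.2) 0 y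
    have hy₁ : y₁ ∈ (HomogeneousIdeal.irrelevant ((𝒮i i).deg V.1.1.1 V.1.1.2)) := by
      rw [HomogeneousIdeal.mem_irrelevant_iff, map_sub, GradedRing.proj_apply, GradedRing.proj_apply,
        DirectSum.decompose_coe, DirectSum.of_eq_same, sub_self]
    have hg : g y₁ = f := by
      rw [HomogeneousIdeal.mem_iff, HomogeneousIdeal.mem_irrelevant_iff] at hf
      have h0 : g (GradedRing.proj ((𝒮i i).deg V.1.1.1 V.1.1.2) 0 y) = 0 := by
        rw [GradedRing.proj_apply, GradedRingHom.map_directSumDecompose, ← GradedRing.proj_apply,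
          show g y = f from hy, hf]
      rw [map_sub, h0, sub_zero]
      exact hy
    refine ⟨i, TopologicalSpace.Opens.mem_iSup.mpr ⟨V, w, (RelCone.mem_domOpen _ _).mpr ⟨y₁, hy₁, ?_⟩, rfl⟩⟩
    refine fun hh => hfw ?_
    have he : (ui i).gradedAt V.1.1.1 V.1.1.2 V.1.2.1 V.1.2.2 V.2 y₁ =
        u.gradedAt V.1.1.1 V.1.1.2 V.1.2.1 V.1.2.2 V.2 (g y₁) := by
      simp only [RelProj.QGrHom.gradedAt_apply, RelSpec.QHom.appLE, hui]
      rfl
    rw [he, hg] at hh; exact hh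
  refine ⟨⟨fun h => ?_, fun ⟨i, hi⟩ => top_le_iff.1 (hi ▸ hle i)⟩, fun i hi k hk => top_le_iff.1 (hi ▸ hgood i k hk)⟩
  haveI := Groth.Agent.SymAlg.isIso_pL hL hLq hj hPL
  haveI : CompactSpace X := QuasiCompact.compactSpace_of_compactSpace q
  haveI : CompactSpace PL := QuasiCompact.compactSpace_of_compactSpace pL
  obtain ⟨i, hi⟩ := isCompact_univ.elim_directed_cover (fun i => (RelProj.domQ (ui i) pL chartL : Set PL))
    (fun i => (RelProj.domQ (ui i) pL chartL).2)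
    (fun z _ => Set.mem_iUnion.2 (hloc z (h ▸ trivial)))
    (fun a b => let ⟨c, hac, hbc⟩ := exists_ge_ge a b; ⟨c, hgood a c hac, hgood b c hbc⟩)
  exact ⟨i, eq_top_iff.2 fun z _ => hi trivial⟩

end Groth.Agent.S12159
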