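import Groth.Statements.S1216
import Groth.Agent.ValFP.Content
-- import your own Groth.Agent.* helpers here

set_option autoImplicit false
universe u
open FlatMor

namespace Groth.Agent.S1216

/-- Let A → B be a local homomorphism of local rings which is essentially of finite type, with A a
valuation ring, and N a finite B-module flat over A. Then every element x of N has a content ideal,
that is a smallest ideal I of A with x ∈ IN, and this ideal is principal. -/
theorem result {A B : Type u} [CommRing A] [IsDomain A] [ValuationRing A] [CommRing B] [IsLocalRing B] [Algebra A B]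
    [IsLocalHom (algebraMap A B)] [Algebra.EssFiniteType A B]
    (N : Type u) [AddCommGroup N] [Module B N] [Module A N] [IsScalarTower A B N] [Module.Finite B N] [Module.Flat A N] (x : N) :
    ∃ I : Ideal A, I.IsPrincipal ∧ x ∈ I • (⊤ : Submodule A N) ∧ ∀ J : Ideal A, x ∈ J • (⊤ : Submodule A N) → I ≤ J := by
  rcases eq_or_ne x 0 with rfl | hx
  · exact ⟨⊥, bot_isPrincipal, zero_mem _, fun J _ => bot_le⟩
  obtain ⟨c, y, hc, rfl, hy⟩ := Groth.Agent.ValFP.exists_content_local (V := A) B x hx
  refine ⟨Ideal.span {c}, ⟨⟨c, rfl⟩⟩, Submodule.smul_mem_smul (Ideal.mem_span_singleton_self c) Submodule.mem_top,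
    fun J hJ => ?_⟩
  obtain ⟨γ, hγ, z, hz⟩ := Groth.Agent.ValFP.exists_smul_of_mem_smul_top hJ
  rw [Ideal.span_singleton_le_iff_mem]
  rcases ValuationRing.dvd_total γ c with ⟨e, rfl⟩ | ⟨e, rfl⟩
  · exact J.mul_mem_right _ hγ
  by_cases he : IsUnit e
  · obtain ⟨e, rfl⟩ := he
    have := J.mul_mem_right (↑e⁻¹ : A) hγ
    rwa [mul_assoc, Units.mul_inv, mul_one] at this
  refine absurd ?_ (hy e ((IsLocalRing.mem_maximalIdeal e).mpr he) z)
  rw [mul_smul] at hz
  exact smul_right_injective N hc hz

end Groth.Agent.S1216
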