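import Groth.Statements.S12161
import Groth.Agent.SymAlg.RLImmData

set_option autoImplicit false
universe u
open CategoryTheory CategoryTheory.Limits AlgebraicGeometry TopologicalSpace Opposite
open scoped HomogeneousIdeal
noncomputable section
open EGA2

namespace Groth.Agent.S12161

/-- Let Y be a quasi-compact scheme, q : X → Y a quasi-compact morphism, L an invertible O_X-module with
𝒮L = ⊕ L^{⊗n} (whose Proj is X), 𝒮 = colim 𝒮^i a filtered colimit of quasi-coherent positively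
graded O_Y-algebras along graded homomorphisms φ_i : 𝒮^i → 𝒮 (colimit taken on sections over affine
opens), ψ♭ = u : 𝒮 → q_*𝒮L a graded q-morphism and ψ_i♭ = u ∘ φ_i, with q of finite type; let r =
r_{L,ψ} : G(ψ) → Proj(𝒮) and r_i = r_{L,ψ_i} : G(ψ_i) → Proj(𝒮^i). Then r is everywhere defined and
an immersion if and only if some r_i is, and then so is r_j for all j ≥ i. -/
theorem result {Y X P PL : Scheme.{u}} (q : X ⟶ Y)
    (L : X.Modules) (hL : PicF.IsInvertible L) (hLq : Coh.IsQCoh L)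
    (𝒮 : RelProj.QCGrAlg Y) (𝒮L : RelProj.QCGrAlg X) (j : L ⟶ 𝒮L.toModule) (hj : RelProj.IsGrSymAlg L 𝒮L j)
    (u : RelProj.QGrHom q 𝒮 𝒮L)
    (p : P ⟶ Y) (chart : ∀ (U : Y.Opens) (hU : IsAffineOpen U), (((p ⁻¹ᵁ U : P.Opens) : Scheme.{u}) ≅ Proj (𝒮.deg U hU)))
    (hP : RelProj.IsRelProj 𝒮 p chart)
    (pL : PL ⟶ X) (chartL : ∀ (U : X.Opens) (hU : IsAffineOpen U), (((pL ⁻¹ᵁ U : PL.Opens) : Scheme.{u}) ≅ Proj (𝒮L.deg U hU)))
    (hPL : RelProj.IsRelProj 𝒮L pL chartL)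
    [CompactSpace Y] [QuasiCompact q] [LocallyOfFiniteType q]
    (r : ((RelProj.domQ u pL chartL : PL.Opens) : Scheme.{u}) ⟶ P)
    (hr : RelProj.IsProjQMapOn u p chart pL chartL (RelProj.domQ u pL chartL) r)
    (Λ : Type u) [Preorder Λ] [IsDirected Λ (· ≤ ·)] [Nonempty Λ]
    (𝒮i : Λ → RelProj.QCGrAlg Y) (φ : ∀ i, (𝒮i i).toQCAlg ⟶ 𝒮.toQCAlg) (hφ : ∀ i, RelProj.IsGradedHom (φ i))
    (t : ∀ i j, i ≤ j → ((𝒮i i).toQCAlg ⟶ (𝒮i j).toQCAlg)) (ht : ∀ i j (h : i ≤ j), RelProj.IsGradedHom (t i j h))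
    (hφt : ∀ i j (h : i ≤ j), t i j h ≫ φ j = φ i)
    (hsurj : ∀ (U : Y.Opens), IsAffineOpen U → ∀ x : 𝒮.presheaf.obj (op U),
      ∃ (i : Λ) (y : (𝒮i i).presheaf.obj (op U)), ((φ i).hom.app (op U)).hom y = x)
    (hker : ∀ (U : Y.Opens), IsAffineOpen U → ∀ (i : Λ) (y : (𝒮i i).presheaf.obj (op U)),
      ((φ i).hom.app (op U)).hom y = 0 → ∃ (j : Λ) (h : i ≤ j), ((t i j h).hom.app (op U)).hom y = 0)
    (ui : ∀ i, RelProj.QGrHom q (𝒮i i) 𝒮L) (hui : ∀ i (U : Y.Opens), (ui i).app U = (φ i).hom.app (op U) ≫ u.app U)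
    (Pi : Λ → Scheme.{u}) (pi : ∀ i, Pi i ⟶ Y)
    (charti : ∀ i (U : Y.Opens) (hU : IsAffineOpen U), ((((pi i) ⁻¹ᵁ U : (Pi i).Opens) : Scheme.{u}) ≅ Proj ((𝒮i i).deg U hU)))
    (hPi : ∀ i, RelProj.IsRelProj (𝒮i i) (pi i) (charti i))
    (ri : ∀ i, ((RelProj.domQ (ui i) pL chartL : PL.Opens) : Scheme.{u}) ⟶ Pi i)
    (hri : ∀ i, RelProj.IsProjQMapOn (ui i) (pi i) (charti i) pL chartL (RelProj.domQ (ui i) pL chartL) (ri i)) :
    ((RelProj.domQ u pL chartL = ⊤ ∧ IsImmersion r) ↔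
        ∃ i, RelProj.domQ (ui i) pL chartL = ⊤ ∧ IsImmersion (ri i)) ∧
      ∀ i, (RelProj.domQ (ui i) pL chartL = ⊤ ∧ IsImmersion (ri i)) →
        ∀ j, i ≤ j → RelProj.domQ (ui j) pL chartL = ⊤ ∧ IsImmersion (ri j) := by
  classical
  haveI : CompactSpace X := QuasiCompact.compactSpace_of_compactSpace q
  have hdata : ∀ i, RelProj.domQ (ui i) pL chartL = ⊤ ∧ IsImmersion (ri i) → Groth.Agent.SymAlg.Rel.ImmData (ui i) := by
    rintro i ⟨h1, h2⟩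
    haveI := h2
    exact Groth.Agent.SymAlg.Rel.immData_of_isImmersion hL hLq hj (ui i) hPL (hri i) (hPi i) h1
  refine ⟨⟨fun ⟨h1, h2⟩ => ?_, fun ⟨i, hi⟩ => ?_⟩, fun i hi k hik => ?_⟩
  · haveI := h2
    obtain ⟨ι, hι, U, n, f, hnf, hcov, hA⟩ :=
      Groth.Agent.SymAlg.Rel.immData_of_isImmersion hL hLq hj u hPL hr hP h1
    have hlift : ∀ (V : Y.affineOpens) (m : ℕ) (g : 𝒮.presheaf.obj (op V.1)), g ∈ 𝒮.deg V.1 V.2 m →
        ∃ (i : Λ) (y : (𝒮i i).presheaf.obj (op V.1)), y ∈ (𝒮i i).deg V.1 V.2 m ∧ ((φ i).hom.app (op V.1)).hom y = g := by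
      intro V m g hg
      obtain ⟨i, y, hy⟩ := hsurj V.1 V.2 g
      obtain ⟨y', hy', he⟩ := Groth.Agent.SymAlg.Rel.exists_homogeneous_lift (φ i) (hφ i) V.2 hg y hy
      exact ⟨i, y', hy', he⟩
    have hup : ∀ (V : Y.affineOpens) (m : ℕ) {i k : Λ} (h : i ≤ k) (y : (𝒮i i).presheaf.obj (op V.1)),
        y ∈ (𝒮i i).deg V.1 V.2 m → ((t i k h).hom.app (op V.1)).hom y ∈ (𝒮i k).deg V.1 V.2 m ∧
          ((φ k).hom.app (op V.1)).hom (((t i k h).hom.app (op V.1)).hom y) = ((φ i).hom.app (op V.1)).hom y :=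
      fun V m i k h y hy => ⟨GradedRingHom.map_mem (RelProj.gradedHomAt (t i k h) (ht i k h) V.1 V.2) hy,
        by rw [← hφt i k h]; rfl⟩
    choose ia ya hya hyf using fun a => hlift (U a) (n a) (f a) (hnf a).2
    choose G hG using fun a => Groth.Agent.SymAlg.Rel.condSet_eq_univ_of_generators (U a).2 (hnf a).2
      (Groth.Agent.SymAlg.Rel.NV_le u _ _ _) (hA a).1
    have hwit : ∀ (a : ι) (x : {x // x ∈ G a}), ∃ (m : ℕ) (i : Λ) (y : (𝒮i i).presheaf.obj (op (U a).1)),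
        0 < m ∧ y ∈ (𝒮i i).deg (U a).1 (U a).2 (m * n a) ∧
        (𝒮L.str.app (op (Groth.Agent.SymAlg.Rel.NV u (U a).2 (n a) (f a)))).hom x.1 *
          ((u.appLE (U a).1 _ (Groth.Agent.SymAlg.Rel.NV_le u _ _ _)).hom (f a)) ^ m =
        (u.appLE (U a).1 _ (Groth.Agent.SymAlg.Rel.NV_le u _ _ _)).hom (((φ i).hom.app (op (U a).1)).hom y) := by
      intro a x
      obtain ⟨m, hm, s, hs, he⟩ := (hA a).2 x.1
      obtain ⟨i, y, hy, hys⟩ := hlift (U a) _ s hs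
      exact ⟨m, i, y, hm, hy, by rw [hys]; exact he⟩
    choose m iw yw hm hyw hew using hwit
    obtain ⟨k, hk⟩ := Finite.exists_le (Sum.elim ia fun p : Σ a, {x // x ∈ G a} => iw p.1 p.2)
    have hk1 : ∀ a, ia a ≤ k := fun a => hk (.inl a)
    have hk2 : ∀ a x, iw a x ≤ k := fun a x => hk (.inr ⟨a, x⟩)
    have hd : Groth.Agent.SymAlg.Rel.ImmData (ui k) := by
      refine ⟨ι, hι, U, n, fun a => ((t _ k (hk1 a)).hom.app (op (U a).1)).hom (ya a),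
        fun a => ⟨(hnf a).1, (hup (U a) _ (hk1 a) _ (hya a)).1⟩, fun x => ?_, fun a => ?_⟩
      · obtain ⟨a, ha⟩ := hcov x
        refine ⟨a, ?_⟩
        rw [Groth.Agent.SymAlg.Rel.NV_map u (φ k) (ui k) (hui k), (hup (U a) _ (hk1 a) _ (hya a)).2, hyf]
        exact ha
      · have e : Groth.Agent.SymAlg.Rel.NV u (U a).2 (n a) (f a) = Groth.Agent.SymAlg.Rel.NV (ui k) (U a).2 (n a)
            (((t _ k (hk1 a)).hom.app (op (U a).1)).hom (ya a)) := by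
          rw [Groth.Agent.SymAlg.Rel.NV_map u (φ k) (ui k) (hui k), (hup (U a) _ (hk1 a) _ (hya a)).2, hyf]
        refine ⟨e ▸ (hA a).1, Groth.Agent.SymAlg.Rel.condSet_congr_all (ui k) (U a).2 _ _ e
          (Groth.Agent.SymAlg.Rel.NV_le u _ _ _) _ (hG a (ui k) _ (hup (U a) _ (hk1 a) _ (hya a)).1 fun x hx => ?_)⟩
        refine ⟨m a ⟨x, hx⟩, hm a ⟨x, hx⟩, _, (hup (U a) _ (hk2 a ⟨x, hx⟩) _ (hyw a ⟨x, hx⟩)).1, ?_⟩
        rw [Groth.Agent.SymAlg.Rel.appLE_map u (φ k) (ui k) (hui k),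
          Groth.Agent.SymAlg.Rel.appLE_map u (φ k) (ui k) (hui k),
          (hup (U a) _ (hk1 a) _ (hya a)).2, hyf, (hup (U a) _ (hk2 a ⟨x, hx⟩) _ (hyw a ⟨x, hx⟩)).2]
        exact hew a ⟨x, hx⟩
    exact ⟨k, Groth.Agent.SymAlg.Rel.isImmersion_of_immData hL hLq hj (ui k) hPL (hri k) (hPi k) hd⟩
  · exact Groth.Agent.SymAlg.Rel.isImmersion_of_immData hL hLq hj u hPL hr hP
      ((hdata i hi).map u (φ i) (ui i) (hui i) (hφ i))
  · exact Groth.Agent.SymAlg.Rel.isImmersion_of_immData hL hLq hj (ui k) hPL (hri k) (hPi k)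
      ((hdata i hi).map (ui k) (t i k hik) (ui i) (fun V => by rw [hui i, hui k, ← hφt i k hik]; rfl) (ht i k hik))

end Groth.Agent.S12161
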