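import Groth.Statements.S12164
import Groth.Agent.RelSpecUP.QMap
import Groth.Agent.SymAlgGen.Basic


set_option linter.style.haveILetI false
set_option backward.isDefEq.respectTransparency false

set_option autoImplicit false
universe u
open CategoryTheory CategoryTheory.Limits AlgebraicGeometry TopologicalSpace Opposite
open scoped HomogeneousIdeal
noncomputable section
open EGA2

namespace Groth.Agent.S12164

/-- Let g : S' → S be a morphism, E a quasi-coherent O_S-module, A = Sym(E) and B = Sym(g^*E) the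
symmetric algebras (given by their universal properties among quasi-coherent algebras, with
structure maps j : E → A and j' : g^*E → B), u : A → g_*B the g-morphism of algebras extending the
adjunction unit E → g_*g^*E followed by g_*(j'), and h = Spec(u) : V(g^*E) = Spec(B) → V(E) =
Spec(A). Then h identifies V(g^*E) with the base change V(E) ×_S S'. -/
theorem result {S S' : Scheme.{u}} (g : S' ⟶ S)
    (E : S.Modules) (hE : Coh.IsQCoh E) (A : RelSpec.QCAlg S) (j : E ⟶ A.toModule) (hA : RelSpec.IsSymAlg E A j)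
    (B : RelSpec.QCAlg S') (j' : (Scheme.Modules.pullback g).obj E ⟶ B.toModule)
    (hB : RelSpec.IsSymAlg ((Scheme.Modules.pullback g).obj E) B j')
    (u : RelSpec.QHom g A B)
    (hu : ∀ (U : S.Opens) (x : Γ(E, U)),
      (u.app U).hom ((j.app U) x) =
        (j'.app (g ⁻¹ᵁ U)) (((Scheme.Modules.pullbackPushforwardAdjunction g).unit.app E).app U x))
    (h : B.spec ⟶ A.spec) (hh : RelSpec.IsSpecQMap u h) :
    IsPullback h B.π A.π g := by
  haveI : E.IsQuasicoherent := hE
  haveI : IsAffineHom (pullback.snd A.π g) := MorphismProperty.pullback_snd _ _ inferInstance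
  have w : h ≫ A.π = B.π ≫ g := Groth.Agent.RelSpecUP.specQMap_π hh
  let c : B.spec ⟶ pullback A.π g := pullback.lift h B.π w
  have hcf : c ≫ pullback.fst A.π g = h := pullback.lift_fst _ _ _
  have hcs : c ≫ pullback.snd A.π g = B.π := pullback.lift_snd _ _ _
  let k : pullback A.π g ⟶ S := pullback.snd A.π g ≫ g
  let C := RelSpec.QCAlg.directImage (pullback.snd A.π g)
  let qA : AffAlg.over A.π k := ⟨pullback.fst A.π g, pullback.condition⟩
  let ω := (Groth.Agent.RelSpecUP.toAlg A k qA).1
  have hω : A.str ≫ ω = k.c := (Groth.Agent.RelSpecUP.toAlg A k qA).2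
  have hωstr : ∀ (V : S.Opens) (r : Γ(S, V)),
      ω.app (Opposite.op V) (A.str.app (Opposite.op V) r) =
        C.str.app (Opposite.op (g ⁻¹ᵁ V)) (g.app V r) := fun V r =>
    congr(($hω).app (Opposite.op V) r)
  have hωres : ∀ {V W : S.Opens} (i : W ≤ V) (a : A.presheaf.obj (Opposite.op V)),
      C.presheaf.map (homOfLE (g.preimage_mono i)).op (ω.app (Opposite.op V) a) =
        ω.app (Opposite.op W) (A.presheaf.map (homOfLE i).op a) := fun i a =>
    (congr($(ω.naturality (homOfLE i).op) a)).symm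
  let m : E ⟶ (Scheme.Modules.pushforward g).obj C.toModule :=
    ⟨letI := C.moduleSect
     PresheafOfModules.homMk
      { app := fun V => AddCommGrpCat.ofHom
          { toFun := fun e => ω.app V (Groth.Agent.SymAlgGen.jsec j V.unop e)
            map_zero' := (congrArg (ω.app V) (map_zero (j.app V.unop).hom)).trans (map_zero _)
            map_add' := fun a b => (congrArg (ω.app V) (map_add (j.app V.unop).hom a b)).trans (map_add _ _ _) }
        naturality := fun V W i => by
          ext e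
          exact (congrArg (ω.app W) (Groth.Agent.SymAlgGen.aRes_jsec j i.unop.le e).symm).trans
            (hωres i.unop.le (Groth.Agent.SymAlgGen.jsec j V.unop e)).symm }
      fun V r e => (congrArg (ω.app V) (Groth.Agent.SymAlgGen.jsec_smul j V.unop r e)).trans
        ((map_mul _ _ _).trans (congrArg (· * _) (hωstr V.unop r)))⟩
  let φ := ((Scheme.Modules.pullbackPushforwardAdjunction g).homEquiv E C.toModule).symm m
  have hφ : ∀ (V : S.Opens) (e : Γ(E, V)),
      φ.app (g ⁻¹ᵁ V) (((Scheme.Modules.pullbackPushforwardAdjunction g).unit.app E).app V e) =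
        ω.app (Opposite.op V) (Groth.Agent.SymAlgGen.jsec j V e) := by
    intro V e
    have h1 : (Scheme.Modules.pullbackPushforwardAdjunction g).unit.app E ≫
        (Scheme.Modules.pushforward g).map φ = m := by
      have := Equiv.apply_symm_apply
        ((Scheme.Modules.pullbackPushforwardAdjunction g).homEquiv E C.toModule) m
      rw [Adjunction.homEquiv_unit] at this
      exact this
    exact congr(($h1).app V e)
  obtain ⟨θ, hθ, -⟩ := hB C φ
  -- on affine opens of the base the two maps out of `A` agree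
  have huθ : ∀ (V : S.Opens), IsAffineOpen V → ∀ a : A.presheaf.obj (Opposite.op V),
      θ.hom.app (Opposite.op (g ⁻¹ᵁ V)) (u.app V a) = ω.app (Opposite.op V) a := by
    intro V hV a
    have ha : a ∈ Groth.Agent.SymAlgGen.gen j V := by
      rw [Groth.Agent.SymAlgGen.gen_eq_top hA hV]; trivial
    induction ha using Subring.closure_induction with
    | mem y hy =>
      rcases hy with ⟨r, rfl⟩ | ⟨e, rfl⟩
      · refine (congrArg (θ.hom.app (Opposite.op (g ⁻¹ᵁ V))) (congr($(u.str_app V) r))).trans ?_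
        refine (congr(($θ.comm).app (Opposite.op (g ⁻¹ᵁ V)) (g.app V r))).trans ?_
        exact (hωstr V r).symm
      · refine (congrArg (θ.hom.app (Opposite.op (g ⁻¹ᵁ V))) (hu V e)).trans ?_
        refine Eq.trans ?_ (hφ V e)
        exact congr(($hθ).app (g ⁻¹ᵁ V)
          (((Scheme.Modules.pullbackPushforwardAdjunction g).unit.app E).app V e))
    | zero => rw [map_zero, map_zero, map_zero]
    | one => rw [map_one, map_one, map_one]
    | add x y _ _ hx hy => rw [map_add, map_add, map_add, hx, hy]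
    | neg x _ hx => rw [map_neg, map_neg, map_neg, hx]
    | mul x y _ _ hx hy => rw [map_mul, map_mul, map_mul, hx, hy]
  obtain ⟨⟨r, hr⟩, hr'⟩ := (Groth.Agent.RelSpecUP.toAlg_bijective B (pullback.snd A.π g)).2
    ⟨θ.hom, θ.comm⟩
  have hr'' : (Groth.Agent.RelSpecUP.toAlg B (pullback.snd A.π g) ⟨r, hr⟩).1 = θ.hom :=
    congrArg Subtype.val hr'
  have hrh : r ≫ h = pullback.fst A.π g := by
    refine Scheme.Cover.hom_ext (pullback A.π g).affineCover _ _ fun i => ?_
    let D := (pullback A.π g).affineCover.X i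
    let kk : D ⟶ pullback A.π g := (pullback A.π g).affineCover.f i
    haveI : IsAffine D := inferInstanceAs (IsAffine (Spec _))
    refine Scheme.Cover.hom_ext (D.openCoverOfIsOpenCover
      (fun z : {p : D.affineOpens × S.affineOpens × S'.affineOpens //
        p.2.2.1 ≤ g ⁻¹ᵁ p.2.1.1 ∧ p.1.1 ≤ kk ⁻¹ᵁ (pullback.snd A.π g ⁻¹ᵁ p.2.2.1)} => z.1.1.1)
      (.mk (top_le_iff.1 fun x _ => ?_))) _ _ fun z => ?_
    · obtain ⟨U, hU, hxU, -⟩ := exists_isAffineOpen_mem_and_subset (U := (⊤ : S.Opens))
        (x := k (kk x)) trivial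
      obtain ⟨U', hU', hxU', hle⟩ := exists_isAffineOpen_mem_and_subset (U := g ⁻¹ᵁ U)
        (x := pullback.snd A.π g (kk x)) hxU
      obtain ⟨W, hW, hxW, hleW⟩ := exists_isAffineOpen_mem_and_subset
        (U := kk ⁻¹ᵁ (pullback.snd A.π g ⁻¹ᵁ U')) (x := x) hxU'
      exact TopologicalSpace.Opens.mem_iSup.2
        ⟨⟨⟨⟨W, hW⟩, ⟨U, hU⟩, ⟨U', hU'⟩⟩, hle, hleW⟩, hxW⟩
    · obtain ⟨⟨⟨W, hW⟩, ⟨U, hU⟩, ⟨U', hU'⟩⟩, hle, hleW⟩ := z
      change W.ι ≫ kk ≫ r ≫ h = W.ι ≫ kk ≫ pullback.fst A.π g
      rw [← cancel_epi hW.isoSpec.inv]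
      let k' := hW.isoSpec.inv ≫ W.ι ≫ kk
      have e' : ⊤ ≤ k' ⁻¹ᵁ (pullback.snd A.π g ⁻¹ᵁ U') := by
        intro y _
        exact hleW (hW.isoSpec.inv y).2
      have e : ⊤ ≤ k' ⁻¹ᵁ (k ⁻¹ᵁ U) := e'.trans (k'.preimage_mono ((pullback.snd A.π g).preimage_mono hle))
      suffices k' ≫ r ≫ h = k' ≫ pullback.fst A.π g by
        simp only [k', Category.assoc] at this
        simpa only [Category.assoc] using this
      rw [← Category.assoc, Groth.Agent.RelSpecUP.comp_eq_chart B (pullback.snd A.π g) ⟨r, hr⟩ U' hU' k' e',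
        Category.assoc, hh U hU U' hU' hle, ← Category.assoc, ← Spec.map_comp,
        Groth.Agent.RelSpecUP.comp_eq_chart A k qA U hU k' e, hr'']
      congr 2
      ext a
      change (Scheme.ΓSpecIso _).hom (k'.appLE _ ⊤ e'
          (θ.hom.app (Opposite.op U') (B.presheaf.map (homOfLE hle).op (u.app U a)))) =
        (Scheme.ΓSpecIso _).hom (k'.appLE _ ⊤ e (ω.app (Opposite.op U) a))
      rw [show θ.hom.app (Opposite.op U') (B.presheaf.map (homOfLE hle).op (u.app U a)) =
          C.presheaf.map (homOfLE hle).op (θ.hom.app (Opposite.op (g ⁻¹ᵁ U)) (u.app U a)) from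
        congr($(θ.hom.naturality (homOfLE hle).op) (u.app U a)), huθ U hU a]
      congr 1
      exact congr($(k'.map_appLE (V := ⊤) e' (homOfLE ((pullback.snd A.π g).preimage_mono hle)).op)
        (ω.app (Opposite.op U) a))
  have hrc : r ≫ c = 𝟙 _ := by
    apply pullback.hom_ext
    · rw [Category.assoc, hcf, hrh, Category.id_comp]
    · rw [Category.assoc, hcs, hr, Category.id_comp]
  let χ : C ⟶ B := ⟨AffAlg.algHom (pullback.snd A.π g) B.π c hcs ≫ B.gammaMap, by
    change (pullback.snd A.π g).c ≫ _ = _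
    rw [← Category.assoc, AffAlg.algHom_comm, B.π_c_gammaMap]⟩
  have hχω : ∀ (V : S.Opens) (a : A.presheaf.obj (Opposite.op V)),
      χ.hom.app (Opposite.op (g ⁻¹ᵁ V)) (ω.app (Opposite.op V) a) = u.app V a := by
    intro V a
    have hck : c ≫ k = B.π ≫ g := by rw [← Category.assoc, hcs]
    have h1 := Groth.Agent.RelSpecUP.toAlg_specQMap hh
    have h2 : (Groth.Agent.RelSpecUP.toAlg A (B.π ≫ g) ⟨h, w⟩).1 =
        ω ≫ AffAlg.algHom k (B.π ≫ g) c hck := by
      change inv A.gammaMap ≫ _ = (inv A.gammaMap ≫ _) ≫ _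
      rw [Category.assoc, ← Groth.Agent.RelSpecUP.algHom_comp]
      simp only [qA, hcf]
    have h3 := congr(($(h2.symm.trans h1)).app (Opposite.op V) a)
    change B.gammaMap.app (Opposite.op (g ⁻¹ᵁ V))
      ((AffAlg.algHom (pullback.snd A.π g) B.π c hcs).app (Opposite.op (g ⁻¹ᵁ V))
        (ω.app (Opposite.op V) a)) = _
    have h4 : (AffAlg.algHom k (B.π ≫ g) c hck).app (Opposite.op V) =
        (AffAlg.algHom (pullback.snd A.π g) B.π c hcs).app (Opposite.op (g ⁻¹ᵁ V)) := by
      rw [Groth.Agent.RelSpecUP.algHom_app, Groth.Agent.RelSpecUP.algHom_app]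
      rfl
    rw [← h4]
    refine (congrArg (B.gammaMap.app (Opposite.op (g ⁻¹ᵁ V))) h3).trans ?_
    exact congr(($(IsIso.inv_hom_id B.gammaMap)).app (Opposite.op (g ⁻¹ᵁ V)) (u.app V a))
  have hθχ : θ ≫ χ = 𝟙 B := by
    refine (hB B j').unique ?_ (by rw [Groth.Agent.S8268.toModuleMap_id, Category.comp_id])
    rw [Groth.Agent.S8268.toModuleMap_comp, ← Category.assoc, hθ]
    apply ((Scheme.Modules.pullbackPushforwardAdjunction g).homEquiv E B.toModule).injective
    rw [Adjunction.homEquiv_unit, Adjunction.homEquiv_unit]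
    apply Scheme.Modules.hom_ext
    intro V
    ext e
    change χ.hom.app (Opposite.op (g ⁻¹ᵁ V))
      (φ.app (g ⁻¹ᵁ V) (((Scheme.Modules.pullbackPushforwardAdjunction g).unit.app E).app V e)) = _
    rw [hφ, hχω]
    exact hu V e
  have hcr : c ≫ r = 𝟙 _ := by
    have h1 := (Groth.Agent.RelSpecUP.toAlg_bijective B B.π).1
      (a₁ := ⟨c ≫ r, by rw [Category.assoc, hr, hcs]⟩) (a₂ := ⟨𝟙 _, Category.id_comp _⟩) ?_
    · exact congrArg Subtype.val h1
    · apply Subtype.ext
      rw [Groth.Agent.RelSpecUP.toAlg_id]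
      change inv B.gammaMap ≫ AffAlg.algHom B.π B.π (c ≫ r) (by rw [Category.assoc, hr, hcs]) = _
      rw [Groth.Agent.RelSpecUP.algHom_comp B.π (pullback.snd A.π g) B.π r hr c hcs, ← Category.assoc]
      change (Groth.Agent.RelSpecUP.toAlg B (pullback.snd A.π g) ⟨r, hr⟩).1 ≫ _ = _
      rw [hr'', ← cancel_mono B.gammaMap, Category.assoc, IsIso.inv_hom_id]
      exact congrArg RelSpec.QCAlg.Hom.hom hθχ
  exact IsPullback.of_iso_pullback ⟨w⟩ ⟨c, r, hcr, hrc⟩ hcf hcs


end Groth.Agent.S12164
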