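import Groth.Statements.S12166
import Groth.Agent.RelProjLib.QMapId

set_option linter.style.haveILetI false
set_option backward.isDefEq.respectTransparency false

set_option autoImplicit false
universe u
open CategoryTheory CategoryTheory.Limits AlgebraicGeometry TopologicalSpace Opposite
open scoped HomogeneousIdeal
noncomputable section
open EGA2

namespace Groth.Agent.S12166

/-- Let φ : 𝒜 → ℬ be a graded homomorphism of quasi-coherent positively graded O_Y-algebras which is a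
(TN)-isomorphism (φ : 𝒜_k → ℬ_k bijective for all large k, on sections over affine opens), PA =
Proj(𝒜), PB = Proj(ℬ) with their charts. Then Proj(φ) is defined on all of PB and is an isomorphism
PB → PA. -/
theorem result {Y PA PB : Scheme.{u}} (𝒜 ℬ : RelProj.QCGrAlg Y)
    (φ : 𝒜.toQCAlg ⟶ ℬ.toQCAlg) (hφ : RelProj.IsGradedHom φ)
    (hTN : ∃ n : ℕ, ∀ k, n ≤ k → ∀ (U : Y.Opens) (hU : IsAffineOpen U),
      (∀ x ∈ 𝒜.deg U hU k, (φ.hom.app (op U)).hom x = 0 → x = 0) ∧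
        ∀ y ∈ ℬ.deg U hU k, ∃ x ∈ 𝒜.deg U hU k, (φ.hom.app (op U)).hom x = y)
    (pA : PA ⟶ Y) (chartA : ∀ (U : Y.Opens) (hU : IsAffineOpen U), (((pA ⁻¹ᵁ U : PA.Opens) : Scheme.{u}) ≅ Proj (𝒜.deg U hU)))
    (hA : RelProj.IsRelProj 𝒜 pA chartA)
    (pB : PB ⟶ Y) (chartB : ∀ (U : Y.Opens) (hU : IsAffineOpen U), (((pB ⁻¹ᵁ U : PB.Opens) : Scheme.{u}) ≅ Proj (ℬ.deg U hU)))
    (hB : RelProj.IsRelProj ℬ pB chartB) :
    RelProj.domQ (RelProj.QGrHom.ofHom φ hφ) pB chartB = ⊤ ∧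
      ∀ h : PB ⟶ PA, RelProj.IsProjQMap (RelProj.QGrHom.ofHom φ hφ) pA chartA pB chartB h → IsIso h := by
  obtain ⟨N, hN⟩ := hTN
  have hs : ∀ k, N ≤ k → ∀ (U : Y.Opens) (hU : IsAffineOpen U), ∀ y ∈ ℬ.deg U hU k,
      ∃ x ∈ 𝒜.deg U hU k, (φ.hom.app (op U)).hom x = y := fun k hk U hU => (hN k hk U hU).2
  refine ⟨Groth.Agent.RelProjLib.domQ_eq_top (φ := φ) (hφ := hφ) pB chartB hs, fun h hh => ?_⟩
  refine Groth.Agent.RelProjLib.prop_of_qmap hs hA hB (MorphismProperty.isomorphisms Scheme) hh fun U hU d hd f hf => ?_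
  have hb : Function.Bijective (HomogeneousLocalization.Away.map (Groth.Agent.RelProjLib.gAt φ hφ U hU) f) :=
    ⟨Groth.Agent.RelProjLib.away_map_injective_of_large _ N (fun k hk x hx h0 => (hN k hk U hU).1 x hx
      ((Groth.Agent.RelProjLib.gAt_apply φ hφ U hU x).symm.trans h0)) hf hd,
      Groth.Agent.RelProjLib.away_map_surjective_of_large _ N (Groth.Agent.RelProjLib.gAt_surj hs U hU) hf hd⟩
  haveI : IsIso (CommRingCat.ofHom (HomogeneousLocalization.Away.map (Groth.Agent.RelProjLib.gAt φ hφ U hU) f)) :=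
    (ConcreteCategory.isIso_iff_bijective _).mpr hb
  show IsIso _
  infer_instance

end Groth.Agent.S12166
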