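import Groth.Statements.S12188
import Groth.Agent.EtGlueLib.Alg

set_option autoImplicit false
universe u
open TensorProduct
open EtAlg Groth.Agent
open scoped TensorProduct

namespace Groth.Agent.S12188

/-- Glueing along a glueing pair detects flat morphisms of affine schemes, stated for coordinate rings.
Let (R → R', f) be a glueing pair and φ : A → B a homomorphism of R-algebras with A and B glueable
as R-modules. Then φ is flat exactly when both induced maps A_f → B_f and R' ⊗_R A → R' ⊗_R B are
flat. -/
theorem result (R : Type u) [CommRing R] (R' : Type u) [CommRing R'] [Algebra R R'] (f : R)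
    (hRR' : EtGlue.IsGlueingPair R R' f) (A B : Type u) [CommRing A] [Algebra R A] [CommRing B] [Algebra R B]
    (hA : EtGlue.IsGlueable R R' f A) (hB : EtGlue.IsGlueable R R' f B) (φ : A →ₐ[R] B) :
    φ.toRingHom.Flat ↔ (Localization.awayMap φ.toRingHom (algebraMap R A f)).Flat ∧
      (Algebra.TensorProduct.map (AlgHom.id R R') φ).toRingHom.Flat := by
  letI := φ.toRingHom.toAlgebra
  letI := (Algebra.TensorProduct.map (AlgHom.id R R') φ).toRingHom.toAlgebra
  letI : Algebra A (R' ⊗[R] A) := Algebra.TensorProduct.rightAlgebra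
  let fA := algebraMap R A f
  letI : Algebra (Localization.Away fA) (Localization.Away (algebraMap A B fA)) :=
    (Localization.awayMap (algebraMap A B) fA).toAlgebra
  have hA' := EtGlueLib.pair_of_glueable hRR' A hA
  obtain ⟨eR⟩ := EtGlueLib.equiv_tensor (R' := R') A B φ
  obtain ⟨eL⟩ := EtGlueLib.equiv_away A B fA
  show (algebraMap A B).Flat ↔ (algebraMap (Localization.Away fA) (Localization.Away (algebraMap A B fA))).Flat ∧
    (algebraMap (R' ⊗[R] A) (R' ⊗[R] B)).Flat
  simp only [RingHom.flat_algebraMap_iff]
  constructor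
  · intro h
    exact ⟨.of_linearEquiv eL.toLinearEquiv.symm, .of_linearEquiv eR.toLinearEquiv.symm⟩
  · rintro ⟨h1, h2⟩
    haveI := h1
    haveI := h2
    haveI : Module.Flat (R' ⊗[R] A) ((R' ⊗[R] A) ⊗[A] B) := .of_linearEquiv eR.toLinearEquiv
    haveI : Module.Flat (Localization.Away fA) (Localization.Away fA ⊗[A] B) := .of_linearEquiv eL.toLinearEquiv
    exact EtGlueLib.flat_alg hA' B

end Groth.Agent.S12188
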