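import Groth.Statements.S12194
import Groth.Agent.EtQC.StalkOpen

set_option autoImplicit false
universe u
open CategoryTheory CategoryTheory.Limits AlgebraicGeometry Opposite
open AlgSp

namespace Groth.Agent.S12194

/-- Let X be a locally Noetherian algebraic space over S, φ : G ⟶ F a morphism of coherent O_X-modules
on the small etale site of X (of finite presentation, X being locally Noetherian) and x̄ a geometric
point of X. If the map φ_x̄ on stalks at x̄ (of the underlying abelian sheaves) is surjective, then
there is an open subspace X' ⊂ X containing the image of x̄ such that φ|_{X'} is surjective: the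
stalk map φ_ȳ is surjective for every geometric point ȳ of X lying over a point of |X'|. -/
theorem result {S : Scheme.{u}} (X : AlgSp.Space S)
    (hX : AlgSp.IsLocNoethSp X.obj) {G F : AlgSp.ModEt X.obj} [G.IsFinitePresentation] [F.IsFinitePresentation]
    (φ : G ⟶ F) (xbar : AlgSp.FieldPt X.obj) (hx : xbar.IsGeometric)
    (hsurj : Epi ((AlgSp.stalkEtFunctor AddCommGrpCat.{u + 1} xbar).map ((AlgSp.toAbEt X.obj).map φ))) :
    ∃ (X' : AlgSp.Space S) (j : X' ⟶ X), AlgSp.RepWith @IsOpenImmersion j.hom ∧
      AlgSp.Points.mk xbar ∈ Set.range (AlgSp.Points.map j.hom) ∧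
        ∀ ybar : AlgSp.FieldPt X.obj, ybar.IsGeometric →
          AlgSp.Points.mk ybar ∈ Set.range (AlgSp.Points.map j.hom) →
            Epi ((AlgSp.stalkEtFunctor AddCommGrpCat.{u + 1} ybar).map ((AlgSp.toAbEt X.obj).map φ)) := by
  obtain ⟨T, hT, hpT, hs⟩ := Groth.Agent.EtQC.exists_open_locally_image X.property hX φ xbar hx hsurj
  refine ⟨⟨Groth.Agent.AlgSpLib.subSheaf T, Groth.Agent.AlgSpLib.isAlgSpace_subSheaf X.property hT⟩,
    ObjectProperty.homMk (Groth.Agent.AlgSpLib.subInc T), Groth.Agent.AlgSpLib.repWith_subInc hT, ?_, ?_⟩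
  · show _ ∈ Set.range (AlgSp.Points.map (Groth.Agent.AlgSpLib.subInc T))
    rw [Groth.Agent.AlgSpLib.range_subInc]
    exact hpT
  · intro ybar hy hyT
    exact Groth.Agent.EtQC.stalk_epi_of_surjective X.property φ hT hs ybar hy
      ((Groth.Agent.AlgSpLib.range_subInc T).le hyT)

end Groth.Agent.S12194
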