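import Groth.Statements.S12195
import Groth.Agent.InfLift.Formal

set_option autoImplicit false
universe u
open CategoryTheory CategoryTheory.Limits AlgebraicGeometry
open AlgSp

set_option backward.isDefEq.respectTransparency false

namespace Groth.Agent.S12195

/-- Let a : F ⟶ G be a representable, surjective and etale morphism of fppf sheaves on (Sch/S) and b : G
⟶ H a morphism such that a ≫ b is formally smooth. Consider a solid infinitesimal lifting square for
b: a square-zero thickening T = Spec (A/I) ⊂ T' = Spec A of affine schemes over S, a morphism T ⟶ G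
and a morphism T' ⟶ H making the square commute. Then for every point t of T' there exist an affine
scheme U', an etale morphism U' ⟶ T' whose image contains t, and a morphism U' ⟶ G lying over T' ⟶ H
whose restriction to T ×_{T'} U' agrees with the given T ⟶ G (stated for every scheme V mapping
compatibly to T and U'). (The published statement is for transformations of arbitrary presheaves of
sets on (Sch/S)_fppf; this row takes fppf sheaves, the case of algebraic spaces.) -/
theorem result {S : Scheme.{u}} {F G H : AlgSp.Sp S} (a : F ⟶ G)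
    (b : G ⟶ H) (ha : AlgSp.RepWith @Etale a) (ha' : AlgSp.RepWith @Surjective a)
    (hab : AlgSp.IsFormallySmoothMor (a ≫ b)) (sq : AlgSp.InfSq b) (t : ↥sq.ptT'.left) :
    ∃ (U' : Over S) (g : U' ⟶ sq.ptT') (l : (AlgSp.yon S).obj U' ⟶ G),
      IsAffine U'.left ∧ Etale g.left ∧ (∃ u : ↥U'.left, g.left u = t) ∧
        l ≫ b = (AlgSp.yon S).map g ≫ sq.bot ∧
          ∀ (V : Over S) (p : V ⟶ sq.ptT) (q : V ⟶ U'), p ≫ sq.j = q ≫ g →
            (AlgSp.yon S).map q ≫ l = (AlgSp.yon S).map p ≫ sq.top := by
  obtain ⟨C, _, _, he, ⟨u, hu⟩, l, hl₁, hl₂⟩ := Groth.Agent.InfLift.exists_local_lift ha ha' hab sq t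
  refine ⟨Groth.Agent.InfLift.ptC sq C, Groth.Agent.InfLift.gC sq C, l, inferInstanceAs (IsAffine (Spec _)), he,
    ⟨u, hu⟩, hl₁, fun V p q e => ?_⟩
  have sqP := Groth.Agent.InfLift.isPullback_jC sq C
  have e' : (AlgSp.yon S).map q ≫ (AlgSp.yon S).map (Groth.Agent.InfLift.gC sq C) =
      (AlgSp.yon S).map p ≫ (AlgSp.yon S).map sq.j := by
    rw [← Functor.map_comp, ← Functor.map_comp, e]
  rw [← sqP.lift_fst _ _ e', Category.assoc, hl₂, ← Category.assoc, sqP.lift_snd]

end Groth.Agent.S12195
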