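import Groth.Statements.S12196
import Groth.Agent.EtVan.MVBound
import Groth.Agent.S10766
import Groth.Agent.S10754

set_option autoImplicit false
universe u
open CategoryTheory CategoryTheory.Limits AlgebraicGeometry Opposite
open AlgSp

set_option linter.style.haveILetI false
set_option backward.isDefEq.respectTransparency false

namespace Groth.Agent.S12196

/-- Let X be a quasi-compact algebraic space, quasi-separated over a quasi-separated base scheme S. Then
there is an integer n, depending only on X, such that H^q(X, M) = 0 for every quasi-coherent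
O_X-module M on the small etale site of X and every q ≥ n. (The published statement moreover
produces the bound from an affine etale surjective chart U → X with fibre degree d and affine etale
surjective charts of the quotients U_p with fibre degrees d_p, as max(d_p + p); this row asserts
only that a bound exists. Quasi-separatedness is taken relative to S together with S
quasi-separated, which gives the absolute notion.) -/
theorem result {S : Scheme.{u}} [QuasiSeparatedSpace ↥S] (X : AlgSp.Space S)
    (hqc : AlgSp.IsQuasiCompactSp X.obj) (hqs : AlgSp.IsQuasiSeparatedSp X.obj) :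
    ∃ n : ℕ, ∀ (M : AlgSp.ModEt X.obj), M.IsQuasicoherent → ∀ q : ℕ, n ≤ q →
      Subsingleton (AlgSp.HModEt X.obj M q) := by
  open _root_.AlgSp in
  let X₀ : EtSpOver X := ⟨Over.mk (𝟙 X), Groth.Agent.EtVan.isEtaleMor_of_open
    ((repWith_isMultiplicative (S := S) @IsOpenImmersion).id_mem _)⟩
  refine Groth.Agent.S10766.result X hqc hqs
    (fun W => ∃ n, Groth.Agent.EtVan.Bnd W.obj.left.obj n) ?_ ?_ X₀ hqc hqs
  · rintro W T hT ⟨e⟩
    refine ⟨1, fun M hM q hq => ?_⟩
    haveI := hM
    exact Groth.Agent.S10754.result W.obj.left T hT e M q hq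
  · rintro W U V UV j f p q hW hWs hU ⟨T, hT, ⟨e⟩⟩ hsq sq ⟨nU, hnU⟩ - ⟨nUV, hnUV⟩
    have hf' : AlgSp.RepWith @Etale (e.hom ≫ f.hom.left.hom) :=
      hsq.2.1 e.hom (Groth.Agent.AlgSpLib.repWith_of_isIso e.hom)
    let V' : AlgSp.EtOver W.obj.left.obj := AlgSp.EtOver.mk (e.hom ≫ f.hom.left.hom) hf'
    haveI : IsAffine V'.obj.left.left := hT
    have sq' : IsPullback p.hom.left.hom (q.hom.left.hom ≫ e.inv) j.hom.left.hom V'.obj.hom :=
      IsPullback.of_iso sq (Iso.refl _) (Iso.refl _) e.symm (Iso.refl _)
        (by simp) (by simp) (by simp) (by simp [V', AlgSp.EtOver.mk])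
    obtain ⟨-, -, T', P', i, p₁, p₂, hi, sqi, hp₁⟩ := id hsq
    have hsq' : AlgSp.IsElemDistSq j.hom.left.hom V'.obj.hom :=
      ⟨hsq.1, AlgSp.isEtaleMor_of_repWith _ hf', T', P', i, p₁, p₂ ≫ e.inv, hi,
        IsPullback.of_iso sqi (Iso.refl _) (Iso.refl _) e.symm (Iso.refl _)
          (by simp) (by simp) (by simp) (by simp [V', AlgSp.EtOver.mk]), hp₁⟩
    exact ⟨_, Groth.Agent.EtVan.bnd_of_square (W := W.obj.left) j.hom.left hsq' _ _ sq' hnU hnUV⟩

end Groth.Agent.S12196
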