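import Groth.Statements.S12198
import Groth.Agent.GpdLargest.Basic
import Groth.Agent.AlgSpLib.GpdTrans

set_option autoImplicit false
universe u
open CategoryTheory CategoryTheory.Limits AlgebraicGeometry
open AlgSp AlgSp.GroupoidSp

namespace Groth.Agent.S12198

set_option backward.isDefEq.respectTransparency false

open Groth.Agent.AlgSpLib

variable {S : Scheme.{u}} {B : Sp S} (G : GroupoidSp B)

/-- conjugation identifies the two pullbacks of the stabilizer to the arrows -/
theorem exists_conj : ∃ b : pullback G.stabilizerToU G.t ⟶ G.stabilizer,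
    IsPullback b (pullback.snd G.stabilizerToU G.t) G.stabilizerToU G.s := by
  have hi : G.stabilizerι ≫ G.s = G.stabilizerToU ∧ G.stabilizerι ≫ G.t = G.stabilizerToU := by
    have h := pullback.condition (f := G.j) (g := G.diag)
    constructor
    · simpa [GroupoidSp.diag, GroupoidSp.stabilizerι, GroupoidSp.stabilizerToU] using congrArg (fun m => m ≫ pullback.snd G.pU G.pU) h
    · simpa [GroupoidSp.diag, GroupoidSp.stabilizerι, GroupoidSp.stabilizerToU] using congrArg (fun m => m ≫ pullback.fst G.pU G.pU) h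
  have mkS : ∀ {T : Sp S} (α : T ⟶ G.R) (x : T ⟶ G.U), α ≫ G.s = x → α ≫ G.t = x →
      ∃ y : T ⟶ G.stabilizer, y ≫ G.stabilizerι = α ∧ y ≫ G.stabilizerToU = x := fun α x h1 h2 =>
    ⟨pullback.lift α x (pullback.hom_ext (by simp [GroupoidSp.diag, h2]) (by simp [GroupoidSp.diag, h1])),
      pullback.lift_fst _ _ _, pullback.lift_snd _ _ _⟩
  have extS : ∀ {T : Sp S} (y y' : T ⟶ G.stabilizer), y ≫ G.stabilizerι = y' ≫ G.stabilizerι →
      y ≫ G.stabilizerToU = y' ≫ G.stabilizerToU → y = y' := fun y y' h1 h2 => pullback.hom_ext h1 h2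
  let γ := pullback.fst G.stabilizerToU G.t ≫ G.stabilizerι
  let r := pullback.snd G.stabilizerToU G.t
  have hγ : γ ≫ G.s = r ≫ G.t ∧ γ ≫ G.t = r ≫ G.t := by
    constructor <;> simp [γ, r, hi.1, hi.2, pullback.condition]
  obtain ⟨b, hb1, hb2⟩ := mkS (gmul G (r ≫ G.i) (gmul G γ r hγ.1) (by rw [Category.assoc, G.i_s, gmul_t, hγ.2]))
    (r ≫ G.s) (by rw [gmul_s, gmul_s]) (by rw [gmul_t, Category.assoc, G.i_t])
  refine ⟨b, isPullback_of_points hb2 fun T y x e => ?_⟩
  have hy : (y ≫ G.stabilizerι) ≫ G.s = x ≫ G.s ∧ (y ≫ G.stabilizerι) ≫ G.t = x ≫ G.s := by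
    constructor <;> simp [hi.1, hi.2, e]
  obtain ⟨z, hz1, hz2⟩ := mkS (gmul G (gmul G x (y ≫ G.stabilizerι) hy.2.symm) (x ≫ G.i)
      (by rw [gmul_s, hy.1, Category.assoc, G.i_t])) (x ≫ G.t)
    (by rw [gmul_s, Category.assoc, G.i_s]) (by rw [gmul_t, gmul_t])
  let q := pullback.lift z x hz2
  have hq1 : q ≫ γ = z ≫ G.stabilizerι := by simp [q, γ, pullback.lift_fst_assoc]
  have hq2 : q ≫ r = x := pullback.lift_snd _ _ _
  refine ⟨q, ⟨extS _ _ ?_ ?_, hq2⟩, fun q' hq' => ?_⟩
  · rw [Category.assoc, hb1, gmul_comp, gmul_congr G (show q ≫ r ≫ G.i = x ≫ G.i by rw [← Category.assoc, hq2])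
      ((gmul_comp G q γ r hγ.1).trans (gmul_congr G (hq1.trans hz1) hq2 _))]
    rw [gmul_congr G rfl (gmul_assoc G (gmul G x (y ≫ G.stabilizerι) hy.2.symm) (x ≫ G.i) x
      (by rw [gmul_s, hy.1, Category.assoc, G.i_t]) (by rw [Category.assoc, G.i_s]))]
    rw [gmul_congr G rfl (gmul_e_right G (gmul G x (y ≫ G.stabilizerι) hy.2.symm) _ (by
      rw [gmul_inv_left, ← Category.assoc (gmul G x (y ≫ G.stabilizerι) hy.2.symm), gmul_s, hy.1, Category.assoc]))]
    exact gmul_cancel_left G x (y ≫ G.stabilizerι) _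
  · rw [Category.assoc, hb2, ← Category.assoc, hq2, e]
  · have h1 : q' ≫ b ≫ G.stabilizerι = y ≫ G.stabilizerι := by rw [← Category.assoc, hq'.1]
    rw [hb1, gmul_comp, gmul_congr G (show q' ≫ r ≫ G.i = x ≫ G.i by rw [← Category.assoc, hq'.2])
      ((gmul_comp G q' γ r hγ.1).trans (gmul_congr G rfl hq'.2 _))] at h1
    have hc : (q' ≫ γ) ≫ G.s = x ≫ G.t := by rw [Category.assoc, hγ.1, ← Category.assoc, hq'.2]
    have h2 : gmul G (q' ≫ γ) x hc = gmul G x (y ≫ G.stabilizerι) hy.2.symm := by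
      have hct : (q' ≫ γ) ≫ G.t = x ≫ G.t := by rw [Category.assoc, hγ.2, ← Category.assoc, hq'.2]
      have := gmul_cancel_left' G x (gmul G (q' ≫ γ) x hc) (by rw [gmul_t, hct])
      rw [gmul_congr G rfl h1] at this
      exact this.symm
    refine pullback.hom_ext (extS _ _ ?_ ?_) (hq'.2.trans hq2.symm)
    · rw [pullback.lift_fst, hz1, Category.assoc]
      rw [gmul_congr G h2.symm rfl, gmul_assoc G (q' ≫ γ) x (x ≫ G.i) hc (by rw [Category.assoc, G.i_t])]
      refine (gmul_e_right G (q' ≫ γ) _ ?_).symm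
      rw [gmul_inv_right, ← Category.assoc x G.t G.e, ← hc]
      simp only [Category.assoc]
    · rw [pullback.lift_fst, hz2, Category.assoc, pullback.condition, ← Category.assoc, hq'.2]

end Groth.Agent.S12198

namespace Groth.Agent.S12198

/-- Let B be an algebraic space over S, (U, R, s, t, c) a groupoid in algebraic spaces over B and G → U
its stabilizer group algebraic space. Let τ be one of the topologies fppf, etale, smooth and P a
property of morphisms between algebraic spaces, τ-local on the base, and assume that {s : R → U} and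
{t : R → U} are coverings for τ. Let W ⊂ U be the largest open subspace such that G_W → W has P,
characterised by: for an open subspace W' ⊂ U the base change G ×_U W' → W' has P if and only if W'
⊂ W. Then W is an R-invariant open subspace of U. (The published statement also allows the syntomic
topology, which is not available here.) -/
theorem result {S : Scheme.{u}} {B : AlgSp.Sp S} (hB : AlgSp.IsAlgSpace B)
    (G : AlgSp.GroupoidSp B) (hU : AlgSp.IsAlgSpace G.U) (hR : AlgSp.IsAlgSpace G.R)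
    (τ : AlgSp.CovNotion S) (hτ : τ = AlgSp.IsFppfCover ∨ τ = AlgSp.IsEtCover ∨ τ = AlgSp.IsSmCover)
    (P : MorphismProperty (AlgSp.Sp S)) (hP : AlgSp.IsLocalOnBase τ P)
    (hs : τ (fun _ : PUnit.{u + 1} => G.R) (fun _ => G.s)) (ht : τ (fun _ : PUnit.{u + 1} => G.R) (fun _ => G.t))
    {W : AlgSp.Sp S} (hWsp : AlgSp.IsAlgSpace W) (w : W ⟶ G.U) [Mono w] (hw : AlgSp.RepWith @IsOpenImmersion w)
    (hmax : ∀ (W' : AlgSp.Sp S) (w' : W' ⟶ G.U), AlgSp.IsAlgSpace W' → AlgSp.RepWith @IsOpenImmersion w' →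
      (P (pullback.snd G.stabilizerToU w') ↔ ∃ k : W' ⟶ W, k ≫ w = w')) :
    G.IsInvariant w := by
  obtain ⟨b, hb⟩ := Groth.Agent.S12198.exists_conj G
  have hP2 : AlgSp.IsAlgSpace (pullback G.pU G.pU) :=
    Groth.Agent.AlgSpLib.isAlgSpace_of_isPullback_space hB hU hU (IsPullback.of_hasPullback G.pU G.pU)
  have hX : AlgSp.IsAlgSpace G.stabilizer :=
    Groth.Agent.AlgSpLib.isAlgSpace_of_isPullback_space hP2 hR hU (IsPullback.of_hasPullback G.j G.diag)
  exact Groth.Agent.GpdLargest.largest_invariant G hU hR τ hτ P hP hs ht hX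
    (IsPullback.of_hasPullback G.stabilizerToU G.t) hb hWsp w hw hmax

end Groth.Agent.S12198
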