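import Groth.Statements.S12199
import Groth.Agent.GrpQF.Basic
import Groth.Agent.S10143

set_option autoImplicit false
universe u
open CategoryTheory CategoryTheory.Limits AlgebraicGeometry MonoidalCategory MonObj
open AlgSp

namespace Groth.Agent.S12199

/-- Let B be an algebraic space over S and G a group algebraic space over B with unit section e : B → G,
and suppose G is locally of finite type over B. Under this assumption, G → B is unramified exactly
when it is unramified at e(b) for every point b of |B|, and G → B is locally quasi-finite exactly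
when it is quasi-finite at e(b) for every point b of |B|. Here 'unramified (resp. quasi-finite) at a
point' is the some-chart-diagram form: there are etale charts of G and B and a compatible morphism
of schemes which is unramified (resp. locally quasi-finite of finite type) on an open neighbourhood
of a point over e(b). -/
theorem result (S : Scheme.{u}) (B : AlgSp.Sp S) (hB : AlgSp.IsAlgSpace B)
    (G : Over B) [GrpObj G] (hG : AlgSp.IsAlgSpace G.left) (hlft : AlgSp.LocP @LocallyOfFiniteType G.hom) :
    (AlgSp.LocP (@LocallyOfFiniteType ⊓ @FormallyUnramified) G.hom ↔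
        ∀ b : AlgSp.Points B, AlgSp.HasAtMor
          (fun U _ h u => ∃ W : U.Opens, u ∈ W ∧ LocallyOfFiniteType (W.ι ≫ h) ∧ FormallyUnramified (W.ι ≫ h))
          G.hom (AlgSp.Points.map (η[G]).left b)) ∧
    (AlgSp.LocP (@LocallyQuasiFinite ⊓ @LocallyOfFiniteType) G.hom ↔
        ∀ b : AlgSp.Points B, AlgSp.HasAtMor
          (fun U _ h u => ∃ W : U.Opens, u ∈ W ∧ LocallyQuasiFinite (W.ι ≫ h) ∧ LocallyOfFiniteType (W.ι ≫ h))
          G.hom (AlgSp.Points.map (η[G]).left b)) := by
  have sq : IsPullback (𝟙 G.left) G.hom G.hom (𝟙 B) := IsPullback.of_horiz_isIso ⟨by simp⟩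
  refine ⟨?_, ?_⟩
  · rw [Groth.Agent.S10143.iff_range hB G hG hlft hB sq]
    exact ⟨fun h b => h ⟨b, AlgSp.Points.map_id b⟩, fun h => by
      rintro _ ⟨b, rfl⟩
      rw [AlgSp.Points.map_id]
      exact h b⟩
  · rw [Groth.Agent.GrpQF.lqf_iff_range hB G hG hlft hB sq]
    exact ⟨fun h b => (Groth.Agent.SpQS.hasAtMor_nhd_iff hG hB G.hom hlft _).2 (h ⟨b, AlgSp.Points.map_id b⟩), fun h => by
      rintro _ ⟨b, rfl⟩
      rw [AlgSp.Points.map_id]
      exact (Groth.Agent.SpQS.hasAtMor_nhd_iff hG hB G.hom hlft _).1 (h b)⟩

end Groth.Agent.S12199
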