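import Groth.Statements.S1220
import Groth.Agent.RG.Loc.PureCor

set_option autoImplicit false
open Groth.Agent
universe u
open FlatMor

namespace Groth.Agent.S1220

/-- Ring form, X = Spec B affine: let B be a finitely presented A-algebra and N a finitely presented
B-module flat over A. Then the set of points p of Spec A such that N is pure along the fibre over p
is open. -/
theorem result {A B : Type u} [CommRing A] [CommRing B] [Algebra A B] [Algebra.FinitePresentation A B]
    (N : Type u) [AddCommGroup N] [Module B N] [Module A N] [IsScalarTower A B N] [Module.FinitePresentation B N] [Module.Flat A N] :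
    IsOpen {p : PrimeSpectrum A | FlatCA.IsPureAlong A B N p.asIdeal} := by
  classical
  refine isOpen_iff_forall_mem_open.2 fun p hp => ?_
  haveI : Algebra.FiniteType A B := inferInstance
  haveI : Module.Projective (Localization.AtPrime p.asIdeal) (LocalizedModule p.asIdeal.primeCompl N) :=
    RG.Pure.projective_localized N p.asIdeal (fun q _ _ =>
      InjFibre.flat_localized q.primeCompl (LocalizedModule.mkLinearMap q.primeCompl N)) hp
  obtain ⟨U, hU, hpU, hproj⟩ := RG.Loc.exists_nhd_pure (B := B) N p.asIdeal
  refine ⟨U, fun s hs => ?_, hU, hpU⟩
  haveI := hproj s hs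
  exact fun A' B' N' _ _ _ _ _ _ _ _ _ _ _ _ _ _ f t' t _ _ P _ _ =>
    RG.Pure.isUnivPureAlong_of_projective N s.asIdeal A' B' N' f t' t P

end Groth.Agent.S1220
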