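import Groth.Statements.S12203
-- import your own Groth.Agent.* helpers here
import Groth.Agent.GrpdSplit.Main

set_option autoImplicit false
universe u
open CategoryTheory CategoryTheory.Limits AlgebraicGeometry
open Grpd

namespace Groth.Agent.S12203

/-- Let (U, R, s, t, c) be a groupoid scheme over S with U affine and s, t separated, flat and locally
of finite presentation, and let u ∈ U be a point such that only finitely many arrows r ∈ R satisfy
s(r) = u and t(r) = u, and s is quasi-finite at every one of them. Then there exist an etale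
morphism U' → U with U' affine and a point u' of U' lying over u with trivial residue field
extension κ(u) = κ(u'), such that the restriction R' of R to U' (the groupoid scheme on U' whose
arrows form the base change of j = (t, s) : R → U ×_S U along U' ×_S U' → U ×_S U) is strongly split
over u': there is an open subscheme P ⊂ R' which is a subgroupoid (the identity of U', the inverse
of P and the composition of composable pairs of P land in P), with s'|_P and t'|_P finite, and
containing every arrow r' of R' with s'(r') = u' and t'(r') = u'. -/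
theorem result (S : Scheme.{u}) (G : Grpd.GroupoidScheme S) [IsAffine G.U]
    [IsSeparated G.s] [IsSeparated G.t] [Flat G.s] [Flat G.t]
    [LocallyOfFinitePresentation G.s] [LocallyOfFinitePresentation G.t]
    (u : ↥G.U) (hfin : Set.Finite {r : ↥G.R | G.s r = u ∧ G.t r = u})
    (hqf : ∀ r : ↥G.R, G.s r = u → G.t r = u → Dual3.QuasiFiniteAt G.s r) :
    ∃ (G' : Grpd.GroupoidScheme S) (φ : Grpd.GroupoidScheme.Hom G' G) (u' : ↥G'.U),
      IsAffine G'.U ∧ Etale φ.fU ∧ φ.fU u' = u ∧ IsIso (φ.fU.residueFieldMap u') ∧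
      IsPullback φ.fR G'.j G.j
        (pullback.map G'.pU G'.pU G.pU G.pU φ.fU φ.fU (𝟙 S)
          ((Category.comp_id _).trans φ.fU_over.symm) ((Category.comp_id _).trans φ.fU_over.symm)) ∧
      ∃ (P : Scheme.{u}) (ιP : P ⟶ G'.R), IsOpenImmersion ιP ∧
        (∃ eP : G'.U ⟶ P, eP ≫ ιP = G'.e) ∧ (∃ iP : P ⟶ P, iP ≫ ιP = ιP ≫ G'.i) ∧
        (∃ cP : pullback (ιP ≫ G'.s) (ιP ≫ G'.t) ⟶ P,
          cP ≫ ιP = pullback.map (ιP ≫ G'.s) (ιP ≫ G'.t) G'.s G'.t ιP ιP (𝟙 G'.U)
            (Category.comp_id _) (Category.comp_id _) ≫ G'.c) ∧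
        IsFinite (ιP ≫ G'.s) ∧ IsFinite (ιP ≫ G'.t) ∧
        ∀ r' : ↥G'.R, G'.s r' = u' → G'.t r' = u' → ∃ p : ↥P, ιP p = r' := by
  have heL : G.e u ∈ {r : ↥G.R | G.s r = u ∧ G.t r = u} := by
    refine ⟨?_, ?_⟩
    · rw [← Scheme.Hom.comp_apply, G.e_s]; rfl
    · rw [← Scheme.Hom.comp_apply, G.e_t]; rfl
  obtain ⟨G', φ, u', h₁, h₂, h₃, h₄, h₅, P, ιP, h₆, he, hi, hc, hfs, hft, hr⟩ :=
    GrpdSplit.exists_split G u {r : ↥G.R | G.s r = u ∧ G.t r = u} hfin (fun r hr => hr.1) (fun r hr => hr.2)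
      (fun r hr => by
        rw [Scheme.Hom.quasiFiniteAt_iff_isOpen_singleton_asFiber]; exact hqf r hr.1 hr.2)
      heL (fun K _ g h hgh p hg hh => by
        refine ⟨?_, ?_⟩
        · rw [← Scheme.Hom.comp_apply, GrpdLib.gmul_s, Category.assoc, G.i_s, Scheme.Hom.comp_apply]
          exact hg.2
        · rw [← Scheme.Hom.comp_apply, GrpdLib.gmul_t, Scheme.Hom.comp_apply]
          exact hh.2)
  refine ⟨G', φ, u', h₁, h₂, h₃, h₄, h₅, P, ιP, h₆, he, hi, hc, hfs, hft, fun r' hs' ht' => hr r' hs' ht' ⟨?_, ?_⟩⟩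
  · rw [← Scheme.Hom.comp_apply, φ.comm_s, Scheme.Hom.comp_apply, hs', h₃]
  · rw [← Scheme.Hom.comp_apply, φ.comm_t, Scheme.Hom.comp_apply, ht', h₃]

end Groth.Agent.S12203
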