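import Groth.Statements.S12205
import Mathlib.CategoryTheory.Monoidal.Tor
import Mathlib.CategoryTheory.Abelian.LeftDerived
import Mathlib.Algebra.Category.ModuleCat.Projective
import Mathlib.RingTheory.Flat.Equalizer
import Mathlib.Algebra.Module.Torsion.Basic
import Mathlib.Algebra.Homology.ShortComplex.ModuleCat

set_option autoImplicit false
universe u
open CategoryTheory
open scoped TensorProduct
open CAlg

namespace Groth.Agent.S12205

open CategoryTheory TensorProduct

variable {R : Type u} [CommRing R] {M : Type u} [AddCommGroup M] [Module R M]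

/-- `Tor_1(N, M) = 0` is injectivity of `N ⊗ Z → N ⊗ F` for one fixed presentation -/
lemma exists_presentation :
    ∃ (F : Type u) (_ : AddCommGroup F) (_ : Module R F) (π : F →ₗ[R] M), Module.Projective R F ∧ Function.Surjective π ∧
      ∀ (N : Type u) [AddCommGroup N] [Module R N],
        Limits.IsZero (((CategoryTheory.Tor (ModuleCat.{u} R) 1).obj (ModuleCat.of R N)).obj (ModuleCat.of R M)) ↔
          Function.Injective ((LinearMap.ker π).subtype.lTensor N) := by
  let P := ProjectiveResolution.of (ModuleCat.of R M)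
  let d1 : P.complex.X 1 →ₗ[R] P.complex.X 0 := (P.complex.d 1 0).hom
  let d2 : P.complex.X 2 →ₗ[R] P.complex.X 1 := (P.complex.d 2 1).hom
  let π : P.complex.X 0 →ₗ[R] M := (P.π.f 0).hom
  have hπ : Function.Surjective π := (ModuleCat.epi_iff_surjective (P.π.f 0)).1 inferInstance
  have h10 : Function.Exact d1 π := (ShortComplex.ShortExact.moduleCat_exact_iff_function_exact
    (ShortComplex.mk (P.complex.d 1 0) (P.π.f 0) P.complex_d_comp_π_f_zero)).1
    (ShortComplex.exact_of_g_is_cokernel _ P.isColimitCokernelCofork)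
  have h21 : Function.Exact d2 d1 := (ShortComplex.ShortExact.moduleCat_exact_iff_function_exact _).1 (P.exact_succ 0)
  refine ⟨P.complex.X 0, inferInstance, inferInstance, π, ?_, hπ, fun N _ _ => ?_⟩
  · exact (IsProjective.iff_projective (P.complex.X 0)).2 (P.projective 0)
  let d1' : P.complex.X 1 →ₗ[R] LinearMap.ker π := d1.codRestrict _ fun x => (h10 (d1 x)).2 ⟨x, rfl⟩
  have hd1' : Function.Surjective d1' := fun z =>
    ((h10 z.1).1 z.2).imp fun x hx => Subtype.ext hx
  have h21' : Function.Exact d2 d1' := fun x => ⟨fun hx => (h21 x).1 (congrArg Subtype.val hx),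
    fun hx => Subtype.ext ((h21 x).2 hx)⟩
  have hT := lTensor_exact N h21' hd1'
  let F' := (MonoidalCategory.tensoringLeft (ModuleCat.{u} R)).obj (ModuleCat.of R N)
  let K := (F'.mapHomologicalComplex (ComplexShape.down ℕ)).obj P.complex
  have hiff : Limits.IsZero (((CategoryTheory.Tor (ModuleCat.{u} R) 1).obj (ModuleCat.of R N)).obj (ModuleCat.of R M)) ↔
      Function.Exact (d2.lTensor N) (d1.lTensor N) := by
    refine (P.isoLeftDerivedObj F' 1).isZero_iff.trans ?_
    refine (HomologicalComplex.exactAt_iff_isZero_homology K 1).symm.trans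
      ((HomologicalComplex.exactAt_iff' K 2 1 0 (by simp) (by simp)).trans ?_)
    exact ShortComplex.ShortExact.moduleCat_exact_iff_function_exact _
  rw [hiff]
  have hcomp : ∀ x, d1.lTensor N x = (LinearMap.ker π).subtype.lTensor N (d1'.lTensor N x) := fun x => by
    rw [← LinearMap.comp_apply, ← LinearMap.lTensor_comp]; rfl
  constructor
  · intro he
    rw [← LinearMap.ker_eq_bot, LinearMap.ker_eq_bot']
    intro z hz
    obtain ⟨x, rfl⟩ := LinearMap.lTensor_surjective N hd1' z
    exact (hT x).2 ((he x).1 ((hcomp x).trans hz))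
  · intro hinj x
    refine Iff.trans ?_ (hT x)
    rw [hcomp, ← map_zero ((LinearMap.ker π).subtype.lTensor N)]
    exact hinj.eq_iff

lemma injective_of_killed (I : Ideal R) [Module.Flat (R ⧸ I) ((R ⧸ I) ⊗[R] M)]
    {F : Type u} [AddCommGroup F] [Module R F] (π : F →ₗ[R] M) (hπ : Function.Surjective π)
    (h : Function.Injective ((LinearMap.ker π).subtype.lTensor (R ⧸ I)))
    (V : Type u) [AddCommGroup V] [Module R V] (hV : ∀ a ∈ I, ∀ v : V, a • v = 0) :
    Function.Injective ((LinearMap.ker π).subtype.lTensor V) := by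
  let u := (LinearMap.ker π).subtype
  have hT : Module.IsTorsionBySet R V (I : Set R) := fun v a => hV a a.2 v
  let : Module (R ⧸ I) V := hT.module
  have : IsScalarTower R (R ⧸ I) V := hT.isScalarTower
  let eN := AlgebraTensorModule.cancelBaseChange R (R ⧸ I) (R ⧸ I) V (LinearMap.ker π)
  let eM := AlgebraTensorModule.cancelBaseChange R (R ⧸ I) (R ⧸ I) V F
  have hex : Function.Exact (u.baseChange (R ⧸ I)) (π.baseChange (R ⧸ I)) :=
    lTensor_exact (R ⧸ I) (LinearMap.exact_subtype_ker_map π) hπ
  have hk : Function.Injective ((u.baseChange (R ⧸ I)).lTensor V) :=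
    LinearMap.lTensor_injective_of_exact_of_flat (π.baseChange (R ⧸ I)) (LinearMap.lTensor_surjective _ hπ)
      (u.baseChange (R ⧸ I)) h hex V
  have hc : ∀ z, u.lTensor V (eN z) = eM ((u.baseChange (R ⧸ I)).lTensor V z) := by
    intro z
    induction z using TensorProduct.induction_on with
    | zero => simp
    | tmul v w =>
      induction w using TensorProduct.induction_on with
      | zero => simp
      | tmul c n => simp [eN, eM]
      | add x y hx hy => simp only [tmul_add, map_add, hx, hy]
    | add x y hx hy => simp only [map_add, hx, hy]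
  intro a b hab
  obtain ⟨a, rfl⟩ := eN.surjective a
  obtain ⟨b, rfl⟩ := eN.surjective b
  rw [hc, hc] at hab
  rw [hk (eM.injective hab)]

lemma injective_of_extension {Z F : Type u} [AddCommGroup Z] [Module R Z] [AddCommGroup F] [Module R F] [Module.Flat R F]
    (u : Z →ₗ[R] F) {N : Type u} [AddCommGroup N] [Module R N] (W : Submodule R N)
    (h₁ : Function.Injective (u.lTensor W)) (h₂ : Function.Injective (u.lTensor (N ⧸ W))) :
    Function.Injective (u.lTensor N) := by
  rw [← LinearMap.ker_eq_bot, LinearMap.ker_eq_bot']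
  intro z hz
  have h : W.mkQ.rTensor Z z = 0 := h₂ (by
    rw [map_zero, ← LinearMap.comp_apply, LinearMap.lTensor_comp_rTensor, ← LinearMap.rTensor_comp_lTensor,
      LinearMap.comp_apply, hz, map_zero])
  obtain ⟨y, rfl⟩ := ((rTensor_exact Z (LinearMap.exact_subtype_mkQ W) W.mkQ_surjective) z).1 h
  have hy : W.subtype.rTensor F (u.lTensor W y) = 0 := by
    rw [← LinearMap.comp_apply, LinearMap.rTensor_comp_lTensor, ← LinearMap.lTensor_comp_rTensor, LinearMap.comp_apply]
    exact hz
  have : y = 0 := h₁ ((Module.Flat.rTensor_preserves_injective_linearMap W.subtype W.injective_subtype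
    (hy.trans (map_zero _).symm)).trans (map_zero _).symm)
  rw [this, map_zero]

/-- Let I be an ideal of a commutative ring R and M an R-module such that M/IM is flat over R/I and
Tor_1^R(R/I, M) = 0. Then Tor_1^R(N, M) = 0 for every R-module N annihilated by I^m for some m ≥ 0.
Here Tor_1^R(N, M) is the first left derived functor of N ⊗_R − evaluated at M. -/
theorem result (R : Type u) [CommRing R] (I : Ideal R) (M : Type u)
    [AddCommGroup M] [Module R M] [Module.Flat (R ⧸ I) ((R ⧸ I) ⊗[R] M)]
    (h : Limits.IsZero (((CategoryTheory.Tor (ModuleCat.{u} R) 1).obj (ModuleCat.of R (R ⧸ I))).obj (ModuleCat.of R M)))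
    (N : Type u) [AddCommGroup N] [Module R N] (m : ℕ) (hN : ∀ a : R, a ∈ I ^ m → ∀ x : N, a • x = 0) :
    Limits.IsZero (((CategoryTheory.Tor (ModuleCat.{u} R) 1).obj (ModuleCat.of R N)).obj (ModuleCat.of R M)) := by
  obtain ⟨F, _, _, π, _, hπ, hiff⟩ := exists_presentation (R := R) (M := M)
  rw [hiff] at h ⊢
  induction m generalizing N with
  | zero =>
    have : Subsingleton N := ⟨fun a b => by
      rw [← one_smul R a, hN 1 (by simp), ← one_smul R b, hN 1 (by simp)]⟩
    exact Function.injective_of_subsingleton _
  | succ m ih =>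
    refine injective_of_extension (LinearMap.ker π).subtype (I • (⊤ : Submodule R N)) (ih _ fun a ha x => ?_)
      (injective_of_killed I π hπ h _ fun a ha v => ?_)
    · refine Subtype.ext ?_
      change a • (x : N) = 0
      refine Submodule.smul_induction_on x.2 (fun b hb y _ => ?_) fun y z hy hz => by rw [smul_add, hy, hz, add_zero]
      rw [smul_smul]
      exact hN _ (by rw [pow_succ]; exact Ideal.mul_mem_mul ha hb) y
    · obtain ⟨v, rfl⟩ := Submodule.mkQ_surjective _ v
      rw [← map_smul, Submodule.mkQ_apply, Submodule.Quotient.mk_eq_zero]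
      exact Submodule.smul_mem_smul ha trivial

end Groth.Agent.S12205
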