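import Groth.Statements.S12208
import Groth.Agent.IntNoether.Basic
import Groth.Agent.SegreDim.Noether

set_option autoImplicit false
universe u
open CAlg Groth.Agent

namespace Groth.Agent.S12208

theorem dim_eq_of_finite {A B : Type u} [CommRing A] [CommRing B] (φ : A →+* B) (hinj : Function.Injective φ)
    (hfin : φ.Finite) : ringKrullDim A = ringKrullDim B := by
  letI := φ.toAlgebra
  haveI : Module.Finite A B := hfin
  haveI : Algebra.IsIntegral A B := Algebra.IsIntegral.of_finite _ _
  exact SegreDim.ringKrullDim_eq_of_injective_integral hinj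

/-- Let k be a field and S = k[x_1, …, x_n]/I with I a proper ideal. Then there exist r ≥ 0 and elements
y_1, …, y_r of k[x_1, …, x_n] lying in the subring generated by x_1, …, x_n (polynomials with
integer coefficients) such that the k-algebra map from the polynomial ring k[t_1, …, t_r] to S
sending t_i to the class of y_i is injective and finite; and for any r ≥ 0 and any y_1, …, y_r in
k[x_1, …, x_n] (with or without the integer-coefficient condition) for which that map is injective
and finite, r is the Krull dimension of S. -/
theorem result (k : Type u) [Field k] (n : ℕ) (I : Ideal (MvPolynomial (Fin n) k))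
    (hI : I ≠ ⊤) :
    (∃ (r : ℕ) (y : Fin r → MvPolynomial (Fin n) k),
      (∀ i, y i ∈ Set.range (MvPolynomial.map (Int.castRingHom k) : MvPolynomial (Fin n) ℤ → MvPolynomial (Fin n) k)) ∧
      Function.Injective ((Ideal.Quotient.mkₐ k I).comp (MvPolynomial.aeval y)) ∧
      ((Ideal.Quotient.mkₐ k I).comp (MvPolynomial.aeval y)).toRingHom.Finite) ∧
    ∀ (r : ℕ) (y : Fin r → MvPolynomial (Fin n) k),
      Function.Injective ((Ideal.Quotient.mkₐ k I).comp (MvPolynomial.aeval y)) →
      ((Ideal.Quotient.mkₐ k I).comp (MvPolynomial.aeval y)).toRingHom.Finite →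
      ringKrullDim (MvPolynomial (Fin n) k ⧸ I) = r := by
  constructor
  · obtain ⟨r, y, hy, hinj, hint⟩ := IntNoether.exists_int_coeff n I hI
    refine ⟨r, y, hy, hinj, RingHom.IsIntegral.to_finite hint ?_⟩
    have h : algebraMap k (MvPolynomial (Fin n) k ⧸ I) =
        ((Ideal.Quotient.mkₐ k I).comp (MvPolynomial.aeval y)).toRingHom.comp (algebraMap k (MvPolynomial (Fin r) k)) :=
      (AlgHom.comp_algebraMap ((Ideal.Quotient.mkₐ k I).comp (MvPolynomial.aeval y))).symm
    have hft : (algebraMap k (MvPolynomial (Fin n) k ⧸ I)).FiniteType :=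
      RingHom.finiteType_algebraMap.mpr inferInstance
    exact (h ▸ hft).of_comp_finiteType
  · intro r y hinj hfin
    rw [← dim_eq_of_finite _ hinj hfin, MvPolynomial.ringKrullDim_of_isNoetherianRing,
      ringKrullDim_eq_zero_of_field, zero_add, Nat.card_eq_fintype_card, Fintype.card_fin]

end Groth.Agent.S12208
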