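import Groth.Statements.S12209
import Mathlib.RingTheory.Flat.EquationalCriterion
import Mathlib.Algebra.Colimit.Ring
import Mathlib.Data.Fintype.Order
import Mathlib.Order.Directed

set_option autoImplicit false
universe u
open CAlg

namespace Groth.Agent.S12209

/-- Let (R_i) be a system of commutative rings over a nonempty directed preorder, with colimit R, and
let M be an R-module which is flat as an R_i-module for every i (the R_i-module structure being
restriction of scalars along R_i → R). Then M is flat as an R-module. -/
theorem result {ι : Type u} [Preorder ι] [Nonempty ι] [IsDirectedOrder ι]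
    (G : ι → Type u) [∀ i, CommRing (G i)] (f : ∀ i j, i ≤ j → G i →+* G j)
    [DirectedSystem G fun i j h => f i j h]
    (M : Type u) [AddCommGroup M] [Module (Ring.DirectLimit G fun i j h => f i j h) M]
    (hflat : ∀ i, letI : Module (G i) M := Module.compHom M (Ring.DirectLimit.of G (fun i j h => f i j h) i);
      Module.Flat (G i) M) :
    Module.Flat (Ring.DirectLimit G fun i j h => f i j h) M := by
  rw [Module.Flat.iff_forall_isTrivialRelation]
  intro l a m h
  classical
  let R' := Ring.DirectLimit G fun i j h => f i j h
  let of' := fun i => Ring.DirectLimit.of G (fun i j h => f i j h) i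
  choose idx lifts hlifts using fun t => Ring.DirectLimit.exists_of (a t)
  obtain ⟨j, hj⟩ := Finite.exists_le idx
  let b : Fin l → G j := fun t => f (idx t) j (hj t) (lifts t)
  have hb : ∀ t, of' j (b t) = a t := fun t => by
    rw [← hlifts t]
    exact Ring.DirectLimit.of_f (hj t) _
  letI : Module (G j) M := Module.compHom M (of' j)
  haveI : Module.Flat (G j) M := hflat j
  have hsum : ∑ t, b t • m t = 0 := by
    refine (Finset.sum_congr rfl fun t _ => ?_).trans h
    change of' j (b t) • m t = _
    rw [hb]
  obtain ⟨k, c, y, hy, hc⟩ := Module.Flat.isTrivialRelation_of_sum_smul_eq_zero hsum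
  refine ⟨k, fun t s => of' j (c t s), y, hy, fun s => ?_⟩
  have := congrArg (of' j) (hc s)
  rw [map_sum, map_zero] at this
  refine (Finset.sum_congr rfl fun t _ => ?_).trans this
  rw [map_mul, hb]

end Groth.Agent.S12209
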