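import Groth.Statements.S12210
import Groth.Agent.DimOne.Geom

set_option autoImplicit false
universe u
open CategoryTheory CategoryTheory.Limits AlgebraicGeometry
open Divisors

open TopologicalSpace Opposite IsLocalRing
namespace Groth.Agent.S12210

/-- A point of height zero in the closure of an open subset lies in it. -/
theorem mem_of_mem_closure_of_ringKrullDim_le_zero {X : Scheme.{u}} [IsLocallyNoetherian X] (U : X.Opens) 
    (ξ : X) (hU : ξ ∈ closure (U : Set X)) (h0 : ringKrullDim (X.presheaf.stalk ξ) ≤ 0) : ξ ∈ U := by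
  obtain ⟨W, hW, hξW, -⟩ := exists_isAffineOpen_mem_and_subset (x := ξ) (U := ⊤) trivial
  haveI : IsNoetherianRing Γ(X, W) := IsLocallyNoetherian.component_noetherian ⟨W, hW⟩
  letI := TopCat.Presheaf.algebra_section_stalk X.presheaf (⟨ξ, hξW⟩ : W)
  haveI := hW.isLocalization_stalk ⟨ξ, hξW⟩
  let p := hW.primeIdealOf ⟨ξ, hξW⟩
  have hmin : p.asIdeal ∈ minimalPrimes Γ(X, W) := by
    rw [← Ideal.height_eq_zero_iff]
    rw [IsLocalization.AtPrime.ringKrullDim_eq_height p.asIdeal (X.presheaf.stalk ξ)] at h0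
    exact le_antisymm (by exact_mod_cast h0) bot_le
  -- an element outside `p` lying in every other minimal prime
  have hfin := minimalPrimes.finite_of_isNoetherianRing Γ(X, W)
  obtain ⟨s, hs, hsp⟩ : ∃ s, (∀ q ∈ minimalPrimes Γ(X, W), q ≠ p.asIdeal → s ∈ q) ∧ s ∉ p.asIdeal := by
    by_contra hne
    push Not at hne
    have hle : (hfin.toFinset.erase p.asIdeal).inf id ≤ p.asIdeal := fun a ha => hne a fun q hq hqp =>
      (Finset.inf_le (f := id) (Finset.mem_erase.2 ⟨hqp, hfin.mem_toFinset.2 hq⟩) : _ ≤ q) ha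
    obtain ⟨q, hq, hqp⟩ := p.2.inf_le'.1 hle
    rw [Finset.mem_erase, hfin.mem_toFinset] at hq
    exact hq.1 (le_antisymm hqp (hmin.2 ⟨hq.2.1.1, bot_le⟩ hqp))
  have hξs : ξ ∈ X.basicOpen s := by
    have : p ∈ hW.fromSpec ⁻¹ᵁ X.basicOpen s := by rw [hW.fromSpec_preimage_basicOpen]; exact hsp
    change hW.fromSpec p ∈ X.basicOpen s at this
    rwa [hW.fromSpec_primeIdealOf ⟨ξ, hξW⟩] at this
  obtain ⟨y, hys, hyU⟩ := mem_closure_iff.1 hU _ (X.basicOpen s).isOpen hξs
  let q := hW.primeIdealOf ⟨y, X.basicOpen_le s hys⟩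
  have hqy : hW.fromSpec q = y := hW.fromSpec_primeIdealOf _
  have hsq : s ∉ q.asIdeal := by
    have : q ∈ hW.fromSpec ⁻¹ᵁ X.basicOpen s := by
      change hW.fromSpec q ∈ X.basicOpen s
      rwa [hqy]
    rwa [hW.fromSpec_preimage_basicOpen] at this
  obtain ⟨q₀, hq₀, hle⟩ := Ideal.exists_minimalPrimes_le (I := (⊥ : Ideal Γ(X, W))) (J := q.asIdeal) bot_le
  have hpq : p ≤ q := by
    by_cases e : q₀ = p.asIdeal
    · rw [e] at hle; exact hle
    · exact absurd (hle (hs q₀ hq₀ e)) hsq
  have hsp' : ξ ⤳ y := by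
    have := ((PrimeSpectrum.le_iff_specializes p q).1 hpq).map hW.fromSpec.continuous
    rwa [hqy, hW.fromSpec_primeIdealOf ⟨ξ, hξW⟩] at this
  exact hsp'.mem_open U.isOpen hyU


/-- Let X be locally Noetherian and U an open subscheme whose inclusion is an affine morphism. If ξ is a
point outside U which is maximal under generization among points outside U (a generic point of an
irreducible component of the complement) and ξ lies in the closure of U, then the local ring of X at
ξ has dimension exactly one. (The case X separated and U an affine open is the corresponding special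
case, since then the inclusion of U is affine.) -/
theorem result (X : Scheme.{u}) [IsLocallyNoetherian X]
    (U : X.Opens) [IsAffineHom U.ι] (ξ : X) (hξ : ξ ∉ U) (hgen : ∀ y : X, y ∉ U → y ⤳ ξ → y = ξ)
    (hcl : ξ ∈ closure (U : Set X)) :
    ringKrullDim (X.presheaf.stalk ξ) = 1 := by
  have h1 := Groth.Agent.DimOne.ringKrullDim_stalk_le_one U ξ hξ hgen
  refine le_antisymm h1 (not_lt.1 fun hlt => hξ ?_)
  refine mem_of_mem_closure_of_ringKrullDim_le_zero U ξ hcl ?_
  by_contra h0
  exact hlt.not_ge (Order.succ_le_of_lt (not_le.1 h0))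

end Groth.Agent.S12210
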