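import Groth.Statements.S12214
import Groth.Agent.RG.FiniteType

set_option autoImplicit false
open Groth.Agent
universe u
open FlatMor

namespace Groth.Agent.S12214

/-- Let R → S be a ring map of finite presentation, M a finite S-module, and assume R has finitely many
weakly associated primes. Then for every g ∈ S whose basic open D(g) is contained in the flat locus
U = {q : M_q is flat over R}, the localization M_g is a finitely presented S_g-module which is flat
over R. (Openness of U is the companion statement.) -/
theorem result {R S : Type u} [CommRing R] [CommRing S] [Algebra R S]
    [Algebra.FinitePresentation R S] (hR : (FlatCA.weakAss R R).Finite)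
    (M : Type u) [AddCommGroup M] [Module S M] [Module R M] [IsScalarTower R S M] [Module.Finite S M]
    (g : S) (hg : ∀ (q : Ideal S) [q.IsPrime], g ∉ q → FlatCA.FlatAt R q M) :
    Module.FinitePresentation (Localization.Away g) (LocalizedModule (Submonoid.powers g) M) ∧
      Module.Flat R (LocalizedModule (Submonoid.powers g) M) := by
  have hfl : Module.Flat R (LocalizedModule (Submonoid.powers g) M) := RG.flat_localized_powers M g hg
  haveI := hfl
  haveI : Algebra.FinitePresentation R (Localization.Away g) :=
    Algebra.FinitePresentation.trans R S (Localization.Away g)
  haveI : Module.Finite (Localization.Away g) (LocalizedModule (Submonoid.powers g) M) :=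
    Module.Finite.of_isLocalizedModule (Submonoid.powers g) (LocalizedModule.mkLinearMap _ M)
  exact ⟨RG.finitePresentation_of_flat hR _ fun P _ =>
    InjFibre.flat_localized P.primeCompl (LocalizedModule.mkLinearMap P.primeCompl _), hfl⟩

end Groth.Agent.S12214
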