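import Groth.Statements.S12215
import Groth.Agent.WeakAssLib.Basic
open CategoryTheory

set_option autoImplicit false
universe u
open CategoryTheory CategoryTheory.Limits AlgebraicGeometry
open Divisors

set_option backward.isDefEq.respectTransparency false
namespace Groth.Agent.S12215

/-- Let M be a module over a ring A, M~ the associated quasi-coherent module on Spec A and p a prime of
A. Then p is weakly associated to M — p is minimal among the prime ideals containing the annihilator
of some element of M — if and only if the point p of Spec A is weakly associated to M~, i.e. some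
element of the stalk of M~ at p has annihilator whose radical is the maximal ideal of the local
ring. -/
theorem result (A : CommRingCat.{u}) (M : ModuleCat.{u} A) (p : Spec A) :
    p.asIdeal ∈ FlatCA.weakAss A M ↔ Curv2.IsWeakAssPoint (tilde M) p := by
  have hU : IsAffineOpen (⊤ : (Spec A).Opens) := isAffineOpen_top (Spec A)
  have hL : Groth.Agent.QC.IsLoc (tilde M) ⊤ := Groth.Agent.QC.isLoc_of_isQCoh hU
  rw [Groth.Agent.WeakAssLib.isWeakAssPoint_iff hU hL (show p ∈ (⊤ : (Spec A).Opens) from trivial)]
  set φ := (Scheme.ΓSpecIso A).inv.hom with hφ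
  have hsurj : Function.Surjective φ :=
    (ConcreteCategory.bijective_of_isIso (Scheme.ΓSpecIso A).inv).2
  have hsm : ∀ (r : A) (t : Γ(tilde M, ⊤)), r • t = φ r • t := by
    intro r t
    rw [Scheme.Modules.smul_Spec_def]
    congr 1
  let e := (tilde.isoTop M).toLinearEquiv
  have hann : ∀ m : M, Ideal.comap φ (LinearMap.ker (LinearMap.toSpanSingleton Γ(Spec A, ⊤) Γ(tilde M, ⊤) (e m)) : Ideal Γ(Spec A, ⊤))
      = (Submodule.span A {m}).annihilator := by
    intro m
    ext r
    simp only [Ideal.mem_comap, LinearMap.mem_ker, LinearMap.toSpanSingleton_apply,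
      Submodule.mem_annihilator_span_singleton]
    rw [← hsm]
    exact (iff_of_eq (congrArg (· = _) (e.map_smul r m).symm)).trans e.map_eq_zero_iff
  have hp : (hU.primeIdealOf ⟨p, trivial⟩).asIdeal.comap φ = p.asIdeal := by
    ext r
    rw [Ideal.mem_comap, ← not_iff_not, ← Groth.Agent.WeakAssLib.mem_primeIdealOf]
    exact iff_of_eq (congrArg (fun V : (Spec A).Opens => p ∈ V) (AlgebraicGeometry.basicOpen_eq_of_affine r))
  constructor
  · rintro ⟨m, hm⟩
    refine ⟨e m, ?_⟩
    rw [← hann, Ideal.comap_minimalPrimes_eq_of_surjective hsurj] at hm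
    obtain ⟨q, hq, hqp⟩ := hm
    rwa [← Ideal.comap_injective_of_surjective φ hsurj (hqp.trans hp.symm)]
  · rintro ⟨s, hs⟩
    obtain ⟨m, rfl⟩ := e.surjective s
    refine ⟨m, ?_⟩
    rw [← hann, Ideal.comap_minimalPrimes_eq_of_surjective hsurj]
    exact ⟨_, hs, hp⟩

end Groth.Agent.S12215
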