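import Groth.Statements.S8999
import Groth.Agent.RG.Pure.Transfer

set_option autoImplicit false
open Groth.Agent
universe u
open FlatMor

namespace Groth.Agent.S8999

attribute [local instance] Algebra.TensorProduct.rightAlgebra

/-- For affine finite type schemes over Spec A: purity and universal purity along a fibre of a finite
module are unchanged when the module is pushed forward along a closed immersion Spec C → Spec B (a
surjective algebra map B → C). -/
theorem result {A B C : Type u} [CommRing A] [CommRing B] [CommRing C] [Algebra A B] [Algebra B C] [Algebra A C] [IsScalarTower A B C] [Algebra.FiniteType A B] (hBC : Function.Surjective (algebraMap B C)) (N : Type u) [AddCommGroup N] [Module C N] [Module B N] [IsScalarTower B C N] [Module.Finite C N] (p : Ideal A) [p.IsPrime] : (FlatCA.IsPureAlong A C N p ↔ FlatCA.IsPureAlong A B N p) ∧ (FlatCA.IsUnivPureAlong A C N p ↔ FlatCA.IsUnivPureAlong A B N p) := by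
  refine ⟨⟨fun h A' B' N' _ _ _ _ _ _ _ _ _ _ _ _ _ _ f t' t _ _ P _ het hI => ?_,
    fun h A' C' N' _ _ _ _ _ _ _ _ _ _ _ _ _ _ g t' t _ _ P _ het hI => ?_⟩,
    ⟨fun h A' B' N' _ _ _ _ _ _ _ _ _ _ _ _ _ _ f t' t _ _ P _ hI => ?_,
    fun h A' C' N' _ _ _ _ _ _ _ _ _ _ _ _ _ _ g t' t _ _ P _ hI => ?_⟩⟩
  · obtain ⟨Q, _, hQ⟩ := RG.Pure.isImpurity_to_quot hBC hI
    exact h A' _ _ _ t' t Q het hQ
  · obtain ⟨Q, _, hQ⟩ := RG.Pure.isImpurity_of_quot hBC hI
    exact h A' _ _ _ t' t Q het hQ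
  · obtain ⟨Q, _, hQ⟩ := RG.Pure.isImpurity_to_quot hBC hI
    exact h A' _ _ _ t' t Q hQ
  · obtain ⟨Q, _, hQ⟩ := RG.Pure.isImpurity_of_quot hBC hI
    exact h A' _ _ _ t' t Q hQ

end Groth.Agent.S8999
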