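import Groth.Statements.S1222
import Groth.Agent.RG.Pure.FiniteSupport
import Groth.Agent.S8999

set_option autoImplicit false
open Groth.Agent
universe u
open FlatMor

namespace Groth.Agent.S1222

/-- Ring form, X = Spec B affine hence separated over Spec A: let B be a finite type A-algebra and N a
finite B-module such that for every prime p of A the fibre module of N over p has finite support.
Then the following are equivalent: N is pure relative to Spec A; the scheme-theoretic support of N,
namely B modulo the annihilator of N, is finite over A; N is universally pure relative to Spec A. -/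
theorem result {A B : Type u} [CommRing A] [CommRing B] [Algebra A B] [Algebra.FiniteType A B]
    (N : Type u) [AddCommGroup N] [Module B N] [Module A N] [IsScalarTower A B N] [Module.Finite B N]
    (hfin : ∀ (p : Ideal A) [p.IsPrime], (Module.support (p.Fiber B) (FlatCA.fiberMod p B N)).Finite) :
    [FlatCA.IsPure A B N, Module.Finite A (B ⧸ Module.annihilator B N), FlatCA.IsUnivPure A B N].TFAE := by
  classical
  let C := B ⧸ Module.annihilator B N
  haveI hT : Module.IsTorsionBySet B N (Module.annihilator B N) := fun n a => Module.mem_annihilator.1 a.2 n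
  letI : Module C N := hT.module
  haveI : IsScalarTower B C N := hT.isScalarTower
  haveI : IsScalarTower A C N := IsScalarTower.of_algebraMap_smul fun a n => by
    rw [IsScalarTower.algebraMap_apply A B C, algebraMap_smul, algebraMap_smul]
  haveI : Module.Finite C N := Module.Finite.of_restrictScalars_finite B C N
  have hs : Function.Surjective (algebraMap B C) := Ideal.Quotient.mk_surjective
  have hiff : ∀ (p : Ideal A) [p.IsPrime],
      (FlatCA.IsPureAlong A C N p ↔ FlatCA.IsPureAlong A B N p) ∧
        (FlatCA.IsUnivPureAlong A C N p ↔ FlatCA.IsUnivPureAlong A B N p) := fun p _ => Groth.Agent.S8999.result hs N p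
  tfae_have 3 → 1 := fun h p _ => fun A' B' N' _ _ _ _ _ _ _ _ _ _ _ _ _ _ f t' t _ _ P _ _ => h p A' B' N' f t' t P
  tfae_have 2 → 3 := fun h p _ => by
    haveI : Module.Finite A C := h
    exact (hiff p).2.1 (RG.Pure.isUnivPureAlong_of_finite p)
  tfae_have 1 → 2 := fun h => by
    have hann : Module.annihilator C N = ⊥ := by
      refine eq_bot_iff.2 fun x hx => ?_
      obtain ⟨b, rfl⟩ := hs x
      exact Ideal.Quotient.eq_zero_iff_mem.2 (Module.mem_annihilator.2 fun n => by
        rw [← algebraMap_smul C b n]; exact Module.mem_annihilator.1 hx n)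
    haveI : Algebra.FiniteType A C := Algebra.FiniteType.trans (R := A) (S := B) (A := C) inferInstance inferInstance
    haveI : Algebra.QuasiFinite A C := by
      rw [Algebra.QuasiFinite.iff_finite_comap_preimage_singleton]
      intro x
      letI : Algebra B (x.asIdeal.Fiber B) := Algebra.TensorProduct.rightAlgebra
      refine Set.Finite.of_finite_image (f := PrimeSpectrum.comap (algebraMap B C)) ?_
        ((PrimeSpectrum.comap_injective_of_surjective _ hs).injOn)
      refine ((hfin x.asIdeal).image (PrimeSpectrum.comap (algebraMap B (x.asIdeal.Fiber B)))).subset ?_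
      rintro _ ⟨y, hy, rfl⟩
      have hyA : (y.asIdeal.comap (algebraMap B C)).comap (algebraMap A B) = x.asIdeal := by
        rw [Ideal.comap_comap, ← IsScalarTower.algebraMap_eq]
        exact congrArg PrimeSpectrum.asIdeal hy
      obtain ⟨z, hz⟩ := (PrimeSpectrum.preimageEquivFiber A B x).symm.surjective
        ⟨PrimeSpectrum.comap (algebraMap B C) y, PrimeSpectrum.ext hyA⟩
      have hz' : PrimeSpectrum.comap (algebraMap B (x.asIdeal.Fiber B)) z = PrimeSpectrum.comap (algebraMap B C) y :=
        congrArg Subtype.val hz
      refine ⟨z, ?_, hz'⟩
      change z ∈ Module.support (x.asIdeal.Fiber B) (TensorProduct B (x.asIdeal.Fiber B) N)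
      rw [FlatDepth.mem_support_tensor]
      refine ⟨?_, ?_⟩
      · rw [Module.mem_support_iff_of_finite, Module.annihilator_eq_bot.2 inferInstance]
        exact bot_le
      · rw [hz', Module.mem_support_iff_of_finite]
        intro b hb
        change Ideal.Quotient.mk _ b ∈ y.asIdeal
        rw [Ideal.Quotient.eq_zero_iff_mem.2 hb]
        exact zero_mem _
    haveI : Algebra.IsIntegral A C := ⟨fun c => RG.Pure.isIntegral_of_forall_atPrime c fun p _ => by
      haveI := RG.Pure.finite_atPrime_of_pure hann p ((hiff p).1.2 (h p))
      exact Algebra.IsIntegral.isIntegral _⟩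
    exact Algebra.IsIntegral.finite
  tfae_finish

end Groth.Agent.S1222
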