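import Groth.Statements.S12221
import Groth.Agent.AlgzGr.Flat

set_option autoImplicit false
universe u
open CategoryTheory AlgebraicGeometry Opposite
open Algz
set_option backward.isDefEq.respectTransparency false
set_option backward.isDefEq.respectTransparency.types false
set_option maxHeartbeats 1000000

namespace Groth.Agent.S12221

/-- Let A be a Noetherian ring, I ⊆ 𝔞 ideals, U the complement of V(𝔞) in Spec A and (F_n) an object of
Coh(U, IO_U), indexed here from 0. Assume that for some Noetherian local ring R with maximal ideal 𝔪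
and some ring map φ : R → A we have (1) I = 𝔪A, (2) for every point y of U lying in V(I) the
completed stalk F_y^∧ is flat as an R-module (through R → A → O_{U,y} → O_{U,y}^∧), and (3) the
cohomology groups H^0(U, F_0), H^1(U, F_0) are finitely generated over A. Then (F_n) has a canonical
extension to Spec A. -/
theorem result (A : Type u) [CommRing A] [IsNoetherianRing A] (I 𝔞 : Ideal A) (hI𝔞 : I ≤ 𝔞)
    (G : ℕᵒᵖ ⥤ (↑(LocCoh.puncturedOpen A 𝔞) : Scheme.{u}).Modules) (hG : Formal.IsCohFormal I G)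
    (R : Type u) [CommRing R] [IsNoetherianRing R] [IsLocalRing R] (φ : R →+* A)
    (h1 : I = Ideal.map φ (IsLocalRing.maximalIdeal R))
    (h2 : ∀ (y : (↑(LocCoh.puncturedOpen A 𝔞) : Scheme.{u})), (LocCoh.puncturedOpen A 𝔞).ι.base y ∈ PrimeSpectrum.zeroLocus (R := A) I →
      letI : Module R ↥(Algz.hatStalk I G y) := Module.compHom ↥(Algz.hatStalk I G y)
        ((algebraMap ((↑(LocCoh.puncturedOpen A 𝔞) : Scheme.{u}).presheaf.stalk y) (Algz.hatRing I y)).comp ((Algz.toStalk A (↑(LocCoh.puncturedOpen A 𝔞) : Scheme.{u}) y).comp φ));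
      Module.Flat R ↥(Algz.hatStalk I G y))
    (h3 : Module.Finite A (Coh.HH (↑(LocCoh.puncturedOpen A 𝔞) : Scheme.{u}) (G.obj (op 0)) 0) ∧ Module.Finite A (Coh.HH (↑(LocCoh.puncturedOpen A 𝔞) : Scheme.{u}) (G.obj (op 0)) 1)) :
    Algz.CanonicallyExtends A I (LocCoh.puncturedOpen A 𝔞) G := by
  classical
  choose b hb hbi using fun t : ℕ => Groth.Agent.AlgzGr.exists_min_gens (R := R) (t + 1)
  let X : Scheme.{u} := ↑(LocCoh.puncturedOpen A 𝔞)
  let ψ : ∀ y : X, R →+* X.presheaf.stalk y := fun y => (Algz.toStalk A X y).comp φ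
  have hI : ∀ y : X, Algz.stalkIdeal I y = Ideal.map (ψ y) (IsLocalRing.maximalIdeal R) := fun y => by
    rw [Algz.stalkIdeal, h1, Ideal.map_map]
  have hl : ∀ t, ∀ a ∈ (b t).map φ, a ∈ I ^ (t + 1) := fun t a ha => by
    obtain ⟨r, hr, rfl⟩ := List.mem_map.1 ha
    rw [h1, ← Ideal.map_pow]
    exact Ideal.mem_map_of_mem φ ((hb t).le (Ideal.subset_span hr))
  have hmap : ∀ (t : ℕ) (y : X), ((b t).map φ).map (Algz.toStalk A X y) = (b t).map (ψ y) := fun t y => by
    rw [List.map_map]
    rfl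
  have hgen := Groth.Agent.AlgzGr.generates hG (fun t => (b t).map φ) hl
    (fun t y _ => by
      rw [hmap, hI, ← Ideal.map_pow, ← hb, Ideal.map_ofList])
    (fun t y hne => by
      rw [hmap, hI]
      refine Groth.Agent.AlgzGr.indep_of_flat (ψ y) _ ?_ (t + 1) (b t) (hbi t)
      obtain ⟨e, he⟩ := Groth.Agent.AlgzGr.exists_hat_equiv hG y
      have hflat := h2 y (Groth.Agent.AlgzGr.mem_zeroLocus_of_ne_top hne)
      letI : Module R ↥(Algz.hatStalk I G y) := Module.compHom ↥(Algz.hatStalk I G y)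
        ((algebraMap (X.presheaf.stalk y) (Algz.hatRing I y)).comp ((Algz.toStalk A X y).comp φ))
      letI : Module R ↥(Groth.Agent.AlgzGr.stL G y) := Module.compHom ↥(Groth.Agent.AlgzGr.stL G y) (ψ y)
      haveI : Module.Flat R ↥(Algz.hatStalk I G y) := hflat
      exact Module.Flat.of_linearEquiv
        ({ e with map_smul' := fun r v => he (ψ y r) v } :
          ↥(Groth.Agent.AlgzGr.stL G y) ≃ₗ[R] ↥(Algz.hatStalk I G y)))
  exact Groth.Agent.AlgzGr.canonicallyExtends hG h3.1 h3.2 (hgen 0) (hgen 1)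

end Groth.Agent.S12221
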