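import Groth.Statements.S12222
-- import your own Groth.Agent.* helpers here
import Groth.Agent.Hensel.Local

set_option autoImplicit false
universe u
open Hensel

namespace Groth.Agent.S12222

/-- (11) ⇒ (1): let R be a local ring such that every finite-type R-algebra S can be written as a
product A × B with A finite over R and R → B quasi-finite at no prime lying over the maximal ideal —
concretely, S has an idempotent e with S/(1 − e) finite over R and R → S/(e) quasi-finite at no
prime over the maximal ideal. Then R is henselian. -/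
theorem result (R : Type u) [CommRing R] [IsLocalRing R]
    (h : ∀ (S : Type u) [CommRing S] [Algebra R S] [Algebra.FiniteType R S],
      ∃ e : S, IsIdempotentElem e ∧ Module.Finite R (S ⧸ Ideal.span ({1 - e} : Set S)) ∧
        ∀ (q : Ideal (S ⧸ Ideal.span ({e} : Set S))) [q.IsPrime],
          q.LiesOver (IsLocalRing.maximalIdeal R) → ¬ Algebra.QuasiFiniteAt R q) :
    HenselianLocalRing R := by
  classical
  refine Hensel.henselianLocalRing_of_retraction R fun S _ _ _ q _ hq hsurj => ?_
  haveI := hq
  set m := IsLocalRing.maximalIdeal R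
  have hfin := Algebra.QuasiFinite.finite_primesOver (R := R) (S := S) m
  have hsep : ∀ P ∈ hfin.toFinset.erase q, ∃ x ∈ P, x ∉ q := fun P hP => by
    obtain ⟨hPq, hP⟩ := Finset.mem_erase.1 hP
    obtain ⟨hPp, hPo⟩ := hfin.mem_toFinset.1 hP
    by_contra hc
    push Not at hc
    haveI := hPp
    exact hPq (Algebra.QuasiFinite.eq_of_le_of_under_eq (R := R) P q hc (hPo.over.symm.trans hq.over))
  choose x hxP hxq using hsep
  let g : S := ∏ P ∈ (hfin.toFinset.erase q).attach, x P.1 P.2
  have hg : g ∉ q := fun h => by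
    obtain ⟨P, -, hP⟩ := (inferInstance : q.IsPrime).prod_mem_iff.1 h
    exact hxq _ _ hP
  have huniq : ∀ P : Ideal S, P.IsPrime → P.comap (algebraMap R S) = m → g ∉ P → P = q := fun P hP hPo hgP => by
    by_contra hne
    have hmem : P ∈ hfin.toFinset.erase q := Finset.mem_erase.2 ⟨hne, hfin.mem_toFinset.2 ⟨hP, ⟨hPo.symm⟩⟩⟩
    exact hgP (Ideal.mem_of_dvd P (Finset.dvd_prod_of_mem _ (Finset.mem_attach _ ⟨P, hmem⟩)) (hxP P hmem))
  let S' := Localization.Away g
  haveI : Algebra.Etale S S' := Algebra.Etale.of_isLocalizationAway g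
  haveI : Algebra.Etale R S' := Algebra.Etale.comp R S S'
  obtain ⟨e, he, hLfin, hno⟩ := h S'
  have hdisj : Disjoint (Submonoid.powers g : Set S) q := by
    rw [Set.disjoint_left]
    rintro _ ⟨n, rfl⟩ hn
    exact hg ((inferInstance : q.IsPrime).mem_of_pow_mem n hn)
  haveI hq' : (q.map (algebraMap S S')).IsPrime := IsLocalization.isPrime_of_isPrime_disjoint (Submonoid.powers g) S' q inferInstance hdisj
  have hcomap : (q.map (algebraMap S S')).comap (algebraMap S S') = q :=
    IsLocalization.comap_map_of_isPrime_disjoint (Submonoid.powers g) S' inferInstance hdisj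
  set q' := q.map (algebraMap S S')
  haveI hq'o : q'.LiesOver m := ⟨by
    rw [Ideal.under, IsScalarTower.algebraMap_eq R S S', ← Ideal.comap_comap, hcomap]
    exact hq.over⟩
  have heq : e ∉ q' := fun heq => by
    have hle : RingHom.ker (Ideal.Quotient.mk (Ideal.span ({e} : Set S'))) ≤ q' := by
      rw [Ideal.mk_ker, Ideal.span_le, Set.singleton_subset_iff]; exact heq
    haveI : (q'.map (Ideal.Quotient.mk (Ideal.span ({e} : Set S')))).IsPrime :=
      Ideal.map_isPrime_of_surjective Ideal.Quotient.mk_surjective hle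
    haveI : Algebra.QuasiFinite R (S' ⧸ Ideal.span ({e} : Set S')) :=
      Algebra.QuasiFinite.of_surjective_algHom (Ideal.Quotient.mkₐ R _) Ideal.Quotient.mk_surjective
    refine hno (q'.map (Ideal.Quotient.mk (Ideal.span ({e} : Set S')))) ⟨?_⟩ inferInstance
    rw [Ideal.under, IsScalarTower.algebraMap_eq R S' (S' ⧸ Ideal.span ({e} : Set S')), ← Ideal.comap_comap,
      Ideal.Quotient.algebraMap_eq, Ideal.comap_map_of_surjective' _ Ideal.Quotient.mk_surjective, sup_eq_left.2 hle]
    exact hq'o.over
  let L := S' ⧸ Ideal.span ({1 - e} : Set S')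
  haveI := hLfin
  haveI : IsLocalization.Away e L :=
    IsLocalization.away_of_isIdempotentElem he Ideal.mk_ker Ideal.Quotient.mk_surjective
  haveI : Algebra.Etale S' L := Algebra.Etale.of_isLocalizationAway e
  haveI : Algebra.Etale R L := Algebra.Etale.comp R S' L
  haveI : Nontrivial L := Ideal.Quotient.nontrivial_iff.2 fun htop => hq'.ne_top (top_le_iff.1 (htop ▸ by
    rw [Ideal.span_le, Set.singleton_subset_iff]
    refine (hq'.mem_or_mem ?_).resolve_left heq
    rw [mul_sub, mul_one, he.eq, sub_self]; exact q'.zero_mem))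
  let π : S →+* L := (Ideal.Quotient.mk _).comp (algebraMap S S')
  have hpt : ∀ M : Ideal L, M.IsMaximal → M.comap π = q := fun M hM => by
    haveI := hM
    refine huniq _ (Ideal.IsPrime.comap π) ?_ fun hgM => ?_
    · rw [Ideal.comap_comap]
      have : π.comp (algebraMap R S) = algebraMap R L := by
        rw [IsScalarTower.algebraMap_eq R S' L, IsScalarTower.algebraMap_eq R S S']; rfl
      rw [this]
      exact IsLocalRing.eq_maximalIdeal (Ideal.isMaximal_comap_of_isIntegral_of_isMaximal M)
    · exact hM.ne_top (Ideal.eq_top_of_isUnit_mem _ hgM ((IsLocalization.Away.algebraMap_isUnit (S := S') g).map (Ideal.Quotient.mk _)))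
  haveI : IsLocalRing L := by
    obtain ⟨M₀, hM₀⟩ := Ideal.exists_maximal L
    refine IsLocalRing.of_unique_max_ideal ⟨M₀, hM₀, fun M hM => ?_⟩
    refine Ideal.comap_injective_of_surjective _ Ideal.Quotient.mk_surjective ?_
    have h1 := (hpt M hM).trans (hpt M₀ hM₀).symm
    simp only [π, ← Ideal.comap_comap] at h1
    rw [← IsLocalization.map_comap (Submonoid.powers g) S' (M.comap (Ideal.Quotient.mk _)),
      ← IsLocalization.map_comap (Submonoid.powers g) S' (M₀.comap (Ideal.Quotient.mk _))]
    exact congrArg _ h1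
  haveI : IsLocalHom (algebraMap R L) := ((IsLocalRing.local_hom_TFAE (algebraMap R L)).out 0 4).2
    (IsLocalRing.eq_maximalIdeal (Ideal.isMaximal_comap_of_isIntegral_of_isMaximal (R := R) (IsLocalRing.maximalIdeal L)))
  have hres : Function.Surjective (algebraMap (IsLocalRing.ResidueField R) (IsLocalRing.ResidueField L)) := by
    intro z
    obtain ⟨y, rfl⟩ := IsLocalRing.residue_surjective z
    obtain ⟨y, rfl⟩ := Ideal.Quotient.mk_surjective y
    obtain ⟨a, s, rfl⟩ := IsLocalization.exists_mk'_eq (Submonoid.powers g) y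
    have hS : ∀ b : S, ∃ r : R, IsLocalRing.residue L (π b) = algebraMap R (IsLocalRing.ResidueField L) r := fun b => by
      obtain ⟨r, hr⟩ := hsurj (algebraMap S q.ResidueField b)
      refine ⟨r, ?_⟩
      rw [IsScalarTower.algebraMap_apply R L (IsLocalRing.ResidueField L), IsLocalRing.ResidueField.algebraMap_eq,
        ← sub_eq_zero, ← map_sub, IsLocalRing.residue_eq_zero_iff]
      rw [IsScalarTower.algebraMap_apply R S q.ResidueField, ← sub_eq_zero, ← map_sub,
        Ideal.algebraMap_residueField_eq_zero] at hr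
      have h2 : algebraMap R S r - b ∈ (IsLocalRing.maximalIdeal L).comap π := by
        rw [hpt _ (IsLocalRing.maximalIdeal.isMaximal L)]; exact hr
      rw [Ideal.mem_comap, map_sub] at h2
      have h3 := (IsLocalRing.maximalIdeal L).neg_mem h2
      rw [neg_sub] at h3
      convert h3 using 2
      rw [IsScalarTower.algebraMap_apply R S' L, IsScalarTower.algebraMap_apply R S S']
      rfl
    obtain ⟨r₁, hr₁⟩ := hS a
    obtain ⟨r₂, hr₂⟩ := hS s.1
    have hu : IsUnit (π s.1) := (IsLocalization.map_units S' s).map (Ideal.Quotient.mk _)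
    refine ⟨IsLocalRing.residue R r₁ / IsLocalRing.residue R r₂, ?_⟩
    have e1 : ∀ r : R, algebraMap (IsLocalRing.ResidueField R) (IsLocalRing.ResidueField L) (IsLocalRing.residue R r) =
        algebraMap R (IsLocalRing.ResidueField L) r := fun _ => rfl
    rw [map_div₀, e1, e1, ← hr₁, ← hr₂, div_eq_iff (hu.map (IsLocalRing.residue L)).ne_zero]
    change IsLocalRing.residue L _ = IsLocalRing.residue L _ * IsLocalRing.residue L _
    rw [← map_mul]
    congr 1
    change _ = Ideal.Quotient.mk _ _ * Ideal.Quotient.mk _ _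
    rw [← map_mul, IsLocalization.mk'_spec]
    rfl
  haveI : Algebra.IsSeparable (IsLocalRing.ResidueField R) (IsLocalRing.ResidueField L) :=
    ⟨fun z => by obtain ⟨w, rfl⟩ := hres z; exact isSeparable_algebraMap w⟩
  have hmap := Algebra.FormallyUnramified.map_maximalIdeal (R := R) (S := L)
  have hsurjL : Function.Surjective (algebraMap R L) := by
    have key : (⊤ : Submodule R L) ≤ LinearMap.range (Algebra.linearMap R L) := by
      refine Submodule.le_of_le_smul_of_le_jacobson_bot Module.Finite.fg_top
        (IsLocalRing.maximalIdeal_le_jacobson (⊥ : Ideal R)) fun y _ => ?_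
      obtain ⟨r, hr⟩ := hres (IsLocalRing.residue L y)
      obtain ⟨r, rfl⟩ := IsLocalRing.residue_surjective r
      rw [IsLocalRing.ResidueField.algebraMap_residue] at hr
      refine Submodule.mem_sup.2 ⟨algebraMap R L r, ⟨r, rfl⟩, y - algebraMap R L r, ?_, by abel⟩
      have h1 : y - algebraMap R L r ∈ IsLocalRing.maximalIdeal L := by
        rw [← IsLocalRing.residue_eq_zero_iff, map_sub, hr, sub_self]
      rw [← hmap] at h1
      rwa [Ideal.smul_top_eq_map]
    exact fun a => key Submodule.mem_top
  haveI : Module.FaithfullyFlat R L := Module.FaithfullyFlat.of_flat_of_isLocalHom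
  have hinj : Function.Injective (algebraMap R L) := FaithfulSMul.algebraMap_injective R L
  exact ⟨((AlgEquiv.ofBijective (Algebra.ofId R L) ⟨hinj, hsurjL⟩).symm.toAlgHom.comp
    ((Ideal.Quotient.mkₐ R _).comp (IsScalarTower.toAlgHom R S S')))⟩

end Groth.Agent.S12222
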