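import Groth.Statements.S12224
import Groth.Agent.EtConsShriek.Main
import Groth.Agent.EtConsShriek.HD

set_option autoImplicit false
universe u
open CategoryTheory CategoryTheory.Limits AlgebraicGeometry Opposite
attribute [local instance] HasDerivedCategory.standard
open EtModD

namespace Groth.Agent.S12224

/-- Let Λ be a Noetherian ring and j : U → X an étale morphism of schemes which is quasi-compact and
quasi-separated. If M is an object of D(U_et, Λ) with constructible cohomology sheaves, then j_!M
has constructible cohomology sheaves; here j_! on derived categories is induced by the exact functor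
extension by zero on sheaves of Λ-modules (its left exactness is carried as an instance hypothesis,
as is the continuity of V ↦ (V → U → X) on small étale sites; both always hold). -/
theorem result (Λ : Type (u + 1)) [CommRing Λ] [IsNoetherianRing Λ]
    {U X : Scheme.{u}} (j : U ⟶ X) [Etale j] [QuasiCompact j] [QuasiSeparated j] [EtShriek.JCont j]
    [PreservesFiniteLimits (EtSix.extZeroMod Λ j)] (M : EtModD.D Λ U)
    (hM : ∀ i : ℤ, EtModW.IsConstructible Λ (EtModD.HD M i)) (i : ℤ) :
    EtModW.IsConstructible Λ (EtModD.HD ((EtSix.extZeroMod Λ j).mapDerivedCategory.obj M) i) := by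
  haveI : PreservesFiniteColimits (EtSix.extZeroMod Λ j) :=
    haveI : (EtDl.extZeroMod Λ j).IsLeftAdjoint := (EtDl.extZeroModAdj Λ j).isLeftAdjoint
    inferInstanceAs (PreservesFiniteColimits (EtDl.extZeroMod Λ j))
  exact Groth.Agent.EtTrivGen.IsConstructible.ofIso
    ((Groth.Agent.EtConsShriek.homologyDerIso (EtSix.extZeroMod Λ j) i).app M).symm
    (Groth.Agent.EtConsShriek.isConstructible_extZeroMod j (hM i))

end Groth.Agent.S12224
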