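import Groth.Statements.S12226
import Groth.Agent.DepthExtend.Basic

set_option autoImplicit false
set_option backward.isDefEq.respectTransparency false
set_option backward.isDefEq.respectTransparency.types false
universe u
open CategoryTheory CategoryTheory.Limits AlgebraicGeometry TopologicalSpace
open LocCoh

namespace Groth.Agent.S12226

/-- Let j : U → X be the inclusion of an open subscheme of a Noetherian scheme X and F a coherent
O_X-module such that F' = j_*(F|_U) is coherent. Then (a) for every point x of X outside U the stalk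
F'_x has depth at least 2 over O_{X,x}, and (b) F → F' is the unique map with these properties: for
every coherent O_X-module G and every map φ : F → G whose restriction to U is an isomorphism and
such that depth(G_x) ≥ 2 for all x outside U, there is exactly one map ψ : G → F' whose composite
with φ is the canonical map F → j_*(F|_U), and this ψ is an isomorphism. (The compatibility of this
construction with flat base change is not part of this statement.) -/
theorem result (X : Scheme.{u}) [IsNoetherian X] (U : X.Opens)
    (F : X.Modules) (hF : Coh.IsCoh F) (hF' : Coh.IsCoh ((Coh.push U.ι).obj (F.restrict U.ι))) :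
    (∀ x : ↥X, x ∉ U → (2 : ℕ∞) ≤ LocCoh.depth (X.presheaf.stalk x)
        (((Coh.push U.ι).obj (F.restrict U.ι)).presheaf.stalk x)) ∧
    ∀ (G : X.Modules) (hG : Coh.IsCoh G) (φ : F ⟶ G),
      IsIso ((Scheme.Modules.restrictFunctor U.ι).map φ) →
      (∀ x : ↥X, x ∉ U → (2 : ℕ∞) ≤ LocCoh.depth (X.presheaf.stalk x) (G.presheaf.stalk x)) →
        (∃! ψ : G ⟶ (Coh.push U.ι).obj (F.restrict U.ι),
            φ ≫ ψ = (Scheme.Modules.restrictAdjunction U.ι).unit.app F) ∧
          ∀ ψ : G ⟶ (Coh.push U.ι).obj (F.restrict U.ι),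
            φ ≫ ψ = (Scheme.Modules.restrictAdjunction U.ι).unit.app F → IsIso ψ := by
  refine ⟨fun x hx => DepthExtend.two_le_depth_push U _ hF' x hx, fun G hG φ hφ hd => ?_⟩
  let adj := Scheme.Modules.restrictAdjunction U.ι
  haveI := hφ
  haveI := RefStalk.isIso_unit_of_depth hG U hd
  let ψ₀ : G ⟶ (Coh.push U.ι).obj (F.restrict U.ι) :=
    adj.unit.app G ≫ (Scheme.Modules.pushforward U.ι).map (inv ((Scheme.Modules.restrictFunctor U.ι).map φ))
  have h0 : φ ≫ ψ₀ = adj.unit.app F := by
    refine (Category.assoc _ _ _).symm.trans ((congrArg (· ≫ _) (adj.unit.naturality φ)).trans ?_)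
    refine (Category.assoc _ _ _).trans ((congrArg (adj.unit.app F ≫ ·) ?_).trans (Category.comp_id _))
    refine ((Scheme.Modules.pushforward U.ι).map_comp _ _).symm.trans ?_
    rw [IsIso.hom_inv_id]
    exact CategoryTheory.Functor.map_id _ _
  have huniq : ∀ ψ : G ⟶ (Coh.push U.ι).obj (F.restrict U.ι), φ ≫ ψ = adj.unit.app F → ψ = ψ₀ := fun ψ hψ => by
    apply (adj.homEquiv _ _).symm.injective
    rw [← cancel_epi ((Scheme.Modules.restrictFunctor U.ι).map φ)]
    refine (adj.homEquiv_naturality_left_symm φ ψ).symm.trans (Eq.trans ?_ (adj.homEquiv_naturality_left_symm φ ψ₀))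
    rw [hψ, h0]
  refine ⟨⟨ψ₀, h0, huniq⟩, fun ψ hψ => ?_⟩
  rw [huniq ψ hψ]
  exact IsIso.comp_isIso

end Groth.Agent.S12226
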