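import Groth.Statements.S12231
import Groth.Agent.RG.Dev.FibreDimBC
import Groth.Agent.RG.Dev.Spread

set_option autoImplicit false
open Groth.Agent
open TensorProduct
attribute [local instance] Algebra.TensorProduct.rightAlgebra
universe u
open TensorProduct
open FlatMor

namespace Groth.Agent.S12231

/-- All schemes are affine here, as in the ambient rendering of a one-step dévissage. Let R → S be a
ring map of finite type, N a finite S-module, p a prime of R and (C, D, G, n) a one-step dévissage
of N/S/R over p — C a finitely presented quotient of S with a finite C-module G identified with N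
over S, D an R-algebra smooth of relative dimension n with geometrically irreducible fibres and a
finite map D → C over R, n the dimension of the support of the fibre module of N over p. Let R → R'
be a ring map, p' a prime of R' over p, and let S', C', D' be the base changes of S, C, D to R'
(pushout squares, with the R'-algebra maps S' → C' ← D' induced from S → C ← D) and N' = N ⊗_S S',
G' = G ⊗_C C' (base-change maps f, g). Then (C', D', G', n) is a one-step dévissage of N'/S'/R' over
p'. -/
theorem result
    (R S : Type u) [CommRing R] [CommRing S] [Algebra R S] [Algebra.FiniteType R S]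
    (N : Type u) [AddCommGroup N] [Module S N] [Module R N] [IsScalarTower R S N] [Module.Finite S N]
    (p : Ideal R) [p.IsPrime]
    (C D G : Type u) [CommRing C] [CommRing D] [Algebra S C] [Algebra R C] [IsScalarTower R S C]
    [Algebra R D] [Algebra D C] [IsScalarTower R D C] [AddCommGroup G] [Module C G] [Module S G]
    [IsScalarTower S C G] (n : ℕ)
    (h : FlatCA.IsOneStepDevissage R S N p C D G n)
    (R' : Type u) [CommRing R'] [Algebra R R'] (p' : Ideal R') [p'.IsPrime] [p'.LiesOver p]
    (S' C' D' : Type u) [CommRing S'] [CommRing C'] [CommRing D']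
    [Algebra R' S'] [Algebra R S'] [Algebra S S'] [IsScalarTower R R' S'] [IsScalarTower R S S']
    [Algebra.IsPushout R R' S S']
    [Algebra R' C'] [Algebra R C'] [Algebra C C'] [IsScalarTower R R' C'] [IsScalarTower R C C']
    [Algebra.IsPushout R R' C C']
    [Algebra R' D'] [Algebra R D'] [Algebra D D'] [IsScalarTower R R' D'] [IsScalarTower R D D']
    [Algebra.IsPushout R R' D D']
    [Algebra S' C'] [IsScalarTower R' S' C'] [Algebra S C'] [IsScalarTower S S' C'] [IsScalarTower S C C']
    [Algebra D' C'] [IsScalarTower R' D' C'] [Algebra D C'] [IsScalarTower D D' C'] [IsScalarTower D C C']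
    (N' : Type u) [AddCommGroup N'] [Module S' N'] [Module R' N'] [IsScalarTower R' S' N']
    [Module S N'] [IsScalarTower S S' N'] (f : N →ₗ[S] N') (hf : IsBaseChange S' f)
    (G' : Type u) [AddCommGroup G'] [Module C' G'] [Module S' G'] [IsScalarTower S' C' G']
    [Module C G'] [IsScalarTower C C' G'] (g : G →ₗ[C] G') (hg : IsBaseChange C' g) :
    FlatCA.IsOneStepDevissage R' S' N' p' C' D' G' n := by
  classical
  obtain ⟨⟨eN⟩, hsurj, hfpC, hDC, hCG, hsm, hirr, hdim⟩ := h
  haveI := hDC
  haveI := hCG
  haveI := hfpC
  haveI : Algebra.IsPushout R S R' S' := Algebra.IsPushout.symm inferInstance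
  haveI : Algebra.IsPushout R D R' D' := Algebra.IsPushout.symm inferInstance
  haveI : Algebra.IsPushout R C R' C' := Algebra.IsPushout.symm inferInstance
  haveI : IsScalarTower R S' C' := IsScalarTower.of_algebraMap_eq fun r => by
    rw [IsScalarTower.algebraMap_apply R R' S', ← IsScalarTower.algebraMap_apply R' S' C',
      ← IsScalarTower.algebraMap_apply R R' C']
  haveI : IsScalarTower R D' C' := IsScalarTower.of_algebraMap_eq fun r => by
    rw [IsScalarTower.algebraMap_apply R R' D', ← IsScalarTower.algebraMap_apply R' D' C',
      ← IsScalarTower.algebraMap_apply R R' C']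
  haveI : Algebra.IsPushout S C S' C' := (Algebra.IsPushout.comp_iff R S R' S' (T := C) (T' := C')).1 inferInstance
  haveI : Algebra.IsPushout D C D' C' := (Algebra.IsPushout.comp_iff R D R' D' (T := C) (T' := C')).1 inferInstance
  haveI : Algebra.IsPushout S S' C C' := Algebra.IsPushout.symm inferInstance
  haveI : Algebra.IsPushout D D' C C' := Algebra.IsPushout.symm inferInstance
  have hC : IsBaseChange S' (IsScalarTower.toAlgHom S C C').toLinearMap := Algebra.IsPushout.out
  refine ⟨⟨?_⟩, ?_, ?_, ?_, ?_, ?_, ?_, ?_⟩
  · exact hf.equiv.symm ≪≫ₗ TensorProduct.AlgebraTensorModule.congr (LinearEquiv.refl S' S') eN ≪≫ₗ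
      ((Algebra.IsPushout.cancelBaseChange S S' C C' G).symm ≪≫ₗ (hg.equiv.restrictScalars S'))
  · exact @RingHom.surjective_isStableUnderBaseChange S C S' C' _ _ _ _ _ _ _ _ _ _ _ ‹_› hsurj
  · exact Algebra.FinitePresentation.equiv (Algebra.IsPushout.equiv S S' C C')
  · exact Module.Finite.equiv (Algebra.IsPushout.equiv D D' C C').toLinearEquiv
  · exact Module.Finite.equiv hg.equiv
  · have hp := AlgebraicGeometry.isPullback_SpecMap_of_isPushout _ _ _ _ (CommRingCat.isPushout_of_isPushout R R' D D')
    haveI := AlgebraicGeometry.smoothOfRelativeDimension_isStableUnderBaseChange (n := n)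
    exact CategoryTheory.MorphismProperty.of_isPullback
      (P := @AlgebraicGeometry.SmoothOfRelativeDimension n) hp.flip hsm
  · have hp := AlgebraicGeometry.isPullback_SpecMap_of_isPushout _ _ _ _ (CommRingCat.isPushout_of_isPushout R R' D D')
    exact CategoryTheory.MorphismProperty.of_isPullback
      (P := @AlgebraicGeometry.GeometricallyIrreducible) hp.flip hirr
  · rw [← hdim]
    letI : Algebra S (p'.Fiber S') := ((algebraMap S' (p'.Fiber S')).comp (algebraMap S S')).toAlgebra
    haveI : IsScalarTower S S' (p'.Fiber S') := IsScalarTower.of_algebraMap_eq fun _ => rfl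
    let eA : p'.Fiber S' ⊗[S'] N' ≃ₗ[p'.Fiber S'] p'.Fiber S' ⊗[S] N :=
      TensorProduct.AlgebraTensorModule.congr (LinearEquiv.refl _ _) hf.equiv.symm ≪≫ₗ
        TensorProduct.AlgebraTensorModule.cancelBaseChange S S' (p'.Fiber S') (p'.Fiber S') N
    refine (Module.supportDim_eq_of_equiv eA).trans ?_
    haveI : IsScalarTower R S (p'.Fiber S') := IsScalarTower.of_algebraMap_eq fun r => by
      show _ = algebraMap S' (p'.Fiber S') (algebraMap S S' (algebraMap R S r))
      rw [← IsScalarTower.algebraMap_apply R S S', IsScalarTower.algebraMap_apply R R' S',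
        ← IsScalarTower.algebraMap_apply R' S' (p'.Fiber S'), ← IsScalarTower.algebraMap_apply R R' (p'.Fiber S')]
    haveI : IsScalarTower R S' (p'.Fiber S') := IsScalarTower.of_algebraMap_eq fun r => by
      rw [IsScalarTower.algebraMap_apply R R' S', ← IsScalarTower.algebraMap_apply R' S' (p'.Fiber S'),
        ← IsScalarTower.algebraMap_apply R R' (p'.Fiber S')]
    letI : Algebra p.ResidueField p'.ResidueField :=
      (Ideal.ResidueField.map p p' (algebraMap R R') (Ideal.LiesOver.over (p := p) (P := p'))).toAlgebra
    haveI : IsScalarTower R p.ResidueField p'.ResidueField := IsScalarTower.of_algebraMap_eq fun r => by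
      rw [RingHom.algebraMap_toAlgebra, Ideal.ResidueField.map_algebraMap, ← IsScalarTower.algebraMap_apply]
    haveI : Algebra.IsPushout R p'.ResidueField S (p'.Fiber S') :=
      (Algebra.IsPushout.comp_iff R R' S S' (T := p'.ResidueField) (T' := p'.Fiber S')).2 inferInstance
    exact RG.Dev.supportDim_pushout_field_extension R p.ResidueField p'.ResidueField S (p.Fiber S) (p'.Fiber S') N

end Groth.Agent.S12231
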