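import Groth.Statements.S12232
import Groth.Agent.KInj.Adjunction
import Groth.Agent.KInj.Existence
import Mathlib.CategoryTheory.Monad.Adjunction
import Mathlib.CategoryTheory.Abelian.GrothendieckCategory.ModuleEmbedding.GabrielPopescu

set_option autoImplicit false
universe w w' v u
open CategoryTheory CategoryTheory.Limits
open CohDer

namespace Groth.Agent.S12232

/-- Let C be a Grothendieck abelian category, U a generator, R = End(U)ᵒᵖ, G = Hom(U, −) : C → Mod_R and
F : Mod_R → C its left adjoint, which is exact and makes G fully faithful (Gabriel–Popescu). Then on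
derived categories F : D(Mod_R) → D(C) (induced by the exact functor F) is left adjoint to the total
right derived functor RG : D(C) → D(Mod_R), RG is fully faithful, and F ∘ RG ≅ id. Existence of the
adjunction and of the isomorphism is asserted (the derived unit/counit are not named); the existence
of RG and the exactness and additivity of F are carried as instance hypotheses, all of which hold. -/
theorem result {C : Type u} [Category.{v} C] [Abelian C]
    [IsGrothendieckAbelian.{v} C] [HasDerivedCategory.{w} C] (U : C) (hU : IsSeparator U)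
    [HasDerivedCategory.{w'} (ModuleCat.{v} (End U)ᵐᵒᵖ)]
    [(IsGrothendieckAbelian.tensorObj U).Additive] [PreservesFiniteLimits (IsGrothendieckAbelian.tensorObj U)]
    [PreservesFiniteColimits (IsGrothendieckAbelian.tensorObj U)]
    [((preadditiveCoyonedaObj U).mapHomotopyCategory (ComplexShape.up ℤ) ⋙ DerivedCategory.Qh).HasRightDerivedFunctor
      (HomotopyCategory.quasiIso C (ComplexShape.up ℤ))] :
    let RG := ((preadditiveCoyonedaObj U).mapHomotopyCategory (ComplexShape.up ℤ) ⋙ DerivedCategory.Qh).totalRightDerived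
      DerivedCategory.Qh (HomotopyCategory.quasiIso C (ComplexShape.up ℤ))
    let LF := (IsGrothendieckAbelian.tensorObj U).mapDerivedCategory
    Nonempty (LF ⊣ RG) ∧ RG.Full ∧ RG.Faithful ∧
      Nonempty (RG ⋙ LF ≅ 𝟭 (DerivedCategory C)) := by
  intro RG LF
  haveI := IsGrothendieckAbelian.GabrielPopescu.full U hU
  haveI : (preadditiveCoyonedaObj U).Faithful := (isSeparator_iff_faithful_preadditiveCoyonedaObj U).1 hU
  let adj := IsGrothendieckAbelian.tensorObjPreadditiveCoyonedaObjAdjunction U
  have hK : ∀ K : CochainComplex C ℤ, ∃ (I : CochainComplex C ℤ) (f : K ⟶ I), I.IsKInjective ∧ QuasiIso f := fun K => by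
    obtain ⟨I, f, hI, hf, -⟩ := Groth.Agent.KInj.exists_kInjective K
    exact ⟨I, f, hI, hf⟩
  let W := HomotopyCategory.quasiIso C (ComplexShape.up ℤ)
  let F₁ := (preadditiveCoyonedaObj U).mapHomotopyCategory (ComplexShape.up ℤ) ⋙ DerivedCategory.Qh
  let α := F₁.totalRightDerivedUnit DerivedCategory.Qh W
  obtain ⟨adjD⟩ := Groth.Agent.KInj.nonempty_adj_Qh adj hK RG α
  haveI : IsIso adj.counit := Adjunction.counit_isIso_of_R_fully_faithful _
  let adjK := Groth.Agent.KInj.mapHomotopyCategoryAdj adj (ComplexShape.up ℤ)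
  haveI : IsIso adjK.counit := by
    haveI : ∀ K, IsIso (adjK.counit.app K) := fun K => by
      haveI : IsIso ((Groth.Agent.KInj.mapHomologicalComplexAdj adj (ComplexShape.up ℤ)).counit.app K.as) := by
        haveI : ∀ i, IsIso (((Groth.Agent.KInj.mapHomologicalComplexAdj adj (ComplexShape.up ℤ)).counit.app K.as).f i) :=
          fun i => inferInstanceAs (IsIso (adj.counit.app (K.as.X i)))
        exact HomologicalComplex.Hom.isIso_of_components _
      exact inferInstanceAs (IsIso ((HomotopyCategory.quotient C (ComplexShape.up ℤ)).map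
        ((Groth.Agent.KInj.mapHomologicalComplexAdj adj (ComplexShape.up ℤ)).counit.app K.as)))
    exact NatIso.isIso_of_isIso_app _
  let c : F₁ ⋙ LF ≅ DerivedCategory.Qh :=
    Functor.associator _ _ _ ≪≫
      Functor.isoWhiskerLeft _ (IsGrothendieckAbelian.tensorObj U).mapDerivedCategoryFactorsh ≪≫
      (Functor.associator _ _ _).symm ≪≫ Functor.isoWhiskerRight (asIso adjK.counit) DerivedCategory.Qh ≪≫
      Functor.leftUnitor _
  let α' : F₁ ⋙ LF ⟶ DerivedCategory.Qh ⋙ (RG ⋙ LF) := Functor.whiskerRight α LF ≫ (Functor.associator _ _ _).hom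
  let β : F₁ ⋙ LF ⟶ DerivedCategory.Qh ⋙ 𝟭 (DerivedCategory C) := c.hom ≫ (Functor.rightUnitor _).inv
  have hd := Groth.Agent.KInj.isDeforming_Qh hK (F₁ ⋙ LF)
  haveI : RG.IsRightDerivedFunctor α W := inferInstance
  haveI : (RG ⋙ LF).IsRightDerivedFunctor α' W := hd.isRightDerivedFunctor W _ _ fun I hI => by
    haveI := (Groth.Agent.KInj.isDeforming_Qh hK F₁).isIso_app W RG α hI
    simp only [α', NatTrans.comp_app, Functor.associator_hom_app, Functor.whiskerRight_app, Category.comp_id]
    infer_instance
  haveI : (𝟭 (DerivedCategory C)).IsRightDerivedFunctor β W := hd.isRightDerivedFunctor W _ _ fun I _ =>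
    inferInstanceAs (IsIso (β.app I))
  let j : RG ⋙ LF ≅ 𝟭 (DerivedCategory C) := Functor.rightDerivedUnique _ _ α' β W
  have hff := adjD.fullyFaithfulROfCompIsoId j
  exact ⟨⟨adjD⟩, hff.full, hff.faithful, ⟨j⟩⟩

end Groth.Agent.S12232
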