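import Groth.Statements.S12233
import Groth.Agent.TorFlat.Basic
import Groth.Agent.LocalCrit.Criterion

set_option autoImplicit false
universe u
open scoped TensorProduct
open CAlg

namespace Groth.Agent.S12233


open TensorProduct

theorem ker_of_baseChange {S S' M M' P N : Type u} [CommRing S] [CommRing S'] [CommRing P] [Algebra S S']
    [Algebra P S'] [AddCommGroup M] [Module S M] [AddCommGroup M'] [Module S' M'] [Module S M']
    [IsScalarTower S S' M'] [AddCommGroup N] [Module P N] [Algebra S P] [IsScalarTower S P S']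
    [Module S N] [IsScalarTower S P N] (W : Submonoid P) [IsLocalization W S']
    (f : M →ₗ[S] M') (hf : IsBaseChange S' f) (one : M →ₗ[S] N) (ν : N →+ M')
    (hν1 : ∀ (p : P) (m : M), ν (p • one m) = algebraMap P S' p • f m)
    (hgen : Submodule.span P (Set.range one) = ⊤) (y : N) (hy : ν y = 0) :
    ∃ w ∈ W, w • y = 0 := by
  let L0 := LocalizedModule W N
  letI : Module S' L0 := LocalizedModule.moduleOfIsLocalization
  haveI : IsScalarTower P S' L0 := inferInstance
  haveI : IsScalarTower S P L0 := inferInstance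
  haveI : IsScalarTower S S' L0 := IsScalarTower.of_algebraMap_smul fun s x => by
    rw [IsScalarTower.algebraMap_apply S P S', IsScalarTower.algebraMap_smul, IsScalarTower.algebraMap_smul]
  let g0 : M →ₗ[S] L0 := ((LocalizedModule.mkLinearMap W N).restrictScalars S).comp one
  let Φ := hf.lift g0
  have hΦ : ∀ z, Φ (ν z) = LocalizedModule.mkLinearMap W N z := by
    intro z
    have hz : z ∈ Submodule.span P (Set.range one) := by rw [hgen]; trivial
    refine Submodule.span_induction (p := fun z _ => ∀ p : P, Φ (ν (p • z)) =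
      p • LocalizedModule.mkLinearMap W N z) ?_ ?_ ?_ ?_ hz 1 |>.trans (one_smul P _) |> fun h => by
        rwa [one_smul] at h
    · rintro _ ⟨m, rfl⟩ p
      rw [hν1, map_smul, hf.lift_eq, IsScalarTower.algebraMap_smul]
      rfl
    · intro p; simp
    · intro a b _ _ ha hb p
      rw [smul_add, map_add, map_add, ha, hb, map_add, smul_add]
    · intro c a _ ha p
      rw [smul_smul, ha, map_smul, smul_smul]
  have h0 := hΦ y
  rw [hy, map_zero] at h0
  obtain ⟨w, hw⟩ := (IsLocalizedModule.eq_zero_iff W (LocalizedModule.mkLinearMap W N)).1 h0.symm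
  exact ⟨w, w.2, hw⟩

/-- Let R → S, R → R', S → S' and R' → S' be local homomorphisms of Noetherian local rings forming a
commutative square, I ⊊ R an ideal, M a finite S-module, I' = IR' and M' = M ⊗_S S' (given through a
base-change map f : M → M'). Assume (1) S' is a localization of S ⊗_R R' via the induced map, (2)
M/IM is flat over R/I, and (3) the map Tor_1^R(M, R/I) → Tor_1^{R'}(M', R'/I') is zero — with
Tor_1(−, R/I) computed as the kernel of I ⊗_R M → M, this says that every element of that kernel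
goes to zero under the natural map I ⊗_R M → I' ⊗_{R'} M'. Then M' is flat over R'. -/
theorem result
    (R S R' S' : Type u) [CommRing R] [CommRing S] [CommRing R'] [CommRing S']
    [IsLocalRing R] [IsLocalRing S] [IsLocalRing R'] [IsLocalRing S']
    [IsNoetherianRing R] [IsNoetherianRing S] [IsNoetherianRing R'] [IsNoetherianRing S']
    [Algebra R S] [Algebra R R'] [Algebra S S'] [Algebra R' S'] [Algebra R S']
    [IsScalarTower R S S'] [IsScalarTower R R' S']
    [IsLocalHom (algebraMap R S)] [IsLocalHom (algebraMap R R')] [IsLocalHom (algebraMap S S')]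
    [IsLocalHom (algebraMap R' S')]
    (I : Ideal R) (hI : I ≠ ⊤) (M : Type u) [AddCommGroup M] [Module S M] [Module R M] [IsScalarTower R S M]
    [Module.Finite S M]
    (M' : Type u) [AddCommGroup M'] [Module S' M'] [Module R' M'] [IsScalarTower R' S' M']
    [Module S M'] [IsScalarTower S S' M'] [Module R M'] [IsScalarTower R R' M'] [IsScalarTower R S M']
    (f : M →ₗ[S] M') (hf : IsBaseChange S' f)
    (h1 : ∃ W : Submonoid (S ⊗[R] R'),
      letI : Algebra (S ⊗[R] R') S' :=
        (Algebra.TensorProduct.lift (IsScalarTower.toAlgHom R S S') (IsScalarTower.toAlgHom R R' S')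
          (fun s r => Commute.all _ _)).toRingHom.toAlgebra;
      IsLocalization W S')
    (h2 : Module.Flat (R ⧸ I) ((R ⧸ I) ⊗[R] M))
    (h3 : ∀ x : ↥I ⊗[R] M, (Submodule.subtype I).rTensor M x = 0 →
      (TensorProduct.mapOfCompatibleSMul R' R R ↥(I.map (algebraMap R R')) M')
        ((TensorProduct.map (Algebra.idealMap R' I) (f.restrictScalars R)) x) = 0) :
    Module.Flat R' M' := by
  obtain ⟨W, hW⟩ := h1
  let P := S ⊗[R] R'
  letI : Algebra P S' :=
    (Algebra.TensorProduct.lift (IsScalarTower.toAlgHom R S S') (IsScalarTower.toAlgHom R R' S')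
      (fun s r => Commute.all _ _)).toRingHom.toAlgebra
  have hP : ∀ (s : S) (r : R'), algebraMap P S' (s ⊗ₜ r) = algebraMap S S' s * algebraMap R' S' r :=
    fun s r => Algebra.TensorProduct.lift_tmul _ _ (fun s r => Commute.all _ _) s r
  haveI : IsLocalization W S' := hW
  haveI : IsScalarTower S P S' := IsScalarTower.of_algebraMap_eq fun s => by
    rw [Algebra.TensorProduct.algebraMap_apply, hP]
    simp
  haveI : Module.Finite S' M' := by
    haveI : Module.Finite S' (S' ⊗[S] M) := inferInstance
    exact Module.Finite.equiv hf.equiv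
  let I' : Ideal R' := I.map (algebraMap R R')
  -- N and its endomorphisms
  let fR : M →ₗ[R] M' := f.restrictScalars R
  let ν : (R' ⊗[R] M) →ₗ[R'] M' := fR.liftBaseChange R'
  have hν : ∀ (r : R') (m : M), ν (r ⊗ₜ m) = r • f m := fun r m => LinearMap.liftBaseChange_tmul _ _ _ _
  let eN : P →ₐ[R] Module.End R' (R' ⊗[R] M) :=
    Algebra.TensorProduct.lift ((Module.End.baseChangeHom R R' M).comp (Algebra.lsmul R R M))
      (Algebra.lsmul R R' (R' ⊗[R] M)) (fun s r => LinearMap.ext fun y => by
        simp only [Module.End.mul_apply, AlgHom.comp_apply]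
        exact LinearMap.map_smul _ r y)
  have heN : ∀ (s : S) (r r₀ : R') (m : M), eN (s ⊗ₜ r) (r₀ ⊗ₜ m) = (r * r₀) ⊗ₜ (s • m) := by
    intro s r r₀ m
    rw [show eN (s ⊗ₜ[R] r) = _ * _ from Algebra.TensorProduct.lift_tmul _ _ _ s r, Module.End.mul_apply]
    rfl
  let ρN : W →* Module.End R' (R' ⊗[R] M) := eN.toMonoidHom.comp W.subtype
  let ρL : W →* Module.End R' M' :=
    (Algebra.lsmul R' R' M' : S' →ₐ[R'] _).toMonoidHom.comp
      ((algebraMap P S').toMonoidHom.comp W.subtype)
  have hcomm : ∀ (p : S ⊗[R] R') y, ν (eN p y) = algebraMap P S' p • ν y := by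
    intro p y
    induction p using TensorProduct.induction_on with
    | zero => simp
    | add a b ha hb => simp only [map_add, LinearMap.add_apply, add_smul, ha, hb]
    | tmul s r =>
      induction y with
      | zero => simp
      | add a b ha hb => simp only [map_add, smul_add, ha, hb]
      | tmul r₀ m =>
        rw [heN, hν, hν, hP, map_smul, ← IsScalarTower.algebraMap_smul S' r₀ (f m), ← IsScalarTower.algebraMap_smul S' s (f m),
          ← IsScalarTower.algebraMap_smul S' (r * r₀), smul_smul, smul_smul]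
        congr 1
        rw [map_mul]
        ring
  have hfrac : TorFlat.IsFrac ρN ρL ν := by
    refine ⟨fun w => ?_, fun w y => hcomm w y, fun z => ?_, fun y hy => ?_⟩
    · obtain ⟨u, hu⟩ := IsLocalization.map_units S' w
      show Function.Bijective fun z : M' => algebraMap P S' w • z
      refine ⟨fun a b hab => ?_, fun z => ⟨(u⁻¹ : S'ˣ) • z, ?_⟩⟩
      · have hab' : (u : S') • a = (u : S') • b := by rw [hu]; exact hab
        exact u.isUnit.smul_left_cancel.1 hab'
      · show algebraMap P S' w • ((u⁻¹ : S'ˣ) : S') • z = z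
        rw [← hu, smul_smul, Units.mul_inv, one_smul]
    · suffices h : ∀ c : S', ∃ (w : W) (y : R' ⊗[R] M), algebraMap P S' w • c • z = ν y by
        obtain ⟨w, y, hy⟩ := h 1
        exact ⟨w, y, by rw [one_smul] at hy; exact hy⟩
      induction z using hf.inductionOn with
      | zero => exact fun c => ⟨1, 0, by simp⟩
      | tmul m =>
        intro c
        obtain ⟨⟨p, w⟩, hpw⟩ := IsLocalization.surj W c
        refine ⟨w, eN p (1 ⊗ₜ m), ?_⟩
        rw [hcomm, hν, one_smul, smul_smul, ← hpw, mul_comm]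
      | smul a z hz =>
        intro c
        obtain ⟨w, y, hy⟩ := hz (c * a)
        exact ⟨w, y, by rw [← hy, mul_smul]⟩
      | add a b ha hb =>
        intro c
        obtain ⟨w, y, hy⟩ := ha c
        obtain ⟨v, x, hx⟩ := hb c
        refine ⟨w * v, eN v y + eN w x, ?_⟩
        rw [map_add, hcomm, hcomm, ← hy, ← hx, Submonoid.coe_mul, map_mul]
        simp only [smul_add, smul_smul]
        congr 2 <;> ring
    · letI : Module P (R' ⊗[R] M) := Module.compHom _ eN.toRingHom
      letI : Module S (R' ⊗[R] M) := Module.compHom _ (algebraMap S P)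
      haveI : IsScalarTower S P (R' ⊗[R] M) := IsScalarTower.of_algebraMap_smul fun _ _ => rfl
      have hS : ∀ (s : S) (y : R' ⊗[R] M), s • y = eN (s ⊗ₜ 1) y := fun s y => rfl
      let one : M →ₗ[S] (R' ⊗[R] M) :=
        { toFun := fun m => 1 ⊗ₜ m
          map_add' := fun a b => tmul_add _ _ _
          map_smul' := fun s m => by
            rw [hS, RingHom.id_apply, heN, one_mul] }
      obtain ⟨w, hw, hwy⟩ := ker_of_baseChange W f hf one ν.toAddMonoidHom (fun p m => by
          show ν (eN p (1 ⊗ₜ m)) = _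
          rw [hcomm, hν, one_smul]) (by
          rw [eq_top_iff]
          rintro y -
          induction y with
          | zero => exact zero_mem _
          | add a b ha hb => exact add_mem ha hb
          | tmul r m =>
            have : r ⊗ₜ[R] m = ((1 : S) ⊗ₜ[R] r : P) • one m := by
              show _ = eN _ _
              simp only [one, LinearMap.coe_mk, AddHom.coe_mk]
              rw [heN, mul_one, one_smul]
            rw [this]
            exact Submodule.smul_mem _ _ (Submodule.subset_span ⟨m, rfl⟩)) y hy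
      exact ⟨⟨w, hw⟩, hwy⟩
  -- the quotient is flat
  have hq : Module.Flat (R' ⧸ I') ((R' ⧸ I') ⊗[R'] M') := by
    let g := Ideal.quotientMap I' (algebraMap R R') Ideal.le_comap_map
    letI : Algebra (R ⧸ I) (R' ⧸ I') := g.toAlgebra
    haveI : IsScalarTower R (R ⧸ I) (R' ⧸ I') := IsScalarTower.of_algebraMap_eq fun r => rfl
    haveI : Module.Flat (R' ⧸ I') ((R' ⧸ I') ⊗[R'] (R' ⊗[R] M)) := by
      have e1 : (R' ⧸ I') ⊗[R'] (R' ⊗[R] M) ≃ₗ[R' ⧸ I'] (R' ⧸ I') ⊗[R] M :=
        AlgebraTensorModule.cancelBaseChange R R' (R' ⧸ I') (R' ⧸ I') M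
      have e2 : (R' ⧸ I') ⊗[R ⧸ I] ((R ⧸ I) ⊗[R] M) ≃ₗ[R' ⧸ I'] (R' ⧸ I') ⊗[R] M :=
        AlgebraTensorModule.cancelBaseChange R (R ⧸ I) (R' ⧸ I') (R' ⧸ I') M
      haveI := h2
      exact Module.Flat.of_linearEquiv (e1.trans e2.symm)
    have hb := hfrac.baseChange I'
    exact hb.flat
  -- injectivity of the multiplication map
  refine LocalCrit.flat_of_quotient_flat S' I' (fun h => ?_) ?_ hq
  · refine (IsLocalRing.maximalIdeal.isMaximal R').ne_top (top_le_iff.1 (h.ge.trans ?_))
    rw [Ideal.map_le_iff_le_comap]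
    exact fun r hr => (IsLocalRing.mem_maximalIdeal _).2
      (map_nonunit (algebraMap R R') r (IsLocalRing.le_maximalIdeal hI hr))
  rw [injective_iff_map_eq_zero]
  intro z hz
  let incl : M →ₗ[R] R' ⊗[R] M := TensorProduct.mk R R' M 1
  let φ : ↥I ⊗[R] M →ₗ[R] ↥I' ⊗[R'] (R' ⊗[R] M) :=
    (TensorProduct.mapOfCompatibleSMul R' R R ↥I' (R' ⊗[R] M)) ∘ₗ TensorProduct.map (Algebra.idealMap R' I) incl
  let ξ : (↥I ⊗[R] M) ⊗[R] R' →ₗ[R] ↥I' ⊗[R'] (R' ⊗[R] M) :=
    TensorProduct.lift ((Algebra.lsmul R R (↥I' ⊗[R'] (R' ⊗[R] M)) : R' →ₐ[R] _).toLinearMap.flip ∘ₗ φ)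
  have hξ : ∀ (i : I) (m : M) (r : R'),
      ξ ((i ⊗ₜ m) ⊗ₜ r) = r • (Algebra.idealMap R' I i ⊗ₜ[R'] ((1 : R') ⊗ₜ[R] m)) := fun i m r => rfl
  have hξs : ∀ x, ∃ t, ξ t = x := by
    intro x
    have hsmul : ∀ (r : R') t, ∃ t', ξ t' = r • ξ t := by
      intro r t
      induction t with
      | zero => exact ⟨0, by simp⟩
      | add a b ha hb =>
        obtain ⟨a', ha⟩ := ha
        obtain ⟨b', hb⟩ := hb
        exact ⟨a' + b', by rw [map_add, ha, hb, map_add, smul_add]⟩
      | tmul q r₀ =>
        refine ⟨q ⊗ₜ (r * r₀), ?_⟩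
        show (r * r₀) • φ q = r • (r₀ • φ q)
        rw [mul_smul]
    induction x with
    | zero => exact ⟨0, by simp⟩
    | add a b ha hb =>
      obtain ⟨a', ha⟩ := ha
      obtain ⟨b', hb⟩ := hb
      exact ⟨a' + b', by rw [map_add, ha, hb]⟩
    | tmul i' n =>
      obtain ⟨i', hi'⟩ := i'
      induction n with
      | zero => exact ⟨0, by simp⟩
      | add a b ha hb =>
        obtain ⟨a', ha⟩ := ha
        obtain ⟨b', hb⟩ := hb
        exact ⟨a' + b', by rw [map_add, ha, hb, tmul_add]⟩
      | tmul r m =>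
        suffices h : ∃ t, ξ t = (⟨i', hi'⟩ : I') ⊗ₜ[R'] ((1 : R') ⊗ₜ[R] m) by
          obtain ⟨t, ht⟩ := h
          obtain ⟨t', ht'⟩ := hsmul r t
          refine ⟨t', ?_⟩
          rw [ht', ht, ← TensorProduct.tmul_smul, smul_tmul', smul_eq_mul, mul_one]
        induction hi' using Submodule.span_induction with
        | mem a ha =>
          obtain ⟨a, ha, rfl⟩ := ha
          refine ⟨((⟨a, ha⟩ : I) ⊗ₜ m) ⊗ₜ 1, ?_⟩
          rw [hξ, one_smul]
          rfl
        | zero => exact ⟨0, by rw [map_zero]; exact (TensorProduct.zero_tmul _ _).symm⟩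
        | add a b ha' hb' ha hb =>
          obtain ⟨a', ha⟩ := ha
          obtain ⟨b', hb⟩ := hb
          exact ⟨a' + b', by rw [map_add, ha, hb, ← TensorProduct.add_tmul]; rfl⟩
        | smul c a ha' ha =>
          obtain ⟨a', ha⟩ := ha
          obtain ⟨t', ht'⟩ := hsmul c a'
          exact ⟨t', by rw [ht', ha, smul_tmul']; rfl⟩
  have hμξ : ∀ t, LocalCrit.mulMap I' (R' ⊗[R] M) (ξ t) =
      TensorProduct.comm R M R' ((LocalCrit.mulMap I M).rTensor R' t) := by
    intro t
    induction t with
    | zero => simp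
    | add a b ha hb => simp only [map_add, ha, hb]
    | tmul q r =>
      induction q with
      | zero => simp
      | add a b ha hb => simp only [add_tmul, map_add, ha, hb]
      | tmul i m =>
        rw [hξ, map_smul, LocalCrit.mulMap_tmul, LinearMap.rTensor_tmul, LocalCrit.mulMap_tmul,
          TensorProduct.comm_tmul, smul_tmul', smul_tmul', smul_eq_mul, smul_eq_mul, mul_one,
          TensorProduct.tmul_smul, smul_tmul']
        congr 1
        rw [Algebra.smul_def, mul_comm]
        rfl
  obtain ⟨w, y, hy⟩ := hfrac.surj_lTensor I' z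
  have hgy : ν (LocalCrit.mulMap I' _ y) = 0 := by
    rw [← LocalCrit.mulMap_lTensor, ← hy, LocalCrit.mulMap_lTensor, hz, map_zero]
  obtain ⟨v, hv⟩ := hfrac.ker _ hgy
  rw [← LocalCrit.mulMap_lTensor] at hv
  obtain ⟨x, hx⟩ := hξs ((ρN v).lTensor I' y)
  rw [← hx, hμξ, LinearEquiv.map_eq_zero_iff] at hv
  haveI := h2
  have hkey := TorFlat.kill_ker I (((ν.lTensor I').restrictScalars R) ∘ₗ ξ) ?_ ?_ x hv
  · have h0 : ν.lTensor I' ((ρN v).lTensor I' y) = 0 := hx ▸ hkey
    rw [hfrac.comm_lTensor, ← hy] at h0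
    exact (hfrac.unit_lTensor I' w).1 ((hfrac.unit_lTensor I' v).1 (by rw [h0, map_zero, map_zero]))
  · intro t ht r
    have he : ∀ t, ν.lTensor I' (φ t) = (TensorProduct.mapOfCompatibleSMul R' R R ↥I' M')
        ((TensorProduct.map (Algebra.idealMap R' I) (f.restrictScalars R)) t) := by
      intro t
      induction t with
      | zero => simp
      | add a b ha hb => simp only [map_add, ha, hb]
      | tmul i m =>
        show _ ⊗ₜ[R'] ν (1 ⊗ₜ m) = _
        rw [hν, one_smul]
        rfl
    show ν.lTensor I' (r • φ t) = 0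
    rw [map_smul, he, h3 t ?_, smul_zero]
    apply (TensorProduct.lid R M).injective
    rw [map_zero]
    exact ht
  · intro k hk m
    let e : ↥I ⊗[R] R' →ₗ[R] ↥I' :=
      TensorProduct.lift ((Algebra.lsmul R R ↥I' : R' →ₐ[R] _).toLinearMap.flip ∘ₗ Algebra.idealMap R' I)
    have he : ∀ k, ν.lTensor I' (ξ (TensorProduct.rightComm R I R' M (k ⊗ₜ m))) = e k ⊗ₜ[R'] f m := by
      intro k
      induction k with
      | zero => simp
      | add a b ha hb => simp only [add_tmul, map_add, ha, hb]
      | tmul i r =>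
        show ν.lTensor I' (r • (Algebra.idealMap R' I i ⊗ₜ[R'] ((1 : R') ⊗ₜ[R] m))) = _
        rw [map_smul, LinearMap.lTensor_tmul, hν, one_smul, smul_tmul']
        rfl
    have he0 : ∀ k, ((e k : I') : R') = LocalCrit.mulMap I R' k := by
      intro k
      induction k with
      | zero => simp
      | add a b ha hb => simp only [map_add, Submodule.coe_add, ha, hb]
      | tmul i r =>
        rw [LocalCrit.mulMap_tmul, Algebra.smul_def, mul_comm]
        rfl
    show ν.lTensor I' (ξ _) = 0
    rw [he, show e k = 0 from Subtype.ext ((he0 k).trans hk), TensorProduct.zero_tmul]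

end Groth.Agent.S12233
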