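import Groth.Statements.S12234
import Groth.Agent.BigPBC.Vanish

set_option autoImplicit false
open CategoryTheory CategoryTheory.Limits AlgebraicGeometry Opposite
universe u
open BigSite

namespace Groth.Agent.S12234

/-- Let f : T → S be a proper morphism of schemes and F a torsion abelian sheaf on the small étale site
of T. Then for every q the abelian sheaves π_S⁻¹(R^q f_small,* F) and R^q f_big,*(π_T⁻¹ F) on the
big étale site of S are isomorphic, where π⁻¹ is the pullback from the small to the big étale site.
Existence of an isomorphism only; this is what the comparison π_S⁻¹ Rf_small,* K = Rf_big,* π_T⁻¹ K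
for complexes K with torsion cohomology gives on cohomology sheaves for K = F placed in degree 0. -/
theorem result {T S : Scheme.{u}} (f : T ⟶ S) [IsProper f]
    (F : EtCoh.Ab T) (hF : EtCoh.IsTorsion F) (q : ℕ) :
    Nonempty ((BigSite.piEtPull Scheme.etalePrecoverage S).obj ((EtCoh.Rpush f q).obj F) ≅
      (BigSite.RpushBig Scheme.etalePrecoverage f q).obj ((BigSite.piEtPull Scheme.etalePrecoverage T).obj F)) := by
  exact Groth.Agent.BigPBC.nonempty_bigEt f F (Groth.Agent.EtPBC.isLTorsion_univ_of_isTorsion hF) q

end Groth.Agent.S12234
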