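import Groth.Statements.S12235
import Groth.Agent.S1585
import Groth.Agent.GenusInsep.Bar
import Groth.Agent.NormBC.Irred

set_option autoImplicit false
universe u
open CategoryTheory CategoryTheory.Limits AlgebraicGeometry
open Curves

set_option backward.isDefEq.respectTransparency false
set_option backward.isDefEq.respectTransparency.types false

namespace Groth.Agent.S12235

/-- Let k be a field, X a proper geometrically irreducible curve over k (proper over k, integral, of
dimension one), K/k a field extension and Y_K the normalization of the reduction of X_K (that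
reduction is integral). If Y_K is smooth over K then H^0(Y_K, O) = K: the global functions of Y_K
form a one-dimensional K-vector space. (Stated for proper X; the instance hypotheses on (X_K)_red
always hold.) -/
theorem result (k : Type u) [Field k] (X : Scheme.{u})
    [X.Over (Spec (CommRingCat.of k))] [IsIntegral X] [IsProper (X ↘ (Spec (CommRingCat.of k)))]
    [GeometricallyIrreducible (X ↘ (Spec (CommRingCat.of k)))] (hdim : topologicalKrullDim X = 1)
    (K : Type u) [Field K] [Algebra k K] [IsIntegral ((Curv2.bc k X K).nilradical).subscheme]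
    [QuasiCompact ((((Curv2.bc k X K).nilradical).subscheme).fromSpecStalk (genericPoint ((Curv2.bc k X K).nilradical).subscheme))]
    [QuasiSeparated ((((Curv2.bc k X K).nilradical).subscheme).fromSpecStalk (genericPoint ((Curv2.bc k X K).nilradical).subscheme))]
    (hsm : Smooth (Curv2.normalizationι ((Curv2.bc k X K).nilradical).subscheme ≫ ((Curv2.bc k X K).nilradical).subschemeι ≫ Curv2.bcSnd k X K)) :
    letI : (Curv2.normalization ((Curv2.bc k X K).nilradical).subscheme).Over (Spec (CommRingCat.of K)) := ⟨(Curv2.normalizationι ((Curv2.bc k X K).nilradical).subscheme ≫ ((Curv2.bc k X K).nilradical).subschemeι ≫ Curv2.bcSnd k X K)⟩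
    Module.finrank K (Coh.HH (Curv2.normalization ((Curv2.bc k X K).nilradical).subscheme) (Coh.structureModule (Curv2.normalization ((Curv2.bc k X K).nilradical).subscheme)) 0) = 1 := by
  classical
  set Z := ((Curv2.bc k X K).nilradical).subscheme with hZ
  let r : Z ⟶ Curv2.bc k X K := ((Curv2.bc k X K).nilradical).subschemeι
  let ν := Curv2.normalizationι Z
  letI : Z.Over (Spec (CommRingCat.of K)) := ⟨r ≫ Curv2.bcSnd k X K⟩
  haveI : IsProper (Curv2.bcSnd k X K) := inferInstanceAs (IsProper (pullback.snd _ _))
  haveI : IsProper (Z ↘ Spec (CommRingCat.of K)) := inferInstanceAs (IsProper (r ≫ Curv2.bcSnd k X K))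
  obtain ⟨hfin, -, ⟨V, hVne, hViso⟩, hint, -⟩ := Groth.Agent.S1585.result K Z
  haveI : IsFinite ν := hfin
  haveI : IsIntegral (Curv2.normalization Z) := hint
  haveI : IsIso (ν ∣_ V) := hViso
  have hr : Set.range r = Set.univ := by
    rw [Scheme.IdealSheafData.range_subschemeι, Scheme.support_nilradical]; rfl
  have hW : ((ν ⁻¹ᵁ V : (Curv2.normalization Z).Opens) : Set (Curv2.normalization Z)).Nonempty := by
    obtain ⟨z, hz⟩ := hVne
    obtain ⟨w, -⟩ := (ν ∣_ V).surjective ⟨z, hz⟩
    exact ⟨w.1, w.2⟩
  have hcomp : (ν ⁻¹ᵁ V).ι ≫ ν ≫ r = (ν ∣_ V) ≫ V.ι ≫ r := by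
    rw [morphismRestrict_ι_assoc]
  haveI : IsImmersion ((ν ⁻¹ᵁ V).ι ≫ ν ≫ r) := by rw [hcomp]; infer_instance
  have hopen : IsOpen (Set.range ((ν ⁻¹ᵁ V).ι ≫ ν ≫ r)) := by
    rw [hcomp]
    have he : Topology.IsOpenEmbedding r := ⟨r.isEmbedding, by rw [hr]; exact isOpen_univ⟩
    simp only [Scheme.Hom.comp_base, TopCat.coe_comp]
    rw [Set.range_comp, Set.range_eq_univ.2 (ν ∣_ V).surjective, Set.image_univ, Set.range_comp,
      Scheme.Opens.range_ι]
    exact he.isOpenMap _ V.isOpen
  haveI : GeometricallyIrreducible (Curv2.bcSnd k X K) :=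
    inferInstanceAs (GeometricallyIrreducible (pullback.snd _ _))
  have hgi := Groth.Agent.NormBC.geometricallyIrreducible_of_open (Curv2.bcSnd k X K) (ν ≫ r)
    (ν ⁻¹ᵁ V) hW hopen
  letI : (Curv2.normalization Z).Over (Spec (CommRingCat.of K)) := ⟨ν ≫ r ≫ Curv2.bcSnd k X K⟩
  haveI : IsProper (Curv2.normalization Z ↘ Spec (CommRingCat.of K)) :=
    inferInstanceAs (IsProper (ν ≫ r ≫ Curv2.bcSnd k X K))
  haveI : Smooth (Curv2.normalization Z ↘ Spec (CommRingCat.of K)) := hsm
  haveI : GeometricallyConnected (Curv2.normalization Z ↘ Spec (CommRingCat.of K)) := by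
    haveI : GeometricallyIrreducible (Curv2.normalization Z ↘ Spec (CommRingCat.of K)) := by
      rw [Category.assoc] at hgi
      exact hgi
    exact Groth.Agent.GeomConn.geometricallyConnected_of_irreducible _
  exact (Groth.Agent.GenusInsep.facts_bar (k := K) (X := Curv2.normalization Z)).2

end Groth.Agent.S12235
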