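import Groth.Statements.S12238
import Groth.Agent.BigSiteLib.PiPush
import Groth.Agent.EtIntegral.Push
import Groth.Agent.S6686

set_option autoImplicit false
set_option linter.style.haveILetI false
set_option backward.isDefEq.respectTransparency false

open CategoryTheory CategoryTheory.Limits AlgebraicGeometry Opposite
universe u
open BigSite

namespace Groth.Agent.S12238

/-- Let f : T → S be a finite morphism of schemes and F an arbitrary abelian sheaf on the small étale
site of T. Then for every q the abelian sheaves π_S⁻¹(R^q f_small,* F) and R^q f_big,*(π_T⁻¹ F) on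
the big étale site of S are isomorphic, where π⁻¹ denotes pullback from the small to the big étale
site. Existence of an isomorphism only; this is what the comparison π_S⁻¹ Rf_small,* K = Rf_big,*
π_T⁻¹ K, valid for every complex K when f is finite, gives on cohomology sheaves for K = F placed in
degree 0. -/
theorem result {T S : Scheme.{u}} (f : T ⟶ S) [IsFinite f]
    (F : EtCoh.Ab T) (q : ℕ) :
    Nonempty ((BigSite.piEtPull Scheme.etalePrecoverage S).obj ((EtCoh.Rpush f q).obj F) ≅
      (BigSite.RpushBig Scheme.etalePrecoverage f q).obj ((BigSite.piEtPull Scheme.etalePrecoverage T).obj F)) := by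
  haveI : (BigSite.piEtPull Scheme.etalePrecoverage S).IsLeftAdjoint := (BigSite.piEtAdj _ S).isLeftAdjoint
  haveI : (EtCoh.push f).IsRightAdjoint := (EtCoh.pullPushAdj f).isRightAdjoint
  haveI : (BigSite.pushBig Scheme.etalePrecoverage f AddCommGrpCat.{u + 1}).IsRightAdjoint :=
    (BigSite.bigAdj Scheme.etalePrecoverage f _).isRightAdjoint
  cases q with
  | zero =>
    haveI := Groth.Agent.BigSiteLib.isIso_theta (f := f) (G := F) Groth.Agent.BigSiteLib.geomFibreGen_of_isFinite
    exact ⟨(BigSite.piEtPull Scheme.etalePrecoverage S).mapIso ((EtCoh.push f).rightDerivedZeroIsoSelf.app F) ≪≫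
      asIso (Groth.Agent.BigSiteLib.theta f F) ≪≫
      ((BigSite.pushBig Scheme.etalePrecoverage f AddCommGrpCat.{u + 1}).rightDerivedZeroIsoSelf.app _).symm⟩
  | succ n =>
    refine ⟨(Functor.map_isZero _ (Groth.Agent.EtIntegral.Rpush_succ_isZero f F n)).iso ?_⟩
    let G := (BigSite.RpushBig Scheme.etalePrecoverage f (n + 1)).obj ((BigSite.piEtPull Scheme.etalePrecoverage T).obj F)
    have h : ∀ U : Over S, IsZero (G.obj.obj (op U)) := fun U => by
      haveI : IsFinite (pullback.fst U.hom f) := MorphismProperty.pullback_fst _ _ ‹_›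
      obtain ⟨e⟩ := Groth.Agent.S6686.result f U.hom _ _ (IsPullback.of_hasPullback U.hom f).flip
        ((BigSite.piEtPull Scheme.etalePrecoverage T).obj F) (n + 1)
      have hz := ((Groth.Agent.EtIntegral.Rpush_succ_isZero (pullback.fst U.hom f) _ n).of_iso e)
      refine IsZero.of_iso (Functor.map_isZero ((sheafToPresheaf _ _) ⋙ (evaluation _ _).obj (op (EtCoh.top U.left))) hz) ?_
      exact G.obj.mapIso (Iso.op (Over.isoMk (Iso.refl _) (by change 𝟙 _ ≫ U.hom = 𝟙 _ ≫ U.hom; rfl) :
        (Over.map U.hom).obj ((EtFppf.a U.left).obj (EtCoh.top U.left)) ≅ U))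
    rw [IsZero.iff_id_eq_zero]
    apply Sheaf.hom_ext
    ext U x
    exact congrArg (fun q : G.obj.obj U ⟶ G.obj.obj U => q x) ((h U.unop).eq_of_src (𝟙 _) 0)

end Groth.Agent.S12238
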