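import Groth.Statements.S1224
import Mathlib.RingTheory.Ideal.GoingUp
import Mathlib.RingTheory.IsTensorProduct
import Mathlib.RingTheory.TensorProduct.Maps
-- import your own Groth.Agent.* helpers here

set_option autoImplicit false
universe u
open FlatMor

namespace Groth.Agent.S1224

attribute [local instance] Algebra.TensorProduct.rightAlgebra in
theorem kill_fibre {R : Type u} [CommRing R] (p : Ideal R) [p.IsPrime] (S : Type u) [CommRing S]
    [Algebra R S] (N : Type u) [AddCommGroup N] [Module S N] [Module R N] [IsScalarTower R S N] (s : S)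
    (h : ∀ n : N, s • n = 0) (y : FlatCA.fiberMod p S N) :
    (Algebra.TensorProduct.includeRight (R := R) (A := p.ResidueField) (B := S)).toRingHom s • y = 0 := by
  have key : ∀ y : TensorProduct S (p.Fiber S) N, algebraMap S (p.Fiber S) s • y = 0 := by
    intro y
    induction y using TensorProduct.induction_on with
    | zero => exact smul_zero _
    | tmul a n => rw [algebraMap_smul, ← TensorProduct.tmul_smul, h, TensorProduct.tmul_zero]
    | add a b ha hb => rw [smul_add, ha, hb, add_zero]
  exact key y

attribute [local instance] Algebra.TensorProduct.rightAlgebra in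
theorem not_mem_fiberIdeal {R : Type u} [CommRing R] (p : Ideal R) [p.IsPrime] {S : Type u} [CommRing S]
    [Algebra R S] (P : Ideal S) [P.IsPrime] [P.LiesOver p] {s : S} (hs : s ∉ P) :
    (Algebra.TensorProduct.includeRight (R := R) (A := p.ResidueField) (B := S)).toRingHom s
      ∉ FlatCA.fiberIdeal p P := by
  let g : p.Fiber S →ₐ[R] P.ResidueField :=
    Algebra.TensorProduct.lift (Ideal.ResidueField.mapₐ p P (Algebra.ofId R S) (Ideal.LiesOver.over))
      (IsScalarTower.toAlgHom R S P.ResidueField) fun _ _ => Commute.all _ _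
  intro hmem
  have hle : FlatCA.fiberIdeal p P ≤ RingHom.ker g.toRingHom := by
    refine Ideal.map_le_iff_le_comap.2 fun x hx => ?_
    show g ((1 : p.ResidueField) ⊗ₜ[R] x) = 0
    rw [Algebra.TensorProduct.lift_tmul, map_one, one_mul]
    exact Ideal.algebraMap_residueField_eq_zero.2 hx
  have := hle hmem
  rw [RingHom.mem_ker] at this
  change g ((1 : p.ResidueField) ⊗ₜ[R] s) = 0 at this
  rw [Algebra.TensorProduct.lift_tmul, map_one, one_mul] at this
  exact hs (Ideal.algebraMap_residueField_eq_zero.1 this)

theorem finite_quotient (A B A' B' : Type u) [CommRing A] [CommRing B] [CommRing A'] [CommRing B']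
    [Algebra A B] [Algebra A A'] [Algebra B B'] [Algebra A' B'] [Algebra A B'] [IsScalarTower A B B']
    [IsScalarTower A A' B'] (hpush : Algebra.IsPushout A B A' B') (I : Ideal B) (P : Ideal B')
    (hIP : I.map (algebraMap B B') ≤ P) [Module.Finite A (B ⧸ I)] : Module.Finite A' (B' ⧸ P) := by
  classical
  obtain ⟨gs, hgs⟩ := (inferInstance : Module.Finite A (B ⧸ I)).fg_top
  let ι : B ⧸ I →ₐ[A] B' ⧸ P := Ideal.quotientMapₐ P (IsScalarTower.toAlgHom A B B')
    (Ideal.map_le_iff_le_comap.1 hIP)
  refine ⟨⟨gs.image ι, eq_top_iff.2 fun z _ => ?_⟩⟩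
  obtain ⟨z, rfl⟩ := Ideal.Quotient.mk_surjective z
  have hbc : IsBaseChange A' (IsScalarTower.toAlgHom A B B').toLinearMap := hpush.symm.out
  induction z using hbc.inductionOn with
  | zero => simp
  | tmul b =>
    show ι (Ideal.Quotient.mk I b) ∈ _
    have hb : Ideal.Quotient.mk I b ∈ Submodule.span A (gs : Set (B ⧸ I)) := by rw [hgs]; trivial
    have := Submodule.apply_mem_span_image_of_mem_span ι.toLinearMap hb
    rw [Finset.coe_image]
    exact Submodule.span_le_restrictScalars A A' _ this
  | smul a z hz =>
    rw [show Ideal.Quotient.mk P (a • z) = a • Ideal.Quotient.mk P z from rfl]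
    exact Submodule.smul_mem _ a (hz trivial)
  | add x y hx hy => rw [map_add]; exact add_mem (hx trivial) (hy trivial)


/-- Ring form, X = Spec B affine, where proper support means finite support: let B be a finite type
A-algebra and N a finite B-module such that B modulo the annihilator of N is finite over A. Then N
is universally pure relative to Spec A. -/
theorem result {A B : Type u} [CommRing A] [CommRing B] [Algebra A B] [Algebra.FiniteType A B]
    (N : Type u) [AddCommGroup N] [Module B N] [Module A N] [IsScalarTower A B N] [Module.Finite B N]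
    [Module.Finite A (B ⧸ Module.annihilator B N)] : FlatCA.IsUnivPure A B N := by
  intro p _ A' B' N' _ _ _ _ _ _ _ _ _ _ _ _ _ _ f t' t _ _ P _ h
  obtain ⟨hpush, hbc, hle, _, hP, hass, hno⟩ := h
  set I : Ideal B := Module.annihilator B N
  have hann : I.map (algebraMap B B') ≤ P := by
    have hkill : ∀ b ∈ I, ∀ y : N', algebraMap B B' b • y = 0 := by
      intro b hb y
      induction y using hbc.inductionOn with
      | zero => simp
      | tmul n => rw [IsScalarTower.algebraMap_smul, ← map_smul, Module.mem_annihilator.1 hb n, map_zero]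
      | smul s n hn => rw [smul_comm, hn, smul_zero]
      | add a c ha hc => rw [smul_add, ha, hc, add_zero]
    rw [Ideal.map_le_iff_le_comap]
    intro b hb
    have hzero : ∀ y : FlatCA.fiberMod t' B' N',
        (Algebra.TensorProduct.includeRight (R := A') (A := t'.ResidueField) (B := B')).toRingHom
          (algebraMap B B' b) • y = 0 := by
      intro y
      exact kill_fibre t' B' N' (algebraMap B B' b) (hkill b hb) y
    obtain ⟨hprime, x, hx⟩ := hass
    have hmem : (Algebra.TensorProduct.includeRight (R := A') (A := t'.ResidueField) (B := B')).toRingHom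
          (algebraMap B B' b) ∈ FlatCA.fiberIdeal t' P := by
      rw [hx]
      refine Ideal.le_radical ?_
      rw [Submodule.mem_colon_singleton, Submodule.mem_bot]
      exact hzero x
    rw [Ideal.mem_comap]
    by_contra hbP
    exact not_mem_fiberIdeal t' P hbP hmem
  haveI : Module.Finite A' (B' ⧸ P) := finite_quotient A B A' B' hpush I P hann
  haveI : Algebra.IsIntegral A' (B' ⧸ P) := inferInstance
  have hbot : (⊥ : Ideal (B' ⧸ P)).comap (algebraMap A' (B' ⧸ P)) ≤ t := by
    have : (⊥ : Ideal (B' ⧸ P)).comap (algebraMap A' (B' ⧸ P)) = P.comap (algebraMap A' B') := by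
      rw [IsScalarTower.algebraMap_eq A' B' (B' ⧸ P), ← Ideal.comap_comap,
        Ideal.Quotient.algebraMap_eq, ← RingHom.ker, Ideal.mk_ker]
    rw [this, ← Ideal.under_def, ← hP.over]
    exact hle
  obtain ⟨Q, _, hQ, hQt⟩ := Ideal.exists_ideal_over_prime_of_isIntegral t (⊥ : Ideal (B' ⧸ P)) hbot
  refine hno (Q.comap (Ideal.Quotient.mk P)) ?_ ⟨?_⟩
  · intro z hz
    rw [Ideal.mem_comap, Ideal.Quotient.eq_zero_iff_mem.2 hz]
    exact zero_mem Q
  · rw [Ideal.under_def, Ideal.comap_comap, ← hQt]
    rfl

end Groth.Agent.S1224
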