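import Groth.Statements.S12240
import Groth.Agent.S1585
import Groth.Agent.GenusInsep.Bar
import Groth.Agent.NormBC.Irred
import Groth.Agent.NormChar.Basic
import Groth.Agent.RedSepLib.Basic

set_option autoImplicit false
universe u
open CategoryTheory CategoryTheory.Limits AlgebraicGeometry
open Curves

set_option backward.isDefEq.respectTransparency false
set_option backward.isDefEq.respectTransparency.types false

namespace Groth.Agent.S12240

/-- Stated over the field where the nonsingular projective model is already smooth. Let K be a field and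
X a proper geometrically irreducible curve over K (proper over K, integral, of dimension one) whose
normalization Y = X^ν is smooth over K. Then for every field extension Ω of K the base change Y_Ω,
together with its map to X_Ω, is the normalization of the reduction (X_Ω)_red: there is an
isomorphism from Y_Ω to the normalization of (X_Ω)_red whose composite with the normalization map
and the closed immersion (X_Ω)_red → X_Ω is the base change Y_Ω → X_Ω of Y → X. (Applied to the
reduction of the base change of a geometrically irreducible proper curve to a field over which its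
nonsingular projective model becomes smooth, this says that the smooth model is compatible with all
further field extensions; the instance hypotheses on (X_Ω)_red — integrality and the two conditions
needed to form the normalization — always hold.) -/
theorem result (K : Type u) [Field K] (X : Scheme.{u})
    [X.Over (Spec (CommRingCat.of K))] [IsIntegral X] [IsProper (X ↘ (Spec (CommRingCat.of K)))]
    [GeometricallyIrreducible (X ↘ (Spec (CommRingCat.of K)))] (hdim : topologicalKrullDim X = 1)
    [QuasiCompact (X.fromSpecStalk (genericPoint X))] [QuasiSeparated (X.fromSpecStalk (genericPoint X))]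
    (hsm : Smooth (Curv2.normalizationι X ≫ (X ↘ (Spec (CommRingCat.of K)))))
    (Ω : Type u) [Field Ω] [Algebra K Ω]
    [IsIntegral ((Curv2.bc K X Ω).nilradical).subscheme]
    [QuasiCompact ((((Curv2.bc K X Ω).nilradical).subscheme).fromSpecStalk (genericPoint ((Curv2.bc K X Ω).nilradical).subscheme))]
    [QuasiSeparated ((((Curv2.bc K X Ω).nilradical).subscheme).fromSpecStalk (genericPoint ((Curv2.bc K X Ω).nilradical).subscheme))] :
    ∃ e : Limits.pullback (Curv2.normalizationι X ≫ (X ↘ (Spec (CommRingCat.of K))))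
          (Spec.map (CommRingCat.ofHom (algebraMap K Ω))) ≅
        Curv2.normalization ((Curv2.bc K X Ω).nilradical).subscheme,
      e.hom ≫ Curv2.normalizationι ((Curv2.bc K X Ω).nilradical).subscheme ≫ ((Curv2.bc K X Ω).nilradical).subschemeι =
        Limits.pullback.map (Curv2.normalizationι X ≫ (X ↘ (Spec (CommRingCat.of K))))
          (Spec.map (CommRingCat.ofHom (algebraMap K Ω))) (X ↘ (Spec (CommRingCat.of K)))
          (Spec.map (CommRingCat.ofHom (algebraMap K Ω))) (Curv2.normalizationι X) (𝟙 _) (𝟙 _)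
          (Category.comp_id _) ((Category.comp_id _).trans (Category.id_comp _).symm) := by
  classical
  set Z := ((Curv2.bc K X Ω).nilradical).subscheme with hZ
  let r : Z ⟶ Curv2.bc K X Ω := ((Curv2.bc K X Ω).nilradical).subschemeι
  let νX := Curv2.normalizationι X
  let sX := X ↘ Spec (CommRingCat.of K)
  let x := Spec.map (CommRingCat.ofHom (algebraMap K Ω))
  obtain ⟨hfin, -, ⟨V, hVne, hViso⟩, hint, -⟩ := Groth.Agent.S1585.result K X
  haveI : IsFinite νX := hfin
  haveI : IsIntegral (Curv2.normalization X) := hint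
  haveI : IsIso (νX ∣_ V) := hViso
  haveI : Smooth (νX ≫ sX) := hsm
  let P := pullback (νX ≫ sX) x
  let m : P ⟶ Curv2.bc K X Ω := pullback.map (νX ≫ sX) x sX x νX (𝟙 _) (𝟙 _) (by simp) (by simp)
  have hm : IsPullback (pullback.fst (νX ≫ sX) x) m νX (Curv2.bcFst K X Ω) := by
    refine IsPullback.of_bot ?_ (pullback.lift_fst _ _ _).symm (IsPullback.of_hasPullback sX x)
    simp only [m, pullback.lift_snd, Category.comp_id]
    exact IsPullback.of_hasPullback (νX ≫ sX) x
  haveI : IsFinite m := MorphismProperty.of_isPullback (P := @IsFinite) hm ‹_›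
  haveI : IsReduced P := Groth.Agent.SmoothRed.isReduced_of_smooth_scheme (pullback.snd (νX ≫ sX) x)
  have hr : Set.range r = Set.univ := by
    rw [Scheme.IdealSheafData.range_subschemeι, Scheme.support_nilradical]; rfl
  haveI : Surjective r := ⟨Set.range_eq_univ.1 hr⟩
  obtain ⟨b, hb⟩ := Groth.Agent.RedSepLib.exists_lift_of_isReduced m r (by rw [hr]; exact Set.subset_univ _)
  haveI : IsFinite b := by
    haveI : IsFinite (b ≫ r) := hb ▸ inferInstance
    exact IsFinite.of_comp b r
  let VΩ := Curv2.bcFst K X Ω ⁻¹ᵁ V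
  have t := isPullback_morphismRestrict νX V
  have s := (isPullback_morphismRestrict m VΩ).paste_vert hm.flip
  rw [← morphismRestrict_ι (Curv2.bcFst K X Ω) V] at s
  let q := t.lift ((m ∣_ VΩ) ≫ (Curv2.bcFst K X Ω ∣_ V)) ((m ⁻¹ᵁ VΩ).ι ≫ pullback.fst (νX ≫ sX) x)
    (by rw [Category.assoc]; exact s.w)
  have hq : IsPullback (m ∣_ VΩ) q (Curv2.bcFst K X Ω ∣_ V) (νX ∣_ V) :=
    IsPullback.of_bot (v₂₁ := (νX ⁻¹ᵁ V).ι) (by rw [t.lift_snd]; exact s) (t.lift_fst _ _ _).symm t
  haveI : IsIso (m ∣_ VΩ) :=
    MorphismProperty.of_isPullback (P := MorphismProperty.isomorphisms Scheme) hq.flip ‹_›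
  haveI : IsReduced (VΩ : Scheme.{u}) := isReduced_of_isOpenImmersion (inv (m ∣_ VΩ))
  haveI : IsClosedImmersion r := inferInstanceAs (IsClosedImmersion ((Curv2.bc K X Ω).nilradical).subschemeι)
  haveI : IsClosedImmersion (r ∣_ VΩ) := IsZariskiLocalAtTarget.restrict ‹IsClosedImmersion r› VΩ
  haveI : Surjective (r ∣_ VΩ) := IsZariskiLocalAtTarget.restrict ‹Surjective r› VΩ
  haveI : IsIso (r ∣_ VΩ) := isIso_of_isClosedImmersion_of_surjective _
  haveI : IsIso (b ∣_ (r ⁻¹ᵁ VΩ)) := by
    have hc : IsIso ((b ≫ r) ∣_ VΩ) := by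
      have key : ∀ g : P ⟶ Curv2.bc K X Ω, g = m → IsIso (g ∣_ VΩ) := fun g hg => by subst hg; infer_instance
      exact key _ hb
    rw [morphismRestrict_comp] at hc
    haveI := hc
    exact IsIso.of_isIso_comp_right _ (r ∣_ VΩ)
  haveI : Surjective x := Groth.Agent.GrpField.PointBase.surj _ _
  have hW : ((νX ⁻¹ᵁ V : (Curv2.normalization X).Opens) : Set (Curv2.normalization X)).Nonempty := by
    obtain ⟨z, hz⟩ := hVne
    obtain ⟨w, -⟩ := (νX ∣_ V).surjective ⟨z, hz⟩
    exact ⟨w.1, w.2⟩
  have hgi : GeometricallyIrreducible (νX ≫ sX) := by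
    haveI : IsImmersion ((νX ⁻¹ᵁ V).ι ≫ νX) := by rw [← morphismRestrict_ι]; infer_instance
    refine Groth.Agent.NormBC.geometricallyIrreducible_of_open sX νX (νX ⁻¹ᵁ V) hW ?_
    rw [← morphismRestrict_ι]
    exact ((νX ∣_ V) ≫ V.ι).isOpenEmbedding.isOpen_range
  haveI : IrreducibleSpace ↥P :=
    hgi.geometrically_irreducibleSpace x _ _ (IsPullback.of_hasPullback (νX ≫ sX) x)
  have hne : ((r ⁻¹ᵁ VΩ : Z.Opens) : Set Z).Nonempty := by
    obtain ⟨z, hz⟩ := hVne
    haveI : Surjective (Curv2.bcFst K X Ω) := inferInstanceAs (Surjective (pullback.fst _ _))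
    obtain ⟨z', hz'⟩ := (Curv2.bcFst K X Ω).surjective z
    obtain ⟨w, hw⟩ := r.surjective z'
    exact ⟨w, by show Curv2.bcFst K X Ω (r w) ∈ V; rw [hw, hz']; exact hz⟩
  have hne' : ((b ⁻¹ᵁ (r ⁻¹ᵁ VΩ) : P.Opens) : Set P).Nonempty := by
    obtain ⟨z, hz⟩ := hne
    obtain ⟨w, -⟩ := (b ∣_ (r ⁻¹ᵁ VΩ)).surjective ⟨z, hz⟩
    exact ⟨w.1, w.2⟩
  obtain ⟨_, hfib, hst⟩ := Groth.Agent.NormChar.birational_of_open Z b (r ⁻¹ᵁ VΩ)
    ((r ⁻¹ᵁ VΩ).isOpen.dense hne) ((b ⁻¹ᵁ (r ⁻¹ᵁ VΩ)).isOpen.dense hne')
  haveI := hst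
  have hn : Pi1.IsNormalScheme P := Groth.Agent.GenusInsep.normal_of_regular fun p =>
    Groth.Agent.SmLocalST.isRegularLocalRing_stalk_of_smooth_field (pullback.snd (νX ≫ sX) x) p
  obtain ⟨e, he⟩ := Groth.Agent.NormChar.exists_iso Z b hn hfib
  exact ⟨e, by rw [← Category.assoc]; exact he ▸ hb⟩

end Groth.Agent.S12240
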