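import Groth.Statements.S12244
import Groth.Agent.RG.Dev.FibreBij

set_option autoImplicit false
open Groth.Agent
open TensorProduct
attribute [local instance] Algebra.TensorProduct.rightAlgebra
universe u
open FlatMor

namespace Groth.Agent.S12244

open TensorProduct in
/-- All schemes are affine. Let R → S be of finite type, N a finite S-module, p ⊆ R and q ⊆ S primes, 𝒟
a complete dévissage of N/S/R over p in the prelude's algebraic form and 𝒜 a datum making it a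
complete dévissage at q (primes qB_i ⊆ B_i over p with purely transcendental residue fields, unique
primes qA_i ⊆ A_i over them, threaded through q and through the maps B_i → A_{i+1}, relative
dimensions d_i of R → B_i equal to the local dimension of the fibre support of M_i at qB_i). Let R →
R' be a ring map and p' a prime over p with κ(p) → κ(p') bijective, S' the base change of S, N' = N
⊗_S S', and q' a prime of S' over q and over p'. Let 𝒟' be a complete dévissage of N'/S'/R' over p'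
of the same length whose rings A'_i, B'_i (i below the length) are base changes of A_i, B_i along R
→ R' compatibly with B_i → A_i, B_i → A_{i+1}, S → A_0 and S' → A'_0, and whose modules M'_i are
base changes of M_i along A_i → A'_i compatibly with N ≅ M_0 and N' ≅ M'_0. Assume moreover that at
every index at or beyond the length the ring B'_i has a prime over p' and A'_i a prime over that one
(the structure's families run over all natural numbers and constrain nothing at those indices, while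
a datum at a point asks for such primes at every index; the condition touches only this
unconstrained tail and holds, for instance, when the tail repeats the last genuine step — without it
the zero ring could sit there and no datum would exist). Then 𝒟' is a complete dévissage at q' with
the same relative dimensions: there is a datum 𝒜' for (𝒟', q') with d' = d whose primes qB'_i, qA'_i
lie over qB_i, qA_i for every step i below the length. -/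
theorem result
    (R S : Type u) [CommRing R] [CommRing S] [Algebra R S] [Algebra.FiniteType R S]
    (N : Type u) [AddCommGroup N] [Module S N] [Module.Finite S N]
    (p : Ideal R) [p.IsPrime] (q : Ideal S) [q.IsPrime] (𝒟 : FlatCA.CompleteDevissage R S N p)
    (𝒜 : FlatCA.CompleteDevissageAt R S N p q 𝒟)
    (R' : Type u) [CommRing R'] [Algebra R R'] (p' : Ideal R') [p'.IsPrime] [hp' : p'.LiesOver p]
    (hκ : Function.Bijective (Ideal.ResidueField.mapₐ p p' (Algebra.ofId R R') hp'.over))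
    (S' : Type u) [CommRing S'] [Algebra R' S'] [Algebra R S'] [Algebra S S'] [IsScalarTower R R' S']
    [IsScalarTower R S S'] [Algebra.IsPushout R R' S S']
    (N' : Type u) [AddCommGroup N'] [Module S' N'] [Module S N'] [IsScalarTower S S' N']
    (f : N →ₗ[S] N') (hf : IsBaseChange S' f)
    (q' : Ideal S') [q'.IsPrime] [q'.LiesOver q] [q'.LiesOver p']
    (𝒟' : FlatCA.CompleteDevissage R' S' N' p') (hn : 𝒟'.n = 𝒟.n)
    (htail : ∀ i, 𝒟.n ≤ i → ∃ (Q : Ideal (𝒟'.B i)) (P : Ideal (𝒟'.A i)),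
      Q.IsPrime ∧ P.IsPrime ∧ Q.LiesOver p' ∧ P.LiesOver Q)
    [aA : ∀ i : Fin 𝒟.n, Algebra (𝒟.A i) (𝒟'.A i)] [rA : ∀ i : Fin 𝒟.n, Algebra R (𝒟'.A i)]
      [∀ i : Fin 𝒟.n, IsScalarTower R (R') (𝒟'.A i)] [∀ i : Fin 𝒟.n, IsScalarTower R (𝒟.A i) (𝒟'.A i)]
      [aB : ∀ i : Fin 𝒟.n, Algebra (𝒟.B i) (𝒟'.B i)] [rB : ∀ i : Fin 𝒟.n, Algebra R (𝒟'.B i)]
      [∀ i : Fin 𝒟.n, IsScalarTower R (R') (𝒟'.B i)] [∀ i : Fin 𝒟.n, IsScalarTower R (𝒟.B i) (𝒟'.B i)]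
      [bA : ∀ i : Fin 𝒟.n, Algebra (𝒟.B i) (𝒟'.A i)] [∀ i : Fin 𝒟.n, IsScalarTower (𝒟.B i) (𝒟.A i) (𝒟'.A i)]
      [∀ i : Fin 𝒟.n, IsScalarTower (𝒟.B i) (𝒟'.B i) (𝒟'.A i)]
      [bA' : ∀ i : Fin 𝒟.n, Algebra (𝒟.B i) (𝒟'.A (i + 1))]
      [∀ i : Fin 𝒟.n, IsScalarTower (𝒟.B i) (𝒟'.B i) (𝒟'.A (i + 1))]
      [sA : Algebra S (𝒟'.A 0)] [IsScalarTower S (S') (𝒟'.A 0)]
      [mA : ∀ i : Fin 𝒟.n, Module (𝒟.A i) (𝒟'.M i)] [∀ i : Fin 𝒟.n, IsScalarTower (𝒟.A i) (𝒟'.A i) (𝒟'.M i)]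
      (gM : ∀ i : Fin 𝒟.n, 𝒟.M i →ₗ[𝒟.A i] 𝒟'.M i)
    (hbc : (letI := aA ⟨0, 𝒟.pos⟩; IsScalarTower S (𝒟.A 0) (𝒟'.A 0)) ∧
      (∀ x : N, 𝒟'.isoN (f x) = gM ⟨0, 𝒟.pos⟩ (𝒟.isoN x)) ∧
      (∀ (i : Fin 𝒟.n) (h : (i : ℕ) + 1 < 𝒟.n),
        letI := aA ⟨i + 1, h⟩; IsScalarTower (𝒟.B i) (𝒟.A (i + 1)) (𝒟'.A (i + 1))) ∧
      ∀ i : Fin 𝒟.n,
        Algebra.IsPushout R R' (𝒟.A i) (𝒟'.A i) ∧ Algebra.IsPushout R R' (𝒟.B i) (𝒟'.B i) ∧
        IsBaseChange (𝒟'.A i) (gM i)) :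
    ∃ 𝒜' : FlatCA.CompleteDevissageAt R' S' N' p' q' 𝒟', 𝒜'.d = 𝒜.d ∧
      ∀ i : Fin 𝒟.n, (𝒜'.qB i).LiesOver (𝒜.qB i) ∧ (𝒜'.qA i).LiesOver (𝒜.qA i) := by
  classical
  have step : ∀ i : Fin 𝒟.n, ∃ (Q : Ideal (𝒟'.B i)) (P : Ideal (𝒟'.A i)), Q.IsPrime ∧ P.IsPrime ∧ Q.LiesOver p' ∧
      P.LiesOver Q ∧ Q.comap (algebraMap (𝒟.B i) (𝒟'.B i)) = 𝒜.qB i ∧
      P.comap (algebraMap (𝒟.A i) (𝒟'.A i)) = 𝒜.qA i := by
    intro i
    haveI := 𝒜.hqB i
    haveI := 𝒜.hqA i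
    haveI := 𝒜.overB i
    haveI := 𝒜.overA i
    haveI := (hbc.2.2.2 i).1
    haveI := (hbc.2.2.2 i).2.1
    haveI : (𝒜.qA i).LiesOver p := Ideal.LiesOver.trans (𝒜.qA i) (𝒜.qB i) p
    obtain ⟨Q, hQ1, hQ2, hQ3⟩ := RG.Dev.FibreBij.exists_liesOver p p' hκ (S' := 𝒟'.B i) (𝒜.qB i)
    obtain ⟨P, hP1, hP2, hP3⟩ := RG.Dev.FibreBij.exists_liesOver p p' hκ (S' := 𝒟'.A i) (𝒜.qA i)
    haveI := hQ1
    haveI := hQ2
    haveI := hP1
    haveI := hP2
    refine ⟨Q, P, hQ1, hP1, hQ2, ⟨?_⟩, hQ3.over.symm, hP3.over.symm⟩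
    haveI : (P.comap (algebraMap (𝒟'.B i) (𝒟'.A i))).LiesOver p' := ⟨by
      rw [Ideal.under, Ideal.comap_comap, ← IsScalarTower.algebraMap_eq]
      exact Ideal.LiesOver.over (p := p') (P := P)⟩
    refine (RG.Dev.FibreBij.eq_of_liesOver p p' hκ (𝒜.qB i) _ Q ⟨?_⟩ hQ3).symm
    rw [Ideal.under, Ideal.comap_comap, ← IsScalarTower.algebraMap_eq,
      IsScalarTower.algebraMap_eq (𝒟.B i) (𝒟.A i) (𝒟'.A i), ← Ideal.comap_comap]
    change _ = Ideal.comap _ (Ideal.under (𝒟.A i) P)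
    rw [← hP3.over]
    exact Ideal.LiesOver.over (p := 𝒜.qB i) (P := 𝒜.qA i)
  choose Q P hQp hPp hQo hPo hQc hPc using step
  choose Qt Pt hQtp hPtp hQto hPto using htail
  let qB' : ∀ i, Ideal (𝒟'.B i) := fun i => if h : i < 𝒟.n then Q ⟨i, h⟩ else Qt i (not_lt.1 h)
  let qA' : ∀ i, Ideal (𝒟'.A i) := fun i => if h : i < 𝒟.n then P ⟨i, h⟩ else Pt i (not_lt.1 h)
  have hB : ∀ i (h : i < 𝒟.n), qB' i = Q ⟨i, h⟩ := fun i h => dif_pos h
  have hA : ∀ i (h : i < 𝒟.n), qA' i = P ⟨i, h⟩ := fun i h => dif_pos h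
  haveI hqB' : ∀ i, (qB' i).IsPrime := fun i => by
    by_cases h : i < 𝒟.n
    · rw [hB i h]; exact hQp _
    · simp only [qB', dif_neg h]; exact hQtp _ _
  haveI hqA' : ∀ i, (qA' i).IsPrime := fun i => by
    by_cases h : i < 𝒟.n
    · rw [hA i h]; exact hPp _
    · simp only [qA', dif_neg h]; exact hPtp _ _
  haveI overB' : ∀ i, (qB' i).LiesOver p' := fun i => by
    by_cases h : i < 𝒟.n
    · rw [hB i h]; exact hQo _
    · simp only [qB', dif_neg h]; exact hQto _ _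
  haveI overA' : ∀ i, (qA' i).LiesOver (qB' i) := fun i => by
    by_cases h : i < 𝒟.n
    · rw [hB i h, hA i h]; exact hPo _
    · simp only [qB', qA', dif_neg h]; exact hPto _ _
  have hBover : ∀ (i : Fin 𝒟.n), (qB' i).comap (algebraMap (𝒟.B i) (𝒟'.B i)) = 𝒜.qB i := fun i => by
    rw [hB i i.2]; exact hQc i
  have hAover : ∀ (i : Fin 𝒟.n), (qA' i).comap (algebraMap (𝒟.A i) (𝒟'.A i)) = 𝒜.qA i := fun i => by
    rw [hA i i.2]; exact hPc i
  have hAp : ∀ i, (qA' i).LiesOver p' := fun i => Ideal.LiesOver.trans (qA' i) (qB' i) p'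
  refine ⟨{
    qB := qB'
    qA := qA'
    hqB := hqB'
    hqA := hqA'
    overB := overB'
    overA := overA'
    d := 𝒜.d
    pureTrans := ?_
    uniq := ?_
    q0 := ?_
    qStep := ?_
    relDim := ?_
    locDim := ?_ }, rfl, fun i => ⟨⟨(hBover i).symm⟩, ⟨(hAover i).symm⟩⟩⟩
  · intro i hi
    obtain ⟨i, rfl⟩ : ∃ j : Fin 𝒟.n, (j : ℕ) = i := ⟨⟨i, hn ▸ hi⟩, rfl⟩
    haveI := 𝒜.hqB i
    haveI := 𝒜.overB i
    haveI := (hbc.2.2.2 i).2.1
    haveI : (qB' i).LiesOver (𝒜.qB i) := ⟨(hBover i).symm⟩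
    exact RG.Dev.FibreBij.purelyTranscendental p p' hκ (𝒜.qB i) (qB' i) (𝒜.pureTrans i i.2)
  · intro i hi
    obtain ⟨i, rfl⟩ : ∃ j : Fin 𝒟.n, (j : ℕ) = i := ⟨⟨i, hn ▸ hi⟩, rfl⟩
    intro P₁ _ h₁
    haveI := (hbc.2.2.2 i).1
    haveI := hAp i
    haveI : P₁.LiesOver p' := Ideal.LiesOver.trans P₁ (qB' i) p'
    refine RG.Dev.FibreBij.eq_of_liesOver p p' hκ (𝒜.qA i) P₁ (qA' i)
      ⟨(𝒜.uniq i i.2 (P₁.comap (algebraMap (𝒟.A i) (𝒟'.A i))) ⟨?_⟩).symm⟩ ⟨(hAover i).symm⟩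
    rw [Ideal.under, Ideal.comap_comap, ← IsScalarTower.algebraMap_eq,
      IsScalarTower.algebraMap_eq (𝒟.B i) (𝒟'.B i) (𝒟'.A i), ← Ideal.comap_comap]
    change _ = Ideal.comap _ (Ideal.under (𝒟'.B i) P₁)
    rw [← h₁.over]
    exact (hBover i).symm
  · haveI := hAp 0
    haveI : ((qA' 0).comap (algebraMap S' (𝒟'.A 0))).LiesOver p' := ⟨by
      rw [Ideal.under, Ideal.comap_comap, ← IsScalarTower.algebraMap_eq]
      exact Ideal.LiesOver.over (p := p') (P := qA' 0)⟩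
    refine RG.Dev.FibreBij.eq_of_liesOver p p' hκ q _ q' ⟨?_⟩ inferInstance
    rw [Ideal.under, Ideal.comap_comap, ← IsScalarTower.algebraMap_eq]
    letI := aA ⟨0, 𝒟.pos⟩
    haveI : IsScalarTower S (𝒟.A 0) (𝒟'.A 0) := hbc.1
    rw [IsScalarTower.algebraMap_eq S (𝒟.A 0) (𝒟'.A 0), ← Ideal.comap_comap]
    exact (𝒜.q0).symm.trans (congrArg (Ideal.comap (algebraMap S (𝒟.A 0))) (hAover ⟨0, 𝒟.pos⟩).symm)
  · intro i hi
    have hi' : i + 1 < 𝒟.n := hn ▸ hi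
    obtain ⟨i, rfl⟩ : ∃ j : Fin 𝒟.n, (j : ℕ) = i := ⟨⟨i, by omega⟩, rfl⟩
    haveI := (hbc.2.2.2 i).2.1
    haveI := hAp (i + 1)
    haveI : ((qA' (i + 1)).comap (algebraMap (𝒟'.B i) (𝒟'.A (i + 1)))).LiesOver p' := ⟨by
      rw [Ideal.under, Ideal.comap_comap, ← IsScalarTower.algebraMap_eq]
      exact Ideal.LiesOver.over (p := p') (P := qA' (i + 1))⟩
    refine RG.Dev.FibreBij.eq_of_liesOver p p' hκ (𝒜.qB i) _ (qB' i) ⟨?_⟩ ⟨(hBover i).symm⟩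
    rw [Ideal.under, Ideal.comap_comap, ← IsScalarTower.algebraMap_eq]
    letI := aA ⟨(i : ℕ) + 1, hi'⟩
    haveI : IsScalarTower (𝒟.B i) (𝒟.A (i + 1)) (𝒟'.A (i + 1)) := hbc.2.2.1 i hi'
    rw [IsScalarTower.algebraMap_eq (𝒟.B i) (𝒟.A (i + 1)) (𝒟'.A (i + 1)), ← Ideal.comap_comap]
    exact (𝒜.qStep i hi').symm.trans
      (congrArg (Ideal.comap (algebraMap (𝒟.B i) (𝒟.A (i + 1)))) (hAover ⟨(i : ℕ) + 1, hi'⟩).symm)
  · intro i hi
    obtain ⟨i, rfl⟩ : ∃ j : Fin 𝒟.n, (j : ℕ) = i := ⟨⟨i, hn ▸ hi⟩, rfl⟩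
    haveI := (hbc.2.2.2 i).2.1
    have hp := AlgebraicGeometry.isPullback_SpecMap_of_isPushout _ _ _ _
      (CommRingCat.isPushout_of_isPushout R R' (𝒟.B i) (𝒟'.B i))
    haveI := AlgebraicGeometry.smoothOfRelativeDimension_isStableUnderBaseChange (n := 𝒜.d i)
    exact CategoryTheory.MorphismProperty.of_isPullback
      (P := @AlgebraicGeometry.SmoothOfRelativeDimension (𝒜.d i)) hp.flip (𝒜.relDim i i.2)
  · intro i hi
    obtain ⟨i, rfl⟩ : ∃ j : Fin 𝒟.n, (j : ℕ) = i := ⟨⟨i, hn ▸ hi⟩, rfl⟩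
    haveI := 𝒜.hqB i
    haveI := 𝒜.overB i
    haveI := (hbc.2.2.2 i).1
    haveI := (hbc.2.2.2 i).2.1
    haveI := 𝒟.finiteBA i i.2
    haveI := 𝒟.finiteM i i.2
    haveI : Module.Finite (𝒟.B i) (𝒟.M i) := Module.Finite.trans (𝒟.A i) (𝒟.M i)
    haveI : (qB' i).LiesOver (𝒜.qB i) := ⟨(hBover i).symm⟩
    haveI : Algebra.IsPushout R (𝒟.A i) R' (𝒟'.A i) := Algebra.IsPushout.symm inferInstance
    haveI : Algebra.IsPushout R (𝒟.B i) R' (𝒟'.B i) := Algebra.IsPushout.symm inferInstance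
    haveI : IsScalarTower R (𝒟'.B i) (𝒟'.A i) := IsScalarTower.of_algebraMap_eq fun r => by
      rw [IsScalarTower.algebraMap_apply R R' (𝒟'.B i), ← IsScalarTower.algebraMap_apply R' (𝒟'.B i) (𝒟'.A i),
        ← IsScalarTower.algebraMap_apply R R' (𝒟'.A i)]
    haveI : Algebra.IsPushout (𝒟.B i) (𝒟.A i) (𝒟'.B i) (𝒟'.A i) :=
      (Algebra.IsPushout.comp_iff R (𝒟.B i) R' (𝒟'.B i) (T := 𝒟.A i) (T' := 𝒟'.A i)).1 inferInstance
    haveI : Algebra.IsPushout (𝒟.B i) (𝒟'.B i) (𝒟.A i) (𝒟'.A i) := Algebra.IsPushout.symm inferInstance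
    let e := (Algebra.IsPushout.cancelBaseChange (𝒟.B i) (𝒟'.B i) (𝒟.A i) (𝒟'.A i) (𝒟.M i)).symm ≪≫ₗ
      ((hbc.2.2.2 i).2.2.equiv.restrictScalars (𝒟'.B i))
    letI : Module (𝒟.B i) (𝒟'.M i) := Module.compHom _ (algebraMap (𝒟.B i) (𝒟'.B i))
    haveI : IsScalarTower (𝒟.B i) (𝒟'.B i) (𝒟'.M i) := IsScalarTower.of_compHom _ _ _
    exact RG.Dev.FibreBij.localDim_support p p' hκ (𝒟.M i) (𝒟'.M i)
      ((e.toLinearMap.restrictScalars (𝒟.B i)).comp (TensorProduct.mk (𝒟.B i) (𝒟'.B i) (𝒟.M i) 1))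
      (IsBaseChange.of_equiv e fun _ => rfl) (𝒜.qB i) (qB' i) _ (𝒜.locDim i i.2)

end Groth.Agent.S12244
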