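import Groth.Statements.S15131
import Groth.Agent.ArtKit.Action

set_option autoImplicit false
universe u v
open CategoryTheory
open ArtFun

namespace Groth.Agent.S15131

/-- Let k be a field and F a functor on local Artinian k-algebras with residue field k with F(k) a
single point, satisfying (H1) (the comparison map of A₁ ×_A A₂ is surjective when A₂ → A is a small
extension) and (H2) (it is bijective when A = k and A₂ = k[ε]). If the tangent space F(k[ε]) is a
single point then F is the one-point functor: every F(A) has exactly one element. (The converse is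
clear.) -/
theorem result
    {k : Type u} [Field k] (F : ArtFun.Art k k ⥤ Type v)
    (h0 : ArtFun.H0 F) (h1 : ArtFun.Hbar F) (h2 : ArtFun.Heps F)
    (ht : Subsingleton (ArtFun.TangentSpace F)) (A : ArtFun.Art k k) :
    Nonempty (F.obj A) ∧ Subsingleton (F.obj A) := by
  let e : ArtFun.Art.base k k ⟶ A := ⟨Algebra.ofId k A, AlgHom.ext fun c => A.res.commutes c⟩
  refine ⟨⟨F.map e h0.1.some⟩, ⟨fun x y => ?_⟩⟩
  refine Groth.Agent.ArtKit.surjective_induction (fun _ _ f => Function.Injective (F.map f)) ?_
    (fun _ _ p hp => Groth.Agent.ArtKit.map_injective_of_subsingleton_tangent h1 h2 ht p hp) ?_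
    (ArtFun.Art.toBase A) A.res_surjective (h0.2.elim _ _)
  · intro C B i hi
    exact Function.LeftInverse.injective (Groth.Agent.ArtKit.map_inv_app F i)
  · intro C B D p q hp hq a b e
    rw [Groth.Agent.ArtKit.map_comp_app, Groth.Agent.ArtKit.map_comp_app] at e
    exact hp (hq e)

end Groth.Agent.S15131
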