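import Groth.Statements.S12249
import Groth.Agent.S15131
import Groth.Agent.ArtKit.Versal

set_option autoImplicit false
universe u v
open CategoryTheory
open Deform

namespace Groth.Agent.S12249

/-- Let k be an algebraically closed field and F a set-valued functor on local Artinian k-algebras with
residue field k such that F(k) is a single point. If F has a semiuniversal formal element and its
tangent space F(k[ε]) is reduced to one element, then F(A) consists of exactly one element for every
A: F is the constant one-point functor h_k. -/
theorem result
    {k : Type u} [Field k] [IsAlgClosed k]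
    (F : ArtFun.Art k k ⥤ Type v) (h0 : ArtFun.H0 F) (hF : ArtFun.HasHull F)
    (ht : Subsingleton (ArtFun.TangentSpace F)) (A : ArtFun.Art k k) :
    Nonempty (F.obj A) ∧ Subsingleton (F.obj A) := by
  obtain ⟨⟨R, ξ, hξ⟩⟩ := hF
  have hs := fun B => Groth.Agent.ArtKit.surjective_app hξ.1 h0 B
  exact Groth.Agent.S15131.result F h0
    (fun _ _ _ _ a b c d h h' => Groth.Agent.ArtKit.s1_of_isVersal hξ.1 hs a b c d h h'.1)
    (Groth.Agent.ArtKit.heps_of_isMiniversal hξ hs) ht A

end Groth.Agent.S12249
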