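import Groth.Statements.S1225
import Groth.Agent.RG.Pure.Trivial
import Groth.Agent.RG.FlatLocus

set_option autoImplicit false
open Groth.Agent
universe u
open FlatMor

namespace Groth.Agent.S1225

open IsLocalRing in
/-- Ring form, X = Spec B affine: let A be a local ring, B a finite type A-algebra and N a finite
B-module which is flat over A and pure along the closed fibre. Then a B-linear map φ from N to any
B-module is injective if and only if its localization at q is injective for every prime q of B over
𝔪_A whose extension to the closed fibre ring is an associated prime of the closed fibre module. -/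
theorem result {A B : Type u} [CommRing A] [IsLocalRing A] [CommRing B] [Algebra A B] [Algebra.FiniteType A B]
    (N : Type u) [AddCommGroup N] [Module B N] [Module A N] [IsScalarTower A B N] [Module.Finite B N] [Module.Flat A N]
    (hpure : FlatCA.IsPureAlong A B N (maximalIdeal A))
    (N' : Type u) [AddCommGroup N'] [Module B N'] (φ : N →ₗ[B] N') :
    Function.Injective φ ↔ ∀ (q : Ideal B) [q.IsPrime], q.LiesOver (maximalIdeal A) →
      FlatCA.fiberIdeal (maximalIdeal A) q ∈ associatedPrimes ((maximalIdeal A).Fiber B) (FlatCA.fiberMod (maximalIdeal A) B N) →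
      Function.Injective (LocalizedModule.map q.primeCompl φ) := by
  constructor
  · intro hinj q _ _ _ a b hab
    obtain ⟨a, s, rfl⟩ := RG.exists_mk a
    obtain ⟨b, t, rfl⟩ := RG.exists_mk b
    rw [RG.lmap_mk, RG.lmap_mk, LocalizedModule.mk_eq] at hab
    obtain ⟨u, hu⟩ := hab
    refine LocalizedModule.mk_eq.2 ⟨u, hinj ?_⟩
    simpa [Submonoid.smul_def] using hu
  · intro h
    rw [injective_iff_map_eq_zero]
    intro x hx
    by_contra hne
    let I : Ideal B := LinearMap.ker (LinearMap.toSpanSingleton B N x)
    obtain ⟨P, hP, hIP⟩ := Ideal.exists_le_maximal I fun hI => hne (by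
      have h1 : (1 : B) ∈ I := hI ▸ trivial
      simpa [I] using h1)
    haveI := hP.isPrime
    let p' := P.comap (algebraMap A B)
    obtain ⟨σ, hσ, -, hσx⟩ := RG.exists_assPts_le A B p' P rfl
      (fun σ _ _ => InjFibre.flat_localized σ.primeCompl (LocalizedModule.mkLinearMap σ.primeCompl N)) x
      (fun t ht htx => ht (hIP htx))
    obtain ⟨Q, hQ, hσQ, hQm⟩ := RG.Pure.exists_over_of_pure hpure p' (IsLocalRing.le_maximalIdeal (Ideal.IsPrime.ne_top inferInstance)) σ hσ
    haveI := hQ
    haveI : Module.Flat A (LocalizedModule Q.primeCompl N) :=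
      InjFibre.flat_localized Q.primeCompl (LocalizedModule.mkLinearMap Q.primeCompl N)
    obtain ⟨τ, hτ, hστ, -⟩ := RG.Pure.exists_assPts_above A B N (maximalIdeal A) p' Q hQm σ hσ hσQ
    obtain ⟨hτp, hτc⟩ := RG.isPrime_of_mem_assPts A B N hτ
    haveI := hτp
    have hinj := h τ ⟨hτc.symm⟩ ((RG.mem_assPts_iff A B _ τ hτc).1 hτ)
    have h0 : LocalizedModule.mk x (1 : τ.primeCompl) = 0 := hinj (by
      rw [map_zero, RG.lmap_mk, hx, LocalizedModule.zero_mk])
    obtain ⟨⟨t, ht⟩, htx⟩ := (IsLocalizedModule.eq_zero_iff τ.primeCompl (LocalizedModule.mkLinearMap τ.primeCompl N)).1 h0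
    exact hσx t (fun hm => ht (hστ hm)) htx

end Groth.Agent.S1225
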