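import Groth.Statements.S12250
import Groth.Agent.ArtKit.Formal
import Mathlib

set_option autoImplicit false
universe u v
open CategoryTheory
open Deform

namespace Groth.Agent.S12250

/-- Let k be an algebraically closed field, Λ a complete local Noetherian k-algebra with residue field
k, R a complete local Noetherian Λ-algebra with residue field k and F a set-valued functor on local
Artinian Λ-algebras with residue field k. Then the map sending a morphism of functors h_R → F to its
formal element (the compatible sequence of its values on the quotient maps R → R/m^(n+1), n ≥ 0) is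
a bijection between morphisms h_R → F and formal elements of F over R. -/
theorem result
    {k Λ : Type u} [Field k] [IsAlgClosed k] [CommRing Λ] [IsLocalRing Λ] [IsNoetherianRing Λ]
    [IsAdicComplete (IsLocalRing.maximalIdeal Λ) Λ] [Algebra k Λ] [Algebra Λ k] [IsScalarTower k Λ k]
    (R : ArtFun.CRing Λ k) (F : ArtFun.Art Λ k ⥤ Type v) :
    Function.Bijective (fun ξ : ArtFun.Family R.carrier R.res F => ξ.toFormalElt) := by
  refine ⟨fun ξ ξ' h => ?_, fun η => Groth.Agent.ArtKit.exists_family η⟩
  obtain ⟨app, hn⟩ := ξ
  obtain ⟨app', hn'⟩ := ξ'
  have : app = app' := funext fun A => funext fun φ =>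
    Groth.Agent.ArtKit.family_app_eq (ξ := ⟨app, hn⟩) (ξ' := ⟨app', hn'⟩) h A φ
  subst this
  rfl

end Groth.Agent.S12250
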