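import Groth.Statements.S12255
import Groth.Agent.DefLift.DefProrep
import Groth.Agent.CycPB.BundleSmooth
import Groth.Agent.Chow.Core


set_option autoImplicit false
universe u
open CategoryTheory CategoryTheory.Limits AlgebraicGeometry
open Deform

namespace Groth.Agent.S12255

/-- Let k be an algebraically closed field and X a projective k-scheme, given with a closed immersion
into some P^n_k over k, such that H^0(X, T_X) = Hom_{O_X}(Ω_{X/k}, O_X) = 0 (no infinitesimal
automorphisms). Then the local moduli functor Def_X, of isomorphism classes of deformations of X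
over local Artinian k-algebras with residue field k, is prorepresentable by a complete local
Noetherian k-algebra with residue field k. -/
theorem result
    {k : Type u} [Field k] [IsAlgClosed k] (X : Scheme.{u}) (x : X ⟶ Spec (CommRingCat.of k))
    [LocallyOfFiniteType x] [IsSeparated x] [QuasiCompact x]
    (hproj : ∃ (n : ℕ) (c : X ⟶ CohB1.ProjSpaceOver n (Spec (CommRingCat.of k))),
      IsClosedImmersion c ∧ c ≫ CohB1.ProjSpaceOver.toBase n (Spec (CommRingCat.of k)) = x)
    (h0 : Subsingleton (Omega.sheaf x ⟶ Coh.structureModule X)) :
    ArtFun.IsProrepresentable (ArtFun.defFunctor (Λ := k) X x) := by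
  obtain ⟨n, c, hc, hc'⟩ := hproj
  letI : X.Over (Spec (CommRingCat.of k)) := ⟨x⟩
  haveI := hc
  haveI : Smooth (CohB1.ProjSpaceOver.toBase n (Spec (CommRingCat.of k))) := Groth.Agent.CycPB.smooth_toBase n _
  haveI := Chow.isProper_toBase n (Spec (CommRingCat.of k))
  haveI : IsProper (X ↘ Spec (CommRingCat.of k)) := by
    change IsProper x
    rw [← hc']
    infer_instance
  exact Groth.Agent.DefLift.isProrepresentable_of_embedded (CohB1.ProjSpaceOver.toBase n _) c hc' h0

end Groth.Agent.S12255
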