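import Groth.Statements.S12257
import Mathlib

set_option autoImplicit false
universe u v
open CategoryTheory CategoryTheory.Limits
open Deform

namespace Groth.Agent.S12257

/-- Let k be an algebraically closed field, Λ a complete local Noetherian k-algebra with residue field
k, and F, G, H set-valued functors on local Artinian Λ-algebras with residue field k, each with
one-point value at k. If F → G is a smooth morphism of functors and H → G is any morphism, then the
second projection F ×_G H → H of the fibre product of functors is smooth. -/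
theorem result
    {k Λ : Type u} [Field k] [IsAlgClosed k] [CommRing Λ] [IsLocalRing Λ] [IsNoetherianRing Λ]
    [IsAdicComplete (IsLocalRing.maximalIdeal Λ) Λ] [Algebra k Λ] [Algebra Λ k] [IsScalarTower k Λ k]
    {F G H : ArtFun.Art Λ k ⥤ Type v} (η : F ⟶ G) (θ : H ⟶ G)
    (hF : ArtFun.H0 F) (hG : ArtFun.H0 G) (hH : ArtFun.H0 H) (hη : ArtFun.IsSmooth η) :
    ArtFun.IsSmooth (pullback.snd η θ) := by
  intro B A μ hμ x
  have key : ∀ C, IsPullback ((pullback.fst η θ).app C) ((pullback.snd η θ).app C) (η.app C) (θ.app C) :=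
    fun C ↦ (IsPullback.of_hasPullback η θ).map ((evaluation _ _).obj C)
  obtain ⟨⟨y, h⟩, hyh⟩ := x
  have hnat := NatTrans.naturality_apply θ μ h
  obtain ⟨hwA, huA, -⟩ := (Types.isPullback_iff _ _ _ _).1 (key A)
  obtain ⟨hwB, huB, hxB⟩ := (Types.isPullback_iff _ _ _ _).1 (key B)
  have hf : η.app A ((pullback.fst η θ).app A y) = θ.app A ((pullback.snd η θ).app A y) :=
    ConcreteCategory.congr_hom hwA y
  obtain ⟨z, hz⟩ := hη μ hμ ⟨((pullback.fst η θ).app A y, θ.app B h), by
    rw [hf, hyh, hnat]⟩
  have h1 : F.map μ z = (pullback.fst η θ).app A y := congrArg (fun r ↦ r.1.1) hz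
  have h2 : η.app B z = θ.app B h := congrArg (fun r ↦ r.1.2) hz
  obtain ⟨w, hw1, hw2⟩ := hxB z h h2
  refine ⟨w, Subtype.ext (Prod.ext (huA _ _ ⟨?_, ?_⟩) hw2)⟩
  · show (pullback.fst η θ).app A ((pullback η θ).map μ w) = _
    rw [NatTrans.naturality_apply, hw1, h1]
  · show (pullback.snd η θ).app A ((pullback η θ).map μ w) = _
    rw [NatTrans.naturality_apply, hw2, hyh]

end Groth.Agent.S12257
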