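import Groth.Statements.S12259
import Groth.Agent.DefLift.DefProrep
import Groth.Agent.CycPB.BundleSmooth
import Groth.Agent.Chow.Core
import Groth.Agent.CurveOmega.Closed
import Groth.Agent.CurveRR.Easy
import Groth.Agent.SmoothRed.Scheme


set_option autoImplicit false
universe u
open CategoryTheory CategoryTheory.Limits AlgebraicGeometry
open Deform

namespace Groth.Agent.S12259

/-- Let k be an algebraically closed field and X a nonsingular connected projective curve over k, i.e. X
is smooth over k, connected, of dimension one and a closed subscheme of some projective space P^n_k,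
and assume its genus g = dim_k H^1(X, O_X) is at least 2. Then the local moduli functor Def_X
(isomorphism classes of deformations of X over local Artinian k-algebras with residue field k) is
prorepresentable by a complete local Noetherian k-algebra with residue field k. (The published
statement treats every genus and identifies the prorepresenting ring with a power series ring in 0,
1 or 3g − 3 variables; this row is the prorepresentability for g ≥ 2 only.) -/
theorem result
    {k : Type u} [Field k] [IsAlgClosed k] (X : Scheme.{u}) [X.Over (Spec (CommRingCat.of k))]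
    [Smooth (X ↘ Spec (CommRingCat.of k))] [IsSeparated (X ↘ Spec (CommRingCat.of k))]
    [QuasiCompact (X ↘ Spec (CommRingCat.of k))] [ConnectedSpace X]
    (hdim : topologicalKrullDim X = 1)
    (hproj : ∃ (n : ℕ) (c : X ⟶ CohB1.ProjSpaceOver n (Spec (CommRingCat.of k))),
      IsClosedImmersion c ∧ c ≫ CohB1.ProjSpaceOver.toBase n (Spec (CommRingCat.of k)) = X ↘ Spec (CommRingCat.of k))
    (hg : 2 ≤ Curv2.genus k X) :
    ArtFun.IsProrepresentable (ArtFun.defFunctor (Λ := k) X (X ↘ Spec (CommRingCat.of k))) := by
  classical
  obtain ⟨n, c, hc, hc'⟩ := hproj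
  haveI := hc
  haveI : Smooth (CohB1.ProjSpaceOver.toBase n (Spec (CommRingCat.of k))) := Groth.Agent.CycPB.smooth_toBase n _
  haveI := Chow.isProper_toBase n (Spec (CommRingCat.of k))
  haveI : IsProper (X ↘ Spec (CommRingCat.of k)) := by
    rw [← hc']
    infer_instance
  refine Groth.Agent.DefLift.isProrepresentable_of_embedded (CohB1.ProjSpaceOver.toBase n _) c hc' ?_
  haveI := Groth.Agent.CurveRR.isNoetherian_of_proper k X
  haveI : IsIntegral X := Groth.Agent.CurveRR.Easy.isIntegral_of_smooth (k := k)
  refine subsingleton_of_forall_eq 0 fun φ => ?_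
  by_contra hne
  have hC : Curve.IsSmoothProperCurve k X (X ↘ (Spec (CommRingCat.of k))) :=
    ⟨inferInstance, inferInstance, inferInstance, hdim⟩
  obtain ⟨hI, -, hdeg, -⟩ := Groth.Agent.CurveOmega.omega_facts k X hC
  have h1 := (Groth.Agent.CurveRR.deg_le_and_isIso (k := k) hdim.le hI TMul.isInvertible_structureModule φ hne).1
  rw [Groth.Agent.CurveRR.deg_structure] at h1
  omega

end Groth.Agent.S12259
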