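import Groth.Statements.S12261
import Groth.Agent.LHilb.Rigid
import Groth.Agent.ArtCrit.Basic
import Groth.Agent.ArtKit.Tangent
import Groth.Agent.Chow.Core
import Groth.Agent.CurveRR.Curve
import Groth.Agent.Devissage.Piece
import Groth.Agent.FrobSplit.Finrank
import Groth.Agent.S9524
import Groth.Agent.QC.Pullback

set_option autoImplicit false
universe u
open CategoryTheory CategoryTheory.Limits AlgebraicGeometry
open Deform

namespace Groth.Agent.S12261

/-- Let k be an algebraically closed field, Y a separated k-scheme of finite type and X ⊆ Y the closed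
subscheme of a quasi-coherent ideal sheaf I₀; assume X is projective over k, i.e. X admits a closed
immersion over k into some projective space P^n_k. Then the local Hilbert functor of X in Y (closed
subschemes of Y ×_k Spec A flat over Spec A restricting to X on the closed fibre, for A local
Artinian with residue field k) is prorepresentable by a complete local Noetherian k-algebra with
residue field k. (The published statement assumes only that the space of global sections of the
normal sheaf of X in Y is finite-dimensional, X projective being the named instance; this row states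
the projective case.) -/
theorem result
    {k : Type u} [Field k] [IsAlgClosed k] (Y : Scheme.{u}) (y : Y ⟶ Spec (CommRingCat.of k))
    [LocallyOfFiniteType y] [IsSeparated y] [QuasiCompact y] (I₀ : Y.IdealSheafData)
    (hproj : ∃ (n : ℕ) (c : I₀.subscheme ⟶ CohB1.ProjSpaceOver n (Spec (CommRingCat.of k))),
      IsClosedImmersion c ∧ c ≫ CohB1.ProjSpaceOver.toBase n (Spec (CommRingCat.of k)) = I₀.subschemeι ≫ y) :
    ArtFun.IsProrepresentable (ArtFun.localHilb Y y I₀) := by
  letI : I₀.subscheme.Over (Spec (CommRingCat.of k)) := ⟨I₀.subschemeι ≫ y⟩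
  haveI : IsProper (I₀.subscheme ↘ Spec (CommRingCat.of k)) := by
    obtain ⟨n, c, hc, hc'⟩ := hproj
    haveI := Chow.isProper_toBase n (Spec (CommRingCat.of k))
    change IsProper (I₀.subschemeι ≫ y)
    rw [← hc']
    infer_instance
  haveI : IsLocallyNoetherian Y := LocallyOfFiniteType.isLocallyNoetherian y
  haveI : IsLocallyNoetherian I₀.subscheme := LocallyOfFiniteType.isLocallyNoetherian I₀.subschemeι
  haveI : DCoh.HasSheafHom (Omega.conormal I₀.subschemeι) := W7Hull.hasSheafHom_sch _
  have hC : Coh.IsCoh (Omega.conormal I₀.subschemeι) :=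
    QC.isCoh_pullback _ (CurveRR.isCoh_idealMod _).1
  have hN := S9524.result I₀.subscheme (Omega.conormal I₀.subschemeι) (Coh.structureModule I₀.subscheme) hC
    (Devissage.isCoh_unit _)
  haveI := CohFinite.finite_proper k I₀.subscheme _ hN 0
  obtain ⟨eN⟩ := LHilb.nonempty_hh_linearEquiv y I₀ rfl
  obtain ⟨T⟩ := ArtKit.nonempty_tangentStr (LHilb.h0 y) (LHilb.heps y I₀)
  letI := T
  obtain ⟨eT⟩ := LHilb.nonempty_tangent_linearEquiv (I₀ := I₀) y
  haveI : Module.Finite k (LHilb.NSec y I₀) := Module.Finite.equiv eN.symm
  have hs : Function.Surjective (algebraMap k k) := fun c => ⟨c, rfl⟩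
  exact (ArtCrit.isProrepresentable_iff hs (LHilb.h0 y)).2 ⟨LHilb.hbar y I₀, LHilb.heps y I₀,
    (Module.Finite.equiv eT.symm : Module.Finite k (ArtFun.TangentSpace (ArtFun.localHilb Y y I₀))),
    fun _ _ _ p₁ p₂ f h _ => LHilb.isLeftExact y p₁ p₂ f f h⟩

end Groth.Agent.S12261
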