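import Groth.Statements.S12263
import Groth.Agent.RigidDef.Basic
import Groth.Agent.DefFun.Model

set_option autoImplicit false
universe u
open CategoryTheory CategoryTheory.Limits AlgebraicGeometry
open Deform

namespace Groth.Agent.S12263

/-- Let k be an algebraically closed field and B₀ a finitely generated commutative k-algebra. Suppose
T^1_{B₀} = 0 in the form: every k-algebra extension of B₀ by the B₀-module B₀ (square-zero kernel)
is trivial. Then B₀ is rigid: every deformation of Spec B₀ over a local Artinian k-algebra A with
residue field k (a scheme flat over Spec A together with a cartesian square exhibiting Spec B₀ as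
the fibre over the closed point) is isomorphic, over Spec A and under Spec B₀, to the product
deformation Spec B₀ ×_k Spec A. (The published statement is for a k-algebra B₀, Noetherian by the
standing convention; this row takes B₀ finitely generated over k, the case covered by the results on
algebraic schemes that its proof cites. It also asserts a semiuniversal formal element when T^1_{B₀}
is finite-dimensional, in particular for isolated singularities; those clauses are instances of
results on all algebraic schemes and are not repeated here. The first-order deformations of B₀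
correspond to the k-algebra extensions of B₀ by B₀, the trivial deformation to the trivial
extension.) -/
theorem result
    {k : Type u} [Field k] [IsAlgClosed k] (B₀ : Type u) [CommRing B₀] [Algebra k B₀] [Algebra.FiniteType k B₀]
    (hT : ∀ E : Exal.Ext k B₀ B₀, E.IsTrivial) (A : ArtFun.Art k k)
    (ξ : ArtFun.DefSch (Spec (CommRingCat.of B₀)) (Spec.map (CommRingCat.ofHom (algebraMap k B₀))) A) :
    Nonempty (ξ.Iso (ArtFun.DefSch.trivial (Spec (CommRingCat.of B₀))
      (Spec.map (CommRingCat.ofHom (algebraMap k B₀))) inferInstance A)) := by
  obtain ⟨M, hM⟩ := Groth.Agent.DefFun.exists_model (A₀ := B₀) ξ.cl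
  letI : Algebra A.carrier M.T := M.φ.toAlgebra
  letI : Algebra k M.T := (M.φ.comp (algebraMap k A.carrier)).toAlgebra
  haveI : Module.Flat A.carrier M.T := M.flat
  let q : M.T →ₐ[k] B₀ :=
    { M.q with
      commutes' := fun c => (RingHom.congr_fun M.w (algebraMap k A.carrier c)).trans
        (congrArg (algebraMap k B₀) (A.res.commutes c)) }
  obtain ⟨σ, hσ⟩ := Groth.Agent.RigidDef.exists_section q M.surj M.ker hT
  let N : Groth.Agent.DefFun.Model B₀ (ArtFun.Art.base k k) :=
    { T := B₀
      φ := algebraMap k B₀
      flat := (RingHom.flat_algebraMap_iff (R := k) (S := B₀)).2 inferInstance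
      q := RingHom.id B₀
      surj := Function.surjective_id
      ker := by
        refine le_antisymm (fun z hz => ?_) ?_
        · rw [RingHom.mem_ker, RingHom.id_apply] at hz
          rw [hz]
          exact Ideal.zero_mem _
        · rw [Ideal.map_le_iff_le_comap]
          intro c hc
          have h0 : (ArtFun.Art.base k k).res c = 0 := ((ArtFun.Art.base k k).mem_maximalIdeal_iff c).1 hc
          show algebraMap k B₀ c = 0
          exact (congrArg (algebraMap k B₀) h0).trans (map_zero _)
      w := rfl }
  have h1 := Groth.Agent.DefFun.Model.map_cl (ArtFun.Art.ofBase A) N M σ.toRingHom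
    (RingHom.ext fun c => σ.commutes c) (RingHom.ext fun b => hσ b)
  let xk := Spec.map (CommRingCat.ofHom (algebraMap k B₀))
  have hflat : Flat xk := inferInstance
  have h2 : N.cl = (ArtFun.DefSch.self (Spec (CommRingCat.of B₀)) xk hflat).cl :=
    Quotient.sound ⟨⟨Iso.refl _, by
      show 𝟙 _ ≫ _ = _
      rw [Category.id_comp]
      rfl, by
      show _ ≫ 𝟙 _ = _
      rw [Category.comp_id]
      exact Spec.map_id _⟩⟩
  rw [h2] at h1
  exact Quotient.exact (hM.symm.trans h1.symm)

end Groth.Agent.S12263
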