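import Groth.Statements.S12264
import Groth.Agent.RigidDef.Relations
import Groth.Agent.DefFun.Model

set_option autoImplicit false
universe u
open CategoryTheory CategoryTheory.Limits AlgebraicGeometry
open Deform

namespace Groth.Agent.S12264

/-- Let k be an algebraically closed field and B₀ a k-algebra given with a finite presentation P =
k[X_i]/(f_s) (finitely many variables and relations), and let T² = T²(B₀/k, B₀) be the second
cotangent module computed from P (classes of B₀-linear maps on the relation module modulo trivial
relations, modulo those extending to the free module on the relations). Suppose T² = 0. Then Spec B₀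
is unobstructed: for every small extension A' → A of local Artinian k-algebras with residue field k
the map Def_{B₀}(A') → Def_{B₀}(A) between isomorphism classes of deformations (schemes flat over
the Artinian base with Spec B₀ as closed fibre) is surjective. (The published statement says that
T²_{B₀} is an obstruction space for Def_{B₀}, for B₀ the quotient of any smooth k-algebra that is a
localisation of a polynomial ring: each deformation over A has an obstruction in T²_{B₀} attached to
each small extension of A, vanishing exactly when a lifting exists; this row states the consequence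
for T²_{B₀} = 0 and a polynomial presentation.) -/
theorem result
    {k : Type u} [Field k] [IsAlgClosed k] (B₀ : Type u) [CommRing B₀] [Algebra k B₀] {ι σ : Type u} [Finite ι] [Finite σ]
    (P : Algebra.Presentation k B₀ ι σ)
    (hT2 : Subsingleton (CotT.T2 P B₀))
    {A' A : ArtFun.Art k k} (p : A' ⟶ A) (hp : ArtFun.Art.IsSmallExt p) :
    Function.Surjective ((ArtFun.defFunctor (Λ := k) (Spec (CommRingCat.of B₀)) (Spec.map (CommRingCat.ofHom (algebraMap k B₀)))).map p) := by
  classical
  cases nonempty_fintype σ
  intro c
  obtain ⟨M, rfl⟩ := Groth.Agent.DefFun.exists_model c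
  letI : Algebra A.carrier M.T := M.φ.toAlgebra
  haveI : Module.Flat A.carrier M.T := M.flat
  obtain ⟨hp1, hne, hpr, hann⟩ := hp
  obtain ⟨ε, hε⟩ := hpr.principal
  have hεI : RingHom.ker p.toAlgHom.toRingHom = Ideal.span {ε} := hε
  have hε0 : ε ≠ 0 := by
    rintro rfl
    exact hne (hεI.trans (by simp))
  have hεm : ∀ a ∈ IsLocalRing.maximalIdeal A'.carrier, a * ε = 0 := fun a ha => by
    have h : a * ε ∈ IsLocalRing.maximalIdeal A'.carrier * RingHom.ker p.toAlgHom :=
      Ideal.mul_mem_mul ha (hεI.ge (Ideal.mem_span_singleton_self ε))
    rwa [hann, Ideal.mem_bot] at h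
  let π : MvPolynomial ι k →+* B₀ := (MvPolynomial.aeval P.val).toRingHom
  have hπ : Function.Surjective π := fun b => ⟨P.σ b, P.aeval_val_σ b⟩
  let f : σ → MvPolynomial ι k := P.relation
  have hf : RingHom.ker π = Ideal.span (Set.range f) := by
    rw [P.span_range_relation_eq_ker, Algebra.Generators.ker_eq_ker_aeval_val]
    rfl
  have hπa : ∀ x : MvPolynomial ι k, algebraMap P.toExtension.Ring B₀ x = π x := fun x =>
    CotT.algebraMap_toExtension P x
  have hw : ∀ a : A.carrier, M.q (algebraMap A.carrier M.T a) = π (MvPolynomial.C (A.res a)) := fun a => by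
    rw [show π (MvPolynomial.C (A.res a)) = algebraMap k B₀ (A.res a) from MvPolynomial.aeval_C _ _]
    exact RingHom.congr_fun M.w a
  obtain ⟨T', i1, i2, hfl, q', hq', hk', hw', m, hm, hmq⟩ :=
    Groth.Agent.RigidDef.exists_flat_lift (T := M.T) p.toAlgHom.toRingHom hp1 A.res.toRingHom A.res_surjective
      (Groth.Agent.DefFun.ker_res A) ε hεI hε0 hεm π hπ f hf M.q M.surj M.ker hw (by
      intro O hadd0 hsmul0 htriv0
      let f' : σ → P.toExtension.Ring := CotT.rel P
      let O' : (σ → P.toExtension.Ring) → B₀ := O
      have hadd : ∀ c d : σ → P.toExtension.Ring, Groth.Agent.RigidDef.comb f' c = 0 →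
          Groth.Agent.RigidDef.comb f' d = 0 → O' (c + d) = O' c + O' d := hadd0
      have hsmul : ∀ (x : P.toExtension.Ring) (c : σ → P.toExtension.Ring), Groth.Agent.RigidDef.comb f' c = 0 →
          O' (x • c) = algebraMap P.toExtension.Ring B₀ x * O' c := fun x c h =>
        (hsmul0 x c h).trans (congrArg (· * O' c) (hπa x).symm)
      have htriv : ∀ a b : σ → P.toExtension.Ring, O' (Groth.Agent.RigidDef.comb f' a • b -
          Groth.Agent.RigidDef.comb f' b • a) = 0 := htriv0
      let e := Finsupp.linearEquivFunOnFinite P.toExtension.Ring P.toExtension.Ring σ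
      have hj : ∀ r : CotT.relMod P, CotT.jmap P r = Groth.Agent.RigidDef.comb f' (e r) := fun r => by
        simp only [CotT.jmap, Finsupp.linearCombination_apply, Groth.Agent.RigidDef.comb]
        exact Finsupp.sum_fintype _ _ (fun i => zero_smul _ (CotT.rel P i))
      have hrel : ∀ r : CotT.relKer P, Groth.Agent.RigidDef.comb f' (e r.1) = 0 := fun r => (hj r.1).symm.trans r.2
      let φ : CotT.relKer P →ₗ[P.toExtension.Ring] B₀ :=
        { toFun := fun r => O' (e r.1)
          map_add' := fun r r' => by
            show O' (e (r.1 + r'.1)) = _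
            rw [map_add]
            exact hadd _ _ (hrel r) (hrel r')
          map_smul' := fun x r => by
            show O' (e (x • r.1)) = x • O' (e r.1)
            rw [map_smul]
            exact (hsmul x _ (hrel r)).trans (Algebra.smul_def _ _).symm }
      have hφ0 : LinearMap.range ((CotT.trivRelKer P).subtype.baseChange B₀) ≤
          LinearMap.ker (φ.liftBaseChange B₀) := by
        rw [LinearMap.range_le_ker_iff]
        refine TensorProduct.AlgebraTensorModule.ext fun b y => ?_
        simp only [LinearMap.comp_apply, LinearMap.baseChange_tmul, LinearMap.liftBaseChange_tmul,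
          LinearMap.zero_apply]
        suffices hy0 : φ ((CotT.trivRelKer P).subtype y) = 0 by rw [hy0, smul_zero]
        have hy : ((y : CotT.relKer P) : CotT.relMod P) ∈ CotT.trivRel P := y.2
        have key : ∀ z ∈ CotT.trivRel P, Groth.Agent.RigidDef.comb f' (e z) = 0 ∧ O' (e z) = 0 := by
          intro z hz
          induction hz using Submodule.span_induction with
          | mem z hz =>
            obtain ⟨a, b, rfl⟩ := hz
            refine ⟨?_, ?_⟩
            · rw [map_sub, map_smul, map_smul, hj, hj, Groth.Agent.RigidDef.comb_sub,
                Groth.Agent.RigidDef.comb_smul, Groth.Agent.RigidDef.comb_smul]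
              exact sub_eq_zero.2 (mul_comm _ _)
            · rw [map_sub, map_smul, map_smul, hj, hj]
              exact htriv (e a) (e b)
          | zero =>
            have h0 : Groth.Agent.RigidDef.comb f' (e 0) = 0 := by rw [map_zero]; simp [Groth.Agent.RigidDef.comb]
            refine ⟨h0, ?_⟩
            have h := hadd _ _ h0 h0
            rw [map_zero, add_zero] at h
            rw [map_zero]
            exact left_eq_add.1 h
          | add z z' _ _ hz hz' =>
            rw [map_add]
            exact ⟨by rw [Groth.Agent.RigidDef.comb_add, hz.1, hz'.1, add_zero],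
              by rw [hadd _ _ hz.1 hz'.1, hz.2, hz'.2, add_zero]⟩
          | smul x z _ hz =>
            rw [map_smul]
            exact ⟨(Groth.Agent.RigidDef.comb_smul f' x (e z)).trans (by rw [hz.1]; exact mul_zero _),
              (hsmul x _ hz.1).trans (by rw [hz.2, mul_zero])⟩
        exact (key _ hy).2
      let Ψ : CotT.L2 P →ₗ[B₀] B₀ := Submodule.liftQ _ (φ.liftBaseChange B₀) hφ0
      haveI := hT2
      obtain ⟨h, hh⟩ := LinearMap.mem_range.1 ((Submodule.Quotient.mk_eq_zero _).1
        (Subsingleton.elim (Submodule.Quotient.mk Ψ : CotT.T2 P B₀) 0))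
      refine ⟨fun s => h ((1 : B₀) ⊗ₜ Finsupp.single s (1 : P.toExtension.Ring)), fun c hc => ?_⟩
      let r : CotT.relKer P := ⟨e.symm (show σ → P.toExtension.Ring from c), LinearMap.mem_ker.2 (by rw [hj, LinearEquiv.apply_symm_apply]; exact hc)⟩
      have h1 := LinearMap.congr_fun hh (Submodule.Quotient.mk ((1 : B₀) ⊗ₜ r))
      rw [CotT.d2Star_apply, LinearMap.comp_apply, CotT.d2_mk_tmul] at h1
      have h2 : Ψ (Submodule.Quotient.mk ((1 : B₀) ⊗ₜ r)) = O' c := by
        show φ.liftBaseChange B₀ ((1 : B₀) ⊗ₜ r) = O' c
        rw [LinearMap.liftBaseChange_tmul, one_smul]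
        show O' (e (e.symm c)) = O' c
        rw [LinearEquiv.apply_symm_apply]
      show O' c = _
      rw [← h2, ← h1]
      let g : CotT.relMod P →ₗ[P.toExtension.Ring] B₀ :=
        (h.restrictScalars P.toExtension.Ring).comp (TensorProduct.mk P.toExtension.Ring B₀ (CotT.relMod P) 1)
      show g (e.symm c) = _
      conv_lhs => rw [← Finsupp.univ_sum_single (e.symm c), map_sum]
      refine Finset.sum_congr rfl fun s _ => ?_
      rw [← hπa]
      rw [show Finsupp.single s (e.symm c s) = (e.symm c s) • Finsupp.single s (1 : P.toExtension.Ring) by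
        rw [Finsupp.smul_single, smul_eq_mul, mul_one], map_smul, Algebra.smul_def,
        show e.symm c s = c s from congrFun (e.apply_symm_apply c) s]
      rfl)
  let N : Groth.Agent.DefFun.Model B₀ A' :=
    { T := T'
      φ := algebraMap A'.carrier T'
      flat := RingHom.flat_algebraMap_iff.2 hfl
      q := q'
      surj := hq'
      ker := hk'
      w := RingHom.ext fun a => by
        show q' (algebraMap A'.carrier T' a) = algebraMap k B₀ (A'.res a)
        rw [hw', show π (MvPolynomial.C (A.res.toRingHom (p.toAlgHom.toRingHom a))) =
          algebraMap k B₀ (A.res.toRingHom (p.toAlgHom.toRingHom a)) from MvPolynomial.aeval_C _ _]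
        exact congrArg (algebraMap k B₀) (ArtFun.Art.res_app p a) }
  exact ⟨N.cl, Groth.Agent.DefFun.Model.map_cl p N M m (RingHom.ext hm) hmq⟩

end Groth.Agent.S12264
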