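import Groth.Statements.S12266
import Groth.Agent.HomTan.Point
import Groth.Agent.SerrePn.SheafHomExt
import Groth.Agent.HQProj.Basic

set_option autoImplicit false
set_option backward.isDefEq.respectTransparency false
set_option backward.isDefEq.respectTransparency.types false
universe u
open CategoryTheory CategoryTheory.Limits MonoidalCategory CartesianMonoidalCategory AlgebraicGeometry
attribute [local instance] HasDerivedCategory.standard
open Deform

namespace Groth.Agent.S12266

/-- Let k be an algebraically closed field, X a reduced projective k-scheme (with a closed k-immersion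
into some P^n_k) and Y a nonsingular quasi-projective k-scheme (smooth over k, with a k-immersion
into some P^m_k). Suppose the k-scheme M together with υ : X ×_k M → Y over k represents the functor
of morphisms: for every k-scheme T and every k-morphism φ : X ×_k T → Y there is exactly one
k-morphism a : T → M with φ = υ ∘ (X ×_k a). Let f : X → Y be a k-morphism and a_f : Spec k → M the
k-point [f] classifying f (through X ×_k Spec k ≅ X). Then the Zariski tangent space of M at [f] has
the dimension of H^0(X, f^*T_Y): the dimension of m/m² over the residue field of the local ring of M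
at [f] equals dim_k H^0(X, Hom_{O_X}(f^*Ω_{Y/k}, O_X)), the sheaf Hom (taken as a right adjoint,
assumed to exist) of the pullback of the sheaf of differentials of Y over k, which is f^*T_Y as
Ω_{Y/k} is locally free. (The published statement gives a canonical isomorphism T_{[f]} Hom(X, Y) ≅
H^0(X, f^*T_Y) and adds that the obstruction space at [f] lies in H^1(X, f^*T_Y); this row records
the equality of dimensions.) -/
theorem result
    {k : Type u} [Field k] [IsAlgClosed k]
    (X : Scheme.{u}) [X.Over (Spec (CommRingCat.of k))] [IsReduced X]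
    (hprojX : ∃ (n : ℕ) (c : X ⟶ CohB1.ProjSpaceOver n (Spec (CommRingCat.of k))),
      IsClosedImmersion c ∧ c ≫ CohB1.ProjSpaceOver.toBase n (Spec (CommRingCat.of k)) = X ↘ (Spec (CommRingCat.of k)))
    (Y : Scheme.{u}) (yY : Y ⟶ (Spec (CommRingCat.of k))) [Smooth yY]
    (hqprojY : ∃ (m : ℕ) (c : Y ⟶ CohB1.ProjSpaceOver m (Spec (CommRingCat.of k))),
      IsImmersion c ∧ c ≫ CohB1.ProjSpaceOver.toBase m (Spec (CommRingCat.of k)) = yY)
    (M : Over (Spec (CommRingCat.of k))) (υ : Over.mk (X ↘ (Spec (CommRingCat.of k))) ⊗ M ⟶ Over.mk yY)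
    (hM : ∀ (T : Over (Spec (CommRingCat.of k))) (φ : Over.mk (X ↘ (Spec (CommRingCat.of k))) ⊗ T ⟶ Over.mk yY),
      ∃! a : T ⟶ M, (Over.mk (X ↘ (Spec (CommRingCat.of k))) ◁ a) ≫ υ = φ)
    (f : X ⟶ Y) (hf : f ≫ yY = X ↘ (Spec (CommRingCat.of k)))
    (af : 𝟙_ (Over (Spec (CommRingCat.of k))) ⟶ M)
    (haf : (Over.mk (X ↘ (Spec (CommRingCat.of k))) ◁ af) ≫ υ = (ρ_ (Over.mk (X ↘ (Spec (CommRingCat.of k))))).hom ≫ (Over.homMk f hf : Over.mk (X ↘ (Spec (CommRingCat.of k))) ⟶ Over.mk yY))
    [DCoh.HasSheafHom ((Scheme.Modules.pullback f).obj (Omega.sheaf yY))] :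
    Module.finrank (IsLocalRing.ResidueField (M.left.presheaf.stalk (af.left.base (IsLocalRing.closedPoint k))))
        (IsLocalRing.CotangentSpace (M.left.presheaf.stalk (af.left.base (IsLocalRing.closedPoint k)))) =
      Module.finrank k (Coh.HH X
        ((DCoh.sheafHom ((Scheme.Modules.pullback f).obj (Omega.sheaf yY))).obj (Coh.structureModule X)) 0) := by
  haveI : QuasiSeparated yY := by
    obtain ⟨n, c, hc, rfl⟩ := hqprojY
    haveI := hc
    haveI : IsProper (CohB1.ProjSpaceOver.toBase n (Spec (CommRingCat.of k))) := HQProj.isProper_toBase n _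
    infer_instance
  letI : M.left.Over (Spec (CommRingCat.of k)) := ⟨M.hom⟩
  let m := af.left.base (IsLocalRing.closedPoint k)
  letI := Curv2.stalkAlgebra k M.left m
  have halg := GeomProp.fromSpecStalk_over k M.left m
  obtain ⟨e₀, -, he₀, -⟩ := InfLift.exists_stalk_hom af.left (x := m) rfl
  letI algK : Algebra (M.left.presheaf.stalk m) k := e₀.hom.toAlgebra
  haveI : IsScalarTower k (M.left.presheaf.stalk m) k := IsScalarTower.of_algebraMap_eq fun x => by
    have h : CommRingCat.ofHom (algebraMap k (M.left.presheaf.stalk m)) ≫ e₀ = 𝟙 _ := by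
      apply Spec.map_injective
      rw [Spec.map_comp, ← halg, reassoc_of% he₀, Spec.map_id]
      exact Over.w af
    exact (congr(($h).hom x)).symm
  obtain ⟨e⟩ := HomTan.nonempty_derivation_equiv υ halg hf haf hM he₀ rfl
  haveI := (DCoh.sheafHomAdj ((Scheme.Modules.pullback f).obj (Omega.sheaf yY))).right_adjoint_additive
  exact ((QuotInf.finrank_derivation k (M.left.presheaf.stalk m)).symm.trans e.finrank_eq).trans
    (LinearEquiv.ofBijective _ (SerrePn.homEval_bijective k _ (Coh.structureModule X))).finrank_eq

end Groth.Agent.S12266
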