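import Groth.Statements.S1227
import Mathlib.Algebra.Module.Projective
import Mathlib.LinearAlgebra.TensorProduct.RightExactness
import Mathlib.RingTheory.TensorProduct.Basic
import Mathlib.LinearAlgebra.TensorProduct.Tower
-- import your own Groth.Agent.* helpers here

set_option autoImplicit false
universe u
open FlatMor

namespace Groth.Agent.S1227

open TensorProduct in
/-- Let u be a surjective linear map from a projective A-module M to an A-module N. Then there is an
ideal I of A such that for every A-algebra B, the base change u ⊗ 1 from B ⊗ M to B ⊗ N is bijective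
if and only if the image of I in B is zero. -/
theorem result {A : Type u} [CommRing A] {M N : Type u} [AddCommGroup M] [Module A M] [Module.Projective A M]
    [AddCommGroup N] [Module A N] (u : M →ₗ[A] N) (hu : Function.Surjective u) :
    ∃ I : Ideal A, ∀ (B : Type u) [CommRing B] [Algebra A B],
      Function.Bijective (u.baseChange B) ↔ I.map (algebraMap A B) = ⊥ := by
  obtain ⟨s, hs⟩ := Module.projective_def'.1 (inferInstance : Module.Projective A M)
  refine ⟨Ideal.span (Set.range fun q : LinearMap.ker u × M => s (q.1 : M) q.2), fun B _ _ => ?_⟩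
  have hex := lTensor_exact B u.exact_subtype_ker_map hu
  have hsurj : Function.Surjective (u.baseChange B) := LinearMap.lTensor_surjective B hu
  rw [Ideal.map_span, Ideal.span_eq_bot]
  constructor
  · intro hbij z hz
    obtain ⟨_, ⟨⟨k, i⟩, rfl⟩, rfl⟩ := hz
    have h0 : (1 : B) ⊗ₜ[A] (k : M) = 0 := hbij.1 (by
      rw [map_zero, LinearMap.baseChange_tmul, LinearMap.mem_ker.1 k.2, TensorProduct.tmul_zero])
    have := congrArg ((TensorProduct.rid A B).toLinearMap.comp
      (LinearMap.lTensor B ((Finsupp.lapply i).comp s))) h0
    simpa [Algebra.algebraMap_eq_smul_one] using this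
  · intro hz
    refine ⟨?_, hsurj⟩
    have hk : ∀ k : LinearMap.ker u, ∀ b : B, b ⊗ₜ[A] (k : M) = 0 := by
      intro k b
      have hkk : (k : M) = Finsupp.linearCombination A id (s k) := (LinearMap.congr_fun hs (k : M)).symm
      rw [hkk, Finsupp.linearCombination_apply, Finsupp.sum, TensorProduct.tmul_sum]
      refine Finset.sum_eq_zero fun i _ => ?_
      rw [id, ← TensorProduct.smul_tmul, Algebra.smul_def,
        hz _ ⟨_, ⟨(k, i), rfl⟩, rfl⟩, zero_mul, TensorProduct.zero_tmul]
    have hzero : LinearMap.lTensor B (LinearMap.ker u).subtype = 0 :=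
      TensorProduct.ext' fun b k => by simpa using hk k b
    rw [injective_iff_map_eq_zero]
    intro x hx
    obtain ⟨y, rfl⟩ := (hex x).1 hx
    rw [hzero, LinearMap.zero_apply]

end Groth.Agent.S1227
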