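import Groth.Statements.S12280
import Groth.Agent.LHilb.HilbApp
import Groth.Agent.S12271
import Groth.Agent.Chow.Core
import Groth.Agent.AdicBasics.Dimension

set_option autoImplicit false
universe u
open CategoryTheory CategoryTheory.Limits AlgebraicGeometry
open scoped TensorProduct
attribute [local instance] HasDerivedCategory.standard
open DefT

namespace Groth.Agent.S12280

/-- Let k be an algebraically closed field, X = P^n_k, and (H, Z) a Hilbert scheme of X over k: H is a
locally Noetherian k-scheme and Z ⊆ X ×_k H a closed subscheme, proper and flat over H, such that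
every closed subscheme of X ×_k T proper and flat over a locally Noetherian k-scheme T is the
pull-back of Z along a unique k-morphism T → H. Let Y ⊆ X be a closed subscheme, regarded as a
k-scheme through X, with ideal sheaf I and normal sheaf N = Hom_{O_Y}(I/I², O_Y) (the sheaf Hom,
assumed to exist as the right adjoint of tensoring with I/I²), and let y ∈ H be the k-point
classifying Y (the pull-back of Z along Spec k → H is Y). If Y → X is a regular closed immersion (Y
is a local complete intersection in X) and H^1(Y, N) = 0, then H is nonsingular at y: the local ring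
O_{H,y} is regular, and its dimension equals dim_k H^0(Y, N). -/
theorem result
    {k : Type u} [Field k] [IsAlgClosed k] (n : ℕ)
    (H : Over (Spec (CommRingCat.of k))) (Z : FGA.HilbSet (CohB1.ProjSpaceOver.toBase n (Spec (CommRingCat.of k))) H) (hH : FGA.HilbRepresentedBy (CohB1.ProjSpaceOver.toBase n (Spec (CommRingCat.of k))) H Z)
    (Y : Scheme.{u}) [Y.Over (Spec (CommRingCat.of k))] (i : Y ⟶ CohB1.ProjSpaceOver n (Spec (CommRingCat.of k))) [IsClosedImmersion i]
    (hi : i ≫ CohB1.ProjSpaceOver.toBase n (Spec (CommRingCat.of k)) = Y ↘ Spec (CommRingCat.of k))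
    (hreg : Mor2.IsRegularClosedImmersion i)
    [DCoh.HasSheafHom (Omega.conormal i)]
    (y : Over.mk (𝟙 (Spec (CommRingCat.of k))) ⟶ H)
    (hy : FGA.hilbPull (CohB1.ProjSpaceOver.toBase n (Spec (CommRingCat.of k))) y Z.1 = i.ker.comap (pullback.fst (CohB1.ProjSpaceOver.toBase n (Spec (CommRingCat.of k))) (Over.mk (𝟙 (Spec (CommRingCat.of k)))).hom))
    (h1 : Subsingleton (Coh.HH Y ((DCoh.sheafHom (Omega.conormal i)).obj (Coh.structureModule Y)) 1)) :
    IsRegularLocalRing (H.left.presheaf.stalk (y.left.base (IsLocalRing.closedPoint k))) ∧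
      ringKrullDim (H.left.presheaf.stalk (y.left.base (IsLocalRing.closedPoint k))) = (Module.finrank k (Coh.HH Y ((DCoh.sheafHom (Omega.conormal i)).obj (Coh.structureModule Y)) 0) : WithBot ℕ∞) := by
  haveI : IsProper (CohB1.ProjSpaceOver.toBase n (Spec (CommRingCat.of k))) := Chow.isProper_toBase n _
  haveI : QuasiCompact (CohB1.ProjSpaceOver.toBase n (Spec (CommRingCat.of k))) := inferInstance
  haveI := hH.1
  haveI : IsNoetherianRing (LHilb.locR H y) := inferInstanceAs (IsNoetherianRing (H.left.presheaf.stalk _))
  let R := LHilb.proRepHilb _ hy hH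
  obtain ⟨hle, hge, -⟩ := Groth.Agent.S12271.result (CohB1.ProjSpaceOver n (Spec (CommRingCat.of k))) _ Y i hi hreg
    ⟨n, i, inferInstance, hi⟩ R
  haveI := h1
  rw [Module.finrank_zero_of_subsingleton (R := k) (M := Coh.HH Y _ 1), Nat.cast_zero] at hge
  have h0 := LHilb.finrank_h0_eq_spanFinrank _ i hi R
  have hdim : ringKrullDim R.ring.carrier = (Module.finrank k (Coh.HH Y ((DCoh.sheafHom (Omega.conormal i)).obj
      (Coh.structureModule Y)) 0) : WithBot ℕ∞) := le_antisymm hle (by simpa using hge)
  have hR : ringKrullDim (LHilb.locR H y) = ringKrullDim R.ring.carrier :=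
    (AdicBasics.ringKrullDim_completion (LHilb.locR H y)).symm
  refine ⟨(AdicBasics.isRegularLocalRing_completion_iff (LHilb.locR H y)).2 ((isRegularLocalRing_iff _).2 ?_),
    hR.trans hdim⟩
  rw [h0] at hdim
  exact hdim.symm

end Groth.Agent.S12280
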