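import Groth.Statements.S12281
import Groth.Agent.LHilb.CM2App
import Groth.Agent.LHilb.HilbApp
import Groth.Agent.S12722
import Groth.Agent.Cohen.Structure
import Groth.Agent.Chow.Core
import Groth.Agent.CycPB.BundleSmooth
import Groth.Agent.AdicBasics.Dimension

set_option autoImplicit false
set_option linter.style.haveILetI false
universe u
open CategoryTheory CategoryTheory.Limits AlgebraicGeometry
open scoped TensorProduct
attribute [local instance] HasDerivedCategory.standard
open DefT

namespace Groth.Agent.S12281

/-- Let k be an algebraically closed field, X = P^n_k, and (H, Z) a Hilbert scheme of X over k: H is a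
locally Noetherian k-scheme and Z ⊆ X ×_k H a closed subscheme, proper and flat over H, such that
every closed subscheme of X ×_k T proper and flat over a locally Noetherian k-scheme T is the
pull-back of Z along a unique k-morphism T → H. Let Y ⊆ X be a closed subscheme, regarded as a
k-scheme through X, with ideal sheaf I and normal sheaf N = Hom_{O_Y}(I/I², O_Y) (the sheaf Hom,
assumed to exist as the right adjoint of tensoring with I/I²), and let y ∈ H be the k-point
classifying Y (the pull-back of Z along Spec k → H is Y). If Y is Cohen–Macaulay of codimension 2 in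
X (every local ring of Y is Cohen–Macaulay and dim O_{X,y'} = dim O_{Y,y'} + 2 at every point y' of
Y) and H^1(Y, N) = 0, then H is nonsingular at y: the local ring O_{H,y} is regular. (The published
statement assumes 'no local obstructions to deformations of Y' and H^1(Y, N) = 0; this row is the
case, named in the text, where the first hypothesis holds because Y is Cohen–Macaulay of codimension
2.) -/
theorem result
    {k : Type u} [Field k] [IsAlgClosed k] (n : ℕ)
    (H : Over (Spec (CommRingCat.of k))) (Z : FGA.HilbSet (CohB1.ProjSpaceOver.toBase n (Spec (CommRingCat.of k))) H) (hH : FGA.HilbRepresentedBy (CohB1.ProjSpaceOver.toBase n (Spec (CommRingCat.of k))) H Z)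
    (Y : Scheme.{u}) (i : Y ⟶ CohB1.ProjSpaceOver n (Spec (CommRingCat.of k))) [IsClosedImmersion i]
    (hCM : ∀ y' : Y, LocCoh.IsCohenMacaulayLocalRing (Y.presheaf.stalk y'))
    (hcodim : ∀ y' : Y, ringKrullDim (Y.presheaf.stalk y') + 2 = ringKrullDim ((CohB1.ProjSpaceOver n (Spec (CommRingCat.of k))).presheaf.stalk (i.base y')))
    [DCoh.HasSheafHom (Omega.conormal i)]
    (y : Over.mk (𝟙 (Spec (CommRingCat.of k))) ⟶ H)
    (hy : FGA.hilbPull (CohB1.ProjSpaceOver.toBase n (Spec (CommRingCat.of k))) y Z.1 = i.ker.comap (pullback.fst (CohB1.ProjSpaceOver.toBase n (Spec (CommRingCat.of k))) (Over.mk (𝟙 (Spec (CommRingCat.of k)))).hom))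
    (h1 : Subsingleton (Coh.HH Y ((DCoh.sheafHom (Omega.conormal i)).obj (Coh.structureModule Y)) 1)) :
    IsRegularLocalRing (H.left.presheaf.stalk (y.left.base (IsLocalRing.closedPoint k))) := by
  haveI : IsProper (CohB1.ProjSpaceOver.toBase n (Spec (CommRingCat.of k))) := Chow.isProper_toBase n _
  haveI : Smooth (CohB1.ProjSpaceOver.toBase n (Spec (CommRingCat.of k))) := CycPB.smooth_toBase n _
  haveI := hH.1
  haveI : IsNoetherianRing (LHilb.locR H y) := inferInstanceAs (IsNoetherianRing (H.left.presheaf.stalk _))
  let R := LHilb.proRepHilb _ hy hH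
  have hsm := LHilb.isSmoothFunctor_of_cm_two_immersion (CohB1.ProjSpaceOver.toBase n (Spec (CommRingCat.of k))) i
    hCM hcodim h1
  have hR : ArtFun.IsSmoothFunctor (ArtFun.hR R.ring.carrier R.ring.res) := fun B A μ hμ φ => by
    obtain ⟨w, hw⟩ := hsm μ hμ (R.family.app A φ)
    obtain ⟨ψ, rfl⟩ := (R.universal B).2 w
    exact ⟨ψ, (R.universal A).1 ((R.family.natural μ ψ).trans hw)⟩
  haveI : IsAdicComplete (IsLocalRing.maximalIdeal k) k := by
    rw [IsLocalRing.maximalIdeal_eq_bot]; infer_instance
  obtain ⟨d, ⟨e⟩⟩ := (Groth.Agent.S12722.result (Λ := k) (k := k) Function.surjective_id R.ring).1 hR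
  haveI := Cohen.isRegularLocalRing_mvPowerSeries k d
  exact (AdicBasics.isRegularLocalRing_completion_iff (LHilb.locR H y)).2
    (IsRegularLocalRing.of_ringEquiv e.symm.toRingEquiv)

end Groth.Agent.S12281
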