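import Groth.Statements.S12282
import Groth.Agent.LHilb.HilbApp
import Groth.Agent.LHilb.ObsTheoryHilb
import Groth.Agent.S12271
import Groth.Agent.S9524
import Groth.Agent.Chow.Core
import Groth.Agent.AdicBasics.Dimension

set_option autoImplicit false
universe u
open CategoryTheory CategoryTheory.Limits AlgebraicGeometry
open scoped TensorProduct
attribute [local instance] HasDerivedCategory.standard
open DefT

namespace Groth.Agent.S12282

/-- Let k be an algebraically closed field, X = P^n_k, and (H, Z) a Hilbert scheme of X over k: H is a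
locally Noetherian k-scheme and Z ⊆ X ×_k H a closed subscheme, proper and flat over H, such that
every closed subscheme of X ×_k T proper and flat over a locally Noetherian k-scheme T is the
pull-back of Z along a unique k-morphism T → H. Let Y ⊆ X be a closed subscheme, regarded as a
k-scheme through X, with ideal sheaf I and normal sheaf N = Hom_{O_Y}(I/I², O_Y) (the sheaf Hom,
assumed to exist as the right adjoint of tensoring with I/I²), and let y ∈ H be the k-point
classifying Y (the pull-back of Z along Spec k → H is Y). If Y → X is a regular closed immersion (Y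
is a local complete intersection in X), then the dimension of H at y is at least h^0(Y, N) − h^1(Y,
N), written dim_k H^0(Y, N) ≤ dim O_{H,y} + dim_k H^1(Y, N); and when equality holds, O_{H,y} is a
complete intersection ring (its completion is the quotient of a regular local ring modulo a regular
sequence). -/
theorem result
    {k : Type u} [Field k] [IsAlgClosed k] (n : ℕ)
    (H : Over (Spec (CommRingCat.of k))) (Z : FGA.HilbSet (CohB1.ProjSpaceOver.toBase n (Spec (CommRingCat.of k))) H) (hH : FGA.HilbRepresentedBy (CohB1.ProjSpaceOver.toBase n (Spec (CommRingCat.of k))) H Z)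
    (Y : Scheme.{u}) [Y.Over (Spec (CommRingCat.of k))] (i : Y ⟶ CohB1.ProjSpaceOver n (Spec (CommRingCat.of k))) [IsClosedImmersion i]
    (hi : i ≫ CohB1.ProjSpaceOver.toBase n (Spec (CommRingCat.of k)) = Y ↘ Spec (CommRingCat.of k))
    (hreg : Mor2.IsRegularClosedImmersion i)
    [DCoh.HasSheafHom (Omega.conormal i)]
    (y : Over.mk (𝟙 (Spec (CommRingCat.of k))) ⟶ H)
    (hy : FGA.hilbPull (CohB1.ProjSpaceOver.toBase n (Spec (CommRingCat.of k))) y Z.1 = i.ker.comap (pullback.fst (CohB1.ProjSpaceOver.toBase n (Spec (CommRingCat.of k))) (Over.mk (𝟙 (Spec (CommRingCat.of k)))).hom)) :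
    (Module.finrank k (Coh.HH Y ((DCoh.sheafHom (Omega.conormal i)).obj (Coh.structureModule Y)) 0) : WithBot ℕ∞) ≤
        ringKrullDim (H.left.presheaf.stalk (y.left.base (IsLocalRing.closedPoint k))) + (Module.finrank k (Coh.HH Y ((DCoh.sheafHom (Omega.conormal i)).obj (Coh.structureModule Y)) 1) : WithBot ℕ∞) ∧
      (ringKrullDim (H.left.presheaf.stalk (y.left.base (IsLocalRing.closedPoint k))) + (Module.finrank k (Coh.HH Y ((DCoh.sheafHom (Omega.conormal i)).obj (Coh.structureModule Y)) 1) : WithBot ℕ∞) =
          (Module.finrank k (Coh.HH Y ((DCoh.sheafHom (Omega.conormal i)).obj (Coh.structureModule Y)) 0) : WithBot ℕ∞) →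
        Pi1.IsCompleteIntersection (H.left.presheaf.stalk (y.left.base (IsLocalRing.closedPoint k)))) := by
  haveI : IsProper (CohB1.ProjSpaceOver.toBase n (Spec (CommRingCat.of k))) := Chow.isProper_toBase n _
  haveI := hH.1
  haveI : IsNoetherianRing (LHilb.locR H y) := inferInstanceAs (IsNoetherianRing (H.left.presheaf.stalk _))
  let R := LHilb.proRepHilb _ hy hH
  obtain ⟨-, hge, -⟩ := Groth.Agent.S12271.result (CohB1.ProjSpaceOver n (Spec (CommRingCat.of k))) _ Y i hi hreg
    ⟨n, i, inferInstance, hi⟩ R
  have hR : ringKrullDim (LHilb.locR H y) = ringKrullDim R.ring.carrier :=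
    (AdicBasics.ringKrullDim_completion (LHilb.locR H y)).symm
  refine ⟨le_of_le_of_eq (by exact_mod_cast hge) (congrArg (· + _) hR.symm), fun heq => ?_⟩
  let y' := CohB1.ProjSpaceOver.toBase n (Spec (CommRingCat.of k))
  letI : i.ker.subscheme.Over (Spec (CommRingCat.of k)) := ⟨i.ker.subschemeι ≫ y'⟩
  haveI : EnoughInjectives Y.Modules := Groth.Agent.SerrePn.enoughInjectives
  haveI : HasExt.{u} Y.Modules := hasExt_of_enoughInjectives _
  haveI : EnoughInjectives i.ker.subscheme.Modules := Groth.Agent.SerrePn.enoughInjectives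
  haveI : HasExt.{u} i.ker.subscheme.Modules := hasExt_of_enoughInjectives _
  have hI := LHilb.isH1Local_ker i hreg
  have hfl : FlatMod.IsFinLocFree (Omega.conormal i) :=
    ConormalH1.isFinLocFree_conormal i ⟨inferInstance, fun z => by
      obtain ⟨U, hU, hz, rs, hrs, hker⟩ := hreg.2 z
      refine ⟨⟨U, hU⟩, hz, MorphismProperty.of_isPullback (isPullback_morphismRestrict i U).flip inferInstance,
        rs, ?_, (Scheme.Hom.ker_apply i ⟨U, hU⟩).symm.trans hker⟩
      refine KoszulLib.isH1Regular_of_acyclic (KoszulLib.acyclic_of_isWeaklyRegular' ?_)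
      rw [List.ofFn_get]
      exact hrs.toIsWeaklyRegular⟩
  obtain ⟨eX1⟩ := SerrePn.ext_equiv_hh k (Omega.conormal i) hfl 1 (Coh.structureModule Y)
  obtain ⟨g1⟩ := LHilb.nonempty_ext_conormal_equiv y' i hi.symm rfl 1
  obtain ⟨g⟩ := LHilb.nonempty_obGrp_equiv (k := k) i.ker
  haveI : IsProper (Y ↘ Spec (CommRingCat.of k)) := by rw [← hi]; infer_instance
  haveI : IsLocallyNoetherian (CohB1.ProjSpaceOver n (Spec (CommRingCat.of k))) :=
    LocallyOfFiniteType.isLocallyNoetherian y'
  haveI : IsLocallyNoetherian Y := LocallyOfFiniteType.isLocallyNoetherian i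
  have hC : Coh.IsCoh (Omega.conormal i) := QC.isCoh_pullback _ (CurveRR.isCoh_idealMod _).1
  have hN := Groth.Agent.S9524.result Y (Omega.conormal i) (Coh.structureModule Y) hC (Devissage.isCoh_unit _)
  haveI := CohFinite.finite_proper k Y _ hN 1
  let e := ((g.trans g1.symm).trans eX1)
  obtain ⟨T⟩ := LHilb.hasObsTheory y' e hI rfl
  refine LHilb.isCompleteIntersection_of_obs R (RingEquiv.refl _) _ T (heq.trans ?_)
  rw [LHilb.finrank_h0_eq_spanFinrank _ i hi R]

end Groth.Agent.S12282
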