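import Groth.Statements.S12285
import Groth.Agent.CotT.NineTerm

set_option autoImplicit false
universe u w m
open scoped TensorProduct
open DefT

set_option maxHeartbeats 4000000
namespace Groth.Agent.S12285

/-- Let A → B → C be ring homomorphisms and M a C-module. Compute T^i(C/B, M), T^i(C/A, M) and T^i(B/A,
M) from the choice-free presentations (every element a variable, every kernel element a relation),
and let T^i(C/B, M) → T^i(C/A, M) and T^i(C/A, M) → T^i(B/A, M) be the maps induced by the morphisms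
of presentations given by A → B over the identity of C and by B → C over the identity of A. Then
T^0(C/B, M) → T^0(C/A, M) is injective, the sequences T^i(C/B, M) → T^i(C/A, M) → T^i(B/A, M) are
exact for i = 0, 1, 2, and there are additive connecting maps δ₀ : T^0(B/A, M) → T^1(C/B, M) and δ₁
: T^1(B/A, M) → T^2(C/B, M) making the nine-term sequence 0 → T^0(C/B) → T^0(C/A) → T^0(B/A) →
T^1(C/B) → T^1(C/A) → T^1(B/A) → T^2(C/B) → T^2(C/A) → T^2(B/A) exact. (The connecting maps are
asserted to exist with this exactness only, and only as additive maps; the published statement is an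
exact sequence of C-modules, with C-linear connecting maps.) -/
theorem result
    (A B C : Type u) [CommRing A] [CommRing B] [CommRing C] [Algebra A B] [Algebra B C] [Algebra A C]
    [IsScalarTower A B C] (M : Type u) [AddCommGroup M] [Module C M] [Module B M] [IsScalarTower B C M] :
    Function.Injective ((CotT.canonHom A C B C).T0pull M) ∧
    Function.Exact ((CotT.canonHom A C B C).T0pull M) ((CotT.canonHom A B A C).T0pull M) ∧
    Function.Exact ((CotT.canonHom A C B C).T1pull M) ((CotT.canonHom A B A C).T1pull M) ∧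
    Function.Exact ((CotT.canonHom A C B C).T2pull M) ((CotT.canonHom A B A C).T2pull M) ∧
    ∃ (δ₀ : CotT.T0 (CotT.canon A B) M →+ CotT.T1 (CotT.canon B C) M)
      (δ₁ : CotT.T1 (CotT.canon A B) M →+ CotT.T2 (CotT.canon B C) M),
      Function.Exact ((CotT.canonHom A B A C).T0pull M) δ₀ ∧ Function.Exact δ₀ ((CotT.canonHom A C B C).T1pull M) ∧
      Function.Exact ((CotT.canonHom A B A C).T1pull M) δ₁ ∧ Function.Exact δ₁ ((CotT.canonHom A C B C).T2pull M) := by
  let h := Groth.Agent.CotT.anyHom ((CotT.canon B C).comp (CotT.canon A B)) (CotT.canon A C)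
  obtain ⟨b0, b1, b2⟩ := Groth.Agent.CotT.pull_bijective M h
  obtain ⟨o0, o1, o2⟩ := Groth.Agent.CotT.pull_triangle (h' := CotT.canonHom A C B C) (h := h) M
    (Groth.Agent.CotT.outH (CotT.canon B C) (CotT.canon A B))
  obtain ⟨i0, i1, i2⟩ := Groth.Agent.CotT.pull_triangle (h' := h)
    (h := Groth.Agent.CotT.inH (CotT.canon B C) (CotT.canon A B)) M (CotT.canonHom A B A C)
  obtain ⟨hinj, e0, e1, e2, δ₀, δ₁, d0, d0', d1, d1'⟩ :=
    Groth.Agent.CotT.nine_term (CotT.canon B C) (CotT.canon A B) M
  have mid : ∀ {X Y Y' Z : Type u} [Zero Z] {e : Y → Y'} {f : X → Y} {g : Y → Z} {f' : X → Y'} {g' : Y' → Z},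
      Function.Bijective e → (∀ x, f' x = e (f x)) → (∀ y, g y = g' (e y)) → Function.Exact f' g' →
      Function.Exact f g := by
    intro X Y Y' Z _ e f g f' g' he hf hg hex y
    rw [hg, hex]
    constructor
    · rintro ⟨x, hx⟩; exact ⟨x, he.1 ((hf x).symm.trans hx)⟩
    · rintro ⟨x, rfl⟩; exact ⟨x, hf x⟩
  have right : ∀ {Y Y' Z W : Type u} [Zero W] {e : Y → Y'} {g : Y → Z} {g' : Y' → Z} {δ : Z → W},
      Function.Surjective e → (∀ y, g y = g' (e y)) → Function.Exact g' δ → Function.Exact g δ := by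
    intro Y Y' Z W _ e g g' δ he hg hex z
    rw [hex]
    constructor
    · rintro ⟨y', rfl⟩; obtain ⟨y, rfl⟩ := he y'; exact ⟨y, hg y⟩
    · rintro ⟨y, rfl⟩; exact ⟨e y, (hg y).symm⟩
  have left : ∀ {W X Y Y' : Type u} [Zero Y] [Zero Y'] {e : Y → Y'} {f : X → Y} {f' : X → Y'} {δ : W → X},
      Function.Injective e → e 0 = 0 → (∀ x, f' x = e (f x)) → Function.Exact δ f' → Function.Exact δ f := by
    intro W X Y Y' _ _ e f f' δ he h0 hf hex x
    rw [← hex x, hf, ← h0, he.eq_iff]
  exact ⟨fun x y hxy => hinj ((o0 x).trans ((congrArg _ hxy).trans (o0 y).symm)), mid b0 o0 i0 e0, mid b1 o1 i1 e1,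
    mid b2 o2 i2 e2, δ₀, δ₁, right b0.2 i0 d0, left b1.1 (map_zero _) o1 d0', right b1.2 i1 d1,
    left b2.1 (map_zero _) o2 d1'⟩

end Groth.Agent.S12285
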