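import Groth.Statements.S12288
import Groth.Agent.CotT.Regular

set_option autoImplicit false
universe u w m
open scoped TensorProduct
open DefT

set_option maxHeartbeats 1000000
namespace Groth.Agent.S12288

/-- Let A be a local ring and A → B a surjective ring homomorphism whose kernel is generated by a
regular sequence a_1, …, a_r on A (each a_i is a non-zero-divisor on A/(a_1, …, a_{i-1}) and the
ideal is proper). Then T^2(B/A, M) = 0 for every B-module M, the module being computed from the
choice-free presentation of B over A. -/
theorem result
    (A B : Type u) [CommRing A] [IsLocalRing A] [CommRing B] [Algebra A B]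
    (hs : Function.Surjective (algebraMap A B)) (rs : List A) (hreg : RingTheory.Sequence.IsRegular A rs)
    (hI : RingHom.ker (algebraMap A B) = Ideal.ofList rs) (M : Type u) [AddCommGroup M] [Module B M] :
    Subsingleton (CotT.T2 (CotT.canon A B) M) := by
  have hw : Groth.Agent.CotT.IsWReg (fun i : Fin rs.length => rs.get i) :=
    Groth.Agent.CotT.isWReg_of_list rs hreg.toIsWeaklyRegular
  have hb : RingHom.ker (algebraMap A B) = Ideal.span (Set.range fun i : Fin rs.length => rs.get i) := by
    rw [hI, Set.range_list_get]
  let P : Algebra.Presentation A B PEmpty.{u + 1} (Fin rs.length) :=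
    Groth.Agent.CotT.quotPres.{u, u, u} _ hs hb
  have h2 : Subsingleton (CotT.T2 P M) := Groth.Agent.CotT.subsingleton_T2 P
    (Groth.Agent.CotT.subsingleton_L2_of_regular P (Groth.Agent.CotT.quotPres_regular.{u, u, u} _ hs hb hw)) M
  exact (Groth.Agent.CotT.T2equiv P (CotT.canon A B) M).toEquiv.subsingleton

end Groth.Agent.S12288
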