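import Groth.Statements.S12293
import Groth.Agent.RigidDef.Dual
import Groth.Agent.CotT.ExalT1

set_option autoImplicit false
universe u w m
open CategoryTheory CategoryTheory.Limits AlgebraicGeometry
open scoped TensorProduct
open DefT

namespace Groth.Agent.S12293

/-- Let k be a field and B a k-algebra. The set of isomorphism classes of deformations of X = Spec B
over the dual numbers D = k[ε] (schemes flat over Spec D with a morphism from X identifying X with
the fibre over the closed point, up to isomorphism over Spec D and under X) is in bijection with the
B-module T^1(B/k, B), computed from the choice-free presentation of B over k. (The published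
statement calls the correspondence natural; this row asserts the existence of a bijection.) -/
theorem result
    (k B : Type u) [Field k] [CommRing B] [Algebra k B] :
    Nonempty ((ArtFun.defFunctor (Λ := k) (Spec (CommRingCat.of B)) (Spec.map (CommRingCat.ofHom (algebraMap k B)))).obj
        (ArtFun.Art.dual k k) ≃ CotT.T1 (CotT.canon k B) B) := by
  obtain ⟨e⟩ := Groth.Agent.RigidDef.nonempty_equiv (k := k) (B := B)
  obtain ⟨e', -⟩ := Groth.Agent.CotT.exists_equiv_T1 (P := CotT.canon k B) (M := B)
  exact ⟨e.symm.trans e'⟩

end Groth.Agent.S12293
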