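import Groth.Statements.S12299
import Groth.Agent.ArtKit.Formal

set_option autoImplicit false
universe u v
open CategoryTheory
open ArtFun

namespace Groth.Agent.S12299

/-- Let k be an algebraically closed field, F a set-valued functor on local Artinian k-algebras with
residue field k, and (R, ξ) a miniversal family for F, with R a complete local Noetherian k-algebra
with residue field k: the morphism h_R → F has the lifting property along surjections and is
bijective on the dual numbers. Let S be a complete local Noetherian k-algebra with residue field k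
and g₁, g₂ : R → S two k-algebra maps compatible with the augmentations along which ξ induces the
same formal family over S (the same compatible sequence in the F(S/m^(n+1))). Then g₁ and g₂ induce
the same map R → S/m_S², so the map R/m_R² → S/m_S² attached to a formal family over S is well
defined. (Coefficient rings are taken Noetherian here.) -/
theorem result
    {k : Type u} [Field k] [IsAlgClosed k] {F : ArtFun.Art k k ⥤ Type v}
    (R : ArtFun.CRing k k) (ξ : ArtFun.Family R.carrier R.res F) (hξ : ArtFun.IsMiniversal ξ)
    (S : ArtFun.CRing k k) (g₁ g₂ : R.carrier →ₐ[k] S.carrier)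
    (hg₁ : S.res.comp g₁ = R.res) (hg₂ : S.res.comp g₂ = R.res)
    (h : (ξ.along g₁ hg₁).toFormalElt = (ξ.along g₂ hg₂).toFormalElt) :
    (S.truncHom 1).1.comp g₁ = (S.truncHom 1).1.comp g₂ := by
  refine AlgHom.ext fun r => sub_eq_zero.1 ((Module.forall_dual_apply_eq_zero_iff k _).1 fun ψ => ?_)
  have hsq : ∀ x y : (S.trunc 1).carrier, (S.trunc 1).res x = 0 → (S.trunc 1).res y = 0 → x * y = 0 := by
    intro x y hx hy
    obtain ⟨a, rfl⟩ := Groth.Agent.ArtKit.truncHom_surjective S 1 x
    obtain ⟨b, rfl⟩ := Groth.Agent.ArtKit.truncHom_surjective S 1 y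
    rw [Groth.Agent.ArtKit.homSet_res_app, ← ArtFun.CRing.mem_maximalIdeal_iff] at hx hy
    rw [← map_mul]
    refine Ideal.Quotient.eq_zero_iff_mem.2 ?_
    show a * b ∈ IsLocalRing.maximalIdeal S.carrier ^ (1 + 1)
    rw [pow_succ, pow_one]
    exact Ideal.mul_mem_mul hx hy
  let T := (S.trunc 1).carrier
  let P : T → T := fun x => x - algebraMap k T ((S.trunc 1).res x)
  have hP0 : ∀ x, (S.trunc 1).res (P x) = 0 := fun x => by
    show (S.trunc 1).res (x - _) = 0
    rw [map_sub, AlgHom.commutes, Algebra.algebraMap_self, RingHom.id_apply, sub_self]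
  let m : S.trunc 1 ⟶ ArtFun.Art.dual k k := ArtFun.Art.homMk
    ({ toFun := fun x => ((S.trunc 1).res x, ψ (P x))
       map_one' := TrivSqZeroExt.ext (map_one _) (by
         show ψ (P 1) = 0
         rw [show P 1 = 0 by simp only [P, map_one, sub_self], map_zero])
       map_zero' := TrivSqZeroExt.ext (map_zero _) (by
         show ψ (P 0) = 0
         rw [show P 0 = 0 by simp only [P, map_zero, sub_self], map_zero])
       map_add' := fun x y => TrivSqZeroExt.ext (map_add _ x y) (by
         show ψ (P (x + y)) = ψ (P x) + ψ (P y)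
         rw [← map_add]
         congr 1
         simp only [P, map_add]
         abel)
       map_mul' := fun x y => TrivSqZeroExt.ext (map_mul _ x y) (by
         show ψ (P (x * y)) = (S.trunc 1).res x • ψ (P y) + MulOpposite.op ((S.trunc 1).res y) • ψ (P x)
         rw [op_smul_eq_smul, ← map_smul, ← map_smul, ← map_add]
         congr 1
         have := hsq _ _ (hP0 x) (hP0 y)
         simp only [P, Algebra.smul_def, map_mul] at this ⊢
         linear_combination this)
       commutes' := fun c => TrivSqZeroExt.ext ((S.trunc 1).res.commutes c) (by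
         show ψ (P (algebraMap k T c)) = 0
         rw [show P (algebraMap k T c) = 0 by
           show algebraMap k T c - algebraMap k T ((S.trunc 1).res (algebraMap k (S.trunc 1).carrier c)) = 0; rw [AlgHom.commutes, Algebra.algebraMap_self, RingHom.id_apply, sub_self], map_zero]) } :
      (S.trunc 1).carrier →ₐ[k] DualNumber k) (AlgHom.ext fun x => rfl)
  have key : ArtFun.HomSet.map m ⟨(S.truncHom 1).1.comp g₁, by rw [← AlgHom.comp_assoc, (S.truncHom 1).2, hg₁]⟩ =
      ArtFun.HomSet.map m ⟨(S.truncHom 1).1.comp g₂, by rw [← AlgHom.comp_assoc, (S.truncHom 1).2, hg₂]⟩ := by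
    refine hξ.2.1 ?_
    refine ((ξ.natural m _).trans ?_).trans (ξ.natural m _).symm
    exact congrArg (F.map m) (congrArg (fun u => u.elt 1) h)
  have e1 : ψ (P ((S.truncHom 1).1 (g₁ r))) = ψ (P ((S.truncHom 1).1 (g₂ r))) :=
    congrArg TrivSqZeroExt.snd (DFunLike.congr_fun (congrArg Subtype.val key) r)
  simp only [P, Groth.Agent.ArtKit.homSet_res_app, map_sub] at e1
  rw [← AlgHom.comp_apply S.res g₁, ← AlgHom.comp_apply S.res g₂, hg₁, hg₂, sub_left_inj] at e1
  rw [map_sub, sub_eq_zero]
  exact e1

end Groth.Agent.S12299
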