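import Groth.Statements.S12304
import Groth.Agent.ResExt.Completion
import Mathlib.RingTheory.AdicCompletion.LocalRing
import Mathlib.RingTheory.Artinian.Ring
import Mathlib.AlgebraicGeometry.Stalk
import Mathlib.AlgebraicGeometry.Noetherian

set_option autoImplicit false
universe u
open CategoryTheory CategoryTheory.Limits AlgebraicGeometry
open ArtFun

namespace Groth.Agent.S12304

open IsLocalRing

/-- Augmentation-compatible maps out of the completion of an augmented Noetherian local `k`-algebra. -/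
theorem exists_cring_equiv {k : Type u} [Field k] (O : Type u) [CommRing O] [IsLocalRing O]
    [IsNoetherianRing O] [Algebra k O] (θ : O →ₐ[k] k) :
    ∃ (R : ArtFun.CRing k k) (e : ∀ A : ArtFun.Art k k, ArtFun.HomSet R.carrier R.res A ≃
        {φ : O →ₐ[k] A // A.res.comp φ = θ}),
      ∀ (A B : ArtFun.Art k k) (h : A ⟶ B) (φ : ArtFun.HomSet R.carrier R.res A),
        ((e B) (ArtFun.HomSet.map h φ)).1 = h.toAlgHom.comp ((e A) φ).1 := by
  classical
  let m := maximalIdeal O
  have hθs : Function.Surjective θ := fun c ↦ ⟨algebraMap k O c, θ.commutes c⟩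
  have hθ : RingHom.ker θ.toRingHom = m := by
    haveI := RingHom.ker_isMaximal_of_surjective θ.toRingHom hθs
    exact eq_maximalIdeal inferInstance
  haveI : IsNoetherianRing (AdicCompletion m O) :=
    Groth.Agent.ResExt.isNoetherianRing_adicCompletion m (IsNoetherian.noetherian m)
  let ι : O →ₐ[k] AdicCompletion m O :=
    (Algebra.ofId O (AdicCompletion m O)).restrictScalars k
  let ev : ∀ n, AdicCompletion m O →ₐ[k] O ⧸ m ^ n := fun n ↦
    (AdicCompletion.evalₐ m n).restrictScalars k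
  have hev : ∀ n x, ev n (ι x) = Ideal.Quotient.mk _ x := fun n x ↦
    AdicCompletion.evalₐ_of m n x
  have hm1 : ∀ a ∈ m ^ 1, θ a = 0 := fun a ha ↦ by
    rw [pow_one, ← hθ] at ha; exact ha
  let resR : AdicCompletion m O →ₐ[k] k := (Ideal.Quotient.liftₐ (m ^ 1) θ hm1).comp (ev 1)
  have hres : ∀ x, resR (ι x) = θ x := fun x ↦ by
    rw [AlgHom.comp_apply, hev]; rfl
  let R : ArtFun.CRing k k :=
    { carrier := AdicCompletion m O
      res := resR
      res_surjective := fun c ↦ ⟨algebraMap k _ c, resR.commutes c⟩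
      isAdicComplete := inferInstance }
  -- powers of the maximal ideal of the completion
  have hapx : ∀ (n : ℕ) (x : AdicCompletion m O), ∃ z : O,
      x - ι z ∈ maximalIdeal (AdicCompletion m O) ^ n := by
    intro n x
    obtain ⟨z, hz⟩ := Ideal.Quotient.mk_surjective (x.1 n)
    refine ⟨z, ?_⟩
    rw [AdicCompletion.maximalIdeal_eq_map, ← Ideal.map_pow, ← Submodule.restrictScalars_mem O,
      ← Ideal.smul_top_eq_map,
      AdicCompletion.pow_smul_top_eq_ker_eval (IsNoetherian.noetherian m)]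
    rw [LinearMap.mem_ker, map_sub, sub_eq_zero]
    exact hz.symm
  have hlocal : ∀ (A : ArtFun.Art k k) (ψ : O →ₐ[k] A), A.res.comp ψ = θ →
      ∀ a ∈ m, ψ a ∈ maximalIdeal A := fun A ψ hψ a ha ↦ by
    rw [ArtFun.Art.mem_maximalIdeal_iff, ← AlgHom.comp_apply, hψ]
    exact hθ.ge ha
  have hN : ∀ A : ArtFun.Art k k, ∃ N : ℕ, 1 ≤ N ∧ maximalIdeal A ^ N = ⊥ := fun A ↦ by
    obtain ⟨N, hN⟩ := IsArtinianRing.isNilpotent_jacobson_bot (R := A)
    rw [IsLocalRing.jacobson_eq_maximalIdeal _ bot_ne_top] at hN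
    exact ⟨N + 1, by omega, le_bot_iff.1 ((Ideal.pow_le_pow_right N.le_succ).trans hN.le)⟩
  -- the extension to the completion
  have hext : ∀ (A : ArtFun.Art k k) (ψ : O →ₐ[k] A), A.res.comp ψ = θ →
      ∃ Φ : ArtFun.HomSet R.carrier R.res A, Φ.1.comp ι = ψ := by
    intro A ψ hψ
    obtain ⟨N, hN1, hN⟩ := hN A
    have hker : ∀ a ∈ m ^ N, ψ a = 0 := by
      intro a ha
      have : ψ a ∈ maximalIdeal A ^ N := by
        have h1 : Ideal.map ψ.toRingHom m ≤ maximalIdeal A :=
          Ideal.map_le_iff_le_comap.2 (hlocal A ψ hψ)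
        exact Ideal.pow_right_mono h1 N
          (by rw [← Ideal.map_pow]; exact Ideal.mem_map_of_mem _ ha)
      rw [hN] at this; exact this
    let Φ : AdicCompletion m O →ₐ[k] A := (Ideal.Quotient.liftₐ (m ^ N) ψ hker).comp (ev N)
    have hΦ : Φ.comp ι = ψ := AlgHom.ext fun x ↦ by
      show Φ (ι x) = ψ x
      rw [AlgHom.comp_apply, hev]; rfl
    refine ⟨⟨Φ, AlgHom.ext fun x ↦ ?_⟩, hΦ⟩
    obtain ⟨z, hz⟩ := hapx N x
    have e1 : ∀ y ∈ maximalIdeal (AdicCompletion m O) ^ N, Φ y = 0 := by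
      intro y hy
      rw [AdicCompletion.maximalIdeal_eq_map, ← Ideal.map_pow] at hy
      refine (Ideal.map_le_iff_le_comap.2 (fun a ha ↦ ?_) : _ ≤ RingHom.ker Φ.toRingHom) hy
      show Φ (ι a) = 0
      rw [← AlgHom.comp_apply, hΦ]; exact hker a ha
    have e2 : resR (x - ι z) = 0 := by
      haveI := RingHom.ker_isMaximal_of_surjective resR.toRingHom
        (fun c ↦ ⟨algebraMap k _ c, resR.commutes c⟩)
      exact ((eq_maximalIdeal (I := RingHom.ker resR.toRingHom) inferInstance).ge)
        (Ideal.pow_le_self (by omega) hz)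
    show A.res (Φ x) = resR x
    rw [show x = (x - ι z) + ι z by ring, map_add, map_add, map_add, e1 _ hz, e2, map_zero,
      hres, ← AlgHom.comp_apply Φ ι, hΦ, ← AlgHom.comp_apply A.res ψ, hψ]
  have huniq : ∀ (A : ArtFun.Art k k) (Φ Ψ : ArtFun.HomSet R.carrier R.res A),
      Φ.1.comp ι = Ψ.1.comp ι → Φ = Ψ := by
    intro A Φ Ψ h
    obtain ⟨N, -, hN⟩ := hN A
    have hm : ∀ (Φ : ArtFun.HomSet R.carrier R.res A),
        ∀ y ∈ maximalIdeal (AdicCompletion m O) ^ N, Φ.1 y = 0 := by
      intro Φ y hy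
      have h1 : Ideal.map Φ.1.toRingHom (maximalIdeal (AdicCompletion m O)) ≤ maximalIdeal A :=
        Ideal.map_le_iff_le_comap.2 fun a ha ↦ by
          show Φ.1 a ∈ maximalIdeal A
          rw [ArtFun.Art.mem_maximalIdeal_iff]
          refine (DFunLike.congr_fun Φ.2 a).trans ?_
          haveI := RingHom.ker_isMaximal_of_surjective resR.toRingHom
            (fun c ↦ ⟨algebraMap k _ c, resR.commutes c⟩)
          exact ((eq_maximalIdeal (I := RingHom.ker resR.toRingHom) inferInstance).ge) ha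
      have h2 := Ideal.pow_right_mono h1 N
        (by rw [← Ideal.map_pow]; exact Ideal.mem_map_of_mem _ hy)
      rw [hN] at h2; exact h2
    refine Subtype.ext (AlgHom.ext fun x ↦ ?_)
    obtain ⟨z, hz⟩ := hapx N x
    show Φ.1 x = Ψ.1 x
    rw [show x = (x - ι z) + ι z by ring, map_add, map_add, hm Φ _ hz, hm Ψ _ hz]
    exact congrArg (0 + ·) (DFunLike.congr_fun h z)
  have hcomp : ∀ (A : ArtFun.Art k k) (Φ : ArtFun.HomSet R.carrier R.res A),
      A.res.comp (Φ.1.comp ι) = θ := fun A Φ ↦ by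
    refine AlgHom.ext fun x ↦ ?_
    exact (DFunLike.congr_fun Φ.2 (ι x)).trans (hres x)
  refine ⟨R, fun A ↦ Equiv.ofBijective (fun Φ ↦ ⟨Φ.1.comp ι, hcomp A Φ⟩)
    ⟨fun Φ Ψ h ↦ huniq A Φ Ψ (congrArg Subtype.val h), fun ψ ↦ ?_⟩, fun A B h φ ↦ rfl⟩
  obtain ⟨Φ, hΦ⟩ := hext A ψ.1 ψ.2
  exact ⟨Φ, Subtype.ext hΦ⟩

/-- Let k be an algebraically closed field, M a locally Noetherian k-scheme and x₀ : Spec k → M a
k-rational point. For a local Artinian k-algebra A with residue field k consider the k-morphisms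
Spec A → M whose restriction along the closed point Spec k → Spec A is x₀ (the local functor of M at
x₀, a morphism A → B acting by composition with Spec B → Spec A). This functor is pro-representable:
there are a complete local Noetherian k-algebra R with residue field k and bijections, natural in A,
between the augmentation-compatible k-algebra maps R → A and these morphisms. (The published
statement is phrased for the fine moduli scheme M of a moduli problem, whose local functor at the
point of a given object is this one; M is taken locally Noetherian here so that the coefficient ring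
is Noetherian.) -/
theorem result
    {k : Type u} [Field k] [IsAlgClosed k] (M : Scheme.{u}) (m : M ⟶ Spec (CommRingCat.of k))
    [IsLocallyNoetherian M] (x₀ : Spec (CommRingCat.of k) ⟶ M) (hx₀ : x₀ ≫ m = 𝟙 _) :
    ∃ (R : ArtFun.CRing k k)
      (e : ∀ A : ArtFun.Art k k, ArtFun.HomSet R.carrier R.res A ≃
        {g : ArtFun.Art.spec A ⟶ M // g ≫ m = ArtFun.Art.specMap (ArtFun.Art.ofBase A) ∧ ArtFun.Art.specRes A ≫ g = x₀}),
      ∀ (A B : ArtFun.Art k k) (h : A ⟶ B) (φ : ArtFun.HomSet R.carrier R.res A),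
        ((e B) (ArtFun.HomSet.map h φ)).1 = ArtFun.Art.specMap h ≫ ((e A) φ).1 := by
  classical
  let p : M := x₀ (closedPoint k)
  let O := M.presheaf.stalk p
  let c : CommRingCat.of k ⟶ O := Spec.preimage (M.fromSpecStalk p ≫ m)
  letI : Algebra k O := c.hom.toAlgebra
  let θ₀ : O ⟶ CommRingCat.of k := Scheme.stalkClosedPointTo x₀
  have hθ₀ : Spec.map θ₀ ≫ M.fromSpecStalk p = x₀ := Scheme.Spec_stalkClosedPointTo_fromSpecStalk x₀
  have hc : ∀ {A : CommRingCat.{u}} (f : O ⟶ A),
      (Spec.map f ≫ M.fromSpecStalk p) ≫ m = Spec.map (c ≫ f) := fun f ↦ by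
    rw [Category.assoc, Spec.map_comp, Spec.map_preimage]
  have hθc : c ≫ θ₀ = 𝟙 _ := Spec.map_injective (by rw [← hc, hθ₀, hx₀, Spec.map_id])
  let θ : O →ₐ[k] k := { θ₀.hom with commutes' := fun a ↦ congrArg (fun t ↦ t.hom a) hθc }
  obtain ⟨R, e, he⟩ := exists_cring_equiv O θ
  -- morphisms from `Spec` of a local ring centred at `p`
  have hinj : ∀ {A : CommRingCat.{u}} [IsLocalRing A] (f f' : O ⟶ A) [IsLocalHom f.hom]
      [IsLocalHom f'.hom], Spec.map f ≫ M.fromSpecStalk p = Spec.map f' ≫ M.fromSpecStalk p →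
      f = f' := by
    intro A _ f f' hf hf' h
    have := (SpecToEquivOfLocalRing M A).symm.injective
      (a₁ := ⟨p, f, hf⟩) (a₂ := ⟨p, f', hf'⟩) h
    simpa using this
  have hfact : ∀ {A : CommRingCat.{u}} [IsLocalRing A] (g : Spec A ⟶ M) (q : M),
      g (closedPoint A) = q →
      ∃ f : M.presheaf.stalk q ⟶ A, IsLocalHom f.hom ∧ Spec.map f ≫ M.fromSpecStalk q = g := by
    intro A _ g q hq
    subst hq
    exact ⟨Scheme.stalkClosedPointTo g, inferInstance,
      Scheme.Spec_stalkClosedPointTo_fromSpecStalk g⟩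
  let mk : ∀ A : ArtFun.Art k k, {φ : O →ₐ[k] A // A.res.comp φ = θ} →
      {g : ArtFun.Art.spec A ⟶ M // g ≫ m = ArtFun.Art.specMap (ArtFun.Art.ofBase A) ∧
        ArtFun.Art.specRes A ≫ g = x₀} := fun A φ ↦
    ⟨Spec.map (CommRingCat.ofHom φ.1.toRingHom) ≫ M.fromSpecStalk p, by
      rw [hc]
      exact congrArg Spec.map (CommRingCat.hom_ext (RingHom.ext fun a ↦ φ.1.commutes a)), by
      rw [← hθ₀, ← Category.assoc, ← Spec.map_comp]
      exact congrArg (fun t ↦ Spec.map t ≫ M.fromSpecStalk p)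
        (CommRingCat.hom_ext (congrArg AlgHom.toRingHom φ.2))⟩
  have hloc : ∀ (A : ArtFun.Art k k) (φ : O →ₐ[k] A), A.res.comp φ = θ →
      IsLocalHom φ.toRingHom := fun A φ hφ ↦ by
    refine ⟨fun a ha ↦ ?_⟩
    haveI : IsLocalHom θ₀.hom := Scheme.isLocalHom_stalkClosedPointTo' x₀
    refine IsUnit.of_map θ₀.hom a ?_
    have := ha.map A.res
    rw [show A.res (φ.toRingHom a) = θ a from DFunLike.congr_fun hφ a] at this
    exact this
  have hmk : ∀ A, Function.Bijective (mk A) := by
    intro A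
    constructor
    · intro φ φ' h
      haveI : IsLocalHom (CommRingCat.ofHom φ.1.toRingHom).hom := hloc A φ.1 φ.2
      haveI : IsLocalHom (CommRingCat.ofHom φ'.1.toRingHom).hom := hloc A φ'.1 φ'.2
      have := hinj _ _ (congrArg Subtype.val h)
      exact Subtype.ext (AlgHom.coe_ringHom_injective (congrArg CommRingCat.Hom.hom this))
    · rintro ⟨g, hg1, hg2⟩
      haveI hresloc : IsLocalHom A.res.toRingHom := ⟨fun a ha ↦ by
        by_contra hu
        have : A.res a = 0 := (ArtFun.Art.mem_maximalIdeal_iff A a).1 hu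
        exact not_isUnit_zero (this ▸ ha)⟩
      have hq : g (closedPoint A) = p := by
        show _ = x₀ (closedPoint k)
        haveI : IsLocalHom (CommRingCat.ofHom A.res.toRingHom).hom := hresloc
        refine Eq.trans ?_ (congrArg (fun t : Spec (CommRingCat.of k) ⟶ M ↦ t (closedPoint k)) hg2)
        exact congrArg g (Spec_closedPoint (f := CommRingCat.ofHom A.res.toRingHom)).symm
      obtain ⟨f, hf, hfg⟩ := hfact g p hq
      have h1 : c ≫ f = CommRingCat.ofHom (algebraMap k A) :=
        Spec.map_injective (by rw [← hc, hfg, hg1]; rfl)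
      haveI : IsLocalHom θ₀.hom := Scheme.isLocalHom_stalkClosedPointTo' x₀
      have h2 : f ≫ CommRingCat.ofHom A.res.toRingHom = θ₀ := by
        haveI : IsLocalHom (f ≫ CommRingCat.ofHom A.res.toRingHom).hom := by
          rw [CommRingCat.hom_comp]; exact RingHom.isLocalHom_comp _ _
        refine hinj _ _ ?_
        rw [Spec.map_comp, Category.assoc, hfg, hθ₀]; exact hg2
      refine ⟨⟨{ f.hom with commutes' := fun a ↦ congrArg (fun t ↦ t.hom a) h1 }, ?_⟩,
        Subtype.ext hfg⟩
      exact AlgHom.ext fun a ↦ congrArg (fun t ↦ t.hom a) h2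
  refine ⟨R, fun A ↦ (e A).trans (Equiv.ofBijective (mk A) (hmk A)), fun A B h φ ↦ ?_⟩
  show Spec.map (CommRingCat.ofHom ((e B) (ArtFun.HomSet.map h φ)).1.toRingHom) ≫ _ = _
  rw [he]
  show _ = Spec.map _ ≫ Spec.map _ ≫ M.fromSpecStalk p
  rw [← Category.assoc, ← Spec.map_comp]
  rfl

end Groth.Agent.S12304
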