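import Groth.Statements.S12307
import Groth.Agent.HfinProper.Main
-- import your own Groth.Agent.* helpers here

set_option autoImplicit false
universe u
open CategoryTheory AlgebraicGeometry
open SGA7

namespace Groth.Agent.S12307

/-- Suppose Λ is a Noetherian local ring, complete for its maximal ideal, and k is its residue field
(the structure map Λ → k being surjective). Work with functors defined on local Artinian Λ-algebras
whose residue field is k. Given a k-scheme X₀ that is proper over k, its deformation functor, which
sends A to the isomorphism classes of Spec A-flat schemes whose closed fibre is X₀, has a hull. In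
other words, there is a miniversal family, a formal versal deformation, over some complete local
Noetherian Λ-algebra whose residue field is k. -/
theorem result (Λ k : Type u) [CommRing Λ] [IsLocalRing Λ] [IsNoetherianRing Λ]
    [IsAdicComplete (IsLocalRing.maximalIdeal Λ) Λ] [Field k] [Algebra Λ k]
    (hk : Function.Surjective (algebraMap Λ k))
    (X : Scheme.{u}) (x : X ⟶ Spec (CommRingCat.of k)) [IsProper x] :
    ArtFun.HasHull (ArtFun.defFunctor (Λ := Λ) X x) := by
  letI : X.Over (Spec (CommRingCat.of k)) := ⟨x⟩
  haveI : IsProper (X ↘ Spec (CommRingCat.of k)) := ‹IsProper x›
  exact Groth.Agent.HfinProper.hasHull_of_proper hk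

end Groth.Agent.S12307
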