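import Groth.Statements.S12755

set_option autoImplicit false
universe u v
open CategoryTheory
open ArtFun

namespace Groth.Agent.S12755

/-- For functors on Artinian local Λ-algebras with residue field k, the composite of two smooth
morphisms φ : F → G and ψ : G → H is smooth. -/
theorem result {Λ : Type u} {k : Type u} [CommRing Λ] [Field k] [Algebra Λ k]
    [IsNoetherianRing Λ] [Module.Finite Λ k]
    {F G H : ArtFun.Art Λ k ⥤ Type v} (φ : F ⟶ G) (ψ : G ⟶ H)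
    (hφ : ArtFun.IsSmooth φ) (hψ : ArtFun.IsSmooth ψ) : ArtFun.IsSmooth (φ ≫ ψ) := by
  intro B A μ hμ y
  obtain ⟨⟨a, c⟩, hac⟩ := y
  obtain ⟨g, hg⟩ := hψ μ hμ ⟨(φ.app A a, c), hac⟩
  obtain ⟨hg1, hg2⟩ := Prod.mk.inj (Subtype.ext_iff.mp hg)
  obtain ⟨z, hz⟩ := hφ μ hμ ⟨(a, g), hg1.symm⟩
  obtain ⟨hz1, hz2⟩ := Prod.mk.inj (Subtype.ext_iff.mp hz)
  refine ⟨z, Subtype.ext (Prod.ext hz1 ?_)⟩
  show ψ.app B (φ.app B z) = c
  exact (congrArg (ψ.app B) hz2).trans hg2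

end Groth.Agent.S12755
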