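import Groth.Statements.S12316
import Groth.Agent.ArtKit.Lifts
import Groth.Agent.S12756
import Groth.Agent.S12719
import Groth.Agent.S12755

set_option autoImplicit false
set_option backward.isDefEq.respectTransparency false
set_option linter.style.haveILetI false
universe u v
open CategoryTheory
open SGA7

namespace Groth.Agent.S12316

/-- Suppose Λ is a Noetherian local ring, complete for its maximal ideal, whose residue field is k (so Λ
→ k is surjective), and work with functors defined on the category of local Artinian Λ-algebras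
having residue field k. Take morphisms φ : F → G and ψ : G → H of such functors. Assume that each of
F(k), G(k), H(k) consists of a single point; that for G the comparison map on fibre products A₁ ×_A
A₂ is surjective as soon as A₂ → A is surjective, and is bijective for products of the form A' ×_k
k[ε]; that for H the comparison map is bijective on every fibre product A₁ ×_A A₂ with A₂ → A
surjective; and that the induced map on tangent spaces G(k[ε]) → H(k[ε]) coming from ψ is injective.
Under these assumptions, φ ≫ ψ is smooth if and only if both φ and ψ are smooth. (The published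
statement is for functors of cofibred groupoids with G semi-homogeneous and H homogeneous; this row
is the case of set-valued functors.) -/
theorem result (Λ k : Type u) [CommRing Λ] [IsLocalRing Λ] [IsNoetherianRing Λ]
    [IsAdicComplete (IsLocalRing.maximalIdeal Λ) Λ] [Field k] [Algebra Λ k]
    (hk : Function.Surjective (algebraMap Λ k))
    {F G H : ArtFun.Art Λ k ⥤ Type v} (φ : F ⟶ G) (ψ : G ⟶ H)
    (hF : ArtFun.H0 F) (hG : ArtFun.H0 G ∧ ArtFun.S1 G ∧ ArtFun.Heps G) (hH0 : ArtFun.H0 H)
    (hH : ∀ ⦃B A A' A'' : ArtFun.Art Λ k⦄ (p' : B ⟶ A') (p'' : B ⟶ A'') (f' : A' ⟶ A) (f'' : A'' ⟶ A)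
      (h : ArtFun.Art.IsFibreProd p' p'' f' f''), Function.Surjective f'' → Function.Bijective (ArtFun.cmp H h))
    (hψ : Function.Injective (ArtFun.TangentSpace.map ψ)) :
    ArtFun.IsSmooth (φ ≫ ψ) ↔ (ArtFun.IsSmooth φ ∧ ArtFun.IsSmooth ψ) := by
  classical
  haveI : Module.Finite Λ k := Module.Finite.of_surjective (Algebra.linearMap Λ k) hk
  obtain ⟨hG0, hG1, hG2⟩ := hG
  constructor
  · intro h
    have hinj : ∀ A, Function.Injective (ψ.app A) :=
      ArtKit.injective_app_of_tangent_injective (fun A => ψ.app A) (fun _ _ f y => NatTrans.naturality_apply ψ f y)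
        hG0 (fun _ _ _ _ a b c d e f => hG1 a b c d e f.1) hG2
        (fun _ _ _ a b c e f => (hH a b c c e f.1).1) hψ
    have hφ : ArtFun.IsSmooth φ := by
      rintro B A μ hμ ⟨⟨a, b⟩, hab⟩
      obtain ⟨z, hz⟩ := h μ hμ ⟨(a, ψ.app B b), (congrArg (ψ.app A) hab).trans (NatTrans.naturality_apply ψ μ b)⟩
      obtain ⟨h1, h2⟩ := Prod.mk.inj (Subtype.ext_iff.1 hz)
      exact ⟨z, Subtype.ext (Prod.ext h1 (hinj B h2))⟩
    exact ⟨hφ, S12756.result φ ψ (fun A => S12719.result φ hφ
      (fun y => ⟨hF.1.some, hG0.2.elim _ _⟩) A) h⟩
  · rintro ⟨h1, h2⟩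
    exact S12755.result φ ψ h1 h2


end Groth.Agent.S12316
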