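import Groth.Statements.S1232
import Groth.Agent.WeakAssFlat.Basic
-- import your own Groth.Agent.* helpers here

set_option autoImplicit false
universe u
open FlatMor

namespace Groth.Agent.S1232

open TensorProduct in
/-- Let A → B be a finite flat ring map, M an A-module and t a prime of B lying over the prime p of A.
Then t is a weakly associated prime of the B-module B ⊗_A M if and only if p is a weakly associated
prime of M. -/
theorem result {A B : Type u} [CommRing A] [CommRing B] [Algebra A B] [Module.Finite A B] [Module.Flat A B]
    (M : Type u) [AddCommGroup M] [Module A M] (p : Ideal A) [p.IsPrime] (t : Ideal B) [t.IsPrime] [t.LiesOver p] :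
    t ∈ FlatCA.weakAss B (B ⊗[A] M) ↔ p ∈ FlatCA.weakAss A M := by
  have ht : t.under A = p := (Ideal.LiesOver.over (P := t) (p := p)).symm
  refine ⟨fun h => Groth.Agent.WeakAssFlat.down_finite t ht h, fun h => Groth.Agent.WeakAssFlat.up t ht (fun Q hQ hle hQp => ?_) h⟩
  haveI := hQ
  exact Algebra.QuasiFinite.eq_of_le_of_under_eq (R := A) Q t hle (hQp.trans ht.symm)

end Groth.Agent.S1232
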