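import Groth.Statements.S1235
import Groth.Agent.Hensel.BranchFlat
import Groth.Agent.Hensel.HenselizationProps
import Mathlib.Algebra.TrivSqZeroExt.Basic
import Mathlib.Tactic.TFAE
import Groth.Agent.IndEtLib.WContract
-- import your own Groth.Agent.* helpers here

set_option autoImplicit false
universe u
open FlatMor

namespace Groth.Agent.S1235

theorem flat_via_sqZero (A S V : Type u) [CommRing A] [CommRing S] [Algebra A S] [Module.Flat A S]
    [AddCommGroup V] [Module S V] [Module A V] [IsScalarTower A S V] [Module.Flat A V]
    (H : ∀ (M : Type u) [CommRing M] [Algebra A M] (g : S →+* M),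
      (g.comp (algebraMap A S)).Flat → g.Flat) : Module.Flat S V := by
  letI : Module Sᵐᵒᵖ V := Module.compHom V ((RingHom.id S).fromOpposite fun a b => mul_comm a b)
  haveI : IsCentralScalar S V := ⟨fun _ _ => rfl⟩
  let M := TrivSqZeroExt S V
  haveI : IsScalarTower A Sᵐᵒᵖ V := ⟨fun a c x => smul_assoc a c.unop x⟩
  haveI : SMulCommClass A Sᵐᵒᵖ V := ⟨fun a c x => smul_comm a c.unop x⟩
  have hflatA : Module.Flat A M := by
    let e : M ≃ₗ[A] S × V :=
      { toFun := fun x => (x.fst, x.snd)
        invFun := fun y => (TrivSqZeroExt.inl y.1 + TrivSqZeroExt.inr y.2 : TrivSqZeroExt S V)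
        left_inv := fun x => TrivSqZeroExt.inl_fst_add_inr_snd_eq x
        right_inv := fun y => by simp
        map_add' := fun _ _ => rfl
        map_smul' := fun a x => rfl }
    haveI : Module.Flat A (S × V) := Groth.Agent.IndEtLib.flat_prod
    exact Module.Flat.of_linearEquiv e
  have hg : (algebraMap S M).Flat := by
    refine H M (algebraMap S M) ?_
    rw [← IsScalarTower.algebraMap_eq]
    exact RingHom.flat_algebraMap_iff.2 hflatA
  haveI : Module.Flat S M := RingHom.flat_algebraMap_iff.1 hg
  exact Module.Flat.of_retract (TrivSqZeroExt.inrHom S V) (TrivSqZeroExt.sndHom S V)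
    (LinearMap.ext fun x => rfl)


open IsLocalRing in
/-- Let p be a prime of a ring A, Ah a henselization and Ash a strict henselization of A_p, with Ash an
Ah-algebra compatibly with the maps from A_p. For a module Msh over Ash the following are
equivalent: Msh is flat over A_p; Msh is flat over Ah; Msh is flat over Ash. For a module Mh over
Ah: Mh is flat over A_p if and only if it is flat over Ah. (This is the ring form, over the base
Spec A, of a statement about stalks on a scheme; the published statement also relates the two groups
of equivalences when Msh = Ash ⊗_{Ah} Mh and has one further item, neither of which is stated here.) -/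
theorem result {A : Type u} [CommRing A] (p : Ideal A) [p.IsPrime]
    (Ah Ash : Type u) [CommRing Ah] [IsLocalRing Ah] [CommRing Ash] [IsLocalRing Ash]
    [Algebra (Localization.AtPrime p) Ah] [IsLocalHom (algebraMap (Localization.AtPrime p) Ah)] [Hensel.IsHenselization (Localization.AtPrime p) Ah]
    [Algebra (Localization.AtPrime p) Ash] [IsLocalHom (algebraMap (Localization.AtPrime p) Ash)] [Hensel.IsStrictHenselization (Localization.AtPrime p) Ash]
    [Algebra Ah Ash] [IsScalarTower (Localization.AtPrime p) Ah Ash]
    (Msh : Type u) [AddCommGroup Msh] [Module Ash Msh] [Module Ah Msh] [Module (Localization.AtPrime p) Msh]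
    [IsScalarTower Ah Ash Msh] [IsScalarTower (Localization.AtPrime p) Ash Msh] [IsScalarTower (Localization.AtPrime p) Ah Msh]
    (Mh : Type u) [AddCommGroup Mh] [Module Ah Mh] [Module (Localization.AtPrime p) Mh] [IsScalarTower (Localization.AtPrime p) Ah Mh] :
    [Module.Flat (Localization.AtPrime p) Msh, Module.Flat Ah Msh, Module.Flat Ash Msh].TFAE ∧
    (Module.Flat (Localization.AtPrime p) Mh ↔ Module.Flat Ah Mh) := by
  haveI : Module.Flat (Localization.AtPrime p) Ah := Groth.Agent.Hensel.henselization_flat _ _
  haveI : Module.Flat (Localization.AtPrime p) Ash := Groth.Agent.Hensel.strictHenselization_flat _ _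
  have hh : ∀ (V : Type u) [AddCommGroup V] [Module Ah V] [Module (Localization.AtPrime p) V]
      [IsScalarTower (Localization.AtPrime p) Ah V],
      Module.Flat (Localization.AtPrime p) V ↔ Module.Flat Ah V := fun V _ _ _ _ => ⟨fun h => by
      haveI := h
      exact flat_via_sqZero (Localization.AtPrime p) Ah V fun S _ _ g hg =>
        Groth.Agent.Hensel.flat_of_henselization g hg, fun h => by
      haveI := h
      exact Module.Flat.trans (Localization.AtPrime p) Ah V⟩
  refine ⟨?_, hh Mh⟩
  tfae_have 1 ↔ 2 := hh Msh
  tfae_have 1 → 3 := fun h => by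
    haveI := h
    exact flat_via_sqZero (Localization.AtPrime p) Ash Msh fun S _ _ g hg =>
      Groth.Agent.Hensel.flat_of_strictHenselization g hg
  tfae_have 3 → 1 := fun h => by
    haveI := h
    exact Module.Flat.trans (Localization.AtPrime p) Ash Msh
  tfae_finish

end Groth.Agent.S1235
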