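import Groth.Statements.S1241
import Groth.Agent.RG.Loc.Common

set_option autoImplicit false
open Groth.Agent
universe u
open FlatMor

namespace Groth.Agent.S1241

open TensorProduct in
/-- Ring form, X = Spec S and S = Spec R affine: let S be a finitely presented R-algebra, N a finitely
presented S-module and p a prime of R such that N_q is flat over R for every prime q of S over p.
Then there are an étale R-algebra R' with a prime p' over p having the same residue field, and an
étale S-algebra S' with a compatible R'-algebra structure, such that every prime of S over p is the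
contraction of a prime of S' and S' ⊗_S N is a projective R'-module. -/
theorem result {R S : Type u} [CommRing R] [CommRing S] [Algebra R S] [Algebra.FinitePresentation R S]
    (N : Type u) [AddCommGroup N] [Module S N] [Module R N] [IsScalarTower R S N] [Module.FinitePresentation S N]
    (p : Ideal R) [p.IsPrime] (hflat : ∀ (q : Ideal S) [q.IsPrime], q.LiesOver p → FlatCA.FlatAt R q N) :
    ∃ (R' S' : Type u) (_ : CommRing R') (_ : CommRing S') (_ : Algebra R R') (_ : Algebra S S') (_ : Algebra R' S')
      (_ : Algebra R S') (_ : IsScalarTower R R' S') (_ : IsScalarTower R S S')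
      (p' : Ideal R') (_ : p'.IsPrime),
      FlatCA.IsEtaleNhd R R' p p' ∧ Algebra.Etale S S' ∧
      (∀ (q : Ideal S) [q.IsPrime], q.LiesOver p → ∃ q' : Ideal S', q'.IsPrime ∧ q'.comap (algebraMap S S') = q) ∧
      Module.Projective R' (RestrictScalars R' S' (S' ⊗[S] N)) := by
  classical
  obtain ⟨R', _, _, p', _, hn, m, h, hproj, hcov⟩ := RG.Loc.exists_common p N
    fun q _ hq => RG.Loc.projPiece_of_flat p q hq N (hflat q ⟨hq.symm⟩)
  haveI := hn.1
  letI : Algebra S (R' ⊗[R] S) := Algebra.TensorProduct.rightAlgebra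
  haveI : Algebra.Etale S (R' ⊗[R] S) := Algebra.Etale.of_equiv (Algebra.TensorProduct.commRight R S R')
  let C : Fin m → Type u := fun i => Localization.Away (h i)
  haveI : ∀ i, Algebra.Etale S (C i) := fun i =>
    haveI : Algebra.Etale (R' ⊗[R] S) (C i) := Algebra.Etale.of_isLocalizationAway (h i)
    Algebra.Etale.comp S (R' ⊗[R] S) (C i)
  have hA : ∀ r : R, algebraMap R R' r ⊗ₜ[R] (1 : S) = (1 : R') ⊗ₜ[R] algebraMap R S r := fun r => by
    rw [Algebra.algebraMap_eq_smul_one, Algebra.algebraMap_eq_smul_one (A := S), smul_tmul]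
  haveI : ∀ i, IsScalarTower R S (C i) := fun i => IsScalarTower.of_algebraMap_eq fun r => by
    rw [IsScalarTower.algebraMap_apply S (R' ⊗[R] S) (C i), IsScalarTower.algebraMap_apply R (R' ⊗[R] S) (C i)]
    exact congrArg _ (hA r)
  haveI : IsScalarTower R R' (∀ i, C i) := IsScalarTower.of_algebraMap_eq fun r => funext fun i => by
    change algebraMap R (C i) r = algebraMap R' (C i) (algebraMap R R' r)
    rw [IsScalarTower.algebraMap_apply R (R' ⊗[R] S) (C i), IsScalarTower.algebraMap_apply R' (R' ⊗[R] S) (C i),
      ← IsScalarTower.algebraMap_apply R R' (R' ⊗[R] S)]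
  haveI : IsScalarTower R S (∀ i, C i) := IsScalarTower.of_algebraMap_eq fun r => funext fun i =>
    IsScalarTower.algebraMap_apply R S (C i) r
  haveI : IsScalarTower R' (∀ i, C i) (∀ i, C i) := IsScalarTower.right
  refine ⟨R', ∀ i, C i, inferInstance, inferInstance, inferInstance, inferInstance, inferInstance, inferInstance,
    inferInstance, inferInstance, p', inferInstance, hn, inferInstance, fun q _ hq => ?_,
    RG.Loc.projective_restrictScalars (RG.Loc.projective_pi h hproj)⟩
  obtain ⟨Q, hQ, hQp, hQq⟩ := RG.Loc.exists_prime_of_nhd hn q hq.over.symm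
  obtain ⟨i, hi⟩ := hcov Q hQ hQp
  have hd : Disjoint (Submonoid.powers (h i) : Set (R' ⊗[R] S)) (Q : Set (R' ⊗[R] S)) := by
    rwa [Ideal.disjoint_powers_iff_notMem_of_isPrime]
  haveI : (Q.map (algebraMap (R' ⊗[R] S) (C i))).IsPrime := IsLocalization.isPrime_of_isPrime_disjoint _ (C i) Q hQ hd
  have hc : (Q.map (algebraMap (R' ⊗[R] S) (C i))).comap (algebraMap (R' ⊗[R] S) (C i)) = Q :=
    IsLocalization.comap_map_of_isPrime_disjoint _ (C i) hQ hd
  refine ⟨(Q.map (algebraMap (R' ⊗[R] S) (C i))).comap (Pi.evalRingHom C i), Ideal.IsPrime.comap _, ?_⟩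
  rw [Ideal.comap_comap, show (Pi.evalRingHom C i).comp (algebraMap S (∀ j, C j)) = algebraMap S (C i) from rfl,
    IsScalarTower.algebraMap_eq S (R' ⊗[R] S) (C i), ← Ideal.comap_comap, hc, hQq]

end Groth.Agent.S1241
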