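import Groth.Statements.S12417
import Mathlib

set_option autoImplicit false
universe u
open CategoryTheory AlgebraicGeometry
open Props

namespace Groth.Agent.S12417

/-- Let X be a quasi-compact quasi-separated scheme and P a property of opens of X such that (a) P holds
for every affine open, and (b) whenever a quasi-compact open U has a finite affine open covering U =
V_1 ∪ … ∪ V_n with P holding for every intersection V_i ∩ V_j, P holds for U. Then P holds for every
quasi-compact open of X. -/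
theorem result (X : Scheme.{u}) [CompactSpace X] [QuasiSeparatedSpace X]
    (P : X.Opens → Prop) (ha : ∀ U : X.Opens, IsAffineOpen U → P U)
    (hb : ∀ (U : X.Opens) (n : ℕ) (V : Fin n → X.Opens), IsCompact (U : Set X) →
      (∀ i, IsAffineOpen (V i)) → ⨆ i, V i = U → (∀ i j, P (V i ⊓ V j)) → P U)
    (U : X.Opens) (hU : IsCompact (U : Set X)) : P U := by
  have hqc : ∀ (W : X.Opens), IsCompact (W : Set X) → ∀ V : X.Opens, IsAffineOpen V → W ≤ V → P W := by
    intro W hW V hV hWV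
    obtain ⟨t, ht, hWt⟩ := hW.elim_finite_subcover_image
      (b := {r : Γ(X, V) | X.basicOpen r ≤ W}) (c := fun r => (X.basicOpen r : Set X))
      (fun r _ => (X.basicOpen r).2) (fun x hx => by
        obtain ⟨r, hr, hxr⟩ := hV.exists_basicOpen_le (V := W) ⟨x, hx⟩ (hWV hx)
        exact Set.mem_biUnion hr hxr)
    obtain ⟨hfin, hsub⟩ := hWt
    obtain ⟨n, g, hg⟩ := hfin.fin_param
    refine hb W n (fun i => X.basicOpen (g i)) hW (fun i => hV.basicOpen _) ?_ fun i j => ?_
    · refine le_antisymm (iSup_le fun i => ht (hg.2 ▸ ⟨i, rfl⟩)) fun x hx => ?_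
      obtain ⟨r, hr, hxr⟩ := Set.mem_iUnion₂.1 (hsub hx)
      obtain ⟨i, rfl⟩ : r ∈ Set.range g := hg.2.symm ▸ hr
      exact TopologicalSpace.Opens.mem_iSup.2 ⟨i, hxr⟩
    · rw [← Scheme.basicOpen_mul]
      exact ha _ (hV.basicOpen _)
  obtain ⟨t, ht, hUt⟩ := hU.elim_finite_subcover_image
    (b := {V : X.Opens | IsAffineOpen V ∧ V ≤ U}) (c := fun V => (V : Set X))
    (fun V _ => V.2) (fun x hx => by
      obtain ⟨V, hV, hxV, hVU⟩ := exists_isAffineOpen_mem_and_subset hx
      exact Set.mem_biUnion (show V ∈ {V : X.Opens | IsAffineOpen V ∧ V ≤ U} from ⟨hV, hVU⟩) hxV)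
  obtain ⟨hfin, hsub⟩ := hUt
  obtain ⟨n, g, hg⟩ := hfin.fin_param
  have hgt : ∀ i, IsAffineOpen (g i) ∧ g i ≤ U := fun i => ht (hg.2 ▸ ⟨i, rfl⟩)
  refine hb U n g hU (fun i => (hgt i).1) ?_ fun i j => hqc _ ?_ (g i) (hgt i).1 inf_le_left
  · refine le_antisymm (iSup_le fun i => (hgt i).2) fun x hx => ?_
    obtain ⟨V, hV, hxV⟩ := Set.mem_iUnion₂.1 (hsub hx)
    obtain ⟨i, rfl⟩ : V ∈ Set.range g := hg.2.symm ▸ hV
    exact TopologicalSpace.Opens.mem_iSup.2 ⟨i, hxV⟩
  · exact (hgt i).1.isCompact.inter_of_isOpen (hgt j).1.isCompact (g i).2 (g j).2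

end Groth.Agent.S12417
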