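import Groth.Statements.S12418

set_option autoImplicit false
universe u
open CAlg

namespace Groth.Agent.S12418

/-- Let R be a Noetherian ring and b ∈ R; for x outside the ideal (b) put I_x = ((b) : x), the ideal of
r with r x ∈ (b). If s ∉ (b) and I_s is maximal among the I_x (x ∉ (b)), then I_s is prime. -/
theorem result {R : Type u} [CommRing R] [IsNoetherianRing R]
    (b s : R) (hs : s ∉ Ideal.span {b})
    (hmax : ∀ x : R, x ∉ Ideal.span {b} →
      Submodule.colon (Ideal.span {b}) (Ideal.span {s}) ≤ Submodule.colon (Ideal.span {b}) (Ideal.span {x}) →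
      Submodule.colon (Ideal.span {b}) (Ideal.span {x}) = Submodule.colon (Ideal.span {b}) (Ideal.span {s})) :
    (Submodule.colon (Ideal.span {b}) (Ideal.span ({s} : Set R))).IsPrime := by
  have hm : ∀ x r : R, r ∈ Submodule.colon (Ideal.span {b}) (Ideal.span ({x} : Set R)) ↔
      r * x ∈ Ideal.span {b} := fun x r => by
    rw [Submodule.mem_colon_span_singleton]; rfl
  constructor
  · intro htop
    have : (1 : R) ∈ Submodule.colon (Ideal.span {b}) (Ideal.span ({s} : Set R)) := htop ▸ trivial
    exact hs (by simpa [hm] using this)
  · intro a c hac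
    rw [or_iff_not_imp_left]
    intro ha
    rw [hm] at ha hac ⊢
    have hle : Submodule.colon (Ideal.span {b}) (Ideal.span {s}) ≤
        Submodule.colon (Ideal.span {b}) (Ideal.span {a * s}) := fun r hr => by
      rw [hm] at hr ⊢
      rw [mul_left_comm]
      exact Ideal.mul_mem_left _ _ hr
    have := hmax (a * s) ha hle
    rw [← hm, ← this, hm]
    convert hac using 1
    ring

end Groth.Agent.S12418
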