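import Groth.Statements.S12419
import Groth.Agent.FinDescent.Basic
import Groth.Agent.MLMod.FlatNil
import Mathlib
-- import your own Groth.Agent.* helpers here

set_option autoImplicit false
universe u
open TensorProduct
open CAlg

namespace Groth.Agent.S12419

open TensorProduct IsLocalRing

/-- Flatness modulo all powers of the maximal ideal gives flatness. -/
theorem flat_of_forall_pow (A B : Type u) [CommRing A] [CommRing B] [IsNoetherianRing A] [IsLocalRing A]
    [IsNoetherianRing B] [IsLocalRing B] [Algebra A B] [IsLocalHom (algebraMap A B)]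
    (h : ∀ n, Module.Flat (A ⧸ maximalIdeal A ^ n) ((A ⧸ maximalIdeal A ^ n) ⊗[A] B)) : Module.Flat A B := by
  refine Module.Flat.iff_rTensor_injective.2 fun I _ => ?_
  rw [← LinearMap.ker_eq_bot, Submodule.eq_bot_iff]
  intro x hx
  rw [LinearMap.mem_ker] at hx
  let c := TensorProduct.comm A I B
  suffices c x = 0 by exact c.map_eq_zero_iff.1 this
  let 𝔐 := maximalIdeal B
  have hbot := Ideal.iInf_pow_smul_eq_bot_of_isLocalRing (M := B ⊗[A] I) 𝔐 (maximalIdeal.isMaximal B).ne_top
  refine (Submodule.mem_bot B).1 (hbot ▸ (Submodule.mem_iInf _).2 fun j => ?_)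
  obtain ⟨k, hk⟩ := Ideal.exists_pow_inf_eq_pow_smul (maximalIdeal A) (M := A) I
  haveI := h (k + j)
  let q : I →ₗ[A] A ⧸ maximalIdeal A ^ (k + j) := (Submodule.mkQ _).comp I.subtype
  have h1 : q.rangeRestrict.rTensor B x = 0 := by
    apply FinDescent.injective_rTensor_into A (A ⧸ maximalIdeal A ^ (k + j)) Ideal.Quotient.mk_surjective B
      (LinearMap.range q).subtype Subtype.val_injective
    rw [map_zero, ← LinearMap.rTensor_comp_apply,
      show (LinearMap.range q).subtype.comp q.rangeRestrict = (Submodule.mkQ _).comp I.subtype from rfl,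
      LinearMap.rTensor_comp_apply, hx, map_zero]
  have hex : Function.Exact (LinearMap.ker q).subtype q.rangeRestrict := by
    rw [LinearMap.exact_iff, LinearMap.ker_rangeRestrict, Submodule.range_subtype]
  obtain ⟨y, rfl⟩ := (rTensor_exact B hex q.surjective_rangeRestrict x).1 h1
  clear h1 hx
  induction y using TensorProduct.induction_on with
  | zero => rw [map_zero, map_zero]; exact zero_mem _
  | add a b ha hb => rw [map_add, map_add]; exact add_mem ha hb
  | tmul w b =>
    obtain ⟨w, hw⟩ := w
    have hw' : (w : A) ∈ maximalIdeal A ^ (k + j) • (⊤ : Submodule A A) ⊓ I := by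
      refine ⟨?_, w.2⟩
      rw [Ideal.smul_eq_mul, Ideal.mul_top]
      exact Ideal.Quotient.eq_zero_iff_mem.1 hw
    rw [hk (k + j) (Nat.le_add_right k j), Nat.add_sub_cancel_left] at hw'
    have key : ∀ z ∈ maximalIdeal A ^ j • (maximalIdeal A ^ k • (⊤ : Submodule A A) ⊓ I), ∀ hz : z ∈ I,
        b ⊗ₜ[A] (⟨z, hz⟩ : I) ∈ 𝔐 ^ j • (⊤ : Submodule B (B ⊗[A] I)) := by
      intro z hz
      suffices hs : ∃ hz : z ∈ I, b ⊗ₜ[A] (⟨z, hz⟩ : I) ∈ 𝔐 ^ j • (⊤ : Submodule B (B ⊗[A] I)) from fun _ => hs.2
      refine Submodule.smul_induction_on hz (fun r hr v hv => ⟨I.smul_mem r hv.2, ?_⟩)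
        fun u v ⟨hu, hu'⟩ ⟨hv, hv'⟩ => ⟨add_mem hu hv, ?_⟩
      · rw [show (⟨r • v, I.smul_mem r hv.2⟩ : I) = r • (⟨v, hv.2⟩ : I) from rfl, TensorProduct.tmul_smul, ← algebraMap_smul B r]
        refine Submodule.smul_mem_smul ?_ Submodule.mem_top
        have : algebraMap A B r ∈ (maximalIdeal A ^ j).map (algebraMap A B) := Ideal.mem_map_of_mem _ hr
        rw [Ideal.map_pow] at this
        exact Ideal.pow_right_mono (((local_hom_TFAE (algebraMap A B)).out 0 2).1 ‹IsLocalHom (algebraMap A B)›) j this
      · rw [show (⟨u + v, add_mem hu hv⟩ : I) = ⟨u, hu⟩ + ⟨v, hv⟩ from rfl, TensorProduct.tmul_add]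
        exact add_mem hu' hv'
    exact key _ hw' w.2

/-- Let A → B be a local homomorphism of Noetherian local rings, m the maximal ideal of A, and φ : A →
A' a ring homomorphism to a semi-local Noetherian ring A' with Jacobson radical r', such that
φ⁻¹(r') = m and such that every power m^n contains φ⁻¹(r'^N) for some N. Then B is flat over A if
and only if A' ⊗_A B is flat over A'. (Given φ⁻¹(r') = m, the condition on powers says that the
m-adic topology of A is induced by the r'-adic topology of A', equivalently that the induced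
homomorphism of adic completions is injective, which is how the published statement phrases this
hypothesis.) -/
theorem result (A B A' : Type u) [CommRing A] [CommRing B]
    [CommRing A'] [IsNoetherianRing A] [IsLocalRing A] [IsNoetherianRing B] [IsLocalRing B]
    [Algebra A B] [IsLocalHom (algebraMap A B)] [IsNoetherianRing A'] [Finite (MaximalSpectrum A')]
    [Algebra A A']
    (hrad : (Ideal.jacobson (⊥ : Ideal A')).comap (algebraMap A A') = IsLocalRing.maximalIdeal A)
    (htop : ∀ n : ℕ, ∃ N : ℕ,
      ((Ideal.jacobson (⊥ : Ideal A')) ^ N).comap (algebraMap A A') ≤ (IsLocalRing.maximalIdeal A) ^ n) :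
    Module.Flat A B ↔ Module.Flat A' (A' ⊗[A] B) := by
  constructor
  · intro h
    exact inferInstance
  · intro h
    refine flat_of_forall_pow A B fun n => ?_
    obtain ⟨N, hN⟩ := htop n
    let J := ((⊥ : Ideal A').jacobson ^ N).comap (algebraMap A A')
    let T := A' ⧸ (⊥ : Ideal A').jacobson ^ N
    let S := A ⧸ J
    letI : Algebra S T := (Ideal.quotientMap _ (algebraMap A A') le_rfl).toAlgebra
    haveI : IsScalarTower A S T := IsScalarTower.of_algebraMap_eq fun _ => rfl
    have hinj : Function.Injective (algebraMap S T) := Ideal.quotientMap_injective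
    haveI : Module.Flat T (T ⊗[A] B) := FinDescent.flat_change A A' T B h
    haveI : Module.Flat T (T ⊗[S] (S ⊗[A] B)) :=
      Module.Flat.of_linearEquiv (AlgebraTensorModule.cancelBaseChange A S T T B)
    let m' := (maximalIdeal A).map (Ideal.Quotient.mk J)
    have hnil : IsNilpotent m' := by
      refine ⟨N, ?_⟩
      rw [Ideal.zero_eq_bot, ← Ideal.map_pow, Ideal.map_eq_bot_iff_le_ker, Ideal.mk_ker, ← hrad]
      exact Ideal.le_comap_pow (algebraMap A A') N
    haveI : Module.Flat (S ⧸ m') ((S ⧸ m') ⊗[S] (S ⊗[A] B)) := by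
      letI : Algebra (ResidueField A) (S ⧸ m') :=
        (Ideal.quotientMap m' (Ideal.Quotient.mk J) Ideal.le_comap_map).toAlgebra
      haveI : IsScalarTower A (ResidueField A) (S ⧸ m') := IsScalarTower.of_algebraMap_eq fun _ => rfl
      haveI := FinDescent.flat_change A (ResidueField A) (S ⧸ m') B Module.Flat.of_free
      exact Module.Flat.of_linearEquiv (AlgebraTensorModule.cancelBaseChange A S (S ⧸ m') (S ⧸ m') B)
    haveI : Module.Flat S (S ⊗[A] B) := MLMod.flat_of_nilpotent_of_injective T m' (S ⊗[A] B) hinj hnil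
    letI : Algebra S (A ⧸ maximalIdeal A ^ n) := (Ideal.Quotient.factor hN).toAlgebra
    haveI : IsScalarTower A S (A ⧸ maximalIdeal A ^ n) := IsScalarTower.of_algebraMap_eq fun _ => rfl
    exact FinDescent.flat_change A S _ B inferInstance


end Groth.Agent.S12419
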