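import Groth.Statements.S12421


set_option autoImplicit false
universe u
open TensorProduct
open Desc

namespace Groth.Agent.S12421

/-- Let R → R' be faithfully flat and M an R-module. With δ¹ : M ⊗ R' → M ⊗ (R' ⊗ R'), m ⊗ r ↦ m ⊗ (1 ⊗
r) − m ⊗ (r ⊗ 1), and δ² : M ⊗ (R' ⊗ R') → M ⊗ (R' ⊗ (R' ⊗ R')), m ⊗ x ↦ m ⊗ (1 ⊗ x) − m ⊗ (ins₁ x)
+ m ⊗ (ins₂ x), where ins₁ (r₁ ⊗ r₂) = r₁ ⊗ (1 ⊗ r₂) and ins₂ (r₁ ⊗ r₂) = r₁ ⊗ (r₂ ⊗ 1), the
sequence M ⊗ R' → M ⊗ R'^{⊗2} → M ⊗ R'^{⊗3} is exact: the kernel of δ² is the image of δ¹. (The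
published statement asserts exactness of the whole complex; this row states exactness at M ⊗ R′ ⊗ R′
only.) -/
theorem result (R R' : Type u) [CommRing R] [CommRing R'] [Algebra R R']
    [Module.FaithfullyFlat R R'] (M : Type u) [AddCommGroup M] [Module R M] :
    Function.Exact
      (LinearMap.lTensor M (Algebra.TensorProduct.includeRight : R' →ₐ[R] R' ⊗[R] R').toLinearMap -
        LinearMap.lTensor M
          (Algebra.TensorProduct.includeLeft : R' →ₐ[R] R' ⊗[R] R').toLinearMap)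
      (LinearMap.lTensor M
          (Algebra.TensorProduct.includeRight : R' ⊗[R] R' →ₐ[R] R' ⊗[R] (R' ⊗[R] R')).toLinearMap -
        LinearMap.lTensor M
          (Algebra.TensorProduct.map (AlgHom.id R R')
            (Algebra.TensorProduct.includeRight : R' →ₐ[R] R' ⊗[R] R')).toLinearMap +
        LinearMap.lTensor M
          (Algebra.TensorProduct.map (AlgHom.id R R')
            (Algebra.TensorProduct.includeLeft : R' →ₐ[R] R' ⊗[R] R')).toLinearMap) := by
  set d1 := LinearMap.lTensor M (Algebra.TensorProduct.includeRight : R' →ₐ[R] R' ⊗[R] R').toLinearMap -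
        LinearMap.lTensor M
          (Algebra.TensorProduct.includeLeft : R' →ₐ[R] R' ⊗[R] R').toLinearMap with hd1
  set d2 := LinearMap.lTensor M
          (Algebra.TensorProduct.includeRight : R' ⊗[R] R' →ₐ[R] R' ⊗[R] (R' ⊗[R] R')).toLinearMap -
        LinearMap.lTensor M
          (Algebra.TensorProduct.map (AlgHom.id R R')
            (Algebra.TensorProduct.includeRight : R' →ₐ[R] R' ⊗[R] R')).toLinearMap +
        LinearMap.lTensor M
          (Algebra.TensorProduct.map (AlgHom.id R R')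
            (Algebra.TensorProduct.includeLeft : R' →ₐ[R] R' ⊗[R] R')).toLinearMap with hd2
  let s : ∀ (N : Type u) [AddCommGroup N] [Module R N],
      R' ⊗[R] (M ⊗[R] (R' ⊗[R] N)) →ₗ[R] R' ⊗[R] (M ⊗[R] N) := fun N _ _ =>
    (LinearMap.rTensor (M ⊗[R] N) (LinearMap.mul' R R')) ∘ₗ
      (TensorProduct.assoc R R' R' (M ⊗[R] N)).symm.toLinearMap ∘ₗ
        (TensorProduct.leftComm R M R' N).toLinearMap.lTensor R'
  refine Module.FaithfullyFlat.lTensor_reflects_exact R R' d1 d2 fun z => ⟨fun hz => ?_, ?_⟩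
  · have key : d1.lTensor R' ∘ₗ s R' + s (R' ⊗[R] R') ∘ₗ d2.lTensor R' = LinearMap.id := by
      ext a m r t
      simp [s, hd1, hd2, TensorProduct.tmul_sub, TensorProduct.tmul_add]
    refine ⟨s R' z, ?_⟩
    have := LinearMap.congr_fun key z
    simpa [hz] using this
  · rintro ⟨w, rfl⟩
    have : d2 ∘ₗ d1 = 0 := by
      ext m r
      simp [hd1, hd2, TensorProduct.tmul_sub, TensorProduct.tmul_add,
        Algebra.TensorProduct.one_def]
    rw [← LinearMap.comp_apply, ← LinearMap.lTensor_comp, this, LinearMap.lTensor_zero,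
      LinearMap.zero_apply]

end Groth.Agent.S12421
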