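import Groth.Statements.S12423
import Groth.Agent.ExtFund.Adjunction
import Groth.Agent.ExtFund.Surface
import Groth.Agent.OmegaLib.Smooth
import Groth.Agent.OmegaLib.FiniteType
import Groth.Agent.RegBlow.Main
import Groth.Agent.RegLocus.Scheme
import Groth.Agent.S10910
import Groth.Agent.LocFree.Props

set_option autoImplicit false
universe u
open CategoryTheory CategoryTheory.Limits AlgebraicGeometry
open NonsingVar

set_option backward.isDefEq.respectTransparency false
set_option backward.isDefEq.respectTransparency.types false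

namespace Groth.Agent.S12423

/-- Let k be an algebraically closed field, X a nonsingular variety over k (integral, separated and of
finite type over k, all local rings regular) of dimension n, i : Y → X an irreducible closed
subscheme of dimension q with ideal sheaf I, (Ω_X, d_X) and (Ω_Y, d_Y) sheaves of differentials of X
and Y over k (universal derivations), and φ : I/I² → i^*Ω_X the canonical map from the conormal
sheaf (class of a local section s of I ↦ pullback of d_X s). Then Y is nonsingular if and only if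
(1) Ω_Y is locally free and (2) φ is a monomorphism (the conormal sequence 0 → I/I² → i^*Ω_X → Ω_Y →
0 is exact on the left too). Moreover in that case I/I² is locally free of rank n − q, the
codimension of Y. (The clause that I is then locally generated by n − q sections is not restated.) -/
theorem result (k : Type u) [Field k]
    [IsAlgClosed k] (n q : ℕ)
    (X : Scheme.{u}) [X.Over (Spec (CommRingCat.of k))] [IsIntegral X] [IsSeparated (X ↘ (Spec (CommRingCat.of k)))]
    [LocallyOfFiniteType (X ↘ (Spec (CommRingCat.of k)))] [QuasiCompact (X ↘ (Spec (CommRingCat.of k)))]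
    (hreg : ∀ x : ↥X, IsRegularLocalRing ↑(X.presheaf.stalk x))
    (hn : topologicalKrullDim ↥X = (n : WithBot ℕ∞))
    (Y : Scheme.{u}) (i : Y ⟶ X) [IsClosedImmersion i] [IrreducibleSpace ↥Y]
    (hq : topologicalKrullDim ↥Y = (q : WithBot ℕ∞))
    (ΩX : X.Modules) (dX : OmegaSh.Der (X ↘ (Spec (CommRingCat.of k))) ΩX) (hX : OmegaSh.IsUniversal dX)
    (ΩY : Y.Modules) (dY : OmegaSh.Der (i ≫ (X ↘ (Spec (CommRingCat.of k)))) ΩY) (hY : OmegaSh.IsUniversal dY)
    (φ : Omega.conormal i ⟶ (Scheme.Modules.pullback i).obj ΩX) (hφ : OmegaSh.IsConormalDiff i dX φ) :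
    ((∀ y : ↥Y, IsRegularLocalRing ↑(Y.presheaf.stalk y)) ↔ (FlatMod.IsFinLocFree ΩY ∧ Mono φ)) ∧
      ((∀ y : ↥Y, IsRegularLocalRing ↑(Y.presheaf.stalk y)) →
        FlatMod.IsFinLocFreeOfRank (n - q) (Omega.conormal i)) := by
  classical
  let pX := X ↘ (Spec (CommRingCat.of k))
  haveI : SmoothOfRelativeDimension n pX := Groth.Agent.ExtFund.smoothOfRelativeDimension_of_regular X hreg n hn
  haveI : LocallyOfFiniteType (i ≫ pX) := inferInstance
  haveI : IsLocallyNoetherian Y := LocallyOfFiniteType.isLocallyNoetherian (i ≫ pX)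
  haveI : IsLocallyNoetherian X := LocallyOfFiniteType.isLocallyNoetherian pX
  have hfwd : (∀ y : Y, IsRegularLocalRing (Y.presheaf.stalk y)) → SmoothOfRelativeDimension q (i ≫ pX) := fun h => by
    letI : Y.Over (Spec (CommRingCat.of k)) := ⟨i ≫ pX⟩
    haveI : LocallyOfFiniteType (Y ↘ Spec (CommRingCat.of k)) := ‹LocallyOfFiniteType (i ≫ pX)›
    exact Groth.Agent.ExtFund.smoothOfRelativeDimension_of_regular Y h q hq
  refine ⟨⟨fun h => ?_, fun ⟨hlf, hmono⟩ y => ?_⟩, fun h => ?_⟩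
  · haveI := hfwd h
    haveI : Smooth (i ≫ pX) := SmoothOfRelativeDimension.smooth q (i ≫ pX)
    have hfs := Groth.Agent.InfLift.isFormallySmoothHom_of_smooth (i ≫ pX)
    exact ⟨Groth.Agent.OmegaLib.isFinLocFree_of_formallySmooth hfs hY, Groth.Agent.OmegaLib.mono_conormalDiff hfs hX hφ⟩
  swap
  · haveI := hfwd h
    exact Groth.Agent.ExtFund.isFinLocFreeOfRank_conormal pX i n q
  let S := Spec (CommRingCat.of k)
  let W : S.Opens := ⊤
  have hW : IsAffineOpen W := isAffineOpen_top S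
  let eK : Γ(S, W) ≃+* k := (Scheme.ΓSpecIso (CommRingCat.of k)).commRingCatIsoToRingEquiv
  letI : Field Γ(S, W) := (eK.toMulEquiv.isField (Field.toIsField k)).toField
  haveI : IsAlgClosed Γ(S, W) := IsAlgClosed.of_ringEquiv k Γ(S, W) eK.symm
  obtain ⟨V, hV, hyV, -⟩ := exists_isAffineOpen_mem_and_subset (X := X) (U := ⊤) (x := i y) trivial
  have hU : IsAffineOpen (i ⁻¹ᵁ V) := hV.preimage i
  have hch : Groth.Agent.Conormal.IsChart i V := ⟨hV, IsZariskiLocalAtTarget.restrict ‹IsClosedImmersion i› V⟩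
  have e : V ≤ pX ⁻¹ᵁ W := le_top
  have e' : i ⁻¹ᵁ V ≤ (i ≫ pX) ⁻¹ᵁ W := le_top
  letI : Algebra Γ(S, W) Γ(X, V) := (pX.appLE W V e).hom.toAlgebra
  letI : Algebra Γ(X, V) Γ(Y, i ⁻¹ᵁ V) := (i.appLE V (i ⁻¹ᵁ V) le_rfl).hom.toAlgebra
  letI : Algebra Γ(S, W) Γ(Y, i ⁻¹ᵁ V) := ((i ≫ pX).appLE W (i ⁻¹ᵁ V) e').hom.toAlgebra
  haveI : IsScalarTower Γ(S, W) Γ(X, V) Γ(Y, i ⁻¹ᵁ V) := IsScalarTower.of_algebraMap_eq fun r => by
    change (i ≫ pX).appLE W (i ⁻¹ᵁ V) e' r = i.appLE V (i ⁻¹ᵁ V) le_rfl (pX.appLE W V e r)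
    rw [← ConcreteCategory.comp_apply, Scheme.Hom.appLE_comp_appLE]
  haveI : Algebra.FiniteType Γ(S, W) Γ(X, V) := pX.finiteType_appLE hW hV e
  haveI : Nonempty (V : Scheme.{u}) := ⟨⟨i y, hyV⟩⟩
  haveI : IsDomain Γ(X, V) := IsIntegral.component_integral V
  haveI : IsRegularRing Γ(X, V) := Groth.Agent.RegBlow.isRegularRing_sections hreg ⟨V, hV⟩
  have halg : algebraMap Γ(X, V) Γ(Y, i ⁻¹ᵁ V) = (i.app V).hom := by
    rw [RingHom.algebraMap_toAlgebra, Scheme.Hom.app_eq_appLE]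
  have hsurj : Function.Surjective (algebraMap Γ(X, V) Γ(Y, i ⁻¹ᵁ V)) := by rw [halg]; exact hch.surjective
  have hirr : (nilradical Γ(Y, i ⁻¹ᵁ V)).IsPrime := by
    haveI : IrreducibleSpace (PrimeSpectrum Γ(Y, i ⁻¹ᵁ V)) := by
      haveI : IrreducibleSpace (i ⁻¹ᵁ V : Scheme.{u}) := by
        haveI : Nonempty (i ⁻¹ᵁ V : Scheme.{u}) := ⟨⟨y, hyV⟩⟩
        haveI : PreirreducibleSpace (i ⁻¹ᵁ V : Scheme.{u}) :=
          Subtype.preirreducibleSpace ((PreirreducibleSpace.isPreirreducible_univ (X := Y)).open_subset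
            (i ⁻¹ᵁ V).isOpen (Set.subset_univ _))
        exact ⟨inferInstance⟩
      exact (Scheme.homeoOfIso hU.isoSpec).irreducibleSpace_iff.1 ‹_›
    exact PrimeSpectrum.irreducibleSpace_iff_isPrime_nilradical.1 ‹_›
  have key := Groth.Agent.S10910.result Γ(S, W) Γ(X, V) Γ(Y, i ⁻¹ᵁ V) hsurj hirr
  obtain ⟨LY, -⟩ := Groth.Agent.OmegaLib.exists_linearEquiv hY e' hU hW
  have hproj : Module.Projective Γ(Y, i ⁻¹ᵁ V) (Ω[Γ(Y, i ⁻¹ᵁ V)⁄Γ(S, W)]) := by
    haveI := Groth.Agent.LocFree.projective_sections hlf hU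
    exact Module.Projective.of_equiv LY
  have hinj : Function.Injective (KaehlerDifferential.kerCotangentToTensor Γ(S, W) Γ(X, V) Γ(Y, i ⁻¹ᵁ V)) := by
    haveI : Coh.IsQCoh ΩX := Groth.Agent.OmegaLib.isQCoh_of_isUniversal hX
    obtain ⟨Φ, hΦ⟩ := Groth.Agent.ModDesc.exists_bijective_liftBaseChange i ΩX hV hU le_rfl
    obtain ⟨L, hL⟩ := Groth.Agent.OmegaLib.exists_linearEquiv hX e hV hW
    refine (injective_iff_map_eq_zero _).2 fun x hx => ?_
    obtain ⟨⟨t, ht⟩, rfl⟩ := Ideal.toCotangent_surjective _ x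
    rw [KaehlerDifferential.kerCotangentToTensor_toCotangent] at hx
    have ht' : i.app V t = 0 := by
      have h0 := RingHom.mem_ker.1 ht
      rwa [halg] at h0
    obtain ⟨s, hs⟩ := Groth.Agent.Conormal.exists_idealSect i V t ht'
    subst hs
    have h2 : (1 : Γ(Y, i ⁻¹ᵁ V)) ⊗ₜ[Γ(X, V)] dX.app V (OmegaSh.idealSect i.ker V s) = 0 := by
      apply (TensorProduct.AlgebraTensorModule.congr (LinearEquiv.refl Γ(Y, i ⁻¹ᵁ V) Γ(Y, i ⁻¹ᵁ V)) L).injective
      rw [TensorProduct.AlgebraTensorModule.congr_tmul, map_zero, LinearEquiv.refl_apply, hL]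
      exact hx
    have h3 : φ.app (i ⁻¹ᵁ V) (OmegaSh.conormalSect i V s) = 0 := by
      refine (hφ V s).trans ?_
      have h4 : Φ (1 ⊗ₜ dX.app V (OmegaSh.idealSect i.ker V s)) = 0 := by rw [h2, map_zero]
      rw [hΦ, Groth.Agent.ModDesc.pullSectLE_apply, Groth.Agent.QC.res_self] at h4
      exact h4
    haveI := hmono
    have h5 : OmegaSh.conormalSect i V s = 0 :=
      Groth.Agent.QC.app_injective_of_mono φ (i ⁻¹ᵁ V) (h3.trans (map_zero _).symm)
    have h6 := (Groth.Agent.Conormal.conormalSect_eq_zero_iff i hch s).1 h5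
    rw [← halg] at h6
    exact (Ideal.toCotangent_eq_zero _ _).2 h6
  haveI := key.2 ⟨hproj, hinj⟩
  have := (Groth.Agent.RegLocus.regular_stalk_iff hU.fromSpec (hU.primeIdealOf ⟨y, hyV⟩)).1
    (Groth.Agent.SmLocalST.isRegularLocalRing_stalk_spec _ _)
  rwa [hU.fromSpec_primeIdealOf] at this

end Groth.Agent.S12423
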