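import Groth.Statements.S12431
import Groth.Agent.VBTwo.Unique

set_option autoImplicit false
universe u
open CategoryTheory CategoryTheory.Limits AlgebraicGeometry
open Curves

set_option backward.isDefEq.respectTransparency false
set_option backward.isDefEq.respectTransparency.types false

open Groth.Agent

namespace Groth.Agent.S12431

/-- Uniqueness, e = 0 case: let C be an elliptic curve over an algebraically closed field k — integral,
proper over k, of dimension one, all local rings regular, of genus 1 — and let E and E′ be locally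
free O_C-modules of rank 2 which are normalized (H^0(C, E) ≠ 0 while H^0(C, E ⊗ M) = 0 for every
invertible M of negative degree; likewise for E′), indecomposable (not isomorphic to a direct sum of
two invertible modules) and of degree 0, where deg E = χ(E) − 2χ(O_C). Then E and E′ are isomorphic:
there is exactly one elliptic ruled surface with invariant e = 0 and indecomposable E. -/
theorem result (k : Type u) [Field k] [IsAlgClosed k] (C : Scheme.{u}) [C.Over (Spec (CommRingCat.of k))]
    [IsIntegral C] [IsProper (C ↘ (Spec (CommRingCat.of k)))] (hdimC : topologicalKrullDim C = 1)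
    (hregC : ∀ x : C, IsRegularLocalRing (C.presheaf.stalk x)) (hg : Curv2.genus k C = 1)
    (E : C.Modules) (hE : FlatMod.IsFinLocFreeOfRank 2 E)
    (hE0 : Nontrivial (Coh.HH C E 0))
    (hEneg : ∀ M : C.Modules, PicF.IsInvertible M → Curv2.deg k C M 1 < 0 → Subsingleton (Coh.HH C (CohB1.tensorMod E M) 0))
    (hEind : ∀ L₁ L₂ : C.Modules, PicF.IsInvertible L₁ → PicF.IsInvertible L₂ → IsEmpty (E ≅ L₁ ⊞ L₂))
    (hEdeg : Curv2.deg k C E 2 = 0)
    (E' : C.Modules) (hE' : FlatMod.IsFinLocFreeOfRank 2 E')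
    (hE'0 : Nontrivial (Coh.HH C E' 0))
    (hE'neg : ∀ M : C.Modules, PicF.IsInvertible M → Curv2.deg k C M 1 < 0 → Subsingleton (Coh.HH C (CohB1.tensorMod E' M) 0))
    (hE'ind : ∀ L₁ L₂ : C.Modules, PicF.IsInvertible L₁ → PicF.IsInvertible L₂ → IsEmpty (E' ≅ L₁ ⊞ L₂))
    (hE'deg : Curv2.deg k C E' 2 = 0) :
    Nonempty (E ≅ E') := by
  haveI := CurveRR.isNoetherian_of_proper k C
  have hX : W7Slope.RegCurve C := ⟨hdimC.le, hregC⟩
  have key : ∀ (M : C.Modules), FlatMod.IsFinLocFreeOfRank 2 M → Nontrivial (Coh.HH C M 0) →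
      (∀ N : C.Modules, PicF.IsInvertible N → Curv2.deg k C N 1 < 0 → Subsingleton (Coh.HH C (CohB1.tensorMod M N) 0)) →
      (∀ L₁ L₂ : C.Modules, PicF.IsInvertible L₁ → PicF.IsInvertible L₂ → IsEmpty (M ≅ L₁ ⊞ L₂)) →
      Curv2.deg k C M 2 = 0 → ∃ (i : Coh.structureModule C ⟶ M) (g : M ⟶ Coh.structureModule C) (w : i ≫ g = 0),
        (ShortComplex.mk i g w).ShortExact ∧ ¬ IsSplitEpi g := by
    intro M hM hM0 hneg hind hd
    haveI := CohFinite.finite_proper k C M (CurveRR.isCoh_of_rank hM) 0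
    haveI := hM0
    obtain ⟨s, hs⟩ := CurveRR.exists_section (k := k) (L := M) (Module.finrank_pos (R := k) (M := Coh.HH C M 0)).ne'
    obtain ⟨hm, hQ, hdQ⟩ := VBTwo.exists_normalized hX hM hneg s hs
    haveI := hm
    have hS : (ShortComplex.mk s (cokernel.π s) (cokernel.condition s)).ShortExact :=
      { exact := ShortComplex.exact_cokernel s }
    have hns : ¬ IsSplitEpi (cokernel.π s) := fun h => by
      obtain ⟨e⟩ := VBTwo.iso_biprod_of_isSplitEpi hS h
      exact (hind _ _ TMul.isInvertible_structureModule hQ).false e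
    obtain ⟨Q', hQ', ⟨e⟩⟩ := W7Hull.exists_tensor_inverse hQ
    have hdQ' := CurveRR.deg_tensor_inv (k := k) hX.dim hQ hQ'
    rw [W7Slope.deg_iso (k := k) e, CurveRR.deg_structure, hdQ, hd, zero_add] at hdQ'
    have hχ := CurveRR.euler_eq (k := k) hX.dim Q'
    have hdd := hdQ'.symm
    rw [Curv2.deg, CurveRR.euler_structure hX.dim (CurveRR.h0_structure k C), hg] at hdd
    push_cast at hdd
    have hne : CurveRR.h k Q' 0 ≠ 0 := fun h0 => by
      haveI := CohFinite.finite_proper k C _ (CurveRR.isCoh_of_inv hQ') 1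
      haveI : Subsingleton (Coh.HH C Q' 1) := Module.finrank_zero_iff.1 (show CurveRR.h k Q' 1 = 0 by omega)
      exact hns (W7Slope.isSplitEpi_of_h1 k _ hS hQ' (TMul.commIso _ _ ≪≫ e)
        ((CohFinite.hhEquiv k (TMul.leftUnitIso Q') 1).toEquiv.subsingleton))
    obtain ⟨t, ht⟩ := CurveRR.exists_section (k := k) hne
    obtain ⟨i0⟩ := CurveRR.nonempty_iso_of_section (k := k) hX.dim hQ' t ht hdQ'.symm.le
    let q : cokernel s ≅ Coh.structureModule C := (SecTwist.unitorR (cokernel s)).symm ≪≫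
      PicGrp.tensorModIso (Iso.refl _) i0.symm ≪≫ e
    refine ⟨s, cokernel.π s ≫ q.hom, by rw [cokernel.condition_assoc, zero_comp],
      ShortComplex.shortExact_of_iso (S₁ := ShortComplex.mk s (cokernel.π s) (cokernel.condition s))
        (ShortComplex.isoMk (Iso.refl _) (Iso.refl _) q) hS, fun h => hns ?_⟩
    haveI := h
    exact IsSplitEpi.mk' ⟨q.hom ≫ section_ (cokernel.π s ≫ q.hom), by
      refine (cancel_mono q.hom).1 ?_
      rw [Category.assoc, Category.assoc, IsSplitEpi.id (cokernel.π s ≫ q.hom), Category.comp_id, Category.id_comp]⟩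
  obtain ⟨i, g, w, hS, hns⟩ := key E hE hE0 hEneg hEind hEdeg
  obtain ⟨i', g', w', hS', hns'⟩ := key E' hE' hE'0 hE'neg hE'ind hE'deg
  exact VBTwo.nonempty_iso_of_nonsplit k hdimC hX hg i' g' w' hS' hns' (CurveRR.isCoh_of_rank hE') (fun x => let ⟨U, hx, e⟩ := hE' x; ⟨U, 2, hx, e⟩) i g w hS hns
    (CurveRR.isCoh_of_rank hE)

end Groth.Agent.S12431
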