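import Groth.Statements.S12436
import Groth.Agent.PlaneBlow.FibreRational
import Groth.Agent.Nakai.FibreDeg
import Groth.Agent.Horrocks.Dim
import Groth.Agent.PtBlow.Negativity

set_option backward.isDefEq.respectTransparency false
set_option linter.style.haveILetI false
-- import your own Groth.Agent.* helpers here

set_option autoImplicit false
universe u
open CategoryTheory CategoryTheory.Limits AlgebraicGeometry
open Surf

namespace Groth.Agent.S12436

/-- Let π : X → C be a ruled surface over an algebraically closed field k — X a surface (integral, of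
dimension two, all local rings regular, with a closed immersion into some P^n_k over k), C a curve
(integral, proper over k, of dimension one, all local rings regular), π a surjective k-morphism with
every closed fibre isomorphic to P^1_k, σ a section — let C₀ = σ(C) with ideal sheaf ker σ, and let
f = π⁻¹(y) be the fibre over a closed point y, with ideal m_y·O_X. Then C₀.f = 1 and f² = 0; in
terms of the intersection number (L·M) = χ(O) − χ(L) − χ(M) + χ(L ⊗ M) of the ideal sheaves,
(I_{C₀}·I_f) = 1 and (I_f·I_f) = 0. -/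
theorem result (k : Type u) [Field k] [IsAlgClosed k] (X : Scheme.{u}) [X.Over (Spec (CommRingCat.of k))]
    [IsIntegral X] (hdim : topologicalKrullDim X = 2) (hreg : ∀ x : X, IsRegularLocalRing (X.presheaf.stalk x))
    (hproj : ∃ (n : ℕ) (ι : X ⟶ CohB1.ProjSpace n k), IsClosedImmersion ι ∧ ι ≫ CohB1.ProjSpace.toSpec n k = (X ↘ (Spec (CommRingCat.of k))))
    (C : Scheme.{u}) [C.Over (Spec (CommRingCat.of k))]
    [IsIntegral C] [IsProper (C ↘ (Spec (CommRingCat.of k)))] (hdimC : topologicalKrullDim C = 1)
    (hregC : ∀ x : C, IsRegularLocalRing (C.presheaf.stalk x))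
    (π : X ⟶ C) (hπ : π ≫ (C ↘ (Spec (CommRingCat.of k))) = (X ↘ (Spec (CommRingCat.of k)))) (hsurj : Function.Surjective π)
    (hfib : ∀ y : C, IsClosed ({y} : Set C) → Nonempty (pullback π (C.fromSpecResidueField y) ≅ CohB1.ProjSpace 1 k))
    (σ : C ⟶ X) (hσ : σ ≫ π = 𝟙 C)
    [HasInjectiveResolutions X.Modules] (y : C) (hy : IsClosed ({y} : Set C)) :
    FGA.intNum k X 2 ![ClSub.idealMod σ.ker, (ClSub.idealMod ((Scheme.IdealSheafData.vanishingIdeal ⟨{y}, hy⟩).comap π))] (Coh.structureModule X) = 1 ∧
      FGA.intNum k X 2 ![(ClSub.idealMod ((Scheme.IdealSheafData.vanishingIdeal ⟨{y}, hy⟩).comap π)), (ClSub.idealMod ((Scheme.IdealSheafData.vanishingIdeal ⟨{y}, hy⟩).comap π))] (Coh.structureModule X) = 0 := by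
  obtain ⟨m, κ, hκ, hκk⟩ := hproj
  haveI := ProjMor.isProper_toSpec m k
  haveI : IsProper (X ↘ Spec (CommRingCat.of k)) := by rw [← hκk]; infer_instance
  haveI : Smooth (X ↘ Spec (CommRingCat.of k)) := Castel.smooth_of_regular_stalks _ hreg
  haveI : IsProper (π ≫ (C ↘ Spec (CommRingCat.of k))) := by rw [hπ]; infer_instance
  haveI : IsProper π := IsProper.of_comp π (C ↘ Spec (CommRingCat.of k))
  haveI := CurveRR.isNoetherian_of_proper k X
  haveI := CurveRR.isNoetherian_of_proper k C
  set I := Scheme.IdealSheafData.vanishingIdeal ⟨{y}, hy⟩ with hIdef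
  have hgy := CurveRR.genericPoint_ne_of_closed (k := k) hdimC hy
  have hI : BlowUp.IsEffCartierIdeal I :=
    (Groth.Agent.S8914.result I).1 (CurveRR.isInvertible_pointIdeal hdimC.le hy hgy (hregC y))
  have hIi := (Groth.Agent.S8914.result I).2 hI
  have hIs : (I.support : Set C) = {y} := by
    rw [hIdef, Scheme.IdealSheafData.coe_support_vanishingIdeal]; rfl
  have hJ : BlowUp.IsEffCartierIdeal (I.comap π) := by
    refine PtBlow.cartier_comap_generic π hI fun hin => ?_
    rw [hIs] at hin
    obtain ⟨p, hp⟩ := hsurj (genericPoint C)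
    have h2 : π (genericPoint X) ⤳ π p := (genericPoint_specializes p).map π.continuous
    rw [hp, show π (genericPoint X) = y from hin] at h2
    have h3 : genericPoint C = y := h2.mem_closed hy rfl
    exact hgy h3
  have hJi := (Groth.Agent.S8914.result (I.comap π)).2 hJ
  obtain ⟨eJ⟩ := Nakai.nonempty_pullback_idealMod π hI hJ
  refine ⟨?_, ?_⟩
  · haveI : IsClosedImmersion (σ ≫ π) := by rw [hσ]; infer_instance
    haveI : IsClosedImmersion σ := IsClosedImmersion.of_comp σ π
    letI : C.Over (Spec (CommRingCat.of k)) := ⟨σ ≫ (X ↘ Spec (CommRingCat.of k))⟩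
    haveI : IsProper (C ↘ Spec (CommRingCat.of k)) :=
      inferInstanceAs (IsProper (σ ≫ (X ↘ Spec (CommRingCat.of k))))
    haveI := StabK3.isIntegral_ker σ
    have hC1 : topologicalKrullDim (σ.ker.support : Set X) = 1 := by rw [StabK3.dim_support_ker σ, hdimC]
    have h := SurfAdj.deg_eq k hdim σ.ker hC1 hJi
    let e1 : (Scheme.Modules.pullback σ).obj (ClSub.idealMod (I.comap π)) ≅ ClSub.idealMod I :=
      (Scheme.Modules.pullback σ).mapIso eJ.symm ≪≫ (Scheme.Modules.pullbackComp σ π).app _ ≪≫
        (Scheme.Modules.pullbackCongr hσ).app _ ≪≫ (Scheme.Modules.pullbackId C).app _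
    rw [Intersect.euler_quot_twist k σ hJi, CurveRR.euler_eq_of_iso e1,
      ← CurveRR.euler_eq_of_iso (TMul.commIso (ClSub.quotMod σ.ker) (Coh.structureModule X) ≪≫ TMul.leftUnitIso _),
      Intersect.euler_quot_twist k σ TMul.isInvertible_structureModule,
      CurveRR.euler_eq_of_iso (DerPerf.pullUnitIso σ),
      ← CurveRR.euler_eq_of_iso (TMul.commIso (ClSub.idealMod I) (Coh.structureModule C) ≪≫ TMul.leftUnitIso _),
      CurveRR.euler_pointIdeal (k := k) hy TMul.isInvertible_structureModule] at h
    omega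
  · haveI : IsClosedImmersion (C.fromSpecResidueField y) := isClosed_singleton_iff_isClosedImmersion.mp hy
    haveI : IsClosedImmersion (π.fiberι y) := MorphismProperty.pullback_fst _ _ inferInstance
    obtain ⟨eF⟩ := hfib y hy
    let eF' : π.fiber y ≅ CohB1.ProjSpace 1 k := eF
    haveI : IsIntegral (CohB1.ProjSpace 1 k) := Horrocks.isIntegral_projSpace
    haveI : Nonempty (π.fiber y) := ⟨eF'.inv (Nonempty.some inferInstance)⟩
    haveI : IsIntegral (π.fiber y) := isIntegral_of_isOpenImmersion eF'.hom
    haveI := StabK3.isIntegral_ker (π.fiberι y)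
    have hker := Nakai.ker_fiberι π hy
    have hC1 : topologicalKrullDim ((π.fiberι y).ker.support : Set X) = 1 := by
      rw [StabK3.dim_support_ker (π.fiberι y),
        IsHomeomorph.topologicalKrullDim_eq _ eF'.hom.homeomorph.isHomeomorph, Groth.Agent.S10829.result k 1]
      rfl
    letI : (π.fiber y).Over (Spec (CommRingCat.of k)) := ⟨π.fiberι y ≫ (X ↘ Spec (CommRingCat.of k))⟩
    have h := SurfAdj.deg_eq k hdim (π.fiberι y).ker hC1 hJi
    have hz : ∀ z : π.fiber y, (π.fiberι y ≫ π) z = y := fun z => by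
      have : π.fiberι y z ∈ π.base ⁻¹' {y} := (π.range_fiberι y).le ⟨z, rfl⟩
      exact this
    obtain ⟨e0⟩ := PlaneBlow.nonempty_pullback_trivial (π.fiberι y ≫ π) hIi hz
    let e1 : (Scheme.Modules.pullback (π.fiberι y)).obj (ClSub.idealMod (I.comap π)) ≅
        Coh.structureModule (π.fiber y) :=
      (Scheme.Modules.pullback (π.fiberι y)).mapIso eJ.symm ≪≫
        (Scheme.Modules.pullbackComp (π.fiberι y) π).app _ ≪≫ e0.symm
    rw [Intersect.euler_quot_twist k (π.fiberι y) hJi, CurveRR.euler_eq_of_iso e1,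
      ← CurveRR.euler_eq_of_iso (TMul.commIso (ClSub.quotMod (π.fiberι y).ker) (Coh.structureModule X) ≪≫
        TMul.leftUnitIso _),
      Intersect.euler_quot_twist k (π.fiberι y) TMul.isInvertible_structureModule,
      CurveRR.euler_eq_of_iso (DerPerf.pullUnitIso (π.fiberι y)), hker, ← hIdef] at h
    omega

end Groth.Agent.S12436
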