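import Groth.Statements.S12437
import Mathlib.RingTheory.Polynomial.Eisenstein.Criterion
import Mathlib.RingTheory.Ideal.KrullsHeightTheorem
import Mathlib.Algebra.Polynomial.SpecificDegree
import Mathlib.FieldTheory.IsAlgClosed.Basic

/-!
# Irreducibility of `V(σ₂, σ₄) ⊂ 𝔸⁵`

Write `σ₂ = s₂ + eS₁`, `σ₄ = s₄ + e s₃` with `sᵢ` symmetric in the first four variables. Where `s₁` is
invertible the locus is `V(s₁s₄ - s₂s₃)`, whose equation is irreducible by Eisenstein; no component lies
in `V(s₁)`, since `(s₁, s₂)` is a prime of height two not containing `σ₄`.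
-/

set_option autoImplicit false
universe u
open Cubic MvPolynomial

namespace Groth.Agent.S12437

noncomputable section

section sym
variable {A : Type u} [CommRing A]

def s1 (x : Fin 4 → A) : A := x 0 + (x 1 + x 2 + x 3)
def s2 (x : Fin 4 → A) : A := x 0 * (x 1 + x 2 + x 3) + (x 1 * x 2 + x 2 * x 3 + x 3 * x 1)
def s3 (x : Fin 4 → A) : A := x 0 * (x 1 * x 2 + x 2 * x 3 + x 3 * x 1) + x 1 * x 2 * x 3
def s4 (x : Fin 4 → A) : A := x 0 * (x 1 * x 2 * x 3)
abbrev pp (x : Fin 4 → A) : A := s1 x * s4 x - s2 x * s3 x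

end sym

variable (k : Type u) [Field k]

abbrev x4 : Fin 4 → MvPolynomial (Fin 4) k := fun i ↦ X i
abbrev x5 : Fin 4 → MvPolynomial (Fin 5) k := fun i ↦ X i.castSucc

lemma esymm_two : esymm (Fin 5) k 2 = s2 (x5 k) + X 4 * s1 (x5 k) := by
  have h : (Finset.univ : Finset (Fin 5)).powersetCard 2 =
      {{0, 1}, {0, 2}, {0, 3}, {0, 4}, {1, 2}, {1, 3}, {1, 4}, {2, 3}, {2, 4}, {3, 4}} := by decide
  rw [esymm, h]
  repeat rw [Finset.sum_insert (by decide)]
  rw [Finset.sum_singleton]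
  repeat rw [Finset.prod_pair (by decide)]
  simp only [s1, s2, x5, Fin.castSucc_zero, show (Fin.castSucc (1 : Fin 4)) = 1 from rfl,
    show (Fin.castSucc (2 : Fin 4)) = 2 from rfl, show (Fin.castSucc (3 : Fin 4)) = 3 from rfl]
  ring

lemma esymm_four : esymm (Fin 5) k 4 = s4 (x5 k) + X 4 * s3 (x5 k) := by
  have h : (Finset.univ : Finset (Fin 5)).powersetCard 4 =
      {{0, 1, 2, 3}, {0, 1, 2, 4}, {0, 1, 3, 4}, {0, 2, 3, 4}, {1, 2, 3, 4}} := by decide
  rw [esymm, h]
  repeat rw [Finset.sum_insert (by decide)]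
  rw [Finset.sum_singleton]
  repeat rw [Finset.prod_insert (by decide)]
  repeat rw [Finset.prod_singleton]
  simp only [s3, s4, x5, Fin.castSucc_zero, show (Fin.castSucc (1 : Fin 4)) = 1 from rfl,
    show (Fin.castSucc (2 : Fin 4)) = 2 from rfl, show (Fin.castSucc (3 : Fin 4)) = 3 from rfl]
  ring

/-! ## Two irreducibility facts -/

lemma irreducible_add : Irreducible (X 0 + X 1 : MvPolynomial (Fin 2) k) := by
  apply (MulEquiv.irreducible_iff (finSuccEquiv k 1)).mp
  have : finSuccEquiv k 1 (X 0 + X 1) =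
      Polynomial.C 1 * Polynomial.X + Polynomial.C (X 0 : MvPolynomial (Fin 1) k) := by
    rw [show (1 : Fin 2) = (0 : Fin 1).succ from rfl, map_add, finSuccEquiv_X_zero,
      finSuccEquiv_X_succ]
    simp
  rw [this]
  exact Polynomial.irreducible_C_mul_X_add_C one_ne_zero isRelPrime_one_left

abbrev e2' : MvPolynomial (Fin 3) k := X 0 * X 1 + X 1 * X 2 + X 2 * X 0
abbrev e3' : MvPolynomial (Fin 3) k := X 0 * X 1 * X 2
abbrev e1' : MvPolynomial (Fin 3) k := X 0 + X 1 + X 2

lemma irreducible_e2 : Irreducible (e2' k) := by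
  apply (MulEquiv.irreducible_iff (finSuccEquiv k 2)).mp
  have : finSuccEquiv k 2 (e2' k) = Polynomial.C (X 0 + X 1 : MvPolynomial (Fin 2) k) * Polynomial.X
      + Polynomial.C (X 0 * X 1) := by
    rw [e2', show (1 : Fin 3) = (0 : Fin 2).succ from rfl, show (2 : Fin 3) = (1 : Fin 2).succ from rfl]
    simp only [map_add, map_mul, finSuccEquiv_X_zero, finSuccEquiv_X_succ]
    ring
  rw [this]
  refine Polynomial.irreducible_C_mul_X_add_C (irreducible_add k).ne_zero ?_
  rw [(irreducible_add k).isRelPrime_iff_not_dvd]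
  intro h
  have := map_dvd (eval ![(1 : k), -1]) h
  simp at this

lemma prime_e2 : Prime (e2' k) := (irreducible_e2 k).prime

lemma not_dvd_of_eval [CharZero k] {f : MvPolynomial (Fin 3) k}
    (hf : eval ![(2 : k), 2, -1] f ≠ 0) : ¬ e2' k ∣ f := fun h ↦ by
  have := map_dvd (eval ![(2 : k), 2, -1]) h
  norm_num [e2', Matrix.cons_val_two] at this
  exact hf this

lemma finSucc_pp : finSuccEquiv k 3 (pp (x4 k)) =
    Polynomial.C (e3' k - e1' k * e2' k) * Polynomial.X ^ 2
      + Polynomial.C (-(e2' k) ^ 2) * Polynomial.X + Polynomial.C (-(e2' k * e3' k)) := by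
  simp only [pp, s1, s2, s3, s4, x4, e1', e2', e3', show (1 : Fin 4) = (0 : Fin 3).succ from rfl,
    show (2 : Fin 4) = (1 : Fin 3).succ from rfl, show (3 : Fin 4) = (2 : Fin 3).succ from rfl,
    map_add, map_mul, map_sub, map_neg, map_pow, finSuccEquiv_X_zero, finSuccEquiv_X_succ]
  ring

lemma irreducible_pp [CharZero k] : Irreducible (pp (x4 k)) := by
  apply (MulEquiv.irreducible_iff (finSuccEquiv k 3)).mp
  rw [finSucc_pp]
  generalize hgA : e3' k - e1' k * e2' k = cA
  generalize hgB : -(e2' k) ^ 2 = cB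
  generalize hgC : -(e2' k * e3' k) = cC
  have hA : ¬ e2' k ∣ cA := hgA ▸ not_dvd_of_eval k (by
    norm_num [e1', e2', e3', Matrix.cons_val_two])
  have hE : ¬ e2' k ∣ e3' k := not_dvd_of_eval k (by
    norm_num [e3', Matrix.cons_val_two])
  have hA0 : cA ≠ 0 := fun h ↦ hA (h ▸ dvd_zero _)
  have hd := Polynomial.degree_quadratic (b := cB) (c := cC) hA0
  have k0 : (Polynomial.C cA * Polynomial.X ^ 2 + Polynomial.C cB * Polynomial.X
      + Polynomial.C cC).coeff 0 = cC := by simp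
  have k1 : (Polynomial.C cA * Polynomial.X ^ 2 + Polynomial.C cB * Polynomial.X
      + Polynomial.C cC).coeff 1 = cB := by simp [Polynomial.coeff_C, Polynomial.coeff_X_pow]
  have k2 : (Polynomial.C cA * Polynomial.X ^ 2 + Polynomial.C cB * Polynomial.X
      + Polynomial.C cC).coeff 2 = cA := by simp [Polynomial.coeff_C, Polynomial.coeff_X]
  refine Polynomial.irreducible_of_eisenstein_criterion (P := Ideal.span {e2' k})
    ((Ideal.span_singleton_prime (prime_e2 k).ne_zero).mpr (prime_e2 k)) ?_ ?_ ?_ ?_ ?_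
  · rw [Polynomial.leadingCoeff_quadratic hA0, Ideal.mem_span_singleton]
    exact hA
  · intro n hn
    rw [hd] at hn
    have hn' : n < 2 := by exact_mod_cast hn
    rw [Ideal.mem_span_singleton]
    interval_cases n
    · rw [k0, ← hgC, dvd_neg]; exact dvd_mul_right _ _
    · rw [k1, ← hgB, dvd_neg]; exact dvd_pow_self _ two_ne_zero
  · rw [hd]; norm_num
  · rw [Ideal.span_singleton_pow, Ideal.mem_span_singleton, k0, ← hgC, dvd_neg, sq]
    exact fun h ↦ hE ((mul_dvd_mul_iff_left (prime_e2 k).ne_zero).mp h)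
  · intro r hr
    rw [Polynomial.C_dvd_iff_dvd_coeff] at hr
    have h2 := hr 2
    have h1 := hr 1
    rw [k2] at h2
    rw [k1, ← hgB, dvd_neg] at h1
    exact (((irreducible_e2 k).isRelPrime_iff_not_dvd.mpr hA).pow_left (m := 2)) h1 h2

abbrev qq : MvPolynomial (Fin 4) k :=
  X 0 ^ 2 + (X 1 + X 2) * X 0 + (X 1 ^ 2 + X 1 * X 2 + X 2 ^ 2)

lemma irreducible_qq [IsAlgClosed k] [CharZero k] : Irreducible (qq k) := by
  apply (MulEquiv.irreducible_iff (finSuccEquiv k 3)).mp
  let B : MvPolynomial (Fin 3) k := X 0 + X 1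
  let C0 : MvPolynomial (Fin 3) k := X 0 ^ 2 + X 0 * X 1 + X 1 ^ 2
  have he : finSuccEquiv k 3 (qq k) =
      Polynomial.C 1 * Polynomial.X ^ 2 + Polynomial.C B * Polynomial.X + Polynomial.C C0 := by
    simp only [qq, B, C0, show (1 : Fin 4) = (0 : Fin 3).succ from rfl,
      show (2 : Fin 4) = (1 : Fin 3).succ from rfl, map_add, map_mul, map_pow, map_one,
      finSuccEquiv_X_zero, finSuccEquiv_X_succ]
    ring
  rw [he]
  have hn := Polynomial.natDegree_quadratic (b := B) (c := C0)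
    (one_ne_zero (α := MvPolynomial (Fin 3) k))
  have hm : (Polynomial.C 1 * Polynomial.X ^ 2 + Polynomial.C B * Polynomial.X
      + Polynomial.C C0).Monic := Polynomial.leadingCoeff_quadratic one_ne_zero
  rw [hm.irreducible_iff_roots_eq_zero_of_degree_le_three (by omega) (by omega),
    Multiset.eq_zero_iff_forall_notMem]
  intro r hr
  rw [Polynomial.mem_roots hm.ne_zero, Polynomial.IsRoot] at hr
  simp [B, C0] at hr
  let g : MvPolynomial (Fin 3) k →ₐ[k] Polynomial k := aeval ![Polynomial.X, 1, 0]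
  have h2 := congrArg g hr
  simp [g] at h2
  let w : Polynomial k := 2 * g r + (Polynomial.X + 1)
  have hw : w ^ 2 = -(Polynomial.C 3 * Polynomial.X ^ 2 + Polynomial.C 2 * Polynomial.X
      + Polynomial.C 3) := by
    simp only [w, g, map_ofNat]
    linear_combination 4 * h2
  obtain ⟨t, ht⟩ := IsAlgClosed.exists_root (Polynomial.C (3 : k) * Polynomial.X ^ 2 +
    Polynomial.C 2 * Polynomial.X + Polynomial.C 3)
    (by rw [Polynomial.degree_quadratic (by norm_num : (3 : k) ≠ 0)]; norm_num)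
  have h0 : w.eval t = 0 := by
    have := congrArg (Polynomial.eval t) hw
    rw [Polynomial.eval_pow, Polynomial.eval_neg, ht, neg_zero] at this
    exact pow_eq_zero_iff two_ne_zero |>.mp this
  have h1 := congrArg (fun p ↦ (Polynomial.derivative p).eval t) hw
  simp [Polynomial.derivative_pow, h0] at h1
  rw [Polynomial.IsRoot] at ht
  simp at ht
  have : (8 : k) = 0 := by linear_combination 3 * ht - ((1 : k) / 2 * (3 * t + 1)) * h1
  norm_num at this

/-! ## The prime `(s₁, s₂)` -/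

def psi : MvPolynomial (Fin 5) k →ₐ[k] MvPolynomial (Fin 4) k :=
  aeval ![-(X 0 + X 1 + X 2), X 0, X 1, X 2, X 3]

def psiSec : MvPolynomial (Fin 4) k →ₐ[k] MvPolynomial (Fin 5) k :=
  aeval fun i ↦ X i.succ

lemma psi_s1 : psi k (s1 (x5 k)) = 0 := by
  simp [psi, s1, x5]
  ring

lemma psi_s2 : psi k (s2 (x5 k)) = -qq k := by
  simp [psi, s2, x5, qq]
  ring

lemma sub_psiSec_mem (f : MvPolynomial (Fin 5) k) :
    f - psiSec k (psi k f) ∈ Ideal.span {s1 (x5 k)} := by
  rw [← Ideal.Quotient.mk_eq_mk_iff_sub_mem]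
  suffices h : (Ideal.Quotient.mkₐ k (Ideal.span {s1 (x5 k)})) =
      (Ideal.Quotient.mkₐ k (Ideal.span {s1 (x5 k)})).comp ((psiSec k).comp (psi k)) from
    DFunLike.congr_fun h f
  ext i
  fin_cases i
  · simp only [AlgHom.comp_apply, Ideal.Quotient.mkₐ_eq_mk]
    rw [Ideal.Quotient.mk_eq_mk_iff_sub_mem]
    simp [psi, psiSec, s1, x5, Ideal.mem_span_singleton]
    exact dvd_of_eq (by ring)
  all_goals simp [psi, psiSec]

lemma mem_span_s1_iff (f : MvPolynomial (Fin 5) k) :
    f ∈ Ideal.span {s1 (x5 k)} ↔ psi k f = 0 := by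
  constructor
  · intro h
    obtain ⟨g, rfl⟩ := Ideal.mem_span_singleton'.mp h
    rw [map_mul, psi_s1, mul_zero]
  · intro h
    simpa [h] using sub_psiSec_mem k f

lemma span_s1_isPrime : (Ideal.span {s1 (x5 k)}).IsPrime := by
  have : Ideal.span {s1 (x5 k)} = RingHom.ker (psi k).toRingHom := by
    ext f; exact mem_span_s1_iff k f
  rw [this]; exact RingHom.ker_isPrime _

lemma span_s1s2_eq : Ideal.span {s1 (x5 k), s2 (x5 k)} =
    (Ideal.span {qq k}).comap (psi k).toRingHom := by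
  refine le_antisymm (Ideal.span_le.mpr ?_) fun f hf ↦ ?_
  · rintro f (rfl | rfl)
    · rw [SetLike.mem_coe, Ideal.mem_comap, AlgHom.toRingHom_eq_coe, RingHom.coe_coe, psi_s1]
      exact zero_mem _
    · rw [SetLike.mem_coe, Ideal.mem_comap, AlgHom.toRingHom_eq_coe, RingHom.coe_coe, psi_s2]
      exact neg_mem (Ideal.mem_span_singleton_self _)
  · obtain ⟨g, hg⟩ := Ideal.mem_span_singleton'.mp (show psi k f ∈ Ideal.span {qq k} from hf)
    have h1 : f - psiSec k (psi k f) ∈ Ideal.span {s1 (x5 k), s2 (x5 k)} :=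
      Ideal.span_mono (by simp) (sub_psiSec_mem k f)
    have h2 : s2 (x5 k) - psiSec k (psi k (s2 (x5 k))) ∈ Ideal.span {s1 (x5 k), s2 (x5 k)} :=
      Ideal.span_mono (by simp) (sub_psiSec_mem k _)
    have h3 : psiSec k (qq k) ∈ Ideal.span {s1 (x5 k), s2 (x5 k)} := by
      rw [psi_s2, map_neg, sub_neg_eq_add] at h2
      exact (Submodule.add_mem_iff_right _ (Ideal.subset_span (by simp))).mp h2
    rw [← hg, map_mul] at h1
    exact (Submodule.sub_mem_iff_left _ (Ideal.mul_mem_left _ _ h3)).mp h1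

/-! ## The proof -/

theorem result (k : Type u) [Field k] [IsAlgClosed k] [CharZero k] :
    (Ideal.span ({MvPolynomial.esymm (Fin 5) k 2, MvPolynomial.esymm (Fin 5) k 4} :
      Set (MvPolynomial (Fin 5) k))).radical.IsPrime := by
  classical
  rw [esymm_two, esymm_four]
  set σ2 : MvPolynomial (Fin 5) k := s2 (x5 k) + X 4 * s1 (x5 k) with hσ2
  set σ4 : MvPolynomial (Fin 5) k := s4 (x5 k) + X 4 * s3 (x5 k) with hσ4
  set I := Ideal.span ({σ2, σ4} : Set (MvPolynomial (Fin 5) k)) with hI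
  have : (Ideal.span {pp (x4 k)}).IsPrime :=
    (Ideal.span_singleton_prime (irreducible_pp k).ne_zero).mpr (irreducible_pp k).prime
  let A := MvPolynomial (Fin 4) k ⧸ Ideal.span {pp (x4 k)}
  let L := FractionRing A
  let θ : MvPolynomial (Fin 4) k →ₐ[k] L :=
    (IsScalarTower.toAlgHom k A L).comp (Ideal.Quotient.mkₐ k _)
  have hθ : ∀ g, θ g = 0 ↔ pp (x4 k) ∣ g := fun g ↦ by
    rw [← Ideal.mem_span_singleton, ← Ideal.Quotient.eq_zero_iff_mem]
    exact map_eq_zero_iff (algebraMap A L) (IsFractionRing.injective A L)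
  have hs1 : θ (s1 (x4 k)) ≠ 0 := fun h ↦ by
    have := map_dvd (eval ![(1 : k), 0, 0, 0]) ((hθ _).mp h)
    simp [pp, s1, s2, s3, s4, x4] at this
  let φ : MvPolynomial (Fin 5) k →ₐ[k] L :=
    aeval (Fin.snoc (fun i : Fin 4 ↦ θ (X i)) (-(θ (s2 (x4 k)) / θ (s1 (x4 k)))))
  let j : MvPolynomial (Fin 4) k →ₐ[k] MvPolynomial (Fin 5) k := rename Fin.castSucc
  have hφj : ∀ g, φ (j g) = θ g := fun g ↦ DFunLike.congr_fun
    (show φ.comp j = θ by ext i; simp only [φ, j, AlgHom.comp_apply, rename_X, aeval_X,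
      Fin.snoc_castSucc]) g
  have hj1 : j (s1 (x4 k)) = s1 (x5 k) := by simp [j, s1, x4, x5]
  have hj2 : j (s2 (x4 k)) = s2 (x5 k) := by simp [j, s2, x4, x5]
  have hj3 : j (s3 (x4 k)) = s3 (x5 k) := by simp [j, s3, x4, x5]
  have hj4 : j (s4 (x4 k)) = s4 (x5 k) := by simp [j, s4, x4, x5]
  have hjp : j (pp (x4 k)) = s1 (x5 k) * s4 (x5 k) - s2 (x5 k) * s3 (x5 k) := by
    rw [show pp (x4 k) = s1 (x4 k) * s4 (x4 k) - s2 (x4 k) * s3 (x4 k) from rfl, map_sub, map_mul,
      map_mul, hj1, hj2, hj3, hj4]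
  have hφ4 : φ (X 4) = -(θ (s2 (x4 k)) / θ (s1 (x4 k))) := by
    rw [show (4 : Fin 5) = Fin.last 4 from rfl]
    simp only [φ, aeval_X, Fin.snoc_last]
  have hφ2 : φ σ2 = 0 := by
    rw [hσ2, map_add, map_mul, hφ4, ← hj1, ← hj2, hφj, hφj]
    rw [neg_mul, div_mul_cancel₀ _ hs1, add_neg_cancel]
  have hφ1 : φ (s1 (x5 k)) = θ (s1 (x4 k)) := by rw [← hj1, hφj]
  have hjpI : j (pp (x4 k)) = s1 (x5 k) * σ4 - s3 (x5 k) * σ2 := by
    rw [hjp, hσ2, hσ4]; ring
  have hφ4' : φ σ4 = 0 := by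
    have := congrArg φ hjpI
    rw [hφj, (hθ _).mpr dvd_rfl, map_sub, map_mul, map_mul, hφ2, mul_zero, sub_zero, hφ1] at this
    exact (mul_eq_zero.mp this.symm).resolve_left hs1
  have hker : I ≤ RingHom.ker φ.toRingHom := Ideal.span_le.mpr (by
    rintro f (rfl | rfl)
    exacts [hφ2, hφ4'])
  have h2I : σ2 ∈ I := Ideal.subset_span (by simp)
  have h4I : σ4 ∈ I := Ideal.subset_span (by simp)
  -- clearing the last variable
  have hclear : ∀ f, ∃ (N : ℕ) (g : MvPolynomial (Fin 4) k), s1 (x5 k) ^ N * f - j g ∈ I := by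
    intro f
    induction f using MvPolynomial.induction_on with
    | C a => exact ⟨0, C a, by simp [j]⟩
    | add p q hp hq =>
      obtain ⟨N, g, hg⟩ := hp
      obtain ⟨M, h, hh⟩ := hq
      refine ⟨N + M, s1 (x4 k) ^ M * g + s1 (x4 k) ^ N * h, ?_⟩
      have : s1 (x5 k) ^ (N + M) * (p + q) - j (s1 (x4 k) ^ M * g + s1 (x4 k) ^ N * h) =
          s1 (x5 k) ^ M * (s1 (x5 k) ^ N * p - j g) + s1 (x5 k) ^ N * (s1 (x5 k) ^ M * q - j h) := by
        rw [map_add, map_mul, map_mul, map_pow, map_pow, hj1]; ring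
      rw [this]
      exact add_mem (I.mul_mem_left _ hg) (I.mul_mem_left _ hh)
    | mul_X p i hp =>
      obtain ⟨N, g, hg⟩ := hp
      induction i using Fin.lastCases with
      | last =>
        refine ⟨N + 1, -(g * s2 (x4 k)), ?_⟩
        have : s1 (x5 k) ^ (N + 1) * (p * X (Fin.last 4)) - j (-(g * s2 (x4 k))) =
            X 4 * s1 (x5 k) * (s1 (x5 k) ^ N * p - j g) + j g * σ2 := by
          rw [map_neg, map_mul, hj2, hσ2, show (Fin.last 4) = (4 : Fin 5) from rfl]; ring
        rw [this]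
        exact add_mem (I.mul_mem_left _ hg) (I.mul_mem_left _ h2I)
      | cast i =>
        refine ⟨N, g * X i, ?_⟩
        have : s1 (x5 k) ^ N * (p * X i.castSucc) - j (g * X i) =
            X i.castSucc * (s1 (x5 k) ^ N * p - j g) := by
          rw [map_mul, show j (X i) = X i.castSucc from rename_X _ _]; ring
        rw [this]
        exact I.mul_mem_left _ hg
  -- no minimal prime contains `s₁`
  have hmin : ∀ p ∈ I.minimalPrimes, s1 (x5 k) ∉ p := by
    intro p hp hs
    have := hp.isPrime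
    have hs2 : s2 (x5 k) ∈ p := by
      have := sub_mem (hp.1.2 h2I) (p.mul_mem_left (X 4) hs)
      rwa [hσ2, add_sub_cancel_right] at this
    have hle : Ideal.span {s1 (x5 k), s2 (x5 k)} ≤ p := Ideal.span_le.mpr (by
      rintro f (rfl | rfl)
      exacts [hs, hs2])
    have := span_s1_isPrime k
    have hq : (Ideal.span {qq k}).IsPrime :=
      (Ideal.span_singleton_prime (irreducible_qq k).ne_zero).mpr (irreducible_qq k).prime
    have hP2 : (Ideal.span {s1 (x5 k), s2 (x5 k)}).IsPrime := by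
      rw [span_s1s2_eq]; exact Ideal.IsPrime.comap _
    have l1 : (⊥ : Ideal (MvPolynomial (Fin 5) k)) < Ideal.span {s1 (x5 k)} := by
      rw [bot_lt_iff_ne_bot, Ne, Ideal.span_singleton_eq_bot]
      intro h
      simpa [s1, x5] using congrArg (eval ![(1 : k), 0, 0, 0, 0]) h
    have l2 : Ideal.span {s1 (x5 k)} < Ideal.span {s1 (x5 k), s2 (x5 k)} := by
      refine lt_of_le_not_ge (Ideal.span_mono (by simp)) fun h ↦ ?_
      have := (mem_span_s1_iff k _).mp (h (Ideal.subset_span (by simp : s2 (x5 k) ∈ _)))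
      rw [psi_s2, neg_eq_zero] at this
      exact (irreducible_qq k).ne_zero this
    have l3 : Ideal.span {s1 (x5 k), s2 (x5 k)} < p := by
      refine lt_of_le_of_ne hle fun h ↦ ?_
      obtain ⟨t, ht⟩ := IsAlgClosed.exists_root (Polynomial.C (1 : k) * Polynomial.X ^ 2 +
        Polynomial.C 1 * Polynomial.X + Polynomial.C 1)
        (by rw [Polynomial.degree_quadratic (one_ne_zero (α := k))]; norm_num)
      simp at ht
      have h4 : σ4 ∈ Ideal.span {s1 (x5 k), s2 (x5 k)} := h ▸ hp.1.2 h4I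
      obtain ⟨a, b, hab⟩ := Ideal.mem_span_pair.mp h4
      have := congrArg (eval ![(0 : k), 1, t, t ^ 2, 1]) hab
      simp [hσ4, s1, s2, s3, s4, x5] at this
      have e1 : 1 + t + t ^ 2 = 0 := by linear_combination ht
      have e2 : t + t * t ^ 2 + t ^ 2 = 0 := by linear_combination t * ht
      have e3 : t * t ^ 2 = 1 := by linear_combination (t - 1) * ht
      rw [e1, e2, e3] at this
      simp at this
    have hh : p.height ≤ 2 := by
      refine le_trans (Ideal.height_le_card_of_mem_minimalPrimes_span_finset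
        (s := {σ2, σ4}) (by simpa using hp)) ?_
      exact_mod_cast Finset.card_le_two
    have a1 := Ideal.height_strict_mono_of_isPrime l1
    have a2 := Ideal.height_strict_mono_of_isPrime l2
    have a3 := Ideal.height_strict_mono_of_isPrime l3
    rw [Ideal.height_bot] at a1
    have b1 := Order.add_one_le_of_lt a1
    have b2 := (Order.add_one_le_of_lt a2)
    have b3 := (Order.add_one_le_of_lt a3)
    have : (3 : ℕ∞) ≤ 2 := by
      calc (3 : ℕ∞) = 0 + 1 + 1 + 1 := by norm_num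
        _ ≤ p.height := le_trans (by gcongr; exact le_trans (by gcongr) b2) b3
        _ ≤ 2 := hh
    norm_num at this
  suffices I.radical = RingHom.ker φ.toRingHom by rw [this]; exact RingHom.ker_isPrime _
  refine le_antisymm ((RingHom.ker_isPrime φ.toRingHom).radical_le_iff.mpr hker) fun f hf ↦ ?_
  rw [← Ideal.sInf_minimalPrimes, Submodule.mem_sInf]
  intro p hp
  have := hp.isPrime
  obtain ⟨N, g, hg⟩ := hclear f
  have hg0 : θ g = 0 := by
    have h := hker hg
    rw [RingHom.mem_ker] at h hf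
    change φ (s1 (x5 k) ^ N * f - j g) = 0 at h
    change φ f = 0 at hf
    rwa [map_sub, map_mul, hf, mul_zero, zero_sub, neg_eq_zero, hφj] at h
  obtain ⟨q, rfl⟩ := (hθ g).mp hg0
  have hjg : j (pp (x4 k) * q) ∈ I := by
    rw [map_mul, hjpI]
    exact I.mul_mem_right _ (sub_mem (I.mul_mem_left _ h4I) (I.mul_mem_left _ h2I))
  have := hp.1.2 (by simpa using add_mem hg hjg : s1 (x5 k) ^ N * f ∈ I)
  exact (hp.isPrime.mem_or_mem this).resolve_left fun h ↦ hmin p hp (hp.isPrime.mem_of_pow_mem N h)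

end

end Groth.Agent.S12437
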