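import Groth.Statements.S12439
import Groth.Agent.NNChain.Basic

set_option autoImplicit false
universe u
open Variety

namespace Groth.Agent.S12439

/-- Let k be a field, A an integral domain which is a finitely generated k-algebra of Krull dimension d,
and q_{h(1)} ⊊ … ⊊ q_{h(r)} a chain of prime ideals with dim A/q_{h(i)} = d − h(i), where 0 ≤ h(i) ≤
d. Then (1) there is a finite injective k-algebra homomorphism φ : k[T_1, …, T_d] → A with
φ⁻¹(q_{h(i)}) = (T_1, …, T_{h(i)}) for every i (variables indexed from 0 below: the ideal generated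
by the T_l with l < h(i)); and (2) for every such φ the given chain extends to a chain of primes q_0
⊊ … ⊊ q_d of A with φ⁻¹(q_j) = (T_1, …, T_j) for all j ≤ d. -/
theorem result (k A : Type u) [Field k]
    [CommRing A] [IsDomain A] [Algebra k A] [Algebra.FiniteType k A] (d : ℕ) (hd : ringKrullDim A = (d : WithBot ℕ∞))
    (r : ℕ) (q : Fin r → PrimeSpectrum A) (hq : StrictMono q) (h : Fin r → ℕ) (hh : ∀ i, h i ≤ d)
    (hdim : ∀ i, ringKrullDim (A ⧸ (q i).asIdeal) = ((d - h i : ℕ) : WithBot ℕ∞)) :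
    (∃ φ : MvPolynomial (Fin d) k →ₐ[k] A, φ.toRingHom.Finite ∧ Function.Injective φ ∧
      ∀ i, (q i).asIdeal.comap φ = Ideal.span (MvPolynomial.X '' {l : Fin d | (l : ℕ) < h i})) ∧
    (∀ φ : MvPolynomial (Fin d) k →ₐ[k] A, φ.toRingHom.Finite → Function.Injective φ →
      (∀ i, (q i).asIdeal.comap φ = Ideal.span (MvPolynomial.X '' {l : Fin d | (l : ℕ) < h i})) →
      ∃ Q : ℕ → PrimeSpectrum A,
        (∀ j, j ≤ d → (Q j).asIdeal.comap φ = Ideal.span (MvPolynomial.X '' {l : Fin d | (l : ℕ) < j})) ∧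
        (∀ j, j < d → Q j < Q (j + 1)) ∧ (∀ i, Q (h i) = q i)) := by
  obtain ⟨s, g, hgi, hgf⟩ := exists_finite_inj_algHom_of_fg k A
  refine ⟨?_, fun φ hφf hφi hc => Groth.Agent.NNChain.exists_chain φ hφf.to_isIntegral hφi q hq h hh hc⟩
  obtain rfl : s = d := by
    letI := g.toRingHom.toAlgebra
    haveI : Algebra.IsIntegral (MvPolynomial (Fin s) k) A := ⟨hgf.to_isIntegral⟩
    have e := Groth.Agent.SegreDim.ringKrullDim_eq_of_injective_integral
      (A := MvPolynomial (Fin s) k) (B := A) hgi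
    rw [MvPolynomial.ringKrullDim_of_isNoetherianRing, ringKrullDim_eq_zero_of_field, zero_add,
      Nat.card_fin, hd] at e
    exact_mod_cast e
  obtain ⟨ψ, hψ, hψc⟩ := Groth.Agent.NNChain.exists_coordinates_chain r s
    (fun i => (q i).asIdeal.comap g) h (fun i => Ideal.IsPrime.comap _)
    (fun i j hij => Ideal.comap_mono (hq.monotone hij)) hh
    (fun i => (Groth.Agent.NNChain.dim_comap g.toRingHom hgf.to_isIntegral _).trans (hdim i))
  have hint : (g.comp ψ).toRingHom.IsIntegral :=
    RingHom.IsIntegral.trans ψ.toRingHom g.toRingHom hψ hgf.to_isIntegral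
  refine ⟨g.comp ψ, hint.to_finite ?_, ?_, hψc⟩
  · refine RingHom.FiniteType.of_comp_finiteType (f := algebraMap k (MvPolynomial (Fin s) k)) ?_
    rw [show (g.comp ψ).toRingHom.comp (algebraMap k (MvPolynomial (Fin s) k)) = algebraMap k A from
      (g.comp ψ).comp_algebraMap, RingHom.finiteType_algebraMap]
    infer_instance
  · refine hgi.comp ?_
    rw [injective_iff_map_eq_zero]
    by_contra hcon
    push_neg at hcon
    obtain ⟨x, hx, hx0⟩ := hcon
    have h₁ := Groth.Agent.NNChain.dim_comap ψ.toRingHom hψ ⊥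
    rw [ringKrullDim_eq_of_ringEquiv (RingEquiv.quotientBot (R := MvPolynomial (Fin s) k))] at h₁
    have h₂ := ringKrullDim_succ_le_of_surjective
      (Ideal.Quotient.mk ((⊥ : Ideal (MvPolynomial (Fin s) k)).comap ψ.toRingHom))
      Ideal.Quotient.mk_surjective (mem_nonZeroDivisors_of_ne_zero hx0)
      (Ideal.Quotient.eq_zero_iff_mem.2 hx)
    rw [h₁, MvPolynomial.ringKrullDim_of_isNoetherianRing, ringKrullDim_eq_zero_of_field,
      zero_add, Nat.card_fin] at h₂
    have : s + 1 ≤ s := by exact_mod_cast h₂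
    omega

end Groth.Agent.S12439
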