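import Groth.Statements.S1244
import Mathlib

set_option autoImplicit false
universe u
open FlatMor

namespace Groth.Agent.S1244

open AlgebraicGeometry CategoryTheory in
/-- Let A be the limit of an inverse system of rings (A_n) indexed by the natural numbers whose
transition maps are surjective with locally nilpotent kernels. Let T → Spec A be a monomorphism of
schemes which is locally of finite type. If each Spec A_n → Spec A factors through T, then T → Spec
A is an isomorphism. -/
theorem result {A : Type u} [CommRing A] (A' : ℕ → Type u) [∀ n, CommRing (A' n)]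
    (φ : ∀ n, A' (n + 1) →+* A' n) (π : ∀ n, A →+* A' n) (hlim : FlatCA.IsRingLimit A A' φ π)
    (hsurj : ∀ n, Function.Surjective (φ n)) (hnil : ∀ n, ∀ x ∈ RingHom.ker (φ n), IsNilpotent x)
    {T : Scheme.{u}} (h : T ⟶ Spec (CommRingCat.of A)) [Mono h] [LocallyOfFiniteType h]
    (hsec : ∀ n, ∃ g : Spec (CommRingCat.of (A' n)) ⟶ T, g ≫ h = Spec.map (CommRingCat.ofHom (π n))) :
    IsIso h := by
  classical
  choose g hg using hsec
  obtain ⟨hπ, hsep, hlift⟩ := hlim
  have compat : ∀ n, Spec.map (CommRingCat.ofHom (φ n)) ≫ g (n + 1) = g n := fun n => by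
    rw [← cancel_mono h, Category.assoc, hg, hg, ← Spec.map_comp, ← CommRingCat.ofHom_comp, hπ]
  have hsp : ∀ n, Function.Surjective (Spec.map (CommRingCat.ofHom (φ n))).base := fun n => by
    intro x
    change PrimeSpectrum (A' (n + 1)) at x
    have h1 : x ∈ Set.range (PrimeSpectrum.comap (φ n)) := by
      rw [range_comap_of_surjective _ (φ n) (hsurj n), PrimeSpectrum.mem_zeroLocus]
      intro y hy
      obtain ⟨k, hk⟩ := hnil n y hy
      exact x.isPrime.mem_of_pow_mem k (hk ▸ zero_mem _)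
    exact h1
  have hrange : ∀ n, Set.range (g n).base ⊆ Set.range (g 0).base := by
    intro n
    induction n with
    | zero => rfl
    | succ n ih =>
      rintro _ ⟨x, rfl⟩
      obtain ⟨y, rfl⟩ := hsp n x
      exact ih ⟨y, by rw [← compat n]; rfl⟩
  obtain ⟨U, hUc, hU⟩ : ∃ U : T.Opens, IsCompact (U : Set T) ∧ Set.range (g 0).base ⊆ U := by
    obtain ⟨t, ht⟩ := (isCompact_range (g 0).continuous).elim_finite_subcover
      (fun V : T.affineOpens => (V.1 : Set T)) (fun V => V.1.isOpen) (fun x _ => by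
        obtain ⟨_, ⟨V, hV, rfl⟩, hxV, -⟩ :=
          T.isBasis_affineOpens.exists_subset_of_mem_open (Set.mem_univ x) isOpen_univ
        exact Set.mem_iUnion.2 ⟨⟨V, hV⟩, hxV⟩)
    refine ⟨⨆ V ∈ t, V.1, ?_, ?_⟩
    · simp only [TopologicalSpace.Opens.coe_iSup]
      exact t.finite_toSet.isCompact_biUnion fun V _ => V.2.isCompact
    · simpa only [TopologicalSpace.Opens.coe_iSup] using ht
  haveI : CompactSpace U.toScheme := isCompact_iff_compactSpace.1 hUc
  let f : U.toScheme ⟶ Spec (CommRingCat.of A) := U.ι ≫ h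
  haveI : QuasiCompact f := by
    rw [quasiCompact_iff_compactSpace]; infer_instance
  haveI : LocallyQuasiFinite f := inferInstance
  haveI : IsAffine f.normalization := isAffine_of_isAffineHom f.fromNormalization
  haveI : U.toScheme.IsQuasiAffine := Scheme.IsQuasiAffine.of_isImmersion f.toNormalization
  let g' : ∀ n, Spec (CommRingCat.of (A' n)) ⟶ U.toScheme := fun n =>
    IsOpenImmersion.lift U.ι (g n) (by rw [Scheme.Opens.range_ι]; exact (hrange n).trans hU)
  have hg' : ∀ n, g' n ≫ U.ι = g n := fun n => IsOpenImmersion.lift_fac _ _ _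
  have compat' : ∀ n, Spec.map (CommRingCat.ofHom (φ n)) ≫ g' (n + 1) = g' n := fun n => by
    rw [← cancel_mono U.ι, Category.assoc, hg', hg', compat]
  let σ : ∀ n, Γ(U.toScheme, ⊤) ⟶ CommRingCat.of (A' n) := fun n =>
    Spec.preimage (g' n ≫ U.toScheme.toSpecΓ)
  have hσ : ∀ n, Spec.map (σ n) = g' n ≫ U.toScheme.toSpecΓ := fun n => Spec.map_preimage _
  have hσc : ∀ n, (φ n).comp (σ (n + 1)).hom = (σ n).hom := fun n => by
    have h1 : σ (n + 1) ≫ CommRingCat.ofHom (φ n) = σ n := Spec.map_injective (by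
      rw [Spec.map_comp, hσ, hσ, ← Category.assoc, compat'])
    exact congrArg CommRingCat.Hom.hom h1
  have hl : ∀ x, ∃ a : A, ∀ n, π n a = (σ n).hom x := fun x =>
    hlift (fun n => (σ n).hom x) (fun n => RingHom.congr_fun (hσc n) x)
  choose σA hσA using hl
  let σ' : Γ(U.toScheme, ⊤) ⟶ CommRingCat.of A := CommRingCat.ofHom
    { toFun := σA
      map_one' := hsep _ _ fun n => by rw [map_one, hσA]; exact map_one (σ n).hom
      map_mul' := fun x y => hsep _ _ fun n => by rw [map_mul, hσA, hσA, hσA]; exact map_mul (σ n).hom x y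
      map_zero' := hsep _ _ fun n => by rw [map_zero, hσA]; exact map_zero (σ n).hom
      map_add' := fun x y => hsep _ _ fun n => by rw [map_add, hσA, hσA, hσA]; exact map_add (σ n).hom x y }
  have hq : ∀ n, Spec.map (CommRingCat.ofHom (π n)) ≫ Spec.map σ' = g' n ≫ U.toScheme.toSpecΓ := by
    intro n
    rw [← hσ, ← Spec.map_comp]
    congr 1
    ext x
    exact hσA x n
  -- the kernel of `A → A₀` lies in every maximal ideal
  have hnilp : ∀ (y : A), π 0 y = 0 → ∀ n, IsNilpotent (π n y) := by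
    intro y hy n
    induction n with
    | zero => rw [hy]; exact IsNilpotent.zero
    | succ n ih =>
      obtain ⟨k, hk⟩ := ih
      have h2 : (π (n + 1) y) ^ k ∈ RingHom.ker (φ n) := by
        rw [RingHom.mem_ker, map_pow, ← RingHom.comp_apply, hπ n, hk]
      exact (hnil n _ h2).of_pow
  have hunit : ∀ (y : A), π 0 y = 0 → IsUnit (1 + y) := by
    intro y hy
    have hu : ∀ n, IsUnit (1 + π n y) := fun n => (hnilp y hy n).isUnit_one_add
    obtain ⟨z, hz⟩ := hlift (fun n => ((hu n).unit⁻¹ : (A' n)ˣ)) (fun n => by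
      apply (hu n).mul_left_cancel
      rw [IsUnit.mul_val_inv]
      have h3 : 1 + π n y = φ n (1 + π (n + 1) y) := by
        rw [map_add, map_one, ← RingHom.comp_apply, hπ n]
      rw [h3, ← map_mul, IsUnit.mul_val_inv, map_one])
    refine IsUnit.of_mul_eq_one z (hsep _ _ fun n => ?_)
    rw [map_mul, hz, map_add, map_one, IsUnit.mul_val_inv]
  have hπ0 : Function.Surjective (π 0) := by
    intro x
    choose lft hlft using hsurj
    obtain ⟨a, ha⟩ := hlift (fun n => Nat.rec (motive := fun n => A' n) x (fun m y => lft m y) n)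
      (fun n => hlft n _)
    exact ⟨a, ha 0⟩
  let W : (Spec (CommRingCat.of A)).Opens := Spec.map σ' ⁻¹ᵁ U.toScheme.toSpecΓ.opensRange
  have hWtop : ∀ x : Spec (CommRingCat.of A), x ∈ W := by
    intro x
    obtain ⟨m, hm, hxm⟩ := Ideal.exists_le_maximal _ x.isPrime.ne_top
    let M : PrimeSpectrum A := ⟨m, hm.isPrime⟩
    have hM : M ∈ Set.range (PrimeSpectrum.comap (π 0)) := by
      rw [range_comap_of_surjective _ (π 0) hπ0, PrimeSpectrum.mem_zeroLocus]
      intro y hy
      by_contra hym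
      obtain ⟨r, i, hi, hr⟩ := hm.exists_inv hym
      have h4 : π 0 (-(r * y)) = 0 := by
        rw [map_neg, map_mul, (RingHom.mem_ker).1 hy, mul_zero, neg_zero]
      refine hm.ne_top (Ideal.eq_top_of_isUnit_mem _ hi ?_)
      have h5 := hunit _ h4
      rwa [show (1 : A) + -(r * y) = i by rw [← hr]; ring] at h5
    obtain ⟨y, hy⟩ := hM
    have hMW : (M : Spec (CommRingCat.of A)) ∈ W := by
      rw [← hy]
      change (Spec.map (CommRingCat.ofHom (π 0)) ≫ Spec.map σ').base y ∈ U.toScheme.toSpecΓ.opensRange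
      rw [hq 0]
      exact ⟨(g' 0).base y, rfl⟩
    exact ((PrimeSpectrum.le_iff_specializes x M).1 hxm).mem_open W.isOpen hMW
  let s : Spec (CommRingCat.of A) ⟶ U.toScheme :=
    IsOpenImmersion.lift U.toScheme.toSpecΓ (Spec.map σ') (by rintro _ ⟨x, rfl⟩; exact hWtop x)
  have hs : ∀ n, Spec.map (CommRingCat.ofHom (π n)) ≫ s = g' n := fun n => by
    rw [← cancel_mono U.toScheme.toSpecΓ, Category.assoc, IsOpenImmersion.lift_fac, hq]
  have hid : (s ≫ U.ι) ≫ h = 𝟙 _ := by
    obtain ⟨θ, hθ⟩ := Spec.map_surjective ((s ≫ U.ι) ≫ h)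
    rw [← hθ, ← Spec.map_id]
    congr 1
    ext x
    refine hsep _ _ fun n => ?_
    have h6 : θ ≫ CommRingCat.ofHom (π n) = CommRingCat.ofHom (π n) := Spec.map_injective (by
      rw [Spec.map_comp, hθ, Category.assoc, ← Category.assoc, hs, ← Category.assoc, hg', hg])
    exact congrArg (fun t => t x) h6
  haveI : IsSplitEpi h := ⟨⟨⟨s ≫ U.ι, hid⟩⟩⟩
  exact isIso_of_mono_of_isSplitEpi h

end Groth.Agent.S1244
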