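import Groth.Statements.S12443
import Groth.Agent.SheafEmb.Basic

set_option autoImplicit false
universe u
open CategoryTheory TopologicalSpace
open ShSp

namespace Groth.Agent.S12443

/-- Let j : U → X be the inclusion of an open subset (an open embedding) and F a sheaf of sets on U.
Then the counit j⁻¹ j_* F → F is an isomorphism, i.e. j⁻¹ j_* is the identity on sheaves on U. -/
theorem result {U X : TopCat.{u}} (j : U ⟶ X) (hj : Topology.IsOpenEmbedding j)
    (F : U.Sheaf (Type u)) :
    IsIso ((TopCat.Sheaf.pullbackPushforwardAdjunction (Type u) j).counit.app F) := by
  haveI := (SheafEmb.pushforward_full_faithful (A := Type u) j hj.isInducing).1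
  haveI := (SheafEmb.pushforward_full_faithful (A := Type u) j hj.isInducing).2
  exact inferInstance

end Groth.Agent.S12443
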