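import Groth.Statements.S12444
import Mathlib
import Groth.Agent.Catenary.Space

set_option linter.style.haveILetI false

set_option autoImplicit false
universe u
open PtTop

namespace Groth.Agent.S12444

open Groth.Agent.Catenary


/-- A topological space X is catenary if and only if it has an open covering by catenary subspaces
(here: every point has a catenary open neighbourhood); and if X is catenary then so is every locally
closed subspace of X. -/
theorem result (X : Type u) [TopologicalSpace X] :
    (PtTop.IsCatenarySpace X ↔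
      ∀ x : X, ∃ U : TopologicalSpace.Opens X, x ∈ U ∧ PtTop.IsCatenarySpace U) ∧
    (PtTop.IsCatenarySpace X → ∀ S : Set X, IsLocallyClosed S → PtTop.IsCatenarySpace S) := by
  have hopen : ∀ U : TopologicalSpace.Opens X, PtTop.IsCatenarySpace X → PtTop.IsCatenarySpace U := fun U h =>
    (isCatenarySpace_iff _).mpr (isCat_of_isOpenEmbedding _ U.isOpen.isOpenEmbedding_subtypeVal ((isCatenarySpace_iff _).mp h))
  refine ⟨⟨fun h x => ⟨⊤, trivial, hopen ⊤ h⟩, fun h => (isCatenarySpace_iff X).mpr (isCat_of_open_cover fun x => ?_)⟩,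
    fun h S hS => ?_⟩
  · obtain ⟨U, hxU, hU⟩ := h x
    exact ⟨U, inferInstance, Subtype.val, U.isOpen.isOpenEmbedding_subtypeVal, ⟨⟨x, hxU⟩, rfl⟩,
      (isCatenarySpace_iff _).mp hU⟩
  · obtain ⟨V, Z, hV, hZ, rfl⟩ := hS
    let U : TopologicalSpace.Opens X := ⟨V, hV⟩
    let g : ↥(V ∩ Z) → U := fun s => ⟨s.1, s.2.1⟩
    have hg : Topology.IsClosedEmbedding g := by
      refine ⟨Topology.IsEmbedding.of_comp (continuous_subtype_val.subtype_mk _) continuous_subtype_val Topology.IsEmbedding.subtypeVal, ?_⟩
      have : Set.range g = (Subtype.val : U → X) ⁻¹' Z := by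
        ext u
        exact ⟨fun ⟨s, hs⟩ => hs ▸ s.2.2, fun hu => ⟨⟨u.1, u.2, hu⟩, rfl⟩⟩
      rw [this]
      exact hZ.preimage continuous_subtype_val
    have hU := (isCatenarySpace_iff _).mp (hopen U h)
    refine (isCatenarySpace_iff _).mpr (isCat_of_orderEmbedding
      (OrderEmbedding.ofMapLEIff (TopologicalSpace.IrreducibleCloseds.map g hg.continuous) fun a b => ⟨fun hab => ?_, fun hab => TopologicalSpace.IrreducibleCloseds.map_mono hg.continuous hab⟩) (fun b₁ b₂ a h1 h2 => ?_) hU)
    · have hab' : closure (g '' (a : Set _)) ⊆ closure (g '' (b : Set _)) := hab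
      rw [(hg.isClosedMap _ a.isClosed).closure_eq, (hg.isClosedMap _ b.isClosed).closure_eq,
        Set.image_subset_image_iff hg.injective] at hab'
      exact hab'
    · have h2' : (a : Set U) ⊆ g '' (b₂ : Set _) := by
        rw [← (hg.isClosedMap _ b₂.isClosed).closure_eq]
        exact h2
      have hsub : (a : Set U) ⊆ Set.range g := h2'.trans (Set.image_subset_range _ _)
      have him : g '' (g ⁻¹' (a : Set U)) = a := Set.image_preimage_eq_of_subset hsub
      have hirr : IsIrreducible (g ⁻¹' (a : Set U)) := by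
        refine ⟨?_, fun u v hu hv hau hav => ?_⟩
        · obtain ⟨x, hx⟩ := a.isIrreducible.1
          obtain ⟨y, rfl⟩ := hsub hx
          exact ⟨y, hx⟩
        · obtain ⟨u', hu', rfl⟩ := hg.isInducing.isOpen_iff.mp hu
          obtain ⟨v', hv', rfl⟩ := hg.isInducing.isOpen_iff.mp hv
          obtain ⟨y, hy1, hy2⟩ := hau
          obtain ⟨z, hz1, hz2⟩ := hav
          obtain ⟨w, hw, hw'⟩ := a.isIrreducible.2 u' v' hu' hv' ⟨g y, hy1, hy2⟩ ⟨g z, hz1, hz2⟩
          obtain ⟨x, rfl⟩ := hsub hw
          exact ⟨x, hw, hw'⟩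
      refine ⟨⟨g ⁻¹' (a : Set U), hirr, a.isClosed.preimage hg.continuous⟩, ?_⟩
      refine TopologicalSpace.IrreducibleCloseds.ext ?_
      show closure (g '' (g ⁻¹' (a : Set U))) = a
      rw [him, a.isClosed.closure_eq]


end Groth.Agent.S12444
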