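import Groth.Statements.S12446
import Groth.Agent.Catenary.Space

set_option autoImplicit false
universe u
open CategoryTheory AlgebraicGeometry
open Props

namespace Groth.Agent.S12446

/-- For a scheme X, the underlying topological space of X is catenary if and only if for every point x
the local ring O_{X,x} is a catenary ring. -/
theorem result (X : Scheme.{u}) :
    PtTop.IsCatenarySpace X ↔ ∀ x : X, CAlg.IsCatenary (X.presheaf.stalk x) := by
  refine ⟨fun h x => ?_, fun h => ?_⟩
  · obtain ⟨U, hU, hxU, -⟩ := exists_isAffineOpen_mem_and_subset (U := (⊤ : X.Opens)) (x := x) trivial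
    exact Groth.Agent.Catenary.isCatenary_stalk hU x hxU (Groth.Agent.Catenary.isCatenary_of_isCatenarySpace h hU)
  · refine Groth.Agent.Catenary.isCatenarySpace_of_affine_cover fun x => ?_
    obtain ⟨U, hU, hxU, -⟩ := exists_isAffineOpen_mem_and_subset (U := (⊤ : X.Opens)) (x := x) trivial
    exact ⟨U, hU, hxU, Groth.Agent.Catenary.isCatenary_of_stalks hU fun z _ => h z⟩

end Groth.Agent.S12446
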