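import Groth.Statements.S12447
import Groth.Agent.DimFun.Basic

set_option autoImplicit false
universe u
open CategoryTheory AlgebraicGeometry
open Props

namespace Groth.Agent.S12447

/-- Let S be a locally Noetherian scheme. Then the underlying topological space of S is catenary if and
only if locally in the Zariski topology there is a dimension function, i.e. every point has an open
neighbourhood U carrying a function δ : U → ℤ which strictly decreases along nontrivial
specializations and drops by exactly one along immediate specializations. -/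
theorem result (S : Scheme.{u}) [IsLocallyNoetherian S] :
    PtTop.IsCatenarySpace S ↔
      ∀ s : S, ∃ U : S.Opens, s ∈ U ∧ ∃ δ : U → ℤ, PtTop.IsDimensionFunction δ := by
  constructor
  · intro h s
    obtain ⟨V, hV, hsV, -⟩ := exists_isAffineOpen_mem_and_subset (U := (⊤ : S.Opens)) (x := s) trivial
    haveI : IsNoetherianRing Γ(S, V) := IsLocallyNoetherian.component_noetherian ⟨V, hV⟩
    obtain ⟨s', hs'⟩ : s ∈ Set.range hV.fromSpec := by rw [hV.range_fromSpec]; exact hsV
    obtain ⟨W, hW, δ, hδ⟩ := DimFun.exists_dimensionFunction (Y := Spec Γ(S, V))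
      (Catenary.isCat_of_isOpenEmbedding hV.fromSpec hV.fromSpec.isOpenEmbedding ((Catenary.isCatenarySpace_iff _).mp h)) s'
    let U : S.Opens := hV.fromSpec ''ᵁ W
    have hf : Topology.IsEmbedding hV.fromSpec := hV.fromSpec.isOpenEmbedding.isEmbedding
    let g : W → U := fun w => ⟨hV.fromSpec w.1, w.1, w.2, rfl⟩
    have hg : Topology.IsEmbedding g :=
      Topology.IsEmbedding.of_comp (hf.continuous.comp continuous_subtype_val |>.subtype_mk _) continuous_subtype_val
        (hf.comp Topology.IsEmbedding.subtypeVal)
    have hgs : Function.Surjective g := fun ⟨_, w, hw, he⟩ => ⟨⟨w, hw⟩, Subtype.ext he⟩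
    exact ⟨U, ⟨s', hW, hs'⟩, δ ∘ (hg.toHomeomorphOfSurjective hgs).symm, DimFun.dimensionFunction_comp _ hδ⟩
  · intro h
    refine (Catenary.isCatenarySpace_iff _).mpr (Catenary.isCat_of_open_cover fun x => ?_)
    obtain ⟨U, hxU, δ, hδ⟩ := h x
    haveI : QuasiSober U := Topology.IsOpenEmbedding.quasiSober U.2.isOpenEmbedding_subtypeVal
    exact ⟨U, inferInstance, Subtype.val, U.2.isOpenEmbedding_subtypeVal, ⟨⟨x, hxU⟩, rfl⟩,
      DimFun.isCat_of_dimensionFunction hδ⟩

end Groth.Agent.S12447
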