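import Groth.Statements.S1245
import Groth.Agent.RG.Pure.ModelImpurity

set_option autoImplicit false
open Groth.Agent
universe u
open FlatMor

namespace Groth.Agent.S1245

attribute [local instance] Algebra.TensorProduct.rightAlgebra

/-- Ring form, X = Spec B affine, base change rings affine: let B be a finite type A-algebra, N a finite
B-module and p a prime of A. If there is an impurity of N above p, then there is one whose base
change A → A' is of finite presentation and whose point t is a closed point of the fibre of Spec A'
over p (the extension of t to the fibre ring is maximal). -/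
theorem result {A B : Type u} [CommRing A] [CommRing B] [Algebra A B] [Algebra.FiniteType A B]
    (N : Type u) [AddCommGroup N] [Module B N] [Module.Finite B N] (p : Ideal A) [p.IsPrime]
    (h : FlatCA.HasImpurity A B N p (fun _ _ _ _ => True)) :
    FlatCA.HasImpurity A B N p (fun A' _ _ t => Algebra.FinitePresentation A A' ∧ (FlatCA.fiberIdeal p t).IsMaximal) := by
  obtain ⟨A', B', N', _, _, _, _, _, _, _, _, _, _, _, _, _, _, f, t', t, _, _, P, _, hI, -⟩ := h
  letI : Module A N := Module.compHom N (algebraMap A B)
  haveI : IsScalarTower A B N := IsScalarTower.of_algebraMap_smul fun _ _ => rfl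
  obtain ⟨hpush, hbc, hle, htp, -, -, -⟩ := id hI
  obtain ⟨Φ, e, hΦ, he⟩ := RG.Pure.exists_model_map (A := A) (B := B) (C := B) (C' := TensorProduct A A' B)
    (fun x => ⟨x, rfl⟩) hpush inferInstance hbc (TensorProduct.isBaseChange B N (TensorProduct A A' B))
  have hcan := (RG.Pure.exists_imp_iff Φ hΦ e he t' t).1 ⟨P, RG.Pure.imp_of_isImpurity hI⟩
  obtain ⟨E, _, _, u', m, _, _, σ, _, hfp, hmax, hle', hover, himp⟩ :=
    RG.Pure.exists_fp_impurity t' t hle htp.over.symm hcan
  exact ⟨E, _, _, _, _, _, _, _, _, _, _, _, _, _, _, _, _, _, u', m, inferInstance, inferInstance, σ, inferInstance,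
    himp.isImpurity inferInstance (TensorProduct.isBaseChange B N _) hle' hover, hfp, hmax⟩

end Groth.Agent.S1245
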