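import Groth.Statements.S12451
import Groth.Agent.LocFree.Props

set_option autoImplicit false
universe u
open CategoryTheory AlgebraicGeometry
open Props

namespace Groth.Agent.S12451

/-- For a commutative ring R and an R-module M, the associated quasi-coherent module M~ on Spec R is a
finite locally free O-module exactly when M is finitely generated and projective over R
(equivalently, a finite locally free R-module). -/
theorem result {R : CommRingCat.{u}} (M : ModuleCat.{u} R) :
    FlatMod.IsFinLocFree (tilde M) ↔ Module.Finite R M ∧ Module.Projective R M := by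
  set_option backward.isDefEq.respectTransparency false in
  have hq : Coh.IsQCoh (tilde M) := Groth.Agent.QC.isQCoh_tilde M
  haveI := hq
  constructor
  · intro h
    have hU : IsAffineOpen (⊤ : (Spec R).Opens) := isAffineOpen_top _
    haveI := Groth.Agent.LocFree.finitePresentation_sections h hU
    haveI := Groth.Agent.LocFree.projective_sections h hU
    letI := (Scheme.ΓSpecIso R).inv.hom.toAlgebra
    let σ : Γ(Spec R, ⊤) ≃+* R := (Scheme.ΓSpecIso R).commRingCatIsoToRingEquiv
    letI : RingHomInvPair σ.toRingHom σ.symm.toRingHom :=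
      ⟨RingHom.ext σ.symm_apply_apply, RingHom.ext σ.apply_symm_apply⟩
    letI : RingHomInvPair σ.symm.toRingHom σ.toRingHom :=
      ⟨RingHom.ext σ.apply_symm_apply, RingHom.ext σ.symm_apply_apply⟩
    let l : Γ(tilde M, ⊤) ≃ₛₗ[σ.toRingHom] M :=
      { ((tilde.toTildeΓNatIso.app M).toLinearEquiv.symm).toAddEquiv with
        map_smul' := fun a s => by
          obtain ⟨r, rfl⟩ := σ.symm.surjective a
          refine Eq.trans ?_ (congrArg (· • _) (σ.apply_symm_apply r).symm)
          refine Eq.trans (congrArg _ ?_) (LinearEquiv.map_smul ((tilde.toTildeΓNatIso.app M).toLinearEquiv.symm) r s)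
          exact (Scheme.Modules.smul_Spec_def r s).symm.trans rfl |>.trans rfl }
    exact ⟨Module.Finite.of_surjective l.toLinearMap l.surjective, Module.Projective.of_equiv l⟩
  · rintro ⟨h1, h2⟩
    haveI : Module.FinitePresentation R M := Module.finitePresentation_of_projective R M
    obtain ⟨n, f, hf⟩ := Module.Finite.exists_fin' R M
    obtain ⟨s, hs⟩ := Module.projective_lifting_property f LinearMap.id hf
    let F := ModuleCat.of R (ULift.{u} (Fin n) →₀ R)
    let d : (ULift.{u} (Fin n) →₀ R) ≃ₗ[R] (Fin n → R) :=
      (Finsupp.domLCongr Equiv.ulift).trans (Finsupp.linearEquivFunOnFinite R R (Fin n))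
    let eF : (tilde.functor R).obj F ≅ FlatMod.freeMod (Spec R) n :=
      tildeFinsupp (R := R) (ULift.{u} (Fin n)) ≪≫
        Limits.Sigma.whiskerEquiv (g := fun _ : Fin n => Coh.structureModule (Spec R)) Equiv.ulift
          fun _ => Iso.refl _
    let i : M ⟶ F := ModuleCat.ofHom (d.symm.toLinearMap.comp s)
    let p : F ⟶ M := ModuleCat.ofHom (f.comp d.toLinearMap)
    have hip : i ≫ p = 𝟙 M := by
      ext m
      change f (d (d.symm (s m))) = m
      rw [d.apply_symm_apply]
      exact LinearMap.congr_fun hs m
    exact Groth.Agent.LocFree.isFinLocFree_of_retract (tilde M) n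
      ((tilde.functor R).map i ≫ eF.hom) (eF.inv ≫ (tilde.functor R).map p)
      (by rw [Category.assoc, eF.hom_inv_id_assoc, ← Functor.map_comp, hip]; exact (tilde.functor R).map_id M)

end Groth.Agent.S12451
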