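import Groth.Statements.S12452
import Groth.Agent.ShBLib.Basic

set_option autoImplicit false
universe u
open CategoryTheory TopologicalSpace Opposite
open ShSp

namespace Groth.Agent.S12452

/-- For sheaves of sets, let f : X → Y be a continuous map, F a sheaf of sets on X, G a sheaf of sets on
Y, and B_X, B_Y bases for the topologies of X and Y. Suppose given, for every V in B_Y and U in B_X
with U ⊆ f⁻¹V, a map φ_V^U : G(V) → F(U), compatibly with restrictions. Then there is exactly one
morphism of sheaves ψ : G → f_*F (an f-map G → F) such that G(V) → F(f⁻¹V) → F(U) equals φ_V^U for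
every such pair. -/
theorem result {X Y : TopCat.{u}} (f : X ⟶ Y) (F : X.Sheaf (Type u)) (G : Y.Sheaf (Type u))
    {BX : Set (Opens X)} (hBX : Opens.IsBasis BX) {BY : Set (Opens Y)} (hBY : Opens.IsBasis BY)
    (φ : ∀ (V : BY) (U : BX), (U : Opens X) ≤ (Opens.map f).obj V →
      (G.presheaf.obj (op (V : Opens Y)) → F.presheaf.obj (op (U : Opens X))))
    (hφ : ∀ (V V' : BY) (U U' : BX) (hUV : (U : Opens X) ≤ (Opens.map f).obj V)
      (hU'V' : (U' : Opens X) ≤ (Opens.map f).obj V') (hV : (V' : Opens Y) ≤ V) (hU : (U' : Opens X) ≤ U)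
      (s : G.presheaf.obj (op (V : Opens Y))),
      F.presheaf.map (homOfLE hU).op (φ V U hUV s) = φ V' U' hU'V' (G.presheaf.map (homOfLE hV).op s)) :
    ∃! ψ : G ⟶ (TopCat.Sheaf.pushforward (Type u) f).obj F,
      ∀ (V : BY) (U : BX) (hUV : (U : Opens X) ≤ (Opens.map f).obj V) (s : G.presheaf.obj (op (V : Opens Y))),
        F.presheaf.map (homOfLE hUV).op (ψ.1.app (op (V : Opens Y)) s) = φ V U hUV s := by
  have hg : ∀ (V : BY) (s : G.presheaf.obj (Opposite.op (V : TopologicalSpace.Opens Y))),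
      ∃! t : F.presheaf.obj (Opposite.op ((TopologicalSpace.Opens.map f).obj V)),
        ∀ U : {U : BX // (U : TopologicalSpace.Opens X) ≤ (TopologicalSpace.Opens.map f).obj V},
          F.presheaf.map (homOfLE U.2).op t = φ V U.1 U.2 s := fun V s =>
    ShBLib.glue_basis hBX F _ (fun U => φ V U.1 U.2 s) fun U W h => by
      rw [hφ V V U.1 W.1 U.2 W.2 le_rfl h s]
      simp
  choose ψ₀ hψ₀ hψ₀u using hg
  obtain ⟨ψ, hψ, hu⟩ := ShBLib.existsUnique_hom hBY G ((TopCat.Sheaf.pushforward (Type u) f).obj F) ψ₀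
    fun V V' h s => by
      refine hψ₀u V' _ _ fun U => ?_
      change (F.presheaf.map _ ≫ F.presheaf.map _) (ψ₀ V s) = _
      rw [← F.presheaf.map_comp, ← hφ V V' U.1 U.1 (U.2.trans ((TopologicalSpace.Opens.map f).map (homOfLE h)).le) U.2 h le_rfl s,
        ← hψ₀ V s ⟨U.1, U.2.trans ((TopologicalSpace.Opens.map f).map (homOfLE h)).le⟩]
      simp only [← ConcreteCategory.comp_apply, ← Functor.map_comp, ← op_comp]
      rfl
  refine ⟨ψ, fun V U hUV s => ?_, fun ψ' h' => hu ψ' fun V s => hψ₀u V s _ fun U => h' V U.1 U.2 s⟩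
  have := hψ₀ V s ⟨U, hUV⟩
  rw [← hψ V s] at this
  exact this

end Groth.Agent.S12452
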