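import Groth.Statements.S12456
import Groth.Agent.OmegaThick.Scheme

set_option autoImplicit false
set_option linter.style.haveILetI false
set_option backward.isDefEq.respectTransparency false
open Groth.Agent
universe u
open CategoryTheory AlgebraicGeometry
open OmegaSh

namespace Groth.Agent.S12456

/-- Let i : Z → X be an immersion, written as the closed subscheme of an open U ⊆ X cut out by an ideal
sheaf I followed by the inclusion of U. Then the first order infinitesimal neighbourhood of Z in X —
the closed subscheme of U cut out by I² — together with Z ⊂ V(I²) and V(I²) → U → X is a universal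
first order thickening of Z over X. (The inequality I² ≤ I is carried as an argument h; it always
holds.) -/
theorem result {X : Scheme.{u}} (U : X.Opens) (I : (U : Scheme.{u}).IdealSheafData)
    (h : I ^ 2 ≤ I) :
    OmegaSh.IsUnivThickening (I.subschemeι ≫ U.ι) (Scheme.IdealSheafData.inclusion h)
      ((I ^ 2).subschemeι ≫ U.ι) := by
  refine OmegaThick.univ_comp_openImmersion ?_ U.ι
  let ι₁ := I.subschemeι
  let ι₂ := (I ^ 2).subschemeι
  let inc := Scheme.IdealSheafData.inclusion h
  have hinc : inc ≫ ι₂ = ι₁ := Scheme.IdealSheafData.inclusion_subschemeι h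
  have hcl : IsClosedImmersion inc := by
    have : IsClosedImmersion (inc ≫ ι₂) := by rw [hinc]; infer_instance
    exact IsClosedImmersion.of_comp inc ι₂
  have hsurj : Surjective inc := by
    refine ⟨fun x => ?_⟩
    have hx : ι₂ x ∈ Set.range ι₁ := by
      have h1 : ι₂ x ∈ Set.range ι₂ := ⟨x, rfl⟩
      rw [Scheme.IdealSheafData.range_subschemeι] at h1 ⊢
      rwa [Scheme.IdealSheafData.support_pow (n := 2) (hn := by norm_num)] at h1
    obtain ⟨y, hy⟩ := hx
    refine ⟨y, ι₂.isClosedEmbedding.injective ?_⟩
    rw [← Scheme.Hom.comp_apply, hinc, hy]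
  have hker : inc.ker = I.comap ι₂ := by
    rw [ThickSys.ker_eq_comap_ker_comp inc ι₂, hinc, Scheme.IdealSheafData.ker_subschemeι]
  refine ⟨⟨⟨hcl, hsurj⟩, ?_⟩, hinc, fun T T' j b a hj hab => ?_⟩
  · rw [hker, ← BlowUpLib.comap_mul, ← pow_two]
    have h3 := ThickSys.comap_ker_self ι₂
    rwa [show ι₂.ker = I ^ 2 from Scheme.IdealSheafData.ker_subschemeι _] at h3
  · have h1 : I.comap b ≤ j.ker := by
      rw [← Scheme.IdealSheafData.le_map_iff_comap_le, Scheme.IdealSheafData.map_ker, hab]
      exact (Scheme.IdealSheafData.ker_subschemeι I).ge.trans (Scheme.Hom.le_ker_comp a ι₁)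
    have h2 : ι₂.ker ≤ b.ker := by
      rw [Scheme.IdealSheafData.ker_subschemeι, ← Scheme.IdealSheafData.map_bot b,
        Scheme.IdealSheafData.le_map_iff_comap_le, ← hj.2, pow_two, BlowUpLib.comap_mul]
      intro W
      rw [Scheme.IdealSheafData.ideal_mul, Scheme.IdealSheafData.ideal_mul, Pi.mul_apply, Pi.mul_apply]
      exact Ideal.mul_mono (h1 W) (h1 W)
    refine ⟨IsClosedImmersion.lift ι₂ b h2, ⟨?_, IsClosedImmersion.lift_fac _ _ _⟩, fun a' ha' => ?_⟩
    · rw [← cancel_mono ι₂, Category.assoc, IsClosedImmersion.lift_fac, Category.assoc, hinc, hab]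
    · rw [← cancel_mono ι₂, IsClosedImmersion.lift_fac]
      exact ha'.2

end Groth.Agent.S12456
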