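import Groth.Statements.S12457
import Groth.Agent.ExcCompl.Main

set_option autoImplicit false
universe u
open CategoryTheory CategoryTheory.Limits AlgebraicGeometry
open Resolve

set_option backward.isDefEq.respectTransparency false
set_option backward.isDefEq.respectTransparency.types false

namespace Groth.Agent.S12457

/-- Let X be a Noetherian scheme and ι : E → X a closed immersion which is an exceptional curve of the
first kind, with ideal I, and let E_n ⊂ X be the closed subscheme cut out by I^n. Then the limit A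
of the rings Γ(E_n, O_{E_n}) is a complete regular local Noetherian ring of dimension 2 and the
kernel of A → Γ(E_n, O_{E_n}) is the n-th power of its maximal ideal. Stated as: there exist such a
ring A and compatible surjections A → Γ(E_n, O_{E_n}) with kernels m_A^n (this determines A as the
limit). (The inequalities I^{n+2} ≤ I^{n+1} are carried as an argument hle; they always hold.) -/
theorem result {E X : Scheme.{u}} [IsNoetherian X] (ι : E ⟶ X) [IsClosedImmersion ι]
    (hE : Models.IsExcCurve ι) (hle : ∀ n : ℕ, ι.ker ^ (n + 2) ≤ ι.ker ^ (n + 1)) :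
    ∃ (A : Type u) (_ : CommRing A) (_ : IsRegularLocalRing A),
      IsAdicComplete (IsLocalRing.maximalIdeal A) A ∧ ringKrullDim A = 2 ∧
      ∃ φ : ∀ n : ℕ, A →+* Γ((ι.ker ^ (n + 1)).subscheme, ⊤),
        (∀ n, Function.Surjective (φ n)) ∧
        (∀ n, RingHom.ker (φ n) = IsLocalRing.maximalIdeal A ^ (n + 1)) ∧
        ∀ n, ((Scheme.IdealSheafData.inclusion (hle n)).appTop.hom).comp (φ (n + 1)) = φ n := by
  obtain ⟨hI, k, _, e, ⟨eI⟩⟩ := hE
  haveI : IsClosedImmersion (e.hom ≫ ι) := inferInstance
  obtain ⟨D⟩ := ExcCompl.exists_lineData ι.ker hI k (e.hom ≫ ι) (Scheme.Hom.ker_comp_of_isIso e.hom ι) eI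
  obtain ⟨a, b, hc, hK, hreg, hdim, hmax⟩ := D.main
  have hm : IsLocalRing.maximalIdeal (ExcCompl.lim ι.ker) = Ideal.span {a, b} :=
    (IsLocalRing.eq_maximalIdeal hmax).symm
  refine ⟨ExcCompl.lim ι.ker, inferInstance, hreg, hm ▸ hc, hdim, fun n => ExcCompl.φ ι.ker n,
    D.φ_surjective, fun n => ?_, fun n => ?_⟩
  · rw [hm, ← hK (n + 1)]
    rfl
  · ext x
    have := ExcCompl.dn_φ ι.ker n x
    show ((ExcCompl.incl ι.ker n).app ⊤).hom _ = _
    rw [Scheme.Hom.app_eq_appLE]
    exact this

end Groth.Agent.S12457
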