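import Groth.Statements.S12461
import Mathlib
import Groth.Agent.QCGen.Basic
import Groth.Agent.DirImgLib.Colim
import Groth.Agent.QC.Localisation

set_option autoImplicit false
set_option backward.isDefEq.respectTransparency false
universe u
open CategoryTheory AlgebraicGeometry
open QCohSub

namespace Groth.Agent.S12461

/-- Let i : Z → X be a closed immersion of schemes. The functor i_* : QCoh(O_Z) → QCoh(O_X) has a right
adjoint i^! : QCoh(O_X) → QCoh(O_Z). Stated as: there is a functor L between the full subcategories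
of quasi-coherent modules which agrees with i_* after the inclusion into all O_X-modules (this
determines L up to isomorphism, the inclusion being fully faithful) and which is a left adjoint. -/
theorem result {Z X : Scheme.{u}} (i : Z ⟶ X) [IsClosedImmersion i] :
    ∃ L : QCohCat.QCoh Z ⥤ QCohCat.QCoh X,
      Nonempty (L ⋙ (QCohCat.isQCoh X).ι ≅ (QCohCat.isQCoh Z).ι ⋙ Coh.push i) ∧ L.IsLeftAdjoint := by
  let P : QCohCat.QCoh Z ⥤ QCohCat.QCoh X := ObjectProperty.lift _
    ((QCohCat.isQCoh Z).ι ⋙ Coh.push i)
    (fun M => @Groth.Agent.QC.isQCoh_pushforward _ _ _ M.property i _ _)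
  haveI : Limits.PreservesColimitsOfSize.{u, u} P := ⟨fun {J _} => ⟨fun {D} => ⟨fun {c} hc => ⟨by
    apply Limits.isColimitOfReflects (QCohCat.isQCoh X).ι
    exact Groth.Agent.DirImgLib.isColimitPushforward i (D ⋙ (QCohCat.isQCoh Z).ι) (fun j => (D.obj j).property)
      (Limits.isColimitOfPreserves (QCohCat.isQCoh Z).ι hc)⟩⟩⟩⟩
  exact ⟨P, ⟨Iso.refl _⟩, Groth.Agent.QCGen.isLeftAdjoint Z P⟩

end Groth.Agent.S12461
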