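import Groth.Statements.S12462
import Groth.Agent.SpecSpLib.Stage

set_option autoImplicit false
universe u
open CategoryTheory CategoryTheory.Limits
open SpecSp

namespace Groth.Agent.S12462

/-- A spectral space is a directed inverse limit of finite sober topological spaces. Precisely: for X
spectral there exist a nonempty directed preordered index set J, a functor from the opposite of J to
topological spaces whose values are finite sober (T0, every irreducible closed subset has a generic
point) spaces, and a limit cone of it whose vertex is isomorphic to X. -/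
theorem result (X : Type u) [TopologicalSpace X] [SpectralSpace X] :
    ∃ (J : Type u) (_ : Preorder J) (_ : Nonempty J) (_ : IsDirected J (· ≤ ·)) (F : Jᵒᵖ ⥤ TopCat.{u})
      (c : Cone F), Nonempty (IsLimit c) ∧
        (∀ j : Jᵒᵖ, Finite (F.obj j) ∧ T0Space (F.obj j) ∧ QuasiSober (F.obj j)) ∧
        Nonempty (c.pt ≅ TopCat.of X) := by
  classical
  let A := {U : Set X // IsOpen U ∧ IsCompact U}
  let φ : ∀ S : Finset A, X → ((s : S) → Prop) := fun S x s => x ∈ s.1.1
  haveI : SpectralSpace Prop := SpecSpLib.finite_spectral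
  have hsub : ∀ S : Finset A, Finite (Set.range (φ S)) ∧ T0Space (Set.range (φ S)) ∧ QuasiSober (Set.range (φ S)) :=
    fun S => by
      haveI : T0Space (Set.range (φ S)) := inferInstance
      haveI : SpectralSpace (Set.range (φ S)) := SpecSpLib.finite_spectral
      exact ⟨inferInstance, inferInstance, inferInstance⟩
  have hres : ∀ {S T : Finset A} (h : S ≤ T), ∀ g ∈ Set.range (φ T),
      (fun s : S => g ⟨s.1, h s.2⟩) ∈ Set.range (φ S) := by
    rintro S T h _ ⟨x, rfl⟩
    exact ⟨x, rfl⟩
  let F : (Finset A)ᵒᵖ ⥤ TopCat.{u} :=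
    { obj := fun S => TopCat.of (Set.range (φ S.unop))
      map := fun {T S} f => TopCat.ofHom ⟨fun g => ⟨fun s => g.1 ⟨s.1, leOfHom f.unop s.2⟩,
          hres (leOfHom f.unop) g.1 g.2⟩,
        Continuous.subtype_mk (continuous_pi fun (s : S.unop) =>
          (continuous_apply (A := fun _ : T.unop => Prop) (⟨s.1, leOfHom f.unop s.2⟩ : T.unop)).comp continuous_subtype_val) _⟩
      map_id := fun S => rfl
      map_comp := fun f g => rfl }
  let c : Cone F :=
    { pt := TopCat.of X
      π :=
        { app := fun S => TopCat.ofHom ⟨fun x => ⟨φ S.unop x, x, rfl⟩,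
            Continuous.subtype_mk (continuous_pi fun s => continuous_Prop.2 s.1.2.1) _⟩
          naturality := fun S T f => rfl } }
  refine ⟨Finset A, inferInstance, ⟨∅⟩, inferInstance, F, _, ⟨TopCat.limitConeIsLimit F⟩,
    fun j => hsub j.unop, ⟨(TopCat.isoOfHomeo (Equiv.toHomeomorphOfIsInducing (Equiv.ofBijective
      (fun x => (⟨fun S => c.π.app S x, fun {S T} f => rfl⟩ : (TopCat.limitCone F).pt)) ⟨?_, ?_⟩) ?_)).symm⟩⟩
  · intro x y h
    refine ((inseparable_iff_forall_isOpen.2 fun s hs => ?_) : Inseparable x y).eq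
    have key : ∀ U : A, x ∈ U.1 ↔ y ∈ U.1 := fun U => Eq.to_iff
      (congrFun (congrArg Subtype.val (congrFun (congrArg Subtype.val h) (Opposite.op {U}))) ⟨U, Finset.mem_singleton_self U⟩)
    constructor <;> intro hm <;>
      obtain ⟨U, hU, hxU, hUs⟩ := PrespectralSpace.isTopologicalBasis.exists_subset_of_mem_open hm hs
    · exact hUs ((key ⟨U, hU⟩).1 hxU)
    · exact hUs ((key ⟨U, hU⟩).2 hxU)
  · intro g
    let K : Finset A → Set X := fun S => φ S ⁻¹' {(g.1 (Opposite.op S)).1}
    have hK : ∀ S, @IsOpen X (constructibleTopology X) (K S)ᶜ := by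
      intro S
      have h1 : K S = ⋂ s : S, {x | (x ∈ s.1.1) = (g.1 (Opposite.op S)).1 s} := by
        ext x; simp [K, φ, funext_iff]
      rw [h1, Set.compl_iInter]
      refine @isOpen_iUnion X _ (constructibleTopology X) _ fun s => ?_
      by_cases hp : (g.1 (Opposite.op S)).1 s
      · convert (SpecSpLib.isClopen_of_isCompact s.1.2.1 s.1.2.2).2 using 1
        ext x; simp [hp]
      · convert (SpecSpLib.isClopen_of_isCompact s.1.2.1 s.1.2.2).1 using 1
        ext x; simp [hp]
    obtain ⟨x, -, hx⟩ := SpecSpLib.exists_forall_mem K (E := Set.univ)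
      (by rw [Set.compl_univ]; exact @isOpen_empty X (constructibleTopology X)) hK fun u => by
        obtain ⟨x, hx⟩ := (g.1 (Opposite.op (u.sup id))).2
        refine ⟨x, trivial, Set.mem_iInter₂.2 fun S hS => ?_⟩
        have hle : S ≤ u.sup id := Finset.le_sup (f := id) hS
        have hg := congrArg Subtype.val (g.2 (homOfLE hle).op)
        change φ S x = _
        rw [← hg]
        funext s
        exact congrFun hx ⟨s.1, hle s.2⟩
    exact ⟨x, Subtype.ext (funext fun S => Subtype.ext (Set.mem_iInter.1 hx S.unop))⟩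
  · refine Topology.IsInducing.of_comp (g := Subtype.val) ?_ continuous_subtype_val ?_
    · exact Continuous.subtype_mk (continuous_pi fun S => (c.π.app S).hom.continuous) _
    refine ⟨le_antisymm (continuous_iff_le_induced.1 (continuous_pi fun S => (c.π.app S).hom.continuous)) ?_⟩
    intro s hs
    refine (@isOpen_iff_forall_mem_open X (TopologicalSpace.induced _ _) s).2 fun x hx => ?_
    obtain ⟨U, hU, hxU, hUs⟩ := PrespectralSpace.isTopologicalBasis.exists_subset_of_mem_open hx hs
    exact ⟨U, hUs, ⟨{g | (g (Opposite.op {(⟨U, hU⟩ : A)})).1 ⟨_, Finset.mem_singleton_self _⟩},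
      continuous_Prop.1 ((continuous_apply _).comp (continuous_subtype_val.comp (continuous_apply _))), rfl⟩, hxU⟩

end Groth.Agent.S12462
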