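import Groth.Statements.S12463
import Groth.Agent.NagataOne.Wedge
import Groth.Agent.OmegaEdim.Basic

set_option autoImplicit false
universe u
open Variety

namespace Groth.Agent.S12463

open IsLocalRing in
/-- Maximal ideals of the integral closure of a reduced one dimensional local ring are not minimal. -/
theorem exists_ne_zero_mem (A : Type u) [CommRing A] [IsLocalRing A] [IsReduced A] [IsNoetherianRing A]
    (hdim : ringKrullDim A = 1) (m : MaximalSpectrum (integralClosure A (FractionRing A))) :
    m.asIdeal ∉ minimalPrimes (integralClosure A (FractionRing A)) := by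
  intro hm
  haveI := m.isMaximal
  haveI : Algebra.IsIntegral A (integralClosure A (FractionRing A)) :=
    ⟨fun z => isIntegral_algHom_iff (integralClosure A (FractionRing A)).val Subtype.coe_injective |>.mp z.2⟩
  have hzd := Ideal.disjoint_nonZeroDivisors_of_mem_minimalPrimes hm
  have hmax : maximalIdeal A ∈ minimalPrimes A := by
    obtain ⟨p, hp, hle⟩ := (Ideal.subset_union_prime_finite (minimalPrimes.finite_of_isNoetherianRing A)
      (f := id) ⊥ ⊥ (fun p hp _ _ => hp.1.1) (I := maximalIdeal A)).1 (fun a ha => by
        simp only [Set.mem_iUnion, SetLike.mem_coe, id, exists_prop]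
        by_contra hc
        push Not at hc
        have hnzd : a ∈ nonZeroDivisors A := by
          refine mem_nonZeroDivisors_iff_right.mpr fun b hb => NagataOne.eq_zero_of_forall_mem A fun q => ?_
          exact ((q.2.1.1.mem_or_mem (hb ▸ q.1.zero_mem : b * a ∈ q.1)).resolve_right (hc q.1 q.2))
        have h1 : algebraMap A (integralClosure A (FractionRing A)) a ∈ m.asIdeal := by
          rw [← eq_maximalIdeal (Ideal.isMaximal_comap_of_isIntegral_of_isMaximal (R := A) m.asIdeal)] at ha
          exact ha
        refine Set.disjoint_left.mp hzd h1 (mem_nonZeroDivisors_iff_right.mpr fun b hb => Subtype.ext ?_)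
        have := congrArg Subtype.val hb
        exact (IsLocalization.map_units (FractionRing A) ⟨a, hnzd⟩).mul_left_eq_zero.mp this)
    exact (le_antisymm hle (le_maximalIdeal hp.1.1.ne_top)).symm ▸ hp
  have h0 := (Ideal.height_eq_zero_iff (I := maximalIdeal A)).mpr hmax
  have h1 := IsLocalRing.maximalIdeal_height_eq_ringKrullDim (R := A)
  rw [h0, hdim] at h1
  exact zero_ne_one (WithBot.coe_injective h1)

/-- Let (A, m) be a strictly henselian reduced Nagata local ring of dimension one with δ-invariant equal
to the number of geometric branches minus one, and A' the integral closure of A in its total ring of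
fractions. Then A is a wedge of discrete valuation rings: for every maximal ideal m' of A' the
localization A'_{m'} is a discrete valuation ring whose residue field is the image of A, and A
consists exactly of the elements of A' congruent to an element of A modulo every maximal ideal of A'
(the displayed inclusion; the reverse inclusion is trivial). (The inequality δ ≥ branches − 1 of the
published statement holds for every reduced Nagata local ring of dimension one and is not restated.) -/
theorem result (A : Type u) [CommRing A] [HenselianLocalRing A]
    [IsSepClosed (IsLocalRing.ResidueField A)] [IsReduced A] (hN : CAlg.IsNagata A) (hdim : ringKrullDim A = 1)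
    (heq : Curv2.deltaInv A + 1 = Brnch.numGeomBranches A) :
    (∀ m' : MaximalSpectrum ↥(integralClosure A (FractionRing A)),
        (∃ _ : IsDomain (Localization.AtPrime m'.asIdeal), IsDiscreteValuationRing (Localization.AtPrime m'.asIdeal)) ∧
        Function.Surjective (⇑(IsLocalRing.residue (Localization.AtPrime m'.asIdeal)) ∘
          ⇑(algebraMap ↥(integralClosure A (FractionRing A)) (Localization.AtPrime m'.asIdeal)) ∘
          ⇑(algebraMap A ↥(integralClosure A (FractionRing A))))) ∧
    ∀ a' : ↥(integralClosure A (FractionRing A)),
      (∃ a : A, ∀ m' : MaximalSpectrum ↥(integralClosure A (FractionRing A)),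
          a' - algebraMap A _ a ∈ m'.asIdeal) →
      a' ∈ (algebraMap A ↥(integralClosure A (FractionRing A))).range := by
  haveI := hN.1
  haveI := NagataOne.finite_integralClosure A hN
  haveI : Algebra.IsIntegral A (integralClosure A (FractionRing A)) := Algebra.IsIntegral.of_finite A _
  haveI : IsNoetherianRing (integralClosure A (FractionRing A)) := IsNoetherianRing.of_finite A _
  have hlt := NagataOne.deltaInv_lt_top A hN hdim.le
  haveI : Finite (MaximalSpectrum (integralClosure A (FractionRing A))) := by
    have hfin := Algebra.QuasiFinite.finite_primesOver (S := integralClosure A (FractionRing A))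
      (IsLocalRing.maximalIdeal A)
    haveI : Finite ↥((IsLocalRing.maximalIdeal A).primesOver (integralClosure A (FractionRing A))) := hfin.to_subtype
    exact Finite.of_injective (fun m : MaximalSpectrum (integralClosure A (FractionRing A)) =>
      (⟨m.asIdeal, m.isMaximal.isPrime, ⟨(IsLocalRing.eq_maximalIdeal
        (haveI := m.isMaximal; Ideal.isMaximal_comap_of_isIntegral_of_isMaximal (R := A) m.asIdeal)).symm⟩⟩ :
        ↥((IsLocalRing.maximalIdeal A).primesOver (integralClosure A (FractionRing A)))))
      fun m m' h => MaximalSpectrum.ext (congrArg Subtype.val h)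
  obtain ⟨hres, hin⟩ := NagataOne.wedge_of_length_le A (integralClosure A (FractionRing A)) hlt
    (heq.le.trans (NagataOne.numGeomBranches_le_card A))
  refine ⟨fun m => ⟨?_, ?_⟩, hin⟩
  · haveI := m.isMaximal
    obtain ⟨hdom, hic⟩ := NagataOne.isNormal_localization A ⟨m.asIdeal, inferInstance⟩
    haveI : IsDomain (Localization.AtPrime m.asIdeal) := hdom
    haveI : IsIntegrallyClosed (Localization.AtPrime m.asIdeal) := hic
    refine ⟨hdom, ?_⟩
    have hne : ¬ IsField (Localization.AtPrime m.asIdeal) := fun hF => by
      refine exists_ne_zero_mem A hdim m ?_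
      rw [← Ideal.height_eq_zero_iff]
      have h0 : ringKrullDim (Localization.AtPrime m.asIdeal) = 0 :=
        @ringKrullDim_eq_zero_of_isField (Localization.AtPrime m.asIdeal) inferInstance hF
      rw [IsLocalization.AtPrime.ringKrullDim_eq_height m.asIdeal (Localization.AtPrime m.asIdeal)] at h0
      exact_mod_cast h0
    haveI : Ring.DimensionLEOne (Localization.AtPrime m.asIdeal) := by
      have h1 : ringKrullDim (integralClosure A (FractionRing A)) ≤ 1 :=
        hdim ▸ OmegaEdim.ringKrullDim_le_of_isIntegral (A := A) (B := integralClosure A (FractionRing A))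
      haveI : Ring.KrullDimLE 1 (Localization.AtPrime m.asIdeal) := Ring.krullDimLE_iff.mpr
        ((IsLocalization.AtPrime.ringKrullDim_eq_height m.asIdeal (Localization.AtPrime m.asIdeal)).le.trans
          ((Ideal.height_le_ringKrullDim_of_ne_top m.isMaximal.ne_top).trans h1))
      exact ⟨fun {p} hp hpp => hpp.isMaximal_of_ne_bot hp⟩
    haveI : IsNoetherianRing (Localization.AtPrime m.asIdeal) :=
      IsLocalization.isNoetherianRing m.asIdeal.primeCompl _ inferInstance
    exact ((IsDiscreteValuationRing.TFAE _ hne).out 0 2).mpr
      ((isDedekindDomain_iff _ (FractionRing (Localization.AtPrime m.asIdeal))).mpr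
        ⟨hdom, inferInstance, inferInstance, (isIntegrallyClosed_iff _).mp hic⟩)
  · haveI := m.isMaximal
    intro y
    obtain ⟨w, rfl⟩ := IsLocalization.AtPrime.equivQuotMaximalIdeal m.asIdeal (Localization.AtPrime m.asIdeal) |>.surjective y
    obtain ⟨a, ha⟩ := hres m w
    exact ⟨a, ha ▸ rfl⟩

end Groth.Agent.S12463
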