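import Groth.Statements.S12466
import Groth.Agent.CurveSep.SncMain

set_option autoImplicit false
universe u
open CategoryTheory CategoryTheory.Limits AlgebraicGeometry
open Resolve

set_option backward.isDefEq.respectTransparency false
set_option backward.isDefEq.respectTransparency.types false

namespace Groth.Agent.S12466

/-- Let X be an integral Noetherian scheme which is regular of dimension two and Z ⊂ X a closed
subscheme with ideal I ≠ 0 such that every integral closed subscheme of dimension one contained in Z
has finite normalization. Then there is a finite sequence of blowings up in closed points g : X' → X
such that the inverse image ideal I·O_{X'} is the ideal of an effective Cartier divisor supported on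
a strict normal crossings divisor, i.e. for every point p of its support there are an affine open U
∋ p, a regular system of parameters x_1, …, x_d of O_{X',p} (d = dim O_{X',p}, the x_i generating
the maximal ideal) and 1 ≤ r ≤ d such that the radical of the inverse image ideal, taken in
O_{X',p}, is generated by x_1⋯x_r. (The published statement takes X any regular scheme of dimension
two, hence only locally Noetherian, and Z any proper closed subscheme whose one-dimensional
irreducible components have finite normalization; this row takes X integral and Noetherian. For the
disjoint union of a regular surface and a regular curve, with Z the curve, no sequence of blowings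
up in closed points makes the inverse image of Z an effective Cartier divisor (the
largest-Cartier-divisor step of the proof needs every piece of X of dimension exactly two), and a
finite sequence of blowings up in single closed points can resolve Z only when X is quasi-compact,
since a non-quasi-compact regular surface may carry a curve with infinitely many singular points.
The quasi-compactness and quasi-separatedness binders in the hypothesis on the components of Z
always hold.) -/
theorem result (X : Scheme.{u}) [IsIntegral X] [IsNoetherian X]
    (hreg : ∀ x : X, IsRegularLocalRing (X.presheaf.stalk x)) (hdim : topologicalKrullDim X = 2)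
    (I : X.IdealSheafData) (hI : I ≠ ⊥)
    (hZ : ∀ (J : X.IdealSheafData) [IsIntegral J.subscheme]
      [QuasiCompact (J.subscheme.fromSpecStalk (genericPoint ↥J.subscheme))]
      [QuasiSeparated (J.subscheme.fromSpecStalk (genericPoint ↥J.subscheme))],
      (J.support : Set X) ⊆ I.support → topologicalKrullDim ↥J.subscheme = 1 →
        IsFinite (Curv2.normalizationι J.subscheme)) :
    ∃ (X' : Scheme.{u}) (g : X' ⟶ X), Models.IsContractionSeq g ∧ BlowUp.IsEffCartierIdeal (I.comap g) ∧
      ∀ p : X', p ∈ ((I.comap g).support : Set X') →
        ∃ (U : X'.affineOpens) (hp : p ∈ (U : X'.Opens)) (d r : ℕ) (x : Fin d → X'.presheaf.stalk p),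
          1 ≤ r ∧ r ≤ d ∧ ringKrullDim (X'.presheaf.stalk p) = (d : WithBot ℕ∞) ∧
          Ideal.span (Set.range x) = IsLocalRing.maximalIdeal (X'.presheaf.stalk p) ∧
          ((I.comap g).radical.ideal U).map (X'.presheaf.germ (U : X'.Opens) p hp).hom =
            Ideal.span {∏ i : Fin d, if (i : ℕ) < r then x i else 1} := by
  exact CurveSep.main_12466 X hreg hdim I hI hZ

end Groth.Agent.S12466
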