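import Groth.Statements.S1247
import Groth.Agent.RG.Pure.QFImpurity

set_option autoImplicit false
universe u
open FlatMor

namespace Groth.Agent.S1247

attribute [local instance] Algebra.TensorProduct.rightAlgebra

/-- Ring form, X = Spec B and S = Spec A affine with A Noetherian: let B be a finite type A-algebra, N a
finite B-module and p a prime of A. If there is an impurity of N above p then there is one whose
base change A → A' is of finite type and quasi-finite at the point t. -/
theorem result {A B : Type u} [CommRing A] [IsNoetherianRing A] [CommRing B] [Algebra A B] [Algebra.FiniteType A B]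
    (N : Type u) [AddCommGroup N] [Module B N] [Module.Finite B N] (p : Ideal A) [p.IsPrime]
    (h : FlatCA.HasImpurity A B N p (fun _ _ _ _ => True)) :
    FlatCA.HasImpurity A B N p (fun A' _ _ t => ∃ _ : t.IsPrime, Algebra.FiniteType A A' ∧ Algebra.QuasiFiniteAt A t) := by
  obtain ⟨A', B', N', _, _, _, _, _, _, _, _, _, _, _, _, _, _, f, t', t, _, _, P, _, hI, -⟩ := h
  letI : Module A N := Module.compHom N (algebraMap A B)
  haveI : IsScalarTower A B N := IsScalarTower.of_algebraMap_smul fun _ _ => rfl
  obtain ⟨hpush, hbc, hle, htp, -, -, -⟩ := id hI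
  obtain ⟨Φ, e, hΦ, he⟩ := RG.Pure.exists_model_map (A := A) (B := B) (C := B) (C' := TensorProduct A A' B)
    (fun x => ⟨x, rfl⟩) hpush inferInstance hbc (TensorProduct.isBaseChange B N (TensorProduct A A' B))
  have hcan := (RG.Pure.exists_imp_iff Φ hΦ e he t' t).1 ⟨P, RG.Pure.imp_of_isImpurity hI⟩
  obtain ⟨E, _, _, u', m, _, _, σ, _, hfp, hmax, hle', hover, himp⟩ :=
    RG.Pure.exists_fp_impurity t' t hle htp.over.symm hcan
  haveI := hfp
  haveI : Algebra.FiniteType A E := inferInstance
  obtain ⟨q, _, s, _, hsm, hqf, P₀, hP₀⟩ := RG.Pure.exists_qf_imp (L := A) hle' hover.over.symm (RG.Pure.top_of_isMaximal hover.over.symm hmax) himp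
  haveI := hP₀.1
  have hsp : s.LiesOver p := ⟨by
    rw [Ideal.under_def, IsScalarTower.algebraMap_eq A E (E ⧸ q), ← Ideal.comap_comap, Ideal.Quotient.algebraMap_eq,
      hsm, ← hover.over.symm, Ideal.under_def]⟩
  exact RG.Pure.hasImpurity_of_imp (Q := fun A' _ _ t => ∃ _ : t.IsPrime, Algebra.FiniteType A A' ∧ Algebra.QuasiFiniteAt A t)
    (⊥ : Ideal (E ⧸ q)) s bot_le hsp hP₀ ⟨inferInstance, inferInstance, hqf⟩

end Groth.Agent.S1247
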