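import Groth.Statements.S12472
import Groth.Agent.SymAlg.Fund
import Groth.Agent.TMul.AmpleBasis
import Groth.Agent.SymAlg.InvProj
import Groth.Agent.RelTilde.Exists

set_option linter.style.haveILetI false
set_option backward.isDefEq.respectTransparency false

set_option autoImplicit false
universe u
open CategoryTheory CategoryTheory.Limits AlgebraicGeometry TopologicalSpace Opposite
open scoped HomogeneousIdeal
open EGA2

namespace Groth.Agent.S12472

/-- Let Y be a scheme and L an invertible O_Y-module. Then L is very ample relative to the identity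
morphism of Y: there are a quasi-coherent O_Y-module E and a Y-immersion i of Y into the projective
bundle P(E) with L isomorphic to i^*O_{P(E)}(1). -/
theorem result (Y : Scheme.{u}) (L : Y.Modules) (hL : PicF.IsInvertible L) :
    RelProj.IsRelVeryAmple (𝟙 Y) L := by
  have hLq : Coh.IsQCoh L := TMul.isQCoh_of_isInvertible hL
  obtain ⟨𝒮, j, hj⟩ := SymAlg.exists_isGrSymAlg hLq
  obtain ⟨P, p, ch, hP⟩ := RelProjLib.exists_isRelProj 𝒮
  obtain ⟨O1, lam, hO1⟩ := (RelTilde.Datum.self 𝒮).exists_isTilde hP (1 : ℤ)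
  haveI := SymAlg.isIso_pL hL hLq hj hP
  obtain ⟨φ, hφ⟩ := SymAlg.exists_isFund hj hP hO1
  haveI : IsIso (((Scheme.Modules.pullbackPushforwardAdjunction p).homEquiv L O1).symm φ) := by
    refine RelTilde.isIso_adjunct p φ hLq hO1.isQCoh fun x => ?_
    obtain ⟨U, hU, e, hxU, -, he⟩ := SymAlg.exists_triv hL (O := ⊤) (x := p.base x) trivial
    refine ⟨U, hU, p ⁻¹ᵁ U, hU.preimage p, le_rfl, hxU,
      RelTilde.isBC_of_isGen p φ le_rfl e he ?_⟩
    exact SymAlg.isGen_fund hj hO1 hφ U hU e le_rfl
      (le_top.trans (SymAlg.basicOpen_gen_eq_top hLq hj hU he).ge)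
  refine ⟨L, hLq, 𝒮, j, hj, P, p, ch, hP, O1, lam, (RelTilde.isRelTwist_iff 𝒮 1 O1 lam).mpr hO1,
    inv p, inferInstance, IsIso.inv_hom_id p, ⟨?_⟩⟩
  exact ((Scheme.Modules.pullbackId Y).app L).symm ≪≫
    (Scheme.Modules.pullbackCongr (IsIso.inv_hom_id p).symm).app L ≪≫
    ((Scheme.Modules.pullbackComp (inv p) p).app L).symm ≪≫
    (Scheme.Modules.pullback (inv p)).mapIso
      (asIso (((Scheme.Modules.pullbackPushforwardAdjunction p).homEquiv L O1).symm φ))


end Groth.Agent.S12472
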