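import Groth.Statements.S12475
import Groth.Agent.SymAlg.Segre2
import Groth.Agent.SymAlg.VAmpleOps

set_option autoImplicit false
universe u
open CategoryTheory CategoryTheory.Limits AlgebraicGeometry TopologicalSpace Opposite
open scoped HomogeneousIdeal
open EGA2
open Groth.Agent

namespace Groth.Agent.S12475

/-- Let Y₁ → S and Y₂ → S be schemes over S, f₁ : X₁ → Y₁ and f₂ : X₂ → Y₂ morphisms (so that X₁, X₂ are
S-schemes through them), P with projections p₁, p₂ a fibre product X₁ ×_S X₂, Q with projections q₁,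
q₂ a fibre product Y₁ ×_S Y₂, and h : P → Q the morphism f₁ ×_S f₂, that is, the one with h ≫ q₁ =
p₁ ≫ f₁ and h ≫ q₂ = p₂ ≫ f₂. If L₁ is an invertible O_{X₁}-module very ample relative to f₁ and L₂
an invertible O_{X₂}-module very ample relative to f₂ (each isomorphic to the inverse image of O(1)
along an immersion over the base into the projective bundle of a quasi-coherent module on the base),
then the external tensor product p₁^*L₁ ⊗ p₂^*L₂ is very ample relative to h. -/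
theorem result {S X₁ X₂ Y₁ Y₂ P Q : Scheme.{u}} (y₁ : Y₁ ⟶ S) (y₂ : Y₂ ⟶ S)
    (f₁ : X₁ ⟶ Y₁) (f₂ : X₂ ⟶ Y₂) (p₁ : P ⟶ X₁) (p₂ : P ⟶ X₂) (hP : IsPullback p₁ p₂ (f₁ ≫ y₁) (f₂ ≫ y₂))
    (q₁ : Q ⟶ Y₁) (q₂ : Q ⟶ Y₂) (hQ : IsPullback q₁ q₂ y₁ y₂) (h : P ⟶ Q)
    (hh₁ : h ≫ q₁ = p₁ ≫ f₁) (hh₂ : h ≫ q₂ = p₂ ≫ f₂)
    (L₁ : X₁.Modules) (hL₁ : PicF.IsInvertible L₁) (hva₁ : RelProj.IsRelVeryAmple f₁ L₁)
    (L₂ : X₂.Modules) (hL₂ : PicF.IsInvertible L₂) (hva₂ : RelProj.IsRelVeryAmple f₂ L₂) :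
    RelProj.IsRelVeryAmple h
      (CohB1.tensorMod ((Scheme.Modules.pullback p₁).obj L₁) ((Scheme.Modules.pullback p₂).obj L₂)) := by
  let a₁ := pullback.fst f₁ q₁
  let b₁ := pullback.snd f₁ q₁
  let a₂ := pullback.fst f₂ q₂
  let b₂ := pullback.snd f₂ q₂
  have c₁ : a₁ ≫ f₁ = b₁ ≫ q₁ := pullback.condition
  have c₂ : a₂ ≫ f₂ = b₂ ≫ q₂ := pullback.condition
  let s₁ : P ⟶ pullback f₁ q₁ := pullback.lift p₁ h hh₁.symm
  let s₂ : P ⟶ pullback f₂ q₂ := pullback.lift p₂ h hh₂.symm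
  have e₁a : s₁ ≫ a₁ = p₁ := pullback.lift_fst _ _ _
  have e₁b : s₁ ≫ b₁ = h := pullback.lift_snd _ _ _
  have e₂a : s₂ ≫ a₂ = p₂ := pullback.lift_fst _ _ _
  have e₂b : s₂ ≫ b₂ = h := pullback.lift_snd _ _ _
  have w : ∀ s : PullbackCone b₁ b₂,
      (s.fst ≫ a₁) ≫ f₁ ≫ y₁ = (s.snd ≫ a₂) ≫ f₂ ≫ y₂ := fun s => by
    rw [Category.assoc, reassoc_of% c₁, hQ.w, s.condition_assoc, ← reassoc_of% c₂, Category.assoc]
  let lift : ∀ s : PullbackCone b₁ b₂, s.pt ⟶ P := fun s => hP.lift _ _ (w s)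
  have la : ∀ s, lift s ≫ p₁ = s.fst ≫ a₁ := fun s => hP.lift_fst _ _ (w s)
  have lb : ∀ s, lift s ≫ p₂ = s.snd ≫ a₂ := fun s => hP.lift_snd _ _ (w s)
  have lh : ∀ s, lift s ≫ h = s.fst ≫ b₁ := fun s => by
    refine hQ.hom_ext ?_ ?_
    · rw [Category.assoc, hh₁, reassoc_of% la s, c₁, Category.assoc]
    · rw [Category.assoc, hh₂, reassoc_of% lb s, c₂, ← s.condition_assoc, Category.assoc]
  have hW : IsPullback s₁ s₂ b₁ b₂ := by
    refine IsPullback.of_isLimit' ⟨by rw [e₁b, e₂b]⟩ (PullbackCone.IsLimit.mk _ lift ?_ ?_ ?_)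
    · intro s
      refine pullback.hom_ext ?_ ?_
      · rw [Category.assoc]; exact (congrArg (lift s ≫ ·) e₁a).trans (la s)
      · rw [Category.assoc]; exact (congrArg (lift s ≫ ·) e₁b).trans (lh s)
    · intro s
      refine pullback.hom_ext ?_ ?_
      · rw [Category.assoc]; exact (congrArg (lift s ≫ ·) e₂a).trans (lb s)
      · rw [Category.assoc]
        exact (congrArg (lift s ≫ ·) e₂b).trans ((lh s).trans s.condition)
    · intro s m hm₁ hm₂
      refine hP.hom_ext ?_ ?_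
      · rw [la s, ← e₁a, reassoc_of% hm₁]
      · rw [lb s, ← e₂a, reassoc_of% hm₂]
  refine SymAlg.isRelVeryAmple_of_iso
    (PicGrp.tensorModIso
      ((Scheme.Modules.pullbackCongr e₁a.symm).app L₁ ≪≫
        ((Scheme.Modules.pullbackComp s₁ a₁).app L₁).symm)
      ((Scheme.Modules.pullbackCongr e₂a.symm).app L₂ ≪≫
        ((Scheme.Modules.pullbackComp s₂ a₂).app L₂).symm))
    (SymAlg.isRelVeryAmple_external hW (PicLoc.isInvertible_pullback a₁ hL₁)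
      (SymAlg.isRelVeryAmple_baseChange q₁ (IsPullback.of_hasPullback f₁ q₁) hva₁)
      (PicLoc.isInvertible_pullback a₂ hL₂)
      (SymAlg.isRelVeryAmple_baseChange q₂ (IsPullback.of_hasPullback f₂ q₂) hva₂) e₁b)

end Groth.Agent.S12475
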