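import Groth.Statements.S1248
import Groth.Agent.RG.Pure.HenselImpurity

set_option autoImplicit false
open Groth.Agent
universe u
open FlatMor

namespace Groth.Agent.S1248

attribute [local instance] Algebra.TensorProduct.rightAlgebra

open IsLocalRing in
/-- Ring form, X = Spec B affine: let B be a finite type A-algebra, N a finite B-module and p a prime of
A. If there is an impurity of N above p whose base change ring A' is a henselization of the local
ring A_p (compatibly with A → A_p) and whose point t is the maximal ideal, then there is an impurity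
of N above p for which (A', t) is an elementary étale ring map at p. -/
theorem result {A B : Type u} [CommRing A] [CommRing B] [Algebra A B] [Algebra.FiniteType A B]
    (N : Type u) [AddCommGroup N] [Module B N] [Module.Finite B N] (p : Ideal A) [p.IsPrime]
    (h : FlatCA.HasImpurity A B N p (fun A' _ _ t => ∃ (_ : IsLocalRing A') (_ : Algebra (Localization.AtPrime p) A')
        (_ : IsScalarTower A (Localization.AtPrime p) A') (_ : IsLocalHom (algebraMap (Localization.AtPrime p) A')),
        Hensel.IsHenselization (Localization.AtPrime p) A' ∧ t = maximalIdeal A')) :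
    FlatCA.HasImpurity A B N p (fun A' _ _ t => ∃ _ : t.IsPrime, FlatCA.IsEtaleNhd A A' p t) := by
  obtain ⟨A', B', N', _, _, _, _, _, _, _, _, _, _, _, _, _, _, f, t', t, _, _, P, _, hI, hloc, halg, htow, hlh, hhens, rfl⟩ := h
  haveI := hloc
  letI := halg
  haveI := htow
  haveI := hlh
  haveI := hhens
  letI : Module A N := Module.compHom N (algebraMap A B)
  haveI : IsScalarTower A B N := IsScalarTower.of_algebraMap_smul fun _ _ => rfl
  obtain ⟨hpush, hbc, -, -, -, -, -⟩ := id hI
  obtain ⟨Φ, e, hΦ, he⟩ := RG.Pure.exists_model_map (A := A) (B := B) (C := B) (C' := TensorProduct A A' B)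
    (fun x => ⟨x, rfl⟩) hpush inferInstance hbc (TensorProduct.isBaseChange B N (TensorProduct A A' B))
  have hcan := (RG.Pure.exists_imp_iff Φ hΦ e he t' _).1 ⟨P, RG.Pure.imp_of_isImpurity hI⟩
  obtain ⟨A₁, _, _, t₁', t₁, _, _, σ, _, hn, hle, himp⟩ :=
    RG.Pure.exists_stage_impurity N p A' t' hcan
  exact ⟨A₁, _, _, _, _, _, _, _, _, _, _, _, _, _, _, _, _, _, t₁', t₁, inferInstance, inferInstance, σ, inferInstance,
    himp.isImpurity inferInstance (TensorProduct.isBaseChange B N _) hle hn.2.1, inferInstance, hn⟩

end Groth.Agent.S1248
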