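import Groth.Statements.S12480
import Groth.Agent.SymAlg.VAmpleTwist

set_option autoImplicit false
set_option backward.isDefEq.respectTransparency false
universe u
open CategoryTheory CategoryTheory.Limits AlgebraicGeometry TopologicalSpace Opposite
open scoped HomogeneousIdeal
open EGA2

namespace Groth.Agent.S12480

/-- Let X be a quasi-affine scheme and L an invertible O_X-module. Then L is very ample relative to the
canonical morphism u : X → Spec Γ(X, O_X): there are a quasi-coherent module E on that spectrum and
an immersion i of X into the projective bundle P(E), compatible with u, with L isomorphic to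
i^*O_{P(E)}(1). (The published statement adds that L is then ample; that assertion is stated
separately.) -/
theorem result (X : Scheme.{u}) [X.IsQuasiAffine] (L : X.Modules)
    (hL : PicF.IsInvertible L) : RelProj.IsRelVeryAmple X.toSpecΓ L := by
  have hO : PicF.IsInvertible (Coh.structureModule X) := TMul.isInvertible_structureModule
  have : QuasiCompact X.toSpecΓ := (HasAffineProperty.iff_of_isAffine (P := @QuasiCompact)).mpr inferInstance
  obtain ⟨d, hd⟩ := Groth.Agent.SymAlg.eventually_isRelVeryAmplePn_tensor X.toSpecΓ
    (TMul.isAmple_of_isQuasiAffine hO) hL
  obtain ⟨e⟩ := TMul.nonempty_powUnitIso (X := X) d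
  exact Groth.Agent.SymAlg.isRelVeryAmple_of_pn_affine _ hL (ProjMor.isRelVeryAmplePn_congr
    (PicGrp.tensorModIso e (Iso.refl L) ≪≫ TMul.leftUnitIso L) (hd d le_rfl))

end Groth.Agent.S12480
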