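import Groth.Statements.S12483
import Groth.Agent.W7Hull.ExtAcyc
import Groth.Agent.W7Hull.SheafHomExact
import Groth.Agent.W7Flasque.Basic
import Groth.Agent.GrothSS.Global
import Groth.Agent.DerPush.Basic

set_option autoImplicit false
universe u
open CategoryTheory CategoryTheory.Limits AlgebraicGeometry
open Coherent

set_option backward.isDefEq.respectTransparency false
set_option backward.isDefEq.respectTransparency.types false
set_option maxHeartbeats 800000
open Groth.Agent CategoryTheory CategoryTheory.Limits
namespace Groth.Agent.S12483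

/-- Let `X` be a scheme, `A` an `O_X`-module which is finite locally free (every point has an open
neighbourhood over which `A` is isomorphic to some `O^n`) and for which the internal Hom functor
`Hom_{O_X}(A, -)` exists (right adjoint of `A ⊗ -`), `B` any `O_X`-module and `p ≥ 0`. Then
`Ext^p_{O_X}(X; A, B)`, the Ext group computed in the category of `O_X`-modules, is isomorphic to
`H^p(X, Hom_{O_X}(A, B))`. (Existence of an isomorphism of abelian groups only; the published
isomorphisms are canonical, the edge maps of the local-to-global spectral sequence for Ext. The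
published statement is for an arbitrary ringed space; this row is the case of a scheme.) -/
theorem result (X : Scheme.{u}) [HasExt.{u} X.Modules]
    (A B : X.Modules) (hA : FlatMod.IsFinLocFree A) [DCoh.HasSheafHom A] (p : ℕ) :
    Nonempty (Abelian.Ext A B p ≃+ Coh.HH X ((DCoh.sheafHom A).obj B) p) := by
  haveI : ModSite.HasSheafHom (O := X.sheaf) A := ModSiteTensor.hasSheafHom (O := X.sheaf) A
  let T := ModSite.sheafHom (O := X.sheaf) A ⋙ SheafOfModules.toSheaf (ModSite.ringSh X.sheaf)
  let e : ModSite.sheafHom (O := X.sheaf) A ≅ DCoh.sheafHom A :=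
    (ModSite.sheafHomAdj (O := X.sheaf) A).rightAdjointUniq
      ((DCoh.sheafHomAdj A).ofNatIsoLeft (W7Flasque.tensorIso A).symm)
  haveI : PreservesFiniteColimits (DCoh.sheafHom A) := W7Hull.preservesFiniteColimits_sheafHom A hA
  haveI : PreservesFiniteColimits (ModSite.sheafHom (O := X.sheaf) A) :=
    ⟨fun J _ _ => preservesColimitsOfShape_of_natIso (show DCoh.sheafHom A ≅ ModSite.sheafHom (O := X.sheaf) A from e.symm)⟩
  haveI : (ModSite.sheafHom (O := X.sheaf) A).Additive := (ModSite.sheafHomAdj (O := X.sheaf) A).right_adjoint_additive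
  haveI : PreservesFiniteLimits (ModSite.sheafHom (O := X.sheaf) A) :=
    haveI : PreservesLimitsOfSize.{0, 0} (ModSite.sheafHom (O := X.sheaf) A) :=
      (ModSite.sheafHomAdj (O := X.sheaf) A).rightAdjoint_preservesLimits
    inferInstance
  haveI : PreservesFiniteColimits (SheafOfModules.toSheaf (ModSite.ringSh X.sheaf)) :=
    CohQC.toSheaf_preservesFiniteColimits _
  haveI : HasExt.{u} (ModSite.Mod X.sheaf) := ‹HasExt.{u} X.Modules›
  haveI : HasInjectiveResolutions (ModSite.Mod X.sheaf) := (inferInstance : HasInjectiveResolutions X.Modules)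
  haveI : T.Additive := inferInstance
  obtain ⟨E⟩ := W7Hull.nonempty_ext_addEquiv T (SiteCoh.constZ _) A (GrothSS.constZSheafHomEquiv (O := X.sheaf) A)
    (fun g φ => GrothSS.constZSheafHomEquiv_comp (O := X.sheaf) A g φ)
    (fun I hI q => by
      haveI := hI
      exact GrothSS.subsingleton_ext_constZ_sheafHom (O := X.sheaf) A I q) B p
  exact ⟨E.symm.trans (((Abelian.extFunctorObj (SiteCoh.constZ _) p).mapIso
    ((SheafOfModules.toSheaf (ModSite.ringSh X.sheaf)).mapIso (e.app B))).addCommGroupIsoToAddEquiv)⟩

end Groth.Agent.S12483
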