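import Groth.Statements.S12486
import Groth.Agent.SymAlg.FTSub
import Groth.Agent.SymAlg.CanonGen

set_option autoImplicit false
set_option backward.isDefEq.respectTransparency false
universe u
open CategoryTheory CategoryTheory.Limits AlgebraicGeometry TopologicalSpace Opposite
open scoped HomogeneousIdeal
open EGA2

namespace Groth.Agent.S12486

/-- Let Y be a scheme which is either quasi-compact and separated or has Noetherian underlying space, q
: X → Y a morphism of finite type and L an invertible O_X-module which is very ample relative to q.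
Then the quasi-coherent module of the definition can be taken of finite type: there are a
quasi-coherent O_Y-module E of finite type, its graded symmetric algebra 𝒯 with projective bundle p
: P(E) = Proj(𝒯) → Y (given with its charts over affine opens) and fundamental sheaf O(1) (given
with its chart identifications), and an immersion i : X → P(E) with i ≫ p = q and L isomorphic to
i^*O(1). (The published statement phrases this condition through the morphism to P(E) attached to an
epimorphism q^*E → L, and adds a variant in which E is a submodule of q_*L; those forms are not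
stated here.) -/
theorem result {X Y : Scheme.{u}}
    (hY : (CompactSpace Y ∧ Y.IsSeparated) ∨ TopologicalSpace.NoetherianSpace Y) (q : X ⟶ Y) [QuasiCompact q]
    [LocallyOfFiniteType q] (L : X.Modules) (hL : PicF.IsInvertible L) (h : RelProj.IsRelVeryAmple q L) :
    ∃ (E : Y.Modules) (𝒯 : RelProj.QCGrAlg Y) (j : E ⟶ 𝒯.toModule) (P : Scheme.{u}) (p : P ⟶ Y)
      (chart : ∀ (U : Y.Opens) (hU : IsAffineOpen U), ((p ⁻¹ᵁ U : P.Opens) : Scheme.{u}) ≅ Proj (𝒯.deg U hU))
      (O1 : P.Modules)
      (lam : ∀ (U : Y.Opens) (hU : IsAffineOpen U),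
        O1 ⟶ (Scheme.Modules.pushforward (RelProj.emb p chart U hU)).obj (GrTwist.twist (𝒯.deg U hU) 1))
      (i : X ⟶ P),
      Coh.IsQCoh E ∧ CohB1.IsFT E ∧ RelProj.IsGrSymAlg E 𝒯 j ∧ RelProj.IsRelProj 𝒯 p chart ∧
        RelProj.IsRelTwist 𝒯 p chart 1 O1 lam ∧ IsImmersion i ∧ i ≫ p = q ∧
        Nonempty (L ≅ (Scheme.Modules.pullback i).obj O1) := by
  haveI : QuasiSeparatedSpace Y := by
    rcases hY with ⟨-, h⟩ | h <;> infer_instance
  haveI : CompactSpace Y := by rcases hY with ⟨h, -⟩ | h <;> infer_instance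
  have hLq : Coh.IsQCoh L := TMul.isQCoh_of_isInvertible hL
  obtain ⟨𝒮L, jL, hjL⟩ := Groth.Agent.SymAlg.exists_isGrSymAlg hLq
  obtain ⟨PL, pL, chartL, hPL⟩ := Groth.Agent.RelProjLib.exists_isRelProj 𝒮L
  obtain ⟨E, hEq, hEft, ι, hι, 𝒯, jE, hjE, u, hu, hs, hd⟩ :=
    Groth.Agent.SymAlg.exists_ft_veryAmple q hL hLq hjL h
  obtain ⟨P, p, chart, hP⟩ := Groth.Agent.RelProjLib.exists_isRelProj 𝒯
  obtain ⟨r, hr, -⟩ := Groth.Agent.RelProjLib.existsUnique_qmap u hP hPL
  obtain ⟨htop, hri⟩ := Groth.Agent.SymAlg.Rel.isImmersion_of_immData hL hLq hjL u hPL hr hP hd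
  haveI := hri
  haveI := Groth.Agent.SymAlg.isIso_pL hL hLq hjL hPL
  haveI : IsIso (RelProj.domQ u pL chartL).ι := by
    rw [htop]; exact (Scheme.topIso PL).isIso_hom
  haveI : E.IsQuasicoherent := hEq
  have hgen : 𝒯.IsGenDegOne := fun U hU => by
    refine top_le_iff.mp ?_
    rw [← Groth.Agent.SymAlgGen.gen_eq_top hjE.1 hU]
    refine Subring.closure_mono ?_
    rintro _ (⟨a, rfl⟩ | ⟨m, rfl⟩)
    · exact Or.inl (𝒯.str_mem U hU a)
    · exact Or.inr (hjE.2 U hU m)
  obtain ⟨O1, lam, hO1⟩ := (Groth.Agent.RelTilde.Datum.self 𝒯).exists_isTilde hP (1 : ℤ)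
  obtain ⟨d⟩ := Groth.Agent.SymAlg.nonempty_pullback_twist_iso_degOne hL hLq hgen hjL hP hPL hr
    (fun x => by
      obtain ⟨U, hU, e, V, hV, hVU, hxV, hspan⟩ := hs x
      exact Groth.Agent.SymAlg.exists_degOnePair hL hLq hjL hU (hjE.2 U hU e) hV hVU hspan hxV)
    htop hO1
  refine ⟨E, 𝒯, jE, P, p, chart, O1, lam, inv pL ≫ inv (RelProj.domQ u pL chartL).ι ≫ r, hEq, hEft, hjE, hP,
    (Groth.Agent.RelTilde.isRelTwist_iff 𝒯 1 O1 lam).mpr hO1, inferInstance, ?_, ⟨d⟩⟩
  rw [Category.assoc, Category.assoc, Groth.Agent.RelProjLib.qmap_over u hP hPL hr, IsIso.inv_hom_id_assoc,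
    IsIso.inv_hom_id_assoc]

end Groth.Agent.S12486
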