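import Groth.Statements.S12491
import Groth.Agent.SerreReg.Descent

set_option autoImplicit false
universe u
open VBPn

namespace Groth.Agent.S12491

theorem pdLE_localized_step {A : Type u} [CommRing A] (S : Submonoid A) {X Y W : Type u}
    [AddCommGroup X] [Module A X] [AddCommGroup Y] [Module A Y] [AddCommGroup W] [Module A W]
    [Module.Free A X] (i : W →ₗ[A] X) (f : X →ₗ[A] Y) (hi : Function.Injective i)
    (hf : Function.Surjective f) (hex : Function.Exact i f) (m : ℕ)
    (h : SerreReg.PdLE (Localization S) (LocalizedModule S Y) (m + 1)) :
    SerreReg.PdLE (Localization S) (LocalizedModule S W) m := by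
  have : Module.Free (Localization S) (LocalizedModule S X) :=
    Module.free_of_isLocalizedModule S (LocalizedModule.mkLinearMap S X)
  let i' := LocalizedModule.map S i
  let f' := LocalizedModule.map S f
  have hi' : Function.Injective i' := LocalizedModule.map_injective S i hi
  have hf' : Function.Surjective f' := LocalizedModule.map_surjective S f hf
  have hex' : LinearMap.ker f' = LinearMap.range i' :=
    (LinearMap.exact_iff).mp (LocalizedModule.map_exact S i f hex)
  exact SerreReg.pdLE_of_equiv
    ((LinearEquiv.ofEq _ _ hex').trans (LinearEquiv.ofInjective i' hi').symm)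
    ((SerreReg.pdLE_succ_iff f' hf' m).mp h)


/-- Let A be a regular local ring, k ≥ 0, and N_0, N_1, … A-modules with N_0 finitely generated and N_1,
…, N_k finitely generated and free, with linear maps d_i : N_i → N_{i+1} such that d_0 is injective
and the sequence 0 → N_0 → N_1 → ⋯ → N_k is exact. Then for every prime ideal p of A of height at
most k the localization of N_0 at p is a free module over A_p. The published statement is for a
coherent analytic sheaf on a complex manifold that is locally a k-th syzygy sheaf and says its set
of non-free stalks has codimension greater than k; this row is the statement at one stalk, over any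
regular local ring. -/
theorem result (A : Type u) [CommRing A] [IsRegularLocalRing A]
    (k : ℕ) (N : ℕ → Type u) [∀ i, AddCommGroup (N i)] [∀ i, Module A (N i)] [Module.Finite A (N 0)]
    (hfree : ∀ i, 1 ≤ i → i ≤ k → Module.Free A (N i) ∧ Module.Finite A (N i))
    (d : ∀ i, N i →ₗ[A] N (i + 1)) (hinj : Function.Injective (d 0))
    (hex : ∀ i, i + 1 < k → LinearMap.range (d i) = LinearMap.ker (d (i + 1)))
    (p : Ideal A) [p.IsPrime] (hp : p.height ≤ k) :
    Module.Free (Localization.AtPrime p) (LocalizedModule p.primeCompl (N 0)) := by
  let S := p.primeCompl
  let L := Localization.AtPrime p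
  have : IsRegularLocalRing L := SerreReg.isRegularLocalRing_localization A p
  obtain ⟨n, hn⟩ := SerreReg.exists_dim L
  have hnk : n ≤ k := by
    have h := IsLocalization.AtPrime.ringKrullDim_eq_height p L
    rw [hn, ← WithBot.coe_natCast, WithBot.coe_inj] at h
    exact_mod_cast h.le.trans hp
  have hglob : ∀ (m : ℕ), n ≤ m → ∀ (W : Type u) [AddCommGroup W] [Module L W],
      SerreReg.PdLE L W m := fun m hm W _ _ =>
    SerreReg.pdLE_mono hm (SerreReg.pdLE_of_isRegularLocalRing L n hn W)
  have hproj : SerreReg.PdLE L (LocalizedModule S (N 0)) 0 := by
    rcases Nat.eq_zero_or_pos k with hk | hk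
    · exact hglob 0 (by omega) _
    have key : ∀ j i : ℕ, i + 1 + j = k →
        SerreReg.PdLE L (LocalizedModule S (LinearMap.range (d i))) i := by
      intro j
      induction j with
      | zero =>
        intro i hi
        have : Module.Free A (N (i + 1)) := (hfree (i + 1) (by omega) (by omega)).1
        exact pdLE_localized_step S (LinearMap.range (d i)).subtype (LinearMap.range (d i)).mkQ
          (Submodule.injective_subtype _) (Submodule.mkQ_surjective _)
          (LinearMap.exact_subtype_mkQ _) i (hglob (i + 1) (by omega) _)
      | succ j ih =>
        intro i hi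
        have : Module.Free A (N (i + 1)) := (hfree (i + 1) (by omega) (by omega)).1
        refine pdLE_localized_step S (LinearMap.range (d i)).subtype (d (i + 1)).rangeRestrict
          (Submodule.injective_subtype _) (LinearMap.surjective_rangeRestrict _) ?_ i
          (ih (i + 1) (by omega))
        rw [LinearMap.exact_iff, LinearMap.ker_rangeRestrict, Submodule.range_subtype]
        exact (hex i (by omega)).symm
    have h0 := key (k - 1) 0 (by omega)
    let e := LinearEquiv.ofInjective (d 0) hinj
    let e' : LocalizedModule S (LinearMap.range (d 0)) →ₗ[L] LocalizedModule S (N 0) :=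
      LocalizedModule.map S e.symm.toLinearMap
    exact SerreReg.pdLE_of_equiv (LinearEquiv.ofBijective e'
      ⟨LocalizedModule.map_injective S _ e.symm.injective,
        LocalizedModule.map_surjective S _ e.symm.surjective⟩) h0
  have : Module.Projective L (LocalizedModule S (N 0)) := (SerreReg.pdLE_zero_iff _).mp hproj
  exact Module.free_of_flat_of_isLocalRing

end Groth.Agent.S12491
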