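import Groth.Statements.S12498
import Mathlib

set_option autoImplicit false
universe u
open Deform

namespace Groth.Agent.S12498

open TensorProduct in
theorem ann_t {A : Type u} [CommRing A] [IsLocalRing A] (t : A) (ht0 : t ≠ 0)
    (htm : ∀ a ∈ IsLocalRing.maximalIdeal A, a * t = 0)
    {B : Type u} [CommRing B] [Algebra A B] [Module.Flat A B] (x : B) :
    algebraMap A B t * x = 0 ↔ x ∈ (IsLocalRing.maximalIdeal A).map (algebraMap A B) := by
  constructor
  · intro hx
    have hex : Function.Exact (Submodule.subtype (IsLocalRing.maximalIdeal A : Submodule A A))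
        (LinearMap.mulLeft A t) := by
      intro a
      constructor
      · intro ha
        refine ⟨⟨a, (IsLocalRing.mem_maximalIdeal a).2 fun hu => ht0 ?_⟩, rfl⟩
        exact (IsUnit.mul_left_eq_zero hu).1 ha
      · rintro ⟨m, rfl⟩
        show t * (m : A) = 0
        rw [mul_comm]; exact htm _ m.2
    obtain ⟨w, hw⟩ := (Module.Flat.lTensor_exact B hex (x ⊗ₜ[A] (1 : A))).1 (by
      apply (TensorProduct.rid A B).injective
      rw [LinearMap.lTensor_tmul, TensorProduct.rid_tmul, map_zero, LinearMap.mulLeft_apply, mul_one,
        Algebra.smul_def]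
      exact hx)
    have h2 := congrArg (TensorProduct.rid A B) hw
    rw [TensorProduct.rid_tmul, one_smul] at h2
    rw [← h2]
    clear hw h2
    induction w using TensorProduct.induction_on with
    | zero => simp
    | add u v hu hv => simp only [map_add]; exact add_mem hu hv
    | tmul b m =>
      rw [LinearMap.lTensor_tmul, TensorProduct.rid_tmul, Algebra.smul_def]
      exact Ideal.mul_mem_right _ _ (Ideal.mem_map_of_mem _ m.2)
  · intro hx
    induction hx using Submodule.span_induction with
    | mem y hy =>
      obtain ⟨a, ha, rfl⟩ := hy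
      rw [← map_mul, mul_comm, htm a ha, map_zero]
    | zero => rw [mul_zero]
    | add y z _ _ hy hz => rw [mul_add, hy, hz, add_zero]
    | smul r y _ hy => rw [smul_eq_mul, mul_left_comm, hy, mul_zero]


/-- Let k be an algebraically closed field, A a local Artinian k-algebra with residue field k, and t a
nonzero element of the maximal ideal m_A annihilated by m_A, so that A → A/tA is a small extension.
Let B be a flat A-algebra (a deformation over A of its closed fibre B_0 = B/m_A B), and σ an
A-algebra automorphism of B/tB inducing the identity on B_0. Fix an A-algebra automorphism τ of B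
inducing σ (so τ induces the identity on B_0). Then the A-algebra automorphisms η of B inducing σ
correspond bijectively to the k-derivations d of B_0 through the rule η = τ + t·d, meaning η(b) =
τ(b) + t b′ for all b ∈ B and all b′ ∈ B lifting d applied to the image of b in B_0: every such η
determines a unique d, and every d comes from some such η. (The published statement phrases the
conclusion as a free and transitive action of Der_k(B_0, B_0) on the nonempty set of lifts of σ; the
condition that σ induces the identity on B_0 is expressed here through the chosen lift τ.) -/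
theorem result
    {k : Type u} [Field k] [IsAlgClosed k]
    {A : Type u} [CommRing A] [Algebra k A] [IsLocalRing A] [IsArtinianRing A]
    (hres : ∀ a : A, ∃ c : k, a - algebraMap k A c ∈ IsLocalRing.maximalIdeal A)
    (t : A) (ht : t ∈ IsLocalRing.maximalIdeal A) (ht0 : t ≠ 0)
    (htm : ∀ a ∈ IsLocalRing.maximalIdeal A, a * t = 0)
    {B : Type u} [CommRing B] [Algebra A B] [Module.Flat A B] [Algebra k B] [IsScalarTower k A B]
    (σ : (B ⧸ Ideal.span {algebraMap A B t}) ≃ₐ[A] (B ⧸ Ideal.span {algebraMap A B t}))
    (τ : B ≃ₐ[A] B)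
    (hτ : ∀ b : B, Ideal.Quotient.mk (Ideal.span {algebraMap A B t}) (τ b) =
      σ (Ideal.Quotient.mk (Ideal.span {algebraMap A B t}) b))
    (hτ0 : ∀ b : B, τ b - b ∈ (IsLocalRing.maximalIdeal A).map (algebraMap A B)) :
    (∀ η : B ≃ₐ[A] B, (∀ b : B, Ideal.Quotient.mk (Ideal.span {algebraMap A B t}) (η b) =
        σ (Ideal.Quotient.mk (Ideal.span {algebraMap A B t}) b)) →
      ∃! d : Derivation k (B ⧸ (IsLocalRing.maximalIdeal A).map (algebraMap A B))
          (B ⧸ (IsLocalRing.maximalIdeal A).map (algebraMap A B)),
        ∀ b b' : B, Ideal.Quotient.mk ((IsLocalRing.maximalIdeal A).map (algebraMap A B)) b' =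
            d (Ideal.Quotient.mk ((IsLocalRing.maximalIdeal A).map (algebraMap A B)) b) →
          η b = τ b + algebraMap A B t * b') ∧
    (∀ d : Derivation k (B ⧸ (IsLocalRing.maximalIdeal A).map (algebraMap A B))
        (B ⧸ (IsLocalRing.maximalIdeal A).map (algebraMap A B)),
      ∃ η : B ≃ₐ[A] B, (∀ b : B, Ideal.Quotient.mk (Ideal.span {algebraMap A B t}) (η b) =
          σ (Ideal.Quotient.mk (Ideal.span {algebraMap A B t}) b)) ∧
        ∀ b b' : B, Ideal.Quotient.mk ((IsLocalRing.maximalIdeal A).map (algebraMap A B)) b' =
            d (Ideal.Quotient.mk ((IsLocalRing.maximalIdeal A).map (algebraMap A B)) b) →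
          η b = τ b + algebraMap A B t * b') := by
  classical
  set mB := (IsLocalRing.maximalIdeal A).map (algebraMap A B) with hmB
  set π := Ideal.Quotient.mk mB with hπ
  set T := algebraMap A B t with hT
  have hL : ∀ x : B, T * x = 0 ↔ x ∈ mB := fun x => ann_t t ht0 htm x
  have hTmem : T ∈ mB := Ideal.mem_map_of_mem _ ht
  have hTT : T * T = 0 := (hL T).2 hTmem
  have hTm : ∀ x y : B, π x = π y → T * x = T * y := fun x y h => by
    rw [← sub_eq_zero, ← mul_sub, hL]; exact Ideal.Quotient.eq.1 h
  have hTτ : ∀ x b : B, T * x * τ b = T * (x * b) := fun x b => by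
    rw [mul_assoc]; exact hTm _ _ (by rw [map_mul, map_mul, Ideal.Quotient.eq.2 (hτ0 b)])
  refine ⟨fun η hη => ?_, fun d => ?_⟩
  · -- from a lift to a derivation
    have hdiff : ∀ b, ∃ c, η b - τ b = T * c := fun b => by
      have := (hη b).trans (hτ b).symm
      rw [Ideal.Quotient.eq, Ideal.mem_span_singleton] at this
      exact this
    choose f hf using hdiff
    have hf' : ∀ b, η b = τ b + T * f b := fun b => by rw [← hf b]; ring
    have hu : ∀ b c, η b = τ b + T * c → π c = π (f b) := fun b c h => by
      refine Ideal.Quotient.eq.2 ((hL _).1 ?_)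
      rw [mul_sub, ← hf b, h]; ring
    have hadd : ∀ b b', π (f (b + b')) = π (f b) + π (f b') := fun b b' => by
      rw [← map_add]; exact (hu _ _ (by rw [map_add, map_add, hf', hf']; ring)).symm
    have hmul : ∀ b b', π (f (b * b')) = π b * π (f b') + π b' * π (f b) := fun b b' => by
      rw [← map_mul, ← map_mul, ← map_add]
      refine (hu _ _ ?_).symm
      rw [map_mul, map_mul, hf', hf']
      linear_combination (hTτ (f b') b) + (hTτ (f b) b') + (f b * f b') * hTT
    have halg : ∀ a : A, π (f (algebraMap A B a)) = 0 := fun a => by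
      rw [← map_zero π]; exact (hu _ _ (by simp)).symm
    have hker : ∀ b ∈ mB, π (f b) = 0 := by
      intro b hb
      induction hb using Submodule.span_induction with
      | mem y hy => obtain ⟨a, _, rfl⟩ := hy; exact halg a
      | zero => rw [← map_zero π]; exact (hu _ _ (by simp)).symm
      | add y z _ _ hy hz => rw [hadd, hy, hz, add_zero]
      | smul r y hym hy =>
        rw [smul_eq_mul, hmul, hy, mul_zero, zero_add,
          show π y = 0 from Ideal.Quotient.eq_zero_iff_mem.2 hym, zero_mul]
    let g : B ⧸ mB → B ⧸ mB := fun z => π (f (Function.surjInv Ideal.Quotient.mk_surjective z))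
    have hg : ∀ b, g (π b) = π (f b) := fun b => by
      let c := Function.surjInv Ideal.Quotient.mk_surjective (π b)
      have hc : π c = π b := Function.surjInv_eq Ideal.Quotient.mk_surjective (π b)
      show π (f c) = π (f b)
      have h1 := hadd b (c - b)
      rw [add_sub_cancel, hker (c - b) (Ideal.Quotient.eq.1 hc), add_zero] at h1
      exact h1
    let d₀ : (B ⧸ mB) →ₗ[k] (B ⧸ mB) :=
      { toFun := g
        map_add' := fun x y => by
          obtain ⟨x, rfl⟩ := Ideal.Quotient.mk_surjective x
          obtain ⟨y, rfl⟩ := Ideal.Quotient.mk_surjective y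
          rw [← map_add, hg, hg, hg, hadd]
        map_smul' := fun c x => by
          obtain ⟨x, rfl⟩ := Ideal.Quotient.mk_surjective x
          have e : c • π x = π (algebraMap A B (algebraMap k A c) * x) := by
            rw [← IsScalarTower.algebraMap_apply, ← Algebra.smul_def]; rfl
          rw [RingHom.id_apply, e, hg, hmul, halg, mul_zero, add_zero, hg,
            ← IsScalarTower.algebraMap_apply, ← map_mul, ← Algebra.smul_def]
          rfl }
    refine ⟨Derivation.mk' d₀ (fun x y => ?_), fun b b' hb' => ?_, fun d' hd' => ?_⟩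
    · obtain ⟨x, rfl⟩ := Ideal.Quotient.mk_surjective x
      obtain ⟨y, rfl⟩ := Ideal.Quotient.mk_surjective y
      show g (π x * π y) = π x • g (π y) + π y • g (π x)
      rw [← map_mul, hg, hg, hg, hmul, smul_eq_mul, smul_eq_mul]
    · have hb : π b' = π (f b) := hb'.trans (hg b)
      rw [hf', hTm b' (f b) hb]
    · ext z
      obtain ⟨b, rfl⟩ := Ideal.Quotient.mk_surjective z
      obtain ⟨c, hc⟩ := Ideal.Quotient.mk_surjective (d' (π b))
      show d' (π b) = g (π b)
      rw [hg, ← hc]
      exact hu b c (hd' b c hc)
  · -- from a derivation to a lift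
    let f : B → B := fun b => Function.surjInv Ideal.Quotient.mk_surjective (d (π b))
    have hf : ∀ b, π (f b) = d (π b) := fun b => Function.surjInv_eq Ideal.Quotient.mk_surjective _
    have hdalg : ∀ a : A, d (π (algebraMap A B a)) = 0 := fun a => by
      obtain ⟨c, hc⟩ := hres a
      have : π (algebraMap A B a) = algebraMap k (B ⧸ mB) c := by
        show π _ = π (algebraMap k B c)
        rw [IsScalarTower.algebraMap_apply k A B]
        exact Ideal.Quotient.eq.2 (by rw [← map_sub]; exact Ideal.mem_map_of_mem _ hc)
      rw [this, Derivation.map_algebraMap]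
    have h1 : T * f 1 = 0 := by
      rw [hTm (f 1) 0 (by rw [hf, map_one, Derivation.map_one_eq_zero, map_zero]), mul_zero]
    let mkHom : ℤ → (B →ₐ[A] B) := fun s =>
      { toFun := fun b => b + (s : B) * (T * f b)
        map_one' := by rw [h1, mul_zero, add_zero]
        map_zero' := by
          rw [hTm (f 0) 0 (by rw [hf, map_zero, map_zero]), mul_zero, mul_zero, add_zero]
        map_mul' := fun x y => by
          rw [hTm (f (x * y)) (x * f y + y * f x) (by
            rw [hf, map_mul π x y, map_add π, map_mul π, map_mul π, hf, hf, Derivation.leibniz, smul_eq_mul, smul_eq_mul])]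
          linear_combination (-((s : B) * (s : B) * f x * f y)) * hTT
        map_add' := fun x y => by
          rw [hTm (f (x + y)) (f x + f y) (by rw [hf, map_add, map_add, map_add, hf, hf])]
          ring
        commutes' := fun a => by
          rw [hTm (f _) 0 (by rw [hf, hdalg, map_zero]), mul_zero, mul_zero, add_zero] }
    have hinv : ∀ s : ℤ, (mkHom s).comp (mkHom (-s)) = AlgHom.id A B := fun s => by
      ext b
      show (b + ((-s : ℤ) : B) * (T * f b)) + (s : B) * (T * f (b + ((-s : ℤ) : B) * (T * f b))) = b
      rw [hTm (f (b + ((-s : ℤ) : B) * (T * f b))) (f b) (by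
        rw [hf, hf, map_add, map_mul π _ (T * f b), map_mul π T, Ideal.Quotient.eq_zero_iff_mem.2 hTmem,
          zero_mul, mul_zero, add_zero])]
      push_cast
      ring
    let ε : B ≃ₐ[A] B := AlgEquiv.ofAlgHom (mkHom 1) (mkHom (-1)) (hinv 1) (by
      have := hinv (-1); rwa [neg_neg] at this)
    have hε : ∀ b, τ (ε b) = τ b + T * f b := fun b => by
      show τ (b + ((1 : ℤ) : B) * (T * f b)) = _
      rw [Int.cast_one, one_mul, map_add, map_mul, hT, AlgEquiv.commutes]
      congr 1
      exact hTm _ _ (Ideal.Quotient.eq.2 (hτ0 (f b)))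
    refine ⟨ε.trans τ, fun b => ?_, fun b b' hb' => ?_⟩
    · show Ideal.Quotient.mk _ (τ (ε b)) = _
      rw [← hτ, hε, Ideal.Quotient.eq, add_sub_cancel_left]
      exact Ideal.mul_mem_right _ _ (Ideal.mem_span_singleton_self _)
    · show τ (ε b) = _
      rw [hε, hTm b' (f b) (by rw [hb', hf])]

end Groth.Agent.S12498
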