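import Groth.Statements.S1250
import Groth.Agent.RG.Dev.FlatIff

set_option autoImplicit false
open Groth.Agent
universe u
open FlatMor

namespace Groth.Agent.S1250

/-- Given an elementary dévissage E of N at q over p in dimension n, the following are equivalent: N_q
is flat over R; G_z is flat over R'; G_y (G viewed as a D-module) is flat over R'. Also equivalent
to each other: N becomes flat over R on some basic open D(g) ∋ q of Spec S; G becomes flat over R'
on some basic open of Spec C containing z; G as a D-module becomes flat over R' on some basic open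
of Spec D containing y. -/
theorem result {R S : Type u} [CommRing R] [CommRing S] [Algebra R S] [Algebra.FiniteType R S]
    (N : Type u) [AddCommGroup N] [Module S N] [Module R N] [IsScalarTower R S N] [Module.Finite S N]
    (p : Ideal R) [p.IsPrime] (q : Ideal S) [q.IsPrime] [q.LiesOver p] (n : ℕ) (E : FlatCA.ElemDevissage R S N p q n) :
    [FlatCA.FlatAt R q N, FlatCA.FlatAt E.R' E.z E.G, FlatCA.FlatAt E.R' E.y E.G].TFAE ∧
    [∃ g : S, g ∉ q ∧ Module.Flat R (LocalizedModule (Submonoid.powers g) N),
     ∃ g : E.C, g ∉ E.z ∧ Module.Flat E.R' (LocalizedModule (Submonoid.powers g) E.G),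
     ∃ g : E.D, g ∉ E.y ∧ Module.Flat E.R' (LocalizedModule (Submonoid.powers g) E.G)].TFAE := by
  letI : Algebra R E.C := ((algebraMap E.S' E.C).comp (algebraMap R E.S')).toAlgebra
  haveI : IsScalarTower R E.S' E.C := IsScalarTower.of_algebraMap_eq fun _ => rfl
  haveI : IsScalarTower R E.R' E.C := IsScalarTower.of_algebraMap_eq fun r => by
    rw [IsScalarTower.algebraMap_apply E.R' E.S' E.C, ← IsScalarTower.algebraMap_apply R E.R' E.S']
    rfl
  letI : Module R E.G := Module.compHom E.G (algebraMap R E.C)
  haveI : IsScalarTower R E.C E.G := IsScalarTower.of_algebraMap_smul fun _ _ => rfl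
  haveI : IsScalarTower R E.R' E.G := IsScalarTower.of_algebraMap_smul fun r x => by
    rw [← algebraMap_smul E.C (algebraMap R E.R' r) x, ← IsScalarTower.algebraMap_apply R E.R' E.C,
      algebraMap_smul]
  letI : Module S E.G := Module.compHom E.G (algebraMap S E.S')
  haveI : IsScalarTower S E.S' E.G := IsScalarTower.of_algebraMap_smul fun _ _ => rfl
  let g : N →ₗ[S] E.G := (E.iso.toLinearMap.restrictScalars S).comp E.f
  have hg : IsBaseChange E.S' g := by
    refine IsBaseChange.of_equiv (E.isBaseChange.equiv.trans E.iso) fun x => ?_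
    simp [g, IsBaseChange.equiv_tmul]
  haveI : Algebra.Etale S E.S' := E.etaleS.1
  haveI : Algebra.Etale R E.R' := E.etaleR.1
  haveI : Module.Flat S E.S' := Algebra.Smooth.flat S E.S'
  haveI := E.finiteDC
  have hq' : E.q'.comap (algebraMap S E.S') = q := E.etaleS.2.choose.over.symm
  have hz : E.z.comap (algebraMap E.S' E.C) = E.q' := E.zOver.over.symm
  have hzy : E.z.comap (algebraMap E.D E.C) = E.y := E.zOverY.over.symm
  have huniq : ∀ Q : Ideal E.C, Q.IsPrime → Q.comap (algebraMap E.D E.C) = E.y → Q = E.z :=
    fun Q _ hQ => E.uniq Q ⟨hQ.symm⟩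
  constructor
  · tfae_have 1 ↔ 2 := (RG.Dev.flat_point_iff g hg E.surjC q E.q' E.z hq' hz).trans
      (RG.Dev.flat_etale_iff (LocalizedModule E.z.primeCompl E.G))
    tfae_have 2 ↔ 3 := RG.Dev.flat_point_unique_iff E.y E.z hzy huniq
    tfae_finish
  · tfae_have 1 ↔ 2 := (RG.Dev.flat_open_iff g hg E.surjC q E.q' E.z hq' hz).trans
      (exists_congr fun c => and_congr_right fun _ => RG.Dev.flat_etale_iff (LocalizedModule (Submonoid.powers c) E.G))
    tfae_have 2 ↔ 3 := RG.Dev.flat_open_unique_iff E.y E.z hzy huniq
    tfae_finish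

end Groth.Agent.S1250
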