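import Groth.Statements.S1251
import Groth.Agent.RG.Dev.FpPoints

set_option autoImplicit false
open Groth.Agent
universe u
open FlatMor

namespace Groth.Agent.S1251

/-- Given an elementary dévissage E of N at q over p in dimension n, with S of finite presentation over
R: the finite map D → C is of finite presentation; the following are equivalent: N_q is a finitely
presented S_q-module; G_z is a finitely presented C_z-module; G_y is a finitely presented
D_y-module. Also equivalent to each other: N is finitely presented on some basic open of Spec S
containing q; G is finitely presented on some basic open of Spec C containing z; G as a D-module is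
finitely presented on some basic open of Spec D containing y. -/
theorem result {R S : Type u} [CommRing R] [CommRing S] [Algebra R S] [Algebra.FinitePresentation R S]
    (N : Type u) [AddCommGroup N] [Module S N] [Module R N] [IsScalarTower R S N] [Module.Finite S N]
    (p : Ideal R) [p.IsPrime] (q : Ideal S) [q.IsPrime] [q.LiesOver p] (n : ℕ) (E : FlatCA.ElemDevissage R S N p q n) :
    Algebra.FinitePresentation E.D E.C ∧
    [Module.FinitePresentation (Localization.AtPrime q) (LocalizedModule q.primeCompl N),
     Module.FinitePresentation (Localization.AtPrime E.z) (LocalizedModule E.z.primeCompl E.G),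
     Module.FinitePresentation (Localization.AtPrime E.y) (LocalizedModule E.y.primeCompl E.G)].TFAE ∧
    [∃ g : S, g ∉ q ∧ Module.FinitePresentation (Localization.Away g) (LocalizedModule (Submonoid.powers g) N),
     ∃ g : E.C, g ∉ E.z ∧ Module.FinitePresentation (Localization.Away g) (LocalizedModule (Submonoid.powers g) E.G),
     ∃ g : E.D, g ∉ E.y ∧ Module.FinitePresentation (Localization.Away g) (LocalizedModule (Submonoid.powers g) E.G)].TFAE := by
  letI : Module S E.G := Module.compHom E.G (algebraMap S E.S')
  haveI : IsScalarTower S E.S' E.G := IsScalarTower.of_algebraMap_smul fun _ _ => rfl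
  let g : N →ₗ[S] E.G := (E.iso.toLinearMap.restrictScalars S).comp E.f
  have hg : IsBaseChange E.S' g := by
    refine IsBaseChange.of_equiv (E.isBaseChange.equiv.trans E.iso) fun x => ?_
    simp [g, IsBaseChange.equiv_tmul]
  haveI : Algebra.Etale S E.S' := E.etaleS.1
  haveI : Algebra.Etale R E.R' := E.etaleR.1
  haveI : Module.Flat S E.S' := Algebra.Smooth.flat S E.S'
  haveI := E.finiteDC
  haveI := E.fpC
  haveI : AlgebraicGeometry.SmoothOfRelativeDimension n
      (AlgebraicGeometry.Spec.map (CommRingCat.ofHom (algebraMap E.R' E.D))) := E.smooth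
  haveI : Algebra.FinitePresentation E.R' E.D := by
    haveI : AlgebraicGeometry.Smooth (AlgebraicGeometry.Spec.map (CommRingCat.ofHom (algebraMap E.R' E.D))) :=
      AlgebraicGeometry.SmoothOfRelativeDimension.smooth n _
    have h1 := (AlgebraicGeometry.HasRingHomProperty.Spec_iff
      (P := @AlgebraicGeometry.LocallyOfFinitePresentation) (φ := CommRingCat.ofHom (algebraMap E.R' E.D))).1 inferInstance
    exact RingHom.finitePresentation_algebraMap.1 h1
  haveI : Algebra.FinitePresentation R E.S' := Algebra.FinitePresentation.trans R S E.S'
  haveI : Algebra.FinitePresentation E.R' E.S' :=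
    Algebra.FinitePresentation.of_restrict_scalars_finitePresentation R E.R' E.S'
  haveI : Algebra.FinitePresentation E.R' E.C := Algebra.FinitePresentation.trans E.R' E.S' E.C
  haveI hDC : Algebra.FinitePresentation E.D E.C :=
    Algebra.FinitePresentation.of_restrict_scalars_finitePresentation E.R' E.D E.C
  haveI : Module.Finite E.S' E.C := Module.Finite.of_surjective (Algebra.linearMap E.S' E.C) E.surjC
  haveI : Module.FinitePresentation E.S' E.C := Module.FinitePresentation.of_finite_of_finitePresentation _ _
  haveI : Module.FinitePresentation E.D E.C := Module.FinitePresentation.of_finite_of_finitePresentation _ _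
  have hq' : E.q'.comap (algebraMap S E.S') = q := E.etaleS.2.choose.over.symm
  have hz : E.z.comap (algebraMap E.S' E.C) = E.q' := E.zOver.over.symm
  have hzy : E.z.comap (algebraMap E.D E.C) = E.y := E.zOverY.over.symm
  have huniq : ∀ Q : Ideal E.C, Q.IsPrime → Q.comap (algebraMap E.D E.C) = E.y → Q = E.z :=
    fun Q _ hQ => E.uniq Q ⟨hQ.symm⟩
  refine ⟨hDC, ?_, ?_⟩
  · tfae_have 1 ↔ 2 := RG.Dev.fp_point_iff g hg E.surjC q E.q' E.z hq' hz
    tfae_have 2 ↔ 3 := RG.Dev.fp_point_unique_iff E.y E.z hzy huniq
    tfae_finish
  · tfae_have 1 ↔ 2 := RG.Dev.fp_open_iff g hg E.surjC q E.q' E.z hq' hz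
    tfae_have 2 ↔ 3 := RG.Dev.fp_open_unique_iff E.y E.z hzy huniq
    tfae_finish

end Groth.Agent.S1251
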