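import Groth.Statements.S12515
import Groth.Agent.FunFld.QuadExt

set_option autoImplicit false
open FunFld

namespace Groth.Agent.S12515

/-- If `char k ≠ 2` and `K` has degree `2` over the rational function field `k(x)`, then `K = k(x)(y)`
for some `y` with `y² = f(x)`, `f` a squarefree polynomial over `k`. -/
theorem result (k K : Type*) [Field k] [Field K] (h2 : ringChar k ≠ 2)
    [Algebra (RatFunc k) K] (hdeg : Module.finrank (RatFunc k) K = 2) :
    ∃ (y : K) (f : Polynomial k), Squarefree f ∧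
      y ^ 2 = algebraMap (RatFunc k) K (algebraMap (Polynomial k) (RatFunc k) f) ∧
      IntermediateField.adjoin (RatFunc k) ({y} : Set K) = ⊤ := by
  obtain ⟨a, b, c, ha, -, haq⟩ := Groth.Agent.FunFld.exists_gen_quadratic hdeg
  set ι := algebraMap (Polynomial k) (RatFunc k)
  set ψ := algebraMap (RatFunc k) K
  have h20 : (2 : RatFunc k) ≠ 0 := by
    haveI : CharP (RatFunc k) (ringChar k) := charP_of_injective_algebraMap (algebraMap k (RatFunc k)).injective _
    exact Ring.two_ne_zero (by rwa [ringChar.eq (RatFunc k) (ringChar k)])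
  obtain ⟨u, v, hv, huv⟩ := IsFractionRing.div_surjective (Polynomial k) (b ^ 2 - 4 * c)
  have hv0 : ι v ≠ 0 :=
    (map_ne_zero_iff ι (IsFractionRing.injective _ _)).2 (nonZeroDivisors.ne_zero hv)
  set z := ψ (ι v) * (2 * a + ψ b)
  have hz : z ^ 2 = ψ (ι (u * v)) := by
    have h1 : (2 * a + ψ b) ^ 2 = ψ (b ^ 2 - 4 * c) := by
      simp only [map_sub, map_mul, map_pow, map_ofNat]
      linear_combination 4 * haq
    rw [show z ^ 2 = ψ (ι v) ^ 2 * (2 * a + ψ b) ^ 2 from mul_pow _ _ 2, h1, ← huv, ← map_pow,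
      ← map_mul, map_mul ι]
    congr 1
    simp only [show algebraMap (Polynomial k) (RatFunc k) = ι from rfl]
    field_simp
  have hzr : z ∉ Set.range ψ := by
    rintro ⟨w, hw⟩
    refine ha ⟨(w / ι v - b) / 2, ?_⟩
    have hv1 : ψ (ι v) ≠ 0 := (map_ne_zero ψ).2 hv0
    have h21 : (2 : K) ≠ 0 := by rw [← map_ofNat ψ 2]; exact (map_ne_zero ψ).2 h20
    change ψ _ = a
    rw [map_div₀, map_sub, map_div₀, hw, map_ofNat]
    simp only [z]
    field_simp
    ring
  have huv0 : u * v ≠ 0 := fun h0 => hzr ⟨0, by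
    rw [h0, map_zero, map_zero] at hz
    rw [pow_eq_zero_iff two_ne_zero] at hz
    rw [hz, map_zero]⟩
  obtain ⟨f, s, hf, hfs⟩ := Groth.Agent.FunFld.exists_squarefree_mul_sq _ huv0
  have hs0 : ι s ≠ 0 := (map_ne_zero_iff ι (IsFractionRing.injective _ _)).2 fun h0 =>
    huv0 (by rw [hfs, h0]; simp)
  refine ⟨z / ψ (ι s), f, hf, ?_, Groth.Agent.FunFld.adjoin_eq_top_of_finrank_two hdeg ?_⟩
  · rw [div_pow, hz, hfs, map_mul, map_pow, map_mul, map_pow,
      mul_div_cancel_left₀ _ (pow_ne_zero _ ((map_ne_zero ψ).2 hs0))]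
  · rintro ⟨w, hw⟩
    exact hzr ⟨w * ι s, by rw [map_mul, hw, div_mul_cancel₀ _ ((map_ne_zero ψ).2 hs0)]⟩

end Groth.Agent.S12515
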