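import Groth.Statements.S12517
import Groth.Agent.FunFld.QuadExt

set_option autoImplicit false
open FunFld

namespace Groth.Agent.S12517

/-- If `k` is perfect of characteristic `2` and `K` is a separable extension of degree `2` of the
rational function field `k(x)`, then `K = k(x)(y)` for some `y` with `y² + y = f(x)`, `f ∈ k(x)`.
The correspondence between such extensions and cosets of `{a² + a}` in `k(x)` is not stated. -/
theorem result (k K : Type*) [Field k] [Field K] [PerfectField k]
    (h2 : ringChar k = 2) [Algebra (RatFunc k) K] (hdeg : Module.finrank (RatFunc k) K = 2)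
    [Algebra.IsSeparable (RatFunc k) K] :
    ∃ (y : K) (f : RatFunc k), y ^ 2 + y = algebraMap (RatFunc k) K f ∧
      IntermediateField.adjoin (RatFunc k) ({y} : Set K) = ⊤ := by
  obtain ⟨a, b, c, ha, hm, haq⟩ := Groth.Agent.FunFld.exists_gen_quadratic hdeg
  set ψ := algebraMap (RatFunc k) K
  have hb : b ≠ 0 := by
    rintro rfl
    haveI : CharP k 2 := h2 ▸ ringChar.charP k
    haveI : CharP (RatFunc k) 2 := charP_of_injective_algebraMap (algebraMap k (RatFunc k)).injective 2
    have h := Algebra.IsSeparable.isSeparable (RatFunc k) a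
    rw [IsSeparable, hm, Polynomial.separable_def] at h
    have hd : Polynomial.derivative (Polynomial.X ^ 2 + Polynomial.C (0 : RatFunc k) * Polynomial.X +
        Polynomial.C c) = 0 := by simp [one_add_one_eq_two, CharTwo.two_eq_zero]
    rw [hd, isCoprime_zero_right] at h
    have := Polynomial.natDegree_eq_zero_of_isUnit h
    simp at this
  have hb' : ψ b ≠ 0 := (map_ne_zero ψ).2 hb
  refine ⟨a / ψ b, -(c / b ^ 2), ?_, Groth.Agent.FunFld.adjoin_eq_top_of_finrank_two hdeg ?_⟩
  · rw [map_neg, map_div₀, map_pow]
    field_simp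
    linear_combination haq
  · rintro ⟨w, hw⟩
    exact ha ⟨w * b, by rw [map_mul, hw, div_mul_cancel₀ _ hb']⟩

end Groth.Agent.S12517
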