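import Groth.Statements.S1253
import Groth.Agent.RG.Dev.Step
import Groth.Agent.RG.Dev.FlatIff
import Groth.Agent.RG.Dev.FpIff
import Groth.Agent.Kaplansky.Local

set_option autoImplicit false
open Groth.Agent
universe u
open FlatMor

namespace Groth.Agent.S1253

open IsLocalRing in
/-- Let R be a local ring, S a finitely presented R-algebra, N a finite S-module and q a prime of S over
𝔪_R with N_q flat over R. If N/S/R admits a complete dévissage at q, then N is of finite
presentation over S and free over R; more precisely N is R-isomorphic to the product over the steps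
of the dévissage of the free modules B_i^{r_i}, with B_i and r_i the dévissage's own smooth algebras
and ranks. -/
theorem result {R S : Type u} [CommRing R] [IsLocalRing R] [CommRing S] [Algebra R S] [Algebra.FinitePresentation R S]
    (N : Type u) [AddCommGroup N] [Module S N] [Module R N] [IsScalarTower R S N] [Module.Finite S N]
    (q : Ideal S) [q.IsPrime] [q.LiesOver (maximalIdeal R)] (hflat : FlatCA.FlatAt R q N)
    (D : FlatCA.CompleteDevissage R S N (maximalIdeal R)) (hD : Nonempty (FlatCA.CompleteDevissageAt R S N (maximalIdeal R) q D)) :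
    Module.FinitePresentation S N ∧ Module.Free R N ∧
      Nonempty (N ≃ₗ[R] (∀ i : Fin D.n, Fin (D.r i) → D.B i)) := by
  classical
  obtain ⟨E⟩ := hD
  haveI := E.hqA
  haveI := E.hqB
  have hproj : ∀ i, i < D.n → Module.Projective R (D.B i) := fun i hi =>
    haveI := D.smooth i hi
    RG.Dev.projective_of_smooth_geomIrred (D.geomIrred i hi)
  haveI : ∀ i, IsScalarTower R (D.A i) (D.M i) := fun i => IsScalarTower.of_algebraMap_smul fun r x => by
    rw [IsScalarTower.algebraMap_apply R (D.B i) (D.A i), algebraMap_smul, algebraMap_smul]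
  haveI : ∀ i, IsScalarTower R (D.B i) (D.M (i + 1)) := fun i => IsScalarTower.of_algebraMap_smul fun r x => by
    rw [← algebraMap_smul (D.A (i + 1)) (algebraMap R (D.B i) r) x,
      ← IsScalarTower.algebraMap_apply R (D.B i) (D.A (i + 1)), algebraMap_smul]
  haveI : IsScalarTower R S (D.M 0) := IsScalarTower.of_algebraMap_smul fun r x => by
    rw [← algebraMap_smul (D.A 0) (algebraMap R S r) x, ← IsScalarTower.algebraMap_apply R S (D.A 0),
      algebraMap_smul]
  have hle : ∀ i, (maximalIdeal R).map (algebraMap R (D.B i)) ≤ E.qB i := fun i =>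
    Ideal.map_le_iff_le_comap.2 (E.overB i).over.le
  have huniq : ∀ i, i < D.n → ∀ Q : Ideal (D.A i), Q.IsPrime →
      Q.comap (algebraMap (D.B i) (D.A i)) = E.qB i → Q = E.qA i :=
    fun i hi Q hQ h => @FlatCA.CompleteDevissageAt.uniq _ _ _ _ _ _ _ _ _ _ _ _ _ E i hi Q hQ ⟨h.symm⟩
  have hzy : ∀ i, (E.qA i).comap (algebraMap (D.B i) (D.A i)) = E.qB i := fun i => (E.overA i).over.symm
  -- flatness propagates along the dévissage
  have hfl : ∀ i, i < D.n → Module.Flat R (LocalizedModule (E.qB i).primeCompl (D.M i)) := by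
    intro i
    induction i with
    | zero =>
      intro h0
      haveI := D.finiteBA 0 h0
      have h1 := (RG.Dev.flat_point_iff (R := R) (S := S) (S' := S) (C := D.A 0) (G := D.M 0) D.isoN.toLinearMap
        (IsBaseChange.ofEquiv D.isoN) D.surjSA q q (E.qA 0) rfl E.q0).1 hflat
      exact (RG.Dev.flat_point_unique_iff (R' := R) (E.qB 0) (E.qA 0) (hzy 0) (huniq 0 h0)).1 h1
    | succ i ih =>
      intro hi
      haveI := hproj i (by omega)
      haveI := D.finiteBA (i + 1) hi
      have h0 := (RG.Dev.univInj_and_flat_coker (E.qB i) (hle i) (ih (by omega)) (D.α i)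
        (D.fibreIso i (by omega)).1).2
      have h1 := (RG.Dev.flat_point_iff (R := R) (S := D.B i) (S' := D.B i) (C := D.A (i + 1)) (G := D.M (i + 1))
        (D.isoCoker i hi).toLinearMap (IsBaseChange.ofEquiv (D.isoCoker i hi)) (D.surjBA' i hi) (E.qB i) (E.qB i)
        (E.qA (i + 1)) rfl (E.qStep i hi)).1 h0
      exact (RG.Dev.flat_point_unique_iff (R' := R) (E.qB (i + 1)) (E.qA (i + 1)) (hzy (i + 1)) (huniq (i + 1) hi)).1 h1
  have hinj : ∀ i, i < D.n → Function.Injective (D.α i) := fun i hi => by
    haveI := hproj i hi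
    have h := (RG.Dev.univInj_and_flat_coker (E.qB i) (hle i) (hfl i hi) (D.α i) (D.fibreIso i hi).1).1 R
    intro a b hab
    refine (TensorProduct.lid R _).symm.injective (h ?_)
    simp [hab]
  -- finite presentation and splitting, from the last step backwards
  have hback : ∀ k i, i + k + 1 = D.n → Module.FinitePresentation (D.B i) (D.M i) ∧
      Nonempty (D.M i ≃ₗ[R] (∀ j : {j : Fin D.n // i ≤ (j : ℕ)}, Fin (D.r j.1) → D.B j.1)) := by
    intro k
    induction k with
    | zero =>
      intro i hi
      have hsurj : Function.Surjective (D.α i) := by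
        rw [show i = D.n - 1 by omega]; exact D.cokerLast
      let e := LinearEquiv.ofBijective (D.α i) ⟨hinj i (by omega), hsurj⟩
      have hfp : Module.FinitePresentation (D.B i) (D.M i) := Module.FinitePresentation.of_equiv e
      refine ⟨hfp, ?_⟩
      let e' : D.M i ≃ₗ[R] (Fin (D.r i) → D.B i) := e.symm.restrictScalars R
      let j₀ : {j : Fin D.n // i ≤ (j : ℕ)} := ⟨⟨i, by omega⟩, le_rfl⟩
      have huniq' : ∀ j : {j : Fin D.n // i ≤ (j : ℕ)}, j = j₀ := fun j => Subtype.ext (Fin.ext (by
        have := j.1.2; have := j.2; change ((j.1 : Fin D.n) : ℕ) = i; omega))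
      let ev : (∀ j : {j : Fin D.n // i ≤ (j : ℕ)}, Fin (D.r j.1) → D.B j.1) ≃ₗ[R] (Fin (D.r i) → D.B i) :=
        LinearEquiv.ofBijective
          (LinearMap.proj (R := R) (φ := fun j : {j : Fin D.n // i ≤ (j : ℕ)} => Fin (D.r j.1) → D.B j.1) j₀)
          ⟨fun a b h => funext fun j => by obtain rfl := huniq' j; exact h,
            fun p => ⟨fun j => (huniq' j).symm ▸ p, rfl⟩⟩
      exact ⟨e'.trans ev.symm⟩
    | succ k ih =>
      intro i hi
      obtain ⟨hfp, ⟨e'⟩⟩ := ih (i + 1) (by omega)
      haveI := D.finiteBA (i + 1) (by omega)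
      haveI := D.fpBA' i (by omega)
      haveI : Module.Finite (D.B i) (D.A (i + 1)) :=
        Module.Finite.of_surjective (Algebra.linearMap (D.B i) (D.A (i + 1))) (D.surjBA' i (by omega))
      haveI : Module.FinitePresentation (D.B i) (D.A (i + 1)) :=
        Module.FinitePresentation.of_finite_of_finitePresentation _ _
      haveI : Module.FinitePresentation (D.A (i + 1)) (D.M (i + 1)) :=
        RG.Dev.fp_of_restrict_finite (A := D.B (i + 1)) hfp
      haveI : Module.FinitePresentation (D.B i) (D.M (i + 1)) :=
        RG.Dev.fp_restrict_iff.2 (inferInstance : Module.FinitePresentation (D.A (i + 1)) (D.M (i + 1)))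
      haveI : Module.FinitePresentation (D.B i) (D.M i ⧸ LinearMap.range (D.α i)) :=
        Module.FinitePresentation.of_equiv (D.isoCoker i (by omega)).symm
      refine ⟨?_, ?_⟩
      · haveI : Module.FinitePresentation (D.B i) (LinearMap.range (D.α i)) :=
          Module.FinitePresentation.of_equiv (LinearEquiv.ofInjective (D.α i) (hinj i (by omega)))
        haveI : Module.FinitePresentation (D.B i) (LinearMap.ker (LinearMap.range (D.α i)).mkQ) :=
          Module.FinitePresentation.of_equiv (LinearEquiv.ofEq _ _ (Submodule.ker_mkQ _).symm)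
        exact Module.finitePresentation_of_ker (LinearMap.range (D.α i)).mkQ (Submodule.mkQ_surjective _)
      · haveI : ∀ j : Fin D.n, Module.Projective R (D.B j) := fun j => hproj j j.2
        haveI : ∀ j : {j : Fin D.n // i + 1 ≤ (j : ℕ)}, Module.Projective R (Fin (D.r j.1) → D.B j.1) :=
          fun j => RG.Dev.projective_pi _
        haveI : Module.Projective R (∀ j : {j : Fin D.n // i + 1 ≤ (j : ℕ)}, Fin (D.r j.1) → D.B j.1) :=
          RG.Dev.projective_pi _
        haveI : Module.Projective R (D.M (i + 1)) := Module.Projective.of_equiv e'.symm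
        let π : D.M i →ₗ[R] D.M (i + 1) := ((D.isoCoker i (by omega)).toLinearMap.comp
          (LinearMap.range (D.α i)).mkQ).restrictScalars R
        obtain ⟨e⟩ := RG.Dev.exists_split_equiv ((D.α i).restrictScalars R) π (hinj i (by omega))
          (fun x => (LinearEquiv.map_eq_zero_iff _).trans (Submodule.Quotient.mk_eq_zero _))
          ((D.isoCoker i (by omega)).surjective.comp (Submodule.mkQ_surjective _))
        exact ⟨(e.trans ((LinearEquiv.refl R _).prodCongr e')).trans
          (RG.Dev.piInsert (fun j : Fin D.n => Fin (D.r j) → D.B j) i (by omega)).symm⟩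
  obtain ⟨hfp0, ⟨e0⟩⟩ := hback (D.n - 1) 0 (by have := D.pos; omega)
  haveI := D.finiteBA 0 D.pos
  haveI : Module.Finite S (D.A 0) := Module.Finite.of_surjective (Algebra.linearMap S (D.A 0)) D.surjSA
  haveI := D.fpSA
  haveI : Module.FinitePresentation S (D.A 0) := Module.FinitePresentation.of_finite_of_finitePresentation _ _
  haveI : Module.FinitePresentation S (D.M 0) :=
    RG.Dev.fp_restrict_iff.2 (RG.Dev.fp_of_restrict_finite (A := D.B 0) (B := D.A 0) hfp0)
  haveI hNfp : Module.FinitePresentation S N := Module.FinitePresentation.of_equiv D.isoN.symm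
  let e : N ≃ₗ[R] (∀ j : Fin D.n, Fin (D.r j) → D.B j) :=
    ((D.isoN.restrictScalars R).trans e0).trans
      (LinearEquiv.piCongrLeft R (fun j : Fin D.n => Fin (D.r j) → D.B j)
        (Equiv.subtypeUnivEquiv fun j : Fin D.n => Nat.zero_le (j : ℕ)))
  haveI : ∀ j : Fin D.n, Module.Projective R (D.B j) := fun j => hproj j j.2
  haveI : ∀ j : Fin D.n, Module.Projective R (Fin (D.r j) → D.B j) := fun j => RG.Dev.projective_pi _
  haveI : Module.Projective R (∀ j : Fin D.n, Fin (D.r j) → D.B j) := RG.Dev.projective_pi _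
  haveI : Module.Projective R N := Module.Projective.of_equiv e.symm
  exact ⟨hNfp, Kaplansky.free_of_countablyGenerated
    (RG.Pure.isCountablyGenerated_of_finiteType (A := R) (B := S) N), ⟨e⟩⟩

end Groth.Agent.S1253
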