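import Groth.Statements.S12532
import Groth.Agent.FunFld.PlaneGenus

set_option autoImplicit false
open FunFld

namespace Groth.Agent.S12532

/-- Over an algebraically closed field `k`, let `φ = (φ₀, …, φₙ)`, `n ≥ 1`, be a birational projective
map of the function field `K/k` and `P` a place with image point `a = φ(P)`. Then for some `N`,
every `z ∈ K` with `ord_Q z ≥ N` at all places `Q` over `a` belongs to the local ring `O_a` of `φ`
at `P` (quotients of polynomials in the ratios `φᵢ/φⱼ` with denominator a unit at `P`). (The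
published statement asserts that each nonzero ideal of `O_a` includes some nonzero ideal of the
integral closure `R_a`, with `R_a/I` finite-dimensional; this row states the inclusion the printed
proof establishes, from which those follow.) -/
theorem result (k K : Type*) [Field k] [IsAlgClosed k] [Field K] [Algebra k K]
    (hK : FunFld.IsFunctionField k K) {n : ℕ} (hn : 1 ≤ n)
    (φ : Fin (n + 1) → K) (hφ : LinearIndependent k φ)
    (hbir : IntermediateField.adjoin k (Set.range fun i => φ i / φ 0) = ⊤) (P : FunFld.Place k K) :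
    ∃ N : ℕ, ∀ z : K, (∀ Q : FunFld.Place k K, FunFld.SameImage φ P Q → Q.1 z ≤ WithZero.exp (-(N : ℤ))) →
      FunFld.InLocRing φ P z := by
  classical
  have h0 := fun i => hφ.ne_zero i
  obtain ⟨j, -, hj⟩ := Groth.Agent.FunFld.exists_least hK φ h0 P
  set r : Fin (n + 1) → K := fun i => φ i / φ j with hr
  set R := Algebra.adjoin k (Set.range r) with hR
  have hrR : ∀ i, r i ∈ R := fun i => Algebra.subset_adjoin ⟨i, rfl⟩
  -- a non-constant ratio
  have : Nontrivial (Fin (n + 1)) := Fin.nontrivial_iff_two_le.2 (by omega)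
  obtain ⟨i₀, hi₀⟩ := exists_ne j
  have hg : Transcendental k (r i₀) := Groth.Agent.FunFld.transcendental_of_not_mem hK fun ⟨c, hc⟩ => by
    have e1 : φ i₀ = c • φ j := by
      rw [Algebra.smul_def, hc, hr]
      exact (div_mul_cancel₀ _ (h0 j)).symm
    exact linearIndependent_iff_notMem_span.1 hφ i₀ (e1 ▸ Submodule.smul_mem _ c (Submodule.subset_span
      ⟨j, ⟨Set.mem_univ j, fun e => hi₀ e.symm⟩, rfl⟩))
  -- `t` has poles at all poles of the ratios
  obtain ⟨t, htR, ht, hts⟩ := Groth.Agent.FunFld.exists_poles_at hK (A := R) (hrR i₀) hg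
    ((Set.finite_iUnion fun i => Groth.Agent.FunFld.finite_support hK (r i)).toFinset.filter fun Q => ∃ i, 1 < Q.1 (r i))
    (fun Q hQ => by
      obtain ⟨i, hi⟩ := (Finset.mem_filter.1 hQ).2
      exact ⟨r i, hrR i, hi⟩)
  have haff : ∀ Q : FunFld.Place k K, Q.1 t ≤ 1 → ∀ i, Q.1 (r i) ≤ 1 := by
    intro Q hQ i
    by_contra hcon
    refine absurd (hts Q (Finset.mem_filter.2 ⟨?_, i, not_le.1 hcon⟩)) (not_lt.2 hQ)
    rw [Set.Finite.mem_toFinset, Set.mem_iUnion]
    refine ⟨i, fun e => hcon ?_⟩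
    rw [Groth.Agent.FunFld.val_eq_exp Q (div_ne_zero (h0 i) (h0 j)), show Q.ord (r i) = 0 from e, neg_zero, WithZero.exp_zero]
  -- a multiplier `W`
  have hgen : IntermediateField.adjoin k (Set.range r) = ⊤ := by
    rw [eq_top_iff, ← hbir, IntermediateField.adjoin_le_iff]
    rintro _ ⟨i, rfl⟩
    show φ i / φ 0 ∈ IntermediateField.adjoin k (Set.range r)
    rw [← div_div_div_cancel_right₀ (h0 j)]
    exact div_mem (IntermediateField.subset_adjoin _ _ ⟨i, rfl⟩) (IntermediateField.subset_adjoin _ _ ⟨0, rfl⟩)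
  have hfrac : ∀ f : K, ∃ w ∈ R, f * w ∈ R ∧ w ≠ 0 := by
    intro f
    have hf : f ∈ IntermediateField.adjoin k (Set.range r) := by rw [hgen]; exact IntermediateField.mem_top
    obtain ⟨u, hu, w, hw, rfl⟩ := IntermediateField.mem_adjoin_iff_div.1 hf
    rcases eq_or_ne w 0 with rfl | hw0
    · exact ⟨1, one_mem _, by simp, one_ne_zero⟩
    · exact ⟨w, hw, by rw [div_mul_cancel₀ _ hw0]; exact hu, hw0⟩
  choose d hdR hdf hd0 using hfrac
  obtain ⟨M, hM⟩ := Groth.Agent.FunFld.L_le_of_stable hK ht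
  have := Groth.Agent.FunFld.L_finite hK (M • Groth.Agent.FunFld.poles k t)
  obtain ⟨G, hG⟩ := (Submodule.fg_iff_finiteDimensional (FunFld.L (M • Groth.Agent.FunFld.poles k t))).2 this
  set W := ∏ f ∈ G, d f with hW
  have hW0 : W ≠ 0 := Finset.prod_ne_zero_iff.2 fun f _ => hd0 f
  have hmult : ∀ m : ℕ, ∀ x ∈ FunFld.L (m • Groth.Agent.FunFld.poles k t), W * x ∈ R := by
    refine fun m x hx => hM (R.toSubmodule.comap (LinearMap.mulLeft k W)) ?_ (fun y hy => ?_) m hx
    · rw [← hG, Submodule.span_le]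
      intro f hf
      show W * f ∈ R
      rw [hW, ← Finset.mul_prod_erase _ _ hf, mul_right_comm, mul_comm (d f)]
      exact mul_mem (hdf f) (prod_mem fun g _ => hdR g)
    · show W * (t * y) ∈ R
      rw [mul_left_comm]
      exact mul_mem htR hy
  refine ⟨∑ Q ∈ (Groth.Agent.FunFld.finite_support hK W).toFinset, (Q.ord W).natAbs, fun z hz => ?_⟩
  set y := z / W with hy
  have hfib : ∀ Q : FunFld.Place k K, FunFld.SameImage φ P Q → Q.1 y ≤ 1 := by
    intro Q hQ
    rw [hy, map_div₀]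
    refine div_le_one_of_le₀ ((hz Q hQ).trans ?_) zero_le
    rw [Groth.Agent.FunFld.val_eq_exp Q hW0, WithZero.exp_le_exp]
    rcases eq_or_ne (Q.ord W) 0 with h | h
    · rw [h]; omega
    · have := Finset.single_le_sum (f := fun R : FunFld.Place k K => (R.ord W).natAbs)
        (fun _ _ => Nat.zero_le _) ((Groth.Agent.FunFld.finite_support hK W).mem_toFinset.2 h)
      omega
  -- kill the poles of `y` away from the fibre
  have hsep : ∀ Q : FunFld.Place k K, Q.1 t ≤ 1 → 1 < Q.1 y → ∃ w ∈ R, P.1 w = 1 ∧ Q.1 w < 1 := by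
    intro Q hQ hQy
    by_contra hcon
    push Not at hcon
    refine absurd (hfib Q ⟨j, h0 j, hj, fun i => ?_, fun i => ?_⟩) (not_le.2 hQy)
    · have h1 := haff Q hQ i
      rwa [hr, map_div₀, div_le_one₀ (zero_lt_iff.2 (Q.1.ne_zero_iff.2 (h0 j)))] at h1
    · obtain ⟨c, hc⟩ := Groth.Agent.FunFld.exists_const hK Q (haff Q hQ i)
      refine ⟨c, ?_, hc⟩
      by_contra hP
      have hle : P.1 (r i - algebraMap k K c) ≤ 1 :=
        (P.1.map_sub _ _).trans (max_le (Groth.Agent.FunFld.ratio_val_le (h0 j) hj i) (P.2.1 c))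
      exact absurd hc (not_lt.2 (hcon _ (sub_mem (hrR i) (Subalgebra.algebraMap_mem _ c))
        (le_antisymm hle (not_lt.1 hP))))
  choose w hwR hwP hwQ using hsep
  set bad := (Groth.Agent.FunFld.finite_support hK y).toFinset.filter (fun Q => Q.1 t ≤ 1 ∧ 1 < Q.1 y) with hbad
  let v : K := ∏ Q : bad, w Q.1 (Finset.mem_filter.1 Q.2).2.1 (Finset.mem_filter.1 Q.2).2.2 ^ (Q.1.ord y).natAbs
  have hvR : v ∈ R := prod_mem fun Q _ => pow_mem (hwR _ _ _) _
  have hvP : P.1 v = 1 := by
    rw [map_prod]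
    exact Finset.prod_eq_one fun Q _ => by rw [map_pow, hwP, one_pow]
  have hRaff : ∀ Q : FunFld.Place k K, Q.1 t ≤ 1 → ∀ a ∈ R, Q.1 a ≤ 1 := fun Q hQ a ha =>
    Groth.Agent.FunFld.adjoin_le_valAlg (haff Q hQ) ha
  obtain ⟨m, hm⟩ := Groth.Agent.FunFld.exists_mem_L_nsmul hK ht (z := v * y) fun Q hQ => by
    rcases le_or_gt (Q.1 y) 1 with h | h
    · rw [map_mul]; exact mul_le_one' (hRaff Q hQ v hvR) h
    have hy0 : y ≠ 0 := fun e => by simp [e] at h
    have hQbad : Q ∈ bad := Finset.mem_filter.2 ⟨(Groth.Agent.FunFld.finite_support hK y).mem_toFinset.2 fun e => by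
      rw [Groth.Agent.FunFld.val_eq_exp Q hy0, show Q.ord y = 0 from e] at h
      simp at h, hQ, h⟩
    rw [map_mul]
    have h1 : Q.1 v ≤ Q.1 (w Q hQ h) ^ (Q.ord y).natAbs := by
      simp only [v]
      rw [← Finset.mul_prod_erase _ _ (Finset.mem_univ (⟨Q, hQbad⟩ : bad)), map_mul, map_pow]
      exact mul_le_of_le_one_right' (hRaff Q hQ _ (prod_mem fun Q' _ => pow_mem (hwR _ _ _) _))
    refine (mul_le_mul' (h1.trans (pow_le_pow_left' ((Groth.Agent.FunFld.lt_one_iff_le Q).1 (hwQ Q hQ h)) _)) le_rfl).trans ?_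
    rw [Groth.Agent.FunFld.val_eq_exp Q hy0, ← WithZero.exp_nsmul, ← WithZero.exp_add, ← WithZero.exp_zero,
      WithZero.exp_le_exp, nsmul_eq_mul]
    omega
  refine (Groth.Agent.FunFld.inLocRing_iff (h0 j) hj).2 ⟨W * (v * y), hmult m _ hm, v, hvR, hvP, ?_⟩
  rw [hy, mul_left_comm, mul_div_cancel₀ _ hW0, mul_comm]

end Groth.Agent.S12532
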