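import Groth.Statements.S12536
import Groth.Agent.DualGeneric.Basic
import Groth.Agent.TopDegRep.Basic
import Groth.Agent.QC.Local
import Groth.Agent.QC.Localisation
-- import your own Groth.Agent.* helpers here

set_option autoImplicit false
set_option backward.isDefEq.respectTransparency false
set_option backward.isDefEq.respectTransparency.types false
set_option maxHeartbeats 1000000
universe u
open CategoryTheory CategoryTheory.Limits AlgebraicGeometry Opposite
attribute [local instance] HasDerivedCategory.standard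
open Dual3

namespace Groth.Agent.S12536

/-- Let `X` be proper and reduced over a field `k`, of pure dimension `1`, with dualizing module `ω =
H^{-1}(a(O))` (`a` right adjoint to `Rf_*` on `D_QCoh`, `O` the structure sheaf of `Spec k` in
degree `0`), and let `U ⊆ X` be an open subscheme containing every non-closed point. Then `ω →
j_*(ω|_U)` is injective: for every open `V`, restriction of sections `ω(V) → ω(V ∩ U)` is injective.
(The published statement takes `U` to be the dense open smooth locus of a generically smooth `X`;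
this row allows any open `U` containing the generic points, which is what the printed proof uses:
the kernel is supported at finitely many closed points.) -/
theorem result (k : Type u) [Field k] (X : Scheme.{u}) (f : X ⟶ Spec (CommRingCat.of k))
    [IsProper f] [IsReduced X]
    (hdim : ∀ Z ∈ irreducibleComponents X, topologicalKrullDim ↥Z = (1 : WithBot ℕ∞))
    [DCoh.HasRpush f] (hf : DCoh.RpushPreservesQCoh f)
    (a : DCoh.DQCoh (Spec (CommRingCat.of k)) ⥤ DCoh.DQCoh X) (adj : DCoh.RpushQ f hf ⊣ a)
    (O : DCoh.DQCoh (Spec (CommRingCat.of k)))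
    (hO : Nonempty (O.obj ≅ DCoh.inD (Spec (CommRingCat.of k)) (Coh.structureModule (Spec (CommRingCat.of k)))))
    (U : X.Opens) (hU : ∀ x : X, ¬ IsClosed ({x} : Set X) → x ∈ U) (V : X.Opens) :
    Function.Injective ((DCoh.HD (a.obj O).obj (-(1 : ℤ))).presheaf.map (homOfLE (inf_le_left : V ⊓ U ≤ V)).op) := by
  letI : X.Over (Spec (CommRingCat.of k)) := ⟨f⟩
  haveI : IsProper (X ↘ Spec (CommRingCat.of k)) := ‹IsProper f›
  haveI := Groth.Agent.DCohShriek.isNoetherian_of_proper f
  obtain ⟨eO⟩ := hO
  haveI : DCoh.HasRpush (X ↘ Spec (CommRingCat.of k)) := ‹DCoh.HasRpush f›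
  obtain ⟨t, ht⟩ := Groth.Agent.DCohShriek.exists_isRDual k (X := X) (hf := hf) adj O eO 1
    (Groth.Agent.TopDegRep.topologicalKrullDim_le_of_components X 1 hdim)
  have hω : Coh.IsCoh (DCoh.HD (a.obj O).obj (-(1 : ℤ))) :=
    Groth.Agent.DCohShriek.isCoh_dualModule k (X := X) (hf := hf) adj O eO _
  revert ht t hω
  generalize DCoh.HD (a.obj O).obj (-(1 : ℤ)) = ω
  intro t ht hω
  let η := (Scheme.Modules.restrictAdjunction U.ι).unit.app ω
  haveI : IsLocallyNoetherian (U : Scheme.{u}) := isLocallyNoetherian_of_isOpenImmersion U.ι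
  have hω' : Coh.IsQCoh ((Scheme.Modules.restrictFunctor U.ι).obj ω) :=
    Groth.Agent.QC.isQCoh_restrict (f := U.ι) hω.1
  have hK : Coh.IsCoh (kernel η) :=
    Groth.Agent.QC.isCoh_kernel hω (Groth.Agent.QC.isQCoh_pushforward (hM := hω') U.ι) η
  have happ : ∀ (W : X.Opens) (s : Γ(ω, W)), η.app W s = 0 →
      ω.presheaf.map (homOfLE (U.ι.image_preimage_le W)).op s = 0 := fun W s h => h
  have hUK : ∀ x ∈ U, Subsingleton ((kernel η).presheaf.stalk x) := fun x hx => by
    refine subsingleton_of_forall_eq 0 fun z => ?_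
    obtain ⟨W, hxW, s, rfl⟩ := TopCat.Presheaf.exists_germ_eq (kernel η).presheaf z
    refine Groth.Agent.W7Hull.st_injective (kernel.ι η) x ?_
    rw [Groth.Agent.W7Hull.st_germ, map_zero]
    have hmem : x ∈ U.ι ''ᵁ (U.ι ⁻¹ᵁ W) := ⟨⟨x, hx⟩, hxW, rfl⟩
    have h0 := happ W ((kernel.ι η).app W s) (by
      have h1 := congrArg (fun g : kernel η ⟶ _ => g.app W s) (kernel.condition η)
      exact h1)
    exact (TopCat.Presheaf.germ_res_apply ω.presheaf (homOfLE (U.ι.image_preimage_le W)) x hmem _).symm.trans
      ((congrArg _ h0).trans (map_zero _))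
  have hpts : ∀ x ∈ CohB1.support (kernel η), IsClosed ({x} : Set X) := fun x hx => by
    by_contra hc
    exact hx (hUK x (hU x hc))
  let Z := CohB1.support (kernel η)
  have hZ : IsClosed Z := Groth.Agent.QC.isClosed_support hK.2
  have hdimZ : topologicalKrullDim ↥Z ≤ ((0 : ℕ) : WithBot ℕ∞) := by
    refine iSup_le fun p => ?_
    rcases Nat.eq_zero_or_pos p.length with hl | hl
    · rw [hl]
    exfalso
    have hlt : p ⟨0, by omega⟩ < p ⟨1, by omega⟩ := p.strictMono (show (⟨0, by omega⟩ : Fin (p.length + 1)) < ⟨1, by omega⟩ from Nat.zero_lt_one)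
    revert hlt
    generalize p ⟨0, by omega⟩ = A
    generalize p ⟨1, by omega⟩ = B
    intro hlt
    haveI : QuasiSober ↥Z := hZ.isClosedEmbedding_subtypeVal.quasiSober
    obtain ⟨g, hg⟩ := QuasiSober.sober B.isIrreducible B.isClosed
    obtain ⟨b, hb⟩ := A.isIrreducible.nonempty
    have hsing : (B : Set ↥Z) = {g} := by
      rw [← hg.def]
      exact IsClosed.closure_eq (by
        convert (hpts g.val g.property).preimage continuous_subtype_val
        ext y
        simp [Subtype.ext_iff])
    have hle : (A : Set ↥Z) ⊆ (B : Set ↥Z) := SetLike.coe_subset_coe.2 hlt.le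
    refine hlt.ne (TopologicalSpace.IrreducibleCloseds.ext (le_antisymm hle fun y hy => ?_))
    rw [hsing] at hy hle
    rw [hy, ← hle hb]
    exact hb
  have hvan : Subsingleton (Coh.HH X (kernel η) 1) :=
    Groth.Agent.FibVan.subsingleton_hh_of_supported hZ 0 hdimZ (kernel η) (fun x hx => hx) 1 Nat.one_pos
  have hι : kernel.ι η = 0 := (ht.2 _ hK.1).1 (LinearMap.ext fun x => by
    rw [hvan.elim x 0, map_zero, map_zero])
  haveI : Mono η := Preadditive.mono_of_kernel_zero hι
  haveI := Functor.map_mono (Scheme.Modules.toPresheaf X) η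
  have hinj : Function.Injective (η.app V) := (AddCommGrpCat.mono_iff_injective _).1
    ((NatTrans.mono_iff_mono_app ((Scheme.Modules.toPresheaf X).map η)).1 inferInstance (op V))
  intro s s' hs
  refine hinj ?_
  have hle : U.ι ''ᵁ (U.ι ⁻¹ᵁ V) ≤ V ⊓ U := by
    rintro z ⟨w, hw, rfl⟩
    exact ⟨hw, w.2⟩
  show ω.presheaf.map (homOfLE (U.ι.image_preimage_le V)).op s = ω.presheaf.map (homOfLE (U.ι.image_preimage_le V)).op s'
  have hf' : (homOfLE (U.ι.image_preimage_le V)).op = (homOfLE (inf_le_left : V ⊓ U ≤ V)).op ≫ (homOfLE hle).op :=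
    Subsingleton.elim _ _
  rw [hf', Functor.map_comp]
  exact congrArg (fun q => ω.presheaf.map (homOfLE hle).op q) hs

end Groth.Agent.S12536
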