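import Groth.Statements.S5364
import Groth.Agent.ClosedRep.Preimage
import Groth.Agent.GrpField.SchImg
import Mathlib

set_option autoImplicit false
universe u
open CategoryTheory CategoryTheory.Limits MonoidalCategory CartesianMonoidalCategory MonObj GrpObj AlgebraicGeometry
open SGA3

namespace Groth.Agent.S5364

/-- Let G be a group scheme over a field k and a : A → G, b : B → G two closed subgroup schemes which
are geometrically reduced over k and normal in G. Let i : Γ → G be the commutator subgroup scheme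
(A, B): the smallest closed subgroup scheme of G through which the morphism A ×_k B → G, (x, y) ↦
a(x) b(y) a(x)⁻¹ b(y)⁻¹, factors. Then Γ is normal in G. (The published statement also covers
characteristic subgroups; this row states the case of normal subgroups only.) -/
theorem result (k : Type u) [Field k] (G A B : Over (Spec (CommRingCat.of k))) [GrpObj G] [GrpObj A] [GrpObj B]
    (a : A ⟶ G) [IsMonHom a] [IsClosedImmersion a.left] (b : B ⟶ G) [IsMonHom b] [IsClosedImmersion b.left]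
    [GeometricallyReduced A.hom] [GeometricallyReduced B.hom] (hA : AlgGrp.IsNormalHom a) (hB : AlgGrp.IsNormalHom b)
    (Γ : Over (Spec (CommRingCat.of k))) [GrpObj Γ] (i : Γ ⟶ G) [IsMonHom i] [IsClosedImmersion i.left]
    (hf : ∃ f' : A ⊗ B ⟶ Γ, f' ≫ i = (((fst A B) ≫ a) * ((snd A B) ≫ b) * ((fst A B) ≫ a)⁻¹ * ((snd A B) ≫ b)⁻¹))
    (hmin : ∀ (Γ' : Over (Spec (CommRingCat.of k))) (_ : GrpObj Γ') (i' : Γ' ⟶ G), IsMonHom i' → IsClosedImmersion i'.left →
        (∃ f'' : A ⊗ B ⟶ Γ', f'' ≫ i' = (((fst A B) ≫ a) * ((snd A B) ≫ b) * ((fst A B) ≫ a)⁻¹ * ((snd A B) ≫ b)⁻¹)) → ∃ j : Γ ⟶ Γ', j ≫ i' = i) :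
    AlgGrp.IsNormalHom i := by
  let c : A ⊗ B ⟶ G := ((fst A B) ≫ a) * ((snd A B) ≫ b) * ((fst A B) ≫ a)⁻¹ * ((snd A B) ≫ b)⁻¹
  obtain ⟨W, w, hw, hW⟩ := ClosedRep.exists_closed_preimage (fst G G * snd G G * (fst G G)⁻¹) i
    (ClosedRep.isLocFree_of_field k G.hom)
  have hW' : ∀ {T : Over (Spec (CommRingCat.of k))} (x : T ⟶ G), (∃ z, z ≫ w = x) ↔
      ∀ (T'' : Over (Spec (CommRingCat.of k))) (t : T'' ⟶ T) (g : T'' ⟶ G),
        ∃ n, g * (t ≫ x) * g⁻¹ = n ≫ i := by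
    intro T x
    rw [hW]
    simp only [MonObj.comp_mul, GrpObj.comp_inv, lift_fst, lift_snd]
  haveI := hw
  obtain ⟨hWg, hWm⟩ := GrpField.SchImg.exists_grpObj_of_div w
    (by
      rw [hW']
      intro T'' t g
      refine ⟨1, ?_⟩
      rw [MonObj.one_comp, show t ≫ η[G] = (1 : T'' ⟶ G) from by
        rw [Hom.one_def, toUnit_unique (toUnit T'') t], _root_.mul_one, mul_inv_cancel])
    (fun T k₁ k₂ => by
      rw [hW']
      intro T'' t g
      obtain ⟨n₁, h₁⟩ := (hW' (k₁ ≫ w)).1 ⟨k₁, rfl⟩ T'' t g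
      obtain ⟨n₂, h₂⟩ := (hW' (k₂ ≫ w)).1 ⟨k₂, rfl⟩ T'' t g
      refine ⟨n₁⁻¹ * n₂, ?_⟩
      rw [MonObj.mul_comp, GrpObj.inv_comp, ← h₁, ← h₂, MonObj.comp_mul, GrpObj.comp_inv]
      group)
  obtain ⟨z, hz⟩ := (hW' c).2 fun T'' t g => by
    obtain ⟨a', ha'⟩ := hA T'' g (t ≫ fst A B)
    obtain ⟨b', hb'⟩ := hB T'' g (t ≫ snd A B)
    obtain ⟨f', hf'⟩ := hf
    refine ⟨lift a' b' ≫ f', ?_⟩
    rw [Category.assoc, hf']
    simp only [c, MonObj.comp_mul, GrpObj.comp_inv, lift_fst_assoc, lift_snd_assoc, ← ha', ← hb',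
      Category.assoc]
    group
  obtain ⟨j, hj⟩ := hmin W hWg w hWm hw ⟨z, hz⟩
  intro T g n
  obtain ⟨n', hn'⟩ := (hW' (n ≫ i)).1 ⟨n ≫ j, by rw [Category.assoc, hj]⟩ T (𝟙 T) g
  exact ⟨n', by rw [Category.id_comp] at hn'; exact hn'⟩

end Groth.Agent.S5364
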