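import Groth.Statements.S5365
import Groth.Agent.GrpComp.Identity

set_option autoImplicit false
universe u
open CategoryTheory CategoryTheory.Limits MonoidalCategory CartesianMonoidalCategory MonObj GrpObj AlgebraicGeometry
open SGA3

namespace Groth.Agent.S5365

/-- Let G be a group scheme locally of finite type over a field k, a : A → G and b : B → G two closed
subgroup schemes which are geometrically reduced over k, and i : Γ → G the commutator subgroup
scheme (A, B), the smallest closed subgroup scheme through which (x, y) ↦ a(x) b(y) a(x)⁻¹ b(y)⁻¹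
factors. Suppose either (a) A and B are normal in G and of finite type over k, or (b) A is connected
and B is of finite type over k. Then Γ is of finite type over k, and in case (b) Γ is connected.
(The published statement also asserts that this subgroup represents the fppf sheaf generated by
commutators and describes its neutral component; this row states only the finiteness and
connectedness assertions.) -/
theorem result (k : Type u) [Field k] (G A B : Over (Spec (CommRingCat.of k))) [GrpObj G] [GrpObj A] [GrpObj B]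
    [LocallyOfFiniteType G.hom]
    (a : A ⟶ G) [IsMonHom a] [IsClosedImmersion a.left] (b : B ⟶ G) [IsMonHom b] [IsClosedImmersion b.left]
    [GeometricallyReduced A.hom] [GeometricallyReduced B.hom] [QuasiCompact B.hom]
    (hcase : (AlgGrp.IsNormalHom a ∧ AlgGrp.IsNormalHom b ∧ QuasiCompact A.hom) ∨ ConnectedSpace A.left)
    (Γ : Over (Spec (CommRingCat.of k))) [GrpObj Γ] (i : Γ ⟶ G) [IsMonHom i] [IsClosedImmersion i.left]
    (hf : ∃ f' : A ⊗ B ⟶ Γ, f' ≫ i = (((fst A B) ≫ a) * ((snd A B) ≫ b) * ((fst A B) ≫ a)⁻¹ * ((snd A B) ≫ b)⁻¹))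
    (hmin : ∀ (Γ' : Over (Spec (CommRingCat.of k))) (_ : GrpObj Γ') (i' : Γ' ⟶ G), IsMonHom i' → IsClosedImmersion i'.left →
        (∃ f'' : A ⊗ B ⟶ Γ', f'' ≫ i' = (((fst A B) ≫ a) * ((snd A B) ≫ b) * ((fst A B) ≫ a)⁻¹ * ((snd A B) ≫ b)⁻¹)) → ∃ j : Γ ⟶ Γ', j ≫ i' = i) :
    QuasiCompact Γ.hom ∧ (ConnectedSpace A.left → ConnectedSpace Γ.left) := by
  have hconn : ConnectedSpace A.left → CompactSpace Γ.left ∧ ConnectedSpace Γ.left := by
    intro hA
    obtain ⟨f', hf'⟩ := hf
    obtain ⟨G₀, hG₀, incl, hincl, hcl, hflat, hr, -, hG₀c, -⟩ :=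
      Groth.Agent.GrpComp.exists_identity_subgroup Γ
    have hAgi : GeometricallyIrreducible A.hom := by
      simpa using Groth.Agent.GrpComp.geometricallyIrreducible_of_range A (𝟙 A.left)
        (by simp [PreconnectedSpace.connectedComponent_eq_univ])
    have : UniversallyOpen A.hom := inferInstance
    let p : (A ⊗ B).left ⟶ B.left := pullback.snd A.hom B.hom
    haveI : GeometricallyIrreducible p := inferInstanceAs (GeometricallyIrreducible (pullback.snd A.hom B.hom))
    haveI : UniversallyOpen p := inferInstanceAs (UniversallyOpen (pullback.snd A.hom B.hom))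
    let s : B ⟶ A ⊗ B := lift (1 : B ⟶ A) (𝟙 B)
    have hs : s ≫ f' = (1 : B ⟶ Γ) := by
      have : Mono i := Over.mono_of_mono_left i
      rw [← cancel_mono i, Category.assoc, hf']
      simp [s, MonObj.comp_mul, GrpObj.comp_inv, MonObj.one_comp]
    have hrange : Set.range f'.left ⊆ Set.range incl.left := by
      rintro - ⟨z, rfl⟩
      rw [hr]
      have hirr : IsIrreducible (p ⁻¹' {p z}) := p.isIrreducible_preimage p.isOpenMap isIrreducible_singleton
      have he : Groth.Agent.GrpComp.ept Γ ∈ f'.left '' (p ⁻¹' {p z}) := by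
        refine ⟨s.left (p z), ?_, ?_⟩
        · have h : s.left ≫ p = 𝟙 _ := congrArg CommaMorphism.left (lift_snd (1 : B ⟶ A) (𝟙 B))
          show p (s.left (p z)) = p z
          rw [← Scheme.Hom.comp_apply, h]
          rfl
        · rw [← Scheme.Hom.comp_apply, ← Over.comp_left, hs]
          haveI : Subsingleton (Spec (CommRingCat.of k)) := inferInstanceAs (Subsingleton (PrimeSpectrum k))
          exact congrArg η[Γ].left (Subsingleton.elim (α := Spec (CommRingCat.of k)) _ _)
      exact (hirr.isConnected.image _ f'.left.continuous.continuousOn).subset_connectedComponent he ⟨z, rfl, rfl⟩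
    obtain ⟨g, hg⟩ := Groth.Agent.GrpComp.exists_factor_flat incl.left f'.left hrange
    let f'' : A ⊗ B ⟶ G₀ := Over.homMk g (by rw [← Over.w incl, reassoc_of% hg]; exact Over.w f')
    have hf'' : f'' ≫ incl = f' := Over.OverMorphism.ext hg
    haveI : IsMonHom (incl ≫ i) := inferInstance
    obtain ⟨j, hj⟩ := hmin G₀ hG₀ (incl ≫ i) inferInstance (inferInstanceAs (IsClosedImmersion (incl.left ≫ i.left)))
      ⟨f'', by rw [reassoc_of% hf'', hf']⟩
    have : Mono i := Over.mono_of_mono_left i
    have hji : j ≫ incl = 𝟙 Γ := by rw [← cancel_mono i, Category.assoc, hj, Category.id_comp]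
    have hsurj : Function.Surjective incl.left := fun x => ⟨j.left x, by
      rw [← Scheme.Hom.comp_apply, ← Over.comp_left, hji]; rfl⟩
    refine ⟨hsurj.compactSpace incl.left.continuous, connectedSpace_iff_connectedComponent.2 ⟨Groth.Agent.GrpComp.ept Γ, ?_⟩⟩
    rw [← hr, hsurj.range_eq]
  refine ⟨?_, fun hA => (hconn hA).2⟩
  rcases hcase with ⟨ha, -, hAq⟩ | hA
  · obtain ⟨n', hn'⟩ := ha (A ⊗ B) (snd A B ≫ b) (fst A B)⁻¹
    obtain ⟨j, hj⟩ := hmin A ‹_› a inferInstance inferInstance ⟨fst A B * n', by
      rw [MonObj.mul_comp, ← hn', GrpObj.inv_comp]; group⟩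
    haveI : IsClosedImmersion (j.left ≫ a.left) := by rw [← Over.comp_left, hj]; infer_instance
    haveI : IsClosedImmersion j.left := IsClosedImmersion.of_comp j.left a.left
    rw [← Over.w j]
    infer_instance
  · exact (quasiCompact_iff_compactSpace _).2 (hconn hA).1

end Groth.Agent.S5365
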