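import Groth.Statements.S1254
import Groth.Agent.RG.Dev.Spread

set_option autoImplicit false
open Groth.Agent
open TensorProduct
universe u
open FlatMor

namespace Groth.Agent.S1254

set_option maxHeartbeats 2000000 in
/-- Let S be a finitely presented R-algebra, N a finitely presented S-module which is flat over R, and 𝔯
a prime of R such that N/S/R admits a complete dévissage over 𝔯. Then for some f ∈ R outside 𝔯 the
localization N_f is projective over R_f, and is R_f-isomorphic to a finite product of free modules
B_i^{r_i} over smooth R_f-algebras B_i whose fibres are geometrically irreducible. -/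
theorem result {R S : Type u} [CommRing R] [CommRing S] [Algebra R S] [Algebra.FinitePresentation R S]
    (N : Type u) [AddCommGroup N] [Module S N] [Module R N] [IsScalarTower R S N] [Module.FinitePresentation S N] [Module.Flat R N]
    (rr : Ideal R) [rr.IsPrime] (D : FlatCA.CompleteDevissage R S N rr) :
    ∃ f : R, f ∉ rr ∧
      Module.Projective (Localization.Away f) (LocalizedModule (Submonoid.powers f) N) ∧
      ∃ (k : ℕ) (B : Fin k → Type u) (_ : ∀ i, CommRing (B i)) (_ : ∀ i, Algebra (Localization.Away f) (B i)) (r : Fin k → ℕ),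
        (∀ i, Algebra.Smooth (Localization.Away f) (B i) ∧ FlatCA.GeomIrredFibres (Localization.Away f) (B i)) ∧
        Nonempty (LocalizedModule (Submonoid.powers f) N ≃ₗ[Localization.Away f] (∀ i, Fin (r i) → B i)) := by
  classical
  haveI : ∀ i, IsScalarTower R (D.A i) (D.M i) := fun i => IsScalarTower.of_algebraMap_smul fun r x => by
    rw [IsScalarTower.algebraMap_apply R (D.B i) (D.A i), algebraMap_smul, algebraMap_smul]
  haveI : ∀ i, IsScalarTower R (D.B i) (D.M (i + 1)) := fun i => IsScalarTower.of_algebraMap_smul fun r x => by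
    rw [← algebraMap_smul (D.A (i + 1)) (algebraMap R (D.B i) r) x,
      ← IsScalarTower.algebraMap_apply R (D.B i) (D.A (i + 1)), algebraMap_smul]
  haveI : IsScalarTower R S (D.M 0) := IsScalarTower.of_algebraMap_smul fun r x => by
    rw [← algebraMap_smul (D.A 0) (algebraMap R S r) x, ← IsScalarTower.algebraMap_apply R S (D.A 0),
      algebraMap_smul]
  have hproj : ∀ i, i < D.n → Module.Projective R (D.B i) := fun i hi =>
    haveI := D.smooth i hi
    RG.Dev.projective_of_smooth_geomIrred (D.geomIrred i hi)
  have hprojX : ∀ i, i < D.n → Module.Projective R (Fin (D.r i) → D.B i) := fun i hi =>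
    haveI := hproj i hi
    RG.Dev.projective_pi _
  -- finite presentation of the modules
  have hfp : ∀ i, i < D.n → Algebra.FinitePresentation R (D.A i) ∧ Module.FinitePresentation (D.B i) (D.M i) := by
    intro i
    induction i with
    | zero =>
      intro h0
      haveI := D.smooth 0 h0
      haveI := D.finiteBA 0 h0
      haveI := D.fpSA
      haveI : Module.Finite S (D.A 0) := Module.Finite.of_surjective (Algebra.linearMap S (D.A 0)) D.surjSA
      haveI : Module.FinitePresentation S (D.A 0) := Module.FinitePresentation.of_finite_of_finitePresentation _ _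
      haveI hA : Algebra.FinitePresentation R (D.A 0) := Algebra.FinitePresentation.trans R S (D.A 0)
      haveI : Algebra.FinitePresentation (D.B 0) (D.A 0) :=
        Algebra.FinitePresentation.of_restrict_scalars_finitePresentation R (D.B 0) (D.A 0)
      haveI : Module.FinitePresentation (D.B 0) (D.A 0) := Module.FinitePresentation.of_finite_of_finitePresentation _ _
      haveI : Module.FinitePresentation S (D.M 0) := Module.FinitePresentation.of_equiv D.isoN
      haveI : Module.FinitePresentation (D.A 0) (D.M 0) := RG.Dev.fp_of_restrict_finite (A := S) inferInstance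
      exact ⟨hA, Module.FinitePresentation.trans (D.B 0) (D.M 0) (D.A 0)⟩
    | succ i ih =>
      intro hi
      obtain ⟨-, hM⟩ := ih (by omega)
      haveI := hM
      haveI := D.smooth i (by omega)
      haveI := D.smooth (i + 1) hi
      haveI := D.finiteBA (i + 1) hi
      haveI := D.fpBA' i hi
      haveI : Module.Finite (D.B i) (D.A (i + 1)) :=
        Module.Finite.of_surjective (Algebra.linearMap (D.B i) (D.A (i + 1))) (D.surjBA' i hi)
      haveI : Module.FinitePresentation (D.B i) (D.A (i + 1)) :=
        Module.FinitePresentation.of_finite_of_finitePresentation _ _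
      haveI : Module.FinitePresentation (D.B i) (D.M i ⧸ LinearMap.range (D.α i)) :=
        Module.finitePresentation_of_surjective _ (Submodule.mkQ_surjective _)
          (by rw [Submodule.ker_mkQ]; exact LinearMap.range_eq_map (D.α i) ▸ (Module.Finite.fg_top.map (D.α i)))
      haveI : Module.FinitePresentation (D.B i) (D.M (i + 1)) := Module.FinitePresentation.of_equiv (D.isoCoker i hi)
      haveI hA : Algebra.FinitePresentation R (D.A (i + 1)) := Algebra.FinitePresentation.trans R (D.B i) (D.A (i + 1))
      haveI : Algebra.FinitePresentation (D.B (i + 1)) (D.A (i + 1)) :=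
        Algebra.FinitePresentation.of_restrict_scalars_finitePresentation R (D.B (i + 1)) (D.A (i + 1))
      haveI : Module.FinitePresentation (D.B (i + 1)) (D.A (i + 1)) :=
        Module.FinitePresentation.of_finite_of_finitePresentation _ _
      haveI : Module.FinitePresentation (D.A (i + 1)) (D.M (i + 1)) :=
        RG.Dev.fp_of_restrict_finite (A := D.B i) inferInstance
      exact ⟨hA, Module.FinitePresentation.trans (D.B (i + 1)) (D.M (i + 1)) (D.A (i + 1))⟩
  -- flatness over the local ring and injectivity there
  let L0 := Localization.AtPrime rr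
  have hres : ∀ i, i < D.n → Function.Injective (((D.α i).restrictScalars R).lTensor rr.ResidueField) := fun i hi =>
    haveI := D.smooth i hi
    RG.Dev.residue_injective rr (RG.Dev.comap_map_prime (D.geomIrred i hi) rr) (D.α i) (D.fibreIso i hi).1
  have hflat : ∀ i, i < D.n → Module.Flat L0 (L0 ⊗[R] D.M i) := by
    intro i
    induction i with
    | zero =>
      intro _
      haveI : Module.Flat R (D.M 0) := Module.Flat.of_linearEquiv (D.isoN.restrictScalars R).symm
      infer_instance
    | succ i ih =>
      intro hi
      haveI := ih (by omega)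
      haveI := hprojX i (by omega)
      exact (RG.Dev.local_step rr ((D.α i).restrictScalars R)
        (((D.isoCoker i hi).toLinearMap.comp (LinearMap.range (D.α i)).mkQ).restrictScalars R)
        ((D.isoCoker i hi).surjective.comp (Submodule.mkQ_surjective _))
        (fun x => ((D.isoCoker i hi).map_eq_zero_iff).trans (Submodule.Quotient.mk_eq_zero _))
        (hres i (by omega))).2
  -- one step backwards
  have hstep : ∀ i, i < D.n → ∀ g, g ∉ rr →
      Module.Projective (Localization.Away g) (Localization.Away g ⊗[R] (D.M i ⧸ LinearMap.range (D.α i))) →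
      ∃ g', g' ∉ rr ∧ IsUnit (algebraMap R (Localization.Away g') g) ∧ Nonempty (Localization.Away g' ⊗[R] D.M i ≃ₗ[Localization.Away g']
        (Localization.Away g' ⊗[R] (Fin (D.r i) → D.B i)) ×
          (Localization.Away g' ⊗[R] (D.M i ⧸ LinearMap.range (D.α i)))) := by
    intro i hi g hg hP
    haveI := hP
    haveI := (hfp i hi).2
    haveI := D.smooth i hi
    haveI := hprojX i hi
    haveI := hflat i hi
    haveI : Module.FinitePresentation (D.B i) (D.M i ⧸ LinearMap.range (D.α i)) :=
      Module.finitePresentation_of_surjective _ (Submodule.mkQ_surjective _)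
        (by rw [Submodule.ker_mkQ]; exact LinearMap.range_eq_map (D.α i) ▸ (Module.Finite.fg_top.map (D.α i)))
    have hex : Function.Exact (D.α i) (LinearMap.range (D.α i)).mkQ := LinearMap.exact_map_mkQ_range _
    exact RG.Dev.exists_step rr (D.α i) (LinearMap.range (D.α i)).mkQ (Submodule.mkQ_surjective _) hex
      (RG.Dev.local_step rr ((D.α i).restrictScalars R) ((LinearMap.range (D.α i)).mkQ.restrictScalars R)
        (Submodule.mkQ_surjective _) hex (hres i hi)).1 g hg
  have hback : ∀ k i, i + k + 1 = D.n → ∃ g, g ∉ rr ∧ Nonempty (Localization.Away g ⊗[R] D.M i ≃ₗ[Localization.Away g]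
      Localization.Away g ⊗[R] (∀ j : {j : Fin D.n // i ≤ (j : ℕ)}, Fin (D.r j.1) → D.B j.1)) := by
    intro k
    induction k with
    | zero =>
      intro i hi
      have hsurj : Function.Surjective (D.α i) := by
        rw [show i = D.n - 1 by omega]; exact D.cokerLast
      haveI : Subsingleton (D.M i ⧸ LinearMap.range (D.α i)) :=
        Submodule.Quotient.subsingleton_iff.2 (LinearMap.range_eq_top.2 hsurj)
      haveI : Subsingleton (Localization.Away (1 : R) ⊗[R] (D.M i ⧸ LinearMap.range (D.α i))) :=
        (TensorProduct.comm R _ _).toEquiv.subsingleton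
      obtain ⟨g', hg', -, ⟨e⟩⟩ := hstep i (by omega) 1 (fun h => ‹rr.IsPrime›.ne_top ((Ideal.eq_top_iff_one _).2 h))
        inferInstance
      haveI : Subsingleton (Localization.Away g' ⊗[R] (D.M i ⧸ LinearMap.range (D.α i))) :=
        (TensorProduct.comm R _ _).toEquiv.subsingleton
      refine ⟨g', hg', ?_⟩
      let j₀ : {j : Fin D.n // i ≤ (j : ℕ)} := ⟨⟨i, by omega⟩, le_rfl⟩
      have huniq : ∀ j : {j : Fin D.n // i ≤ (j : ℕ)}, j = j₀ := fun j => Subtype.ext (Fin.ext (by
        have := j.1.2; have := j.2; change ((j.1 : Fin D.n) : ℕ) = i; omega))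
      let ev : (∀ j : {j : Fin D.n // i ≤ (j : ℕ)}, Fin (D.r j.1) → D.B j.1) ≃ₗ[R] (Fin (D.r i) → D.B i) :=
        LinearEquiv.ofBijective
          (LinearMap.proj (R := R) (φ := fun j : {j : Fin D.n // i ≤ (j : ℕ)} => Fin (D.r j.1) → D.B j.1) j₀)
          ⟨fun a b h => funext fun j => by obtain rfl := huniq j; exact h,
            fun p => ⟨fun j => (huniq j).symm ▸ p, rfl⟩⟩
      let e2 := LinearEquiv.ofBijective (LinearMap.fst (Localization.Away g')
        (Localization.Away g' ⊗[R] (Fin (D.r i) → D.B i))
        (Localization.Away g' ⊗[R] (D.M i ⧸ LinearMap.range (D.α i))))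
        ⟨fun a b h => Prod.ext h (Subsingleton.elim _ _), LinearMap.fst_surjective⟩
      let e3 := LinearEquiv.baseChange R (Localization.Away g') _ _ ev.symm
      exact ⟨(e.trans e2).trans e3⟩
    | succ k ih =>
      intro i hi
      obtain ⟨g, hg, ⟨e'⟩⟩ := ih (i + 1) (by omega)
      haveI : ∀ j : {j : Fin D.n // i + 1 ≤ (j : ℕ)}, Module.Projective R (Fin (D.r j.1) → D.B j.1) :=
        fun j => hprojX j.1 j.1.2
      haveI : Module.Projective R (∀ j : {j : Fin D.n // i + 1 ≤ (j : ℕ)}, Fin (D.r j.1) → D.B j.1) :=
        RG.Dev.projective_pi _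
      let c : (D.M i ⧸ LinearMap.range (D.α i)) ≃ₗ[R] D.M (i + 1) := (D.isoCoker i (by omega)).restrictScalars R
      let e'' := (LinearEquiv.baseChange R (Localization.Away g) _ _ c).trans e'
      obtain ⟨g', hg', hu, ⟨e⟩⟩ := hstep i (by omega) g hg (Module.Projective.of_equiv e''.symm)
      letI : Algebra (Localization.Away g) (Localization.Away g') := (IsLocalization.Away.lift g hu).toAlgebra
      haveI : IsScalarTower R (Localization.Away g) (Localization.Away g') :=
        IsScalarTower.of_algebraMap_eq fun x => (IsLocalization.Away.lift_eq g hu x).symm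
      obtain ⟨e3⟩ := RG.Dev.nonempty_equiv_baseChange (Localization.Away g) (Localization.Away g') e''
      have hin : i < D.n := by omega
      let e4 := (LinearEquiv.refl (Localization.Away g') (Localization.Away g' ⊗[R] (Fin (D.r i) → D.B i))).prodCongr e3
      let e5 := (TensorProduct.prodRight R (Localization.Away g') (Localization.Away g') (Fin (D.r i) → D.B i)
        (∀ j : {j : Fin D.n // i + 1 ≤ (j : ℕ)}, Fin (D.r j.1) → D.B j.1)).symm
      let e6 := LinearEquiv.baseChange R (Localization.Away g') _ _
          (RG.Dev.piInsert (A := R) (fun j : Fin D.n => Fin (D.r j) → D.B j) i hin).symm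
      exact ⟨g', hg', ⟨((e.trans e4).trans e5).trans e6⟩⟩
  obtain ⟨f, hf, ⟨e0⟩⟩ := hback (D.n - 1) 0 (by have := D.pos; omega)
  let L := Localization.Away f
  let e : LocalizedModule (Submonoid.powers f) N ≃ₗ[L] ∀ j : Fin D.n, Fin (D.r j) → L ⊗[R] D.B j :=
    (((LocalizedModule.equivTensorProduct (Submonoid.powers f) N).trans
      (LinearEquiv.baseChange R L _ _ (D.isoN.restrictScalars R))).trans e0).trans
      (((LinearEquiv.baseChange R L _ _ (LinearEquiv.piCongrLeft R (fun j : Fin D.n => Fin (D.r j) → D.B j)
        (Equiv.subtypeUnivEquiv fun j : Fin D.n => Nat.zero_le (j : ℕ)))).trans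
        (TensorProduct.piRight R L L _)).trans
        (LinearEquiv.piCongrRight fun j => TensorProduct.piRight R L L _))
  haveI : ∀ j : Fin D.n, Module.Projective R (D.B j) := fun j => hproj j j.2
  haveI : ∀ j : Fin D.n, Module.Projective L (Fin (D.r j) → L ⊗[R] D.B j) := fun j => RG.Dev.projective_pi _
  haveI : Module.Projective L (∀ j : Fin D.n, Fin (D.r j) → L ⊗[R] D.B j) := RG.Dev.projective_pi _
  refine ⟨f, hf, Module.Projective.of_equiv e.symm, D.n, fun j => L ⊗[R] D.B j, inferInstance, inferInstance,
    fun j => D.r j, fun j => ?_, ⟨e⟩⟩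
  haveI := D.smooth j j.2
  exact ⟨inferInstance, RG.Dev.geomIrred_baseChange L (D.geomIrred j j.2)⟩

end Groth.Agent.S1254
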