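import Groth.Statements.S12545
import Mathlib
import Groth.Agent.GLinMu.Basic

set_option autoImplicit false
universe u
open TensorProduct LaurentPolynomial
open GIT

namespace Groth.Agent.S12545

/-- Let a commutative bialgebra A over a field k coact linearly on affine ι-space, let λ be a
one-parameter subgroup (a bialgebra map to the Laurent polynomial ring) and v ≠ 0 a vector; write
μ(v, λ) = m when t^m · (v moved by λ(t)) extends to the affine line with non-zero value at t = 0.
Then v moved by λ(t) has no limit as t → 0 exactly when μ(v, λ) > 0, has a limit different from the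
origin exactly when μ(v, λ) = 0, and tends to the origin exactly when μ(v, λ) < 0. -/
theorem result (k : Type u) [Field k] (A : Type u) [CommRing A] [Bialgebra k A]
    (ι : Type u) [Fintype ι] [HopfRep.Comod k A (MvPolynomial ι k)] [GLin.IsCoactAlg k A (MvPolynomial ι k)]
    (hlin : GLin.IsLinear k A ι) (lam : A →ₐc[k] k[T;T⁻¹]) (v : ι → k) (hv : v ≠ 0) :
    (¬ GLin.HasLimit k A lam (GLin.vecPt k ι v) ↔ ∃ m : ℤ, GLin.IsMu k A lam v m ∧ 0 < m) ∧
      ((GLin.HasLimit k A lam (GLin.vecPt k ι v) ∧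
          ¬ GLin.IsLimit k A lam (GLin.vecPt k ι v) (GLin.vecPt k ι (fun _ => (0 : k)))) ↔
        GLin.IsMu k A lam v 0) ∧
      (GLin.IsLimit k A lam (GLin.vecPt k ι v) (GLin.vecPt k ι (fun _ => (0 : k))) ↔
        ∃ m : ℤ, GLin.IsMu k A lam v m ∧ m < 0) := by
  obtain ⟨m, hm⟩ := GLinMu.exists_isMu k A ι lam v hv
  have huniq : ∀ {m'}, GLin.IsMu k A lam v m' → m' = m := fun h => GLinMu.isMu_unique k A ι lam v h hm
  obtain ⟨h1, i, hi⟩ := (GLinMu.isMu_iff k A ι lam v m).1 hm
  have hL : GLin.HasLimit k A lam (GLin.vecPt k ι v) ↔ m ≤ 0 := by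
    rw [GLinMu.hasLimit_iff]
    exact ⟨fun h => by by_contra hc; exact hi (h i (-m) (by omega)), fun h j n hn => h1 j n (by omega)⟩
  have h0 : GLin.IsLimit k A lam (GLin.vecPt k ι v) (GLin.vecPt k ι (fun _ => (0 : k))) ↔ m < 0 := by
    rw [GLinMu.isLimit_iff]
    refine ⟨fun h => ?_, fun h => ⟨fun j n hn => h1 j n (by omega), fun j => h1 j 0 (by omega)⟩⟩
    by_contra hc
    rcases (not_lt.1 hc).eq_or_lt with hm0 | hm0
    · subst hm0
      exact hi (by simpa using h.2 i)
    · exact hi (h.1 i (-m) (by omega))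
  refine ⟨?_, ?_, ?_⟩
  · rw [hL]
    exact ⟨fun h => ⟨m, hm, by omega⟩, fun ⟨m', h, hp⟩ => by have := huniq h; omega⟩
  · rw [hL, h0]
    refine ⟨fun h => ?_, fun h => ?_⟩
    · obtain rfl : m = 0 := by omega
      exact hm
    · have := huniq h
      omega
  · rw [h0]
    exact ⟨fun h => ⟨m, hm, h⟩, fun ⟨m', h, hp⟩ => by have := huniq h; omega⟩

end Groth.Agent.S12545
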