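import Groth.Statements.S1255
import Groth.Agent.RG.Pure.EtaleCover

set_option autoImplicit false
universe u
open FlatMor

namespace Groth.Agent.S1255

attribute [local instance] Algebra.TensorProduct.rightAlgebra

/-- Ring form, all schemes affine: let B be an A-algebra of finite type, N a finite B-module and p a
prime of A such that N is flat over A at every prime of B over p. Let (A, p) → (A', p') be an
elementary étale ring map and B' an étale B-algebra which is compatibly an A'-algebra of finite
type, with base change N' of N to B', such that N' is pure along the fibre over p' and every prime q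
of B over p whose extension to the fibre ring over p is an associated prime of the fibre module of N
is the contraction of a prime of B' lying over p'. Let B_{A'} and N_{A'} be the base changes of B
and N to A' (any models), with the induced map B_{A'} → B'. Then N is pure along the fibre over p if
and only if: for every prime t' ⊆ p' of A' and every prime Q of B_{A'} over t' whose extension to
the fibre ring over t' is an associated prime of the fibre module of N_{A'}, Q is the contraction of
a prime of B'. (The published statement asks in its covering hypothesis only that the image of Spec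
B' in Spec B contain the associated primes of the fibre module of N over p, without requiring the
covering primes of B' to lie over p'. That is not enough when Spec A' has a second point over p —
with Spec A' = Spec A ⊔ Spec A and Spec B' over the other copy the "only if" fails — so the
hypothesis is stated here in the stronger form: the covering primes of B' lie over p'.) -/
theorem result {A B : Type u} [CommRing A] [CommRing B] [Algebra A B] [Algebra.FiniteType A B]
    (N : Type u) [AddCommGroup N] [Module B N] [Module A N] [IsScalarTower A B N] [Module.Finite B N] (p : Ideal A) [p.IsPrime]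
    (hflat : ∀ (q : Ideal B) [q.IsPrime], q.LiesOver p → FlatCA.FlatAt A q N)
    (A' : Type u) [CommRing A'] [Algebra A A'] (p' : Ideal A') [p'.IsPrime] (het : FlatCA.IsEtaleNhd A A' p p')
    (B' : Type u) [CommRing B'] [Algebra B B'] [Algebra A' B'] [Algebra A B'] [IsScalarTower A B B'] [IsScalarTower A A' B']
    [Algebra.Etale B B'] [Algebra.FiniteType A' B']
    (N' : Type u) [AddCommGroup N'] [Module B' N'] [Module B N'] [IsScalarTower B B' N'] [Module A' N'] [IsScalarTower A' B' N']
    (f : N →ₗ[B] N') (hf : IsBaseChange B' f)
    (hpure : FlatCA.IsPureAlong A' B' N' p')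
    (hcov : ∀ (q : Ideal B) [q.IsPrime], q.LiesOver p →
      FlatCA.fiberIdeal p q ∈ associatedPrimes (p.Fiber B) (FlatCA.fiberMod p B N) →
      ∃ q' : Ideal B', q'.IsPrime ∧ q'.comap (algebraMap B B') = q ∧ q'.comap (algebraMap A' B') = p')
    (BA NA : Type u) [CommRing BA] [Algebra B BA] [Algebra A' BA] [Algebra A BA] [IsScalarTower A B BA] [IsScalarTower A A' BA]
    [Algebra.IsPushout A B A' BA] [Algebra BA B'] [IsScalarTower B BA B'] [IsScalarTower A' BA B']
    [AddCommGroup NA] [Module BA NA] [Module B NA] [IsScalarTower B BA NA] [Module A' NA] [IsScalarTower A' BA NA]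
    (fA : N →ₗ[B] NA) (hfA : IsBaseChange BA fA) :
    FlatCA.IsPureAlong A B N p ↔
      ∀ (t' : Ideal A') [t'.IsPrime], t' ≤ p' → ∀ (Q : Ideal BA) [Q.IsPrime], Q.LiesOver t' →
        FlatCA.fiberIdeal t' Q ∈ associatedPrimes (t'.Fiber BA) (FlatCA.fiberMod t' BA NA) →
        ∃ Q' : Ideal B', Q'.IsPrime ∧ Q'.comap (algebraMap BA B') = Q := by
  obtain ⟨Φ, e, hΦB, he⟩ := RG.Pure.exists_model_equiv (A := A) (A' := A') hfA
  letI : Algebra (TensorProduct A A' B) B' := ((algebraMap BA B').comp (Φ : TensorProduct A A' B →+* BA)).toAlgebra
  haveI : IsScalarTower B (TensorProduct A A' B) B' := IsScalarTower.of_algebraMap_eq fun b => by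
    change _ = algebraMap BA B' (Φ (TensorProduct.tmul A (1 : A') b))
    rw [hΦB, ← IsScalarTower.algebraMap_apply B BA B']
  haveI : IsScalarTower A' (TensorProduct A A' B) B' := IsScalarTower.of_algebraMap_eq fun a => by
    change _ = algebraMap BA B' (Φ (algebraMap A' (TensorProduct A A' B) a))
    rw [Φ.commutes, ← IsScalarTower.algebraMap_apply A' BA B']
  have hcomap : ∀ (Q : Ideal B'), Q.comap (algebraMap (TensorProduct A A' B) B') =
      (Q.comap (algebraMap BA B')).comap (Φ : TensorProduct A A' B →+* BA) := fun Q => (Ideal.comap_comap _ _).symm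
  have he' : ∀ (s : BA) x, e.symm (s • x) = Φ.symm s • e.symm x := fun s x => e.injective (by
    rw [he, LinearEquiv.apply_symm_apply, LinearEquiv.apply_symm_apply, AlgEquiv.apply_symm_apply])
  constructor
  · intro hp t' _ ht' Q _ hQt hass
    have hQ : Q ∈ RG.assPts A' BA NA t' := (RG.mem_assPts_iff _ _ t' Q hQt.over.symm).2 hass
    have hσ : Q.comap (Φ : TensorProduct A A' B →+* BA) ∈
        RG.assPts A' (TensorProduct A A' B) (TensorProduct B (TensorProduct A A' B) N) t' := by
      simpa using RG.Pure.assPts_map_equiv Φ.symm e.symm he' t' hQ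
    haveI : Algebra.Etale A A' := het.1
    haveI : Algebra.Etale B (TensorProduct A A' B) := Algebra.Etale.of_equiv (Algebra.TensorProduct.commRight A B A')
    haveI : Module.Flat B B' := Algebra.Smooth.flat B B'
    haveI : Module.Flat (TensorProduct A A' B) B' := UnramLib.flat_of_formallyUnramified B (TensorProduct A A' B) B'
    obtain ⟨Q', hQ'p, hQ'⟩ := RG.Pure.exists_over_of_pure_cover (B' := B') hflat p' het hp
      (fun q hq => by
        obtain ⟨hqp, hqc⟩ := RG.isPrime_of_mem_assPts _ _ _ hq
        haveI := hqp
        haveI : q.LiesOver p := ⟨hqc.symm⟩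
        exact hcov q inferInstance ((RG.mem_assPts_iff _ _ p q hqc).1 hq)) t' ht' _ hσ
    exact ⟨Q', hQ'p, Ideal.comap_injective_of_surjective _ Φ.surjective ((hcomap Q').symm.trans hQ')⟩
  · intro h
    refine RG.Pure.isPureAlong_of_cover hf p' het hpure fun t' _ ht' σ hσ => ?_
    have hQ := RG.Pure.assPts_map_equiv Φ e he t' hσ
    obtain ⟨hQp, hQc⟩ := RG.isPrime_of_mem_assPts _ _ _ hQ
    haveI := hQp
    obtain ⟨Q', hQ'p, hQ'⟩ := h t' ht' _ ⟨hQc.symm⟩ ((RG.mem_assPts_iff _ _ t' _ hQc).1 hQ)
    refine ⟨Q', hQ'p, ?_⟩
    rw [hcomap, hQ', Ideal.comap_comap, show (Φ.symm : BA →+* TensorProduct A A' B).comp (Φ : TensorProduct A A' B →+* BA) = RingHom.id _ from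
      RingHom.ext fun x => Φ.symm_apply_apply x, Ideal.comap_id]

end Groth.Agent.S1255
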