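import Groth.Statements.S12552
import Groth.Agent.BasisPack.Basic

set_option autoImplicit false
universe u
open GIT

namespace Groth.Agent.S12552

open Module
open scoped Classical

theorem count_filter {E : Type} [DecidableEq E] (P : Multiset (Finset E)) (I : Finset E) :
    ∑ j ∈ I, Multiset.card (P.filter fun S => j ∈ S) = (P.map fun S => (I.filter (· ∈ S)).card).sum := by
  induction P using Multiset.induction with
  | empty => simp
  | cons S P ih =>
    simp only [Multiset.filter_cons, Multiset.card_add, Finset.sum_add_distrib, ih, Multiset.map_cons, Multiset.sum_cons]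
    congr 1
    rw [Finset.card_filter]
    exact Finset.sum_congr rfl fun j _ => by split_ifs <;> simp

theorem backward.{v, w} {K : Type v} [Field K] {V : Type w} [AddCommGroup V] [Module K V] [FiniteDimensional K V]
    {m : ℕ} (x : Fin (m + 1) → V) (N N₀ : ℕ) (h0 : 0 < N₀) (hle : N₀ ≤ N)
    (h : ∀ i : Fin (m + 1), ∃ P : Multiset (Finset (Fin (m + 1))), P ≠ 0 ∧
      (∀ S ∈ P, S.card = finrank K V ∧ LinearIndependent K (fun j : S => x j)) ∧
      ∀ j : Fin (m + 1), Multiset.card (P.filter (fun S => j ∈ S)) = if j = i then N - N₀ else N)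
    (L : Submodule K V) (hb : L ≠ ⊥) (ht : L ≠ ⊤) :
    Set.ncard {i : Fin (m + 1) | x i ∈ L} * finrank K V < finrank K L * (m + 1) := by
  set I : Finset (Fin (m + 1)) := Finset.univ.filter fun i => x i ∈ L with hI
  have hk : Set.ncard {i : Fin (m + 1) | x i ∈ L} = I.card := by
    rw [← Set.ncard_coe_finset]; congr 1; ext; simp [hI]
  have hl : finrank K L < finrank K V := Submodule.finrank_lt ht
  have hl0 : 0 < finrank K L := by
    have := Submodule.one_le_finrank_iff.2 hb
    omega
  have hcap : ∀ S : Finset (Fin (m + 1)), LinearIndependent K (fun j : S => x j) →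
      (I.filter (· ∈ S)).card ≤ finrank K L := by
    intro S hS
    have hr := hS.comp (fun e : (I.filter (· ∈ S) : Finset (Fin (m + 1))) => (⟨e.1, (Finset.mem_filter.1 e.2).2⟩ : S))
      (fun a b e => Subtype.ext (congrArg (fun z : S => z.1) e))
    have hr' : LinearIndependent K fun e : (I.filter (· ∈ S) : Finset (Fin (m + 1))) =>
        (⟨x e.1, (Finset.mem_filter.1 (Finset.mem_filter.1 e.2).1).2⟩ : L) :=
      LinearIndependent.of_comp L.subtype hr
    have h5 := hr'.fintype_card_le_finrank
    rwa [Fintype.card_coe] at h5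
  have hsumle : ∀ i, ∃ p, 0 < p ∧ ∑ j ∈ I, (if j = i then N - N₀ else N) ≤ p * finrank K L ∧
      p * finrank K V = ∑ j : Fin (m + 1), (if j = i then N - N₀ else N) := by
    intro i
    obtain ⟨P, hP0, hPS, hPc⟩ := h i
    refine ⟨Multiset.card P, Multiset.card_pos.2 hP0, ?_, ?_⟩
    · rw [← Finset.sum_congr rfl fun j _ => hPc j, count_filter]
      have := Multiset.sum_le_card_nsmul (P.map fun S => (I.filter (· ∈ S)).card) (finrank K L) (by
        intro c hc
        obtain ⟨S, hS, rfl⟩ := Multiset.mem_map.1 hc
        exact hcap S (hPS S hS).2)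
      simpa using this
    · rw [← Finset.sum_congr rfl fun j _ => hPc j, count_filter]
      rw [Multiset.map_congr rfl (g := fun _ => finrank K V) fun S hS => by
        rw [show (Finset.univ.filter (· ∈ S)) = S by ext; simp, (hPS S hS).1]]
      simp
  obtain ⟨i, hiI⟩ : ∃ i, i ∉ I := by
    by_contra hno
    push Not at hno
    obtain ⟨p, hp, h1, h2⟩ := hsumle 0
    rw [Finset.eq_univ_iff_forall.2 hno, ← h2] at h1
    exact absurd h1 (not_le.2 (Nat.mul_lt_mul_of_pos_left hl hp))
  obtain ⟨p, hp, h1, h2⟩ := hsumle i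
  have hg : ∀ j ∈ I, (if j = i then N - N₀ else N) = N := fun j hj => by
    rw [if_neg]; rintro rfl; exact hiI hj
  rw [Finset.sum_congr rfl hg, Finset.sum_const, smul_eq_mul] at h1
  have h3 : (∑ j : Fin (m + 1), (if j = i then N - N₀ else N)) < (m + 1) * N := by
    have := Finset.sum_lt_sum (s := (Finset.univ : Finset (Fin (m + 1))))
      (f := fun j => if j = i then N - N₀ else N) (g := fun _ => N)
      (fun j _ => by split_ifs <;> omega) ⟨i, Finset.mem_univ i, by rw [if_pos rfl]; omega⟩
    simpa using this
  rw [← h2] at h3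
  rw [hk]
  refine Nat.lt_of_mul_lt_mul_left (a := N) ?_
  calc N * (I.card * finrank K V) = I.card * N * finrank K V := by ring
    _ ≤ p * finrank K L * finrank K V := Nat.mul_le_mul_right _ h1
    _ = finrank K L * (p * finrank K V) := by ring
    _ < finrank K L * ((m + 1) * N) := Nat.mul_lt_mul_of_pos_left h3 hl0
    _ = N * (finrank K L * (m + 1)) := by ring

theorem forward.{v, w} {K : Type v} [Field K] {V : Type w} [AddCommGroup V] [Module K V] [FiniteDimensional K V]
    {m : ℕ} (x : Fin (m + 1) → V) (hx : ∀ i, x i ≠ 0)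
    (h : ∀ L : Submodule K V, L ≠ ⊥ → L ≠ ⊤ →
      Set.ncard {i : Fin (m + 1) | x i ∈ L} * finrank K V < finrank K L * (m + 1)) :
    ∃ N N₀ : ℕ, 0 < N₀ ∧ N₀ ≤ N ∧ ∀ i : Fin (m + 1), ∃ P : Multiset (Finset (Fin (m + 1))), P ≠ 0 ∧
      (∀ S ∈ P, S.card = finrank K V ∧ LinearIndependent K (fun j : S => x j)) ∧
      ∀ j : Fin (m + 1), Multiset.card (P.filter (fun S => j ∈ S)) = if j = i then N - N₀ else N := by
  have hn : 0 < finrank K V := by
    haveI : Nontrivial V := ⟨⟨x 0, 0, hx 0⟩⟩
    exact finrank_pos
  set n := finrank K V with hndef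
  obtain ⟨n', hn'⟩ : ∃ n', n = n' + 1 := ⟨n - 1, by omega⟩
  obtain ⟨q, hq⟩ : ∃ q, q + 1 = 2 * n * (m + 1) := ⟨2 * n * (m + 1) - 1, by
    have : 0 < 2 * n * (m + 1) := by positivity
    omega⟩
  have hq0 : 0 < q := by
    have : 2 * 1 * 1 ≤ 2 * n * (m + 1) := Nat.mul_le_mul (Nat.mul_le_mul_left 2 hn) (by omega)
    omega
  have hnn : n ≤ 2 * n * n := by nlinarith
  let W : Fin (m + 1) → Fin (m + 1) → ℕ := fun i j => if j = i then 2 * n * n - n else 2 * n * n
  have hWle : ∀ i j, W i j ≤ 2 * n * n := fun i j => by simp only [W]; split_ifs <;> omega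
  have htot : ∀ i, ∑ j, W i j = q * n := by
    intro i
    have e : ∑ j, (W i j + if j = i then n else 0) = ∑ _j : Fin (m + 1), 2 * n * n :=
      Finset.sum_congr rfl fun j _ => by simp only [W]; split_ifs <;> omega
    rw [Finset.sum_add_distrib, Finset.sum_ite_eq' Finset.univ i (fun _ => n), if_pos (Finset.mem_univ i),
      Finset.sum_const, Finset.card_univ, Fintype.card_fin, smul_eq_mul] at e
    have e2 : q * n + n = (m + 1) * (2 * n * n) := by
      rw [show q * n + n = (q + 1) * n by ring, hq]; ring
    omega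
  have hfeas : ∀ i, Groth.Agent.BasisPack.Feas K q x (W i) := by
    refine fun i => ⟨fun F => ?_, htot i⟩
    rcases F.eq_empty_or_nonempty with rfl | ⟨e, he⟩
    · simp
    set L := Submodule.span K (x '' (F : Set (Fin (m + 1)))) with hL
    by_cases ht : L = ⊤
    · have : Groth.Agent.BasisPack.rk K x F = n := by
        rw [Groth.Agent.BasisPack.rk, ← hL, ht, finrank_top]
      rw [this, ← htot i]
      exact Finset.sum_le_sum_of_subset (Finset.subset_univ _)
    · have hb : L ≠ ⊥ := fun hb => hx e (by
        have : x e ∈ L := Submodule.subset_span ⟨e, he, rfl⟩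
        rwa [hb, Submodule.mem_bot] at this)
      have h1 := h L hb ht
      have h2 : F.card ≤ Set.ncard {i : Fin (m + 1) | x i ∈ L} := by
        rw [← Set.ncard_coe_finset]
        exact Set.ncard_le_ncard fun j hj => Submodule.subset_span ⟨j, hj, rfl⟩
      have hr : finrank K L < n := Submodule.finrank_lt ht
      change _ ≤ q * finrank K L
      generalize finrank K L = r at h1 hr ⊢
      have h3 : F.card * n + 1 ≤ r * (m + 1) := by
        have := Nat.mul_le_mul_right n h2
        omega
      have h4 : ∑ j ∈ F, W i j ≤ F.card * (2 * n * n) := by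
        simpa using Finset.sum_le_card_nsmul F (W i) _ (fun j _ => hWle i j)
      refine h4.trans ?_
      refine Nat.le_of_add_le_add_right (b := 2 * n) ?_
      calc F.card * (2 * n * n) + 2 * n = 2 * n * (F.card * n + 1) := by ring
        _ ≤ 2 * n * (r * (m + 1)) := Nat.mul_le_mul_left _ h3
        _ = (q + 1) * r := by rw [hq]; ring
        _ ≤ q * r + 2 * n := by rw [add_mul, one_mul]; omega
  choose T hT B hTpos hB hc using fun i => Groth.Agent.BasisPack.decomp_of_feas hq0 _ V x (W i) rfl (hfeas i)
  let c : Fin (m + 1) → ℕ := fun i => @Fintype.card (T i) (hT i)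
  refine ⟨(∏ i, c i) * (2 * n * n), (∏ i, c i) * n, Nat.mul_pos (Finset.prod_pos fun i _ => hTpos i) hn,
    Nat.mul_le_mul_left _ hnn, fun i => ?_⟩
  let _ := hT i
  have hr0 : 0 < ∏ k ∈ Finset.univ.erase i, c k := Finset.prod_pos fun i _ => hTpos i
  refine ⟨(q * ∏ k ∈ Finset.univ.erase i, c k) • (Finset.univ.val.map (B i)), ?_, ?_, fun j => ?_⟩
  · rw [← Multiset.card_pos, Multiset.card_nsmul, Multiset.card_map]
    refine Nat.mul_pos (Nat.mul_pos hq0 hr0) ?_
    rw [Finset.card_val, Finset.card_univ]
    exact hTpos i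
  · intro S hS
    obtain ⟨t, _, rfl⟩ := Multiset.mem_map.1 (Multiset.mem_of_mem_nsmul hS)
    exact hB i t
  · rw [Multiset.filter_nsmul, Multiset.card_nsmul, Multiset.filter_map, Multiset.card_map]
    have e : Multiset.card (Multiset.filter ((fun S => j ∈ S) ∘ B i) Finset.univ.val) =
        (Finset.univ.filter fun t => j ∈ B i t).card := rfl
    have h1 : q * (Finset.univ.filter fun t => j ∈ B i t).card = c i * W i j := by convert hc i j using 3; ext t; simp
    calc _ = (∏ k ∈ Finset.univ.erase i, c k) * (q * (Finset.univ.filter fun t => j ∈ B i t).card) := by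
          rw [← e]; ring
      _ = (c i * ∏ k ∈ Finset.univ.erase i, c k) * W i j := by rw [h1]; ring
      _ = _ := by
        rw [Finset.mul_prod_erase Finset.univ c (Finset.mem_univ i)]
        simp only [W]
        split_ifs
        · rw [Nat.mul_sub]
        · rfl


/-- Let V be a finite-dimensional vector space over a field K and x_0, …, x_m non-zero vectors, a
configuration of m + 1 points of P(V); a set S of dim V indices with (x_j)_(j ∈ S) linearly
independent is a determinant section non-zero at the configuration. Then the configuration is stable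
(for every subspace L with 0 ≠ L ≠ V, the number of i with x_i ∈ L times dim V is less than dim L ·
(m + 1)) if and only if there are integers N ≥ N_0 > 0 such that for each index i some non-empty
finite multiset of such sets S contains every index j ≠ i exactly N times and the index i exactly N
− N_0 times (a monomial in the determinant sections, non-zero at the configuration, of multidegree
(N, …, N − N_0, …, N) with the N − N_0 in place i). -/
theorem result (K : Type u) [Field K]
    (V : Type u) [AddCommGroup V] [Module K V] [FiniteDimensional K V]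
    (m : ℕ) (x : Fin (m + 1) → V) (hx : ∀ i, x i ≠ 0) :
    (∀ L : Submodule K V, L ≠ ⊥ → L ≠ ⊤ →
        Set.ncard {i : Fin (m + 1) | x i ∈ L} * Module.finrank K V < Module.finrank K L * (m + 1)) ↔
      ∃ N N₀ : ℕ, 0 < N₀ ∧ N₀ ≤ N ∧
        ∀ i : Fin (m + 1), ∃ P : Multiset (Finset (Fin (m + 1))), P ≠ 0 ∧
          (∀ S ∈ P, S.card = Module.finrank K V ∧ LinearIndependent K (fun j : S => x j)) ∧
          ∀ j : Fin (m + 1),
            Multiset.card (P.filter (fun S => j ∈ S)) = if j = i then N - N₀ else N := by
  exact ⟨forward x hx, fun ⟨N, N₀, h0, hle, h⟩ => backward x N N₀ h0 hle h⟩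

end Groth.Agent.S12552
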