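import Groth.Statements.S12553
import Mathlib

set_option autoImplicit false
universe u
open TensorProduct LaurentPolynomial
open GIT

namespace Groth.Agent.S12553

open TensorProduct
set_option backward.isDefEq.respectTransparency false
set_option maxHeartbeats 800000

/-- Let k be a field and T = Spec A a diagonalizable affine group (A a commutative Hopf algebra spanned
by its group-like elements, e.g. a torus) acting linearly on affine ι-space. Then there are finitely
many characters χ_1, …, χ_N of T (group-like elements of A) such that every vector v ≠ 0 has a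
non-empty set I of indices for which, for every one-parameter subgroup λ of T with λ(χ_j) = t^(e_j),
the numerical function μ(v, λ) (the m for which t^m · (v moved by λ(t)) tends to a non-zero vector)
equals the maximum of −e_j over j ∈ I: μ is the maximum of finitely many linear functionals on
one-parameter subgroups. (The published proposition concerns a maximal torus of a reductive group
acting on a proper scheme with an ample linearised invertible sheaf; this row is the case of
projective space with the hyperplane bundle, for any diagonalizable group acting linearly, stated on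
the affine cone.) -/
theorem result (k : Type u) [Field k]
    (A : Type u) [CommRing A] [HopfAlgebra k A] (hdiag : HopfRep.IsDiagonalizable k A)
    (ι : Type u) [Fintype ι] [HopfRep.Comod k A (MvPolynomial ι k)] [GLin.IsCoactAlg k A (MvPolynomial ι k)]
    (hlin : GLin.IsLinear k A ι) :
    ∃ (N : ℕ) (χ : Fin N → A), (∀ j, IsGroupLikeElem k (χ j)) ∧
      ∀ v : ι → k, v ≠ 0 → ∃ I : Finset (Fin N), I.Nonempty ∧
        ∀ (lam : A →ₐc[k] k[T;T⁻¹]) (e : Fin N → ℤ), (∀ j, lam (χ j) = LaurentPolynomial.T (e j)) →
          ∀ m : ℤ, GLin.IsMu k A lam v m ↔ ((∀ j ∈ I, -e j ≤ m) ∧ ∃ j ∈ I, m = -e j) := by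
  classical
  choose m hm using hlin
  have hall : ∀ a : A, ∃ l : {x : A // IsGroupLikeElem k x} →₀ k, (l.sum fun x c => c • (x : A)) = a := by
    intro a
    have : a ∈ Submodule.span k (Set.range fun x : {x : A // IsGroupLikeElem k x} => (x : A)) := by
      rw [Subtype.range_coe_subtype, show Submodule.span k {a : A | IsGroupLikeElem k a} = ⊤ from hdiag]
      trivial
    obtain ⟨l, hl⟩ := Finsupp.mem_span_range_iff_exists_finsupp.1 this
    exact ⟨l, hl⟩
  choose rep hrep using hall
  let S : Finset {x : A // IsGroupLikeElem k x} := Finset.univ.biUnion fun p : ι × ι => (rep (m p.1 p.2)).support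
  let c : S → ι → ι → k := fun x i j => rep (m i j) x.1
  have hmS : ∀ i j, m i j = ∑ x : S, c x i j • (x.1 : A) := by
    intro i j
    rw [← hrep (m i j), Finsupp.sum_of_support_subset _
      (Finset.subset_biUnion_of_mem (fun p : ι × ι => (rep (m p.1 p.2)).support) (Finset.mem_univ (i, j)))
      (fun x c => c • (x : A)) (fun x _ => zero_smul k (x : A)), ← Finset.sum_coe_sort]
  have hli : LinearIndependent k fun x : S => (x.1 : A) := by
    have h := (linearIndepOn_isGroupLikeElem (R := k) (A := A)).linearIndependent
    exact h.comp (fun x : S => (x.1 : {x : A | IsGroupLikeElem k x})) fun a b hab => Subtype.ext (Subtype.ext (congrArg Subtype.val hab))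
  have hX : ∀ (i : ι), ∑ j, (MvPolynomial.X j : MvPolynomial ι k) ⊗ₜ[k]
      Coalgebra.comul (R := k) (m i j) = ∑ l, ∑ j, (MvPolynomial.X j : MvPolynomial ι k) ⊗ₜ[k] (m l j ⊗ₜ[k] m i l) := by
    intro i
    have h := LinearMap.congr_fun (HopfRep.Comod.coassoc (k := k) (A := A) (V := MvPolynomial ι k)) (MvPolynomial.X i)
    simp only [LinearMap.comp_apply, LinearEquiv.coe_coe, hm, map_sum, LinearMap.rTensor_tmul, LinearMap.lTensor_tmul,
      TensorProduct.sum_tmul, TensorProduct.assoc_tmul] at h
    exact h.symm
  have hXi : ∀ (l : ι) {W : Type u} [AddCommGroup W] [Module k W] (f : ι → W),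
      (TensorProduct.lid k W) ((MvPolynomial.lcoeff k (Finsupp.single l 1)).rTensor W
        (∑ j, (MvPolynomial.X j : MvPolynomial ι k) ⊗ₜ[k] f j)) = f l := by
    intro l W _ _ f
    rw [map_sum, map_sum, Finset.sum_eq_single l]
    · simp [MvPolynomial.lcoeff_apply]
    · intro j _ hj
      simp [MvPolynomial.lcoeff_apply, MvPolynomial.coeff_X', Finsupp.single_left_inj, hj]
    · simp
  have hcm : ∀ i l, Coalgebra.comul (R := k) (m i l) = ∑ j, m j l ⊗ₜ[k] m i j := by
    intro i l
    have h := hX i
    rw [Finset.sum_comm] at h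
    simp only [← TensorProduct.tmul_sum] at h
    simpa only [hXi l] using congrArg (fun z => (TensorProduct.lid k (A ⊗[k] A))
      ((MvPolynomial.lcoeff k (Finsupp.single l 1)).rTensor (A ⊗[k] A) z)) h
  have hdual : ∀ x : S, ∃ φ : A →ₗ[k] k, ∀ z : S, φ (z.1 : A) = if z = x then 1 else 0 := by
    intro x
    obtain ⟨φ, hφ⟩ := LinearMap.exists_extend
      ((Finsupp.lapply x).comp hli.repr : Submodule.span k (Set.range fun x : S => (x.1 : A)) →ₗ[k] k)
    refine ⟨φ, fun z => ?_⟩
    have h := LinearMap.congr_fun hφ ⟨(z.1 : A), Submodule.subset_span ⟨z, rfl⟩⟩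
    simp only [LinearMap.comp_apply, Submodule.subtype_apply, Finsupp.lapply_apply] at h
    rw [h, hli.repr_eq_single z _ rfl, Finsupp.single_apply]
  choose φ hφ using hdual
  have hφm : ∀ (x : S) i j, φ x (m i j) = c x i j := by
    intro x i j
    rw [hmS, map_sum, Finset.sum_eq_single x]
    · rw [map_smul, hφ, if_pos rfl, smul_eq_mul, mul_one]
    · intro z _ hz
      rw [map_smul, hφ, if_neg hz, smul_zero]
    · simp
  have hproj : ∀ (x y : S) i l, (∑ j, c x j l * c y i j) = if x = y then c x i l else 0 := by
    intro x y i l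
    have h := congrArg (LinearMap.mul' k k ∘ₗ TensorProduct.map (φ x) (φ y)) (hcm i l)
    simp only [map_sum, LinearMap.comp_apply, TensorProduct.map_tmul, LinearMap.mul'_apply, hφm] at h
    rw [← h, hmS, map_sum, map_sum, map_sum, Finset.sum_eq_single x]
    · rw [map_smul, map_smul, map_smul, (x.1.2).comul_eq_tmul_self, TensorProduct.map_tmul, LinearMap.mul'_apply,
        hφ, hφ, if_pos rfl, smul_eq_mul, one_mul]
      split_ifs <;> simp
    · intro z _ hz
      rw [map_smul, map_smul, map_smul, (z.1.2).comul_eq_tmul_self, TensorProduct.map_tmul, LinearMap.mul'_apply,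
        hφ, if_neg hz, zero_mul, smul_zero]
    · simp
  have hcounit : ∀ i l, ∑ x : S, c x i l = if i = l then 1 else 0 := by
    intro i l
    have h := LinearMap.congr_fun (HopfRep.Comod.counit_comp (k := k) (A := A) (V := MvPolynomial ι k)) (MvPolynomial.X i)
    simp only [LinearMap.comp_apply, hm, map_sum, LinearMap.lTensor_tmul] at h
    have h2 := congrArg (fun z => (TensorProduct.lid k k)
      ((MvPolynomial.lcoeff k (Finsupp.single l 1)).rTensor k z)) h
    rw [hXi l, hmS, map_sum] at h2
    simp only [map_smul, fun z : S => (z.1.2).counit_eq_one, smul_eq_mul, mul_one, LinearMap.flip_apply,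
      TensorProduct.mk_apply, LinearMap.rTensor_tmul, TensorProduct.lid_tmul, MvPolynomial.lcoeff_apply,
      MvPolynomial.coeff_X', Finsupp.single_left_inj (one_ne_zero (α := ℕ))] at h2
    exact h2
  let ε := (Fintype.equivFin S).symm
  refine ⟨Fintype.card S, fun j => (ε j).1.1, fun j => (ε j).1.2, fun v hv => ?_⟩
  let a : S → ι → k := fun x i => ∑ j, c x i j * v j
  have hPa : ∀ x y : S, (fun i => ∑ j, c y i j * a x j) = if x = y then a x else 0 := by
    intro x y
    funext i
    simp only [a, Finset.mul_sum]
    rw [Finset.sum_comm]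
    have : ∀ l, ∑ j, c y i j * (c x j l * v l) = (if x = y then c x i l else 0) * v l := fun l => by
      rw [← hproj x y i l, Finset.sum_mul]
      exact Finset.sum_congr rfl fun j _ => by ring
    simp only [this]
    split_ifs <;> simp
  let I := Finset.univ.filter fun j => a (ε j) ≠ 0
  have hI : I.Nonempty := by
    by_contra hI
    apply hv
    funext i
    have h0 : ∀ x : S, a x = 0 := fun x => by
      by_contra hx
      exact hI ⟨ε.symm x, Finset.mem_filter.2 ⟨Finset.mem_univ _, by rwa [ε.apply_symm_apply]⟩⟩
    calc v i = ∑ l, (∑ x : S, c x i l) * v l := by simp only [hcounit]; simp [ite_mul]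
      _ = ∑ x : S, a x i := by simp only [a, Finset.sum_mul]; rw [Finset.sum_comm]
      _ = 0 := by simp [h0]
  refine ⟨I, hI, fun lam e he n => ?_⟩
  let F : ι → LaurentPolynomial k := fun i =>
    LaurentPolynomial.T n * GLin.lamOrbit k A lam (GLin.vecPt k ι v) (MvPolynomial.X i)
  have hF : ∀ i, F i = ∑ j, LaurentPolynomial.C (a (ε j) i) * LaurentPolynomial.T (n + e j) := by
    intro i
    have h1 : GLin.orbitHom k A (GLin.vecPt k ι v) (MvPolynomial.X i) = ∑ l, v l • m i l := by
      show (Algebra.TensorProduct.lid k A) (Algebra.TensorProduct.map (GLin.vecPt k ι v) (AlgHom.id k A)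
        (HopfRep.Comod.coact (k := k) (A := A) (MvPolynomial.X i))) = _
      rw [hm, map_sum, map_sum]
      simp
    show LaurentPolynomial.T n * lam (GLin.orbitHom k A (GLin.vecPt k ι v) (MvPolynomial.X i)) = _
    rw [h1, map_sum, Finset.mul_sum]
    simp only [hmS, map_smul, map_sum, Finset.smul_sum, Finset.mul_sum, smul_smul]
    rw [Finset.sum_comm, ← Equiv.sum_comp ε]
    refine Finset.sum_congr rfl fun j _ => ?_
    rw [show lam ((ε j).1.1 : A) = LaurentPolynomial.T (e j) from he j]
    simp only [a, map_sum, map_mul, Finset.sum_mul, LaurentPolynomial.smul_eq_C_mul, LaurentPolynomial.T_add]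
    exact Finset.sum_congr rfl fun l _ => by ring
  let s : ℤ → ι → k := fun d => ∑ j ∈ Finset.univ.filter (fun j => n + e j = d), a (ε j)
  have hcoeff : ∀ i d, (F i).coeff d = s d i := by
    intro i d
    rw [hF i]
    simp only [← LaurentPolynomial.single_eq_C_mul_T, AddMonoidAlgebra.coeff_sum, Finsupp.finsetSum_apply,
      AddMonoidAlgebra.coeff_single, Finsupp.single_apply, s, Finset.sum_filter]
    rw [Finset.sum_apply]
    exact Finset.sum_congr rfl fun x _ => by split_ifs <;> rfl
  have hs : ∀ d, s d ≠ 0 ↔ ∃ j ∈ I, n + e j = d := by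
    intro d
    constructor
    · intro h
      by_contra hno
      refine h (Finset.sum_eq_zero fun j hj => ?_)
      by_contra hne
      exact hno ⟨j, Finset.mem_filter.2 ⟨Finset.mem_univ _, hne⟩, (Finset.mem_filter.1 hj).2⟩
    · rintro ⟨j, hj, hjd⟩ h
      refine (Finset.mem_filter.1 hj).2 ?_
      funext i
      have h2 : ∑ l, c (ε j) i l * s d l = 0 := by simp [h]
      simp only [s, Finset.sum_apply, Finset.mul_sum] at h2
      rw [Finset.sum_comm, Finset.sum_eq_single j] at h2
      · have h3 := congrFun (hPa (ε j) (ε j)) i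
        rw [if_pos rfl] at h3
        rw [Pi.zero_apply, ← h3]
        exact h2
      · intro x _ hx
        have h3 := congrFun (hPa (ε x) (ε j)) i
        rwa [if_neg (ε.injective.ne hx), Pi.zero_apply] at h3
      · intro hno
        exact (hno (Finset.mem_filter.2 ⟨Finset.mem_univ j, hjd⟩)).elim
  have hc0 : ∀ p : Polynomial k, (Polynomial.toLaurent p).coeff 0 = p.coeff 0 := fun p => by
    rw [LaurentPolynomial.coeff_toLaurent]
    exact Finsupp.mapDomain_apply Nat.cast_injective p.toFinsupp.coeff 0
  constructor
  · rintro ⟨h, hh, h0⟩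
    have hXh : ∀ i, Polynomial.toLaurent (h (MvPolynomial.X i)) = F i := fun i => by
      have := AlgHom.congr_fun hh (MvPolynomial.X i)
      simp only [AlgHom.comp_apply, GLin.shiftedOrbit, MvPolynomial.aeval_X] at this
      rw [← Polynomial.toLaurentAlg_apply]
      exact this
    refine ⟨fun j hj => ?_, ?_⟩
    · by_contra hlt
      obtain ⟨i, hi⟩ := Function.ne_iff.1 ((hs (n + e j)).2 ⟨j, hj, rfl⟩)
      apply hi
      rw [← hcoeff, ← hXh]
      have hnn : n + e j < 0 := by omega
      simp only [LaurentPolynomial.coeff_toLaurent, Pi.zero_apply]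
      rw [Finsupp.mapDomain_notin_range]
      rintro ⟨d, hd⟩
      change (d : ℤ) = n + e j at hd
      omega
    · by_contra hno
      apply h0
      refine MvPolynomial.algHom_ext fun i => ?_
      simp only [AlgHom.comp_apply, MvPolynomial.aeval_X, Polynomial.coe_aeval_eq_eval, ← Polynomial.coeff_zero_eq_eval_zero]
      have : (F i).coeff 0 = 0 := by
        rw [hcoeff]
        by_contra hne
        obtain ⟨j, hj, hjd⟩ := (hs 0).1 fun h => hne (by rw [h, Pi.zero_apply])
        exact hno ⟨j, hj, by omega⟩
      rw [← hXh, hc0] at this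
      exact this
  · rintro ⟨hle, j0, hj0, hn⟩
    have hex : ∀ i, ∃ p : Polynomial k, Polynomial.toLaurent p = F i := by
      intro i
      refine ⟨∑ d ∈ (F i).coeff.support, Polynomial.monomial d.toNat ((F i).coeff d), ?_⟩
      rw [map_sum]
      conv_rhs => rw [← AddMonoidAlgebra.sum_coeff_single (F i)]
      refine Finset.sum_congr rfl fun d hd => ?_
      have hd' : (F i).coeff d ≠ 0 := Finsupp.mem_support_iff.1 hd
      rw [hcoeff] at hd'
      obtain ⟨j, hj, hjd⟩ := (hs d).1 fun h => hd' (by rw [h, Pi.zero_apply])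
      have := hle j hj
      rw [← Polynomial.C_mul_X_pow_eq_monomial, Polynomial.toLaurent_C_mul_X_pow,
        Int.toNat_of_nonneg (by omega), LaurentPolynomial.single_eq_C_mul_T]
    choose p hp using hex
    refine ⟨MvPolynomial.aeval p, MvPolynomial.algHom_ext fun i => ?_, fun h => ?_⟩
    · simp only [AlgHom.comp_apply, MvPolynomial.aeval_X, GLin.shiftedOrbit, Polynomial.toLaurentAlg_apply, hp]
      rfl
    · obtain ⟨i, hi⟩ := Function.ne_iff.1 ((hs 0).2 ⟨j0, hj0, by omega⟩)
      apply hi
      have h1 := AlgHom.congr_fun h (MvPolynomial.X i)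
      simp only [AlgHom.comp_apply, MvPolynomial.aeval_X, Polynomial.coe_aeval_eq_eval,
        ← Polynomial.coeff_zero_eq_eval_zero] at h1
      rw [← hcoeff, ← hp, Pi.zero_apply, hc0]
      exact h1

end Groth.Agent.S12553
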