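import Groth.Statements.S12555
import Groth.Agent.Comod.Reynolds

set_option autoImplicit false
universe u
open TensorProduct
open GIT

namespace Groth.Agent.S12555

lemma isComodHom_reynolds {k : Type u} [Field k] {A : Type u} [CommRing A] [HopfAlgebra k A]
    {V : Type u} [AddCommGroup V] [Module k V] [HopfRep.Comod k A V] (r : Groth.Agent.Comod.Integral k A) :
    Hoch.IsComodHom A (Groth.Agent.Comod.reynolds V r) := by
  rw [Groth.Agent.Comod.isComodHom_iff]
  intro f v
  have hf : Groth.Agent.Comod.dact k A V f (Groth.Agent.Comod.reynolds V r v) =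
      f.ofConv 1 • Groth.Agent.Comod.reynolds V r v := by
    rw [Groth.Agent.Comod.dact_apply,
      show HopfRep.Comod.coact (k := k) (A := A) (Groth.Agent.Comod.reynolds V r v) =
        (Groth.Agent.Comod.reynolds V r v) ⊗ₜ[k] (1 : A) from Groth.Agent.Comod.reynolds_mem r v,
      Groth.Agent.Comod.cR_tmul]
  have he : WithConv.toConv r.toFun * f = f.ofConv 1 • WithConv.toConv r.toFun := by
    have h0 : ∀ t : A ⊗[k] A, (LinearMap.mul' k k ∘ₗ TensorProduct.map r.toFun f.ofConv) t =
        f.ofConv (Groth.Agent.Comod.cL r.toFun t) := by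
      intro t
      induction t using TensorProduct.induction_on with
      | zero => simp
      | tmul x y => simp
      | add x y hx hy => simp only [map_add, hx, hy]
    apply WithConv.ofConv_injective
    refine LinearMap.ext fun a => ?_
    rw [LinearMap.convMul_def]
    show (LinearMap.mul' k k ∘ₗ TensorProduct.map r.toFun f.ofConv) (Coalgebra.comul (R := k) a) =
      f.ofConv 1 * r.toFun a
    rw [h0, show Groth.Agent.Comod.cL r.toFun (Coalgebra.comul (R := k) a) = algebraMap k A (r.toFun a) from
      r.left a, Algebra.algebraMap_eq_smul_one, map_smul, smul_eq_mul, mul_comm]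
  show Groth.Agent.Comod.reynolds V r (Groth.Agent.Comod.dact k A V f v) =
    Groth.Agent.Comod.dact k A V f (Groth.Agent.Comod.reynolds V r v)
  rw [hf]
  show (Groth.Agent.Comod.dact k A V (WithConv.toConv r.toFun) * Groth.Agent.Comod.dact k A V f) v = _
  rw [← map_mul, he, map_smul]
  rfl


/-- Let k be a field, G = Spec A a linearly reductive affine group (A a commutative Hopf algebra whose
finite-dimensional comodules are all semisimple) and V a representation of G of any dimension (an
A-comodule). Then there is exactly one linear map E : V → V commuting with the coaction, with E ∘ E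
= E, and with E x = x exactly for the invariant vectors x. -/
theorem result (k : Type u) [Field k] (A : Type u) [CommRing A] [HopfAlgebra k A]
    (hG : HopfRep.IsLinearlyReductive k A) (V : Type u) [AddCommGroup V] [Module k V] [HopfRep.Comod k A V] :
    ∃! E : V →ₗ[k] V, Hoch.IsComodHom A E ∧ E ∘ₗ E = E ∧ ∀ x : V, E x = x ↔ x ∈ HopfRep.fixedPts k A V := by
  obtain ⟨r⟩ := Groth.Agent.Comod.nonempty_integral hG
  refine ⟨Groth.Agent.Comod.reynolds V r, ⟨isComodHom_reynolds r, LinearMap.ext fun x =>
    Groth.Agent.Comod.reynolds_of_mem r (Groth.Agent.Comod.reynolds_mem r x), fun x =>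
    ⟨fun h => h ▸ Groth.Agent.Comod.reynolds_mem r x, Groth.Agent.Comod.reynolds_of_mem r⟩⟩, ?_⟩
  rintro E ⟨hE, hE2, hE3⟩
  refine LinearMap.ext fun x => ?_
  have h1 : E x ∈ HopfRep.fixedPts k A V := (hE3 _).1 (LinearMap.congr_fun hE2 x)
  rw [← Groth.Agent.Comod.reynolds_of_mem r h1, ← Groth.Agent.Comod.reynolds_natural r hE]
  exact (hE3 _).2 (Groth.Agent.Comod.reynolds_mem r x)

end Groth.Agent.S12555
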