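import Groth.Statements.S1258
import Groth.Agent.RG.Loc.PiPiece

set_option autoImplicit false
open Groth.Agent
universe u
open FlatMor

namespace Groth.Agent.S1258

open TensorProduct IsLocalRing in
/-- Ring form, X = Spec S and S = Spec R affine: let S be a finitely presented R-algebra, N a finite
S-module and p a prime of R such that N_q is flat over R for every prime q of S over p. Then there
is an étale R-algebra R' with a prime p' over p having the same residue field such that, writing A
for the local ring of R' at p' and S_A, N_A for the base changes: there is an étale S_A-algebra C,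
finitely presented over A, such that every prime of S over p is the contraction of a prime of C
lying over the maximal ideal of A, C ⊗ N_A is a finitely presented C-module, and C ⊗ N_A is a free
A-module. -/
theorem result {R S : Type u} [CommRing R] [CommRing S] [Algebra R S] [Algebra.FinitePresentation R S]
    (N : Type u) [AddCommGroup N] [Module S N] [Module R N] [IsScalarTower R S N] [Module.Finite S N]
    (p : Ideal R) [p.IsPrime] (hflat : ∀ (q : Ideal S) [q.IsPrime], q.LiesOver p → FlatCA.FlatAt R q N) :
    ∃ (R' : Type u) (_ : CommRing R') (_ : Algebra R R') (p' : Ideal R') (_ : p'.IsPrime), FlatCA.IsEtaleNhd R R' p p' ∧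
      ∀ (SA NA : Type u) [CommRing SA] [Algebra R SA] [Algebra S SA] [Algebra (Localization.AtPrime p') SA]
        [IsScalarTower R S SA] [IsScalarTower R (Localization.AtPrime p') SA]
        [Algebra.IsPushout R S (Localization.AtPrime p') SA]
        [AddCommGroup NA] [Module SA NA] [Module S NA] [IsScalarTower S SA NA]
        (f : N →ₗ[S] NA), IsBaseChange SA f →
        ∃ (C : Type u) (_ : CommRing C) (_ : Algebra SA C) (_ : Algebra (Localization.AtPrime p') C)
          (_ : IsScalarTower (Localization.AtPrime p') SA C) (_ : Algebra S C) (_ : IsScalarTower S SA C),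
          Algebra.Etale SA C ∧ Algebra.FinitePresentation (Localization.AtPrime p') C ∧
          (∀ (q : Ideal S) [q.IsPrime], q.LiesOver p → ∃ x' : Ideal C, x'.IsPrime ∧ x'.comap (algebraMap S C) = q ∧
            x'.LiesOver (maximalIdeal (Localization.AtPrime p'))) ∧
          Module.FinitePresentation C (C ⊗[SA] NA) ∧
          Module.Free (Localization.AtPrime p') (RestrictScalars (Localization.AtPrime p') C (C ⊗[SA] NA)) := by
  obtain ⟨R', _, _, p', _, hn, m, hpiece⟩ :=
    RG.Loc.exists_good_cover p N fun q _ hq => hflat q ⟨hq.symm⟩
  refine ⟨R', inferInstance, inferInstance, p', inferInstance, hn, ?_⟩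
  intro SA NA _ _ _ _ _ _ _ _ _ _ _ f hf
  obtain ⟨g, hgfp, hgproj, hcov⟩ := hpiece SA NA f hf
  let C : Fin m → Type u := fun i => Localization.Away (g i)
  haveI : IsScalarTower (Localization.AtPrime p') SA (∀ i, C i) := IsScalarTower.of_algebraMap_eq fun a => funext fun i =>
    IsScalarTower.algebraMap_apply (Localization.AtPrime p') SA (C i) a
  haveI : IsScalarTower S SA (∀ i, C i) := IsScalarTower.of_algebraMap_eq fun a => funext fun i =>
    IsScalarTower.algebraMap_apply S SA (C i) a
  haveI : ∀ i, Algebra.Etale SA (C i) := fun i => Algebra.Etale.of_isLocalizationAway (g i)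
  haveI : Algebra.FiniteType (Localization.AtPrime p') SA := by
    haveI : Algebra.IsPushout R (Localization.AtPrime p') S SA := Algebra.IsPushout.symm inferInstance
    exact Algebra.FiniteType.equiv inferInstance (Algebra.IsPushout.equiv R (Localization.AtPrime p') S SA)
  haveI : Algebra.FiniteType (Localization.AtPrime p') (∀ i, C i) :=
    Algebra.FiniteType.trans (S := SA) inferInstance inferInstance
  haveI : Module.Finite SA NA := Module.Finite.equiv hf.equiv
  obtain ⟨hCfp, hCproj⟩ := RG.Loc.fp_projective_pi (A := Localization.AtPrime p') (B := SA) C NA hgfp hgproj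
  have hfree := RG.Loc.free_model (C := ∀ i, C i) hCproj
  have hpts : ∀ (q : Ideal S) [q.IsPrime], q.LiesOver p → ∃ x' : Ideal (∀ i, C i), x'.IsPrime ∧
      x'.comap (algebraMap S (∀ i, C i)) = q ∧ x'.LiesOver (maximalIdeal (Localization.AtPrime p')) := by
    intro q _ hq
    obtain ⟨Q, hQ, hQq, hQm, -⟩ := RG.Loc.exists_point_model hn q hq.over.symm SA
    obtain ⟨i, hi⟩ := hcov Q hQ hQm
    have hd : Disjoint (Submonoid.powers (g i) : Set SA) (Q : Set SA) := by
      rwa [Ideal.disjoint_powers_iff_notMem_of_isPrime]
    haveI : (Q.map (algebraMap SA (C i))).IsPrime := IsLocalization.isPrime_of_isPrime_disjoint _ (C i) Q hQ hd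
    have hc : (Q.map (algebraMap SA (C i))).comap (algebraMap SA (C i)) = Q :=
      IsLocalization.comap_map_of_isPrime_disjoint _ (C i) hQ hd
    refine ⟨(Q.map (algebraMap SA (C i))).comap (Pi.evalRingHom C i), Ideal.IsPrime.comap _, ?_, ⟨?_⟩⟩
    · rw [Ideal.comap_comap, show (Pi.evalRingHom C i).comp (algebraMap S (∀ j, C j)) = algebraMap S (C i) from rfl,
        IsScalarTower.algebraMap_eq S SA (C i), ← Ideal.comap_comap, hc, hQq]
    · rw [Ideal.under, Ideal.comap_comap,
        show (Pi.evalRingHom C i).comp (algebraMap (Localization.AtPrime p') (∀ j, C j)) =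
          algebraMap (Localization.AtPrime p') (C i) from rfl,
        IsScalarTower.algebraMap_eq (Localization.AtPrime p') SA (C i), ← Ideal.comap_comap, hc, hQm]
  haveI : Algebra.IsPushout R (Localization.AtPrime p') S SA := Algebra.IsPushout.symm inferInstance
  haveI : Algebra.FinitePresentation (Localization.AtPrime p') SA :=
    Algebra.FinitePresentation.equiv (Algebra.IsPushout.equiv R (Localization.AtPrime p') S SA)
  exact ⟨∀ i, C i, inferInstance, inferInstance, inferInstance, inferInstance, inferInstance, inferInstance,
    inferInstance, Algebra.FinitePresentation.trans (Localization.AtPrime p') SA (∀ i, C i), hpts, hCfp, hfree⟩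

end Groth.Agent.S1258
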