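import Groth.Statements.S12584
import Groth.Agent.FunFld.Residue.HyperBasis
open Groth.Agent.FunFld.Residue

set_option autoImplicit false
universe u v w
open FunFld

namespace Groth.Agent.S12584

/-- For `char k ≠ 2` and `K` of degree `2` over `k(x)` with `y² = f(x)`, `f` squarefree of degree `≥ 1`,
the forms `x^i dx/y`, `0 ≤ i < g`, are a `k`-basis of the regular differential forms: each is
regular, and every regular `z dx` has `z = a(x)/y` with `deg a < g`; regularity read through Laurent
expansions over `k` at every place (all places separable). -/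
theorem result (k : Type u) (K : Type v) [Field k] [Field K] [Algebra k K] [Algebra (RatFunc k) K] [IsScalarTower k (RatFunc k) K]
    (hK : FunFld.IsFunctionField k K) (hdeg : Module.finrank (RatFunc k) K = 2) (h2 : ringChar k ≠ 2)
    (y : K) (f : Polynomial k) (hf : Squarefree f) (hd : 1 ≤ f.natDegree)
    (heq : y ^ 2 = algebraMap (RatFunc k) K (algebraMap (Polynomial k) (RatFunc k) f))
    (F : FunFld.Place k K → Type w) [∀ P, Field (F P)] [∀ P, Algebra k (F P)] [∀ P, FiniteDimensional k (F P)]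
    (φ : ∀ P, K →ₐ[k] LaurentSeries (F P)) (hφ : ∀ P, LocRes.IsExpansionAt P.1 (φ P)) :
    (∀ i : ℕ, i < FunFld.genus k K → ∀ P,
      LocRes.vDiff (φ P) (algebraMap (RatFunc k) K RatFunc.X ^ i / y) (algebraMap (RatFunc k) K RatFunc.X) ≤ 1) ∧
    ∀ z : K, (∀ P, LocRes.vDiff (φ P) z (algebraMap (RatFunc k) K RatFunc.X) ≤ 1) →
      ∃ a : Polynomial k, a.degree < (FunFld.genus k K : WithBot ℕ) ∧
        z = algebraMap (RatFunc k) K (algebraMap (Polynomial k) (RatFunc k) a) / y := by
  haveI : FiniteDimensional (RatFunc k) K := Module.finite_of_finrank_eq_succ hdeg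
  haveI : Algebra.IsSeparable (RatFunc k) K :=
    isSeparable_sq hdeg h2 (Groth.Agent.FunFld.not_mem_range_of_sq hf hd heq) heq
  have hg : FunFld.IsGeometric k K := Groth.Agent.FunFld.isGeometric_of_separable_ratFunc hK
  have hgen : FunFld.genus k K = (f.natDegree - 1) / 2 := Groth.Agent.FunFld.genus_sq hK hdeg h2 hf hd heq
  have hy0 : y ≠ 0 := fun h => (_root_.map_ne_zero (algebraMap (RatFunc k) K)).2
    (Groth.Agent.FunFld.algebraMap_poly_ne_zero hf.ne_zero) (by rw [← heq, h, zero_pow two_ne_zero])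
  have hreg : ∀ i : ℕ, i < FunFld.genus k K → ∀ P,
      LocRes.vDiff (φ P) (algebraMap (RatFunc k) K RatFunc.X ^ i / y) (algebraMap (RatFunc k) K RatFunc.X) ≤ 1 :=
    fun i hi P => hyper_regular φ hK hg hdeg hf hd heq hφ (hgen ▸ hi) P
  refine ⟨hreg, fun z hz => ?_⟩
  obtain ⟨a, ha⟩ := regular_eq_range φ hK hg hφ (D_X_ne_zero hK hg) rfl (divMap y _) (divMap_injective hy0 _)
    (fun a P => vDiff_divMap_le φ hφ hreg a P) hz
  exact ⟨(a : Polynomial k), Polynomial.mem_degreeLT.1 a.2, by rw [← ha, divMap_apply]⟩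

end Groth.Agent.S12584
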