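import Groth.Statements.S12589
import Groth.Agent.FunFld.Ext.Lattice
import Mathlib

set_option autoImplicit false
universe u v
open FunFld

namespace Groth.Agent.S12589

/-- If a place `P` of a geometric function field of one variable `K/k` is nonsingular with respect to
the finite extension `k'/k` (the integral closure of `O_P` in `K' = k' ⊗_k K` is `O_P[k']`) and `Q`
is a place of `K'` above `P`, then `F_Q = k' F_P`. -/
theorem result (k k' : Type u) (K K' : Type v) [Field k] [Field k'] [Field K] [Field K']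
    [Algebra k k'] [FiniteDimensional k k'] [Algebra k K] [Algebra K K'] [Algebra k' K'] [Algebra k K']
    [IsScalarTower k k' K'] [IsScalarTower k K K']
    (h : Function.Bijective (Algebra.TensorProduct.productMap
      (IsScalarTower.toAlgHom k k' K') (IsScalarTower.toAlgHom k K K')))
    (hK : FunFld.IsFunctionField k K) (hg : FunFld.IsGeometric k K)
    (P : FunFld.Place k K) [Algebra P.O K'] [IsScalarTower P.O K K']
    (hns : (integralClosure P.O K').toSubring = (Algebra.adjoin P.O (Set.range (algebraMap k' K'))).toSubring)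
    (Q : FunFld.Place k K') [P.1.HasExtension Q.1] (hk' : ∀ c : k', Q.1 (algebraMap k' K' c) ≤ 1) :
    Algebra.adjoin (IsLocalRing.ResidueField P.O)
      (Set.range fun c : k' => IsLocalRing.residue Q.O ⟨algebraMap k' K' c, hk' c⟩) = ⊤ := by
  classical
  open Groth.Agent.FunFld in
  have hfd : FiniteDimensional K K' := by
    obtain ⟨s, hs⟩ : (⊤ : Submodule k k').FG := Module.Finite.fg_top
    refine ⟨⟨s.image (algebraMap k' K'), eq_top_iff.2 fun z hz => ?_⟩⟩
    clear hz
    obtain ⟨w, rfl⟩ := h.2 z
    induction w using TensorProduct.induction_on with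
    | zero => simp
    | add a b ha hb => rw [map_add]; exact add_mem ha hb
    | tmul a c =>
      rw [Algebra.TensorProduct.productMap_apply_tmul, IsScalarTower.coe_toAlgHom', IsScalarTower.coe_toAlgHom',
        mul_comm, ← Algebra.smul_def]
      refine Submodule.smul_mem _ _ ?_
      have ha : a ∈ Submodule.span k (s : Set k') := hs ▸ trivial
      induction ha using Submodule.span_induction with
      | mem x hx => exact Submodule.subset_span (Finset.mem_coe.2 (Finset.mem_image_of_mem _ hx))
      | zero => simp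
      | add x y _ _ hx hy => rw [map_add]; exact add_mem hx hy
      | smul q x _ hx =>
        rw [Algebra.smul_def, map_mul, ← IsScalarTower.algebraMap_apply, IsScalarTower.algebraMap_apply k K K',
          ← Algebra.smul_def]
        exact Submodule.smul_mem _ _ hx
  obtain ⟨P', hP'⟩ := Groth.Agent.FunFld.exists_below (K := K) Q
  have hPP : P' = P := Groth.Agent.FunFld.eq_of_le fun x hx =>
    (Valuation.HasExtension.val_map_le_one_iff P.1 Q.1 x).1 ((Groth.Agent.FunFld.val_le_one_iff hP' x).2 hx)
  subst hPP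
  rw [eq_top_iff]
  intro z _
  obtain ⟨⟨y, hy⟩, rfl⟩ := IsLocalRing.residue_surjective z
  let S := Groth.Agent.FunFld.placesOver hK K' P'
  obtain ⟨w, hw⟩ := Groth.Agent.FunFld.exists_approx (k := k) S (fun R => if R = Q then y else 0) (-1)
  have hQS : Q ∈ S := (Groth.Agent.FunFld.mem_placesOver hK).2 hP'
  have hexp : (WithZero.exp (-1 : ℤ)) < 1 := by rw [← WithZero.exp_zero, WithZero.exp_lt_exp]; omega
  have hwQ : Q.1 (w - y) < 1 := by
    have := hw Q hQS
    rw [if_pos rfl] at this
    exact this.trans_lt hexp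
  have hwB : w ∈ Groth.Agent.FunFld.Bring hK P' K' := fun R hR => by
    have := hw R hR
    split_ifs at this with hRQ
    · subst hRQ
      calc R.1 w = R.1 ((w - y) + y) := by rw [sub_add_cancel]
        _ ≤ 1 := (R.1.map_add _ _).trans (max_le hwQ.le hy)
    · rw [sub_zero] at this
      exact this.trans hexp.le
  rw [← Groth.Agent.FunFld.integralClosure_eq hK P'] at hwB
  have hwA : w ∈ Algebra.adjoin P'.O (Set.range (algebraMap k' K')) := by
    rw [← Subalgebra.mem_toSubring, ← hns]; exact hwB
  let T := Algebra.adjoin (IsLocalRing.ResidueField P'.O)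
    (Set.range fun c : k' => IsLocalRing.residue Q.O ⟨algebraMap k' K' c, hk' c⟩)
  have key : ∀ v ∈ Algebra.adjoin P'.O (Set.range (algebraMap k' K')),
      ∃ hv : v ∈ Q.O, IsLocalRing.residue Q.O ⟨v, hv⟩ ∈ T := by
    intro v hv
    induction hv using Algebra.adjoin_induction with
    | mem x hx =>
      obtain ⟨c, rfl⟩ := hx
      exact ⟨hk' c, Algebra.subset_adjoin (Set.mem_range_self c)⟩
    | algebraMap c =>
      have he : algebraMap P'.O K' c = algebraMap K K' (c : K) := IsScalarTower.algebraMap_apply P'.O K K' c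
      rw [he]
      refine ⟨(Valuation.HasExtension.val_map_le_one_iff P'.1 Q.1 (c : K)).2 c.2, ?_⟩
      exact T.algebraMap_mem (IsLocalRing.residue P'.O c)
    | add x x' _ _ hx hx' =>
      obtain ⟨h1, h2⟩ := hx; obtain ⟨h3, h4⟩ := hx'
      refine ⟨add_mem h1 h3, ?_⟩
      rw [show (⟨x + x', add_mem h1 h3⟩ : Q.O) = ⟨x, h1⟩ + ⟨x', h3⟩ from rfl, map_add]
      exact add_mem h2 h4
    | mul x x' _ _ hx hx' =>
      obtain ⟨h1, h2⟩ := hx; obtain ⟨h3, h4⟩ := hx'
      refine ⟨mul_mem h1 h3, ?_⟩
      rw [show (⟨x * x', mul_mem h1 h3⟩ : Q.O) = ⟨x, h1⟩ * ⟨x', h3⟩ from rfl, map_mul]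
      exact mul_mem h2 h4
  obtain ⟨hwO, hwT⟩ := key w hwA
  have heq : IsLocalRing.residue Q.O ⟨w, hwO⟩ = IsLocalRing.residue Q.O ⟨y, hy⟩ := by
    rw [← sub_eq_zero, ← map_sub, IsLocalRing.residue_eq_zero_iff, IsLocalRing.mem_maximalIdeal, mem_nonunits_iff]
    exact (Valuation.Integer.not_isUnit_iff_valuation_lt_one (v := Q.1) (x := (⟨w - y, sub_mem hwO hy⟩ : Q.O))).2 hwQ
  rw [← heq]
  exact hwT

end Groth.Agent.S12589
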