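import Groth.Statements.S12595


set_option autoImplicit false
open FunFld

namespace Groth.Agent.S12595

/-- Over an algebraically closed constant field, let `φ` be a birational projective map of the function
field `K` (the ratios `φ i / φ 0` generate `K`), `τ` a `k`-endomorphism of `K` and `H` a total Hasse
derivative. Then the first `τ`-order of `φ` is positive — the column `φ` of `0`-th Hasse derivatives
lies in the `K`-span of the leading column `τ(φ)` — exactly when `τ` is the identity. -/
theorem result
    (k K : Type*) [Field k] [IsAlgClosed k] [Field K] [Algebra k K]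
    (hK : FunFld.IsFunctionField k K) {n : ℕ} (φ : Fin (n + 1) → K) (h0 : φ 0 ≠ 0)
    (hbir : IntermediateField.adjoin k (Set.range fun i => φ i / φ 0) = ⊤)
    (τ : K →ₐ[k] K) (s : K) (H : K →ₐ[k] PowerSeries K) (hH : LocRes.IsHasseFamily s H) :
    ¬ FunFld.IsJump K (FunFld.hcol τ H φ) 1 ↔ τ = AlgHom.id k K := by
  classical
  have h1 : FunFld.hcol τ H φ 1 = φ := funext fun i => by
    show LocRes.hasseD H 0 (φ i) = φ i
    rw [LocRes.hasseD_apply, PowerSeries.coeff_zero_eq_constantCoeff_apply, hH.2]
  rw [FunFld.IsJump, not_not, h1, show (Set.Iio 1 : Set ℕ) = {0} by ext m; simp [Nat.lt_one_iff],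
    Set.image_singleton, Submodule.mem_span_singleton]
  constructor
  · rintro ⟨a, ha⟩
    have h : ∀ i, a * τ (φ i) = φ i := fun i => congrFun ha i
    have ha0 : a ≠ 0 := fun e => h0 (by rw [← h 0, e, zero_mul])
    have hfix : ∀ i, τ (φ i / φ 0) = φ i / φ 0 := fun i => by
      rw [map_div₀]
      conv_rhs => rw [← h i, ← h 0, mul_div_mul_left _ _ ha0]
    ext z
    have hz : z ∈ IntermediateField.adjoin k (Set.range fun i => φ i / φ 0) := hbir ▸ IntermediateField.mem_top
    induction hz using IntermediateField.adjoin_induction with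
    | mem w hw => obtain ⟨i, rfl⟩ := hw; exact hfix i
    | algebraMap c => exact τ.commutes c
    | add u v _ _ hu hv => simp only [map_add, hu, hv, AlgHom.id_apply]
    | inv u _ hu => simp only [map_inv₀, hu, AlgHom.id_apply]
    | mul u v _ _ hu hv => simp only [map_mul, hu, hv, AlgHom.id_apply]
  · rintro rfl
    exact ⟨1, one_smul _ _⟩

end Groth.Agent.S12595
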