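import Groth.Statements.S12596
import Mathlib

set_option autoImplicit false
open FunFld

namespace Groth.Agent.S12596

/-- Over an algebraically closed constant field, replacing a projective map `φ` by `Aφ` for an
invertible matrix `A` over `k` does not change the `τ`-order sequence, and multiplies every
generalized Wronskian determinant `det [τ(φ) | D^(I₁) φ | ⋯ | D^(Iₙ) φ]` (Hasse derivatives taken
with `H`) by `det A`. -/
theorem result
    (k K : Type*) [Field k] [IsAlgClosed k] [Field K] [Algebra k K]
    (hK : FunFld.IsFunctionField k K) {n : ℕ} (φ : Fin (n + 1) → K) (hφ : LinearIndependent k φ)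
    (τ : K →ₐ[k] K) (s : K) (H : K →ₐ[k] PowerSeries K) (hH : LocRes.IsHasseFamily s H)
    (A : Matrix (Fin (n + 1)) (Fin (n + 1)) k) (hA : A.det ≠ 0)
    (φ' : Fin (n + 1) → K) (hφ' : ∀ i, φ' i = ∑ j, A i j • φ j) :
    (∀ J : Fin n → ℕ, FunFld.IsOrders K (FunFld.hcol τ H φ') J ↔ FunFld.IsOrders K (FunFld.hcol τ H φ) J) ∧
    ∀ I : Fin n → ℕ, (FunFld.wrMat τ H φ' I).det = algebraMap k K A.det * (FunFld.wrMat τ H φ I).det := by
  have hlin : ∀ (g : K →ₗ[k] K) (i : Fin (n + 1)), g (φ' i) = ∑ j, algebraMap k K (A i j) * g (φ j) := fun g i => by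
    rw [hφ' i, map_sum]
    exact Finset.sum_congr rfl fun j _ => by rw [map_smul, Algebra.smul_def]
  let D : ℕ → K →ₗ[k] K := fun j =>
    { toFun := fun x => LocRes.hasseD H j x
      map_add' := fun x y => by simp [LocRes.hasseD]
      map_smul' := fun c x => by simp [LocRes.hasseD] }
  let AK : Matrix (Fin (n + 1)) (Fin (n + 1)) K := A.map (algebraMap k K)
  have hdet : AK.det = algebraMap k K A.det := (RingHom.map_det (algebraMap k K) A).symm
  have hu : IsUnit AK.det := by rw [hdet]; exact (IsUnit.mk0 _ hA).map _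
  have hcol : ∀ j, FunFld.hcol τ H φ' j = AK.mulVecLin (FunFld.hcol τ H φ j) := fun j => by
    funext i
    rcases j with - | j
    · exact hlin τ.toLinearMap i
    · exact hlin (D j) i
  have hinj : Function.Injective AK.mulVecLin :=
    Matrix.mulVec_injective_iff_isUnit.2 ((Matrix.isUnit_iff_isUnit_det AK).2 hu)
  refine ⟨fun J => and_congr_right fun _ => forall_congr' fun j => iff_congr Iff.rfl ?_, fun I => ?_⟩
  · unfold FunFld.IsJump
    rw [not_iff_not, show FunFld.hcol τ H φ' = fun j => AK.mulVecLin (FunFld.hcol τ H φ j) from funext hcol,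
      ← Set.image_image, Submodule.span_image]
    exact Function.Injective.mem_set_image (s := (Submodule.span K (FunFld.hcol τ H φ '' Set.Iio (j + 1)) : Set _)) hinj
  · have hw : FunFld.wrMat τ H φ' I = AK * FunFld.wrMat τ H φ I := by
      ext i c
      rw [Matrix.mul_apply]
      refine Fin.cases ?_ (fun l => ?_) c
      · exact hlin τ.toLinearMap i
      · exact hlin (D (I l)) i
    rw [hw, Matrix.det_mul, hdet]

end Groth.Agent.S12596
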