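import Groth.Statements.S12597
import Groth.Agent.FunFld.Extra

set_option autoImplicit false
open FunFld

namespace Groth.Agent.S12597

/-- Over an algebraically closed constant field, multiplying a projective map `φ = (φ₀, …, φₙ)` by a
nonzero function `y` does not change its `τ`-order sequence `J`, and multiplies the Wronskian `det
[τ(φ) | D^(j₁) φ | ⋯ | D^(jₙ) φ]` taken at that sequence by `τ(y) yⁿ`. -/
theorem result
    (k K : Type*) [Field k] [IsAlgClosed k] [Field K] [Algebra k K]
    (hK : FunFld.IsFunctionField k K) {n : ℕ} (φ : Fin (n + 1) → K) (hφ : LinearIndependent k φ)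
    (τ : K →ₐ[k] K) (s : K) (H : K →ₐ[k] PowerSeries K) (hH : LocRes.IsHasseFamily s H) (y : K) (hy : y ≠ 0) :
    (∀ J : Fin n → ℕ, FunFld.IsOrders K (FunFld.hcol τ H (y • φ)) J ↔ FunFld.IsOrders K (FunFld.hcol τ H φ) J) ∧
    ∀ J : Fin n → ℕ, FunFld.IsOrders K (FunFld.hcol τ H φ) J →
      (FunFld.wrMat τ H (y • φ) J).det = τ y * y ^ n * (FunFld.wrMat τ H φ J).det := by
  classical
  set c := FunFld.hcol τ H φ with hc
  set c' := FunFld.hcol τ H (y • φ) with hc'
  let a : ℕ → K := fun j => if j = 0 then τ y else y
  have ha : ∀ j, a j ≠ 0 := fun j => by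
    simp only [a]; split
    · exact (map_ne_zero τ).2 hy
    · exact hy
  have htri : ∀ j, c' j - a j • c j ∈ Submodule.span K (c '' Set.Iio j) := by
    intro j
    cases j with
    | zero =>
      have : c' 0 - a 0 • c 0 = 0 := by
        funext i; simp [c, c', a, FunFld.hcol]
      rw [this]; exact zero_mem _
    | succ j =>
      have h0 : PowerSeries.coeff 0 (H y) = y := by
        rw [PowerSeries.coeff_zero_eq_constantCoeff_apply]; exact hH.2 y
      have : c' (j + 1) - a (j + 1) • c (j + 1) =
          ∑ b ∈ Finset.range j, PowerSeries.coeff (j - b) (H y) • c (b + 1) := by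
        funext i
        simp only [c, c', a, FunFld.hcol, Pi.sub_apply, Pi.smul_apply, Finset.sum_apply, smul_eq_mul,
          LocRes.hasseD_apply, map_mul, Nat.succ_ne_zero, if_false]
        rw [mul_comm (H y) (H (φ i)), PowerSeries.coeff_mul,
          Finset.Nat.sum_antidiagonal_eq_sum_range_succ_mk, Finset.sum_range_succ, Nat.sub_self, h0,
          mul_comm _ y, add_sub_cancel_right]
        exact Finset.sum_congr rfl fun b _ => mul_comm _ _
      rw [this]
      refine sum_mem fun b hb => Submodule.smul_mem _ _ (Submodule.subset_span ⟨b + 1, ?_, rfl⟩)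
      exact Set.mem_Iio.2 (by have := Finset.mem_range.1 hb; omega)
  have hspan : ∀ m, Submodule.span K (c' '' Set.Iio m) = Submodule.span K (c '' Set.Iio m) := by
    intro m
    induction m with
    | zero => simp
    | succ m ih =>
      rw [show Set.Iio (m + 1) = insert m (Set.Iio m) by ext; simp, Set.image_insert_eq, Set.image_insert_eq,
        Submodule.span_insert, Submodule.span_insert, ih]
      apply le_antisymm <;> refine sup_le ?_ le_sup_right <;> rw [Submodule.span_singleton_le_iff_mem]
      · rw [← sub_add_cancel (c' m) (a m • c m)]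
        exact add_mem (Submodule.mem_sup_right (htri m))
          (Submodule.mem_sup_left (Submodule.smul_mem _ _ (Submodule.mem_span_singleton_self _)))
      · rw [← inv_smul_smul₀ (ha m) (c m), show a m • c m = c' m - (c' m - a m • c m) by abel]
        exact Submodule.smul_mem _ _ (sub_mem (Submodule.mem_sup_left (Submodule.mem_span_singleton_self _))
          (Submodule.mem_sup_right (htri m)))
  have hjump : ∀ j, FunFld.IsJump K c' j ↔ FunFld.IsJump K c j := by
    intro j
    simp only [FunFld.IsJump, hspan, not_iff_not]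
    rw [show c' j = a j • c j + (c' j - a j • c j) by abel, Submodule.add_mem_iff_left _ (htri j),
      Submodule.smul_mem_iff _ (ha j)]
  refine ⟨fun J => by simp only [FunFld.IsOrders, hjump], fun J hJ => ?_⟩
  let e : Fin (n + 1) → ℕ := fun l => Fin.cases (motive := fun _ => ℕ) 0 (fun l => J l + 1) l
  have hcol : ∀ (ψ : Fin (n + 1) → K) i l, FunFld.wrMat τ H ψ J i l = FunFld.hcol τ H ψ (e l) i := by
    intro ψ i l
    cases l using Fin.cases <;> simp [FunFld.wrMat, e, FunFld.hcol]
  have hgen : ∀ m, Submodule.span K (c '' Set.Iio m) ≤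
      Submodule.span K (Set.range fun i : {i // e i < m} => c (e i.1)) := by
    intro m
    induction m with
    | zero => simp
    | succ m ih =>
      have hmono : Submodule.span K (Set.range fun i : {i // e i < m} => c (e i.1)) ≤
          Submodule.span K (Set.range fun i : {i // e i < m + 1} => c (e i.1)) := by
        refine Submodule.span_mono ?_
        rintro _ ⟨i, rfl⟩
        exact ⟨⟨i.1, i.2.trans (Nat.lt_succ_self m)⟩, rfl⟩
      rw [show Set.Iio (m + 1) = insert m (Set.Iio m) by ext; simp, Set.image_insert_eq,
        Submodule.span_insert]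
      refine sup_le ?_ (ih.trans hmono)
      rw [Submodule.span_singleton_le_iff_mem]
      have hmem : ∀ i : Fin (n + 1), e i = m →
          c m ∈ Submodule.span K (Set.range fun i : {i // e i < m + 1} => c (e i.1)) := fun i hi =>
        Submodule.subset_span ⟨⟨i, by omega⟩, by simp [hi]⟩
      rcases m with _ | j
      · exact hmem 0 rfl
      · by_cases hj : FunFld.IsJump K c (j + 1)
        · obtain ⟨l, hl⟩ := (hJ.2 j).2 hj
          exact hmem l.succ (by simp [e, hl])
        · exact hmono (ih (not_not.1 hj))
  have hcoef : ∀ l, ∃ t : Fin (n + 1) → K, (∀ i, e l ≤ e i → t i = 0) ∧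
      c' (e l) = a (e l) • c (e l) + ∑ i, t i • c (e i) := by
    intro l
    obtain ⟨t, ht⟩ := (Submodule.mem_span_range_iff_exists_fun K).1 (hgen _ (htri (e l)))
    refine ⟨fun i => if h : e i < e l then t ⟨i, h⟩ else 0, fun i hi => dif_neg (by omega), ?_⟩
    have hs : ∑ i, (if h : e i < e l then t ⟨i, h⟩ else 0) • c (e i) =
        ∑ i : {i // e i < e l}, t i • c (e i.1) := by
      rw [← Fintype.sum_subtype_add_sum_subtype (fun i => e i < e l),
        Finset.sum_eq_zero (s := (Finset.univ : Finset {i // ¬ e i < e l})) (fun i _ => by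
          rw [dif_neg i.2, zero_smul]), add_zero]
      exact Finset.sum_congr rfl fun i _ => by rw [dif_pos i.2]
    rw [hs, ht]; abel
  choose t ht0 hte using hcoef
  have hemono : StrictMono e := by
    intro i j h
    cases j using Fin.cases with
    | zero => exact absurd h (Fin.not_lt_zero i)
    | succ j =>
      cases i using Fin.cases with
      | zero => simp [e]
      | succ i => simpa [e] using hJ.1 (Fin.succ_lt_succ_iff.1 h)
  let T : Matrix (Fin (n + 1)) (Fin (n + 1)) K :=
    Matrix.of fun i l => (if i = l then a (e l) else 0) + t l i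
  have hmul : FunFld.wrMat τ H (y • φ) J = FunFld.wrMat τ H φ J * T := by
    ext i l
    rw [Matrix.mul_apply, hcol]
    change c' (e l) i = _
    rw [hte l]
    simp only [Pi.add_apply, Pi.smul_apply, Finset.sum_apply, smul_eq_mul, T, Matrix.of_apply, mul_add,
      Finset.sum_add_distrib, mul_ite, mul_zero, Finset.sum_ite_eq', Finset.mem_univ, if_true, hcol]
    rw [mul_comm (a (e l))]
    exact congrArg _ (Finset.sum_congr rfl fun x _ => mul_comm _ _)
  have hdet : T.det = τ y * y ^ n := by
    rw [Matrix.det_of_upperTriangular (fun i l (h : l < i) => by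
      simp [T, ne_of_gt h, ht0 l i (hemono h).le]), Fin.prod_univ_succ]
    simp [T, fun i => ht0 i i le_rfl, a, e]
  rw [hmul, Matrix.det_mul, hdet, mul_comm]

end Groth.Agent.S12597
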