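import Groth.Statements.S12598
import Groth.Agent.FunFld.Wr.Values

set_option autoImplicit false
open FunFld

namespace Groth.Agent.S12598

/-- Over an algebraically closed constant field, the `τ`-order sequence `J = (j₁, …, jₙ)` of a
projective map `φ` does not depend on the separating variable used for the Hasse derivatives, and
the Wronskians with respect to `t` and to `s` differ by the factor `(ds/dt)^(j₁ + ⋯ + jₙ)`, where
`ds/dt` is the first Hasse derivative of `s` with respect to `t`. -/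
theorem result
    (k K : Type*) [Field k] [IsAlgClosed k] [Field K] [Algebra k K]
    (hK : FunFld.IsFunctionField k K) {n : ℕ} (φ : Fin (n + 1) → K) (hφ : LinearIndependent k φ)
    (τ : K →ₐ[k] K) (s : K) (Hs : K →ₐ[k] PowerSeries K) (hHs : LocRes.IsHasseFamily s Hs)
    (t : K) (Ht : K →ₐ[k] PowerSeries K) (hHt : LocRes.IsHasseFamily t Ht) :
    (∀ J : Fin n → ℕ, FunFld.IsOrders K (FunFld.hcol τ Ht φ) J ↔ FunFld.IsOrders K (FunFld.hcol τ Hs φ) J) ∧
    ∀ J : Fin n → ℕ, FunFld.IsOrders K (FunFld.hcol τ Hs φ) J →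
      (FunFld.wrMat τ Ht φ J).det =
        LocRes.hasseD Ht 1 s ^ (∑ l, J l) * (FunFld.wrMat τ Hs φ J).det := by
  open Groth.Agent.FunFld in
  refine ⟨fun J => ?_, fun J hJ => ?_⟩
  · rw [hcol_eq, hcol_eq]
    exact isOrders_congr (a := fun j => if j = 0 then 1 else LocRes.hasseD Ht 1 s ^ (j - 1))
      (fun j => by split_ifs <;> [exact one_ne_zero; exact pow_ne_zero _ (hasseD_one_ne_zero hK hHs hHt)])
      (col_change_tri hK hHs hHt (τ ∘ φ) φ) J
  · rw [hcol_eq] at hJ
    rw [wrMat_eq, wrMat_eq, det_colMat_congr (a := fun j => if j = 0 then 1 else LocRes.hasseD Ht 1 s ^ (j - 1)) (col_change_tri hK hHs hHt (τ ∘ φ) φ) hJ]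
    simp [Finset.prod_pow_eq_pow_sum]

end Groth.Agent.S12598
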