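import Groth.Statements.S12600
import Groth.Agent.FunFld.Wr.Values

set_option autoImplicit false
open FunFld

namespace Groth.Agent.S12600

/-- Over an algebraically closed constant field, for a linearly independent tuple `φ = (φ₀, …, φₙ)`, a
`k`-endomorphism `τ` and a total Hasse derivative `H`, there are exactly `n` `τ`-orders `j₁ < ⋯ <
jₙ` and the Wronskian `det [τ(φ) | D^(j₁) φ | ⋯ | D^(jₙ) φ]` is nonzero. -/
theorem result
    (k K : Type*) [Field k] [IsAlgClosed k] [Field K] [Algebra k K]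
    (hK : FunFld.IsFunctionField k K) {n : ℕ} (φ : Fin (n + 1) → K) (hφ : LinearIndependent k φ)
    (τ : K →ₐ[k] K) (s : K) (H : K →ₐ[k] PowerSeries K) (hH : LocRes.IsHasseFamily s H) :
    ∃ J : Fin n → ℕ, FunFld.IsOrders K (FunFld.hcol τ H φ) J ∧ (FunFld.wrMat τ H φ J).det ≠ 0 := by
  open Groth.Agent.FunFld in
  obtain ⟨M, hM⟩ := exists_spn_top hK hφ hH (τ ∘ φ)
  have h0 : col (τ ∘ φ) H φ 0 ≠ 0 := fun h =>
    hφ.ne_zero 0 (τ.injective ((congrFun h 0).trans (map_zero τ).symm))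
  obtain ⟨J, hJ⟩ := exists_isOrders h0 hM
  exact ⟨J, by rw [hcol_eq]; exact hJ, by rw [wrMat_eq]; exact IsOrders.det_ne_zero hJ hM⟩

end Groth.Agent.S12600
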