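import Groth.Statements.S12602
import Groth.Agent.FunFld.Wr.Values

set_option autoImplicit false
open FunFld

namespace Groth.Agent.S12602

/-- Over an algebraically closed constant field, for a birational projective map `φ = (φ₀, …, φₙ)`, `n ≥
1`, with orders `j₁ < ⋯ < jₙ`, and `τ ≠ 1`, the `τ`-orders of `φ` are `(0, j₁, …, j_{m-1}, j_{m+1},
…, jₙ)` for some `m`: the jump indices of `[τ(φ) | D^(0) φ | D^(1) φ | ⋯]` after the leading column
are `0` and the `jₗ` with `l ≠ m`. -/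
theorem result
    (k K : Type*) [Field k] [IsAlgClosed k] [Field K] [Algebra k K]
    (hK : FunFld.IsFunctionField k K) {n : ℕ} (hn : 0 < n) (φ : Fin (n + 1) → K) (hφ : LinearIndependent k φ)
    (h0 : φ 0 ≠ 0) (hbir : IntermediateField.adjoin k (Set.range fun i => φ i / φ 0) = ⊤)
    (τ : K →ₐ[k] K) (hτ : τ ≠ AlgHom.id k K) (s : K) (H : K →ₐ[k] PowerSeries K) (hH : LocRes.IsHasseFamily s H)
    (J : Fin n → ℕ) (hJ : FunFld.IsOrders K (FunFld.hcol (AlgHom.id k K) H φ) J) :
    ∃ m : Fin n, ∀ j : ℕ,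
      FunFld.IsJump K (FunFld.hcol τ H φ) (j + 1) ↔ (j = 0 ∨ ∃ l, l ≠ m ∧ J l = j) := by
  open Groth.Agent.FunFld in
  obtain ⟨M, hM⟩ := exists_spn_top hK hφ hH ((AlgHom.id k K) ∘ φ)
  rw [hcol_eq] at hJ
  have h10 : col ((AlgHom.id k K) ∘ φ) H φ 1 = col ((AlgHom.id k K) ∘ φ) H φ 0 := by
    funext i
    show LocRes.hasseD H 0 (φ i) = φ i
    rw [LocRes.hasseD_apply, PowerSeries.coeff_zero_eq_constantCoeff_apply, hH.2]
  refine exists_jump_removed hJ h10 (fun h => h0 (congrFun h 0)) hM (c' := FunFld.hcol τ H φ) (fun j => rfl) ?_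
  intro hmem
  obtain ⟨a, ha⟩ := Submodule.mem_span_singleton.1 hmem
  refine hτ (AlgHom.ext fun x => ?_)
  have hx : x ∈ IntermediateField.adjoin k (Set.range fun i => φ i / φ 0) := hbir ▸ IntermediateField.mem_top
  have ha' : ∀ i, a * φ i = τ (φ i) := fun i => congrFun ha i
  induction hx using IntermediateField.adjoin_induction with
  | mem x hx =>
    obtain ⟨i, rfl⟩ := hx
    have ha0 : a ≠ 0 := fun h => h0 (τ.injective (((ha' 0).symm.trans (by rw [h, zero_mul])).trans (map_zero τ).symm))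
    show τ (φ i / φ 0) = φ i / φ 0
    rw [map_div₀, ← ha' i, ← ha' 0, mul_div_mul_left _ _ ha0]
  | algebraMap x => simp
  | add x y _ _ hx hy => simp [hx, hy]
  | inv x _ hx => simp [hx]
  | mul x y _ _ hx hy => simp [hx, hy]

end Groth.Agent.S12602
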