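import Groth.Statements.S12604
import Groth.Agent.FunFld.Wr.Points

set_option autoImplicit false
open FunFld

namespace Groth.Agent.S12604

/-- Over an algebraically closed constant field, let `τ` be a `k`-endomorphism of the function field `K`
of genus `g`, of degree `deg τ = [K : τ(K)]`, and `φ = (φ₀, …, φₙ)` a projective map such that
`τ(φ)` is not a `K`-multiple of `φ`, with `τ`-orders `j₁, …, jₙ`. Then the number `N` of strong
fixed points of `τ` (places whose maximal ideal `τ` maps into its square) is finite and `n N ≤ (n +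
deg τ) deg φ + (2g - 2)(j₁ + ⋯ + jₙ)`, i.e. `N ≤ (1/n) deg W(φ, τ)`. -/
theorem result
    (k K : Type*) [Field k] [IsAlgClosed k] [Field K] [Algebra k K]
    (hK : FunFld.IsFunctionField k K) (τ : K →ₐ[k] K) {n : ℕ} (φ : Fin (n + 1) → K) (hφ : LinearIndependent k φ)
    (hτφ : ¬ ∃ y : K, ∀ i, τ (φ i) = y * φ i) (s : K) (H : K →ₐ[k] PowerSeries K) (hH : LocRes.IsHasseFamily s H)
    (J : Fin n → ℕ) (hJ : FunFld.IsOrders K (FunFld.hcol τ H φ) J) :
    {P : FunFld.Place k K | FunFld.IsStrongFixedPt τ P}.Finite ∧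
    (n : ℤ) * (Set.ncard {P : FunFld.Place k K | FunFld.IsStrongFixedPt τ P} : ℤ) ≤
      ((n : ℤ) + Module.finrank τ.fieldRange K) * (FunFld.mapDiv k φ).deg +
        (2 * (FunFld.genus k K : ℤ) - 2) * ∑ l, (J l : ℤ) := by
  open Groth.Agent.FunFld in
  rw [hcol_eq] at hJ
  obtain ⟨Φ, hΦ⟩ : ∃ Φ : FunFld.Place k K → (K →ₐ[k] LaurentSeries k), ∀ P : FunFld.Place k K,
      LocRes.IsExpansionAt P.1 (Φ P) := by
    choose t ht using fun P : FunFld.Place k K => exists_val P (-1)
    exact ⟨fun P => expand hK (ht P), fun P => isExpansionAt_expand hK (ht P)⟩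
  obtain ⟨-, h1, h2⟩ := strong_bound hK hΦ hτφ hH hφ hJ
  refine ⟨h1, h2.trans_eq ?_⟩
  rw [wDiv_deg hK hΦ hH hφ]
  ring

end Groth.Agent.S12604
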