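import Groth.Statements.S12616
import Groth.Agent.FunFld.Adjoint
import Groth.Agent.FunFld.CoordChange

set_option autoImplicit false
open FunFld

namespace Groth.Agent.S12616

/-- Over an algebraically closed constant field, the adjoint divisor `Δ(φ) = (e - 3)[φ] - [dx/f̂_y]` of
an effective plane map `φ = (1 : x : y)` of degree `e`, with a homogeneous relation `f` of the same
degree `e` satisfying `f(1, x, y) = 0`, depends only on the equivalence class of `φ`: it is
unchanged under a change of projective coordinates `X = AX'`, with `x' = u₁/u₀`, `y' = u₂/u₀`, `u =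
A⁻¹(1, x, y)ᵗ`, `f'(X') = f(AX')`. Here `dx ≠ 0`, both `f̂_y` and `f̂'_{y'}` are nonzero, and
divisors of differentials are read through a family of Laurent expansions. (The published statement
takes `f` to be the minimal relation of `x` and `y` for a plane model `K = k(x, y)`, where the
degree of the map equals the degree of `f`; this row assumes only that `f` is homogeneous of degree
equal to the degree of the map, which is all the change-of-coordinates computation uses — when the
two degrees differ the two sides differ by a multiple of the divisor of `u₀`.) -/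
theorem result
    (k K : Type*) [Field k] [IsAlgClosed k] [Field K] [Algebra k K]
    (hK : FunFld.IsFunctionField k K) (f : MvPolynomial (Fin 3) k) (e : ℕ) (hf : f.IsHomogeneous e)
    (x y : K) (hfxy : MvPolynomial.aeval ![(1 : K), x, y] f = 0)
    (hdx : KaehlerDifferential.D k K x ≠ 0)
    (he : (FunFld.mapDiv k ![(1 : K), x, y]).deg = e)
    (A : Matrix (Fin 3) (Fin 3) k) (hA : A.det ≠ 0)
    (u : Fin 3 → K) (hu : ∀ i, ∑ j, algebraMap k K (A i j) * u j = ![(1 : K), x, y] i)
    (hu0 : u 0 ≠ 0)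
    (hfy : (MvPolynomial.aeval ![(1 : K), x, y] (MvPolynomial.pderiv 2 f)) ≠ 0)
    (hfy' : (MvPolynomial.aeval ![(1 : K), u 1 / u 0, u 2 / u 0] (MvPolynomial.pderiv 2 (MvPolynomial.aeval (fun i : Fin 3 => ∑ j, MvPolynomial.C (A i j) * MvPolynomial.X j) f))) ≠ 0)
    (Φ : FunFld.Place k K → (K →ₐ[k] LaurentSeries k))
    (hΦ : ∀ P : FunFld.Place k K, LocRes.IsExpansionAt P.1 (Φ P)) :
    ((FunFld.mapDiv k ![(1 : K), x, y]).deg - 3) • FunFld.mapDiv k ![(1 : K), x, y] -
        FunFld.divDiff Φ (MvPolynomial.aeval ![(1 : K), x, y] (MvPolynomial.pderiv 2 f))⁻¹ x =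
      ((FunFld.mapDiv k ![(1 : K), u 1 / u 0, u 2 / u 0]).deg - 3) •
          FunFld.mapDiv k ![(1 : K), u 1 / u 0, u 2 / u 0] -
        FunFld.divDiff Φ (MvPolynomial.aeval ![(1 : K), u 1 / u 0, u 2 / u 0] (MvPolynomial.pderiv 2 (MvPolynomial.aeval (fun i : Fin 3 => ∑ j, MvPolynomial.C (A i j) * MvPolynomial.X j) f)))⁻¹ (u 1 / u 0) := by
  obtain ⟨δ, T, hne, hdiv⟩ := Groth.Agent.FunFld.exists_divDiff_formula hK Φ hΦ
  set v : Fin 3 → K := ![(1 : K), u 1 / u 0, u 2 / u 0] with hvdef
  have hv : ∀ j, u j = u 0 * v j := fun j => by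
    fin_cases j <;> simp [hvdef, mul_div_cancel₀ _ hu0]
  have hm : FunFld.mapDiv k v = FunFld.mapDiv k ![(1 : K), x, y] + FunFld.div k (u 0) :=
    Groth.Agent.FunFld.mapDiv_coord_change hK A hA ![(1 : K), x, y] u v rfl hu hu0 rfl hv
  have hdeg : (FunFld.mapDiv k v).deg = e := by
    rw [hm, Groth.Agent.FunFld.deg_add, he, Groth.Agent.FunFld.deg_div hK, add_zero]
  have hkey := Groth.Agent.FunFld.CoordChange.main k K f e hf x y hfxy A u hu hu0 hfy hfy'
  have h1 := congrArg δ.liftKaehlerDifferential hkey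
  rw [map_smul, map_smul, Derivation.liftKaehlerDifferential_comp_D, Derivation.liftKaehlerDifferential_comp_D,
    smul_eq_mul, smul_eq_mul] at h1
  set a := (MvPolynomial.aeval ![(1 : K), x, y] (MvPolynomial.pderiv 2 f))⁻¹
  set b := (MvPolynomial.aeval v (MvPolynomial.pderiv 2
        (MvPolynomial.aeval (fun i : Fin 3 => ∑ j, MvPolynomial.C (A i j) * MvPolynomial.X j) f)))⁻¹
  have ha : a ≠ 0 := inv_ne_zero hfy
  have hb : b ≠ 0 := inv_ne_zero hfy'
  have hx : δ x ≠ 0 := hne x hdx
  have hx' : δ (u 1 / u 0) ≠ 0 := fun h => mul_ne_zero ha hx (by rw [h1, h, mul_zero])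
  rw [hdiv a x ha hx, hdiv b _ hb hx', hdeg, he, hm]
  refine Finsupp.ext fun P => ?_
  simp only [Finsupp.sub_apply, Finsupp.add_apply, Finsupp.smul_apply, smul_eq_mul,
    Groth.Agent.FunFld.div_apply hK]
  have h2 : P.ord (a * δ x) = P.ord (b * δ (u 1 / u 0)) - ((e : ℤ) - 3) * P.ord (u 0) := by
    rw [h1, mul_assoc, Groth.Agent.FunFld.ord_mul P
      (mul_ne_zero ((map_ne_zero _).2 hA) (zpow_ne_zero _ (inv_ne_zero hu0))) (mul_ne_zero hb hx'),
      Groth.Agent.FunFld.ord_mul P ((map_ne_zero _).2 hA) (zpow_ne_zero _ (inv_ne_zero hu0)),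
      Groth.Agent.FunFld.ord_algebraMap, FunFld.Place.ord, map_zpow₀, map_inv₀, WithZero.log_zpow, WithZero.log_inv]
    simp only [FunFld.Place.ord, smul_eq_mul]
    ring
  rw [h2]
  ring

end Groth.Agent.S12616
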