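import Groth.Statements.S1262
import Groth.Agent.RG.AssPts
import Groth.Agent.InjFibre.Loc

set_option autoImplicit false
open Groth.Agent
universe u
open FlatMor

namespace Groth.Agent.S1262

attribute [local instance] Algebra.TensorProduct.rightAlgebra

/-- Ring form, X = Spec S affine: let S be a finite type R-algebra, N a finite S-module and p a prime of
R. Then the set of points x of the fibre Spec(κ(p) ⊗ S) such that N is flat over R at the prime of S
under x is open in the fibre. -/
theorem result {R S : Type u} [CommRing R] [CommRing S] [Algebra R S] [Algebra.FiniteType R S]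
    (N : Type u) [AddCommGroup N] [Module S N] [Module R N] [IsScalarTower R S N] [Module.Finite S N]
    (p : Ideal R) [p.IsPrime] :
    IsOpen {x : PrimeSpectrum (p.Fiber S) |
      FlatCA.FlatAt R (x.asIdeal.comap (Algebra.TensorProduct.includeRight (R := R) (A := p.ResidueField) (B := S)).toRingHom) N} := by
  let F : Ideal (p.Fiber S) → Prop := fun Q => ∃ (_ : Q.IsPrime),
    Q ∈ associatedPrimes (p.Fiber S) (FlatCA.fiberMod p S N) ∧
    ¬ FlatCA.FlatAt R (Q.comap (Algebra.TensorProduct.includeRight (R := R) (A := p.ResidueField) (B := S)).toRingHom) N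
  haveI : IsNoetherianRing (p.Fiber S) := Algebra.FiniteType.isNoetherianRing p.ResidueField _
  haveI : Module.Finite (p.Fiber S) (FlatCA.fiberMod p S N) :=
    inferInstanceAs (Module.Finite (p.Fiber S) (TensorProduct S (p.Fiber S) N))
  have hfin : {Q | F Q}.Finite :=
    (associatedPrimes.finite (p.Fiber S) (FlatCA.fiberMod p S N)).subset fun Q hQ => hQ.2.1
  rw [← isClosed_compl_iff]
  suffices h : {x : PrimeSpectrum (p.Fiber S) |
      FlatCA.FlatAt R (x.asIdeal.comap (Algebra.TensorProduct.includeRight (R := R) (A := p.ResidueField) (B := S)).toRingHom) N}ᶜ =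
      ⋃ Q ∈ {Q | F Q}, PrimeSpectrum.zeroLocus (Q : Set (p.Fiber S)) by
    rw [h]
    exact hfin.isClosed_biUnion fun Q _ => PrimeSpectrum.isClosed_zeroLocus _
  ext x
  simp only [Set.mem_compl_iff, Set.mem_setOf_eq, Set.mem_iUnion, PrimeSpectrum.mem_zeroLocus, SetLike.coe_subset_coe]
  constructor
  · intro hx
    by_contra hcon
    push Not at hcon
    have hxp : (x.asIdeal.comap (Algebra.TensorProduct.includeRight : S →ₐ[R] p.Fiber S).toRingHom).comap
        (algebraMap R S) = p := by
      rw [Ideal.comap_comap, show (Algebra.TensorProduct.includeRight : S →ₐ[R] p.Fiber S).toRingHom.comp (algebraMap R S) =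
        algebraMap R (p.Fiber S) from RingHom.ext fun r => Algebra.TensorProduct.includeRight.commutes r]
      exact (Ideal.over_def x.asIdeal p).symm
    refine hx (RG.local_embedding R S p _ hxp fun σ hσp hσ hσx => ?_).1
    by_contra hnf
    have h1 := (RG.mem_assPts_iff R S p σ (RG.isPrime_of_mem_assPts R S N hσ).2).1 hσ
    obtain ⟨Q, hQ, hQσ⟩ := hσ
    have hQ' : Q.IsPrime := (AssociatedPrimes.mem_iff.1 hQ).isPrime
    haveI := hQ'
    subst hQσ
    refine hcon Q ⟨hQ', hQ, hnf⟩ ?_
    rw [← RG.fiberIdeal_comap R S p Q, ← RG.fiberIdeal_comap R S p x.asIdeal]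
    exact Ideal.map_mono hσx
  · rintro ⟨Q, ⟨hQp, -, hnf⟩, hQx⟩ hx
    haveI := hQp
    haveI : Module.Flat R (LocalizedModule (x.asIdeal.comap (Algebra.TensorProduct.includeRight (R := R) (A := p.ResidueField) (B := S)).toRingHom).primeCompl N) := hx
    refine hnf ?_
    exact InjFibre.flat_localized (R := R) (Q.comap (Algebra.TensorProduct.includeRight (R := R) (A := p.ResidueField) (B := S)).toRingHom).primeCompl
      (IsLocalizedModule.liftOfLE
        (x.asIdeal.comap (Algebra.TensorProduct.includeRight (R := R) (A := p.ResidueField) (B := S)).toRingHom).primeCompl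
        (Q.comap (Algebra.TensorProduct.includeRight (R := R) (A := p.ResidueField) (B := S)).toRingHom).primeCompl
        (fun t ht htq => ht (hQx htq))
        (LocalizedModule.mkLinearMap (x.asIdeal.comap (Algebra.TensorProduct.includeRight (R := R) (A := p.ResidueField) (B := S)).toRingHom).primeCompl N)
        (LocalizedModule.mkLinearMap (Q.comap (Algebra.TensorProduct.includeRight (R := R) (A := p.ResidueField) (B := S)).toRingHom).primeCompl N))

end Groth.Agent.S1262
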