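import Groth.Statements.S12624
import Groth.Agent.PDiffSigma.Basic
import Mathlib.Algebra.CharP.Algebra
import Mathlib.FieldTheory.Perfect

set_option autoImplicit false
universe u v
open CAlg Groth.Agent

namespace Groth.Agent.S12624

/-- For a perfect field `K` of characteristic `p > 0` and a commutative `K`-algebra `A`, put `δ_i(x) =
x^(p^i - 1) dx` in `Ω_{A/K}` and let the subsets `Σ^i ⊆ Ω_{A/K}` be given by `Σ^0 = {0}` and
`Σ^(i+1) = {δ_i(x) + σ | x ∈ A, σ ∈ Σ^i}`; then each `Σ^i` is the underlying set of a `K`-submodule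
of `Ω_{A/K}` (closed under addition and under multiplication by elements of `K`; the latter uses
that `K` is perfect). -/
theorem result (K : Type u) (A : Type v) [Field K] [PerfectField K] (p : ℕ) [Fact p.Prime] [CharP K p]
    [CommRing A] [Algebra K A] (i : ℕ) :
    ∃ S : Submodule K (Ω[A⁄K]), (S : Set (Ω[A⁄K])) = W4bk4bump814p2.sigma K A p i := by
  rw [PDiffSigma.sigma_eq]
  refine ⟨{ toAddSubmonoid := (PDiffSigma.gen K A p i).toAddSubmonoid, smul_mem' := fun c ω hω => ?_ }, rfl⟩
  rcases subsingleton_or_nontrivial A with hA | hA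
  · haveI : Subsingleton (Ω[A⁄K]) := Module.subsingleton A _
    rw [Subsingleton.elim (c • ω) 0]
    exact zero_mem (PDiffSigma.gen K A p i)
  haveI : CharP A p := charP_of_injective_algebraMap (algebraMap K A).injective p
  haveI : ExpChar K p := ExpChar.prime Fact.out
  haveI : PerfectRing K p := PerfectField.toPerfectRing p
  obtain ⟨b, hb⟩ := (iterateFrobeniusEquiv K p i).surjective c
  rw [iterateFrobeniusEquiv_apply, iterateFrobenius_def] at hb
  rw [← hb, ← algebraMap_smul A (b ^ p ^ i), map_pow]
  exact PDiffSigma.pow_smul_mem K A p i _ hω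

end Groth.Agent.S12624
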