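import Groth.Statements.S12627
import Groth.Agent.SepIsog.Basic
import Groth.Agent.Chev.TorsorMap

set_option autoImplicit false
universe u
open CategoryTheory CategoryTheory.Limits MonoidalCategory CartesianMonoidalCategory MonObj GrpObj AlgebraicGeometry
open AbVar
open Groth.Agent
open scoped CategoryTheory.Obj
set_option linter.style.haveILetI false
set_option synthInstance.maxHeartbeats 400000

namespace Groth.Agent.S12627

/-- Let `k` be an algebraically closed field and `E₁`, `E₂` elliptic curves over `k`, i.e. group schemes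
over `Spec k` whose underlying schemes are proper, smooth, integral and one-dimensional. If `φ, φ' :
E₁ → E₂` are homomorphisms with `φ` finite, surjective and étale (a separable isogeny) and `φ'` not
étale (the zero homomorphism or an inseparable isogeny), then their sum under the group law of `E₂`
— the composite of `(φ, φ')` with the multiplication of `E₂` — is finite, surjective and étale, i.e.
again a separable isogeny. (The published statement is for arbitrary morphisms `φ, φ'` and takes
`φ'` inseparable; this row takes homomorphisms, the case its proof treats — a morphism of elliptic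
curves is a homomorphism followed by a translation, which changes neither the hypotheses nor the
conclusion — and allows `φ'` to be the zero map, that case being immediate.) -/
theorem result (k : Type u) [Field k] [IsAlgClosed k]
    (E₁ E₂ : Over (Spec (CommRingCat.of k)))
    [GrpObj E₁] [IsProper E₁.hom] [Smooth E₁.hom] [IsIntegral E₁.left] (hE₁ : topologicalKrullDim E₁.left = 1)
    [GrpObj E₂] [IsProper E₂.hom] [Smooth E₂.hom] [IsIntegral E₂.left] (hE₂ : topologicalKrullDim E₂.left = 1)
    (φ φ' : E₁ ⟶ E₂) [IsMonHom φ] [IsMonHom φ'] [IsFinite φ.left] [Surjective φ.left] [Etale φ.left]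
    (hφ' : ¬ Etale φ'.left) :
    IsFinite (φ * φ').left ∧ Surjective (φ * φ').left ∧ Etale (φ * φ').left := by
  have hG : Curve.IsSmoothProperCurve k E₁.left E₁.hom := ⟨inferInstance, inferInstance, inferInstance, hE₁⟩
  have hH : Curve.IsSmoothProperCurve k E₂.left E₂.hom := ⟨inferInstance, inferInstance, inferInstance, hE₂⟩
  haveI : GeometricallyIntegral E₂.hom := Chev.geometricallyIntegral_of_group (A := E₂)
  haveI := isCommMonObj_of_isProper_of_geometricallyIntegral E₂
  haveI : IsMonHom (φ * φ') :=
    { one_hom := by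
        rw [MonObj.comp_mul, IsMonHom.one_hom, IsMonHom.one_hom, FieldPow.η_eq_one, _root_.one_mul]
      mul_hom := by
        have e : ∀ {A B : Over (Spec (CommRingCat.of k))} [GrpObj A] [GrpObj B] (h : A ⟶ B),
            (h ⊗ₘ h) ≫ μ[B] = (fst A A ≫ h) * (snd A A ≫ h) := fun {A B} _ _ h => by
          rw [Hom.mul_def, ← CartesianMonoidalCategory.tensorHom_fst h h, ← CartesianMonoidalCategory.tensorHom_snd h h,
            ← comp_lift, lift_fst_snd, Category.comp_id]
        rw [e, MonObj.comp_mul, IsMonHom.mul_hom, IsMonHom.mul_hom, e, e, MonObj.comp_mul, MonObj.comp_mul,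
          _root_.mul_mul_mul_comm] }
  refine SepIsog.etale_of_injective (φ * φ') hG hH fun P hP h => ?_
  obtain ⟨P₀, hP₀, hP₀f, hP₀1⟩ : ∃ P₀ : FieldPow.tob k k ⟶ E₁,
      FieldPow.tzero k k ≫ P₀ = 1 ∧ P₀ ≫ φ' = 1 ∧ P₀ ≠ 1 := by
    by_contra hne
    push Not at hne
    exact hφ' (SepIsog.etale_of_injective φ' hG hH hne).2.2
  rw [MonObj.comp_mul, SepIsog.eq_one_of_killed hG hP₀ hP₀1 hP₀f P hP, _root_.mul_one] at h
  obtain ⟨δ, hδ⟩ := FieldPow.exists_rep hP
  refine (SepIsog.rep_eq_one_iff hδ).2 (SepIsog.rep_eq_zero_of_map_eq φ ?_ hδ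
    ((SepIsog.rep_eq_one_iff (SepIsog.rep_comp φ hδ)).1 h))
  refine (SepIsog.stalk_transport (SepIsog.hom_ept φ) (SepIsog.χ φ) (SepIsog.map_χ φ)).1.1 ?_
  algebraize [(φ.left.stalkMap (FieldPow.ept E₁)).hom]
  have : IsLocalHom (algebraMap (E₂.left.presheaf.stalk (φ.left (FieldPow.ept E₁))) (FieldPow.O E₁)) :=
    inferInstanceAs (IsLocalHom (φ.left.stalkMap _).hom)
  have : Algebra.EssFiniteType (E₂.left.presheaf.stalk (φ.left (FieldPow.ept E₁))) (FieldPow.O E₁) :=
    RingHom.essFiniteType_algebraMap.1 (LocallyOfFiniteType.stalkMap φ.left _)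
  have : Algebra.FormallyUnramified (E₂.left.presheaf.stalk (φ.left (FieldPow.ept E₁))) (FieldPow.O E₁) :=
    RingHom.formallyUnramified_algebraMap.1 (FormallyUnramified.stalkMap φ.left _)
  exact Algebra.FormallyUnramified.map_maximalIdeal

end Groth.Agent.S12627
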