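import Groth.Statements.S1263
import Groth.Agent.RG.Loc.Point

set_option autoImplicit false
open Groth.Agent
universe u
open FlatMor

namespace Groth.Agent.S1263

/-- Ring form, X = Spec S and S = Spec R affine: let S be a finite type R-algebra and q a prime of S
over p with S_q flat over R. Then there is an étale R-algebra R' with a prime p' over p having the
same residue field such that, writing A for the local ring of R' at p' and S_A for the base change
(any model): some g ∈ S_A outside every prime over both q and the maximal ideal of A has (S_A)_g
flat and of finite presentation over A. -/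
theorem result {R S : Type u} [CommRing R] [CommRing S] [Algebra R S] [Algebra.FiniteType R S]
    (p : Ideal R) [p.IsPrime] (q : Ideal S) [q.IsPrime] [q.LiesOver p] (hflat : Module.Flat R (Localization.AtPrime q)) :
    ∃ (R' : Type u) (_ : CommRing R') (_ : Algebra R R') (p' : Ideal R') (_ : p'.IsPrime), FlatCA.IsEtaleNhd R R' p p' ∧
      ∀ (SA : Type u) [CommRing SA] [Algebra R SA] [Algebra S SA] [Algebra (Localization.AtPrime p') SA]
        [IsScalarTower R S SA] [IsScalarTower R (Localization.AtPrime p') SA]
        [Algebra.IsPushout R S (Localization.AtPrime p') SA],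
        ∃ g : SA, (∀ (Q : Ideal SA) [Q.IsPrime], Q.LiesOver q → Q.LiesOver (IsLocalRing.maximalIdeal (Localization.AtPrime p')) → g ∉ Q) ∧
          Module.Flat (Localization.AtPrime p') (Localization.Away g) ∧
          Algebra.FinitePresentation (Localization.AtPrime p') (Localization.Away g) := by
  have hq : q.comap (algebraMap R S) = p := (q.over_def p).symm
  have hflat' : Module.Flat R (LocalizedModule q.primeCompl S) := hflat
  obtain ⟨R', _, _, p', _, hn, hpiece⟩ := RG.Loc.exists_good_piece p q hq S hflat'
  refine ⟨R', inferInstance, inferInstance, p', inferInstance, hn, ?_⟩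
  intro SA _ _ _ _ _ _ _
  obtain ⟨g, -, hgproj, hgalg, hgQ⟩ := hpiece SA SA (Algebra.linearMap S SA) (IsBaseChange.linearMap S SA)
  haveI := hgproj
  refine ⟨g, fun Q hQ hQq hQm => hgQ Q hQ hQq.over.symm hQm.over.symm, ?_, hgalg (LinearEquiv.refl S S)⟩
  exact Module.Flat.of_linearEquiv
    ((TensorProduct.AlgebraTensorModule.rid SA (Localization.Away g) (Localization.Away g)).restrictScalars (Localization.AtPrime p')).symm

end Groth.Agent.S1263
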