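import Groth.Statements.S12663
import Groth.Agent.CycPB.ChernExt
import Groth.Agent.S6455
import Groth.Agent.TMul.AmpleBasis

set_option autoImplicit false
universe u
open CategoryTheory CategoryTheory.Limits AlgebraicGeometry
open Cyc

set_option backward.isDefEq.respectTransparency false
set_option backward.isDefEq.respectTransparency.types false

namespace Groth.Agent.S12663

/-- If E, F are finite locally free of ranks m + 1, m on X sitting in a short exact sequence 0 → O_X → E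
→ F → 0, then c_{m+1}(E) = 0 and c_j(E) = c_j(F) for j = 0, …, m, as cap operations: for every
k-cycle α, c_{m+1}(E) ∩ α ∼_rat 0 and c_j(E) ∩ α ∼_rat c_j(F) ∩ α. Setting: (X, δ) with Cyc.IsSetup
stands for a scheme locally of finite type over the base (S, δ) (X locally Noetherian with
universally catenary local rings, δ a dimension function); (p : P → X, O_P(1), q) is the projective
bundle of E given by its universal property (KRR.IsProjBundle), p is proper and δP is the induced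
dimension function (Cyc.DeltaCompat); a tuple γ with Cyc.IsChernCap represents (c_0(E) ∩ α, …,
c_r(E) ∩ α) through the defining relation Σ_i (-1)^i c_1(O_P(1))^i ∩ p^*(γ_{r-i}) ∼_rat 0 on P, and
classes are compared up to rational equivalence of representing cycles. -/
theorem result (X : Scheme.{u}) (δ : X → ℤ) (hX : Cyc.IsSetup X δ) (m : ℕ) (E : X.Modules) (hPE : FlatMod.IsFinLocFreeOfRank (m + 1) E) (P : Scheme.{u}) (p : P ⟶ X) (O1 : P.Modules) (q : (Scheme.Modules.pullback p).obj E ⟶ O1) (hP : KRR.IsProjBundle p E O1 q) [IsProper p] (δP : P → ℤ) (hPs : Cyc.IsSetup P δP) (hδ : Cyc.DeltaCompat p δP δ) (F : X.Modules) (hQE : FlatMod.IsFinLocFreeOfRank m F) (Q : Scheme.{u}) (p' : Q ⟶ X) (O1' : Q.Modules) (q' : (Scheme.Modules.pullback p').obj F ⟶ O1') (hQ : KRR.IsProjBundle p' F O1' q') [IsProper p'] (δQ : Q → ℤ) (hQs : Cyc.IsSetup Q δQ) (hδ' : Cyc.DeltaCompat p' δQ δ) (a : Coh.structureModule X ⟶ E) (b : E ⟶ F) (hab : a ≫ b = 0) (hex : (ShortComplex.mk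 a b hab).ShortExact) (k : ℤ) (α : AlgebraicCycle X ℤ) (hα : α ∈ Cyc.Zk X δ k) (γ : Fin (m + 2) → AlgebraicCycle X ℤ) (hγ : Cyc.IsChernCap p δ δP O1 (m + 1) k α γ) (γ' : Fin (m + 1) → AlgebraicCycle X ℤ) (hγ' : Cyc.IsChernCap p' δ δQ O1' m k α γ') : Cyc.RatEquivZero δ (k - ((m : ℤ) + 1)) (γ (Fin.last (m + 1))) ∧ ∀ j : Fin (m + 1), Cyc.RatEquiv δ (k - ((j : ℕ) : ℤ)) (γ (Fin.castSucc j)) (γ' j) := by
  have hB : CycPB.Bundle p δ δP E O1 (m + 1) := ⟨hX, hPs, hδ, ⟨q, hP⟩, hPE⟩
  have hB' : CycPB.Bundle p' δ δQ F O1' m := ⟨hX, hQs, hδ', ⟨q', hQ⟩, hQE⟩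
  have hO : PicF.IsInvertible (Coh.structureModule X) := TMul.isInvertible_structureModule
  obtain ⟨t, ht⟩ := CycPB.exists_sections hO
  have hc := CycPB.Rel.of_chern hB' hγ'
  have he := CycPB.rel_of_ext hB hB' hO a b hab hex ht hc
  have hu := fun j => CycPB.Rel.unique hB (CycPB.Rel.of_chern hB hγ) he (by
    refine CycPB.RZ.zero.eq (funext fun x => ?_)
    rw [Fin.cases_zero, ← Fin.castSucc_zero, Fin.snoc_castSucc]
    show (0 : ℤ) = γ (Fin.castSucc 0) x - (γ' 0 x + 0)
    rw [Fin.castSucc_zero, hγ.1, hγ'.1]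
    ring) j
  have hcap : ∀ {l : ℤ} {d : X → ℤ}, CycPB.Cy δ (l + 1) d →
      CycPB.RZ δ l (Cyc.c1CapFun δ (Coh.structureModule X) d t) := fun {l d} hd => by
    obtain ⟨D, hD, hDk⟩ := hd.cap hX hO ht
    obtain ⟨A, rfl, hA⟩ := hd
    exact ⟨D, hD, hDk, S6455.result X δ hX _ A hA t ht D hD⟩
  refine ⟨?_, fun j => ?_⟩
  · have h := hu (Fin.last (m + 1))
    rw [show k - ((m : ℤ) + 1) = k - (((Fin.last (m + 1) : Fin (m + 1 + 1)) : ℕ) : ℤ) by simp]
    refine CycPB.RZ.ratEquivZero ((h.add (hcap (d := ⇑(γ' (Fin.last m))) ?_)).eq (funext fun x => ?_))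
    · refine CycPB.Cy.mk ?_
      rw [show k - (((Fin.last (m + 1) : Fin (m + 1 + 1)) : ℕ) : ℤ) + 1 = k - (((Fin.last m : Fin (m + 1)) : ℕ) : ℤ) by
        simp; ring]
      exact hγ'.2.1 _
    · simp only [Fin.snoc_last, zero_add]
      rw [← Fin.succ_last, Fin.cases_succ]
      ring
  · have h := hu (Fin.castSucc j)
    simp only [Fin.val_castSucc] at h
    refine CycPB.RZ.ratEquiv ?_
    rcases Fin.eq_zero_or_eq_succ j with rfl | ⟨i, rfl⟩
    · refine h.eq (funext fun x => ?_)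
      rw [Fin.snoc_castSucc]; simp only [Fin.castSucc_zero, Fin.cases_zero, add_zero]
    · refine (h.add (hcap (d := ⇑(γ' (Fin.castSucc i))) ?_)).eq (funext fun x => ?_)
      · refine CycPB.Cy.mk ?_
        rw [show k - (((Fin.succ i : Fin (_ + 1)) : ℕ) : ℤ) + 1 = k - (((Fin.castSucc i : Fin (_ + 1)) : ℕ) : ℤ) by
          simp; ring]
        exact hγ'.2.1 _
      · simp only [Fin.snoc_castSucc]
        rw [← Fin.succ_castSucc, Fin.cases_succ]
        ring

end Groth.Agent.S12663
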