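import Groth.Statements.S12664
import Groth.Agent.CycPB.ChernExt

set_option autoImplicit false
universe u
open CategoryTheory CategoryTheory.Limits AlgebraicGeometry
open Cyc

set_option backward.isDefEq.respectTransparency false
set_option backward.isDefEq.respectTransparency.types false

namespace Groth.Agent.S12664

/-- If 0 → L → E → F → 0 is a short exact sequence on X with L invertible and E, F finite locally free
of ranks m + 1, m, then c(E) = c(L) c(F), that is c_i(E) = c_i(F) + c_1(L) c_{i-1}(F) for i = 1, …,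
m and c_{m+1}(E) = c_1(L) c_m(F), as cap operations on every k-cycle α, with c_1(L) ∩ - computed on
coefficient functions from any nonzero rational sections (Cyc.c1CapFun) applied to the
representatives of c_{i-1}(F) ∩ α. Setting: (X, δ) with Cyc.IsSetup stands for a scheme locally of
finite type over the base (S, δ) (X locally Noetherian with universally catenary local rings, δ a
dimension function); (p : P → X, O_P(1), q) is the projective bundle of E given by its universal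
property (KRR.IsProjBundle), p is proper and δP is the induced dimension function (Cyc.DeltaCompat);
a tuple γ with Cyc.IsChernCap represents (c_0(E) ∩ α, …, c_r(E) ∩ α) through the defining relation
Σ_i (-1)^i c_1(O_P(1))^i ∩ p^*(γ_{r-i}) ∼_rat 0 on P, and classes are compared up to rational
equivalence of representing cycles. -/
theorem result (X : Scheme.{u}) (δ : X → ℤ) (hX : Cyc.IsSetup X δ) (m : ℕ) (E : X.Modules) (hPE : FlatMod.IsFinLocFreeOfRank (m + 1) E) (P : Scheme.{u}) (p : P ⟶ X) (O1 : P.Modules) (q : (Scheme.Modules.pullback p).obj E ⟶ O1) (hP : KRR.IsProjBundle p E O1 q) [IsProper p] (δP : P → ℤ) (hPs : Cyc.IsSetup P δP) (hδ : Cyc.DeltaCompat p δP δ) (F : X.Modules) (hQE : FlatMod.IsFinLocFreeOfRank m F) (Q : Scheme.{u}) (p' : Q ⟶ X) (O1' : Q.Modules) (q' : (Scheme.Modules.pullback p').obj F ⟶ O1') (hQ : KRR.IsProjBundle p' F O1' q') [IsProper p'] (δQ : Q → ℤ) (hQs : Cyc.IsSetup Q δQ) (hδ' : Cyc.DeltaCompat p' δQ δ) (L : X.Modules)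 (hL : PicF.IsInvertible L) (a : L ⟶ E) (b : E ⟶ F) (hab : a ≫ b = 0) (hex : (ShortComplex.mk a b hab).ShortExact) (k : ℤ) (α : AlgebraicCycle X ℤ) (hα : α ∈ Cyc.Zk X δ k) (γ : Fin (m + 2) → AlgebraicCycle X ℤ) (hγ : Cyc.IsChernCap p δ δP O1 (m + 1) k α γ) (γ' : Fin (m + 1) → AlgebraicCycle X ℤ) (hγ' : Cyc.IsChernCap p' δ δQ O1' m k α γ') (t : (ξ : X) → Cyc.secFibre L ξ) (ht : ∀ ξ, t ξ ≠ 0) (ζ : Fin (m + 1) → AlgebraicCycle X ℤ) (hζ : ∀ j, ⇑(ζ j) = Cyc.c1CapFun δ L ⇑(γ' j) t) : (∀ j : Fin m, Cyc.RatEquiv δ (k - ((j : ℕ) : ℤ) - 1) (γ (Fin.succ (Fin.castSucc j))) (γ' (Fin.succ j) + ζ (Fin.castSucc j))) ∧ Cyc.RatEquiv δ (k - (m : ℤ) - 1) (γ (Fin.last (m + 1))) (ζ (Fin.last m)) := by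
  have hB : CycPB.Bundle p δ δP E O1 (m + 1) := ⟨hX, hPs, hδ, ⟨q, hP⟩, hPE⟩
  have hB' : CycPB.Bundle p' δ δQ F O1' m := ⟨hX, hQs, hδ', ⟨q', hQ⟩, hQE⟩
  have hc := CycPB.Rel.of_chern hB' hγ'
  have he := CycPB.rel_of_ext hB hB' hL a b hab hex ht hc
  have hu := fun j => CycPB.Rel.unique hB (CycPB.Rel.of_chern hB hγ) he (by
    refine CycPB.RZ.zero.eq (funext fun x => ?_)
    rw [Fin.cases_zero, ← Fin.castSucc_zero, Fin.snoc_castSucc]
    show (0 : ℤ) = γ (Fin.castSucc 0) x - (γ' 0 x + 0)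
    rw [Fin.castSucc_zero, hγ.1, hγ'.1]
    ring) j
  refine ⟨fun j => ?_, ?_⟩
  · have h := hu (Fin.succ (Fin.castSucc j))
    rw [show k - ((j : ℕ) : ℤ) - 1 = k - (((Fin.succ (Fin.castSucc j) : Fin (m + 1 + 1)) : ℕ) : ℤ) by
      simp; ring]
    refine CycPB.RZ.ratEquiv (h.eq (funext fun x => ?_))
    simp only [Fin.cases_succ]
    conv_lhs => arg 2; arg 1; rw [Fin.succ_castSucc, Fin.snoc_castSucc]
    show _ = γ (Fin.succ (Fin.castSucc j)) x - (γ' (Fin.succ j) x + ζ (Fin.castSucc j) x)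
    rw [hζ]
  · have h := hu (Fin.last (m + 1))
    rw [show k - (m : ℤ) - 1 = k - (((Fin.last (m + 1) : Fin (m + 1 + 1)) : ℕ) : ℤ) by simp; ring]
    refine CycPB.RZ.ratEquiv (h.eq (funext fun x => ?_))
    simp only [Fin.snoc_last, zero_add]
    conv_lhs => arg 2; rw [← Fin.succ_last, Fin.cases_succ]
    rw [hζ]

end Groth.Agent.S12664
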