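import Groth.Statements.S12665
import Groth.Agent.CycPB.Whitney

set_option autoImplicit false
universe u
open CategoryTheory CategoryTheory.Limits AlgebraicGeometry
open Cyc

set_option backward.isDefEq.respectTransparency false
set_option backward.isDefEq.respectTransparency.types false

namespace Groth.Agent.S12665

/-- For a short exact sequence 0 → E₁ → E → E₂ → 0 of finite locally free modules of ranks r₁, r₁ + r₂,
r₂ on X, c(E) = c(E₁) c(E₂), that is c_j(E) ∩ α ∼_rat Σ_{a+b=j} c_a(E₁) ∩ (c_b(E₂) ∩ α) for every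
k-cycle α and every j; the inner caps are represented by a tuple for E₂ over α and, for each of its
components, a tuple for E₁ over it. Setting: (X, δ) with Cyc.IsSetup stands for a scheme locally of
finite type over the base (S, δ) (X locally Noetherian with universally catenary local rings, δ a
dimension function); (p : P → X, O_P(1), q) is the projective bundle of E given by its universal
property (KRR.IsProjBundle), p is proper and δP is the induced dimension function (Cyc.DeltaCompat);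
a tuple γ with Cyc.IsChernCap represents (c_0(E) ∩ α, …, c_r(E) ∩ α) through the defining relation
Σ_i (-1)^i c_1(O_P(1))^i ∩ p^*(γ_{r-i}) ∼_rat 0 on P, and classes are compared up to rational
equivalence of representing cycles. -/
theorem result (X : Scheme.{u}) (δ : X → ℤ) (hX : Cyc.IsSetup X δ) (r₁ r₂ : ℕ) (E₁ : X.Modules) (hP₁E : FlatMod.IsFinLocFreeOfRank r₁ E₁) (P₁ : Scheme.{u}) (p₁ : P₁ ⟶ X) (O₁ : P₁.Modules) (q₁ : (Scheme.Modules.pullback p₁).obj E₁ ⟶ O₁) (hP₁ : KRR.IsProjBundle p₁ E₁ O₁ q₁) [IsProper p₁] (δ₁ : P₁ → ℤ) (hP₁s : Cyc.IsSetup P₁ δ₁) (hδ₁ : Cyc.DeltaCompat p₁ δ₁ δ) (E : X.Modules) (hPE : FlatMod.IsFinLocFreeOfRank (r₁ + r₂) E) (P : Scheme.{u}) (p : P ⟶ X) (O1 : P.Modules) (q : (Scheme.Modules.pullback p).obj E ⟶ O1) (hP : KRR.IsProjBundle p E O1 q) [IsProper p] (δP : P → ℤ) (hPs : Cyc.IsSetup P δP) (hδ : Cyc.DeltaCompat p δP δ) (E₂ : X.Modules) (hP₂E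 : FlatMod.IsFinLocFreeOfRank r₂ E₂) (P₂ : Scheme.{u}) (p₂ : P₂ ⟶ X) (O₂ : P₂.Modules) (q₂ : (Scheme.Modules.pullback p₂).obj E₂ ⟶ O₂) (hP₂ : KRR.IsProjBundle p₂ E₂ O₂ q₂) [IsProper p₂] (δ₂ : P₂ → ℤ) (hP₂s : Cyc.IsSetup P₂ δ₂) (hδ₂ : Cyc.DeltaCompat p₂ δ₂ δ) (a : E₁ ⟶ E) (b : E ⟶ E₂) (hab : a ≫ b = 0) (hex : (ShortComplex.mk a b hab).ShortExact) (k : ℤ) (α : AlgebraicCycle X ℤ) (hα : α ∈ Cyc.Zk X δ k) (γ₂ : Fin (r₂ + 1) → AlgebraicCycle X ℤ) (hγ₂ : Cyc.IsChernCap p₂ δ δ₂ O₂ r₂ k α γ₂) (ε : Fin (r₂ + 1) → Fin (r₁ + 1) → AlgebraicCycle X ℤ) (hε : ∀ b : Fin (r₂ + 1), Cyc.IsChernCap p₁ δ δ₁ O₁ r₁ (k - ((b : ℕ) : ℤ)) (γ₂ b) (ε b)) (γ : Fin (r₁ + r₂ + 1) → AlgebraicCycle X ℤ) (hγ : Cyc.IsChernCap p δ δP O1 (r₁ + r₂) k α γ) (j : Fin (r₁ + r₂ + 1)) : Cyc.RatEquiv δ (k - ((j : ℕ) : ℤ)) (γ j) (∑ a : Fin (r₁ + 1), ∑ b : Fin (r₂ + 1), if (a : ℕ) + (b : ℕ) = (j : ℕ) then ε b a else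 0) := by
  classical
  have hB : CycPB.Bundle p δ δP E O1 (r₁ + r₂) := ⟨hX, hPs, hδ, ⟨q, hP⟩, hPE⟩
  have hB₁ : CycPB.Bundle p₁ δ δ₁ E₁ O₁ r₁ := ⟨hX, hP₁s, hδ₁, ⟨q₁, hP₁⟩, hP₁E⟩
  have hB₂ : CycPB.Bundle p₂ δ δ₂ E₂ O₂ r₂ := ⟨hX, hP₂s, hδ₂, ⟨q₂, hP₂⟩, hP₂E⟩
  have h := CycPB.whitney rfl hB hB₁ hB₂ a b hab hex (CycPB.Rel.of_chern hB₂ hγ₂)
    (fun b' => CycPB.Rel.of_chern hB₁ (hε b'))
    (fun b' => CycPB.RZ.zero.eq (funext fun x => by rw [(hε b').1, sub_self]))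
    (CycPB.Rel.of_chern hB hγ) (CycPB.RZ.zero.eq (funext fun x => by rw [hγ.1, hγ₂.1, sub_self])) (j : ℕ)
  refine CycPB.RZ.ratEquiv (h.eq (funext fun x => ?_))
  refine congrArg₂ (· - ·) (congrFun (CycPB.nx_val _ j) x) ?_
  have hsum : ∀ {ι : Type} (s : Finset ι) (F : ι → AlgebraicCycle X ℤ), (∑ i ∈ s, F i) x = ∑ i ∈ s, F i x :=
    fun s F => by
      have := congrFun (Function.locallyFinsuppWithin.coe_sum (s := s) (F := F)) x
      simpa using this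
  rw [CycPB.wsum, Finset.sum_comm, hsum]
  refine Finset.sum_congr rfl fun b' _ => ?_
  rw [hsum]
  by_cases hle : (b' : ℕ) ≤ (j : ℕ)
  · rw [if_pos hle]
    by_cases hlt : (j : ℕ) - (b' : ℕ) < r₁ + 1
    · rw [CycPB.nx_of_lt _ hlt, Finset.sum_eq_single (⟨(j : ℕ) - (b' : ℕ), hlt⟩ : Fin (r₁ + 1))]
      · rw [if_pos (show (j : ℕ) - (b' : ℕ) + (b' : ℕ) = (j : ℕ) by omega)]
      · intro a' _ ha'
        rw [if_neg fun h => ha' (Fin.ext (show (a' : ℕ) = (j : ℕ) - (b' : ℕ) by omega))]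
        rfl
      · simp
    · rw [CycPB.nx_of_le _ (by omega), Finset.sum_eq_zero]
      intro a' _
      have := a'.2
      rw [if_neg (by omega)]
      rfl
  · rw [if_neg hle, Finset.sum_eq_zero]
    intro a' _
    rw [if_neg (by omega)]
    rfl

end Groth.Agent.S12665
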