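import Groth.Statements.S12666
import Groth.Agent.CycPB.OpsApply

set_option autoImplicit false
universe u
open CategoryTheory CategoryTheory.Limits AlgebraicGeometry
open Cyc

set_option backward.isDefEq.respectTransparency false
set_option backward.isDefEq.respectTransparency.types false

namespace Groth.Agent.S12666

/-- For E finite locally free of rank r and L invertible on X, c_i(E ⊗ L) = Σ_{j=0}^{i} C(r-i+j, j)
c_{i-j}(E) c_1(L)^j for i ≤ r, as cap operations on every k-cycle α: c_i(E ⊗ L) ∩ α ∼_rat Σ_j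
C(r-i+j, j) c_1(L)^j ∩ (c_{i-j}(E) ∩ α), where c_1(L)^j ∩ - is the j-fold iterated cap on
coefficient functions with any nonzero rational sections (Cyc.c1PowFun) and E ⊗ L is the tensor
product of O_X-modules (CohB1.tensorMod). Setting: (X, δ) with Cyc.IsSetup stands for a scheme
locally of finite type over the base (S, δ) (X locally Noetherian with universally catenary local
rings, δ a dimension function); (p : P → X, O_P(1), q) is the projective bundle of E given by its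
universal property (KRR.IsProjBundle), p is proper and δP is the induced dimension function
(Cyc.DeltaCompat); a tuple γ with Cyc.IsChernCap represents (c_0(E) ∩ α, …, c_r(E) ∩ α) through the
defining relation Σ_i (-1)^i c_1(O_P(1))^i ∩ p^*(γ_{r-i}) ∼_rat 0 on P, and classes are compared up
to rational equivalence of representing cycles. -/
theorem result (X : Scheme.{u}) (δ : X → ℤ) (hX : Cyc.IsSetup X δ) (r : ℕ) (E : X.Modules) (hPE : FlatMod.IsFinLocFreeOfRank r E) (P : Scheme.{u}) (p : P ⟶ X) (O1 : P.Modules) (q : (Scheme.Modules.pullback p).obj E ⟶ O1) (hP : KRR.IsProjBundle p E O1 q) [IsProper p] (δP : P → ℤ) (hPs : Cyc.IsSetup P δP) (hδ : Cyc.DeltaCompat p δP δ) (L : X.Modules) (hL : PicF.IsInvertible L) (hP'E : FlatMod.IsFinLocFreeOfRank r (CohB1.tensorMod E L)) (P' : Scheme.{u}) (p' : P' ⟶ X) (O1' : P'.Modules) (q' : (Scheme.Modules.pullback p').obj (CohB1.tensorMod E L) ⟶ O1') (hP' : KRR.IsProjBundle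 p' (CohB1.tensorMod E L) O1' q') [IsProper p'] (δP' : P' → ℤ) (hPs' : Cyc.IsSetup P' δP') (hδ' : Cyc.DeltaCompat p' δP' δ) (k : ℤ) (α : AlgebraicCycle X ℤ) (hα : α ∈ Cyc.Zk X δ k) (γ : Fin (r + 1) → AlgebraicCycle X ℤ) (hγ : Cyc.IsChernCap p δ δP O1 r k α γ) (γ' : Fin (r + 1) → AlgebraicCycle X ℤ) (hγ' : Cyc.IsChernCap p' δ δP' O1' r k α γ') (t : ℕ → (ξ : X) → Cyc.secFibre L ξ) (ht : ∀ m ξ, t m ξ ≠ 0) (i : Fin (r + 1)) (ζ : Fin (r + 1) → AlgebraicCycle X ℤ) (hζ : ∀ j : Fin (r + 1), (j : ℕ) ≤ (i : ℕ) → ⇑(ζ j) = Cyc.c1PowFun δ L t j ⇑(γ ⟨(i : ℕ) - (j : ℕ), Nat.lt_of_le_of_lt (Nat.sub_le _ _) i.isLt⟩)) : Cyc.RatEquiv δ (k - ((i : ℕ) : ℤ)) (γ' i) (∑ j : Fin (r + 1), if (j : ℕ) ≤ (i : ℕ) then ((Nat.choose (r - i + j) j : ℕ) : ℤ) • ζ j else 0) := by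
  classical
  open scoped IsMulCommutative in
  have hB : CycPB.Bundle p δ δP E O1 r := ⟨hX, hPs, hδ, ⟨q, hP⟩, hPE⟩
  have hB' : CycPB.Bundle p' δ δP' (CohB1.tensorMod E L) O1' r := ⟨hX, hPs', hδ', ⟨q', hP'⟩, hP'E⟩
  have hi := i.isLt
  obtain ⟨S, π, e, δS, hS, hsp, hπ, hR⟩ := CycPB.exists_roots hX 1 (fun _ => E) (fun _ => r) fun _ => hPE
  haveI := hsp.proper
  haveI := hsp.flat
  obtain ⟨M, hM, ⟨F⟩, hroots⟩ := hR 0
  obtain ⟨Q, π₁, hπ₁, OQ, δQ, hBQ, -⟩ := hB.exists_pull hS π hsp.relDim hπ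
  obtain ⟨Q', π₁', hπ₁', OQ', δQ', hBQ', -⟩ := hB'.exists_pull hS π hsp.relDim hπ
  have hL' : PicF.IsInvertible ((Scheme.Modules.pullback π).obj L) := PicLoc.isInvertible_pullback π hL
  have hroots' := (CycPB.HasRoots.tensor_line (hX := hS) hM F hL').of_iso (KFlat.pullTensorIso π E L)
  have hj : ∀ j : Fin (r + 1), (if (j : ℕ) ≤ (i : ℕ) then ((Nat.choose (r - i + j) j : ℕ) : ℤ) • ζ j else 0) ∈
      Cyc.Zk X δ (k - ((i : ℕ) : ℤ)) := fun j => by
    split_ifs with h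
    · refine CycPB.mem_Zk_smul _ ?_
      intro x hx
      obtain ⟨A, hA, hAk⟩ := CycPB.Cy.pow hX hL ht
        (CycPB.Cy.mk (hγ.2.1 ⟨(i : ℕ) - (j : ℕ), Nat.lt_of_le_of_lt (Nat.sub_le _ _) i.isLt⟩)) (j : ℕ)
      rw [congrFun (hζ j h) x, ← congrFun hA x]
      refine hAk x fun hxk => hx (hxk.trans ?_)
      push_cast [h]
      ring
    · exact fun _ _ => rfl
  refine CycPB.ratEquiv_of_ofT (hγ'.2.1 i) (CycPB.mem_Zk_sum _ fun j _ => hj j) ?_
  refine (?_ : CycPB.clT (hγ'.2.1 i) = CycPB.clT (CycPB.mem_Zk_sum Finset.univ fun j _ => hj j))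
  rw [← CycPB.cT_clT hB' hα hγ' i, CycPB.clT_sum _ hj]
  have hterm : ∀ j : Fin (r + 1), CycPB.clT (hj j) = if (j : ℕ) ≤ (i : ℕ) then ((Nat.choose (r - i + j) j : ℕ) : ℤ) •
      ((CycPB.c1T hX hL ^ (j : ℕ)) (CycPB.cT hB ((i : ℕ) - (j : ℕ)) (CycPB.clT hα))) else 0 := fun j => by
    split_ifs with h
    · let b : Fin (r + 1) := ⟨(i : ℕ) - (j : ℕ), Nat.lt_of_le_of_lt (Nat.sub_le _ _) i.isLt⟩
      have hc := CycPB.cT_clT hB hα hγ b
      change CycPB.cT hB ((i : ℕ) - (j : ℕ)) (CycPB.clT hα) = _ at hc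
      rw [hc, CycPB.clT, CycPB.clT, CycPB.c1T_pow_ofT hX hL ht, ← CycPB.ofT_smul]
      refine CycPB.mkT_eq_iff.2 fun l => CycPB.RZ.zero.eq (funext fun x => ?_)
      have hl : k - ((b : ℕ) : ℤ) - ((j : ℕ) : ℤ) = k - ((i : ℕ) : ℤ) := by
        show k - (((i : ℕ) - (j : ℕ) : ℕ) : ℤ) - ((j : ℕ) : ℤ) = _
        push_cast [h]
        ring
      show (0 : ℤ) = CycPB.sgl _ _ l x - CycPB.sgl _ _ l x
      rw [hl]
      by_cases hll : l = k - ((i : ℕ) : ℤ)
      · subst hll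
        simp only [CycPB.sgl_self, if_pos h]
        show (0 : ℤ) = ((Nat.choose (r - (i : ℕ) + (j : ℕ)) (j : ℕ) : ℕ) : ℤ) • ζ j x - _
        rw [congrFun (hζ j h) x]
        simp [b]
      · simp only [CycPB.sgl_ne hll, sub_self]
    · refine (CycPB.ofT_congr _ CycPB.Cy.zero ?_).trans (CycPB.ofT_zero _)
      rfl
  simp only [hterm]
  apply CycPB.pullT_injective hX hsp hS hπ
  rw [CycPB.pullT_cT hX hS π hsp.relDim hπ hB' hBQ' (Iso.refl _), map_sum]
  let z := CycPB.pullT hX hS π hsp.relDim hπ (CycPB.clT hα)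
  rw [hroots'.2.2 Q' π₁' hπ₁' OQ' δQ' hBQ' i]
  have hmap : (Finset.univ.val.map fun l => CycPB.c1R hS (hM l) + CycPB.c1R hS hL') =
      (Finset.univ.val.map fun l => CycPB.c1R hS (hM l)).map (· + CycPB.c1R hS hL') := by
    rw [Multiset.map_map]; rfl
  have hcard : Multiset.card (Finset.univ.val.map fun l => CycPB.c1R hS (hM l)) = r := hroots.2.1
  erw [hmap, CycPB.esymm_map_add _ _ (by rw [hcard]; omega)]
  rw [hcard]
  rw [Finset.sum_fin_eq_sum_range (fun j : Fin (r + 1) => _)]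
  rw [AddSubmonoidClass.coe_finsetSum]
  erw [AddMonoidHom.finsetSum_apply]
  refine (Finset.sum_congr rfl fun j hjm => ?_).trans (Finset.sum_subset (Finset.range_subset_range.2 (by omega)) fun j hjm hjn => ?_)
  · have hj1 : j ≤ (i : ℕ) := by simp only [Finset.mem_range] at hjm; omega
    have hj2 : j < r + 1 := by omega
    rw [dif_pos hj2, if_pos (by exact hj1)]
    rw [map_zsmul, CycPB.pullT_c1T_pow hX hS π hsp.relDim hπ hL, CycPB.pullT_cT hX hS π hsp.relDim hπ hB hBQ (Iso.refl _),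
      hroots.2.2 Q π₁ hπ₁ OQ δQ hBQ, natCast_zsmul]
    rfl
  · have hj1 : ¬ j ≤ (i : ℕ) := fun h => hjn (Finset.mem_range.2 (by omega))
    rw [dif_pos (Finset.mem_range.1 hjm), if_neg (by exact hj1), map_zero]

end Groth.Agent.S12666
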