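import Groth.Statements.S12668
import Groth.Agent.CycPB.OpsTensorTwo

set_option autoImplicit false
universe u
open CategoryTheory CategoryTheory.Limits AlgebraicGeometry
open Cyc

set_option backward.isDefEq.respectTransparency false
set_option backward.isDefEq.respectTransparency.types false

namespace Groth.Agent.S12668

/-- For E, F finite locally free of ranks r, s on X, c_1(E ⊗ F) = r c_1(F) + s c_1(E), as cap operations
on every k-cycle α; E ⊗ F is the tensor product of O_X-modules (CohB1.tensorMod), of rank rs, and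
enters through its own projective bundle. Stated for r, s ≥ 1. Setting: (X, δ) with Cyc.IsSetup
stands for a scheme locally of finite type over the base (S, δ) (X locally Noetherian with
universally catenary local rings, δ a dimension function); (p : P → X, O_P(1), q) is the projective
bundle of E given by its universal property (KRR.IsProjBundle), p is proper and δP is the induced
dimension function (Cyc.DeltaCompat); a tuple γ with Cyc.IsChernCap represents (c_0(E) ∩ α, …,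
c_r(E) ∩ α) through the defining relation Σ_i (-1)^i c_1(O_P(1))^i ∩ p^*(γ_{r-i}) ∼_rat 0 on P, and
classes are compared up to rational equivalence of representing cycles. -/
theorem result (X : Scheme.{u}) (δ : X → ℤ) (hX : Cyc.IsSetup X δ) (r s : ℕ) (hr : 1 ≤ r) (hs : 1 ≤ s) (E : X.Modules) (hPE : FlatMod.IsFinLocFreeOfRank r E) (P : Scheme.{u}) (p : P ⟶ X) (O1 : P.Modules) (q : (Scheme.Modules.pullback p).obj E ⟶ O1) (hP : KRR.IsProjBundle p E O1 q) [IsProper p] (δP : P → ℤ) (hPs : Cyc.IsSetup P δP) (hδ : Cyc.DeltaCompat p δP δ) (F : X.Modules) (hQE : FlatMod.IsFinLocFreeOfRank s F) (Q : Scheme.{u}) (p' : Q ⟶ X) (O1' : Q.Modules) (q' : (Scheme.Modules.pullback p').obj F ⟶ O1') (hQ : KRR.IsProjBundle p' F O1' q') [IsProper p'] (δQ : Q → ℤ) (hQs : Cyc.IsSetup Q δQ) (hδ' : Cyc.DeltaCompat p' δQ δ) (hTE : FlatMod.IsFinLocFreeOfRank (r * s) (CohB1.tensorMod E F))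 (T : Scheme.{u}) (p'' : T ⟶ X) (O1'' : T.Modules) (q'' : (Scheme.Modules.pullback p'').obj (CohB1.tensorMod E F) ⟶ O1'') (hT : KRR.IsProjBundle p'' (CohB1.tensorMod E F) O1'' q'') [IsProper p''] (δT : T → ℤ) (hTs : Cyc.IsSetup T δT) (hδ'' : Cyc.DeltaCompat p'' δT δ) (k : ℤ) (α : AlgebraicCycle X ℤ) (hα : α ∈ Cyc.Zk X δ k) (ε : Fin (r + 1) → AlgebraicCycle X ℤ) (hε : Cyc.IsChernCap p δ δP O1 r k α ε) (φ : Fin (s + 1) → AlgebraicCycle X ℤ) (hφ : Cyc.IsChernCap p' δ δQ O1' s k α φ) (τ : Fin (r * s + 1) → AlgebraicCycle X ℤ) (hτ : Cyc.IsChernCap p'' δ δT O1'' (r * s) k α τ) : Cyc.RatEquiv δ (k - 1) (τ ⟨1, Nat.lt_succ_of_le (Nat.mul_pos hr hs)⟩) (((r : ℕ) : ℤ) • φ ⟨1, Nat.lt_succ_of_le hs⟩ + ((s : ℕ) : ℤ) • ε ⟨1, Nat.lt_succ_of_le hr⟩) := by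
  classical
  open scoped IsMulCommutative in
  have hB : CycPB.Bundle p δ δP E O1 r := ⟨hX, hPs, hδ, ⟨q, hP⟩, hPE⟩
  have hB' : CycPB.Bundle p' δ δQ F O1' s := ⟨hX, hQs, hδ', ⟨q', hQ⟩, hQE⟩
  have hB'' : CycPB.Bundle p'' δ δT (CohB1.tensorMod E F) O1'' (r * s) := ⟨hX, hTs, hδ'', ⟨q'', hT⟩, hTE⟩
  obtain ⟨S, π, e, δS, hS, hsp, hπ, hR⟩ := CycPB.exists_roots hX 2 ![E, F] ![r, s] (Fin.forall_fin_two.2 ⟨hPE, hQE⟩)
  haveI := hsp.proper
  haveI := hsp.flat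
  obtain ⟨M, hM, ⟨F₁⟩, hroots⟩ : ∃ (L : Fin r → S.Modules) (hL : ∀ l, PicF.IsInvertible (L l)),
      Nonempty (CycPB.Filt ((Scheme.Modules.pullback π).obj E) r L) ∧
        CycPB.HasRoots hS ((Scheme.Modules.pullback π).obj E) r (Finset.univ.val.map fun l => CycPB.c1R hS (hL l)) := hR 0
  obtain ⟨N, hN, ⟨F₂⟩, hroots'⟩ : ∃ (L : Fin s → S.Modules) (hL : ∀ l, PicF.IsInvertible (L l)),
      Nonempty (CycPB.Filt ((Scheme.Modules.pullback π).obj F) s L) ∧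
        CycPB.HasRoots hS ((Scheme.Modules.pullback π).obj F) s (Finset.univ.val.map fun l => CycPB.c1R hS (hL l)) := hR 1
  obtain ⟨P₁, π₁, hπ₁, O₁, δ₁, hBQ, -⟩ := hB.exists_pull hS π hsp.relDim hπ
  obtain ⟨P₂, π₂, hπ₂, O₂, δ₂, hBQ', -⟩ := hB'.exists_pull hS π hsp.relDim hπ
  obtain ⟨P₃, π₃, hπ₃, O₃, δ₃, hBQ'', -⟩ := hB''.exists_pull hS π hsp.relDim hπ
  have hroots'' := (CycPB.HasRoots.tensor_filt (hX := hS) hM F₁ hN F₂).of_iso (KFlat.pullTensorIso π E F)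
  have hφ1 : φ ⟨1, Nat.lt_succ_of_le hs⟩ ∈ Cyc.Zk X δ (k - 1) := hφ.2.1 ⟨1, Nat.lt_succ_of_le hs⟩
  have hε1 : ε ⟨1, Nat.lt_succ_of_le hr⟩ ∈ Cyc.Zk X δ (k - 1) := hε.2.1 ⟨1, Nat.lt_succ_of_le hr⟩
  have hτ1 : τ ⟨1, Nat.lt_succ_of_le (Nat.mul_pos hr hs)⟩ ∈ Cyc.Zk X δ (k - 1) := hτ.2.1 ⟨1, Nat.lt_succ_of_le (Nat.mul_pos hr hs)⟩
  refine CycPB.ratEquiv_of_ofT hτ1
    (CycPB.mem_Zk_add (CycPB.mem_Zk_smul ((r : ℕ) : ℤ) hφ1) (CycPB.mem_Zk_smul ((s : ℕ) : ℤ) hε1)) ?_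
  refine (?_ : CycPB.clT hτ1 = CycPB.clT
    (CycPB.mem_Zk_add (CycPB.mem_Zk_smul ((r : ℕ) : ℤ) hφ1) (CycPB.mem_Zk_smul ((s : ℕ) : ℤ) hε1)))
  rw [CycPB.clT_add (CycPB.mem_Zk_smul ((r : ℕ) : ℤ) hφ1) (CycPB.mem_Zk_smul ((s : ℕ) : ℤ) hε1), CycPB.clT_smul _ hφ1,
    CycPB.clT_smul _ hε1]
  have h1 : CycPB.cT hB'' 1 (CycPB.clT hα) = CycPB.clT hτ1 :=
    CycPB.cT_clT hB'' hα hτ ⟨1, Nat.lt_succ_of_le (Nat.mul_pos hr hs)⟩
  have h2 : CycPB.cT hB' 1 (CycPB.clT hα) = CycPB.clT hφ1 := CycPB.cT_clT hB' hα hφ ⟨1, Nat.lt_succ_of_le hs⟩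
  have h3 : CycPB.cT hB 1 (CycPB.clT hα) = CycPB.clT hε1 := CycPB.cT_clT hB hα hε ⟨1, Nat.lt_succ_of_le hr⟩
  rw [← h1, ← h2, ← h3]
  apply CycPB.pullT_injective hX hsp hS hπ
  rw [map_add, map_zsmul, map_zsmul, CycPB.pullT_cT hX hS π hsp.relDim hπ hB'' hBQ'' (Iso.refl _),
    CycPB.pullT_cT hX hS π hsp.relDim hπ hB' hBQ' (Iso.refl _),
    CycPB.pullT_cT hX hS π hsp.relDim hπ hB hBQ (Iso.refl _),
    hroots''.2.2 P₃ π₃ hπ₃ O₃ δ₃ hBQ'', hroots'.2.2 P₂ π₂ hπ₂ O₂ δ₂ hBQ', hroots.2.2 P₁ π₁ hπ₁ O₁ δ₁ hBQ]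
  have hb : ((Finset.univ.val.map fun i => CycPB.c1R hS (hM i)).bind fun x =>
      Finset.univ.val.map fun j => x + CycPB.c1R hS (hN j)) =
      (Finset.univ.val.map fun i => CycPB.c1R hS (hM i)).bind fun x =>
        (Finset.univ.val.map fun j => CycPB.c1R hS (hN j)).map fun y => x + y := by
    simp only [Multiset.map_map]; rfl
  erw [hb, CycPB.esymm_one_bind]
  rw [hroots.2.1, hroots'.2.1, natCast_zsmul, natCast_zsmul]
  rfl

end Groth.Agent.S12668
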