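import Groth.Statements.S12669
import Groth.Agent.CycPB.OpsTensorTwo

set_option autoImplicit false
universe u
open CategoryTheory CategoryTheory.Limits AlgebraicGeometry
open Cyc

set_option backward.isDefEq.respectTransparency false
set_option backward.isDefEq.respectTransparency.types false

namespace Groth.Agent.S12669

/-- For E, F finite locally free of ranks r, s on X, c_2(E ⊗ F) = r c_2(F) + s c_2(E) + C(r,2) c_1(F)^2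
+ (rs - 1) c_1(F) c_1(E) + C(s,2) c_1(E)^2, as cap operations on every k-cycle α; products of
classes are iterated caps represented by nested tuples (a tuple for F, resp. E, over the first
component of a tuple for F; a tuple for E over the first component of a tuple for E), c_2 of a
module of rank < 2 is 0, and E ⊗ F (CohB1.tensorMod, rank rs) enters through its own projective
bundle. Stated for r, s ≥ 1. Setting: (X, δ) with Cyc.IsSetup stands for a scheme locally of finite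
type over the base (S, δ) (X locally Noetherian with universally catenary local rings, δ a dimension
function); (p : P → X, O_P(1), q) is the projective bundle of E given by its universal property
(KRR.IsProjBundle), p is proper and δP is the induced dimension function (Cyc.DeltaCompat); a tuple
γ with Cyc.IsChernCap represents (c_0(E) ∩ α, …, c_r(E) ∩ α) through the defining relation Σ_i
(-1)^i c_1(O_P(1))^i ∩ p^*(γ_{r-i}) ∼_rat 0 on P, and classes are compared up to rational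
equivalence of representing cycles. -/
theorem result (X : Scheme.{u}) (δ : X → ℤ) (hX : Cyc.IsSetup X δ) (r s : ℕ) (hr : 1 ≤ r) (hs : 1 ≤ s) (E : X.Modules) (hPE : FlatMod.IsFinLocFreeOfRank r E) (P : Scheme.{u}) (p : P ⟶ X) (O1 : P.Modules) (q : (Scheme.Modules.pullback p).obj E ⟶ O1) (hP : KRR.IsProjBundle p E O1 q) [IsProper p] (δP : P → ℤ) (hPs : Cyc.IsSetup P δP) (hδ : Cyc.DeltaCompat p δP δ) (F : X.Modules) (hQE : FlatMod.IsFinLocFreeOfRank s F) (Q : Scheme.{u}) (p' : Q ⟶ X) (O1' : Q.Modules) (q' : (Scheme.Modules.pullback p').obj F ⟶ O1') (hQ : KRR.IsProjBundle p' F O1' q') [IsProper p'] (δQ : Q → ℤ) (hQs : Cyc.IsSetup Q δQ) (hδ' : Cyc.DeltaCompat p' δQ δ) (hTE : FlatMod.IsFinLocFreeOfRank (r * s) (CohB1.tensorMod E F)) (T : Scheme.{u}) (p'' : T ⟶ X) (O1'' : T.Modules) (q'' : (Scheme.Modules.pullback p'').obj (CohB1.tensorMod E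 F) ⟶ O1'') (hT : KRR.IsProjBundle p'' (CohB1.tensorMod E F) O1'' q'') [IsProper p''] (δT : T → ℤ) (hTs : Cyc.IsSetup T δT) (hδ'' : Cyc.DeltaCompat p'' δT δ) (k : ℤ) (α : AlgebraicCycle X ℤ) (hα : α ∈ Cyc.Zk X δ k) (ε : Fin (r + 1) → AlgebraicCycle X ℤ) (hε : Cyc.IsChernCap p δ δP O1 r k α ε) (φ : Fin (s + 1) → AlgebraicCycle X ℤ) (hφ : Cyc.IsChernCap p' δ δQ O1' s k α φ) (τ : Fin (r * s + 1) → AlgebraicCycle X ℤ) (hτ : Cyc.IsChernCap p'' δ δT O1'' (r * s) k α τ) (φφ : Fin (s + 1) → AlgebraicCycle X ℤ) (hφφ : Cyc.IsChernCap p' δ δQ O1' s (k - 1) (φ ⟨1, Nat.lt_succ_of_le hs⟩) φφ) (εφ : Fin (r + 1) → AlgebraicCycle X ℤ) (hεφ : Cyc.IsChernCap p δ δP O1 r (k - 1) (φ ⟨1, Nat.lt_succ_of_le hs⟩) εφ) (εε : Fin (r + 1) → AlgebraicCycle X ℤ) (hεε : Cyc.IsChernCap p δ δP O1 r (k - 1) (ε ⟨1, Nat.lt_succ_of_le hr⟩) εε) : Cyc.RatEquiv δ (k - 2) (if h2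 : 2 ≤ r * s then τ ⟨2, Nat.lt_succ_of_le h2⟩ else 0) (((r : ℕ) : ℤ) • (if h2 : 2 ≤ s then φ ⟨2, Nat.lt_succ_of_le h2⟩ else 0) + ((s : ℕ) : ℤ) • (if h2 : 2 ≤ r then ε ⟨2, Nat.lt_succ_of_le h2⟩ else 0) + ((Nat.choose r 2 : ℕ) : ℤ) • φφ ⟨1, Nat.lt_succ_of_le hs⟩ + (((r * s : ℕ) : ℤ) - 1) • εφ ⟨1, Nat.lt_succ_of_le hr⟩ + ((Nat.choose s 2 : ℕ) : ℤ) • εε ⟨1, Nat.lt_succ_of_le hr⟩) := by
  classical
  open scoped IsMulCommutative in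
  have hB : CycPB.Bundle p δ δP E O1 r := ⟨hX, hPs, hδ, ⟨q, hP⟩, hPE⟩
  have hB' : CycPB.Bundle p' δ δQ F O1' s := ⟨hX, hQs, hδ', ⟨q', hQ⟩, hQE⟩
  have hB'' : CycPB.Bundle p'' δ δT (CohB1.tensorMod E F) O1'' (r * s) := ⟨hX, hTs, hδ'', ⟨q'', hT⟩, hTE⟩
  obtain ⟨S, π, e, δS, hS, hsp, hπ, hR⟩ := CycPB.exists_roots hX 2 ![E, F] ![r, s] (Fin.forall_fin_two.2 ⟨hPE, hQE⟩)
  haveI := hsp.proper
  haveI := hsp.flat
  obtain ⟨M, hM, ⟨F₁⟩, hroots⟩ : ∃ (L : Fin r → S.Modules) (hL : ∀ l, PicF.IsInvertible (L l)),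
      Nonempty (CycPB.Filt ((Scheme.Modules.pullback π).obj E) r L) ∧
        CycPB.HasRoots hS ((Scheme.Modules.pullback π).obj E) r (Finset.univ.val.map fun l => CycPB.c1R hS (hL l)) := hR 0
  obtain ⟨N, hN, ⟨F₂⟩, hroots'⟩ : ∃ (L : Fin s → S.Modules) (hL : ∀ l, PicF.IsInvertible (L l)),
      Nonempty (CycPB.Filt ((Scheme.Modules.pullback π).obj F) s L) ∧
        CycPB.HasRoots hS ((Scheme.Modules.pullback π).obj F) s (Finset.univ.val.map fun l => CycPB.c1R hS (hL l)) := hR 1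
  obtain ⟨P₁, π₁, hπ₁, O₁, δ₁, hBQ, -⟩ := hB.exists_pull hS π hsp.relDim hπ
  obtain ⟨P₂, π₂, hπ₂, O₂, δ₂, hBQ', -⟩ := hB'.exists_pull hS π hsp.relDim hπ
  obtain ⟨P₃, π₃, hπ₃, O₃, δ₃, hBQ'', -⟩ := hB''.exists_pull hS π hsp.relDim hπ
  have hroots'' := (CycPB.HasRoots.tensor_filt (hX := hS) hM F₁ hN F₂).of_iso (KFlat.pullTensorIso π E F)
  have hφ1 : φ ⟨1, Nat.lt_succ_of_le hs⟩ ∈ Cyc.Zk X δ (k - 1) := hφ.2.1 ⟨1, Nat.lt_succ_of_le hs⟩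
  have hε1 : ε ⟨1, Nat.lt_succ_of_le hr⟩ ∈ Cyc.Zk X δ (k - 1) := hε.2.1 ⟨1, Nat.lt_succ_of_le hr⟩
  have h2 : CycPB.cT hB' 1 (CycPB.clT hα) = CycPB.clT hφ1 := CycPB.cT_clT hB' hα hφ ⟨1, Nat.lt_succ_of_le hs⟩
  have h3 : CycPB.cT hB 1 (CycPB.clT hα) = CycPB.clT hε1 := CycPB.cT_clT hB hα hε ⟨1, Nat.lt_succ_of_le hr⟩
  have e2 : k - 1 - (((1 : ℕ)) : ℤ) = k - 2 := by omega
  have hA : (if h2 : 2 ≤ r * s then τ ⟨2, Nat.lt_succ_of_le h2⟩ else 0) ∈ Cyc.Zk X δ (k - 2) := CycPB.mem_Zk_dite hτ 2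
  have hC1 : (if h2 : 2 ≤ s then φ ⟨2, Nat.lt_succ_of_le h2⟩ else 0) ∈ Cyc.Zk X δ (k - 2) := CycPB.mem_Zk_dite hφ 2
  have hC2 : (if h2 : 2 ≤ r then ε ⟨2, Nat.lt_succ_of_le h2⟩ else 0) ∈ Cyc.Zk X δ (k - 2) := CycPB.mem_Zk_dite hε 2
  have m3 : φφ ⟨1, Nat.lt_succ_of_le hs⟩ ∈ Cyc.Zk X δ (k - 1 - (((1 : ℕ)) : ℤ)) := hφφ.2.1 ⟨1, Nat.lt_succ_of_le hs⟩
  have m4 : εφ ⟨1, Nat.lt_succ_of_le hr⟩ ∈ Cyc.Zk X δ (k - 1 - (((1 : ℕ)) : ℤ)) := hεφ.2.1 ⟨1, Nat.lt_succ_of_le hr⟩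
  have m5 : εε ⟨1, Nat.lt_succ_of_le hr⟩ ∈ Cyc.Zk X δ (k - 1 - (((1 : ℕ)) : ℤ)) := hεε.2.1 ⟨1, Nat.lt_succ_of_le hr⟩
  have hC3 : φφ ⟨1, Nat.lt_succ_of_le hs⟩ ∈ Cyc.Zk X δ (k - 2) := e2 ▸ m3
  have hC4 : εφ ⟨1, Nat.lt_succ_of_le hr⟩ ∈ Cyc.Zk X δ (k - 2) := e2 ▸ m4
  have hC5 : εε ⟨1, Nat.lt_succ_of_le hr⟩ ∈ Cyc.Zk X δ (k - 2) := e2 ▸ m5
  have g1 : CycPB.clT hA = CycPB.cT hB'' 2 (CycPB.clT hα) := CycPB.clT_dite hB'' hα hτ 2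
  have g2 : CycPB.clT hC1 = CycPB.cT hB' 2 (CycPB.clT hα) := CycPB.clT_dite hB' hα hφ 2
  have g3 : CycPB.clT hC2 = CycPB.cT hB 2 (CycPB.clT hα) := CycPB.clT_dite hB hα hε 2
  have g4 : CycPB.clT hC3 = CycPB.cT hB' 1 (CycPB.cT hB' 1 (CycPB.clT hα)) := by
    rw [h2, CycPB.clT_congr hC3 m3 e2.symm]
    exact (CycPB.cT_clT hB' hφ1 hφφ ⟨1, Nat.lt_succ_of_le hs⟩).symm
  have g5 : CycPB.clT hC4 = CycPB.cT hB 1 (CycPB.cT hB' 1 (CycPB.clT hα)) := by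
    rw [h2, CycPB.clT_congr hC4 m4 e2.symm]
    exact (CycPB.cT_clT hB hφ1 hεφ ⟨1, Nat.lt_succ_of_le hr⟩).symm
  have g6 : CycPB.clT hC5 = CycPB.cT hB 1 (CycPB.cT hB 1 (CycPB.clT hα)) := by
    rw [h3, CycPB.clT_congr hC5 m5 e2.symm]
    exact (CycPB.cT_clT hB hε1 hεε ⟨1, Nat.lt_succ_of_le hr⟩).symm
  have q1 := CycPB.mem_Zk_smul ((r : ℕ) : ℤ) hC1
  have q2 := CycPB.mem_Zk_smul ((s : ℕ) : ℤ) hC2
  have q3 := CycPB.mem_Zk_smul ((Nat.choose r 2 : ℕ) : ℤ) hC3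
  have q4 := CycPB.mem_Zk_smul (((r * s : ℕ) : ℤ) - 1) hC4
  have q5 := CycPB.mem_Zk_smul ((Nat.choose s 2 : ℕ) : ℤ) hC5
  have q := CycPB.mem_Zk_add (CycPB.mem_Zk_add (CycPB.mem_Zk_add (CycPB.mem_Zk_add q1 q2) q3) q4) q5
  refine CycPB.ratEquiv_of_ofT hA q ?_
  refine (?_ : CycPB.clT hA = CycPB.clT q)
  rw [CycPB.clT_add (CycPB.mem_Zk_add (CycPB.mem_Zk_add (CycPB.mem_Zk_add q1 q2) q3) q4) q5,
    CycPB.clT_add (CycPB.mem_Zk_add (CycPB.mem_Zk_add q1 q2) q3) q4,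
    CycPB.clT_add (CycPB.mem_Zk_add q1 q2) q3, CycPB.clT_add q1 q2, CycPB.clT_smul _ hC1, CycPB.clT_smul _ hC2,
    CycPB.clT_smul _ hC3, CycPB.clT_smul _ hC4, CycPB.clT_smul _ hC5, g1, g2, g3, g4, g5, g6]
  apply CycPB.pullT_injective hX hsp hS hπ
  simp only [map_add, map_zsmul, CycPB.pullT_cT hX hS π hsp.relDim hπ hB'' hBQ'' (Iso.refl _),
    CycPB.pullT_cT hX hS π hsp.relDim hπ hB' hBQ' (Iso.refl _),
    CycPB.pullT_cT hX hS π hsp.relDim hπ hB hBQ (Iso.refl _),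
    hroots''.2.2 P₃ π₃ hπ₃ O₃ δ₃ hBQ'', hroots'.2.2 P₂ π₂ hπ₂ O₂ δ₂ hBQ', hroots.2.2 P₁ π₁ hπ₁ O₁ δ₁ hBQ]
  have hb : ((Finset.univ.val.map fun i => CycPB.c1R hS (hM i)).bind fun x =>
      Finset.univ.val.map fun j => x + CycPB.c1R hS (hN j)) =
      (Finset.univ.val.map fun i => CycPB.c1R hS (hM i)).bind fun x =>
        (Finset.univ.val.map fun j => CycPB.c1R hS (hN j)).map fun y => x + y := by
    simp only [Multiset.map_map]; rfl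
  erw [hb, CycPB.esymm_two_bind]
  rw [hroots.2.1, hroots'.2.1, natCast_zsmul, natCast_zsmul, natCast_zsmul, natCast_zsmul, Nat.cast_mul]
  simp only [sub_smul, one_smul, mul_smul, natCast_zsmul]
  rfl

end Groth.Agent.S12669
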