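import Groth.Statements.S12670
import Groth.Agent.CycPB.DualFilt
import Groth.Agent.CycPB.OpsApply

set_option autoImplicit false
universe u
open CategoryTheory CategoryTheory.Limits AlgebraicGeometry
attribute [local instance] HasDerivedCategory.standard
open Cyc

set_option backward.isDefEq.respectTransparency false
set_option backward.isDefEq.respectTransparency.types false

namespace Groth.Agent.S12670

/-- For E finite locally free of rank r on X with dual E^∨, c_j(E^∨) = (-1)^j c_j(E), as cap operations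
on every k-cycle α. The dual is Hom_{O_X}(E, O_X), the value at O_X of the right adjoint of - ⊗ E
(DCoh.sheafHom, its existence carried as a hypothesis), finite locally free of rank r, and enters
through its own projective bundle. Setting: (X, δ) with Cyc.IsSetup stands for a scheme locally of
finite type over the base (S, δ) (X locally Noetherian with universally catenary local rings, δ a
dimension function); (p : P → X, O_P(1), q) is the projective bundle of E given by its universal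
property (KRR.IsProjBundle), p is proper and δP is the induced dimension function (Cyc.DeltaCompat);
a tuple γ with Cyc.IsChernCap represents (c_0(E) ∩ α, …, c_r(E) ∩ α) through the defining relation
Σ_i (-1)^i c_1(O_P(1))^i ∩ p^*(γ_{r-i}) ∼_rat 0 on P, and classes are compared up to rational
equivalence of representing cycles. -/
theorem result (X : Scheme.{u}) (δ : X → ℤ) (hX : Cyc.IsSetup X δ) (r : ℕ) (E : X.Modules) (hPE : FlatMod.IsFinLocFreeOfRank r E) (P : Scheme.{u}) (p : P ⟶ X) (O1 : P.Modules) (q : (Scheme.Modules.pullback p).obj E ⟶ O1) (hP : KRR.IsProjBundle p E O1 q) [IsProper p] (δP : P → ℤ) (hPs : Cyc.IsSetup P δP) (hδ : Cyc.DeltaCompat p δP δ) [DCoh.HasSheafHom E] (hP'E : FlatMod.IsFinLocFreeOfRank r ((DCoh.sheafHom E).obj (Coh.structureModule X))) (P' : Scheme.{u}) (p' : P' ⟶ X) (O1' : P'.Modules) (q' : (Scheme.Modules.pullback p').obj ((DCoh.sheafHom E).obj (Coh.structureModule X)) ⟶ O1') (hP' : KRR.IsProjBundle p' ((DCoh.sheafHom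 E).obj (Coh.structureModule X)) O1' q') [IsProper p'] (δP' : P' → ℤ) (hPs' : Cyc.IsSetup P' δP') (hδ' : Cyc.DeltaCompat p' δP' δ) (k : ℤ) (α : AlgebraicCycle X ℤ) (hα : α ∈ Cyc.Zk X δ k) (γ : Fin (r + 1) → AlgebraicCycle X ℤ) (hγ : Cyc.IsChernCap p δ δP O1 r k α γ) (γ' : Fin (r + 1) → AlgebraicCycle X ℤ) (hγ' : Cyc.IsChernCap p' δ δP' O1' r k α γ') (j : Fin (r + 1)) : Cyc.RatEquiv δ (k - ((j : ℕ) : ℤ)) (γ' j) ((-1 : ℤ) ^ (j : ℕ) • γ j) := by
  classical
  open scoped IsMulCommutative in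
  have hB : CycPB.Bundle p δ δP E O1 r := ⟨hX, hPs, hδ, ⟨q, hP⟩, hPE⟩
  have hB' : CycPB.Bundle p' δ δP' (CycPB.dualM E) O1' r := ⟨hX, hPs', hδ', ⟨q', hP'⟩, hP'E⟩
  obtain ⟨S, π, e, δS, hS, hsp, hπ, hR⟩ := CycPB.exists_roots hX 1 (fun _ => E) (fun _ => r) fun _ => hPE
  haveI := hsp.proper
  haveI := hsp.flat
  obtain ⟨M, hM, ⟨F⟩, hroots⟩ := hR 0
  obtain ⟨Q, π₁, hπ₁, OQ, δQ, hBQ, -⟩ := hB.exists_pull hS π hsp.relDim hπ
  obtain ⟨Q', π₁', hπ₁', OQ', δQ', hBQ', -⟩ := hB'.exists_pull hS π hsp.relDim hπ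
  obtain ⟨φ⟩ := CycPB.nonempty_pullback_dualM π (N := E) (fun x => let ⟨U, h1, h2⟩ := hPE x; ⟨U, r, h1, h2⟩)
  have hroots' := (CycPB.HasRoots.dual (hX := hS) hM F).of_iso φ.symm
  have hsm := CycPB.mem_Zk_smul ((-1 : ℤ) ^ (j : ℕ)) (hγ.2.1 j)
  refine CycPB.ratEquiv_of_ofT (hγ'.2.1 j) hsm ?_
  refine (?_ : CycPB.clT (hγ'.2.1 j) = CycPB.clT hsm)
  rw [CycPB.clT_smul _ (hγ.2.1 j), ← CycPB.cT_clT hB' hα hγ' j, ← CycPB.cT_clT hB hα hγ j]
  apply CycPB.pullT_injective hX hsp hS hπ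
  rw [map_zsmul, CycPB.pullT_cT hX hS π hsp.relDim hπ hB' hBQ' (Iso.refl _),
    CycPB.pullT_cT hX hS π hsp.relDim hπ hB hBQ (Iso.refl _),
    hroots'.2.2 Q' π₁' hπ₁' OQ' δQ' hBQ', hroots.2.2 Q π₁ hπ₁ OQ δQ hBQ]
  have hneg : (Finset.univ.val.map fun i => - CycPB.c1R hS (hM i)) =
      (Finset.univ.val.map fun i => CycPB.c1R hS (hM i)).map Neg.neg := by
    rw [Multiset.map_map]; rfl
  erw [hneg, Multiset.esymm_neg]
  have key : ∀ (n : ℕ) (a : CycPB.c1Ring hS) (z : CycPB.Tot δS),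
      (((-1 : CycPB.c1Ring hS) ^ n * a : CycPB.c1Ring hS) : AddMonoid.End (CycPB.Tot δS)) z =
        (-1 : ℤ) ^ n • (a : AddMonoid.End (CycPB.Tot δS)) z := fun n a z => by
    induction n with
    | zero => simp
    | succ n ih =>
      rw [pow_succ', mul_assoc, neg_one_mul, pow_succ', neg_one_mul, neg_smul]
      show -((((-1 : CycPB.c1Ring hS) ^ n * a : CycPB.c1Ring hS) : AddMonoid.End (CycPB.Tot δS)) z) = _
      rw [ih]
  exact key _ _ _

end Groth.Agent.S12670
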