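import Groth.Statements.S12675
import Groth.Agent.CycPB.Chern

set_option autoImplicit false
universe u
open CategoryTheory CategoryTheory.Limits AlgebraicGeometry
open Cyc

set_option backward.isDefEq.respectTransparency false
set_option backward.isDefEq.respectTransparency.types false

namespace Groth.Agent.S12675

/-- Suppose X is integral of δ-dimension n and L is an O_X-module that is invertible; then L's first
Chern class on X, taken in the sense of the projective-bundle characterisation (rank r = 1), agrees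
with the Weil divisor class c_1(L) ∩ [X] of L (the divisor of a nonzero rational section,
Cyc.c1CapFun on the cycle [X]_n). The projective bundle of L is given abstractly by its universal
property, so the identification P(L) = X, O(1) = L is part of what is asserted. Setting: (X, δ) with
Cyc.IsSetup stands for a scheme locally of finite type over the base (S, δ) (X locally Noetherian
with universally catenary local rings, δ a dimension function); (p : P → X, O_P(1), q) is the
projective bundle of E given by its universal property (KRR.IsProjBundle), p is proper and δP is the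
induced dimension function (Cyc.DeltaCompat); a tuple γ with Cyc.IsChernCap represents (c_0(E) ∩ α,
…, c_r(E) ∩ α) through the defining relation Σ_i (-1)^i c_1(O_P(1))^i ∩ p^*(γ_{r-i}) ∼_rat 0 on P,
and classes are compared up to rational equivalence of representing cycles. -/
theorem result (X : Scheme.{u}) (δ : X → ℤ) (hX : Cyc.IsSetup X δ) [IsIntegral X] (n : ℤ) (hn : δ (genericPoint X) = n) (L : X.Modules) (hL : PicF.IsInvertible L) (hPE : FlatMod.IsFinLocFreeOfRank 1 L) (P : Scheme.{u}) (p : P ⟶ X) (O1 : P.Modules) (q : (Scheme.Modules.pullback p).obj L ⟶ O1) (hP : KRR.IsProjBundle p L O1 q) [IsProper p] (δP : P → ℤ) (hPs : Cyc.IsSetup P δP) (hδ : Cyc.DeltaCompat p δP δ) (α : AlgebraicCycle X ℤ) (hα : ⇑α = Cyc.subschemeFun δ n (𝟙 X)) (γ : Fin 2 → AlgebraicCycle X ℤ) (hγ : Cyc.IsChernCap p δ δP O1 1 n α γ) (s : (ξ : X) → Cyc.secFibre L ξ) (hs : ∀ ξ, s ξ ≠ 0) (β : AlgebraicCycle X ℤ) (hβ : ⇑β = Cyc.c1CapFun δ L ⇑α s) : Cyc.RatEquiv δ (n - 1) (γ 1) β := by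
  classical
  haveI := hX.1
  haveI := hPs.1
  have hO := PBundle.isInvertible hP
  have hα0 : α ∈ Cyc.Zk X δ n := by
    have h := hγ.2.1 0
    simpa [hγ.1] using h
  have hβk : β ∈ Cyc.Zk X δ (n - 1) := CycK0.cap_mem (fun x hx => by
    have := by_contra fun h => hx (hα0 x h)
    omega) hβ
  haveI := hP.epi
  have hL' : PicF.IsInvertible ((Scheme.Modules.pullback p).obj L) := PicLoc.isInvertible_pullback p hL
  haveI : IsIso q := W7Adic.isIso_of_epi_invertible hL' hO q
  choose t ht htd using fun ξ : P => CycPB.exists_secMap hL' (asIso q) ξ (CycSec.secPull p ξ (s (p ξ)))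
    (CycSec.secPull_ne_zero p hL ξ (hs _))
  haveI : Flat p := (CycPB.fibres_of_isProjBundle hP hPE).1 le_rfl
  have hr0 := CycPB.hasRelDim_of_hasPnFibres ((CycPB.fibres_of_isProjBundle hP hPE).2 0 rfl)
  have hlev : ∀ j : Fin 2, (![α, β] j) ∈ Cyc.Zk X δ (n - ((j : ℕ) : ℤ)) := fun j => by
    fin_cases j
    · simpa using hα0
    · simpa using hβk
  have key := CycPB.chern_eq hX hPs hδ hP hPE hγ ![α, β] hlev (by simpa using CycPB.RZ.zero) (fun _ => t)
    (fun _ => ht) (fun _ => ?_) 1
  · have h2 := (CycPB.RZ.of_ratEquiv (hlev 1) (hγ.2.1 1) key).smul (-1)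
    simp only [neg_one_mul, neg_sub] at h2
    exact CycPB.RZ.ratEquiv h2
  have hsum : (fun y => ∑ i : Fin (1 + 1), CycPB.term p δP δ O1 (fun _ => t) 1 i (⇑(![α, β] (Fin.rev i))) y) =
      fun _ => 0 := funext fun y => by
    rw [Fin.sum_univ_two]
    show (-1 : ℤ) ^ 0 * Cyc.pullFun p δP δ (((1 : ℕ) : ℤ) - 1) ⇑β y +
      (-1 : ℤ) ^ 1 * Cyc.c1CapFun δP O1 (Cyc.pullFun p δP δ (((1 : ℕ) : ℤ) - 1) ⇑α) t y = 0
    rw [hβ, CycSec.pullFun_c1CapFun p hPs.2.2 hX.2.2
      (fun x hx => ((CycDim.delta_le p hδ hr0 x).2).2 hx |>.trans (by simp)) hL α s hs]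
    simp only [Cyc.c1CapFun, pow_zero, one_mul, pow_one, neg_one_mul]
    rw [← sub_eq_add_neg, sub_eq_zero]
    exact finsum_congr fun ξ => congrArg (_ * ·) (htd ξ y).symm
  rw [hsum]
  exact CycPB.RZ.zero

end Groth.Agent.S12675
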