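import Groth.Statements.S17840
import Groth.Agent.CycDim.FlatDim

set_option autoImplicit false
universe u
open CategoryTheory AlgebraicGeometry
open Cyc

namespace Groth.Agent.S17840

/-- Let (Y, δY) be a locally Noetherian scheme with universally catenary local rings and a dimension
function, f : X ⟶ Y a flat morphism locally of finite type between irreducible schemes with generic
points ξ and η, and δX the induced function on X, δX(x) = δY(f x) + trdeg_{κ(f x)} κ(x). Put d =
δX(ξ) − δY(η). Then d ≥ 0, every irreducible component of every fibre of f has dimension d, and for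
every point x of X the fibre of f over f(x) has dimension d. (The published statement is for schemes
separated of finite type over a Noetherian excellent regular separated base S with δ the S-dimension
— transcendence degree of the residue field minus the dimension of the local ring of S at the image
point — and for the fibre over every point of Y; the fibre over a point outside f(X) is empty, so
the dimension statement is made here at points of the image; this row allows any dimension function
δY on a locally Noetherian Y with universally catenary local rings, with δX induced from it.) -/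
theorem result {X Y : Scheme.{u}} (f : X ⟶ Y) [Flat f] [LocallyOfFiniteType f]
    [IrreducibleSpace X] [IrreducibleSpace Y] (δX : X → ℤ) (δY : Y → ℤ) (hY : Cyc.IsSetup Y δY)
    (hδ : Cyc.DeltaCompat f δX δY) :
    0 ≤ δX (genericPoint X) - δY (genericPoint Y) ∧
      Cyc.HasRelDim f (δX (genericPoint X) - δY (genericPoint Y)).toNat ∧
      ∀ x : X, topologicalKrullDim ↥(f.fiber (f x)) =
        ((δX (genericPoint X) - δY (genericPoint Y)).toNat : WithBot ℕ∞) := by

  haveI := hY.1
  haveI : IsLocallyNoetherian X := LocallyOfFiniteType.isLocallyNoetherian f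
  let R := (δX (genericPoint X) - δY (genericPoint Y)).toNat
  have key : ∀ m, Groth.Agent.EquidimPt.IsFibMax f m →
      Dual3.resTrdeg f m = (R : Cardinal.{u}) ∧ 0 ≤ δX (genericPoint X) - δY (genericPoint Y) := by
    intro m hm
    obtain ⟨d, hd, -, -⟩ := Groth.Agent.CycDim.exists_trdeg f m
    have h := Groth.Agent.CycDim.delta_sub_eq f hY hδ hm hd
    refine ⟨by rw [hd, show d = R by show d = (_ : ℤ).toNat; omega], by omega⟩
  have hrel : Cyc.HasRelDim f R := Groth.Agent.CycDim.hasRelDim_of_trdeg f R fun m hm => (key m hm).1
  refine ⟨(key (genericPoint X) fun w _ hw => (hw.antisymm (genericPoint_specializes w)).eq).2, hrel, fun x => ?_⟩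
  obtain ⟨m, hfm, hmx, hm⟩ := Groth.Agent.CycDim.exists_fibMax f x
  obtain ⟨-, hle, hge⟩ := Groth.Agent.CycDim.trdeg_fibMax f hrel hm
  have hj : Topology.IsEmbedding (f.fiberι (f x)) := (f.fiberι (f x)).isEmbedding
  have hr : Set.range (f.fiberι (f x)) = Set.univ ∩ f ⁻¹' {f x} := by
    rw [Set.univ_inter, Scheme.Hom.range_fiberι]
  refine le_antisymm ((Groth.Agent.Unibranch.topologicalKrullDim_le_iff f hj hr).2 fun k c hc hc' => ?_)
    ((Groth.Agent.Unibranch.natCast_le_topologicalKrullDim_iff f hj hr).2 ?_)
  · obtain ⟨m', hfm', hm0, hm'⟩ := Groth.Agent.CycDim.exists_fibMax f (c 0)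
    obtain ⟨-, hle', -⟩ := Groth.Agent.CycDim.trdeg_fibMax f hrel hm'
    rw [hfm', (hc 0).2] at hle'
    exact hle' k c (fun i => ⟨specializes_iff_mem_closure.1
      (hm0.trans (Groth.Agent.Unibranch.specializes_of_chain c hc' i)), (hc i).2⟩) hc'
  · rw [← hfm]
    exact hge.mono (Set.subset_univ _)

end Groth.Agent.S17840
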