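import Groth.Statements.S12676
import Groth.Agent.BivarOps.InterSection
import Groth.Agent.BivarOps.InterExt
import Groth.Agent.BivarOps.ProperPush
import Groth.Agent.CycDim.PushVanish
import Groth.Agent.S17840
import Groth.Agent.S9358
-- import your own Groth.Agent.* helpers here

set_option autoImplicit false
set_option linter.style.haveILetI false
set_option backward.isDefEq.respectTransparency false
set_option maxHeartbeats 1000000
universe u
open CategoryTheory CategoryTheory.Limits AlgebraicGeometry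
attribute [local instance] HasDerivedCategory.standard
open IntMult

open Groth.Agent

namespace Groth.Agent.S12676

/-- Let f : X → Y be a morphism of nonsingular projective varieties over an algebraically closed field
and define f^*α = pr_{X,*}(Γ_f · pr_Y^*α) on Chow groups, with Γ_f ⊂ X × Y the graph and · the
intersection product of the nonsingular projective variety X × Y. If f is flat, f^*α agrees with the
flat pullback of α (relative dimension dim X - dim Y). Here X, Y and X × Y are nonsingular varieties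
over the algebraically closed field K (smooth, separated, quasi-compact, integral) embedded as
closed subschemes of projective spaces over K, with dimension functions the transcendence degree
(Cyc.IsSetup, Cyc.DeltaCompat to Spec K with value 0) and dimensions pinned at the generic points;
the product on CH_*(X × Y) is any mul with ChowOps.IsChowMul (it agrees with the Tor-formula product
IntMult.interProd on properly meeting cycles, which determines it); [Γ_f] is the prime cycle of the
image of the generic point of X under the graph morphism, pr_Y^* and f^* are coefficientwise flat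
pullbacks (Cyc.pullFun), pr_{X,*} is the proper pushforward of a representing cycle, and the two
sides are compared up to rational equivalence on X. (Parts (1)–(3) of the published statement — f^*
is a ring map, functoriality, projection formula — are not stated here.) -/
theorem result (K : Type u) [Field K] [IsAlgClosed K] (X : Scheme.{u}) (fX : X ⟶ Spec (CommRingCat.of K)) [Smooth fX] [IsSeparated fX] [QuasiCompact fX] [IsIntegral X] (δX : X → ℤ) (hX : Cyc.IsSetup X δX) (hδX : Cyc.DeltaCompat fX δX (fun _ => 0)) (dX : ℕ) (hdX : δX (genericPoint X) = dX) (NX : ℕ) (ιX : X ⟶ CohB1.ProjSpace NX K) [IsClosedImmersion ιX] (hιX : ιX ≫ CohB1.ProjSpace.toSpec NX K = fX) (Y : Scheme.{u}) (fY : Y ⟶ Spec (CommRingCat.of K)) [Smooth fY] [IsSeparated fY] [QuasiCompact fY] [IsIntegral Y] (δY : Y → ℤ) (hY : Cyc.IsSetup Y δY) (hδY : Cyc.DeltaCompat fY δY (fun _ => 0)) (dY : ℕ) (hdY : δY (genericPoint Y) = dY) (NY : ℕ) (ιY : Y ⟶ CohB1.ProjSpace NY K) [IsClosedImmersion ιY] (hιY : ιY ≫ CohB1.ProjSpace.toSpec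 NY K = fY) (f : X ⟶ Y) (hf : f ≫ fY = fX) [Flat f] [IsIntegral (pullback fX fY)] (δW : ↥(pullback fX fY) → ℤ) (hW : Cyc.IsSetup (pullback fX fY) δW) (hδW : Cyc.DeltaCompat (pullback.fst fX fY ≫ fX) δW (fun _ => 0)) (hdW : δW (genericPoint ↥(pullback fX fY)) = (dX : ℤ) + (dY : ℤ)) (NW : ℕ) (ιW : (pullback fX fY) ⟶ CohB1.ProjSpace NW K) [IsClosedImmersion ιW] (hιW : ιW ≫ CohB1.ProjSpace.toSpec NW K = pullback.fst fX fY ≫ fX) (mul : (r s : ℤ) → ChowOps.CH (pullback fX fY) δW r → ChowOps.CH (pullback fX fY) δW s → ChowOps.CH (pullback fX fY) δW (r + s - ((dX : ℤ) + (dY : ℤ)))) (hmul : ChowOps.IsChowMul (pullback fX fY) δW ((dX : ℤ) + (dY : ℤ)) mul) (γ : AlgebraicCycle (pullback fX fY) ℤ) (hγ : ⇑γ = Set.indicator {(pullback.lift (𝟙 X) f (Eq.trans (Category.id_comp fX) hf.symm)) (genericPoint X)} 1) (hγk : γ ∈ Cyc.Zk (pullback fX fY) δW (dX : ℤ)) (k : ℤ) (α : AlgebraicCycle Y ℤ) (hα : α ∈ Cyc.Zk Y δY k) (αW : AlgebraicCycle (pullback fX fY) ℤ) (hαW : ⇑αW = Cyc.pullFun (pullback.snd fX fY) δW δY (dX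 : ℤ) ⇑α) (hαWk : αW ∈ Cyc.Zk (pullback fX fY) δW (k + dX)) (ζ : AlgebraicCycle (pullback fX fY) ℤ) (hζk : ζ ∈ Cyc.Zk (pullback fX fY) δW ((dX : ℤ) + (k + dX) - ((dX : ℤ) + (dY : ℤ)))) (hζ : ChowOps.cl ζ hζk = mul (dX : ℤ) (k + dX) (ChowOps.cl γ hγk) (ChowOps.cl αW hαWk)) (αX : AlgebraicCycle X ℤ) (hαX : ⇑αX = Cyc.pullFun f δX δY ((dX : ℤ) - (dY : ℤ)) ⇑α) : Cyc.RatEquiv δX (k + dX - dY) (AlgebraicCycle.map (pullback.fst fX fY) δW δX ζ) αX := by
  classical
  haveI := hX.1
  haveI := hY.1
  haveI := hW.1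
  let p := pullback.fst fX fY
  let q := pullback.snd fX fY
  let σ := pullback.lift (𝟙 X) f (Eq.trans (Category.id_comp fX) hf.symm)
  have hσp : σ ≫ p = 𝟙 X := pullback.lift_fst _ _ _
  have hσq : σ ≫ q = f := pullback.lift_snd _ _ _
  haveI : Smooth (p ≫ fX) := inferInstance
  haveI : IsSeparated (p ≫ fX) := inferInstance
  haveI : QuasiCompact (p ≫ fX) := inferInstance
  haveI : IsClosedImmersion σ := by
    haveI : IsClosedImmersion (σ ≫ p) := by rw [hσp]; infer_instance
    exact IsClosedImmersion.of_comp σ p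
  haveI : IsProper fX := by rw [← hιX]; infer_instance
  haveI : IsProper fY := by rw [← hιY]; infer_instance
  haveI : IsProper p := inferInstance
  haveI : LocallyOfFiniteType f := by
    haveI : LocallyOfFiniteType (f ≫ fY) := by rw [hf]; infer_instance
    exact locallyOfFiniteType_of_comp f fY
  haveI : Flat (σ ≫ q) := by rw [hσq]; infer_instance
  haveI : LocallyOfFiniteType (σ ≫ q) := inferInstance
  have hp : Cyc.DeltaCompat p δW δX := BivarOps.deltaCompat_of_comp rfl hδX hδW
  have hq : Cyc.DeltaCompat q δW δY :=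
    BivarOps.deltaCompat_of_comp (pullback.condition (f := fX) (g := fY)).symm hδY hδW
  have hδf : Cyc.DeltaCompat f δX δY := BivarOps.deltaCompat_of_comp hf hδY hδX
  have hπ : ∀ x, p (σ x) = x := fun x => by rw [← Scheme.Hom.comp_apply, hσp]; rfl
  have hqσ : ∀ x, q (σ x) = f x := fun x => by rw [← Scheme.Hom.comp_apply, hσq]
  have hσδ : ∀ x, δW (σ x) = δX x := fun x => by
    have h1 := Bivar.deltaCompat_comp σ p _ δW δX (CycPush.deltaCompat_preimmersion σ δW) hp
    rw [hσp] at h1
    exact CycPush.deltaCompat_unique (𝟙 X) h1 (CycPush.deltaCompat_preimmersion (𝟙 X) δX) x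
  have hdq : Cyc.HasRelDim q dX :=
    (Groth.Agent.S9358.result fX fY p q (IsPullback.of_hasPullback fX fY) dX).2.2
      (BivarOps.hasRelDim_struct fX hδX dX hdX)
  obtain ⟨hge, hrel, -⟩ := Groth.Agent.S17840.result f δX δY hY hδf
  set e := (δX (genericPoint X) - δY (genericPoint Y)).toNat
  have he : (e : ℤ) = (dX : ℤ) - dY := by rw [← hdX, ← hdY]; omega
  have hfle : ∀ x, δX x ≤ δY (f x) + e := fun x => (CycDim.delta_le f hδf hrel x).1
  let g := σ (genericPoint X)
  have hdg : δW g = dX := (hσδ _).trans hdX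
  have hαW' : ∀ b, αW b ≠ 0 → δW b = k + dX ∧ δY (q b) = k := by
    intro b hb
    rw [hαW, Cyc.pullFun] at hb
    split_ifs at hb with hd
    · have hk : δY (q b) = k := not_not.1 fun hne => left_ne_zero_of_mul hb (hα _ hne)
      exact ⟨by have hk' : δY ((pullback.snd fX fY) b) = k := hk; omega, hk⟩
    · exact absurd rfl hb
  have hrange : ∀ z, g ⤳ z → ∃ x, σ x = z := fun z hz =>
    hz.mem_closed σ.isClosedEmbedding.isClosed_range ⟨_, rfl⟩
  have hprop : IntMult.IntersectProperly δW ((dX : ℤ) + dY) ⇑γ ⇑αW := by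
    intro a b ζ ha hb haζ hbζ
    rw [hγ] at ha
    obtain rfl := BivarOps.indicator_ne ha
    obtain ⟨x, rfl⟩ := hrange ζ haζ
    obtain ⟨hb1, hb2⟩ := hαW' b hb
    have hspec : q b ⤳ f x := (hbζ.map q.continuous).trans (specializes_of_eq (hqσ x))
    have h1 : δY (f x) ≤ δY (q b) := by
      by_cases hne : q b = f x
      · rw [hne]
      · exact (hY.2.2 _ _ hspec hne).1.le
    have h2 := hfle x
    rw [hσδ, hb1, show δW (σ (genericPoint X)) = (dX : ℤ) from hdg]
    omega
  let zFun := IntMult.interProd δW ((dX : ℤ) + dY) ⇑γ ⇑αW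
  have hval : ∀ x, zFun (σ x) = αX x := by
    intro x
    simp only [zFun]
    rw [hγ, hαX, hαW]
    by_cases hx : δX x = k + e ∧ δY (f x) = k
    · obtain ⟨hx, hy⟩ := hx
      have key : ∀ z, z ⤳ σ x → Cyc.pullFun q δW δY dX ⇑α z =
          α (f x) * Cyc.pullFun q δW δY dX (Set.indicator {f x} 1) z := by
        intro z hz
        simp only [Cyc.pullFun]
        split_ifs with hk
        · by_cases hzy : q z = f x
          · rw [Set.indicator_of_mem (show q z ∈ ({f x} : Set Y) from hzy), Pi.one_apply, one_mul, congrArg (⇑α) hzy]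
          · rw [Set.indicator_of_notMem (show q z ∉ ({f x} : Set Y) from hzy), zero_mul, mul_zero]
            refine mul_eq_zero_of_left (hα _ fun hzk => hzy ?_) _
            exact CycDim.eq_of_delta_le hY.2.2 ((hz.map q.continuous).trans (specializes_of_eq (hqσ x))) (by omega)
        · rw [mul_zero]
      have hl : IntMult.interProd δW ((dX : ℤ) + dY) (Set.indicator {g} 1) (Cyc.pullFun q δW δY dX ⇑α) (σ x) =
          α (f x) * IntMult.interProd δW ((dX : ℤ) + dY) (Set.indicator {g} 1)
            (Cyc.pullFun q δW δY dX (Set.indicator {f x} 1)) (σ x) := by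
        rw [IntMult.interProd, IntMult.interProd, mul_finsum]
        refine finsum_congr fun pr => ?_
        rw [key _ pr.2.2.1]
        ring
      have hkey := BivarOps.interProd_section q σ (p ≫ fX) hW hX hY hδW hq (hσq.symm ▸ hδf) hσδ hdW hdX hdq
        (hσq.symm ▸ hrel) (by rw [he]; ring) x (by rw [hσq, hx, hy])
      rw [hσq] at hkey
      rw [hl, hkey]
      rw [show ((dX : ℤ) - (dY : ℤ)) = (e : ℤ) from he.symm, Cyc.pullFun, Cyc.pullFun, if_pos (by omega),
        if_pos (by omega), Set.indicator_of_mem (Set.mem_singleton _), Pi.one_apply, one_mul]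
    · rw [IntMult.interProd, finsum_eq_zero_of_forall_eq_zero, Cyc.pullFun]
      · split_ifs with hd
        · rw [hα _ fun hk => hx ⟨by omega, hk⟩, zero_mul]
        · rfl
      · intro pr
        by_contra hp'
        have hsum : δW pr.1.1 + δW pr.1.2 - ((dX : ℤ) + dY) = δX x := pr.2.2.2.trans (hσδ x)
        rw [BivarOps.indicator_ne (left_ne_zero_of_mul (left_ne_zero_of_mul hp')), hdg] at hsum
        obtain ⟨hb1, hb2⟩ := hαW' pr.1.2 (by rw [hαW]; exact right_ne_zero_of_mul (left_ne_zero_of_mul hp'))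
        rw [hb1] at hsum
        have h1 : δY (f x) ≤ δY (q pr.1.2) := by
          have hspec : q pr.1.2 ⤳ f x := (pr.2.2.1.map q.continuous).trans (specializes_of_eq (hqσ x))
          by_cases hne : q pr.1.2 = f x
          · rw [hne]
          · exact (hY.2.2 _ _ hspec hne).1.le
        have h2 := hfle x
        exact hx ⟨by omega, by omega⟩
  have hzsupp : ∀ z, zFun z ≠ 0 → ∃ x, σ x = z := by
    intro z hz
    simp only [zFun] at hz
    rw [hγ] at hz
    obtain ⟨η, hg, -⟩ := BivarOps.interProd_prime_ne hz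
    exact hrange z hg
  let Z0 : AlgebraicCycle (pullback fX fY) ℤ := CycLim.mkCycle zFun fun {U} hU =>
    (((Function.locallyFinsupp.locallyFiniteSupport αX).finite_inter_support_of_isCompact
      (hU.preimage σ).isCompact).image σ).subset fun z hz => by
      obtain ⟨x, rfl⟩ := hzsupp z hz.2
      exact ⟨x, ⟨hz.1, fun h0 => hz.2 ((hval x).trans h0)⟩, rfl⟩
  have hZ0k : Z0 ∈ Cyc.Zk (pullback fX fY) δW ((dX : ℤ) + (k + dX) - ((dX : ℤ) + (dY : ℤ))) := by
    intro z hz
    by_contra hne
    obtain ⟨pr, hp'⟩ := not_forall.1 fun h => hne (finsum_eq_zero_of_forall_eq_zero h)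
    have h1 := left_ne_zero_of_mul (left_ne_zero_of_mul hp')
    rw [hγ] at h1
    have hsum := pr.2.2.2
    rw [BivarOps.indicator_ne h1, show δW (σ (genericPoint X)) = (dX : ℤ) from hdg,
      (hαW' _ (right_ne_zero_of_mul (left_ne_zero_of_mul hp'))).1] at hsum
    exact hz hsum.symm
  have hmap : AlgebraicCycle.map p δW δX Z0 = αX := by
    ext x
    show (∑ᶠ z ∈ p ⁻¹' {x}, Z0 z * ((AlgebraicCycle.mapCoeff p δW δX z : ℕ) : ℤ)) = _
    have hdeg : p.residueDegree (σ x) = 1 := by
      have e1 : (σ ≫ p).residueDegree x = (𝟙 X : X ⟶ X).residueDegree x :=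
        congrArg (fun m : X ⟶ X => m.residueDegree x) hσp
      rw [CycDeg.residueDegree_comp,
        CycDeg.residueDegree_eq_one σ (CycPush.residueFieldMap_surjective_pre _ x),
        CycDeg.residueDegree_eq_one (𝟙 X) (CycPush.residueFieldMap_surjective_pre _ x), mul_one] at e1
      exact e1
    rw [finsum_mem_eq_sum_of_subset (s := (p ⁻¹' {x} : Set _)) (t := {σ x}) _ (fun z hz => ?_) (fun z hz => ?_),
      Finset.sum_singleton, AlgebraicCycle.mapCoeff, if_pos ((hσδ x).trans (congrArg δX (hπ x)).symm), hdeg,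
      Nat.cast_one, mul_one]
    · exact hval x
    · obtain ⟨y, rfl⟩ := hzsupp z (left_ne_zero_of_mul hz.2)
      rw [Finset.coe_singleton, Set.mem_singleton_iff, show y = x from (hπ y).symm.trans hz.1]
    · rw [Finset.coe_singleton, Set.mem_singleton_iff] at hz
      rw [hz]
      exact hπ x
  have hcl : ChowOps.cl ζ hζk = ChowOps.cl Z0 hZ0k :=
    hζ.trans (hmul (dX : ℤ) (k + dX) γ αW hγk hαWk hprop Z0 hZ0k rfl)
  have hmemk : ∀ (C : AlgebraicCycle (pullback fX fY) ℤ) (j : ℤ), C ∈ Cyc.Zk _ δW j →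
      AlgebraicCycle.map p δW δX C ∈ Cyc.Zk X δX j := by
    intro C j hC x hx
    refine finsum_mem_eq_zero_of_forall_eq_zero fun z hz => ?_
    by_contra hne
    obtain ⟨h1, h2⟩ := mul_ne_zero_iff.1 hne
    have hd : δW z = δX (p z) := by
      by_contra hc
      exact h2 (by simp [AlgebraicCycle.mapCoeff, hc])
    refine h1 (hC z fun hj => hx ?_)
    rw [← show p z = x from hz, ← hd, hj]
  have himg := congrArg (BivarOps.pushCH hX hW p hp _) hcl
  rw [BivarOps.pushCH_cl hX hW p hp _ ζ hζk _ (hmemk _ _ hζk) (CycPB.RZ.zero.eq (funext fun x => (sub_self _).symm)),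
    BivarOps.pushCH_cl hX hW p hp _ Z0 hZ0k _ (hmemk _ _ hZ0k) (CycPB.RZ.zero.eq (funext fun x => (sub_self _).symm))]
    at himg
  have hrz := BivarOps.rz_of_cl_eq _ _ himg.symm
  rw [hmap] at hrz
  rw [show k + (dX : ℤ) - dY = (dX : ℤ) + (k + dX) - ((dX : ℤ) + (dY : ℤ)) by ring]
  exact CycPB.RZ.ratEquivZero hrz

end Groth.Agent.S12676
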