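import Groth.Statements.S1268
import Groth.Agent.RG.Loc.Models

set_option autoImplicit false
open Groth.Agent
universe u
open FlatMor

namespace Groth.Agent.S1268

open AlgebraicGeometry CategoryTheory TensorProduct in
/-- Ring form, X = Spec S and S = Spec R affine: let S be a finitely presented R-algebra, N a finitely
presented S-module and q a prime of S over p with N_q flat over R. Then there is an étale R-algebra
R' with a prime p' over p having the same residue field such that, for the base changes S', N' of S,
N to R' (any models), there is an S'-algebra C with Spec C → Spec S' an open immersion (an affine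
open U' of X ×_S S'), containing a point lying over both q and p' (there is exactly one such point
of X ×_S S'), such that C ⊗_{S'} N' (the sections of the pulled-back module over U') is a projective
R'-module. -/
theorem result {R S : Type u} [CommRing R] [CommRing S] [Algebra R S] [Algebra.FinitePresentation R S]
    (N : Type u) [AddCommGroup N] [Module S N] [Module R N] [IsScalarTower R S N] [Module.FinitePresentation S N]
    (p : Ideal R) [p.IsPrime] (q : Ideal S) [q.IsPrime] [q.LiesOver p] (hflat : FlatCA.FlatAt R q N) :
    ∃ (R' : Type u) (_ : CommRing R') (_ : Algebra R R') (p' : Ideal R') (_ : p'.IsPrime), FlatCA.IsEtaleNhd R R' p p' ∧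
      ∀ (S' N' : Type u) [CommRing S'] [Algebra R S'] [Algebra S S'] [Algebra R' S'] [IsScalarTower R S S'] [IsScalarTower R R' S']
        [Algebra.IsPushout R S R' S']
        [AddCommGroup N'] [Module S' N'] [Module S N'] [IsScalarTower S S' N']
        (f : N →ₗ[S] N'), IsBaseChange S' f →
        ∃ (C : Type u) (_ : CommRing C) (_ : Algebra S' C) (_ : Algebra R' C) (_ : IsScalarTower R' S' C)
          (x' : Ideal C) (_ : x'.IsPrime),
          IsOpenImmersion (Spec.map (CommRingCat.ofHom (algebraMap S' C))) ∧
          (x'.comap (algebraMap S' C)).LiesOver q ∧ (x'.comap (algebraMap S' C)).LiesOver p' ∧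
          Module.Projective R' (RestrictScalars R' C (C ⊗[S'] N')) := by
  classical
  have hq : q.comap (algebraMap R S) = p := (q.over_def p).symm
  obtain ⟨R', _, _, p', _, hn, h, q₀, hq₀, hq₀p, hq₀q, hh, hproj⟩ :=
    RG.Loc.projPiece_of_flat p q hq N hflat
  refine ⟨R', inferInstance, inferInstance, p', inferInstance, hn, ?_⟩
  intro S' N' _ _ _ _ _ _ _ _ _ _ _ f hf
  letI : Algebra S (R' ⊗[R] S) := Algebra.TensorProduct.rightAlgebra
  haveI : Algebra.IsPushout R R' S S' := Algebra.IsPushout.symm inferInstance
  let A := R' ⊗[R] S
  let e : A ≃ₐ[R'] S' := Algebra.IsPushout.equiv R R' S S'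
  let C := Localization.Away h
  letI : Algebra S' C := ((algebraMap A C).comp e.symm.toRingEquiv.toRingHom).toAlgebra
  haveI : IsScalarTower R' S' C := IsScalarTower.of_algebraMap_eq fun r => by
    change algebraMap R' C r = algebraMap A C (e.symm (algebraMap R' S' r))
    rw [e.symm.commutes, ← IsScalarTower.algebraMap_apply]
  have he : ∀ s : S, e ((1 : R') ⊗ₜ s) = algebraMap S S' s := fun s => by
    exact (Algebra.IsPushout.equiv_tmul (R := R) (S := R') (R' := S) (S' := S') 1 s).trans (by rw [map_one, one_mul])
  haveI : IsScalarTower S S' C := IsScalarTower.of_algebraMap_eq fun s => by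
    change algebraMap S C s = algebraMap A C (e.symm (algebraMap S S' s))
    rw [← he, e.symm_apply_apply, IsScalarTower.algebraMap_apply S A C]
    rfl
  haveI : IsLocalization.Away (e h) C := by
    have := IsLocalization.isLocalization_of_base_ringEquiv (Submonoid.powers h) C e.toRingEquiv
    rw [Submonoid.map_powers] at this
    exact this
  have hd : Disjoint (Submonoid.powers h : Set A) (q₀ : Set A) := by
    rwa [Ideal.disjoint_powers_iff_notMem_of_isPrime]
  have hQc : (q₀.map (algebraMap A C)).comap (algebraMap A C) = q₀ :=
    IsLocalization.comap_map_of_isPrime_disjoint _ C hq₀ hd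
  have hx : (q₀.map (algebraMap A C)).comap (algebraMap S' C) = q₀.comap e.symm.toRingEquiv.toRingHom := by
    change (q₀.map (algebraMap A C)).comap ((algebraMap A C).comp e.symm.toRingEquiv.toRingHom) = _
    rw [← Ideal.comap_comap, hQc]
  refine ⟨C, inferInstance, inferInstance, inferInstance, inferInstance, q₀.map (algebraMap A C),
    IsLocalization.isPrime_of_isPrime_disjoint _ C q₀ hq₀ hd, IsOpenImmersion.of_isLocalization (e h), ⟨?_⟩, ⟨?_⟩, ?_⟩
  · rw [hx, Ideal.under, Ideal.comap_comap, ← hq₀q]
    congr 1
    refine RingHom.ext fun s => ?_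
    change (1 : R') ⊗ₜ[R] s = e.symm (algebraMap S S' s)
    rw [← he, e.symm_apply_apply]
  · rw [hx, Ideal.under, Ideal.comap_comap, ← hq₀p]
    congr 1
    exact RingHom.ext fun r => (e.symm.commutes r).symm
  · obtain ⟨eN⟩ := RG.Loc.exists_equiv_model (C := C) f hf
    haveI := hproj
    exact RG.Loc.projective_restrictScalars (Module.Projective.of_equiv (eN.restrictScalars R'))

end Groth.Agent.S1268
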