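import Groth.Statements.S12686
import Groth.Agent.SymAlg.VAmpleLocal

set_option autoImplicit false
universe u
open CategoryTheory CategoryTheory.Limits AlgebraicGeometry TopologicalSpace Opposite
open scoped HomogeneousIdeal
noncomputable section
open EGA2

namespace Groth.Agent.S12686

/-- Let q : X → Y be a quasi-compact morphism, L an invertible O_X-module with graded symmetric algebra
𝒮L = ⊕_{n≥0} L^{⊗n} (whose relative Proj PL, given with its charts, is identified with X by its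
structure morphism), and suppose the direct image E = q_*L is quasi-coherent, with graded symmetric
algebra 𝒜 = Sym(E) (structure map jE : E → 𝒜) and projective bundle P = P(E) = Proj(𝒜) → Y given
with its charts. Let u : 𝒜 → q_*𝒮L be the graded q-morphism which on E ⊆ 𝒜 is the inclusion of q_*L
= (q_*𝒮L)_1, i.e. the adjoint of Sym(σ) for the canonical σ : q^*q_*L → L, and r = r_{L,σ} : G(σ) →
P the induced morphism on its open of definition G(σ) ⊆ PL. If L is very ample relative to q, then r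
is everywhere defined (G(σ) is all of PL) and r is an immersion. (The published statement also
asserts that q_*L is quasi-coherent and that the canonical q^*q_*L → L is surjective; this row
presupposes the former through the datum E = q_*L, and its first conclusion, that G(σ) is
everything, expresses the latter.) -/
theorem result {X Y P PL : Scheme.{u}} (q : X ⟶ Y) [QuasiCompact q]
    (L : X.Modules) (hL : PicF.IsInvertible L) (hLq : Coh.IsQCoh L)
    (𝒮L : RelProj.QCGrAlg X) (jL : L ⟶ 𝒮L.toModule) (hjL : RelProj.IsGrSymAlg L 𝒮L jL)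
    (pL : PL ⟶ X) (chartL : ∀ (U : X.Opens) (hU : IsAffineOpen U), (((pL ⁻¹ᵁ U : PL.Opens) : Scheme.{u}) ≅ Proj (𝒮L.deg U hU)))
    (hPL : RelProj.IsRelProj 𝒮L pL chartL)
    (hEq : Coh.IsQCoh ((Scheme.Modules.pushforward q).obj L))
    (𝒜 : RelProj.QCGrAlg Y) (jE : (Scheme.Modules.pushforward q).obj L ⟶ 𝒜.toModule)
    (h𝒜 : RelProj.IsGrSymAlg ((Scheme.Modules.pushforward q).obj L) 𝒜 jE)
    (u : RelProj.QGrHom q 𝒜 𝒮L)
    (hu : ∀ (U : Y.Opens) (x : Γ((Scheme.Modules.pushforward q).obj L, U)),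
      (u.app U).hom ((jE.app U) x) = (jL.app (q ⁻¹ᵁ U)) x)
    (p : P ⟶ Y) (chart : ∀ (U : Y.Opens) (hU : IsAffineOpen U), (((p ⁻¹ᵁ U : P.Opens) : Scheme.{u}) ≅ Proj (𝒜.deg U hU)))
    (hP : RelProj.IsRelProj 𝒜 p chart)
    (r : ((RelProj.domQ u pL chartL : PL.Opens) : Scheme.{u}) ⟶ P)
    (hr : RelProj.IsProjQMapOn u p chart pL chartL (RelProj.domQ u pL chartL) r)
    (h : RelProj.IsRelVeryAmple q L) :
    RelProj.domQ u pL chartL = ⊤ ∧ IsImmersion r := by
  classical
  haveI := Groth.Agent.SymAlg.isIso_pL hL hLq hjL hPL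
  choose V hV hyV _ using fun y : Y => exists_isAffineOpen_mem_and_subset (show y ∈ (⊤ : Y.Opens) from trivial)
  choose n a hn ha hxNV hO hsurj using fun x : X =>
    Groth.Agent.SymAlg.exists_local_data hL hLq h𝒜 hjL (u := u) (fun U _ m => hu U m) (hV (q.base x))
      (Groth.Agent.SymAlg.isRelVeryAmple_restrict h (V (q.base x))) x (hyV (q.base x))
  have hNV : ∀ z : PL, ∃ W : X.affineOpens, pL z ∈ W.1 ∧
      Groth.Agent.SymAlg.Rel.Nonvanishing u (hV (q.base (pL z))) (n (pL z)) (a (pL z)) W := fun z => by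
    obtain ⟨⟨W, hW⟩, hzW⟩ := TopologicalSpace.Opens.mem_iSup.mp (hxNV (pL z))
    exact ⟨W, hzW, hW⟩
  have htop : RelProj.domQ u pL chartL = ⊤ := top_le_iff.mp fun z _ => by
    obtain ⟨W, hzW, hW⟩ := hNV z
    exact (Groth.Agent.SymAlg.Rel.mem_domQ_of_nonvanishing hL hLq hjL u hPL (hV _) (hn _) (ha _) hW hzW).1
  refine ⟨htop, ?_⟩
  let D : X → P.Opens := fun x => Groth.Agent.SymAlg.Rel.DPlus p chart (hV (q.base x)) (a x)
  have hclosed : ∀ x, IsClosedImmersion (r ∣_ D x) := fun x =>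
    (Groth.Agent.SymAlg.Rel.isClosedImmersion_restrict_iff hL hLq hjL u hPL hr (hV (q.base x)) hP (hn x) (ha x)
      (hO x) (Groth.Agent.SymAlg.NV_le u (hV (q.base x)) (n x) (a x)) rfl).mpr (hsurj x)
  have hpre : r ⁻¹ᵁ (⨆ x, D x) = ⊤ := top_le_iff.mp fun w _ => by
    obtain ⟨W, hzW, hW⟩ := hNV ((RelProj.domQ u pL chartL).ι w)
    obtain ⟨w', hw', e⟩ := (Groth.Agent.SymAlg.Rel.mem_preimage_basicOpen_iff hL hLq hjL u hPL hr (hV _) hP (hn _)
      (ha _) _).mpr ⟨W, hzW, hW⟩
    obtain rfl := (RelProj.domQ u pL chartL).ι.isOpenEmbedding.injective e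
    exact TopologicalSpace.Opens.mem_iSup.mpr ⟨_, hw'⟩
  obtain ⟨e, he⟩ := Groth.Agent.SymAlg.eq_comp_restrict r hpre
  haveI : IsClosedImmersion (r ∣_ ⨆ x, D x) :=
    Groth.Agent.SymAlg.prop_restrict_iSup r @IsClosedImmersion D hclosed
  rw [he]
  infer_instance

end Groth.Agent.S12686
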