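import Groth.Statements.S12687
import Groth.Agent.RelFPProj.Sch

set_option backward.isDefEq.respectTransparency false
set_option linter.style.haveILetI false

set_option autoImplicit false
universe u
open CategoryTheory CategoryTheory.Limits AlgebraicGeometry TopologicalSpace Opposite
open scoped HomogeneousIdeal
noncomputable section
open Divisors

namespace Groth.Agent.S12687

/-- Let S be a scheme, 𝒜 a quasi-coherent graded O_S-algebra which is a finitely presented O_S-algebra
(over every affine open U, 𝒜(U) is a finitely presented algebra over Γ(U, O_S)), and p : P = Proj(𝒜)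
→ S its relative homogeneous spectrum, given with its charts. Then p is of finite presentation
(locally of finite presentation, quasi-compact and quasi-separated), and for every integer d the
twisting module O_P(d) (given with its chart identifications) is an O_P-module of finite
presentation. -/
theorem result {S P : Scheme.{u}} (𝒜 : RelProj.QCGrAlg S)
    (hfp : ∀ (U : S.Opens), IsAffineOpen U → RingHom.FinitePresentation (𝒜.str.app (op U)).hom)
    (p : P ⟶ S) (chart : ∀ (U : S.Opens) (hU : IsAffineOpen U), (((p ⁻¹ᵁ U : P.Opens) : Scheme.{u}) ≅ Proj (𝒜.deg U hU))) (hP : RelProj.IsRelProj 𝒜 p chart) :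
    (LocallyOfFinitePresentation p ∧ QuasiCompact p ∧ QuasiSeparated p) ∧
      ∀ (d : ℤ) (Od : P.Modules)
        (lam : ∀ (U : S.Opens) (hU : IsAffineOpen U),
          Od ⟶ (Scheme.Modules.pushforward (RelProj.emb p chart U hU)).obj (GrTwist.twist (𝒜.deg U hU) d)),
        RelProj.IsRelTwist 𝒜 p chart d Od lam → CohB1.IsFP Od := by
  have hfp' : ∀ (U : S.Opens) (hU : IsAffineOpen U),
      ((algebraMap (𝒜.deg U hU 0) (𝒜.presheaf.obj (Opposite.op U))).comp
        (𝒜.strZero U hU).hom).FinitePresentation := fun U hU => hfp U hU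
  refine ⟨⟨?_, ?_, ?_⟩, fun d Od lam hOd => ?_⟩
  · exact Groth.Agent.RelProjLib.prop_of_affBase hP @LocallyOfFinitePresentation fun U hU =>
      Groth.Agent.RelFPProj.locallyOfFinitePresentation_toBase (𝒜.deg U hU) (𝒜.strZero U hU) (hfp' U hU)
  · exact Groth.Agent.RelProjLib.prop_of_affBase hP @QuasiCompact fun U hU =>
      Groth.Agent.RelFPProj.quasiCompact_toBase (𝒜.deg U hU) (𝒜.strZero U hU) (hfp' U hU)
  · haveI := Groth.Agent.RelProjLib.isSeparated_p hP
    infer_instance
  · have hF := (Groth.Agent.RelTilde.isRelTwist_iff 𝒜 d Od lam).mp hOd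
    refine Groth.Agent.QC.isFP_of_local fun x => ?_
    obtain ⟨U, hU, y, hy⟩ := Groth.Agent.RelTilde.exists_affine_point (𝒮 := 𝒜) (q := p) (ch := chart) x
    obtain ⟨e⟩ := Groth.Agent.RelTilde.nonempty_restrict_iso (RelProj.emb p chart U hU) (lam U hU)
      (hF.bijective' U hU)
    exact ⟨_, RelProj.emb p chart U hU, inferInstance, ⟨y, hy⟩,
      Groth.Agent.RelFPProj.isFP_of_iso e.symm
        (Groth.Agent.RelFPProj.isFP_twist (𝒜.deg U hU) (𝒜.strZero U hU) (hfp' U hU) d)⟩

end Groth.Agent.S12687
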