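import Groth.Statements.S12708
import Mathlib.RingTheory.LocalRing.Length
import Mathlib.RingTheory.Ideal.Quotient.Operations

set_option autoImplicit false
universe u v
open CategoryTheory
open ArtFun

namespace Groth.Agent.S12708

theorem covBy_length {Λ A k M : Type*} [CommRing Λ] [CommRing A] [Algebra Λ A] [IsLocalRing A] [Field k]
    [Algebra Λ k] [Algebra A k] [IsScalarTower Λ A k] (hres : Function.Surjective (algebraMap A k))
    [AddCommGroup M] [Module A M] [Module Λ M] [IsScalarTower Λ A M] {p q : Submodule A M} (h : p ⋖ q) :
    Module.length Λ q = Module.length Λ p + Module.length Λ k := by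
  let f : p →ₗ[A] q := Submodule.inclusion h.le
  have key : IsSimpleModule A (q ⧸ LinearMap.range f) := by
    rwa [Submodule.range_inclusion, ← covBy_iff_quot_is_simple h.le]
  obtain ⟨m, hm, ⟨e⟩⟩ := isSimpleModule_iff_quot_maximal.mp key
  have hmax : (RingHom.ker (algebraMap A k)).IsMaximal := RingHom.ker_isMaximal_of_surjective _ hres
  have hmk : m = RingHom.ker (Algebra.ofId A k) :=
    (IsLocalRing.eq_maximalIdeal hm).trans (IsLocalRing.eq_maximalIdeal hmax).symm
  let e' : (q ⧸ LinearMap.range f) ≃ₗ[A] k :=
    e.trans ((Submodule.quotEquivOfEq _ _ hmk).trans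
      (Ideal.quotientKerAlgEquivOfSurjective (f := Algebra.ofId A k) hres).toLinearEquiv)
  let g : q →ₗ[A] k := e'.toLinearMap.comp (LinearMap.range f).mkQ
  have hf : Function.Injective f := Submodule.inclusion_injective _
  have hg : Function.Surjective g := e'.surjective.comp (Submodule.mkQ_surjective _)
  have hfg : Function.Exact f g :=
    LinearMap.exact_iff.mpr ((e'.ker_comp _).trans (Submodule.ker_mkQ _))
  exact Module.length_eq_add_of_exact (f.restrictScalars Λ) (g.restrictScalars Λ) hf hg hfg

/-- For Λ Noetherian with a finite map to a field k, A a local Λ-algebra whose residue field is k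
(through a surjective Λ-algebra map A → k) and M an A-module, the length of M over Λ equals the
degree of k over the image of Λ times the length of M over A. The degree is written as the length of
k as a Λ-module, which is the same number; lengths are in ℕ∞. -/
theorem result {Λ : Type u} {k : Type u} [CommRing Λ] [Field k] [Algebra Λ k]
    [IsNoetherianRing Λ] [Module.Finite Λ k]
    (A : Type u) [CommRing A] [Algebra Λ A] [IsLocalRing A] [Algebra A k] [IsScalarTower Λ A k]
    (hres : Function.Surjective (algebraMap A k))
    (M : Type v) [AddCommGroup M] [Module A M] [Module Λ M] [IsScalarTower Λ A M] :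
    Module.length Λ k * Module.length A M = Module.length Λ M := by
  by_cases h : IsFiniteLength A M
  · obtain ⟨s, hs_bot, hs_top⟩ := isFiniteLength_iff_exists_compositionSeries.mp h
    rw [← Module.length_compositionSeries s hs_bot hs_top]
    suffices hk : ∀ i, Module.length Λ (s i) = Module.length Λ k * i by
      have h1 := hk (Fin.last s.length)
      rw [Fin.val_last, ← RelSeries.last, hs_top] at h1
      exact h1.symm.trans ((Submodule.topEquiv (R := A) (M := M)).restrictScalars Λ).length_eq
    intro i
    induction i using Fin.induction with
    | zero =>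
      rw [← RelSeries.head, hs_bot]
      simp
    | succ i hi =>
      rw [covBy_length hres (s.step i), hi, Fin.val_succ, Fin.val_castSucc, Nat.cast_add, Nat.cast_one, mul_add, mul_one]
  · have h' : ¬ IsFiniteLength Λ M := by
      contrapose! h
      rw [isFiniteLength_iff_isNoetherian_isArtinian] at h ⊢
      exact h.imp (isNoetherian_of_tower Λ) (isArtinian_of_tower Λ)
    rw [← Module.length_ne_top_iff, not_ne_iff] at h h'
    have hne : Module.length Λ k ≠ 0 := fun h0 => not_subsingleton k (Module.length_eq_zero_iff.1 h0)
    rw [h, h', ENat.mul_top hne]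

end Groth.Agent.S12708
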