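import Groth.Statements.S1271
import Groth.Agent.RG.DetIdeal

set_option autoImplicit false
open Groth.Agent
universe u
open FlatMor

namespace Groth.Agent.S1271

/-- Let A → B be an étale ring map, a ∈ A a nonzerodivisor and J a finitely generated ideal of B with
V(J) ⊆ V(aB), i.e. a lies in the radical of J. Then for every prime q of B there exist a finitely
generated ideal I of A with V(I) ⊆ V(a), an element g of B outside q, and a finitely generated ideal
J' of the localization B_g such that the extension of I to B_g equals the product of the extension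
of J with J'. -/
theorem result {A B : Type u} [CommRing A] [CommRing B] [Algebra A B] [Algebra.Etale A B]
    (a : A) (ha : a ∈ nonZeroDivisors A) (J : Ideal B) (hJ : J.FG) (hJa : algebraMap A B a ∈ J.radical)
    (q : Ideal B) [q.IsPrime] :
    ∃ (I : Ideal A) (g : B) (J' : Ideal (Localization.Away g)), I.FG ∧ a ∈ I.radical ∧ g ∉ q ∧ J'.FG ∧
      I.map (algebraMap A (Localization.Away g)) = J.map (algebraMap B (Localization.Away g)) * J' := by
  classical
  obtain ⟨g, hgq, hse⟩ := Algebra.IsEtaleAt.exists_isStandardEtale (R := A) q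
  obtain ⟨P⟩ := hse.nonempty_standardEtalePresentation
  let φ : AdjoinRoot P.f →ₐ[A] Localization.Away g :=
    AdjoinRoot.liftAlgHom P.f (Algebra.ofId A _) P.x P.hasMap.1
  have hgC : IsUnit (φ (AdjoinRoot.mk P.f P.g)) := by
    have h1 : φ (AdjoinRoot.mk P.f P.g) = Polynomial.aeval P.x P.g := by
      rw [← AdjoinRoot.aeval_eq, ← Polynomial.aeval_algHom_apply]
      rw [show φ (AdjoinRoot.root P.f) = P.x from AdjoinRoot.liftAlgHom_root P.f (Algebra.ofId A _) P.x P.hasMap.1]
    rw [h1]; exact P.hasMap.2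
  have hsurj : ∀ y : Localization.Away g, ∃ (c : AdjoinRoot P.f) (u : Localization.Away g),
      IsUnit u ∧ y * u = φ c := by
    let ψ : Localization.Away (AdjoinRoot.mk P.f P.g) →ₐ[A] Localization.Away g :=
      (P.P.lift P.x P.hasMap).comp P.P.equivAwayAdjoinRoot.symm.toAlgHom
    have hψ : ψ.comp (IsScalarTower.toAlgHom A (AdjoinRoot P.f) _) = φ := by
      apply AdjoinRoot.algHom_ext
      have h1 : P.P.equivAwayAdjoinRoot P.P.X
          = algebraMap (AdjoinRoot P.f) _ (AdjoinRoot.root P.f) := by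
        simp [StandardEtalePair.equivAwayAdjoinRoot]
      simp only [AlgHom.comp_apply, IsScalarTower.coe_toAlgHom', ψ, φ]
      rw [← h1]
      erw [P.P.equivAwayAdjoinRoot.symm_apply_apply, StandardEtalePair.lift_X,
        AdjoinRoot.liftAlgHom_root]
    intro y
    obtain ⟨z, hz⟩ := (P.P.equivAwayAdjoinRoot.symm.surjective.exists).1
      (P.lift_bijective.2 y)
    obtain ⟨c, ⟨_, k, rfl⟩, hmk⟩ := IsLocalization.exists_mk'_eq
      (Submonoid.powers (AdjoinRoot.mk P.f P.g)) z
    refine ⟨c, φ (AdjoinRoot.mk P.f P.g) ^ k, hgC.pow k, ?_⟩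
    rw [← hz, ← map_pow, ← hψ]
    simp only [AlgHom.comp_apply, IsScalarTower.coe_toAlgHom']
    have h2 := IsLocalization.mk'_spec (Localization.Away (AdjoinRoot.mk P.f P.g)) c
      (⟨_, k, rfl⟩ : Submonoid.powers (AdjoinRoot.mk P.f P.g))
    rw [hmk] at h2
    rw [← h2, map_mul]
    rfl
  obtain ⟨b, -⟩ : ∃ b : Module.Basis (Fin (AdjoinRoot.powerBasis' P.monic_f).dim) A
      (AdjoinRoot P.f), True := ⟨(AdjoinRoot.powerBasis' P.monic_f).basis, trivial⟩
  obtain ⟨d, hd⟩ : ∃ d, d = (AdjoinRoot.powerBasis' P.monic_f).dim := ⟨_, rfl⟩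
  obtain ⟨n, hn⟩ := hJa
  obtain ⟨k, j, hj⟩ := Submodule.fg_iff_exists_fin_generating_family.1 hJ
  choose c u hu hc using fun i : Fin k => hsurj (algebraMap B _ (j i))
  let gen : Fin (k + 1) → AdjoinRoot P.f := Fin.cons (algebraMap A _ (a ^ n)) c
  obtain ⟨m, ⟨eqv⟩⟩ := Finite.exists_equiv_fin (Fin (AdjoinRoot.powerBasis' P.monic_f).dim × Fin (k + 1))
  let s : Fin m → AdjoinRoot P.f := fun l => b (eqv.symm l).1 * gen (eqv.symm l).2
  have hs : ∀ (x : AdjoinRoot P.f) (l : Fin (k + 1)), x * gen l ∈ Submodule.span A (Set.range s) := by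
    intro x l
    rw [← b.sum_repr x, Finset.sum_mul]
    refine Submodule.sum_mem _ fun i _ => ?_
    rw [smul_mul_assoc]
    exact Submodule.smul_mem _ _ (Submodule.subset_span ⟨eqv (i, l), by simp [s]⟩)
  obtain ⟨e, he1, he⟩ := RG.DetIdeal.exists_idem P.f P.x P.hasMap.1 P.hasMap.isUnit_derivative_f
  obtain ⟨J', hJ', hJJ⟩ := RG.DetIdeal.exists_map_eq_mul b φ e he1 he s
    (fun x l => by
      simp only [s]
      rw [← mul_assoc]
      exact hs _ _)
  refine ⟨_, g, J', Submodule.fg_span (Set.finite_range _), ?_, hgq, hJ', hJJ.trans ?_⟩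
  · refine ⟨n * d, ?_⟩
    have h1 := RG.DetIdeal.det_mem_span_of_mem_span b s (fun i => a ^ n • b i) (fun i => by
      have := hs (b i) 0
      simp only [gen, Fin.cons_zero] at this
      rwa [mul_comm, ← Algebra.smul_def] at this)
    have h2 : b.det (fun i => a ^ n • b i) = a ^ (n * d) := by
      change b.det.toMultilinearMap _ = _
      rw [MultilinearMap.map_smul_univ]
      have := b.det_self
      change _ • b.det (fun i => b i) = _
      rw [show (fun i => b i) = ⇑b from rfl, this]
      simp [hd, pow_mul]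
    rwa [h2] at h1
  · congr 1
    have hA : algebraMap A (Localization.Away g) (a ^ n) ∈
        J.map (algebraMap B (Localization.Away g)) := by
      rw [IsScalarTower.algebraMap_apply A B (Localization.Away g), map_pow]
      exact Ideal.mem_map_of_mem _ hn
    apply le_antisymm
    · rw [Ideal.span_le]
      rintro _ ⟨l, rfl⟩
      simp only [s, map_mul]
      refine Ideal.mul_mem_left _ _ ?_
      generalize (eqv.symm l).2 = i
      cases i using Fin.cases with
      | zero =>
        simp only [gen, Fin.cons_zero]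
        rw [φ.commutes]; exact hA
      | succ i =>
        simp only [gen, Fin.cons_succ]
        rw [← hc i]
        exact Ideal.mul_mem_right _ _ (Ideal.mem_map_of_mem _ (hj ▸ Submodule.subset_span ⟨i, rfl⟩))
    · rw [← hj]
      change (Ideal.span (Set.range j)).map _ ≤ _
      rw [Ideal.map_span, Ideal.span_le]
      rintro _ ⟨_, ⟨i, rfl⟩, rfl⟩
      change algebraMap B _ (j i) ∈ _
      refine (Ideal.mul_unit_mem_iff_mem _ (hu i)).1 ?_
      rw [hc i]
      have h1 : (1 : AdjoinRoot P.f) = ∑ l, b.repr 1 l • b l := (b.sum_repr 1).symm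
      rw [show c i = 1 * gen i.succ by simp [gen], h1, Finset.sum_mul, map_sum]
      refine Ideal.sum_mem _ fun l _ => ?_
      rw [smul_mul_assoc, map_smul, Algebra.smul_def]
      exact Ideal.mul_mem_left _ _ (Ideal.subset_span ⟨eqv (l, i.succ), by simp [s]⟩)

end Groth.Agent.S1271
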