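import Groth.Statements.S12721
import Groth.Agent.ArtKit.LiftCRing
import Groth.Agent.ArtKit.Coprod
import Groth.Agent.ArtKit.SmoothRing

set_option autoImplicit false
universe u v
open CategoryTheory
open ArtFun

namespace Groth.Agent.S12721

/-- (1) ⇔ (2): for R a complete local Noetherian Λ-algebra with residue field k, the functor h_R on
Artinian local Λ-algebras with residue field k is smooth (surjective along every surjection) if and
only if Λ → R is formally smooth for the m_R-adic topology. -/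
theorem result {Λ : Type u} {k : Type u} [CommRing Λ] [Field k] [Algebra Λ k]
    [IsNoetherianRing Λ] [Module.Finite Λ k]
    (R : ArtFun.CRing Λ k) :
    ArtFun.IsSmoothFunctor (ArtFun.hR R.carrier R.res) ↔
      CAlgX.IsAdicFormallySmooth Λ R.carrier (IsLocalRing.maximalIdeal R.carrier) := by
  constructor
  · intro hR
    obtain ⟨n, c, hc, S, x, hS, π, hπ, hs, hfs⟩ := Groth.Agent.ArtKit.exists_presentation' R
    obtain ⟨σ, hσ⟩ := Groth.Agent.ArtKit.exists_section_of_smooth R hR S π hπ hs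
    intro A _ _ J hJ ψ ⟨m, hm⟩
    obtain ⟨χ, hχ⟩ := hfs A J hJ (ψ.comp π) ⟨m, fun y hy => hm _ (Ideal.map_le_iff_le_comap.1
      (Ideal.pow_right_mono (Groth.Agent.ArtKit.map_maximalIdeal_le S.res_surjective R.res_surjective π hπ) m |>.trans'
        (Ideal.map_pow _ _ _).le) hy)⟩
    exact ⟨χ.comp σ, by rw [← AlgHom.comp_assoc, hχ, AlgHom.comp_assoc, hσ, AlgHom.comp_id]⟩
  · intro h
    refine Groth.Agent.ArtKit.isSmoothFunctor_of_smallExt _ fun B A μ hμ φ => ?_
    have hsq : RingHom.ker μ.toAlgHom ^ 2 = ⊥ := le_bot_iff.1 (by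
      rw [pow_two, ← hμ.2.2.2]
      exact Ideal.mul_mono_left (Groth.Agent.ArtKit.ker_le_maximalIdeal μ))
    let e := Ideal.quotientKerAlgEquivOfSurjective (f := μ.toAlgHom) hμ.1
    have he : ∀ b, e (Ideal.Quotient.mk _ b) = μ b := fun b => rfl
    obtain ⟨N, hN⟩ := Groth.Agent.ArtKit.exists_pow_succ A
    obtain ⟨χ, hχ⟩ := h B (RingHom.ker μ.toAlgHom) hsq (e.symm.toAlgHom.comp φ.1) ⟨N + 1, fun y hy => by
      have hle : IsLocalRing.maximalIdeal R.carrier ≤ (IsLocalRing.maximalIdeal A).comap φ.1 := fun z hz => by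
        rw [Ideal.mem_comap, ArtFun.Art.mem_maximalIdeal_iff, Groth.Agent.ArtKit.homSet_res_app]
        exact (ArtFun.CRing.mem_maximalIdeal_iff R z).1 hz
      have h0 := Ideal.le_comap_pow φ.1 (N + 1) (Ideal.pow_right_mono hle (N + 1) hy)
      rw [Ideal.mem_comap, hN, Ideal.mem_bot] at h0
      show e.symm (φ.1 y) = 0
      rw [h0, map_zero]⟩
    have hμχ : ∀ r, μ (χ r) = φ.1 r := fun r => by
      rw [← he]
      exact (congrArg e (DFunLike.congr_fun hχ r)).trans (e.apply_symm_apply _)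
    refine ⟨⟨χ, AlgHom.ext fun r => ?_⟩, Subtype.ext (AlgHom.ext hμχ)⟩
    show B.res (χ r) = R.res r
    rw [← ArtFun.Art.res_app μ, hμχ, Groth.Agent.ArtKit.homSet_res_app]

end Groth.Agent.S12721
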