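import Groth.Statements.S12725
import Groth.Agent.ArtKit.Basic
import Groth.Agent.ArtFib.Basic
import Mathlib.LinearAlgebra.Dual.Lemmas

set_option autoImplicit false
universe u v
open CategoryTheory
open ArtFun

namespace Groth.Agent.S12725

open Groth.Agent.ArtKit in
theorem step {Λ : Type u} {k : Type u} [CommRing Λ] [Field k] [Algebra Λ k]
    [IsNoetherianRing Λ] [Module.Finite Λ k]
    {F : ArtFun.Art Λ k ⥤ Type v} (hF : ArtFun.Heps F) (n : ℕ) :
    ∀ (E : ArtFun.Art Λ k), Nonempty (Art.base Λ k ⟶ E) → IsLocalRing.maximalIdeal E ^ 2 = ⊥ →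
      (∃ s : Fin n → E, Ideal.span (Set.range s) = IsLocalRing.maximalIdeal E) →
      ∀ ⦃B A : ArtFun.Art Λ k⦄ (p' : B ⟶ A) (p'' : B ⟶ E)
        (h : ArtFun.Art.IsFibreProd p' p'' (ArtFun.Art.toBase A) (ArtFun.Art.toBase E)),
        Function.Bijective (ArtFun.cmp F h) := by
  induction n with
  | zero =>
    intro E _ _ ⟨s, hs⟩ B A p' p'' h
    have hm : IsLocalRing.maximalIdeal E = ⊥ := by
      rw [← hs, Set.range_eq_empty, Ideal.span_empty]
    have hinjE : Function.Injective (Art.toBase E) := fun x y e => by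
      have : x - y ∈ IsLocalRing.maximalIdeal E :=
        (Art.mem_maximalIdeal_iff _ _).2 (by rw [map_sub]; exact sub_eq_zero.2 e)
      rwa [hm, Ideal.mem_bot, sub_eq_zero] at this
    have : IsIso (Art.toBase E) := isIso_of_bijective _ ⟨hinjE, E.res_surjective⟩
    have : IsIso p' := isIso_of_bijective _ ⟨fun x y e => h.inj x y e (hinjE (by
      rw [← h.w_apply, ← h.w_apply, e])), fun a => by
        obtain ⟨e, he⟩ := E.res_surjective (A.res a)
        obtain ⟨b, hb, -⟩ := h.surj a e he.symm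
        exact ⟨b, hb⟩⟩
    refine ⟨(injective_cmp_iff h).2 fun z w e₁ _ => ?_, (surjective_cmp_iff h).2 fun x y e => ?_⟩
    · rw [← map_inv_app F p' z, e₁, map_inv_app]
    · refine ⟨F.map (inv p') x, map_app_inv F p' x, ?_⟩
      rw [← map_inv_app F (Art.toBase E) (F.map p'' _), ← map_comp_app F p'' (Art.toBase E), ← h.w, map_comp_app,
        map_app_inv, e, map_inv_app]
  | succ n ih =>
    intro E ⟨σ⟩ hsq ⟨s, hs⟩ B A p' p'' h
    have hmem : ∀ i, s i ∈ IsLocalRing.maximalIdeal E := fun i => hs.le (Ideal.subset_span ⟨i, rfl⟩)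
    by_cases hv : s (Fin.last n) = 0
    · refine ih E ⟨σ⟩ hsq ⟨fun i => s i.castSucc, le_antisymm (Ideal.span_le.2 ?_) ?_⟩ p' p'' h
      · rintro _ ⟨i, rfl⟩; exact hmem _
      · rw [← hs, Ideal.span_le]
        rintro _ ⟨i, rfl⟩
        induction i using Fin.lastCases with
        | last => rw [hv]; exact zero_mem _
        | cast i => exact Ideal.subset_span ⟨i, rfl⟩
    let σ' : k →ₐ[Λ] E := σ.toAlgHom
    let : Algebra k E := σ'.toRingHom.toAlgebra
    have hσ : ∀ c : k, E.res (σ' c) = c := fun c => Art.res_app σ c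
    obtain ⟨φ, hφ⟩ : ∃ φ : E →ₗ[k] k, φ (s (Fin.last n)) ≠ 0 := by
      by_contra hall
      push Not at hall
      exact hv ((Module.forall_dual_apply_eq_zero_iff k _).1 hall)
    let P₀ : E → E := fun x => x - σ' (E.res x)
    have hP : ∀ x, P₀ x ∈ IsLocalRing.maximalIdeal E := fun x => by
      rw [Art.mem_maximalIdeal_iff, map_sub, hσ, sub_self]
    have hPP : ∀ x y, P₀ x * P₀ y = 0 := fun x y => by
      have := Ideal.mul_mem_mul (hP x) (hP y)
      rwa [← pow_two, hsq, Ideal.mem_bot] at this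
    have hsm : ∀ (c : k) (x : E), φ (σ' c * x) = c * φ x := fun c x => by
      rw [← smul_eq_mul c, ← map_smul, Algebra.smul_def]; rfl
    let G : E →ₐ[Λ] DualNumber k :=
      { toFun := fun x => (E.res x, φ (P₀ x))
        map_one' := TrivSqZeroExt.ext (map_one E.res) (by
          show φ (1 - σ' (E.res 1)) = 0
          rw [map_one, map_one, sub_self, map_zero])
        map_zero' := TrivSqZeroExt.ext (map_zero E.res) (by
          show φ (0 - σ' (E.res 0)) = 0
          rw [map_zero, map_zero, sub_self, map_zero])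
        map_add' := fun x y => TrivSqZeroExt.ext (map_add E.res x y) (by
          show φ (x + y - σ' (E.res (x + y))) = φ (x - σ' (E.res x)) + φ (y - σ' (E.res y))
          rw [← map_add φ, map_add, map_add]; exact congrArg φ (by abel))
        map_mul' := fun x y => TrivSqZeroExt.ext (map_mul E.res x y) (by
          show φ (x * y - σ' (E.res (x * y))) =
            E.res x • φ (P₀ y) + MulOpposite.op (E.res y) • φ (P₀ x)
          rw [op_smul_eq_smul, smul_eq_mul, smul_eq_mul, ← hsm, ← hsm, ← map_add φ, map_mul, map_mul]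
          refine congrArg φ ?_
          have := hPP x y
          simp only [P₀] at this ⊢
          linear_combination this)
        commutes' := fun l => TrivSqZeroExt.ext (E.res.commutes l) (by
          show φ (algebraMap Λ E l - σ' (E.res (algebraMap Λ E l))) = _
          rw [AlgHom.commutes, TrivSqZeroExt.algebraMap_eq_inl', TrivSqZeroExt.snd_inl,
            show σ' (algebraMap Λ k l) = algebraMap Λ E l from σ'.commutes l, sub_self, map_zero]) }
    let g : E ⟶ Art.dual Λ k := Art.homMk G (AlgHom.ext fun _ => rfl)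
    have hgv : ∀ c, TrivSqZeroExt.snd (g (c * s (Fin.last n))) = E.res c * φ (s (Fin.last n)) := fun c => by
      show φ (c * s (Fin.last n) - σ' (E.res (c * s (Fin.last n)))) = _
      rw [map_mul, (Art.mem_maximalIdeal_iff _ _).1 (hmem _), mul_zero, map_zero, sub_zero, ← hsm]
      refine congrArg φ ?_
      have := Ideal.mul_mem_mul (hP c) (hmem (Fin.last n))
      rw [← pow_two, hsq, Ideal.mem_bot, sub_mul, sub_eq_zero] at this
      exact this
    have hK : Ideal.span {s (Fin.last n)} ≤ IsLocalRing.maximalIdeal E :=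
      (Ideal.span_singleton_le_iff_mem _).2 (hmem _)
    let q := Art.quotMk E _ hK
    have hE : Art.IsFibreProd q g (Art.toBase _) (Art.toBase _) := by
      refine ⟨by rw [Art.eq_toBase (q ≫ Art.toBase _), Art.eq_toBase (g ≫ Art.toBase _)], fun x y e₁ e₂ => ?_,
        fun a d e => ?_⟩
      · obtain ⟨c, hc⟩ := Ideal.mem_span_singleton'.1 (Ideal.Quotient.eq.1 e₁)
        have h' : E.res c * φ (s (Fin.last n)) = 0 := (hgv c).symm.trans (by rw [hc, map_sub, e₂, sub_self]; rfl)
        rw [← sub_eq_zero, ← hc]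
        have := Ideal.mul_mem_mul ((Art.mem_maximalIdeal_iff _ c).2 ((mul_eq_zero.1 h').resolve_right hφ))
          (hmem (Fin.last n))
        rwa [← pow_two, hsq, Ideal.mem_bot] at this
      · obtain ⟨x, rfl⟩ := Art.quotMk_surjective E _ hK a
        let t : k := (TrivSqZeroExt.snd d - TrivSqZeroExt.snd (g x)) / φ (s (Fin.last n))
        have hq : q (σ' t * s (Fin.last n)) = 0 :=
          Ideal.Quotient.eq_zero_iff_mem.2 (Ideal.mem_span_singleton'.2 ⟨σ' t, rfl⟩)
        refine ⟨x + σ' t * s (Fin.last n), by rw [map_add, hq, add_zero], TrivSqZeroExt.ext ?_ ?_⟩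
        · refine (Art.res_app g _).trans ?_
          rw [map_add, map_mul, (Art.mem_maximalIdeal_iff _ _).1 (hmem _), mul_zero, add_zero]
          exact (Art.res_app q x).symm.trans e
        · rw [map_add]
          show TrivSqZeroExt.snd (g x) + TrivSqZeroExt.snd (g (σ' t * s (Fin.last n))) = _
          rw [hgv, hσ, div_mul_cancel₀ _ hφ, add_sub_cancel]
    have hqs : Function.Surjective q := Art.quotMk_surjective E _ hK
    have hm' : IsLocalRing.maximalIdeal (Art.quot E _ hK) = (IsLocalRing.maximalIdeal E).map q.toAlgHom := by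
      refine le_antisymm (fun y hy => ?_) (Ideal.map_le_iff_le_comap.2 fun y hy => ?_)
      · obtain ⟨x, rfl⟩ := hqs y
        refine Ideal.mem_map_of_mem _ ((Art.mem_maximalIdeal_iff _ _).2 ?_)
        rw [← Art.res_app q]; exact (Art.mem_maximalIdeal_iff _ _).1 hy
      · rw [Ideal.mem_comap, Art.mem_maximalIdeal_iff, Art.res_app]
        exact (Art.mem_maximalIdeal_iff _ _).1 hy
    have hih := ih (Art.quot E _ hK) ⟨σ ≫ q⟩ (by rw [hm', ← Ideal.map_pow, hsq, Ideal.map_bot])
      ⟨fun i => q (s i.castSucc), by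
        rw [hm', ← hs, Ideal.map_span, ← Set.range_comp]
        refine le_antisymm (Ideal.span_le.2 ?_) (Ideal.span_le.2 ?_)
        · rintro _ ⟨i, rfl⟩; exact Ideal.subset_span ⟨i.castSucc, rfl⟩
        · rintro _ ⟨i, rfl⟩
          induction i using Fin.lastCases with
          | last =>
            show q (s (Fin.last n)) ∈ _
            rw [show q (s (Fin.last n)) = 0 from
              Ideal.Quotient.eq_zero_iff_mem.2 (Ideal.mem_span_singleton_self _)]
            exact zero_mem _
          | cast i => exact Ideal.subset_span ⟨i, rfl⟩⟩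
    obtain ⟨P, π₁, π₂, hP'⟩ := ArtFib.exists_isFibreProd_of_surjective (Art.toBase A) (Art.toBase (Art.quot E _ hK))
      (Art.quot E _ hK).res_surjective
    obtain ⟨r, hr₁, hr₂⟩ := exists_lift hP' p' (p'' ≫ q) ((Art.eq_toBase _).trans (Art.eq_toBase _).symm)
    have hB : Art.IsFibreProd r (p'' ≫ g) (Art.toBase _) (Art.toBase _) := by
      refine ⟨by rw [Art.eq_toBase (r ≫ Art.toBase _), Art.eq_toBase ((p'' ≫ g) ≫ Art.toBase _)],
        fun x y e₁ e₂ => ?_, fun a d e => ?_⟩
      · refine h.inj x y ?_ (hE.inj _ _ ?_ e₂)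
        · rw [← hr₁, Art.comp_apply, Art.comp_apply, e₁]
        · rw [← Art.comp_apply p'' q, ← Art.comp_apply p'' q, ← hr₂, Art.comp_apply, Art.comp_apply, e₁]
      · obtain ⟨ee, he₁, he₂⟩ := hE.surj (π₂ a) d ((Art.res_app π₂ a).trans e)
        have hres : A.res (π₁ a) = E.res ee := by
          rw [Art.res_app, ← Art.res_app q ee, he₁, Art.res_app]
        obtain ⟨b, hb₁, hb₂⟩ := h.surj (π₁ a) ee hres
        refine ⟨b, hP'.inj _ _ ?_ ?_, (congrArg g.toAlgHom hb₂).trans he₂⟩
        · rw [← Art.comp_apply, hr₁, hb₁]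
        · rw [← Art.comp_apply, hr₂, Art.comp_apply, hb₂, he₁]
    have hPb := hih π₁ π₂ hP'
    have hBb := hF r (p'' ≫ g) hB
    have hEb := hF q g hE
    refine ⟨(injective_cmp_iff h).2 fun z w e₁ e₂ => ?_, (surjective_cmp_iff h).2 fun x y e => ?_⟩
    · refine (injective_cmp_iff hB).1 hBb.1 z w ((injective_cmp_iff hP').1 hPb.1 _ _ ?_ ?_) ?_
      · rw [← map_comp_app, ← map_comp_app, hr₁, e₁]
      · rw [← map_comp_app, ← map_comp_app, hr₂, map_comp_app, map_comp_app, e₂]
      · rw [map_comp_app, map_comp_app, e₂]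
    · obtain ⟨z', hz₁, hz₂⟩ := (surjective_cmp_iff hP').1 hPb.2 x (F.map q y)
        (by rw [← map_comp_app, Art.eq_toBase (q ≫ Art.toBase _)]; exact e)
      obtain ⟨z, hz, hzg⟩ := (surjective_cmp_iff hB).1 hBb.2 z' (F.map g y) (by
        rw [← map_comp_app, Art.eq_toBase (g ≫ Art.toBase _), ← e, ← hz₁, ← map_comp_app,
          Art.eq_toBase (π₁ ≫ Art.toBase _)])
      refine ⟨z, by rw [← hr₁, map_comp_app, hz, hz₁],
        (injective_cmp_iff hE).1 hEb.1 _ _ ?_ (by rw [← map_comp_app]; exact hzg)⟩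
      rw [← map_comp_app, ← hr₂, map_comp_app, hz, hz₂]

/-- For functors, if F satisfies (S2) (bijectivity of F(A ×_k k[ε]) → F(A) ×_{F(k)} F(k[ε])), then for
every object E which is a square-zero extension k ⊕ V of k by a finite-dimensional vector space —
equivalently, m_E² = 0 and the augmentation E → k has a section in the category — and every fibre
product square B = A ×_k E, the map F(B) → F(A) ×_{F(k)} F(E) is bijective. -/
theorem result {Λ : Type u} {k : Type u} [CommRing Λ] [Field k] [Algebra Λ k]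
    [IsNoetherianRing Λ] [Module.Finite Λ k]
    {F : ArtFun.Art Λ k ⥤ Type v} (hF : ArtFun.Heps F)
    {E : ArtFun.Art Λ k} (hσ : Nonempty (ArtFun.Art.base Λ k ⟶ E))
    (hE : IsLocalRing.maximalIdeal E ^ 2 = ⊥)
    ⦃B A : ArtFun.Art Λ k⦄ (p' : B ⟶ A) (p'' : B ⟶ E)
    (h : ArtFun.Art.IsFibreProd p' p'' (ArtFun.Art.toBase A) (ArtFun.Art.toBase E)) :
    Function.Bijective (ArtFun.cmp F h) := by
  obtain ⟨t, ht⟩ := (IsNoetherian.noetherian (IsLocalRing.maximalIdeal E) : (IsLocalRing.maximalIdeal E).FG)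
  refine step hF t.card E hσ hE ⟨fun i => (t.equivFin.symm i : E), ?_⟩ p' p'' h
  rw [show Set.range (fun i => (t.equivFin.symm i : E)) = ↑t by
    ext y; exact ⟨fun ⟨i, hi⟩ => hi ▸ (t.equivFin.symm i).2, fun hy => ⟨t.equivFin ⟨y, hy⟩, by simp⟩⟩]
  exact ht

end Groth.Agent.S12725
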