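import Groth.Statements.S1273
import Groth.Agent.FlatBlowUp.Closed

set_option autoImplicit false
set_option backward.isDefEq.respectTransparency false
set_option backward.isDefEq.respectTransparency.types false
universe u
open FlatMor

namespace Groth.Agent.S1273

open AlgebraicGeometry CategoryTheory Limits in
/-- Let S be quasi-compact and quasi-separated, U ⊆ S a quasi-compact open, and f : X → S of finite type
and quasi-separated whose restriction over U is flat and locally of finite presentation. Then there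
is a U-admissible blow-up b : S' → S such that the strict transform X'' of X — the closed subscheme
of X' = X ×_S S' whose ideal consists, on each affine open, of the functions annihilated by a power
of the pulled-back exceptional ideal — is flat and of finite presentation (locally of finite
presentation, quasi-compact and quasi-separated) over S'. -/
theorem result {X S : Scheme.{u}} [CompactSpace S] [QuasiSeparatedSpace S]
    (f : X ⟶ S) [LocallyOfFiniteType f] [QuasiCompact f] [QuasiSeparated f] (U : S.Opens) (hU : IsCompact (U : Set S))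
    [Flat (f ∣_ U)] [LocallyOfFinitePresentation (f ∣_ U)] :
    ∃ (𝓘 : S.IdealSheafData) (S' : Scheme.{u}) (b : S' ⟶ S), BlowUp.IsBlowUp b 𝓘 ∧ BlowUp.IsAdmissibleFor U 𝓘 ∧
      ∀ (X' : Scheme.{u}) (p₁ : X' ⟶ X) (p₂ : X' ⟶ S'), IsPullback p₁ p₂ f b →
      ∀ (𝒥 : X'.IdealSheafData),
        (∀ (V : X'.affineOpens) (a : Γ(X', V.1)), a ∈ 𝒥.ideal V ↔
          BlowUp.KilledByPowerNear ((𝓘.comap f).comap p₁) (Coh.structureModule X') V a) →
        Flat (𝒥.subschemeι ≫ p₂) ∧ LocallyOfFinitePresentation (𝒥.subschemeι ≫ p₂) ∧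
          QuasiCompact (𝒥.subschemeι ≫ p₂) ∧ QuasiSeparated (𝒥.subschemeι ≫ p₂) := by
  obtain ⟨J, hJ⟩ := Groth.Agent.FlatBlowUp.exists_flattening_centre f U hU
  refine ⟨J.ideal, J.T, J.b, J.isBlowUp, ⟨J.ft, ?_⟩, fun X' p₁ p₂ hpb 𝒥 h𝒥 => ?_⟩
  · rw [J.supp]; exact disjoint_compl_left
  · obtain ⟨h1, h2⟩ := hJ J le_rfl X' p₁ p₂ hpb 𝒥 (Groth.Agent.RZExt.IsTorsionIdeal.of_killed h𝒥)
    haveI : QuasiCompact p₂ := MorphismProperty.of_isPullback hpb ‹QuasiCompact f›
    haveI : QuasiSeparated p₂ := MorphismProperty.of_isPullback hpb ‹QuasiSeparated f›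
    exact ⟨h1, h2, inferInstance, inferInstance⟩

end Groth.Agent.S1273
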