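import Groth.Statements.S12734
import Groth.Agent.ArtKit.HullExists

set_option autoImplicit false
universe u v
open CategoryTheory
open ArtFun

namespace Groth.Agent.S12734

/-- A functor F on Artinian local Λ-algebras with residue field k is prorepresentable if and only if (a)
F(k) is a point and F satisfies (RS): F(A₁ ×_A A₂) → F(A₁) ×_{F(A)} F(A₂) is bijective whenever A₂ →
A is surjective; (b) its tangent space is finite-dimensional; and (c) the map from morphisms k →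
k[ε] of the category (the Λ-derivations of k) to the tangent space, σ ↦ F(σ)(x₀), is injective.
Condition (c) is empty when k is separable over the image of Λ in k. -/
theorem result {Λ : Type u} {k : Type u} [CommRing Λ] [Field k] [Algebra Λ k]
    [IsNoetherianRing Λ] [Module.Finite Λ k]
    (F : ArtFun.Art Λ k ⥤ Type v) [ArtFun.TangentStr F] :
    ArtFun.IsProrepresentable F ↔
      ((ArtFun.H0 F ∧ (∀ ⦃B A A' A'' : ArtFun.Art Λ k⦄ (p' : B ⟶ A') (p'' : B ⟶ A'') (f' : A' ⟶ A) (f'' : A'' ⟶ A)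
        (h : ArtFun.Art.IsFibreProd p' p'' f' f''), Function.Surjective f'' → Function.Bijective (ArtFun.cmp F h))) ∧
        ArtFun.Hfin F ∧
        ∀ x₀ : F.obj (ArtFun.Art.base Λ k),
          Function.Injective (fun σ : ArtFun.Art.base Λ k ⟶ ArtFun.Art.dual Λ k => F.map σ x₀)) := by
  constructor
  · rintro ⟨⟨R, ξ, hu⟩⟩
    have h0 : ArtFun.H0 F := Groth.Agent.ArtKit.h0_of_surjective (hu _).2
    let : Algebra R.carrier k := R.res.toRingHom.toAlgebra
    have : IsScalarTower Λ R.carrier k := IsScalarTower.of_algebraMap_eq fun l => (R.res.commutes l).symm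
    refine ⟨⟨h0, fun B A A' A'' p' p'' f' f'' h hs => ⟨(Groth.Agent.ArtKit.injective_cmp_iff h).2 fun z₁ z₂ e₁ e₂ => ?_,
        Groth.Agent.ArtKit.s1_of_isVersal (ξ := ξ) (fun B A μ hμ φ y hy => ?_) (fun A => (hu A).2) p' p'' f' f'' h hs⟩⟩,
      Groth.Agent.ArtKit.hfin_of_family R.res_surjective ξ (hu _).2, fun x₀ σ σ' e => ?_⟩
    · obtain ⟨ψ₁, rfl⟩ := (hu B).2 z₁
      obtain ⟨ψ₂, rfl⟩ := (hu B).2 z₂
      rw [← ξ.natural, ← ξ.natural] at e₁ e₂
      rw [Groth.Agent.ArtKit.homSet_ext h ((hu _).1 e₁) ((hu _).1 e₂)]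
    · obtain ⟨ψ, rfl⟩ := (hu B).2 y
      rw [← ξ.natural] at hy
      exact ⟨ψ, (hu A).1 hy, rfl⟩
    · obtain ⟨φ, rfl⟩ := (hu _).2 x₀
      refine ArtFun.Art.hom_ext (AlgHom.ext fun a => ?_)
      obtain ⟨r, hr⟩ := R.res_surjective a
      have h1 : φ.1 r = a := (Groth.Agent.ArtKit.homSet_res_app φ r).trans hr
      rw [← h1]
      exact DFunLike.congr_fun (congrArg Subtype.val ((hu _).1 ((ξ.natural σ φ).trans (e.trans (ξ.natural σ' φ).symm)))) r
  · rintro ⟨⟨h0, hrs⟩, hfin, hinj⟩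
    have h2 := Groth.Agent.ArtKit.heps_of_rs hrs
    obtain ⟨⟨R, ξ, hξ⟩⟩ := Groth.Agent.ArtKit.hasHull_of_free h0 (fun _ _ _ _ a b c d h hs => (hrs a b c d h hs).2) h2
      hfin (hinj h0.1.some)
    refine ⟨⟨R, ξ, fun A => ⟨?_, Groth.Agent.ArtKit.surjective_app hξ.1 h0 A⟩⟩⟩
    exact Groth.Agent.ArtKit.injective_app_of_tangent_injective (F := ArtFun.hR R.carrier R.res) (fun A => ξ.app A)
      (fun _ _ f x => ξ.natural f x) Groth.Agent.ArtKit.h0_hR
      (fun _ _ _ _ _ _ _ _ h _ => (Groth.Agent.ArtKit.bijective_cmp_hR h).2)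
      (fun _ _ _ _ h => Groth.Agent.ArtKit.bijective_cmp_hR h)
      (fun _ _ _ p₁ p₂ f h hs => (hrs p₁ p₂ f f h hs.1).1) hξ.2.1 A

end Groth.Agent.S12734
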