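import Groth.Statements.S12735
import Groth.Agent.ArtKit.Lifts
import Groth.Agent.ArtKit.Formal
import Groth.Agent.ArtKit.HomDer

set_option autoImplicit false
universe u v
open CategoryTheory
open ArtFun

namespace Groth.Agent.S12735

/-- Let U be a prorepresentable functor on Artinian local Λ-algebras with residue field k and φ : U → U
an endomorphism of functors which is bijective on the tangent space U(k[ε]). Then φ is an
isomorphism: every component is bijective. -/
theorem result {Λ : Type u} {k : Type u} [CommRing Λ] [Field k] [Algebra Λ k]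
    [IsNoetherianRing Λ] [Module.Finite Λ k]
    {U : ArtFun.Art Λ k ⥤ Type v} (hU : ArtFun.IsProrepresentable U)
    (φ : U ⟶ U) (hd : Function.Bijective (ArtFun.TangentSpace.map φ)) (A : ArtFun.Art Λ k) :
    Function.Bijective (φ.app A) := by
  obtain ⟨⟨R, ξ, hu⟩⟩ := hU
  let ψ : ∀ B, ArtFun.HomSet R.carrier R.res B → ArtFun.HomSet R.carrier R.res B := fun B u =>
    (Equiv.ofBijective _ (hu B)).symm (φ.app B (ξ.app B u))
  have hψ : ∀ B u, ξ.app B (ψ B u) = φ.app B (ξ.app B u) := fun B u =>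
    (Equiv.ofBijective _ (hu B)).apply_symm_apply _
  have hψnat : ∀ ⦃B C : ArtFun.Art Λ k⦄ (f : B ⟶ C) u,
      ψ C (ArtFun.HomSet.map f u) = ArtFun.HomSet.map f (ψ B u) := fun B C f u =>
    (hu C).1 (by rw [hψ, ξ.natural, ξ.natural, hψ]; exact NatTrans.naturality_apply φ f _)
  have hinj : ∀ B, Function.Injective (ψ B) :=
    Groth.Agent.ArtKit.injective_app_of_tangent_injective (F := ArtFun.hR R.carrier R.res)
      (G := ArtFun.hR R.carrier R.res) ψ hψnat Groth.Agent.ArtKit.h0_hR
      (fun _ _ _ _ _ _ _ _ h _ => (Groth.Agent.ArtKit.bijective_cmp_hR h).2)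
      (fun _ _ _ _ h => Groth.Agent.ArtKit.bijective_cmp_hR h)
      (fun _ _ _ _ _ _ h _ => (Groth.Agent.ArtKit.bijective_cmp_hR h).1)
      (fun a b e => (hu _).1 (hd.1 (by
        show φ.app _ (ξ.app _ a) = φ.app _ (ξ.app _ b)
        rw [← hψ, ← hψ, e])))
  obtain ⟨g, hg, hgn⟩ := Groth.Agent.ArtKit.exists_algHom_of_truncs R (fun n => ψ _ (R.truncHom n))
    fun n => by rw [← hψnat, ArtFun.CRing.truncMap_truncHom]
  have hψg : ∀ B u, (ψ B u).1 = u.1.comp g := fun B u => by
    obtain ⟨N, hN⟩ := Groth.Agent.ArtKit.exists_pow_succ B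
    obtain ⟨m, rfl⟩ := Groth.Agent.ArtKit.exists_factor_trunc R u N hN
    rw [hψnat]
    show m.toAlgHom.comp (ψ _ (R.truncHom N)).1 = (m.toAlgHom.comp (R.truncHom N).1).comp g
    rw [AlgHom.comp_assoc, ← hgn N]
  have hgb : Function.Bijective g := Groth.Agent.ArtKit.bijective_of_surjective_endo g.toRingHom
    (Groth.Agent.ArtKit.surjective_of_dual_injective R R g hg fun u₁ u₂ e =>
      hinj _ (Subtype.ext (by rw [hψg, hψg, e])))
  let e := AlgEquiv.ofBijective g hgb
  refine ⟨fun a b h => ?_, fun y => ?_⟩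
  · obtain ⟨u, rfl⟩ := (hu A).2 a
    obtain ⟨u', rfl⟩ := (hu A).2 b
    rw [← hψ, ← hψ] at h
    rw [hinj A ((hu A).1 h)]
  · obtain ⟨v, rfl⟩ := (hu A).2 y
    have hres : A.res.comp (v.1.comp e.symm.toAlgHom) = R.res := by
      rw [← AlgHom.comp_assoc, v.2]
      refine AlgHom.ext fun r => ?_
      show R.res (e.symm r) = R.res r
      conv_rhs => rw [← e.apply_symm_apply r]
      exact (DFunLike.congr_fun hg (e.symm r)).symm
    refine ⟨ξ.app A ⟨_, hres⟩, ?_⟩
    rw [← hψ]
    refine congrArg (ξ.app A) (Subtype.ext ?_)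
    rw [hψg]
    exact AlgHom.ext fun r => congrArg v.1 (e.symm_apply_apply r)

end Groth.Agent.S12735
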