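import Groth.Statements.S12737
import Groth.Agent.ArtKit.PolyRing

set_option autoImplicit false
universe u v
open CategoryTheory
open ArtFun

namespace Groth.Agent.S12737

/-- For Λ Noetherian with a finite map to the field k there is a complete local Noetherian Λ-algebra R
with residue field k whose functor h_R on Artinian local Λ-algebras with residue field k is smooth.
(The published lemma moreover pins the cotangent data of R — the first homology of the naive
cotangent complex of k over Λ equals m_R/m_R² and Ω_{R/Λ} ⊗ k = Ω_{k/Λ}; only the existence of a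
smooth R is stated here.) -/
theorem result {Λ : Type u} {k : Type u} [CommRing Λ] [Field k] [Algebra Λ k]
    [IsNoetherianRing Λ] [Module.Finite Λ k] :
    ∃ R : ArtFun.CRing Λ k, ArtFun.IsSmoothFunctor (ArtFun.hR R.carrier R.res) := by
  obtain ⟨gs, hgs⟩ := (‹Module.Finite Λ k›).fg_top
  let c : Fin gs.card → k := fun i => (gs.equivFin.symm i : k)
  have hc : Function.Surjective (MvPolynomial.aeval (R := Λ) c) := fun a => by
    have hle : Submodule.span Λ (gs : Set k) ≤ LinearMap.range (MvPolynomial.aeval (R := Λ) c).toLinearMap :=
      Submodule.span_le.2 fun g hg => ⟨MvPolynomial.X (gs.equivFin ⟨g, hg⟩), by simp [c]⟩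
    exact hle (hgs ▸ Submodule.mem_top)
  obtain ⟨S, x, hS⟩ := Groth.Agent.ArtKit.exists_polyRing c hc
  exact ⟨S, hS.isSmoothFunctor⟩

end Groth.Agent.S12737
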