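import Groth.Statements.S12744
import Groth.Agent.ArtKit.Formal

set_option autoImplicit false
universe u v
open CategoryTheory
open ArtFun

namespace Groth.Agent.S12744

/-- For functors, if η : F → G is a smooth morphism of functors on Artinian local Λ-algebras with
residue field k and F(k) → G(k) is surjective, then for every complete local Noetherian R with
residue field k the induced map on formal elements over R (compatible systems of elements over the
truncations R/m^(n+1)) is surjective. -/
theorem result {Λ : Type u} {k : Type u} [CommRing Λ] [Field k] [Algebra Λ k]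
    [IsNoetherianRing Λ] [Module.Finite Λ k]
    {F G : ArtFun.Art Λ k ⥤ Type v} (η : F ⟶ G) (hη : ArtFun.IsSmooth η)
    (h0 : Function.Surjective (η.app (ArtFun.Art.base Λ k))) (R : ArtFun.CRing Λ k) :
    Function.Surjective (fun u : ArtFun.FormalElt F R => u.map η) := by
  classical
  intro v
  have hs : ∀ A, Function.Surjective (η.app A) := fun A y => by
    obtain ⟨x, hx⟩ := h0 (G.map (ArtFun.Art.toBase A) y)
    obtain ⟨z, hz⟩ := hη (ArtFun.Art.toBase A) A.res_surjective ⟨(x, y), hx⟩
    exact ⟨z, congrArg (fun t => t.1.2) hz⟩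
  have hstep : ∀ n (a : {a : F.obj (R.trunc n) // η.app _ a = v.elt n}),
      ∃ b : {b : F.obj (R.trunc (n + 1)) // η.app _ b = v.elt (n + 1)}, F.map (R.truncMap n) b.1 = a.1 := by
    rintro n ⟨a, ha⟩
    obtain ⟨z, hz⟩ := hη (R.truncMap n) (Groth.Agent.ArtKit.truncMap_surjective R n)
      ⟨(a, v.elt (n + 1)), ha.trans (v.compat n).symm⟩
    exact ⟨⟨z, congrArg (fun t => t.1.2) hz⟩, congrArg (fun t => t.1.1) hz⟩
  choose step hstep using hstep
  let base : {a : F.obj (R.trunc 0) // η.app _ a = v.elt 0} := ⟨_, (hs _ (v.elt 0)).choose_spec⟩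
  let u : ∀ n, {a : F.obj (R.trunc n) // η.app _ a = v.elt n} := fun n => Nat.rec base step n
  exact ⟨⟨fun n => (u n).1, fun n => hstep n (u n)⟩, ArtFun.FormalElt.ext' fun n => (u n).2⟩

end Groth.Agent.S12744
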