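import Groth.Statements.S12745
import Groth.Agent.ArtKit.Basic

set_option autoImplicit false
universe u v
open CategoryTheory
open ArtFun

namespace Groth.Agent.S12745

/-- For functors, let F satisfy (S2), let B = A ×_k k[ε] (with projections p', p'') in the category of
Artinian local Λ-algebras with residue field k, and let y ∈ F(B) have images x ∈ F(A) and x_ε ∈
F(k[ε]). Then x maps to y along some section A → B of p' if and only if x maps to x_ε along some
morphism A → k[ε]. -/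
theorem result {Λ : Type u} {k : Type u} [CommRing Λ] [Field k] [Algebra Λ k]
    [IsNoetherianRing Λ] [Module.Finite Λ k]
    {F : ArtFun.Art Λ k ⥤ Type v} (h2 : ArtFun.Heps F)
    {B A : ArtFun.Art Λ k} (p' : B ⟶ A) (p'' : B ⟶ ArtFun.Art.dual Λ k)
    (h : ArtFun.Art.IsFibreProd p' p'' (ArtFun.Art.toBase A) (ArtFun.Art.toBase (ArtFun.Art.dual Λ k)))
    (y : F.obj B) :
    (∃ σ : A ⟶ B, σ ≫ p' = 𝟙 A ∧ F.map σ (F.map p' y) = y) ↔
      ∃ τ : A ⟶ ArtFun.Art.dual Λ k, F.map τ (F.map p' y) = F.map p'' y := by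
  constructor
  · rintro ⟨σ, -, hσy⟩
    exact ⟨σ ≫ p'', by rw [Groth.Agent.ArtKit.map_comp_app, hσy]⟩
  · rintro ⟨τ, hτ⟩
    obtain ⟨σ, hσ₁, hσ₂⟩ := Groth.Agent.ArtKit.exists_lift h (𝟙 A) τ
      ((ArtFun.Art.eq_toBase _).trans (ArtFun.Art.eq_toBase _).symm)
    refine ⟨σ, hσ₁, (Groth.Agent.ArtKit.injective_cmp_iff h).1 (h2 _ _ h).1 _ _ ?_ ?_⟩
    · rw [← Groth.Agent.ArtKit.map_comp_app F σ p', hσ₁, Groth.Agent.ArtKit.map_id_app]
    · rw [← Groth.Agent.ArtKit.map_comp_app F σ p'', hσ₂, hτ]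

end Groth.Agent.S12745
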