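import Groth.Statements.S12747
import Groth.Agent.ArtKit.Lifts
import Groth.Agent.ArtKit.Pullback

set_option autoImplicit false
universe u v
open CategoryTheory
open ArtFun

namespace Groth.Agent.S12747

/-- For functors, let H₁ → G, H₂ → G and q : G → F be morphisms of functors on Artinian local Λ-algebras
with residue field k where F and G are deformation functors (value at k a point, condition (RS)) and
q is injective on tangent spaces. Then the induced morphism H₁ ×_G H₂ → H₁ ×_F H₂ is smooth. (The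
published statement also assumes that infinitesimal automorphisms of G map onto those of F; for
functors that condition is empty.) -/
theorem result {Λ : Type u} {k : Type u} [CommRing Λ] [Field k] [Algebra Λ k]
    [IsNoetherianRing Λ] [Module.Finite Λ k]
    {F G H₁ H₂ : ArtFun.Art Λ k ⥤ Type v} (p₁ : H₁ ⟶ G) (p₂ : H₂ ⟶ G) (q : G ⟶ F)
    (hF0 : ArtFun.H0 F) (hF : (∀ ⦃B A A' A'' : ArtFun.Art Λ k⦄ (p' : B ⟶ A') (p'' : B ⟶ A'') (f' : A' ⟶ A) (f'' : A'' ⟶ A)
        (h : ArtFun.Art.IsFibreProd p' p'' f' f''), Function.Surjective f'' → Function.Bijective (ArtFun.cmp F h)))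
    (hG0 : ArtFun.H0 G) (hG : (∀ ⦃B A A' A'' : ArtFun.Art Λ k⦄ (p' : B ⟶ A') (p'' : B ⟶ A'') (f' : A' ⟶ A) (f'' : A'' ⟶ A)
        (h : ArtFun.Art.IsFibreProd p' p'' f' f''), Function.Surjective f'' → Function.Bijective (ArtFun.cmp G h)))
    (hq : Function.Injective (ArtFun.TangentSpace.map q)) :
    ArtFun.IsSmooth (CategoryTheory.Limits.pullback.map p₁ p₂ (p₁ ≫ q) (p₂ ≫ q) (𝟙 H₁) (𝟙 H₂) q
      (CategoryTheory.Category.id_comp _).symm (CategoryTheory.Category.id_comp _).symm) := by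
  have hinj := Groth.Agent.ArtKit.injective_app_of_tangent_injective (fun A => q.app A)
    (fun _ _ f x => NatTrans.naturality_apply q f x) hG0 (Groth.Agent.ArtKit.hbar_of_rs hG)
    (Groth.Agent.ArtKit.heps_of_rs hG) (fun _ _ _ r₁ r₂ f h hs => (hF r₁ r₂ f f h hs.1).1) hq
  set M := CategoryTheory.Limits.pullback.map p₁ p₂ (p₁ ≫ q) (p₂ ≫ q) (𝟙 H₁) (𝟙 H₂) q
      (CategoryTheory.Category.id_comp _).symm (CategoryTheory.Category.id_comp _).symm with hM
  have hM1 : M ≫ CategoryTheory.Limits.pullback.fst _ _ = CategoryTheory.Limits.pullback.fst p₁ p₂ :=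
    (CategoryTheory.Limits.pullback.lift_fst _ _ _).trans (CategoryTheory.Category.comp_id _)
  have hM2 : M ≫ CategoryTheory.Limits.pullback.snd _ _ = CategoryTheory.Limits.pullback.snd p₁ p₂ :=
    (CategoryTheory.Limits.pullback.lift_snd _ _ _).trans (CategoryTheory.Category.comp_id _)
  have hbij : ∀ A, Function.Bijective (M.app A) := fun A => by
    refine ⟨fun a b e => Groth.Agent.ArtKit.pullback_app_ext p₁ p₂ ?_ ?_, fun y => ?_⟩
    · rw [← hM1]; exact congrArg ((CategoryTheory.Limits.pullback.fst (p₁ ≫ q) (p₂ ≫ q)).app A) e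
    · rw [← hM2]; exact congrArg ((CategoryTheory.Limits.pullback.snd (p₁ ≫ q) (p₂ ≫ q)).app A) e
    · obtain ⟨x, hx1, hx2⟩ := Groth.Agent.ArtKit.pullback_app_exists p₁ p₂ _ _
        (hinj A (Groth.Agent.ArtKit.pullback_app_condition (p₁ ≫ q) (p₂ ≫ q) y))
      refine ⟨x, Groth.Agent.ArtKit.pullback_app_ext _ _ ?_ ?_⟩
      · exact (congrArg (fun t : _ ⟶ H₁ => t.app A x) hM1).trans hx1
      · exact (congrArg (fun t : _ ⟶ H₂ => t.app A x) hM2).trans hx2
  rintro B A μ hμ ⟨⟨a, b⟩, hab⟩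
  obtain ⟨z, rfl⟩ := (hbij B).2 b
  exact ⟨z, Subtype.ext (Prod.ext ((hbij A).1 ((NatTrans.naturality_apply M μ z).trans hab.symm)) rfl)⟩

end Groth.Agent.S12747
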