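import Groth.Statements.S12748
import Groth.Agent.ArtKit.PSVersal

set_option autoImplicit false
universe u v
open CategoryTheory
open ArtFun ArtFun.CRing

namespace Groth.Agent.S12748

/-- Let R' → R be a morphism of complete local Noetherian Λ-algebras with residue field k with an
R'-algebra retraction ρ : R → R', so that R = R' ⊕ I for the ideal I = ker ρ; let x₁, …, x_r ∈ I map
to a basis of I/m_R I and let φ : R'[[X₁, …, X_r]] → R be an R'-algebra map sending X_i to x_i. If
for all large n the induced map R'[[X]]/m^n → R/m_R^n has a left inverse — a Λ-algebra map g_n : R →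
R'[[X]]/m^n with g_n ∘ φ equal to the quotient map — then φ is an isomorphism. -/
theorem result {Λ : Type u} {k : Type u} [CommRing Λ] [Field k] [Algebra Λ k]
    [IsNoetherianRing Λ] [Module.Finite Λ k]
    (R' R : ArtFun.CRing Λ k) [Algebra R'.carrier R.carrier] [IsScalarTower Λ R'.carrier R.carrier]
    (hc : R.res.comp (IsScalarTower.toAlgHom Λ R'.carrier R.carrier) = R'.res)
    (ρ : R.carrier →ₐ[R'.carrier] R'.carrier)
    (r : ℕ) (x : Fin r → R.carrier) (hxI : ∀ i, ρ (x i) = 0)
    (hspan : Ideal.span (Set.range x) ⊔ IsLocalRing.maximalIdeal R.carrier * RingHom.ker ρ = RingHom.ker ρ)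
    (hli : ∀ c : Fin r → R.carrier, (∑ i, c i * x i) ∈ IsLocalRing.maximalIdeal R.carrier * RingHom.ker ρ →
      ∀ i, c i ∈ IsLocalRing.maximalIdeal R.carrier)
    (φ : MvPowerSeries (Fin r) R'.carrier →ₐ[R'.carrier] R.carrier) (hφ : ∀ i, φ (MvPowerSeries.X i) = x i)
    (hinv : ∃ N : ℕ, ∀ n, N ≤ n →
      ∃ g : R.carrier →ₐ[Λ] (MvPowerSeries (Fin r) R'.carrier ⧸
          IsLocalRing.maximalIdeal (MvPowerSeries (Fin r) R'.carrier) ^ n),
        ∀ s, g (φ s) = Ideal.Quotient.mk _ s) :
    Function.Bijective φ := by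
  classical
  have hker : RingHom.ker ρ ≤ IsLocalRing.maximalIdeal R.carrier :=
    IsLocalRing.le_maximalIdeal (RingHom.ker_ne_top ρ)
  have hxm : ∀ i, x i ∈ IsLocalRing.maximalIdeal R.carrier := fun i => hker (hxI i)
  have hres : ∀ f, R.res (φ f) = R'.res (MvPowerSeries.constantCoeff f) := fun f => by
    obtain ⟨c, hcf⟩ := Ideal.mem_span_range_iff_exists_fun.mp (Groth.Agent.ArtPow.sub_C_constantCoeff_mem f)
    have hf : f = (∑ i, c i * MvPowerSeries.X i) +
        algebraMap R'.carrier (MvPowerSeries (Fin r) R'.carrier) (MvPowerSeries.constantCoeff f) := by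
      rw [MvPowerSeries.algebraMap_apply, Algebra.algebraMap_self, RingHom.id_apply]
      exact eq_add_of_sub_eq hcf.symm
    conv_lhs => rw [hf]
    simp only [map_add, map_sum, map_mul, hφ, AlgHom.commutes,
      fun i => (CRing.mem_maximalIdeal_iff R _).1 (hxm i), mul_zero, Finset.sum_const_zero, zero_add]
    exact DFunLike.congr_fun hc _
  let φ₀ : (Groth.Agent.ArtKit.psRing r R').carrier →ₐ[Λ] R.carrier := φ.restrictScalars Λ
  have hφ₀ : R.res.comp φ₀ = (Groth.Agent.ArtKit.psRing r R').res := AlgHom.ext hres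
  have hinjective : Function.Injective φ := by
    refine (injective_iff_map_eq_zero φ).2 fun s hs => ?_
    obtain ⟨N, hN⟩ := hinv
    have := (Groth.Agent.ArtKit.psRing r R').isAdicComplete
    refine IsHausdorff.haus (I := IsLocalRing.maximalIdeal (MvPowerSeries (Fin r) R'.carrier)) inferInstance _ fun n => ?_
    rw [SModEq.sub_mem, sub_zero, smul_eq_mul, Ideal.mul_top]
    obtain ⟨g, hg⟩ := hN (max n N) (le_max_right _ _)
    refine Ideal.pow_le_pow_right (le_max_left n N) ?_
    rw [← Ideal.Quotient.eq_zero_iff_mem, ← hg, hs, map_zero]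
  refine ⟨hinjective, ?_⟩
  have := (Groth.Agent.ArtKit.psRing r R').isAdicComplete
  refine ((Groth.Agent.ArtKit.surjective_tfae_cotangent (Groth.Agent.ArtKit.psRing r R').res_surjective
    R.res_surjective φ₀ hφ₀).out 1 0).1 (le_antisymm
      (sup_le (Groth.Agent.ArtKit.map_maximalIdeal_le (Groth.Agent.ArtKit.psRing r R').res_surjective R.res_surjective φ₀ hφ₀)
        (Ideal.pow_le_self two_ne_zero)) fun s hs => ?_)
  rw [← add_sub_cancel (algebraMap R'.carrier R.carrier (ρ s)) s]
  have hd : s - algebraMap R'.carrier R.carrier (ρ s) ∈ RingHom.ker ρ := by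
    rw [RingHom.mem_ker, map_sub, AlgHom.commutes]
    exact sub_self _
  refine add_mem (Ideal.mem_sup_left ?_) ?_
  · rw [← φ.commutes]
    refine Ideal.mem_map_of_mem φ₀ ?_
    rw [CRing.mem_maximalIdeal_iff, ← hφ₀]
    show R.res (φ (algebraMap R'.carrier _ (ρ s))) = 0
    rw [φ.commutes, ← CRing.mem_maximalIdeal_iff]
    exact (Submodule.sub_mem_iff_right _ hs).1 (hker hd)
  · refine (hspan.ge.trans (sup_le (Ideal.span_le.2 ?_) ?_)) hd
    · rintro _ ⟨i, rfl⟩
      rw [← hφ i]
      refine Ideal.mem_sup_left (Ideal.mem_map_of_mem φ₀ ?_)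
      exact (CRing.mem_maximalIdeal_iff _ _).2 (Groth.Agent.ArtKit.psRing_res_X r R' i)
    · refine le_trans ?_ le_sup_right
      rw [pow_two]
      exact Ideal.mul_mono_right hker

end Groth.Agent.S12748
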