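import Groth.Statements.S1275
import Groth.Agent.RZExt.Extend
-- import your own Groth.Agent.* helpers here

set_option autoImplicit false
universe u
open FlatMor

namespace Groth.Agent.S1275

open AlgebraicGeometry CategoryTheory Limits in
/-- Let S be a quasi-compact quasi-separated scheme, U ⊆ W ⊆ S quasi-compact opens, f : X → W a proper
morphism and s : U → X a morphism with f ∘ s the inclusion of U in W. Then there are a U-admissible
blow-up b : S' → S and a morphism s' : b⁻¹(W) → X with f ∘ s' equal to the restriction of b,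
extending s in the sense that on b⁻¹(U) it agrees with s composed with the restriction of b. -/
theorem result {X S : Scheme.{u}} [CompactSpace S] [QuasiSeparatedSpace S]
    (U W : S.Opens) (hUW : U ≤ W) (hU : IsCompact (U : Set S)) (hW : IsCompact (W : Set S))
    (f : X ⟶ (W : Scheme.{u})) [IsProper f] (s : (U : Scheme.{u}) ⟶ X) (hs : s ≫ f = S.homOfLE hUW) :
    ∃ (𝓘 : S.IdealSheafData) (S' : Scheme.{u}) (b : S' ⟶ S), BlowUp.IsBlowUp b 𝓘 ∧ BlowUp.IsAdmissibleFor U 𝓘 ∧
      ∃ s' : ((b ⁻¹ᵁ W : S'.Opens) : Scheme.{u}) ⟶ X, s' ≫ f = b ∣_ W ∧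
        S'.homOfLE (show b ⁻¹ᵁ U ≤ b ⁻¹ᵁ W from fun _ hx => hUW hx) ≫ s' = (b ∣_ U) ≫ s := by
  have hs' : s ≫ f ≫ W.ι = U.ι := by rw [← Category.assoc, hs, Scheme.homOfLE_ι]
  obtain ⟨I, h, hf, hc⟩ := Groth.Agent.RZExt.exists_extension (f := f ≫ W.ι) hU hs' hW
    (Groth.Agent.RZExt.hasLift_of_proper f)
  refine ⟨I.ideal, I.T, I.b, I.isBlowUp, ⟨I.ft, ?_⟩, h, ?_, ?_⟩
  · rw [I.supp]; exact disjoint_compl_left
  · rw [← cancel_mono W.ι, Category.assoc, hf, morphismRestrict_ι]
  · exact hc _ _ (I.b ∣_ U) (by rw [morphismRestrict_ι, Scheme.homOfLE_ι_assoc])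


end Groth.Agent.S1275
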