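import Groth.Statements.S12750
import Groth.Agent.ArtKit.Cotangent
import Groth.Agent.ArtKit.Formal
import Groth.Agent.ArtKit.Basic
import Groth.Agent.ArtFib.Basic

set_option autoImplicit false
universe u v
open CategoryTheory
open ArtFun ArtFun.Art

namespace Groth.Agent.S12750

theorem lift_surjective {Λ : Type u} {k : Type u} [CommRing Λ] [Field k] [Algebra Λ k]
    {X A A' : ArtFun.Art Λ k} (h : X ⟶ A) (q : A ⟶ A')
    (hk : RingHom.ker q.toAlgHom = Ideal.map (algebraMap Λ A) (RingHom.ker (algebraMap Λ k)) ⊔ IsLocalRing.maximalIdeal A ^ 2)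
    (hs : Function.Surjective (h ≫ q)) : Function.Surjective h := by
  obtain ⟨N, hN⟩ := Groth.Agent.ArtKit.exists_pow_succ X
  have := Groth.Agent.ArtKit.isPrecomplete_of_pow_eq_bot hN
  refine ((Groth.Agent.ArtKit.surjective_tfae_cotangent X.res_surjective A.res_surjective h.toAlgHom h.res_comp).out 2 0).1
    (le_antisymm (sup_le (sup_le ?_ (Groth.Agent.ArtKit.map_maximalIdeal_le X.res_surjective A.res_surjective _ h.res_comp))
      (Ideal.pow_le_self two_ne_zero)) fun a ha => ?_)
  · refine Ideal.map_le_iff_le_comap.2 fun l hl => ?_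
    rw [Ideal.mem_comap, Art.mem_maximalIdeal_iff, AlgHom.commutes]
    exact hl
  obtain ⟨x, hx⟩ := hs (q a)
  have hxm : x ∈ IsLocalRing.maximalIdeal X := by
    rw [Art.mem_maximalIdeal_iff] at ha ⊢
    rw [← Art.res_app (h ≫ q), hx, Art.res_app, ha]
  rw [← sub_add_cancel a (h x)]
  refine add_mem ?_ (Ideal.mem_sup_left (Ideal.mem_sup_right (Ideal.mem_map_of_mem _ hxm)))
  have hk' : a - h x ∈ RingHom.ker q.toAlgHom := by
    rw [RingHom.mem_ker, map_sub, sub_eq_zero]; exact hx.symm
  rw [hk] at hk'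
  refine SetLike.le_def.1 ?_ hk'
  exact sup_le (le_sup_left.trans le_sup_left) le_sup_right

/-- (1) ⇔ (3): let f : B → A be a morphism in the category of Artinian local Λ-algebras with residue
field k, and let q_B : B → B', q_A : A → A' be the quotients by m_Λ B + m_B² and m_Λ A + m_A² (m_Λ
the kernel of Λ → k), realised as surjective morphisms with these kernels, with f' : B' → A' the
induced morphism. Then f is an essential surjection — surjective, and every morphism g into B whose
composite with f is surjective is itself surjective — if and only if f' is. (The intermediate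
equivalence with the map B/m_B² → A/m_A² is the special case Λ-structure trivialised and follows by
applying this one twice.) -/
theorem result {Λ : Type u} {k : Type u} [CommRing Λ] [Field k] [Algebra Λ k]
    [IsNoetherianRing Λ] [Module.Finite Λ k]
    {A B A' B' : ArtFun.Art Λ k} (f : B ⟶ A)
    (qB : B ⟶ B') (hqB : Function.Surjective qB)
    (hkB : RingHom.ker qB.toAlgHom = Ideal.map (algebraMap Λ B) (RingHom.ker (algebraMap Λ k)) ⊔ IsLocalRing.maximalIdeal B ^ 2)
    (qA : A ⟶ A') (hqA : Function.Surjective qA)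
    (hkA : RingHom.ker qA.toAlgHom = Ideal.map (algebraMap Λ A) (RingHom.ker (algebraMap Λ k)) ⊔ IsLocalRing.maximalIdeal A ^ 2)
    (f' : B' ⟶ A') (hf' : qB ≫ f' = f ≫ qA) :
    (Function.Surjective f ∧ ∀ (C : ArtFun.Art Λ k) (g : C ⟶ B), Function.Surjective (g ≫ f) → Function.Surjective g) ↔ (Function.Surjective f' ∧ ∀ (C : ArtFun.Art Λ k) (g : C ⟶ B'), Function.Surjective (g ≫ f') → Function.Surjective g) := by
  constructor
  · rintro ⟨hfs, hess⟩
    refine ⟨fun y => ?_, fun C g hg => ?_⟩
    · obtain ⟨a, rfl⟩ := hqA y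
      obtain ⟨b, rfl⟩ := hfs a
      exact ⟨qB b, congrArg (fun m : B ⟶ A' => m b) hf'⟩
    · obtain ⟨P, p₁, p₂, hP⟩ := Groth.Agent.ArtFib.exists_isFibreProd_of_surjective g qB hqB
      have hp₁ : Function.Surjective p₁ := fun c => by
        obtain ⟨b, hb⟩ := hqB (g c)
        obtain ⟨z, hz, -⟩ := hP.surj c b hb.symm
        exact ⟨z, hz⟩
      have hsurj : Function.Surjective p₂ := by
        refine hess P p₂ (lift_surjective _ qA hkA fun y => ?_)
        obtain ⟨c, hc⟩ := hg y
        obtain ⟨z, rfl⟩ := hp₁ c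
        refine ⟨z, Eq.trans ?_ hc⟩
        exact ((congrArg (fun m : B ⟶ A' => m (p₂ z)) hf').symm.trans (congrArg f'.toAlgHom (hP.w_apply z).symm))
      intro y
      obtain ⟨b, rfl⟩ := hqB y
      obtain ⟨z, rfl⟩ := hsurj b
      exact ⟨p₁ z, hP.w_apply z⟩
  · rintro ⟨hfs, hess⟩
    refine ⟨lift_surjective f qA hkA fun y => ?_, fun C g hg => lift_surjective g qB hkB (hess C (g ≫ qB) fun y => ?_)⟩
    · obtain ⟨b', rfl⟩ := hfs y
      obtain ⟨b, rfl⟩ := hqB b'
      exact ⟨b, (congrArg (fun m : B ⟶ A' => m b) hf').symm⟩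
    · obtain ⟨a, rfl⟩ := hqA y
      obtain ⟨c, rfl⟩ := hg a
      exact ⟨c, congrArg (fun m : B ⟶ A' => m (g c)) hf'⟩

end Groth.Agent.S12750
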