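import Groth.Statements.S12751
import Groth.Agent.ArtKit.Cotangent
import Groth.Agent.ArtKit.Formal
import Mathlib.RingTheory.Kaehler.Basic

set_option autoImplicit false
universe u v
open CategoryTheory
open scoped TensorProduct
open ArtFun ArtFun.Art

namespace Groth.Agent.S12751

open scoped TensorProduct

/-- A morphism f : B → A in the category of Artinian local Λ-algebras with residue field k is surjective
if and only if Ω_{B/Λ} ⊗_B k → Ω_{A/Λ} ⊗_A k is surjective; by right exactness of the sequence
Ω_{B/Λ} ⊗_B A → Ω_{A/Λ} → Ω_{A/B} → 0 this surjectivity is the vanishing of Ω_{A/B} ⊗_A k, which is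
how it is written here (A a B-algebra through f, k an A-module through the augmentation). -/
theorem result {Λ : Type u} {k : Type u} [CommRing Λ] [Field k] [Algebra Λ k]
    [IsNoetherianRing Λ] [Module.Finite Λ k]
    {A B : ArtFun.Art Λ k} (f : B ⟶ A) :
    letI : Algebra B A := f.toAlgHom.toRingHom.toAlgebra
    letI : Algebra A k := A.res.toRingHom.toAlgebra
    Function.Surjective f ↔ Subsingleton (k ⊗[A] Ω[A⁄B]) := by
  let _ : Algebra B A := f.toAlgHom.toRingHom.toAlgebra
  let _ : Algebra A k := A.res.toRingHom.toAlgebra
  constructor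
  · intro hf
    have : Subsingleton (Ω[A⁄B]) := KaehlerDifferential.subsingleton_of_surjective _ _ hf
    refine ⟨fun a b => ?_⟩
    have key : ∀ x : k ⊗[A] Ω[A⁄B], x = 0 := fun x => by
      induction x using TensorProduct.induction_on with
      | zero => rfl
      | tmul c w => rw [Subsingleton.elim w 0, TensorProduct.tmul_zero]
      | add x y hx hy => rw [hx, hy, add_zero]
    rw [key a, key b]
  · intro hsub
    obtain ⟨N, hN⟩ := Groth.Agent.ArtKit.exists_pow_succ B
    have := Groth.Agent.ArtKit.isPrecomplete_of_pow_eq_bot hN
    let : Algebra B k := B.res.toRingHom.toAlgebra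
    have hBA : IsScalarTower B A k := IsScalarTower.of_algebraMap_eq fun b => (Art.res_app f b).symm
    have : IsScalarTower Λ A k := IsScalarTower.of_algebraMap_eq fun l => (A.res.commutes l).symm
    refine Groth.Agent.ArtKit.surjective_of_derivation_comp_injective B.res_surjective A.res_surjective f.toAlgHom
      (AlgHom.ext fun b => Art.res_app f b) fun D₁ D₂ hD => ?_
    have h0 : ∀ b : B, (D₁ - D₂) (f b) = 0 := fun b => by
      show D₁ (f b) - D₂ (f b) = 0
      rw [hD, sub_self]
    let L : A →ₗ[B] k :=
      { toFun := fun a => (D₁ - D₂) a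
        map_add' := fun a b => map_add _ a b
        map_smul' := fun b a => by
          show (D₁ - D₂) (f b * a) = b • (D₁ - D₂) a
          rw [Derivation.leibniz, h0, smul_zero, add_zero]
          exact (IsScalarTower.algebraMap_smul A b _) }
    let D : Derivation B A k := Derivation.mk' L fun a b => (D₁ - D₂).leibniz a b
    refine sub_eq_zero.1 (Derivation.ext fun a => ?_)
    show L a = 0
    have h1 : D.liftKaehlerDifferential (KaehlerDifferential.D B A a) = D a := D.liftKaehlerDifferential_comp_D a
    refine h1.symm.trans ?_
    let Φ : k ⊗[A] Ω[A⁄B] →ₗ[A] k :=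
      (LinearMap.mul' A k).comp (TensorProduct.map LinearMap.id D.liftKaehlerDifferential)
    have h2 : (1 : k) ⊗ₜ[A] KaehlerDifferential.D B A a = 0 := Subsingleton.elim _ _
    have h3 := congrArg Φ h2
    rw [map_zero] at h3
    refine Eq.trans ?_ h3
    show _ = (1 : k) * D.liftKaehlerDifferential (KaehlerDifferential.D B A a)
    rw [one_mul]

end Groth.Agent.S12751
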