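import Groth.Statements.S12752
import Groth.Agent.ArtKit.Essential
import Groth.Agent.S12751
import Mathlib.RingTheory.Kaehler.Basic
import Mathlib.RingTheory.TensorProduct.Finite
import Mathlib.LinearAlgebra.Dual.Lemmas

set_option autoImplicit false
universe u v
open CategoryTheory
open scoped TensorProduct
open ArtFun ArtFun.Art

namespace Groth.Agent.S12752

open scoped TensorProduct

theorem finrank_der {Λ k : Type u} [CommRing Λ] [Field k] [Algebra Λ k] (X : Type u) [CommRing X] [Algebra Λ X]
    [Algebra X k] [IsScalarTower Λ X k] [Algebra.EssFiniteType Λ X] :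
    Module.finrank k (Derivation Λ X k) = Module.finrank k (k ⊗[X] Ω[X⁄Λ]) ∧ Module.Finite k (Derivation Λ X k) := by
  let e₁ : (Ω[X⁄Λ] →ₗ[X] k) ≃ₗ[k] Derivation Λ X k :=
    { (KaehlerDifferential.linearMapEquivDerivation Λ X (M := k)) with
      map_smul' := fun c L => Derivation.ext fun x => rfl }
  let e : Module.Dual k (k ⊗[X] Ω[X⁄Λ]) ≃ₗ[k] Derivation Λ X k := (LinearMap.liftBaseChangeEquiv k).symm.trans e₁
  exact ⟨e.finrank_eq.symm.trans Subspace.dual_finrank_eq, Module.Finite.equiv e⟩

/-- (a) ⇔ (c): a morphism f : B → A in the category of Artinian local Λ-algebras with residue field k is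
an essential surjection (surjective, and any morphism g into B with g followed by f surjective is
surjective) if and only if the map Ω_{B/Λ} ⊗_B k → Ω_{A/Λ} ⊗_A k is an isomorphism of k-vector
spaces. These spaces are finite-dimensional, so the isomorphism condition is written as: the map is
surjective (that is, Ω_{A/B} ⊗_A k = 0) and the two spaces have equal dimension. -/
theorem result {Λ : Type u} {k : Type u} [CommRing Λ] [Field k] [Algebra Λ k]
    [IsNoetherianRing Λ] [Module.Finite Λ k]
    {A B : ArtFun.Art Λ k} (f : B ⟶ A) :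
    letI : Algebra B A := f.toAlgHom.toRingHom.toAlgebra
    letI : Algebra A k := A.res.toRingHom.toAlgebra
    letI : Algebra B k := B.res.toRingHom.toAlgebra
    (Function.Surjective f ∧ ∀ (C : ArtFun.Art Λ k) (g : C ⟶ B), Function.Surjective (g ≫ f) → Function.Surjective g) ↔
      (Subsingleton (k ⊗[A] Ω[A⁄B]) ∧
        Module.finrank k (k ⊗[B] Ω[B⁄Λ]) = Module.finrank k (k ⊗[A] Ω[A⁄Λ])) := by
  let _ : Algebra B A := f.toAlgHom.toRingHom.toAlgebra
  let _ : Algebra A k := A.res.toRingHom.toAlgebra
  let _ : Algebra B k := B.res.toRingHom.toAlgebra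
  have : IsScalarTower Λ A k := IsScalarTower.of_algebraMap_eq fun l => (A.res.commutes l).symm
  have : IsScalarTower Λ B k := IsScalarTower.of_algebraMap_eq fun l => (B.res.commutes l).symm
  have := Groth.Agent.ArtFib.module_finite A
  have := Groth.Agent.ArtFib.module_finite B
  have : Algebra.EssFiniteType Λ A := inferInstance
  have : Algebra.EssFiniteType Λ B := inferInstance
  obtain ⟨hA, hAf⟩ := finrank_der (Λ := Λ) (k := k) A
  obtain ⟨hB, hBf⟩ := finrank_der (Λ := Λ) (k := k) B
  rw [← hA, ← hB, Groth.Agent.ArtKit.essential_iff f, ← Groth.Agent.S12751.result f]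
  refine and_congr_right fun hf => ?_
  let Φ : Derivation Λ A k →ₗ[k] Derivation Λ B k :=
    { toFun := fun D => Derivation.mk' (D.toLinearMap.comp f.toAlgHom.toLinearMap) fun a b => by
        show D (f (a * b)) = a • D (f b) + b • D (f a)
        rw [map_mul, D.leibniz]
        show A.res (f a) * D (f b) + A.res (f b) * D (f a) = B.res a * D (f b) + B.res b * D (f a)
        rw [Art.res_app, Art.res_app]
      map_add' := fun _ _ => Derivation.ext fun _ => rfl
      map_smul' := fun _ _ => Derivation.ext fun _ => rfl }
  have hinj : Function.Injective Φ := fun D₁ D₂ h => Derivation.ext fun a => by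
    obtain ⟨b, rfl⟩ := hf a
    exact DFunLike.congr_fun h b
  constructor
  · intro hD
    choose l hl using hf
    have hwd : ∀ (D : Derivation Λ B k) (b b' : B), f b = f b' → D b = D b' := fun D b b' e => by
      rw [← sub_eq_zero, ← map_sub]
      exact hD D _ (by rw [map_sub, e, sub_self])
    have hsurj : Function.Surjective Φ := fun D => by
      let L : A →ₗ[Λ] k :=
        { toFun := fun a => D (l a)
          map_add' := fun a a' => by rw [← map_add]; exact hwd D _ _ (by rw [map_add, hl, hl, hl])
          map_smul' := fun c a => by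
            rw [RingHom.id_apply, ← Derivation.map_smul]
            exact hwd D _ _ (by rw [map_smul, hl, hl]) }
      refine ⟨Derivation.mk' L fun a a' => ?_, Derivation.ext fun b => hwd D _ _ (hl _)⟩
      show D (l (a * a')) = A.res a * D (l a') + A.res a' * D (l a)
      rw [hwd D (l (a * a')) (l a * l a') (by rw [map_mul, hl, hl, hl]), D.leibniz]
      show B.res (l a) * D (l a') + B.res (l a') * D (l a) = _
      rw [← Art.res_app f (l a), hl, ← Art.res_app f (l a'), hl]
    exact (LinearEquiv.ofBijective Φ ⟨hinj, hsurj⟩).finrank_eq.symm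
  · intro h D x hx
    obtain ⟨D', rfl⟩ := (LinearMap.injective_iff_surjective_of_finrank_eq_finrank h.symm).1 hinj D
    show D' (f x) = 0
    rw [hx, map_zero]

end Groth.Agent.S12752
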