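import Groth.Statements.S12753
import Groth.Agent.ArtKit.Essential
import Mathlib.RingTheory.Etale.Field

set_option autoImplicit false
universe u v
open CategoryTheory
open ArtFun ArtFun.Art

namespace Groth.Agent.S12753

theorem exists_der {Λ k : Type u} [CommRing Λ] [Field k] [Algebra Λ k] [Module.Finite Λ k]
    [Algebra.IsSeparable (↥(algebraMap Λ k).range) k] (B : ArtFun.Art Λ k) [Algebra B k] (hBk : algebraMap B k = B.res.toRingHom)
    {b : B} (hb : b ∈ IsLocalRing.maximalIdeal B)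
    (hbJ : b ∉ Ideal.map (algebraMap Λ B) (RingHom.ker (algebraMap Λ k)) ⊔ IsLocalRing.maximalIdeal B ^ 2) :
    ∃ D : Derivation Λ B k, D b ≠ 0 := by
  set J := Ideal.map (algebraMap Λ B) (RingHom.ker (algebraMap Λ k)) ⊔ IsLocalRing.maximalIdeal B ^ 2 with hJ
  let F := (algebraMap Λ k).range
  let _ : Algebra Λ F := (algebraMap Λ k).rangeRestrict.toAlgebra
  have : IsScalarTower Λ F k := IsScalarTower.of_algebraMap_eq fun _ => rfl
  have hfin : Module.Finite F k := Module.Finite.of_restrictScalars_finite Λ F k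
  have hF : IsField F :=
    isField_of_isIntegral_of_isField (S := k) (FaithfulSMul.algebraMap_injective F k) (Field.toIsField k)
  let _ : Field F := hF.toField
  have : Algebra.FormallyEtale F k := Algebra.FormallyEtale.of_isSeparable F k
  -- the `F`-structure of `B/J`
  have hker : RingHom.ker (algebraMap Λ k) ≤ RingHom.ker ((Ideal.Quotient.mk J).comp (algebraMap Λ B)) := fun l hl =>
    RingHom.mem_ker.2 (Ideal.Quotient.eq_zero_iff_mem.2 (Ideal.mem_sup_left (Ideal.mem_map_of_mem _ hl)))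
  let κ : F →+* B ⧸ J := (algebraMap Λ k).rangeRestrict.liftOfSurjective (RingHom.rangeRestrict_surjective _)
    ⟨(Ideal.Quotient.mk J).comp (algebraMap Λ B), fun l hl => hker (by
      rw [RingHom.mem_ker] at hl ⊢
      exact congrArg Subtype.val hl)⟩
  have hκ : ∀ l, κ (algebraMap Λ F l) = Ideal.Quotient.mk J (algebraMap Λ B l) := fun l =>
    RingHom.liftOfRightInverse_comp_apply _ _ _ _ l
  let _ : Algebra F (B ⧸ J) := κ.toAlgebra
  have hJm : J ≤ IsLocalRing.maximalIdeal B := sup_le (Ideal.map_le_iff_le_comap.2 fun l hl => by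
    rw [Ideal.mem_comap, Art.mem_maximalIdeal_iff, AlgHom.commutes]; exact hl) (Ideal.pow_le_self two_ne_zero)
  let ρ : (B ⧸ J) →+* k := Ideal.Quotient.lift J B.res.toRingHom fun x hx => (B.mem_maximalIdeal_iff x).1 (hJm hx)
  have hρF : ∀ c : F, ρ (κ c) = algebraMap F k c := fun c => by
    obtain ⟨l, rfl⟩ := RingHom.rangeRestrict_surjective (algebraMap Λ k) c
    exact (congrArg ρ (hκ l)).trans (B.res.commutes l)
  let ρ' : (B ⧸ J) →ₐ[F] k := { ρ with commutes' := hρF }
  have hρs : Function.Surjective ρ' := fun c => by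
    obtain ⟨x, hx⟩ := B.res_surjective c
    exact ⟨Ideal.Quotient.mk J x, hx⟩
  have hρn : IsNilpotent (RingHom.ker ρ'.toRingHom) := ⟨2, by
    rw [Ideal.zero_eq_bot, eq_bot_iff, pow_two, Ideal.mul_le]
    intro u hu v hv
    obtain ⟨u, rfl⟩ := Ideal.Quotient.mk_surjective u
    obtain ⟨v, rfl⟩ := Ideal.Quotient.mk_surjective v
    rw [Ideal.mem_bot, ← map_mul, Ideal.Quotient.eq_zero_iff_mem]
    refine Ideal.mem_sup_right ?_
    rw [pow_two]
    exact Ideal.mul_mem_mul ((B.mem_maximalIdeal_iff u).2 hu) ((B.mem_maximalIdeal_iff v).2 hv)⟩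
  let σ : k →ₐ[F] (B ⧸ J) := Algebra.FormallySmooth.liftOfSurjective (AlgHom.id F k) ρ' hρs hρn
  have hσ : ∀ c, ρ' (σ c) = c := fun c => Algebra.FormallySmooth.liftOfSurjective_apply _ _ hρs hρn c
  let _ : Algebra k (B ⧸ J) := σ.toRingHom.toAlgebra
  obtain ⟨φ, hφ⟩ : ∃ φ : (B ⧸ J) →ₗ[k] k, φ (Ideal.Quotient.mk J b) ≠ 0 := by
    by_contra hall
    push Not at hall
    exact hbJ (Ideal.Quotient.eq_zero_iff_mem.1 ((Module.forall_dual_apply_eq_zero_iff k _).1 hall))
  have hsm : ∀ (c : k) (y : B ⧸ J), φ (σ c * y) = c * φ y := fun c y => by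
    rw [← smul_eq_mul c, ← map_smul, Algebra.smul_def]; rfl
  let P : B → B ⧸ J := fun x => Ideal.Quotient.mk J x - σ (B.res x)
  have hPm : ∀ x, ∃ m ∈ IsLocalRing.maximalIdeal B, P x = Ideal.Quotient.mk J m := fun x => by
    obtain ⟨s, hs⟩ := Ideal.Quotient.mk_surjective (σ (B.res x))
    refine ⟨x - s, (B.mem_maximalIdeal_iff _).2 ?_, by rw [map_sub, hs]⟩
    rw [map_sub, sub_eq_zero]
    exact ((congrArg ρ' hs).trans (hσ _)).symm
  have hPP : ∀ x y, P x * P y = 0 := fun x y => by
    obtain ⟨m, hm, hm'⟩ := hPm x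
    obtain ⟨m', hm₂, hm₂'⟩ := hPm y
    rw [hm', hm₂', ← map_mul, Ideal.Quotient.eq_zero_iff_mem]
    exact Ideal.mem_sup_right (by rw [pow_two]; exact Ideal.mul_mem_mul hm hm₂)
  have hPmul : ∀ x y, P (x * y) = σ (B.res x) * P y + σ (B.res y) * P x := fun x y => by
    have := hPP x y
    simp only [P, map_mul] at this ⊢
    linear_combination this
  have hPl : ∀ l : Λ, P (algebraMap Λ B l) = 0 := fun l => by
    show Ideal.Quotient.mk J (algebraMap Λ B l) - σ (B.res (algebraMap Λ B l)) = 0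
    rw [AlgHom.commutes, IsScalarTower.algebraMap_apply Λ F k, σ.commutes, RingHom.algebraMap_toAlgebra κ, hκ, sub_self]
  let L : B →ₗ[Λ] k :=
    { toFun := fun x => φ (P x)
      map_add' := fun x y => by
        rw [← map_add]
        congr 1
        simp only [P, map_add]
        abel
      map_smul' := fun l x => by
        rw [Algebra.smul_def, hPmul, hPl, mul_zero, add_zero, hsm, RingHom.id_apply, Algebra.smul_def, AlgHom.commutes] }
  refine ⟨Derivation.mk' L fun x y => ?_, ?_⟩
  · show φ (P (x * y)) = x • φ (P y) + y • φ (P x)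
    rw [hPmul, map_add, hsm, hsm, Algebra.smul_def, Algebra.smul_def, hBk]
    rfl
  · show φ (P b) ≠ 0
    rwa [show P b = Ideal.Quotient.mk J b by simp [P, (B.mem_maximalIdeal_iff b).1 hb]]

theorem der_eq_zero {Λ k : Type u} [CommRing Λ] [Field k] [Algebra Λ k] (B : ArtFun.Art Λ k) [Algebra B k]
    (hBk : algebraMap B k = B.res.toRingHom) (D : Derivation Λ B k) {x : B}
    (hx : x ∈ Ideal.map (algebraMap Λ B) (RingHom.ker (algebraMap Λ k)) ⊔ IsLocalRing.maximalIdeal B ^ 2) : D x = 0 := by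
  have hsm : ∀ (a : B) (c : k), a • c = B.res a * c := fun a c => by rw [Algebra.smul_def, hBk]; rfl
  obtain ⟨u, hu, v, hv, rfl⟩ := Submodule.mem_sup.1 hx
  have hu0 : ∀ w ∈ Ideal.map (algebraMap Λ B) (RingHom.ker (algebraMap Λ k)), D w = 0 ∧ B.res w = 0 := by
    intro w hw
    induction hw using Submodule.span_induction with
    | mem w hw =>
      obtain ⟨l, hl, rfl⟩ := hw
      exact ⟨D.map_algebraMap l, (B.res.commutes l).trans hl⟩
    | zero => exact ⟨map_zero _, map_zero _⟩
    | add a b _ _ ha hb => exact ⟨by rw [map_add, ha.1, hb.1, add_zero], by rw [map_add, ha.2, hb.2, add_zero]⟩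
    | smul a b _ hb =>
      refine ⟨?_, by rw [smul_eq_mul, map_mul, hb.2, mul_zero]⟩
      rw [smul_eq_mul, D.leibniz, hsm, hsm, hb.1, hb.2, mul_zero, zero_mul, add_zero]
  rw [map_add, (hu0 u hu).1, zero_add]
  rw [pow_two] at hv
  clear hx
  induction hv using Submodule.mul_induction_on' with
  | mem_mul_mem a ha c hc =>
    rw [D.leibniz, hsm, hsm, (B.mem_maximalIdeal_iff a).1 ha, (B.mem_maximalIdeal_iff c).1 hc, zero_mul, zero_mul, add_zero]
  | add a _ c _ ha hc => rw [map_add, ha, hc, add_zero]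

/-- Suppose k is separable over the image of Λ → k. A morphism f : B → A in the category of Artinian
local Λ-algebras with residue field k is an essential surjection (surjective, and any morphism g
into B with g followed by f surjective is surjective) if and only if the map of cotangent spaces
relative to Λ, m_B/(m_Λ B + m_B²) → m_A/(m_Λ A + m_A²), is an isomorphism; surjectivity and
injectivity are written out in terms of ideals, m_Λ being the kernel of Λ → k. -/
theorem result {Λ : Type u} {k : Type u} [CommRing Λ] [Field k] [Algebra Λ k]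
    [IsNoetherianRing Λ] [Module.Finite Λ k]
    [Algebra.IsSeparable (↥(algebraMap Λ k).range) k]
    {A B : ArtFun.Art Λ k} (f : B ⟶ A) :
    (Function.Surjective f ∧ ∀ (C : ArtFun.Art Λ k) (g : C ⟶ B), Function.Surjective (g ≫ f) → Function.Surjective g) ↔
      (Ideal.map (algebraMap Λ A) (RingHom.ker (algebraMap Λ k)) ⊔ Ideal.map f.toAlgHom (IsLocalRing.maximalIdeal B) ⊔ IsLocalRing.maximalIdeal A ^ 2 =
          IsLocalRing.maximalIdeal A ∧
        ∀ b ∈ IsLocalRing.maximalIdeal B, f b ∈ Ideal.map (algebraMap Λ A) (RingHom.ker (algebraMap Λ k)) ⊔ IsLocalRing.maximalIdeal A ^ 2 →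
          b ∈ Ideal.map (algebraMap Λ B) (RingHom.ker (algebraMap Λ k)) ⊔ IsLocalRing.maximalIdeal B ^ 2) := by
  let _ : Algebra A k := A.res.toRingHom.toAlgebra
  let _ : Algebra B k := B.res.toRingHom.toAlgebra
  obtain ⟨N, hN⟩ := Groth.Agent.ArtKit.exists_pow_succ B
  have := Groth.Agent.ArtKit.isPrecomplete_of_pow_eq_bot hN
  have htfae := Groth.Agent.ArtKit.surjective_tfae_cotangent B.res_surjective A.res_surjective f.toAlgHom f.res_comp
  rw [Groth.Agent.ArtKit.essential_iff f]
  constructor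
  · rintro ⟨hf, hD⟩
    refine ⟨(htfae.out 0 2).1 hf, fun b hb hfb => by_contra fun hbJ => ?_⟩
    obtain ⟨D, hDb⟩ := exists_der B rfl hb hbJ
    refine hDb ?_
    have hJ : Ideal.map f.toAlgHom (Ideal.map (algebraMap Λ B) (RingHom.ker (algebraMap Λ k)) ⊔
        IsLocalRing.maximalIdeal B ^ 2) =
        Ideal.map (algebraMap Λ A) (RingHom.ker (algebraMap Λ k)) ⊔ IsLocalRing.maximalIdeal A ^ 2 := by
      rw [Ideal.map_sup, Ideal.map_pow,
        show Ideal.map f.toAlgHom (IsLocalRing.maximalIdeal B) = IsLocalRing.maximalIdeal A from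
          IsLocalRing.map_maximalIdeal_of_surjective f.toAlgHom.toRingHom hf]
      refine congrArg (· ⊔ IsLocalRing.maximalIdeal A ^ 2) ?_
      show Ideal.map f.toAlgHom.toRingHom (Ideal.map (algebraMap Λ B) _) = _
      rw [Ideal.map_map, AlgHom.toRingHom_eq_coe, AlgHom.comp_algebraMap]
    obtain ⟨c, hc, hcb⟩ := (Ideal.mem_map_iff_of_surjective f.toAlgHom hf).1 (hJ.ge hfb)
    rw [← sub_add_cancel b c, map_add, hD D _ (by rw [map_sub, hcb, sub_self]), der_eq_zero B rfl D hc, add_zero]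
  · rintro ⟨h1, h2⟩
    refine ⟨(htfae.out 2 0).1 h1, fun D x hx => der_eq_zero B rfl D (h2 x ?_ ?_)⟩
    · rw [Art.mem_maximalIdeal_iff, ← Art.res_app f, hx, map_zero]
    · rw [hx]; exact zero_mem _

end Groth.Agent.S12753
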