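import Groth.Statements.S12754
import Mathlib.LinearAlgebra.TensorProduct.Basis
import Mathlib.CategoryTheory.Linear.LinearFunctor

set_option autoImplicit false
universe u
open CategoryTheory
open ArtFun

namespace Groth.Agent.S12754

open scoped TensorProduct

/-- A K-linear functor L from finite-dimensional K-vector spaces to K-vector spaces (K a field) is
isomorphic to the functor V ↦ L(K) ⊗_K V. (Existence of an isomorphism of functors, which is how the
published statement reads; the natural choice sends x ⊗ v to L(f_v)(x) with f_v : K → V, 1 ↦ v.) -/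
theorem result (K : Type u) [Field K]
    (L : FGModuleCat.{u} K ⥤ ModuleCat.{u} K) [L.Additive] [Functor.Linear K L] :
    Nonempty (L ≅ (ModuleCat.isFG.{u} K).ι ⋙ MonoidalCategory.tensorLeft (L.obj (FGModuleCat.of K K))) := by
  classical
  let L1 := L.obj (FGModuleCat.of K K)
  let ev : ∀ V : FGModuleCat.{u} K, V → (FGModuleCat.of K K ⟶ V) := fun V v =>
    FGModuleCat.ofHom (LinearMap.toSpanSingleton K V v)
  have hev : ∀ (V W : FGModuleCat.{u} K) (g : V ⟶ W) (v : V), ev V v ≫ g = ev W (g.hom.hom v) := fun V W g v => by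
    refine FGModuleCat.hom_ext (LinearMap.ext fun c => ?_)
    exact map_smul g.hom.hom c v
  have hadd : ∀ (V : FGModuleCat.{u} K) (v w : V), ev V (v + w) = ev V v + ev V w := fun V v w =>
    FGModuleCat.hom_ext (LinearMap.ext fun c => smul_add c v w)
  have hsmul : ∀ (V : FGModuleCat.{u} K) (c : K) (v : V), ev V (c • v) = c • ev V v := fun V c v =>
    FGModuleCat.hom_ext (LinearMap.ext fun d => smul_comm d c v)
  let ψ : ∀ V : FGModuleCat.{u} K, L1 ⊗[K] V →ₗ[K] L.obj V := fun V =>
    TensorProduct.lift (LinearMap.mk₂ K (fun x v => (L.map (ev V v)).hom x)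
      (fun x y v => map_add _ x y) (fun c x v => map_smul _ c x)
      (fun x v w => by rw [hadd, L.map_add]; rfl) (fun c x v => by rw [hsmul, L.map_smul]; rfl))
  have hψ : ∀ V, Function.Bijective (ψ V) := fun V => by
    let b := Module.finBasis K V
    let φ : L.obj V → L1 ⊗[K] V := fun y =>
      ∑ i, (L.map (FGModuleCat.ofHom (b.coord i) : V ⟶ FGModuleCat.of K K)).hom y ⊗ₜ b i
    have hφ1 : ∀ y, ψ V (φ y) = y := fun y => by
      simp only [φ, map_sum]
      have h1 : ∀ i, ψ V ((L.map (FGModuleCat.ofHom (b.coord i) : V ⟶ FGModuleCat.of K K)).hom y ⊗ₜ b i) =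
          (L.map ((FGModuleCat.ofHom (b.coord i) : V ⟶ FGModuleCat.of K K) ≫ ev V (b i))).hom y := fun i => by
        rw [L.map_comp]; rfl
      simp only [h1]
      rw [← LinearMap.sum_apply, ← ModuleCat.hom_sum, ← L.map_sum,
        show ∑ i, ((FGModuleCat.ofHom (b.coord i) : V ⟶ FGModuleCat.of K K) ≫ ev V (b i)) = 𝟙 V from ?_, L.map_id]
      · rfl
      · refine FGModuleCat.hom_ext (LinearMap.ext fun v => ?_)
        refine Eq.trans ?_ (b.sum_repr v)
        show ((ModuleCat.isFG.{u} K).ι.map (∑ i, (FGModuleCat.ofHom (b.coord i) : V ⟶ FGModuleCat.of K K) ≫ ev V (b i))).hom v = _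
        rw [Functor.map_sum, ModuleCat.hom_sum, LinearMap.sum_apply]
        rfl
    have hφadd : ∀ y z, φ (y + z) = φ y + φ z := fun y z => by
      simp only [φ, map_add, TensorProduct.add_tmul, Finset.sum_add_distrib]
    have hφ2 : ∀ t, φ (ψ V t) = t := fun t => by
      induction t using TensorProduct.induction_on with
      | zero => simp [φ]
      | add s t hs ht => rw [map_add, hφadd, hs, ht]
      | tmul x v =>
        conv_rhs => rw [← b.sum_repr v, TensorProduct.tmul_sum]
        refine Finset.sum_congr rfl fun i _ => ?_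
        have h2 : (L.map (FGModuleCat.ofHom (b.coord i) : V ⟶ FGModuleCat.of K K)).hom (ψ V (x ⊗ₜ v)) = b.repr v i • x := by
          show (L.map (ev V v) ≫ L.map (FGModuleCat.ofHom (b.coord i))).hom x = _
          rw [← L.map_comp, hev,
            show ev (FGModuleCat.of K K) ((FGModuleCat.ofHom (b.coord i) : V ⟶ FGModuleCat.of K K).hom.hom v) =
              b.repr v i • 𝟙 (FGModuleCat.of K K) from FGModuleCat.hom_ext (LinearMap.ext fun c => mul_comm c _),
            L.map_smul, L.map_id]
          rfl
        rw [h2, TensorProduct.smul_tmul]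
    exact ⟨Function.LeftInverse.injective hφ2, Function.RightInverse.surjective hφ1⟩
  refine ⟨NatIso.ofComponents (fun V => ((LinearEquiv.ofBijective (ψ V) (hψ V)).symm).toModuleIso) fun {V W} g => ?_⟩
  rw [← cancel_mono (LinearEquiv.ofBijective (ψ W) (hψ W)).toModuleIso.hom]
  refine ModuleCat.hom_ext (LinearMap.ext fun y => ?_)
  obtain ⟨t, rfl⟩ := (hψ V).2 y
  show ψ W ((LinearEquiv.ofBijective (ψ W) (hψ W)).symm ((L.map g).hom (ψ V t))) =
    ψ W (LinearMap.lTensor L1 g.hom.hom ((LinearEquiv.ofBijective (ψ V) (hψ V)).symm (ψ V t)))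
  refine Eq.trans ((LinearEquiv.ofBijective (ψ W) (hψ W)).apply_symm_apply _) ?_
  rw [LinearEquiv.ofBijective_symm_apply_apply]
  induction t using TensorProduct.induction_on with
  | zero => simp
  | add s t hs ht => simp only [map_add, hs, ht]
  | tmul x v =>
    show (L.map (ev V v) ≫ L.map g).hom x = (L.map (ev W (g.hom.hom v))).hom x
    rw [← L.map_comp, hev]

end Groth.Agent.S12754
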