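import Groth.Statements.S1276
import Groth.Agent.FlatDepth.SupportDim

set_option autoImplicit false
open Groth.Agent TensorProduct
universe u
open FlatMor

namespace Groth.Agent.S1276

/-- Let B be a finite type A-algebra, N a finite B-module and p a prime of A. Then there is a finitely
generated ideal J of B annihilating N (so N is a module on the finitely presented closed subscheme
V(J) of Spec B) such that a point of the fibre Spec(κ(p) ⊗ B) lies in V(J) if and only if it lies in
the support of the fibre module of N. -/
theorem result {A B : Type u} [CommRing A] [CommRing B] [Algebra A B] [Algebra.FiniteType A B]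
    (N : Type u) [AddCommGroup N] [Module B N] [Module A N] [IsScalarTower A B N] [Module.Finite B N] (p : Ideal A) [p.IsPrime] :
    ∃ J : Ideal B, J.FG ∧ J ≤ Module.annihilator B N ∧
      ∀ x : PrimeSpectrum (p.Fiber B), FlatCA.fiberIdeal p J ≤ x.asIdeal ↔ x ∈ Module.support (p.Fiber B) (FlatCA.fiberMod p B N) := by
  classical
  let F := p.Fiber B
  letI : Algebra B F := Algebra.TensorProduct.rightAlgebra
  haveI : IsNoetherianRing F := Algebra.FiniteType.isNoetherianRing p.ResidueField _
  obtain ⟨T, hT, hTspan⟩ := (Submodule.fg_span_iff_fg_span_finset_subset ((algebraMap B F) '' (Module.annihilator B N : Set B))).1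
    (IsNoetherian.noetherian (Ideal.span _))
  choose g hg hg' using fun y : T => hT y.2
  refine ⟨Ideal.span (Set.range g), Submodule.fg_span (Set.finite_range g), Ideal.span_le.2 (by
    rintro _ ⟨y, rfl⟩
    exact hg y), fun x => ?_⟩
  change _ ↔ x ∈ Module.support F (F ⊗[B] N)
  rw [FlatDepth.mem_support_tensor]
  have hx : x ∈ Module.support F F := by
    rw [Module.support_eq_zeroLocus, Module.annihilator_eq_bot.2 inferInstance]
    simp
  rw [Module.mem_support_iff_of_finite (p := x.comap (algebraMap B F))]
  simp only [hx, true_and]
  change (Ideal.span (Set.range g)).map (algebraMap B F) ≤ x.asIdeal ↔ Module.annihilator B N ≤ x.asIdeal.comap (algebraMap B F)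
  rw [← Ideal.map_le_iff_le_comap, Ideal.map_span, ← Set.range_comp]
  have : Ideal.span (Set.range (algebraMap B F ∘ g)) = (Module.annihilator B N).map (algebraMap B F) := by
    refine le_antisymm (Ideal.span_le.2 ?_) ?_
    · rintro _ ⟨y, rfl⟩
      exact Ideal.mem_map_of_mem _ (hg y)
    · change Ideal.span ((algebraMap B F) '' (Module.annihilator B N : Set B)) ≤ _
      rw [← Ideal.submodule_span_eq, hTspan]
      exact Submodule.span_mono fun y hy => ⟨⟨y, hy⟩, hg' ⟨y, hy⟩⟩
  rw [this]

end Groth.Agent.S1276
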