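import Groth.Agent.AlgStLib.DiagProps
import Groth.Prelude.Def_AlgSt2
import Groth.Prelude.Def_FibCat2
import Groth.Prelude.Def_AlgSt

set_option autoImplicit false
open CategoryTheory AlgebraicGeometry
universe u
open AlgSt

set_option backward.isDefEq.respectTransparency false

namespace Groth.Agent.S12761

/-- (1) ⇔ (3): an algebraic stack `𝒳` over `S` is a stack in setoids (its fibre categories are setoids)
if and only if it is representable by an algebraic space. -/
theorem result {S : Scheme.{u}} {𝒳 : AlgSt.Cat S}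
    (h𝒳 : AlgSt.IsAlgStack Scheme.fppfPrecoverage 𝒳) :
    FibCat.IsFibSetoid 𝒳.p ↔ AlgSt.RepByAlgSp 𝒳 := by
  refine ⟨fun h => ?_, fun ⟨F, e, he⟩ => Groth.Agent.FibCat2Misc.isFibSetoid_of_equiv he Groth.Agent.AlgStLib.isFibSetoid_ofPsh⟩
  obtain ⟨U, x, h₁, h₂⟩ := Groth.Agent.AlgStLib.exists_atlas h𝒳.atlas
  exact Groth.Agent.AlgStLib.repByAlgSp_of_setoid h𝒳.isStack h
    (Groth.Agent.AlgStLib.repByAlgSp_of_model Groth.Agent.FibCat2Misc.isEquivOver_id (Groth.Agent.AlgSpLib.isAlgSpaceP_yon U)) h₁ h₂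

end Groth.Agent.S12761
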