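import Groth.Agent.AlgStLib.Stacks
import Groth.Prelude.Def_AlgSt2
import Groth.Prelude.Def_FibCat2
import Groth.Prelude.Def_AlgSt

set_option autoImplicit false
open CategoryTheory AlgebraicGeometry
universe u
open AlgSt

set_option backward.isDefEq.respectTransparency false

namespace Groth.Agent.S12762

/-- (2) ⇔ (3): a 1-morphism `f : 𝒳 ⟶ 𝒴` of algebraic stacks over `S` is faithful (equivalently, faithful
on every fibre category) if and only if it is representable by algebraic spaces. -/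
theorem result {S : Scheme.{u}} {𝒳 𝒴 : AlgSt.Cat S}
    (h𝒳 : AlgSt.IsAlgStack Scheme.fppfPrecoverage 𝒳) (h𝒴 : AlgSt.IsAlgStack Scheme.fppfPrecoverage 𝒴) (f : 𝒳 ⥤ᵇ 𝒴) :
    f.toFunctor.Faithful ↔ AlgSt.RepByAlgSp1 f := by
  exact ⟨fun h => @Groth.Agent.AlgStLib.repByAlgSp1_of_faithful _ _ _ h𝒳 h𝒴 f h,
    fun h => Groth.Agent.AlgStLib.faithful_of_rep h𝒳.isStack.1 h𝒴.isStack.1 h⟩

end Groth.Agent.S12762
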