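import Groth.Agent.AlgStLib.Stacks
import Groth.Prelude.Def_AlgSt2
import Groth.Prelude.Def_FibCat2
import Groth.Prelude.Def_AlgSt

set_option autoImplicit false
open CategoryTheory AlgebraicGeometry
universe u
open AlgSt

set_option backward.isDefEq.respectTransparency false

namespace Groth.Agent.S12765

/-- (1) ⇔ (3): for `𝒳` fibred in groupoids over `(Sch/S)`, the diagonal `𝒳 ⟶ 𝒳 × 𝒳` is representable by
algebraic spaces if and only if for every scheme `U` over `S` every 1-morphism `(Sch/U) ⟶ 𝒳` is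
representable by algebraic spaces. -/
theorem result {S : Scheme.{u}} {𝒳 : AlgSt.Cat S} (h𝒳 : FibCat.IsFibGrpd 𝒳.p) :
    AlgSt.RepByAlgSp1 (FibCat.diag (FibCat.toSelf 𝒳)) ↔
      ∀ (U : Over S) (x : FibCat.overCat U ⥤ᵇ 𝒳), AlgSt.RepByAlgSp1 x := by
  exact ⟨fun d U x => (Groth.Agent.AlgStLib.repByAlgSp1_overCat_iff U x).2
      (Groth.Agent.AlgStLib.repByAlgSp1_point h𝒳 d (Groth.Agent.AlgSpLib.isAlgSpaceP_yon U) _),
    fun h => Groth.Agent.AlgStLib.repByAlgSp1_diag_of_points h𝒳 fun U x => Groth.Agent.AlgStLib.repByAlgSp1_of_with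
      (Groth.Agent.AlgStLib.repWith_congr ⊤ ((Groth.Agent.StkBasic.post _ x).mapIso (Groth.Agent.AlgStLib.isoOfSec
        (BasedFunctor.comp (AlgSt.toOverCat U) (AlgSt.ofOverCat U))
        (BasedFunctor.id (Stk.ofPsh ((AlgSp.pyon S).obj U))) (fun _ => rfl))).symm
        (Groth.Agent.AlgStLib.repByAlgSpWith_top_iff.2 ((Groth.Agent.AlgStLib.repByAlgSp1_overCat_iff U _).1 (h U (BasedFunctor.comp (AlgSt.ofOverCat U) x)))))⟩

end Groth.Agent.S12765
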