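import Groth.Statements.S1277
import Groth.Agent.RG.Dev.ClosedPoints

set_option autoImplicit false
open Groth.Agent
universe u
open FlatMor

namespace Groth.Agent.S1277

open IsLocalRing in
/-- Let A be a local ring, A → B a local homomorphism of local rings, B → C a flat local homomorphism of
local rings, M a B-module and N = M ⊗_B C. For every local homomorphism of local rings A → A', with
base changes B' = B ⊗_A A', M', C' = C ⊗_A A', N' (any models): M' is flat over A' at every prime of
B' containing 𝔪_{A'}B' + 𝔪_B B' if and only if N' is flat over A' at every prime of C' containing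
𝔪_{A'}C' + 𝔪_C C'. -/
theorem result {A B C : Type u} [CommRing A] [IsLocalRing A] [CommRing B] [IsLocalRing B] [CommRing C] [IsLocalRing C]
    [Algebra A B] [IsLocalHom (algebraMap A B)] [Algebra B C] [IsLocalHom (algebraMap B C)] [Algebra A C] [IsScalarTower A B C] [Module.Flat B C]
    (M : Type u) [AddCommGroup M] [Module B M] (N : Type u) [AddCommGroup N] [Module C N] [Module B N] [IsScalarTower B C N]
    (g : M →ₗ[B] N) (hg : IsBaseChange C g)
    (A' : Type u) [CommRing A'] [IsLocalRing A'] [Algebra A A'] [IsLocalHom (algebraMap A A')]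
    (B' M' : Type u) [CommRing B'] [Algebra B B'] [Algebra A' B'] [Algebra A B'] [IsScalarTower A B B'] [IsScalarTower A A' B']
        [Algebra.IsPushout A B A' B']
        [AddCommGroup M'] [Module B' M'] [Module B M'] [IsScalarTower B B' M'] [Module A' M'] [IsScalarTower A' B' M']
        (fB : M →ₗ[B] M') (hfB : IsBaseChange B' fB)
    (C' N' : Type u) [CommRing C'] [Algebra C C'] [Algebra A' C'] [Algebra A C'] [IsScalarTower A C C'] [IsScalarTower A A' C']
        [Algebra.IsPushout A C A' C']
        [AddCommGroup N'] [Module C' N'] [Module C N'] [IsScalarTower C C' N'] [Module A' N'] [IsScalarTower A' C' N']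
        (fC : N →ₗ[C] N') (hfC : IsBaseChange C' fC) :
    FlatCA.FlatAboveClosedPoints B A' B' M' ↔ FlatCA.FlatAboveClosedPoints C A' C' N' := by
  obtain ⟨_, _, _, _, _, hp⟩ := RG.Dev.exists_pushout_tower (A := A) (B := B) (C := C) (A' := A') (B' := B') (C' := C')
  haveI := hp
  haveI : Algebra.IsPushout B B' C C' := Algebra.IsPushout.symm inferInstance
  haveI : Module.Flat B' C' := Module.Flat.isBaseChange B B' C C' (Algebra.IsPushout.out (S := B'))
  letI : Module B' N' := Module.compHom N' (algebraMap B' C')
  haveI : IsScalarTower B' C' N' := IsScalarTower.of_algebraMap_smul fun _ _ => rfl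
  let e : TensorProduct B' C' M' ≃ₗ[C'] N' :=
    (TensorProduct.AlgebraTensorModule.congr (LinearEquiv.refl C' C') hfB.equiv.symm).trans
      ((TensorProduct.AlgebraTensorModule.cancelBaseChange B B' C' C' M).trans
        ((TensorProduct.AlgebraTensorModule.cancelBaseChange B C C' C' M).symm.trans
          ((TensorProduct.AlgebraTensorModule.congr (LinearEquiv.refl C' C') hg.equiv).trans hfC.equiv)))
  let gg : M' →ₗ[B'] N' := (e.toLinearMap.restrictScalars B').comp (TensorProduct.mk B' C' M' 1)
  exact RG.Dev.flatAbove_iff_of_flat gg (IsBaseChange.of_equiv e fun x => rfl)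

end Groth.Agent.S1277
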