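import Groth.Agent.AlgStLib.Calc
import Groth.Prelude.Def_AlgSt2
import Groth.Prelude.Def_FibCat2
import Groth.Prelude.Def_AlgSt

set_option autoImplicit false
open CategoryTheory AlgebraicGeometry
universe u
open AlgSt

set_option backward.isDefEq.respectTransparency false

namespace Groth.Agent.S12775

/-- If `𝒳` and `𝒴` are categories fibred in groupoids over `(Sch/S)` that are both representable by
algebraic spaces, then every 1-morphism `f : 𝒳 ⟶ 𝒴` is representable by algebraic spaces. -/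
theorem result {S : Scheme.{u}} {𝒳 𝒴 : AlgSt.Cat S}
    (h𝒳 : FibCat.IsFibGrpd 𝒳.p) (h𝒴 : FibCat.IsFibGrpd 𝒴.p)
    (hX : AlgSt.RepByAlgSp 𝒳) (hY : AlgSt.RepByAlgSp 𝒴) (f : 𝒳 ⥤ᵇ 𝒴) :
    AlgSt.RepByAlgSp1 f := by
  obtain ⟨F, a, ha⟩ := hX
  obtain ⟨G, b, hb⟩ := hY
  obtain ⟨b', hb', -, ⟨j⟩⟩ := Groth.Agent.FibCat2Misc.isEquivOver_symm hb
  let Φ := BasedFunctor.comp (BasedFunctor.comp a f) b'
  have i : BasedFunctor.comp (Stk.ofPshMap (Groth.Agent.AlgStLib.mapOf Φ)) b ≅ BasedFunctor.comp a f :=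
    (Groth.Agent.StkBasic.post _ b).mapIso (Groth.Agent.AlgStLib.mapOfIso Φ) ≪≫ (Stk.restr (BasedFunctor.comp a f) _).mapIso j
  exact (Groth.Agent.AlgStLib.repByAlgSp1_iff_of_equiv f _ a b ha hb i).2
    (Groth.Agent.AlgStLib.repByAlgSp1_of_space ((AlgSp.isAlgSpaceP_obj_iff _).2 F.property) ((AlgSp.isAlgSpaceP_obj_iff _).2 G.property) _)

end Groth.Agent.S12775
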