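import Groth.Statements.S1279
import Groth.Agent.BlowSep.Disjoint
-- import your own Groth.Agent.* helpers here

set_option autoImplicit false
universe u
open FlatMor

namespace Groth.Agent.S1279

open AlgebraicGeometry CategoryTheory Limits Topology in
/-- Let X be a quasi-compact and quasi-separated scheme, U ⊆ X a quasi-compact open, and T₁, T₂ ⊆ U
disjoint subsets which are closed and constructible in U. Then there is a U-admissible blow-up b :
X' → X such that the closures in X' of the preimages of T₁ and T₂ are disjoint. (Part (1), about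
strict transforms of closed subschemes, is not stated.) -/
theorem result {X : Scheme.{u}} [CompactSpace X] [QuasiSeparatedSpace X]
    (U : X.Opens) (hU : IsCompact (U : Set X)) (T₁ T₂ : Set U)
    (h₁ : IsClosed T₁) (h₂ : IsClosed T₂) (c₁ : IsConstructible T₁) (c₂ : IsConstructible T₂) (hd : Disjoint T₁ T₂) :
    ∃ (𝓘 : X.IdealSheafData) (X' : Scheme.{u}) (b : X' ⟶ X), BlowUp.IsBlowUp b 𝓘 ∧ BlowUp.IsAdmissibleFor U 𝓘 ∧
      Disjoint (closure (b.base ⁻¹' (Subtype.val '' T₁))) (closure (b.base ⁻¹' (Subtype.val '' T₂))) := by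
  obtain ⟨A, hA, hAT⟩ := BlowSep.exists_ideal_inter U hU T₁ h₁ c₁
  obtain ⟨B, hB, hBT⟩ := BlowSep.exists_ideal_inter U hU T₂ h₂ c₂
  obtain ⟨X', b, hb⟩ := BlowUpExist.exists_isBlowUp X (A ⊔ B)
  have hdis : ∀ x : U, x.1 ∉ (A ⊔ B).support := fun x hx => by
    rw [Scheme.IdealSheafData.support_sup] at hx
    exact Set.disjoint_left.1 hd ((hAT x).1 hx.1) ((hBT x).1 hx.2)
  refine ⟨A ⊔ B, X', b, hb, ⟨fun W => ?_, Set.disjoint_left.2 fun x hx hxU => hdis ⟨x, hxU⟩ hx⟩, ?_⟩
  · rw [Scheme.IdealSheafData.ideal_sup]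
    exact Submodule.FG.sup (hA W) (hB W)
  refine (BlowSep.disjoint_closure A B hb.1).mono (closure_mono ?_) (closure_mono ?_)
  · rintro y ⟨x, hx, hxy⟩
    simp only [Set.mem_preimage, Set.mem_sdiff, SetLike.mem_coe]
    rw [← hxy]
    exact ⟨(hAT x).2 hx, hdis x⟩
  · rintro y ⟨x, hx, hxy⟩
    simp only [Set.mem_preimage, Set.mem_sdiff, SetLike.mem_coe]
    rw [← hxy]
    exact ⟨(hBT x).2 hx, hdis x⟩

end Groth.Agent.S1279
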