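import Groth.Agent.AlgStLib.DiagProps
import Groth.Prelude.Def_AlgSt2
import Groth.Prelude.Def_FibCat2
import Groth.Prelude.Def_AlgSt

set_option autoImplicit false
open CategoryTheory AlgebraicGeometry
universe u
open AlgSt

set_option backward.isDefEq.respectTransparency false

namespace Groth.Agent.S12791

/-- (2) ⇔ (3): for an algebraic stack `𝒳` over `S`, the canonical 1-morphism `I_𝒳 ⟶ 𝒳` from the inertia
is an equivalence over `(Sch/S)` if and only if `𝒳` is representable by an algebraic space. -/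
theorem result {S : Scheme.{u}} {𝒳 : AlgSt.Cat S}
    (h𝒳 : AlgSt.IsAlgStack Scheme.fppfPrecoverage 𝒳) :
    FibCat.IsEquivOver (FibCat.inertiaToBase (FibCat.toSelf 𝒳)) ↔ AlgSt.RepByAlgSp 𝒳 := by
  refine ⟨fun h => ?_, fun ⟨F, e, he⟩ => ?_⟩
  · haveI := Groth.Agent.AlgStLib.faithful_of_trivial h𝒳.isStack.1 Groth.Agent.FibCatRep.isFibGrpd_selfOver
      (Groth.Agent.AlgStLib.trivial_of_isEquivOver_inertiaToBase h𝒳.isStack.1 h)
    have hs : FibCat.IsFibSetoid 𝒳.p := Groth.Agent.FibCat2Misc.isFibSetoid_iff.2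
      ⟨h𝒳.isStack.1, (inferInstance : (FibCat.toSelf 𝒳).toFunctor.Faithful)⟩
    obtain ⟨U, x, h₁, h₂⟩ := Groth.Agent.AlgStLib.exists_atlas h𝒳.atlas
    exact Groth.Agent.AlgStLib.repByAlgSp_of_setoid h𝒳.isStack hs
      (Groth.Agent.AlgStLib.repByAlgSp_of_model Groth.Agent.FibCat2Misc.isEquivOver_id (Groth.Agent.AlgSpLib.isAlgSpaceP_yon U)) h₁ h₂
  · haveI : (FibCat.toSelf 𝒳).toFunctor.Faithful := (Groth.Agent.FibCat2Misc.isFibSetoid_iff.1
      (Groth.Agent.FibCat2Misc.isFibSetoid_of_equiv he Groth.Agent.AlgStLib.isFibSetoid_ofPsh)).2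
    exact Groth.Agent.AlgStLib.isEquivOver_inertiaToBase

end Groth.Agent.S12791
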