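import Groth.Statements.S12792
import Groth.Agent.FibCatRep.Cart

set_option autoImplicit false
set_option linter.style.haveILetI false
set_option backward.isDefEq.respectTransparency false
open CategoryTheory.Limits FibCat Groth.Agent.FibCatRep

open CategoryTheory
universe w v u
open Stk

namespace Groth.Agent.S12792

/-- For categories `𝒳`, `𝒴` over `C` that are stacks in groupoids for the topology `J`, a category `𝒮`
over `C` that is a prestack in groupoids for `J`, and functors `F : 𝒳 ⟶ 𝒮`, `G : 𝒴 ⟶ 𝒮` over `C`,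
the 2-fibre product `𝒳 ×_𝒮 𝒴` over `C` is a stack in groupoids for `J`. (The published statement
takes `𝒮` a stack in groupoids as well; its proof uses only that morphisms of `𝒮` glue uniquely,
which is the hypothesis made here.) -/
theorem result {C : Type u} [Category.{v} C] (J : GrothendieckTopology C) {𝒳 𝒴 𝒮 : BasedCategory.{v, max u v} C}
    (F : 𝒳 ⥤ᵇ 𝒮) (G : 𝒴 ⥤ᵇ 𝒮) (h𝒳 : Stk.IsStack J 𝒳) (h𝒴 : Stk.IsStack J 𝒴) (h𝒮 : Stk.IsPrestack J 𝒮) :
    Stk.IsStack J (FibCat.fp F G) := by
  refine ⟨isFibGrpd_fp h𝒳.1 h𝒴.1 h𝒮.1 F G, fun U R hR => ?_⟩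
  haveI : (Stk.resSieve R 𝒳).IsEquivalence := h𝒳.2 R hR
  haveI : (Stk.resSieve R 𝒴).IsEquivalence := h𝒴.2 R hR
  haveI := (h𝒮.2 R hR).1
  haveI := (h𝒮.2 R hR).2
  let p₁ := FibCat.fpFst F G
  let p₂ := FibCat.fpSnd F G
  let a1 : (FibCat.overCat U ⥤ᵇ FibCat.fp F G) → (FibCat.overCat U ⥤ᵇ 𝒳) := fun a => BasedFunctor.comp a p₁
  let a2 : (FibCat.overCat U ⥤ᵇ FibCat.fp F G) → (FibCat.overCat U ⥤ᵇ 𝒴) := fun a => BasedFunctor.comp a p₂
  haveI hfaith : (Stk.resSieve R (FibCat.fp F G)).Faithful := ⟨fun {a b} α β hαβ => by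
    have h1 : BasedCategory.whiskerRight α p₁ = BasedCategory.whiskerRight β p₁ :=
      (Stk.resSieve R 𝒳).map_injective (by
        apply BasedNatTrans.homCategory.ext
        ext w
        exact congrArg (fun k => k.toNatTrans.app w |>.hom.fst) hαβ)
    have h2 : BasedCategory.whiskerRight α p₂ = BasedCategory.whiskerRight β p₂ :=
      (Stk.resSieve R 𝒴).map_injective (by
        apply BasedNatTrans.homCategory.ext
        ext w
        exact congrArg (fun k => k.toNatTrans.app w |>.hom.snd) hαβ)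
    apply BasedNatTrans.homCategory.ext
    apply NatTrans.ext
    funext w
    exact ObjectProperty.hom_ext _ (CategoricalPullback.hom_ext
      (congrArg (fun k => k.toNatTrans.app w) h1) (congrArg (fun k => k.toNatTrans.app w) h2))⟩
  haveI hfull : (Stk.resSieve R (FibCat.fp F G)).Full := ⟨fun {a b} γ => by
    obtain ⟨α₁, hα₁⟩ := (Stk.resSieve R 𝒳).map_surjective (X := a1 a) (Y := a1 b)
      (BasedCategory.whiskerRight γ p₁)
    obtain ⟨α₂, hα₂⟩ := (Stk.resSieve R 𝒴).map_surjective (X := a2 a) (Y := a2 b)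
      (BasedCategory.whiskerRight γ p₂)
    have hw : BasedCategory.whiskerRight α₁ F ≫ BasedCategory.whiskerLeft b (FibCat.fpIso F G).hom =
        BasedCategory.whiskerLeft a (FibCat.fpIso F G).hom ≫ BasedCategory.whiskerRight α₂ G := by
      apply (Stk.resSieve R 𝒮).map_injective
      apply BasedNatTrans.homCategory.ext
      ext w
      have e1 : α₁.toNatTrans.app ((Stk.sieveIncl R).obj w) = (γ.toNatTrans.app w).hom.fst :=
        congrArg (fun k => k.toNatTrans.app w) hα₁
      have e2 : α₂.toNatTrans.app ((Stk.sieveIncl R).obj w) = (γ.toNatTrans.app w).hom.snd :=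
        congrArg (fun k => k.toNatTrans.app w) hα₂
      change F.map (α₁.toNatTrans.app ((Stk.sieveIncl R).obj w)) ≫ (b.obj ((Stk.sieveIncl R).obj w)).obj.iso.hom =
        (a.obj ((Stk.sieveIncl R).obj w)).obj.iso.hom ≫ G.map (α₂.toNatTrans.app ((Stk.sieveIncl R).obj w))
      rw [e1, e2]
      exact (γ.toNatTrans.app w).hom.w
    let α : a ⟶ b :=
      { toNatTrans :=
          { app := fun w => ObjectProperty.homMk ⟨α₁.toNatTrans.app w, α₂.toNatTrans.app w,
              congrArg (fun k => k.toNatTrans.app w) hw⟩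
            naturality := fun w w' m => ObjectProperty.hom_ext _ (CategoricalPullback.hom_ext
              (α₁.toNatTrans.naturality m) (α₂.toNatTrans.naturality m)) }
        isHomLift' := fun w => by
          have h := map_app α₁ w
          exact IsHomLift.of_fac' _ _ _ (a.w_obj w) (b.w_obj w) (h.trans (by simp)) }
    refine ⟨α, ?_⟩
    apply BasedNatTrans.homCategory.ext
    apply NatTrans.ext
    funext w
    exact ObjectProperty.hom_ext _ (CategoricalPullback.hom_ext
      (congrArg (fun k => k.toNatTrans.app w) hα₁) (congrArg (fun k => k.toNatTrans.app w) hα₂))⟩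
  haveI hess : (Stk.resSieve R (FibCat.fp F G)).EssSurj := ⟨fun s => by
    let a := (Stk.resSieve R 𝒳).objPreimage (BasedFunctor.comp s p₁)
    let b := (Stk.resSieve R 𝒴).objPreimage (BasedFunctor.comp s p₂)
    let e₁ := (Stk.resSieve R 𝒳).objObjPreimageIso (BasedFunctor.comp s p₁)
    let e₂ := (Stk.resSieve R 𝒴).objObjPreimageIso (BasedFunctor.comp s p₂)
    let d : (Stk.resSieve R 𝒮).obj (BasedFunctor.comp a F) ≅ (Stk.resSieve R 𝒮).obj (BasedFunctor.comp b G) :=
      BasedNatIso.mkNatIso
        (Functor.isoWhiskerRight ((BasedNatTrans.forgetful _ _).mapIso e₁) F.toFunctor ≪≫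
          Functor.isoWhiskerLeft s.toFunctor ((BasedNatTrans.forgetful _ _).mapIso (FibCat.fpIso F G)) ≪≫
          (Functor.isoWhiskerRight ((BasedNatTrans.forgetful _ _).mapIso e₂) G.toFunctor).symm)
        (fun w => (BasedCategory.whiskerRight e₁.hom F ≫ BasedCategory.whiskerLeft s (FibCat.fpIso F G).hom ≫
          BasedCategory.whiskerRight e₂.inv G).isHomLift rfl)
    let e := (Stk.resSieve R 𝒮).preimageIso d
    have hd : ∀ w, e.hom.toNatTrans.app ((Stk.sieveIncl R).obj w) = d.hom.toNatTrans.app w := fun w =>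
      congrArg (fun k => k.toNatTrans.app w) ((Stk.resSieve R 𝒮).map_preimage d.hom)
    refine ⟨FibCat.fpLift a b e, ⟨BasedNatIso.mkNatIso (NatIso.ofComponents (fun w =>
      ObjectProperty.isoMk _ (CategoricalPullback.mkIso
        (((BasedNatTrans.forgetful _ _).mapIso e₁).app w)
        (((BasedNatTrans.forgetful _ _).mapIso e₂).app w) ?_))
      (fun {w w'} m => ObjectProperty.hom_ext _ (CategoricalPullback.hom_ext
        (e₁.hom.toNatTrans.naturality m) (e₂.hom.toNatTrans.naturality m)))) (fun w => ?_)⟩⟩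
    · change F.map (e₁.hom.toNatTrans.app w) ≫ (s.obj w).obj.iso.hom =
        e.hom.toNatTrans.app ((Stk.sieveIncl R).obj w) ≫ G.map (e₂.hom.toNatTrans.app w)
      rw [hd]
      change _ = (F.map (e₁.hom.toNatTrans.app w) ≫ (s.obj w).obj.iso.hom ≫
        G.map (e₂.inv.toNatTrans.app w)) ≫ G.map (e₂.hom.toNatTrans.app w)
      have hinv : e₂.inv.toNatTrans.app w ≫ e₂.hom.toNatTrans.app w = 𝟙 _ :=
        congrArg (fun k => k.toNatTrans.app w) e₂.inv_hom_id
      rw [Category.assoc, Category.assoc, ← Functor.map_comp, hinv]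
      erw [CategoryTheory.Functor.map_id, Category.comp_id]
    · have h := map_app e₁.hom w
      exact IsHomLift.of_fac' _ _ _ ((BasedFunctor.comp (Stk.sieveIncl R) a).w_obj w) (s.w_obj w)
        (h.trans (by simp))⟩
  exact {}

end Groth.Agent.S12792
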