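import Groth.Statements.S1280
import Groth.Agent.RZUnion.Glue

set_option autoImplicit false
universe u
open FlatMor

namespace Groth.Agent.S1280

open AlgebraicGeometry CategoryTheory Limits in
/-- A compactification in which a dense open stays dense. -/
theorem exists_dense_model {U S : Scheme.{u}} (g : U ⟶ S) (V W : U.Opens) (hle : W ≤ V) (hW : Dense (W : Set U))
    {Y : Scheme.{u}} (j : V.toScheme ⟶ Y) (p : Y ⟶ S) [IsOpenImmersion j] [QuasiCompact j] [IsProper p]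
    (hj : j ≫ p = V.ι ≫ g) :
    ∃ (Y' : Scheme.{u}) (j' : V.toScheme ⟶ Y') (p' : Y' ⟶ S), IsOpenImmersion j' ∧ IsProper p' ∧
      j' ≫ p' = V.ι ≫ g ∧ Dense (Set.range (U.homOfLE hle ≫ j')) := by
  obtain ⟨-, ho, -⟩ := Groth.Agent.RZExt.image_proj j (𝟙 Y) j (Category.comp_id j)
  refine ⟨j.image, j.toImage, j.imageι ≫ p, ho, inferInstance, by rw [Scheme.Hom.toImage_imageι_assoc, hj], ?_⟩
  have h1 : Dense (Set.range (U.homOfLE hle)) := by
    have h2 : Set.range (U.homOfLE hle) = V.ι ⁻¹' (W : Set U) := by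
      ext v
      constructor
      · rintro ⟨w, rfl⟩
        show V.ι _ ∈ W
        rw [← Scheme.Hom.comp_apply, Scheme.homOfLE_ι]
        exact w.2
      · intro hv
        exact ⟨⟨v.1, hv⟩, V.ι.isOpenEmbedding.injective
          ((Scheme.Hom.comp_apply _ _ _).symm.trans (congrArg (fun k : W.toScheme ⟶ U => k ⟨v.1, hv⟩) (U.homOfLE_ι hle)))⟩
    rw [h2]
    exact hW.preimage V.ι.isOpenEmbedding.isOpenMap
  have h3 : Set.range (U.homOfLE hle ≫ j.toImage) = j.toImage '' Set.range (U.homOfLE hle) := by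
    rw [← Set.range_comp]
    exact congrArg Set.range (funext fun w => Scheme.Hom.comp_apply _ _ w)
  rw [h3]
  exact (Scheme.Hom.denseRange j.toImage).dense_image j.toImage.continuous h1

open AlgebraicGeometry CategoryTheory Limits in
/-- Let S be a Noetherian scheme and U → S separated and of finite type. Suppose U = U₁ ∪ U₂ with U₁ ∩
U₂ dense in U, and that each U_i has a compactification over S (a quasi-compact open immersion over
S into a scheme proper over S). Then U has a compactification over S. -/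
theorem result {U S : Scheme.{u}} [IsNoetherian S] (g : U ⟶ S) [IsSeparated g] [LocallyOfFiniteType g] [QuasiCompact g]
    (U₁ U₂ : U.Opens) (hcov : U₁ ⊔ U₂ = ⊤) (hdense : Dense ((U₁ ⊓ U₂ : U.Opens) : Set U))
    (h₁ : ∃ (Y : Scheme.{u}) (j : (U₁ : Scheme.{u}) ⟶ Y) (p : Y ⟶ S), IsOpenImmersion j ∧ QuasiCompact j ∧ IsProper p ∧ j ≫ p = U₁.ι ≫ g)
    (h₂ : ∃ (Y : Scheme.{u}) (j : (U₂ : Scheme.{u}) ⟶ Y) (p : Y ⟶ S), IsOpenImmersion j ∧ QuasiCompact j ∧ IsProper p ∧ j ≫ p = U₂.ι ≫ g) :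
    ∃ (Y : Scheme.{u}) (j : U ⟶ Y) (p : Y ⟶ S), IsOpenImmersion j ∧ QuasiCompact j ∧ IsProper p ∧ j ≫ p = g := by
  obtain ⟨Y₁, j₁, p₁, _, _, _, hj₁⟩ := h₁
  obtain ⟨Y₂, j₂, p₂, _, _, _, hj₂⟩ := h₂
  obtain ⟨Y₁', j₁', p₁', ho₁, hp₁, ho₁', hd₁⟩ := exists_dense_model g U₁ (U₁ ⊓ U₂) inf_le_left hdense j₁ p₁ hj₁
  obtain ⟨Y₂', j₂', p₂', ho₂, hp₂, ho₂', hd₂⟩ := exists_dense_model g U₂ (U₁ ⊓ U₂) inf_le_right hdense j₂ p₂ hj₂
  haveI : CompactSpace U := QuasiCompact.compactSpace_of_compactSpace g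
  haveI := LocallyOfFiniteType.isLocallyNoetherian g
  haveI : IsNoetherian U := {}
  haveI : CompactSpace (U₁ ⊓ U₂).toScheme := isCompact_iff_compactSpace.1 (TopologicalSpace.NoetherianSpace.isCompact _)
  obtain ⟨Y, j, p, hj, hp, hjp⟩ := Groth.Agent.RZUnion.exists_compactification
    (g := g) ⟨U₁, U₂, U₁ ⊓ U₂, hcov, inf_le_left, inf_le_right, fun x a b => ⟨a, b⟩, Y₁', Y₂', p₁', p₂', hp₁, hp₂,
      j₁', j₂', ho₁, ho₂, ho₁', ho₂', hd₁, hd₂⟩
  haveI : QuasiSeparatedSpace Y := quasiSeparatedSpace_of_quasiSeparated p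
  exact ⟨Y, j, p, hj, quasiCompact_of_compactSpace j, hp, hjp⟩

end Groth.Agent.S1280
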