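import Groth.Statements.S12807
import Groth.Agent.FibCatRep.Cart

set_option autoImplicit false
set_option linter.style.haveILetI false
open CategoryTheory Groth.Agent.FibCatRep

open CategoryTheory CategoryTheory.Limits
universe v₃ u₃ v₂ u₂ v u
open FibCat

namespace Groth.Agent.S12807

/-- Let `u : C ⥤ D` be a functor and `𝒮` a category over `D` whose structure functor is a fibred
category. Then the 2-fibre product `C ×_D 𝒮` of `u` and the structure functor (triples `(U, y, u U ≅
p y)`), with its first projection, is a fibred category over `C`. (The published statement uses the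
strict fibre product, pairs with `u U = p y`; for `𝒮` fibred over `D` it is equivalent over `C` to
the 2-fibre product used here.) -/
theorem result {C : Type u} [Category.{v} C] {D : Type u₂} [Category.{v₂} D] (u : C ⥤ D)
    (𝒮 : BasedCategory.{v₃, u₃} D) [𝒮.p.IsFibered] :
    (CategoricalPullback.π₁ u 𝒮.p).IsFibered := by
  refine isFibered_of_lifts fun o V f => ?_
  let f' : V ⟶ o.fst := f
  obtain ⟨z, ψ, hz, hψ, hc⟩ := exists_cart_lift (p := 𝒮.p) (x := o.snd) (u.map f' ≫ o.iso.hom)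
  let o' : CategoricalPullback u 𝒮.p := ⟨V, z, eqToIso hz.symm⟩
  have hw : u.map f' ≫ o.iso.hom = eqToHom hz.symm ≫ 𝒮.p.map ψ := by simp [hψ]
  let m : o' ⟶ o := ⟨f', ψ, hw⟩
  refine ⟨o', m, rfl, (Category.id_comp f).symm, cart_mk m fun {a} φ g hg => ?_⟩
  let g' : a.fst ⟶ V := g
  replace hg : g' ≫ f' = φ.fst := hg
  obtain ⟨χ₂, ⟨hχ, hc₂⟩, hu⟩ := existsUnique_of_cart hc φ.snd
    (a.iso.inv ≫ u.map g' ≫ eqToHom hz.symm) (by
      simp only [hψ, Category.assoc, eqToHom_trans_assoc, eqToHom_refl, Category.id_comp]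
      rw [← Functor.map_comp_assoc, hg, φ.w, Iso.inv_hom_id_assoc])
  have hw' : u.map g' ≫ eqToHom hz.symm = a.iso.hom ≫ 𝒮.p.map χ₂ := by simp [hχ]
  refine ⟨⟨g', χ₂, hw'⟩, ⟨rfl, CategoricalPullback.hom_ext hg hc₂⟩, fun χ hχ' => ?_⟩
  have h1 : χ.fst = g' := hχ'.1
  refine CategoricalPullback.hom_ext h1 (hu _ ⟨?_, congrArg (fun k => k.snd) hχ'.2⟩)
  have hw := χ.w
  rw [h1] at hw
  rw [Iso.eq_inv_comp]
  exact hw.symm

end Groth.Agent.S12807
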