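import Groth.Statements.S12810
import Groth.Agent.FibCat2Misc.Grpd
import Groth.Agent.StkBasic.Transport

set_option autoImplicit false
set_option backward.isDefEq.respectTransparency false
set_option backward.isDefEq.respectTransparency.types false
open CategoryTheory
universe v u
open Stk

namespace Groth.Agent.S12810

/-- If two categories over `C` are equivalent in the 2-category of categories over `C`, then one is a
stack in setoids for the topology `J` (a stack in groupoids fibred in setoids) if and only if the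
other is. -/
theorem result {C : Type u} [Category.{v} C] (J : GrothendieckTopology C) {𝒳 𝒴 : BasedCategory.{v, max u v} C}
    (F : 𝒳 ⥤ᵇ 𝒴) (hF : FibCat.IsEquivOver F) :
    (Stk.IsStack J 𝒳 ∧ FibCat.IsFibSetoid 𝒳.p) ↔ (Stk.IsStack J 𝒴 ∧ FibCat.IsFibSetoid 𝒴.p) := by
  obtain ⟨G, hG, -, -⟩ := Groth.Agent.FibCat2Misc.isEquivOver_symm hF
  exact ⟨fun h => ⟨Groth.Agent.StkBasic.isStack_of_equiv hF J h.1, Groth.Agent.FibCat2Misc.isFibSetoid_of_equiv hF h.2⟩,
    fun h => ⟨Groth.Agent.StkBasic.isStack_of_equiv hG J h.1, Groth.Agent.FibCat2Misc.isFibSetoid_of_equiv hG h.2⟩⟩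

end Groth.Agent.S12810
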