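import Groth.Statements.S1283
import Groth.Agent.RZExt.Torsion
-- import your own Groth.Agent.* helpers here

set_option autoImplicit false
universe u
open FlatMor

namespace Groth.Agent.S1283

open AlgebraicGeometry CategoryTheory Limits in
/-- Let φ : X → S be separated and of finite type with S quasi-compact and quasi-separated, and U ⊆ S a
quasi-compact open over which φ is an isomorphism. Then there is a U-admissible blow-up b : S' → S
such that the strict transform X'' of X (the closed subscheme of X ×_S S' cut out by the functions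
locally killed by a power of the pulled-back exceptional ideal) maps to S' by an open immersion. -/
theorem result {X S : Scheme.{u}} [CompactSpace S] [QuasiSeparatedSpace S]
    (φ : X ⟶ S) [IsSeparated φ] [LocallyOfFiniteType φ] [QuasiCompact φ] (U : S.Opens) (hU : IsCompact (U : Set S)) [IsIso (φ ∣_ U)] :
    ∃ (𝓘 : S.IdealSheafData) (S' : Scheme.{u}) (b : S' ⟶ S), BlowUp.IsBlowUp b 𝓘 ∧ BlowUp.IsAdmissibleFor U 𝓘 ∧
      ∀ (X' : Scheme.{u}) (p₁ : X' ⟶ X) (p₂ : X' ⟶ S'), IsPullback p₁ p₂ φ b →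
      ∀ (𝒥 : X'.IdealSheafData),
        (∀ (W : X'.affineOpens) (a : Γ(X', W.1)), a ∈ 𝒥.ideal W ↔
          BlowUp.KilledByPowerNear ((𝓘.comap φ).comap p₁) (Coh.structureModule X') W a) →
        IsOpenImmersion (𝒥.subschemeι ≫ p₂) := by
  haveI := Groth.Agent.RZExt.nonempty_centre U hU
  have hs : (inv (φ ∣_ U) ≫ (φ ⁻¹ᵁ U).ι) ≫ φ = U.ι := by
    rw [Category.assoc, ← morphismRestrict_ι, IsIso.inv_hom_id_assoc]
  obtain ⟨I, Q, hQ⟩ := Groth.Agent.RZExt.exists_closure_over_piece (f := φ) hU hs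
  refine ⟨I.ideal, I.T, I.b, I.isBlowUp, ⟨I.ft, by rw [I.supp]; exact disjoint_compl_left⟩,
    fun X' p₁ p₂ hpb 𝒥 h𝒥 => ?_⟩
  obtain ⟨π, hπi, hπ⟩ := Groth.Agent.RZExt.strictTransform_iso hs I Q hQ hpb 𝒥
    (Groth.Agent.RZExt.IsTorsionIdeal.of_killed h𝒥)
  rw [← hπ]
  infer_instance

end Groth.Agent.S1283
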