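import Groth.Agent.AlgStLib.QuotMap
import Groth.Prelude.Def_AlgSt5
import Groth.Prelude.Def_AlgSt2
import Groth.Prelude.Def_AlgGrp
import Mathlib.AlgebraicGeometry.Sites.Fpqc
import Mathlib.CategoryTheory.Monoidal.Cartesian.Grp

set_option autoImplicit false
universe u
open CategoryTheory AlgebraicGeometry
open AlgSt

set_option backward.isDefEq.respectTransparency false

namespace Groth.Agent.S12838

open MonoidalCategory CartesianMonoidalCategory MonObj GrpObj in
/-- Let `G` be a group scheme over `S` acting on an `S`-scheme `X`, `f : T ⟶ T'` a morphism of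
`S`-schemes, `x` a `T`-point and `x'` a `T'`-point of `X`. In the quotient category `[X/G]` (scheme
torsors for the fppf topology with an equivariant morphism to `X`) the canonical functor `X ⟶ [X/G]`
sends `x` to the trivial torsor `G ×_S T ⟶ T`, with `G` acting by left multiplication on the first
factor and the equivariant morphism `(h, t) ↦ h · x(t)`, and likewise for `x'`. The morphisms from
the image of `x` to the image of `x'` lying over `f` are exactly the maps `(h, t) ↦ (h · g(t),
f(t))` for those `T`-points `g` of `G` with `g · (x' ∘ f) = x`: every morphism over `f` is of this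
form, and every such `g` defines one. -/
theorem result (S : Scheme.{u}) (G : Over S) [GrpObj G] (X : Over S)
    (aX : AlgGrp.Action G X) (T T' : Over S) (f : T ⟶ T') (x : T ⟶ X) (x' : T' ⟶ X) :
    (∀ h : (AlgSt.quotMap Scheme.fppfPrecoverage G aX).obj ((AlgSt.ofOverCat X).obj (Over.mk x)) ⟶ (AlgSt.quotMap Scheme.fppfPrecoverage G aX).obj ((AlgSt.ofOverCat X).obj (Over.mk x')),
        h.base = f → ∃ g : T ⟶ G, lift g (f ≫ x') ≫ aX.act = x ∧
          h.top = lift (fst G T * (snd G T ≫ g)) (snd G T ≫ f)) ∧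
    (∀ g : T ⟶ G, lift g (f ≫ x') ≫ aX.act = x →
        ∃ h : (AlgSt.quotMap Scheme.fppfPrecoverage G aX).obj ((AlgSt.ofOverCat X).obj (Over.mk x)) ⟶ (AlgSt.quotMap Scheme.fppfPrecoverage G aX).obj ((AlgSt.ofOverCat X).obj (Over.mk x')),
          h.base = f ∧ h.top = lift (fst G T * (snd G T ≫ g)) (snd G T ≫ f)) := by
  refine ⟨fun h hb => ?_, fun g hg => ?_⟩
  · subst hb
    have w : h.top ≫ snd G T' = snd G T ≫ h.base := h.cart.w
    have htop := Groth.Agent.AlgStLib.leftMul_hom_eq (T := T) (T' := T') h.top h.base h.eqv w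
    refine ⟨lift (1 : T ⟶ G) (𝟙 T) ≫ h.top ≫ fst G T', ?_, htop⟩
    have hw : h.top ≫ (G ◁ x') ≫ aX.act = (G ◁ x) ≫ aX.act := h.wφ
    generalize lift (1 : T ⟶ G) (𝟙 T) ≫ h.top ≫ fst G T' = g at htop ⊢
    rw [htop] at hw
    have hf := (Groth.Agent.AlgStLib.wf_iff aX g h.base x').symm.trans hw
    have := lift (1 : T ⟶ G) (𝟙 T) ≫= hf
    simp only [lift_whiskerLeft_assoc, Category.id_comp] at this
    exact ((Groth.Agent.Torsor.one_smul aX _).symm.trans this).trans (Groth.Agent.Torsor.one_smul aX x)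
  · refine ⟨{ base := f, top := lift (fst G T * (snd G T ≫ g)) (snd G T ≫ f)
              eqv := ?_, cart := Groth.Agent.AlgStLib.isPullback_rightMul g f, wφ := ?_ }, rfl, rfl⟩
    · show (AlgSt.leftMul G T).act ≫ lift (fst G T * (snd G T ≫ g)) (snd G T ≫ f) =
        (G ◁ lift (fst G T * (snd G T ≫ g)) (snd G T ≫ f)) ≫ (AlgSt.leftMul G T').act
      have e : (G ◁ lift (fst G T * (snd G T ≫ g)) (snd G T ≫ f)) =
          lift (fst G (G ⊗ T)) (snd G (G ⊗ T) ≫ lift (fst G T * (snd G T ≫ g)) (snd G T ≫ f)) :=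
        CartesianMonoidalCategory.hom_ext _ _ (by simp) (by simp)
      rw [e, Groth.Agent.AlgStLib.comp_leftMul]
      simp only [AlgSt.leftMul, comp_lift, comp_mul, lift_fst, lift_snd, lift_snd_assoc, Category.assoc, _root_.mul_assoc]
    · show lift (fst G T * (snd G T ≫ g)) (snd G T ≫ f) ≫ (G ◁ x') ≫ aX.act = (G ◁ x) ≫ aX.act
      rw [Groth.Agent.AlgStLib.wf_iff aX g f x', hg]

end Groth.Agent.S12838
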