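import Groth.Agent.AlgStLib.QuotMap
import Groth.Prelude.Def_AlgSt5
import Groth.Prelude.Def_AlgSt2
import Groth.Prelude.Def_AlgGrp
import Mathlib.AlgebraicGeometry.Sites.Fpqc

set_option autoImplicit false
universe u
open CategoryTheory AlgebraicGeometry
open MonoidalCategory CartesianMonoidalCategory MonObj GrpObj
open AlgSt

set_option backward.isDefEq.respectTransparency false

namespace Groth.Agent.S12839

/-- Let `G` be a group scheme over `S` acting on an `S`-scheme `X` and let `A` be an object of the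
quotient category `[X/G]` over the `S`-scheme `T` — a `G`-torsor `P ⟶ T` for the fppf topology which
is a scheme, with an equivariant `P ⟶ X`. Then there is an fppf covering family of `T` such that for
every member `f : T' ⟶ T` there are a `T'`-point `x` of `X` and a morphism of `[X/G]` lying over `f`
from the image of `x` under the canonical functor `X ⟶ [X/G]` (the trivial torsor `G ×_S T'` with
`(h, t) ↦ h · x(t)`) to `A`: every object is, fppf-locally on its base, isomorphic to a trivial one. -/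
theorem result (S : Scheme.{u}) (G : Over S) [GrpObj G] (X : Over S)
    (aX : AlgGrp.Action G X) (A : AlgSt.QuotObj Scheme.fppfPrecoverage G aX) :
    ∃ (R : Presieve A.base.left) (_ : R ∈ Scheme.fppfPrecoverage A.base.left),
      ∀ ⦃T' : Scheme.{u}⦄ (f : T' ⟶ A.base.left), R f →
        ∃ (x : Over.mk (f ≫ A.base.hom) ⟶ X)
          (h : (AlgSt.quotMap Scheme.fppfPrecoverage G aX).obj ((AlgSt.ofOverCat X).obj (Over.mk x)) ⟶ A),
          h.base = Over.homMk f rfl := by
  obtain ⟨R, hR, hs⟩ := A.loc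
  refine ⟨R, hR, fun T' f hf => ?_⟩
  obtain ⟨s, hs'⟩ := hs f hf
  let T₁ : Over S := Over.mk (f ≫ A.base.hom)
  let σ : T₁ ⟶ A.P := Over.homMk s (by
    show s ≫ A.P.hom = f ≫ A.base.hom
    rw [← Over.w A.π, ← Category.assoc]
    exact congrArg (· ≫ A.base.hom) hs')
  have hσ : σ ≫ A.π = Over.homMk f rfl := Over.OverMorphism.ext hs'
  refine ⟨σ ≫ A.φ, { base := Over.homMk f rfl, top := (G ◁ σ) ≫ A.act.act, eqv := ?_, cart := ?_, wφ := ?_ }, rfl⟩
  · show (AlgSt.leftMul G T₁).act ≫ (G ◁ σ) ≫ A.act.act = (G ◁ ((G ◁ σ) ≫ A.act.act)) ≫ A.act.act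
    have e₁ : (AlgSt.leftMul G T₁).act ≫ (G ◁ σ) ≫ A.act.act = Groth.Agent.Torsor.smul A.act
        (fst G (G ⊗ T₁) * (snd G (G ⊗ T₁) ≫ fst G T₁)) (snd G (G ⊗ T₁) ≫ snd G T₁ ≫ σ) := by
      simp only [AlgSt.leftMul, lift_whiskerLeft_assoc, Category.assoc]
      rfl
    have e₂ : (G ◁ ((G ◁ σ) ≫ A.act.act)) ≫ A.act.act = Groth.Agent.Torsor.smul A.act (fst G (G ⊗ T₁))
        (snd G (G ⊗ T₁) ≫ Groth.Agent.Torsor.smul A.act (fst G T₁) (snd G T₁ ≫ σ)) := by
      show _ = lift (fst G (G ⊗ T₁)) (snd G (G ⊗ T₁) ≫ lift (fst G T₁) (snd G T₁ ≫ σ) ≫ A.act.act) ≫ A.act.act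
      congr 1
    rw [e₁, e₂, Groth.Agent.Torsor.comp_smul, ← Groth.Agent.Torsor.mul_smul]
  · have := (AlgSt.isPullback_whiskerLeft (G := G) σ).paste_horiz A.cart
    rwa [hσ] at this
  · show ((G ◁ σ) ≫ A.act.act) ≫ A.φ = (G ◁ (σ ≫ A.φ)) ≫ aX.act
    rw [Category.assoc, A.eqv, MonoidalCategory.whiskerLeft_comp, Category.assoc]

end Groth.Agent.S12839
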