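import Groth.Statements.S1284
import Groth.Agent.FlatBlowUp.QFinite

set_option autoImplicit false
set_option backward.isDefEq.respectTransparency false
set_option backward.isDefEq.respectTransparency.types false
universe u
open FlatMor

namespace Groth.Agent.S1284

open AlgebraicGeometry CategoryTheory Limits in
/-- Let φ : X → S be proper with S quasi-compact and quasi-separated, and U ⊆ S a quasi-compact open
over which φ is finite locally free. Then there is a U-admissible blow-up b : S' → S such that the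
strict transform X'' of X (the closed subscheme of X ×_S S' cut out by the functions locally killed
by a power of the pulled-back exceptional ideal) is finite locally free over S'. -/
theorem result {X S : Scheme.{u}} [CompactSpace S] [QuasiSeparatedSpace S]
    (φ : X ⟶ S) [IsProper φ] (U : S.Opens) (hU : IsCompact (U : Set S)) (hfl : Mor2.IsFinLocFree (φ ∣_ U)) :
    ∃ (𝓘 : S.IdealSheafData) (S' : Scheme.{u}) (b : S' ⟶ S), BlowUp.IsBlowUp b 𝓘 ∧ BlowUp.IsAdmissibleFor U 𝓘 ∧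
      ∀ (X' : Scheme.{u}) (p₁ : X' ⟶ X) (p₂ : X' ⟶ S'), IsPullback p₁ p₂ φ b →
      ∀ (𝒥 : X'.IdealSheafData),
        (∀ (W : X'.affineOpens) (a : Γ(X', W.1)), a ∈ 𝒥.ideal W ↔
          BlowUp.KilledByPowerNear ((𝓘.comap φ).comap p₁) (Coh.structureModule X') W a) →
        Mor2.IsFinLocFree (𝒥.subschemeι ≫ p₂) := by
  obtain ⟨hfin, hflat, hlfp⟩ := hfl
  obtain ⟨J, hJ⟩ := Groth.Agent.FlatBlowUp.exists_flattening_centre φ U hU
  refine ⟨J.ideal, J.T, J.b, J.isBlowUp, ⟨J.ft, ?_⟩, fun X' p₁ p₂ hpb 𝒥 h𝒥 => ?_⟩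
  · rw [J.supp]; exact disjoint_compl_left
  · obtain ⟨h1, h2⟩ := hJ J le_rfl X' p₁ p₂ hpb 𝒥 (Groth.Agent.RZExt.IsTorsionIdeal.of_killed h𝒥)
    haveI : IsProper p₂ := MorphismProperty.of_isPullback hpb ‹IsProper φ›
    have hr : Set.range ((p₂ ⁻¹ᵁ (J.b ⁻¹ᵁ U)).ι ≫ p₁) ⊆ Set.range (φ ⁻¹ᵁ U).ι := by
      rintro _ ⟨z, rfl⟩
      rw [Scheme.Opens.range_ι]
      show φ (p₁ z.1) ∈ U
      rw [← Scheme.Hom.comp_apply p₁ φ, hpb.w, Scheme.Hom.comp_apply]
      exact z.2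
    let q := IsOpenImmersion.lift (φ ⁻¹ᵁ U).ι ((p₂ ⁻¹ᵁ (J.b ⁻¹ᵁ U)).ι ≫ p₁) hr
    have hq : q ≫ (φ ⁻¹ᵁ U).ι = (p₂ ⁻¹ᵁ (J.b ⁻¹ᵁ U)).ι ≫ p₁ := IsOpenImmersion.lift_fac _ _ _
    have hsq : IsPullback q (p₂ ∣_ (J.b ⁻¹ᵁ U)) (φ ∣_ U) (J.b ∣_ U) := by
      refine IsPullback.of_right ?_ ?_ (isPullback_morphismRestrict φ U).flip
      · rw [hq, morphismRestrict_ι]
        exact ((isPullback_morphismRestrict p₂ (J.b ⁻¹ᵁ U)).flip.paste_horiz hpb)
      · rw [← cancel_mono U.ι]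
        simp [reassoc_of% hq, hpb.w]
    haveI : IsFinite (p₂ ∣_ (J.b ⁻¹ᵁ U)) := MorphismProperty.of_isPullback hsq hfin
    haveI : LocallyQuasiFinite ((𝒥.subschemeι ≫ p₂) ∣_ (J.b ⁻¹ᵁ U)) := by
      rw [morphismRestrict_comp]; infer_instance
    refine ⟨?_, h1, h2⟩
    exact Groth.Agent.FlatBlowUp.isFinite_of_flat_of_cartier (𝒥.subschemeι ≫ p₂) _ J.isBlowUp.1 (J.b ⁻¹ᵁ U)
      fun t ht => not_not.1 fun h => ht ((Groth.Agent.RZExt.Centre.mem_support_comap_iff J J t).2 h)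

end Groth.Agent.S1284
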