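import Groth.Agent.AlgStLib.DiagProps
import Groth.Prelude.Def_AlgSt3
import Groth.Prelude.Def_AlgSt2
import Groth.Prelude.Def_AlgSt
import Groth.Prelude.Def_FibCat2
import Groth.Prelude.Def_AlgSp
import Groth.Prelude.Def_AlgSp3
import Groth.Prelude.Def_AlgSp4

set_option autoImplicit false
open CategoryTheory AlgebraicGeometry
universe u
open AlgSt

set_option backward.isDefEq.respectTransparency false

namespace Groth.Agent.S12841

/-- (1) ⇔ (4): let `f : 𝒳 ⟶ 𝒴` be a 1-morphism of algebraic stacks over `S`, `W` an algebraic space over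
`S` and `w : W ⟶ 𝒴` surjective, flat and locally of finite presentation. Then `f` is a monomorphism
if and only if `W ×_𝒴 𝒳` is an algebraic space `V` and the projection `V ⟶ W` is a monomorphism of
algebraic spaces. The projection is named through an equivalence `e` over `(Sch/S)` from the
category of `V` to the 2-fibre product whose composite with the first projection is 2-isomorphic to
the functor of a morphism `a : V ⟶ W`; being a monomorphism does not depend on these choices. -/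
theorem result {S : Scheme.{u}} {𝒳 𝒴 : AlgSt.Cat S}
    (h𝒳 : AlgSt.IsAlgStack Scheme.fppfPrecoverage 𝒳) (h𝒴 : AlgSt.IsAlgStack Scheme.fppfPrecoverage 𝒴)
    (f : 𝒳 ⥤ᵇ 𝒴) (W : AlgSp.Space S) (w : AlgSt.ofSp W.obj ⥤ᵇ 𝒴)
    (hw₁ : AlgSt.RepByAlgSpWith (AlgSp.LocP @Flat) w)
    (hw₂ : AlgSt.RepByAlgSpWith (AlgSp.LocP @LocallyOfFinitePresentation) w)
    (hw₃ : AlgSt.RepByAlgSpWith AlgSp.IsSurjectiveMor w) :
    AlgSt.IsMono f ↔
      ∃ (V : AlgSp.Space S) (a : V ⟶ W) (e : AlgSt.ofSp V.obj ⥤ᵇ FibCat.fp w f),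
        FibCat.IsEquivOver e ∧
          Nonempty (BasedFunctor.comp e (FibCat.fpFst w f) ≅ AlgSt.ofSpMap a.hom) ∧ Mono a.hom := by
  refine ⟨fun h => ?_, fun ⟨V, a, e, he, ⟨i⟩, ha⟩ => ?_⟩
  · exact Groth.Agent.AlgStLib.exists_model_of_repWith Groth.Agent.AlgStLib.cls_mono.bc Groth.Agent.AlgStLib.cls_mono.loc h𝒳.isStack.1 h𝒴.isStack.1 h W w
  · have h := Groth.Agent.AlgStLib.repWith_fpFst_of_model (Q := MorphismProperty.monomorphisms (AlgSp.Sp S)) Groth.Agent.AlgStLib.cls_mono.bc he i ha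
    exact Groth.Agent.AlgStLib.repWith_of_lifts Groth.Agent.AlgStLib.cls_mono.bc Groth.Agent.AlgStLib.cls_mono.loc
      (Groth.Agent.AlgStLib.repByAlgSp1_of_lifts h𝒳 h𝒴 (Groth.Agent.AlgStLib.lifts_of_fppf hw₁ hw₂ hw₃) (Groth.Agent.AlgStLib.repByAlgSp1_of_with h)) (Groth.Agent.AlgStLib.lifts_of_fppf hw₁ hw₂ hw₃) h

end Groth.Agent.S12841
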