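import Groth.Statements.S1285
import Groth.Agent.RG.Dev.FibreSupport
import Groth.Agent.RG.Dev.GenericFree

set_option autoImplicit false
open Groth.Agent
open TensorProduct
attribute [local instance] Algebra.TensorProduct.rightAlgebra
universe u
open FlatMor

namespace Groth.Agent.S1285

/-- Let (C, D, G) be a one-step dévissage of N/S/R over the prime p (see FlatCA.IsOneStepDevissage), and
suppose pD is prime (the generic point of the fibre of Spec D). Then there are r > 0 and a D-linear
map α from D^r to G which becomes bijective after base change to the residue field of pD; moreover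
for every such α the support of the fibre module over p of the cokernel of α has dimension strictly
less than that of the fibre module of N. -/
theorem result {R S : Type u} [CommRing R] [CommRing S] [Algebra R S] [Algebra.FiniteType R S]
    (N : Type u) [AddCommGroup N] [Module S N] [Module R N] [IsScalarTower R S N] [Module.Finite S N] (p : Ideal R) [p.IsPrime]
    (C D G : Type u) [CommRing C] [CommRing D] [Algebra S C] [Algebra R C] [IsScalarTower R S C]
    [Algebra R D] [Algebra D C] [IsScalarTower R D C] [AddCommGroup G] [Module C G] [Module S G] [IsScalarTower S C G]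
    [Module D G] [IsScalarTower D C G] [Module R G] [IsScalarTower R D G]
    (n : ℕ) (h : FlatCA.IsOneStepDevissage R S N p C D G n) [(p.map (algebraMap R D)).IsPrime] :
    (∃ (r : ℕ) (α : (Fin r → D) →ₗ[D] G), 0 < r ∧ Function.Bijective (α.baseChange (p.map (algebraMap R D)).ResidueField)) ∧
    ∀ (r : ℕ) (α : (Fin r → D) →ₗ[D] G), Function.Bijective (α.baseChange (p.map (algebraMap R D)).ResidueField) →
      Module.supportDim (p.Fiber D) (FlatCA.fiberMod p D (G ⧸ LinearMap.range α)) < (n : WithBot ℕ∞) := by
  classical
  obtain ⟨⟨eN⟩, hsurj, hfpC, hDC, hCG, hsm, hirr, hdim⟩ := h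
  haveI := hDC
  haveI := hCG
  haveI : Module.Finite D G := Module.Finite.trans C G
  haveI : Module.Finite S C := Module.Finite.of_surjective (Algebra.linearMap S C) hsurj
  haveI : AlgebraicGeometry.SmoothOfRelativeDimension n
      (AlgebraicGeometry.Spec.map (CommRingCat.ofHom (algebraMap R D))) := hsm
  haveI : AlgebraicGeometry.Smooth (AlgebraicGeometry.Spec.map (CommRingCat.ofHom (algebraMap R D))) :=
    AlgebraicGeometry.SmoothOfRelativeDimension.smooth n _
  haveI : Algebra.Smooth R D := by
    have h1 := (AlgebraicGeometry.HasRingHomProperty.Spec_iff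
      (P := @AlgebraicGeometry.Smooth) (φ := CommRingCat.ofHom (algebraMap R D))).1 inferInstance
    exact RingHom.smooth_algebraMap.1 h1
  have hgi := RG.Dev.geomIntegral_of_smooth hirr
  let ξ := p.map (algebraMap R D)
  have hξ : ξ.comap (algebraMap R D) = p := RG.Dev.comap_map_prime hirr p
  haveI : IsDomain (p.Fiber D) := by
    haveI := RG.Pure.isDomain_baseChange_field hgi p.ResidueField
    exact (Algebra.TensorProduct.comm R p.ResidueField D).toRingEquiv.injective.isDomain
      (Algebra.TensorProduct.comm R p.ResidueField D).toRingEquiv.toRingHom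
  have key : ∀ (X : Type u) [AddCommGroup X] [Module D X] [Module.Finite D X],
      Subsingleton (ξ.ResidueField ⊗[D] X) →
      Module.supportDim (p.Fiber D) (FlatCA.fiberMod p D X) < (n : WithBot ℕ∞) := by
    intro X _ _ _ h0
    exact RG.Dev.supportDim_fiberMod_lt hsm p ξ hξ X h0
  have hdimG : Module.supportDim (p.Fiber D) (FlatCA.fiberMod p D G) = n := by
    rw [RG.Dev.supportDim_fiberMod_finite (S := D) (C := C) p G, ← RG.Dev.supportDim_fiberMod_finite (S := S) (C := C) p G, ← hdim]
    let e : p.Fiber S ⊗[S] G ≃ₗ[p.Fiber S] p.Fiber S ⊗[S] N :=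
      TensorProduct.AlgebraTensorModule.congr (LinearEquiv.refl _ _) eN.symm
    exact Module.supportDim_eq_of_equiv e
  constructor
  · obtain ⟨r, α, hα⟩ := RG.Dev.exists_bijective_residue ξ G
    refine ⟨r, α, Nat.pos_of_ne_zero fun hr => ?_, hα⟩
    subst hr
    have h0 : Subsingleton (ξ.ResidueField ⊗[D] G) := by
      haveI : Subsingleton (Fin 0 → D) := inferInstance
      haveI : Subsingleton (ξ.ResidueField ⊗[D] (Fin 0 → D)) :=
        (TensorProduct.comm D _ _).toEquiv.subsingleton
      exact hα.2.subsingleton
    exact (hdimG ▸ key G h0).false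
  · intro r α hα
    refine key _ ?_
    refine ⟨fun a b => ?_⟩
    suffices ∀ z : ξ.ResidueField ⊗[D] (G ⧸ LinearMap.range α), z = 0 by rw [this a, this b]
    intro z
    obtain ⟨w, rfl⟩ := LinearMap.baseChange_surjective ξ.ResidueField (Submodule.mkQ_surjective (LinearMap.range α)) z
    obtain ⟨v, rfl⟩ := hα.2 w
    have hcomp : ((LinearMap.range α).mkQ.baseChange ξ.ResidueField).comp (α.baseChange ξ.ResidueField) = 0 := by
      rw [← LinearMap.baseChange_comp, LinearMap.range_mkQ_comp, LinearMap.baseChange_zero]
    exact LinearMap.congr_fun hcomp v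

end Groth.Agent.S1285
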