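import Groth.Agent.AlgStLib.Misc1
import Groth.Prelude.Def_AlgSt3
import Groth.Prelude.Def_AlgSt2
import Groth.Prelude.Def_AlgSt
import Groth.Prelude.Def_FibCat2
import Groth.Prelude.Def_AlgSp
import Groth.Prelude.Def_AlgSp3
import Groth.Prelude.Def_AlgSp4
import Groth.Prelude.Def_AlgSpCov

set_option autoImplicit false
open CategoryTheory AlgebraicGeometry
universe u
open AlgSt

set_option backward.isDefEq.respectTransparency false

namespace Groth.Agent.S12850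

/-- Let `P` be a property of morphisms of algebraic spaces over `S` which is stable under base change,
fppf local on the base and local on the source in the etale topology; let `x : 𝒳 ⟶ 𝒴` and `y : 𝒴 ⟶
𝒵` be 1-morphisms of algebraic stacks over `S` representable by algebraic spaces with `x` surjective
and etale. If `y ∘ x` has `P` then `y` has `P`. (Stability under base change is asked for every
pullback square of fppf sheaves whose four corners are algebraic spaces.) -/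
theorem result {S : Scheme.{u}} {𝒳 𝒴 𝒵 : AlgSt.Cat S}
    (h𝒳 : AlgSt.IsAlgStack Scheme.fppfPrecoverage 𝒳) (h𝒴 : AlgSt.IsAlgStack Scheme.fppfPrecoverage 𝒴) (h𝒵 : AlgSt.IsAlgStack Scheme.fppfPrecoverage 𝒵)
    (P : MorphismProperty (AlgSp.Sp S))
    (hPb : ∀ ⦃X₁ Y₁ X₂ Y₂ : AlgSp.Sp S⦄, AlgSp.IsAlgSpace X₁ → AlgSp.IsAlgSpace Y₁ → AlgSp.IsAlgSpace X₂ →
      AlgSp.IsAlgSpace Y₂ → ∀ (a : X₁ ⟶ Y₁) (b : Y₂ ⟶ Y₁) (a' : X₂ ⟶ Y₂) (b' : X₂ ⟶ X₁),
      IsPullback b' a' a b → P a → P a')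
    (hP : AlgSp.IsLocalOnBase AlgSp.IsFppfCover P) (hP' : AlgSp.IsLocalOnSource AlgSp.IsEtCover P)
    (x : 𝒳 ⥤ᵇ 𝒴) (y : 𝒴 ⥤ᵇ 𝒵) (hy : AlgSt.RepByAlgSp1 y)
    (hx₁ : AlgSt.RepByAlgSpWith AlgSp.IsEtaleMor x) (hx₂ : AlgSt.RepByAlgSpWith AlgSp.IsSurjectiveMor x)
    (h : AlgSt.RepByAlgSpWith P (BasedFunctor.comp x y)) : AlgSt.RepByAlgSpWith P y := by
  exact Groth.Agent.AlgStLib.repWith_of_comp hPb h𝒳 h𝒴 hy (Groth.Agent.AlgStLib.repByAlgSp1_of_with hx₁) hP' (fun {A W} w e a he ha =>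
    ⟨fun _ => Groth.Agent.AlgStLib.prop_prjMap
      (fun _ _ _ _ hX₁ hY₁ hX₂ hY₂ _ _ _ _ sq hh => (Groth.Agent.AlgSpLib.isEtaleMor_iff_locP hY₂).2
        (Groth.Agent.AlgSpLib.locP_baseChange Groth.Agent.AlgSpLib.etST_etale hX₁ hY₁ hX₂ hY₂ sq ((Groth.Agent.AlgSpLib.isEtaleMor_iff_locP hY₁).1 hh)))
      (Groth.Agent.AlgStLib.isLocalOnBase_fppf Groth.Agent.AlgSpLib.isLocalOnBase_isEtaleMor) hx₁ he a ha, fun z => ⟨⟨⟩, Groth.Agent.AlgStLib.prop_prjMap Groth.Agent.AlgStLib.cls_surjective.bc Groth.Agent.AlgStLib.cls_surjective.loc hx₂ he a ha z⟩⟩) h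

end Groth.Agent.S12850
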