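import Groth.Agent.AlgStLib.SmLocallySp
import Groth.Prelude.Def_AlgSt3
import Groth.Prelude.Def_AlgSt2
import Groth.Prelude.Def_AlgSt
import Groth.Prelude.Def_FibCat2
import Groth.Prelude.Def_AlgSp
import Groth.Prelude.Def_AlgSp3
import Groth.Prelude.Def_AlgSp4
import Mathlib.AlgebraicGeometry.Sites.MorphismProperty
import Groth.Prelude.Def_AlgSp2

set_option autoImplicit false
open CategoryTheory AlgebraicGeometry
universe u
open AlgSt

set_option backward.isDefEq.respectTransparency false

namespace Groth.Agent.S12854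

/-- Suppose `P`, a property of schemes, is local for the smooth topology (for every jointly surjective
family of smooth morphisms `V_i ⟶ U`, `U` has `P` if and only if every `V_i` has `P`) and `U` a
scheme over `S`. Then every scheme admitting a smooth morphism to (the algebraic stack of) `U` has
`P` if and only if `U` has `P`. -/
theorem result {S : Scheme.{u}} (U : Over S) (P : Scheme.{u} → Prop)
    (hP : ∀ (U : Scheme.{u}) (R : Presieve U), R ∈ Scheme.precoverage @Smooth U →
      (P U ↔ ∀ ⦃V : Scheme.{u}⦄ (g : V ⟶ U), R g → P V)) :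
    AlgSt.SmoothLocally P (AlgSt.ofSch U) ↔ P U.left := by
  refine ⟨fun h => h U _ (Groth.Agent.AlgStLib.repWith_ofOverCat_atlas U).1, fun h => ?_⟩
  exact (Groth.Agent.AlgStLib.smoothLocally_iff_exists (Groth.Agent.AlgStLib.isAlgStack_ofSp (Groth.Agent.AlgStLib.spOf U)) P hP).2
    ⟨U, AlgSt.ofOverCat U, (Groth.Agent.AlgStLib.repWith_ofOverCat_atlas U).1, (Groth.Agent.AlgStLib.repWith_ofOverCat_atlas U).2, h⟩

end Groth.Agent.S12854
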