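import Groth.Agent.AlgStLib.QC2
import Groth.Prelude.Def_AlgSt3
import Groth.Prelude.Def_AlgSt2
import Groth.Prelude.Def_AlgSt
import Groth.Prelude.Def_FibCat2
import Groth.Prelude.Def_AlgSp
import Groth.Prelude.Def_AlgSp3
import Groth.Prelude.Def_AlgSp4
import Groth.Prelude.Def_AlgSp2

set_option autoImplicit false
open CategoryTheory AlgebraicGeometry
universe u
open AlgSt

set_option backward.isDefEq.respectTransparency false

namespace Groth.Agent.S12856

/-- (2) ⇔ (4): an algebraic stack `𝒳` over `S` admits a surjective smooth morphism from an affine scheme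
if and only if it admits a surjective smooth morphism from a quasi-compact algebraic space. -/
theorem result {S : Scheme.{u}} {𝒳 : AlgSt.Cat S}
    (h𝒳 : AlgSt.IsAlgStack Scheme.fppfPrecoverage 𝒳) :
    AlgSt.IsQuasiCompact 𝒳 ↔
      ∃ (U : AlgSp.Space S) (x : AlgSt.ofSp U.obj ⥤ᵇ 𝒳), AlgSp.IsQuasiCompactSp U.obj ∧
        AlgSt.RepByAlgSpWith (AlgSp.LocP @Smooth) x ∧ AlgSt.RepByAlgSpWith AlgSp.IsSurjectiveMor x := by
  refine ⟨fun ⟨U, x, hU, h₁, h₂⟩ => ⟨Groth.Agent.AlgStLib.spOf U, BasedFunctor.comp (AlgSt.toOverCat U) x, ?_,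
      (Groth.Agent.AlgStLib.repWith_overCat_iff _ U x).1 h₁, (Groth.Agent.AlgStLib.repWith_overCat_iff _ U x).1 h₂⟩, fun ⟨U, x, hU, _, h₂⟩ => ?_⟩
  · haveI := hU
    exact Groth.Agent.AlgSpLib.isQuasiCompactSp_yon U
  · exact Groth.Agent.AlgStLib.isQuasiCompact_of_isSurjective (Groth.Agent.AlgStLib.isAlgStack_ofSp U) h𝒳
      (Groth.Agent.AlgStLib.isSurjective_of_repWith (Groth.Agent.AlgStLib.isAlgStack_ofSp U).isStack.1 h𝒳.isStack.1 h₂)
      ((Groth.Agent.AlgStLib.isQuasiCompact_ofSp_iff U).2 hU)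

end Groth.Agent.S12856
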