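import Groth.Agent.AlgStLib.OpenSub
import Groth.Prelude.Def_AlgSt3
import Groth.Prelude.Def_AlgSt2
import Groth.Prelude.Def_AlgSt
import Groth.Prelude.Def_FibCat2
import Groth.Prelude.Def_AlgSp
import Groth.Prelude.Def_AlgSp3
import Groth.Prelude.Def_AlgSp4
import Groth.Prelude.Def_AlgSt4

set_option autoImplicit false
open CategoryTheory AlgebraicGeometry
universe u
open AlgSt

set_option backward.isDefEq.respectTransparency false

namespace Groth.Agent.S12859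

/-- Let `𝒳` be an algebraic stack over `S`. The rule sending an open substack `𝒰 ⊂ 𝒳` (a predicate on
objects closed under isomorphisms whose full subcategory is an algebraic stack with open-immersion
inclusion) to `|𝒰| ⊂ |𝒳|` is a bijection from open substacks onto open subsets of `|𝒳|`, and `𝒰 ⊂
𝒰'` holds exactly when `|𝒰| ⊂ |𝒰'|`. -/
theorem result {S : Scheme.{u}} {𝒳 : AlgSt.Cat S}
    (h𝒳 : AlgSt.IsAlgStack Scheme.fppfPrecoverage 𝒳) :
    Set.BijOn (fun Q : 𝒳.obj → Prop => Set.range (AlgSt.Points.map (AlgSt.subIncl 𝒳 Q)))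
        {Q | AlgSt.IsOpenSubstack 𝒳 Q Scheme.fppfPrecoverage} {T | IsOpen T} ∧
      ∀ (Q Q' : 𝒳.obj → Prop), AlgSt.IsOpenSubstack 𝒳 Q Scheme.fppfPrecoverage → AlgSt.IsOpenSubstack 𝒳 Q' Scheme.fppfPrecoverage →
        ((∀ y, Q y → Q' y) ↔ Set.range (AlgSt.Points.map (AlgSt.subIncl 𝒳 Q)) ⊆ Set.range (AlgSt.Points.map (AlgSt.subIncl 𝒳 Q'))) := by
  refine ⟨⟨fun Q hQ => (Groth.Agent.AlgStLib.isOpen_range_and_eq_inSet h𝒳 hQ).1, ?_, fun T hT => ⟨_, Groth.Agent.AlgStLib.isOpenSubstack_inSet h𝒳 hT, Groth.Agent.AlgStLib.range_subIncl_inSet T⟩⟩, fun Q Q' hQ hQ' => ⟨fun h => ?_, fun h y hy => ?_⟩⟩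
  · intro Q hQ Q' hQ' h
    rw [← (Groth.Agent.AlgStLib.isOpen_range_and_eq_inSet h𝒳 hQ).2, ← (Groth.Agent.AlgStLib.isOpen_range_and_eq_inSet h𝒳 hQ').2]
    exact congrArg Groth.Agent.AlgStLib.InSet h
  · exact Groth.Agent.AlgStLib.range_map_subIncl_subset fun p hp => Groth.Agent.AlgStLib.mk_mem_range_subIncl p (h _ hp)
  · have h₁ := (Groth.Agent.AlgStLib.isOpen_range_and_eq_inSet h𝒳 hQ).2
    have h₂ := (Groth.Agent.AlgStLib.isOpen_range_and_eq_inSet h𝒳 hQ').2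
    rw [← h₁] at hy
    rw [← h₂]
    exact fun p hp => h (hy p hp)

end Groth.Agent.S12859
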