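import Groth.Agent.AlgStLib.OpenSub
import Groth.Agent.AlgStLib.UnivTop
import Groth.Agent.AlgStLib.LocQ
import Groth.Prelude.Def_AlgSt3
import Groth.Prelude.Def_AlgSt2
import Groth.Prelude.Def_AlgSt
import Groth.Prelude.Def_FibCat2
import Groth.Prelude.Def_AlgSp
import Groth.Prelude.Def_AlgSp3
import Groth.Prelude.Def_AlgSp4

set_option autoImplicit false
open CategoryTheory AlgebraicGeometry
universe u
open AlgSt

set_option backward.isDefEq.respectTransparency false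

namespace Groth.Agent.S12860

/-- Let `𝒳` be an algebraic stack over `S`, `U` an algebraic space with a surjective smooth `u : U ⟶ 𝒳`,
and `j : V ⟶ U` an open immersion of algebraic spaces. Then there are an algebraic stack `𝒴`, an
open immersion `i : 𝒴 ⟶ 𝒳` and a surjective smooth `g : V ⟶ 𝒴` such that `i ∘ g` is 2-isomorphic to
`u ∘ j` (the compatibility is part of the published proof, which constructs `𝒴` as the image of
`V`). -/
theorem result {S : Scheme.{u}} {𝒳 : AlgSt.Cat S}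
    (h𝒳 : AlgSt.IsAlgStack Scheme.fppfPrecoverage 𝒳) (U : AlgSp.Space S) (u : AlgSt.ofSp U.obj ⥤ᵇ 𝒳)
    (hu₁ : AlgSt.RepByAlgSpWith (AlgSp.LocP @Smooth) u) (hu₂ : AlgSt.RepByAlgSpWith AlgSp.IsSurjectiveMor u)
    (V : AlgSp.Space S) (j : V ⟶ U) (hj : AlgSp.RepWith @IsOpenImmersion j.hom) :
    ∃ (𝒴 : AlgSt.Cat S) (i : 𝒴 ⥤ᵇ 𝒳) (g : AlgSt.ofSp V.obj ⥤ᵇ 𝒴),
      AlgSt.IsAlgStack Scheme.fppfPrecoverage 𝒴 ∧ AlgSt.IsOpenImm i ∧
        AlgSt.RepByAlgSpWith (AlgSp.LocP @Smooth) g ∧ AlgSt.RepByAlgSpWith AlgSp.IsSurjectiveMor g ∧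
          Nonempty (BasedFunctor.comp g i ≅ BasedFunctor.comp (AlgSt.ofSpMap j.hom) u) := by
  have hj' : AlgSp.LocP @Smooth j.hom := (Groth.Agent.AlgSpLib.locP_iff_repWith Groth.Agent.AlgSpLib.etST_smooth U.property hj.1).2
    (Groth.Agent.AlgSpLib.repWith_mono (fun _ _ r hr => by haveI : IsOpenImmersion r := hr; infer_instance) hj)
  have hV := Groth.Agent.AlgStLib.isAlgStack_ofSp V
  have hU := Groth.Agent.AlgStLib.isAlgStack_ofSp U
  let u' := BasedFunctor.comp (AlgSt.ofSpMap j.hom) u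
  have hu' : AlgSt.RepByAlgSpWith (AlgSp.LocP @Smooth) u' := Groth.Agent.AlgStLib.repWith_comp hV.isStack.1 hU.isStack.1
    Groth.Agent.AlgStLib.cls_smooth.bc Groth.Agent.AlgStLib.cls_smooth.comp Groth.Agent.AlgStLib.cls_smooth.loc
    (Groth.Agent.AlgStLib.repWith_ofSpMap Groth.Agent.AlgStLib.cls_smooth.bc j hj') hu₁
  have hO : IsOpen (Set.range (AlgSt.Points.map u')) :=
    (Groth.Agent.AlgStLib.isOpenMap_map_of_smooth hV h𝒳 hu').isOpen_range
  obtain ⟨-, hY, hi⟩ := Groth.Agent.AlgStLib.isOpenSubstack_inSet h𝒳 hO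
  let g := Groth.Agent.AlgStLib.liftSub (Groth.Agent.AlgStLib.InSet (Set.range (AlgSt.Points.map u'))) u'
    (Groth.Agent.AlgStLib.inSet_range_map hV.isStack.1 h𝒳.isStack.1 u')
  have hg : AlgSt.RepByAlgSpWith (AlgSp.LocP @Smooth) g :=
    Groth.Agent.AlgStLib.repWith_of_comp_ff (i := AlgSt.subIncl 𝒳 _) _ hu'
  refine ⟨_, AlgSt.subIncl 𝒳 _, g, hY, hi, hg, Groth.Agent.AlgStLib.repWith_surjective_of_isSurjective hV.isStack.1 hY.isStack.1
    (Groth.Agent.AlgStLib.repByAlgSp1_of_with hg) (fun p => ?_), ⟨Iso.refl _⟩⟩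
  obtain ⟨q, hq⟩ : AlgSt.Points.map (AlgSt.subIncl 𝒳 (Groth.Agent.AlgStLib.InSet (Set.range (AlgSt.Points.map u')))) p ∈
      Set.range (AlgSt.Points.map u') :=
    (Groth.Agent.AlgStLib.range_subIncl_inSet _).le ⟨p, rfl⟩
  refine ⟨q, Groth.Agent.AlgStLib.injective_map_subIncl h𝒳.isStack.1 (fun m h => h.of_hom m) ?_⟩
  rw [← hq]
  obtain ⟨q, rfl⟩ := AlgSt.Points.mk_surjective q
  rfl

end Groth.Agent.S12860
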