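import Groth.Agent.AlgStLib.OpenSub
import Groth.Prelude.Def_AlgSt3
import Groth.Prelude.Def_AlgSt2
import Groth.Prelude.Def_AlgSt
import Groth.Prelude.Def_FibCat2
import Groth.Prelude.Def_AlgSp
import Groth.Prelude.Def_AlgSp3
import Groth.Prelude.Def_AlgSp4
import Groth.Prelude.Def_AlgSt4

set_option autoImplicit false
open CategoryTheory AlgebraicGeometry
universe u w
open AlgSt

set_option backward.isDefEq.respectTransparency false

namespace Groth.Agent.S12862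

/-- Let `𝒳` be an algebraic stack over `S`, `𝒳' ⊂ 𝒳` a quasi-compact open substack and `𝒳_i ⊂ 𝒳` a
family of open substacks with `𝒳' ⊂ ⋃ 𝒳_i`. Then `𝒳' ⊂ ⋃_{i ∈ I'} 𝒳_i` for a finite set `I'` of
indices. Containments between open substacks are read on their points in `|𝒳|`, which is the same as
containment of the substacks. -/
theorem result {S : Scheme.{u}} {𝒳 : AlgSt.Cat S}
    (h𝒳 : AlgSt.IsAlgStack Scheme.fppfPrecoverage 𝒳) (Q' : 𝒳.obj → Prop) (hQ' : AlgSt.IsOpenSubstack 𝒳 Q' Scheme.fppfPrecoverage)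
    (hqc : AlgSt.IsQuasiCompact (AlgSt.fullSub 𝒳 Q'))
    {ι : Type w} (Q : ι → 𝒳.obj → Prop) (hQ : ∀ i, AlgSt.IsOpenSubstack 𝒳 (Q i) Scheme.fppfPrecoverage)
    (hcov : Set.range (AlgSt.Points.map (AlgSt.subIncl 𝒳 Q')) ⊆ ⋃ i, Set.range (AlgSt.Points.map (AlgSt.subIncl 𝒳 (Q i)))) :
    ∃ I' : Finset ι, Set.range (AlgSt.Points.map (AlgSt.subIncl 𝒳 Q')) ⊆ ⋃ i ∈ I', Set.range (AlgSt.Points.map (AlgSt.subIncl 𝒳 (Q i))) := by
  obtain ⟨U, x, hU, -, hx⟩ := hqc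
  haveI := hU
  let z := BasedFunctor.comp x (AlgSt.subIncl 𝒳 Q')
  have hz : ∀ p ∈ Set.range (AlgSt.Points.map (AlgSt.subIncl 𝒳 Q')), ∃ t, AlgSt.Points.ofChart z t = p := by
    rintro _ ⟨q, rfl⟩
    obtain ⟨t, rfl⟩ := Groth.Agent.AlgStLib.exists_point_of_surjective hQ'.2.1.isStack.1 x hx q
    exact ⟨t, rfl⟩
  obtain ⟨I', hI'⟩ := isCompact_univ.elim_finite_subcover
    (fun i => AlgSt.Points.ofChart z ⁻¹' Set.range (AlgSt.Points.map (AlgSt.subIncl 𝒳 (Q i))))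
    (fun i => (Groth.Agent.AlgStLib.isOpen_range_and_eq_inSet h𝒳 (hQ i)).1.preimage (Groth.Agent.AlgStLib.continuous_ofChart h𝒳 z))
    (fun t _ => by
      obtain ⟨i, hi⟩ := Set.mem_iUnion.1 (hcov ⟨AlgSt.Points.ofChart x t, rfl⟩)
      exact Set.mem_iUnion.2 ⟨i, hi⟩)
  refine ⟨I', fun p hp => ?_⟩
  obtain ⟨t, rfl⟩ := hz p hp
  obtain ⟨i, hi, hi'⟩ := Set.mem_iUnion₂.1 (hI' (Set.mem_univ t))
  exact Set.mem_iUnion₂.2 ⟨i, hi, hi'⟩

end Groth.Agent.S12862
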