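import Groth.Agent.AlgStLib.OpenSub
import Groth.Prelude.Def_AlgSt3
import Groth.Prelude.Def_AlgSt2
import Groth.Prelude.Def_AlgSt
import Groth.Prelude.Def_FibCat2
import Groth.Prelude.Def_AlgSp
import Groth.Prelude.Def_AlgSp3
import Groth.Prelude.Def_AlgSp4
import Groth.Prelude.Def_AlgSt4

set_option autoImplicit false
open CategoryTheory AlgebraicGeometry
universe u w
open AlgSt

set_option backward.isDefEq.respectTransparency false

namespace Groth.Agent.S12863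

/-- Let `𝒳` be an algebraic stack over `S` and `𝒳_i ⊂ 𝒳` a family of open substacks with `𝒳 = ⋃ 𝒳_i`
(their points exhaust `|𝒳|`). When each `𝒳_i` is an algebraic space, so is `𝒳` itself. -/
theorem result {S : Scheme.{u}} {𝒳 : AlgSt.Cat S}
    (h𝒳 : AlgSt.IsAlgStack Scheme.fppfPrecoverage 𝒳) {ι : Type w} (Q : ι → 𝒳.obj → Prop)
    (hQ : ∀ i, AlgSt.IsOpenSubstack 𝒳 (Q i) Scheme.fppfPrecoverage)
    (hcov : ⋃ i, Set.range (AlgSt.Points.map (AlgSt.subIncl 𝒳 (Q i))) = Set.univ)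
    (hsp : ∀ i, AlgSt.RepByAlgSp (AlgSt.fullSub 𝒳 (Q i))) : AlgSt.RepByAlgSp 𝒳 := by
  have hset : FibCat.IsFibSetoid 𝒳.p := Groth.Agent.FibCat2Misc.isFibSetoid_iff.2 ⟨h𝒳.isStack.1,
    Groth.Agent.AlgStLib.faithful_of_open_cover h𝒳 Q hQ hcov fun i => by
      obtain ⟨F, e, he⟩ := hsp i
      exact Groth.Agent.FibCat2Misc.faithful_of_isFibSetoid (Groth.Agent.FibCat2Misc.isFibSetoid_of_equiv he Groth.Agent.AlgStLib.isFibSetoid_ofPsh)⟩
  obtain ⟨U, x, h₁, h₂⟩ := h𝒳.atlas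
  exact Groth.Agent.AlgStLib.repByAlgSp_of_setoid h𝒳.isStack hset
    ⟨Groth.Agent.AlgStLib.spOf U, AlgSt.toOverCat U, Groth.Agent.AlgStLib.isEquivOver_toOverCat U⟩ h₁ h₂

end Groth.Agent.S12863
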