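import Groth.Agent.AlgStLib.OpenSub
import Groth.Agent.AlgSpLib.Glue
import Groth.Agent.AlgStLib.Props
import Groth.Agent.AlgStLib.UnivTop
import Groth.Prelude.Def_AlgSt3
import Groth.Prelude.Def_AlgSt2
import Groth.Prelude.Def_AlgSt
import Groth.Prelude.Def_FibCat2
import Groth.Prelude.Def_AlgSp
import Groth.Prelude.Def_AlgSp3
import Groth.Prelude.Def_AlgSp4
import Groth.Prelude.Def_AlgSt4

set_option autoImplicit false
open CategoryTheory AlgebraicGeometry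
universe u w
open AlgSt

set_option backward.isDefEq.respectTransparency false

namespace Groth.Agent.S12864

/-- Let `𝒳` be an algebraic stack over `S` and `𝒳_i ⊂ 𝒳` a family of open substacks with `𝒳 = ⋃ 𝒳_i`
(their points exhaust `|𝒳|`). If every `𝒳_i` is a scheme (equivalent over `(Sch/S)` to some
`(Sch/U)`), then `𝒳` is a scheme. -/
theorem result {S : Scheme.{u}} {𝒳 : AlgSt.Cat S}
    (h𝒳 : AlgSt.IsAlgStack Scheme.fppfPrecoverage 𝒳) {ι : Type w} (Q : ι → 𝒳.obj → Prop)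
    (hQ : ∀ i, AlgSt.IsOpenSubstack 𝒳 (Q i) Scheme.fppfPrecoverage)
    (hcov : ⋃ i, Set.range (AlgSt.Points.map (AlgSt.subIncl 𝒳 (Q i))) = Set.univ)
    (hsch : ∀ i, FibCat.IsRepresentable (AlgSt.fullSub 𝒳 (Q i))) : FibCat.IsRepresentable 𝒳 := by
  have hset : FibCat.IsFibSetoid 𝒳.p := Groth.Agent.FibCat2Misc.isFibSetoid_iff.2 ⟨h𝒳.isStack.1,
    Groth.Agent.AlgStLib.faithful_of_open_cover h𝒳 Q hQ hcov fun i => by
      obtain ⟨U, F, hF⟩ := hsch i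
      obtain ⟨G, hG, -, -⟩ := Groth.Agent.FibCat2Misc.isEquivOver_symm hF
      exact Groth.Agent.FibCat2Misc.faithful_of_isFibSetoid (Groth.Agent.FibCat2Misc.isFibSetoid_of_equiv
        (Groth.Agent.FibCat2Misc.isEquivOver_comp (Groth.Agent.AlgStLib.isEquivOver_toOverCat U) hG) Groth.Agent.AlgStLib.isFibSetoid_ofPsh)⟩
  obtain ⟨A, x, h₁, h₂⟩ := h𝒳.atlas
  obtain ⟨F, e, he⟩ := Groth.Agent.AlgStLib.repByAlgSp_of_setoid h𝒳.isStack hset
    ⟨Groth.Agent.AlgStLib.spOf A, AlgSt.toOverCat A, Groth.Agent.AlgStLib.isEquivOver_toOverCat A⟩ h₁ h₂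
  obtain ⟨k, hk, -, ⟨j⟩⟩ := Groth.Agent.FibCat2Misc.isEquivOver_symm he
  have hcov' : ∀ t : ↥A.left, ∃ i, AlgSt.Points.ofChart x t ∈ Set.range (AlgSt.Points.map (AlgSt.subIncl 𝒳 (Q i))) :=
    fun t => Set.mem_iUnion.1 (hcov.symm ▸ Set.mem_univ _)
  choose idx hidx using hcov'
  choose U F' hF' using fun t => hsch (idx t)
  choose G hG hG₁ hG₂ using fun t => Groth.Agent.FibCat2Misc.isEquivOver_symm (hF' t)
  let G' := fun t => BasedFunctor.comp (AlgSt.toOverCat (U t)) (G t)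
  have hG' : ∀ t, FibCat.IsEquivOver (G' t) := fun t =>
    Groth.Agent.FibCat2Misc.isEquivOver_comp (Groth.Agent.AlgStLib.isEquivOver_toOverCat (U t)) (hG t)
  let Φ := fun t => BasedFunctor.comp (G' t) (AlgSt.subIncl 𝒳 (Q (idx t)))
  let f : ∀ t, (AlgSp.yon S).obj (U t) ⟶ F.obj := fun t =>
    ObjectProperty.homMk (Groth.Agent.AlgStLib.mapOf (BasedFunctor.comp (Φ t) k))
  let iso : ∀ t, BasedFunctor.comp (AlgSt.ofSpMap (f t)) e ≅ Φ t := fun t =>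
    (Groth.Agent.StkBasic.post _ e).mapIso (Groth.Agent.AlgStLib.mapOfIso (BasedFunctor.comp (Φ t) k)) ≪≫ (Stk.restr (Φ t) _).mapIso j
  have hf : ∀ t, AlgSp.RepWith @IsOpenImmersion (f t) := fun t =>
    Groth.Agent.AlgStLib.repWith_of_repBySpWith (f t) ((Groth.Agent.AlgStLib.repWith_ofPshMap_iff _ _).1
      ((Groth.Agent.AlgStLib.repWith_iff_of_equiv _ (AlgSt.subIncl 𝒳 (Q (idx t))) (AlgSt.ofSpMap (f t)) (G' t) e (hG' t) he (iso t)).1 (hQ (idx t)).2.2))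
  obtain ⟨W, ⟨ψ⟩⟩ := Groth.Agent.AlgSpLib.exists_iso_yon_of_open_cover F.property U f hf fun p => by
    obtain ⟨t, ht⟩ := Groth.Agent.AlgStLib.exists_point_of_surjective h𝒳.isStack.1 x h₂ (AlgSt.Points.map e (Groth.Agent.AlgStLib.stPts F.obj p))
    obtain ⟨q, hq⟩ := hidx t
    obtain ⟨q', rfl⟩ := (Groth.Agent.AlgStLib.isHomeomorph_map_of_equiv (hG' t) (Groth.Agent.AlgStLib.isAlgStack_ofSp (Groth.Agent.AlgStLib.spOf (U t)))).surjective q
    obtain ⟨y, rfl⟩ := (Groth.Agent.AlgStLib.bijective_stPts _).2 q'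
    refine ⟨t, y, (Groth.Agent.AlgStLib.bijective_stPts _).1
      ((Groth.Agent.AlgStLib.isHomeomorph_map_of_equiv he (Groth.Agent.AlgStLib.isAlgStack_ofSp F)).injective ?_)⟩
    rw [← ht, ← hq, ← Groth.Agent.AlgStLib.map_stPts]
    obtain ⟨r, hr⟩ := AlgSt.Points.mk_surjective (Groth.Agent.AlgStLib.stPts ((AlgSp.yon S).obj (U t)) y)
    rw [← hr]
    exact AlgSt.Points.sound ⟨_, 𝟙 _, (iso t).hom.toNatTrans.app r.obj, trivial⟩
  haveI : IsIso ψ.hom.hom := inferInstanceAs (IsIso ((CategoryTheory.sheafToPresheaf _ _).map ψ.hom))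
  exact ⟨W, BasedFunctor.comp (BasedFunctor.comp k (AlgSt.ofSpMap ψ.hom)) (AlgSt.toOverCat W),
    Groth.Agent.FibCat2Misc.isEquivOver_comp (Groth.Agent.FibCat2Misc.isEquivOver_comp hk (Groth.Agent.AlgStLib.isEquivOver_ofPshMap ψ.hom.hom))
      (Groth.Agent.AlgStLib.isEquivOver_toOverCat W)⟩

end Groth.Agent.S12864
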