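import Groth.Agent.AlgStLib.OpenSub
import Groth.Prelude.Def_AlgSt3
import Groth.Prelude.Def_AlgSt2
import Groth.Prelude.Def_AlgSt
import Groth.Prelude.Def_FibCat2
import Groth.Prelude.Def_AlgSp
import Groth.Prelude.Def_AlgSp3
import Groth.Prelude.Def_AlgSp4

set_option autoImplicit false
open CategoryTheory AlgebraicGeometry
universe u
open AlgSt

set_option backward.isDefEq.respectTransparency false

namespace Groth.Agent.S12878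

/-- Let `i : 𝒵 ⟶ 𝒳` be an immersion of algebraic stacks over `S`. Then there is a unique locally closed
substack `𝒳' ⊂ 𝒳` (a predicate on objects closed under isomorphisms, with algebraic full subcategory
and immersion inclusion) such that `i` is 2-isomorphic to an equivalence `𝒵 ⟶ 𝒳'` over `(Sch/S)`
followed by the inclusion `𝒳' ⟶ 𝒳`; moreover `𝒳'` is closed (resp. open) as a substack whenever `i`
is a closed (resp. open) immersion. -/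
theorem result {S : Scheme.{u}} {𝒵 𝒳 : AlgSt.Cat S}
    (h𝒵 : AlgSt.IsAlgStack Scheme.fppfPrecoverage 𝒵) (h𝒳 : AlgSt.IsAlgStack Scheme.fppfPrecoverage 𝒳) (i : 𝒵 ⥤ᵇ 𝒳) (hi : AlgSt.IsImm i) :
    ∃ Q : 𝒳.obj → Prop,
      (AlgSt.IsLocClosedSubstack 𝒳 Q Scheme.fppfPrecoverage ∧
        (∃ i' : 𝒵 ⥤ᵇ AlgSt.fullSub 𝒳 Q, FibCat.IsEquivOver i' ∧
          Nonempty (BasedFunctor.comp i' (AlgSt.subIncl 𝒳 Q) ≅ i)) ∧
        (AlgSt.IsClosedImm i → AlgSt.IsClosedSubstack 𝒳 Q Scheme.fppfPrecoverage) ∧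
        (AlgSt.IsOpenImm i → AlgSt.IsOpenSubstack 𝒳 Q Scheme.fppfPrecoverage)) ∧
      ∀ Q' : 𝒳.obj → Prop, AlgSt.IsLocClosedSubstack 𝒳 Q' Scheme.fppfPrecoverage →
        (∃ i' : 𝒵 ⥤ᵇ AlgSt.fullSub 𝒳 Q', FibCat.IsEquivOver i' ∧
          Nonempty (BasedFunctor.comp i' (AlgSt.subIncl 𝒳 Q') ≅ i)) → Q' = Q := by
  obtain ⟨hF, hFa⟩ := Groth.Agent.AlgStLib.fullyFaithful_of_isMono h𝒵.isStack.1 h𝒳.isStack.1 (Groth.Agent.AlgStLib.isMono_of_isImm hi)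
  let Q : 𝒳.obj → Prop := fun y => ∃ z, Nonempty (i.obj z ≅ y)
  let i' := Groth.Agent.AlgStLib.liftSub Q i (fun z => ⟨z, ⟨Iso.refl _⟩⟩)
  haveI : i'.toFunctor.Full := ⟨fun {a b} m => ⟨i.toFunctor.preimage m.hom,
    ObjectProperty.hom_ext _ (i.toFunctor.map_preimage _)⟩⟩
  haveI : i'.toFunctor.Faithful := ⟨fun {a b} m m' h => i.toFunctor.map_injective (congrArg InducedCategory.Hom.hom h :)⟩
  have he : FibCat.IsEquivOver i' := Groth.Agent.FibCatRep.isEquivOver_of_fullyFaithful i' fun η => by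
    obtain ⟨z, ⟨φ⟩⟩ := η.property
    obtain ⟨z', ψ, hz', hψ⟩ := Groth.Agent.FibCatRep.exists_lift h𝒵.isStack.1 (x := z) (𝒳.p.map φ.inv ≫ eqToHom (i.w_obj z))
    haveI : IsIso (𝒵.p.map ψ) := by rw [hψ]; infer_instance
    haveI := Groth.Agent.FibCatRep.isIso_of_map h𝒵.isStack.1 ψ
    refine ⟨z', ObjectProperty.isoMk _ (asIso (i.map ψ) ≪≫ φ), (i.w_obj z').trans hz', ?_⟩
    show 𝒳.p.map (i.map ψ ≫ φ.hom) = _
    rw [Functor.map_comp, Groth.Agent.FibCatRep.map_map i ψ, hψ]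
    simp [← Functor.map_comp]
  have hiso : ObjectProperty.IsClosedUnderIsomorphisms Q := ⟨fun e ⟨z, ⟨φ⟩⟩ => ⟨z, ⟨φ ≪≫ e⟩⟩⟩
  have hA := Groth.Agent.AlgStLib.isAlgStack_of_equiv he h𝒵
  have tr : ∀ P : MorphismProperty (AlgSp.Sp S), AlgSt.RepByAlgSpWith P i → AlgSt.RepByAlgSpWith P (AlgSt.subIncl 𝒳 Q) :=
    fun P h => (Groth.Agent.AlgStLib.repWith_iff_of_equiv P (AlgSt.subIncl 𝒳 Q) i i' (BasedFunctor.id _) he
      Groth.Agent.FibCat2Misc.isEquivOver_id (Iso.refl _)).2 h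
  refine ⟨Q, ⟨⟨hiso, hA, tr _ hi⟩, ⟨i', he, ⟨Iso.refl _⟩⟩, fun h => ⟨hiso, hA, tr _ h⟩, fun h => ⟨hiso, hA, tr _ h⟩⟩, ?_⟩
  rintro Q' ⟨hiso', -, -⟩ ⟨j, hj, ⟨κ⟩⟩
  funext y
  refine propext ⟨fun hy => ?_, fun ⟨z, ⟨φ⟩⟩ => hiso'.of_iso (((BasedNatTrans.forgetful _ _).mapIso κ).app z ≪≫ φ) (j.obj z).property⟩
  obtain ⟨z, k, -, -⟩ := (Groth.Agent.FibCatRep.isEquivOver_data hj).2 ⟨y, hy⟩
  exact ⟨z, ⟨(((BasedNatTrans.forgetful _ _).mapIso κ).app z).symm ≪≫ (ObjectProperty.ι Q').mapIso k⟩⟩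

end Groth.Agent.S12878
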