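import Groth.Statements.S12881
import Groth.Agent.ExtZ.Coh
-- import your own Groth.Agent.* helpers here

set_option autoImplicit false
universe u
open CategoryTheory CategoryTheory.Limits TopologicalSpace AlgebraicGeometry
open Coherent

set_option backward.isDefEq.respectTransparency false
set_option backward.isDefEq.respectTransparency.types false
namespace Groth.Agent.S12881

/-- Let X be a locally Noetherian scheme, Y a closed subset with open complement U, F and G coherent
O_X-modules, S the support of F and S' the closure of S ∩ U. If for every point x of Y ∩ S' the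
depth of the stalk G_x over O_{X,x} is at least n, then ℰxt^i_Y(F, G) is coherent for every i < n.
(Internal Hom of F and injective resolutions of O_X-modules are the stated instance hypotheses, both
true.) -/
theorem result (X : Scheme.{u}) [IsLocallyNoetherian X] (U : X.Opens)
    (F G : X.Modules) (hF : Coh.IsCoh F) (hG : Coh.IsCoh G) (n : ℕ)
    (hdepth : ∀ x ∈ closure (CohB1.support F ∩ (U : Set X)), x ∉ (U : Set X) →
      (n : ℕ∞) ≤ LocCoh.depth (X.presheaf.stalk x) (G.presheaf.stalk x))
    [ModSite.HasSheafHom (O := X.sheaf) F] [HasInjectiveResolutions (ModSite.Mod X.sheaf)]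
    (i : ℕ) (hi : i < n) :
    Coh.IsCoh ((ModSite.extZSh (O := X.sheaf) U F i).obj G) := by
  refine Groth.Agent.ExtZ.isCoh_extZSh_of_vanish U F hF G hG i fun F'' hF'' hsub => ?_
  let U' : X.Opens := U ⊔ ⟨(closure (CohB1.support F ∩ (U : Set X)))ᶜ, isClosed_closure.isOpen_compl⟩
  obtain ⟨e⟩ := Groth.Agent.ExtZ.nonempty_extZSh_congr U (U' := U') le_sup_left F''
    (fun x hx hx' => hx'.elim id fun h => absurd (hsub hx) h) G i
  refine IsZero.of_iso ?_ e
  exact Groth.Agent.ExtZ.isZero_extZSh_of_depth U' F'' G hG n
    (fun x hx => hdepth x (not_not.1 fun h => hx (Or.inr h)) fun h => hx (Or.inl h)) i hi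

end Groth.Agent.S12881
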