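import Groth.Statements.S12894
import Groth.Agent.EtShLib.BaseChange
import Groth.Agent.EtShLib.FieldExt
import Groth.Agent.Hensel.HenselizationProps

set_option autoImplicit false
set_option backward.isDefEq.respectTransparency false
set_option backward.isDefEq.respectTransparency.types false
set_option linter.style.haveILetI false
universe u
open CategoryTheory CategoryTheory.Limits AlgebraicGeometry
open CohProp
open scoped TensorProduct

namespace Groth.Agent.S12894

open IsLocalRing

theorem isField_stalk (k : Type u) [Field k] (s : Spec (CommRingCat.of k)) :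
    IsField ((Spec (CommRingCat.of k)).presheaf.stalk s) := by
  haveI : Subsingleton (Spec (CommRingCat.of k)) := inferInstanceAs (Subsingleton (PrimeSpectrum k))
  let A := (Spec (CommRingCat.of k)).presheaf.stalk s
  haveI : Subsingleton (PrimeSpectrum A) :=
    ⟨fun a b => ((Spec (CommRingCat.of k)).fromSpecStalk s).isEmbedding.injective (Subsingleton.elim _ _)⟩
  haveI : IsReduced A := inferInstance
  rw [IsLocalRing.isField_iff_maximalIdeal_eq]
  refine le_bot_iff.1 fun x hx => ?_
  have : x ∈ nilradical A := by
    rw [nilradical_eq_sInf, Ideal.mem_sInf]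
    intro P hP
    have e : (⟨P, hP⟩ : PrimeSpectrum A) = closedPoint A := Subsingleton.elim _ _
    rw [show P = maximalIdeal A from congrArg PrimeSpectrum.asIdeal e]
    exact hx
  rwa [nilradical_eq_zero] at this

theorem isField_sh {k : Type u} [Field k] {s : Spec (CommRingCat.of k)}
    (P : EtBCQ.SH (Spec (CommRingCat.of k)) s) : IsField P.R := by
  have h0 := IsLocalRing.isField_iff_maximalIdeal_eq.mp (isField_stalk k s)
  have hm := Hensel.strictHenselization_map_maximalIdeal ((Spec (CommRingCat.of k)).presheaf.stalk s) P.R
  rw [h0, Ideal.map_bot] at hm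
  exact IsLocalRing.isField_iff_maximalIdeal_eq.mpr hm.symm

theorem connectedSpace_tensor {K : Type u} [Field K] [IsSepClosed K] (B : Type u) [CommRing B] [IsLocalRing B]
    [Algebra K B] (L : Type u) [Field L] [Algebra K L] : ConnectedSpace (PrimeSpectrum (B ⊗[K] L)) := by
  haveI : ConnectedSpace ↥(Spec (CommRingCat.of B)) := S0164.connected_spec_local B
  haveI := S0164.connected_pullback (Spec.map (CommRingCat.ofHom (algebraMap K B))) L
  exact ((pullbackSpecIso K B L).hom.homeomorph.connectedSpace_iff).mp inferInstance

/-- Let k be a field and f : X → Spec k a quasi-compact and quasi-separated morphism. Then for every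
sheaf of sets F on the small étale site of X the pair (F, f) is cohomologically proper in dimension
≤ 0: for every morphism of schemes g : Y' → Spec k and every cartesian square exhibiting X' as X ×_k
Y', with projections h : X' → X and f' : X' → Y', the base-change map g^* f_* F → f'_* h^* F is an
isomorphism. -/
theorem result (k : Type u) [Field k] (X : Scheme.{u})
    (f : X ⟶ Spec (CommRingCat.of k)) [QuasiCompact f] [QuasiSeparated f] (F : EtDesc.Sh X) :
    CohProp.IsCohPropSet (𝟙 (Spec (CommRingCat.of k))) f F := by
  intro S' Y' X' p g q' h f' _ sq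
  refine EtShLib.isIso_baseChange0Sh_of_connected f g f' h sq (fun y' QY Q' _ _ _ _ Ω _ _ algΩ => ?_) F
  have hF := isField_sh QY
  letI : Field QY.R := hF.toField
  haveI : IsSepClosed QY.R := Hensel.isSepClosed_of_ringEquiv
    (RingEquiv.ofBijective (residue QY.R) ⟨(residue QY.R).injective, residue_surjective⟩).symm
  exact connectedSpace_tensor Q'.R Ω

end Groth.Agent.S12894
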