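import Groth.Statements.S12901
import Groth.Agent.ExpSeq.DeformTower
import Groth.Agent.W7Adic.Algebraize
import Groth.Agent.ThickSys.Sheaf
import Groth.Agent.TMul.AmpleBasis

set_option autoImplicit false
universe u
open CategoryTheory AlgebraicGeometry
open FSch

set_option backward.isDefEq.respectTransparency false
set_option backward.isDefEq.respectTransparency.types false
set_option maxHeartbeats 1000000
set_option linter.style.haveILetI false

namespace Groth.Agent.S12901

/-- The levels of the completion of `Spec A` are the spectra of the quotients. -/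
theorem exists_levelIso (A : Type u) [CommRing A] (I : Ideal A) (n : ℕ) :
    ∃ φ : (FSch.completionAlong (Spec (CommRingCat.of A)) (FSch.idealSpec A I)).X n ⟶ Spec (CommRingCat.of (A ⧸ I ^ (n + 1))),
      IsIso φ ∧ φ ≫ CohB1.specQuot I n = (FSch.idealSpec A I ^ (n + 1)).subschemeι := by
  haveI : IsClosedImmersion (CohB1.specQuot I n) := IsClosedImmersion.spec_of_surjective _ Ideal.Quotient.mk_surjective
  have h : (CohB1.specQuot I n).ker = ((FSch.idealSpec A I ^ (n + 1)).subschemeι).ker := by
    rw [Scheme.IdealSheafData.ker_subschemeι, ← ThickSys.idealSpec_pow]; rfl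
  exact ⟨IsClosedImmersion.lift _ _ h.le, IsClosedImmersion.isIso_lift _ _ h, IsClosedImmersion.lift_fac _ _ _⟩


/-- Let A be a complete Noetherian local ring with maximal ideal m, and 𝔛 a formal scheme proper and
flat over A, presented as an adic system X_0 → X_1 → ⋯ over the thickenings Spec(A/m^{n+1}) (the
structure morphism is adic with proper level 0, and every level X_n → Spec(A/m^{n+1}) is flat). If
X_0 is projective (it carries an ample invertible sheaf) and H^2(X_0, O_{X_0}) = 0, then 𝔛 is the
m-adic completion of a projective A-scheme: there are a proper A-scheme X carrying an ample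
invertible sheaf and an isomorphism of systems, over the base, between 𝔛 and the completion of X
along the pulled-back ideal. -/
theorem result (A : Type u) [CommRing A] [IsLocalRing A]
    [IsNoetherianRing A] [IsAdicComplete (IsLocalRing.maximalIdeal A) A]
    (𝔛 : FSch.Sys.{u}) (f : 𝔛 ⟶ FSch.completionAlong (Spec (CommRingCat.of A)) (FSch.idealSpec A (IsLocalRing.maximalIdeal A)))
    (hf : FSch.IsProperHom f) (hflat : ∀ n : ℕ, Flat ((f : FSch.Hom _ _).app n))
    (hproj : ∃ L₀ : (𝔛.X 0).Modules, CohB1.IsAmple L₀)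
    (hH2 : Subsingleton (Coh.HH (𝔛.X 0) (Coh.structureModule (𝔛.X 0)) 2)) :
    ∃ (X : Scheme.{u}) (g : X ⟶ (Spec (CommRingCat.of A))) (L : X.Modules), IsProper g ∧ CohB1.IsAmple L ∧
      ∃ (h : FSch.PowCompat g ((FSch.idealSpec A (IsLocalRing.maximalIdeal A)).comap g) (FSch.idealSpec A (IsLocalRing.maximalIdeal A)))
        (e : 𝔛 ≅ FSch.completionAlong X ((FSch.idealSpec A (IsLocalRing.maximalIdeal A)).comap g)),
        e.hom ≫ FSch.completionMap g ((FSch.idealSpec A (IsLocalRing.maximalIdeal A)).comap g) (FSch.idealSpec A (IsLocalRing.maximalIdeal A)) h = f := by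
  let m := IsLocalRing.maximalIdeal A
  let K := FSch.idealSpec A m
  let S := FSch.completionAlong (Spec (CommRingCat.of A)) K
  choose φ hφiso hφ using exists_levelIso A m
  haveI := hφiso
  haveI : ∀ n, IsClosedImmersion (CohB1.specQuot m n) := fun n =>
    IsClosedImmersion.spec_of_surjective _ Ideal.Quotient.mk_surjective
  have hsq : ∀ n, φ n ≫ CohB1.specQuotTrans m n = S.ι n ≫ φ (n + 1) := fun n => by
    rw [← cancel_mono (CohB1.specQuot m (n + 1)), Category.assoc, Category.assoc, CohB1.specQuotTrans_specQuot, hφ, hφ]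
    exact (Scheme.IdealSheafData.inclusion_subschemeι _).symm
  let T : W7Adic.Tower m :=
    { X := 𝔛.X
      p := fun n => (f : FSch.Hom _ _).app n ≫ φ n
      i := 𝔛.ι
      cart := fun n => (hf.1 n).paste_vert (IsPullback.of_vert_isIso ⟨(hsq n).symm⟩) }
  have hp : IsProper (T.p 0) := by
    haveI := hf.2
    exact MorphismProperty.comp_mem _ _ _ hf.2 inferInstance
  have hfl : ∀ n, Flat (T.p n) := fun n => by
    haveI := hflat n
    exact MorphismProperty.comp_mem _ _ _ (hflat n) inferInstance
  obtain ⟨L₀, hL₀⟩ := hproj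
  obtain ⟨L, hL, ⟨e₀⟩, hLt⟩ := ExpSeq.Deform.exists_lifts T hfl hH2 L₀ hL₀.1
  obtain ⟨Y, g, M, e, hg, hMi, hM, hpb, he, -⟩ :=
    W7Adic.exists_algebraization T hp hL hLt (TMul.isAmple_congr e₀.symm hL₀)
  let J := K.comap g
  haveI : ∀ n, IsClosedImmersion (e n) := fun n => MorphismProperty.of_isPullback (P := @IsClosedImmersion) (hpb n).flip inferInstance
  have hker : ∀ n, (e n).ker = J ^ (n + 1) := fun n => by
    rw [← ThickSys.comap_pow, ← ThickSys.idealSpec_pow, ← (hpb n).isoPullback_hom_fst,
      Scheme.Hom.ker_comp_of_isIso, Scheme.IdealSheafData.ker_fst_of_isClosedImmersion]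
    rfl
  let E : ∀ n, 𝔛.X n ⟶ (FSch.completionAlong Y J).X n := fun n =>
    IsClosedImmersion.lift (J ^ (n + 1)).subschemeι (e n) (by rw [Scheme.IdealSheafData.ker_subschemeι, hker])
  haveI hE : ∀ n, IsIso (E n) := fun n =>
    IsClosedImmersion.isIso_lift (J ^ (n + 1)).subschemeι (e n) (by rw [Scheme.IdealSheafData.ker_subschemeι, hker])
  have hEι : ∀ n, E n ≫ (J ^ (n + 1)).subschemeι = e n := fun n => IsClosedImmersion.lift_fac _ _ _
  have hEc : ∀ n, E n ≫ (FSch.completionAlong Y J).ι n = 𝔛.ι n ≫ E (n + 1) := fun n => by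
    rw [← cancel_mono (J ^ (n + 1 + 1)).subschemeι, Category.assoc, Category.assoc, hEι]
    exact ((congrArg (E n ≫ ·) (Scheme.IdealSheafData.inclusion_subschemeι _)).trans (hEι n)).trans (he n)
  have hEc' : ∀ n, inv (E n) ≫ 𝔛.ι n = (FSch.completionAlong Y J).ι n ≫ inv (E (n + 1)) := fun n => by
    rw [IsIso.inv_comp_eq, ← Category.assoc, IsIso.eq_comp_inv, hEc]
  refine ⟨Y, g, M, hg, hM, fun n => (ThickSys.comap_pow K g (n + 1)).le,
    ⟨⟨E, hEc⟩, ⟨fun n => inv (E n), hEc'⟩, FSch.Hom.ext (funext fun n => IsIso.hom_inv_id _),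
      FSch.Hom.ext (funext fun n => IsIso.inv_hom_id _)⟩, FSch.Hom.ext (funext fun n => ?_)⟩
  rw [FSch.comp_app, FSch.completionMap_app, ← cancel_mono (K ^ (n + 1)).subschemeι, Category.assoc,
    Scheme.IdealSheafData.subschemeMap_subschemeι, reassoc_of% (hEι n), (hpb n).w, Category.assoc, hφ]

end Groth.Agent.S12901
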