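import Groth.Statements.S12903
import Groth.Agent.QC.Localisation
import Groth.Agent.QC.IdealMod
import Mathlib.RingTheory.Finiteness.Ideal

set_option autoImplicit false
universe u
open CategoryTheory CategoryTheory.Limits AlgebraicGeometry Opposite
open Coherent

set_option backward.isDefEq.respectTransparency false
set_option backward.isDefEq.respectTransparency.types false

set_option backward.isDefEq.respectTransparency false
set_option backward.isDefEq.respectTransparency.types false
open Opposite Groth.Agent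
open Groth.Agent.QC (res resO res_res res_smul resO_resO)

namespace Groth.Agent.S12903

/-- Let X be a scheme, j : U → X a quasi-compact open immersion with closed complement Z, F a
quasi-coherent O_X-module, V an affine open of X and I a finitely generated ideal of Γ(V, O_X)
cutting out Z ∩ V (a point of V lies outside U if and only if it lies in no basic open X_f with f ∈
I). Then a section s of F over V belongs to the subsheaf Γ_Z(F) of sections supported in Z (the
kernel of F → j_*(F|_U)) if and only if I^n s = 0 for some n. -/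
theorem result {U X : Scheme.{u}} (j : U ⟶ X) [IsOpenImmersion j] [QuasiCompact j]
    (F : X.Modules) (hF : Coh.IsQCoh F) (V : X.Opens) (hV : IsAffineOpen V)
    (I : Ideal (X.ringCatSheaf.obj.obj (op V))) (hI : I.FG)
    (hZ : ∀ x : X, x ∈ V → (x ∉ Set.range j.base ↔ ∀ f ∈ I, x ∉ X.basicOpen (f : Γ(X, V))))
    (s : F.val.obj (op V)) :
    s ∈ Set.range ((((CxOX.gammaZι j).app F).val.app (op V)).hom) ↔ ∃ n : ℕ, ∀ a ∈ I ^ n, a • s = 0 := by
  haveI : F.IsQuasicoherent := hF
  let W := j ''ᵁ (j ⁻¹ᵁ V)
  have hW : W ≤ V := j.image_preimage_le V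
  let t : Γ(F, V) := s
  have hmem : s ∈ Set.range ((((CxOX.gammaZι j).app F).val.app (op V)).hom) ↔ res F hW t = 0 :=
    Groth.Agent.QC.mem_range_kernel_app ((Scheme.Modules.restrictAdjunction j).unit.app F) V t
  rw [hmem]
  have hWmem : ∀ x : X, x ∈ W ↔ x ∈ V ∧ x ∈ Set.range j.base := fun x => by
    constructor
    · intro hx
      exact ⟨hW hx, by obtain ⟨y, -, rfl⟩ := hx; exact ⟨y, rfl⟩⟩
    · rintro ⟨hx, y, rfl⟩
      exact ⟨y, hx, rfl⟩
  constructor
  · intro h0
    let J : Ideal Γ(X, V) := LinearMap.ker (LinearMap.toSpanSingleton Γ(X, V) Γ(F, V) t)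
    have hle : (show Ideal Γ(X, V) from I) ≤ J.radical := by
      intro f hf
      have hfW : X.basicOpen f ≤ W := fun x hx => by
        have hxV := X.basicOpen_le f hx
        refine (hWmem x).2 ⟨hxV, ?_⟩
        by_contra hx'
        exact (hZ x hxV).1 hx' f hf hx
      obtain ⟨n, hn⟩ := Groth.Agent.QC.exists_pow_smul_eq_zero_of_isCompact (M := F) hV.isCompact f t (by
        rw [← res_res F hfW hW, h0, map_zero])
      exact ⟨n, hn⟩
    obtain ⟨n, hn⟩ := Ideal.exists_pow_le_of_le_radical_of_fg hle hI
    exact ⟨n, fun a ha => hn ha⟩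
  · rintro ⟨n, hn⟩
    refine Groth.Agent.QC.section_eq_of_locally fun x hx => ?_
    obtain ⟨hxV, hxU⟩ := (hWmem x).1 hx
    obtain ⟨f, hf, hxf⟩ : ∃ f : Γ(X, V), f ∈ (show Ideal Γ(X, V) from I) ∧ x ∈ X.basicOpen f := by
      by_contra hc
      push Not at hc
      exact (hZ x hxV).2 hc hxU
    let D := X.basicOpen f
    refine ⟨D ⊓ W, inf_le_right, ⟨hxf, hx⟩, ?_⟩
    change res F inf_le_right (res F hW t) = res F inf_le_right 0
    rw [res_res, map_zero]
    have hu : IsUnit (resO X (inf_le_left.trans (X.basicOpen_le f) : D ⊓ W ≤ V) (f ^ n)) := by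
      rw [← resO_resO (inf_le_left : D ⊓ W ≤ D) (X.basicOpen_le f)]
      refine IsUnit.map _ ?_
      rw [map_pow]
      exact (X.toRingedSpace.isUnit_res_basicOpen f).pow n
    refine hu.smul_eq_zero.1 ?_
    rw [← res_smul]
    exact (congrArg _ (hn (f ^ n) (Ideal.pow_mem_pow hf n))).trans (map_zero _)

end Groth.Agent.S12903
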