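import Groth.Statements.S12905
import Groth.Agent.SuppZero.Basic
import Groth.Agent.CohFinite.Serre
import Groth.Agent.CohQC.QuasiAffine


set_option autoImplicit false
universe u
open CategoryTheory CategoryTheory.Limits AlgebraicGeometry
open Variety

set_option backward.isDefEq.respectTransparency false
namespace Groth.Agent.S12905

/-- Let k be a field and φ : F' → F a monomorphism of coherent modules on P^n_k whose cokernel has
support of Krull dimension at most zero (a finite set of closed points, possibly empty). If F' is
m-regular then F is m-regular. (The published statement is the case of an ideal sheaf contained in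
the ideal sheaf of a curve with quotient supported at finitely many points, phrased as an inequality
of regularities; the argument gives the form stated here.) -/
theorem result (k : Type u) [Field k] (n : ℕ)
    (F' F : (CohB1.ProjSpace n k).Modules) (hF' : Coh.IsCoh F') (hF : Coh.IsCoh F) (φ : F' ⟶ F) [Mono φ]
    (hsupp : topologicalKrullDim (CohB1.support (cokernel φ)) ≤ 0) (m : ℤ)
    (h : Curv2.IsMRegular k n F' m) : Curv2.IsMRegular k n F m := by
  haveI : IsNoetherian (CohB1.ProjSpace n k) := Groth.Agent.CohFinite.isNoetherian_projSpace n k
  intro i hi hin
  have hL := Groth.Agent.CohFinite.isInvertible_twist n k (m - i)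
  have hC : Coh.IsCoh (cokernel φ) := Groth.Agent.QC.isCoh_cokernel hF'.1 hF φ
  let S : ShortComplex (CohB1.ProjSpace n k).Modules := ShortComplex.mk φ (cokernel.π φ) (cokernel.condition φ)
  have hS : S.ShortExact := { exact := ShortComplex.exact_cokernel φ, mono_f := ‹Mono φ›, epi_g := inferInstanceAs (Epi (cokernel.π φ)) }
  refine Groth.Agent.CohQC.subsingleton_hh_middle (Groth.Agent.CohFinite.shortExact_tmap hL hS) i (h i hi hin) ?_
  exact Groth.Agent.SuppZero.subsingleton_hh_of_supported (Groth.Agent.QC.isClosed_support hC.2) hsupp _
    (fun x hx => Groth.Agent.SuppZero.notMem_support_tensorMod _ _ hL hx) i hi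

end Groth.Agent.S12905
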