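import Groth.Statements.S12909
import Groth.Agent.FFR.Socle

set_option autoImplicit false
universe u
open CAlgX

namespace Groth.Agent.S12909

/-- shifted sizes -/
def n' (n : ℕ → ℕ) : ℕ → ℕ
  | 0 => 1
  | i + 1 => n i

/-- the resolution with the augmentation as first matrix -/
def M' {R : Type _} [CommRing R] (n : ℕ → ℕ) (A : (i : ℕ) → Matrix (Fin (n i)) (Fin (n (i + 1))) R)
    (v : Fin (n 0) → R) : (i : ℕ) → Matrix (Fin (n' n i)) (Fin (n' n (i + 1))) R
  | 0 => Matrix.of fun _ j => v j
  | i + 1 => A i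

/-- Let R be a Noetherian ring and I a nonzero ideal with a finite free resolution 0 → R^{n_e} → … →
R^{n_1} → R^{n_0} → I → 0 with e ≥ 1: the map R^{n_{i+1}} → R^{n_i} is the matrix A_i, the map π :
R^{n_0} → R is linear with image I, the kernel of π is the image of A_0, the kernel of A_i is the
image of A_{i+1} for 0 ≤ i ≤ e - 2, and A_{e-1} is injective. Then I contains a non-zero-divisor of
R. (The hypothesis that I is nonzero is implicit in the published statement: the zero ideal of a
domain has a finite free resolution and contains no non-zero-divisor.) -/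
theorem result {R : Type u} [CommRing R] [IsNoetherianRing R]
    (e : ℕ) (he : 1 ≤ e) (n : ℕ → ℕ) (A : (i : ℕ) → Matrix (Fin (n i)) (Fin (n (i + 1))) R)
    (π : (Fin (n 0) → R) →ₗ[R] R) (hI : LinearMap.range π ≠ ⊥)
    (h0 : LinearMap.ker π = LinearMap.range (A 0).mulVecLin)
    (hA : ∀ i, i + 2 ≤ e → LinearMap.ker (A i).mulVecLin = LinearMap.range (A (i + 1)).mulVecLin)
    (hlast : LinearMap.ker (A (e - 1)).mulVecLin = ⊥) :
    ∃ x : R, x ∈ LinearMap.range π ∧ x ∈ nonZeroDivisors R := by
  by_contra hcon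
  push Not at hcon
  have hπ : ∀ v : Fin (n 0) → R, π v = ∑ j, π (Pi.single j 1) * v j := by
    intro v
    conv_lhs => rw [pi_eq_sum_univ' v]
    rw [map_sum]
    refine Finset.sum_congr rfl fun j _ => ?_
    rw [map_smul, smul_eq_mul, mul_comm]
  have hker : LinearMap.ker (M' n A (fun j => π (Pi.single j 1)) 0).mulVecLin = LinearMap.ker π := by
    refine Submodule.ext fun (v : Fin (n 0) → R) => ?_
    change (Matrix.of fun (_ : Fin 1) j => π (Pi.single j 1)).mulVec v = 0 ↔ π v = 0
    rw [hπ]
    exact ⟨fun h => congr_fun h (0 : Fin 1), fun h => funext fun _ => h⟩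
  obtain ⟨e, rfl⟩ : ∃ e', e = e' + 1 := ⟨e - 1, by omega⟩
  obtain ⟨P, hP, hIP⟩ : ∃ P ∈ associatedPrimes R R, LinearMap.range π ≤ P := by
    refine (Ideal.subset_union_prime_finite (associatedPrimes.finite R R) (f := id) 0 0
      fun _ h _ _ => h.1).1 fun x hx => ?_
    simp only [id]
    rw [biUnion_associatedPrimes_eq_compl_nonZeroDivisors R]
    exact hcon x hx
  have hne : ∃ (i : Fin 1) (j : Fin (n 0)), π (Pi.single j 1) ≠ 0 := by
    by_contra h
    push Not at h
    refine hI (le_bot_iff.mp ?_)
    rintro x ⟨v, rfl⟩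
    simp [hπ v, h 0]
  refine Groth.Agent.FFR.false_of_le_associatedPrime (e + 1) (n' n)
    (M' n A (fun j => π (Pi.single j 1))) (fun i hi => ?_) hlast hne hP
    (fun _ j => hIP ⟨_, rfl⟩)
  cases i with
  | zero => exact hker.trans h0
  | succ i => exact hA i (by omega)

end Groth.Agent.S12909
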