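import Groth.Statements.S12912
import Groth.Agent.CurveVA.Main
import Groth.Agent.CurveRR.Series
import Groth.Agent.CurveRR.Deg
import Groth.Agent.CurveRR.Pencil

set_option autoImplicit false
universe u
open CategoryTheory CategoryTheory.Limits AlgebraicGeometry
open Curves

set_option backward.isDefEq.respectTransparency false
set_option backward.isDefEq.respectTransparency.types false

open Groth.Agent Opposite Groth.Agent.CurveRR Groth.Agent.CohFinite CategoryTheory.Limits

namespace Groth.Agent.S12912

/-- Let k be an algebraically closed field and X a curve over k (integral, proper over k, of dimension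
one) with a closed immersion i : X → P^r_k over k whose image lies in no hyperplane: every nonzero
global section of O(1) on P^r_k pulls back to a nonzero global section of i^* O(1). Then deg i^*
O(1) ≥ r. -/
theorem result (k : Type u) [Field k] [IsAlgClosed k] (r : ℕ)
    (X : Scheme.{u}) [X.Over (Spec (CommRingCat.of k))] [IsIntegral X] [IsProper (X ↘ (Spec (CommRingCat.of k)))]
    (hdim : topologicalKrullDim X = 1)
    (i : X ⟶ CohB1.ProjSpace r k) [IsClosedImmersion i]
    (hi : i ≫ CohB1.ProjSpace.toSpec r k = (X ↘ (Spec (CommRingCat.of k))))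
    (hplane : ∀ s : LinSer.Sect (CohB1.ProjSpace r k) (Twist.twistProjSpace r k 1), s ≠ 0 →
      OmegaSh.pullSect i (Twist.twistProjSpace r k 1) ⊤ s ≠ 0) :
    (r : ℤ) ≤ Curv2.deg k X ((Scheme.Modules.pullback i).obj (Twist.twistProjSpace r k 1)) 1 := by
  haveI := isNoetherian_of_proper k X
  have h00 := h0_structure k X
  set L := (Scheme.Modules.pullback i).obj (Twist.twistProjSpace r k 1)
  have hL : PicF.IsInvertible L := CurveVA.isInvertible_O1 i
  let t : Fin (r + 1) → LinSer.Sect X L := fun a =>
    ProjUP.pullSec i (Twist.twistProjSpace r k 1) (ProjUP.coord r k a)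
  have hind : LinSer.LinIndep k X L t := fun c hc => by
    by_contra hne
    have hp : _root_.ProjMor.pull1 i (_root_.ProjMor.linForms_mem r k c) = 0 := by
      rw [_root_.ProjMor.pull1_linForms, hi]
      exact hc
    have hs0 : (_root_.ProjMor.sec1 (_root_.ProjMor.linForms_mem r k c) :
        LinSer.Sect (CohB1.ProjSpace r k) (Twist.twistProjSpace r k 1)) ≠ 0 := by
      intro h0
      obtain ⟨x⟩ := (inferInstance : Nonempty X)
      have h1 := congrArg (fun s : Twist.sectN (𝒜 := CohB1.polyGrading r k) ((1 : ℕ) : ℤ) (op ⊤) =>
        (s.1 ⟨i x, trivial⟩).1) (h0 : Twist.globalOf (CohB1.polyGrading r k)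
          ⟨_root_.ProjMor.linForms r k c, _root_.ProjMor.linForms_mem r k c⟩ = 0)
      have h2 : algebraMap (MvPolynomial (Fin (r + 1)) k) (Localization _) (_root_.ProjMor.linForms r k c) = 0 :=
        (Localization.mk_one_eq_algebraMap _).symm.trans h1
      have hle : (i x).asHomogeneousIdeal.toIdeal.primeCompl ≤
          nonZeroDivisors (MvPolynomial (Fin (r + 1)) k) := fun y hy =>
        mem_nonZeroDivisors_of_ne_zero fun h => hy (h ▸ Ideal.zero_mem _)
      have h3 : _root_.ProjMor.linForms r k c = 0 :=
        IsLocalization.injective (Localization _) hle (h2.trans (map_zero _).symm)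
      refine hne (funext fun a => ?_)
      have h4 := congrArg (MvPolynomial.coeff (Finsupp.single a 1)) h3
      rw [_root_.ProjMor.linForms, Fintype.linearCombination_apply, MvPolynomial.coeff_sum, MvPolynomial.coeff_zero,
        Finset.sum_eq_single a (fun b _ hb => by
          rw [MvPolynomial.coeff_smul, MvPolynomial.coeff_X', if_neg, smul_zero]
          exact fun h => hb (Finsupp.single_left_injective one_ne_zero h))
          (fun h => absurd (Finset.mem_univ a) h),
        MvPolynomial.coeff_smul, MvPolynomial.coeff_X', if_pos rfl, smul_eq_mul, mul_one] at h4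
      exact h4
    exact hplane _ hs0 hp
  haveI := finite_proper k X L (isCoh_of_inv hL) 0
  letI := secMod k L ⊤
  haveI : Module.Finite k Γ(L, ⊤) := Module.Finite.equiv (secH0 (k := k) _).symm
  let t' : Fin (r + 1) → Γ(L, ⊤) := t
  have hli : LinearIndependent k t' := Fintype.linearIndependent_iff.2 fun c hc a => by
    refine congrFun (hind c (Eq.trans (Finset.sum_congr rfl fun j _ => ?_) hc)) a
    show _ = cst k X ⊤ (c j) • t' j
    rw [show cst k X ⊤ (c j) = Coh.toGlobal (X ↘ Spec (CommRingCat.of k)) (c j) from QC.resO_self _ _]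
  have h4 := hli.fintype_card_le_finrank
  rw [Fintype.card_fin, finrank_sec] at h4
  obtain ⟨h5, -⟩ := series_bound (k := k) hdim.le h00 hL (by omega)
  omega

end Groth.Agent.S12912
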