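import Groth.Statements.S12914
import Mathlib.RingTheory.MvPolynomial.Homogeneous
import Mathlib.RingTheory.MvPolynomial.Ideal
import Mathlib.RingTheory.AdjoinRoot
import Mathlib.RingTheory.Nakayama
import Mathlib.RingTheory.Polynomial.Basic
import Mathlib.LinearAlgebra.FreeModule.PID
import Mathlib.LinearAlgebra.Dimension.Constructions
import Mathlib.Algebra.Module.SpanRank
import Mathlib.FieldTheory.IsAlgClosed.AlgebraicClosure
import Mathlib.Algebra.MvPolynomial.Funext

set_option autoImplicit false
universe u
open CAlgX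

namespace Groth.Agent.S12914

attribute [local instance] MvPolynomial.gradedAlgebra

open MvPolynomial

section Line

variable {R : Type u} [CommRing R]

/-- Restriction of a polynomial to the line through a point. -/
noncomputable def lineMap (p : Fin 3 → R) : MvPolynomial (Fin 3) R →ₐ[R] Polynomial R :=
  aeval fun i => Polynomial.C (p i) * Polynomial.X

theorem lineMap_homogeneous (p : Fin 3 → R) {g : MvPolynomial (Fin 3) R} {n : ℕ}
    (hg : g.IsHomogeneous n) : lineMap p g = Polynomial.C (eval p g) * Polynomial.X ^ n := by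
  conv_lhs => rw [g.as_sum]
  conv_rhs => rw [g.as_sum]
  rw [map_sum, map_sum, map_sum, Finset.sum_mul]
  refine Finset.sum_congr rfl fun e he => ?_
  rw [lineMap, aeval_monomial, eval_monomial, Finsupp.prod, Finsupp.prod, map_mul, map_prod]
  simp only [mul_pow, map_pow, Finset.prod_mul_distrib, Finset.prod_pow_eq_pow_sum]
  have hd : ∑ i ∈ e.support, e i = n := by
    have := hg (mem_support_iff.mp he)
    rwa [Finsupp.weight_apply, Finsupp.sum, Finset.sum_congr rfl fun i _ => by
      rw [Pi.one_apply, smul_eq_mul, mul_one]] at this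
  rw [hd, Polynomial.algebraMap_eq]
  ring

theorem coeff_lineMap (p : Fin 3 → R) (g : MvPolynomial (Fin 3) R) (j : ℕ) :
    (lineMap p g).coeff j = eval p (homogeneousComponent j g) := by
  conv_lhs => rw [← sum_homogeneousComponent g]
  rw [map_sum, Polynomial.finsetSum_coeff]
  simp only [lineMap_homogeneous p (homogeneousComponent_isHomogeneous _ g),
    Polynomial.coeff_C_mul_X_pow]
  rw [Finset.sum_ite_eq, ite_eq_left_iff]
  intro hj
  rw [homogeneousComponent_eq_zero, map_zero]
  simp only [Finset.mem_range, not_lt] at hj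
  omega

end Line

section LinearStep

variable {L : Type u} [Field L] [Infinite L]

/-- Over an infinite field: the vanishing ideal is generated by `d + 1` elements modulo `m I`. -/
theorem exists_gens (Z : Finset (Fin 3 → L)) (hZ : ∀ p ∈ Z, p ≠ 0)
    (I : Ideal (MvPolynomial (Fin 3) L)) (hI : ∀ g, g ∈ I ↔ ∀ p ∈ Z, lineMap p g = 0) (d : ℕ)
    (f : MvPolynomial (Fin 3) L) (hf : f ∈ I) (hfd : f.IsHomogeneous d) (hf0 : f ≠ 0) :
    ∃ H : Finset (MvPolynomial (Fin 3) L), H.card ≤ d + 1 ∧ (H : Set (MvPolynomial (Fin 3) L)) ⊆ (I : Set (MvPolynomial (Fin 3) L)) ∧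
      I ≤ Ideal.span (H : Set (MvPolynomial (Fin 3) L)) ⊔ idealOfVars (Fin 3) L * I := by
  classical
  obtain ⟨t, ht⟩ : ∃ t : L, ∀ p ∈ Z, p 0 + t * p 1 + t ^ 2 * p 2 ≠ 0 := by
    have hne : (∏ p ∈ Z, (Polynomial.C (p 0) + Polynomial.C (p 1) * Polynomial.X +
        Polynomial.C (p 2) * Polynomial.X ^ 2)) ≠ 0 := by
      refine Finset.prod_ne_zero_iff.mpr fun p hp h => hZ p hp ?_
      funext i
      have h' := congrArg (fun q => Polynomial.coeff q i.1) h
      simp only [Polynomial.coeff_add, Polynomial.coeff_C_mul, Polynomial.coeff_X_pow,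
        Polynomial.coeff_X, Polynomial.coeff_C, Polynomial.coeff_zero] at h'
      fin_cases i <;> norm_num at h' <;> exact h'
    by_contra hall
    push Not at hall
    refine hne (Polynomial.funext fun t => ?_)
    obtain ⟨p, hp, hpt⟩ := hall t
    rw [Polynomial.eval_zero, Polynomial.eval_prod]
    refine Finset.prod_eq_zero hp ?_
    simp only [Polynomial.eval_add, Polynomial.eval_mul, Polynomial.eval_C, Polynomial.eval_pow,
      Polynomial.eval_X]
    rw [← hpt]
    ring
  set ℓ : MvPolynomial (Fin 3) L := X 0 + C t * X 1 + C (t ^ 2) * X 2 with hℓ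
  have hℓm : ℓ ∈ idealOfVars (Fin 3) L := by
    have h : ∀ i, (X i : MvPolynomial (Fin 3) L) ∈ idealOfVars (Fin 3) L := fun i =>
      Ideal.subset_span (Set.mem_range_self i)
    exact add_mem (add_mem (h 0) (Ideal.mul_mem_left _ _ (h 1))) (Ideal.mul_mem_left _ _ (h 2))
  have hdiv : ∀ g, ℓ * g ∈ I → g ∈ I := by
    intro g hg
    rw [hI] at hg ⊢
    intro p hp
    have h := hg p hp
    rw [map_mul] at h
    refine (mul_eq_zero.mp h).resolve_left fun h0 => ht p hp ?_
    have := congrArg (fun q => Polynomial.coeff q 1) h0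
    simp only [hℓ, lineMap, map_add, map_mul, aeval_X, aeval_C, Polynomial.algebraMap_eq,
      Polynomial.coeff_add, Polynomial.coeff_C_mul, Polynomial.coeff_X_one, mul_one,
      Polynomial.coeff_zero] at this
    exact this
  have hℓ0 : ∀ p : Fin 3 → L, eval p ℓ = p 0 + t * p 1 + t ^ 2 * p 2 := by
    intro p; simp [hℓ]
  -- restriction to the line `ℓ = 0`
  let ρ : MvPolynomial (Fin 3) L →ₐ[L] MvPolynomial (Fin 2) L :=
    aeval ![-(C t * X 0) - C (t ^ 2) * X 1, X 0, X 1]
  let ρ' : MvPolynomial (Fin 2) L →ₐ[L] MvPolynomial (Fin 3) L := aeval ![X 1, X 2]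
  have hker : ∀ g, ρ g = 0 → ∃ g', g = ℓ * g' := by
    intro g hg
    have h : (Ideal.Quotient.mkₐ L (Ideal.span {ℓ})).comp (ρ'.comp ρ) =
        Ideal.Quotient.mkₐ L (Ideal.span {ℓ}) := by
      refine MvPolynomial.algHom_ext fun i => ?_
      simp only [AlgHom.comp_apply, ρ, aeval_X]
      rw [Ideal.Quotient.mkₐ_eq_mk, Ideal.Quotient.eq, Ideal.mem_span_singleton]
      fin_cases i
      · refine ⟨-1, ?_⟩
        simp [ρ', hℓ]
        ring
      · simp [ρ']
      · simp [ρ']
    have := AlgHom.congr_fun h g
    rw [AlgHom.comp_apply, AlgHom.comp_apply, hg, map_zero, map_zero, eq_comm,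
      Ideal.Quotient.mkₐ_eq_mk, Ideal.Quotient.eq_zero_iff_mem, Ideal.mem_span_singleton] at this
    exact this
  -- lower the degree until `f` does not vanish on the line
  obtain ⟨e, he, f₀, hf₀, hf₀e, hρ⟩ : ∃ e ≤ d, ∃ f₀ ∈ I, f₀.IsHomogeneous e ∧ ρ f₀ ≠ 0 := by
    induction d generalizing f with
    | zero =>
      refine ⟨0, le_rfl, f, hf, hfd, fun h => hf0 ?_⟩
      obtain ⟨c, rfl⟩ : ∃ c, f = C c :=
        ⟨coeff 0 f, by rw [← homogeneousComponent_zero, homogeneousComponent_eq_self hfd]⟩
      simpa [ρ] using h
    | succ d ih =>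
      by_cases h : ρ f = 0
      · obtain ⟨g, rfl⟩ := hker f h
        have hg : homogeneousComponent d g = g := by
          have hℓ1 : ℓ.IsHomogeneous 1 :=
            ((isHomogeneous_X L 0).add (isHomogeneous_C_mul_X t 1)).add
              (isHomogeneous_C_mul_X (t ^ 2) 2)
          have hne : ℓ ≠ 0 := fun h0 => hf0 (by rw [h0, zero_mul])
          refine mul_left_cancel₀ hne ?_
          have key : homogeneousComponent (d + 1) (ℓ * g) = ℓ * homogeneousComponent d g := by
            conv_lhs => rw [← sum_homogeneousComponent g, Finset.mul_sum, map_sum]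
            rw [Finset.sum_eq_single d]
            · rw [homogeneousComponent_eq_self]
              rw [add_comm d 1]
              exact hℓ1.mul (homogeneousComponent_isHomogeneous d g)
            · intro i _ hi
              rw [homogeneousComponent_of_mem (m := d + 1) (n := 1 + i)
                (hℓ1.mul (homogeneousComponent_isHomogeneous i g)), if_neg (by omega)]
            · intro hd
              rw [homogeneousComponent_eq_zero d g (by simp at hd; omega), mul_zero, map_zero]
          rw [← key, homogeneousComponent_eq_self hfd]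
        obtain ⟨e, he, rest⟩ := ih g (hdiv g hf) (hg ▸ homogeneousComponent_isHomogeneous d g)
          fun h0 => hf0 (by rw [h0, mul_zero])
        exact ⟨e, he.trans (Nat.le_succ d), rest⟩
      · exact ⟨d + 1, le_rfl, f, hf, hfd, h⟩
  obtain ⟨r, hr⟩ : ∃ r : Fin 2 → L, eval r (X 0 * ρ f₀) ≠ 0 := by
    by_contra hall
    push Not at hall
    exact mul_ne_zero (X_ne_zero 0) hρ (MvPolynomial.funext fun r => by rw [hall r, map_zero])
  rw [map_mul, eval_X, mul_ne_zero_iff] at hr
  let q : Fin 3 → L := ![-(t * r 0) - t ^ 2 * r 1, r 0, r 1]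
  have hfq : eval q f₀ ≠ 0 := by
    have : (aeval r).comp ρ = (aeval q : MvPolynomial (Fin 3) L →ₐ[L] L) := by
      refine MvPolynomial.algHom_ext fun i => ?_
      fin_cases i <;> simp [ρ, q]
    have h := AlgHom.congr_fun this f₀
    rw [AlgHom.comp_apply] at h
    rw [← MvPolynomial.coe_aeval_eq_eval, RingHom.coe_coe, ← h, ← RingHom.coe_coe,
      MvPolynomial.coe_aeval_eq_eval]
    exact hr.2
  -- coordinates on the line
  let π : MvPolynomial (Fin 3) L →ₐ[L] Polynomial (Polynomial L) := aeval fun i =>
    Polynomial.C (Polynomial.C (![-t ^ 2, 0, 1] i) * Polynomial.X) +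
      Polynomial.C (Polynomial.C (q i)) * Polynomial.X
  let σu : MvPolynomial (Fin 3) L := X 2 - C (q 2 / q 1) * X 1
  let σv : MvPolynomial (Fin 3) L := C (1 / q 1) * X 1
  let σ : Polynomial (Polynomial L) →+* MvPolynomial (Fin 3) L :=
    Polynomial.eval₂RingHom (Polynomial.aeval σu).toRingHom σv
  have hq1 : q 1 ≠ 0 := hr.1
  have hσπ : ∀ g, ℓ ∣ g - σ (π g) := by
    intro g
    induction g using MvPolynomial.induction_on with
    | C a => simp [σ, π, IsScalarTower.algebraMap_apply L (Polynomial L) (Polynomial (Polynomial L))]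
    | add a b ha hb =>
      rw [map_add, map_add, add_sub_add_comm]
      exact dvd_add ha hb
    | mul_X a i ha =>
      rw [map_mul, map_mul, show a * X i - σ (π a) * σ (π (X i)) =
        (a - σ (π a)) * X i + σ (π a) * (X i - σ (π (X i))) by ring]
      refine dvd_add (dvd_mul_of_dvd_left ha _) (dvd_mul_of_dvd_right ?_ _)
      have hq0 : q 0 = -(t * q 1) - t ^ 2 * q 2 := by simp [q]
      have hσX : ∀ i, σ (π (X i)) = C (![-t ^ 2, 0, 1] i) * σu + C (q i) * σv := fun i => by
        simp [σ, π]
      rw [hσX]
      fin_cases i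
      · refine ⟨1, ?_⟩
        have hc : (C t : MvPolynomial (Fin 3) L) =
            -(C (q 0) * C (1 / q 1)) - C (t ^ 2) * C (q 2 / q 1) := by
          rw [← map_mul, ← map_mul, ← map_neg, ← map_sub, hq0]
          congr 1
          field_simp
          ring
        simp only [Fin.zero_eta, Matrix.cons_val_zero, hℓ, σu, σv, map_neg]
        linear_combination (-(X 1 : MvPolynomial (Fin 3) L)) * hc
      · have hc : (C (q 1) : MvPolynomial (Fin 3) L) * C (1 / q 1) = 1 := by
          rw [← map_mul, mul_one_div_cancel hq1, map_one]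
        refine ⟨0, ?_⟩
        simp only [Fin.mk_one, Matrix.cons_val_one, Matrix.cons_val_zero, map_zero, σv]
        linear_combination (-(X 1 : MvPolynomial (Fin 3) L)) * hc
      · have hc : (C (q 2 / q 1) : MvPolynomial (Fin 3) L) = C (q 2) * C (1 / q 1) := by
          rw [← map_mul, mul_one_div]
        refine ⟨0, ?_⟩
        simp only [Fin.reduceFinMk, Matrix.cons_val, map_one, σu, σv]
        linear_combination (X 1 : MvPolynomial (Fin 3) L) * hc
  have hπσ : ∀ s, π (σ s) = s := by
    have hπC : ∀ a, π (C a) = Polynomial.C (Polynomial.C a) := fun a => by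
      simp only [π, aeval_C]
      rfl
    have hu : π σu = Polynomial.C Polynomial.X := by
      simp only [σu, map_sub, map_mul, hπC]
      simp only [π, aeval_X, Matrix.cons_val_one, Matrix.cons_val_zero, Matrix.cons_val,
        map_one, one_mul, map_zero, zero_mul, zero_add]
      rw [← mul_assoc, ← map_mul, ← map_mul, div_mul_cancel₀ _ hq1]
      ring
    have hv : π σv = Polynomial.X := by
      simp only [σv, map_mul, hπC]
      simp only [π, aeval_X, Matrix.cons_val_one, Matrix.cons_val_zero,
        map_zero, zero_mul, zero_add]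
      rw [← mul_assoc, ← map_mul, ← map_mul, one_div_mul_cancel hq1, map_one, map_one, one_mul]
    intro s
    induction s using Polynomial.induction_on with
    | C a =>
      simp only [σ, Polynomial.coe_eval₂RingHom, Polynomial.eval₂_C, AlgHom.toRingHom_eq_coe,
        RingHom.coe_coe]
      rw [← Polynomial.aeval_algHom_apply, hu]
      induction a using Polynomial.induction_on' with
      | add a b ha hb => rw [map_add, ha, hb, map_add]
      | monomial n c =>
        rw [Polynomial.aeval_monomial, ← Polynomial.C_mul_X_pow_eq_monomial, map_mul, map_pow,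
          IsScalarTower.algebraMap_apply L (Polynomial L) (Polynomial (Polynomial L))]
        rfl
    | add a b ha hb => rw [map_add, map_add, ha, hb]
    | monomial n a ih =>
      rw [pow_succ, ← mul_assoc, map_mul, map_mul, ih]
      simp [σ, hv]
  -- `π f₀` is monic up to a unit
  have hdeg : (π f₀).natDegree ≤ e ∧ (π f₀).coeff e = Polynomial.C (eval q f₀) := by
    rw [f₀.as_sum, map_sum, map_sum, map_sum, Polynomial.finsetSum_coeff]
    have hlin : ∀ i, (Polynomial.C (Polynomial.C (![-t ^ 2, 0, 1] i) * Polynomial.X) +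
        Polynomial.C (Polynomial.C (q i)) * Polynomial.X).natDegree ≤ 1 := fun i =>
      (Polynomial.natDegree_add_le _ _).trans (max_le (by rw [Polynomial.natDegree_C]; exact zero_le_one)
        ((Polynomial.natDegree_C_mul_le _ _).trans Polynomial.natDegree_X_le))
    have hmon : ∀ m ∈ f₀.support, (π (monomial m (coeff m f₀))).natDegree ≤ e ∧
        (π (monomial m (coeff m f₀))).coeff e = Polynomial.C (eval q (monomial m (coeff m f₀))) := by
      intro m hm
      have hd : ∑ i ∈ m.support, m i = e := by
        have := hf₀e (mem_support_iff.mp hm)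
        rwa [Finsupp.weight_apply, Finsupp.sum, Finset.sum_congr rfl fun i _ => by
          rw [Pi.one_apply, smul_eq_mul, mul_one]] at this
      simp only [π, aeval_monomial, eval_monomial, Finsupp.prod,
        IsScalarTower.algebraMap_apply L (Polynomial L) (Polynomial (Polynomial L)),
        Polynomial.algebraMap_eq]
      constructor
      · refine (Polynomial.natDegree_C_mul_le _ _).trans ((Polynomial.natDegree_prod_le _ _).trans ?_)
        rw [← hd]
        exact Finset.sum_le_sum fun i _ => Polynomial.natDegree_pow_le.trans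
          (by simpa using Nat.mul_le_mul_left (m i) (hlin i))
      · rw [Polynomial.coeff_C_mul, map_mul, map_prod, ← hd]
        congr 1
        have : ∀ (s : Finset (Fin 3)), (∏ i ∈ s, (Polynomial.C (Polynomial.C (![-t ^ 2, 0, 1] i) * Polynomial.X) +
            Polynomial.C (Polynomial.C (q i)) * Polynomial.X) ^ m i).coeff (∑ i ∈ s, m i) =
            ∏ i ∈ s, Polynomial.C (q i ^ m i) := by
          intro s
          induction s using Finset.induction with
          | empty => simp
          | insert a s ha ih =>
            rw [Finset.prod_insert ha, Finset.sum_insert ha, Finset.prod_insert ha,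
              Polynomial.coeff_mul_add_eq_of_natDegree_le
                (Polynomial.natDegree_pow_le.trans (by simpa using Nat.mul_le_mul_left (m a) (hlin a)))
                ((Polynomial.natDegree_prod_le _ _).trans (Finset.sum_le_sum fun i _ =>
                  Polynomial.natDegree_pow_le.trans (by simpa using Nat.mul_le_mul_left (m i) (hlin i)))),
              ih, map_pow]
            congr 1
            have hp := Polynomial.coeff_pow_of_natDegree_le (m := m a) (hlin a)
            rw [mul_one] at hp
            rw [hp]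
            simp
        exact this m.support
    refine ⟨Polynomial.natDegree_sum_le_of_forall_le _ _ fun m hm => (hmon m hm).1,
      Finset.sum_congr rfl fun m hm => (hmon m hm).2⟩
  set c : L := eval q f₀
  set P : Polynomial (Polynomial L) := Polynomial.C (Polynomial.C c⁻¹) * π f₀ with hP
  have hPc : P.coeff e = 1 := by
    rw [hP, Polynomial.coeff_C_mul, hdeg.2, ← map_mul, inv_mul_cancel₀ hfq, map_one]
  have hPd : P.natDegree ≤ e := (Polynomial.natDegree_C_mul_le _ _).trans hdeg.1
  have hPm : P.Monic := Polynomial.monic_of_natDegree_le_of_coeff_eq_one e hPd hPc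
  let pb := AdjoinRoot.powerBasis' hPm
  haveI : Module.Free (Polynomial L) (AdjoinRoot P) := Module.Free.of_basis pb.basis
  haveI : Module.Finite (Polynomial L) (AdjoinRoot P) := Module.Finite.of_basis pb.basis
  let J : Submodule (Polynomial L) (AdjoinRoot P) :=
    { carrier := (fun g => AdjoinRoot.mk P (π g)) '' I
      add_mem' := by
        rintro _ _ ⟨a, ha, rfl⟩ ⟨b, hb, rfl⟩
        exact ⟨a + b, add_mem ha hb, by simp⟩
      zero_mem' := ⟨0, zero_mem _, by simp⟩
      smul_mem' := by
        rintro a _ ⟨g, hg, rfl⟩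
        refine ⟨σ (Polynomial.C a) * g, Ideal.mul_mem_left _ _ hg, ?_⟩
        simp only [map_mul, hπσ, AdjoinRoot.mk_C]
        rw [Algebra.smul_def, AdjoinRoot.algebraMap_eq] }
  obtain ⟨n, bJ⟩ := Submodule.basisOfPid pb.basis J
  have hn : n ≤ d := by
    have h1 := Module.finrank_eq_card_basis bJ
    have h2 := Submodule.finrank_le J
    have h3 := Module.finrank_eq_card_basis pb.basis
    rw [Fintype.card_fin] at h1 h3
    have h4 : pb.dim ≤ e := by simpa [pb] using hPd
    omega
  choose g hg hg' using fun i => (bJ i).2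
  refine ⟨insert f₀ (Finset.univ.image g), ?_, ?_, fun h hh => ?_⟩
  · refine (Finset.card_insert_le _ _).trans (Nat.add_le_add_right ?_ 1)
    exact Finset.card_image_le.trans (by simpa using hn)
  · intro x hx
    simp only [Finset.coe_insert, Finset.coe_image, Set.mem_insert_iff, Set.mem_image] at hx
    rcases hx with rfl | ⟨i, -, rfl⟩
    exacts [hf₀, hg i]
  have hhJ : AdjoinRoot.mk P (π h) ∈ J := ⟨h, hh, rfl⟩
  have hrepr := congrArg Subtype.val (bJ.sum_repr ⟨_, hhJ⟩)
  simp only [AddSubmonoidClass.coe_finsetSum, Submodule.coe_smul] at hrepr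
  set a : Fin n → Polynomial L := fun i => bJ.repr ⟨_, hhJ⟩ i
  have hmk : AdjoinRoot.mk P (π (h - ∑ i, σ (Polynomial.C (a i)) * g i)) = 0 := by
    rw [map_sub, map_sub, ← hrepr, map_sum, map_sum, sub_eq_zero]
    refine Finset.sum_congr rfl fun i _ => ?_
    rw [map_mul, map_mul, hπσ, AdjoinRoot.mk_C, Algebra.smul_def, AdjoinRoot.algebraMap_eq, ← hg']
  obtain ⟨s, hs⟩ := AdjoinRoot.mk_eq_zero.mp hmk
  set z := h - ∑ i, σ (Polynomial.C (a i)) * g i - σ (Polynomial.C (Polynomial.C c⁻¹) * s) * f₀
  have hz : π z = 0 := by
    simp only [z, map_sub, map_mul, hπσ] at hs ⊢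
    linear_combination hs
  obtain ⟨z', hz'⟩ : ℓ ∣ z := by
    have := hσπ z
    rwa [hz, map_zero, sub_zero] at this
  have hzI : z ∈ I :=
    sub_mem (sub_mem hh (Ideal.sum_mem _ fun i _ => Ideal.mul_mem_left _ _ (hg i)))
      (Ideal.mul_mem_left _ _ hf₀)
  rw [show h = (∑ i, σ (Polynomial.C (a i)) * g i + σ (Polynomial.C (Polynomial.C c⁻¹) * s) * f₀) + z by
    simp only [z]; ring]
  refine Submodule.add_mem_sup (add_mem (Ideal.sum_mem _ fun i _ => ?_) ?_) ?_
  · exact Ideal.mul_mem_left _ _ (Ideal.subset_span (by simp))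
  · exact Ideal.mul_mem_left _ _ (Ideal.subset_span (by simp))
  · rw [hz']
    exact Ideal.mul_mem_mul hℓm (hdiv z' (hz' ▸ hzI))

end LinearStep

/-- Let k be a field, Z a finite set of nonzero vectors in k^3, regarded as points of the projective
plane, and I the homogeneous vanishing ideal of Z in k[x_0, x_1, x_2]: a polynomial belongs to I
exactly when every one of its homogeneous components vanishes at every vector of Z. If Z lies on a
curve of degree d, that is I contains a nonzero homogeneous form of degree d, then I is generated by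
at most d + 1 elements. -/
theorem result (k : Type u) [Field k]
    (Z : Finset (Fin 3 → k)) (hZ : ∀ p ∈ Z, p ≠ 0) (I : Ideal (MvPolynomial (Fin 3) k))
    (hI : ∀ f : MvPolynomial (Fin 3) k, f ∈ I ↔
      ∀ p ∈ Z, ∀ j : ℕ, MvPolynomial.eval p (MvPolynomial.homogeneousComponent j f) = 0)
    (d : ℕ) (hf : ∃ f ∈ I, MvPolynomial.IsHomogeneous f d ∧ f ≠ 0) :
    Submodule.spanFinrank I ≤ d + 1 := by
  classical
  obtain ⟨f, hfI, hfd, hf0⟩ := hf
  let L := AlgebraicClosure k
  let ι : MvPolynomial (Fin 3) k →+* MvPolynomial (Fin 3) L := MvPolynomial.map (algebraMap k L)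
  let Z' : Finset (Fin 3 → L) := Z.image fun p i => algebraMap k L (p i)
  have hZ' : ∀ p ∈ Z', p ≠ 0 := by
    intro p hp
    obtain ⟨p, hp', rfl⟩ := Finset.mem_image.mp hp
    exact fun h => hZ p hp' (funext fun i => (algebraMap k L).injective (by simpa using congrFun h i))
  let IL : Ideal (MvPolynomial (Fin 3) L) := ⨅ p ∈ Z', RingHom.ker (lineMap p)
  have hIL : ∀ g, g ∈ IL ↔ ∀ p ∈ Z', lineMap p g = 0 := fun g => by
    simp [IL, RingHom.mem_ker]
  have hIk : ∀ g, g ∈ I ↔ ∀ p ∈ Z, lineMap p g = 0 := fun g => by
    rw [hI]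
    refine forall₂_congr fun p _ => ?_
    rw [Polynomial.ext_iff]
    simp only [coeff_lineMap, Polynomial.coeff_zero]
  have hev : ∀ (g : MvPolynomial (Fin 3) k) (p : Fin 3 → k),
      lineMap (fun i => algebraMap k L (p i)) (ι g) = (lineMap p g).map (algebraMap k L) := by
    intro g p
    induction g using MvPolynomial.induction_on with
    | C a => simp [ι, lineMap]
    | add a b ha hb => simp only [map_add, ha, hb, Polynomial.map_add]
    | mul_X a i ha =>
      simp only [map_mul, Polynomial.map_mul, ha]
      simp [ι, lineMap]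
  -- the vanishing ideal over `L` is generated by the one over `k`
  have hle : IL ≤ I.map ι := by
    intro g hg
    rw [hIL] at hg
    let b := Module.Basis.ofVectorSpace k L
    let co : _ → MvPolynomial (Fin 3) k := fun β =>
      ∑ e ∈ g.support, MvPolynomial.monomial e (b.repr (MvPolynomial.coeff e g) β)
    have hco : ∀ β, co β ∈ I := by
      intro β
      rw [hI]
      intro p hp j
      have hline : (lineMap (fun i => algebraMap k L (p i)) g).coeff j = 0 := by
        rw [hg _ (Finset.mem_image.mpr ⟨p, hp, rfl⟩), Polynomial.coeff_zero]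
      rw [coeff_lineMap, homogeneousComponent_apply, map_sum] at hline
      have := congrArg (fun x => b.repr x β) hline
      simp only [map_sum, Finsupp.coe_finsetSum, Finset.sum_apply, map_zero, Finsupp.coe_zero,
        Pi.zero_apply] at this
      simp only [co, map_sum]
      rw [Finset.sum_filter] at this
      refine Eq.trans (Finset.sum_congr rfl fun e _ => ?_) this
      rw [MvPolynomial.homogeneousComponent_of_mem (n := Finsupp.degree e)
        (MvPolynomial.isHomogeneous_monomial _ rfl)]
      rcases eq_or_ne j (Finsupp.degree e) with h | h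
      · rw [if_pos h, if_pos h.symm, MvPolynomial.eval_monomial, MvPolynomial.eval_monomial,
          Finsupp.prod, Finsupp.prod]
        simp only [← map_pow, ← map_prod]
        rw [mul_comm (MvPolynomial.coeff e g), ← Algebra.smul_def, map_smul, Finsupp.smul_apply,
          smul_eq_mul, mul_comm]
      · rw [if_neg h, if_neg (Ne.symm h), map_zero]
    have hg' : g = ∑ β ∈ g.support.biUnion fun e => (b.repr (MvPolynomial.coeff e g)).support,
        MvPolynomial.C (b β) * ι (co β) := by
      conv_lhs => rw [g.as_sum]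
      simp only [co, map_sum, Finset.mul_sum, ι, MvPolynomial.map_monomial, MvPolynomial.C_mul_monomial]
      rw [Finset.sum_comm]
      refine Finset.sum_congr rfl fun e he => ?_
      rw [← map_sum]
      congr 1
      conv_lhs => rw [← b.linearCombination_repr (MvPolynomial.coeff e g),
        Finsupp.linearCombination_apply, Finsupp.sum]
      refine Eq.trans (Finset.sum_subset ?_ ?_) (Finset.sum_congr rfl fun x _ => ?_)
      · exact fun x hx => Finset.mem_biUnion.mpr ⟨e, he, hx⟩
      intro x _ hx
      · rw [Finsupp.notMem_support_iff.mp hx, zero_smul]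
      · rw [Algebra.smul_def, mul_comm]
    rw [hg']
    exact Ideal.sum_mem _ fun β _ => Ideal.mul_mem_left _ _ (Ideal.mem_map_of_mem ι (hco β))
  have hge : ∀ g ∈ I, ι g ∈ IL := by
    intro g hg
    rw [hIL]
    intro p hp
    obtain ⟨p, hp', rfl⟩ := Finset.mem_image.mp hp
    rw [hev, (hIk g).mp hg p hp', Polynomial.map_zero]
  obtain ⟨H, hH, hHI, hHle⟩ := exists_gens Z' hZ' IL hIL d (ι f) (hge f hfI) (hfd.map _)
    (fun h => hf0 (MvPolynomial.map_injective _ (algebraMap k L).injective (by rw [h, map_zero])))
  -- homogeneous elements of `I`, independent modulo `m I`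
  set W := (MvPolynomial.idealOfVars (Fin 3) k * I).restrictScalars k with hW
  let T : Set (MvPolynomial (Fin 3) k) := {g | g ∈ I ∧ ∃ n, g.IsHomogeneous n}
  obtain ⟨B, hBT, hBspan, hBli⟩ := exists_linearIndependent k (W.mkQ '' T)
  choose lift hlift hlift' using fun b : B => hBT b.2
  have hfin : ∀ G : Finset B, G.card ≤ d + 1 := by
    intro G
    have hphi : ∀ b : B, ∃ φ : MvPolynomial (Fin 3) k →ₗ[k] k, (∀ w ∈ W, φ w = 0) ∧
        ∀ b' : B, φ (lift b') = if b' = b then 1 else 0 := by
      intro b
      obtain ⟨ψ, hψ⟩ := LinearMap.exists_extend ((Finsupp.lapply (R := k) b).comp hBli.repr)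
      refine ⟨ψ.comp W.mkQ, fun w hw => ?_, fun b' => ?_⟩
      · rw [LinearMap.comp_apply, Submodule.mkQ_apply, (Submodule.Quotient.mk_eq_zero _).mpr hw, map_zero]
      · have hmem : (b' : MvPolynomial (Fin 3) k ⧸ W) ∈ Submodule.span k (Set.range ((↑) : B → MvPolynomial (Fin 3) k ⧸ W)) :=
          Submodule.subset_span (Set.mem_range_self b')
        have h := LinearMap.congr_fun hψ ⟨_, hmem⟩
        rw [LinearMap.comp_apply, LinearMap.comp_apply, hBli.repr_eq_single b' ⟨_, hmem⟩ rfl] at h
        rw [LinearMap.comp_apply, hlift' b']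
        simpa [Finsupp.single_apply] using h
    choose φ hφW hφ using hphi
    let Φ : B → MvPolynomial (Fin 3) L →ₗ[L] L := fun b =>
      (MvPolynomial.basisMonomials (Fin 3) L).constr L fun e => algebraMap k L (φ b (MvPolynomial.monomial e 1))
    have hΦι : ∀ b g, Φ b (ι g) = algebraMap k L (φ b g) := by
      intro b g
      induction g using MvPolynomial.induction_on' with
      | add p q hp hq => simp only [map_add, hp, hq]
      | monomial e c =>
        have h1 : ∀ (R : Type u) [CommRing R] (c : R),
            MvPolynomial.monomial e c = c • MvPolynomial.monomial e (1 : R) := fun R _ c => by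
          rw [MvPolynomial.smul_monomial, smul_eq_mul, mul_one]
        have h2 : MvPolynomial.monomial e (1 : L) = MvPolynomial.basisMonomials (Fin 3) L e := by simp
        rw [show ι (MvPolynomial.monomial e c) = MvPolynomial.monomial e (algebraMap k L c) by simp [ι],
          h1 L, map_smul, h1 k, map_smul, smul_eq_mul, smul_eq_mul, map_mul]
        congr 1
        rw [h2]
        exact Module.Basis.constr_basis _ _ _ _
    have hkill : ∀ b, ∀ g ∈ MvPolynomial.idealOfVars (Fin 3) L * IL, Φ b g = 0 := by
      intro b g hg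
      have : g ∈ (MvPolynomial.idealOfVars (Fin 3) k * I).map ι := by
        refine (?_ : MvPolynomial.idealOfVars (Fin 3) L * IL ≤ _) hg
        rw [Ideal.map_mul]
        refine Ideal.mul_mono ?_ hle
        rw [MvPolynomial.idealOfVars, MvPolynomial.idealOfVars, Ideal.map_span, ← Set.range_comp]
        refine Ideal.span_mono ?_
        rintro _ ⟨i, rfl⟩
        exact ⟨i, by simp [ι]⟩
      clear hg
      suffices ∀ a, Φ b (a * g) = 0 by simpa using this 1
      induction this using Submodule.span_induction with
      | mem y hy =>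
        obtain ⟨w, hw, rfl⟩ := hy
        intro a
        induction a using MvPolynomial.induction_on' with
        | add p q hp hq => rw [add_mul, map_add, hp, hq, add_zero]
        | monomial e c =>
          rw [show MvPolynomial.monomial e c * ι w = c • ι (MvPolynomial.monomial e 1 * w) by
              rw [map_mul, ← smul_mul_assoc]; congr 1; simp [ι, MvPolynomial.smul_monomial],
            map_smul, hΦι, hφW b _ (Ideal.mul_mem_left _ _ hw), map_zero, smul_zero]
      | zero => intro a; rw [mul_zero, map_zero]
      | add x y _ _ hx hy => intro a; rw [mul_add, map_add, hx, hy, add_zero]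
      | smul r x _ hx => intro a; rw [smul_eq_mul, ← mul_assoc]; exact hx _
    let Ψ : MvPolynomial (Fin 3) L →ₗ[L] (G → L) := LinearMap.pi fun b => Φ b.1
    have hsurj : ∀ b : G, Pi.single b (1 : L) = Ψ (ι (lift b.1)) := fun b => funext fun b' => by
      rw [Pi.single_apply, LinearMap.pi_apply, hΦι, hφ, apply_ite (algebraMap k L), map_one, map_zero]
      simp only [Subtype.coe_inj]
      exact if_congr eq_comm rfl rfl
    have htop : (⊤ : Submodule L (G → L)) ≤ Submodule.span L (H.image Ψ : Set (G → L)) := by
      rw [← (Pi.basisFun L G).span_eq, Submodule.span_le]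
      rintro _ ⟨b, rfl⟩
      rw [Pi.basisFun_apply, hsurj]
      obtain ⟨u, hu, v, hv, huv⟩ := Submodule.mem_sup.mp (hHle (hge _ (hlift b.1).1))
      rw [← huv, map_add, show Ψ v = 0 from funext fun b' => hkill b'.1 v hv, add_zero]
      obtain ⟨cf, hcf⟩ := Submodule.mem_span_finset.mp hu
      rw [← hcf.2, map_sum]
      refine Submodule.sum_mem _ fun h hh => ?_
      rw [show cf h • h = MvPolynomial.C (MvPolynomial.constantCoeff (cf h)) * h +
        (cf h - MvPolynomial.C (MvPolynomial.constantCoeff (cf h))) * h by rw [smul_eq_mul]; ring, map_add,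
        MvPolynomial.C_mul', map_smul]
      refine Submodule.add_mem _ (Submodule.smul_mem _ _ (Submodule.subset_span (by simpa using ⟨h, hh, rfl⟩))) ?_
      rw [show Ψ _ = 0 from _root_.funext fun b' => hkill b'.1 _ (Ideal.mul_mem_mul ?_ (hHI hh))]
      · exact zero_mem _
      · rw [← pow_one (MvPolynomial.idealOfVars (Fin 3) L), MvPolynomial.mem_pow_idealOfVars_iff']
        intro e he
        have he0 : e = 0 := (Finsupp.degree_eq_zero_iff e).mp (Nat.lt_one_iff.mp he)
        simp [he0, MvPolynomial.constantCoeff_eq]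
    have := (Submodule.finrank_mono htop).trans (finrank_span_finset_le_card _)
    rw [finrank_top, Module.finrank_pi, Fintype.card_coe] at this
    exact this.trans (Finset.card_image_le.trans hH)
  haveI : Finite B := by
    by_contra h
    rw [not_finite_iff_infinite] at h
    obtain ⟨s, hs⟩ := Infinite.exists_subset_card_eq B (d + 2)
    have := hfin s
    omega
  haveI := Fintype.ofFinite B
  set G := Ideal.span (Set.range lift) with hG
  have hGI : G ≤ I := Ideal.span_le.mpr fun x ⟨b, hb⟩ => hb ▸ (hlift b).1
  have hcomp : ∀ g ∈ I, ∀ j, MvPolynomial.homogeneousComponent j g ∈ I := by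
    intro g hg j
    rw [hI] at hg ⊢
    intro p hp i
    rw [MvPolynomial.homogeneousComponent_of_mem (MvPolynomial.homogeneousComponent_isHomogeneous j g)]
    split_ifs
    · exact hg p hp j
    · exact map_zero _
  have hIG : I ≤ G ⊔ MvPolynomial.idealOfVars (Fin 3) k * I := by
    intro g hg
    rw [← MvPolynomial.sum_homogeneousComponent g]
    refine Ideal.sum_mem _ fun j _ => ?_
    have h1 : W.mkQ (MvPolynomial.homogeneousComponent j g) ∈ Submodule.span k B := hBspan.symm ▸
      Submodule.subset_span ⟨_, ⟨hcomp g hg j, j, MvPolynomial.homogeneousComponent_isHomogeneous j g⟩, rfl⟩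
    rw [show (B : Set _) = Set.range fun b : B => W.mkQ (lift b) by
      ext x; simp [hlift'], Submodule.mem_span_range_iff_exists_fun] at h1
    obtain ⟨a, ha⟩ := h1
    simp only [← map_smul, ← map_sum] at ha
    rw [eq_comm, Submodule.mkQ_apply, Submodule.mkQ_apply, Submodule.Quotient.eq] at ha
    rw [← add_sub_cancel (∑ b, a b • lift b) (MvPolynomial.homogeneousComponent j g)]
    refine Submodule.add_mem_sup (Ideal.sum_mem _ fun b _ => ?_) ha
    rw [MvPolynomial.smul_eq_C_mul]
    exact Ideal.mul_mem_left _ _ (Ideal.subset_span (Set.mem_range_self b))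
  obtain ⟨r, hr, hrG⟩ := Submodule.exists_sub_one_mem_and_smul_eq_zero_of_fg_of_le_smul
    (MvPolynomial.idealOfVars (Fin 3) k) (Submodule.map G.mkQ I)
    ((IsNoetherian.noetherian I).map _) (by
      rw [← Submodule.map_smul'', smul_eq_mul]
      refine (Submodule.map_mono hIG).trans ?_
      rw [Submodule.map_sup, Submodule.mkQ_map_self, bot_sup_eq])
  have hGhom : G.IsHomogeneous (MvPolynomial.homogeneousSubmodule (Fin 3) k) :=
    Ideal.homogeneous_span _ _ fun x ⟨b, hb⟩ => hb ▸ (hlift b).2
  have hIeq : I = G := by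
    refine le_antisymm (fun g hg => ?_) hGI
    rw [← MvPolynomial.sum_homogeneousComponent g]
    refine Ideal.sum_mem _ fun j _ => ?_
    set h := MvPolynomial.homogeneousComponent j g with hh
    have hjh : h.IsHomogeneous j := MvPolynomial.homogeneousComponent_isHomogeneous j g
    have hrh : r * h ∈ G := by
      have := hrG (G.mkQ h) ⟨h, hcomp g hg j, rfl⟩
      rw [← map_smul, Submodule.mkQ_apply, Submodule.Quotient.mk_eq_zero] at this
      exact this
    have hj : h ∈ MvPolynomial.idealOfVars (Fin 3) k ^ j := by
      rw [MvPolynomial.mem_pow_idealOfVars_iff']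
      intro e he
      refine hjh.coeff_eq_zero ?_
      omega
    have h0 : MvPolynomial.homogeneousComponent j ((r - 1) * h) = 0 := by
      refine MvPolynomial.homogeneousComponent_eq_zero' _ _ fun e he hej => ?_
      have h2 := (MvPolynomial.mem_pow_idealOfVars_iff (j + 1) _).mp (by
        rw [pow_succ']
        exact Ideal.mul_mem_mul hr hj : (r - 1) * h ∈ MvPolynomial.idealOfVars (Fin 3) k ^ (j + 1)) e he
      omega
    have h3 := MvPolynomial.homogeneousComponent_mem_of_mem hGhom hrh j
    rw [show r * h = h + (r - 1) * h by ring, map_add, h0, add_zero,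
      MvPolynomial.homogeneousComponent_eq_self hjh] at h3
    exact h3
  rw [hIeq, hG]
  refine (Submodule.spanFinrank_span_le_ncard_of_finite (Set.finite_range lift)).trans ?_
  rw [← Set.image_univ]
  refine (Set.ncard_image_le Set.finite_univ).trans ?_
  rw [Set.ncard_univ, Nat.card_eq_fintype_card]
  exact hfin Finset.univ

end Groth.Agent.S12914
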