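import Groth.Statements.S12915
import Groth.Agent.H4Easy.Batch4
import Groth.Agent.PlaneForms.Basic

set_option autoImplicit false
universe u
open CAlgX

namespace Groth.Agent.S12915

/-- Let k be a field, S = k[x_0, …, x_r], and f a nonzero homogeneous polynomial of degree m. For every
t ≥ m the image in S/(f) of the homogeneous polynomials of degree t is a k-vector space of dimension
C(t + r, r) - C(t + r - m, r). (The published clause states that the hypersurface f = 0 in P^r has
degree m; its proof computes exactly this Hilbert function, whose polynomial has leading term m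
t^(r-1)/(r-1)!, and that computation is what is stated here.) -/
theorem result (k : Type u) [Field k] (r m : ℕ)
    (f : MvPolynomial (Fin (r + 1)) k) (hf : f.IsHomogeneous m) (hf0 : f ≠ 0) (t : ℕ) (ht : m ≤ t) :
    Module.finrank k
        (Submodule.map ((Ideal.Quotient.mkₐ k (Ideal.span {f})).toLinearMap)
          (MvPolynomial.homogeneousSubmodule (Fin (r + 1)) k t)) =
      Nat.choose (t + r) r - Nat.choose (t + r - m) r := by
  classical
  refine Groth.Agent.H4Easy.finrank_map_quot k r m f hf hf0 t ht fun d => ?_
  obtain ⟨h1, h2⟩ := Groth.Agent.PlaneForms.finite_homogeneous_and_finrank (k := k) (σ := Fin (r + 1)) d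
  exact ⟨h1, by rw [h2, Fintype.card_fin, show r + 1 + d - 1 = r + d by omega]⟩

end Groth.Agent.S12915
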