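import Groth.Statements.S12916
import Mathlib.RingTheory.Ideal.AssociatedPrime.Finiteness
import Mathlib.RingTheory.Ideal.AssociatedPrime.Localization
import Mathlib.Algebra.Module.Submodule.Union
import Mathlib.RingTheory.FiniteLength
import Mathlib.RingTheory.Nullstellensatz
import Mathlib.RingTheory.Artinian.Module
import Mathlib.RingTheory.KrullDimension.Zero
import Mathlib.RingTheory.HopkinsLevitzki
import Mathlib.RingTheory.MvPolynomial.Homogeneous
import Mathlib.RingTheory.Polynomial.Basic

set_option autoImplicit false
universe u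
open CAlgX

namespace Groth.Agent.S12916

open MvPolynomial

/-- A prime containing all forms of positive degree `d` is maximal. -/
theorem isMaximal_of_forms_le {k : Type u} [Field k] {r d : ℕ} (hd : d ≠ 0)
    (P : Ideal (MvPolynomial (Fin (r + 1)) k)) [hP : P.IsPrime]
    (h : ∀ f : MvPolynomial (Fin (r + 1)) k, f.IsHomogeneous d → f ∈ P) : P.IsMaximal := by
  have hX : ∀ i, X i ∈ P := fun i =>
    hP.mem_of_pow_mem d (h _ (by simpa using (isHomogeneous_X k i).pow d))
  let φ : MvPolynomial (Fin (r + 1)) k →+* k := (MvPolynomial.constantCoeff)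
  have hker : RingHom.ker φ ≤ P := by
    intro f hf
    rw [MvPolynomial.as_sum f]
    refine sum_mem fun m hm => ?_
    have hm0 : m ≠ 0 := fun h0 => MvPolynomial.mem_support_iff.1 hm (by rw [h0]; exact hf)
    obtain ⟨i, hi⟩ : ∃ i, m i ≠ 0 := by
      by_contra hc
      push_neg at hc
      exact hm0 (Finsupp.ext hc)
    rw [← tsub_add_cancel_of_le (Finsupp.single_le_iff.2 (Nat.one_le_iff_ne_zero.2 hi) :
        Finsupp.single i 1 ≤ m), MvPolynomial.monomial_add_single, pow_one]
    exact P.mul_mem_left _ (hX i)
  haveI := RingHom.ker_isMaximal_of_surjective φ (fun c => ⟨C c, MvPolynomial.constantCoeff_C _ c⟩)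
  exact (Ideal.IsMaximal.eq_of_le this hP.ne_top hker) ▸ this

/-- Let k be an infinite field, S = k[x_0, …, x_r], M a finitely generated S-module and d a natural
number. Then some nonzero homogeneous polynomial f of degree d is quasi-regular on M: the submodule
(0 :_M f) of elements of M annihilated by f has finite length. (The published statement assumes M
graded; this row assumes only that M is finitely generated.) -/
theorem result (k : Type u) [Field k] [Infinite k] (r d : ℕ)
    (M : Type u) [AddCommGroup M] [Module (MvPolynomial (Fin (r + 1)) k) M] [Module.Finite (MvPolynomial (Fin (r + 1)) k) M] :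
    ∃ f : MvPolynomial (Fin (r + 1)) k, f.IsHomogeneous d ∧ f ≠ 0 ∧
      IsFiniteLength (MvPolynomial (Fin (r + 1)) k) ↥(Submodule.torsionBy (MvPolynomial (Fin (r + 1)) k) M f) := by
  classical
  by_cases hd : d = 0
  · subst hd
    refine ⟨1, isHomogeneous_one _ _, one_ne_zero, ?_⟩
    have h : Submodule.torsionBy (MvPolynomial (Fin (r + 1)) k) M (1 : MvPolynomial (Fin (r + 1)) k) = ⊥ :=
      Submodule.eq_bot_iff _ |>.2 fun x hx => by simpa using (Submodule.mem_torsionBy_iff _ _).1 hx
    rw [h]
    exact IsFiniteLength.of_subsingleton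
  let S := MvPolynomial (Fin (r + 1)) k
  let V : Submodule k S := homogeneousSubmodule (Fin (r + 1)) k d
  let s : Set (Ideal S) := {P ∈ associatedPrimes S M | ¬ P.IsMaximal}
  haveI : Finite s := ((associatedPrimes.finite S M).subset fun P hP => hP.1).to_subtype
  let p : Option s → Submodule k V := fun o => o.elim ⊥ fun P =>
    (P.1.restrictScalars k).comap V.subtype
  have hp : ∀ o, p o ≠ ⊤ := by
    rintro (_ | ⟨P, hP, hmax⟩) h
    · have : (⟨X 0 ^ d, (mem_homogeneousSubmodule d _).2 (by simpa using (isHomogeneous_X k (0 : Fin (r + 1))).pow d)⟩ : V) ∈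
          (⊤ : Submodule k V) := Submodule.mem_top
      rw [← h] at this
      exact pow_ne_zero d (X_ne_zero (0 : Fin (r + 1))) (congrArg Subtype.val ((Submodule.mem_bot k).1 this))
    · refine hmax ?_
      haveI := hP.isPrime
      refine isMaximal_of_forms_le hd P fun f hf => ?_
      have : (⟨f, hf⟩ : V) ∈ (⊤ : Submodule k V) := Submodule.mem_top
      rw [← h] at this
      exact this
  obtain ⟨⟨f, hf⟩, hfp⟩ := Submodule.exists_forall_notMem_of_forall_ne_top p hp
  refine ⟨f, hf, fun h => hfp none (by simpa [p] using h), ?_⟩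
  let N := Submodule.torsionBy S M f
  have hann : f ∈ Module.annihilator S N :=
    Module.mem_annihilator.2 fun x => Subtype.ext ((Submodule.mem_torsionBy_iff _ _).1 x.2)
  have hmax : ∀ P ∈ (Module.annihilator S N).minimalPrimes, P.IsMaximal := fun P hP => by
    by_contra hc
    have h1 := Module.associatedPrimes.minimalPrimes_annihilator_subset_associatedPrimes S N hP
    exact hfp (some ⟨P, associatedPrimes.subset_of_injective N.injective_subtype h1, hc⟩)
      (hP.1.2 hann)
  haveI : Ring.KrullDimLE 0 (S ⧸ Module.annihilator S N) := by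
    rw [Ring.krullDimLE_zero_iff]
    intro Q hQ
    obtain ⟨P, hP, hPQ⟩ := Ideal.exists_minimalPrimes_le
      (I := Module.annihilator S N) (J := Q.comap (Ideal.Quotient.mk _))
      (fun x hx => by rw [Ideal.mem_comap, Ideal.Quotient.eq_zero_iff_mem.2 hx]; exact Q.zero_mem)
    have hQ' := (hmax P hP).eq_of_le (Ideal.IsPrime.comap (Ideal.Quotient.mk _)).ne_top hPQ
    rw [← Ideal.map_comap_of_surjective _ Ideal.Quotient.mk_surjective Q, ← hQ']
    haveI := hmax P hP
    refine (Ideal.map_eq_top_or_isMaximal_of_surjective _ Ideal.Quotient.mk_surjective this).resolve_left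
      fun htop => hQ.ne_top ?_
    rw [← Ideal.map_comap_of_surjective _ Ideal.Quotient.mk_surjective Q, ← hQ', htop]
  haveI : IsArtinianRing (S ⧸ Module.annihilator S N) := isArtinianRing_iff_krullDimLE_zero.2 this
  letI : Module (S ⧸ Module.annihilator S N) N :=
    Module.IsTorsionBySet.module fun x a => Module.mem_annihilator.1 a.2 x
  haveI : IsScalarTower S (S ⧸ Module.annihilator S N) N :=
    Module.IsTorsionBySet.isScalarTower fun x a => Module.mem_annihilator.1 a.2 x
  haveI : Module.Finite (S ⧸ Module.annihilator S N) N :=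
    Module.Finite.of_restrictScalars_finite S _ _
  rw [isFiniteLength_iff_isNoetherian_isArtinian]
  exact ⟨inferInstance, isArtinian_of_surjective_algebraMap (S := S)
    (R := S ⧸ Module.annihilator S N) Ideal.Quotient.mk_surjective⟩

end Groth.Agent.S12916
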