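import Groth.Statements.S12918
import Groth.Agent.TameInt.Basic

set_option autoImplicit false
universe u v w
open HopfRep

namespace Groth.Agent.S12918

/-- Let `k` be a commutative ring, `A` a commutative Hopf algebra over `k`, flat as a `k`-module and `B`
a commutative `k`-algebra with a coaction `ρ : B → B ⊗ A` that is an algebra map (an action of the
affine group scheme `Spec A` on `Spec B`). Then the action admits a total integral — a comodule map
`α : A → B`, for the regular coaction on `A`, with `α 1 = 1` — if and only if `ρ` has a left inverse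
`B ⊗ A → B` which is a comodule map for the coaction `id ⊗ Δ` on `B ⊗ A`. -/
theorem result
    (k : Type u) [CommRing k] (A : Type v) [CommRing A] [HopfAlgebra k A] [Module.Flat k A]
    (B : Type w) [CommRing B] [Algebra k B] [HopfRep.Comod k A B] [GLin.IsCoactAlg k A B] :
    (∃ α : A →ₗ[k] B, Hoch.IsComodHom A α ∧ α 1 = 1) ↔
      ∃ lam : Hoch.Ind k A B →ₗ[k] B, Hoch.IsComodHom A lam ∧ lam ∘ₗ Hoch.toInd k A B = LinearMap.id := by
  refine ⟨fun ⟨α, hα, h1⟩ => ⟨TameInt.avg B α ∘ₗ (Hoch.Ind.equiv k A B).symm.toLinearMap,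
    TameInt.avg_isComodHom hα, LinearMap.ext fun b => TameInt.avg_coact h1 b⟩, fun ⟨lam, hlam, h⟩ => ?_⟩
  let j : A →ₗ[k] Hoch.Ind k A B := (Hoch.Ind.equiv k A B).toLinearMap ∘ₗ TensorProduct.mk k B A 1
  refine ⟨lam ∘ₗ j, LinearMap.ext fun a => ?_, ?_⟩
  · show HopfRep.Comod.coact (k := k) (A := A) (lam (j a)) = (lam ∘ₗ j).rTensor A (Coalgebra.comul (R := k) a)
    refine (LinearMap.congr_fun hlam (j a)).trans ?_
    show lam.rTensor A ((TensorProduct.assoc k B A A).symm ((1 : B) ⊗ₜ Coalgebra.comul (R := k) a)) = _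
    rw [LinearMap.rTensor_comp, LinearMap.comp_apply]
    congr 1
  · show lam (j 1) = 1
    have h1 := LinearMap.congr_fun h (1 : B)
    rw [LinearMap.comp_apply, LinearMap.id_apply, show Hoch.toInd k A B (1 : B) = j 1 by
      show HopfRep.Comod.coact (k := k) (A := A) (1 : B) = (1 : B) ⊗ₜ[k] (1 : A)
      rw [GLin.IsCoactAlg.coact_one (k := k) (A := A) (R := B), Algebra.TensorProduct.one_def]] at h1
    exact h1

end Groth.Agent.S12918
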