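import Groth.Statements.S12924
import Groth.Agent.TameInt.Basic
import Groth.Agent.TameInt.CatQuot
import Mathlib

set_option autoImplicit false
universe u
open CategoryTheory AlgebraicGeometry
open HopfRep

namespace Groth.Agent.S12924

open scoped TensorProduct

/-- A closed invariant set is cut out by a stable ideal. -/
theorem exists_stable_ideal {k : Type u} [CommRing k] {A : Type u} [CommRing A] [HopfAlgebra k A] [Module.Flat k A]
    {B : Type u} [CommRing B] [Algebra k B] [HopfRep.Comod k A B] [GLin.IsCoactAlg k A B]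
    (K : Set (PrimeSpectrum B)) (hK : IsClosed K)
    (hst : PrimeSpectrum.comap (GLin.coactAlgHom k A B).toRingHom ⁻¹' K =
      PrimeSpectrum.comap (Algebra.TensorProduct.includeLeftRingHom : B →+* B ⊗[k] A) ⁻¹' K) :
    ∃ b : Ideal B, PrimeSpectrum.zeroLocus (b : Set B) = K ∧
      HopfRep.IsSubcomod (k := k) (A := A) (b.restrictScalars k) := by
  obtain ⟨I, rfl⟩ := (PrimeSpectrum.isClosed_iff_zeroLocus_ideal K).1 hK
  let θ : B →ₐ[k] (B ⧸ I) ⊗[k] A :=
    (Algebra.TensorProduct.map (Ideal.Quotient.mkₐ k I) (AlgHom.id k A)).comp (GLin.coactAlgHom k A B)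
  let b := RingHom.ker θ
  have hbI : b ≤ I := fun x hx => by
    let ε : (B ⧸ I) ⊗[k] A →ₗ[k] B ⧸ I :=
      (TensorProduct.rid k (B ⧸ I)).toLinearMap ∘ₗ (Coalgebra.counit (R := k) (A := A)).lTensor (B ⧸ I)
    have key : ∀ t : B ⊗[k] A, ε (Algebra.TensorProduct.map (Ideal.Quotient.mkₐ k I) (AlgHom.id k A) t) =
        Ideal.Quotient.mk I (TensorProduct.rid k B ((Coalgebra.counit (R := k) (A := A)).lTensor B t)) := by
      intro t
      induction t using TensorProduct.induction_on with
      | zero => simp
      | add u v hu hv => simp only [map_add, hu, hv]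
      | tmul u v => simp [ε]; rfl
    have h := key (HopfRep.Comod.coact (k := k) (A := A) x)
    rw [show (Coalgebra.counit (R := k) (A := A)).lTensor B (HopfRep.Comod.coact (k := k) (A := A) x) = x ⊗ₜ 1 from
      LinearMap.congr_fun HopfRep.Comod.counit_comp x, TensorProduct.rid_tmul, one_smul] at h
    refine Ideal.Quotient.eq_zero_iff_mem.1 (h.symm.trans ?_)
    show ε (θ x) = 0
    rw [show θ x = 0 from hx, map_zero]
  refine ⟨b, subset_antisymm ?_ (PrimeSpectrum.zeroLocus_anti_mono hbI), fun w hw => ?_⟩
  · rw [show (b : Set B) = (RingHom.ker θ.toRingHom : Set B) from rfl, ← PrimeSpectrum.closure_range_comap]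
    refine closure_minimal ?_ (PrimeSpectrum.isClosed_zeroLocus _)
    rintro _ ⟨Q, rfl⟩
    let π := (Algebra.TensorProduct.map (Ideal.Quotient.mkₐ k I) (AlgHom.id k A)).toRingHom
    have h2 : PrimeSpectrum.comap π Q ∈ PrimeSpectrum.comap (Algebra.TensorProduct.includeLeftRingHom : B →+* B ⊗[k] A) ⁻¹'
        PrimeSpectrum.zeroLocus (I : Set B) := fun x hx => by
      show π (x ⊗ₜ 1) ∈ Q.asIdeal
      rw [show π (x ⊗ₜ 1) = Ideal.Quotient.mk I x ⊗ₜ (1 : A) from rfl, Ideal.Quotient.eq_zero_iff_mem.2 hx,
        TensorProduct.zero_tmul]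
      exact zero_mem _
    rw [← hst] at h2
    exact h2
  · let θl : B →ₗ[k] (B ⧸ I) ⊗[k] A := θ.toLinearMap
    have hex : Function.Exact ((b.restrictScalars k).subtype.rTensor A) (θl.rTensor A) :=
      Module.Flat.rTensor_exact A (fun x => ⟨fun h => ⟨⟨x, h⟩, rfl⟩, fun ⟨y, hy⟩ => hy ▸ y.2⟩)
    refine (hex _).1 ?_
    let q : B →ₗ[k] B ⧸ I := (Ideal.Quotient.mkₐ k I).toLinearMap
    have hθ : θl = q.rTensor A ∘ₗ HopfRep.Comod.coact (k := k) (A := A) := by
      refine LinearMap.ext fun x => ?_
      show Algebra.TensorProduct.map (Ideal.Quotient.mkₐ k I) (AlgHom.id k A) (HopfRep.Comod.coact (k := k) (A := A) x) =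
        q.rTensor A (HopfRep.Comod.coact (k := k) (A := A) x)
      generalize HopfRep.Comod.coact (k := k) (A := A) x = t
      induction t using TensorProduct.induction_on with
      | zero => simp
      | add u v hu hv => simp only [map_add, hu, hv]
      | tmul u v => rfl
    have hc := LinearMap.congr_fun (HopfRep.Comod.coassoc (k := k) (A := A) (V := B)) w
    simp only [LinearMap.comp_apply, LinearEquiv.coe_coe] at hc
    rw [hθ, LinearMap.rTensor_comp, LinearMap.comp_apply, (LinearEquiv.eq_symm_apply _).2 hc]
    have key : ∀ t : B ⊗[k] A, (q.rTensor A).rTensor A ((TensorProduct.assoc k B A A).symm ((Coalgebra.comul (R := k) (A := A)).lTensor B t)) =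
        (TensorProduct.assoc k (B ⧸ I) A A).symm ((Coalgebra.comul (R := k) (A := A)).lTensor (B ⧸ I) (q.rTensor A t)) := by
      intro t
      induction t using TensorProduct.induction_on with
      | zero => simp
      | add u v hu hv => simp only [map_add, hu, hv]
      | tmul u v =>
        simp only [LinearMap.lTensor_tmul, LinearMap.rTensor_tmul]
        generalize Coalgebra.comul (R := k) v = z
        induction z using TensorProduct.induction_on with
        | zero => simp
        | add u' v' hu hv => simp only [map_add, TensorProduct.tmul_add, hu, hv]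
        | tmul u' v' => simp
    rw [key]
    have : q.rTensor A (HopfRep.Comod.coact (k := k) (A := A) w) = 0 := by
      rw [← LinearMap.comp_apply, ← hθ]; exact hw
    rw [this, map_zero, map_zero]


/-- Let `k` be a commutative ring, `A` a commutative Hopf algebra over `k`, flat as a `k`-module, `B` a
commutative `k`-algebra with a coaction `ρ : B → B ⊗ A` that is an algebra map and admits a total
integral (a comodule map `α : A → B` with `α 1 = 1`), and `C = B^A`. Then `Spec B → Spec C` is a
categorical quotient of the action in the category of schemes: for every scheme `Z` and every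
morphism `ψ : Spec B → Z` which is invariant, i.e. has the same composite with `Spec (B ⊗ A) → Spec
B` induced by `ρ` and by `b ↦ b ⊗ 1`, there is exactly one morphism `Spec C → Z` through which `ψ`
factors. (The published statement assumes only that taking invariants is exact on `(B, A)`-modules;
a total integral, assumed here, gives that exactness.) -/
theorem result
    (k : Type u) [CommRing k] (A : Type u) [CommRing A] [HopfAlgebra k A] [Module.Flat k A]
    (B : Type u) [CommRing B] [Algebra k B] [HopfRep.Comod k A B] [GLin.IsCoactAlg k A B]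
    (htame : ∃ α : A →ₗ[k] B, Hoch.IsComodHom A α ∧ α 1 = 1)
    (Z : Scheme.{u}) (ψ : Spec (CommRingCat.of B) ⟶ Z)
    (hψ : Spec.map (CommRingCat.ofHom (GLin.coactAlgHom k A B).toRingHom) ≫ ψ =
      Spec.map (CommRingCat.ofHom
        (Algebra.TensorProduct.includeLeftRingHom : B →+* TensorProduct k B A)) ≫ ψ) :
    ∃! χ : Spec (CommRingCat.of (GLin.invariants k A B)) ⟶ Z,
      Spec.map (CommRingCat.ofHom (algebraMap (GLin.invariants k A B) B)) ≫ χ = ψ := by
  obtain ⟨α, hα, h1⟩ := htame
  let R : B →ₗ[GLin.invariants k A B] GLin.invariants k A B :=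
    { toFun := fun y => ⟨TameAct.reynolds k A B B α y, TameInt.reynolds_mem hα y⟩
      map_add' := fun u v => Subtype.ext (map_add _ u v)
      map_smul' := fun d u => Subtype.ext (by
        show TameAct.reynolds k A B B α ((d : B) * u) = (d : B) * TameAct.reynolds k A B B α u
        exact TameInt.reynolds_mul α d.2 u) }
  let ρ := (GLin.coactAlgHom k A B).toRingHom
  let ι : B →+* TensorProduct k B A := Algebra.TensorProduct.includeLeftRingHom
  refine TameInt.existsUnique_desc ρ ι (fun c => c.2) (fun b hb => ⟨⟨b, hb⟩, rfl⟩) R ?_ (fun K hK hst => ?_) ψ hψ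
  · exact Subtype.ext (TameInt.reynolds_of_mem h1 (GLin.invariants k A B).one_mem)
  obtain ⟨b, hb0, hbS⟩ := exists_stable_ideal (k := k) (A := A) K hK hst
  exact ⟨b, hb0, fun y hy => TameInt.reynolds_mem_ideal α hbS hy⟩

end Groth.Agent.S12924
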