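import Groth.Statements.S12926
import Groth.Agent.Comod.Reductive

set_option autoImplicit false
universe u v
open HopfRep

namespace Groth.Agent.S12926

open Groth.Agent.Comod TensorProduct Coalgebra

/-- Let `k` be a commutative ring and `A` a commutative bialgebra over `k`, flat as a `k`-module. If the
submodule `k · 1` of the regular comodule `A` has a complement `H` which is a subcomodule — the case
used when `A` is cosemisimple, i.e. every subcomodule of every comodule is a direct summand as a
comodule — then the trivial action of `Spec A` on `Spec k` is tame: there is a comodule map `α : A →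
k`, for the regular coaction on `A` and the trivial coaction `r ↦ r ⊗ 1` on `k`, with `α 1 = 1`. -/
theorem result
    (k : Type u) [CommRing k] (A : Type v) [CommRing A] [Bialgebra k A] [Module.Flat k A]
    (H : Submodule k A) (hH : HopfRep.IsSubcomod (k := k) (A := A) H)
    (hc : IsCompl (Submodule.span k {(1 : A)}) H) :
    ∃ α : A →ₗ[k] k, @Hoch.IsComodHom k _ A _ _ _ A _ _ _ k _ _ (HopfRep.Comod.trivial k A k) α ∧ α 1 = 1 := by
  classical
  let T := (Submodule.span k {(1 : A)}).projection H hc
  have hTy : ∀ z ∈ H, T z = 0 := fun z hz => by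
    show ((Submodule.span k {(1 : A)}).projectionOnto H hc z : A) = 0
    rw [(Submodule.projectionOnto_apply_eq_zero_iff hc).mpr hz, Submodule.coe_zero]
  have hT1 : T 1 = 1 := by
    show ((Submodule.span k {(1 : A)}).projectionOnto H hc 1 : A) = 1
    rw [Submodule.projectionOnto_apply_of_mem_left hc (Submodule.mem_span_singleton_self 1)]
  refine ⟨counit ∘ₗ T, ?_, by simp [hT1]⟩
  refine LinearMap.ext fun a => ?_
  obtain ⟨x, hx, y, hy, rfl⟩ : ∃ x ∈ Submodule.span k {(1 : A)}, ∃ y ∈ H, x + y = a :=
    Submodule.mem_sup.mp (by rw [hc.sup_eq_top]; trivial)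
  obtain ⟨c, rfl⟩ := Submodule.mem_span_singleton.mp hx
  obtain ⟨t, ht⟩ := hH y hy
  have ey : (counit ∘ₗ T).rTensor A (comul (R := k) y) = 0 := by
    rw [show comul (R := k) y = H.subtype.rTensor A t from ht.symm]
    clear ht
    induction t using TensorProduct.induction_on with
    | zero => simp
    | tmul p q => simp [hTy _ p.2]
    | add p q hp hq => simp only [map_add, hp, hq, add_zero]
  simp [HopfRep.Comod.coact, ey, hTy y hy, hT1, Bialgebra.comul_one, Algebra.TensorProduct.one_def,
    TensorProduct.smul_tmul']

end Groth.Agent.S12926
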