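import Groth.Statements.S12928
import Groth.Agent.TameInt.Basic
import Groth.Agent.ComodDualEx.Invariants
import Mathlib

set_option autoImplicit false
universe u
open HopfRep

namespace Groth.Agent.S12928

open scoped TensorProduct
open TensorProduct

theorem eval_eq {k A B : Type u} [CommRing k] [CommRing A] [Algebra k A] [CommRing B] [Algebra k B]
    (f : B ⊗[k] Module.Dual k A →ₗ[B] B) (hf : ∀ (x : B) (φ : Module.Dual k A), f (x ⊗ₜ φ) = φ 1 • x)
    (m : B ⊗[k] Module.Dual k A) :
    dualTensorHom k A B (TensorProduct.comm k B (Module.Dual k A) m) 1 = f m := by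
  induction m using TensorProduct.induction_on with
  | zero => simp
  | add u v hu hv => simp only [map_add, LinearMap.add_apply, hu, hv]
  | tmul x φ => simp [hf]

/-- The contragredient of the regular comodule of a finite projective Hopf algebra. -/
theorem exists_isDual_regular (k : Type u) [CommRing k] (A : Type u) [CommRing A] [HopfAlgebra k A]
    [Module.Finite k A] [Module.Projective k A] :
    ∃ d : HopfRep.Comod k A (Module.Dual k A), ComodTens.Comod.IsDual (HopfRep.Comod.regular k A) d := by
  haveI : Module.FinitePresentation k A := Module.finitePresentation_of_projective k A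
  let E := LinearEquiv.ofBijective (dualTensorHom k A A) (ComodDualEx.dualTensorHom_bijective_of_flat (k := k) (M := A) A)
  let c : HopfRep.Comod k A A := HopfRep.Comod.regular k A
  let D : Module.Dual k A →ₗ[k] Module.Dual k A ⊗[k] A := E.symm.toLinearMap ∘ₗ
    { toFun := ComodTens.dualCoactFun c
      map_add' := ComodTens.dualCoactFun_add c
      map_smul' := ComodTens.dualCoactFun_smul c }
  have hD : ∀ φ, dualTensorHom k A A (D φ) = ComodTens.dualCoactFun c φ := fun φ => E.apply_symm_apply _
  let S : A →ₗ[k] A := HopfAlgebra.antipode k (A := A)
  have hev : ∀ φ a, dualTensorHom k A A (D φ) a = TensorProduct.lid k A (TensorProduct.map φ S (Coalgebra.comul a)) :=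
    fun φ a => by rw [hD, ComodTens.dualCoactFun_apply]; rfl
  refine ⟨{ coact := D, coassoc := ?_, counit_comp := ?_ }, fun φ => hD φ⟩
  · refine LinearMap.ext fun φ => (ComodDualEx.dualTensorHom_bijective_of_flat (k := k) (M := A) (A ⊗[k] A)).1
      (LinearMap.ext fun a => ?_)
    show dualTensorHom k A (A ⊗[k] A) (TensorProduct.assoc k _ A A (D.rTensor A (D φ))) a =
      dualTensorHom k A (A ⊗[k] A) ((Coalgebra.comul (R := k) (A := A)).lTensor _ (D φ)) a
    let L : A ⊗[k] A →ₗ[k] A ⊗[k] A :=
      TensorProduct.lift ((TensorProduct.mk k A A ∘ₗ S).flip.compl₁₂ (dualTensorHom k A A (D φ)) LinearMap.id)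
    have h1 : ∀ t : Module.Dual k A ⊗[k] A, dualTensorHom k A (A ⊗[k] A) (TensorProduct.assoc k _ A A (D.rTensor A t)) a =
        TensorProduct.lift ((TensorProduct.mk k A A ∘ₗ S).flip.compl₁₂ (dualTensorHom k A A t) LinearMap.id)
          (Coalgebra.comul (R := k) a) := by
      intro t
      induction t using TensorProduct.induction_on with
      | zero =>
        rw [show (TensorProduct.mk k A A ∘ₗ S).flip.compl₁₂ (dualTensorHom k A A 0) LinearMap.id = 0 from
          LinearMap.ext fun p => LinearMap.ext fun q => by simp,
          show TensorProduct.lift (0 : A →ₗ[k] A →ₗ[k] A ⊗[k] A) = 0 from TensorProduct.ext' fun p q => by simp]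
        simp
      | add u v hu hv =>
        simp only [map_add, LinearMap.add_apply, hu, hv]
        induction Coalgebra.comul (R := k) a using TensorProduct.induction_on with
        | zero => simp
        | add p q hp hq => simp only [map_add, ← hp, ← hq]; abel
        | tmul p q => simp [TensorProduct.tmul_add, TensorProduct.add_tmul]
      | tmul ψ b =>
        have e : ∀ w : Module.Dual k A ⊗[k] A, dualTensorHom k A (A ⊗[k] A) (TensorProduct.assoc k _ A A (w ⊗ₜ b)) a =
            dualTensorHom k A A w a ⊗ₜ b := by
          intro w
          induction w using TensorProduct.induction_on with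
          | zero => simp
          | add u v hu hv => simp only [TensorProduct.add_tmul, map_add, LinearMap.add_apply, hu, hv]
          | tmul w₀ w₁ => simp [TensorProduct.smul_tmul']
        rw [LinearMap.rTensor_tmul, e, hev]
        induction Coalgebra.comul (R := k) a using TensorProduct.induction_on with
        | zero => simp
        | add p q hp hq => simp only [map_add, TensorProduct.add_tmul, hp, hq]
        | tmul p q => simp [TensorProduct.smul_tmul', TensorProduct.tmul_smul]
    have h2 : ∀ t : Module.Dual k A ⊗[k] A, dualTensorHom k A (A ⊗[k] A) ((Coalgebra.comul (R := k) (A := A)).lTensor _ t) a =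
        Coalgebra.comul (R := k) (dualTensorHom k A A t a) := by
      intro t
      induction t using TensorProduct.induction_on with
      | zero => simp
      | add u v hu hv => simp only [map_add, LinearMap.add_apply, hu, hv]
      | tmul ψ b => simp
    rw [h1, h2, hev]
    let K : A ⊗[k] (A ⊗[k] A) →ₗ[k] A ⊗[k] A := (TensorProduct.lid k (A ⊗[k] A)).toLinearMap ∘ₗ
      TensorProduct.map φ ((TensorProduct.comm k A A).toLinearMap ∘ₗ TensorProduct.map S S)
    have h3 : ∀ t : A ⊗[k] A, L t = K (TensorProduct.assoc k A A A ((Coalgebra.comul (R := k) (A := A)).rTensor A t)) := by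
      intro t
      induction t using TensorProduct.induction_on with
      | zero => simp
      | add p q hp hq => simp only [map_add, hp, hq]
      | tmul p q =>
        simp only [L, TensorProduct.lift.tmul, LinearMap.compl₁₂_apply, LinearMap.flip_apply, LinearMap.comp_apply,
          TensorProduct.mk_apply, LinearMap.id_apply, LinearMap.rTensor_tmul]
        rw [hev]
        induction Coalgebra.comul (R := k) p using TensorProduct.induction_on with
        | zero => simp
        | add u v hu hv => simp only [map_add, TensorProduct.tmul_add, TensorProduct.add_tmul, hu, hv]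
        | tmul u v => simp [K, TensorProduct.tmul_smul]
    have h4 : ∀ t : A ⊗[k] A, Coalgebra.comul (R := k) (TensorProduct.lid k A (TensorProduct.map φ S t)) =
        K ((Coalgebra.comul (R := k) (A := A)).lTensor A t) := by
      intro t
      induction t using TensorProduct.induction_on with
      | zero => simp
      | add p q hp hq => simp only [map_add, hp, hq]
      | tmul p q => simp [K, S, TameInt.comul_antipode]
    show L (Coalgebra.comul (R := k) a) = _
    rw [h3, h4, Coalgebra.coassoc_apply]
  · refine LinearMap.ext fun φ => (ComodDualEx.dualTensorHom_bijective_of_flat (k := k) (M := A) k).1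
      (LinearMap.ext fun a => ?_)
    have h2 : ∀ t : Module.Dual k A ⊗[k] A, dualTensorHom k A k ((Coalgebra.counit (R := k) (A := A)).lTensor _ t) a =
        Coalgebra.counit (R := k) (dualTensorHom k A A t a) := by
      intro t
      induction t using TensorProduct.induction_on with
      | zero => simp
      | add u v hu hv => simp only [map_add, LinearMap.add_apply, hu, hv]
      | tmul ψ b => simp
    show dualTensorHom k A k ((Coalgebra.counit (R := k) (A := A)).lTensor _ (D φ)) a =
      dualTensorHom k A k (φ ⊗ₜ (1 : k)) a
    rw [h2, hev]
    have h5 : ∀ t : A ⊗[k] A, Coalgebra.counit (R := k) (TensorProduct.lid k A (TensorProduct.map φ S t)) =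
        φ (TensorProduct.rid k A ((Coalgebra.counit (R := k) (A := A)).lTensor A t)) := by
      intro t
      induction t using TensorProduct.induction_on with
      | zero => simp
      | add p q hp hq => simp only [map_add, hp, hq]
      | tmul p q => simp [S, mul_comm]
    rw [h5, Coalgebra.lTensor_counit_comul, TensorProduct.rid_tmul, one_smul]
    simp


/-- Let `k` be a commutative ring, `A` a commutative Hopf algebra over `k` which is finite locally free
(finite projective, in particular flat) as a `k`-module, `B` a commutative `k`-algebra with a
coaction of `A` that is an algebra map, and `C = B^A` the ring of invariants; assume `C` Noetherian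
and `B` finite and flat over `C`. If taking invariants is exact on `(B, A)`-modules — for
`B`-modules `M`, `N` with compatible `A`-coactions (in the universe of `k`, `A`, `B`) every
surjective `B`-linear comodule map `M → N` maps `M^A` onto `N^A` — then the action is tame: there is
a comodule map `α : A → B` with `α 1 = 1`. Together with the converse (a total integral makes
invariants exact) this says that tameness of the action is the exactness of invariants. (The
published statement does not assume `B` finite over `C`; its proof uses that finiteness, which is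
assumed here.) -/
theorem result
    (k : Type u) [CommRing k] (A : Type u) [CommRing A] [HopfAlgebra k A] [Module.Flat k A]
    [Module.Finite k A] [Module.Projective k A]
    (B : Type u) [CommRing B] [Algebra k B] [HopfRep.Comod k A B] [GLin.IsCoactAlg k A B]
    [IsNoetherianRing (GLin.invariants k A B)] [Module.Finite (GLin.invariants k A B) B] [Module.Flat (GLin.invariants k A B) B]
    (hexact : ∀ (M N : Type u) [AddCommGroup M] [Module k M] [Module B M] [IsScalarTower k B M]
      [HopfRep.Comod k A M] [TameAct.IsHopfMod k A B M]
      [AddCommGroup N] [Module k N] [Module B N] [IsScalarTower k B N]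
      [HopfRep.Comod k A N] [TameAct.IsHopfMod k A B N] (f : M →ₗ[B] N),
      Hoch.IsComodHom A (f.restrictScalars k) → Function.Surjective f →
      ∀ n ∈ HopfRep.fixedPts k A N, ∃ m ∈ HopfRep.fixedPts k A M, f m = n) :
    ∃ α : A →ₗ[k] B, Hoch.IsComodHom A α ∧ α 1 = 1 := by
  haveI : Module.FinitePresentation k A := Module.finitePresentation_of_projective k A
  obtain ⟨d, hd⟩ := exists_isDual_regular k A
  letI : HopfRep.Comod k A (B ⊗[k] Module.Dual k A) :=
    ComodTens.Comod.tensor (inferInstance : HopfRep.Comod k A B) d
  haveI : TameAct.IsHopfMod k A B (B ⊗[k] Module.Dual k A) := ⟨fun b m => by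
    induction m using TensorProduct.induction_on with
    | zero => simp
    | add u v hu hv => simp only [smul_add, map_add, hu, hv]
    | tmul x φ =>
      rw [TensorProduct.smul_tmul', smul_eq_mul, ComodTens.tensor_coact_tmul, ComodTens.tensor_coact_tmul,
        GLin.IsCoactAlg.coact_mul]
      generalize HopfRep.Comod.coact (k := k) (A := A) b = y
      generalize HopfRep.Comod.coact (k := k) (A := A) x = z
      generalize d.coact φ = w
      induction y using TensorProduct.induction_on with
      | zero => simp
      | add u v hu hv => simp only [add_mul, TensorProduct.add_tmul, map_add, LinearMap.add_apply, hu, hv]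
      | tmul y₀ y₁ =>
        induction z using TensorProduct.induction_on with
        | zero => simp
        | add u v hu hv => simp only [mul_add, TensorProduct.add_tmul, map_add, hu, hv]
        | tmul z₀ z₁ =>
          induction w using TensorProduct.induction_on with
          | zero => simp
          | add u v hu hv => simp only [TensorProduct.tmul_add, map_add, hu, hv]
          | tmul w₀ w₁ => simp [TensorProduct.smul_tmul', mul_assoc]⟩
  let f : B ⊗[k] Module.Dual k A →ₗ[B] B := (AlgebraTensorModule.rid k B B).toLinearMap ∘ₗ
    AlgebraTensorModule.map (LinearMap.id : B →ₗ[B] B) (Module.Dual.eval k A 1)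
  have hf : ∀ (x : B) (φ : Module.Dual k A), f (x ⊗ₜ φ) = φ 1 • x := fun x φ => by simp [f]
  have hhom : Hoch.IsComodHom A (f.restrictScalars k) := TensorProduct.ext' fun x φ => by
    show HopfRep.Comod.coact (k := k) (A := A) (f (x ⊗ₜ φ)) = (f.restrictScalars k).rTensor A
      ((ComodTens.Comod.tensor (inferInstance : HopfRep.Comod k A B) d).coact (x ⊗ₜ φ))
    rw [hf, map_smul, ComodTens.tensor_coact_tmul]
    have e : ∀ (y : B ⊗[k] A) (w : Module.Dual k A ⊗[k] A), (f.restrictScalars k).rTensor A
        (TensorProduct.map LinearMap.id (LinearMap.mul' k A)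
          (AlgebraTensorModule.tensorTensorTensorComm k k k k B A (Module.Dual k A) A (y ⊗ₜ w))) =
        y * ((1 : B) ⊗ₜ dualTensorHom k A A w 1) := by
      intro y w
      induction y using TensorProduct.induction_on with
      | zero => simp
      | add u v hu hv => simp only [TensorProduct.add_tmul, map_add, add_mul, hu, hv]
      | tmul y₀ y₁ =>
        induction w using TensorProduct.induction_on with
        | zero => simp
        | add u v hu hv => simp only [TensorProduct.tmul_add, map_add, LinearMap.add_apply, mul_add, hu, hv]
        | tmul w₀ w₁ => simp [hf, TensorProduct.smul_tmul]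
    rw [e, hd φ, ComodTens.dualCoactFun_apply]
    show _ = _ * ((1 : B) ⊗ₜ TensorProduct.lid k A
      (TensorProduct.map φ (HopfAlgebra.antipode k) (Coalgebra.comul (R := k) (1 : A))))
    rw [Bialgebra.comul_one, Algebra.TensorProduct.one_def, TensorProduct.map_tmul, HopfAlgebra.antipode_one,
      TensorProduct.lid_tmul, TensorProduct.tmul_smul, mul_smul_comm, ← Algebra.TensorProduct.one_def, mul_one]
  have hsurj : Function.Surjective f := fun x => ⟨x ⊗ₜ Coalgebra.counit, by simp [hf]⟩
  obtain ⟨m, hm, hm1⟩ := hexact (B ⊗[k] Module.Dual k A) B f hhom hsurj 1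
    (show HopfRep.Comod.coact (k := k) (A := A) (1 : B) = (1 : B) ⊗ₜ (1 : A) by
      rw [GLin.IsCoactAlg.coact_one (k := k) (A := A) (R := B), Algebra.TensorProduct.one_def])
  refine ⟨ComodDualEx.hom m, ?_, ?_⟩
  · let cA : HopfRep.Comod k A A := HopfRep.Comod.regular k A
    have h := congrArg (ComodDualEx.psi k A B A) (show (ComodTens.Comod.tensor (inferInstance : HopfRep.Comod k A B) d).coact m =
      m ⊗ₜ[k] (1 : A) from hm)
    rw [ComodDualEx.psi_coact (inferInstance : HopfRep.Comod k A B) cA d hd, ComodDualEx.psi_tmul_one] at h
    show HopfRep.Comod.coact (k := k) (A := A) ∘ₗ ComodDualEx.hom m = (ComodDualEx.hom m).rTensor A ∘ₗ cA.coact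
    rw [← ComodDualEx.star_flip_one cA (ComodDualEx.hom m), ← h, ComodDualEx.star_star,
      show WithConv.toConv (LinearMap.id (R := k) (M := A)) = WithConv.toConv LinearMap.id from rfl,
      LinearMap.antipode_mul_id, ComodDualEx.star_one]
  · exact (eval_eq f hf m).trans hm1

end Groth.Agent.S12928
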