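import Groth.Statements.S12929
import Groth.Agent.TameInt.Basic

set_option autoImplicit false
universe u v w w'
open HopfRep

namespace Groth.Agent.S12929

open scoped TensorProduct


/-- Let `k` be a commutative ring, `A` a commutative Hopf algebra over `k`, `M` a right `A`-comodule and
`N` a `k`-module; give `N ⊗ A` the coaction `id ⊗ Δ`. Then for every `k`-linear map `h : M → N` the
composite `(h ⊗ id_A) ∘ ρ_M : M → N ⊗ A` is a comodule map, and every comodule map `f : M → N ⊗ A`
is of this form for exactly one `h` (which is `(id_N ⊗ ε) ∘ f`): comodule maps `M → N ⊗ A`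
correspond bijectively to linear maps `M → N`. -/
theorem result
    (k : Type u) [CommRing k] (A : Type v) [CommRing A] [HopfAlgebra k A]
    (M : Type w) [AddCommGroup M] [Module k M] [HopfRep.Comod k A M]
    (N : Type w') [AddCommGroup N] [Module k N] :
    (∀ h : M →ₗ[k] N, Hoch.IsComodHom A
        ((Hoch.Ind.equiv k A N).toLinearMap ∘ₗ h.rTensor A ∘ₗ HopfRep.Comod.coact (k := k) (A := A))) ∧
      ∀ f : M →ₗ[k] Hoch.Ind k A N, Hoch.IsComodHom A f →
        ∃! h : M →ₗ[k] N,
          f = (Hoch.Ind.equiv k A N).toLinearMap ∘ₗ h.rTensor A ∘ₗ HopfRep.Comod.coact (k := k) (A := A) := by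
  refine ⟨fun h => LinearMap.ext fun m => ?_, fun f hf => ?_⟩
  · show (TensorProduct.assoc k N A A).symm ((Coalgebra.comul (R := k) (A := A)).lTensor N
      (h.rTensor A (HopfRep.Comod.coact (k := k) (A := A) m))) =
      (((Hoch.Ind.equiv k A N).toLinearMap ∘ₗ h.rTensor A ∘ₗ HopfRep.Comod.coact (k := k) (A := A))).rTensor A
        (HopfRep.Comod.coact (k := k) (A := A) m)
    have hc := LinearMap.congr_fun (HopfRep.Comod.coassoc (k := k) (A := A) (V := M)) m
    simp only [LinearMap.comp_apply, LinearEquiv.coe_coe] at hc
    rw [← LinearMap.comp_apply (LinearMap.lTensor N _), LinearMap.lTensor_comp_rTensor, ← LinearMap.rTensor_comp_lTensor,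
      LinearMap.comp_apply, ← hc, LinearMap.rTensor_comp, LinearMap.rTensor_comp, LinearMap.comp_apply, LinearMap.comp_apply]
    generalize (HopfRep.Comod.coact (k := k) (A := A) (V := M)).rTensor A (HopfRep.Comod.coact (k := k) (A := A) m) = t
    induction t using TensorProduct.induction_on with
    | zero => simp only [map_zero]; rfl
    | add u v hu hv => simp only [map_add, hu, hv]; rfl
    | tmul u c =>
      induction u using TensorProduct.induction_on with
      | zero => simp only [TensorProduct.zero_tmul, map_zero]; rfl
      | add u v hu hv => simp only [TensorProduct.add_tmul, map_add, hu, hv]; rfl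
      | tmul x y => rfl
  · refine ⟨Hoch.Ind.counit k A N ∘ₗ f, LinearMap.ext fun m => ?_, fun h hh => ?_⟩
    · show f m = (Hoch.Ind.counit k A N ∘ₗ f).rTensor A (HopfRep.Comod.coact (k := k) (A := A) m)
      rw [LinearMap.rTensor_comp, LinearMap.comp_apply, ← show HopfRep.Comod.coact (k := k) (A := A) (f m) = f.rTensor A
        (HopfRep.Comod.coact (k := k) (A := A) m) from LinearMap.congr_fun hf m, Hoch.Ind.coact_eq]
      have key : ∀ t : N ⊗[k] A, t = ((TensorProduct.rid k N).toLinearMap ∘ₗ (Coalgebra.counit (R := k) (A := A)).lTensor N).rTensor A (Hoch.Ind.coactAux k A N t) := by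
        intro t
        induction t using TensorProduct.induction_on with
        | zero => simp
        | add u v hu hv => rw [map_add, map_add, ← hu, ← hv]
        | tmul n a =>
          have h2 : ∀ z : A ⊗[k] A, ((TensorProduct.rid k N).toLinearMap ∘ₗ (Coalgebra.counit (R := k) (A := A)).lTensor N).rTensor A ((TensorProduct.assoc k N A A).symm (n ⊗ₜ z)) =
              n ⊗ₜ TensorProduct.lid k A ((Coalgebra.counit (R := k)).rTensor A z) := by
            intro z
            induction z using TensorProduct.induction_on with
            | zero => simp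
            | add u v hu hv => simp only [TensorProduct.tmul_add, map_add, hu, hv]
            | tmul u v =>
              show ((TensorProduct.rid k N) ((Coalgebra.counit (R := k) (A := A)).lTensor N (n ⊗ₜ u))) ⊗ₜ v = _
              simp [TensorProduct.smul_tmul]
          rw [Hoch.Ind.coactAux_tmul, h2, Coalgebra.rTensor_counit_comul, TensorProduct.lid_tmul, one_smul]
      exact key _
    · subst hh
      refine LinearMap.ext fun m => ?_
      show h m = TensorProduct.rid k N ((Coalgebra.counit (R := k) (A := A)).lTensor N
        (h.rTensor A (HopfRep.Comod.coact (k := k) (A := A) m)))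
      rw [← LinearMap.comp_apply (LinearMap.lTensor N _), LinearMap.lTensor_comp_rTensor, ← LinearMap.rTensor_comp_lTensor,
        LinearMap.comp_apply, show (Coalgebra.counit (R := k) (A := A)).lTensor M (HopfRep.Comod.coact (k := k) (A := A) m) = m ⊗ₜ 1 from
        LinearMap.congr_fun HopfRep.Comod.counit_comp m, LinearMap.rTensor_tmul, TensorProduct.rid_tmul, one_smul]

end Groth.Agent.S12929
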