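import Groth.Statements.S1293
import Groth.Agent.RG.Loc.PureCor

set_option autoImplicit false
open Groth.Agent
universe u
open FlatMor

namespace Groth.Agent.S1293

open TensorProduct in
/-- Let B be a finitely presented A-algebra, T ⊆ B a multiplicative subset and N a finitely presented
T⁻¹B-module which admits a pure spreadout (FlatCA.HasPureSpreadout). Then (1) every x ∈ N has a
content ideal, i.e. a smallest ideal I of A with x ∈ IN; and (2) every A-linear map u from N to a
flat A-module M such that u ⊗ A/𝔪 is injective for every maximal ideal 𝔪 of A is universally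
injective over A. -/
theorem result {A B : Type u} [CommRing A] [CommRing B] [Algebra A B] [Algebra.FinitePresentation A B]
    (T : Submonoid B) (N : Type u) [AddCommGroup N] [Module (Localization T) N] [Module A N] [IsScalarTower A (Localization T) N]
    [Module.FinitePresentation (Localization T) N] (h : FlatCA.HasPureSpreadout A B T N) :
    (∀ x : N, ∃ I : Ideal A, x ∈ I • (⊤ : Submodule A N) ∧ ∀ J : Ideal A, x ∈ J • (⊤ : Submodule A N) → I ≤ J) ∧
    ∀ (M : Type u) [AddCommGroup M] [Module A M] [Module.Flat A M] (u : N →ₗ[A] M),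
      (∀ (m : Ideal A) [m.IsMaximal], Function.Injective (u.lTensor (A ⧸ m))) → FlatCA.UnivInj A u := by
  classical
  obtain ⟨C, _, _, _, _, _, _, _, _, _, _, N', _, _, _, _, g, -, -, hbc, hproj, hg⟩ := h
  let L := Localization T
  let φ : T → (N →ₗ[A] N) := fun t => (LinearMap.lsmul L N (Localization.mk 1 t)).restrictScalars A
  let gt : T → (N' →ₗ[A] N) := fun t => φ t ∘ₗ g.restrictScalars A
  have hgt : ∀ t, FlatCA.UnivInj A (gt t) := fun t Q _ _ => by
    simp only [gt]
    rw [LinearMap.lTensor_comp, LinearMap.coe_comp]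
    let ψ : N →ₗ[A] N := (LinearMap.lsmul L N (algebraMap B L t)).restrictScalars A
    have hψ : ψ ∘ₗ φ t = LinearMap.id := LinearMap.ext fun n => by
      simp only [φ, ψ, LinearMap.comp_apply, LinearMap.coe_restrictScalars, LinearMap.lsmul_apply, LinearMap.id_apply,
        smul_smul]
      rw [← Localization.mk_one_eq_algebraMap, Localization.mk_mul, mul_one, one_mul,
        Localization.mk_self, one_smul]
    exact (Function.LeftInverse.injective (g := ψ.lTensor Q) fun z => by
      rw [← LinearMap.lTensor_comp_apply, hψ, LinearMap.lTensor_id, LinearMap.id_apply]).comp (hg Q)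
  have hmono : ∀ t t' : T, gt t = gt (t * t') ∘ₗ (LinearMap.lsmul C N' (algebraMap B C t')).restrictScalars A := fun t t' =>
    LinearMap.ext fun n => by
      simp only [gt, φ, LinearMap.comp_apply, LinearMap.coe_restrictScalars, LinearMap.lsmul_apply, map_smul]
      rw [← algebraMap_smul L (algebraMap B C t') (g n), ← IsScalarTower.algebraMap_apply, smul_smul,
        ← Localization.mk_one_eq_algebraMap, Localization.mk_mul, one_mul, mul_one]
      congr 1
      rw [Localization.mk_eq_mk_iff, Localization.r_iff_exists]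
      exact ⟨1, by simp [mul_comm]⟩
  have hcover : ∀ x : N, ∃ t n, gt t n = x := by
    intro x
    induction x using hbc.inductionOn with
    | tmul n => exact ⟨1, n, by simp [gt, φ, Localization.mk_one]⟩
    | smul a x hx =>
      obtain ⟨t, n, rfl⟩ := hx
      obtain ⟨⟨b, s⟩, rfl⟩ : ∃ bs : B × T, Localization.mk bs.1 bs.2 = a := by
        induction a using Localization.induction_on with
        | H bs => exact ⟨bs, rfl⟩
      refine ⟨s * t, algebraMap B C b • n, ?_⟩
      simp only [gt, φ, LinearMap.comp_apply, LinearMap.coe_restrictScalars, LinearMap.lsmul_apply, map_smul]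
      rw [← algebraMap_smul L (algebraMap B C b) (g n), ← IsScalarTower.algebraMap_apply, smul_smul, smul_smul,
        ← Localization.mk_one_eq_algebraMap, Localization.mk_mul, Localization.mk_mul, one_mul, mul_one, mul_one]
    | zero => exact ⟨1, 0, map_zero _⟩
    | add x y hx hy =>
      obtain ⟨t, n, rfl⟩ := hx
      obtain ⟨t', n', rfl⟩ := hy
      refine ⟨t * t', algebraMap B C t' • n + algebraMap B C t • n', ?_⟩
      rw [map_add, hmono t t', hmono t' t, mul_comm t' t]
      rfl
  refine ⟨fun x => ?_, fun M _ _ _ u hu => ?_⟩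
  · obtain ⟨t, n, rfl⟩ := hcover x
    obtain ⟨I, hI, hmin⟩ := RG.Loc.exists_content_ideal (A := A) n
    exact ⟨I, (RG.Loc.mem_smul_top_iff_of_univInj _ (hgt t) I n).2 hI,
      fun J hJ => hmin J ((RG.Loc.mem_smul_top_iff_of_univInj _ (hgt t) J n).1 hJ)⟩
  intro Q _ _
  rw [injective_iff_map_eq_zero]
  intro z hz
  obtain ⟨t, z', rfl⟩ : ∃ t z', (gt t).lTensor Q z' = z := by
    clear hz
    induction z using TensorProduct.induction_on with
    | zero => exact ⟨1, 0, map_zero _⟩
    | tmul q x =>
      obtain ⟨t, n, rfl⟩ := hcover x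
      exact ⟨t, q ⊗ₜ n, by simp⟩
    | add a b ha hb =>
      obtain ⟨t, a, rfl⟩ := ha
      obtain ⟨t', b, rfl⟩ := hb
      refine ⟨t * t', ((LinearMap.lsmul C N' (algebraMap B C t')).restrictScalars A).lTensor Q a +
        ((LinearMap.lsmul C N' (algebraMap B C t)).restrictScalars A).lTensor Q b, ?_⟩
      rw [map_add, ← LinearMap.lTensor_comp_apply, ← LinearMap.lTensor_comp_apply, ← hmono t t', mul_comm t t',
        ← hmono t' t]
  have hv : FlatCA.UnivInj A (u ∘ₗ gt t) := RG.Loc.univInj_of_residue _ fun m _ => by
    rw [LinearMap.lTensor_comp, LinearMap.coe_comp]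
    exact (hu m).comp (hgt t _)
  rw [← LinearMap.lTensor_comp_apply] at hz
  rw [hv Q (hz.trans (map_zero _).symm), map_zero]

end Groth.Agent.S1293
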