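import Groth.Statements.S12931
import Mathlib

set_option linter.style.haveILetI false

set_option autoImplicit false
universe u v w
open HopfRep

namespace Groth.Agent.S12931

/-- Let `R` be a commutative ring, `Γ` a finite set and `T` a commutative `R`-algebra which is
connected: nonzero, with no idempotents other than `0` and `1`. Then `γ ↦ (evaluation at γ : (Γ → R)
→ R → T)` is a bijection from `Γ` onto the `R`-algebra maps `(Γ → R) → T`: every such map sends
exactly one of the indicator functions to `1` and the others to `0`. (Only the bijection of sets is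
stated; when `Γ` is a group, the compatibility with the group structures on both sides is not.) -/
theorem result
    (R : Type u) [CommRing R] (Γ : Type v) [Finite Γ]
    (T : Type w) [CommRing T] [Algebra R T] [Nontrivial T]
    (hT : ∀ e : T, IsIdempotentElem e → e = 0 ∨ e = 1) :
    Function.Bijective (fun γ : Γ => (Algebra.ofId R T).comp (Pi.evalAlgHom R (fun _ : Γ => R) γ)) := by
  classical
  have := Fintype.ofFinite Γ
  constructor
  · intro a b h
    by_contra hne
    have := AlgHom.congr_fun h (Pi.single a 1)
    simp [Pi.single_eq_of_ne (Ne.symm hne)] at this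
  · intro φ
    have hid : ∀ γ, IsIdempotentElem (φ (Pi.single γ 1)) := fun γ => by
      rw [IsIdempotentElem, ← map_mul, ← Pi.single_mul, mul_one]
    have hsum : ∑ γ, φ (Pi.single γ 1) = 1 := by
      rw [← map_sum, Finset.univ_sum_single]; exact map_one φ
    obtain ⟨γ, hγ⟩ : ∃ γ, φ (Pi.single γ 1) = 1 := by
      by_contra hc
      push Not at hc
      rw [Finset.sum_eq_zero fun γ _ => (hT _ (hid γ)).resolve_right (hc γ)] at hsum
      exact zero_ne_one hsum
    refine ⟨γ, AlgHom.ext fun f => ?_⟩
    have h1 : φ f = φ f * φ (Pi.single γ 1) := by rw [hγ, mul_one]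
    have h2 : f * Pi.single γ 1 = f γ • Pi.single γ 1 := by
      funext δ
      by_cases h : δ = γ
      · subst h; simp
      · simp [Pi.single_eq_of_ne h]
    rw [← map_mul, h2, map_smul, hγ, ← Algebra.algebraMap_eq_smul_one] at h1
    rw [h1]
    rfl

end Groth.Agent.S12931
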