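import Groth.Statements.S12935
import Mathlib.RingTheory.Invariant.Basic
import Mathlib.Tactic

set_option autoImplicit false
set_option linter.style.haveILetI false
open scoped Pointwise

universe u v
open InvTh

namespace Groth.Agent.S12935

/-- Let `B` be a commutative ring with an action of a finite group `Γ` by ring automorphisms, `Ω` a
normal subgroup of `Γ`, `B^Ω` the subring of `Ω`-invariants (stable under `Γ`, with the induced
action of `Γ/Ω`), and `P` a prime ideal of `B`. Then (decomposition groups) an element `γ` maps `P ∩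
B^Ω` onto itself if and only if `γω` maps `P` onto itself for some `ω ∈ Ω`; and (inertia groups) `γ`
fixes `B^Ω` modulo `P ∩ B^Ω` if and only if `γω` fixes `B` modulo `P` for some `ω ∈ Ω`. In other
words the decomposition and inertia groups of `P ∩ B^Ω` under `Γ/Ω` are the images of those of `P`.
(The published statement also asserts the same for the ramification groups, the Sylow subgroups of
the inertia groups at the residue characteristic; that clause is not included here.) -/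
theorem result
    (B : Type u) [CommRing B] (Γ : Type v) [Group Γ] [Finite Γ] [MulSemiringAction Γ B]
    (Ω : Subgroup Γ) [Ω.Normal] (P : Ideal B) [P.IsPrime] (γ : Γ) :
    ((∀ x : B, (∀ ω ∈ Ω, ω • x = x) → (x ∈ P ↔ γ • x ∈ P)) ↔
        ∃ ω ∈ Ω, ∀ x : B, x ∈ P ↔ (γ * ω) • x ∈ P) ∧
      ((∀ x : B, (∀ ω ∈ Ω, ω • x = x) → γ • x - x ∈ P) ↔
        ∃ ω ∈ Ω, ∀ x : B, (γ * ω) • x - x ∈ P) := by
  classical
  let A : Subring B := FixedPoints.subring B Ω
  haveI : Algebra.IsInvariant A B Ω := ⟨fun b hb => ⟨⟨b, hb⟩, rfl⟩⟩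
  haveI : SMulCommClass Ω A B := ⟨fun g a b => by
    change g • ((a : B) * b) = (a : B) * (g • b)
    rw [smul_mul', a.2 g]⟩
  have hA : ∀ x : B, x ∈ A ↔ ∀ ω ∈ Ω, ω • x = x := fun x =>
    ⟨fun h ω hω => h ⟨ω, hω⟩, fun h ω => h ω.1 ω.2⟩
  have hnorm : ∀ ω ∈ Ω, ∀ x : B, (∀ ν ∈ Ω, ν • x = x) → (γ * ω) • x = γ • x :=
    fun ω hω x hx => by rw [mul_smul, hx ω hω]
  have first : (∀ x : B, (∀ ω ∈ Ω, ω • x = x) → (x ∈ P ↔ γ • x ∈ P)) ↔
      ∃ ω ∈ Ω, ∀ x : B, x ∈ P ↔ (γ * ω) • x ∈ P := by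
    constructor
    · intro h
      haveI : (γ⁻¹ • P).IsPrime := Ideal.IsPrime.smul γ⁻¹
      have hu : P.under A = (γ⁻¹ • P).under A := by
        ext ⟨a, ha⟩
        change a ∈ P ↔ a ∈ γ⁻¹ • P
        rw [Ideal.mem_inv_pointwise_smul_iff]
        exact h a ((hA a).1 ha)
      obtain ⟨ω, hω⟩ := Algebra.IsInvariant.exists_smul_of_under_eq A B Ω P (γ⁻¹ • P) hu
      refine ⟨ω.1, ω.2, fun x => ?_⟩
      rw [mul_smul, ← Ideal.mem_inv_pointwise_smul_iff (a := γ), hω]
      exact (Ideal.smul_mem_pointwise_smul_iff (a := ω)).symm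
    · rintro ⟨ω, hω, h⟩ x hx
      rw [h x, hnorm ω hω x hx]
  refine ⟨first, ⟨fun h => ?_, ?_⟩⟩
  · obtain ⟨ω, hω, hst⟩ := first.1 fun x hx => by
      constructor
      · intro hxP
        simpa using add_mem (h x hx) hxP
      · intro hxP
        simpa using sub_mem hxP (h x hx)
    let τ := MulSemiringAction.toRingEquiv Γ B (γ * ω)
    have hmap : P = P.map (τ : B →+* B) := by
      rw [Ideal.map_comap_of_equiv τ]
      ext x
      rw [Ideal.mem_comap, hst (τ.symm x)]
      change _ ↔ τ (τ.symm x) ∈ P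
      simp [τ.apply_symm_apply]
    let σ : (B ⧸ P) ≃+* (B ⧸ P) := Ideal.quotientEquiv P P τ hmap
    let p : Ideal A := P.under A
    let σ' : (B ⧸ P) ≃ₐ[A ⧸ p] (B ⧸ P) := AlgEquiv.ofRingEquiv (f := σ) (by
      intro a
      obtain ⟨⟨a, ha⟩, rfl⟩ := Ideal.Quotient.mk_surjective a
      change σ (Ideal.Quotient.mk P a) = Ideal.Quotient.mk P a
      rw [Ideal.quotientEquiv_mk, Ideal.Quotient.mk_eq_mk_iff_sub_mem]
      change (γ * ω) • a - a ∈ P
      rw [hnorm ω hω a ((hA a).1 ha)]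
      exact h a ((hA a).1 ha))
    obtain ⟨ν, hν⟩ := Ideal.Quotient.stabilizerHom_surjective (Ω : Subgroup Γ) p P σ'⁻¹
    refine ⟨ω * ν.1.1, mul_mem hω ν.1.2, fun x => ?_⟩
    rw [← Ideal.Quotient.mk_eq_mk_iff_sub_mem, ← mul_assoc, mul_smul]
    have h1 : σ' (Ideal.Quotient.mk P (ν.1.1 • x)) = Ideal.Quotient.mk P x := by
      have := AlgEquiv.congr_fun hν (Ideal.Quotient.mk P x)
      change Ideal.Quotient.mk P (ν.1.1 • x) = σ'.symm (Ideal.Quotient.mk P x) at this
      rw [this, AlgEquiv.apply_symm_apply]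
    exact h1
  · rintro ⟨ω, hω, h⟩ x hx
    rw [← hnorm ω hω x hx]
    exact h x

end Groth.Agent.S12935
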