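import Groth.Statements.S12937
import Mathlib
import Groth.Agent.S12935
import Groth.Agent.S12936

set_option autoImplicit false
universe u v
open InvTh

namespace Groth.Agent.S12937

section
open Polynomial
open scoped Pointwise

variable {B : Type u} [CommRing B] {Γ : Type v} [Group Γ] [Finite Γ] [MulSemiringAction Γ B] (P : Ideal B)

local notation "π" => Ideal.Quotient.mk P

/-- The elements fixed by inertia. -/
def inertiaRing : Subring B where
  carrier := {y | ∀ γ : Γ, γ ∈ P.inertia Γ → γ • y = y}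
  mul_mem' ha hb γ hγ := by rw [smul_mul', ha γ hγ, hb γ hγ]
  one_mem' γ _ := smul_one γ
  add_mem' ha hb γ hγ := by rw [smul_add, ha γ hγ, hb γ hγ]
  zero_mem' γ _ := smul_zero γ
  neg_mem' ha γ hγ := by rw [smul_neg, ha γ hγ]

omit [Finite Γ] in
lemma mem_inertiaRing {y : B} : y ∈ inertiaRing (Γ := Γ) P ↔ ∀ γ : Γ, γ ∈ P.inertia Γ → γ • y = y := Iff.rfl

/-- The decomposition group. -/
def decomp : Subgroup Γ where
  carrier := {γ | ∀ y : B, y ∈ P ↔ γ • y ∈ P}
  mul_mem' := fun {a b} ha hb y ↦ by rw [mul_smul, ← ha (b • y), ← hb y]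
  one_mem' y := by rw [one_smul]
  inv_mem' := fun {a} ha y ↦ by rw [ha (a⁻¹ • y), smul_inv_smul]

omit [Finite Γ] in
lemma inertia_mem {γ : Γ} : γ ∈ P.inertia Γ ↔ ∀ y : B, γ • y - y ∈ P := Iff.rfl

omit [Finite Γ] in
lemma inertia_le : P.inertia Γ ≤ decomp P := fun γ hγ y ↦ by
  have h := (inertia_mem P).mp hγ y
  exact ⟨fun hy ↦ (sub_add_cancel (γ • y) y) ▸ P.add_mem h hy,
    fun hy ↦ by simpa using P.sub_mem hy h⟩

omit [Finite Γ] in
lemma conj_mem {σ t : Γ} (hσ : σ ∈ decomp P) (ht : t ∈ P.inertia Γ) : σ⁻¹ * t * σ ∈ P.inertia Γ := by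
  rw [inertia_mem] at ht ⊢
  intro y
  have := ((decomp P).inv_mem hσ (t • σ • y - σ • y)).mp (ht (σ • y))
  rwa [smul_sub, inv_smul_smul, ← mul_smul, ← mul_smul] at this

omit [Finite Γ] in
lemma smul_mem_inertiaRing {σ : Γ} (hσ : σ ∈ decomp P) {y : B} (hy : y ∈ inertiaRing (Γ := Γ) P) :
    σ • y ∈ inertiaRing (Γ := Γ) P := fun t ht ↦ by
  have h := hy _ (conj_mem P hσ ht)
  rw [mul_smul, mul_smul, inv_smul_eq_iff] at h
  exact h

omit [Finite Γ] in
lemma mk_smul_congr {σ : Γ} (hσ : σ ∈ decomp P) {a b : B} (h : π a = π b) : π (σ • a) = π (σ • b) := by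
  rw [Ideal.Quotient.mk_eq_mk_iff_sub_mem] at h ⊢
  rw [← smul_sub]
  exact (hσ _).mp h

variable [P.IsMaximal]

attribute [local instance] Ideal.Quotient.field

/-- The residues of the fixed elements of inertia form a field. -/
noncomputable def inertiaField : Subfield (B ⧸ P) :=
  { (inertiaRing (Γ := Γ) P).map π with
    inv_mem' := by
      classical
      haveI := Fintype.ofFinite Γ
      rintro _ ⟨y, hy, rfl⟩
      rcases eq_or_ne (π y) 0 with h0 | h0
      · rw [h0, inv_zero]; exact ((inertiaRing (Γ := Γ) P).map π).zero_mem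
      obtain ⟨b, hb⟩ := Ideal.Quotient.mk_surjective (π y)⁻¹
      let N : B := ∏ t : P.inertia Γ, (t : Γ) • b
      have hN : N ∈ inertiaRing (Γ := Γ) P := fun γ hγ ↦ by
        rw [Finset.smul_prod']
        refine Fintype.prod_equiv (Equiv.mulLeft ⟨γ, hγ⟩) _ _ fun t ↦ ?_
        rw [← mul_smul]
        rfl
      have hπ : π N = (π y)⁻¹ ^ Fintype.card (P.inertia Γ) := by
        rw [map_prod, Finset.prod_congr rfl fun (t : P.inertia Γ) _ ↦ show π ((t : Γ) • b) = (π y)⁻¹ by
          rw [← hb, Ideal.Quotient.mk_eq_mk_iff_sub_mem]; exact (inertia_mem P).mp t.2 b]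
        simp
      obtain ⟨m, hm⟩ : ∃ m, Fintype.card (P.inertia Γ) = m + 1 := ⟨_, (Nat.succ_pred_eq_of_pos Fintype.card_pos).symm⟩
      refine ⟨y ^ m * N, mul_mem (pow_mem hy m) hN, ?_⟩
      rw [map_mul, map_pow, hπ, hm, pow_succ, ← mul_assoc, ← mul_pow, mul_inv_cancel₀ h0, one_pow, one_mul] }

lemma exists_inertia_fixed (x : B) (g : B[X]) (hg : ∀ (i : ℕ) (γ : Γ), γ • g.coeff i = g.coeff i)
    (hs : (g.map π).Separable) (hr : aeval x g ∈ P) :
    ∃ y : B, (∀ γ : Γ, γ ∈ P.inertia Γ → γ • y = y) ∧ x - y ∈ P := by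
  classical
  haveI := Fintype.ofFinite Γ
  let L := inertiaField (Γ := Γ) P
  have hsub : ∀ q : B[X], (∀ i, q.coeff i ∈ inertiaRing (Γ := Γ) P) →
      q.map π ∈ lifts (algebraMap L (B ⧸ P)) := fun q hq ↦ by
    rw [lifts_iff_coeff_lifts]
    intro i
    rw [coeff_map]
    exact ⟨⟨π (q.coeff i), q.coeff i, hq i, rfl⟩, rfl⟩
  let N : B[X] := ∏ t : P.inertia Γ, (X - C ((t : Γ) • x))
  have hN : ∀ i, N.coeff i ∈ inertiaRing (Γ := Γ) P := fun i γ hγ ↦ by
    have : N.map (MulSemiringAction.toRingHom Γ B γ) = N := by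
      simp only [N, Polynomial.map_prod, Polynomial.map_sub, map_X, map_C]
      refine Fintype.prod_equiv (Equiv.mulLeft ⟨γ, hγ⟩) _ _ fun t ↦ ?_
      simp [mul_smul]
    have h := congrArg (fun q ↦ coeff q i) this
    simpa [coeff_map] using h
  have hNmap : N.map π = (X - C (π x)) ^ Fintype.card (P.inertia Γ) := by
    simp only [N, Polynomial.map_prod, Polynomial.map_sub, map_X, map_C]
    rw [Finset.prod_congr rfl fun (t : P.inertia Γ) _ ↦ show X - C (π ((t : Γ) • x)) = X - C (π x) by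
      rw [show π ((t : Γ) • x) = π x from (Ideal.Quotient.mk_eq_mk_iff_sub_mem _ _).mpr ((inertia_mem P).mp t.2 x)]]
    simp
  obtain ⟨gL, hgL⟩ := hsub g fun i γ _ ↦ hg i γ
  obtain ⟨NL, hNL⟩ := hsub N hN
  rw [coe_mapRingHom] at hgL hNL
  have e : ∀ q : L[X], aeval (π x) q = eval (π x) (q.map (algebraMap L (B ⧸ P))) := fun q ↦
    (eval_map_algebraMap q (π x)).symm
  have h1 : aeval (π x) gL = 0 := by
    rw [e, hgL, eval_map, eval₂_at_apply, Ideal.Quotient.eq_zero_iff_mem]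
    rwa [coe_aeval_eq_eval] at hr
  have h2 : aeval (π x) NL = 0 := by
    rw [e, hNL, hNmap, eval_pow, eval_sub, eval_X, eval_C, sub_self, zero_pow Fintype.card_ne_zero]
  have hint : IsIntegral L (π x) := by
    refine ⟨NL, ?_, h2⟩
    apply monic_of_injective (algebraMap L (B ⧸ P)).injective
    rw [hNL, hNmap]
    exact (monic_X_sub_C _).pow _
  have hd1 := map_dvd (algebraMap L (B ⧸ P)) (minpoly.dvd L _ h1)
  have hd2 := map_dvd (algebraMap L (B ⧸ P)) (minpoly.dvd L _ h2)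
  rw [hgL] at hd1
  rw [hNL, hNmap] at hd2
  obtain ⟨j, hj, hass⟩ := (dvd_prime_pow (prime_X_sub_C (π x)) _).mp hd2
  have hsq : Squarefree ((minpoly L (π x)).map (algebraMap L (B ⧸ P))) := (hs.of_dvd hd1).squarefree
  have hdeg : ((minpoly L (π x)).map (algebraMap L (B ⧸ P))).natDegree = j := by
    rw [natDegree_eq_of_degree_eq (degree_eq_degree_of_associated hass), natDegree_pow, natDegree_X_sub_C, mul_one]
  have hj1 : j ≤ 1 := by
    by_contra hc
    have : (X - C (π x)) * (X - C (π x)) ∣ (minpoly L (π x)).map (algebraMap L (B ⧸ P)) :=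
      dvd_trans (by rw [← pow_two]; exact pow_dvd_pow _ (by omega)) hass.symm.dvd
    exact (not_isUnit_X_sub_C (π x)) (hsq _ this)
  rw [natDegree_map] at hdeg
  have hpos := minpoly.natDegree_pos hint
  obtain ⟨⟨_, y, hy, rfl⟩, hy'⟩ := minpoly.natDegree_eq_one_iff.mp (show (minpoly L (π x)).natDegree = 1 by omega)
  exact ⟨y, hy, (Ideal.Quotient.mk_eq_mk_iff_sub_mem x y).mp hy'.symm⟩

lemma exists_separable (x y : B) (hy : ∀ γ : Γ, γ ∈ P.inertia Γ → γ • y = y) (hxy : x - y ∈ P) :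
    ∃ g : B[X], (∀ (i : ℕ) (γ : Γ), γ • g.coeff i = g.coeff i) ∧ (g.map π).Separable ∧ aeval x g ∈ P := by
  classical
  let D := decomp (Γ := Γ) P
  let T := (P.inertia Γ).subgroupOf D
  haveI : Fintype (D ⧸ T) := Fintype.ofFinite _
  have wd : ∀ w : inertiaRing (Γ := Γ) P, ∀ a b : D, QuotientGroup.leftRel T a b → (a : Γ) • (w : B) = (b : Γ) • (w : B) :=
    fun w a b h ↦ by
      rw [QuotientGroup.leftRel_apply, Subgroup.mem_subgroupOf] at h
      have := w.2 _ h
      rwa [Subgroup.coe_mul, mul_smul, InvMemClass.coe_inv, inv_smul_eq_iff, eq_comm] at this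
  let act : D ⧸ T → inertiaRing (Γ := Γ) P → B := fun q w ↦ Quotient.liftOn' q (fun a : D ↦ (a : Γ) • (w : B)) (wd w)
  have act_mk : ∀ (a : D) w, act (a : D ⧸ T) w = (a : Γ) • (w : B) := fun a w ↦ rfl
  let φ : D ⧸ T → (inertiaRing (Γ := Γ) P →* B ⧸ P) := fun q ↦
    { toFun := fun w ↦ π (act q w)
      map_one' := by induction q using QuotientGroup.induction_on with | _ a => simp [act_mk]
      map_mul' := fun v w ↦ by
        induction q using QuotientGroup.induction_on with | _ a => simp [act_mk, smul_mul'] }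
  have φinj : Function.Injective φ := by
    intro q q' h
    induction q using QuotientGroup.induction_on with | _ a => ?_
    induction q' using QuotientGroup.induction_on with | _ b => ?_
    rw [QuotientGroup.eq, Subgroup.mem_subgroupOf]
    haveI : (P.inertia Γ).subgroupOf D |>.Normal := ⟨fun t ht g ↦ by
      rw [Subgroup.mem_subgroupOf] at ht ⊢
      simpa using conj_mem P (D.inv_mem g.2) ht⟩
    let σ : D := a⁻¹ * b
    letI : MulSemiringAction D B := MulSemiringAction.compHom B D.subtype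
    have hσ : ∀ z : B, (∀ ω ∈ T, ω • z = z) → σ • z - z ∈ P := fun z hz ↦ by
      have hz' : z ∈ inertiaRing (Γ := Γ) P := fun γ hγ ↦ hz ⟨γ, inertia_le P hγ⟩ hγ
      have h1 := DFunLike.congr_fun h ⟨z, hz'⟩
      change π ((a : Γ) • z) = π ((b : Γ) • z) at h1
      have h2 := mk_smul_congr P (D.inv_mem a.2) h1
      rw [inv_smul_smul, eq_comm, Ideal.Quotient.mk_eq_mk_iff_sub_mem, ← mul_smul] at h2
      exact h2
    obtain ⟨ω, hω, hσω⟩ := (Groth.Agent.S12935.result B D T P σ).2.mp hσ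
    have h3 : ((σ * ω : D) : Γ) ∈ P.inertia Γ := hσω
    rw [Subgroup.coe_mul] at h3
    exact ((P.inertia Γ).mul_mem_cancel_right hω).mp h3
  obtain ⟨w, hw⟩ : ∃ w, ∑ q, φ q w ≠ 0 := by
    by_contra! hz
    have hli := (linearIndependent_monoidHom (inertiaRing (Γ := Γ) P) (B ⧸ P)).comp φ φinj
    have := Fintype.linearIndependent_iff.mp hli (fun _ ↦ 1) (funext fun w ↦ by
      simpa [Finset.sum_apply] using hz w) ((1 : D) : D ⧸ T)
    exact one_ne_zero this
  have hsumD : ∀ (v : inertiaRing (Γ := Γ) P) (γ : Γ), γ ∈ D → γ • ∑ q, act q v = ∑ q, act q v := fun v γ hγ ↦ by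
    rw [Finset.smul_sum]
    refine Fintype.sum_equiv (MulAction.toPerm (⟨γ, hγ⟩ : D)) _ _ fun q ↦ ?_
    induction q using QuotientGroup.induction_on with | _ a =>
    show γ • (a : Γ) • (v : B) = ((⟨γ, hγ⟩ * a : D) : Γ) • (v : B)
    rw [Subgroup.coe_mul, mul_smul]
  obtain ⟨cw, hcw, hcw'⟩ := Groth.Agent.S12936.result B Γ P _ (fun γ hγ ↦ hsumD w γ hγ)
  rw [← Ideal.Quotient.mk_eq_mk_iff_sub_mem, map_sum] at hcw'
  change ∑ q, φ q w = π cw at hcw'
  have hcw0 : π cw ≠ 0 := hcw' ▸ hw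
  have hk0inv : ∀ c : B, (∀ γ : Γ, γ • c = c) → π c ≠ 0 → ∃ d : B, (∀ γ : Γ, γ • d = d) ∧ π c * π d = 1 := by
    intro c hc hc0
    haveI := Fintype.ofFinite Γ
    haveI : Algebra.IsInvariant (FixedPoints.subring B Γ) B Γ := ⟨fun z hz ↦ ⟨⟨z, hz⟩, rfl⟩⟩
    haveI := Algebra.IsInvariant.isIntegral (FixedPoints.subring B Γ) B Γ
    haveI : (P.under (FixedPoints.subring B Γ)).IsMaximal := Ideal.isMaximal_comap_of_isIntegral_of_isMaximal P
    let c' : FixedPoints.subring B Γ := ⟨c, hc⟩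
    have hc' : c' ∉ P.under (FixedPoints.subring B Γ) := fun h ↦ hc0 (Ideal.Quotient.eq_zero_iff_mem.mpr h)
    obtain ⟨⟨e, he⟩, i, hi, hsum⟩ := Ideal.IsMaximal.exists_inv (inferInstance : (P.under (FixedPoints.subring B Γ)).IsMaximal) hc'
    refine ⟨e, he, ?_⟩
    have := congrArg (fun z : FixedPoints.subring B Γ ↦ π (z : B)) hsum
    simp only [Subring.coe_add, Subring.coe_mul, Subring.coe_one, map_add, map_one, map_mul] at this
    rw [show π (i : B) = 0 from Ideal.Quotient.eq_zero_iff_mem.mpr hi, add_zero] at this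
    rw [mul_comm]; exact this
  have descend : ∀ v : B, v ∈ inertiaRing (Γ := Γ) P → (∀ γ ∈ D, π (γ • v) = π v) →
      ∃ c : B, (∀ γ : Γ, γ • c = c) ∧ π c = π v := fun v hv hfix ↦ by
    obtain ⟨n, hn, hn'⟩ := Groth.Agent.S12936.result B Γ P _ (fun γ hγ ↦ hsumD (⟨v, hv⟩ * w) γ hγ)
    rw [← Ideal.Quotient.mk_eq_mk_iff_sub_mem, map_sum] at hn'
    obtain ⟨d, hd, hd'⟩ := hk0inv cw hcw hcw0
    refine ⟨n * d, fun γ ↦ by rw [smul_mul', hn γ, hd γ], ?_⟩
    have : π n = π v * π cw := by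
      rw [← hn', ← hcw', Finset.mul_sum]
      refine Finset.sum_congr rfl fun q _ ↦ ?_
      show φ q (⟨v, hv⟩ * w) = _
      rw [map_mul]
      congr 1
      induction q using QuotientGroup.induction_on with | _ a => exact hfix a a.2
    rw [map_mul, this, mul_assoc, hd', mul_one]
  haveI : Fintype D := Fintype.ofFinite _
  let O : Finset (B ⧸ P) := Finset.univ.image fun a : D ↦ π ((a : Γ) • y)
  have hO : ∀ z ∈ O, ∃ r : B, r ∈ inertiaRing (Γ := Γ) P ∧ π r = z := fun z hz ↦ by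
    obtain ⟨a, -, rfl⟩ := Finset.mem_image.mp hz
    exact ⟨_, smul_mem_inertiaRing P a.2 hy, rfl⟩
  choose r hr1 hr2 using hO
  let M : B[X] := ∏ z ∈ O.attach, (X - C (r z.1 z.2))
  have hM : ∀ i, M.coeff i ∈ inertiaRing (Γ := Γ) P := fun i ↦ by
    have : M ∈ lifts (inertiaRing (Γ := Γ) P).subtype := Subsemiring.prod_mem _ fun z _ ↦ by
      refine ⟨X - C ⟨r z.1 z.2, hr1 z.1 z.2⟩, ?_⟩
      simp
    obtain ⟨q, hq⟩ := (lifts_iff_coeff_lifts M).mp this i
    rw [← hq]
    exact q.2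
  have hMmap : M.map π = ∏ z ∈ O, (X - C z) := by
    rw [Polynomial.map_prod, ← Finset.prod_attach O]
    exact Finset.prod_congr rfl fun z _ ↦ by simp [hr2]
  have hfix : ∀ i, ∀ γ ∈ D, π (γ • M.coeff i) = π (M.coeff i) := by
    intro i γ hγ
    let s : B ⧸ P →+* B ⧸ P := Ideal.Quotient.lift P ((Ideal.Quotient.mk P).comp (MulSemiringAction.toRingHom Γ B γ))
      fun b hb ↦ Ideal.Quotient.eq_zero_iff_mem.mpr ((hγ b).mp hb)
    have hs : (M.map π).map s = M.map π := by
      simp only [hMmap, Polynomial.map_prod, Polynomial.map_sub, map_X, map_C]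
      refine (Finset.prod_image (g := s) (f := fun z ↦ X - C z) fun a _ b _ h ↦ s.injective h).symm.trans
        (Finset.prod_congr ?_ fun _ _ ↦ rfl)
      rw [Finset.image_image]
      ext z
      simp only [O, Finset.mem_image, Finset.mem_univ, true_and, Function.comp_apply, exists_exists_eq_and]
      constructor
      · rintro ⟨a, rfl⟩
        exact ⟨⟨γ, hγ⟩ * a, by simp [s, mul_smul]⟩
      · rintro ⟨a, rfl⟩
        exact ⟨(⟨γ, hγ⟩ : D)⁻¹ * a, by simp [s, mul_smul]⟩
    have := congrArg (fun q ↦ coeff q i) hs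
    simpa [coeff_map, s] using this
  choose c hc hc' using fun i ↦ descend (M.coeff i) (hM i) (hfix i)
  let g : B[X] := ∑ i ∈ Finset.range (M.natDegree + 1), C (c i) * X ^ i
  have hgc : ∀ i, g.coeff i = if i ≤ M.natDegree then c i else 0 := fun i ↦ by
    simp [g, coeff_C_mul_X_pow, Finset.sum_ite_eq, Nat.lt_succ_iff]
  have hgM : g.map π = M.map π := by
    ext i
    rw [coeff_map, coeff_map, hgc]
    split_ifs with h
    · exact hc' i
    · rw [coeff_eq_zero_of_natDegree_lt (by omega)]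
  refine ⟨g, fun i γ ↦ ?_, ?_, ?_⟩
  · rw [hgc]; split_ifs
    · exact hc i γ
    · exact smul_zero γ
  · rw [hgM, hMmap]
    exact separable_prod_X_sub_C_iff'.mpr fun a _ b _ h ↦ h
  · rw [← Ideal.Quotient.eq_zero_iff_mem, aeval_def, hom_eval₂, Algebra.algebraMap_self, RingHom.comp_id,
      ← eval_map, hgM, hMmap, eval_prod]
    exact Finset.prod_eq_zero (Finset.mem_image.mpr ⟨1, Finset.mem_univ _, rfl⟩)
      (by simp [show π x = π y from (Ideal.Quotient.mk_eq_mk_iff_sub_mem x y).mpr hxy])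

end

/-- Let `B` be a commutative ring with an action of a finite group `Γ` by ring automorphisms, `P` a
maximal ideal of `B`, `T = {γ | γ x - x ∈ P for all x}` its inertia group, `B^T` the inertia ring
and `B^Γ` the ring of invariants, so that `k(P ∩ B^Γ) ⊆ k(P ∩ B^T) ⊆ k(P) = B/P`. Then `k(P ∩ B^T)`
is the largest separable extension of `k(P ∩ B^Γ)` inside `k(P)`: an element `x` of `B` is congruent
modulo `P` to a `T`-invariant element if and only if `x mod P` is a root of some polynomial with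
`Γ`-invariant coefficients whose reduction modulo `P` is separable. (The published statement is for
every prime ideal `P`, as an equality of residue fields; this row takes `P` maximal, the case to
which the published proof reduces by localising at `P ∩ B^Γ`.) -/
theorem result
    (B : Type u) [CommRing B] (Γ : Type v) [Group Γ] [Finite Γ] [MulSemiringAction Γ B]
    (P : Ideal B) [P.IsMaximal] (x : B) :
    (∃ y : B, (∀ γ : Γ, γ ∈ P.inertia Γ → γ • y = y) ∧ x - y ∈ P) ↔
      ∃ g : Polynomial B, (∀ (i : ℕ) (γ : Γ), γ • g.coeff i = g.coeff i) ∧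
        (g.map (Ideal.Quotient.mk P)).Separable ∧ Polynomial.aeval x g ∈ P := by
  exact ⟨fun ⟨y, hy, hxy⟩ ↦ exists_separable P x y hy hxy, fun ⟨g, hg, hs, hr⟩ ↦ exists_inertia_fixed P x g hg hs hr⟩

end Groth.Agent.S12937
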