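import Groth.Agent.AlgStLib.Cancel
import Mathlib.AlgebraicGeometry.Sites.Fpqc
import Groth.Prelude.Def_AlgSt3
import Mathlib.Data.List.TFAE

set_option autoImplicit false
universe u
open CategoryTheory AlgebraicGeometry
open AlgSt

set_option backward.isDefEq.respectTransparency false

namespace Groth.Agent.S12944

/-- For a morphism f of algebraic stacks that is representable by algebraic spaces, these three
conditions coincide: f is quasi-separated (every base change to a scheme is a quasi-separated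
morphism of algebraic spaces); the diagonal of f is quasi-compact; the diagonal of f is of finite
type. -/
theorem result
    (S : Scheme.{u}) (𝒳 : AlgSt.Cat S) (𝒴 : AlgSt.Cat S)
    (h𝒳 : AlgSt.IsAlgStack Scheme.fppfPrecoverage 𝒳)
    (h𝒴 : AlgSt.IsAlgStack Scheme.fppfPrecoverage 𝒴)
    (f : 𝒳 ⥤ᵇ 𝒴)
    (hf : AlgSt.RepByAlgSp1 f) :
    [AlgSt.RepByAlgSpWith AlgSp.IsQuasiSeparatedMor f,
      AlgSt.RepByAlgSpWith AlgSp.IsQuasiCompactMor (FibCat.diag f),
      AlgSt.RepByAlgSpWith AlgSp.IsFiniteTypeMor (FibCat.diag f)].TFAE := by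
  tfae_have 1 → 3 := fun h => by
    haveI := Groth.Agent.AlgStLib.respectsIso_quasiSeparated (S := S)
    refine Groth.Agent.AlgStLib.repWith_mono
      (Groth.Agent.AlgStLib.repWith_diag_of_repWith
        (Q := AlgSp.RepWith ((MorphismProperty.monomorphisms Scheme.{u} ⊓ @LocallyOfFiniteType) ⊓ @QuasiCompact))
        h fun _ U π hX hπ => Groth.Agent.AlgStLib.repBySpWith_diagonal (fun _ _ _ _ _ h => h) hX
          (AlgSp.IsAlgSpace.yon_obj U) π (Groth.Agent.AlgSpLib.repWith_inf_iff.2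
            ⟨Groth.Agent.AlgSpLib.repWith_inf_iff.2 (Groth.Agent.AlgSpLib.repWith_diagonal_props hX π), hπ⟩))
      fun F U a hF ha => ?_
    obtain ⟨h₁, h₂⟩ := Groth.Agent.AlgSpLib.repWith_inf_iff.1 ha
    exact ⟨(Groth.Agent.AlgSpLib.locP_iff_repWith Groth.Agent.AlgSpLib.etST_lft (AlgSp.IsAlgSpace.yon_obj U) h₁.1).2
      (Groth.Agent.AlgSpLib.repWith_inf_iff.1 h₁).2,
      (Groth.Agent.AlgSpLib.isQuasiCompactMor_iff_repWith hF (AlgSp.IsAlgSpace.yon_obj U) h₁.1).2 h₂⟩
  tfae_have 3 → 2 := fun h => Groth.Agent.AlgStLib.repWith_mono h fun _ _ _ _ ha => ha.2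
  tfae_have 2 → 1 := Groth.Agent.AlgStLib.quasiSeparated_of_qc_diag hf
  tfae_finish

end Groth.Agent.S12944
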