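import Groth.Statements.S1295
import Groth.Agent.RG.Loc.DescendStage

set_option autoImplicit false
universe u
open FlatMor

namespace Groth.Agent.S1295

/-- Ring form, X = Spec B and the S_i = Spec A_i affine: let A be the colimit of a directed system of
rings (A_i), p a prime of A with contractions p_i, B a finitely presented A-algebra and N a finitely
presented B-module which is pure along the fibre over p and flat over A at every prime of B over p.
Then for some index i there are a finitely presented A_i-algebra B_i with B ≅ B_i ⊗_{A_i} A and a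
finitely presented B_i-module N_i with N ≅ N_i ⊗_{B_i} B, such that N_i is pure along the fibre over
p_i and flat over A_i at every prime of B_i over p_i. -/
theorem result {ι : Type u} [Preorder ι] (G : ι → Type u) [∀ i, CommRing (G i)]
    (g : ∀ i j, i ≤ j → G i →+* G j) {A : Type u} [CommRing A] [∀ i, Algebra (G i) A] (hcolim : FlatCA.IsDirectedColimitRing G g A)
    {B : Type u} [CommRing B] [Algebra A B] [Algebra.FinitePresentation A B]
    (N : Type u) [AddCommGroup N] [Module B N] [Module A N] [IsScalarTower A B N] [Module.FinitePresentation B N]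
    (p : Ideal A) [p.IsPrime] (hpure : FlatCA.IsPureAlong A B N p)
    (hflat : ∀ (q : Ideal B) [q.IsPrime], q.LiesOver p → FlatCA.FlatAt A q N) :
    ∃ (i : ι) (Bi Ni : Type u) (_ : CommRing Bi) (_ : Algebra (G i) Bi) (_ : Algebra Bi B) (_ : Algebra (G i) B)
      (_ : IsScalarTower (G i) A B) (_ : IsScalarTower (G i) Bi B)
      (_ : AddCommGroup Ni) (_ : Module Bi Ni) (_ : Module (G i) Ni) (_ : IsScalarTower (G i) Bi Ni)
      (_ : Module Bi N) (_ : IsScalarTower Bi B N) (f : Ni →ₗ[Bi] N),
      Algebra.FinitePresentation (G i) Bi ∧ Algebra.IsPushout (G i) Bi A B ∧ Module.FinitePresentation Bi Ni ∧ IsBaseChange B f ∧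
      FlatCA.IsPureAlong (G i) Bi Ni (p.comap (algebraMap (G i) A)) ∧
      ∀ (q : Ideal Bi) [q.IsPrime], q.LiesOver (p.comap (algebraMap (G i) A)) → FlatCA.FlatAt (G i) q Ni := by
  haveI := RG.Pure.projective_localized N p hflat hpure
  haveI : Module.Flat A (Localization.AtPrime p) := IsLocalization.flat (Localization.AtPrime p) p.primeCompl
  haveI : Module.Flat A (LocalizedModule p.primeCompl N) :=
    Module.Flat.trans A (Localization.AtPrime p) (LocalizedModule p.primeCompl N)
  obtain ⟨R₀, _, _, S₀, _, _, _, _, _, _, M₀, _, _, _, _, _, _, f₀, hft, hS₀, hM₀, hfl, hpush, hbc⟩ :=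
    RG.Loc.exists_model_at A B N p
  haveI := hft
  haveI := hS₀
  haveI := hM₀
  haveI := hfl
  haveI := hpush
  haveI : IsNoetherianRing R₀ := Algebra.FiniteType.isNoetherianRing ℤ R₀
  haveI : Module.Projective (Localization.AtPrime p) (TensorProduct R₀ (Localization.AtPrime p) M₀) :=
    RG.Loc.projective_model_tensor f₀ hbc p
  obtain ⟨i, _, _, hproj⟩ := RG.Loc.exists_stage G g hcolim (R₀ := R₀) (S₀ := S₀) M₀ p
  haveI := hproj
  obtain ⟨Bi, Ni, i1, i2, i3, i4, i5, i6, i7, i8, i9, i10, i11, i12, f, h⟩ :=
    RG.Loc.exists_stage_module (R₀ := R₀) (A := A) f₀ hbc (p.comap (algebraMap (G i) A))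
  exact ⟨i, Bi, Ni, i1, i2, i3, i4, i5, i6, i7, i8, i9, i10, i11, i12, f, h⟩

end Groth.Agent.S1295
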