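import Groth.Statements.S1296
import Groth.Agent.RG.Pure.ModelImpurity

set_option autoImplicit false
universe u
open FlatMor

namespace Groth.Agent.S1296

attribute [local instance] Algebra.TensorProduct.rightAlgebra

/-- Ring form, X = Spec B affine, T = Spec A' with A' the colimit of a directed system of A-algebras
A'_i: let B be a finite type A-algebra, N a finite B-module, p a prime of A, and suppose given an
impurity of N above p with base change ring A' and points t' ⊆ t. Then for some index i there is an
impurity of N above p whose base change ring is A'_i (up to an A-isomorphism) and whose point t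
corresponds to the contraction of t to A'_i. -/
theorem result {A B : Type u} [CommRing A] [CommRing B] [Algebra A B] [Algebra.FiniteType A B]
    (N : Type u) [AddCommGroup N] [Module B N] [Module.Finite B N] (p : Ideal A) [p.IsPrime]
    {ι : Type u} [Preorder ι] (G : ι → Type u) [∀ i, CommRing (G i)] [∀ i, Algebra A (G i)]
    (g : ∀ i j, i ≤ j → G i →ₐ[A] G j)
    (A' : Type u) [CommRing A'] [Algebra A A'] [∀ i, Algebra (G i) A'] [∀ i, IsScalarTower A (G i) A']
    (hcolim : FlatCA.IsDirectedColimitRing G (fun i j h => (g i j h).toRingHom) A')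
    (B' N' : Type u) [CommRing B'] [Algebra B B'] [Algebra A' B'] [Algebra A B'] [IsScalarTower A B B'] [IsScalarTower A A' B']
    [AddCommGroup N'] [Module B' N'] [Module B N'] [IsScalarTower B B' N'] [Module A' N'] [IsScalarTower A' B' N']
    (f : N →ₗ[B] N') (t' t : Ideal A') [t'.IsPrime] [t.IsPrime] (P : Ideal B') [P.IsPrime]
    (himp : FlatCA.IsImpurity A B N p A' B' N' f t' t P) :
    ∃ i : ι, FlatCA.HasImpurity A B N p (fun A'' _ _ t'' => ∃ e : A'' ≃ₐ[A] G i, t''.map e = t.comap (algebraMap (G i) A')) := by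
  classical
  letI : Module A N := Module.compHom N (algebraMap A B)
  haveI : IsScalarTower A B N := IsScalarTower.of_algebraMap_smul fun _ _ => rfl
  obtain ⟨hpush, hbc, hle, htp, -, -, -⟩ := id himp
  obtain ⟨Φ, e, hΦ, he⟩ := RG.Pure.exists_model_map (A := A) (B := B) (C := B) (C' := TensorProduct A A' B)
    (fun x => ⟨x, rfl⟩) hpush inferInstance hbc (TensorProduct.isBaseChange B N (TensorProduct A A' B))
  have hcan := (RG.Pure.exists_imp_iff Φ hΦ e he t' t).1 ⟨P, RG.Pure.imp_of_isImpurity himp⟩
  obtain ⟨Z, hZ⟩ := RG.Pure.exists_model_impurity t' t hle hcan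
  obtain ⟨hdir, hne, -, -, hgc, hlift, -⟩ := hcolim
  haveI : IsDirected ι (· ≤ ·) := hdir
  obtain ⟨i, hi⟩ : ∃ i, ∀ z ∈ Z, z ∈ Set.range (algebraMap (G i) A') := by
    clear hZ
    induction Z using Finset.induction with
    | empty => exact ⟨hne.some, by simp⟩
    | insert a s _ ih =>
      obtain ⟨j, hj⟩ := ih
      obtain ⟨k, x, hx⟩ := hlift a
      obtain ⟨l, hjl, hkl⟩ := directed_of (· ≤ ·) j k
      refine ⟨l, fun b hb => ?_⟩
      rcases Finset.mem_insert.1 hb with rfl | hb
      · exact ⟨g k l hkl x, (RingHom.congr_fun (hgc k l hkl) x).trans hx⟩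
      · obtain ⟨y, hy⟩ := hj b hb
        exact ⟨g j l hjl y, (RingHom.congr_fun (hgc j l hjl) y).trans hy⟩
  let φ : G i →ₐ[A] A' := IsScalarTower.toAlgHom A (G i) A'
  obtain ⟨c, σ, hc, hσp, hσc, hass, hmem⟩ := hZ (G i) φ hi
  haveI := hσp
  haveI : (t.comap φ.toRingHom).LiesOver p := ⟨by
    rw [Ideal.under_def, Ideal.comap_comap, AlgHom.toRingHom_eq_coe, AlgHom.comp_algebraMap]
    exact htp.over⟩
  have hI : RG.Pure.Imp (G i) (TensorProduct A (G i) B) (TensorProduct B (TensorProduct A (G i) B) N)
      (t'.comap φ.toRingHom) (t.comap φ.toRingHom) σ :=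
    ⟨hσp, hσc, hass, fun P' hP' hσP' hP't => hc (by
      rw [← hP't, Ideal.mem_comap]
      exact (sup_le hσP' (Ideal.map_le_iff_le_comap.2 hP't.ge)) hmem)⟩
  refine ⟨i, ?_⟩
  unfold FlatCA.HasImpurity
  refine ⟨G i, TensorProduct A (G i) B, TensorProduct B (TensorProduct A (G i) B) N, inferInstance, inferInstance,
    inferInstance, inferInstance, inferInstance, inferInstance, inferInstance, inferInstance, inferInstance,
    inferInstance, inferInstance, inferInstance, inferInstance, inferInstance, TensorProduct.mk B _ N 1,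
    t'.comap φ.toRingHom, t.comap φ.toRingHom, inferInstance, inferInstance, σ, inferInstance, ?_, ?_⟩
  · exact hI.isImpurity inferInstance (TensorProduct.isBaseChange B N _) (Ideal.comap_mono hle) inferInstance
  · exact ⟨AlgEquiv.refl, Ideal.map_id _⟩

end Groth.Agent.S1296
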