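import Groth.Agent.AlgStLib.Cancel
import Mathlib.AlgebraicGeometry.Sites.Fpqc
import Groth.Prelude.Def_AlgSt3

set_option autoImplicit false
universe u
open CategoryTheory AlgebraicGeometry
open AlgSt

set_option backward.isDefEq.respectTransparency false

namespace Groth.Agent.S12971

/-- A monomorphism of algebraic stacks (representable by algebraic spaces and a monomorphism) is
separated and DM. -/
theorem result
    (S : Scheme.{u}) (𝒳 : AlgSt.Cat S) (𝒴 : AlgSt.Cat S)
    (h𝒳 : AlgSt.IsAlgStack Scheme.fppfPrecoverage 𝒳)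
    (h𝒴 : AlgSt.IsAlgStack Scheme.fppfPrecoverage 𝒴)
    (f : 𝒳 ⥤ᵇ 𝒴) :
    AlgSt.IsMono f → AlgSt.IsSeparatedMor f ∧ AlgSt.IsDMMor f := by
  intro hf
  refine ⟨Groth.Agent.AlgStLib.isSeparatedMor_of_separated (Groth.Agent.AlgStLib.repWith_mono hf
    fun _ _ a _ ha => ?_), Groth.Agent.AlgStLib.isDMMor_of_rep (Groth.Agent.AlgStLib.repByAlgSp1_of_with hf)⟩
  haveI : Mono a := ha
  exact Groth.Agent.AlgSpLib.repWith_of_isIso (P := @IsClosedImmersion) (CategoryTheory.Limits.pullback.diagonal a)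

end Groth.Agent.S12971
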