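import Groth.Agent.AlgStLib.DiagProps
import Mathlib.AlgebraicGeometry.Sites.Fpqc
import Groth.Prelude.Def_AlgSt3
import Mathlib.Data.List.TFAE

set_option autoImplicit false
universe u
open CategoryTheory AlgebraicGeometry
open AlgSt

set_option backward.isDefEq.respectTransparency false

namespace Groth.Agent.S12972

/-- For a morphism f : 𝒳 → 𝒴 of algebraic stacks the following are equivalent: the relative inertia
𝓘_{𝒳/𝒴} → 𝒳 is separated; the diagonal of f is separated; the neutral section 𝒳 → 𝓘_{𝒳/𝒴} (the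
second diagonal) is a closed immersion. All three morphisms are representable by algebraic spaces
and the properties are the ones of such morphisms. -/
theorem result
    (S : Scheme.{u}) (𝒳 : AlgSt.Cat S) (𝒴 : AlgSt.Cat S)
    (h𝒳 : AlgSt.IsAlgStack Scheme.fppfPrecoverage 𝒳)
    (h𝒴 : AlgSt.IsAlgStack Scheme.fppfPrecoverage 𝒴)
    (f : 𝒳 ⥤ᵇ 𝒴) :
    [AlgSt.RepByAlgSpWith AlgSp.IsSeparatedMor (FibCat.inertiaToBase f),
      AlgSt.RepByAlgSpWith AlgSp.IsSeparatedMor (FibCat.diag f),
      AlgSt.IsClosedImm (FibCat.inertiaNeutral f)].TFAE := by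
  tfae_have 1 → 3 := fun h => Groth.Agent.AlgStLib.repWith_neutral_of_diag (Groth.Agent.AlgStLib.isClosedImm_diag_of_separated h)
  tfae_have 3 → 2 := fun h => Groth.Agent.AlgStLib.separated_of_univClosed_diag (Groth.Agent.AlgStLib.repByAlgSp1_diag_stack h𝒳 h𝒴 f)
    (Groth.Agent.AlgStLib.repWith_mono (Groth.Agent.AlgStLib.repWith_neutral_iff.1 h) fun _ U _ hF ha =>
      (Groth.Agent.AlgSpLib.isProperMor_of_closedImmersion hF (AlgSp.IsAlgSpace.yon_obj U) ha).2.2)
  tfae_have 2 → 1 := Groth.Agent.AlgStLib.repWith_inertia_of_diag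
  tfae_finish

end Groth.Agent.S12972
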