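import Groth.Agent.AlgStLib.DiagProps
import Mathlib.AlgebraicGeometry.Sites.Fpqc
import Groth.Prelude.Def_AlgSt3

set_option autoImplicit false
universe u
open CategoryTheory AlgebraicGeometry
open AlgSt

set_option backward.isDefEq.respectTransparency false

namespace Groth.Agent.S12974

/-- For a morphism f : 𝒳 → 𝒴 of algebraic stacks, the relative inertia 𝓘_{𝒳/𝒴} → 𝒳 is unramified if and
only if f is DM. -/
theorem result
    (S : Scheme.{u}) (𝒳 : AlgSt.Cat S) (𝒴 : AlgSt.Cat S)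
    (h𝒳 : AlgSt.IsAlgStack Scheme.fppfPrecoverage 𝒳)
    (h𝒴 : AlgSt.IsAlgStack Scheme.fppfPrecoverage 𝒴)
    (f : 𝒳 ⥤ᵇ 𝒴) :
    AlgSt.RepByAlgSpWith (AlgSp.LocP (@LocallyOfFiniteType ⊓ @FormallyUnramified)) (FibCat.inertiaToBase f) ↔
      AlgSt.IsDMMor f := by
  refine ⟨fun h => ?_, fun h => Groth.Agent.AlgStLib.repWith_inertia_of_diag h⟩
  exact Groth.Agent.AlgStLib.unramified_of_isOpenImm_diag (Groth.Agent.AlgStLib.repWith_lft_diag h𝒳 h𝒴 f)
    (Groth.Agent.AlgStLib.repWith_neutral_iff.1 (Groth.Agent.AlgStLib.repWith_neutral_of_diag (Groth.Agent.AlgStLib.isOpenImm_diag_of_unramified h)))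

end Groth.Agent.S12974
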