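import Groth.Agent.AlgStLib.QC2
import Mathlib.AlgebraicGeometry.Sites.Fpqc
import Groth.Prelude.Def_AlgSt4

set_option autoImplicit false
universe u
open CategoryTheory AlgebraicGeometry
open AlgSt

set_option backward.isDefEq.respectTransparency false

namespace Groth.Agent.S12988

/-- Over a quasi-separated base scheme, a 2-fibre product of algebraic stacks that are quasi-compact and
quasi-separated over the base scheme is quasi-compact and quasi-separated over the base scheme. (The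
published statement is about stacks quasi-compact and quasi-separated over the integers and puts no
condition on the base scheme; this row assumes the base scheme quasi-separated and uses
quasi-separatedness over it. Without quasi-separatedness of the base the quasi-compactness
conclusion fails: for the base glued from two copies of infinite-dimensional affine space along the
complement of the origin, the two copies are quasi-compact and quasi-separated over the base while
their fibre product over the base is that complement, which is not quasi-compact.) -/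
theorem result
    (S : Scheme.{u}) [QuasiSeparatedSpace S] (𝒳 : AlgSt.Cat S) (𝒴 : AlgSt.Cat S) (𝒵 : AlgSt.Cat S)
    (h𝒳 : AlgSt.IsAlgStack Scheme.fppfPrecoverage 𝒳)
    (h𝒴 : AlgSt.IsAlgStack Scheme.fppfPrecoverage 𝒴)
    (h𝒵 : AlgSt.IsAlgStack Scheme.fppfPrecoverage 𝒵)
    (a : 𝒳 ⥤ᵇ 𝒴) (b : 𝒵 ⥤ᵇ 𝒴) :
    AlgSt.IsQuasiCompact 𝒳 → AlgSt.IsQuasiSeparatedOver 𝒳 →
      AlgSt.IsQuasiCompact 𝒴 → AlgSt.IsQuasiSeparatedOver 𝒴 →
      AlgSt.IsQuasiCompact 𝒵 → AlgSt.IsQuasiSeparatedOver 𝒵 →
      AlgSt.IsQuasiCompact (FibCat.fp a b) ∧ AlgSt.IsQuasiSeparatedOver (FibCat.fp a b) := by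
  intro hX qX _hY qY hZ qZ
  refine ⟨?_, ?_⟩
  · have hq : AlgSt.IsQuasiCompact (FibCat.fp (BasedFunctor.comp a (FibCat.toSelf 𝒴))
        (BasedFunctor.comp b (FibCat.toSelf 𝒴))) := by
      rw [Groth.Agent.AlgStLib.comp_toSelf, Groth.Agent.AlgStLib.comp_toSelf]
      exact Groth.Agent.AlgStLib.isQuasiCompact_prod h𝒳 h𝒵 hX hZ
    have hA := Groth.Agent.AlgStLib.algFp h𝒴 h𝒳 h𝒵 a b
    have hB := Groth.Agent.AlgStLib.algFp Groth.Agent.AlgStLib.isAlgStack_self h𝒳 h𝒵 (BasedFunctor.comp a (FibCat.toSelf 𝒴))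
      (BasedFunctor.comp b (FibCat.toSelf 𝒴))
    let e : BasedFunctor.comp (FibCat.fpFst a b) (BasedFunctor.comp a (FibCat.toSelf 𝒴)) ≅
        BasedFunctor.comp (FibCat.fpSnd a b) (BasedFunctor.comp b (FibCat.toSelf 𝒴)) :=
      (Groth.Agent.StkBasic.post _ (FibCat.toSelf 𝒴)).mapIso (FibCat.fpIso a b)
    exact Groth.Agent.AlgStLib.isQuasiCompact_source hA hB (Groth.Agent.AlgStLib.isQuasiCompactMor_of_repWith hA hB
      (Groth.Agent.AlgStLib.repWith_comparison a b (FibCat.toSelf 𝒴) e (fun _ => rfl)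
        (Groth.Agent.AlgStLib.repWith_mono qY fun _ _ _ _ ha => ha.1))) hq
  · have hb : AlgSt.RepByAlgSpWith (AlgSp.IsQuasiCompactMor ⊓ AlgSp.IsQuasiSeparatedMor) (FibCat.diag b) :=
      Groth.Agent.AlgStLib.repWith_diag_cancel h𝒵.isStack.1 h𝒴.isStack.1 Groth.Agent.AlgStLib.isAlgStack_self.isStack.1 Groth.Agent.AlgStLib.cls_qcqs b
        (FibCat.toSelf 𝒴) (by rw [Groth.Agent.AlgStLib.comp_toSelf]; exact qZ)
        (Groth.Agent.AlgStLib.isQuasiSeparatedMor_of_quasiSeparated
          (Groth.Agent.AlgStLib.repWith_mono (Groth.Agent.AlgStLib.repWith_cmpSelf b (FibCat.toSelf 𝒴) qY) fun _ _ _ _ ha => ha.2))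
    unfold AlgSt.IsQuasiSeparatedOver AlgSt.IsQuasiSeparatedMor
    rw [← Groth.Agent.AlgStLib.comp_toSelf (FibCat.fpFst a b)]
    exact Groth.Agent.AlgStLib.repWith_diag_comp (Groth.Agent.AlgStLib.algFp h𝒴 h𝒳 h𝒵 a b).isStack.1 h𝒳.isStack.1 Groth.Agent.AlgStLib.cls_qcqs _ _
      (Groth.Agent.AlgStLib.repWith_diag_fpFst b a hb) qX

end Groth.Agent.S12988
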