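import Groth.Agent.AlgStLib.QC2
import Mathlib.AlgebraicGeometry.Sites.Fpqc
import Groth.Prelude.Def_AlgSt4

set_option autoImplicit false
universe u
open CategoryTheory AlgebraicGeometry
open AlgSt

set_option backward.isDefEq.respectTransparency false

namespace Groth.Agent.S12989

/-- Let f : 𝒳 → 𝒴 be a morphism of algebraic stacks and W → 𝒴 a surjective, flat, locally finitely
presented morphism whose source is an algebraic space. Whenever the projection W ×_𝒴 𝒳 → W is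
quasi-compact, f is quasi-compact too. -/
theorem result
    (S : Scheme.{u}) (𝒳 : AlgSt.Cat S) (𝒴 : AlgSt.Cat S)
    (h𝒳 : AlgSt.IsAlgStack Scheme.fppfPrecoverage 𝒳)
    (h𝒴 : AlgSt.IsAlgStack Scheme.fppfPrecoverage 𝒴)
    (f : 𝒳 ⥤ᵇ 𝒴)
    (W : AlgSp.Space S) (w : AlgSt.ofSp W.obj ⥤ᵇ 𝒴)
    (hw₁ : AlgSt.RepByAlgSpWith (AlgSp.LocP @Flat) w)
    (hw₂ : AlgSt.RepByAlgSpWith (AlgSp.LocP @LocallyOfFinitePresentation) w)
    (hw₃ : AlgSt.RepByAlgSpWith AlgSp.IsSurjectiveMor w) :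
    AlgSt.IsQuasiCompactMor Scheme.fppfPrecoverage (FibCat.fpFst w f) → AlgSt.IsQuasiCompactMor Scheme.fppfPrecoverage f := by
  exact Groth.Agent.AlgStLib.isQuasiCompactMor_of_fpFst h𝒳 h𝒴 (Groth.Agent.AlgStLib.isAlgStack_ofSp W)
    (Groth.Agent.AlgStLib.locQ_of_repWith Groth.Agent.AlgStLib.st_flat Groth.Agent.AlgStLib.cls_flat.bc Groth.Agent.AlgStLib.cls_flat.loc (Groth.Agent.AlgStLib.isAlgStack_ofSp W) h𝒴 hw₁)
    (Groth.Agent.AlgStLib.locQ_of_repWith Groth.Agent.AlgStLib.st_lfp Groth.Agent.AlgStLib.cls_lfp.bc Groth.Agent.AlgStLib.cls_lfp.loc (Groth.Agent.AlgStLib.isAlgStack_ofSp W) h𝒴 hw₂)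
    (Groth.Agent.AlgStLib.isSurjective_of_repWith (Groth.Agent.AlgStLib.isAlgStack_ofSp W).isStack.1 h𝒴.isStack.1 hw₃)

end Groth.Agent.S12989
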