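import Groth.Statements.S1299
import Mathlib
import Groth.Agent.GenFree.Main
-- import your own Groth.Agent.* helpers here

set_option autoImplicit false
universe u
open FlatMor

namespace Groth.Agent.S1299
open scoped TensorProduct

theorem exists_generic_lift (A B : Type u) [CommRing A] [CommRing B] [Algebra A B] [Algebra.FiniteType A B]
    (p : Ideal A) [p.IsPrime] (hp : p = nilradical A) :
    ∃ g : A, g ∉ p ∧ ∀ q : Ideal B, q.IsPrime → algebraMap A B g ∉ q →
      ∃ q₀ : Ideal B, q₀.IsPrime ∧ q₀ ≤ q ∧ q₀.comap (algebraMap A B) = p := by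
  let A' := A ⧸ p
  let B' := B ⧸ p.map (algebraMap A B)
  letI : Algebra A' B' := Ideal.Quotient.algebraQuotientOfLEComap Ideal.le_comap_map
  haveI : IsScalarTower A A' B' := IsScalarTower.of_algebraMap_eq fun _ => rfl
  haveI : Algebra.FiniteType A B' := Algebra.FiniteType.trans (R := A) (S := B) inferInstance inferInstance
  haveI : Algebra.FiniteType A' B' := Algebra.FiniteType.of_restrictScalars_finiteType A A' B'
  obtain ⟨f, hf, -, hfree, -, -⟩ := Groth.Agent.GenFree.generic_freeness (R := A') (S := B') (M := B')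
  obtain ⟨g, hg⟩ := Ideal.Quotient.mk_surjective f
  refine ⟨g, fun h => hf (hg ▸ Ideal.Quotient.eq_zero_iff_mem.mpr h), fun q hq hgq => ?_⟩
  have hpq : p.map (algebraMap A B) ≤ q := Ideal.map_le_iff_le_comap.mpr (fun a ha => by
    rw [hp, mem_nilradical] at ha
    obtain ⟨n, hn⟩ := ha.map (algebraMap A B)
    exact hq.mem_of_pow_mem n (hn ▸ zero_mem q))
  let K := FractionRing (B ⧸ q)
  let π : B' →+* K := (algebraMap (B ⧸ q) K).comp (Ideal.Quotient.factor hpq)
  letI : Algebra A' K := (π.comp (algebraMap A' B')).toAlgebra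
  have hfK : IsUnit (algebraMap A' K f) := by
    rw [isUnit_iff_ne_zero]
    intro h
    apply hgq
    have h' : algebraMap (B ⧸ q) K (Ideal.Quotient.mk q (algebraMap A B g)) = 0 := by
      rw [← hg] at h; exact h
    exact Ideal.Quotient.eq_zero_iff_mem.mp ((map_eq_zero_iff _ (IsFractionRing.injective (B ⧸ q) K)).mp h')
  let Af := Localization.Away f
  let α : Af →ₐ[A'] K := IsLocalization.liftAlgHom (f := Algebra.ofId A' K) (M := Submonoid.powers f) (by
    rintro ⟨_, n, rfl⟩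
    show IsUnit (algebraMap A' K (f ^ n))
    rw [map_pow]
    exact hfK.pow n)
  let β : B' →ₐ[A'] K := { π with commutes' := fun _ => rfl }
  let θ : Af ⊗[A'] B' →ₐ[A'] K := Algebra.TensorProduct.lift α β fun _ _ => Commute.all _ _
  let q' : Ideal (Af ⊗[A'] B') := RingHom.ker θ
  haveI : q'.IsPrime := RingHom.ker_isPrime _
  haveI : Module.Flat Af (Af ⊗[A'] B') := inferInstance
  haveI : IsDomain Af := IsLocalization.isDomain_localization (powers_le_nonZeroDivisors_of_noZeroDivisors hf)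
  haveI : q'.LiesOver (q'.comap (algebraMap Af (Af ⊗[A'] B'))) := ⟨rfl⟩
  obtain ⟨q₁, hle, hq₁, hover⟩ := Ideal.exists_ideal_le_liesOver_of_le (R := Af) (S := Af ⊗[A'] B')
    (p := (⊥ : Ideal Af)) (q := q'.comap (algebraMap Af (Af ⊗[A'] B'))) q' bot_le
  let ι : B →+* Af ⊗[A'] B' := (Algebra.TensorProduct.includeRight : B' →ₐ[A'] Af ⊗[A'] B').toRingHom.comp (Ideal.Quotient.mk _)
  refine ⟨q₁.comap ι, inferInstance, fun b hb => ?_, ?_⟩
  · have h1 : θ (ι b) = 0 := hle hb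
    have h2 : θ (ι b) = algebraMap (B ⧸ q) K (Ideal.Quotient.mk q b) :=
      (Algebra.TensorProduct.lift_tmul α β _ 1 (Ideal.Quotient.mk _ b)).trans (by rw [map_one, one_mul]; rfl)
    rw [h2] at h1
    exact Ideal.Quotient.eq_zero_iff_mem.mp ((map_eq_zero_iff _ (IsFractionRing.injective (B ⧸ q) K)).mp h1)
  · rw [Ideal.comap_comap]
    have h3 : ι.comp (algebraMap A B) = (algebraMap Af (Af ⊗[A'] B')).comp ((algebraMap A' Af).comp (Ideal.Quotient.mk p)) := by
      ext a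
      show (1 : Af) ⊗ₜ[A'] (algebraMap A' B' (Ideal.Quotient.mk p a)) = algebraMap A' Af (Ideal.Quotient.mk p a) ⊗ₜ[A'] (1 : B')
      rw [Algebra.algebraMap_eq_smul_one, Algebra.algebraMap_eq_smul_one, TensorProduct.tmul_smul, TensorProduct.smul_tmul']
    have h4 : q₁.comap (algebraMap Af (Af ⊗[A'] B')) = ⊥ := hover.over.symm
    rw [h3, ← Ideal.comap_comap, h4, ← RingHom.ker_eq_comap_bot]
    refine le_antisymm (fun a ha => ?_) (fun a ha => ?_)
    · rw [RingHom.mem_ker, RingHom.comp_apply] at ha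
      exact Ideal.Quotient.eq_zero_iff_mem.mp ((map_eq_zero_iff _
        (IsLocalization.injective Af (powers_le_nonZeroDivisors_of_noZeroDivisors hf))).mp ha)
    · rw [RingHom.mem_ker, RingHom.comp_apply, Ideal.Quotient.eq_zero_iff_mem.mpr ha, map_zero]

end Groth.Agent.S1299

namespace Groth.Agent.S1299

open AlgebraicGeometry CategoryTheory Limits in
/-- Let f : X → Y be a morphism of finite type (locally of finite type and quasi-compact) with Y
irreducible, and let Z_1, …, Z_n be finitely many closed subsets of the generic fibre of f which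
together cover it. For each i let T_i ⊆ X be the closure in X of the image of Z_i. Then there is a
nonempty open subset V ⊆ Y such that for every y ∈ V the fibre X_y is covered by the preimages of
T_1, …, T_n. -/
theorem result {X Y : Scheme.{u}} (f : X ⟶ Y) [IrreducibleSpace ↑Y] [LocallyOfFiniteType f] [QuasiCompact f]
    {ι : Type} [Finite ι] (Z : ι → Set ↑(f.fiber (genericPoint ↑Y))) (hZ : ∀ i, IsClosed (Z i)) (hcov : ⋃ i, Z i = Set.univ) :
    ∃ V : Y.Opens, (V : Set ↑Y).Nonempty ∧ ∀ y ∈ V, ⋃ i, (f.fiberι y) ⁻¹' closure ((f.fiberι (genericPoint ↑Y)) '' Z i) = Set.univ := by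
  classical
  let η := genericPoint ↑Y
  obtain ⟨W, hW, hηW, -⟩ := exists_isAffineOpen_mem_and_subset (U := (⊤ : Y.Opens)) (x := η) trivial
  let p := (hW.primeIdealOf ⟨η, hηW⟩).asIdeal
  have hspec : hW.fromSpec (hW.primeIdealOf ⟨η, hηW⟩) = η := hW.fromSpec_primeIdealOf ⟨η, hηW⟩
  have hp : p = nilradical Γ(Y, W) := by
    refine le_antisymm ?_ (nilradical_le_prime p)
    rw [nilradical_eq_sInf]
    refine le_sInf fun P hP => ?_
    have h1 : hW.primeIdealOf ⟨η, hηW⟩ ⤳ (⟨P, hP⟩ : Spec Γ(Y, W)) := by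
      refine hW.fromSpec.isOpenEmbedding.isInducing.specializes_iff.mp ?_
      rw [hspec]
      exact genericPoint_specializes _
    exact (PrimeSpectrum.le_iff_specializes _ _).mpr h1
  obtain ⟨t, ht⟩ := (f.isCompact_preimage (U := W) hW.isCompact).elim_finite_subcover
    (fun V : {V : X.Opens // IsAffineOpen V ∧ V ≤ f ⁻¹ᵁ W} => (V.1 : Set X)) (fun V => V.1.2)
    (fun x hx => by
      obtain ⟨V, hV, hxV, hsub⟩ := exists_isAffineOpen_mem_and_subset (U := f ⁻¹ᵁ W) hx
      exact Set.mem_iUnion.mpr ⟨⟨V, hV, hsub⟩, hxV⟩)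
  have key : ∀ V : {V : X.Opens // IsAffineOpen V ∧ V ≤ f ⁻¹ᵁ W}, ∃ g : Γ(Y, W), g ∉ p ∧
      ∀ x ∈ (V.1 : Set X), f x ∈ Y.basicOpen g → ∃ x₀ : X, x₀ ⤳ x ∧ f x₀ = η := by
    intro V
    have hft : (f.appLE W V.1 V.2.2).hom.FiniteType :=
      HasRingHomProperty.appLE @LocallyOfFiniteType f inferInstance ⟨W, hW⟩ ⟨V.1, V.2.1⟩ V.2.2
    letI := (f.appLE W V.1 V.2.2).hom.toAlgebra
    haveI : Algebra.FiniteType Γ(Y, W) Γ(X, V.1) := hft
    obtain ⟨g, hg, hlift⟩ := exists_generic_lift Γ(Y, W) Γ(X, V.1) p hp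
    refine ⟨g, hg, fun x hx hxg => ?_⟩
    let q := V.2.1.primeIdealOf ⟨x, hx⟩
    have hq : V.2.1.fromSpec q = x := V.2.1.fromSpec_primeIdealOf ⟨x, hx⟩
    have hcomm : ∀ r : Spec Γ(X, V.1), f (V.2.1.fromSpec r) = hW.fromSpec (Spec.map (f.appLE W V.1 V.2.2) r) := fun r => by
      rw [← Scheme.Hom.comp_apply, ← Scheme.Hom.comp_apply, hW.SpecMap_appLE_fromSpec f V.2.1 V.2.2]
    have hgq : algebraMap Γ(Y, W) Γ(X, V.1) g ∉ q.asIdeal := by
      intro h
      rw [← hq, hcomm] at hxg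
      have : Spec.map (f.appLE W V.1 V.2.2) q ∈ PrimeSpectrum.basicOpen g := by
        rw [← hW.fromSpec_preimage_basicOpen]; exact hxg
      exact this h
    obtain ⟨q₀, hq₀, hle, hc⟩ := hlift q.asIdeal q.2 hgq
    refine ⟨V.2.1.fromSpec ⟨q₀, hq₀⟩, ?_, ?_⟩
    · rw [← hq]
      exact ((PrimeSpectrum.le_iff_specializes _ _).mp hle).map V.2.1.fromSpec.continuous
    · rw [hcomm, show Spec.map (f.appLE W V.1 V.2.2) (⟨q₀, hq₀⟩ : Spec Γ(X, V.1)) = hW.primeIdealOf ⟨η, hηW⟩ from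
        PrimeSpectrum.ext hc, hspec]
  choose g hg hgen using key
  let G := ∏ V ∈ t, g V
  have hG : G ∉ p := fun h => by
    obtain ⟨V, _, hV⟩ := (Ideal.IsPrime.prod_mem_iff (hp := (hW.primeIdealOf ⟨η, hηW⟩).2)).mp h
    exact hg V hV
  refine ⟨Y.basicOpen G, ⟨η, ?_⟩, fun y hy => Set.eq_univ_iff_forall.mpr fun z => ?_⟩
  · rw [← hspec]
    show hW.primeIdealOf ⟨η, hηW⟩ ∈ hW.fromSpec ⁻¹ᵁ Y.basicOpen G
    rw [hW.fromSpec_preimage_basicOpen]
    exact hG
  · let x := f.fiberι y z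
    have hfx : f x = y := by
      have : x ∈ Set.range (f.fiberι y) := ⟨z, rfl⟩
      rwa [Scheme.Hom.range_fiberι] at this
    have hxW : x ∈ f ⁻¹' (W : Set Y) := by
      show f x ∈ W
      rw [hfx]; exact Y.basicOpen_le G hy
    obtain ⟨V, hV, hxV⟩ := Set.mem_iUnion₂.mp (ht hxW)
    obtain ⟨x₀, hs, hx₀⟩ := hgen V x hxV (by
      rw [hfx]
      have hy' : y ∈ Y.basicOpen G := hy
      obtain ⟨c, hc⟩ := Finset.dvd_prod_of_mem g hV
      rw [show G = g V * c from hc, Scheme.basicOpen_mul] at hy'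
      exact hy'.1)
    obtain ⟨z₀, rfl⟩ : x₀ ∈ Set.range (f.fiberι η) := by rw [Scheme.Hom.range_fiberι]; exact hx₀
    obtain ⟨i, hi⟩ := Set.mem_iUnion.mp (hcov.ge (Set.mem_univ z₀))
    exact Set.mem_iUnion.mpr ⟨i, hs.mem_closed isClosed_closure (subset_closure ⟨z₀, hi, rfl⟩)⟩

end Groth.Agent.S1299
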