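import Groth.Agent.AlgStLib.Noeth
import Mathlib.AlgebraicGeometry.Sites.Fpqc
import Groth.Prelude.Def_AlgSt4
import Mathlib.AlgebraicGeometry.Noetherian

set_option autoImplicit false
universe u
open CategoryTheory AlgebraicGeometry
open AlgSt

set_option backward.isDefEq.respectTransparency false

namespace Groth.Agent.S13018

/-- If j : 𝒳 → 𝒴 is an immersion of algebraic stacks and 𝒴 is Noetherian (quasi-compact, quasi-separated
and locally Noetherian) then so is 𝒳. (The published statement uses quasi-separatedness over the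
integers; this row uses quasi-separatedness over the base scheme in hypothesis and conclusion.) -/
theorem result
    (S : Scheme.{u}) (𝒳 : AlgSt.Cat S) (𝒴 : AlgSt.Cat S)
    (h𝒳 : AlgSt.IsAlgStack Scheme.fppfPrecoverage 𝒳)
    (h𝒴 : AlgSt.IsAlgStack Scheme.fppfPrecoverage 𝒴)
    (j : 𝒳 ⥤ᵇ 𝒴) (hj : AlgSt.IsImm j) :
    AlgSt.IsQuasiCompact 𝒴 → AlgSt.IsQuasiSeparatedOver 𝒴 → AlgSt.SmoothLocally (fun T ↦ IsLocallyNoetherian T) 𝒴 →
      AlgSt.IsQuasiCompact 𝒳 ∧ AlgSt.IsQuasiSeparatedOver 𝒳 ∧ AlgSt.SmoothLocally (fun T ↦ IsLocallyNoetherian T) 𝒳 := by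
  exact fun hq hqs h => ⟨Groth.Agent.AlgStLib.isQuasiCompact_source h𝒳 h𝒴
      (Groth.Agent.AlgStLib.isQuasiCompactMor_of_repWith h𝒳 h𝒴 (Groth.Agent.AlgStLib.repWith_qc_of_isImm h𝒳 h𝒴 hj h)) hq,
    Groth.Agent.AlgStLib.isQuasiSeparatedOver_of_qs h𝒳 h𝒴 (Groth.Agent.AlgStLib.repWith_qs_of_isImm hj) hqs,
    Groth.Agent.AlgStLib.smoothLocally_noetherian_of_lft h𝒳 h𝒴 j (Groth.Agent.AlgStLib.locQ_lft_of_isImm h𝒳 h𝒴 hj) h⟩

end Groth.Agent.S13018
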