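import Groth.Agent.AlgStLib.LiftFamily
import Mathlib.AlgebraicGeometry.Sites.Fpqc
import Groth.Prelude.Def_AlgSt4

set_option autoImplicit false
universe u
open CategoryTheory AlgebraicGeometry
open AlgSt

set_option backward.isDefEq.respectTransparency false

namespace Groth.Agent.S13022

/-- Let f_j : 𝒳_j → 𝒳 be a family of flat, locally finitely presented morphisms of algebraic stacks
which is jointly surjective on points. Then, given any scheme U and any object x of 𝒳 lying over U,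
one can find an fppf covering {U_i → U}, indices j(i) and objects x_i of 𝒳_{j(i)} over U_i with
f_{j(i)}(x_i) ≅ x|_{U_i}. -/
theorem result
    (S : Scheme.{u}) (𝒳 : AlgSt.Cat S)
    (h𝒳 : AlgSt.IsAlgStack Scheme.fppfPrecoverage 𝒳)
    (J : Type u) (𝒳' : J → AlgSt.Cat S) (h𝒳' : ∀ j, AlgSt.IsAlgStack Scheme.fppfPrecoverage (𝒳' j))
    (f : ∀ j, 𝒳' j ⥤ᵇ 𝒳)
    (hf₁ : ∀ j, AlgSt.LocQ (AlgSp.LocP @Flat) (f j)) (hf₂ : ∀ j, AlgSt.LocQ (AlgSp.LocP @LocallyOfFinitePresentation) (f j))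
    (hf₃ : ∀ p : AlgSt.Points 𝒳, ∃ j, p ∈ Set.range (AlgSt.Points.map (f j)))
    (U : Over S) (x : FibCat.overCat U ⥤ᵇ 𝒳) :
    ∃ (ι : Type u) (V : ι → Over S) (g : ∀ i, V i ⟶ U) (c : ι → J),
      (Presieve.ofArrows (fun i ↦ (V i).left) fun i ↦ (g i).left) ∈ Scheme.fppfPrecoverage U.left ∧
      ∀ i, ∃ x' : FibCat.overCat (V i) ⥤ᵇ 𝒳' (c i),
        Nonempty (BasedFunctor.comp x' (f (c i)) ≅ BasedFunctor.comp (AlgSt.overMap (g i)) x) := by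
  have key : ∀ t : ↥U.left, ∃ (j : J) (V : Over S) (γ : V ⟶ U), Flat γ.left ∧ LocallyOfFinitePresentation γ.left ∧
      t ∈ Set.range γ.left ∧ ∃ x' : FibCat.overCat V ⥤ᵇ 𝒳' j,
        Nonempty (BasedFunctor.comp x' (f j) ≅ BasedFunctor.comp (AlgSt.overMap γ) x) := fun t => by
    obtain ⟨j, hj⟩ := hf₃ (AlgSt.Points.ofChart x t)
    exact ⟨j, Groth.Agent.AlgStLib.exists_lift_at h𝒳 (h𝒳' j) (f j) (hf₁ j) (hf₂ j) x t hj⟩
  choose c V γ h₁ h₂ h₃ h₄ using key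
  refine ⟨↥U.left, V, γ, c, (Scheme.ofArrows_mem_precoverage_iff _).2 ⟨fun t => ?_, fun i => ⟨h₁ i, h₂ i⟩⟩, h₄⟩
  obtain ⟨w, hw⟩ := h₃ t
  exact ⟨t, w, hw⟩

end Groth.Agent.S13022
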