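import Groth.Statements.S13047
import Groth.Agent.PrePerfEx.Basic
import Mathlib

set_option autoImplicit false
universe u
open FrobAlg
set_option backward.isDefEq.respectTransparency false
open Groth.Agent.PrePerfEx (ι tmul_eq ι_algebraMap exists_lift relFrob_ι mem_prePerf)
set_option maxHeartbeats 800000

namespace Groth.Agent.S13047

open Polynomial in
/-- Let p be an odd prime, R a commutative ring of characteristic p and u, v ∈ R with uv = 0, such that
for every N ≥ 1 an element of R lying in (v^n) + (u^N) for all n lies in (u^N) (v-adic separatedness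
of R/(u^N)). Let B = R[α]/(uα, α² − v²), an R-algebra of characteristic p, with Frobenius twists
B^{p^i/R} = R ⊗_{F^i,R} B and preperfection B^{p^∞/R} = lim_i B^{p^i/R} along the relative Frobenius
maps. Then the structure map R → B^{p^∞/R} is bijective: the preperfection of B is R. (The published
statement is for R = F_p[[u, v]]/(uv), where B arises as the preperfection of R[x, y, 1/(x − y)]/(xy
− u), so that the second preperfection of that algebra is R although the first is not perfect; the
printed computation uses only the hypotheses listed here, which that R satisfies.) -/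
theorem result
    (p : ℕ) [Fact p.Prime] (hp : p ≠ 2) (R : Type u) [CommRing R] [CharP R p]
    (u v : R) (huv : u * v = 0)
    (hsep : ∀ N : ℕ, 1 ≤ N → ∀ g : R,
      (∀ n : ℕ, g ∈ Ideal.span {v ^ n} ⊔ Ideal.span {u ^ N}) → g ∈ Ideal.span {u ^ N})
    [CharP (R[X] ⧸ Ideal.span {(C u * X : R[X]), X ^ 2 - C (v ^ 2)}) p] :
    Function.Bijective
      (algebraMap R ↥(W4c1imperftorsors.prePerf p R
        (R[X] ⧸ Ideal.span {(C u * X : R[X]), X ^ 2 - C (v ^ 2)}))) := by
  obtain ⟨k, hk⟩ := ((Fact.out : p.Prime).odd_of_ne_two hp)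
  have hp1 : 1 ≤ p := (Fact.out : p.Prime).one_le
  have hq : ∀ i, p ^ i ≠ 0 := fun i => pow_ne_zero _ (Fact.out : p.Prime).ne_zero
  set J : Ideal R[X] := Ideal.span {(C u * X : R[X]), X ^ 2 - C (v ^ 2)} with hJ
  set x : R[X] ⧸ J := Ideal.Quotient.mk J X with hx
  have hal : ∀ r : R, algebraMap R (R[X] ⧸ J) r = Ideal.Quotient.mk J (C r) := fun r => rfl
  have hux : algebraMap R (R[X] ⧸ J) u * x = 0 := by
    rw [hal, hx, ← map_mul, Ideal.Quotient.eq_zero_iff_mem]
    exact Ideal.subset_span (Or.inl rfl)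
  have hxx : x ^ 2 = algebraMap R (R[X] ⧸ J) (v ^ 2) := by
    rw [hal, hx, ← map_pow, Ideal.Quotient.mk_eq_mk_iff_sub_mem]
    exact Ideal.subset_span (Or.inr rfl)
  -- shape of the elements of the twists
  have hform : ∀ (i : ℕ) (z : W4c1imperftorsors.Twist p R (R[X] ⧸ J) i), ∃ a b : R,
      z = algebraMap R _ a + algebraMap R _ b * ι p R (R[X] ⧸ J) i x := by
    intro i z
    induction z using TensorProduct.induction_on with
    | zero => exact ⟨0, 0, by simp⟩
    | add a b ha hb =>
      obtain ⟨a1, b1, rfl⟩ := ha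
      obtain ⟨a2, b2, rfl⟩ := hb
      exact ⟨a1 + a2, b1 + b2, by simp only [map_add]; ring⟩
    | tmul r y =>
      rw [tmul_eq]
      obtain ⟨f, hf⟩ := Ideal.Quotient.mk_surjective (W4c1imperftorsors.aEquiv p R (R[X] ⧸ J) i y)
      suffices h : ∃ a b : R, ι p R (R[X] ⧸ J) i (Ideal.Quotient.mk J f) =
          algebraMap R _ a + algebraMap R _ b * ι p R (R[X] ⧸ J) i x by
        obtain ⟨a, b, hab⟩ := h
        refine ⟨r * a, r * b, ?_⟩
        rw [← hf, hab]; simp only [map_mul]; ring
      clear hf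
      induction f using Polynomial.induction_on with
      | C a => exact ⟨a ^ p ^ i, 0, by rw [← hal, ι_algebraMap, map_zero, zero_mul, add_zero]⟩
      | add f g hf hg =>
        obtain ⟨a1, b1, h1⟩ := hf
        obtain ⟨a2, b2, h2⟩ := hg
        exact ⟨a1 + a2, b1 + b2, by rw [map_add, map_add, h1, h2]; simp only [map_add]; ring⟩
      | monomial n a hn =>
        obtain ⟨a1, b1, h1⟩ := hn
        refine ⟨b1 * (v ^ 2) ^ p ^ i, a1, ?_⟩
        rw [pow_succ, ← mul_assoc, map_mul, map_mul, h1, ← hx, add_mul, mul_assoc, ← map_mul, ← sq,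
          hxx, ι_algebraMap, ← map_mul, add_comm]
  -- evaluation at `v ^ p ^ i`
  have hev : ∀ i, ∃ φ : W4c1imperftorsors.Twist p R (R[X] ⧸ J) i →ₐ[R] R,
      φ (ι p R (R[X] ⧸ J) i x) = v ^ p ^ i := by
    intro i
    have hker : ∀ f ∈ J, Polynomial.eval₂RingHom (iterateFrobenius R p i) (v ^ p ^ i) f = 0 := by
      intro f hf
      refine (RingHom.mem_ker).mp (Ideal.span_le.mpr ?_ hf)
      rintro g (rfl | rfl)
      · simp [iterateFrobenius_def, ← mul_pow, huv, zero_pow (hq i)]
      · rw [SetLike.mem_coe, RingHom.mem_ker, coe_eval₂RingHom, eval₂_sub, eval₂_X_pow, eval₂_C,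
          iterateFrobenius_def, pow_right_comm, sub_self]
    obtain ⟨φ, hφ⟩ := exists_lift p R (R[X] ⧸ J) i (Ideal.Quotient.lift J _ hker) (fun s => by
      rw [hal, Ideal.Quotient.lift_mk]; simp [iterateFrobenius_def])
    exact ⟨φ, by rw [hφ, hx, Ideal.Quotient.lift_mk]; simp⟩
  -- the coefficient of `x` is well defined modulo `u ^ p ^ i`
  have hcoef : ∀ (i : ℕ) (a b a' b' : R),
      algebraMap R _ a + algebraMap R _ b * ι p R (R[X] ⧸ J) i x =
        algebraMap R _ a' + algebraMap R _ b' * ι p R (R[X] ⧸ J) i x →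
      b - b' ∈ Ideal.span {u ^ p ^ i} := by
    intro i a b a' b' h
    let I : Ideal R := Ideal.span {u ^ p ^ i}
    let c : R ⧸ I := Ideal.Quotient.mk I (v ^ p ^ i) ^ 2
    let w : QuadraticAlgebra (R ⧸ I) c 0 := ⟨0, 1⟩
    have hker : ∀ f ∈ J, Polynomial.eval₂RingHom
        ((algebraMap R (QuadraticAlgebra (R ⧸ I) c 0)).comp (iterateFrobenius R p i)) w f = 0 := by
      intro f hf
      refine (RingHom.mem_ker).mp (Ideal.span_le.mpr ?_ hf)
      rintro g (rfl | rfl)
      · have h0 : algebraMap R (QuadraticAlgebra (R ⧸ I) c 0) (u ^ p ^ i) = 0 := by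
          rw [IsScalarTower.algebraMap_apply R (R ⧸ I) (QuadraticAlgebra (R ⧸ I) c 0),
            show algebraMap R (R ⧸ I) (u ^ p ^ i) = 0 from
              Ideal.Quotient.eq_zero_iff_mem.mpr (Ideal.mem_span_singleton_self _), map_zero]
        rw [SetLike.mem_coe, RingHom.mem_ker, Polynomial.coe_eval₂RingHom, eval₂_mul, eval₂_C, eval₂_X,
          RingHom.comp_apply, iterateFrobenius_def, h0, zero_mul]
      · have hw : w ^ 2 = algebraMap R (QuadraticAlgebra (R ⧸ I) c 0) ((v ^ 2) ^ p ^ i) := by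
          rw [IsScalarTower.algebraMap_apply R (R ⧸ I) (QuadraticAlgebra (R ⧸ I) c 0),
            QuadraticAlgebra.algebraMap_eq, sq]
          ext <;> simp [w, c, ← pow_mul, mul_comm]
        rw [SetLike.mem_coe, RingHom.mem_ker, Polynomial.coe_eval₂RingHom, eval₂_sub, eval₂_X_pow, eval₂_C,
          RingHom.comp_apply, iterateFrobenius_def, hw, sub_self]
    obtain ⟨φ, hφ⟩ := exists_lift p R (R[X] ⧸ J) i (Ideal.Quotient.lift J _ hker) (fun s => by
      rw [hal, Ideal.Quotient.lift_mk]; simp [iterateFrobenius_def])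
    have hφx : φ (ι p R (R[X] ⧸ J) i x) = w := by rw [hφ, hx, Ideal.Quotient.lift_mk]; simp
    have h2 := congrArg (fun z => (φ z).im) h
    simp only [map_add, map_mul, AlgHom.commutes, hφx,
      IsScalarTower.algebraMap_apply R (R ⧸ I) (QuadraticAlgebra (R ⧸ I) c 0),
      QuadraticAlgebra.algebraMap_eq] at h2
    simp [w] at h2
    exact (Ideal.Quotient.mk_eq_mk_iff_sub_mem _ _).mp h2
  have hxp : x ^ p = algebraMap R (R[X] ⧸ J) (v ^ (2 * k)) * x := by
    conv_lhs => rw [hk, pow_succ, pow_mul, hxx, ← map_pow, ← pow_mul]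
  -- relative Frobenius
  have hF : ∀ (i : ℕ) (a b : R), W4c1imperftorsors.relFrob p R (R[X] ⧸ J) i
      (algebraMap R _ a + algebraMap R _ b * ι p R (R[X] ⧸ J) (i + 1) x) =
      algebraMap R _ a + algebraMap R _ (b * (v ^ (2 * k)) ^ p ^ i) * ι p R (R[X] ⧸ J) i x := by
    intro i a b
    rw [map_add, map_mul, AlgHom.commutes, AlgHom.commutes, relFrob_ι, hxp,
      map_mul, ι_algebraMap, map_mul, mul_assoc]
  constructor
  · intro r s hrs
    obtain ⟨φ, -⟩ := hev 0
    have h := congrArg (fun z : ↥(W4c1imperftorsors.prePerf p R (R[X] ⧸ J)) => φ (z.1 0)) hrs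
    rwa [show (algebraMap R ↥(W4c1imperftorsors.prePerf p R (R[X] ⧸ J)) r).1 0 = algebraMap R _ r from rfl,
      show (algebraMap R ↥(W4c1imperftorsors.prePerf p R (R[X] ⧸ J)) s).1 0 = algebraMap R _ s from rfl,
      AlgHom.commutes, AlgHom.commutes] at h
  · rintro ⟨z, hz⟩
    rw [mem_prePerf] at hz
    choose a b hab using fun i => hform i (z i)
    have hrel : ∀ i, b (i + 1) * (v ^ (2 * k)) ^ p ^ i - b i ∈ Ideal.span {u ^ p ^ i} := by
      intro i
      have h := hz i
      rw [hab (i + 1), hab i, hF] at h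
      exact hcoef i _ _ _ _ h
    have hk1 : 1 ≤ k := by
      have := (Fact.out : p.Prime).two_le
      omega
    have hdiv : ∀ (n i : ℕ), b i ∈ Ideal.span {v ^ n} ⊔ Ideal.span {u ^ p ^ i} := by
      intro n
      induction n with
      | zero => intro i; simp
      | succ n ih =>
        intro i
        obtain ⟨s, hs, t, ht, hst⟩ := Submodule.mem_sup.mp (ih (i + 1))
        obtain ⟨s', rfl⟩ := Ideal.mem_span_singleton'.mp hs
        obtain ⟨t', rfl⟩ := Ideal.mem_span_singleton'.mp ht
        have e : b i = b (i + 1) * (v ^ (2 * k)) ^ p ^ i - (b (i + 1) * (v ^ (2 * k)) ^ p ^ i - b i) := by ring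
        rw [e]
        refine sub_mem ?_ (Ideal.mem_sup_right (hrel i))
        rw [← hst, add_mul]
        refine add_mem (Ideal.mem_sup_left ?_) (Ideal.mem_sup_right ?_)
        · rw [Ideal.mem_span_singleton, ← pow_mul, mul_assoc, ← pow_add]
          exact Dvd.dvd.mul_left (pow_dvd_pow v (by
            have h1 : 1 ≤ 2 * k * p ^ i := Nat.mul_pos (by omega) (Nat.pos_of_ne_zero (hq i))
            omega)) _
        · rw [Ideal.mem_span_singleton]
          exact Dvd.dvd.mul_right (Dvd.dvd.mul_left (pow_dvd_pow u (Nat.pow_le_pow_right hp1 (by omega))) _) _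
    have hb : ∀ i, z i = algebraMap R _ (a i) := by
      intro i
      obtain ⟨c, hc⟩ := Ideal.mem_span_singleton'.mp
        (hsep (p ^ i) (Nat.pos_of_ne_zero (hq i)) (b i) (fun n => hdiv n i))
      rw [hab i, ← hc, map_mul, mul_assoc, ← ι_algebraMap, ← map_mul, hux, map_zero, mul_zero, add_zero]
    have ha : ∀ i, a i = a 0 := by
      intro i
      induction i with
      | zero => rfl
      | succ i ih =>
        obtain ⟨φ, -⟩ := hev i
        have h := congrArg φ (hz i)
        rw [hb (i + 1), hb i, AlgHom.commutes, AlgHom.commutes, AlgHom.commutes] at h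
        exact h.trans ih
    refine ⟨a 0, Subtype.ext (funext fun i => ?_)⟩
    show algebraMap R _ (a 0) = z i
    rw [hb i, ha i]

end Groth.Agent.S13047
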