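import Groth.Statements.S13048
import Mathlib
-- import your own Groth.Agent.* helpers here

set_option autoImplicit false
universe u
open FrobAlg

namespace Groth.Agent.S13048

/-- Let k be an algebraically closed field of characteristic p > 0 and let A be a reduced finitely
generated commutative k-algebra with connected spectrum (A ≠ 0 and 0, 1 are its only idempotents).
If x ∈ A is a p^n-th power in A for every n ≥ 0, then x lies in the image of k; that is, ⋂_n A^{p^n}
= k. (The published statement is: for an artinian local ring R of characteristic p and a flat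
R-algebra A of finite type, the maps A^ét → O(π₀(A)) → A^{p^∞/R} from the largest étale subalgebra
to the preperfection are isomorphisms. This row is the case R = k algebraically closed and A reduced
with connected spectrum, where A^ét = k and the preperfection is ⋂_n A^{p^n}; the printed proof
reduces to this case and its last step proves it.) -/
theorem result
    (p : ℕ) [Fact p.Prime] (k : Type u) [Field k] [IsAlgClosed k] [CharP k p]
    (A : Type u) [CommRing A] [Algebra k A] [Algebra.FiniteType k A] [IsReduced A] [Nontrivial A]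
    (hconn : ∀ e : A, IsIdempotentElem e → e = 0 ∨ e = 1)
    (x : A) (hx : ∀ n : ℕ, ∃ a : A, a ^ p ^ n = x) :
    x ∈ (algebraMap k A).range := by
  obtain ⟨m, hm⟩ := Ideal.exists_maximal A
  haveI : IsNoetherianRing A := Algebra.FiniteType.isNoetherianRing k A
  have hsurjk : ∀ (M : Ideal A) [M.IsMaximal], Function.Surjective (algebraMap k (A ⧸ M)) := fun M _ => by
    letI := Ideal.Quotient.field M
    haveI : Module.Finite k (A ⧸ M) := finite_of_finite_type_of_isJacobsonRing k (A ⧸ M)
    exact (IsAlgClosed.algebraMap_bijective_of_isIntegral (k := k) (K := A ⧸ M)).2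
  obtain ⟨c, hc⟩ := hsurjk m (Ideal.Quotient.mk m x)
  refine ⟨c, ?_⟩
  set y := x - algebraMap k A c with hy
  haveI : CharP A p := charP_of_injective_algebraMap (algebraMap k A).injective p
  have hym : y ∈ m := by
    rw [hy, ← Ideal.Quotient.eq_zero_iff_mem, map_sub, ← hc]
    exact sub_self _
  have hpow : ∀ n : ℕ, ∃ b : A, b ^ p ^ n = y := fun n => by
    obtain ⟨a, ha⟩ := hx n
    obtain ⟨d, hd⟩ := IsAlgClosed.exists_pow_nat_eq (k := k) c (pow_pos (Fact.out : p.Prime).pos n)
    exact ⟨a - algebraMap k A d, by rw [sub_pow_char_pow, ha, ← map_pow, hd]⟩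
  have hkill : ∀ M : Ideal A, M.IsMaximal → y ∈ M → ∃ t : A, t ∉ M ∧ t * y = 0 := by
    intro M hM hyM
    have hmem : y ∈ ⨅ i : ℕ, M ^ i := by
      rw [Ideal.mem_iInf]
      intro i
      obtain ⟨b, hb⟩ := hpow i
      have hbM : b ∈ M := hM.isPrime.mem_of_pow_mem _ (hb ▸ hyM)
      rw [← hb]
      exact Ideal.pow_le_pow_right ((Nat.lt_pow_self (Fact.out : p.Prime).one_lt).le) (Ideal.pow_mem_pow hbM _)
    have h2 := (Ideal.mem_iInf_smul_pow_eq_bot_iff (M := A) M y).1 (by
      simpa only [smul_eq_mul, Ideal.mul_top] using hmem)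
    obtain ⟨r, hr⟩ := h2
    refine ⟨1 - r, fun h => hM.ne_top ((Ideal.eq_top_iff_one _).2 ?_), ?_⟩
    · simpa using M.add_mem h r.2
    · rw [sub_mul, one_mul, ← smul_eq_mul (r : A), hr, sub_self]
  let J : Ideal A := Ideal.span {y} ⊔ LinearMap.ker (LinearMap.toSpanSingleton A A y)
  have hJ : J = ⊤ := by
    by_contra hne
    obtain ⟨M, hM, hle⟩ := Ideal.exists_le_maximal _ hne
    obtain ⟨t, htM, ht⟩ := hkill M hM (hle (Submodule.mem_sup_left (Ideal.mem_span_singleton_self y)))
    exact htM (hle (Submodule.mem_sup_right (LinearMap.mem_ker.2 ht)))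
  obtain ⟨u, hu, t, ht, hut⟩ := Submodule.mem_sup.1 ((Ideal.eq_top_iff_one _).1 hJ)
  obtain ⟨b, rfl⟩ := Ideal.mem_span_singleton'.1 hu
  have ht' : t * y = 0 := LinearMap.mem_ker.1 ht
  have he : b * y * y = y := by linear_combination y * hut - ht'
  rcases hconn (b * y) (by change b * y * (b * y) = b * y; linear_combination b * he) with h0 | h1
  · rw [h0, zero_mul] at he
    rw [hy, eq_comm, sub_eq_zero] at he
    exact he.symm
  · exact absurd ((Ideal.eq_top_iff_one m).2 (h1 ▸ m.mul_mem_left b hym)) hm.ne_top

end Groth.Agent.S13048
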