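import Groth.Statements.S13049
import Mathlib
-- import your own Groth.Agent.* helpers here

set_option autoImplicit false
universe u
open FrobAlg

namespace Groth.Agent.S13049

/-- Let p be a prime and A a commutative ring of characteristic p whose nilradical N satisfies x^(p^e) =
0 for all x ∈ N and some fixed e (for instance A Noetherian). Then the map between the inverse-limit
perfections along the absolute Frobenius, lim (⋯ → A → A) → lim (⋯ → A/N → A/N), induced by the
projection A → A/N, is bijective. (The published argument takes A of finite type over a field, where
the nilradical is finitely generated; this row assumes only that the nilradical is killed by one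
fixed iterate of Frobenius, which is all that argument uses.) -/
theorem result
    (p : ℕ) [Fact p.Prime] (A : Type u) [CommRing A] [CharP A p]
    [CharP (A ⧸ nilradical A) p] (e : ℕ) (he : ∀ x ∈ nilradical A, x ^ p ^ e = 0) :
    Function.Bijective (Perfection.map p (Ideal.Quotient.mk (nilradical A))) := by
  constructor
  · intro f g hfg
    refine Perfection.ext fun n => ?_
    have h : Perfection.coeff A p (n + e) f - Perfection.coeff A p (n + e) g ∈ nilradical A := by
      refine (Ideal.Quotient.mk_eq_mk_iff_sub_mem _ _).1 ?_
      have := congrArg (Perfection.coeff (A ⧸ nilradical A) p (n + e)) hfg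
      simpa only [Perfection.coeff_map] using this
    have h2 := he _ h
    rw [sub_pow_char_pow, sub_eq_zero] at h2
    have hpow : ∀ (x : Perfection A p), Perfection.coeff A p (n + e) x ^ p ^ e = Perfection.coeff A p n x := fun x => by
      have := Perfection.coeff_iterate_frobenius x n e
      rw [← this, iterate_frobenius, map_pow]
    rw [hpow f, hpow g] at h2
    exact h2
  · intro h
    choose a ha using fun n => Ideal.Quotient.mk_surjective (Perfection.coeff (A ⧸ nilradical A) p n h)
    have hstep : ∀ n, (a (n + e + 1) ^ p ^ e) ^ p = a (n + e) ^ p ^ e := fun n => by
      have h1 : a (n + e + 1) ^ p - a (n + e) ∈ nilradical A := by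
        refine (Ideal.Quotient.mk_eq_mk_iff_sub_mem _ _).1 ?_
        rw [map_pow, ha, ha, Perfection.coeff_pow_p']
      have h2 := he _ h1
      rw [sub_pow_char_pow, sub_eq_zero] at h2
      rw [← pow_mul, mul_comm, pow_mul, h2]
    refine ⟨⟨fun n => a (n + e) ^ p ^ e, fun n => ?_⟩, Perfection.ext fun n => ?_⟩
    · simp only
      rw [show n + 1 + e = n + e + 1 by omega]
      exact hstep n
    · rw [Perfection.coeff_map]
      change Ideal.Quotient.mk (nilradical A) (a (n + e) ^ p ^ e) = _
      rw [map_pow, ha]
      have := Perfection.coeff_iterate_frobenius h n e
      rw [← this, iterate_frobenius, map_pow]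

end Groth.Agent.S13049
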