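import Groth.Statements.S13050
import Groth.Agent.WeilLib.FixedPts

set_option autoImplicit false
universe u
open CategoryTheory AlgebraicGeometry
open Zeta

namespace Groth.Agent.S13050

/-- For a scheme X of finite type over a finite field k and a finite extension k'/k of degree r, the
number of k'-valued points of X over k equals ∑_{e ∣ r} e · #{closed points x of X with [κ(x) : k] =
e}. (Stated for any scheme of finite type over k; the published statement takes X reduced, which
plays no role.) -/
theorem result {k : Type u} [Field k] [Finite k] {X : Scheme.{u}}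
    (f : X ⟶ Spec (CommRingCat.of k)) [LocallyOfFiniteType f] [QuasiCompact f]
    (k' : Type u) [Field k'] [Algebra k k'] [Finite k'] :
    SgaExt.pointCount f k' = Zeta.nPts f (Module.finrank k k') := by
  let Ω := AlgebraicClosure k
  obtain ⟨p, hp⟩ := CharP.exists k
  haveI := Fintype.ofFinite k
  obtain ⟨e, hpr, hcard⟩ := FiniteField.card k p
  haveI := Fact.mk hpr
  haveI : CharP Ω p := charP_of_injective_algebraMap (algebraMap k Ω).injective p
  haveI : ExpChar Ω p := ExpChar.prime hpr
  have hq : Nat.card k = p ^ (e : ℕ) := by rw [Nat.card_eq_fintype_card]; exact hcard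
  haveI : Module.Finite k k' := Module.Finite.of_finite
  haveI := WeilLib.finite_points_ext f k'
  obtain ⟨E⟩ := WeilLib.nonempty_points_equiv_fixedPts Ω f p e hq k'
  haveI := Finite.of_equiv _ E
  rw [WeilLib.card_points_eq_fixedPts Ω f p e hq k', WeilLib.card_fixedPts_eq_nPts Ω f p e hq _ Module.finrank_pos]

end Groth.Agent.S13050
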