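import Groth.Statements.S13051
import Groth.Agent.ZetaLib.Series

set_option autoImplicit false
universe u
open CategoryTheory AlgebraicGeometry
open Zeta

namespace Groth.Agent.S13051

/-- For a scheme X of finite type over a finite field k, Z(X, t) = ∏ over the closed points x of (1 −
t^{deg x})^{−1}, that is ∏_{r ≥ 1} (1 − t^r)^{−a_r} with a_r the number of closed points of residue
degree r; equivalently, for every n the product Z(X, t) · ∏_{r = 1}^{n} (1 − t^r)^{a_r} is ≡ 1
modulo t^{n+1}. In particular Z(X, t) has integer coefficients. (Stated for any scheme of finite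
type over k; reducedness plays no role.) -/
theorem result {k : Type u} [Field k] [Finite k] {X : Scheme.{u}}
    (f : X ⟶ Spec (CommRingCat.of k)) [LocallyOfFiniteType f] [QuasiCompact f] :
    (∀ n : ℕ, PowerSeries.trunc (n + 1)
        (Zeta.zetaFun f * ∏ r ∈ Finset.Icc 1 n, (1 - PowerSeries.X ^ r) ^ Zeta.degCount f r) = 1) ∧
      ∀ n : ℕ, ∃ z : ℤ, PowerSeries.coeff n (Zeta.zetaFun f) = (z : ℚ) := by
  let G : ℕ → PowerSeries ℚ := fun r => 1 - PowerSeries.C (1 : ℚ) * PowerSeries.X ^ r
  have hG : ∀ r, 1 - PowerSeries.X ^ r = G r := fun r => by simp [G]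
  have key : ∀ n j : ℕ, j ≤ n → PowerSeries.coeff j (Zeta.zetaFun f * ∏ r ∈ Finset.Icc 1 n,
      (1 - PowerSeries.X ^ r) ^ Zeta.degCount f r) = if j = 0 then 1 else 0 := by
    intro n j hj
    simp only [hG]
    rcases Nat.eq_zero_or_pos j with rfl | hj0
    · rw [if_pos rfl, PowerSeries.coeff_zero_eq_constantCoeff_apply, map_mul,
        (Groth.Agent.ZetaLib.logD_zetaFun f).2, one_mul, map_prod]
      refine Finset.prod_eq_one fun r hr => ?_
      rw [map_pow, Groth.Agent.ZetaLib.constantCoeff_euler _ (Finset.mem_Icc.1 hr).1, one_pow]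
    rw [if_neg hj0.ne']
    have hL := (Groth.Agent.ZetaLib.logD_zetaFun f).1.mul (Groth.Agent.WeilLib.LogD.prod
      (Finset.Icc 1 n) fun r hr =>
        Groth.Agent.ZetaLib.LogD.pow (Groth.Agent.ZetaLib.logD_euler (1 : ℚ) (Finset.mem_Icc.1 hr).1) (Zeta.degCount f r))
    refine Groth.Agent.ZetaLib.LogD.coeff_eq_zero hL n (fun m hm => ?_) hj0 hj
    simp only [map_add, map_sum, map_nsmul, PowerSeries.coeff_mk]
    simp only [one_pow, mul_one, nsmul_eq_mul, Zeta.nPts]
    have hsub : (m + 1).divisors = (Finset.Icc 1 n).filter (· ∣ m + 1) := by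
      ext r
      simp only [Nat.mem_divisors, Finset.mem_filter, Finset.mem_Icc]
      refine ⟨fun h => ⟨⟨Nat.pos_of_dvd_of_pos h.1 (by omega), ?_⟩, h.1⟩, fun h => ⟨h.2, by omega⟩⟩
      exact (Nat.le_of_dvd (by omega) h.1).trans hm
    rw [hsub, Nat.cast_sum, Finset.sum_filter, ← Finset.sum_add_distrib]
    refine Finset.sum_eq_zero fun r _ => ?_
    split_ifs <;> push_cast <;> ring
  refine ⟨fun n => Polynomial.ext fun j => ?_, fun n => ?_⟩
  · rw [PowerSeries.coeff_trunc, Polynomial.coeff_one]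
    split_ifs with h1 h2 h2 <;> try rfl
    · rw [key n j (by omega), if_pos h2]
    · rw [key n j (by omega), if_neg h2]
    · omega
  · let P : PowerSeries ℤ := ∏ r ∈ Finset.Icc 1 n, (1 - PowerSeries.X ^ r) ^ Zeta.degCount f r
    have hP : IsUnit P := by
      rw [PowerSeries.isUnit_iff_constantCoeff, map_prod,
        Finset.prod_eq_one fun r hr => by
          rw [map_pow, map_sub, map_one, map_pow, PowerSeries.constantCoeff_X,
            zero_pow (Nat.one_le_iff_ne_zero.1 (Finset.mem_Icc.1 hr).1), sub_zero, one_pow]]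
      exact isUnit_one
    obtain ⟨Q, hQ⟩ := hP.exists_right_inv
    refine ⟨PowerSeries.coeff n Q, ?_⟩
    have hQ' := congrArg (PowerSeries.map (Int.castRingHom ℚ)) hQ
    have hmapP : PowerSeries.map (Int.castRingHom ℚ) P =
        ∏ r ∈ Finset.Icc 1 n, (1 - PowerSeries.X ^ r) ^ Zeta.degCount f r := by simp [P]
    rw [map_mul, map_one, hmapP] at hQ'
    have h0 : PowerSeries.coeff n ((Zeta.zetaFun f * (∏ r ∈ Finset.Icc 1 n,
        (1 - PowerSeries.X ^ r) ^ Zeta.degCount f r) - 1) * PowerSeries.map (Int.castRingHom ℚ) Q) = 0 := by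
      rw [PowerSeries.coeff_mul]
      refine Finset.sum_eq_zero fun x hx => ?_
      rw [map_sub, key n x.1 (by have := Finset.HasAntidiagonal.mem_antidiagonal.mp hx; omega),
        PowerSeries.coeff_one, sub_self, zero_mul]
    rw [sub_mul, one_mul, mul_assoc, hQ', mul_one, map_sub, sub_eq_zero, PowerSeries.coeff_map] at h0
    simpa using h0

end Groth.Agent.S13051
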