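import Groth.Statements.S13052
import Groth.Agent.ZetaLib.Basic

set_option autoImplicit false
universe u
open CategoryTheory AlgebraicGeometry
open Zeta

namespace Groth.Agent.S13052

/-- If X is a scheme of finite type over a finite field k, Y ↪ X a closed subscheme and U = X ∖ Y its
open complement, then Z(X, t) = Z(Y, t) · Z(U, t). Here Y is any scheme with a closed immersion into
X whose image is the complement of U (its scheme structure plays no role), and Y, U are k-schemes
through X. -/
theorem result {k : Type u} [Field k] [Finite k]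
    {X Y : Scheme.{u}} (f : X ⟶ Spec (CommRingCat.of k)) [LocallyOfFiniteType f] [QuasiCompact f]
    (U : X.Opens) (i : Y ⟶ X) [IsClosedImmersion i] (hY : Set.range i.base = (U : Set X)ᶜ) :
    Zeta.zetaFun f = Zeta.zetaFun (i ≫ f) * Zeta.zetaFun (U.ι ≫ f) := by
  let Z : ULift.{u} Bool → Scheme.{u} := fun b => if b.down then Y else U.toScheme
  have hb : ∀ b : ULift.{u} Bool, ∃ g : Z b ⟶ X, IsImmersion g ∧
      Set.range g.base = (if b.down then (U : Set X)ᶜ else (U : Set X)) ∧
      Zeta.zetaFun (g ≫ f) = if b.down then Zeta.zetaFun (i ≫ f) else Zeta.zetaFun (U.ι ≫ f) := by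
    rintro ⟨_ | _⟩
    · exact ⟨U.ι, inferInstance, U.range_ι, rfl⟩
    · exact ⟨i, inferInstance, hY, rfl⟩
  choose g hg hr hz using hb
  haveI := hg
  rw [Groth.Agent.ZetaLib.zetaFun_eq_prod f Z g fun x _ => ?_]
  · have e : ∀ F : ULift.{u} Bool → PowerSeries ℚ, ∏ b, F b = F ⟨true⟩ * F ⟨false⟩ := fun F => by
      rw [show (Finset.univ : Finset (ULift.{u} Bool)) = {⟨true⟩, ⟨false⟩} by decide, Finset.prod_pair (by simp)]
    rw [e, hz, hz]; rfl
  · by_cases hx : x ∈ (U : Set X)
    · refine ⟨⟨false⟩, (hr ⟨false⟩).ge hx, ?_⟩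
      rintro ⟨_ | _⟩ h
      · rfl
      · rw [hr] at h; exact absurd hx h
    · refine ⟨⟨true⟩, (hr ⟨true⟩).ge hx, ?_⟩
      rintro ⟨_ | _⟩ h
      · rw [hr] at h; exact absurd h hx
      · rfl

end Groth.Agent.S13052
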