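import Groth.Statements.S13053
import Groth.Agent.ZetaLib.ProjCount
import Groth.Agent.ZetaLib.Series
import Groth.Agent.S13050
import Mathlib.FieldTheory.Finite.Extension
import Groth.Agent.ProjMor.ProjSpaceBase

set_option autoImplicit false
universe u
open CategoryTheory AlgebraicGeometry
open Zeta

namespace Groth.Agent.S13053

/-- For a finite field k with q elements, Z(P^n_k, t) = 1 / ((1 − t)(1 − qt) ⋯ (1 − q^n t)); stated as
Z(P^n_k, t) · ∏_{i = 0}^{n} (1 − q^i t) = 1 in ℚ⟦t⟧. -/
theorem result (k : Type u) [Field k] [Finite k] (n : ℕ) :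
    Zeta.zetaFun (CohB1.ProjSpace.toSpec n k) *
        ∏ i ∈ Finset.range (n + 1), (1 - PowerSeries.C ((Nat.card k : ℚ) ^ i) * PowerSeries.X) = 1 := by
  haveI := ProjMor.isProper_toSpec n k
  obtain ⟨p, hp⟩ := CharP.exists k
  haveI : Fact p.Prime := ⟨CharP.char_is_prime k p⟩
  have hN : ∀ m : ℕ, Zeta.nPts (CohB1.ProjSpace.toSpec n k) (m + 1) =
      ∑ i ∈ Finset.range (n + 1), (Nat.card k ^ (m + 1)) ^ i := fun m => by
    let K : Type u := ULift.{u} (FiniteField.Extension k p (m + 1))
    have hd : Module.finrank k K = m + 1 :=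
      (ULift.moduleEquiv (R := k)).finrank_eq.trans (FiniteField.finrank_extension k p (m + 1))
    have hc : Nat.card K = Nat.card k ^ (m + 1) :=
      (Nat.card_congr Equiv.ulift).trans (FiniteField.natCard_extension k p (m + 1))
    haveI : Finite K := Finite.of_equiv _ Equiv.ulift.symm
    rw [← hd, ← Groth.Agent.S13050.result (CohB1.ProjSpace.toSpec n k) K, hd, ← hc]
    exact Groth.Agent.ZetaLib.card_points
  set q : ℚ := (Nat.card k : ℚ) with hq
  have hL := (Groth.Agent.ZetaLib.logD_zetaFun (CohB1.ProjSpace.toSpec n k)).1.mul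
    (Groth.Agent.WeilLib.LogD.prod (Finset.range (n + 1)) fun i _ =>
      Groth.Agent.ZetaLib.logD_euler (q ^ i) Nat.one_pos)
  simp only [pow_one] at hL
  refine Groth.Agent.WeilLib.LogD.unique hL (H := 1) ?_ ?_
  · unfold Groth.Agent.WeilLib.LogD
    rw [Derivation.map_one_eq_zero, one_mul]
    symm
    ext m
    simp only [map_add, map_sum, PowerSeries.coeff_mk, map_zero]
    simp only [one_dvd, if_true, Nat.div_one, Nat.cast_one, hN]
    push_cast
    rw [← hq, ← Finset.sum_add_distrib]
    refine Finset.sum_eq_zero fun i _ => ?_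
    rw [← pow_mul, ← pow_mul, mul_comm i]
    ring
  · rw [map_mul, (Groth.Agent.ZetaLib.logD_zetaFun _).2, one_mul, map_prod, map_one]
    refine Finset.prod_eq_one fun i _ => ?_
    simp

end Groth.Agent.S13053
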