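import Groth.Statements.S13054
import Groth.Agent.ZetaLib.Twist

set_option autoImplicit false
universe u
open CategoryTheory AlgebraicGeometry Limits
open Zeta

namespace Groth.Agent.S13054

/-- Let X be a scheme of finite type over a finite field k, k'/k a finite extension of degree r and X' =
X ×_{Spec k} Spec k', a k'-scheme. Then Z(X', t^r) = ∏_{i = 1}^{r} Z(X, ξ^i t) for ξ a primitive
r-th root of unity; stated in ℂ⟦t⟧ with the product over the exponents 0, …, r − 1. (Reducedness of
X plays no role.) -/
theorem result {k : Type u} [Field k] [Finite k]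
    {X : Scheme.{u}} (f : X ⟶ Spec (CommRingCat.of k)) [LocallyOfFiniteType f] [QuasiCompact f]
    (k' : Type u) [Field k'] [Algebra k k'] [Finite k'] (ξ : ℂ)
    (hξ : IsPrimitiveRoot ξ (Module.finrank k k')) :
    PowerSeries.subst ((PowerSeries.X : PowerSeries ℂ) ^ Module.finrank k k')
        (PowerSeries.map (algebraMap ℚ ℂ) (Zeta.zetaFun
          (pullback.snd f (Spec.map (CommRingCat.ofHom (algebraMap k k')))))) =
      ∏ i ∈ Finset.range (Module.finrank k k'),
        PowerSeries.rescale (ξ ^ i) (PowerSeries.map (algebraMap ℚ ℂ) (Zeta.zetaFun f)) := by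
  classical
  haveI : Module.Finite k k' := Module.Finite.of_finite
  set r := Module.finrank k k' with hr
  have hr0 : 0 < r := Module.finrank_pos
  let s := Spec.map (CommRingCat.ofHom (algebraMap k k'))
  have hN : ∀ n : ℕ, 0 < n → Zeta.nPts (pullback.snd f s) n = Zeta.nPts f (r * n) := by
    intro n hn
    obtain ⟨K, _, _, _, hK⟩ := Groth.Agent.ZetaLib.exists_ext (k := k') hn
    letI : Algebra k K := ((algebraMap k' K).comp (algebraMap k k')).toAlgebra
    haveI : IsScalarTower k k' K := IsScalarTower.of_algebraMap_eq fun _ => rfl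
    rw [show r * n = Module.finrank k K by rw [← Module.finrank_mul_finrank k k' K, hK], ← hK,
      ← Groth.Agent.S13050.result (pullback.snd f s) K, ← Groth.Agent.S13050.result f K]
    have hs : Spec.map (CommRingCat.ofHom (algebraMap k' K)) ≫ s =
        Spec.map (CommRingCat.ofHom (algebraMap k K)) := by
      rw [← Spec.map_comp]; rfl
    exact Nat.card_congr
      { toFun := fun g => ⟨g.1 ≫ pullback.fst f s, by rw [Category.assoc, pullback.condition, reassoc_of% g.2, hs]⟩
        invFun := fun h => ⟨pullback.lift h.1 (Spec.map (CommRingCat.ofHom (algebraMap k' K))) (h.2.trans hs.symm),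
          pullback.lift_snd _ _ _⟩
        left_inv := fun g => Subtype.ext (pullback.hom_ext (pullback.lift_fst _ _ _)
          ((pullback.lift_snd _ _ _).trans g.2.symm))
        right_inv := fun h => Subtype.ext (pullback.lift_fst _ _ _) }
  obtain ⟨hZ', hZ'c⟩ := Groth.Agent.ZetaLib.logD_zetaFun_map (K := ℂ) (pullback.snd f s)
  obtain ⟨hZ, hZc⟩ := Groth.Agent.ZetaLib.logD_zetaFun_map (K := ℂ) f
  have hR := Groth.Agent.WeilLib.LogD.prod (Finset.range r) fun i _ =>
    Groth.Agent.ZetaLib.LogD.rescale hZ (ξ ^ i)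
  refine Groth.Agent.WeilLib.LogD.unique (Groth.Agent.ZetaLib.LogD.expand hZ' hr0) ?_ ?_
  · refine (congrArg (Groth.Agent.WeilLib.LogD _) ?_).mpr hR
    ext m
    rw [map_sum]
    simp only [PowerSeries.coeff_mk, ← pow_mul, ← Finset.sum_mul]
    simp only [mul_comm _ (m + 1), pow_mul]
    by_cases hd : r ∣ m + 1
    · rw [if_pos hd]
      obtain ⟨d, hd⟩ := hd
      have hd0 : 1 ≤ d := by rcases d with - | d <;> simp_all
      rw [hd, Nat.mul_div_cancel_left _ hr0, show d - 1 + 1 = d by omega, hN d hd0, pow_mul, hξ.pow_eq_one, one_pow]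
      simp
    · rw [if_neg hd]
      have hne : ξ ^ (m + 1) ≠ 1 := fun h => hd ((hξ.pow_eq_one_iff_dvd _).1 h)
      rw [geom_sum_eq hne, ← pow_mul, mul_comm (m + 1), pow_mul, hξ.pow_eq_one, one_pow]
      simp
  · have e1 : ∀ (c : ℂ) (F : PowerSeries ℂ),
        PowerSeries.constantCoeff (PowerSeries.rescale c F) = PowerSeries.constantCoeff F := fun c F => by
      rw [← PowerSeries.coeff_zero_eq_constantCoeff_apply, PowerSeries.coeff_rescale, pow_zero, one_mul,
        PowerSeries.coeff_zero_eq_constantCoeff_apply]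
    rw [← PowerSeries.expand_apply r hr0.ne', PowerSeries.constantCoeff_expand, hZ'c, map_prod]
    simp [e1, hZc]

end Groth.Agent.S13054
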