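import Groth.Statements.S13055
import Groth.Agent.ZetaLib.Series

set_option autoImplicit false
universe u
open CategoryTheory AlgebraicGeometry
open Zeta

namespace Groth.Agent.S13055

/-- Let X be a scheme of finite type over a finite field k with q elements and P = a_d y^d + ⋯ + a_0 ∈
ℤ[y] with N_m = P(q^m) for every m ≥ 1 (X is of polynomial count). Then Z(X, t) = ∏_{i = 0}^{d} (1 −
q^i t)^{−a_i}; stated cleared of denominators, with the factors of positive exponent moved to the
left. -/
theorem result {k : Type u} [Field k] [Finite k] {X : Scheme.{u}}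
    (f : X ⟶ Spec (CommRingCat.of k)) [LocallyOfFiniteType f] [QuasiCompact f] (P : Polynomial ℤ)
    (hP : ∀ m : ℕ, 1 ≤ m → (Zeta.nPts f m : ℤ) = P.eval ((Nat.card k : ℤ) ^ m)) :
    Zeta.zetaFun f * ∏ i ∈ Finset.range (P.natDegree + 1),
        (1 - PowerSeries.C ((Nat.card k : ℚ) ^ i) * PowerSeries.X) ^ (P.coeff i).toNat =
      ∏ i ∈ Finset.range (P.natDegree + 1),
        (1 - PowerSeries.C ((Nat.card k : ℚ) ^ i) * PowerSeries.X) ^ (-P.coeff i).toNat := by
  set q : ℚ := (Nat.card k : ℚ) with hq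
  let G : ℕ → PowerSeries ℚ := fun i => 1 - PowerSeries.C (q ^ i) * PowerSeries.X ^ 1
  have hG : ∀ i, 1 - PowerSeries.C (q ^ i) * PowerSeries.X = G i := fun i => by simp [G]
  simp only [hG]
  have hL := (Groth.Agent.ZetaLib.logD_zetaFun f).1.mul (Groth.Agent.WeilLib.LogD.prod
    (Finset.range (P.natDegree + 1)) fun i _ =>
      Groth.Agent.ZetaLib.LogD.pow (Groth.Agent.ZetaLib.logD_euler (q ^ i) Nat.one_pos) (P.coeff i).toNat)
  have hR := Groth.Agent.WeilLib.LogD.prod (Finset.range (P.natDegree + 1)) fun i _ =>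
      Groth.Agent.ZetaLib.LogD.pow (Groth.Agent.ZetaLib.logD_euler (q ^ i) Nat.one_pos) (-P.coeff i).toNat
  refine Groth.Agent.WeilLib.LogD.unique hL (H := ∏ i ∈ Finset.range (P.natDegree + 1), G i ^ (-P.coeff i).toNat) ?_ ?_
  · refine (congrArg (Groth.Agent.WeilLib.LogD _) ?_).mpr hR
    ext m
    simp only [map_add, map_sum, map_nsmul, PowerSeries.coeff_mk]
    simp only [one_dvd, if_true, Nat.div_one,
      Nat.cast_one, nsmul_eq_mul]
    have hN : (Zeta.nPts f (m + 1) : ℚ) =
        ∑ i ∈ Finset.range (P.natDegree + 1), (P.coeff i : ℚ) * (q ^ i) ^ (m + 1) := by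
      have h := congrArg (fun z : ℤ => (z : ℚ)) (hP (m + 1) (Nat.succ_pos m))
      simp only [Int.cast_natCast] at h
      rw [h, Polynomial.eval_eq_sum_range]
      push_cast
      exact Finset.sum_congr rfl fun i _ => by rw [← hq, ← pow_mul, ← pow_mul, mul_comm (m + 1) i]
    rw [hN, ← Finset.sum_add_distrib]
    refine Finset.sum_congr rfl fun i _ => ?_
    have hc : ((P.coeff i).toNat : ℚ) - ((-P.coeff i).toNat : ℚ) = (P.coeff i : ℚ) := by
      exact_mod_cast Int.toNat_sub_toNat_neg (P.coeff i)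
    linear_combination (-((q ^ i) ^ (m + 1))) * hc
  · have hc : ∀ i, PowerSeries.constantCoeff (G i) = 1 := fun i =>
      Groth.Agent.ZetaLib.constantCoeff_euler _ Nat.one_pos
    rw [map_mul, (Groth.Agent.ZetaLib.logD_zetaFun f).2, one_mul, map_prod, map_prod]
    simp only [map_pow, hc, one_pow]

end Groth.Agent.S13055
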