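import Groth.Statements.S13056
import Groth.Agent.WeilLib.ZetaSeries
-- import your own Groth.Agent.* helpers here

set_option autoImplicit false
set_option linter.style.haveILetI false
set_option linter.unusedSimpArgs false
universe u v
open Zeta

namespace Groth.Agent.S13056

/-- For an endomorphism φ of a finite-dimensional vector space over a field K, det(Id − tφ) = exp(−∑_{m
≥ 1} tr(φ^m) t^m / m) as power series in t. Stated for a square matrix M, with det(1 − tM) Mathlib's
reversed characteristic polynomial, and over a field of characteristic zero (the exponential series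
needs ℚ ⊆ K; this is the case in which the identity is used). -/
theorem result {K : Type u} [Field K] [CharZero K]
    {n : Type v} [Fintype n] [DecidableEq n] (M : Matrix n n K) :
    ((M.charpolyRev : Polynomial K) : PowerSeries K) =
      PowerSeries.subst (PowerSeries.mk fun m : ℕ => -(Matrix.trace (M ^ m)) / (m : K))
        (PowerSeries.exp K) := by
  classical
  let L : PowerSeries K := PowerSeries.mk fun m : ℕ => -(Matrix.trace (M ^ m)) / (m : K)
  have hL0 : PowerSeries.constantCoeff L = 0 := by simp [L]
  have hs : PowerSeries.HasSubst L := PowerSeries.HasSubst.of_constantCoeff_zero' hL0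
  have hD : PowerSeries.derivative K L = -PowerSeries.mk (fun m => (M ^ (m + 1)).trace) := by
    ext m
    rw [PowerSeries.coeff_derivative, PowerSeries.coeff_mk, map_neg, PowerSeries.coeff_mk]
    push_cast
    field_simp
  refine Groth.Agent.WeilLib.LogD.unique (Groth.Agent.WeilLib.derivative_charpolyRev M) ?_ ?_
  · unfold Groth.Agent.WeilLib.LogD
    rw [PowerSeries.derivative_subst hs, PowerSeries.derivative_exp, hD]
  · rw [Polynomial.constantCoeff_coe, Polynomial.coeff_zero_eq_eval_zero, Matrix.eval_charpolyRev]
    have h : PowerSeries.coeff 0 (PowerSeries.subst L (PowerSeries.exp K)) = 1 := by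
      rw [PowerSeries.coeff_subst' hs, finsum_eq_single _ 0]
      · simp
      · intro d hd
        rw [PowerSeries.coeff_zero_eq_constantCoeff_apply (φ := L ^ d), map_pow, hL0, zero_pow hd,
          smul_zero]
    rw [PowerSeries.coeff_zero_eq_constantCoeff_apply] at h
    exact h.symm

end Groth.Agent.S13056
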