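import Groth.Statements.S13057
import Mathlib

set_option autoImplicit false
universe u
open Zeta

namespace Groth.Agent.S13057

/-- A power series f = ∑_{m ≥ 0} a_m t^m over a field L lies in L(t), i.e. f · Q = P for some
polynomials P, Q with Q ≠ 0, if and only if there are natural numbers M, N such that the vectors
(a_i, a_{i+1}, …, a_{i+N}) ∈ L^{N+1}, i ≥ M, span a proper subspace. -/
theorem result {L : Type u} [Field L]
    (f : PowerSeries L) :
    (∃ P Q : Polynomial L, Q ≠ 0 ∧ f * (Q : PowerSeries L) = (P : PowerSeries L)) ↔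
      ∃ M N : ℕ, Submodule.span L
          {v : Fin (N + 1) → L | ∃ i : ℕ, M ≤ i ∧ v = fun j : Fin (N + 1) => PowerSeries.coeff (i + (j : ℕ)) f} ≠ ⊤ := by
  constructor
  · rintro ⟨P, Q, hQ, h⟩
    refine ⟨P.natDegree + 1, Q.natDegree, fun htop ↦ ?_⟩
    let φ : (Fin (Q.natDegree + 1) → L) →ₗ[L] L :=
      ∑ j, Q.coeff (Q.natDegree - j.1) • LinearMap.proj j
    have hφ : Submodule.span L {v : Fin (Q.natDegree + 1) → L | ∃ i : ℕ, P.natDegree + 1 ≤ i ∧ v = fun j : Fin (Q.natDegree + 1) => PowerSeries.coeff (i + (j : ℕ)) f} ≤ LinearMap.ker φ := by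
      rw [Submodule.span_le]
      rintro v ⟨i, hi, rfl⟩
      have := congrArg (PowerSeries.coeff (i + Q.natDegree)) h
      rw [Polynomial.coeff_coe, Polynomial.coeff_eq_zero_of_natDegree_lt (by omega), PowerSeries.coeff_mul] at this
      show φ _ = 0
      simp only [φ, LinearMap.sum_apply, LinearMap.smul_apply, LinearMap.proj_apply, smul_eq_mul]
      rw [Finset.Nat.sum_antidiagonal_eq_sum_range_succ (fun a b ↦ PowerSeries.coeff a f * PowerSeries.coeff b (Q : PowerSeries L)),
        Nat.succ_eq_add_one, show i + Q.natDegree + 1 = i + (Q.natDegree + 1) by omega, Finset.sum_range_add] at this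
      rw [Fin.sum_univ_eq_sum_range (fun j ↦ Q.coeff (Q.natDegree - j) * PowerSeries.coeff (i + j) f), ← this,
        Finset.sum_eq_zero (s := Finset.range i), zero_add]
      · refine Finset.sum_congr rfl fun j hj ↦ ?_
        rw [Polynomial.coeff_coe, mul_comm, show i + Q.natDegree - (i + j) = Q.natDegree - j by omega]
      · intro j hj
        rw [Finset.mem_range] at hj
        rw [Polynomial.coeff_coe, Polynomial.coeff_eq_zero_of_natDegree_lt (by omega), mul_zero]
    rw [htop, top_le_iff, LinearMap.ker_eq_top] at hφ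
    have := LinearMap.congr_fun hφ (Pi.single 0 1)
    simp only [φ, LinearMap.sum_apply, LinearMap.smul_apply, LinearMap.proj_apply, smul_eq_mul, LinearMap.zero_apply] at this
    rw [Finset.sum_eq_single 0 (fun j _ hj ↦ by rw [Pi.single_eq_of_ne hj, mul_zero]) (by simp),
      Pi.single_eq_same, mul_one, Fin.val_zero, Nat.sub_zero] at this
    exact Polynomial.leadingCoeff_ne_zero.mpr hQ this
  · rintro ⟨M, N, hS⟩
    obtain ⟨φ, hφ0, hφ⟩ := Submodule.exists_dual_map_eq_bot_of_lt_top (lt_top_iff_ne_top.mpr hS) inferInstance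
    let c : Fin (N + 1) → L := fun j ↦ φ (Pi.single j 1)
    have hφc : ∀ v, φ v = ∑ j, v j * c j := fun v ↦ by
      conv_lhs => rw [pi_eq_sum_univ v, map_sum]
      refine Finset.sum_congr rfl fun j _ ↦ ?_
      rw [map_smul, smul_eq_mul]
      congr 2
      funext l; simp [Pi.single_apply, eq_comm]
    let Q : Polynomial L := ∑ j : Fin (N + 1), Polynomial.monomial (N - j.1) (c j)
    have hQc : ∀ j : Fin (N + 1), Q.coeff (N - j.1) = c j := fun j ↦ by
      simp only [Q, Polynomial.finset_sum_coeff, Polynomial.coeff_monomial]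
      rw [Finset.sum_eq_single j]
      · simp
      · intro l _ hl
        rw [if_neg]
        intro e
        exact hl (Fin.ext (by have := l.2; have := j.2; omega))
      · simp
    refine ⟨PowerSeries.trunc (M + N) (f * Q), Q, fun h0 ↦ hφ0 (LinearMap.ext fun v ↦ ?_), ?_⟩
    · rw [hφc]; simp only [LinearMap.zero_apply]
      refine Finset.sum_eq_zero fun j _ ↦ ?_
      rw [← hQc j, h0, Polynomial.coeff_zero, mul_zero]
    · ext n
      rw [Polynomial.coeff_coe, PowerSeries.coeff_trunc]
      split_ifs with hn
      · rfl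
      · obtain ⟨i, rfl⟩ : ∃ i, n = i + N := ⟨n - N, by omega⟩
        have hv : φ (fun j : Fin (N + 1) => PowerSeries.coeff (i + (j : ℕ)) f) = 0 := by
          have : φ (fun j : Fin (N + 1) => PowerSeries.coeff (i + (j : ℕ)) f) ∈ (⊥ : Submodule L L) := by
            rw [← hφ]; exact Submodule.mem_map_of_mem (Submodule.subset_span ⟨i, by omega, rfl⟩)
          exact (Submodule.mem_bot L).mp this
        rw [hφc] at hv
        rw [← hv, PowerSeries.coeff_mul,
          Finset.Nat.sum_antidiagonal_eq_sum_range_succ (fun a b ↦ PowerSeries.coeff a f * PowerSeries.coeff b (Q : PowerSeries L)),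
          Nat.succ_eq_add_one, show i + N + 1 = i + (N + 1) by omega, Finset.sum_range_add,
          Finset.sum_eq_zero (s := Finset.range i), zero_add, ← Fin.sum_univ_eq_sum_range]
        · refine Finset.sum_congr rfl fun j _ ↦ ?_
          rw [Polynomial.coeff_coe, show i + N - (i + j.1) = N - j.1 by omega, hQc]
        · intro j hj
          rw [Finset.mem_range] at hj
          have : Q.coeff (i + N - j) = 0 := by
            simp only [Q, Polynomial.finset_sum_coeff, Polynomial.coeff_monomial]
            exact Finset.sum_eq_zero fun l _ ↦ if_neg (by have := l.2; omega)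
          rw [Polynomial.coeff_coe, this, mul_zero]

end Groth.Agent.S13057
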