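import Groth.Statements.S13058
import Mathlib

set_option autoImplicit false
universe u v
open Zeta

namespace Groth.Agent.S13058

/-- If L'/L is a field extension, a power series f ∈ L⟦t⟧ belongs to L(t) exactly when it belongs to
L'(t); here membership in L(t) means f · Q = P for polynomials P, Q over the field in question with
Q ≠ 0. -/
theorem result {L : Type u} {L' : Type v} [Field L] [Field L']
    [Algebra L L'] (f : PowerSeries L) :
    (∃ P Q : Polynomial L', Q ≠ 0 ∧
        PowerSeries.map (algebraMap L L') f * (Q : PowerSeries L') = (P : PowerSeries L')) ↔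
      ∃ P Q : Polynomial L, Q ≠ 0 ∧ f * (Q : PowerSeries L) = (P : PowerSeries L) := by
  constructor
  · rintro ⟨P, Q, hQ, h⟩
    obtain ⟨n, hn⟩ : ∃ n, Q.coeff n ≠ 0 := ⟨_, Polynomial.leadingCoeff_ne_zero.mpr hQ⟩
    obtain ⟨π, hπ⟩ : ∃ π : L' →ₗ[L] L, π (Q.coeff n) ≠ 0 := by
      by_contra hc; push Not at hc
      exact hn ((Module.forall_dual_apply_eq_zero_iff L (Q.coeff n)).mp hc)
    let p : Polynomial L' → Polynomial L := fun R ↦ ∑ i ∈ R.support, Polynomial.monomial i (π (R.coeff i))
    have hp : ∀ R i, (p R).coeff i = π (R.coeff i) := fun R i ↦ by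
      simp only [p, Polynomial.finset_sum_coeff, Polynomial.coeff_monomial, Finset.sum_ite_eq', Polynomial.mem_support_iff]
      split_ifs with hi
      · rfl
      · rw [Polynomial.notMem_support_iff.mp hi, map_zero]
    refine ⟨p P, p Q, fun h0 ↦ hπ (by rw [← hp, h0, Polynomial.coeff_zero]), ?_⟩
    ext m
    have := congrArg (fun g ↦ π (PowerSeries.coeff m g)) h
    simp only [PowerSeries.coeff_mul, PowerSeries.coeff_map, Polynomial.coeff_coe, map_sum] at this
    rw [PowerSeries.coeff_mul, Polynomial.coeff_coe, hp, ← this]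
    refine Finset.sum_congr rfl fun x _ ↦ ?_
    rw [Polynomial.coeff_coe, hp, ← Algebra.smul_def, map_smul, smul_eq_mul]
  · rintro ⟨P, Q, hQ, h⟩
    refine ⟨P.map (algebraMap L L'), Q.map (algebraMap L L'),
      (Polynomial.map_ne_zero_iff (algebraMap L L').injective).mpr hQ, ?_⟩
    rw [Polynomial.polynomial_map_coe, Polynomial.polynomial_map_coe, ← map_mul, h]

end Groth.Agent.S13058
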