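import Groth.Statements.S13059
import Mathlib

set_option autoImplicit false
universe u
open Zeta

namespace Groth.Agent.S13059

/-- Let B : V × W → K be a perfect pairing of finite-dimensional vector spaces over a field K, c ∈ K
nonzero, and f, g endomorphisms of V, W with B(f v, g w) = c · B(v, w) for all v, w. Then det(Id − t
g) = (−1)^r c^r t^r det(f)^{−1} det(Id − c^{−1} t^{−1} f) with r the common dimension; stated
cleared of denominators as det(f) · det(Id − t g) = (−1)^r c^r · det(t Id − c^{−1} f) in K[t],
det(Id − t g) being the reverse of the characteristic polynomial of g. -/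
theorem result (K : Type u) [Field K] (V W : Type u)
    [AddCommGroup V] [Module K V] [FiniteDimensional K V] [AddCommGroup W] [Module K W]
    [FiniteDimensional K W] (B : V →ₗ[K] W →ₗ[K] K) [B.IsPerfPair] (f : V →ₗ[K] V) (g : W →ₗ[K] W)
    (c : K) (hc : c ≠ 0) (hfg : ∀ (v : V) (w : W), B (f v) (g w) = c * B v w) :
    LinearMap.det f • (LinearMap.charpoly g).reverse =
      ((-1) ^ Module.finrank K W * c ^ Module.finrank K W) • (c⁻¹ • f).charpoly := by
  classical
  let b := Module.finBasis K W
  let e : V ≃ₗ[K] Module.Dual K W := B.toPerfPair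
  have h : (g.dualMap.comp e.toLinearMap).comp f = c • e.toLinearMap :=
    LinearMap.ext fun v => LinearMap.ext fun w => hfg v w
  let bv := b.dualBasis.map e.symm
  set F := LinearMap.toMatrix bv bv f
  set G := LinearMap.toMatrix b b g
  have hFG : G.transpose * F = c • 1 := by
    have h2 := congrArg (LinearMap.toMatrix bv b.dualBasis) h
    rw [LinearMap.toMatrix_comp bv bv b.dualBasis, LinearMap.toMatrix_comp bv b.dualBasis b.dualBasis, map_smul] at h2
    have ht : LinearMap.toMatrix b.dualBasis b.dualBasis g.dualMap = G.transpose := LinearMap.toMatrix_transpose g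
    rw [ht] at h2
    have he : LinearMap.toMatrix bv b.dualBasis e.toLinearMap = 1 := by
      refine Matrix.ext fun i j => ?_
      rw [LinearMap.toMatrix_apply]
      simp [bv, Matrix.one_apply, Finsupp.single_apply, eq_comm]
    rwa [he, Matrix.mul_one] at h2
  rw [← LinearMap.det_toMatrix bv f, ← LinearMap.charpoly_toMatrix g b, ← LinearMap.charpoly_toMatrix (c⁻¹ • f) bv, map_smul,
    Matrix.reverse_charpoly, ← show G.transpose.charpolyRev = G.charpolyRev by simp [Matrix.charpolyRev, ← Matrix.det_transpose (1 - (Polynomial.X : Polynomial K) • G.map Polynomial.C), Matrix.transpose_map]]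
  unfold Matrix.charpolyRev Matrix.charpoly Matrix.charmatrix
  rw [Polynomial.smul_eq_C_mul, Polynomial.smul_eq_C_mul, RingHom.map_det, ← Matrix.det_mul, map_mul, map_pow, map_pow, map_neg,
    map_one, ← mul_pow, neg_one_mul]
  rw [← show ∀ A : Matrix (Fin (Module.finrank K W)) (Fin (Module.finrank K W)) (Polynomial K),
      ((-Polynomial.C c) • A).det = (-Polynomial.C c) ^ Module.finrank K W * A.det from fun A => by
        rw [Matrix.det_smul, Fintype.card_fin], Matrix.det_mul_comm]
  congr 1
  rw [Matrix.sub_mul, Matrix.one_mul, RingHom.mapMatrix_apply, Matrix.smul_mul, ← Matrix.map_mul, hFG]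
  refine Matrix.ext fun i j => ?_
  by_cases hij : i = j
  · subst hij
    simp [mul_sub, ← mul_assoc, ← map_mul, hc, Polynomial.C_mul']
    ring
  · simp [hij, ← mul_assoc, ← map_mul, hc, Matrix.smul_apply]

end Groth.Agent.S13059
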