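import Groth.Statements.S13060
import Mathlib

set_option autoImplicit false
universe u v w x
open TensorProduct
open Zeta

namespace Groth.Agent.S13060

/-- Let k be a field, V and W vector spaces over k and G a group acting on V by k-linear automorphisms;
for the induced action on V ⊗_k W (trivial on W) one has (V ⊗_k W)^G = V^G ⊗_k W, i.e. the
invariants of V ⊗ W are the image of V^G ⊗ W → V ⊗ W. -/
theorem result {k : Type u} [Field k] {G : Type v} [Group G]
    {V : Type w} {W : Type x} [AddCommGroup V] [Module k V] [AddCommGroup W] [Module k W]
    (ρ : Representation k G V) :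
    (ρ.tprod (Representation.trivial k G W)).invariants =
      LinearMap.range (TensorProduct.map ρ.invariants.subtype (LinearMap.id : W →ₗ[k] W)) := by
  classical
  let b := Module.Basis.ofVectorSpace k W
  let E : V ⊗[k] W ≃ₗ[k] (_ →₀ V) := TensorProduct.equivFinsuppOfBasisRight b
  have hE : ∀ (h : G) (x : V ⊗[k] W) i, E ((ρ.tprod (Representation.trivial k G W)) h x) i = ρ h (E x i) := fun h x i => by
    induction x using TensorProduct.induction_on with
    | zero => simp
    | tmul v w => simp [E, Representation.tprod_apply, Representation.trivial]
    | add a c ha hc => simp only [map_add, Finsupp.add_apply, ha, hc]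
  refine le_antisymm (fun x hx => ?_) ?_
  · have hfix : ∀ i, E x i ∈ ρ.invariants := fun i h => by rw [← hE, hx h]
    rw [← E.symm_apply_apply x, ← Finsupp.sum_single (E x), Finsupp.sum, map_sum]
    refine Submodule.sum_mem _ fun i _ => ⟨(⟨E x i, hfix i⟩ : ρ.invariants) ⊗ₜ[k] b i, ?_⟩
    refine E.injective ?_
    rw [E.apply_symm_apply, TensorProduct.map_tmul]
    refine Finsupp.ext fun j => ?_
    simp [E, Finsupp.single_apply]
  · rintro _ ⟨y, rfl⟩ h
    induction y using TensorProduct.induction_on with
    | zero => simp
    | tmul v w => simp [Representation.tprod_apply, Representation.trivial, v.2 h]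
    | add a c ha hc => simp only [map_add, ha, hc]

end Groth.Agent.S13060
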