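import Groth.Statements.S13061
import Mathlib

set_option autoImplicit false
universe u v w
open Zeta

namespace Groth.Agent.S13061

/-- Let A be a commutative algebra over a field k, G a finite group acting on A by k-algebra
automorphisms and I ⊆ A an ideal preserved by G. If p^n is the largest power of p = char(k) dividing
|G| (with p^n = 1 when char(k) = 0), then for every G-invariant b ∈ A/I the power b^{p^n} lies in
the image of A^G → (A/I)^G. (The published statement takes A finitely generated over k, which the
proof does not use.) -/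
theorem result {k : Type u} [Field k]
    {A : Type v} [CommRing A] [Algebra k A] {G : Type w} [Group G] [Finite G]
    [MulSemiringAction G A] [SMulCommClass G k A] (I : Ideal A)
    (hI : ∀ (g : G) (a : A), a ∈ I → g • a ∈ I) (u : A) (hu : ∀ g : G, g • u - u ∈ I) :
    ∃ a : A, (∀ g : G, g • a = a) ∧
      Ideal.Quotient.mk I a =
        Ideal.Quotient.mk I u ^ (ringChar k ^ (Nat.card G).factorization (ringChar k)) := by
  classical
  haveI := Fintype.ofFinite G
  set p := ringChar k
  set q := p ^ (Nat.card G).factorization p
  set N := Nat.card G with hNdef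
  have hN : 0 < N := Nat.card_pos
  haveI : CharP k p := ringChar.charP k
  have hch : ((N.choose q : ℕ) : k) ≠ 0 := by
    rcases CharP.char_is_prime_or_zero k p with hp | hp
    · haveI : Fact p.Prime := ⟨hp⟩
      set v := N.factorization p
      set m := N / p ^ v
      have hNm : N = p ^ v * m := (Nat.mul_div_cancel' (Nat.ordProj_dvd N p)).symm
      have hm : ¬ p ∣ m := Nat.not_dvd_ordCompl hp hN.ne'
      haveI : CharP (Polynomial k) p := inferInstance
      have hexp : (Polynomial.expand k (p ^ v)) ((Polynomial.X + 1) ^ m) = (Polynomial.X + 1 : Polynomial k) ^ N := by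
        rw [map_pow, map_add, map_one, Polynomial.expand_X, hNm, pow_mul, add_pow_char_pow, one_pow]
      rw [← Polynomial.coeff_X_add_one_pow, ← hexp, Polynomial.coeff_expand (pow_pos hp.pos v), if_pos dvd_rfl,
        Nat.div_self (pow_pos hp.pos v), Polynomial.coeff_X_add_one_pow, Nat.choose_one_right, Ne,
        CharP.cast_eq_zero_iff k p]
      exact hm
    · haveI : CharP k 0 := hp ▸ inferInstance
      haveI := CharP.charP_to_charZero k
      rw [show q = 1 by simp [q, hp], Nat.choose_one_right]
      exact Nat.cast_ne_zero.2 hN.ne'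
  let E : A := ∑ t ∈ Finset.powersetCard q (Finset.univ : Finset G), ∏ g ∈ t, g • u
  refine ⟨algebraMap k A ((N.choose q : k))⁻¹ * E, fun g => ?_, ?_⟩
  · rw [smul_mul', smul_algebraMap]
    congr 1
    rw [Finset.smul_sum]
    refine Finset.sum_bij' (fun t _ => t.map (Equiv.mulLeft g).toEmbedding)
      (fun t _ => t.map (Equiv.mulLeft g).symm.toEmbedding) ?_ ?_ ?_ ?_ ?_
    · intro t ht; simp [Finset.mem_powersetCard] at ht ⊢; exact ht
    · intro t ht; simp [Finset.mem_powersetCard] at ht ⊢; exact ht
    · intro t _; ext a; simp [mul_assoc]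
    · intro t _; ext a; simp [mul_assoc]
    · intro t _; rw [Finset.smul_prod', Finset.prod_map]; exact Finset.prod_congr rfl fun h _ => (mul_smul g h u).symm
  · have hE : Ideal.Quotient.mk I E = (N.choose q : A ⧸ I) * Ideal.Quotient.mk I u ^ q := by
      rw [map_sum, Finset.sum_congr rfl fun t ht => ?_, Finset.sum_const, Finset.card_powersetCard, nsmul_eq_mul,
        Finset.card_univ, ← Nat.card_eq_fintype_card]
      rw [map_prod, Finset.prod_congr rfl fun g _ => show Ideal.Quotient.mk I (g • u) = Ideal.Quotient.mk I u from
        Ideal.Quotient.eq.2 (hu g), Finset.prod_const, (Finset.mem_powersetCard.1 ht).2]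
    rw [map_mul, hE, ← mul_assoc, ← map_natCast (algebraMap k (A ⧸ I)) (N.choose q),
      Ideal.Quotient.mk_algebraMap, ← map_mul, inv_mul_cancel₀ hch, map_one, one_mul]

end Groth.Agent.S13061
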