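import Groth.Statements.S13065
import Mathlib

set_option autoImplicit false
universe u
open Zeta

namespace Groth.Agent.S13065

/-- Let k be a finite field with q elements and characteristic p, n ≥ 2, and f ∈ k[x_0, …, x_n]
homogeneous of degree n + 1, defining the hypersurface Z ⊂ P^n_k. Then #Z(F_q) ≢ 1 (mod p) if and
only if the coefficient of (x_0 ⋯ x_n)^{q−1} in f^{q−1} is nonzero. Stated through the affine count:
#Z(F_q) ≡ 1 (mod p) exactly when p divides the number of zeros of f in k^{n+1} (as (q − 1) #Z(F_q) +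
1 is that number). -/
theorem result {k : Type u} [Field k] [Finite k] (p : ℕ)
    [CharP k p] (n : ℕ) (hn : 2 ≤ n) (f : MvPolynomial (Fin (n + 1)) k)
    (hf : f.IsHomogeneous (n + 1)) :
    p ∣ Nat.card {a : Fin (n + 1) → k // MvPolynomial.eval a f = 0} ↔
      MvPolynomial.coeff (Finsupp.equivFunOnFinite.symm fun _ : Fin (n + 1) => Nat.card k - 1)
        (f ^ (Nat.card k - 1)) = 0 := by
  classical
  letI := Fintype.ofFinite k
  set q := Nat.card k with hq
  have hqc : q = Fintype.card k := Nat.card_eq_fintype_card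
  have hq2 : 2 ≤ q := by rw [hqc]; exact Fintype.one_lt_card
  set Q : Fin (n + 1) →₀ ℕ := Finsupp.equivFunOnFinite.symm fun _ => q - 1 with hQ
  have hpow : ∀ d : ℕ, d = q - 1 → ∑ x : k, x ^ d = -1 := by
    rintro d rfl
    have h1 : ∀ x : k, x ^ (q - 1) = 1 - (if x = 0 then 1 else 0) := fun x => by
      by_cases hx : x = 0
      · rw [if_pos hx, sub_self, hx, zero_pow (by omega)]
      · rw [if_neg hx, sub_zero, hqc, FiniteField.pow_card_sub_one_eq_one x hx]
    rw [Finset.sum_congr rfl fun x _ => h1 x, Finset.sum_sub_distrib, Finset.sum_ite_eq' Finset.univ (0 : k), if_pos (Finset.mem_univ _)]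
    simp
  have hhom : (f ^ (q - 1)).IsHomogeneous ((n + 1) * (q - 1)) := hf.pow (q - 1)
  have hmono : ∀ d ∈ (f ^ (q - 1)).support, d ≠ Q → ∑ a : Fin (n + 1) → k, ∏ i, a i ^ d i = 0 := by
    intro d hd hne
    obtain ⟨i, hi⟩ : ∃ i, d i < q - 1 := by
      by_contra hge
      push Not at hge
      have hs : ∑ i, d i = (n + 1) * (q - 1) := by
        have h := hhom (MvPolynomial.mem_support_iff.1 hd)
        rw [Finsupp.weight_apply, Finsupp.sum_fintype _ _ (fun i => by simp)] at h
        simpa using h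
      refine hne (Finsupp.ext fun i => ?_)
      have hQi : Q i = q - 1 := by simp [Q]
      rw [hQi]
      have h2 : ∑ i : Fin (n + 1), (q - 1) = ∑ i, d i := by rw [hs]; simp
      exact ((Finset.sum_eq_sum_iff_of_le fun i _ => hge i).1 h2 i (Finset.mem_univ i)).symm
    rw [← Fintype.prod_sum (fun i x => x ^ d i)]
    exact Finset.prod_eq_zero (Finset.mem_univ i) (FiniteField.sum_pow_lt_card_sub_one k (d i) (by omega))
  have hsum : ∑ a : Fin (n + 1) → k, MvPolynomial.eval a (f ^ (q - 1)) = MvPolynomial.coeff Q (f ^ (q - 1)) * (-1) ^ (n + 1) := by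
    simp only [MvPolynomial.eval_eq']
    rw [Finset.sum_comm]
    simp only [← Finset.mul_sum]
    rw [Finset.sum_eq_single Q (fun d hd hne => by rw [hmono d hd hne, mul_zero]) (fun hd => by rw [MvPolynomial.notMem_support_iff.1 hd, zero_mul])]
    congr 1
    rw [← Fintype.prod_sum (fun i x => x ^ Q i), Finset.prod_congr rfl fun i _ => hpow (Q i) (by simp [Q])]
    simp
  have hN : (Nat.card {a : Fin (n + 1) → k // MvPolynomial.eval a f = 0} : k) = -(MvPolynomial.coeff Q (f ^ (q - 1)) * (-1) ^ (n + 1)) := by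
    rw [← hsum, Nat.card_eq_fintype_card, Fintype.card_subtype, Finset.card_filter, Nat.cast_sum]
    have h1 : ∀ a : Fin (n + 1) → k, ((if MvPolynomial.eval a f = 0 then 1 else 0 : ℕ) : k) = 1 - MvPolynomial.eval a (f ^ (q - 1)) := fun a => by
      rw [map_pow]
      by_cases ha : MvPolynomial.eval a f = 0
      · rw [if_pos ha, ha, zero_pow (by omega), sub_zero, Nat.cast_one]
      · rw [if_neg ha, hqc, FiniteField.pow_card_sub_one_eq_one _ ha, sub_self, Nat.cast_zero]
    rw [Finset.sum_congr rfl fun a _ => h1 a, Finset.sum_sub_distrib]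
    simp
  rw [← CharP.cast_eq_zero_iff k p, hN, neg_eq_zero, mul_eq_zero, or_iff_left (pow_ne_zero _ (neg_ne_zero.2 one_ne_zero))]

end Groth.Agent.S13065
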