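import Groth.Statements.S13066
import Mathlib

set_option autoImplicit false
universe u
open Zeta

namespace Groth.Agent.S13066

/-- Let k be a finite field with q elements and characteristic p, n ≥ 2, and f ∈ k[x_0, …, x_n]
homogeneous of degree n + 1. Then the coefficient of (x_0 ⋯ x_n)^{q−1} in f^{q−1} is nonzero if and
only if the coefficient of (x_0 ⋯ x_n)^{p−1} in f^{p−1} is nonzero. -/
theorem result {k : Type u} [Field k] [Finite k]
    (p : ℕ) [CharP k p] (n : ℕ) (hn : 2 ≤ n) (f : MvPolynomial (Fin (n + 1)) k)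
    (hf : f.IsHomogeneous (n + 1)) :
    MvPolynomial.coeff (Finsupp.equivFunOnFinite.symm fun _ : Fin (n + 1) => Nat.card k - 1)
        (f ^ (Nat.card k - 1)) ≠ 0 ↔
      MvPolynomial.coeff (Finsupp.equivFunOnFinite.symm fun _ : Fin (n + 1) => p - 1)
        (f ^ (p - 1)) ≠ 0 := by
  classical
  letI := Fintype.ofFinite k
  haveI hp : Fact p.Prime := ⟨CharP.char_is_prime k p⟩
  have hp1 := hp.out.one_lt
  obtain ⟨e, -, he⟩ := FiniteField.card k p
  rw [Nat.card_eq_fintype_card, he]
  let c : ℕ → k := fun j => MvPolynomial.coeff (Finsupp.equivFunOnFinite.symm fun _ : Fin (n + 1) => p ^ j - 1) (f ^ (p ^ j - 1))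
  have key : ∀ j, c (j + 1) = MvPolynomial.coeff (Finsupp.equivFunOnFinite.symm fun _ : Fin (n + 1) => p - 1) (f ^ (p - 1)) * c j ^ p := by
    intro j
    have hpj : 1 ≤ p ^ j := Nat.one_le_pow _ _ hp.out.pos
    have harith : p ^ (j + 1) - 1 = (p - 1) + p * (p ^ j - 1) := by
      obtain ⟨m, hm⟩ := Nat.exists_eq_add_of_le hpj
      rw [pow_succ, hm, Nat.add_sub_cancel_left, add_mul, one_mul, mul_comm m p]; omega
    set E₀ : Fin (n + 1) →₀ ℕ := Finsupp.equivFunOnFinite.symm fun _ => p - 1 with hE₀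
    set E₁ : Fin (n + 1) →₀ ℕ := Finsupp.equivFunOnFinite.symm fun _ => p ^ j - 1 with hE₁
    have hE : (Finsupp.equivFunOnFinite.symm fun _ : Fin (n + 1) => p ^ (j + 1) - 1) = E₀ + p • E₁ := by
      ext i
      simp [hE₀, hE₁, harith]
    show MvPolynomial.coeff _ (f ^ (p ^ (j + 1) - 1)) = _
    rw [hE, show f ^ (p ^ (j + 1) - 1) = f ^ (p - 1) * MvPolynomial.map (frobenius k p) (MvPolynomial.expand p (f ^ (p ^ j - 1))) by
      rw [MvPolynomial.map_frobenius_expand, ← pow_mul, ← pow_add, harith, mul_comm], MvPolynomial.coeff_mul]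
    rw [Finset.sum_eq_single (E₀, p • E₁)]
    · rw [MvPolynomial.coeff_map, MvPolynomial.coeff_expand_smul (hp := hp.out.ne_zero), frobenius_def]
    · rintro ⟨d₀, d₁⟩ hd hne
      rw [Finset.HasAntidiagonal.mem_antidiagonal] at hd
      by_contra h0
      obtain ⟨h0a, h0b⟩ := mul_ne_zero_iff.1 h0
      rw [MvPolynomial.coeff_map] at h0b
      have h0b' : MvPolynomial.coeff d₁ (MvPolynomial.expand p (f ^ (p ^ j - 1))) ≠ 0 := fun h => h0b (by rw [h, map_zero])
      have hdvd : ∀ i, p ∣ d₁ i := fun i => by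
        by_contra hi
        exact h0b' (MvPolynomial.coeff_expand_of_not_dvd _ hi)
      have hge : ∀ i, p - 1 ≤ d₀ i := fun i => by
        have h := DFunLike.congr_fun hd i
        simp only [Finsupp.add_apply, Finsupp.smul_apply, smul_eq_mul, hE₀, hE₁, Finsupp.equivFunOnFinite_symm_apply_apply] at h
        obtain ⟨m, hm⟩ := hdvd i
        rw [hm] at h
        by_contra hlt
        have : p * m + d₀ i = p * (p ^ j - 1) + (p - 1) := by omega
        have h2 := congrArg (· % p) this
        simp only [Nat.mul_add_mod, Nat.mod_eq_of_lt (show d₀ i < p by omega), Nat.mod_eq_of_lt (show p - 1 < p by omega)] at h2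
        omega
      have hs : ∑ i, d₀ i = (n + 1) * (p - 1) := by
        have h := (hf.pow (p - 1)) h0a
        rw [Finsupp.weight_apply, Finsupp.sum_fintype _ _ (fun i => by simp)] at h
        simpa using h
      have hd0 : d₀ = E₀ := Finsupp.ext fun i => by
        have h2 : ∑ i : Fin (n + 1), (p - 1) = ∑ i, d₀ i := by rw [hs]; simp
        rw [hE₀, Finsupp.equivFunOnFinite_symm_apply_apply]
        exact ((Finset.sum_eq_sum_iff_of_le fun i _ => hge i).1 h2 i (Finset.mem_univ i)).symm
      subst hd0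
      exact hne (Prod.ext rfl (add_left_cancel hd))
    · intro h; exact absurd (Finset.HasAntidiagonal.mem_antidiagonal.2 (show (E₀, p • E₁).1 + (E₀, p • E₁).2 = E₀ + p • E₁ from rfl)) h
  have h0 : c 0 = 1 := by
    show MvPolynomial.coeff _ (f ^ (p ^ 0 - 1)) = 1
    rw [show p ^ 0 - 1 = 0 from rfl, pow_zero, show (Finsupp.equivFunOnFinite.symm fun _ : Fin (n + 1) => 0) = 0 from Finsupp.ext fun _ => rfl]
    exact MvPolynomial.coeff_zero_one
  have hiff : ∀ j, 0 < j → (c j ≠ 0 ↔ MvPolynomial.coeff (Finsupp.equivFunOnFinite.symm fun _ : Fin (n + 1) => p - 1) (f ^ (p - 1)) ≠ 0) := by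
    intro j
    induction j with
    | zero => intro h; exact absurd h (lt_irrefl 0)
    | succ j ih =>
      intro _
      rw [key]
      rcases Nat.eq_zero_or_pos j with rfl | hj
      · rw [h0, one_pow, mul_one]
      · rw [mul_ne_zero_iff, pow_ne_zero_iff hp.out.ne_zero, ih hj, and_self]
  exact hiff e e.2

end Groth.Agent.S13066
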