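import Groth.Statements.S13075
import Mathlib

set_option autoImplicit false
open Zeta

namespace Groth.Agent.S13075

/-- For the formal power series exp(t) = ∑_{m ≥ 0} t^m / m! and log(1 + t) = ∑_{m ≥ 1} (−1)^{m+1} t^m /
m over ℚ, log(exp(u)) = u and exp(log(1 + u)) = 1 + u for every u ∈ tℚ⟦t⟧; stated for u = t (the
general case is obtained by substitution): substituting exp(t) − 1 into log(1 + ·) gives t, and
substituting log(1 + t) into exp gives 1 + t. -/
theorem result :
    PowerSeries.subst (PowerSeries.exp ℚ - 1)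
        (PowerSeries.mk fun m : ℕ => if m = 0 then (0 : ℚ) else (-1) ^ (m + 1) / (m : ℚ)) =
      PowerSeries.X ∧
    PowerSeries.subst (PowerSeries.mk fun m : ℕ => if m = 0 then (0 : ℚ) else (-1) ^ (m + 1) / (m : ℚ))
        (PowerSeries.exp ℚ) = 1 + PowerSeries.X := by
  have hL : PowerSeries.mk (fun m : ℕ => if m = 0 then (0 : ℚ) else (-1) ^ (m + 1) / (m : ℚ)) = PowerSeries.log ℚ := by
    ext n; simp [PowerSeries.log]
  rw [hL]
  have hE : PowerSeries.HasSubst (PowerSeries.exp ℚ - 1) := PowerSeries.HasSubst.exp_sub_one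
  have hgeo : PowerSeries.mk (fun n : ℕ ↦ algebraMap ℚ ℚ ((-1) ^ n)) * (1 + PowerSeries.X) = 1 := by
    ext n
    rw [mul_add, mul_one, map_add]
    rcases n with _ | n
    · simp
    · rw [PowerSeries.coeff_succ_mul_X, PowerSeries.coeff_mk, PowerSeries.coeff_mk, PowerSeries.coeff_one, if_neg (Nat.succ_ne_zero n)]
      simp [pow_succ]
  have hsubone : ∀ {a : PowerSeries ℚ}, PowerSeries.HasSubst a → PowerSeries.subst a (1 : PowerSeries ℚ) = 1 := fun ha ↦ by
    rw [← PowerSeries.coe_substAlgHom ha, map_one]
  have h1 : PowerSeries.subst (PowerSeries.exp ℚ - 1) (PowerSeries.log ℚ) = PowerSeries.X := by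
    apply PowerSeries.derivative.ext
    · rw [PowerSeries.derivative_subst hE, PowerSeries.deriv_log, map_sub, PowerSeries.derivative_exp,
        Derivation.map_one_eq_zero, sub_zero, PowerSeries.derivative_X]
      have := congrArg (PowerSeries.subst (PowerSeries.exp ℚ - 1)) hgeo
      rw [PowerSeries.subst_mul hE, PowerSeries.subst_add hE, hsubone hE, PowerSeries.subst_X hE,
        add_sub_cancel] at this
      exact this
    · rw [PowerSeries.constantCoeff_X]
      exact PowerSeries.constantCoeff_subst_eq_zero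
        (by rw [map_sub, map_one, ← PowerSeries.constantCoeff_eq, PowerSeries.constantCoeff_exp, sub_self]) _ PowerSeries.constantCoeff_log
  refine ⟨h1, ?_⟩
  have : Invertible (PowerSeries.coeff 1 (PowerSeries.log ℚ)) := PowerSeries.coeff_one_log (A := ℚ) ▸ invertibleOne
  have hLs : PowerSeries.HasSubst (PowerSeries.log ℚ) := PowerSeries.HasSubst.log
  have hleft := PowerSeries.subst_substInv_left (PowerSeries.log ℚ) PowerSeries.constantCoeff_log
  have hEL : PowerSeries.substInv (PowerSeries.log ℚ) = PowerSeries.exp ℚ - 1 := by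
    have := congrArg (PowerSeries.subst (PowerSeries.exp ℚ - 1)) hleft
    rw [PowerSeries.subst_comp_subst_apply hLs hE, h1, PowerSeries.subst_X hE, PowerSeries.X_subst] at this
    exact this
  rw [hEL, PowerSeries.subst_sub hLs, hsubone hLs, sub_eq_iff_eq_add] at hleft
  rw [hleft, add_comm]

end Groth.Agent.S13075
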