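import Groth.Statements.S1308
import Groth.Agent.GoingDown.Dedekind

set_option autoImplicit false
universe u
open FlatMor

namespace Groth.Agent.S1308

open AlgebraicGeometry CategoryTheory Limits in
/-- For a morphism of thickenings, that is a commutative square whose horizontal maps are thickenings
(closed immersions that are surjective on points), the morphism between the thin schemes is
universally open if and only if the morphism between the thick ones is. -/
theorem result {X X' S S' : Scheme.{u}} (iX : X ⟶ X') (iS : S ⟶ S') (f : X ⟶ S) (f' : X' ⟶ S')
    (hX : MoreMor.IsThickening iX) (hS : MoreMor.IsThickening iS) (w : iX ≫ f' = f ≫ iS) :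
    UniversallyOpen f ↔ UniversallyOpen f' := by
  obtain ⟨_, _⟩ := hX
  obtain ⟨_, _⟩ := hS
  have hopen : ∀ {A B : Scheme.{u}} (i : A ⟶ B) [IsClosedImmersion i] [Surjective i], UniversallyOpen i := by
    intro A B i _ _
    refine ⟨fun P Q i₁ i₂ p H ↦ ?_⟩
    have : IsClosedImmersion p := MorphismProperty.IsStableUnderBaseChange.of_isPullback
      (P := (@IsClosedImmersion : MorphismProperty Scheme.{u})) H.flip ‹_›
    have : Surjective p := MorphismProperty.IsStableUnderBaseChange.of_isPullback
      (P := (@Surjective : MorphismProperty Scheme.{u})) H.flip ‹_›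
    exact p.isClosedEmbedding.isEmbedding.isInducing.isOpenMap
      (by rw [p.surjective.range_eq]; exact isOpen_univ)
  have := hopen iX
  have := hopen iS
  constructor
  · intro _
    have : UniversallyOpen (iX ≫ f') := by rw [w]; infer_instance
    exact Groth.Agent.GoingDown.universallyOpen_of_comp_surjective iX f'
  · intro _
    have : UniversallyOpen (f ≫ iS) := by rw [← w]; infer_instance
    let l := CategoryTheory.Limits.pullback.lift (𝟙 X) f (show 𝟙 X ≫ f ≫ iS = f ≫ iS from Category.id_comp _)
    have hl : l ≫ CategoryTheory.Limits.pullback.snd (f ≫ iS) iS = f := CategoryTheory.Limits.pullback.lift_snd _ _ _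
    have : IsIso l := ⟨CategoryTheory.Limits.pullback.fst (f ≫ iS) iS, CategoryTheory.Limits.pullback.lift_fst _ _ _, by
      refine CategoryTheory.Limits.pullback.hom_ext ?_ ?_
      · rw [Category.assoc, CategoryTheory.Limits.pullback.lift_fst, Category.comp_id, Category.id_comp]
      · rw [Category.assoc, hl, Category.id_comp, ← cancel_mono iS, Category.assoc]
        exact CategoryTheory.Limits.pullback.condition⟩
    rw [← hl]
    infer_instance

end Groth.Agent.S1308
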