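import Groth.Statements.S13096
import Mathlib.RingTheory.FinitePresentation
import Mathlib.RingTheory.Polynomial.Basic
import Mathlib.RingTheory.Adjoin.FG
import Mathlib.Algebra.MvPolynomial.Monad
import Mathlib.LinearAlgebra.Finsupp.LinearCombination
import Mathlib.RingTheory.FiniteType
import Mathlib.RingTheory.Ideal.Quotient.Noetherian

set_option autoImplicit false
universe u v
open CAlg

namespace Groth.Agent.S13096

/-- Let R be a commutative ring and R' a commutative R-algebra of finite presentation. Then every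
surjective R-algebra endomorphism α : R' → R' is bijective (an automorphism). -/
theorem result (R : Type u) [CommRing R]
    (R' : Type v) [CommRing R'] [Algebra R R'] [Algebra.FinitePresentation R R']
    (α : R' →ₐ[R] R') (hα : Function.Surjective α) : Function.Bijective α := by
  classical
  refine ⟨?_, hα⟩
  obtain ⟨N, π, hπ, hfg⟩ := ‹Algebra.FinitePresentation R R'›
  obtain ⟨M, f, hf⟩ := Submodule.fg_iff_exists_fin_generating_family.1 hfg
  choose g hg using fun i => hπ (α (π (MvPolynomial.X i)))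
  choose h₀ hh₀ using fun i => hα (π (MvPolynomial.X i))
  choose h hh using fun i => hπ (h₀ i)
  let b : MvPolynomial (Fin N) R →ₐ[R] MvPolynomial (Fin N) R := MvPolynomial.bind₁ g
  have hb : π.comp b = α.comp π := MvPolynomial.algHom_ext fun i => by simp [b, hg]
  have hbmem : ∀ q, π q = 0 → π (b q) = 0 := fun q hq => by
    have := DFunLike.congr_fun hb q
    simp only [AlgHom.comp_apply] at this
    rw [this, hq, map_zero]
  have hker : ∀ q, π q = 0 → ∃ c : Fin M → MvPolynomial (Fin N) R, ∑ j, c j • f j = q := fun q hq =>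
    (Submodule.mem_span_range_iff_exists_fun _).1 (hf ▸ (RingHom.mem_ker).2 hq)
  have hfπ : ∀ j, π (f j) = 0 := fun j => by
    have : f j ∈ RingHom.ker π.toRingHom := hf ▸ Submodule.subset_span ⟨j, rfl⟩
    exact this
  choose cf hcf using fun j => hker (b (f j)) (hbmem _ (hfπ j))
  have hbh : ∀ i, π (b (h i) - MvPolynomial.X i) = 0 := fun i => by
    rw [map_sub, show π (b (h i)) = α (π (h i)) from DFunLike.congr_fun hb _, hh, hh₀, sub_self]
  choose ch hch using fun i => hker _ (hbh i)
  rw [injective_iff_map_eq_zero]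
  intro x hx
  obtain ⟨q, rfl⟩ := hπ x
  obtain ⟨cq, hcq⟩ := hker (b q) (by rw [show π (b q) = α (π q) from DFunLike.congr_fun hb q, hx])
  let T : Finset (MvPolynomial (Fin N) R) :=
    {q} ∪ Finset.univ.image f ∪ Finset.univ.image g ∪ Finset.univ.image h ∪ Finset.univ.image cq ∪
      Finset.univ.image (fun p : Fin M × Fin M => cf p.1 p.2) ∪ Finset.univ.image (fun p : Fin N × Fin M => ch p.1 p.2)
  let R₀ : Subalgebra ℤ R := Algebra.adjoin ℤ (T.biUnion fun p => p.coeffs : Set R)
  haveI : Algebra.FiniteType ℤ R₀ := R₀.fg_iff_finiteType.1 ⟨_, rfl⟩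
  haveI : IsNoetherianRing R₀ := Algebra.FiniteType.isNoetherianRing ℤ R₀
  let φ := MvPolynomial.map (σ := Fin N) R₀.val.toRingHom
  have hφ : Function.Injective φ := MvPolynomial.map_injective _ Subtype.val_injective
  have hlift : ∀ p ∈ T, ∃ p₀, φ p₀ = p := by
    intro p hp
    refine MvPolynomial.mem_range_map_iff_coeffs_subset.2 fun r hr => ?_
    exact ⟨⟨r, Algebra.subset_adjoin (Finset.mem_coe.2 (Finset.mem_biUnion.2 ⟨p, hp, hr⟩))⟩, rfl⟩
  choose f₀ hf₀ using fun j => hlift (f j) (by simp [T])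
  choose g₀ hg₀ using fun j => hlift (g j) (by simp [T])
  choose h₀' hh₀' using fun j => hlift (h j) (by simp [T])
  choose cq₀ hcq₀ using fun j => hlift (cq j) (by simp [T])
  choose cf₀ hcf₀ using fun j k => hlift (cf j k) (by simp [T])
  choose ch₀ hch₀ using fun j k => hlift (ch j k) (by simp [T])
  obtain ⟨q₀, hq₀⟩ := hlift q (by simp [T])
  let b₀ : MvPolynomial (Fin N) R₀ →ₐ[R₀] MvPolynomial (Fin N) R₀ := MvPolynomial.bind₁ g₀
  have hbφ : ∀ p, φ (b₀ p) = b (φ p) := by
    intro p
    simp only [b₀, b, φ, MvPolynomial.map_bind₁]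
    congr 2
    exact funext hg₀
  let J : Ideal (MvPolynomial (Fin N) R₀) := Ideal.span (Set.range f₀)
  have hJmem : ∀ (p : MvPolynomial (Fin N) R₀) (c : Fin M → MvPolynomial (Fin N) R₀),
      φ p = ∑ j, φ (c j) • f j → p ∈ J := by
    intro p c hpc
    have : p = ∑ j, c j * f₀ j := hφ (by rw [hpc, map_sum]; simp [hf₀])
    rw [this]
    exact J.sum_mem fun j _ => J.mul_mem_left _ (Ideal.subset_span ⟨j, rfl⟩)
  have hbJ : ∀ j, b₀ (f₀ j) ∈ J := fun j => hJmem _ (cf₀ j) (by rw [hbφ, hf₀, ← hcf j]; simp [hcf₀])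
  let β : (MvPolynomial (Fin N) R₀ ⧸ J) →+* (MvPolynomial (Fin N) R₀ ⧸ J) :=
    Ideal.Quotient.lift J ((Ideal.Quotient.mk J).comp b₀.toRingHom) fun p hp => by
      have hle : J ≤ RingHom.ker ((Ideal.Quotient.mk J).comp b₀.toRingHom) := Ideal.span_le.2 fun _ ⟨j, hj⟩ => by
        subst hj
        exact (Ideal.Quotient.eq_zero_iff_mem).2 (hbJ j)
      exact hle hp
  have hβ : Function.Surjective β := by
    intro z
    obtain ⟨p, rfl⟩ := Ideal.Quotient.mk_surjective z
    induction p using MvPolynomial.induction_on with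
    | C r => exact ⟨Ideal.Quotient.mk J (MvPolynomial.C r), by simp [β, b₀]⟩
    | add p p' hp hp' =>
      obtain ⟨u, hu⟩ := hp; obtain ⟨v, hv⟩ := hp'
      exact ⟨u + v, by rw [map_add, map_add, hu, hv]⟩
    | mul_X p i hp =>
      obtain ⟨u, hu⟩ := hp
      refine ⟨u * Ideal.Quotient.mk J (h₀' i), ?_⟩
      rw [map_mul, map_mul, hu]
      congr 1
      change Ideal.Quotient.mk J (b₀ (h₀' i)) = _
      rw [Ideal.Quotient.eq]
      exact hJmem _ (ch₀ i) (by rw [map_sub, hbφ, hh₀', MvPolynomial.map_X, ← hch i]; simp [hch₀])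
  have hinj : Function.Injective β := by
    let K : ℕ →o Ideal (MvPolynomial (Fin N) R₀ ⧸ J) :=
      { toFun := fun n => RingHom.ker (β ^ n)
        monotone' := monotone_nat_of_le_succ fun n z hz => by
          rw [RingHom.mem_ker, RingHom.coe_pow] at hz ⊢
          rw [Function.iterate_succ_apply', hz, map_zero] }
    obtain ⟨n, hn⟩ := monotone_stabilizes_iff_noetherian.2 (inferInstanceAs (IsNoetherianRing (MvPolynomial (Fin N) R₀ ⧸ J))) K
    rw [injective_iff_map_eq_zero]
    intro z hz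
    obtain ⟨w, rfl⟩ := hβ.iterate n z
    have hw : w ∈ K (n + 1) := by
      change w ∈ RingHom.ker (β ^ (n + 1))
      rw [RingHom.mem_ker, RingHom.coe_pow, Function.iterate_succ_apply']
      exact hz
    rw [← hn (n + 1) n.le_succ] at hw
    change w ∈ RingHom.ker (β ^ n) at hw
    rwa [RingHom.mem_ker, RingHom.coe_pow] at hw
  have hq0 : q₀ ∈ J := by
    rw [← Ideal.Quotient.eq_zero_iff_mem]
    apply hinj
    rw [map_zero]
    change Ideal.Quotient.mk J (b₀ q₀) = 0
    rw [Ideal.Quotient.eq_zero_iff_mem]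
    exact hJmem _ cq₀ (by rw [hbφ, hq₀, ← hcq]; simp [hcq₀])
  obtain ⟨c, hc⟩ := (Submodule.mem_span_range_iff_exists_fun _).1 hq0
  rw [← hq₀, ← hc, map_sum, map_sum]
  exact Finset.sum_eq_zero fun j _ => by rw [smul_eq_mul, map_mul, map_mul, hf₀, hfπ, mul_zero]

end Groth.Agent.S13096
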