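import Groth.Statements.S13097
import Mathlib.AlgebraicGeometry.ZariskisMainTheorem
import Mathlib.AlgebraicGeometry.Morphisms.QuasiFinite


set_option autoImplicit false
universe u
open FlatMor

namespace Groth.Agent.S13097

open CategoryTheory AlgebraicGeometry in
/-- Let f : X → S be a quasi-compact, separated morphism of schemes with a section e : S → X (e followed
by f is the identity of S), and U ⊆ S an open subscheme such that f⁻¹(U) is schematically dense in X
(for every open V of X, restriction of functions from V to V ∩ f⁻¹(U) is injective) and such that
the restriction f⁻¹(U) → U of f is a homeomorphism of underlying spaces. Then f is universally a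
homeomorphism (every base change of f is a homeomorphism), and f is finite as soon as it is locally
of finite type. (The published statement also lists surjectivity of f, which a section forces, and
offers as an alternative to the section the hypothesis that f be flat, still with f⁻¹(U) → U only a
homeomorphism; that flat alternative fails: the spectrum of a separable quadratic field extension
over the spectrum of the ground field, with U the whole base, is flat, surjective, quasi-compact,
separated and a homeomorphism over U, yet not universally injective. Only the case of a section,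
whose published proof is complete, is stated here.) -/
theorem result {X S : Scheme.{u}} (f : X ⟶ S)
    [QuasiCompact f] [IsSeparated f] (U : S.Opens)
    (hdense : CInt.IsSchematicallyDense (f ⁻¹ᵁ U)) (hU : IsHomeomorph (f ∣_ U).base)
    (e : S ⟶ X) (he : e ≫ f = 𝟙 S) :
    FlatMor.IsUnivHomeo f ∧ (LocallyOfFiniteType f → IsFinite f) := by
  have hc : IsClosedImmersion e := by
    have : IsClosedImmersion (e ≫ f) := by rw [he]; infer_instance
    exact IsClosedImmersion.of_comp e f
  have hef : ∀ s : S, f (e s) = s := fun s => by
    rw [← Scheme.Hom.comp_apply, he]; simp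
  have hWdense : Dense ((f ⁻¹ᵁ U : X.Opens) : Set X) := by
    rw [dense_iff_inter_open]
    intro V hV hne
    obtain ⟨x, hx⟩ := hne
    by_contra hemp
    let V' : X.Opens := ⟨V, hV⟩
    have hbot : V' ⊓ (f ⁻¹ᵁ U) = ⊥ := by
      ext z
      simp only [TopologicalSpace.Opens.coe_inf, TopologicalSpace.Opens.coe_bot, Set.mem_inter_iff,
        Set.mem_empty_iff_false, iff_false]
      intro hz
      exact hemp ⟨z, hz⟩
    have hsub : Subsingleton Γ(X, V' ⊓ (f ⁻¹ᵁ U)) := by
      rw [hbot]; infer_instance
    have h10 : (1 : Γ(X, V')) = 0 := hdense V' (Subsingleton.elim _ _)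
    have := congrArg (X.presheaf.germ V' x hx).hom h10
    rw [map_one, map_zero] at this
    exact one_ne_zero this
  have hsurj : Function.Surjective e := by
    have hsub : ((f ⁻¹ᵁ U : X.Opens) : Set X) ⊆ Set.range e := by
      intro x hx
      have hfx : f x ∈ U := hx
      have h2 : e (f x) ∈ f ⁻¹ᵁ U := by
        show f (e (f x)) ∈ U
        rw [hef]; exact hfx
      have heq : (f ∣_ U).base ⟨e (f x), h2⟩ = (f ∣_ U).base ⟨x, hx⟩ := by
        refine Subtype.ext ?_
        erw [morphismRestrict_base_coe, morphismRestrict_base_coe]
        exact hef (f x)
      exact ⟨f x, congrArg Subtype.val (hU.injective heq)⟩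
    have hcl : IsClosed (Set.range e) := e.isClosedEmbedding.isClosed_range
    intro x
    have := hcl.closure_subset_iff.mpr hsub (hWdense.closure_eq.symm ▸ Set.mem_univ x)
    exact this
  have hes : Surjective e := ⟨hsurj⟩
  have huniv : FlatMor.IsUnivHomeo f := by
    intro X' S' g₁ g₂ f' hsq
    show IsHomeomorph f'
    let e' : S' ⟶ X' := hsq.lift (𝟙 S') (g₂ ≫ e) (by simp [Category.assoc, he])
    have he'f : e' ≫ f' = 𝟙 S' := hsq.lift_fst _ _ _
    have hsep : IsSeparated f' := MorphismProperty.of_isPullback hsq.flip inferInstance
    have hc' : IsClosedImmersion e' := by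
      have : IsClosedImmersion (e' ≫ f') := by rw [he'f]; infer_instance
      exact IsClosedImmersion.of_comp e' f'
    have hs' : Surjective e' := by
      have htop : IsPullback g₂ e' e g₁ := by
        refine IsPullback.of_bot ?_ (hsq.lift_snd _ _ _).symm hsq.flip
        rw [he, he'f]
        exact IsPullback.of_vert_isIso ⟨by simp⟩
      exact MorphismProperty.of_isPullback htop hes
    have hhom : IsHomeomorph e'.base :=
      isHomeomorph_iff_isEmbedding_surjective.mpr ⟨e'.isEmbedding, e'.surjective⟩
    have hinv : ∀ s, f' (e' s) = s := fun s => by
      rw [← Scheme.Hom.comp_apply, he'f]; simp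
    let H := hhom.homeomorph
    have : (f' : X' → S') = H.symm := by
      funext x
      obtain ⟨s, rfl⟩ := e'.surjective x
      rw [hinv]
      exact (H.symm_apply_apply s).symm
    rw [this]
    exact H.symm.isHomeomorph
  refine ⟨huniv, fun hlft => ?_⟩
  have huc : UniversallyClosed f := by
    constructor
    intro X' S' g₁ g₂ f' hsq
    exact (huniv g₁ g₂ f' hsq : IsHomeomorph f').isClosedMap
  have hinj : Function.Injective f := by
    intro a b hab
    obtain ⟨s, rfl⟩ := hsurj a
    obtain ⟨t, rfl⟩ := hsurj b
    rw [hef, hef] at hab
    rw [hab]
  have := LocallyQuasiFinite.of_injective hinj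
  have : IsProper f := ⟨⟩
  exact IsFinite.of_isProper_of_locallyQuasiFinite f

end Groth.Agent.S13097
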