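import Groth.Statements.S13098
import Mathlib


set_option autoImplicit false
universe u v
open Lie3Mod

namespace Groth.Agent.S13098

/-- Let R be a commutative ring, M an R-module with a basis x = bs 0, y = bs 1, z = bs 2 indexed by Fin
3, and B an R-bilinear alternating map on M (B m m = 0) with B x y = a x + b y + c z, B x z = d x +
e y + f z and B y z = g x + h y + i z. Then B satisfies the Jacobi identity for all triples if and
only if the three Jacobi polynomials vanish: ah + di − fg − bg = 0, ie + bd − fh − ae = 0 and hc +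
dc − af − bi = 0. (This is the statement that Lie brackets on a based free module of rank 3 are the
points of the closed subscheme of affine 9-space defined by these three equations.) -/
theorem result (R : Type u) [CommRing R] (M : Type v) [AddCommGroup M] [Module R M]
    (bs : Module.Basis (Fin 3) R M) (B : M →ₗ[R] M →ₗ[R] M) (halt : ∀ m : M, B m m = 0)
    (a b c d e f g h i : R)
    (hxy : B (bs 0) (bs 1) = a • bs 0 + b • bs 1 + c • bs 2)
    (hxz : B (bs 0) (bs 2) = d • bs 0 + e • bs 1 + f • bs 2)
    (hyz : B (bs 1) (bs 2) = g • bs 0 + h • bs 1 + i • bs 2) :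
    (∀ u v w : M, B u (B v w) + B v (B w u) + B w (B u v) = 0) ↔
      (a * h + d * i - f * g - b * g = 0 ∧ i * e + b * d - f * h - a * e = 0 ∧
        h * c + d * c - a * f - b * i = 0) := by
  have hanti : ∀ p q : M, B q p = -B p q := fun p q => by
    have := halt (p + q)
    simp only [map_add, LinearMap.add_apply, halt, zero_add, add_zero] at this
    exact eq_neg_of_add_eq_zero_left (by rw [add_comm] at this; rw [add_comm]; exact this)
  have hyx : B (bs 1) (bs 0) = -(a • bs 0 + b • bs 1 + c • bs 2) := by rw [hanti, hxy]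
  have hzx : B (bs 2) (bs 0) = -(d • bs 0 + e • bs 1 + f • bs 2) := by rw [hanti, hxz]
  have hzy : B (bs 2) (bs 1) = -(g • bs 0 + h • bs 1 + i • bs 2) := by rw [hanti, hyz]
  have key : ∀ u0 u1 u2 v0 v1 v2 w0 w1 w2 : R,
      (fun u v w : M => B u (B v w) + B v (B w u) + B w (B u v))
        (u0 • bs 0 + u1 • bs 1 + u2 • bs 2) (v0 • bs 0 + v1 • bs 1 + v2 • bs 2)
        (w0 • bs 0 + w1 • bs 1 + w2 • bs 2) =
      (u0 * (v1 * w2 - v2 * w1) - u1 * (v0 * w2 - v2 * w0) + u2 * (v0 * w1 - v1 * w0)) •
        ((a * h + d * i - f * g - b * g) • bs 0 + (i * e + b * d - f * h - a * e) • bs 1 +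
          (h * c + d * c - a * f - b * i) • bs 2) := by
    intro u0 u1 u2 v0 v1 v2 w0 w1 w2
    simp only [map_add, map_smul, LinearMap.add_apply, LinearMap.smul_apply, halt, hxy, hxz, hyz,
      hyx, hzx, hzy, map_neg, LinearMap.neg_apply, smul_zero, map_zero]
    module
  constructor
  · intro hJ
    have h0 := key 1 0 0 0 1 0 0 0 1
    simp only [one_smul, zero_smul, add_zero, zero_add, hJ] at h0
    have h1 := congrArg bs.repr h0.symm
    simp only [mul_one, one_mul, mul_zero, zero_mul, sub_zero, add_zero, zero_add, one_smul, map_add,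
      map_smul, map_zero, Module.Basis.repr_self] at h1
    have c0 := DFunLike.congr_fun h1 0
    have c1 := DFunLike.congr_fun h1 1
    have c2 := DFunLike.congr_fun h1 2
    simp at c0 c1 c2
    exact ⟨c0, c1, c2⟩
  · rintro ⟨h1, h2, h3⟩ u v w
    rw [← bs.sum_repr u, ← bs.sum_repr v, ← bs.sum_repr w]
    simp only [Fin.sum_univ_three]
    refine (key _ _ _ _ _ _ _ _ _).trans ?_
    simp [h1, h2, h3]

end Groth.Agent.S13098
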