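import Groth.Statements.S13099
import Mathlib

set_option autoImplicit false
universe u
open GrpSch

namespace Groth.Agent.S13099

open Polynomial in
/-- Let p be a prime and A a commutative ring of characteristic p, and consider the infinitesimal group
scheme Spec A[X]/(X^{p²}) with the additive group law. In coordinates: (1) a polynomial q ∈ A[X] of
degree less than p² satisfies q(Y + Z) − q(Y) − q(Z) ∈ (Y^{p²}, Z^{p²}) in A[Y, Z] (that is, X ↦ q
respects the comultiplication) if and only if q = a₁ X + a_p X^p for some a₁, a_p ∈ A; (2) an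
A-algebra endomorphism of A[X]/(X^{p²}) that sends the class of X to the class of a₁ X + a_p X^p is
bijective if and only if a₁ is a unit of A. (The printed statement is that the automorphism group
scheme of this group scheme is the semidirect product of the additive group by the multiplicative
group, v acting on u by v^{p−1}u; this row records the two computations it consists of, in
coordinates.) -/
theorem result (p : ℕ) [Fact p.Prime] (A : Type u) [CommRing A] [CharP A p] :
    (∀ q : A[X], q.natDegree < p ^ 2 →
      (Polynomial.aeval (MvPolynomial.X 0 + MvPolynomial.X 1 : MvPolynomial (Fin 2) A) q -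
            Polynomial.aeval (MvPolynomial.X 0 : MvPolynomial (Fin 2) A) q -
            Polynomial.aeval (MvPolynomial.X 1 : MvPolynomial (Fin 2) A) q ∈
          Ideal.span ({MvPolynomial.X 0 ^ p ^ 2, MvPolynomial.X 1 ^ p ^ 2} : Set (MvPolynomial (Fin 2) A)) ↔
        ∃ a₁ ap : A, q = Polynomial.C a₁ * X + Polynomial.C ap * X ^ p)) ∧
    (∀ (a₁ ap : A) (φ : (A[X] ⧸ Ideal.span ({X ^ p ^ 2} : Set A[X])) →ₐ[A] (A[X] ⧸ Ideal.span ({X ^ p ^ 2} : Set A[X]))),
      φ (Ideal.Quotient.mk (Ideal.span ({X ^ p ^ 2} : Set A[X])) X) =
          Ideal.Quotient.mk (Ideal.span ({X ^ p ^ 2} : Set A[X])) (Polynomial.C a₁ * X + Polynomial.C ap * X ^ p) →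
        (Function.Bijective φ ↔ IsUnit a₁)) := by
  classical
  have hp := (Fact.out : p.Prime)
  have hpp : p ^ 2 = p * p := pow_two p
  have hp2 : 2 ≤ p := hp.two_le
  let φe : MvPolynomial (Fin 2) A := MvPolynomial.X 0 + MvPolynomial.X 1
  let I : Ideal (MvPolynomial (Fin 2) A) :=
    Ideal.span {MvPolynomial.X 0 ^ p ^ 2, MvPolynomial.X 1 ^ p ^ 2}
  refine ⟨fun q hq => ⟨fun hmem => ?_, ?_⟩, fun a₁ ap => ?_⟩
  · -- additive polynomials of degree `< p ^ 2`
    let E : A[X] → MvPolynomial (Fin 2) A := fun q =>
      aeval φe q - aeval (MvPolynomial.X 0 : MvPolynomial (Fin 2) A) q -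
        aeval (MvPolynomial.X 1 : MvPolynomial (Fin 2) A) q
    have hco : ∀ n i, 0 < i → i < n → n < p ^ 2 →
        MvPolynomial.coeff (Finsupp.single 0 i + Finsupp.single 1 (n - i)) (E q) =
          (Nat.choose n i : A) * q.coeff n := by
      intro n i hi hin hn
      simp only [E, MvPolynomial.coeff_sub, aeval_eq_sum_range, φe, MvPolynomial.coeff_sum,
        MvPolynomial.coeff_smul, smul_eq_mul]
      set m : Fin 2 →₀ ℕ := Finsupp.single 0 i + Finsupp.single 1 (n - i) with hm
      have hm0 : m 0 = i := by simp [hm]
      have hm1 : m 1 = n - i := by simp [hm]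
      have hX0 : ∀ j, MvPolynomial.coeff m ((MvPolynomial.X 0 : MvPolynomial (Fin 2) A) ^ j) = 0 := by
        intro j
        rw [MvPolynomial.coeff_X_pow, if_neg]
        intro h
        have := congrArg (fun v : Fin 2 →₀ ℕ => v 1) h
        simp only [hm1] at this
        simp at this
        omega
      have hX1 : ∀ j, MvPolynomial.coeff m ((MvPolynomial.X 1 : MvPolynomial (Fin 2) A) ^ j) = 0 := by
        intro j
        rw [MvPolynomial.coeff_X_pow, if_neg]
        intro h
        have := congrArg (fun v : Fin 2 →₀ ℕ => v 0) h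
        simp only [hm0] at this
        simp at this
        omega
      have hsum : ∀ j, MvPolynomial.coeff m
          ((MvPolynomial.X 0 + MvPolynomial.X 1 : MvPolynomial (Fin 2) A) ^ j) =
            if j = n then (Nat.choose n i : A) else 0 := by
        intro j
        rw [add_pow, MvPolynomial.coeff_sum]
        simp only [MvPolynomial.X_pow_eq_monomial, MvPolynomial.monomial_mul, one_mul,
          ← map_natCast (MvPolynomial.C (σ := Fin 2) (R := A)), mul_comm _ (MvPolynomial.C _),
          MvPolynomial.coeff_C_mul, MvPolynomial.coeff_monomial, mul_ite, mul_one, mul_zero]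
        by_cases hj : j = n
        · subst hj
          rw [if_pos rfl, Finset.sum_eq_single i]
          · rw [if_pos rfl]
          · intro l _ hl
            rw [if_neg]
            intro h
            have := congrArg (fun v : Fin 2 →₀ ℕ => v 0) h
            simp [hm] at this
            exact hl this
          · intro h; simp at h; omega
        · rw [if_neg hj]
          refine Finset.sum_eq_zero fun l hl => if_neg fun h => hj ?_
          have h0 := congrArg (fun v : Fin 2 →₀ ℕ => v 0) h
          have h1 := congrArg (fun v : Fin 2 →₀ ℕ => v 1) h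
          simp [hm] at h0 h1 hl
          omega
      simp only [hX0, hX1, hsum, mul_zero, Finset.sum_const_zero, sub_zero, mul_ite]
      rw [Finset.sum_ite_eq']
      split_ifs with h
      · exact mul_comm _ _
      · rw [Finset.mem_range] at h
        rw [coeff_eq_zero_of_natDegree_lt (by omega), mul_zero]
    have hIco : ∀ f ∈ I, ∀ m : Fin 2 →₀ ℕ, m 0 < p ^ 2 → m 1 < p ^ 2 →
        MvPolynomial.coeff m f = 0 := by
      intro f hf m h0 h1
      obtain ⟨u, v, rfl⟩ := Ideal.mem_span_pair.mp hf
      rw [MvPolynomial.coeff_add, MvPolynomial.X_pow_eq_monomial, MvPolynomial.X_pow_eq_monomial,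
        MvPolynomial.coeff_mul_monomial', MvPolynomial.coeff_mul_monomial', if_neg, if_neg, add_zero]
      · intro h; have := h 1; simp at this; omega
      · intro h; have := h 0; simp at this; omega
    have hzero : ∀ n, n < p ^ 2 → n ≠ 1 → n ≠ p → q.coeff n = 0 := by
      intro n hn hn1 hnp
      rcases Nat.eq_zero_or_pos n with rfl | hnpos
      · have h0 := hIco _ hmem 0 (by simp; positivity) (by simp; positivity)
        have h0' : ∀ v : MvPolynomial (Fin 2) A, MvPolynomial.constantCoeff v = 0 →
            MvPolynomial.coeff 0 (aeval v q) = q.coeff 0 := fun v hv => by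
          rw [← MvPolynomial.constantCoeff_eq, ← RingHom.coe_coe (aeval v), ← RingHom.comp_apply]
          have : (MvPolynomial.constantCoeff (σ := Fin 2) (R := A)).comp (aeval v : A[X] →ₐ[A] _).toRingHom =
              evalRingHom 0 := by
            apply Polynomial.ringHom_ext <;> simp [hv]
          rw [show ((aeval v : A[X] →ₐ[A] MvPolynomial (Fin 2) A) : A[X] →+* MvPolynomial (Fin 2) A) =
            (aeval v).toRingHom from rfl, this, coeff_zero_eq_eval_zero]
          rfl
        rw [MvPolynomial.coeff_sub, MvPolynomial.coeff_sub, h0' _ (by simp), h0' _ (by simp),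
          h0' _ (by simp), sub_self, zero_sub, neg_eq_zero] at h0
        exact h0
      · have key : ∀ i, 0 < i → i < n → ¬ p ∣ n.choose i → q.coeff n = 0 := by
          intro i hi hin hdvd
          have h := hIco _ hmem (Finsupp.single 0 i + Finsupp.single 1 (n - i)) (by simp; omega)
            (by simp; omega)
          rw [hco n i hi hin hn] at h
          exact ((CharP.isUnit_natCast_iff hp).mpr hdvd).mul_right_eq_zero.mp h
        by_cases hdiv : p ∣ n
        · obtain ⟨c, rfl⟩ := hdiv
          have hc : c < p := by rw [hpp] at hn; exact Nat.lt_of_mul_lt_mul_left hn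
          have hc2 : 2 ≤ c := by
            rcases c with _ | _ | c
            · simp at hnpos
            · simp at hnp
            · omega
          refine key p hp.pos (by nlinarith) fun hd => ?_
          haveI : Fact p.Prime := ⟨hp⟩
          have hl := Choose.choose_modEq_choose_mod_mul_choose_div_nat (p := p) (n := p * c) (k := p)
          rw [Nat.mul_mod_right, Nat.mod_self, Nat.choose_zero_right, one_mul,
            Nat.mul_div_cancel_left _ hp.pos, Nat.div_self hp.pos, Nat.choose_one_right] at hl
          have : c % p = 0 := Eq.trans hl.symm (Nat.dvd_iff_mod_eq_zero.mp hd)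
          rw [Nat.mod_eq_of_lt hc] at this
          omega
        · refine key 1 one_pos ?_ (by rwa [Nat.choose_one_right])
          omega
    refine ⟨q.coeff 1, q.coeff p, ?_⟩
    ext n
    rw [coeff_add, coeff_C_mul, coeff_C_mul, coeff_X, coeff_X_pow]
    rcases eq_or_ne n 1 with rfl | h1
    · rw [if_pos rfl, if_neg (by omega : ¬ 1 = p)]; simp
    · rcases eq_or_ne n p with rfl | hnp
      · rw [if_neg (by omega : ¬ 1 = n), if_pos rfl]; simp
      · rw [if_neg (Ne.symm h1), if_neg hnp, mul_zero, mul_zero, add_zero]
        rcases lt_or_ge n (p ^ 2) with h | h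
        · exact hzero n h h1 hnp
        · exact coeff_eq_zero_of_natDegree_lt (by omega)
  · rintro ⟨a₁, ap, rfl⟩
    simp only [map_add, map_mul, aeval_C, map_pow, aeval_X, add_pow_char]
    ring_nf
    exact Submodule.zero_mem _
  · set J : Ideal A[X] := Ideal.span {X ^ p ^ 2}
    intro φ hφ
    set x := Ideal.Quotient.mk J (X : A[X]) with hx
    let L : A → A → A[X] ⧸ J := fun b c => algebraMap A _ b * x + algebraMap A _ c * x ^ p
    have hL : φ x = L a₁ ap := by
      rw [hx, hφ]; simp [L, hx, Ideal.Quotient.mk_algebraMap]; rfl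
    have hxN : x ^ p ^ 2 = 0 := by
      rw [hx, ← map_pow, Ideal.Quotient.eq_zero_iff_mem]; exact Ideal.subset_span rfl
    refine ⟨fun hb => ?_, fun hu => ?_⟩
    · obtain ⟨y, hy⟩ := hb.2 x
      obtain ⟨g, rfl⟩ := Ideal.Quotient.mk_surjective y
      have hg : φ (Ideal.Quotient.mk J g) = Ideal.Quotient.mk J (g.comp (C a₁ * X + C ap * X ^ p)) := by
        have : φ.comp (Ideal.Quotient.mkₐ A J) =
            (Ideal.Quotient.mkₐ A J).comp (aeval (C a₁ * X + C ap * X ^ p)) := by
          apply Polynomial.algHom_ext; simpa [hx] using hφ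
        rw [comp_eq_aeval]
        exact AlgHom.congr_fun this g
      rw [hg, hx, Ideal.Quotient.eq, Ideal.mem_span_singleton] at hy
      obtain ⟨w, hw⟩ := hy
      have h1 := congrArg (fun f => (derivative f).eval 0) hw
      have hp0 : (p : A) = 0 := CharP.cast_eq_zero A p
      have hN0 : (0 : A) ^ (p ^ 2 - 1) = 0 := zero_pow (by
        have : 4 ≤ p ^ 2 := by nlinarith
        omega)
      simp [derivative_comp, derivative_pow, hp0, hN0, zero_pow (show p ^ 2 ≠ 0 by positivity), zero_pow hp.ne_zero] at h1
      exact IsUnit.of_mul_eq_one (eval 0 (derivative g)) (by linear_combination h1)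
    · obtain ⟨u, rfl⟩ := hu
      let b : A := ↑u⁻¹
      let c : A := -(b * ap * b ^ p)
      let ψ : (A[X] ⧸ J) →ₐ[A] A[X] ⧸ J := Ideal.Quotient.liftₐ J (aeval (L b c)) (by
        intro f hf
        rw [Ideal.mem_span_singleton] at hf
        obtain ⟨w, rfl⟩ := hf
        haveI : CharP A p := inferInstance
        have : L b c = x * (algebraMap A _ b + algebraMap A _ c * x ^ (p - 1)) := by
          show _ + _ = _
          rw [mul_add, mul_left_comm x _ (x ^ (p - 1)), ← pow_succ', Nat.sub_add_cancel hp.pos, mul_comm x]
        simp [map_mul, map_pow, this, mul_pow, hxN])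
      have hψ : ψ x = L b c := by
        show Ideal.Quotient.liftₐ J _ _ (Ideal.Quotient.mk J X) = _
        rw [Ideal.Quotient.liftₐ_apply]
        exact (Ideal.Quotient.lift_mk _ _ _).trans (aeval_X _)
      haveI : CharP (A[X] ⧸ J) p := by
        refine charP_of_injective_algebraMap (R := A) (fun r s h => ?_) p
        have hm : (C r - C s : A[X]) ∈ J := Ideal.Quotient.eq.mp h
        obtain ⟨w, hw⟩ := Ideal.mem_span_singleton.mp hm
        have := congrArg (fun f => coeff f 0) hw
        have hne : p ^ 2 ≠ 0 := by positivity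
        simp [mul_coeff_zero, coeff_X_pow, Ne.symm hne] at this
        exact sub_eq_zero.mp this
      haveI : Fact p.Prime := ⟨hp⟩
      haveI : ExpChar (A[X] ⧸ J) p := ExpChar.prime hp
      have hxpp : (x ^ p) ^ p = 0 := by rw [← pow_mul, ← pow_two, hxN]
      have hb : (u : A) * b = 1 := u.mul_inv
      have comp1 : ∀ (f : (A[X] ⧸ J) →ₐ[A] A[X] ⧸ J) (r s d e : A), f x = L r s →
          f (L d e) = L (d * r) (d * s + e * r ^ p) := by
        intro f r s d e hf
        simp only [L, map_add, map_mul, map_pow, AlgHom.commutes, hf, add_pow_char, mul_pow, hxpp]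
        ring
      have h1 : φ.comp ψ = AlgHom.id A _ := by
        apply Ideal.Quotient.algHom_ext; apply Polynomial.algHom_ext
        show φ (ψ x) = x
        rw [hψ, comp1 φ _ _ b c hL]
        have hpw : b ^ p * (u : A) ^ p = 1 := by rw [← mul_pow, mul_comm b, hb, one_pow]
        have e1 : b * (u : A) = 1 := by rw [mul_comm, hb]
        have e2 : b * ap + c * (u : A) ^ p = 0 := by
          show b * ap + -(b * ap * b ^ p) * (u : A) ^ p = 0
          linear_combination (-(b * ap)) * hpw
        simp [L, e1, e2]
      have h2 : ψ.comp φ = AlgHom.id A _ := by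
        apply Ideal.Quotient.algHom_ext; apply Polynomial.algHom_ext
        show ψ (φ x) = x
        rw [hL, comp1 ψ _ _ (u : A) ap hψ]
        have e2 : (u : A) * c + ap * b ^ p = 0 := by
          show (u : A) * -(b * ap * b ^ p) + ap * b ^ p = 0
          linear_combination (-(ap * b ^ p)) * hb
        simp [L, hb, e2]
      exact (AlgEquiv.ofAlgHom φ ψ h1 h2).bijective

end Groth.Agent.S13099
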