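import Groth.Statements.S13100
import Groth.Agent.ArtKit.PSRing

set_option autoImplicit false
set_option linter.style.haveILetI false

universe u
open GrpSch

namespace Groth.Agent.S13100

/-- Let k be an algebraically closed field of characteristic different from 2 and K = k((t)) the field
of Laurent series over k. Then a non-zero Laurent series f is a square in K if and only if its order
in t is even; consequently the group Kˣ/Kˣ² of non-zero elements modulo squares has exactly two
elements, represented by 1 and t. -/
theorem result (k : Type u) [Field k] [IsAlgClosed k] (h2 : (2 : k) ≠ 0)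
    (f : LaurentSeries k) (hf : f ≠ 0) : IsSquare f ↔ Even f.order := by
  constructor
  · rintro ⟨g, rfl⟩
    have hg : g ≠ 0 := fun h => hf (by simp [h])
    exact ⟨g.order, HahnSeries.order_mul hg hg⟩
  · rintro ⟨n, hn⟩
    let u : PowerSeries k := f.powerSeriesPart
    have hu0 : PowerSeries.constantCoeff u ≠ 0 := by
      rw [← PowerSeries.coeff_zero_eq_constantCoeff_apply, LaurentSeries.powerSeriesPart_coeff]
      simpa using HahnSeries.coeff_order_eq_zero.not.2 hf
    haveI hmax : IsAdicComplete (IsLocalRing.maximalIdeal k) k := by
      rw [IsLocalRing.maximalIdeal_eq_bot]; infer_instance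
    haveI : IsAdicComplete (IsLocalRing.maximalIdeal (MvPowerSeries Unit k)) (MvPowerSeries Unit k) :=
      ArtKit.isAdicComplete_mvPowerSeries
    haveI : IsAdicComplete (IsLocalRing.maximalIdeal (PowerSeries k)) (PowerSeries k) := this
    obtain ⟨s, hs⟩ := IsAlgClosed.exists_eq_mul_self (PowerSeries.constantCoeff u)
    have hs0 : s ≠ 0 := fun h => hu0 (by simp [hs, h])
    obtain ⟨a, ha, -⟩ := HenselianRing.is_henselian (R := PowerSeries k)
      (I := IsLocalRing.maximalIdeal (PowerSeries k)) (Polynomial.X ^ 2 - Polynomial.C u)
      (Polynomial.monic_X_pow_sub_C u two_ne_zero) (PowerSeries.C s)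
      (by
        rw [IsLocalRing.mem_maximalIdeal, mem_nonunits_iff, PowerSeries.isUnit_iff_constantCoeff]
        simp [hs, pow_two])
      (by
        refine IsUnit.map _ ?_
        rw [PowerSeries.isUnit_iff_constantCoeff]
        simp [h2, hs0, one_add_one_eq_two, map_ofNat])
    have ha' : u = a * a := by
      have := ha
      simp [Polynomial.IsRoot.def, sub_eq_zero, pow_two] at this
      exact this.symm
    refine ⟨HahnSeries.single n 1 * HahnSeries.ofPowerSeries ℤ k a, ?_⟩
    rw [mul_mul_mul_comm, HahnSeries.single_mul_single, mul_one, ← map_mul, ← ha', ← hn]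
    exact (f.single_order_mul_powerSeriesPart).symm

end Groth.Agent.S13100
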