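import Groth.Statements.S13101
import Mathlib.Tactic

set_option autoImplicit false
set_option linter.style.haveILetI false

universe u v
open GrpSch

namespace Groth.Agent.S13101

/-- Let A be a commutative ring in which 2 is a unit, and L a Lie algebra over A, free as a module with
basis x = bs 0, y = bs 1, z = bs 2 and brackets [x,y] = y, [x,z] = y + z, [y,z] = 0. Then for every
Lie algebra automorphism φ of L over A there are b, c, h ∈ A and a unit i of A with φ(x) = x + b y +
c z, φ(y) = i y and φ(z) = h y + i z. Only the form of an automorphism is stated, not that every map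
of this form is one. (The published statement identifies the automorphism group scheme with a
semidirect product of two additive groups by the product of the multiplicative and additive group,
for algebras over a field of Laurent series of characteristic not 2, and deduces the vanishing of
its first cohomology; this row records the determination of the automorphisms, over any base ring
with 2 invertible; the cohomological consequence is not restated.) -/
theorem result (A : Type u) [CommRing A] (h2 : IsUnit (2 : A))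
    (L : Type v) [LieRing L] [LieAlgebra A L] (bs : Module.Basis (Fin 3) A L)
    (hxy : ⁅bs 0, bs 1⁆ = bs 1) (hxz : ⁅bs 0, bs 2⁆ = bs 1 + bs 2) (hyz : ⁅bs 1, bs 2⁆ = 0)
    (φ : L ≃ₗ⁅A⁆ L) :
    ∃ b c h i : A, IsUnit i ∧ φ (bs 0) = bs 0 + b • bs 1 + c • bs 2 ∧ φ (bs 1) = i • bs 1 ∧
      φ (bs 2) = h • bs 1 + i • bs 2 := by
  have hc : ∀ a b c p q r : A, ⁅a • bs 0 + b • bs 1 + c • bs 2, p • bs 0 + q • bs 1 + r • bs 2⁆ =
      (a * (q + r) - p * (b + c)) • bs 1 + (a * r - p * c) • bs 2 := by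
    intro a b c p q r
    have h10 : ⁅bs 1, bs 0⁆ = -bs 1 := by rw [← lie_skew, hxy]
    have h20 : ⁅bs 2, bs 0⁆ = -(bs 1 + bs 2) := by rw [← lie_skew, hxz]
    have h21 : ⁅bs 2, bs 1⁆ = 0 := by rw [← lie_skew, hyz, neg_zero]
    simp only [add_lie, lie_add, smul_lie, lie_smul, lie_self, hxy, hxz, hyz, h10, h20, h21]
    module
  have hrep : ∀ v : L, v = bs.repr v 0 • bs 0 + bs.repr v 1 • bs 1 + bs.repr v 2 • bs 2 := by
    intro v
    conv_lhs => rw [← bs.sum_repr v, Fin.sum_univ_three]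
  have coeff : ∀ a b c a' b' c' : A, a • bs 0 + b • bs 1 + c • bs 2 = a' • bs 0 + b' • bs 1 + c' • bs 2 →
      a = a' ∧ b = b' ∧ c = c' := by
    intro a b c a' b' c' h
    have h0 := congrArg (fun v => bs.repr v 0) h
    have h1 := congrArg (fun v => bs.repr v 1) h
    have h2 := congrArg (fun v => bs.repr v 2) h
    simp [Finsupp.single_apply] at h0 h1 h2
    exact ⟨h0, h1, h2⟩
  have key : ∀ ψ : L ≃ₗ⁅A⁆ L, ∃ a b c i j h i' : A, ψ (bs 0) = a • bs 0 + b • bs 1 + c • bs 2 ∧
      ψ (bs 1) = i • bs 1 + j • bs 2 ∧ ψ (bs 2) = h • bs 1 + i' • bs 2 ∧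
      a * (i + j) = i ∧ a * j = j ∧ a * (h + i') = i + h ∧ a * i' = j + i' := by
    intro ψ
    have e1 : ψ (bs 1) = ⁅ψ (bs 0), ψ (bs 1)⁆ := by rw [← LieEquiv.map_lie, hxy]
    have e2 : ψ (bs 1) + ψ (bs 2) = ⁅ψ (bs 0), ψ (bs 2)⁆ := by rw [← LieEquiv.map_lie, hxz, map_add]
    set a := bs.repr (ψ (bs 0)) 0
    set b := bs.repr (ψ (bs 0)) 1
    set c := bs.repr (ψ (bs 0)) 2
    set p := bs.repr (ψ (bs 1)) 0
    set i := bs.repr (ψ (bs 1)) 1
    set j := bs.repr (ψ (bs 1)) 2
    set g := bs.repr (ψ (bs 2)) 0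
    set h := bs.repr (ψ (bs 2)) 1
    set i' := bs.repr (ψ (bs 2)) 2
    have r0 := hrep (ψ (bs 0))
    have r1 := hrep (ψ (bs 1))
    have r2 := hrep (ψ (bs 2))
    change _ = a • _ + b • _ + c • _ at r0
    change _ = p • _ + i • _ + j • _ at r1
    change _ = g • _ + h • _ + i' • _ at r2
    rw [r0, r1, hc] at e1
    rw [r0, r1, r2, hc] at e2
    have q1 := coeff p i j 0 (a * (i + j) - p * (b + c)) (a * j - p * c) (by rw [e1]; module)
    have q2 := coeff (p + g) (i + h) (j + i') 0 (a * (h + i') - g * (b + c)) (a * i' - g * c)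
      (by refine Eq.trans ?_ (Eq.trans e2 ?_) <;> module)
    obtain ⟨hp, hi, hj⟩ := q1
    obtain ⟨hg, hh, hi'⟩ := q2
    rw [hp] at hi hj r1 hg
    rw [zero_add] at hg
    rw [hg] at hh hi' r2
    refine ⟨a, b, c, i, j, h, i', r0, ?_, ?_, ?_, ?_, ?_, ?_⟩
    · rw [r1]; module
    · rw [r2]; module
    · linear_combination -hi
    · linear_combination -hj
    · linear_combination -hh
    · linear_combination -hi'
  obtain ⟨a, b, c, i, j, h, i', f0, f1, f2, A1, A2, A3, A4⟩ := key φ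
  obtain ⟨_, _, _, i₂, j₂, h₂, l₂, -, g1, g2, -, -, -, -⟩ := key φ.symm
  have s1 : bs 1 = i₂ • φ (bs 1) + j₂ • φ (bs 2) := by
    conv_lhs => rw [← φ.apply_symm_apply (bs 1), g1]
    simp
  have s2 : bs 2 = h₂ • φ (bs 1) + l₂ • φ (bs 2) := by
    conv_lhs => rw [← φ.apply_symm_apply (bs 2), g2]
    simp
  rw [f1, f2] at s1 s2
  obtain ⟨-, u1, u2⟩ := coeff 0 1 0 0 (i₂ * i + j₂ * h) (i₂ * j + j₂ * i')
    (by refine Eq.trans ?_ (Eq.trans s1 ?_) <;> module)
  obtain ⟨-, v1, v2⟩ := coeff 0 0 1 0 (h₂ * i + l₂ * h) (h₂ * j + l₂ * i')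
    (by refine Eq.trans ?_ (Eq.trans s2 ?_) <;> module)
  have hD : (i * i' - j * h) * (i₂ * l₂ - j₂ * h₂) = 1 := by
    linear_combination (h₂ * j + l₂ * i') * (-1 : A) * u1 - v2 + (h₂ * i + l₂ * h) * u2
  have hsq : (a - 1) ^ 2 = 0 := by
    have : (a - 1) ^ 2 * (i * i' - j * h) = 0 := by grobner
    calc (a - 1) ^ 2 = (a - 1) ^ 2 * (i * i' - j * h) * (i₂ * l₂ - j₂ * h₂) := by
          rw [mul_assoc, hD, mul_one]
      _ = 0 := by rw [this, zero_mul]
  obtain ⟨half, hhalf⟩ := h2.exists_left_inv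
  have hi0 : (a - 1) * i = 0 := by
    have : 2 * ((a - 1) * i) = 0 := by grobner
    linear_combination half * this - (a - 1) * i * hhalf
  have hj0 : j = 0 := by grobner
  have hii : (i * i') * (i₂ * l₂ - j₂ * h₂) = 1 := by rw [hj0] at hD; linear_combination hD
  have ha : a = 1 := by grobner
  have hi'i : i' = i := by rw [ha] at A3; linear_combination A3
  refine ⟨b, c, h, i, ?_, ?_, ?_, ?_⟩
  · exact IsUnit.of_mul_eq_one (i' * (i₂ * l₂ - j₂ * h₂)) (by rw [← mul_assoc]; exact hii)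
  · rw [f0, ha, one_smul]
  · rw [f1, hj0, zero_smul, add_zero]
  · rw [f2, hi'i]

end Groth.Agent.S13101
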