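import Groth.Statements.S13102
import Mathlib.Tactic

set_option autoImplicit false
set_option linter.style.haveILetI false

universe u v w
open GrpSch

namespace Groth.Agent.S13102

lemma LieEquiv.map_add'' {A : Type v} [CommRing A] {L : Type w} [LieRing L] [LieAlgebra A L]
    (φ : L ≃ₗ⁅A⁆ L) {r s : A} {p q : L} : φ (r • p + s • q) = r • φ p + s • φ q := by
  change φ.toLinearEquiv _ = r • φ.toLinearEquiv p + s • φ.toLinearEquiv q
  simp

lemma key {K : Type u} [Field K] {α : K} {A : Type v} [CommRing A] [Algebra K A]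
    {L : Type w} [LieRing L] [LieAlgebra A L] (bs : Module.Basis (Fin 3) A L)
    (hxy : ⁅bs 0, bs 1⁆ = bs 1) (hxz : ⁅bs 0, bs 2⁆ = algebraMap K A α • bs 2) (hyz : ⁅bs 1, bs 2⁆ = 0)
    (φ : L ≃ₗ⁅A⁆ L) : ∃ a b c e f h i : A,
      φ (bs 0) = a • bs 0 + b • bs 1 + c • bs 2 ∧ φ (bs 1) = e • bs 1 + f • bs 2 ∧
      φ (bs 2) = h • bs 1 + i • bs 2 ∧
      a * e = e ∧ algebraMap K A α * (a * i) = algebraMap K A α * i ∧
      algebraMap K A α * (a * f) = f ∧ a * h = algebraMap K A α * h ∧ True := by
  set al : A := algebraMap K A α with hal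
  have h10 : ⁅bs 1, bs 0⁆ = -bs 1 := by rw [← lie_skew, hxy]
  have h20 : ⁅bs 2, bs 0⁆ = -(al • bs 2) := by rw [← lie_skew, hxz]
  have h21 : ⁅bs 2, bs 1⁆ = 0 := by rw [← lie_skew, hyz, neg_zero]
  have hex : ∀ w : L, w = bs.repr w 0 • bs 0 + bs.repr w 1 • bs 1 + bs.repr w 2 • bs 2 := fun w => by
    conv_lhs => rw [← bs.sum_repr w, Fin.sum_univ_three]
  have hbr : ∀ v w : L, ⁅v, w⁆ = (bs.repr v 0 * bs.repr w 1 - bs.repr v 1 * bs.repr w 0) • bs 1
      + (al * (bs.repr v 0 * bs.repr w 2 - bs.repr v 2 * bs.repr w 0)) • bs 2 := fun v w => by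
    conv_lhs => rw [hex v, hex w]
    simp only [lie_add, add_lie, lie_smul, smul_lie, lie_self, hxy, hxz, hyz, h10, h20, h21]
    module
  have e1 : ⁅φ (bs 0), φ (bs 1)⁆ = φ (bs 1) := by
    have h := congrArg φ hxy
    rwa [LieEquiv.map_lie] at h
  have e2 : ⁅φ (bs 0), φ (bs 2)⁆ = al • φ (bs 2) := by
    have h := congrArg φ hxz
    rw [LieEquiv.map_lie] at h
    rw [h]; exact φ.toLinearEquiv.map_smul _ _
  have p0 : bs.repr (φ (bs 1)) 0 = 0 := by rw [← e1, hbr]; simp
  have q0 : bs.repr (φ (bs 2)) 0 = 0 := by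
    rcases eq_or_ne α 0 with h0 | h0
    · -- α = 0: `φ z` is central
      have hc : ⁅φ.symm (bs 1), bs 2⁆ = 0 := by
        have h1 : bs.repr (φ.symm (bs 1)) 0 = 0 := by
          have h := congrArg φ.symm hxy
          rw [LieEquiv.map_lie] at h
          rw [← h, hbr]; simp
        rw [hbr]; simp [hal, h0, h1]
      have h := congrArg φ hc
      rw [LieEquiv.map_lie, LieEquiv.apply_symm_apply, hbr] at h
      have := congrArg (fun w => bs.repr w 1) h
      simpa using this
    · have h := congrArg (fun w => bs.repr w 0) e2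
      rw [hbr] at h
      simp only [map_add, map_smul, Finsupp.add_apply, Finsupp.smul_apply, smul_eq_mul] at h
      rw [bs.repr_self, bs.repr_self] at h
      simp at h
      exact ((isUnit_iff_ne_zero.mpr h0).map (algebraMap K A)).mul_right_eq_zero.mp h.symm
  refine ⟨_, _, _, bs.repr (φ (bs 1)) 1, bs.repr (φ (bs 1)) 2, bs.repr (φ (bs 2)) 1, bs.repr (φ (bs 2)) 2,
    hex _, ?_, ?_, ?_, ?_, ?_, ?_, trivial⟩
  · conv_lhs => rw [hex (φ (bs 1)), p0, zero_smul, zero_add]
  · conv_lhs => rw [hex (φ (bs 2)), q0, zero_smul, zero_add]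
  · have h := congrArg (fun w => bs.repr w 1) e1
    rw [hbr] at h; simp [p0] at h; exact h
  · have h := congrArg (fun w => bs.repr w 2) e2
    rw [hbr] at h; simp [q0] at h; exact h
  · have h := congrArg (fun w => bs.repr w 2) e1
    rw [hbr] at h; simp [p0] at h; exact h
  · have h := congrArg (fun w => bs.repr w 1) e2
    rw [hbr] at h; simp [q0] at h; exact h


/-- Let K be a field, α ∈ K, A a commutative K-algebra and L a Lie algebra over A which is free as an
A-module with basis x = bs 0, y = bs 1, z = bs 2 and brackets [x,y] = y, [x,z] = α z, [y,z] = 0. If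
α² ≠ 1 then every Lie algebra automorphism φ of L over A satisfies φ(x) = x + b y + c z, φ(y) = e y,
φ(z) = i z for some b, c ∈ A and units e, i of A. If α = 1 then every such φ satisfies φ(x) = x + b
y + c z, φ(y) = e y + f z, φ(z) = h y + i z with e i − f h a unit of A. (The printed statement
identifies the automorphism group schemes with the corresponding semidirect products, treats also α
= −1 in characteristic not 2, and computes first cohomology over a field of Laurent series; those
clauses are not restated here.) -/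
theorem result (K : Type u) [Field K] (α : K) (A : Type v) [CommRing A] [Algebra K A]
    (L : Type w) [LieRing L] [LieAlgebra A L] (bs : Module.Basis (Fin 3) A L)
    (hxy : ⁅bs 0, bs 1⁆ = bs 1) (hxz : ⁅bs 0, bs 2⁆ = algebraMap K A α • bs 2) (hyz : ⁅bs 1, bs 2⁆ = 0)
    (φ : L ≃ₗ⁅A⁆ L) :
    (α ^ 2 ≠ 1 → ∃ b c e i : A, IsUnit e ∧ IsUnit i ∧ φ (bs 0) = bs 0 + b • bs 1 + c • bs 2 ∧
        φ (bs 1) = e • bs 1 ∧ φ (bs 2) = i • bs 2) ∧
    (α = 1 → ∃ b c e f h i : A, IsUnit (e * i - f * h) ∧ φ (bs 0) = bs 0 + b • bs 1 + c • bs 2 ∧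
        φ (bs 1) = e • bs 1 + f • bs 2 ∧ φ (bs 2) = h • bs 1 + i • bs 2) := by
  set al : A := algebraMap K A α with hal
  obtain ⟨a, b, c, e, f, h, i, hx, hy, hz, r1, r2, r3, r4, -⟩ := key bs hxy hxz hyz φ
  obtain ⟨a', b', c', e', f', h', i', hx', hy', hz', -, -, -, -, -⟩ := key bs hxy hxz hyz φ.symm
  rw [← hal] at r2 r3 r4
  have hdet : IsUnit (e * i - f * h) := by
    have u1 := congrArg φ hy'
    rw [LieEquiv.apply_symm_apply, LieEquiv.map_add'' φ, hy, hz] at u1
    have u2 := congrArg φ hz'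
    rw [LieEquiv.apply_symm_apply, LieEquiv.map_add'' φ, hy, hz] at u2
    have p1 := congrArg (fun w => bs.repr w 1) u1
    have p2 := congrArg (fun w => bs.repr w 2) u1
    have p3 := congrArg (fun w => bs.repr w 1) u2
    have p4 := congrArg (fun w => bs.repr w 2) u2
    simp at p1 p2 p3 p4
    refine IsUnit.of_mul_eq_one (e' * i' - f' * h') ?_
    linear_combination (h' * f + i' * i) * (-p1) - p4 + (h' * e + i' * h) * p2
  constructor
  · intro hne
    have hu1 : IsUnit (al * al - 1) := by
      rw [hal, ← map_mul, ← map_one (algebraMap K A), ← map_sub]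
      exact (isUnit_iff_ne_zero.mpr (sub_ne_zero.mpr (by rwa [← sq]))).map _
    have hfh : f * h = 0 := by
      refine hu1.mul_right_eq_zero.mp ?_
      linear_combination h * r3 - f * al * r4
    have ha : a = 1 := by
      refine sub_eq_zero.mp (hdet.mul_left_eq_zero.mp ?_)
      linear_combination i * r1 - (a - 1) * hfh
    subst ha
    have hal1 : IsUnit (al - 1) := isUnit_of_mul_isUnit_left
      (show IsUnit ((al - 1) * (al + 1)) by rwa [show (al - 1) * (al + 1) = al * al - 1 by ring])
    have hf : f = 0 := hal1.mul_right_eq_zero.mp (by linear_combination r3)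
    have hh : h = 0 := hal1.mul_right_eq_zero.mp (by linear_combination -r4)
    subst hf hh
    rw [zero_mul, sub_zero] at hdet
    refine ⟨b, c, e, i, isUnit_of_mul_isUnit_left hdet, isUnit_of_mul_isUnit_right hdet, ?_, ?_, ?_⟩
    · simpa using hx
    · simpa using hy
    · simpa using hz
  · intro h1
    have hal1 : al = 1 := by rw [hal, h1, map_one]
    rw [hal1] at r2 r3 r4
    have ha : a = 1 := by
      refine sub_eq_zero.mp (hdet.mul_left_eq_zero.mp ?_)
      linear_combination i * r1 - h * r3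
    subst ha
    exact ⟨b, c, e, f, h, i, hdet, by simpa using hx, hy, hz⟩

end Groth.Agent.S13102
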