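import Groth.Statements.S13104
import Mathlib

set_option autoImplicit false
universe u
open GrpSch

namespace Groth.Agent.S13104

set_option backward.isDefEq.respectTransparency false
set_option synthInstance.maxHeartbeats 100000

open CategoryTheory AlgebraicGeometry in
/-- Let B be a commutative ring, B[ε] the ring of dual numbers (ε² = 0) and B[α, β]/(α², β²) the double
dual numbers, realised as dual numbers over the dual numbers with α the inner and β the outer
generator, and let ψ : B[ε] → B[α, β]/(α², β²) be the B-algebra homomorphism with ψ(ε) = αβ. Then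
for every scheme G the map u ↦ Spec(ψ) ≫ u from morphisms Spec B[ε] → G to morphisms Spec
B[α,β]/(α²,β²) → G is injective. (The printed statement is its consequence for a group scheme G: the
map Lie(G)(B) → G(B[α,β]/(α²,β²)), x ↦ exp(αβ x), is injective; the injectivity on all B[ε]-points
stated here is what the printed argument establishes.) -/
theorem result (B : Type u) [CommRing B]
    (ψ : DualNumber B →+* DualNumber (DualNumber B))
    (hψB : ∀ b : B, ψ (algebraMap B (DualNumber B) b) = algebraMap B (DualNumber (DualNumber B)) b)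
    (hψ : ψ DualNumber.eps = algebraMap (DualNumber B) (DualNumber (DualNumber B)) DualNumber.eps * DualNumber.eps)
    (G : Scheme.{u}) :
    Function.Injective (fun u : Spec (CommRingCat.of (DualNumber B)) ⟶ G =>
      Spec.map (CommRingCat.ofHom (R := DualNumber B) (S := DualNumber (DualNumber B)) ψ) ≫ u) := by
  set p := Spec.map (CommRingCat.ofHom (R := DualNumber B) (S := DualNumber (DualNumber B)) ψ)
    with hp
  -- `fst ∘ fst ∘ ψ = fst`
  have hcomp : ((TrivSqZeroExt.fstHom B B B).toRingHom.comp
      (TrivSqZeroExt.fstHom (DualNumber B) (DualNumber B) (DualNumber B)).toRingHom).comp ψ =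
      (TrivSqZeroExt.fstHom B B B).toRingHom := by
    refine RingHom.ext fun z => ?_
    have hz : z = algebraMap B (DualNumber B) z.fst +
        algebraMap B (DualNumber B) z.snd * DualNumber.eps := by
      ext <;> simp [TrivSqZeroExt.algebraMap_eq_inl]
    conv_lhs => rw [hz]
    simp only [RingHom.comp_apply, map_add, map_mul, hψB, hψ]
    simp [TrivSqZeroExt.algebraMap_eq_inl, TrivSqZeroExt.algebraMap_eq_inl']
  have hinj : Function.Injective ψ := by
    intro a b hab
    have key : ∀ z : DualNumber B, (ψ z).fst = TrivSqZeroExt.inl z.fst ∧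
        (ψ z).snd = TrivSqZeroExt.inr z.snd := by
      intro z
      have hz : z = algebraMap B (DualNumber B) z.fst +
          algebraMap B (DualNumber B) z.snd * DualNumber.eps := by
        ext <;> simp [TrivSqZeroExt.algebraMap_eq_inl]
      rw [hz]
      simp only [map_add, map_mul, hψB, hψ]
      constructor <;>
        (ext <;> simp [TrivSqZeroExt.algebraMap_eq_inl, TrivSqZeroExt.algebraMap_eq_inl'])
    ext
    · have := congrArg TrivSqZeroExt.fst hab
      rw [(key a).1, (key b).1] at this
      simpa using congrArg TrivSqZeroExt.fst this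
    · have := congrArg TrivSqZeroExt.snd hab
      rw [(key a).2, (key b).2] at this
      simpa using congrArg TrivSqZeroExt.snd this
  have hsurj : Function.Surjective (PrimeSpectrum.comap (R := DualNumber B) (S := DualNumber (DualNumber B)) ψ) := by
    intro x
    have h1 : Function.Surjective
        (PrimeSpectrum.comap (TrivSqZeroExt.fstHom B B B).toRingHom) := by
      refine (PrimeSpectrum.isHomeomorph_comap _ (fun b => ⟨1, one_pos,
        ⟨TrivSqZeroExt.inl b, by simp⟩⟩) ?_).surjective
      intro z hz
      refine mem_nilradical.mpr ⟨2, ?_⟩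
      have hz0 : z.fst = 0 := hz
      rw [pow_two]
      ext <;> simp [hz0]
    obtain ⟨y, rfl⟩ := h1 x
    exact ⟨PrimeSpectrum.comap ((TrivSqZeroExt.fstHom B B B).toRingHom.comp
      (TrivSqZeroExt.fstHom (DualNumber B) (DualNumber B) (DualNumber B)).toRingHom) y, by
        rw [← PrimeSpectrum.comap_comp_apply, hcomp]⟩
  have : IsSchemeTheoreticallyDominant p := by
    refine ⟨Scheme.IdealSheafData.ext_of_isAffine ?_⟩
    simp only [Scheme.Hom.ker_apply, Scheme.IdealSheafData.ideal_bot, Pi.bot_apply]
    rw [← RingHom.injective_iff_ker_eq_bot]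
    have hn := Scheme.ΓSpecIso_naturality
      (CommRingCat.ofHom (R := DualNumber B) (S := DualNumber (DualNumber B)) ψ)
    intro a b hab
    refine (ConcreteCategory.bijective_of_isIso (Scheme.ΓSpecIso _).hom).1 (hinj ?_)
    have ea := ConcreteCategory.congr_hom hn a
    have eb := ConcreteCategory.congr_hom hn b
    exact ea.symm.trans ((congrArg _ hab).trans eb)
  have hs : Function.Surjective p.base := hsurj
  intro u v huv
  simp only at huv
  have hbase : ∀ x, u x = v x := by
    intro x
    obtain ⟨y, rfl⟩ := hs x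
    rw [← Scheme.Hom.comp_apply, ← Scheme.Hom.comp_apply, huv]
  have hpre : ∀ W : G.Opens, u ⁻¹ᵁ W = v ⁻¹ᵁ W := fun W => by
    ext x; simp only [SetLike.mem_coe, Scheme.Hom.mem_preimage, hbase x]
  refine Scheme.Hom.ext (TopCat.ext hbase) fun W => ?_
  have key : u.appLE W (u ⁻¹ᵁ W) le_rfl = v.appLE W (u ⁻¹ᵁ W) (hpre W).le := by
    refine CommRingCat.hom_ext (RingHom.ext fun s => p.app_injective (u ⁻¹ᵁ W) ?_)
    have h1 := Scheme.Hom.appLE_comp_appLE p u W (u ⁻¹ᵁ W) (p ⁻¹ᵁ (u ⁻¹ᵁ W)) le_rfl le_rfl
    have h2 := Scheme.Hom.appLE_comp_appLE p v W (u ⁻¹ᵁ W) (p ⁻¹ᵁ (u ⁻¹ᵁ W)) (hpre W).le le_rfl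
    rw [← Scheme.Hom.app_eq_appLE] at h1 h2
    simp only [huv] at h1
    exact ConcreteCategory.congr_hom (h1.trans h2.symm) s
  rw [← Scheme.Hom.app_eq_appLE] at key
  rw [key, Scheme.Hom.appLE, Category.assoc, ← Functor.map_comp]
  simp

end Groth.Agent.S13104
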