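import Groth.Statements.S13105
import Groth.Agent.RegQuotPoint.Basic
import Groth.Agent.GLinFree.Dim

set_option autoImplicit false
set_option maxHeartbeats 2000000
universe u
open Lie3Mod

namespace Groth.Agent.S13105

open MvPolynomial in
/-- Let k be a field, t ∈ k, D = k[a,b,c,d,e,f,g,h,i] and J = (Q1, Q2, Q3, det M) with Q1 = ah + di − fg
− bg, Q2 = ie + bd − fh − ae, Q3 = hc + dc − af − bi, det M = −ch² + gbf + ei² − gec + hbi − ihf.
The maximal ideal (a, b − 1, c, d, e, f − t, g, h, i) of D contains J (it is the point given by the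
Lie algebra with [x,y] = y, [x,z] = t z, [y,z] = 0), and the localization of D/J at the
corresponding prime is a regular local ring of Krull dimension 6: the scheme Spec(D/J) has a smooth
k-rational point. -/
theorem result (k : Type u) [Field k] (t : k)
    (P : Ideal (Lie3Mod.D k ⧸ Lie3Mod.idJ k)) [P.IsPrime]
    (hP : P = Ideal.map (Ideal.Quotient.mk (Lie3Mod.idJ k))
      (Ideal.span ({X 0, X 1 - 1, X 2, X 3, X 4, X 5 - C t, X 6, X 7, X 8} : Set (Lie3Mod.D k)))) :
    IsRegularLocalRing (Localization.AtPrime P) ∧ ringKrullDim (Localization.AtPrime P) = 6 := by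
  classical
  let pt : Fin 9 → k := ![0, 1, 0, 0, 0, t, 0, 0, 0]
  let ev : Lie3Mod.D k →+* k := (MvPolynomial.eval pt)
  let P0 : Ideal (Lie3Mod.D k) := RingHom.ker ev
  haveI : P0.IsMaximal := RingHom.ker_isMaximal_of_surjective ev fun c => ⟨MvPolynomial.C c, MvPolynomial.eval_C c⟩
  let S : Set (Lie3Mod.D k) := {X 0, X 1 - 1, X 2, X 3, X 4, X 5 - C t, X 6, X 7, X 8}
  have hS : Ideal.span S = P0 := by
    refine le_antisymm (Ideal.span_le.2 ?_) ?_
    · intro z hz
      simp only [S, Set.mem_insert_iff, Set.mem_singleton_iff] at hz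
      rcases hz with rfl | rfl | rfl | rfl | rfl | rfl | rfl | rfl | rfl <;> simp [P0, ev, pt]
    · intro p hp
      have key : ∀ p : Lie3Mod.D k, p - C (ev p) ∈ Ideal.span S := by
        intro p
        induction p using MvPolynomial.induction_on with
        | C c => simp [ev]
        | add p q hp hq =>
          convert add_mem hp hq using 1
          simp only [map_add]
          ring
        | mul_X p i hp =>
          have hi : (X i : Lie3Mod.D k) - C (pt i) ∈ Ideal.span S := by
            refine Ideal.subset_span ?_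
            fin_cases i <;> simp [S, pt]
          have : p * X i - C (ev (p * X i)) = (p - C (ev p)) * X i + C (ev p) * (X i - C (pt i)) := by
            simp only [ev, map_mul, MvPolynomial.eval_X]
            ring
          rw [this]
          exact add_mem (Ideal.mul_mem_right _ _ hp) (Ideal.mul_mem_left _ _ hi)
      have := key p
      rwa [show ev p = 0 from hp, map_zero, sub_zero] at this
  have hJle : Lie3Mod.idJ k ≤ P0 := Ideal.span_le.2 (by
    rintro z (rfl | rfl | rfl | rfl) <;> simp [P0, ev, pt, Lie3Mod.Q1, Lie3Mod.Q2, Lie3Mod.Q3, Lie3Mod.detM])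
  have hP0 : P0 = P.comap (Ideal.Quotient.mk (Lie3Mod.idJ k)) := by
    rw [hP, Ideal.comap_map_quotientMk]
    exact ((congrArg (Lie3Mod.idJ k ⊔ ·) hS).trans (sup_eq_right.2 hJle)).symm
  obtain ⟨e⟩ := RegQuotPoint.nonempty_equiv (Lie3Mod.idJ k) P P0 hP0
  let R := Localization.AtPrime P0
  let am := algebraMap (Lie3Mod.D k) R
  haveI : IsRegularLocalRing R := IsRegularRing.isRegularLocalRing_localization P0
  have hdR : ringKrullDim R = ((6 + 3 : ℕ) : WithBot ℕ∞) := by
    rw [IsLocalization.AtPrime.ringKrullDim_eq_height P0, GLinFree.height_eq_of_isMaximal 9 P0]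
    rfl
  have hmem : ∀ z, am z ∈ IsLocalRing.maximalIdeal R ↔ ev z = 0 := fun z =>
    IsLocalization.AtPrime.to_map_mem_maximal_iff R P0 z
  let dir : Fin 3 → Fin 9 := ![6, 3, 8]
  let φ0 : Fin 3 → (Lie3Mod.D k →+* DualNumber k) := fun j =>
    (MvPolynomial.aeval fun i => TrivSqZeroExt.inl (pt i) + (if i = dir j then DualNumber.eps else 0)).toRingHom
  have hφfst : ∀ j z, TrivSqZeroExt.fst (φ0 j z) = ev z := by
    intro j z
    have : (TrivSqZeroExt.fstHom k k k).toRingHom.comp (φ0 j) = ev := by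
      refine MvPolynomial.ringHom_ext (fun c => ?_) (fun i => ?_)
      · simp [φ0, ev, TrivSqZeroExt.algebraMap_eq_inl]
      · by_cases h : i = dir j <;> simp [φ0, ev, h]
    exact RingHom.congr_fun this z
  let φ : Fin 3 → (R →+* DualNumber k) := fun j => IsLocalization.lift (M := P0.primeCompl) (g := φ0 j) fun y => by
    rw [TrivSqZeroExt.isUnit_iff_isUnit_fst, hφfst]
    exact isUnit_iff_ne_zero.2 y.2
  have hφam : ∀ j z, φ j (am z) = φ0 j z := fun j z => IsLocalization.lift_eq _ z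
  have hφm : ∀ j (z : R), z ∈ IsLocalRing.maximalIdeal R → TrivSqZeroExt.fst (φ j z) = 0 := by
    intro j z hz
    rw [← Localization.AtPrime.map_eq_maximalIdeal] at hz
    have hle : P0.map am ≤ RingHom.ker ((TrivSqZeroExt.fstHom k k k).toRingHom.comp (φ j)) :=
      Ideal.map_le_iff_le_comap.2 fun w hw => by
        show TrivSqZeroExt.fst (φ j (am w)) = 0
        rw [hφam, hφfst]
        exact hw
    exact hle hz
  have key : ∀ x : Fin 3 → Lie3Mod.D k, (∀ i, ev (x i) = 0) →
      (∀ j, TrivSqZeroExt.snd (φ0 j (x j)) ≠ 0) → (∀ i j, i ≠ j → TrivSqZeroExt.snd (φ0 j (x i)) = 0) →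
      (Lie3Mod.idJ k).map am = Ideal.span (Set.range fun i => am (x i)) →
      IsRegularLocalRing (Localization.AtPrime P) ∧ ringKrullDim (Localization.AtPrime P) = 6 := by
    intro x hx0 hne ho hspan
    have h := RegQuotPoint.regular_quot (fun i => am (x i)) (fun i => (hmem _).2 (hx0 i)) hdR
      (fun a ha j => RegQuotPoint.indep_of_dual (fun i => am (x i)) φ hφm
        (fun i j => by rw [hφam, hφfst]; exact hx0 i) (fun j => by rw [hφam]; exact hne j)
        (fun i j hij => by rw [hφam]; exact ho i j hij) a ha j)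
    let e' := e.trans (Ideal.quotEquivOfEq hspan)
    haveI := h.1
    exact ⟨IsRegularLocalRing.of_ringEquiv e'.symm, by
      rw [ringKrullDim_eq_of_ringEquiv e', h.2]; rfl⟩
  have hid : Lie3Mod.L2 k * Lie3Mod.detM k =
      (X 4 * X 2 - X 1 * X 5) * Lie3Mod.Q1 k + (X 7 * X 2 + X 8 * X 5) * Lie3Mod.Q2 k -
        (X 7 * X 1 + X 8 * X 4) * Lie3Mod.Q3 k := by
    simp only [Lie3Mod.L2, Lie3Mod.detM, Lie3Mod.Q1, Lie3Mod.Q2, Lie3Mod.Q3]
    ring
  have hu : ∀ z : Lie3Mod.D k, ev z ≠ 0 → IsUnit (am z) := fun z hz =>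
    IsLocalization.map_units R (⟨z, hz⟩ : P0.primeCompl)
  by_cases ht : (1 : k) + t = 0
  · have ht0 : t ≠ 0 := by rintro rfl; simp at ht
    refine key ![Lie3Mod.detM k, Lie3Mod.Q2 k, Lie3Mod.Q3 k] ?_ ?_ ?_ ?_
    · intro i; fin_cases i <;> simp [ev, pt, Lie3Mod.detM, Lie3Mod.Q2, Lie3Mod.Q3]
    · intro j; fin_cases j <;> simp [φ0, pt, dir, Lie3Mod.detM, Lie3Mod.Q2, Lie3Mod.Q3, ht0]
    · intro i j hij; fin_cases i <;> fin_cases j <;>
        first
        | exact absurd rfl hij
        | simp [φ0, pt, dir, Lie3Mod.detM, Lie3Mod.Q2, Lie3Mod.Q3]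
    · refine le_antisymm ?_ (Ideal.span_le.2 ?_)
      · rw [Lie3Mod.idJ, Ideal.map_span, Ideal.span_le]
        rintro _ ⟨z, (rfl | rfl | rfl | rfl), rfl⟩
        · have hc : IsUnit (am (X 4 * X 2 - X 1 * X 5)) := hu _ (by simp [ev, pt, ht0])
          have h1 : am (X 4 * X 2 - X 1 * X 5) * am (Lie3Mod.Q1 k) = am (Lie3Mod.L2 k) * am (Lie3Mod.detM k) -
              am (X 7 * X 2 + X 8 * X 5) * am (Lie3Mod.Q2 k) + am (X 7 * X 1 + X 8 * X 4) * am (Lie3Mod.Q3 k) := by
            rw [← map_mul, ← map_mul, ← map_mul, ← map_mul, ← map_sub, ← map_add, hid]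
            congr 1
            ring
          refine (Ideal.unit_mul_mem_iff_mem _ hc).1 ?_
          rw [h1]
          exact add_mem (sub_mem (Ideal.mul_mem_left _ _ (Ideal.subset_span ⟨0, rfl⟩))
            (Ideal.mul_mem_left _ _ (Ideal.subset_span ⟨1, rfl⟩))) (Ideal.mul_mem_left _ _ (Ideal.subset_span ⟨2, rfl⟩))
        · exact Ideal.subset_span ⟨1, rfl⟩
        · exact Ideal.subset_span ⟨2, rfl⟩
        · exact Ideal.subset_span ⟨0, rfl⟩
      · rintro _ ⟨i, rfl⟩
        refine Ideal.mem_map_of_mem _ (Ideal.subset_span ?_)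
        fin_cases i <;> simp
  · refine key ![Lie3Mod.Q1 k, Lie3Mod.Q2 k, Lie3Mod.Q3 k] ?_ ?_ ?_ ?_
    · intro i; fin_cases i <;> simp [ev, pt, Lie3Mod.Q1, Lie3Mod.Q2, Lie3Mod.Q3]
    · intro j; fin_cases j
      · simp [φ0, pt, dir, Lie3Mod.Q1]
        intro h
        exact ht (by linear_combination -h)
      · simp [φ0, pt, dir, Lie3Mod.Q2]
      · simp [φ0, pt, dir, Lie3Mod.Q3]
    · intro i j hij; fin_cases i <;> fin_cases j <;>
        first
        | exact absurd rfl hij
        | simp [φ0, pt, dir, Lie3Mod.Q1, Lie3Mod.Q2, Lie3Mod.Q3]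
    · refine le_antisymm ?_ (Ideal.span_le.2 ?_)
      · rw [Lie3Mod.idJ, Ideal.map_span, Ideal.span_le]
        rintro _ ⟨z, (rfl | rfl | rfl | rfl), rfl⟩
        · exact Ideal.subset_span ⟨0, rfl⟩
        · exact Ideal.subset_span ⟨1, rfl⟩
        · exact Ideal.subset_span ⟨2, rfl⟩
        · have hc : IsUnit (am (Lie3Mod.L2 k)) := hu _ (by simpa [ev, pt, Lie3Mod.L2] using ht)
          refine (Ideal.unit_mul_mem_iff_mem _ hc).1 ?_
          rw [← map_mul, hid, map_sub, map_add, map_mul, map_mul, map_mul]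
          exact sub_mem (add_mem (Ideal.mul_mem_left _ _ (Ideal.subset_span ⟨0, rfl⟩))
            (Ideal.mul_mem_left _ _ (Ideal.subset_span ⟨1, rfl⟩))) (Ideal.mul_mem_left _ _ (Ideal.subset_span ⟨2, rfl⟩))
      · rintro _ ⟨i, rfl⟩
        refine Ideal.mem_map_of_mem _ (Ideal.subset_span ?_)
        fin_cases i <;> simp

end Groth.Agent.S13105
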