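import Groth.Statements.S13106


set_option autoImplicit false
universe u
open GrpSch

namespace Groth.Agent.S13106

open CategoryTheory AlgebraicGeometry in
/-- Let f : X → Y be a morphism of schemes and U ⊆ Y a schematically dense open subscheme (for every
open V of Y, restriction of functions from V to V ∩ U is injective) such that the restriction f⁻¹(U)
→ U of f is an isomorphism. Then two morphisms from Y to a scheme separated over a base T that agree
after composing with f and have the same composite to T are equal: if Z → T is separated and v₁, v₂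
: Y → Z satisfy v₁ ≫ (Z → T) = v₂ ≫ (Z → T) and f ≫ v₁ = f ≫ v₂, then v₁ = v₂. (The published
statement is the case of a morphism between two prolongations over A[[t]] of a finite group scheme
over A((t)), where U is the generic fibre, schematically dense by flatness; uniqueness of
prolongation maps follows.) -/
theorem result {X Y Z T : Scheme.{u}} (f : X ⟶ Y)
    (U : Y.Opens) (hU : CInt.IsSchematicallyDense U) [IsIso (f ∣_ U)]
    (z : Z ⟶ T) [IsSeparated z] (v₁ v₂ : Y ⟶ Z) (hz : v₁ ≫ z = v₂ ≫ z) (h : f ≫ v₁ = f ≫ v₂) :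
    v₁ = v₂ := by
  let Y' : Over T := Over.mk (v₁ ≫ z)
  let Z' : Over T := Over.mk z
  let f₁ : Y' ⟶ Z' := Over.homMk v₁
  let f₂ : Y' ⟶ Z' := Over.homMk v₂ hz.symm
  have : IsSeparated Z'.hom := ‹_›
  have hU' : U.ι ≫ v₁ = U.ι ≫ v₂ := by
    rw [← cancel_epi (f ∣_ U)]
    simp only [← Category.assoc, morphismRestrict_ι]
    rw [Category.assoc, Category.assoc, h]
  let U' : Over T := Over.mk (U.ι ≫ v₁ ≫ z)
  let ι' : U' ⟶ Y' := Over.homMk U.ι
  let l := Limits.equalizer.lift ι' (show ι' ≫ f₁ = ι' ≫ f₂ by ext1; exact hU')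
  let e := (Limits.equalizer.ι f₁ f₂).left
  have hle : l.left ≫ e = U.ι := congrArg CommaMorphism.left (Limits.equalizer.lift_ι ι' _)
  have hker : e.ker = ⊥ := by
    have h1 : e.ker ≤ U.ι.ker := hle ▸ Scheme.Hom.le_ker_comp l.left e
    refine Scheme.IdealSheafData.ext (funext fun V => ?_)
    rw [Scheme.IdealSheafData.ideal_bot, Pi.bot_apply, eq_bot_iff]
    intro c hc
    have h2 : (U.ι.app V.1).hom c = 0 := U.ι.ideal_ker_le V (h1 V hc)
    rw [Ideal.mem_bot]
    refine hU V.1 ?_
    rw [map_zero]
    have hle' : V.1 ⊓ U ≤ U.ι ''ᵁ (U.ι ⁻¹ᵁ V.1) := by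
      rw [Scheme.Hom.image_preimage_eq_opensRange_inf, Scheme.Opens.opensRange_ι, inf_comm]
    rw [Scheme.Opens.ι_app] at h2
    have h3 := congrArg (Y.presheaf.map (homOfLE hle').op).hom h2
    replace h3 := h3.trans (map_zero _)
    exact (ConcreteCategory.congr_hom (Y.presheaf.map_comp _ _) c).trans h3
  have : IsIso e := IsClosedImmersion.isIso_iff_ker_eq_bot.mpr hker
  rw [← cancel_epi e]
  exact congrArg CommaMorphism.left (Limits.equalizer.condition f₁ f₂)

end Groth.Agent.S13106
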