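import Groth.Statements.S13107
import Mathlib.Tactic

set_option autoImplicit false
set_option linter.style.haveILetI false

universe u v w
open GrpSch

namespace Groth.Agent.S13107

lemma bracket {K : Type u} [CommRing K] {F : Type v} [LieRing F] [LieAlgebra K F] {T : K} {x y z : F}
    (h01 : ⁅x, y⁆ = z) (h02 : ⁅x, z⁆ = T • y) (h12 : ⁅y, z⁆ = 0) (a b c a' b' c' : K) :
    ⁅a • x + b • y + c • z, a' • x + b' • y + c' • z⁆ =
      (T * (a * c' - c * a')) • y + (a * b' - b * a') • z := by
  have h10 : ⁅y, x⁆ = -z := by rw [← lie_skew, h01]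
  have h20 : ⁅z, x⁆ = -(T • y) := by rw [← lie_skew, h02]
  have h21 : ⁅z, y⁆ = 0 := by rw [← lie_skew, h12, neg_zero]
  simp only [lie_add, add_lie, lie_smul, smul_lie, lie_self, h01, h02, h12, h10, h20, h21]
  module


/-- Let k be a field, K = k((t)) the field of Laurent series over k, F a Lie algebra over K with a basis
x' = bF 0, y' = bF 1, z' = bF 2 and brackets [x',y'] = z', [x',z'] = t y', [y',z'] = 0, and L a Lie
algebra over K with a basis x = bL 0, y = bL 1, z = bL 2 and brackets [x,y] = y, [x,z] = −z, [y,z] =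
0. Then there is no K-linear isomorphism of Lie algebras between L and F: F is a non-trivial form of
L over K. (The published result is the classification of three-dimensional Lie algebras over k((t))
for k algebraically closed of characteristic not 2, with F its only non-split entry; this row states
the non-isomorphism of F and L over k((t)) for every field k.) -/
theorem result (k : Type u) [Field k]
    (F : Type v) [LieRing F] [LieAlgebra (LaurentSeries k) F] (bF : Module.Basis (Fin 3) (LaurentSeries k) F)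
    (hF01 : ⁅bF 0, bF 1⁆ = bF 2) (hF02 : ⁅bF 0, bF 2⁆ = (HahnSeries.single 1 (1 : k) : LaurentSeries k) • bF 1)
    (hF12 : ⁅bF 1, bF 2⁆ = 0)
    (L : Type w) [LieRing L] [LieAlgebra (LaurentSeries k) L] (bL : Module.Basis (Fin 3) (LaurentSeries k) L)
    (hL01 : ⁅bL 0, bL 1⁆ = bL 1) (hL02 : ⁅bL 0, bL 2⁆ = -bL 2) (hL12 : ⁅bL 1, bL 2⁆ = 0) :
    IsEmpty (L ≃ₗ⁅LaurentSeries k⁆ F) := by
  refine ⟨fun φ => ?_⟩
  set T : LaurentSeries k := HahnSeries.single 1 (1 : k) with hT
  have h10 : ⁅bF 1, bF 0⁆ = -bF 2 := by rw [← lie_skew, hF01]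
  have h20 : ⁅bF 2, bF 0⁆ = -(T • bF 1) := by rw [← lie_skew, hF02]
  have h21 : ⁅bF 2, bF 1⁆ = 0 := by rw [← lie_skew, hF12, neg_zero]
  have hex : ∀ w : F, w = bF.repr w 0 • bF 0 + bF.repr w 1 • bF 1 + bF.repr w 2 • bF 2 := fun w => by
    conv_lhs => rw [← bF.sum_repr w, Fin.sum_univ_three]
  have hbr : ∀ v w : F, ⁅v, w⁆ = (T * (bF.repr v 0 * bF.repr w 2 - bF.repr v 2 * bF.repr w 0)) • bF 1
      + (bF.repr v 0 * bF.repr w 1 - bF.repr v 1 * bF.repr w 0) • bF 2 := fun v w => by
    conv_lhs => rw [hex v, hex w]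
    exact bracket hF01 hF02 hF12 _ _ _ _ _ _
  have e : ⁅φ (bL 0), φ (bL 1)⁆ = φ (bL 1) := by
    have h := congrArg φ hL01
    rwa [LieEquiv.map_lie] at h
  set a := bF.repr (φ (bL 0)) 0
  set u := bF.repr (φ (bL 1)) 1
  set v := bF.repr (φ (bL 1)) 2
  rw [hbr] at e
  have c0 : bF.repr (φ (bL 1)) 0 = 0 := by rw [← e]; simp
  have c1 : T * (a * v) = u := by
    have h := congrArg (fun w => bF.repr w 1) e
    simp [c0] at h
    exact h
  have c2 : a * u = v := by
    have h := congrArg (fun w => bF.repr w 2) e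
    simp [c0] at h
    exact h
  have hu : u ≠ 0 := by
    intro hu
    have hv : v = 0 := by rw [← c2, hu, mul_zero]
    apply bL.ne_zero 1
    apply φ.injective
    rw [map_zero]
    change φ (bL 1) = 0
    rw [hex (φ (bL 1)), c0]
    change _ + u • bF 1 + v • bF 2 = _
    simp [hu, hv]
  have hsq : a * a * T = 1 := by
    apply mul_right_cancel₀ hu
    linear_combination c1 + T * a * c2
  have ha : a ≠ 0 := fun h => by simp [h] at hsq
  have := congrArg HahnSeries.order hsq
  have hT0 : T ≠ 0 := HahnSeries.single_ne_zero one_ne_zero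
  rw [HahnSeries.order_mul (mul_ne_zero ha ha) hT0, HahnSeries.order_mul ha ha, HahnSeries.order_one,
    hT, HahnSeries.order_single one_ne_zero] at this
  omega

end Groth.Agent.S13107
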