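import Groth.Statements.S13108
import Mathlib.Tactic

set_option autoImplicit false
set_option linter.style.haveILetI false

universe u v w
open GrpSch

namespace Groth.Agent.S13108

/-- Let k be a field and t, t' ∈ k both non-zero; let L be a Lie algebra over k with a basis x = b 0, y
= b 1, z = b 2 and brackets [x,y] = y, [x,z] = t z, [y,z] = 0, and L' a Lie algebra over k with a
basis x' = b' 0, y' = b' 1, z' = b' 2 and brackets [x',y'] = y', [x',z'] = t' z', [y',z'] = 0. Then
L and L' are isomorphic Lie algebras over k if and only if t' = t or t' = t⁻¹. -/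
theorem result (k : Type u) [Field k] (t t' : k) (ht : t ≠ 0) (ht' : t' ≠ 0)
    (L : Type v) [LieRing L] [LieAlgebra k L] (b : Module.Basis (Fin 3) k L)
    (h01 : ⁅b 0, b 1⁆ = b 1) (h02 : ⁅b 0, b 2⁆ = t • b 2) (h12 : ⁅b 1, b 2⁆ = 0)
    (L' : Type w) [LieRing L'] [LieAlgebra k L'] (b' : Module.Basis (Fin 3) k L')
    (h01' : ⁅b' 0, b' 1⁆ = b' 1) (h02' : ⁅b' 0, b' 2⁆ = t' • b' 2) (h12' : ⁅b' 1, b' 2⁆ = 0) :
    Nonempty (L ≃ₗ⁅k⁆ L') ↔ (t' = t ∨ t' = t⁻¹) := by
  have key : ∀ (s : k) {V : Type w} [LieRing V] [LieAlgebra k V] (c : Module.Basis (Fin 3) k V),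
      ⁅c 0, c 1⁆ = c 1 → ⁅c 0, c 2⁆ = s • c 2 → ⁅c 1, c 2⁆ = 0 → ∀ a b d p q r : k,
      ⁅a • c 0 + b • c 1 + d • c 2, p • c 0 + q • c 1 + r • c 2⁆ =
        (a * q - p * b) • c 1 + (s * (a * r - p * d)) • c 2 := by
    intro s V _ _ c c01 c02 c12 a b d p q r
    have h10 : ⁅c 1, c 0⁆ = -c 1 := by rw [← lie_skew, c01]
    have h20 : ⁅c 2, c 0⁆ = -(s • c 2) := by rw [← lie_skew, c02]
    have h21 : ⁅c 2, c 1⁆ = 0 := by rw [← lie_skew, c12, neg_zero]
    simp only [add_lie, lie_add, smul_lie, lie_smul, lie_self, c01, c02, c12, h10, h20, h21]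
    module
  have coeff : ∀ p q r p' q' r' : k, p • b' 0 + q • b' 1 + r • b' 2 = p' • b' 0 + q' • b' 1 + r' • b' 2 →
      p = p' ∧ q = q' ∧ r = r' := by
    intro p q r p' q' r' h
    have h0 := congrArg (fun v => b'.repr v 0) h
    have h1 := congrArg (fun v => b'.repr v 1) h
    have h2 := congrArg (fun v => b'.repr v 2) h
    simp at h0 h1 h2
    exact ⟨h0, h1, h2⟩
  have hrep : ∀ v : L', v = b'.repr v 0 • b' 0 + b'.repr v 1 • b' 1 + b'.repr v 2 • b' 2 := by
    intro v
    conv_lhs => rw [← b'.sum_repr v, Fin.sum_univ_three]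
  have hL : ∀ v : L, v = b.repr v 0 • b 0 + b.repr v 1 • b 1 + b.repr v 2 • b 2 := by
    intro v
    conv_lhs => rw [← b.sum_repr v, Fin.sum_univ_three]
  constructor
  · rintro ⟨φ⟩
    have e1 : φ (b 1) = ⁅φ (b 0), φ (b 1)⁆ := by rw [← LieEquiv.map_lie, h01]
    have e2 : t • φ (b 2) = ⁅φ (b 0), φ (b 2)⁆ := by rw [← LieEquiv.map_lie, h02, map_smul]
    obtain ⟨a, x, y, r0⟩ : ∃ a x y : k, φ (b 0) = a • b' 0 + x • b' 1 + y • b' 2 := ⟨_, _, _, hrep _⟩
    obtain ⟨p, i, j, r1⟩ : ∃ a x y : k, φ (b 1) = a • b' 0 + x • b' 1 + y • b' 2 := ⟨_, _, _, hrep _⟩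
    obtain ⟨g, h, l, r2⟩ : ∃ a x y : k, φ (b 2) = a • b' 0 + x • b' 1 + y • b' 2 := ⟨_, _, _, hrep _⟩
    rw [r0, r1, key t' b' h01' h02' h12'] at e1
    rw [r0, r2, key t' b' h01' h02' h12'] at e2
    obtain ⟨hp, hi, hj⟩ := coeff p i j 0 (a * i - p * x) (t' * (a * j - p * y)) (by rw [e1]; module)
    obtain ⟨hg, hh, hl⟩ := coeff (t * g) (t * h) (t * l) 0 (a * h - g * x) (t' * (a * l - g * y))
      (by refine Eq.trans ?_ (Eq.trans e2 ?_) <;> module)
    have hg0 : g = 0 := (mul_eq_zero.1 hg).resolve_left ht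
    subst hp hg0
    have hnz : i * l - j * h ≠ 0 := by
      intro hD
      have hne1 : φ (b 1) ≠ 0 := fun hc => b.ne_zero 1 (φ.injective (hc.trans (map_zero φ).symm))
      have hnl : ∀ u v : k, u • φ (b 1) + v • φ (b 2) = 0 → u = 0 ∧ v = 0 := by
        intro u v huv
        have h' : u • b 1 + v • b 2 = 0 := φ.injective (by simpa using huv)
        have h1 := congrArg (fun w => b.repr w 1) h'
        have h2 := congrArg (fun w => b.repr w 2) h'
        simp at h1 h2
        exact ⟨h1, h2⟩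
      have hl0 := hnl l (-j) (by
        rw [r1, r2]
        match_scalars <;> first | ring1 | linear_combination hD)
      have hh0 := hnl h (-i) (by
        rw [r1, r2]
        match_scalars <;> first | ring1 | linear_combination -hD)
      exact hne1 (by rw [r1, neg_eq_zero.1 hl0.2, neg_eq_zero.1 hh0.2]; simp)
    by_cases ha : a = 1
    · by_cases hl0 : l = 0
      · have hjh : j ≠ 0 ∧ h ≠ 0 := by constructor <;> intro hc <;> simp [hl0, hc] at hnz
        have t1 : t' = 1 := mul_right_cancel₀ hjh.1 (by rw [ha] at hj; linear_combination -hj)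
        have t2 : t = 1 := mul_right_cancel₀ hjh.2 (by rw [ha] at hh; linear_combination hh)
        exact Or.inl (t1.trans t2.symm)
      · exact Or.inl (mul_right_cancel₀ hl0 (by rw [ha] at hl; linear_combination -hl))
    · have hi0 : i = 0 := by
        by_contra hc
        exact ha (mul_right_cancel₀ hc (by linear_combination -hi))
      have hjh : j ≠ 0 ∧ h ≠ 0 := by constructor <;> intro hc <;> simp [hi0, hc] at hnz
      have hat : a = t := mul_right_cancel₀ hjh.2 (by linear_combination -hh)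
      have h1 : t' * a = 1 := mul_right_cancel₀ hjh.1 (by linear_combination -hj)
      exact Or.inr (eq_inv_of_mul_eq_one_left (hat ▸ h1))
  · intro hcase
    obtain ⟨x, y, z, hxy, hxz, hyz, hind, hsp⟩ : ∃ x y z : L', ⁅x, y⁆ = y ∧ ⁅x, z⁆ = t • z ∧ ⁅y, z⁆ = 0 ∧
        LinearIndependent k ![x, y, z] ∧ ⊤ ≤ Submodule.span k (Set.range ![x, y, z]) := by
      rcases hcase with rfl | rfl
      · refine ⟨b' 0, b' 1, b' 2, h01', h02', h12', ?_, ?_⟩
        · have : ![b' 0, b' 1, b' 2] = ⇑b' := by ext i; fin_cases i <;> rfl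
          rw [this]; exact b'.linearIndependent
        · have : ![b' 0, b' 1, b' 2] = ⇑b' := by ext i; fin_cases i <;> rfl
          rw [this, b'.span_eq]
      · let c : Module.Basis (Fin 3) k L' :=
          (b'.reindex (Equiv.swap 1 2)).unitsSMul ![Units.mk0 t ht, 1, 1]
        have hc : ![t • b' 0, b' 2, b' 1] = ⇑c := by
          ext i
          fin_cases i <;> simp [c, Module.Basis.unitsSMul_apply, Equiv.swap_apply_def, Units.smul_def]
        refine ⟨t • b' 0, b' 2, b' 1, ?_, ?_, ?_, ?_, ?_⟩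
        · rw [smul_lie, h02', smul_smul, mul_inv_cancel₀ ht, one_smul]
        · rw [smul_lie, h01']
        · rw [← lie_skew, h12', neg_zero]
        · rw [hc]; exact c.linearIndependent
        · rw [hc, c.span_eq]
    let c : Module.Basis (Fin 3) k L' := Module.Basis.mk hind hsp
    let e := b.equiv c (Equiv.refl _)
    have he : ∀ i, e (b i) = c i := fun i => by simp [e]
    have hc0 : c 0 = x := by simp [c]
    have hc1 : c 1 = y := by simp [c]
    have hc2 : c 2 = z := by simp [c]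
    refine ⟨{ e with map_lie' := fun {u v} => ?_ }⟩
    change e ⁅u, v⁆ = ⁅e u, e v⁆
    rw [hL u, hL v]
    have k2 := key t c (by rw [hc0, hc1, hxy]) (by rw [hc0, hc2, hxz]) (by rw [hc1, hc2, hyz])
    simp only [map_add, map_smul, he, k2]
    have h10 : ⁅b 1, b 0⁆ = -b 1 := by rw [← lie_skew, h01]
    have h20 : ⁅b 2, b 0⁆ = -(t • b 2) := by rw [← lie_skew, h02]
    have h21 : ⁅b 2, b 1⁆ = 0 := by rw [← lie_skew, h12, neg_zero]
    simp only [add_lie, lie_add, smul_lie, lie_smul, lie_self, h01, h02, h12, h10, h20, h21, map_add,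
      map_smul, map_neg, map_zero, he]
    module

end Groth.Agent.S13108
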