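import Groth.Statements.S13112
import Groth.Agent.WeakNormN.Lift

set_option autoImplicit false
universe u
open HTop

namespace Groth.Agent.S13112

open CategoryTheory CategoryTheory.Limits AlgebraicGeometry in
/-- Let k be a field, T a seminormal scheme of finite type over k, and f : X → Y a proper universally
injective k-morphism of schemes locally of finite type over k. If a morphism of schemes g : T → Y
lifts through f at every point of T, i.e. for every t the composite Spec κ(t) → T → Y factors
through f, then g itself factors through f. -/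
theorem result
    {k : Type u} [Field k] {T X Y : Scheme.{u}}
    (sT : T ⟶ Spec (CommRingCat.of k)) (sX : X ⟶ Spec (CommRingCat.of k)) (sY : Y ⟶ Spec (CommRingCat.of k))
    [LocallyOfFiniteType sT] [QuasiCompact sT] [LocallyOfFiniteType sX] [LocallyOfFiniteType sY]
    (hT : HTop.IsSeminormal T)
    (f : X ⟶ Y) (hf : f ≫ sY = sX) [IsProper f] [UniversallyInjective f]
    (g : T ⟶ Y)
    (hlift : ∀ t : T, ∃ l : Spec (T.residueField t) ⟶ X, l ≫ f = T.fromSpecResidueField t ≫ g) :
    ∃ h : T ⟶ X, h ≫ f = g := by
  let π : pullback f g ⟶ T := pullback.snd f g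
  haveI : IsProper π := inferInstanceAs (IsProper (pullback.snd f g))
  haveI : UniversallyInjective π := MorphismProperty.IsStableUnderBaseChange.of_isPullback (P := @UniversallyInjective) (self := UniversallyInjective.isStableUnderBaseChange) (IsPullback.of_hasPullback f g) ‹_›
  have hsec : ∀ t : T, ∃ s : Spec (T.residueField t) ⟶ pullback f g, s ≫ π = T.fromSpecResidueField t := fun t => by
    obtain ⟨l, hl⟩ := hlift t
    exact ⟨pullback.lift l (T.fromSpecResidueField t) hl, pullback.lift_snd _ _ _⟩
  haveI : Surjective π := ⟨fun t => by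
    obtain ⟨s, hs⟩ := hsec t
    refine ⟨s (IsLocalRing.closedPoint _), ?_⟩
    exact (congrArg (fun m => m.base (IsLocalRing.closedPoint (T.residueField t))) hs).trans
      (T.fromSpecResidueField_apply t _)⟩
  obtain ⟨h, hh⟩ := Groth.Agent.WeakNormN.exists_lift_of_isSeminormal hT π
    (Groth.Agent.WeakNormN.isUnivHomeo_of_isProper π)
    (Groth.Agent.WeakNormN.residueFieldsIso_of_sections π fun z => hsec (π z)) (𝟙 T)
  refine ⟨h ≫ pullback.fst f g, ?_⟩
  rw [Category.assoc, pullback.condition, reassoc_of% hh]

end Groth.Agent.S13112
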