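import Groth.Statements.S13114
import Mathlib

set_option autoImplicit false
universe u
open HilbChow

namespace Groth.Agent.S13114

/-- Let k be an algebraically closed field, A a commutative local k-algebra of finite dimension n over k
and u a unit of A. Then the determinant of multiplication by u on the k-vector space A, mapped to
the residue field of A, equals the n-th power of the residue class of u. -/
theorem result
    (k A : Type u) [Field k] [IsAlgClosed k] [CommRing A] [Algebra k A] [IsLocalRing A]
    [Module.Finite k A] (u : Aˣ) :
    algebraMap k (IsLocalRing.ResidueField A) (Algebra.norm k (u : A)) =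
      IsLocalRing.residue A (u : A) ^ Module.finrank k A := by
  set n := Module.finrank k A with hn
  have : IsArtinianRing A := isArtinian_of_tower k inferInstance
  have hbij : Function.Bijective (algebraMap k (IsLocalRing.ResidueField A)) :=
    IsAlgClosed.algebraMap_bijective_of_isIntegral
  obtain ⟨c, hc⟩ := hbij.2 (IsLocalRing.residue A (u : A))
  have hmem : (u : A) - algebraMap k A c ∈ IsLocalRing.maximalIdeal A := by
    rw [← IsLocalRing.residue_eq_zero_iff, map_sub, ← hc]
    exact sub_self _
  obtain ⟨N, hN⟩ : IsNilpotent ((u : A) - algebraMap k A c) := by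
    obtain ⟨m, hm⟩ := IsArtinianRing.isNilpotent_jacobson_bot (R := A)
    refine ⟨m, ?_⟩
    rw [IsLocalRing.jacobson_eq_maximalIdeal ⊥ bot_ne_top] at hm
    have := Ideal.pow_mem_pow hmem m
    rw [hm] at this
    exact this
  set x := (u : A) - algebraMap k A c with hx
  have hnil : IsNilpotent (-(LinearMap.mulLeft k x)) := by
    refine IsNilpotent.neg ⟨N, ?_⟩
    rw [LinearMap.pow_mulLeft, hN, LinearMap.mulLeft_zero_eq_zero]
  have hdet : Algebra.norm k (u : A) = c ^ n := by
    have h := LinearMap.eval_charpoly (-(LinearMap.mulLeft k x)) c
    rw [(LinearMap.charpoly_eq_X_pow_iff _).2 (fun m => ?_), Polynomial.eval_pow, Polynomial.eval_X,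
      sub_neg_eq_add] at h
    · rw [Algebra.norm_apply, h]
      congr 1
      ext y
      show (u : A) * y = c • y + x * y
      rw [hx, Algebra.smul_def]; ring
    · obtain ⟨M, hM⟩ := hnil
      exact ⟨M, by rw [hM]; rfl⟩
  rw [hdet, map_pow, hc]

end Groth.Agent.S13114
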