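import Groth.Statements.S13115
import Mathlib.LinearAlgebra.PiTensorProduct.Basis
import Mathlib.LinearAlgebra.Dual.Lemmas
import Mathlib.Algebra.MvPolynomial.Funext
import Mathlib.Data.Fin.Tuple.Sort
import Mathlib.Data.Finsupp.Multiset
-- import your own Groth.Agent.* helpers here

set_option autoImplicit false
set_option linter.style.haveILetI false
set_option linter.unusedSimpArgs false
universe u
open scoped TensorProduct
open HilbChow

namespace Groth.Agent.S13115

/-- Let k be an infinite field, V a k-vector space and m a natural number. Then every symmetric tensor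
in the m-fold tensor power of V — one fixed by every permutation of the factors — is a k-linear
combination of pure powers v ⊗ ⋯ ⊗ v with v in V. (The published statement concerns the ring of
functions of an affine scheme over an infinite field, where it gives the uniqueness of the algebra
map defining the Hilbert-to-Chow morphism for zero-cycles; this row states it for any vector space.) -/
theorem result
    (k V : Type u) [Field k] [Infinite k] [AddCommGroup V] [Module k V] (m : ℕ)
    (x : ⨂[k] _ : Fin m, V)
    (hx : ∀ σ : Equiv.Perm (Fin m), PiTensorProduct.reindex k (fun _ : Fin m => V) σ x = x) :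
    x ∈ Submodule.span k (Set.range fun v : V => PiTensorProduct.tprod k (fun _ : Fin m => v)) := by
  classical
  by_contra hnot
  obtain ⟨φ, hφne, hφ⟩ := Submodule.exists_dual_map_eq_bot_of_notMem hnot inferInstance
  refine hφne ?_
  have hvan : ∀ v : V, φ (PiTensorProduct.tprod k fun _ : Fin m => v) = 0 := fun v =>
    (Submodule.eq_bot_iff _).1 hφ _ ⟨_, Submodule.subset_span ⟨v, rfl⟩, rfl⟩
  let b := Module.Basis.ofVectorSpace k V
  let B := Basis.piTensorProduct (fun _ : Fin m => b)
  -- the exponent of a multi-index
  let cls : (Fin m → Module.Basis.ofVectorSpaceIndex k V) → (Module.Basis.ofVectorSpaceIndex k V →₀ ℕ) :=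
    fun q => ∑ j, Finsupp.single (q j) 1
  have hperm : ∀ q q', cls q = cls q' → ∃ σ : Equiv.Perm (Fin m), q' = q ∘ σ := by
    intro q q' h
    refine ⟨Equiv.ofFiberEquiv (f := q') (g := q) fun c => Fintype.equivOfCardEq ?_, ?_⟩
    · have := Finsupp.ext_iff.1 h c
      simp only [cls, Finsupp.finsetSum_apply, Finsupp.single_apply, Finset.sum_boole, Nat.cast_id] at this
      rw [Fintype.card_subtype, Fintype.card_subtype]
      exact this.symm
    · funext j
      exact (Equiv.ofFiberEquiv_map _ j).symm
  have hre : ∀ (σ : Equiv.Perm (Fin m)) (q : Fin m → Module.Basis.ofVectorSpaceIndex k V),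
      B.repr x (q ∘ σ) = B.repr x q := by
    intro σ q
    have h : (Finsupp.lapply q).comp (B.repr.toLinearMap.comp
        (PiTensorProduct.reindex k (fun _ : Fin m => V) σ).toLinearMap) =
        (Finsupp.lapply (q ∘ σ)).comp B.repr.toLinearMap := by
      refine PiTensorProduct.ext (MultilinearMap.ext fun v => ?_)
      simp only [LinearMap.compMultilinearMap_apply, LinearMap.comp_apply, LinearEquiv.coe_coe,
        PiTensorProduct.reindex_tprod, Finsupp.lapply_apply, B,
        Basis.piTensorProduct_repr_tprod_apply, Function.comp_apply]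
      exact Fintype.prod_equiv σ.symm _ _ fun i => by simp
    have h2 := LinearMap.congr_fun h x
    simp only [LinearMap.comp_apply, LinearEquiv.coe_coe, hx σ, Finsupp.lapply_apply] at h2
    exact h2.symm
  let T := (B.repr x).support
  let S : Finset (Module.Basis.ofVectorSpaceIndex k V) := T.biUnion fun q => Finset.univ.image q
  let box := Fintype.piFinset (fun _ : Fin m => S)
  have hTbox : T ⊆ box := fun q hq => Fintype.mem_piFinset.2 fun j =>
    Finset.mem_biUnion.2 ⟨q, hq, Finset.mem_image_of_mem q (Finset.mem_univ j)⟩
  -- the polynomial `t ↦ φ ((Σ t_i b_i)^{⊗ m})`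
  let p : MvPolynomial (Module.Basis.ofVectorSpaceIndex k V) k :=
    ∑ q ∈ box, MvPolynomial.monomial (cls q) (φ (B q))
  have hp : p = 0 := by
    refine MvPolynomial.funext fun t => ?_
    rw [map_zero, ← hvan (∑ i ∈ S, t i • b i), MultilinearMap.map_sum_finset, map_sum]
    simp only [p, map_sum]
    refine Finset.sum_congr rfl fun q _ => ?_
    rw [MultilinearMap.map_smul_univ, map_smul, smul_eq_mul]
    simp only [B, Basis.piTensorProduct_apply]
    rw [MvPolynomial.monomial_eq, map_mul, MvPolynomial.eval_C, mul_comm]
    congr 1
    rw [Finsupp.prod, map_prod]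
    simp only [map_pow, MvPolynomial.eval_X]
    have hsum : (cls q).prod (fun i e => t i ^ e) = ∏ j, t (q j) := by
      rw [← Finsupp.prod_finsetSum_index (fun _ => pow_zero _) (fun _ _ _ => pow_add _ _ _)]
      exact Finset.prod_congr rfl fun j _ => by simp
    exact hsum
  have hclass : ∀ e, ∑ q ∈ box.filter (fun q => cls q = e), φ (B q) = 0 := by
    intro e
    have := congrArg (MvPolynomial.coeff e) hp
    simpa [p, MvPolynomial.coeff_sum, MvPolynomial.coeff_monomial, Finset.sum_filter] using this
  have hxsum : x = ∑ q ∈ box, B.repr x q • B q := by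
    conv_lhs => rw [← B.linearCombination_repr x]
    rw [Finsupp.linearCombination_apply]
    exact Finsupp.sum_of_support_subset _ hTbox _ fun q _ => zero_smul _ _
  rw [hxsum, map_sum, ← Finset.sum_fiberwise_of_maps_to (t := box.image cls) (g := cls)
    (fun q hq => Finset.mem_image_of_mem _ hq)]
  refine Finset.sum_eq_zero fun e _ => ?_
  rcases (box.filter fun q => cls q = e).eq_empty_or_nonempty with h0 | ⟨q₀, hq₀⟩
  · rw [h0, Finset.sum_empty]
  · calc ∑ q ∈ box.filter (fun q => cls q = e), φ (B.repr x q • B q)
        = ∑ q ∈ box.filter (fun q => cls q = e), B.repr x q₀ * φ (B q) := by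
          refine Finset.sum_congr rfl fun q hq => ?_
          obtain ⟨σ, rfl⟩ := hperm q₀ q ((Finset.mem_filter.1 hq₀).2.trans (Finset.mem_filter.1 hq).2.symm)
          rw [map_smul, smul_eq_mul, hre]
      _ = 0 := by rw [← Finset.mul_sum, hclass, mul_zero]

end Groth.Agent.S13115
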