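import Groth.Statements.S13116
import Groth.Agent.LBDesc.SpecGamma

set_option autoImplicit false
universe u
open HilbChow

namespace Groth.Agent.S13116

open CategoryTheory CategoryTheory.Limits AlgebraicGeometry in
/-- Let k be a field, X an integral scheme smooth over k that is a closed subscheme of a projective
space over k, R a discrete valuation ring containing k, Z a subscheme of X ×_k Spec R which is
finite over Spec R, and L an invertible module on X. Then the pullback of L to Z along Z → X ×_k
Spec R → X is isomorphic to the structure sheaf of Z (an isomorphism exists; none is singled out). -/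
theorem result
    {k : Type u} [Field k] {X : Scheme.{u}} (sX : X ⟶ Spec (CommRingCat.of k))
    [IsIntegral X] [Smooth sX] (hproj : RelProj.IsHProjective sX)
    (R : Type u) [CommRing R] [IsDomain R] [IsDiscreteValuationRing R] [Algebra k R]
    {Z : Scheme.{u}}
    (i : Z ⟶ pullback sX (Spec.map (CommRingCat.ofHom (algebraMap k R)))) [IsImmersion i]
    [IsFinite (i ≫ pullback.snd sX (Spec.map (CommRingCat.ofHom (algebraMap k R))))]
    (L : X.Modules) (hL : PicF.IsInvertible L) :
    Nonempty ((Scheme.Modules.pullback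
        (i ≫ pullback.fst sX (Spec.map (CommRingCat.ofHom (algebraMap k R))))).obj L ≅
      Coh.structureModule Z) := by
  let f := i ≫ pullback.snd sX (Spec.map (CommRingCat.ofHom (algebraMap k R)))
  haveI : IsAffine Z := isAffine_of_isAffineHom f
  algebraize [((Scheme.ΓSpecIso (CommRingCat.of R)).inv ≫ f.appTop).hom]
  have hfin : ((Scheme.ΓSpecIso (CommRingCat.of R)).inv ≫ f.appTop).hom.Finite := by
    rw [CommRingCat.hom_comp]
    exact (IsFinite.finite_app f ⊤ (isAffineOpen_top _)).comp
      (RingHom.Finite.of_surjective _ (ConcreteCategory.bijective_of_isIso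
        (Scheme.ΓSpecIso (CommRingCat.of R)).inv).2)
  haveI : Module.Finite R Γ(Z, ⊤) := hfin
  let I : Ideal Γ(Z, ⊤) := (IsLocalRing.maximalIdeal R).map (algebraMap R Γ(Z, ⊤))
  haveI : IsArtinianRing (Γ(Z, ⊤) ⧸ I) := by
    letI : Field (R ⧸ IsLocalRing.maximalIdeal R) := Ideal.Quotient.field _
    haveI : Module.Finite (R ⧸ IsLocalRing.maximalIdeal R) (Γ(Z, ⊤) ⧸ I) :=
      Module.Finite.of_restrictScalars_finite R _ _
    exact isArtinian_of_tower (R ⧸ IsLocalRing.maximalIdeal R) inferInstance
  haveI : Finite (MaximalSpectrum Γ(Z, ⊤)) := by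
    have hle : ∀ m : MaximalSpectrum Γ(Z, ⊤), I ≤ m.asIdeal := fun m => by
      haveI := m.isMaximal
      rw [Ideal.map_le_iff_le_comap]
      exact (IsLocalRing.eq_maximalIdeal (Ideal.isMaximal_comap_of_isIntegral_of_isMaximal m.asIdeal)).ge
    refine Finite.of_injective (fun m => (⟨m.asIdeal.map (Ideal.Quotient.mk I),
      (Ideal.map_eq_top_or_isMaximal_of_surjective _ Ideal.Quotient.mk_surjective m.isMaximal).resolve_left
        (fun h => ?_)⟩ : MaximalSpectrum (Γ(Z, ⊤) ⧸ I))) (fun m n h => ?_)
    · have := congrArg (Ideal.comap (Ideal.Quotient.mk I)) h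
      rw [Ideal.comap_top, Ideal.comap_map_of_surjective _ Ideal.Quotient.mk_surjective,
        ← RingHom.ker_eq_comap_bot, Ideal.mk_ker, sup_eq_left.2 (hle m)] at this
      exact m.isMaximal.ne_top this
    · have := congrArg (fun J => J.asIdeal.comap (Ideal.Quotient.mk I)) h
      simp only [Ideal.comap_map_of_surjective _ Ideal.Quotient.mk_surjective,
        ← RingHom.ker_eq_comap_bot, Ideal.mk_ker, sup_eq_left.2 (hle m), sup_eq_left.2 (hle n)] at this
      exact MaximalSpectrum.ext this
  let g := i ≫ pullback.fst sX (Spec.map (CommRingCat.ofHom (algebraMap k R)))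
  obtain ⟨e⟩ := LBDesc.nonempty_trivial_of_semilocal Γ(Z, ⊤)
    (PicLoc.isInvertible_pullback Z.isoSpec.inv (PicLoc.isInvertible_pullback g hL))
  exact ⟨((Scheme.Modules.pullbackId Z).app _).symm ≪≫
    ((Scheme.Modules.pullbackCongr Z.isoSpec.hom_inv_id.symm).app _) ≪≫
    ((Scheme.Modules.pullbackComp Z.isoSpec.hom Z.isoSpec.inv).app _).symm ≪≫
    (Scheme.Modules.pullback Z.isoSpec.hom).mapIso e ≪≫ PicLoc.pullbackStructureIso Z.isoSpec.hom⟩

end Groth.Agent.S13116
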