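import Groth.Statements.S13117
import Mathlib

set_option autoImplicit false
universe u
open HilbChow

namespace Groth.Agent.S13117

/-- the determinant of a diagonal map of a product -/
theorem det_diag {k : Type u} [Field k] {ι : Type u} [Fintype ι] (M : ι → Type u) [∀ i, AddCommGroup (M i)]
    [∀ i, Module k (M i)] [∀ i, Module.Finite k (M i)] (g : ∀ i, M i →ₗ[k] M i) :
    (LinearMap.piMap g).det = ∏ i, (g i).det := by
  classical
  have h1 : ∀ a, (LinearMap.piMap (Function.update (fun _ => LinearMap.id) a (g a)) : (∀ i, M i) →ₗ[k] ∀ i, M i).det =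
      (g a).det := by
    intro a
    let e := LinearMap.piMap (Function.update (fun i => (LinearMap.id : M i →ₗ[k] M i)) a (g a))
    let W : Submodule k (∀ i, M i) := LinearMap.ker (LinearMap.proj a)
    have he : W ≤ W.comap e := fun x hx => by
      show e x a = 0
      simp only [e, LinearMap.coe_piMap, Pi.map_apply, Function.update_self]
      rw [show x a = 0 from hx, map_zero]
    have hr : e.restrict he = LinearMap.id := LinearMap.ext fun x => Subtype.ext (funext fun i => by
      show e x.1 i = x.1 i
      rcases eq_or_ne i a with rfl | h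
      · simp only [e, LinearMap.coe_piMap, Pi.map_apply, Function.update_self]
        rw [show x.1 i = 0 from x.2, map_zero]
      · simp [e, Function.update_of_ne h])
    let q : ((∀ i, M i) ⧸ W) ≃ₗ[k] M a :=
      (LinearMap.proj (R := k) (φ := M) a).quotKerEquivOfSurjective fun y => ⟨Pi.single a y, Pi.single_eq_same a y⟩
    have hq : (W.mapQ W e he).det = (g a).det := by
      rw [← LinearMap.det_conj (W.mapQ W e he) q]
      congr 1
      refine LinearMap.ext fun y => ?_
      obtain ⟨z, rfl⟩ := q.surjective y
      obtain ⟨x, rfl⟩ := W.mkQ_surjective z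
      rw [LinearMap.comp_apply, LinearMap.comp_apply, LinearEquiv.coe_coe, LinearEquiv.coe_coe, q.symm_apply_apply]
      show (Function.update (fun i => (LinearMap.id : M i →ₗ[k] M i)) a (g a) a) (x a) = g a (x a)
      rw [Function.update_self]
    rw [LinearMap.det_eq_det_mul_det W e he, hr, hq, LinearMap.det_id, one_mul]
  suffices H : ∀ s : Finset ι, (LinearMap.piMap fun i => if i ∈ s then g i else LinearMap.id).det = ∏ i ∈ s, (g i).det by
    have := H Finset.univ
    simpa using this
  intro s
  induction s using Finset.induction with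
  | empty =>
    rw [show (LinearMap.piMap fun i => if i ∈ (∅ : Finset ι) then g i else LinearMap.id) = LinearMap.id from
      LinearMap.ext fun x => funext fun i => by simp, LinearMap.det_id, Finset.prod_empty]
  | insert a s ha ih =>
    rw [Finset.prod_insert ha, ← ih, ← h1 a, ← LinearMap.det_comp]
    congr 1
    refine LinearMap.ext fun x => funext fun i => ?_
    rcases eq_or_ne i a with rfl | h
    · simp [ha]
    · simp [Function.update_of_ne h, h]

/-- Let k be an algebraically closed field, A a finite-dimensional commutative k-algebra (the coordinate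
ring of a zero-dimensional subscheme Z of length dim_k A) and f ∈ A. Then the determinant of
multiplication by f on A is the product over the points x of Z — the k-algebra homomorphisms A → k —
of the value f(x) raised to the length of the local ring of Z at x, that length being the
k-dimension of the localisation of A at the corresponding maximal ideal. This is the formula by
which the Hilbert-to-Chow morphism for zero-cycles sends Z to its fundamental cycle Σ ℓ(O_{Z,x})[x]. -/
theorem result
    (k A : Type u) [Field k] [IsAlgClosed k] [CommRing A] [Algebra k A] [Module.Finite k A] (f : A) :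
    Algebra.norm k f =
      ∏ᶠ φ : A →ₐ[k] k, φ f ^ Module.finrank k (Localization.AtPrime (Ideal.comap φ ⊥)) := by
  classical
  haveI : IsArtinianRing A := IsArtinianRing.of_finite k A
  haveI : Fintype (PrimeSpectrum A) := Fintype.ofFinite _
  have hex : ∀ p : PrimeSpectrum A, ∃ φ : A →ₐ[k] k, Ideal.comap φ ⊥ = p.asIdeal := fun p => by
    haveI := Ideal.Quotient.field p.asIdeal
    let e : k ≃ₐ[k] A ⧸ p.asIdeal :=
      AlgEquiv.ofBijective (Algebra.ofId k (A ⧸ p.asIdeal)) IsAlgClosed.algebraMap_bijective_of_isIntegral
    refine ⟨e.symm.toAlgHom.comp (Ideal.Quotient.mkₐ k p.asIdeal), Ideal.ext fun x => ?_⟩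
    show e.symm (Ideal.Quotient.mk p.asIdeal x) ∈ (⊥ : Ideal k) ↔ _
    rw [Ideal.mem_bot, EmbeddingLike.map_eq_zero_iff, Ideal.Quotient.eq_zero_iff_mem]
  choose φ hφ using hex
  have hbij : Function.Bijective φ := by
    refine ⟨fun p q h => PrimeSpectrum.ext (by rw [← hφ p, ← hφ q, h]), fun ψ => ?_⟩
    refine ⟨⟨Ideal.comap ψ ⊥, Ideal.comap_isPrime ψ ⊥⟩, AlgHom.ext fun x => ?_⟩
    have h0 : x - algebraMap k A (ψ x) ∈ Ideal.comap ψ ⊥ := by
      rw [Ideal.mem_comap, Ideal.mem_bot, map_sub, AlgHom.commutes, Algebra.algebraMap_self_apply, sub_self]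
    have h1 := hφ ⟨Ideal.comap ψ ⊥, Ideal.comap_isPrime ψ ⊥⟩
    dsimp only at h1
    rw [← h1, Ideal.mem_comap, Ideal.mem_bot, map_sub, sub_eq_zero] at h0
    rw [h0, AlgHom.commutes, Algebra.algebraMap_self_apply]
  have hfin : ∀ p : PrimeSpectrum A, Module.Finite k (Localization.AtPrime p.asIdeal) := fun p =>
    Module.Finite.of_surjective (Algebra.algHom k A (Localization.AtPrime p.asIdeal)).toLinearMap
      (IsArtinianRing.localization_surjective p.asIdeal.primeCompl (Localization.AtPrime p.asIdeal))
  have hpow : ∀ p : PrimeSpectrum A, LinearMap.det (LinearMap.mulLeft k (algebraMap A (Localization.AtPrime p.asIdeal) f)) =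
      φ p f ^ Module.finrank k (Localization.AtPrime p.asIdeal) := by
    intro p
    let c := φ p f
    let y := algebraMap A (Localization.AtPrime p.asIdeal) (algebraMap k A c - f)
    have hy : IsNilpotent y := by
      haveI : IsArtinianRing (Localization.AtPrime p.asIdeal) :=
        Function.Surjective.isArtinianRing (IsArtinianRing.localization_surjective p.asIdeal.primeCompl (Localization.AtPrime p.asIdeal))
      have hmem : y ∈ IsLocalRing.maximalIdeal (Localization.AtPrime p.asIdeal) := by
        rw [IsLocalization.AtPrime.to_map_mem_maximal_iff (Localization.AtPrime p.asIdeal) p.asIdeal, ← hφ p,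
          Ideal.mem_comap, Ideal.mem_bot, map_sub, AlgHom.commutes, Algebra.algebraMap_self_apply, sub_self]
      exact (IsArtinianRing.isNilpotent_jacobson_bot (R := Localization.AtPrime p.asIdeal)).imp fun n hn => by
        have := Ideal.pow_mem_pow (IsLocalRing.maximalIdeal_le_jacobson ⊥ hmem) n
        rwa [hn] at this
    have hN : IsNilpotent (LinearMap.mulLeft k y) := (LinearMap.isNilpotent_mulLeft_iff k y).2 hy
    have h := LinearMap.eval_charpoly (LinearMap.mulLeft k y) c
    rw [hN.charpoly_eq_X_pow_finrank, Polynomial.eval_pow, Polynomial.eval_X] at h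
    rw [h]
    congr 1
    refine LinearMap.ext fun x => ?_
    simp [y, c, Algebra.smul_def, sub_mul, ← IsScalarTower.algebraMap_apply]
  rw [finprod_eq_of_bijective (f := fun p : PrimeSpectrum A =>
      φ p f ^ Module.finrank k (Localization.AtPrime p.asIdeal)) (g := fun ψ : A →ₐ[k] k =>
      ψ f ^ Module.finrank k (Localization.AtPrime (Ideal.comap ψ ⊥))) φ hbij (fun p => ?_) |>.symm,
    finprod_eq_prod_of_fintype, Algebra.norm_eq_of_algEquiv
      ((PrimeSpectrum.toPiLocalizationEquiv A).restrictScalars k) f |>.symm]
  · simp only [← hpow]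
    rw [Algebra.norm_apply]
    refine Eq.trans (congrArg LinearMap.det ?_) (det_diag _ _)
    refine LinearMap.ext fun x => funext fun p => ?_
    rfl
  · have hrank : ∀ (I J : Ideal A) [I.IsPrime] [J.IsPrime], I = J →
        Module.finrank k (Localization.AtPrime I) = Module.finrank k (Localization.AtPrime J) := by
      intro I J _ _ h
      subst h
      rfl
    rw [hrank _ _ (hφ p)]

end Groth.Agent.S13117
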