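import Groth.Statements.S1312


set_option autoImplicit false
universe u
open FlatMor

namespace Groth.Agent.S1312

open AlgebraicGeometry CategoryTheory Limits in
/-- Let Y ⟶ Y' be a thickening, let X be the base change to Y of a scheme X' over Y', and assume both X
⟶ Y and X' ⟶ Y' are locally of finite type. Then X ⟶ Y is locally quasi-finite if and only if X' ⟶
Y' is. -/
theorem result {X X' Y Y' : Scheme.{u}} (iX : X ⟶ X') (iY : Y ⟶ Y') (f : X ⟶ Y) (f' : X' ⟶ Y')
    (hY : MoreMor.IsThickening iY) (hc : IsPullback iX f f' iY) [LocallyOfFiniteType f] [LocallyOfFiniteType f'] :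
    LocallyQuasiFinite f ↔ LocallyQuasiFinite f' := by
  obtain ⟨_, _⟩ := hY
  have hci : IsClosedImmersion iX := MorphismProperty.IsStableUnderBaseChange.of_isPullback
    (P := (@IsClosedImmersion : MorphismProperty Scheme.{u})) hc.flip ‹_›
  have hsu : Surjective iX := MorphismProperty.IsStableUnderBaseChange.of_isPullback
    (P := (@Surjective : MorphismProperty Scheme.{u})) hc.flip ‹_›
  have key : ∀ x : X, f' (iX x) = iY (f x) := fun x => by
    rw [← Scheme.Hom.comp_apply, hc.w, Scheme.Hom.comp_apply]
  rw [locallyQuasiFinite_iff_isDiscrete_preimage_singleton,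
    locallyQuasiFinite_iff_isDiscrete_preimage_singleton]
  constructor
  · intro h y'
    obtain ⟨y, rfl⟩ := iY.surjective y'
    have e : f' ⁻¹' {iY y} = iX '' (f ⁻¹' {y}) := by
      ext a
      obtain ⟨x, rfl⟩ := iX.surjective a
      simp only [Set.mem_preimage, Set.mem_singleton_iff, Set.mem_image]
      constructor
      · intro hx
        exact ⟨x, iY.isClosedEmbedding.injective (by rw [← key]; exact hx), rfl⟩
      · rintro ⟨x₁, hx₁, hx₂⟩
        rw [← hx₂, key, hx₁]
    rw [e]
    exact (h y).image iX.isClosedEmbedding.isEmbedding.isInducing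
  · intro h y
    have e : f ⁻¹' {y} = iX ⁻¹' (f' ⁻¹' {iY y}) := by
      ext x
      simp only [Set.mem_preimage, Set.mem_singleton_iff, key]
      exact ⟨fun hx => by rw [hx], fun hx => iY.isClosedEmbedding.injective hx⟩
    rw [e]
    exact (h (iY y)).preimage iX.continuous.continuousOn iX.isClosedEmbedding.injective

end Groth.Agent.S1312
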