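import Groth.Statements.S13124
import Groth.Agent.InvFin.EqLocus
import Groth.Agent.InvFin.Flat

set_option autoImplicit false
universe u v w
open KumFam

namespace Groth.Agent.S13124

/-- Let k be a commutative ring, A a commutative k-bialgebra that is flat over k, and R a commutative
k-algebra which is an integrally closed domain, with a coaction R → R ⊗ A that is an algebra
homomorphism. Then the ring of invariants (the elements f with coaction f ⊗ 1) is an integrally
closed domain. (The published statement is for a finite group scheme acting on a normal scheme whose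
quotient is, locally, the spectrum of the ring of invariants; this row is the affine integral case
and allows any commutative bialgebra flat over k, flatness being automatic over a field.) -/
theorem result (k : Type u) [CommRing k]
    (A : Type v) [CommRing A] [Bialgebra k A] [Module.Flat k A]
    (R : Type w) [CommRing R] [Algebra k R] [IsDomain R] [IsIntegrallyClosed R]
    [HopfRep.Comod k A R] [GLin.IsCoactAlg k A R] :
    IsIntegrallyClosed (GLin.invariants k A R) := by
  haveI : IsDomain (GLin.invariants k A R) := inferInstance
  let K := FractionRing (GLin.invariants k A R)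
  rw [isIntegrallyClosed_iff K]
  intro x hx
  obtain ⟨a, b, hb, rfl⟩ := IsFractionRing.div_surjective (GLin.invariants k A R) x
  have hb0 : b.1 ≠ 0 := fun h => nonZeroDivisors.ne_zero hb (Subtype.ext h)
  let φ : (GLin.invariants k A R) →+* R := (GLin.invariants k A R).val.toRingHom
  have hinj : Function.Injective ((algebraMap R (FractionRing R)).comp φ) :=
    (IsFractionRing.injective R (FractionRing R)).comp Subtype.val_injective
  let ψ : K →+* FractionRing R := IsFractionRing.lift hinj
  have hcomm : (algebraMap R (FractionRing R)).comp φ = ψ.comp (algebraMap _ K) :=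
    RingHom.ext fun z => by simp only [ψ, IsFractionRing.lift_algebraMap, RingHom.comp_apply]
  obtain ⟨c, hc⟩ := IsIntegrallyClosed.algebraMap_eq_of_integral (hx.map_of_comp_eq φ ψ hcomm)
  have hcb : c * b.1 = a.1 := IsFractionRing.injective R (FractionRing R) (by
    rw [map_mul, hc, map_div₀]
    simp only [ψ, IsFractionRing.lift_algebraMap, RingHom.comp_apply]
    exact div_mul_cancel₀ _
      ((map_ne_zero_iff _ (IsFractionRing.injective R (FractionRing R))).2 hb0))
  have hmem : c ∈ GLin.invariants k A R := by
    have h := congrArg (GLin.coactAlgHom k A R) hcb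
    rw [map_mul, GLin.coactAlgHom_apply, GLin.coactAlgHom_apply, GLin.coactAlgHom_apply,
      (GLin.mem_invariants_iff k A R b.1).1 b.2, (GLin.mem_invariants_iff k A R a.1).1 a.2,
      ← hcb] at h
    have h' : (HopfRep.Comod.coact (k := k) (A := A) c - c ⊗ₜ[k] (1 : A)) * (b.1 ⊗ₜ[k] (1 : A)) = 0 := by
      rw [sub_mul, h, Algebra.TensorProduct.tmul_mul_tmul, one_mul, sub_self]
    exact (GLin.mem_invariants_iff k A R c).2 (sub_eq_zero.1 (mem_nonZeroDivisors_iff_right.1
      (Groth.Agent.InvFin.tmul_one_mem (mem_nonZeroDivisors_of_ne_zero hb0)) _ h'))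
  refine ⟨⟨c, hmem⟩, ?_⟩
  have hbK : algebraMap (GLin.invariants k A R) K b ≠ 0 :=
    (map_ne_zero_iff _ (IsFractionRing.injective _ K)).2 (nonZeroDivisors.ne_zero hb)
  rw [eq_div_iff hbK, ← map_mul]
  exact congrArg _ (Subtype.ext hcb)

end Groth.Agent.S13124
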