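import Groth.Statements.S13125


set_option autoImplicit false
universe u v
open KumFam

namespace Groth.Agent.S13125

/-- Let A be a commutative ring graded by an additive monoid ι (an abelian group in the published
statement) through additive subgroups 𝒜 i, and I an ideal of A. Then I is a homogeneous ideal if and
only if A/I carries a structure of ι-graded ring ℬ for which the quotient map sends 𝒜 i into ℬ i for
all i. -/
theorem result (ι : Type u) [DecidableEq ι] [AddMonoid ι]
    (A : Type v) [CommRing A] (𝒜 : ι → AddSubgroup A) [GradedRing 𝒜] (I : Ideal A) :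
    I.IsHomogeneous 𝒜 ↔
      ∃ ℬ : ι → AddSubgroup (A ⧸ I), Nonempty (GradedRing ℬ) ∧
        ∀ i : ι, (𝒜 i).map (Ideal.Quotient.mk I : A →+ A ⧸ I) ≤ ℬ i := by
  classical
  constructor
  · intro hI
    let ℬ : ι → AddSubgroup (A ⧸ I) := fun i => (𝒜 i).map (Ideal.Quotient.mk I : A →+ A ⧸ I)
    let q : ∀ i, 𝒜 i →+ ℬ i := fun i => ((Ideal.Quotient.mk I : A →+ A ⧸ I).comp (𝒜 i).subtype).codRestrict (ℬ i)
      (fun a => ⟨a, a.2, rfl⟩)
    let D : A →+ DirectSum ι (fun i => ℬ i) := (DirectSum.map q).comp (DirectSum.decomposeAddEquiv 𝒜).toAddMonoidHom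
    have hD : ∀ a i, ((D a i : ℬ i) : A ⧸ I) = Ideal.Quotient.mk I (DirectSum.decompose 𝒜 a i : A) := fun a i => rfl
    have hker : ∀ a ∈ I, D a = 0 := fun a ha => DFinsupp.ext fun i => Subtype.ext <| by
      rw [hD]
      exact (Ideal.Quotient.eq_zero_iff_mem.2 (hI i ha)).trans rfl
    let D' : (A ⧸ I) →+ DirectSum ι (fun i => ℬ i) :=
      QuotientAddGroup.lift I.toAddSubgroup D (fun a ha => hker a ha)
    have hD' : ∀ a, D' (Ideal.Quotient.mk I a) = D a := fun a => rfl
    have hDh : ∀ {i} (a : 𝒜 i), D a = DirectSum.of _ i (q i a) := fun {i} a => by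
      show DirectSum.map q (DirectSum.decompose 𝒜 (a : A)) = _
      rw [DirectSum.decompose_coe, DirectSum.map_of]
    let dec : DirectSum.Decomposition ℬ := DirectSum.Decomposition.ofAddHom ℬ D'
      (by
        refine AddMonoidHom.ext fun x => ?_
        obtain ⟨a, rfl⟩ := Ideal.Quotient.mk_surjective x
        show DirectSum.coeAddMonoidHom ℬ (D' (Ideal.Quotient.mk I a)) = Ideal.Quotient.mk I a
        rw [hD']
        induction a using DirectSum.Decomposition.inductionOn 𝒜 with
        | zero => simp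
        | homogeneous m => rw [hDh, DirectSum.coeAddMonoidHom_of]; rfl
        | add m m' h h' => rw [map_add, map_add, h, h', map_add])
      (by
        refine DirectSum.addHom_ext fun i y => ?_
        obtain ⟨a, ha, hy⟩ := y.2
        show D' (DirectSum.coeAddMonoidHom ℬ (DirectSum.of _ i y)) = DirectSum.of _ i y
        rw [DirectSum.coeAddMonoidHom_of, ← hy]
        show D a = _
        rw [hDh ⟨a, ha⟩]
        congr 1
        exact Subtype.ext hy)
    refine ⟨ℬ, ⟨{ toDecomposition := dec, one_mem := ?_, mul_mem := ?_ }⟩, fun i => le_rfl⟩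
    · exact ⟨1, SetLike.GradedOne.one_mem, rfl⟩
    · rintro i j _ _ ⟨a, ha, rfl⟩ ⟨b, hb, rfl⟩
      exact ⟨a * b, SetLike.GradedMul.mul_mem ha hb, map_mul (Ideal.Quotient.mk I) a b⟩
  · rintro ⟨ℬ, ⟨hB⟩, hle⟩ i a ha
    have key : ∀ a : A, (DirectSum.decompose ℬ (Ideal.Quotient.mk I a) i : A ⧸ I) =
        Ideal.Quotient.mk I (DirectSum.decompose 𝒜 a i : A) := by
      intro a
      induction a using DirectSum.Decomposition.inductionOn 𝒜 with
      | zero => simp
      | @homogeneous j m =>
        have hm : Ideal.Quotient.mk I (m : A) ∈ ℬ j := hle j ⟨m, m.2, rfl⟩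
        rcases eq_or_ne j i with rfl | hji
        · rw [DirectSum.decompose_of_mem_same ℬ hm, DirectSum.decompose_of_mem_same 𝒜 m.2]
        · rw [DirectSum.decompose_of_mem_ne ℬ hm hji, DirectSum.decompose_of_mem_ne 𝒜 m.2 hji, map_zero]
      | add m m' h h' => simp [h, h']
    rw [← Ideal.Quotient.eq_zero_iff_mem, ← key, Ideal.Quotient.eq_zero_iff_mem.2 ha]
    simp

end Groth.Agent.S13125
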