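import Groth.Statements.S13127
import Groth.Agent.KumFam.SubstInv
import Mathlib.Algebra.CharP.Two
import Mathlib.Tactic

set_option autoImplicit false
universe u
open KumFam

namespace Groth.Agent.S13127

open MvPowerSeries in
/-- Let R be a commutative ring of characteristic 2 and l0, l2, l4, s0, s2, s4, τ, lam, sig ∈ R with l4,
s4, lam, sig units, and let κ₁, κ₂ ∈ R satisfy s4² κ₁³ = sig² and l4² κ₂³ = lam² (cube roots of
sig²/s4² and lam²/l4²). In the power series ring R[[a, b, c]] (a = X 0, b = X 1, c = X 2) put F = c²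
+ s0² a³ b⁴ + s2² a³ b² + s4² a³ + l0² a⁴ b³ + l2² a² b³ + l4² b³ + τ² a³ b³ and F₀ = c² + sig² a³ +
lam² b³. Then some R-algebra automorphism of R[[a, b, c]] maps F to F₀; consequently R[[a, b,
c]]/(F) ≅ R[[a, b, c]]/(F₀). (In the published statement lam, sig are the representatives in the
ground field of the residues of l4, s4 at a rational point, so that F₀ is the equation of the
special fibre made constant; this row takes them to be arbitrary units.) -/
theorem result (R : Type u) [CommRing R] [CharP R 2]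
    (l0 l2 l4 s0 s2 s4 τ lam sig κ₁ κ₂ : R) (hl4 : IsUnit l4) (hs4 : IsUnit s4) (hlam : IsUnit lam)
    (hsig : IsUnit sig) (h₁ : s4 ^ 2 * κ₁ ^ 3 = sig ^ 2) (h₂ : l4 ^ 2 * κ₂ ^ 3 = lam ^ 2) :
    ∃ φ : MvPowerSeries (Fin 3) R ≃ₐ[R] MvPowerSeries (Fin 3) R,
      φ ((X 2 ^ 2 + C (s0 ^ 2) * X 0 ^ 3 * X 1 ^ 4 + C (s2 ^ 2) * X 0 ^ 3 * X 1 ^ 2 +
          C (s4 ^ 2) * X 0 ^ 3 + C (l0 ^ 2) * X 0 ^ 4 * X 1 ^ 3 + C (l2 ^ 2) * X 0 ^ 2 * X 1 ^ 3 +
          C (l4 ^ 2) * X 1 ^ 3 + C (τ ^ 2) * X 0 ^ 3 * X 1 ^ 3 : MvPowerSeries (Fin 3) R)) =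
        (X 2 ^ 2 + C (sig ^ 2) * X 0 ^ 3 + C (lam ^ 2) * X 1 ^ 3 : MvPowerSeries (Fin 3) R) := by
  open MvPowerSeries Groth.Agent.KumFam in
  classical
  let F := MvPowerSeries (Fin 3) R
  have h2 : (2 : R) = 0 := CharTwo.two_eq_zero
  have h2F : (2 : F) = 0 := by
    have := congrArg (C : R →+* F) h2
    rwa [map_ofNat, map_zero] at this
  have h1' : ∀ x : R, IsUnit x → ∀ κ : R, IsUnit κ → ∀ m : F, constantCoeff m = 0 →
      ∀ y : R, x ^ 2 * κ ^ 3 = y ^ 2 → ∃ u : F, constantCoeff u * κ = 1 ∧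
        C (y ^ 2) * u ^ 3 = C (x ^ 2) * (1 + m) := by
    intro x hx κ hκ m hm y hy
    let t : Fin 3 → F := ![X 0 + X 0 ^ 2 + X 0 ^ 3, X 1, X 2]
    have ht : IsTangentId t := by
      intro i; fin_cases i
      · show VanishBelow 2 (t 0 - X 0)
        have : t 0 - X 0 = X 0 * (X 0 + X 0 ^ 2) := by simp [t]; ring
        rw [this]
        exact (vanishBelow_one_iff.2 (by simp)).mul (m := 1) (vanishBelow_one_iff.2 (by simp))
      · show VanishBelow 2 (t 1 - X 1)
        intro d _; simp [t]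
      · show VanishBelow 2 (t 2 - X 2)
        intro d _; simp [t]
    have hts : HasSubst t := hasSubst_of_const ht.const
    obtain ⟨g, hg⟩ := (bijective_subst_of_tangent ht).2 (X 0 : F)
    have hg3 : g + g ^ 2 + g ^ 3 = X 0 := by
      apply (bijective_subst_of_tangent ht).1
      rw [← substAlgHom_apply (R := R) hts, map_add, map_add, map_pow, map_pow,
        substAlgHom_apply hts, hg, subst_X hts]
      simp [t]
    have hg0 : constantCoeff g = 0 := by
      have hz : constantCoeff (subst t g) = constantCoeff g := by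
        have := coeff_subst_eq_of_tangent ht (n := 0) (f := g)
          (fun _ h => absurd h (Nat.not_lt_zero _))
        exact sub_eq_zero.1 (by simpa using vanishBelow_one_iff.1 this)
      rw [← hz, hg]; simp
    let r : Fin 3 → F := ![m, 0, 0]
    have hr0 : ∀ i, constantCoeff (r i) = 0 := by intro i; fin_cases i <;> simp [r, hm]
    have hr : HasSubst r := hasSubst_of_const hr0
    let w := substAlgHom (R := R) hr g
    have hw : w + w ^ 2 + w ^ 3 = m := by
      have := congrArg (substAlgHom (R := R) hr) hg3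
      simpa [w, map_add, map_pow, subst_X hr, r] using this
    have hw0 : constantCoeff w = 0 := by
      show constantCoeff (substAlgHom (R := R) hr g) = 0
      rw [substAlgHom_apply]
      exact constantCoeff_subst_eq_zero hr hr0 hg0
    obtain ⟨ki, hki⟩ := hκ.exists_right_inv
    refine ⟨C ki * (1 + w), by simp [hw0, mul_comm, hki], ?_⟩
    have hy3 : y ^ 2 * ki ^ 3 = x ^ 2 := by
      linear_combination -ki ^ 3 * hy + x ^ 2 * ((κ * ki) ^ 2 + κ * ki + 1) * hki
    rw [mul_pow, ← map_pow, ← mul_assoc, ← map_mul, hy3]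
    linear_combination C (x ^ 2) * hw + C (x ^ 2) * (w + w ^ 2) * h2F
  have hk1 : IsUnit κ₁ := by
    have : IsUnit (s4 ^ 2 * κ₁ ^ 3) := h₁ ▸ hsig.pow 2
    exact (isUnit_pow_iff (by norm_num)).1 (isUnit_of_mul_isUnit_right this)
  have hk2 : IsUnit κ₂ := by
    have : IsUnit (l4 ^ 2 * κ₂ ^ 3) := h₂ ▸ hlam.pow 2
    exact (isUnit_pow_iff (by norm_num)).1 (isUnit_of_mul_isUnit_right this)
  obtain ⟨si, hsi⟩ := hs4.exists_right_inv
  obtain ⟨li, hli⟩ := hl4.exists_right_inv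
  obtain ⟨u₁, hu₁, e₁⟩ := h1' s4 hs4 κ₁ hk1 (C (si ^ 2) * (C (s0 ^ 2) * X 1 ^ 4
    + C (s2 ^ 2) * X 1 ^ 2 + C (τ ^ 2) * X 1 ^ 3)) (by simp) sig h₁
  obtain ⟨u₂, hu₂, e₂⟩ := h1' l4 hl4 κ₂ hk2 (C (li ^ 2) * (C (l0 ^ 2) * X 0 ^ 4
    + C (l2 ^ 2) * X 0 ^ 2)) (by simp) lam h₂
  let v : Fin 3 → F := ![X 0 * u₁, X 1 * u₂, X 2]
  let M : Matrix (Fin 3) (Fin 3) R := Matrix.diagonal ![constantCoeff u₁, constantCoeff u₂, 1]
  have hM : IsUnit M.det := by
    simpa [M, Matrix.det_diagonal, Fin.prod_univ_three] using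
      And.intro (IsUnit.of_mul_eq_one _ hu₁) (IsUnit.of_mul_eq_one _ hu₂)
  have hv : ∀ i, VanishBelow 2 (v i - linSubst M i) := by
    intro i
    have hX : ∀ j : Fin 3, VanishBelow 1 (X j : F) := fun j => vanishBelow_one_iff.2 (by simp)
    fin_cases i
    · have e : v 0 - linSubst M 0 = X 0 * (u₁ - C (constantCoeff u₁)) := by
        simp [v, linSubst, M, Fin.sum_univ_three]; ring
      show VanishBelow 2 (v 0 - linSubst M 0)
      rw [e]; exact (hX 0).mul (vanishBelow_one_iff.2 (by simp))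
    · have e : v 1 - linSubst M 1 = X 1 * (u₂ - C (constantCoeff u₂)) := by
        simp [v, linSubst, M, Fin.sum_univ_three]; ring
      show VanishBelow 2 (v 1 - linSubst M 1)
      rw [e]; exact (hX 1).mul (vanishBelow_one_iff.2 (by simp))
    · show VanishBelow 2 (v 2 - linSubst M 2)
      intro d _
      simp [v, linSubst, M, Fin.sum_univ_three]
  have hs : HasSubst v := hasSubst_of_const (by intro i; fin_cases i <;> simp [v])
  obtain ⟨φ, hφ⟩ := exists_algEquiv v M hM hv hs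
  refine ⟨φ, ?_⟩
  refine Eq.trans (congrArg φ ?_) (hφ (X 2 ^ 2 + C (sig ^ 2) * X 0 ^ 3 + C (lam ^ 2) * X 1 ^ 3))
  have hC : ∀ r : R, substAlgHom (R := R) hs (C r) = C r := fun r => (substAlgHom hs).commutes r
  rw [map_add, map_add, map_mul, map_mul, map_pow (substAlgHom hs) (X 2) 2,
    map_pow (substAlgHom hs) (X 0) 3, map_pow (substAlgHom hs) (X 1) 3,
    substAlgHom_X, substAlgHom_X, substAlgHom_X, hC, hC]
  have hsiF : C (s4 ^ 2) * C (si ^ 2) = (1 : F) := by
    rw [← map_mul, ← mul_pow, hsi, one_pow, map_one]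
  have hliF : C (l4 ^ 2) * C (li ^ 2) = (1 : F) := by
    rw [← map_mul, ← mul_pow, hli, one_pow, map_one]
  simp only [v, Matrix.cons_val_zero, Matrix.cons_val_one, Matrix.cons_val_two,
    Matrix.tail_cons, Matrix.head_cons]
  simp only [map_pow] at *
  linear_combination -(X 0 ^ 3) * e₁ - X 1 ^ 3 * e₂
    - X 0 ^ 3 * (C s0 ^ 2 * X 1 ^ 4 + C s2 ^ 2 * X 1 ^ 2 + C τ ^ 2 * X 1 ^ 3) * hsiF
    - X 1 ^ 3 * (C l0 ^ 2 * X 0 ^ 4 + C l2 ^ 2 * X 0 ^ 2) * hliF

end Groth.Agent.S13127
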