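import Groth.Statements.S13128
import Groth.Agent.KumFam.SubstInv
import Mathlib.Algebra.CharP.Two
import Mathlib.Tactic

set_option autoImplicit false
universe u
open KumFam

namespace Groth.Agent.S13128

open MvPowerSeries in
/-- Let R be a commutative ring of characteristic 2, l0, l2, l4, s0, s2, s4, τ ∈ R with τ a unit, and α,
β ∈ R with l4² α⁴ + l2² α² + τ² α + l0² = 0 and s4² β⁴ + s2² β² + τ² β + s0² = 0. In characteristic
2 these relations give τ² α = (l4 α² + l2 α + l0)² and τ² β = (s4 β² + s2 β + s0)², so α = α′² and β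
= β′² with α′ = (l4 α² + l2 α + l0)/τ and β′ = (s4 β² + s2 β + s0)/τ. In R[[a, b, c]] (a = X 0, b =
X 1, c = X 2) put h = c² + τ² a b + (s4² b⁴ + s2² b²) a + (l4² a⁴ + l2² a²) b + l4² β a⁴ + l2² β a²
+ s4² α b⁴ + s2² α b²; this is the chart equation c² + τ² a b + (s4² b⁴ + s2² b² + s0²) a + (l4² a⁴
+ l2² a² + l0²) b after the substitution a ↦ a + α, b ↦ b + β, c ↦ c + τ α′ β′, which moves the
point (α, β, τ α′ β′) of that surface, where all partial derivatives vanish, to the origin. Then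
some R-algebra automorphism of R[[a, b, c]] maps h to c² + a b; consequently R[[a, b, c]]/(h) ≅
R[[a, b, c]]/(c² + a b), the completed local ring of an ordinary double point, constant over R. (The
published statement translates only a and b, so that its h carries the additional constant term τ² α
β; with that term h is a unit of R[[a, b, c]] whenever τ α β is a unit, for instance c² + a b + 1
over the field with two elements with l0 = s0 = τ = α = β = 1 and l2 = l4 = s2 = s4 = 0, and no ring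
automorphism carries a unit to c² + a b. The published proof begins by shifting c by a polynomial in
a, b whose constant term is τ α′ β′, a substitution of the polynomial ring which removes the term τ²
α β, and the rest of its argument takes place in R[[a, b, c]]; this row states the result for the
fully translated equation, which is what that argument proves.) -/
theorem result (R : Type u) [CommRing R] [CharP R 2]
    (l0 l2 l4 s0 s2 s4 τ α β : R) (hτ : IsUnit τ)
    (hα : l4 ^ 2 * α ^ 4 + l2 ^ 2 * α ^ 2 + τ ^ 2 * α + l0 ^ 2 = 0)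
    (hβ : s4 ^ 2 * β ^ 4 + s2 ^ 2 * β ^ 2 + τ ^ 2 * β + s0 ^ 2 = 0) :
    ∃ φ : MvPowerSeries (Fin 3) R ≃ₐ[R] MvPowerSeries (Fin 3) R,
      φ ((X 2 ^ 2 + C (τ ^ 2) * X 0 * X 1 + (C (s4 ^ 2) * X 1 ^ 4 + C (s2 ^ 2) * X 1 ^ 2) * X 0 +
          (C (l4 ^ 2) * X 0 ^ 4 + C (l2 ^ 2) * X 0 ^ 2) * X 1 + C (l4 ^ 2 * β) * X 0 ^ 4 +
          C (l2 ^ 2 * β) * X 0 ^ 2 + C (s4 ^ 2 * α) * X 1 ^ 4 + C (s2 ^ 2 * α) * X 1 ^ 2 :
          MvPowerSeries (Fin 3) R)) =
        (X 2 ^ 2 + X 0 * X 1 : MvPowerSeries (Fin 3) R) := by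
  open MvPowerSeries Groth.Agent.KumFam in
  classical
  obtain ⟨τi, hτi⟩ := hτ.exists_right_inv
  have h2 : (2 : R) = 0 := CharTwo.two_eq_zero
  set a := τi * (l4 * α ^ 2 + l2 * α + l0) with hadef
  set b := τi * (s4 * β ^ 2 + s2 * β + s0) with hbdef
  have ha2 : a ^ 2 = α := by
    rw [hadef]
    linear_combination τi ^ 2 * hα - (τ * τi + 1) * α * hτi +
      (τi ^ 2 * (l4 * α ^ 2 * (l2 * α) + l4 * α ^ 2 * l0 + l2 * α * l0) - α * τ^2*τi^2 + α) * h2 + (τi ^ 2 * α * τ ^ 2 - 2 * α) * h2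
  have hb2 : b ^ 2 = β := by
    rw [hbdef]
    linear_combination τi ^ 2 * hβ - (τ * τi + 1) * β * hτi +
      (τi ^ 2 * (s4 * β ^ 2 * (s2 * β) + s4 * β ^ 2 * s0 + s2 * β * s0) - β * τ^2*τi^2 + β) * h2 + (τi ^ 2 * β * τ ^ 2 - 2 * β) * h2
  let F := MvPowerSeries (Fin 3) R
  let p : F := C (τ ^ 2) + C (s4 ^ 2) * X 1 ^ 3 + C (s2 ^ 2) * X 1
    + C (l4 ^ 2) * X 0 ^ 3 + C (l2 ^ 2) * X 0
  let q : F := X 2 + C a * (C s4 * X 1 ^ 2 + C s2 * X 1) + C b * (C l4 * X 0 ^ 2 + C l2 * X 0)
  let v : Fin 3 → F := ![X 0 * p, X 1, q]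
  let M : Matrix (Fin 3) (Fin 3) R := !![τ ^ 2, 0, 0; 0, 1, 0; b * l2, a * s2, 1]
  have hM : IsUnit M.det := by
    simpa [M, Matrix.det_fin_three] using (IsUnit.pow 2 (IsUnit.of_mul_eq_one _ hτi))
  have hX : ∀ j : Fin 3, VanishBelow 1 (X j : F) := fun j => vanishBelow_one_iff.2 (by simp)
  have hv : ∀ i, VanishBelow 2 (v i - linSubst M i) := by
    intro i
    fin_cases i
    · have e : v 0 - linSubst M 0 = X 0 * (p - C (τ ^ 2)) := by
        simp [v, linSubst, M, Fin.sum_univ_three]; ring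
      show VanishBelow 2 (v 0 - linSubst M 0)
      rw [e]
      exact (hX 0).mul (vanishBelow_one_iff.2 (by simp [p]))
    · show VanishBelow 2 (v 1 - linSubst M 1)
      intro d _
      simp [v, linSubst, M, Fin.sum_univ_three]
    · have e : v 2 - linSubst M 2
          = X 1 * (C a * C s4 * X 1) + X 0 * (C b * C l4 * X 0) := by
        simp [v, q, linSubst, M, Fin.sum_univ_three]; ring
      show VanishBelow 2 (v 2 - linSubst M 2)
      rw [e]
      exact ((hX 1).mul (vanishBelow_one_iff.2 (by simp))).add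
        ((hX 0).mul (vanishBelow_one_iff.2 (by simp)))
  have hs : HasSubst v := hasSubst_of_const (by
    intro i; fin_cases i <;> simp [v, q])
  obtain ⟨φ, hφ⟩ := exists_algEquiv v M hM hv hs
  refine ⟨φ, ?_⟩
  have key := hφ (X 2 ^ 2 + X 0 * X 1)
  rw [map_add, map_pow, map_mul, substAlgHom_X, substAlgHom_X, substAlgHom_X] at key
  refine Eq.trans (congrArg φ ?_) key
  have h2F : (2 : F) = 0 := by
    have := congrArg (C : R →+* F) h2
    rwa [map_ofNat, map_zero] at this
  show _ = q ^ 2 + (X 0 * p) * X 1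
  simp only [p, q, ← ha2, ← hb2, map_mul, map_pow]
  linear_combination -(X 2 * C a * (C s4 * X 1 ^ 2 + C s2 * X 1)
    + X 2 * C b * (C l4 * X 0 ^ 2 + C l2 * X 0)
    + C a * (C s4 * X 1 ^ 2 + C s2 * X 1) * (C b * (C l4 * X 0 ^ 2 + C l2 * X 0))
    + C a ^ 2 * C s4 * C s2 * X 1 ^ 3 + C b ^ 2 * C l4 * C l2 * X 0 ^ 3) * h2F

end Groth.Agent.S13128
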