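import Groth.Statements.S13129
import Groth.Agent.PlaneBlow.RationalEuler
import Groth.Agent.SurfAdj.Basic

set_option backward.isDefEq.respectTransparency false
set_option linter.style.haveILetI false

set_option autoImplicit false
universe u
open CategoryTheory CategoryTheory.Limits AlgebraicGeometry
open KumFam

namespace Groth.Agent.S13129

/-- Let k be an algebraically closed field, Y a proper normal surface over k (irreducible of dimension 2
with integrally closed local domains), X a proper smooth surface over k, and π : X → Y a k-morphism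
which restricts to an isomorphism over Y minus a closed point y and whose fibre over y is
one-dimensional (a resolution of the singularity (Y, y)). Then R¹π_* O_X = 0 (first higher direct
image of the underlying abelian sheaf) if and only if χ(X, O_X) = χ(Y, O_Y). -/
theorem result (k : Type u) [Field k] [IsAlgClosed k]
    (X Y : Scheme.{u}) [X.Over (Spec (CommRingCat.of k))] [Y.Over (Spec (CommRingCat.of k))]
    [IsProper (X ↘ Spec (CommRingCat.of k))] [IsProper (Y ↘ Spec (CommRingCat.of k))]
    [IrreducibleSpace X] [IrreducibleSpace Y] (hdX : topologicalKrullDim X = 2)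
    (hdY : topologicalKrullDim Y = 2) [Smooth (X ↘ Spec (CommRingCat.of k))]
    (hYn : Pi1.IsNormalScheme Y) (π : X ⟶ Y) [π.IsOver (Spec (CommRingCat.of k))]
    (y : Y) (hy : IsClosed ({y} : Set Y))
    (hiso : IsIso (π ∣_ (⟨({y} : Set Y)ᶜ, hy.isOpen_compl⟩ : Y.Opens)))
    (hfib : topologicalKrullDim ((fun x : X => π.base x) ⁻¹' ({y} : Set Y)) = 1) :
    IsZero ((Coh.RpushAb π 1).obj (Coh.toAb (Coh.structureModule X))) ↔
      Curv2.euler k X (Coh.structureModule X) = Curv2.euler k Y (Coh.structureModule Y) := by
  haveI : IsReduced X := SmoothRed.isReduced_of_smooth_scheme (X ↘ Spec (CommRingCat.of k))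
  haveI : IsIntegral X := isIntegral_of_irreducibleSpace_of_isReduced X
  haveI : ∀ z : Y, _root_.IsReduced (Y.presheaf.stalk z) := fun z => by
    haveI := (hYn z).1
    infer_instance
  haveI : IsReduced Y := isReduced_of_isReduced_stalk Y
  haveI : IsIntegral Y := isIntegral_of_irreducibleSpace_of_isReduced Y
  have hπk : π ≫ (Y ↘ Spec (CommRingCat.of k)) = X ↘ Spec (CommRingCat.of k) := CategoryTheory.comp_over π _
  haveI : IsProper (π ≫ (Y ↘ Spec (CommRingCat.of k))) := by rw [hπk]; infer_instance
  haveI : IsProper π := IsProper.of_comp π (Y ↘ Spec (CommRingCat.of k))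
  obtain ⟨H, hH⟩ := SurfAdj.exists_ample k hdX
  let U : Y.Opens := ⟨({y} : Set Y)ᶜ, hy.isOpen_compl⟩
  haveI : IsIso (π ∣_ U) := hiso
  have hηU : genericPoint Y ∈ U := fun h =>
    PlaneBlow.ne_genericPoint_of_isClosed k hdY hy (Set.mem_singleton_iff.1 h).symm
  exact PlaneBlow.isZero_r1_iff k hdX π hπk hH U (by simp [U]) hηU
    (fun W => PtBlow.bijective_app_of_birational π hYn U ⟨_, hηU⟩ W)

end Groth.Agent.S13129
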