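import Groth.Statements.S13130
import Groth.Agent.H4Easy.Batch2

set_option autoImplicit false
universe u v
open KumFam

namespace Groth.Agent.S13130

/-- Let R be a nontrivial commutative ring and M a commutative group, with group algebra R[M], the
coordinate ring of the diagonalizable group scheme D(M) over Spec R. Then D(M) is integral over Spec
R, i.e. R[M] is an integral R-algebra, if and only if M is a torsion group. (The published statement
is over an arbitrary base scheme; the question is local and this row is the affine form, with R
nontrivial so that the elements of M are R-linearly independent.) -/
theorem result (R : Type u) [CommRing R] [Nontrivial R]
    (M : Type v) [CommGroup M] :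
    Algebra.IsIntegral R (MonoidAlgebra R M) ↔ IsMulTorsion M := by
  exact Groth.Agent.H4Easy.integral_iff_torsion R M

end Groth.Agent.S13130
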