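import Groth.Statements.S13131


set_option autoImplicit false
universe u
open CategoryTheory CategoryTheory.Limits AlgebraicGeometry
open KumFam

namespace Groth.Agent.S13131

/-- Let S be a scheme, M a set and p : T → S a scheme over S. The S-morphisms T → ∐_{m ∈ M} S (the
constant S-scheme on M, with its structure map the codiagonal) are in bijection with the locally
constant maps T → M, a morphism f corresponding to the function sending t to the index of the copy
of S containing f(t). (In the published statement M is a group and ∐_M S the constant group scheme;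
the group structures play no role in this description of T-points.) -/
theorem result (S : Scheme.{u}) (M : Type u)
    (T : Scheme.{u}) (p : T ⟶ S) :
    ∃ e : {f : T ⟶ ∐ (fun _ : M => S) // f ≫ Sigma.desc (fun _ : M => 𝟙 S) = p} ≃
        LocallyConstant T M,
      ∀ (f : {f : T ⟶ ∐ (fun _ : M => S) // f ≫ Sigma.desc (fun _ : M => 𝟙 S) = p}) (t : T),
        e f t = ((sigmaMk (fun _ : M => S)).symm (f.1.base t)).1 := by
  classical
  let F : M → Scheme.{u} := fun _ => S
  let idx : (∐ F : Scheme.{u}) → M := fun x => ((sigmaMk F).symm x).1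
  have hidx : IsLocallyConstant idx := by
    refine IsLocallyConstant.comp_continuous ?_ (sigmaMk F).symm.continuous
    rw [IsLocallyConstant.iff_isOpen_fiber]
    intro m
    have : ((fun x : Σ i, F i => x.1) ⁻¹' {m}) = Set.range (Sigma.mk (β := fun i => (F i : Type u)) m) := by
      ext ⟨i, x⟩
      constructor
      · rintro (rfl : i = m); exact ⟨x, rfl⟩
      · rintro ⟨y, hy⟩; exact (congrArg Sigma.fst hy).symm
    rw [this]
    exact isOpen_range_sigmaMk
  have hι : ∀ (m : M) (x : S), idx (Sigma.ι F m x) = m := fun m x => by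
    simp only [idx, ← sigmaMk_mk, Homeomorph.symm_apply_apply]
  have hrange : ∀ (m : M) (x : (∐ F : Scheme.{u})), idx x = m → x ∈ Set.range (Sigma.ι F m) := by
    intro m x hx
    refine ⟨((sigmaMk F).symm x).2, ?_⟩
    subst hx
    rw [← sigmaMk_mk]
    exact (sigmaMk F).apply_symm_apply x
  let U : LocallyConstant T M → M → T.Opens := fun c m => ⟨c ⁻¹' {m}, c.isLocallyConstant.isOpen_fiber m⟩
  let Φ : {f : T ⟶ ∐ F // f ≫ Sigma.desc (fun _ : M => 𝟙 S) = p} → LocallyConstant T M :=
    fun f => ⟨fun t => idx (f.1.base t), hidx.comp_continuous f.1.continuous⟩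
  have hres : ∀ f m, (U (Φ f) m).ι ≫ f.1 = (U (Φ f) m).ι ≫ p ≫ Sigma.ι F m := by
    intro f m
    have hr : Set.range ((U (Φ f) m).ι ≫ f.1) ⊆ Set.range (Sigma.ι F m) := by
      rintro _ ⟨t, rfl⟩
      exact hrange m _ t.2
    have h1 := IsOpenImmersion.lift_fac (Sigma.ι F m) _ hr
    have h2 : IsOpenImmersion.lift (Sigma.ι F m) _ hr = (U (Φ f) m).ι ≫ p := by
      conv_rhs => rw [← f.2, ← Category.assoc, ← h1, Category.assoc, colimit.ι_desc]
      exact (Category.comp_id _).symm
    rw [← h1, h2, Category.assoc]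
  have hcov : ∀ c : LocallyConstant T M, ∀ t : T, t ∈ U c (c t) := fun c t => rfl
  have hbij : Function.Bijective Φ := by
    refine ⟨fun f g h => Subtype.ext ?_, fun c => ?_⟩
    · let 𝒰 := T.openCoverOfIsOpenCover (U (Φ f)) (TopologicalSpace.IsOpenCover.mk
        (eq_top_iff.2 fun t _ => TopologicalSpace.Opens.mem_iSup.2 ⟨_, hcov (Φ f) t⟩))
      refine Scheme.Cover.hom_ext 𝒰 _ _ fun m => ?_
      show (U (Φ f) m).ι ≫ f.1 = (U (Φ f) m).ι ≫ g.1
      rw [hres, h, hres]
    · let 𝒰 := T.openCoverOfIsOpenCover (U c) (TopologicalSpace.IsOpenCover.mk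
        (eq_top_iff.2 fun t _ => TopologicalSpace.Opens.mem_iSup.2 ⟨_, hcov c t⟩))
      have hg : ∀ (x y : M), pullback.fst (𝒰.f x) (𝒰.f y) ≫ ((U c x).ι ≫ p ≫ Sigma.ι F x) =
          pullback.snd (𝒰.f x) (𝒰.f y) ≫ ((U c y).ι ≫ p ≫ Sigma.ι F y) := by
        intro x y
        by_cases hxy : x = y
        · subst hxy
          rw [← Category.assoc, ← Category.assoc (pullback.snd _ _)]
          exact congrArg (fun z => z ≫ p ≫ Sigma.ι F x) pullback.condition
        · haveI : IsEmpty ↑(pullback (𝒰.f x) (𝒰.f y)) := ⟨fun z => hxy (by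
            have e := congrArg (fun φ => φ z) (pullback.condition (f := 𝒰.f x) (g := 𝒰.f y))
            have h1 := (pullback.fst (𝒰.f x) (𝒰.f y) z).2
            have h2 := (pullback.snd (𝒰.f x) (𝒰.f y) z).2
            simp only [Scheme.Hom.comp_apply] at e
            have e2 := e
            exact h1.symm.trans ((congrArg c e2).trans h2))⟩
          exact isInitialOfIsEmpty.hom_ext _ _
      let g := 𝒰.glueMorphisms (fun m => (U c m).ι ≫ p ≫ Sigma.ι F m) hg
      have hgι : ∀ m, (U c m).ι ≫ g = (U c m).ι ≫ p ≫ Sigma.ι F m := fun m =>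
        𝒰.ι_glueMorphisms _ _ m
      refine ⟨⟨g, Scheme.Cover.hom_ext 𝒰 _ _ fun m => ?_⟩, LocallyConstant.ext fun t => ?_⟩
      · show (U c m).ι ≫ g ≫ _ = (U c m).ι ≫ p
        rw [← Category.assoc, hgι, Category.assoc, Category.assoc, colimit.ι_desc]
        simp
      · show idx (g.base t) = c t
        have e := congrArg (fun φ => φ (⟨t, hcov c t⟩ : (U c (c t) : Scheme.{u}))) (hgι (c t))
        simp only [Scheme.Hom.comp_apply] at e
        exact (congrArg idx e).trans (hι _ _)
  exact ⟨Equiv.ofBijective Φ hbij, fun f t => rfl⟩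

end Groth.Agent.S13131
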