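import Groth.Statements.S13132
import Mathlib.RingTheory.Flat.Tensor
import Mathlib.RingTheory.Ideal.AssociatedPrime.Finiteness
import Mathlib.LinearAlgebra.TensorProduct.Quotient
import Mathlib.LinearAlgebra.TensorProduct.RightExactness
import Mathlib.RingTheory.Artinian.Module
import Mathlib.RingTheory.Artinian.Ring
import Mathlib.RingTheory.HopkinsLevitzki

set_option autoImplicit false
universe u v
open CAlg
open scoped TensorProduct

namespace Groth.Agent.S13132

/-- Let A' be an Artinian local ring, I a proper ideal of A' and S' a flat A'-algebra. An element f' of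
S' is a non-zero-divisor exactly when its image in S'/IS' is one; and when f' is a non-zero-divisor,
the quotient S'/(f') is flat over A'. (The published statement is for local Artinian algebras with a
fixed residue field over a ring of Witt vectors and a surjection between two of them; the argument
uses only that A' is Artinian local and I is a proper ideal, which is the form taken here.) -/
theorem result
    {A' : Type u} [CommRing A'] [IsArtinianRing A'] [IsLocalRing A'] (I : Ideal A') (hI : I ≠ ⊤)
    {S' : Type v} [CommRing S'] [Algebra A' S'] [Module.Flat A' S'] (f' : S') :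
    (f' ∈ nonZeroDivisors S' ↔
      Ideal.Quotient.mk (I.map (algebraMap A' S')) f' ∈ nonZeroDivisors (S' ⧸ I.map (algebraMap A' S'))) ∧
    (f' ∈ nonZeroDivisors S' → Module.Flat A' (S' ⧸ Ideal.span {f'})) := by
  let μ : S' →ₗ[A'] S' := LinearMap.mulLeft A' f'
  let m := IsLocalRing.maximalIdeal A'
  have hp : ∀ p : Ideal A', p.IsPrime → p = m := fun p h => by
    haveI := h
    exact IsLocalRing.eq_maximalIdeal (IsArtinianRing.isMaximal_of_isPrime p)
  have up : Function.Injective (μ.lTensor (A' ⧸ m)) → ∀ (N : Type u) [AddCommGroup N] [Module A' N] [Module.Finite A' N],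
      Function.Injective (μ.lTensor N) := by
    intro hk N _ _ _
    refine IsNoetherianRing.induction_on_isQuotientEquivQuotientPrime A' (M := N) inferInstance
      (motive := fun N _ _ _ => Function.Injective (μ.lTensor N)) ?_ ?_ ?_
    · intro N _ _ _ _
      exact Function.injective_of_subsingleton _
    · intro N _ _ _ p e
      let e' : N ≃ₗ[A'] A' ⧸ m := e.trans (Submodule.quotEquivOfEq _ _ (hp p.1 p.2))
      intro a b hab
      apply (LinearEquiv.rTensor S' e').injective
      apply hk
      change μ.lTensor _ (e'.toLinearMap.rTensor S' a) = μ.lTensor _ (e'.toLinearMap.rTensor S' b)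
      rw [← LinearMap.comp_apply, LinearMap.lTensor_comp_rTensor, ← LinearMap.rTensor_comp_lTensor,
        LinearMap.comp_apply, hab, ← LinearMap.comp_apply, LinearMap.rTensor_comp_lTensor,
        ← LinearMap.lTensor_comp_rTensor, LinearMap.comp_apply]
    · intro N₁ _ _ _ N₂ _ _ _ N₃ _ _ _ f g hf hg hfg h1 h3
      rw [injective_iff_map_eq_zero]
      intro x hx
      have hgx : g.rTensor S' x = 0 := by
        apply h3
        rw [map_zero, ← LinearMap.comp_apply, LinearMap.lTensor_comp_rTensor, ← LinearMap.rTensor_comp_lTensor,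
          LinearMap.comp_apply, hx, map_zero]
      obtain ⟨y, rfl⟩ := (rTensor_exact S' hfg hg x).1 hgx
      have hy : μ.lTensor N₁ y = 0 := by
        apply Module.Flat.rTensor_preserves_injective_linearMap (M := S') f hf
        rw [map_zero, ← LinearMap.comp_apply, LinearMap.rTensor_comp_lTensor, ← LinearMap.lTensor_comp_rTensor,
          LinearMap.comp_apply, hx]
      rw [h1 (hy.trans (map_zero _).symm), map_zero]
  have down : ∀ (N : Type u) [AddCommGroup N] [Module A' N] [Nontrivial N],
      Function.Injective (μ.lTensor N) → Function.Injective (μ.lTensor (A' ⧸ m)) := by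
    intro N _ _ _ hN
    obtain ⟨q, hq⟩ := associatedPrimes.nonempty A' N
    obtain ⟨hqp, j, hj⟩ := (isAssociatedPrime_iff_exists_injective_linearMap q N).1 (AssociatedPrimes.mem_iff.1 hq)
    have hqm := hp q hqp
    subst hqm
    intro a b hab
    apply Module.Flat.rTensor_preserves_injective_linearMap (M := S') j hj
    apply hN
    rw [← LinearMap.comp_apply, LinearMap.lTensor_comp_rTensor, ← LinearMap.rTensor_comp_lTensor,
      LinearMap.comp_apply, hab, ← LinearMap.comp_apply, LinearMap.rTensor_comp_lTensor,
      ← LinearMap.lTensor_comp_rTensor, LinearMap.comp_apply]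
  have hmkq : ∀ (J : Ideal A') (z : (A' ⧸ J) ⊗[A'] S'), ∃ s : S', (1 : A' ⧸ J) ⊗ₜ[A'] s = z := by
    intro J z
    induction z with
    | zero => exact ⟨0, TensorProduct.tmul_zero _ _⟩
    | add a b ha hb =>
      obtain ⟨s, hs⟩ := ha; obtain ⟨t, ht⟩ := hb
      exact ⟨s + t, by rw [TensorProduct.tmul_add, hs, ht]⟩
    | tmul q s =>
      obtain ⟨r, rfl⟩ := Ideal.Quotient.mk_surjective q
      exact ⟨r • s, by rw [← TensorProduct.smul_tmul, Algebra.smul_def, mul_one]; rfl⟩
  have hzero : ∀ (J : Ideal A') (s : S'), (1 : A' ⧸ J) ⊗ₜ[A'] s = 0 ↔ s ∈ J.map (algebraMap A' S') := by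
    intro J s
    rw [← (TensorProduct.quotTensorEquivQuotSMul S' J).map_eq_zero_iff, TensorProduct.quotTensorEquivQuotSMul_mk_one_tmul,
      Submodule.Quotient.mk_eq_zero, Ideal.smul_top_eq_map]
    rfl
  have hinjS : ∀ J : Ideal A', (Ideal.Quotient.mk (J.map (algebraMap A' S')) f' ∈ nonZeroDivisors (S' ⧸ J.map (algebraMap A' S'))) ↔
      Function.Injective (μ.lTensor (A' ⧸ J)) := by
    intro J
    rw [injective_iff_map_eq_zero, mem_nonZeroDivisors_iff_right]
    constructor
    · intro h z hz
      obtain ⟨s, rfl⟩ := hmkq J z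
      rw [LinearMap.lTensor_tmul, hzero] at hz
      rw [hzero, ← Ideal.Quotient.eq_zero_iff_mem]
      apply h
      rw [← map_mul, Ideal.Quotient.eq_zero_iff_mem, mul_comm]
      exact hz
    · intro h z hz
      obtain ⟨s, rfl⟩ := Ideal.Quotient.mk_surjective z
      rw [← map_mul, Ideal.Quotient.eq_zero_iff_mem, mul_comm] at hz
      rw [Ideal.Quotient.eq_zero_iff_mem, ← hzero]
      exact h _ (by rw [LinearMap.lTensor_tmul, hzero]; exact hz)
  have hbot : f' ∈ nonZeroDivisors S' ↔ Function.Injective (μ.lTensor A') := by
    rw [mem_nonZeroDivisors_iff_right, injective_iff_map_eq_zero]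
    have hnat : ∀ z, TensorProduct.lid A' S' (μ.lTensor A' z) = μ (TensorProduct.lid A' S' z) := by
      intro z
      induction z with
      | zero => simp
      | add a b ha hb => simp only [map_add, ha, hb]
      | tmul r s => simp
    constructor
    · intro h z hz
      apply (TensorProduct.lid A' S').injective
      rw [map_zero]
      apply h
      rw [mul_comm]
      have h2 := hnat z
      rw [hz, map_zero] at h2
      exact h2.symm
    · intro h s hs
      have h2 := h ((1 : A') ⊗ₜ[A'] s) (by
        rw [LinearMap.lTensor_tmul, show μ s = 0 from (mul_comm f' s).trans hs, TensorProduct.tmul_zero])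
      simpa using congrArg (TensorProduct.lid A' S') h2
  refine ⟨?_, ?_⟩
  · rw [hbot, hinjS]
    haveI : Nontrivial (A' ⧸ I) := Ideal.Quotient.nontrivial_iff.2 hI
    exact ⟨fun h => up (down A' h) _, fun h => up (down _ h) _⟩
  · intro h
    have hall := up (down A' (hbot.1 h))
    rw [Module.Flat.iff_rTensor_injective']
    intro J
    rw [injective_iff_map_eq_zero]
    intro x hx
    let π : S' →ₗ[A'] S' ⧸ Ideal.span {f'} := (Ideal.Quotient.mkₐ A' (Ideal.span {f'})).toLinearMap
    obtain ⟨y, rfl⟩ := LinearMap.lTensor_surjective J (g := π) Ideal.Quotient.mk_surjective x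
    set w := TensorProduct.lid A' S' (J.subtype.rTensor S' y) with hw
    have hnatπ : ∀ y, TensorProduct.lid A' (S' ⧸ Ideal.span {f'}) (J.subtype.rTensor _ (π.lTensor J y)) =
        π (TensorProduct.lid A' S' (J.subtype.rTensor S' y)) := by
      intro y
      induction y with
      | zero => simp
      | add a b ha hb => simp only [map_add, ha, hb]
      | tmul r s => simp
    have hπw : π w = 0 := by rw [hw, ← hnatπ, hx, map_zero]
    obtain ⟨s, hs⟩ := Ideal.mem_span_singleton'.1 (Ideal.Quotient.eq_zero_iff_mem.1 hπw)
    have hwJ : w ∈ J.map (algebraMap A' S') := by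
      rw [hw]
      clear hs hπw hx hw w
      induction y with
      | zero => simp
      | add a b ha hb => rw [map_add, map_add]; exact add_mem ha hb
      | tmul r t =>
        rw [LinearMap.rTensor_tmul, TensorProduct.lid_tmul, Submodule.subtype_apply, Algebra.smul_def]
        exact Ideal.mul_mem_right _ _ (Ideal.mem_map_of_mem _ r.2)
    have hsJ : s ∈ J.map (algebraMap A' S') := by
      rw [← hzero]
      apply hall (A' ⧸ J)
      rw [map_zero, LinearMap.lTensor_tmul, hzero, show μ s = w from (mul_comm f' s).trans hs]
      exact hwJ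
    obtain ⟨t, ht⟩ : ∃ t : J ⊗[A'] S', TensorProduct.lid A' S' (J.subtype.rTensor S' t) = s := by
      have : s ∈ (J • ⊤ : Submodule A' S') := by rw [Ideal.smul_top_eq_map]; exact hsJ
      refine Submodule.smul_induction_on this (fun r hr u _ => ⟨⟨r, hr⟩ ⊗ₜ u, by simp⟩) ?_
      rintro a b ⟨u, rfl⟩ ⟨v, rfl⟩
      exact ⟨u + v, by rw [map_add, map_add]⟩
    have hnatμ : ∀ t : J ⊗[A'] S', TensorProduct.lid A' S' (J.subtype.rTensor S' (μ.lTensor J t)) =
        f' * TensorProduct.lid A' S' (J.subtype.rTensor S' t) := by
      intro t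
      induction t with
      | zero => simp
      | add a b ha hb => simp only [map_add, mul_add, ha, hb]
      | tmul r u => simp [μ, mul_smul_comm]
    have hy : y = μ.lTensor J t := by
      apply Module.Flat.rTensor_preserves_injective_linearMap (M := S') J.subtype J.subtype_injective
      apply (TensorProduct.lid A' S').injective
      rw [hnatμ, ht, mul_comm]
      exact hs.symm
    rw [hy, ← LinearMap.comp_apply, ← LinearMap.lTensor_comp]
    have : π ∘ₗ μ = 0 := LinearMap.ext fun u =>
      (Ideal.Quotient.eq_zero_iff_mem).2 (Ideal.mem_span_singleton'.2 ⟨u, mul_comm u f'⟩)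
    rw [this, LinearMap.lTensor_zero, LinearMap.zero_apply]

end Groth.Agent.S13132
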