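import Groth.Statements.S13133
import Groth.Agent.S13132
import Mathlib.RingTheory.Regular.RegularSequence
import Mathlib.RingTheory.Ideal.Quotient.Operations
import Mathlib.RingTheory.Artinian.Module
import Mathlib.RingTheory.Artinian.Ring

set_option autoImplicit false
universe u v
open CAlg

namespace Groth.Agent.S13133

/-- Let A' be an Artinian local ring, I a proper ideal of A', S' a flat A'-algebra and f'_1, …, f'_n
elements of S' with n ≥ 1. A family f'_1, …, f'_n in S' is a regular sequence exactly when its
reduction modulo I·S' is a regular sequence of S'/IS'. (Regular sequences are defined in the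
published text over Noetherian rings; this row does not assume S' Noetherian, which the argument
does not use. The published statement is for a surjection of local Artinian algebras with a fixed
residue field over a ring of Witt vectors; only the Artinian local base and the proper ideal are
used, which is the form taken here.) -/
theorem result
    {A' : Type u} [CommRing A'] [IsArtinianRing A'] [IsLocalRing A'] (I : Ideal A') (hI : I ≠ ⊤)
    {S' : Type v} [CommRing S'] [Algebra A' S'] [Module.Flat A' S'] {n : ℕ} (hn : 1 ≤ n)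
    (f' : Fin n → S') :
    RingTheory.Sequence.IsRegular S' (List.ofFn f') ↔
      RingTheory.Sequence.IsRegular (S' ⧸ I.map (algebraMap A' S'))
        (List.ofFn fun i => Ideal.Quotient.mk (I.map (algebraMap A' S')) (f' i)) := by
  set IS := I.map (algebraMap A' S') with hIS
  let φ := Ideal.Quotient.mk IS
  have hsurj : Function.Surjective φ := Ideal.Quotient.mk_surjective
  set l := List.ofFn f' with hl
  have hmap : (List.ofFn fun i => Ideal.Quotient.mk IS (f' i)) = l.map φ := by
    rw [hl, List.map_ofFn]; rfl
  rw [hmap]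
  have reg : ∀ (T : Type v) [CommRing T] (J : Ideal T) (x : T),
      IsSMulRegular (T ⧸ (J • ⊤ : Submodule T T)) x ↔ ∀ s, x * s ∈ J → s ∈ J := by
    intro T _ J x
    rw [show (J • ⊤ : Submodule T T) = J from Ideal.mul_top J]
    constructor
    · intro h s hs
      rw [← Ideal.Quotient.eq_zero_iff_mem]
      exact h.right_eq_zero_of_smul (by
        rw [← Ideal.Quotient.eq_zero_iff_mem] at hs
        exact hs)
    · intro h a b hab
      obtain ⟨a, rfl⟩ := Ideal.Quotient.mk_surjective a
      obtain ⟨b, rfl⟩ := Ideal.Quotient.mk_surjective b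
      change Ideal.Quotient.mk J (x * a) = Ideal.Quotient.mk J (x * b) at hab
      rw [Ideal.Quotient.eq, ← mul_sub] at hab
      exact Ideal.Quotient.eq.2 (h _ hab)
  have hmem : ∀ (J : Ideal S') (s : S'), φ s ∈ J.map φ ↔ s ∈ J ⊔ IS := by
    intro J s
    rw [← Ideal.mem_comap, Ideal.comap_map_of_surjective φ hsurj]
    rw [← RingHom.ker_eq_comap_bot, Ideal.mk_ker]
  let C := fun (i : ℕ) (h : i < l.length) => ∀ s, l[i] * s ∈ Ideal.ofList (l.take i) → s ∈ Ideal.ofList (l.take i)
  let D := fun (i : ℕ) (h : i < l.length) => ∀ s, l[i] * s ∈ Ideal.ofList (l.take i) ⊔ IS → s ∈ Ideal.ofList (l.take i) ⊔ IS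
  have step : ∀ i (hi : i < l.length), Module.Flat A' (S' ⧸ Ideal.ofList (l.take i)) →
      (C i hi ↔ D i hi) ∧ (C i hi → Module.Flat A' (S' ⧸ Ideal.ofList (l.take (i + 1)))) := by
    intro i hi hflat
    set J := Ideal.ofList (l.take i)
    let q := Ideal.Quotient.mk J
    have hres := Groth.Agent.S13132.result I hI (S' := S' ⧸ J) (q l[i])
    have hI' : I.map (algebraMap A' (S' ⧸ J)) = IS.map q := by
      rw [hIS, Ideal.map_map]; rfl
    have hC : q l[i] ∈ nonZeroDivisors (S' ⧸ J) ↔ C i hi := by
      rw [mem_nonZeroDivisors_iff_right]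
      constructor
      · intro h s hs
        rw [← Ideal.Quotient.eq_zero_iff_mem]
        refine h (q s) ?_
        rw [← map_mul, Ideal.Quotient.eq_zero_iff_mem, mul_comm]
        exact hs
      · intro h z hz
        obtain ⟨s, rfl⟩ := Ideal.Quotient.mk_surjective z
        rw [← map_mul, Ideal.Quotient.eq_zero_iff_mem, mul_comm] at hz
        exact Ideal.Quotient.eq_zero_iff_mem.2 (h s hz)
    have hD : Ideal.Quotient.mk (I.map (algebraMap A' (S' ⧸ J))) (q l[i]) ∈
        nonZeroDivisors ((S' ⧸ J) ⧸ I.map (algebraMap A' (S' ⧸ J))) ↔ D i hi := by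
      have hm : ∀ s, q s ∈ I.map (algebraMap A' (S' ⧸ J)) ↔ s ∈ J ⊔ IS := by
        intro s
        rw [hI', ← Ideal.mem_comap, Ideal.comap_map_of_surjective q Ideal.Quotient.mk_surjective,
          ← RingHom.ker_eq_comap_bot, Ideal.mk_ker, sup_comm]
      rw [mem_nonZeroDivisors_iff_right]
      constructor
      · intro h s hs
        rw [← hm, ← Ideal.Quotient.eq_zero_iff_mem]
        refine h _ ?_
        rw [← map_mul, ← map_mul, Ideal.Quotient.eq_zero_iff_mem, mul_comm, hm]
        exact hs
      · intro h z hz
        obtain ⟨z, rfl⟩ := Ideal.Quotient.mk_surjective z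
        obtain ⟨s, rfl⟩ := Ideal.Quotient.mk_surjective z
        rw [← map_mul, ← map_mul, Ideal.Quotient.eq_zero_iff_mem, hm, mul_comm] at hz
        exact Ideal.Quotient.eq_zero_iff_mem.2 ((hm s).2 (h s hz))
    refine ⟨by rw [← hC, hres.1, hD], fun hc => ?_⟩
    haveI := hres.2 (hC.2 hc)
    have htake : Ideal.ofList (l.take (i + 1)) = J ⊔ Ideal.span {l[i]} := by
      rw [List.take_succ_eq_append_getElem hi, Ideal.ofList_append, Ideal.ofList_singleton]
    have hsp : Ideal.span {q l[i]} = (Ideal.span {l[i]}).map (Ideal.Quotient.mkₐ A' J) := by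
      rw [Ideal.map_span, Set.image_singleton]; rfl
    exact Module.Flat.of_linearEquiv (((Ideal.quotientEquivAlgOfEq A' hsp).trans
      ((DoubleQuot.quotQuotEquivQuotSupₐ A' J (Ideal.span {l[i]})).trans
        (Ideal.quotientEquivAlgOfEq A' htake.symm))).symm.toLinearEquiv)
  have flat0 : Module.Flat A' (S' ⧸ Ideal.ofList (l.take 0)) := by
    rw [List.take_zero, Ideal.ofList_nil]
    exact Module.Flat.of_linearEquiv (AlgEquiv.quotientBot A' S').toLinearEquiv
  have flats : ∀ i ≤ l.length, (∀ j (hj : j < l.length), j < i → C j hj) → Module.Flat A' (S' ⧸ Ideal.ofList (l.take i)) := by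
    intro i
    induction i with
    | zero => exact fun _ _ => flat0
    | succ i ih =>
      intro hi h
      exact (step i hi (ih (by omega) fun j hj hji => h j hj (by omega))).2 (h i hi (by omega))
  have allD : (∀ i (hi : i < l.length), C i hi) ↔ ∀ i (hi : i < l.length), D i hi := by
    constructor
    · exact fun h i hi => ((step i hi (flats i hi.le fun j hj _ => h j hj)).1).1 (h i hi)
    · intro h i
      induction i using Nat.strong_induction_on with
      | _ i ih => exact fun hi => ((step i hi (flats i hi.le fun j hj hji => ih j hji hj)).1).2 (h i hi)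
  have w1 : RingTheory.Sequence.IsWeaklyRegular S' l ↔ ∀ i (hi : i < l.length), C i hi := by
    rw [RingTheory.Sequence.isWeaklyRegular_iff]
    exact forall₂_congr fun i hi => reg S' _ _
  have w2 : RingTheory.Sequence.IsWeaklyRegular (S' ⧸ IS) (l.map φ) ↔ ∀ i (hi : i < l.length), D i hi := by
    rw [RingTheory.Sequence.isWeaklyRegular_iff]
    constructor
    · intro h i hi s hs
      have h1 := h i (by rw [List.length_map]; exact hi)
      rw [reg (S' ⧸ IS)] at h1
      simp only [List.getElem_map, ← List.map_take, ← Ideal.map_ofList] at h1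
      exact (hmem _ _).1 (h1 (φ s) (by rw [← map_mul]; exact (hmem _ _).2 hs))
    · intro h i hi
      rw [reg (S' ⧸ IS)]
      have hi' : i < l.length := by rwa [List.length_map] at hi
      simp only [List.getElem_map, ← List.map_take, ← Ideal.map_ofList]
      intro z hz
      obtain ⟨s, rfl⟩ := hsurj z
      rw [← map_mul] at hz
      exact (hmem _ _).2 (h i hi' s ((hmem _ _).1 hz))
  have htop : ((⊤ : Submodule S' S') ≠ Ideal.ofList l • ⊤) ↔ ((⊤ : Submodule (S' ⧸ IS) (S' ⧸ IS)) ≠ Ideal.ofList (l.map φ) • ⊤) := by
    rw [show (Ideal.ofList l • ⊤ : Submodule S' S') = Ideal.ofList l from Ideal.mul_top _,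
      show (Ideal.ofList (l.map φ) • ⊤ : Submodule (S' ⧸ IS) (S' ⧸ IS)) = Ideal.ofList (l.map φ) from Ideal.mul_top _,
      ← Ideal.map_ofList, not_iff_not]
    constructor
    · intro h; rw [← h, Ideal.map_top]
    · intro h
      have h1 : φ 1 ∈ (Ideal.ofList l).map φ := h ▸ Submodule.mem_top
      rw [hmem] at h1
      obtain ⟨a, ha, b, hb, hab⟩ := Submodule.mem_sup.1 h1
      have hnil : IsNilpotent b := by
        obtain ⟨N, hN⟩ := IsArtinianRing.isNilpotent_jacobson_bot (R := A')
        refine ⟨N, ?_⟩
        have hle : I ≤ Ideal.jacobson (⊥ : Ideal A') := by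
          rw [IsLocalRing.jacobson_eq_maximalIdeal ⊥ bot_ne_top]
          exact IsLocalRing.le_maximalIdeal hI
        have h2 : b ^ N ∈ IS ^ N := Ideal.pow_mem_pow hb N
        rw [hIS, ← Ideal.map_pow, show I ^ N = ⊥ from le_bot_iff.1 ((Ideal.pow_right_mono hle N).trans hN.le), Ideal.map_bot] at h2
        exact h2
      have ha' : IsUnit a := by
        rw [eq_sub_of_add_eq hab]; exact hnil.isUnit_one_sub
      exact (Ideal.eq_top_of_isUnit_mem _ ha ha').symm
  rw [RingTheory.Sequence.isRegular_iff, RingTheory.Sequence.isRegular_iff, w1, w2, allD, htop]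

end Groth.Agent.S13133
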