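import Groth.Statements.S13135
import Groth.Agent.RegLift.Basic
import Mathlib.RingTheory.MvPolynomial.Basic
import Mathlib.RingTheory.Polynomial.Basic
import Mathlib.LinearAlgebra.FreeModule.Basic
import Mathlib.RingTheory.Flat.Basic
import Mathlib.Algebra.MvPolynomial.Basic

set_option autoImplicit false
universe u
open CAlg Groth.Agent

namespace Groth.Agent.S13135

/-- Let A' be an Artinian local ring, I a proper ideal, A = A'/I and f_1, …, f_m a regular sequence in
A[x_1, …, x_n]. For every choice of lifts f'_1, …, f'_m in A'[x_1, …, x_n] the quotient A'[x]/(f'_1,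
…, f'_m) is flat over A' (so it is a flat lifting of A[x]/(f_1, …, f_m)). (The published statement
is for a surjection of local Artinian algebras with a fixed residue field over a ring of Witt
vectors; only the Artinian local base and the proper ideal are used, which is the form taken here.) -/
theorem result
    {A' : Type u} [CommRing A'] [IsArtinianRing A'] [IsLocalRing A'] (I : Ideal A') (hI : I ≠ ⊤)
    {n m : ℕ} (f : Fin m → MvPolynomial (Fin n) (A' ⧸ I))
    (hreg : RingTheory.Sequence.IsRegular (MvPolynomial (Fin n) (A' ⧸ I)) (List.ofFn f))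
    (f' : Fin m → MvPolynomial (Fin n) A') (hf' : ∀ i, MvPolynomial.map (Ideal.Quotient.mk I) (f' i) = f i) :
    Module.Flat A' (MvPolynomial (Fin n) A' ⧸ Ideal.span (Set.range f')) := by
  have hspan : Ideal.span (Set.range f') = Ideal.ofList (List.ofFn f') := by
    rw [Ideal.ofList]; congr 1; ext z; simp [List.mem_ofFn, eq_comm]
  rw [hspan]
  let φ : MvPolynomial (Fin n) A' →+* MvPolynomial (Fin n) (A' ⧸ I) := MvPolynomial.map (Ideal.Quotient.mk I)
  have hsurj : Function.Surjective φ := MvPolynomial.map_surjective _ Ideal.Quotient.mk_surjective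
  have hker : RingHom.ker φ = I.map (algebraMap A' (MvPolynomial (Fin n) A')) := by
    rw [MvPolynomial.ker_map, Ideal.mk_ker]; rfl
  have hmem : ∀ (J : Ideal (MvPolynomial (Fin n) A')) s,
      φ s ∈ J.map φ ↔ s ∈ J ⊔ I.map (algebraMap A' (MvPolynomial (Fin n) A')) := by
    intro J s
    rw [← Ideal.mem_comap, Ideal.comap_map_of_surjective φ hsurj, ← RingHom.ker_eq_comap_bot, hker]
  refine RegLift.flat_quotient I hI (List.ofFn f') fun i hi s hs => ?_
  have him : i < (List.ofFn f).length := by
    rw [List.length_ofFn] at hi ⊢; exact hi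
  have h1 := hreg.toIsWeaklyRegular.regular_mod_prev i him
  have hlist : List.ofFn f = (List.ofFn f').map φ := by
    rw [List.map_ofFn]; congr 1; funext j; exact (hf' j).symm
  rw [← hmem] at hs ⊢
  rw [map_mul] at hs
  rw [show (Ideal.ofList ((List.ofFn f).take i) • ⊤ : Submodule _ (MvPolynomial (Fin n) (A' ⧸ I))) =
    Ideal.ofList ((List.ofFn f).take i) from Ideal.mul_top _] at h1
  have hJ : Ideal.ofList ((List.ofFn f).take i) = (Ideal.ofList ((List.ofFn f').take i)).map φ := by
    rw [Ideal.map_ofList, List.map_take, hlist]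
  have hg : (List.ofFn f)[i] = φ (List.ofFn f')[i] := by simp [hlist]
  have key : ∀ t, (List.ofFn f)[i] * t ∈ Ideal.ofList ((List.ofFn f).take i) →
      t ∈ Ideal.ofList ((List.ofFn f).take i) := fun t ht =>
    Ideal.Quotient.eq_zero_iff_mem.1
      (h1.right_eq_zero_of_smul (x := Ideal.Quotient.mk _ t) (Ideal.Quotient.eq_zero_iff_mem.2 ht))
  rw [hJ, hg] at key
  exact key _ hs

end Groth.Agent.S13135
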