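import Groth.Statements.S13136
import Mathlib
import Groth.Agent.W2Lift.Basic

set_option autoImplicit false
universe u v
open FrobAlg

namespace Groth.Agent.S13136

/-- For a perfect field k of characteristic p, a module M over the Witt vectors W₂(k) of length two is
flat if and only if every element of M annihilated by p lies in pM, i.e. the map M/pM → pM, m ↦ pm,
is injective. -/
theorem result
    (p : ℕ) [Fact p.Prime] (k : Type u) [Field k] [CharP k p] [PerfectRing k p]
    (M : Type v) [AddCommGroup M] [Module (FrobAlg.W2 p k) M] :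
    Module.Flat (FrobAlg.W2 p k) M ↔
      ∀ m : M, (p : FrobAlg.W2 p k) • m = 0 → ∃ m' : M, m = (p : FrobAlg.W2 p k) • m' := by
  have hker : ∀ x : W2 p k, res p k x = 0 → ∃ c, x = (p : W2 p k) * c := fun x hx =>
    Ideal.mem_span_singleton.1 (show x ∈ Ideal.span {(p : W2 p k)} from W2Lift.ker_res p k ▸ hx)
  constructor
  · intro hflat m hm
    obtain ⟨n, a, y, hxy, hfa⟩ := Module.Flat.isTrivialRelation_of_sum_smul_eq_zero
      (R := W2 p k) (f := fun _ : Fin 1 => (p : W2 p k)) (x := fun _ => m) (by rwa [Fin.sum_univ_one])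
    have hdiv : ∀ j, ∃ a', a 0 j = (p : W2 p k) * a' := fun j => by
      have := hfa j
      simp only [Fin.sum_univ_one] at this
      exact Ideal.mem_span_singleton.1 (W2Lift.eq_mul_of_p_mul p k this)
    choose a' ha' using hdiv
    refine ⟨∑ j, a' j • y j, ?_⟩
    rw [Finset.smul_sum]
    exact (hxy 0).trans (Finset.sum_congr rfl fun j _ => by rw [ha', mul_smul])
  · intro h
    rw [Module.Flat.iff_rTensor_injective']
    intro I
    rw [injective_iff_map_eq_zero]
    intro w hw
    by_cases hI : ∃ x ∈ I, res p k x ≠ 0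
    · obtain ⟨x, hx, hx0⟩ := hI
      have hs : Function.Bijective I.subtype := by
        refine ⟨Subtype.val_injective, fun y => ⟨⟨y, ?_⟩, rfl⟩⟩
        rw [Ideal.eq_top_of_isUnit_mem I hx (W2Lift.isUnit_of_res_ne_zero p k hx0)]
        trivial
      exact ((LinearEquiv.ofBijective _ hs).rTensor M).injective (hw.trans (map_zero _).symm)
    push Not at hI
    by_cases hp : (p : W2 p k) ∈ I
    · have hw' : ∃ b : M, w = (⟨(p : W2 p k), hp⟩ : I) ⊗ₜ b := by
        clear hw
        induction w with
        | zero => exact ⟨0, (TensorProduct.tmul_zero _ _).symm⟩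
        | tmul x b =>
          obtain ⟨c, hc⟩ := hker x.1 (hI x.1 x.2)
          refine ⟨c • b, ?_⟩
          rw [← TensorProduct.smul_tmul]
          congr 1
          exact Subtype.ext (hc.trans (mul_comm _ _))
        | add x y hx hy =>
          obtain ⟨a, rfl⟩ := hx
          obtain ⟨b, rfl⟩ := hy
          exact ⟨a + b, (TensorProduct.tmul_add _ _ _).symm⟩
      obtain ⟨b, rfl⟩ := hw'
      replace hw := congrArg (TensorProduct.lid (W2 p k) M) hw
      rw [LinearMap.rTensor_tmul, TensorProduct.lid_tmul, map_zero] at hw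
      obtain ⟨b', rfl⟩ := h b hw
      rw [← TensorProduct.smul_tmul,
        show (p : W2 p k) • (⟨(p : W2 p k), hp⟩ : I) = 0 from Subtype.ext (W2Lift.p_mul_p p k),
        TensorProduct.zero_tmul]
    · have hbot : I = ⊥ := by
        rw [eq_bot_iff]
        intro x hx
        obtain ⟨c, hc⟩ := hker x (hI x hx)
        rw [Submodule.mem_bot]
        by_cases hc0 : res p k c = 0
        · obtain ⟨d, hd⟩ := hker c hc0
          rw [hc, hd, ← mul_assoc, W2Lift.p_mul_p, zero_mul]
        · obtain ⟨u, rfl⟩ := W2Lift.isUnit_of_res_ne_zero p k hc0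
          refine absurd ?_ hp
          have := I.mul_mem_right ((u⁻¹ : (W2 p k)ˣ) : W2 p k) hx
          rwa [hc, mul_assoc, Units.mul_inv, mul_one] at this
      subst hbot
      exact Subsingleton.elim _ _

end Groth.Agent.S13136
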