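import Groth.Statements.S13137
import Mathlib
import Groth.Agent.S13136

set_option autoImplicit false
universe u v
open FrobAlg

namespace Groth.Agent.S13137

/-- For a perfect field k of characteristic p, a flat W₂(k)-algebra B and an ideal J of B, the quotient
B/J is flat over W₂(k) if and only if (p) ∩ J = pJ in B. (With B a flat lifting of A = B/pB this
says: B/J is a flat lifting of A modulo the image of J exactly when (p) ∩ J = pJ.) -/
theorem result
    (p : ℕ) [Fact p.Prime] (k : Type u) [Field k] [CharP k p] [PerfectRing k p]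
    (B : Type v) [CommRing B] [Algebra (FrobAlg.W2 p k) B] [Module.Flat (FrobAlg.W2 p k) B]
    (J : Ideal B) :
    Module.Flat (FrobAlg.W2 p k) (B ⧸ J) ↔
      Ideal.span {(p : B)} ⊓ J = Ideal.span {(p : B)} * J := by
  have hsm : ∀ b : B, (p : FrobAlg.W2 p k) • b = (p : B) * b := fun b => by
    rw [Algebra.smul_def, map_natCast]
  rw [Groth.Agent.S13136.result]
  constructor
  · intro h
    refine le_antisymm ?_ (le_inf Ideal.mul_le_left Ideal.mul_le_right)
    rintro x ⟨hx1, hx2⟩
    obtain ⟨b, rfl⟩ := Ideal.mem_span_singleton.1 hx1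
    obtain ⟨m', hm'⟩ := h (Ideal.Quotient.mk J b) (by
      show Ideal.Quotient.mk J ((p : FrobAlg.W2 p k) • b) = 0
      rw [hsm]
      exact Ideal.Quotient.eq_zero_iff_mem.2 hx2)
    obtain ⟨c, rfl⟩ := Ideal.Quotient.mk_surjective m'
    have hbc : b - (p : B) * c ∈ J := by
      rw [← Ideal.Quotient.eq]
      exact hm'.trans (congrArg (Ideal.Quotient.mk J) (hsm c))
    have hpp : (p : B) * p = 0 := by
      have h0 := congrArg (algebraMap (FrobAlg.W2 p k) B) (W2Lift.p_mul_p p k)
      simpa using h0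
    rw [show (p : B) * b = (p : B) * (b - (p : B) * c) by rw [mul_sub, ← mul_assoc, hpp, zero_mul, sub_zero]]
    exact Ideal.mul_mem_mul (Ideal.mem_span_singleton_self _) hbc
  · intro h m hm
    obtain ⟨b, rfl⟩ := Ideal.Quotient.mk_surjective m
    have hb : (p : B) * b ∈ J := by
      rw [← hsm, ← Ideal.Quotient.eq_zero_iff_mem]
      exact hm
    have hb2 : (p : B) * b ∈ Ideal.span {(p : B)} ⊓ J := ⟨Ideal.mem_span_singleton.2 (dvd_mul_right _ _), hb⟩
    rw [h] at hb2
    obtain ⟨j, hj, hbj⟩ := Ideal.mem_span_singleton_mul.1 hb2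
    obtain ⟨c, hc⟩ := (Groth.Agent.S13136.result p k B).1 inferInstance (b - j) (by
      rw [hsm, mul_sub, hbj, sub_self])
    refine ⟨Ideal.Quotient.mk J c, ?_⟩
    refine Eq.trans ?_ (congrArg (Ideal.Quotient.mk J) hc)
    exact (Ideal.Quotient.eq.2 (by simpa using hj)).symm

end Groth.Agent.S13137
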