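import Groth.Statements.S13138
import Groth.Agent.W2Lift.Basic
import Groth.Agent.S13137

set_option autoImplicit false
universe u
open scoped BigOperators
open FrobAlg

namespace Groth.Agent.S13138

/-- Let k be a perfect field of characteristic p, R' = W₂(k)[x_1, …, x_n], f'_1, …, f'_m ∈ R' with
reductions f_1, …, f_m ∈ R = k[x_1, …, x_n], J' = (f'_1, …, f'_m), J = (f_1, …, f_m), and assume B'
= R'/J' is flat over W₂(k), so that it is a flat lifting of B = R/J. The Frobenius of B lifts to B'
— there is a ring endomorphism of B' semilinear for the Witt-vector Frobenius σ₂ of W₂(k) and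
reducing to the p-th power map of B — if and only if there are h_1, …, h_n ∈ R' with F'(f'_i) −
f'_i^p − p·Σ_j (∂f'_i/∂x_j)^p h_j ∈ pJ' for every i, where F' is the standard Frobenius lift of R'
(σ₂ on coefficients, x_j ↦ x_j^p). Since multiplication by p identifies R with pR', this is the
congruence P(f'_i) ≡ Σ_j (∂f_i/∂x_j)^p h_j modulo J for the Frobenius residues P(f'_i) = (F'(f'_i) −
f'_i^p)/p. -/
theorem result
    (p : ℕ) [Fact p.Prime] (k : Type u) [Field k] [CharP k p] [PerfectRing k p]
    {n m : ℕ} (f' : Fin m → MvPolynomial (Fin n) (FrobAlg.W2 p k))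
    (hflat : ((Ideal.Quotient.mk (Ideal.span (Set.range f'))).comp
      (MvPolynomial.C : FrobAlg.W2 p k →+* MvPolynomial (Fin n) (FrobAlg.W2 p k))).Flat) :
    (∃ Φ : (MvPolynomial (Fin n) (FrobAlg.W2 p k) ⧸ Ideal.span (Set.range f')) →+*
        (MvPolynomial (Fin n) (FrobAlg.W2 p k) ⧸ Ideal.span (Set.range f')),
      Φ.comp ((Ideal.Quotient.mk (Ideal.span (Set.range f'))).comp MvPolynomial.C) =
        ((Ideal.Quotient.mk (Ideal.span (Set.range f'))).comp MvPolynomial.C).comp (FrobAlg.sigma p k) ∧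
      ∀ b, Ideal.quotientMap ((Ideal.span (Set.range f')).map (MvPolynomial.map (FrobAlg.res p k)))
          (MvPolynomial.map (FrobAlg.res p k)) Ideal.le_comap_map (Φ b) =
        (Ideal.quotientMap ((Ideal.span (Set.range f')).map (MvPolynomial.map (FrobAlg.res p k)))
          (MvPolynomial.map (FrobAlg.res p k)) Ideal.le_comap_map b) ^ p) ↔
    ∃ h : Fin n → MvPolynomial (Fin n) (FrobAlg.W2 p k), ∀ i,
      FrobAlg.polyFrob p k (Fin n) (f' i) - f' i ^ p
        - (p : MvPolynomial (Fin n) (FrobAlg.W2 p k)) * ∑ j, MvPolynomial.pderiv j (f' i) ^ p * h j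
        ∈ Ideal.span {(p : MvPolynomial (Fin n) (FrobAlg.W2 p k))} * Ideal.span (Set.range f') := by
  classical
  have hp := (Fact.out : p.Prime)
  let π := MvPolynomial.map (σ := Fin n) (FrobAlg.res p k)
  have hppR : (p : (MvPolynomial (Fin n) (FrobAlg.W2 p k))) * p = 0 := by
    have h0 := congrArg (algebraMap (FrobAlg.W2 p k) (MvPolynomial (Fin n) (FrobAlg.W2 p k))) (W2Lift.p_mul_p p k)
    simpa using h0
  have hker : RingHom.ker π = Ideal.span {(p : (MvPolynomial (Fin n) (FrobAlg.W2 p k)))} := by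
    rw [MvPolynomial.ker_map, W2Lift.ker_res, Ideal.map_span, Set.image_singleton, map_natCast]
  have hπsurj : Function.Surjective π := MvPolynomial.map_surjective _ (W2Lift.res_surjective p k)
  have hmemp : ∀ {a b : (MvPolynomial (Fin n) (FrobAlg.W2 p k))}, π a = π b → (p : (MvPolynomial (Fin n) (FrobAlg.W2 p k))) ∣ a - b := fun {a b} h => by
    rw [← Ideal.mem_span_singleton, ← hker, RingHom.mem_ker, map_sub, h, sub_self]
  have hresσ : ∀ x : FrobAlg.W2 p k, FrobAlg.res p k (FrobAlg.sigma p k x) = FrobAlg.res p k x ^ p := fun x => by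
    show FrobAlg.res p k (WittGrp.frobFun p 2 x) = _
    obtain ⟨X, rfl⟩ := WittVector.truncate_surjective p 2 k x
    simp [WittGrp.frobFun_truncate, WittVector.coeff_frobenius_charP, WittVector.coeff_truncate]
  -- the lifts of Frobenius of the polynomial ring
  let Ψ : (Fin n → (MvPolynomial (Fin n) (FrobAlg.W2 p k))) → ((MvPolynomial (Fin n) (FrobAlg.W2 p k)) →+* (MvPolynomial (Fin n) (FrobAlg.W2 p k))) := fun g =>
    MvPolynomial.eval₂Hom (MvPolynomial.C.comp (FrobAlg.sigma p k)) fun j => MvPolynomial.X j ^ p + (p : (MvPolynomial (Fin n) (FrobAlg.W2 p k))) * g j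
  let F := FrobAlg.polyFrob p k (Fin n)
  haveI : ExpChar k p := ExpChar.prime hp
  have hred : ∀ g a, π (Ψ g a) = π a ^ p := by
    intro g a
    have : π.comp (Ψ g) = (frobenius (MvPolynomial (Fin n) k) p).comp π := by
      refine MvPolynomial.ringHom_ext (fun c => ?_) fun j => ?_
      · simp [Ψ, π, frobenius_def, hresσ]
      · simp [Ψ, π, frobenius_def, W2Lift.res_p, CharP.cast_eq_zero]
    exact RingHom.congr_fun this a
  have hF : ∀ a, π (F a) = π a ^ p := fun a => by
    have : F = Ψ 0 := MvPolynomial.ringHom_ext (fun c => by simp [F, Ψ, FrobAlg.polyFrob]) fun j => by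
      simp [F, Ψ, FrobAlg.polyFrob]
    rw [this, hred]
  have hpmul : ∀ a b : (MvPolynomial (Fin n) (FrobAlg.W2 p k)), π a = π b → (p : (MvPolynomial (Fin n) (FrobAlg.W2 p k))) * a = (p : (MvPolynomial (Fin n) (FrobAlg.W2 p k))) * b := fun a b h => by
    obtain ⟨c, hc⟩ := hmemp h
    rw [← sub_eq_zero, ← mul_sub, hc, ← mul_assoc, hppR, zero_mul]
  have taylor : ∀ g a, Ψ g a = F a + (p : (MvPolynomial (Fin n) (FrobAlg.W2 p k))) * ∑ j, F (MvPolynomial.pderiv j a) * g j := by
    intro g a
    induction a using MvPolynomial.induction_on with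
    | C c => simp [Ψ, F, FrobAlg.polyFrob]
    | add a b ha hb =>
      rw [map_add, ha, hb, map_add]
      simp only [map_add, add_mul, Finset.sum_add_distrib]
      ring
    | mul_X a i ha =>
      have h1 : Ψ g (MvPolynomial.X i) = F (MvPolynomial.X i) + (p : (MvPolynomial (Fin n) (FrobAlg.W2 p k))) * g i := by
        simp [Ψ, F, FrobAlg.polyFrob]
      have h2 : ∑ j, F (MvPolynomial.pderiv j (a * MvPolynomial.X i)) * g j =
          (∑ j, F (MvPolynomial.pderiv j a) * g j) * F (MvPolynomial.X i) + F a * g i := by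
        simp only [MvPolynomial.pderiv_mul, MvPolynomial.pderiv_X, Pi.single_apply, map_add, map_mul, add_mul,
          Finset.sum_add_distrib, Finset.sum_mul, apply_ite F, map_one, map_zero, mul_ite, mul_one, mul_zero,
          ite_mul, zero_mul, Finset.sum_ite_eq, Finset.mem_univ, if_true]
        congr 1
        exact Finset.sum_congr rfl fun j _ => by ring
      rw [map_mul, ha, h1, h2, map_mul]
      linear_combination (∑ j, F (MvPolynomial.pderiv j a) * g j) * g i * hppR
  have hΨ : ∀ g a, Ψ g a = F a + (p : (MvPolynomial (Fin n) (FrobAlg.W2 p k))) * ∑ j, MvPolynomial.pderiv j a ^ p * g j := fun g a => by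
    rw [taylor, Finset.mul_sum, Finset.mul_sum]
    refine congrArg _ (Finset.sum_congr rfl fun j _ => ?_)
    rw [← mul_assoc, hpmul (F (MvPolynomial.pderiv j a)) (MvPolynomial.pderiv j a ^ p) (by rw [hF, map_pow]),
      mul_assoc]
  haveI : Module.Flat (FrobAlg.W2 p k) ((MvPolynomial (Fin n) (FrobAlg.W2 p k)) ⧸ (Ideal.span (Set.range f'))) := RingHom.flat_algebraMap_iff.mp hflat
  have hmemJ : ∀ i, f' i ∈ Ideal.span (Set.range f') := fun i => Ideal.subset_span (Set.mem_range_self i)
  have hinf := (Groth.Agent.S13137.result p k (MvPolynomial (Fin n) (FrobAlg.W2 p k)) (Ideal.span (Set.range f'))).mp inferInstance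
  constructor
  · rintro ⟨Φ, hsemi, hΦ⟩
    have key : ∀ j, ∃ g : (MvPolynomial (Fin n) (FrobAlg.W2 p k)), Φ (Ideal.Quotient.mk (Ideal.span (Set.range f')) (MvPolynomial.X j)) =
        Ideal.Quotient.mk (Ideal.span (Set.range f')) (MvPolynomial.X j ^ p + (p : (MvPolynomial (Fin n) (FrobAlg.W2 p k))) * g) := by
      intro j
      obtain ⟨y, hy⟩ := Ideal.Quotient.mk_surjective (Φ (Ideal.Quotient.mk (Ideal.span (Set.range f')) (MvPolynomial.X j)))
      have h := hΦ (Ideal.Quotient.mk (Ideal.span (Set.range f')) (MvPolynomial.X j))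
      rw [← hy, Ideal.quotientMap_mk, Ideal.quotientMap_mk, ← map_pow, Ideal.Quotient.eq, ← map_pow, ← map_sub,
        Ideal.mem_map_iff_of_surjective π hπsurj] at h
      obtain ⟨z, hz, hzπ⟩ := h
      obtain ⟨g, hg⟩ := hmemp hzπ.symm
      refine ⟨g, ?_⟩
      rw [← hy, Ideal.Quotient.eq]
      have : y - (MvPolynomial.X j ^ p + (p : (MvPolynomial (Fin n) (FrobAlg.W2 p k))) * g) = z := by linear_combination hg
      rw [this]; exact hz
    choose g hg using key
    have hcomm : Φ.comp (Ideal.Quotient.mk (Ideal.span (Set.range f'))) = (Ideal.Quotient.mk (Ideal.span (Set.range f'))).comp (Ψ g) := by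
      refine MvPolynomial.ringHom_ext (fun c => ?_) fun j => ?_
      · have := RingHom.congr_fun hsemi c
        simpa [Ψ] using this
      · simp only [RingHom.comp_apply, hg, Ψ, MvPolynomial.eval₂Hom_X']
    refine ⟨fun j => -g j, fun i => ?_⟩
    rw [← hinf]
    refine ⟨?_, ?_⟩
    · rw [SetLike.mem_coe, ← hker, RingHom.mem_ker]
      simp only [map_sub, map_mul, map_pow, map_natCast, CharP.cast_eq_zero, zero_mul, sub_zero]
      exact sub_eq_zero.mpr (hF _)
    · have h1 : Ψ g (f' i) ∈ (Ideal.span (Set.range f')) := by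
        rw [← Ideal.Quotient.eq_zero_iff_mem, ← RingHom.comp_apply, ← hcomm, RingHom.comp_apply,
          Ideal.Quotient.eq_zero_iff_mem.mpr (hmemJ i), map_zero]
      have h2 : f' i ^ p ∈ (Ideal.span (Set.range f')) := Ideal.pow_mem_of_mem _ (hmemJ i) _ hp.pos
      have : F (f' i) - f' i ^ p - (p : (MvPolynomial (Fin n) (FrobAlg.W2 p k))) * ∑ j, MvPolynomial.pderiv j (f' i) ^ p * -g j =
          Ψ g (f' i) - f' i ^ p := by
        rw [hΨ]; simp only [mul_neg, Finset.sum_neg_distrib]; ring
      exact this ▸ (Ideal.span (Set.range f')).sub_mem h1 h2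
  · rintro ⟨h, hh⟩
    have hJ : (Ideal.span (Set.range f')) ≤ (Ideal.span (Set.range f')).comap (Ψ fun j => -h j) := by
      rw [Ideal.span_le]
      rintro _ ⟨i, rfl⟩
      show Ψ _ (f' i) ∈ (Ideal.span (Set.range f'))
      have h2 : f' i ^ p ∈ (Ideal.span (Set.range f')) := Ideal.pow_mem_of_mem _ (hmemJ i) _ hp.pos
      have : Ψ (fun j => -h j) (f' i) =
          (F (f' i) - f' i ^ p - (p : (MvPolynomial (Fin n) (FrobAlg.W2 p k))) * ∑ j, MvPolynomial.pderiv j (f' i) ^ p * h j) + f' i ^ p := by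
        rw [hΨ]; simp only [mul_neg, Finset.sum_neg_distrib]; ring
      rw [this]
      refine Ideal.add_mem _ ?_ h2
      exact (Ideal.mul_le_right (I := Ideal.span {(p : MvPolynomial (Fin n) (FrobAlg.W2 p k))}) (J := Ideal.span (Set.range f'))) (hh i)
    refine ⟨Ideal.quotientMap (Ideal.span (Set.range f')) (Ψ fun j => -h j) hJ, ?_, fun b => ?_⟩
    · refine RingHom.ext fun c => ?_
      simp [Ψ, Ideal.quotientMap_mk]
    · obtain ⟨a, rfl⟩ := Ideal.Quotient.mk_surjective b
      rw [Ideal.quotientMap_mk, Ideal.quotientMap_mk, Ideal.quotientMap_mk, hred, map_pow]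

end Groth.Agent.S13138
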