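import Groth.Statements.S13139
import Groth.Agent.W2Lift.CILift
import Groth.Agent.S13138

set_option autoImplicit false
universe u
open scoped BigOperators
open FrobAlg

namespace Groth.Agent.S13139

/-- Let k be a perfect field of characteristic p and f_1, …, f_m a regular sequence in R = k[x_1, …,
x_n]. The complete intersection A = R/(f_1, …, f_m) lifts to W₂(k) compatibly with Frobenius if and
only if for some lifts f'_1, …, f'_m ∈ R' = W₂(k)[x_1, …, x_n] of the f_i and some h_1, …, h_n ∈ R'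
one has F'(f'_i) − f'_i^p − p·Σ_j (∂f'_i/∂x_j)^p h_j ∈ p·(f'_1, …, f'_m) for every i, F' being the
standard Frobenius lift of R'. In terms of Frobenius residues P(f') = (F'(f') − f'^p)/p ∈ R, which
change by g^p when f' changes by pg, this is the congruence P_{f_i} + g_i^p ≡ Σ_j (∂f_i/∂x_j)^p h_j
modulo (f_1, …, f_m) for some g_i, h_j. -/
theorem result
    (p : ℕ) [Fact p.Prime] (k : Type u) [Field k] [CharP k p] [PerfectRing k p]
    {n m : ℕ} (f : Fin m → MvPolynomial (Fin n) k)
    (hreg : RingTheory.Sequence.IsRegular (MvPolynomial (Fin n) k) (List.ofFn f)) :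
    FrobAlg.IsFLiftable p k (MvPolynomial (Fin n) k ⧸ Ideal.span (Set.range f)) ↔
    ∃ (f' : Fin m → MvPolynomial (Fin n) (FrobAlg.W2 p k)) (h : Fin n → MvPolynomial (Fin n) (FrobAlg.W2 p k)),
      (∀ i, MvPolynomial.map (FrobAlg.res p k) (f' i) = f i) ∧
      ∀ i, FrobAlg.polyFrob p k (Fin n) (f' i) - f' i ^ p
        - (p : MvPolynomial (Fin n) (FrobAlg.W2 p k)) * ∑ j, MvPolynomial.pderiv j (f' i) ^ p * h j
        ∈ Ideal.span {(p : MvPolynomial (Fin n) (FrobAlg.W2 p k))} * Ideal.span (Set.range f') := by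
  classical
  let q := Ideal.Quotient.mkₐ k (Ideal.span (Set.range f))
  have hmapJ : ∀ f' : Fin m → MvPolynomial (Fin n) (FrobAlg.W2 p k),
      (∀ i, MvPolynomial.map (FrobAlg.res p k) (f' i) = f i) →
      (Ideal.span (Set.range f')).map (MvPolynomial.map (FrobAlg.res p k)) = Ideal.span (Set.range f) := by
    intro f' hf'
    rw [Ideal.map_span, ← Set.range_comp]
    exact congrArg _ (congrArg _ (funext hf'))
  have hflat : ∀ f' : Fin m → MvPolynomial (Fin n) (FrobAlg.W2 p k),
      (∀ i, MvPolynomial.map (FrobAlg.res p k) (f' i) = f i) →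
      ((Ideal.Quotient.mk (Ideal.span (Set.range f'))).comp
        (MvPolynomial.C : FrobAlg.W2 p k →+* MvPolynomial (Fin n) (FrobAlg.W2 p k))).Flat := by
    intro f' hf'
    have hw : RingTheory.Sequence.IsWeaklyRegular (MvPolynomial (Fin n) k)
        (List.ofFn fun i => MvPolynomial.map (FrobAlg.res p k) (f' i)) := by
      simp only [hf']; exact hreg.toIsWeaklyRegular
    exact RingHom.flat_algebraMap_iff.mpr
      (Groth.Agent.W2Lift.CILift.flat_of_good p _ (Groth.Agent.W2Lift.CILift.good_of_isWeaklyRegular p f' hw))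
  constructor
  · rintro ⟨B, _, ι, ρ, Φ, hB⟩
    obtain ⟨φ, f', hφC, hρ, hf', hsurj, hker⟩ := Groth.Agent.W2Lift.CILift.exists_presentation p hB.toIsLift f q
      Ideal.Quotient.mk_surjective (Ideal.mk_ker)
    let e := (Ideal.quotEquivOfEq hker.symm).trans (RingHom.quotientKerEquivOfSurjective hsurj)
    have he : ∀ a, e (Ideal.Quotient.mk _ a) = φ a := fun a => rfl
    obtain ⟨h, hh⟩ := (Groth.Agent.S13138.result p k f' (hflat f' hf')).mp
      ⟨(e.symm.toRingHom.comp Φ).comp e.toRingHom, RingHom.ext fun c => by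
        have h1 : Φ (φ (MvPolynomial.C c)) = φ (MvPolynomial.C (FrobAlg.sigma p k c)) := by
          have := RingHom.congr_fun hB.semi c
          rw [← hφC] at this
          exact this
        refine e.injective ?_
        simp only [RingHom.comp_apply, RingEquiv.toRingHom_eq_coe, RingEquiv.coe_toRingHom,
          RingEquiv.apply_symm_apply, he, h1], fun b => by
        obtain ⟨a, rfl⟩ := Ideal.Quotient.mk_surjective b
        obtain ⟨a2, ha2⟩ := hsurj (Φ (φ a))
        have h1 : ((e.symm.toRingHom.comp Φ).comp e.toRingHom) (Ideal.Quotient.mk _ a) =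
            Ideal.Quotient.mk _ a2 := e.injective (by
          simp only [RingHom.comp_apply, RingEquiv.toRingHom_eq_coe, RingEquiv.coe_toRingHom,
            RingEquiv.apply_symm_apply, he, ha2])
        have h2 : q (MvPolynomial.map (FrobAlg.res p k) a2) = q (MvPolynomial.map (FrobAlg.res p k) a ^ p) := by
          rw [map_pow, ← hρ, ← hρ, ha2, hB.red]
        rw [h1, Ideal.quotientMap_mk, Ideal.quotientMap_mk, ← map_pow, Ideal.Quotient.eq, hmapJ f' hf']
        exact Ideal.Quotient.eq.mp h2⟩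
    exact ⟨f', h, hf', hh⟩
  · rintro ⟨f', h, hf', hh⟩
    obtain ⟨Φ, hsemi, hΦ⟩ := (Groth.Agent.S13138.result p k f' (hflat f' hf')).mpr ⟨h, hh⟩
    let π := MvPolynomial.map (σ := Fin n) (FrobAlg.res p k)
    let ρ : MvPolynomial (Fin n) (FrobAlg.W2 p k) ⧸ Ideal.span (Set.range f') →+*
        MvPolynomial (Fin n) k ⧸ Ideal.span (Set.range f) :=
      Ideal.quotientMap _ π (Ideal.map_le_iff_le_comap.mp (hmapJ f' hf').le)
    refine ⟨_, inferInstance, (Ideal.Quotient.mk (Ideal.span (Set.range f'))).comp MvPolynomial.C, ρ, Φ,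
      ⟨⟨hflat f' hf', fun a => ?_, ?_, RingHom.ext fun c => ?_⟩, hsemi, fun b => ?_⟩⟩
    · obtain ⟨a, rfl⟩ := Ideal.Quotient.mk_surjective a
      obtain ⟨a', rfl⟩ := Groth.Agent.W2Lift.CILift.π_surjective p a
      exact ⟨Ideal.Quotient.mk _ a', Ideal.quotientMap_mk⟩
    · rw [Groth.Agent.W2Lift.ker_res, Ideal.map_span, Set.image_singleton]
      refine le_antisymm (fun b hb => ?_) (Ideal.span_le.mpr (Set.singleton_subset_iff.mpr ?_))
      · obtain ⟨a, rfl⟩ := Ideal.Quotient.mk_surjective b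
        rw [RingHom.mem_ker, Ideal.quotientMap_mk, Ideal.Quotient.eq_zero_iff_mem, ← hmapJ f' hf'] at hb
        obtain ⟨j, hj, hja⟩ := (Ideal.mem_map_iff_of_surjective π (Groth.Agent.W2Lift.CILift.π_surjective p)).mp hb
        obtain ⟨r, hr⟩ := Groth.Agent.W2Lift.CILift.dvd_of_π p hja.symm
        refine Ideal.mem_span_singleton.mpr ⟨Ideal.Quotient.mk _ r, ?_⟩
        rw [RingHom.comp_apply, map_natCast (MvPolynomial.C), ← map_mul, ← hr, Ideal.Quotient.eq, sub_sub_cancel]
        exact hj
      · rw [SetLike.mem_coe, RingHom.mem_ker, map_natCast, map_natCast, ← map_natCast (algebraMap k _), CharP.cast_eq_zero, map_zero]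
    · simp only [RingHom.comp_apply, ρ, π, Ideal.quotientMap_mk, MvPolynomial.map_C]
      rfl
    · obtain ⟨a, rfl⟩ := Ideal.Quotient.mk_surjective b
      obtain ⟨a2, ha2⟩ := Ideal.Quotient.mk_surjective (Φ (Ideal.Quotient.mk _ a))
      have h1 := hΦ (Ideal.Quotient.mk _ a)
      rw [← ha2, Ideal.quotientMap_mk, Ideal.quotientMap_mk, ← map_pow, Ideal.Quotient.eq, hmapJ f' hf'] at h1
      rw [← ha2, Ideal.quotientMap_mk, Ideal.quotientMap_mk, ← map_pow]
      exact Ideal.Quotient.eq.mpr h1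

end Groth.Agent.S13139
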