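import Groth.Statements.S13140
import Mathlib

set_option autoImplicit false
universe u v w
open GrpAlg

namespace Groth.Agent.S13140

/-- Let G be a finite group, R a commutative ring in which |G| is a unit, and M a module over the group
algebra R[G] whose underlying R-module is projective. Then M is a projective R[G]-module. -/
theorem result
    (R : Type u) [CommRing R] (G : Type v) [Group G] [Finite G] (hG : IsUnit ((Nat.card G : ℕ) : R))
    (M : Type w) [AddCommGroup M] [Module R M] [Module (MonoidAlgebra R G) M]
    [IsScalarTower R (MonoidAlgebra R G) M] [Module.Projective R M] :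
    Module.Projective (MonoidAlgebra R G) M := by
  classical
  have := Fintype.ofFinite G
  let p : (M →₀ MonoidAlgebra R G) →ₗ[MonoidAlgebra R G] M := Finsupp.linearCombination (MonoidAlgebra R G) id
  obtain ⟨s, hs⟩ := Module.projective_lifting_property (p.restrictScalars R) (LinearMap.id : M →ₗ[R] M)
    (fun m => ⟨Finsupp.single m 1, by simp [p]⟩)
  refine Module.Projective.of_split (s.equivariantProjection G) p (LinearMap.ext fun v => ?_)
  have hs' : ∀ w, p (s w) = w := fun w => LinearMap.congr_fun hs w
  simp only [LinearMap.comp_apply, LinearMap.id_apply, LinearMap.equivariantProjection_apply,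
    LinearMap.map_smul_of_tower, map_sum, LinearMap.conjugate_apply, map_smul, hs', smul_smul,
    MonoidAlgebra.single_mul_single, inv_mul_cancel, mul_one, ← MonoidAlgebra.one_def, one_smul,
    Finset.sum_const, Finset.card_univ]
  rw [← Nat.cast_smul_eq_nsmul R, smul_smul, ← Nat.card_eq_fintype_card, Ring.inverse_mul_cancel _ hG, one_smul]

end Groth.Agent.S13140
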