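import Groth.Statements.S13141
import Mathlib

set_option autoImplicit false
universe u v w w'
open scoped TensorProduct
open GrpAlg

namespace Groth.Agent.S13141

/-- Let G be a finite group, R a commutative ring with |G| invertible in R, M a projective R-module with
an R-linear G-action and S an R-algebra. The natural map M^G ⊗_R S → M ⊗_R S is injective and its
image is the submodule of G-invariants of M ⊗_R S (G acting on the first factor); that is, M^G ⊗_R S
→ (M ⊗_R S)^G is bijective. -/
theorem result
    (R : Type u) [CommRing R] (G : Type v) [Group G] [Finite G] (hG : IsUnit ((Nat.card G : ℕ) : R))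
    (M : Type w) [AddCommGroup M] [Module R M] [Module.Projective R M] (ρ : Representation R G M)
    (S : Type w') [CommRing S] [Algebra R S] :
    Function.Injective (TensorProduct.map ρ.invariants.subtype (LinearMap.id : S →ₗ[R] S)) ∧
    LinearMap.range (TensorProduct.map ρ.invariants.subtype (LinearMap.id : S →ₗ[R] S)) =
      ⨅ g : G, LinearMap.eqLocus (LinearMap.rTensor S (ρ g)) LinearMap.id := by
  classical
  have := Fintype.ofFinite G
  have hG' : IsUnit ((Fintype.card G : ℕ) : R) := by rwa [← Nat.card_eq_fintype_card]
  let _ := hG'.invertible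
  let q : M →ₗ[R] ρ.invariants := ρ.averageMap.codRestrict _ ρ.averageMap_invariant
  have hq : q ∘ₗ ρ.invariants.subtype = LinearMap.id :=
    LinearMap.ext fun v => Subtype.ext (ρ.averageMap_id v v.2)
  have hinj : Function.LeftInverse (TensorProduct.map q (LinearMap.id : S →ₗ[R] S))
      (TensorProduct.map ρ.invariants.subtype (LinearMap.id : S →ₗ[R] S)) := fun t => by
    rw [← LinearMap.comp_apply, ← TensorProduct.map_comp, hq]
    simp
  refine ⟨hinj.injective, le_antisymm ?_ fun t ht => ⟨TensorProduct.map q LinearMap.id t, ?_⟩⟩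
  · rintro _ ⟨t, rfl⟩
    rw [Submodule.mem_iInf]
    intro g
    show (LinearMap.rTensor S (ρ g) ∘ₗ TensorProduct.map ρ.invariants.subtype (LinearMap.id : S →ₗ[R] S)) t = _
    rw [LinearMap.rTensor, ← TensorProduct.map_comp,
      show ρ g ∘ₗ ρ.invariants.subtype = ρ.invariants.subtype from LinearMap.ext fun v => v.2 g]
    rfl
  · have havg : ρ.averageMap = ⅟(Fintype.card G : R) • ∑ g : G, ρ g := by
      simp [Representation.averageMap, GroupAlgebra.average, map_sum]
    rw [Submodule.mem_iInf] at ht
    show (TensorProduct.map ρ.invariants.subtype (LinearMap.id : S →ₗ[R] S) ∘ₗ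
      TensorProduct.map q LinearMap.id) t = t
    rw [← TensorProduct.map_comp, show ρ.invariants.subtype ∘ₗ q = ρ.averageMap from rfl, LinearMap.id_comp]
    show LinearMap.rTensor S ρ.averageMap t = t
    rw [havg, LinearMap.rTensor_smul, LinearMap.smul_apply]
    have : LinearMap.rTensor S (∑ g : G, ρ g) t = ∑ g : G, LinearMap.rTensor S (ρ g) t := by
      rw [← LinearMap.coe_rTensorHom, map_sum, LinearMap.sum_apply]
    rw [this, Finset.sum_congr rfl fun g _ => (ht g : LinearMap.rTensor S (ρ g) t = LinearMap.id t)]
    simp [Finset.card_univ, ← Nat.cast_smul_eq_nsmul R, smul_smul]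

end Groth.Agent.S13141
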