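import Groth.Statements.S13149
import Mathlib

set_option autoImplicit false
universe u
open CAlg

namespace Groth.Agent.S13149

open Matrix IsLocalRing

variable {A : Type u} [CommRing A] [IsLocalRing A]

theorem unit_of_mulVec {B : Matrix (Fin 3) (Fin 3) A} {w : Fin 3 → A} (h : ∃ i, IsUnit ((B *ᵥ w) i)) :
    ∃ i, IsUnit (w i) := by
  by_contra hc
  push_neg at hc
  obtain ⟨i, hi⟩ := h
  have : (B *ᵥ w) i ∈ maximalIdeal A := by
    simp only [Matrix.mulVec, dotProduct]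
    exact Ideal.sum_mem _ fun j _ => Ideal.mul_mem_left _ _ (hc j)
  exact this hi

theorem exists_isUnit_of_vec (w : Fin 3 → A) (h : ∃ i, IsUnit (w i)) (hb : ∀ i, i ≠ 2 → ∃ c, w i = c * w 2) :
    IsUnit (w 2) := by
  by_contra hc
  obtain ⟨i, hi⟩ := h
  by_cases h2 : i = 2
  · exact hc (h2 ▸ hi)
  · obtain ⟨c, hc'⟩ := hb i h2
    rw [hc', IsUnit.mul_iff] at hi
    exact hc hi.2

variable {p : ℕ} [Fact p.Prime] (σ : (Fin 3 → ZMod p) → (Fin 3 → A))
  (hpt : ∀ v : Fin 3 → ZMod p, v ≠ 0 → ∃ i, IsUnit (σ v i))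
  (hcol : ∀ u v w : Fin 3 → ZMod p, u ≠ 0 → v ≠ 0 → w ≠ 0 →
    Matrix.det (Matrix.of ![u, v, w]) = 0 →
    ∃ n : Fin 3 → A, (∃ i, IsUnit (n i)) ∧ dotProduct (σ u) n = 0 ∧ dotProduct (σ v) n = 0 ∧ dotProduct (σ w) n = 0)

include hpt hcol in
theorem line (u v w : Fin 3 → ZMod p) (a b : Fin 3 → A) (zu zv : Aˣ) (l : Fin 3 → A)
    (hu : σ u = (zu : A) • a) (hv : σ v = (zv : A) • b) (hu0 : u ≠ 0) (hv0 : v ≠ 0) (hw0 : w ≠ 0)
    (hdet : Matrix.det (Matrix.of ![u, v, w]) = 0)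
    (hl : ∀ n : Fin 3 → A, dotProduct a n = 0 → dotProduct b n = 0 → ∃ c : A, n = c • l) :
    dotProduct (σ w) l = 0 := by
  obtain ⟨n, ⟨i, hi⟩, h1, h2, h3⟩ := hcol u v w hu0 hv0 hw0 hdet
  rw [hu, smul_dotProduct, smul_eq_mul, Units.mul_right_eq_zero] at h1
  rw [hv, smul_dotProduct, smul_eq_mul, Units.mul_right_eq_zero] at h2
  obtain ⟨c, rfl⟩ := hl n h1 h2
  have hcu : IsUnit c := (IsUnit.mul_iff.1 (by simpa using hi)).1
  rw [dotProduct_smul, smul_eq_mul] at h3
  exact (hcu.mul_right_eq_zero).1 h3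

/-- `σ v` is the point `a`. -/
def Pt (v : Fin 3 → ZMod p) (a : Fin 3 → A) : Prop := ∃ z : Aˣ, σ v = (z : A) • a

include hpt hcol in
theorem pt_of_lines (w : Fin 3 → ZMod p) (hw0 : w ≠ 0) (x y : A)
    (hx : σ w 0 = x * σ w 2) (hy : σ w 1 = y * σ w 2) : Pt σ w ![x, y, 1] := by
  have hu := exists_isUnit_of_vec (σ w) (hpt w hw0) fun i hi => by
    fin_cases i
    · exact ⟨x, hx⟩
    · exact ⟨y, hy⟩
    · exact absurd rfl hi
  refine ⟨hu.unit, funext fun i => ?_⟩
  fin_cases i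
  · simpa [mul_comm] using hx
  · simpa [mul_comm] using hy
  · simp

include hpt hcol in
theorem normalised (h0 : σ (Pi.single 0 1) = Pi.single 0 1) (h1 : σ (Pi.single 1 1) = Pi.single 1 1)
    (h2 : σ (Pi.single 2 1) = Pi.single 2 1) (hU : σ (fun _ => 1) = fun _ => 1) : (p : A) = 0 := by
  have e0 : (Pi.single 0 1 : Fin 3 → ZMod p) = ![1, 0, 0] := by ext i; fin_cases i <;> simp
  have e1 : (Pi.single 1 1 : Fin 3 → ZMod p) = ![0, 1, 0] := by ext i; fin_cases i <;> simp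
  have e2 : (Pi.single 2 1 : Fin 3 → ZMod p) = ![0, 0, 1] := by ext i; fin_cases i <;> simp
  have eU : (fun _ => 1 : Fin 3 → ZMod p) = ![1, 1, 1] := by ext i; fin_cases i <;> simp
  have P0 : Pt σ ![1, 0, 0] ![1, 0, 0] := ⟨1, by rw [← e0, h0]; ext i; fin_cases i <;> simp⟩
  have P1 : Pt σ ![0, 1, 0] ![0, 1, 0] := ⟨1, by rw [← e1, h1]; ext i; fin_cases i <;> simp⟩
  have P2 : Pt σ ![0, 0, 1] ![0, 0, 1] := ⟨1, by rw [← e2, h2]; ext i; fin_cases i <;> simp⟩
  have PU : Pt σ ![1, 1, 1] ![1, 1, 1] := ⟨1, by rw [← eU, hU]; ext i; fin_cases i <;> simp⟩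
  have nz : ∀ x y : ZMod p, (![x, y, 1] : Fin 3 → ZMod p) ≠ 0 := fun x y h => by simpa using congrFun h 2
  have nz0 : (![1, 0, 0] : Fin 3 → ZMod p) ≠ 0 := fun h => by simpa using congrFun h 0
  have nz1 : (![0, 1, 0] : Fin 3 → ZMod p) ≠ 0 := fun h => by simpa using congrFun h 1
  have nzD : (![1, 1, 0] : Fin 3 → ZMod p) ≠ 0 := fun h => by simpa using congrFun h 0
  -- a point `w` on the line through `(x, y, 1)` and the direction `(d₀, d₁, 0)`
  have vert : ∀ (s t : ZMod p) (x y : A), Pt σ ![s, t, 1] ![x, y, 1] → ∀ w, w ≠ 0 →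
      Matrix.det (Matrix.of ![![s, t, 1], ![0, 1, 0], w]) = 0 → σ w 0 = x * σ w 2 := by
    rintro s t x y ⟨z, hz⟩ w hw hd
    obtain ⟨z1, hz1⟩ := P1
    have := line σ hpt hcol _ _ w _ _ z z1 ![1, 0, -x] hz hz1 (nz _ _) nz1 hw hd fun n ha hb => by
      simp [dotProduct, Fin.sum_univ_three] at ha hb
      refine ⟨n 0, funext fun i => ?_⟩
      fin_cases i
      · simp
      · simpa using hb
      · simp only [Fin.reduceFinMk, Pi.smul_apply, smul_eq_mul]; simp; linear_combination ha - y * hb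
    simp [dotProduct, Fin.sum_univ_three] at this
    linear_combination this
  have hori : ∀ (s t : ZMod p) (x y : A), Pt σ ![s, t, 1] ![x, y, 1] → ∀ w, w ≠ 0 →
      Matrix.det (Matrix.of ![![s, t, 1], ![1, 0, 0], w]) = 0 → σ w 1 = y * σ w 2 := by
    rintro s t x y ⟨z, hz⟩ w hw hd
    obtain ⟨z1, hz1⟩ := P0
    have := line σ hpt hcol _ _ w _ _ z z1 ![0, 1, -y] hz hz1 (nz _ _) nz0 hw hd fun n ha hb => by
      simp [dotProduct, Fin.sum_univ_three] at ha hb
      refine ⟨n 1, funext fun i => ?_⟩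
      fin_cases i
      · simpa using hb
      · simp
      · simp only [Fin.reduceFinMk, Pi.smul_apply, smul_eq_mul]; simp; linear_combination ha - x * hb
    simp [dotProduct, Fin.sum_univ_three] at this
    linear_combination this
  -- the diagonal direction
  obtain ⟨zD, hD⟩ : Pt σ ![1, 1, 0] ![1, 1, 0] := by
    have ha : σ ![1, 1, 0] 0 - σ ![1, 1, 0] 1 = 0 := by
      obtain ⟨z, hz⟩ := P2
      obtain ⟨z1, hz1⟩ := PU
      have := line σ hpt hcol _ _ ![1, 1, 0] _ _ z z1 ![1, -1, 0] hz hz1 (nz _ _) (nz _ _) nzD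
        (by simp [Matrix.det_fin_three]) fun n ha hb => by
          simp [dotProduct, Fin.sum_univ_three] at ha hb
          refine ⟨n 0, funext fun i => ?_⟩
          fin_cases i
          · simp
          · simp; linear_combination hb - ha
          · simpa using ha
      simp [dotProduct, Fin.sum_univ_three] at this
      linear_combination this
    have hb : σ ![1, 1, 0] 2 = 0 := by
      obtain ⟨z, hz⟩ := P0
      obtain ⟨z1, hz1⟩ := P1
      have := line σ hpt hcol _ _ ![1, 1, 0] _ _ z z1 ![0, 0, 1] hz hz1 nz0 nz1 nzD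
        (by simp [Matrix.det_fin_three]) fun n ha hb => by
          simp [dotProduct, Fin.sum_univ_three] at ha hb
          refine ⟨n 2, funext fun i => ?_⟩
          fin_cases i <;> simp [ha, hb]
      simpa [dotProduct, Fin.sum_univ_three] using this
    rw [sub_eq_zero] at ha
    obtain ⟨i, hi⟩ := hpt _ nzD
    have hu : IsUnit (σ ![1, 1, 0] 1) := by
      fin_cases i
      · exact ha ▸ hi
      · exact hi
      · exact absurd hi (hb.symm ▸ not_isUnit_zero)
    refine ⟨hu.unit, funext fun i => ?_⟩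
    fin_cases i <;> simp [ha, hb]
  -- points on the axis
  have hn : ∀ n : ℕ, Pt σ ![(n : ZMod p), 0, 1] ![(n : A), 0, 1] := by
    intro n
    induction n with
    | zero => simpa using P2
    | succ n ih =>
      have h01 : Pt σ ![0, 1, 1] ![0, 1, 1] :=
        pt_of_lines σ hpt hcol _ (nz _ _) _ _ (vert 0 0 0 0 P2 _ (nz _ _) (by simp [Matrix.det_fin_three]))
          (hori 1 1 1 1 PU _ (nz _ _) (by simp [Matrix.det_fin_three]))
      have hy := hori 0 1 0 1 h01 ![(n : ZMod p) + 1, 1, 1] (nz _ _) (by simp [Matrix.det_fin_three])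
      obtain ⟨z, hz⟩ := ih
      have hx := line σ hpt hcol _ _ ![(n : ZMod p) + 1, 1, 1] _ _ z zD ![1, -1, -(n : A)] hz hD (nz _ _) nzD (nz _ _)
        (by simp [Matrix.det_fin_three]) fun m ha hb => by
          simp [dotProduct, Fin.sum_univ_three] at ha hb
          refine ⟨m 0, funext fun i => ?_⟩
          fin_cases i
          · simp
          · simp; linear_combination hb
          · simp; linear_combination ha
      simp [dotProduct, Fin.sum_univ_three] at hx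
      have hq : Pt σ ![(n : ZMod p) + 1, 1, 1] ![(n : A) + 1, 1, 1] :=
        pt_of_lines σ hpt hcol _ (nz _ _) _ _ (by linear_combination hx + hy) hy
      push_cast
      exact pt_of_lines σ hpt hcol _ (nz _ _) _ _
        (vert _ _ _ _ hq _ (nz _ _) (by simp [Matrix.det_fin_three]))
        (hori 0 0 0 0 P2 _ (nz _ _) (by simp [Matrix.det_fin_three]))
  obtain ⟨z, hz⟩ := hn p
  obtain ⟨z', hz'⟩ := P2
  rw [ZMod.natCast_self, hz'] at hz
  have := congrFun hz 0
  simpa using this.symm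

/-- Let A be a local ring and ρ a map from the points of the projective plane over F_p to the points of
the projective plane over A (vectors with a unit coordinate, up to units) taking collinear triples
to collinear triples (three points are collinear when a vector with a unit coordinate is orthogonal
to all three). If ρ sends the standard frame (1:0:0), (0:1:0), (0:0:1), (1:1:1) to four points in
general position, then p = 0 in A. (The published statement asks only that ρ preserve collinearity;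
a constant map does so over any ring, and the published argument begins by moving the images of the
standard frame to the standard frame, which needs them in general position — that condition is made
a hypothesis here.) -/
theorem result
    (p : ℕ) [Fact p.Prime] (A : Type u) [CommRing A] [IsLocalRing A]
    (ρ : (Fin 3 → ZMod p) → (Fin 3 → A))
    (hpt : ∀ v : Fin 3 → ZMod p, v ≠ 0 → ∃ i, IsUnit (ρ v i))
    (hcol : ∀ u v w : Fin 3 → ZMod p, u ≠ 0 → v ≠ 0 → w ≠ 0 →
      Matrix.det (Matrix.of ![u, v, w]) = 0 →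
      ∃ n : Fin 3 → A, (∃ i, IsUnit (n i)) ∧
        dotProduct (ρ u) n = 0 ∧ dotProduct (ρ v) n = 0 ∧ dotProduct (ρ w) n = 0)
    (hgen : IsUnit (Matrix.det (Matrix.of ![ρ (Pi.single 0 1), ρ (Pi.single 1 1), ρ (Pi.single 2 1)])) ∧
      IsUnit (Matrix.det (Matrix.of ![ρ (Pi.single 0 1), ρ (Pi.single 1 1), ρ (fun _ => 1)])) ∧
      IsUnit (Matrix.det (Matrix.of ![ρ (Pi.single 0 1), ρ (Pi.single 2 1), ρ (fun _ => 1)])) ∧
      IsUnit (Matrix.det (Matrix.of ![ρ (Pi.single 1 1), ρ (Pi.single 2 1), ρ (fun _ => 1)]))) :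
    (p : A) = 0 := by
  classical
  obtain ⟨h012, h01U, h02U, h12U⟩ := hgen
  let M : Matrix (Fin 3) (Fin 3) A := (Matrix.of ![ρ (Pi.single 0 1), ρ (Pi.single 1 1), ρ (Pi.single 2 1)]).transpose
  have hM : IsUnit M.det := by rw [Matrix.det_transpose]; exact h012
  let c : Fin 3 → A := M⁻¹ *ᵥ ρ (fun _ => 1)
  have hc' : M *ᵥ c = ρ (fun _ => 1) := by
    show M *ᵥ (M⁻¹ *ᵥ _) = _
    rw [Matrix.mulVec_mulVec, Matrix.mul_nonsing_inv M hM, Matrix.one_mulVec]
  have hd : ∀ i, IsUnit (c i) := by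
    have key : ∀ i : Fin 3, ρ (fun _ => 1) i = c 0 * ρ (Pi.single 0 1) i + c 1 * ρ (Pi.single 1 1) i +
        c 2 * ρ (Pi.single 2 1) i := fun i => by
      rw [← hc']
      simp [M, Matrix.mulVec, dotProduct, Fin.sum_univ_three, mul_comm]
    have q := fun (u v w : Fin 3 → ZMod p) => Matrix.det_fin_three (Matrix.of ![ρ u, ρ v, ρ w])
    rw [q] at h012 h01U h02U h12U
    simp only [Matrix.of_apply, Matrix.cons_val_zero, Matrix.cons_val_one, Matrix.cons_val_two, Matrix.head_cons,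
      Matrix.tail_cons, Matrix.cons_val, key] at h012 h01U h02U h12U
    intro i
    fin_cases i
    · exact isUnit_of_mul_isUnit_left (x := c 0) (y := (ρ (Pi.single 0 1) 0 * ρ (Pi.single 1 1) 1 * ρ (Pi.single 2 1) 2 - ρ (Pi.single 0 1) 0 * ρ (Pi.single 1 1) 2 * ρ (Pi.single 2 1) 1 - ρ (Pi.single 0 1) 1 * ρ (Pi.single 1 1) 0 * ρ (Pi.single 2 1) 2 + ρ (Pi.single 0 1) 1 * ρ (Pi.single 1 1) 2 * ρ (Pi.single 2 1) 0 + ρ (Pi.single 0 1) 2 * ρ (Pi.single 1 1) 0 * ρ (Pi.single 2 1) 1 - ρ (Pi.single 0 1) 2 * ρ (Pi.single 1 1) 1 * ρ (Pi.single 2 1) 0)) (by convert h12U using 1; ring)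
    · exact IsUnit.neg_iff (c 1) |>.1 (isUnit_of_mul_isUnit_left (x := -c 1) (y := (ρ (Pi.single 0 1) 0 * ρ (Pi.single 1 1) 1 * ρ (Pi.single 2 1) 2 - ρ (Pi.single 0 1) 0 * ρ (Pi.single 1 1) 2 * ρ (Pi.single 2 1) 1 - ρ (Pi.single 0 1) 1 * ρ (Pi.single 1 1) 0 * ρ (Pi.single 2 1) 2 + ρ (Pi.single 0 1) 1 * ρ (Pi.single 1 1) 2 * ρ (Pi.single 2 1) 0 + ρ (Pi.single 0 1) 2 * ρ (Pi.single 1 1) 0 * ρ (Pi.single 2 1) 1 - ρ (Pi.single 0 1) 2 * ρ (Pi.single 1 1) 1 * ρ (Pi.single 2 1) 0)) (by convert h02U using 1; ring))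
    · exact isUnit_of_mul_isUnit_left (x := c 2) (y := (ρ (Pi.single 0 1) 0 * ρ (Pi.single 1 1) 1 * ρ (Pi.single 2 1) 2 - ρ (Pi.single 0 1) 0 * ρ (Pi.single 1 1) 2 * ρ (Pi.single 2 1) 1 - ρ (Pi.single 0 1) 1 * ρ (Pi.single 1 1) 0 * ρ (Pi.single 2 1) 2 + ρ (Pi.single 0 1) 1 * ρ (Pi.single 1 1) 2 * ρ (Pi.single 2 1) 0 + ρ (Pi.single 0 1) 2 * ρ (Pi.single 1 1) 0 * ρ (Pi.single 2 1) 1 - ρ (Pi.single 0 1) 2 * ρ (Pi.single 1 1) 1 * ρ (Pi.single 2 1) 0)) (by convert h01U using 1; ring)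
  -- normalise
  let N : Matrix (Fin 3) (Fin 3) A := M * Matrix.diagonal c
  have hN : IsUnit N.det := by
    rw [Matrix.det_mul, Matrix.det_diagonal]
    exact hM.mul (by simpa [Fin.prod_univ_three] using ((hd 0).mul (hd 1)).mul (hd 2))
  have hN1 : N * N⁻¹ = 1 := Matrix.mul_nonsing_inv N hN
  have hN2 : N⁻¹ * N = 1 := Matrix.nonsing_inv_mul N hN
  have hfr : ∀ i : Fin 3, N *ᵥ Pi.single i 1 = c i • ρ (Pi.single i 1) := fun i => by
    ext j
    rw [Matrix.mulVec_single_one]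
    fin_cases i <;> simp [N, M, Matrix.mul_diagonal, mul_comm]
  let σ : (Fin 3 → ZMod p) → (Fin 3 → A) := fun v =>
    if v = Pi.single 0 1 then Pi.single 0 1 else if v = Pi.single 1 1 then Pi.single 1 1 else
    if v = Pi.single 2 1 then Pi.single 2 1 else N⁻¹ *ᵥ ρ v
  have hrel : ∀ v, ∃ z : Aˣ, N *ᵥ σ v = (z : A) • ρ v := fun v => by
    simp only [σ]
    split_ifs with a b c'
    · exact ⟨(hd 0).unit, by rw [hfr, a]; rfl⟩
    · exact ⟨(hd 1).unit, by rw [hfr, b]; rfl⟩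
    · exact ⟨(hd 2).unit, by rw [hfr, c']; rfl⟩
    · exact ⟨1, by rw [Matrix.mulVec_mulVec, hN1, Matrix.one_mulVec, Units.val_one, one_smul]⟩
  have hne : ∀ i : Fin 3, (Pi.single i 1 : Fin 3 → ZMod p) ≠ fun _ => 1 := fun i h => by
    have := congrFun h (if i = 0 then 1 else 0)
    fin_cases i <;> simp at this
  have hne2 : ∀ i j : Fin 3, i ≠ j → (Pi.single i 1 : Fin 3 → ZMod p) ≠ Pi.single j 1 := fun i j hij h => by
    have := congrFun h i
    simp [Pi.single_eq_of_ne hij] at this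
  refine normalised σ (fun v hv => unit_of_mulVec (B := N) ?_) (fun u v w hu hv hw h => ?_) ?_ ?_ ?_ ?_
  · obtain ⟨z, hz⟩ := hrel v
    obtain ⟨i, hi⟩ := hpt v hv
    exact ⟨i, by rw [hz]; exact z.isUnit.mul hi⟩
  · obtain ⟨n, hn, h1, h2, h3⟩ := hcol u v w hu hv hw h
    have key : ∀ x, dotProduct (ρ x) n = 0 → dotProduct (σ x) (N.transpose *ᵥ n) = 0 := fun x hx => by
      obtain ⟨z, hz⟩ := hrel x
      rw [dotProduct_mulVec, Matrix.vecMul_transpose, hz, smul_dotProduct, hx, smul_zero]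
    refine ⟨N.transpose *ᵥ n, unit_of_mulVec (B := N⁻¹.transpose) ?_, key u h1, key v h2, key w h3⟩
    rwa [Matrix.mulVec_mulVec, ← Matrix.transpose_mul, hN1, Matrix.transpose_one, Matrix.one_mulVec]
  · simp [σ]
  · simp [σ, (hne2 0 1 (by decide)).symm]
  · simp [σ, (hne2 0 2 (by decide)).symm, (hne2 1 2 (by decide)).symm]
  · simp only [σ, if_neg (hne 0).symm, if_neg (hne 1).symm, if_neg (hne 2).symm]
    have : N *ᵥ (fun _ => (1 : A)) = ρ (fun _ => 1) := by
      rw [← hc', ← Matrix.mulVec_mulVec]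
      congr 1
      ext i
      simp [Matrix.mulVec_diagonal]
    rw [← this, Matrix.mulVec_mulVec, hN2, Matrix.one_mulVec]

end Groth.Agent.S13149
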