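import Groth.Statements.S13151
import Mathlib.RingTheory.IntegralClosure.IntegrallyClosed
import Mathlib.RingTheory.Ideal.Quotient.Operations

set_option autoImplicit false
universe u
open CAlg

namespace Groth.Agent.S13151

/-- Let A → B be an injective ring homomorphism of integral domains which is integral, with A integrally
closed, and let π be an element of A. Then the contraction to A of the ideal πB is πA, i.e. an
element of A which is a multiple of π in B is already a multiple of π in A; in particular if B/πB is
an integral domain then A/πA is an integral domain. (The published statement is for an integral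
dominant morphism of integral schemes flat over a discrete valuation ring, with normal target and π
a uniformizer; flatness and the valuation ring play no role, so π is an arbitrary element here.) -/
theorem result {A B : Type u} [CommRing A] [CommRing B]
    [IsDomain A] [IsDomain B] [IsIntegrallyClosed A] [Algebra A B] [Algebra.IsIntegral A B]
    (hinj : Function.Injective (algebraMap A B)) (π : A) :
    (Ideal.span {algebraMap A B π}).comap (algebraMap A B) = Ideal.span {π} ∧
      (IsDomain (B ⧸ Ideal.span {algebraMap A B π}) → IsDomain (A ⧸ Ideal.span {π})) := by
  have hc : (Ideal.span {algebraMap A B π}).comap (algebraMap A B) = Ideal.span {π} := by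
    refine le_antisymm (fun x hx => ?_) ?_
    · obtain ⟨b, hb⟩ := Ideal.mem_span_singleton'.1 (Ideal.mem_comap.1 hx)
      rcases eq_or_ne π 0 with rfl | hπ
      · rw [map_zero, mul_zero] at hb
        rw [hinj (hb.symm.trans (map_zero _).symm)]
        exact zero_mem _
      let K := FractionRing A
      let L := FractionRing B
      let φ : K →+* L := IsFractionRing.lift (A := A) (K := K) (g := (algebraMap B L).comp (algebraMap A B))
        ((IsFractionRing.injective B L).comp hinj)
      letI : Algebra K L := φ.toAlgebra
      haveI : IsScalarTower A K L := IsScalarTower.of_algebraMap_eq fun a => by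
        rw [RingHom.algebraMap_toAlgebra, IsFractionRing.lift_algebraMap, IsScalarTower.algebraMap_apply A B L]; rfl
      let z : K := algebraMap A K x / algebraMap A K π
      have hz : algebraMap K L z = algebraMap B L b := by
        rw [map_div₀, ← IsScalarTower.algebraMap_apply, ← IsScalarTower.algebraMap_apply, IsScalarTower.algebraMap_apply A B L,
          IsScalarTower.algebraMap_apply A B L π, ← hb, map_mul, mul_div_assoc,
          div_self ((map_ne_zero_iff _ (IsFractionRing.injective B L)).2 ((map_ne_zero_iff _ hinj).2 hπ)), mul_one]
      have hzi : IsIntegral A z := (isIntegral_algHom_iff (IsScalarTower.toAlgHom A K L) φ.injective).1 (by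
        show IsIntegral A (algebraMap K L z)
        rw [hz]; exact (Algebra.IsIntegral.isIntegral b).map (IsScalarTower.toAlgHom A B L))
      obtain ⟨w, hw⟩ := IsIntegrallyClosed.isIntegral_iff.1 hzi
      refine Ideal.mem_span_singleton'.2 ⟨w, IsFractionRing.injective A K ?_⟩
      rw [map_mul, hw, div_mul_cancel₀ _ ((map_ne_zero_iff _ (IsFractionRing.injective A K)).2 hπ)]
    · rw [Ideal.span_singleton_le_iff_mem, Ideal.mem_comap]
      exact Ideal.mem_span_singleton_self _
  refine ⟨hc, fun hd => ?_⟩
  rw [Ideal.Quotient.isDomain_iff_prime] at hd ⊢
  rw [← hc]
  exact hd.comap _

end Groth.Agent.S13151
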