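import Groth.Statements.S13153
import Mathlib.RingTheory.Etale.Kaehler
import Mathlib.RingTheory.Etale.Field
import Mathlib.RingTheory.Kaehler.Basic
import Mathlib.RingTheory.AlgebraicIndependent.TranscendenceBasis
import Mathlib.RingTheory.AlgebraicIndependent.Adjoin
import Mathlib.Algebra.MvPolynomial.PDeriv
import Mathlib.RingTheory.Flat.FaithfullyFlat.Algebra
import Mathlib.RingTheory.DiscreteValuationRing.Basic
import Mathlib.FieldTheory.Perfect

set_option autoImplicit false
universe u
open CAlg

namespace Groth.Agent.S13153

/-- In characteristic zero a transcendental element has a derivation taking the value `1` on it. -/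
theorem exists_derivation {k L : Type u} [Field k] [Field L] [Algebra k L] [CharZero k]
    {x : L} (hx : Transcendental k x) : ∃ D : Derivation k L L, D x = 1 := by
  classical
  have hli : AlgebraicIndepOn k id ({x} : Set L) := algebraicIndependent_unique_type_iff.2 hx
  obtain ⟨B, hxB, hB⟩ := exists_isTranscendenceBasis_superset hli
  let b₀ : B := ⟨x, hxB rfl⟩
  let A := Algebra.adjoin k (Set.range ((↑) : B → L))
  let F := IntermediateField.adjoin k (Set.range ((↑) : B → L))
  open scoped IntermediateField.algebraAdjoinAdjoin in
  have hAF : Algebra.FormallyEtale A F :=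
    Algebra.FormallyEtale.of_isLocalization (nonZeroDivisors A)
  have : CharZero F := charZero_of_injective_algebraMap (algebraMap k F).injective
  have : Algebra.IsAlgebraic F L := hB.isAlgebraic_field
  have hFL : Algebra.FormallyEtale F L := Algebra.FormallyEtale.of_isSeparable F L
  open scoped IntermediateField.algebraAdjoinAdjoin in
  have hAL : Algebra.FormallyEtale A L := Algebra.FormallyEtale.comp A F L
  let e : MvPolynomial B k ≃ₐ[k] A := hB.1.aevalEquiv
  have he : ∀ a : A, MvPolynomial.aeval ((↑) : B → L) (e.symm a) = (a : L) := fun a ↦ by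
    conv_rhs => rw [← e.apply_symm_apply a]
    exact (hB.1.algebraMap_aevalEquiv _).symm
  let d : Derivation k A L :=
    Derivation.mk'
      { toFun := fun a ↦ MvPolynomial.aeval ((↑) : B → L) (MvPolynomial.pderiv b₀ (e.symm a))
        map_add' := fun a b ↦ by rw [map_add, map_add, map_add]
        map_smul' := fun c a ↦ by rw [map_smul, Derivation.map_smul, map_smul]; rfl }
      fun a b ↦ by
        show MvPolynomial.aeval ((↑) : B → L) (MvPolynomial.pderiv b₀ (e.symm (a * b))) =
          (a : L) * MvPolynomial.aeval ((↑) : B → L) (MvPolynomial.pderiv b₀ (e.symm b)) +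
            (b : L) * MvPolynomial.aeval ((↑) : B → L) (MvPolynomial.pderiv b₀ (e.symm a))
        rw [map_mul, MvPolynomial.pderiv_mul, map_add, map_mul, map_mul, he, he]
        ring
  let Ψ : TensorProduct A L (Ω[A⁄k]) →ₗ[L] L :=
    LinearMap.liftBaseChange L d.liftKaehlerDifferential
  let D : Derivation k L L :=
    (Ψ.comp (KaehlerDifferential.tensorKaehlerEquivOfFormallyEtale k A L).symm.toLinearMap).compDer
      (KaehlerDifferential.D k L)
  refine ⟨D, ?_⟩
  let a₀ : A := ⟨x, Algebra.subset_adjoin ⟨b₀, rfl⟩⟩
  have ha₀ : e.symm a₀ = MvPolynomial.X b₀ := by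
    rw [AlgEquiv.symm_apply_eq]
    refine Subtype.ext ?_
    exact ((hB.1.algebraMap_aevalEquiv (MvPolynomial.X b₀)).trans (MvPolynomial.aeval_X _ b₀)).symm
  change Ψ ((KaehlerDifferential.tensorKaehlerEquivOfFormallyEtale k A L).symm
    (KaehlerDifferential.D k L (algebraMap A L a₀))) = 1
  rw [KaehlerDifferential.tensorKaehlerEquivOfFormallyEtale_symm_D_algebraMap]
  simp only [Ψ, LinearMap.liftBaseChange_tmul, one_smul]
  rw [Derivation.liftKaehlerDifferential_comp_D]
  show MvPolynomial.aeval ((↑) : B → L) (MvPolynomial.pderiv b₀ (e.symm a₀)) = 1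
  rw [ha₀, MvPolynomial.pderiv_X_self, map_one]

/-- Let R be a discrete valuation ring whose fraction field K has characteristic zero, A an integral
domain which is a faithfully flat R-algebra, with fraction field L, such that K is algebraically
closed in L (every element of L algebraic over K is in the image of K). If f ∈ A has vanishing
differential, df = 0 in Ω_{A/R}, then f is the image of an element of R. (The published statement is
the sheaf form: for a faithfully flat morphism X → Spec R with geometrically integral generic fibre,
the kernel of d : O_X → Ω¹_{X/R} is the inverse image of O_{Spec R}; for integral X, geometric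
integrality of the generic fibre in characteristic zero amounts to K being algebraically closed in
the function field, which is the form used here, and this row is the case of global sections over an
affine X = Spec A.) -/
theorem result (R : Type u) [CommRing R] [IsDomain R]
    [IsDiscreteValuationRing R] [CharZero R] (K : Type u) [Field K] [Algebra R K] [IsFractionRing R K]
    (A : Type u) [CommRing A] [IsDomain A] [Algebra R A] [Module.FaithfullyFlat R A]
    (L : Type u) [Field L] [Algebra A L] [IsFractionRing A L] [Algebra R L] [Algebra K L]
    [IsScalarTower R A L] [IsScalarTower R K L]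
    (hac : ∀ x : L, IsAlgebraic K x → x ∈ (algebraMap K L).range)
    (f : A) (hf : KaehlerDifferential.D R A f = 0) : f ∈ (algebraMap R A).range := by
  have : CharZero K := charZero_of_injective_algebraMap (IsFractionRing.injective R K)
  have halg : IsAlgebraic K (algebraMap A L f) := by
    by_contra htr
    obtain ⟨D, hD⟩ := exists_derivation (k := K) htr
    have h0 := Derivation.liftKaehlerDifferential_comp_D
      ((D.restrictScalars R).compAlgebraMap A) f
    rw [hf, map_zero] at h0
    exact one_ne_zero (hD.symm.trans h0.symm)
  obtain ⟨c, hc⟩ := hac _ halg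
  obtain ⟨⟨r, s⟩, hrs⟩ := IsLocalization.surj (nonZeroDivisors R) c
  have hinj : Function.Injective (algebraMap A L) := IsFractionRing.injective A L
  have h1 : f * algebraMap R A s = algebraMap R A r := by
    refine hinj ?_
    rw [map_mul, ← hc, ← IsScalarTower.algebraMap_apply, ← IsScalarTower.algebraMap_apply,
      IsScalarTower.algebraMap_apply R K L (s : R), ← map_mul, hrs,
      ← IsScalarTower.algebraMap_apply R K L]
  have h2 : r ∈ Ideal.span {(s : R)} := by
    rw [← Ideal.comap_map_eq_self_of_faithfullyFlat (B := A) (Ideal.span {(s : R)}),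
      Ideal.mem_comap, Ideal.map_span, Set.image_singleton, Ideal.mem_span_singleton]
    exact ⟨f, by rw [← h1, mul_comm]⟩
  obtain ⟨t, ht⟩ := Ideal.mem_span_singleton.1 h2
  refine ⟨t, ?_⟩
  have hs0 : algebraMap R A s ≠ 0 := fun h ↦ nonZeroDivisors.ne_zero s.2
    ((FaithfulSMul.algebraMap_injective R A) (by rw [h, map_zero]))
  refine mul_right_cancel₀ hs0 ?_
  rw [h1, ht, map_mul, mul_comm]

end Groth.Agent.S13153
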