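import Groth.Statements.S13154
import Mathlib

set_option autoImplicit false
universe u
open scoped TensorProduct
open CAlg

namespace Groth.Agent.S13154

open TensorProduct

theorem mk_one_injective (R K M : Type*) [CommRing R] [CommRing K] [Algebra R K] [AddCommGroup M]
    [Module R M] [Module.Flat R M] (h : Function.Injective (algebraMap R K)) :
    Function.Injective fun m : M => (1 : K) ⊗ₜ[R] m := by
  have h2 := Module.Flat.rTensor_preserves_injective_linearMap (M := M) (Algebra.linearMap R K) h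
  intro x y hxy
  refine (TensorProduct.lid R M).symm.injective (h2 ?_)
  simpa using hxy

theorem exists_smul_eq_one_tmul (R K M : Type*) [CommRing R] [IsDomain R] [Field K] [Algebra R K]
    [IsFractionRing R K] [AddCommGroup M] [Module R M] (y : K ⊗[R] M) :
    ∃ r : R, r ≠ 0 ∧ ∃ x : M, r • y = 1 ⊗ₜ x := by
  induction y using TensorProduct.induction_on with
  | zero => exact ⟨1, one_ne_zero, 0, by simp⟩
  | tmul q x =>
    obtain ⟨a, r, hr, rfl⟩ := IsFractionRing.div_surjective R q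
    refine ⟨r, nonZeroDivisors.ne_zero hr, a • x, ?_⟩
    rw [TensorProduct.smul_tmul', Algebra.smul_def, ← TensorProduct.smul_tmul, Algebra.smul_def, mul_one,
      mul_div_cancel₀ _ ((map_ne_zero_iff _ (IsFractionRing.injective R K)).mpr (nonZeroDivisors.ne_zero hr))]
  | add y z hy hz =>
    obtain ⟨r, hr, x, hx⟩ := hy
    obtain ⟨s, hs, w, hw⟩ := hz
    refine ⟨r * s, mul_ne_zero hr hs, s • x + r • w, ?_⟩
    rw [smul_add, TensorProduct.tmul_add, TensorProduct.tmul_smul, TensorProduct.tmul_smul, ← hx, ← hw,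
      smul_smul, smul_smul, mul_comm s r]

theorem aux (R : Type*) [CommRing R] [IsDomain R] (K : Type*) [Field K] [Algebra R K] [IsFractionRing R K]
    (A : Type*) [CommRing A] [Algebra R A] [Module.FaithfullyFlat R A] (B₁ B₂ : Type*) [CommRing B₁]
    [CommRing B₂] [Algebra R B₁] [Algebra R B₂] [Module.Flat R B₁]
    (φK : K ⊗[R] B₂ →ₐ[K] K ⊗[R] B₁) (φA : A ⊗[R] B₂ →ₐ[A] A ⊗[R] B₁)
    (hcomp : ∀ b : B₂, Algebra.TensorProduct.map (Algebra.TensorProduct.includeLeft : K →ₐ[R] K ⊗[R] A) (AlgHom.id R B₁) (φK (1 ⊗ₜ b)) =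
      Algebra.TensorProduct.map (Algebra.TensorProduct.includeRight : A →ₐ[R] K ⊗[R] A) (AlgHom.id R B₁) (φA (1 ⊗ₜ b))) :
    ∃! φ : B₂ →ₐ[R] B₁, (∀ b : B₂, φK (1 ⊗ₜ b) = 1 ⊗ₜ φ b) ∧ (∀ b : B₂, φA (1 ⊗ₜ b) = 1 ⊗ₜ φ b) := by
  have hRK : Function.Injective (algebraMap R K) := IsFractionRing.injective R K
  have hB : Function.Injective fun m : B₁ => (1 : K) ⊗ₜ[R] m := mk_one_injective R K B₁ hRK
  have hA : Function.Injective (Algebra.TensorProduct.map
      (Algebra.TensorProduct.includeRight : A →ₐ[R] K ⊗[R] A) (AlgHom.id R B₁)) :=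
    Module.Flat.rTensor_preserves_injective_linearMap (M := B₁)
      ((Algebra.TensorProduct.includeRight : A →ₐ[R] K ⊗[R] A).toLinearMap) (mk_one_injective R K A hRK)
  have main : ∀ b : B₂, ∃ x : B₁, φK (1 ⊗ₜ b) = 1 ⊗ₜ x ∧ φA (1 ⊗ₜ b) = 1 ⊗ₜ x := by
    intro b
    obtain ⟨r, hr, x, hx⟩ := exists_smul_eq_one_tmul R K B₁ (φK (1 ⊗ₜ b))
    have h1 : (1 : A) ⊗ₜ[R] x = r • φA (1 ⊗ₜ b) := by
      refine hA ?_
      rw [map_smul, ← hcomp, ← map_smul, hx]
      simp [Algebra.TensorProduct.one_def]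
    have h2 : Submodule.Quotient.mk (p := LinearMap.range (LinearMap.lsmul R B₁ r)) x = 0 := by
      refine Module.FaithfullyFlat.tensorProduct_mk_injective (A := R) (B := A)
        (B₁ ⧸ LinearMap.range (LinearMap.lsmul R B₁ r)) ?_
      have h3 := congr_arg ((LinearMap.range (LinearMap.lsmul R B₁ r)).mkQ.lTensor A) h1
      rw [LinearMap.lTensor_tmul, map_smul] at h3
      rw [TensorProduct.mk_apply, TensorProduct.mk_apply, TensorProduct.tmul_zero]
      refine h3.trans ?_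
      generalize φA (1 ⊗ₜ b) = z
      induction z using TensorProduct.induction_on with
      | zero => simp
      | tmul p q =>
        rw [LinearMap.lTensor_tmul, ← TensorProduct.tmul_smul, ← map_smul]
        have : (LinearMap.range (LinearMap.lsmul R B₁ r)).mkQ (r • q) = 0 :=
          (Submodule.Quotient.mk_eq_zero _).mpr ⟨q, rfl⟩
        rw [this, TensorProduct.tmul_zero]
      | add p q hp hq => rw [map_add, smul_add, hp, hq, add_zero]
    obtain ⟨x', rfl⟩ := (Submodule.Quotient.mk_eq_zero _).mp h2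
    have hxK : φK (1 ⊗ₜ b) = 1 ⊗ₜ x' := by
      have hu : IsUnit (algebraMap R K r) := isUnit_iff_ne_zero.mpr ((map_ne_zero_iff _ hRK).mpr hr)
      refine (hu.smul_left_cancel).mp ?_
      rw [algebraMap_smul, algebraMap_smul, hx]
      exact TensorProduct.tmul_smul r (1 : K) x'
    refine ⟨x', hxK, hA ?_⟩
    rw [← hcomp, hxK]
    simp [Algebra.TensorProduct.one_def]
  choose F hFK hFA using main
  refine ⟨{ toFun := F, map_one' := hB ?_, map_mul' := fun a b => hB ?_, map_zero' := hB ?_,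
            map_add' := fun a b => hB ?_, commutes' := fun r => hB ?_ }, ⟨hFK, hFA⟩, ?_⟩
  · show (1 : K) ⊗ₜ[R] F 1 = 1 ⊗ₜ 1
    rw [← hFK, ← Algebra.TensorProduct.one_def, map_one, Algebra.TensorProduct.one_def]
  · show (1 : K) ⊗ₜ[R] F (a * b) = 1 ⊗ₜ (F a * F b)
    have e : ∀ x y : B₁, (1 : K) ⊗ₜ[R] (x * y) = (1 ⊗ₜ x) * (1 ⊗ₜ y) := by simp
    have e' : ∀ x y : B₂, (1 : K) ⊗ₜ[R] (x * y) = (1 ⊗ₜ x) * (1 ⊗ₜ y) := by simp
    rw [e, ← hFK, ← hFK, ← hFK, e', map_mul]
  · show (1 : K) ⊗ₜ[R] F 0 = 1 ⊗ₜ 0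
    rw [← hFK, TensorProduct.tmul_zero, map_zero, TensorProduct.tmul_zero]
  · show (1 : K) ⊗ₜ[R] F (a + b) = 1 ⊗ₜ (F a + F b)
    rw [TensorProduct.tmul_add, ← hFK, ← hFK, ← hFK, TensorProduct.tmul_add, map_add]
  · show (1 : K) ⊗ₜ[R] F (algebraMap R B₂ r) = 1 ⊗ₜ (algebraMap R B₁ r)
    rw [← hFK, ← Algebra.TensorProduct.algebraMap_apply', ← Algebra.TensorProduct.algebraMap_apply',
      IsScalarTower.algebraMap_apply R K (K ⊗[R] B₂), AlgHom.commutes,
      ← IsScalarTower.algebraMap_apply R K (K ⊗[R] B₁)]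
  · intro ψ hψ
    exact AlgHom.ext fun b => hB ((hψ.1 b).symm.trans (hFK b))

/-- Let R be a discrete valuation ring with fraction field K, A a faithfully flat R-algebra (an affine
faithfully flat base change S' → S = Spec R) and B₁, B₂ flat R-algebras (two affine S-schemes X₁ =
Spec B₁, X₂ = Spec B₂, flat over S). Suppose given a K-algebra homomorphism φ_K : K ⊗ B₂ → K ⊗ B₁ (a
morphism of the generic fibres X₁,K → X₂,K) and an A-algebra homomorphism φ_A : A ⊗ B₂ → A ⊗ B₁ (a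
morphism X₁ ×_S S' → X₂ ×_S S' over S') which coincide after base change to K ⊗ A, in the sense that
for every b ∈ B₂ the images of φ_K(1 ⊗ b) and φ_A(1 ⊗ b) in (K ⊗ A) ⊗ B₁ agree. Then there is
exactly one R-algebra homomorphism φ : B₂ → B₁ (a morphism X₁ → X₂) whose base changes to K and to A
are φ_K and φ_A. (The published statement assumes only X₂ flat over S; flatness of X₁ is also
needed: with B₂ = R[t], B₁ = R[e]/(e², πe) for a uniformizer π and A = R[x], the maps t ↦ 0 over K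
and t ↦ e x over A agree over K ⊗ A = K[x] but come from no map over R.) -/
theorem result (R : Type u) [CommRing R] [IsDomain R]
    [IsDiscreteValuationRing R] (K : Type u) [Field K] [Algebra R K] [IsFractionRing R K]
    (A : Type u) [CommRing A] [Algebra R A] [Module.FaithfullyFlat R A]
    (B₁ B₂ : Type u) [CommRing B₁] [CommRing B₂] [Algebra R B₁] [Algebra R B₂]
    [Module.Flat R B₁] [Module.Flat R B₂]
    (φK : K ⊗[R] B₂ →ₐ[K] K ⊗[R] B₁) (φA : A ⊗[R] B₂ →ₐ[A] A ⊗[R] B₁)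
    (hcomp : ∀ b : B₂,
      Algebra.TensorProduct.map (Algebra.TensorProduct.includeLeft : K →ₐ[R] K ⊗[R] A) (AlgHom.id R B₁)
          (φK (1 ⊗ₜ b)) =
        Algebra.TensorProduct.map (Algebra.TensorProduct.includeRight : A →ₐ[R] K ⊗[R] A) (AlgHom.id R B₁)
          (φA (1 ⊗ₜ b))) :
    ∃! φ : B₂ →ₐ[R] B₁, (∀ b : B₂, φK (1 ⊗ₜ b) = 1 ⊗ₜ φ b) ∧ (∀ b : B₂, φA (1 ⊗ₜ b) = 1 ⊗ₜ φ b) := by
  exact aux R K A B₁ B₂ φK φA hcomp

end Groth.Agent.S13154
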