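import Groth.Statements.S13155
import Mathlib.RingTheory.AdjoinRoot
import Mathlib.Algebra.GroupWithZero.Associated
import Mathlib.RingTheory.Localization.Away.Basic
import Mathlib.RingTheory.IntegralClosure.IsIntegralClosure.Basic

set_option autoImplicit false
universe u
open CAlg

namespace Groth.Agent.S13155

/-- Let R be a discrete valuation ring of characteristic zero with uniformizer π, and A a Noetherian
integrally closed domain which is an R-algebra with injective structure map and in which πA is a
prime ideal (X = Spec A is normal, flat over R, with integral special fibre). Let m ≥ 1 and let f ∈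
A be invertible in A[1/π] (so Z^m = f defines a μ_m-torsor over the generic fibre), such that S =
A[1/π][Z]/(Z^m − f) is an integral domain and, writing B for the integral closure of A in S (the
normalization of X in that cover), πB is a prime ideal of B (the normalization has integral special
fibre). Then f is, up to a unit of A, an m-th power of a power of π: f = π^{mq}·u with q ≥ 0 and u ∈
A^×, so that the cover extends to the μ_m-torsor Z^m = u over all of X. (The published statement is
the existence and uniqueness of the extending μ_m-torsor over a normal faithfully flat R-scheme with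
integral fibres, R containing a primitive m-th root of unity; this row is the affine computation
that carries the proof.) -/
theorem result (R : Type u) [CommRing R]
    [IsDomain R] [IsDiscreteValuationRing R] [CharZero R] (ϖ : R) (hϖ : Irreducible ϖ)
    (A : Type u) [CommRing A] [IsDomain A] [IsNoetherianRing A] [IsIntegrallyClosed A] [Algebra R A]
    (hinj : Function.Injective (algebraMap R A)) (hprime : (Ideal.span {algebraMap R A ϖ}).IsPrime)
    (m : ℕ) (hm : 0 < m) (f : A) (hf : IsUnit (algebraMap A (Localization.Away (algebraMap R A ϖ)) f))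
    [IsDomain (AdjoinRoot (Polynomial.X ^ m - Polynomial.C (algebraMap A (Localization.Away (algebraMap R A ϖ)) f)))]
    (hsp : (Ideal.span {algebraMap A (integralClosure A
        (AdjoinRoot (Polynomial.X ^ m - Polynomial.C (algebraMap A (Localization.Away (algebraMap R A ϖ)) f))))
          (algebraMap R A ϖ)}).IsPrime) :
    ∃ (q : ℕ) (u : Aˣ), f = algebraMap R A ϖ ^ (m * q) * (u : A) := by
  classical
  set π : A := algebraMap R A ϖ with hπdef
  set S := AdjoinRoot (Polynomial.X ^ m - Polynomial.C (algebraMap A (Localization.Away π) f)) with hS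
  set B := integralClosure A S with hB
  have hπ0 : π ≠ 0 := fun h => hϖ.ne_zero (hinj (by rw [map_zero]; exact h))
  have hπp : Prime π := (Ideal.span_singleton_prime hπ0).mp hprime
  obtain ⟨g, hg⟩ := hf.exists_right_inv
  obtain ⟨⟨g', ⟨_, k, rfl⟩⟩, hgk⟩ := IsLocalization.surj (Submonoid.powers π) g
  have hdvd : f ∣ π ^ k := ⟨g', IsLocalization.injective (Localization.Away π)
    (powers_le_nonZeroDivisors_of_noZeroDivisors hπ0 : Submonoid.powers π ≤ nonZeroDivisors A)
    (by rw [map_mul, ← hgk, ← mul_assoc, hg, one_mul])⟩
  obtain ⟨j, -, hj⟩ := (dvd_prime_pow hπp k).mp hdvd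
  obtain ⟨u, hu⟩ := hj.symm
  -- hu : π ^ j * u = f
  have hπS : IsUnit (algebraMap A S π) := by
    rw [IsScalarTower.algebraMap_apply A (Localization.Away π) S]
    exact (IsLocalization.map_units _ (⟨π, 1, pow_one π⟩ : Submonoid.powers π)).map _
  set p : B := algebraMap A B π with hp
  have hp0 : p ≠ 0 := fun h => hπS.ne_zero (congrArg Subtype.val h)
  have hpp : Prime p := (Ideal.span_singleton_prime hp0).mp hsp
  have hz : (AdjoinRoot.root (Polynomial.X ^ m - Polynomial.C (algebraMap A (Localization.Away π) f)) : S) ^ m =
      algebraMap A S f := by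
    have h := AdjoinRoot.eval₂_root (Polynomial.X ^ m - Polynomial.C (algebraMap A (Localization.Away π) f))
    rw [Polynomial.eval₂_sub, Polynomial.eval₂_pow, Polynomial.eval₂_X, Polynomial.eval₂_C, sub_eq_zero] at h
    rw [IsScalarTower.algebraMap_apply A (Localization.Away π) S]
    exact h
  let z₀ : B := ⟨_, IsIntegral.of_pow hm (hz ▸ isIntegral_algebraMap)⟩
  have key : ∀ (i : ℕ) (z : B), z ^ m = p ^ i * algebraMap A B u → m ∣ i := by
    intro i
    induction i using Nat.strong_induction_on with
    | _ i ih =>
      intro z hzi
      rcases Nat.eq_zero_or_pos i with rfl | hi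
      · exact dvd_zero m
      obtain ⟨w, rfl⟩ : p ∣ z := hpp.dvd_of_dvd_pow (hzi ▸ Dvd.dvd.mul_right (dvd_pow_self p hi.ne') _)
      rw [mul_pow] at hzi
      by_cases him : m ≤ i
      · obtain ⟨t, rfl⟩ := Nat.exists_eq_add_of_le him
        rw [pow_add, mul_assoc] at hzi
        exact dvd_add dvd_rfl (ih t (by omega) w (mul_left_cancel₀ (pow_ne_zero _ hp0) hzi))
      · obtain ⟨t, ht⟩ := Nat.exists_eq_add_of_le (not_le.mp him).le
        rw [show p ^ m = p ^ i * p ^ t by rw [← pow_add, ← ht], mul_assoc] at hzi
        refine absurd ((isUnit_pow_iff (n := t) (by omega)).mp ?_) hpp.not_unit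
        exact (IsUnit.mul_iff.mp ((mul_left_cancel₀ (pow_ne_zero _ hp0) hzi) ▸ u.isUnit.map (algebraMap A B))).1
  obtain ⟨q, rfl⟩ := key j z₀ (Subtype.ext (by
    simp only [SubmonoidClass.coe_pow, MulMemClass.coe_mul, z₀, hp]
    rw [hz, congrArg (algebraMap A S) hu.symm, map_mul, map_pow]
    rfl))
  exact ⟨q, u, hu.symm⟩

end Groth.Agent.S13155
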