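import Groth.Statements.S13156
import Mathlib.Algebra.Polynomial.Derivative
import Mathlib.Algebra.Polynomial.Degree.Lemmas
import Mathlib.Algebra.MvPolynomial.CommRing
import Mathlib.Algebra.Polynomial.AlgebraMap
import Mathlib.Tactic.LinearCombination
import Mathlib.Tactic.Ring
import Mathlib.Tactic.FinCases
import Mathlib.Data.Fin.VecNotation

set_option autoImplicit false
universe u
open scoped Polynomial
open CAlg

namespace Groth.Agent.S13156

/-- Let p be a prime number, A a commutative ring in which (p−1)! is invertible, μ an element of A, and
F ∈ A[X] a polynomial of degree at most p − 1 with coefficients a_0, a_1, …. Then the identity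
F(S)·F(T) − a_0² = F(S + T + μST) − a_0 holds in the polynomial ring A[S, T] if and only if a_1·F(S)
= F′(S)·(1 + μS) holds in A[S], F′ the formal derivative. (The published statement is over the
quotient of a discrete valuation ring of residue characteristic p by a nonzero element of its
maximal ideal; only the invertibility of 1, …, p − 1 is used, so an arbitrary such ring A is allowed
here.) -/
theorem result (A : Type u) [CommRing A] (p : ℕ) [Fact p.Prime]
    (hu : IsUnit ((Nat.factorial (p - 1) : ℕ) : A)) (μ : A) (F : A[X]) (hF : F.natDegree < p) :
    (Polynomial.aeval (MvPolynomial.X 0 : MvPolynomial (Fin 2) A) F *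
          Polynomial.aeval (MvPolynomial.X 1 : MvPolynomial (Fin 2) A) F - MvPolynomial.C (F.coeff 0 ^ 2) =
        Polynomial.aeval (MvPolynomial.X 0 + MvPolynomial.X 1 +
            MvPolynomial.C μ * MvPolynomial.X 0 * MvPolynomial.X 1 : MvPolynomial (Fin 2) A) F -
          MvPolynomial.C (F.coeff 0)) ↔
      F * Polynomial.C (F.coeff 1) = Polynomial.derivative F * (1 + Polynomial.C μ * Polynomial.X) := by
  let c : A →+* A[X] := Polynomial.C
  let G : Polynomial A[X] := F.map Polynomial.C
  let u : Polynomial A[X] := Polynomial.C Polynomial.X + Polynomial.C (1 + Polynomial.C μ * Polynomial.X) * Polynomial.X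
  let a0 := F.coeff 0
  let a1 := F.coeff 1
  let D : Polynomial A[X] := Polynomial.C F * G - G.comp u -
    Polynomial.C (Polynomial.C (a0 ^ 2 - a0))
  let Φ : MvPolynomial (Fin 2) A →ₐ[A] Polynomial A[X] :=
    MvPolynomial.aeval ![Polynomial.C Polynomial.X, Polynomial.X]
  let Ψ : Polynomial A[X] →+* MvPolynomial (Fin 2) A :=
    Polynomial.eval₂RingHom (Polynomial.eval₂RingHom MvPolynomial.C (MvPolynomial.X 0)) (MvPolynomial.X 1)
  have hΦi : Function.Injective Φ := by
    refine Function.LeftInverse.injective (g := Ψ) fun q => ?_
    have : Ψ.comp Φ.toRingHom = RingHom.id _ := by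
      apply MvPolynomial.ringHom_ext
      · intro a; simp [Φ, Ψ, Polynomial.algebraMap_eq, IsScalarTower.algebraMap_apply A A[X] (Polynomial A[X])]
      · intro i; fin_cases i <;> simp [Φ, Ψ]
    exact RingHom.congr_fun this q
  have hG : ∀ (P : A[X]) (v : Polynomial A[X]),
      Polynomial.aeval v P = (P.map Polynomial.C).comp v := by
    intro P v
    rw [Polynomial.comp, Polynomial.eval₂_map, Polynomial.aeval_def]
    congr 1
  have hCF : (F.map Polynomial.C).comp (Polynomial.C (Polynomial.X : A[X])) = Polynomial.C F := by
    rw [Polynomial.comp_C, Polynomial.eval_map, Polynomial.eval₂_C_X]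
  have hid : (Polynomial.aeval (MvPolynomial.X 0 : MvPolynomial (Fin 2) A) F *
          Polynomial.aeval (MvPolynomial.X 1 : MvPolynomial (Fin 2) A) F - MvPolynomial.C (F.coeff 0 ^ 2) =
        Polynomial.aeval (MvPolynomial.X 0 + MvPolynomial.X 1 +
            MvPolynomial.C μ * MvPolynomial.X 0 * MvPolynomial.X 1 : MvPolynomial (Fin 2) A) F -
          MvPolynomial.C (F.coeff 0)) ↔ D = 0 := by
    rw [← hΦi.eq_iff, ← sub_eq_zero]
    suffices h : ∀ L, L = D → (L = 0 ↔ D = 0) by
      refine h _ ?_
      have e2 : Φ (MvPolynomial.X 0 + MvPolynomial.X 1 +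
            MvPolynomial.C μ * MvPolynomial.X 0 * MvPolynomial.X 1) = u := by
        simp [Φ, u, Polynomial.algebraMap_eq, IsScalarTower.algebraMap_apply A A[X] (Polynomial A[X])]
        ring
      rw [map_sub, map_sub, map_mul, ← Polynomial.aeval_algHom_apply, ← Polynomial.aeval_algHom_apply,
        ← Polynomial.aeval_algHom_apply, e2]
      simp only [Φ, MvPolynomial.aeval_X, MvPolynomial.aeval_C, Matrix.cons_val_zero, Matrix.cons_val_one,
        Matrix.head_cons, hG, hCF, Polynomial.comp_X, map_sub,
        Polynomial.algebraMap_eq, IsScalarTower.algebraMap_apply A A[X] (Polynomial A[X])]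
      simp only [D, G, a0, Polynomial.C_eq_algebraMap, map_sub]
      ring
    intro L hL; rw [hL]
  rw [hid]
  have hu' : Polynomial.derivative u = Polynomial.C (1 + Polynomial.C μ * Polynomial.X) := by simp [u]
  have hGd : Polynomial.derivative G = (Polynomial.derivative F).map Polynomial.C :=
    Polynomial.derivative_map _ _
  constructor
  · intro h
    have := congrArg (fun P => (Polynomial.derivative P).eval 0) h
    simp only [D, Polynomial.derivative_sub, Polynomial.derivative_mul, Polynomial.derivative_comp,
      Polynomial.derivative_C, hu', hGd, Polynomial.eval_sub, Polynomial.eval_mul, Polynomial.eval_comp,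
      Polynomial.eval_C, Polynomial.eval_add, Polynomial.eval_zero, zero_mul, zero_add, sub_zero,
      map_zero] at this
    have e0 : u.eval 0 = Polynomial.X := by simp [u]
    simp only [e0, Polynomial.eval_map, Polynomial.eval₂_C_X, Polynomial.eval₂_at_zero,
      Polynomial.coeff_derivative, Nat.cast_zero, zero_add, mul_one, Nat.reduceAdd] at this
    linear_combination this
  · intro h
    have hU : ∀ k, k + 1 < p → IsUnit ((k + 1 : ℕ) : A) := fun k hk =>
      isUnit_of_dvd_unit (map_dvd (Nat.castRingHom A) (Nat.dvd_factorial (by omega) (by omega))) hu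
    have hco : ∀ k, F.coeff k * a1 = F.coeff (k + 1) * ((k + 1 : ℕ) : A) + μ * k * F.coeff k := by
      intro k
      have e : F * Polynomial.C a1 = Polynomial.derivative F + Polynomial.C μ * (Polynomial.derivative F * Polynomial.X) := by
        rw [h]; ring
      have := congrArg (fun P => P.coeff k) e
      simp only [Polynomial.coeff_add, Polynomial.coeff_C_mul, Polynomial.coeff_mul_C] at this
      rcases k with _ | k
      · simpa [Polynomial.coeff_derivative] using this
      · simp only [Polynomial.coeff_mul_X, Polynomial.coeff_derivative] at this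
        rw [this]; push_cast; ring
    have hz : ∀ k, 1 ≤ k → (a0 - 1) * F.coeff k = 0 := by
      intro k hk
      induction k, hk using Nat.le_induction with
      | base =>
        have := hco 0
        simp only [Nat.cast_zero, zero_add, mul_zero, zero_mul, add_zero, Nat.cast_one, mul_one] at this
        simp only [a0]; linear_combination this
      | succ k hk ih =>
        by_cases hkp : k + 1 < p
        · apply (hU k hkp).mul_left_eq_zero.mp
          linear_combination (a1 - μ * k) * ih - (a0 - 1) * hco k
        · rw [Polynomial.coeff_eq_zero_of_natDegree_lt (by omega), mul_zero]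
    have hc : Polynomial.C (a0 - 1) * F = Polynomial.C ((a0 - 1) * a0) := by
      ext k
      rw [Polynomial.coeff_C_mul, Polynomial.coeff_C]
      rcases k with _ | k
      · simp [a0]
      · simp [hz (k + 1) (by omega)]
    have hca : (a0 ^ 2 - a0) * a1 = 0 := by linear_combination a0 * hz 1 le_rfl
    have hD0 : D.eval 0 = 0 := by
      have e0 : u.eval 0 = Polynomial.X := by simp [u]
      have e : D.eval 0 = F * Polynomial.C a0 - F - Polynomial.C (a0 ^ 2 - a0) := by
        simp only [D, Polynomial.eval_sub, Polynomial.eval_mul, Polynomial.eval_C, Polynomial.eval_comp, e0]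
        simp only [G, Polynomial.eval_map, Polynomial.eval₂_C_X]
        rw [Polynomial.eval₂_at_zero]
      rw [e]
      simp only [map_sub, map_one, map_mul, map_pow] at hc ⊢
      linear_combination hc
    have hh : (G * Polynomial.C (Polynomial.C a1)) =
        Polynomial.derivative G * (1 + Polynomial.C (Polynomial.C μ) * Polynomial.X) := by
      have := congrArg (Polynomial.map (Polynomial.C : A →+* A[X])) h
      simpa [G, Polynomial.derivative_map] using this
    have hhu := congrArg (fun P => Polynomial.comp P u) hh
    simp only [Polynomial.mul_comp, Polynomial.add_comp, Polynomial.C_comp, Polynomial.one_comp,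
      Polynomial.X_comp] at hhu
    have hca' : Polynomial.C (Polynomial.C (a0 ^ 2 - a0)) * Polynomial.C (Polynomial.C a1) = 0 := by
      rw [← map_mul, ← map_mul, hca, map_zero, map_zero]
    have hode : (1 + Polynomial.C (Polynomial.C μ) * Polynomial.X) * Polynomial.derivative D =
        Polynomial.C (Polynomial.C a1) * D := by
      simp only [D, Polynomial.derivative_sub, Polynomial.derivative_mul, Polynomial.derivative_comp,
        Polynomial.derivative_C, hu']
      simp only [u, map_add, map_one, map_mul] at hhu ⊢
      linear_combination hhu - Polynomial.C F * hh + hca'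
    have hdeg : D.natDegree < p := by
      refine lt_of_le_of_lt ?_ hF
      have hG1 : G.natDegree ≤ F.natDegree := Polynomial.natDegree_map_le
      refine (Polynomial.natDegree_sub_le _ _).trans (max_le ((Polynomial.natDegree_sub_le _ _).trans
        (max_le ((Polynomial.natDegree_C_mul_le _ _).trans hG1) ?_)) ((Polynomial.natDegree_C _).trans_le (Nat.zero_le _)))
      refine Polynomial.natDegree_comp_le.trans ((Nat.mul_le_mul hG1 (?_ : u.natDegree ≤ 1)).trans (by simp))
      exact (Polynomial.natDegree_add_le _ _).trans
        (max_le (by simp) ((Polynomial.natDegree_C_mul_le _ _).trans Polynomial.natDegree_X_le))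
    ext1 k
    rw [Polynomial.coeff_zero]
    induction k with
    | zero => rw [Polynomial.coeff_zero_eq_eval_zero, hD0]
    | succ k ih =>
      by_cases hkp : k + 1 < p
      · have := congrArg (fun P => P.coeff k) hode
        simp only [add_mul, one_mul, mul_assoc, Polynomial.coeff_add, Polynomial.coeff_C_mul] at this
        have e2 : (Polynomial.X * Polynomial.derivative D).coeff k = D.coeff k * (k : A[X]) := by
          rcases k with _ | k
          · simp
          · simp [Polynomial.coeff_X_mul, Polynomial.coeff_derivative]
        rw [e2, Polynomial.coeff_derivative, ih] at this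
        simp only [zero_mul, mul_zero, add_zero] at this
        have hunit : IsUnit ((k : A[X]) + 1) := by
          have := (hU k hkp).map (Polynomial.C : A →+* A[X])
          simpa using this
        exact hunit.mul_left_eq_zero.mp this
      · exact Polynomial.coeff_eq_zero_of_natDegree_lt (by omega)

end Groth.Agent.S13156
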