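import Groth.Statements.S13157
import Mathlib.Algebra.Polynomial.Derivative
import Mathlib.Tactic.LinearCombination
import Mathlib.Tactic.Ring
import Mathlib.Algebra.BigOperators.Ring.Finset
import Mathlib.Data.Nat.Factorial.BigOperators

set_option autoImplicit false
universe u
open scoped Polynomial
open CAlg

namespace Groth.Agent.S13157

/-- (i) ⇔ (ii): let p be a prime number, A a commutative ring in which (p−1)! is invertible, μ ∈ A, and
F ∈ A[X] a polynomial of degree at most p − 1 with constant term a_0 = 1 and coefficients a_1, a_2,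
…. Then the relations a_{r−1}·a_1 = (r − 1)μ·a_{r−1} + r·a_r for 1 ≤ r ≤ p (with a_p = 0), written
here as the single identity a_1·F = F′·(1 + μX), hold if and only if r!·a_r = ∏_{k=0}^{r−1} (a_1 −
kμ) for every 1 ≤ r ≤ p − 1 and ∏_{k=0}^{p−1} (a_1 − kμ) = 0. (The published statement lists the
relations only for 1 ≤ r ≤ p − 1, while its proof uses and derives the relation for r = p as well,
which is needed for the vanishing of the last product; it is included here. The published setting is
the quotient of a discrete valuation ring of residue characteristic p by a nonzero non-unit; only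
the invertibility of 1, …, p − 1 is used.) -/
theorem result (A : Type u) [CommRing A] (p : ℕ) [Fact p.Prime]
    (hu : IsUnit ((Nat.factorial (p - 1) : ℕ) : A)) (μ : A) (F : A[X]) (hF : F.natDegree < p)
    (h0 : F.coeff 0 = 1) :
    F * Polynomial.C (F.coeff 1) = Polynomial.derivative F * (1 + Polynomial.C μ * Polynomial.X) ↔
      ((∀ r : ℕ, 1 ≤ r → r < p →
          (r.factorial : A) * F.coeff r = ∏ k ∈ Finset.range r, (F.coeff 1 - (k : A) * μ)) ∧
        ∏ k ∈ Finset.range p, (F.coeff 1 - (k : A) * μ) = 0) := by
  classical
  have hp : 0 < p := (Fact.out : p.Prime).pos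
  have hzero : ∀ j, p ≤ j → F.coeff j = 0 := fun j hj => Polynomial.coeff_eq_zero_of_natDegree_lt (lt_of_lt_of_le hF hj)
  have hkey : F * Polynomial.C (F.coeff 1) = Polynomial.derivative F * (1 + Polynomial.C μ * Polynomial.X) ↔
      ∀ j : ℕ, ((j : A) + 1) * F.coeff (j + 1) = F.coeff j * (F.coeff 1 - (j : A) * μ) := by
    rw [Polynomial.ext_iff]
    refine forall_congr' fun j => ?_
    have he : (Polynomial.derivative F * (1 + Polynomial.C μ * Polynomial.X)).coeff j =
        F.coeff (j + 1) * ((j : A) + 1) + (j : A) * μ * F.coeff j := by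
      rw [mul_add, mul_one, Polynomial.coeff_add, Polynomial.coeff_derivative, ← mul_assoc, mul_comm (Polynomial.derivative F), mul_assoc, Polynomial.coeff_C_mul]
      congr 1
      rcases j with - | j
      · simp
      · rw [Polynomial.coeff_mul_X, Polynomial.coeff_derivative]; push_cast; ring
    rw [Polynomial.coeff_mul_C, he]
    constructor <;> intro h <;> linear_combination -h
  rw [hkey]
  have hfac : ∀ r : ℕ, r < p → IsUnit ((r.factorial : ℕ) : A) := fun r hr => by
    obtain ⟨c, hc⟩ := Nat.factorial_dvd_factorial (show r ≤ p - 1 by omega)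
    rw [hc, Nat.cast_mul] at hu
    exact isUnit_of_mul_isUnit_left hu
  constructor
  · intro h
    have hall : ∀ r : ℕ, (r.factorial : A) * F.coeff r = ∏ k ∈ Finset.range r, (F.coeff 1 - (k : A) * μ) := by
      intro r
      induction r with
      | zero => simp [h0]
      | succ r ih =>
        rw [Finset.prod_range_succ, ← ih, mul_assoc, ← h r, Nat.factorial_succ, Nat.cast_mul, Nat.cast_succ]
        ring
    refine ⟨fun r _ _ => hall r, ?_⟩
    rw [← hall p, hzero p le_rfl, mul_zero]
  · rintro ⟨h, hp'⟩ j
    have hall : ∀ r < p, (r.factorial : A) * F.coeff r = ∏ k ∈ Finset.range r, (F.coeff 1 - (k : A) * μ) := fun r hr => by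
      rcases Nat.eq_zero_or_pos r with rfl | hr0
      · simp [h0]
      · exact h r hr0 hr
    rcases Nat.lt_or_ge j p with hj | hj
    · refine (hfac j hj).mul_left_cancel ?_
      have hr : ((j.factorial : ℕ) : A) * (F.coeff j * (F.coeff 1 - (j : A) * μ)) = ∏ k ∈ Finset.range (j + 1), (F.coeff 1 - (k : A) * μ) := by
        rw [Finset.prod_range_succ, ← hall j hj, mul_assoc]
      rw [hr]
      rcases Nat.lt_or_ge (j + 1) p with hj1 | hj1
      · rw [← hall (j + 1) hj1, Nat.factorial_succ, Nat.cast_mul, Nat.cast_succ]; ring
      · rw [hzero _ hj1, show j + 1 = p by omega, hp']; ring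
    · rw [hzero _ (by omega), hzero _ hj]; ring

end Groth.Agent.S13157
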