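import Groth.Statements.S13158
import Mathlib.RingTheory.IntegralClosure.IntegrallyClosed
import Mathlib.RingTheory.Flat.FaithfullyFlat.Algebra
import Mathlib.RingTheory.DiscreteValuationRing.Basic
import Mathlib.Algebra.Polynomial.Coeff
import Mathlib.RingTheory.Localization.FractionRing
import Mathlib.Tactic.LinearCombination

set_option autoImplicit false
universe u
open CAlg

namespace Groth.Agent.S13158

/-- Let R be a discrete valuation ring of characteristic zero whose maximal ideal contains the prime
number p, let n ≥ 1, and let λ be a nonzero element of R such that λ^(p^(n−1)(p−1)) divides p (the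
condition v(p) ≥ p^(n−1)(p−1)·v(λ) under which the polynomial ((1 + λT)^(p^n) − 1)/λ^(p^n) has
coefficients in R). Let A be an integrally closed integral domain which is a faithfully flat
R-algebra. Then for every unit x of A, λ^(p^n) divides x^(p^n) − 1 in A if and only if λ divides x −
1 in A. -/
theorem result (R : Type u) [CommRing R]
    [IsDomain R] [IsDiscreteValuationRing R] [CharZero R] (p n : ℕ) [Fact p.Prime] (hn : 1 ≤ n)
    (hp : (p : R) ∈ IsLocalRing.maximalIdeal R) (lam : R) (hlam : lam ≠ 0)
    (hstar : lam ^ (p ^ (n - 1) * (p - 1)) ∣ (p : R))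
    (A : Type u) [CommRing A] [IsDomain A] [IsIntegrallyClosed A] [Algebra R A] [Module.FaithfullyFlat R A]
    (x : Aˣ) :
    (algebraMap R A lam ^ p ^ n ∣ (x : A) ^ p ^ n - 1) ↔ (algebraMap R A lam ∣ (x : A) - 1) := by
  classical
  have hfwd : ∀ {T : Type u} [CommRing T] (μ : T), μ ^ (p ^ (n - 1) * (p - 1)) ∣ (p : T) → ∀ y : T,
      μ ^ p ^ n ∣ (1 + μ * y) ^ p ^ n - 1 := by
    intro T _ μ hμ y
    have key : ∀ i, i ≤ n → μ ^ p ^ i ∣ (1 + μ * y) ^ p ^ i - 1 := by
      intro i
      induction i with
      | zero => intro _; simp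
      | succ i ih =>
        intro hi
        obtain ⟨w, hw⟩ := ih (Nat.le_of_succ_le hi)
        rw [pow_succ, pow_mul, pow_mul, show (1 + μ * y) ^ p ^ i = 1 + μ ^ p ^ i * w by rw [← hw]; ring]
        obtain ⟨r, hr⟩ := exists_add_pow_prime_eq (Fact.out : p.Prime) (1 : T) (μ ^ p ^ i * w)
        obtain ⟨c, hc⟩ : μ ^ (p ^ i * (p - 1)) ∣ (p : T) :=
          (pow_dvd_pow μ (Nat.mul_le_mul_right _ (Nat.pow_le_pow_right (Fact.out : p.Prime).pos (by omega)))).trans hμ
        refine ⟨w ^ p + c * w * r, ?_⟩
        rw [hr, hc, one_pow, mul_pow]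
        have e : μ ^ (p ^ i * (p - 1)) * μ ^ p ^ i = (μ ^ p ^ i) ^ p := by
          rw [← pow_add, ← pow_mul]
          congr 1
          rw [← Nat.mul_succ, Nat.succ_eq_add_one, Nat.sub_add_cancel (Fact.out : p.Prime).one_le]
        linear_combination c * w * r * e
    exact key n le_rfl
  have hinj : Function.Injective (algebraMap R A) := FaithfulSMul.algebraMap_injective R A
  have hstarA : (algebraMap R A lam) ^ (p ^ (n - 1) * (p - 1)) ∣ (p : A) := by
    simpa using map_dvd (algebraMap R A) hstar
  constructor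
  · rintro ⟨c, hc⟩
    let μ := algebraMap R A lam
    have hμ : μ ≠ 0 := fun h => hlam (hinj (h.trans (map_zero _).symm))
    obtain ⟨q, hq⟩ := hfwd (T := Polynomial A) (Polynomial.C μ) (by simpa using map_dvd (Polynomial.C : A →+* Polynomial A) hstarA) Polynomial.X
    let K := FractionRing A
    let z : K := algebraMap A K ((x : A) - 1) / algebraMap A K μ
    have hμK : algebraMap A K μ ≠ 0 := fun h => hμ (IsFractionRing.injective A K (h.trans (map_zero _).symm))
    have hdeg : (q - Polynomial.C c).Monic := by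
      have hN : 0 < p ^ n := Nat.pow_pos (Fact.out : p.Prime).pos
      have h1 : q.coeff (p ^ n) = 1 ∧ ∀ k, p ^ n < k → q.coeff k = 0 := by
        have h2 : ∀ k, μ ^ p ^ n * q.coeff k = Polynomial.coeff ((1 + Polynomial.C μ * Polynomial.X) ^ p ^ n - 1) k := fun k => by
          rw [hq, ← Polynomial.C_pow, Polynomial.coeff_C_mul]
        have h3 : ∀ k, Polynomial.coeff ((1 + Polynomial.C μ * Polynomial.X) ^ p ^ n) k = μ ^ k * ((p ^ n).choose k) := fun k => by
          have e : (1 + Polynomial.C μ * Polynomial.X) ^ p ^ n = ((1 + Polynomial.X) ^ p ^ n).comp (Polynomial.C μ * Polynomial.X) := by simp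
          rw [e, Polynomial.comp_C_mul_X_coeff, Polynomial.coeff_one_add_X_pow, mul_comm]
        refine ⟨mul_left_cancel₀ (pow_ne_zero (p ^ n) hμ) ?_, fun k hk => mul_left_cancel₀ (pow_ne_zero (p ^ n) hμ) ?_⟩
        · rw [h2, Polynomial.coeff_sub, h3, Nat.choose_self, Polynomial.coeff_one, if_neg hN.ne', sub_zero]; simp
        · rw [h2, Polynomial.coeff_sub, h3, Nat.choose_eq_zero_of_lt hk, Polynomial.coeff_one, if_neg (hN.trans hk).ne']; simp
      refine Polynomial.monic_of_natDegree_le_of_coeff_eq_one (p ^ n) ?_ ?_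
      · refine (Polynomial.natDegree_sub_le _ _).trans (max_le ?_ (by simp))
        exact Polynomial.natDegree_le_iff_coeff_eq_zero.mpr h1.2
      · rw [Polynomial.coeff_sub, h1.1, Polynomial.coeff_C, if_neg hN.ne', sub_zero]
    have hz : IsIntegral A z := by
      refine ⟨_, hdeg, ?_⟩
      have h4 := congrArg (Polynomial.aeval z) hq
      simp only [map_sub, map_pow, map_add, map_one, map_mul, Polynomial.aeval_C, Polynomial.aeval_X] at h4
      rw [show 1 + algebraMap A K μ * z = algebraMap A K (x : A) by simp only [z]; rw [mul_div_cancel₀ _ hμK, map_sub, map_one]; ring] at h4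
      rw [← map_pow, ← map_one (algebraMap A K), ← map_sub, hc, map_mul, map_pow] at h4
      show Polynomial.aeval z (q - Polynomial.C c) = 0
      rw [map_sub, Polynomial.aeval_C, sub_eq_zero]
      exact (mul_left_cancel₀ (pow_ne_zero _ hμK) h4).symm
    obtain ⟨w, hw⟩ := IsIntegrallyClosed.isIntegral_iff.mp hz
    refine ⟨w, IsFractionRing.injective A K ?_⟩
    rw [map_mul, hw]
    simp only [z]
    rw [mul_div_cancel₀ _ hμK]
  · rintro ⟨y, hy⟩
    rw [show (x : A) = 1 + algebraMap R A lam * y by rw [← hy]; ring]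
    exact hfwd _ hstarA y

end Groth.Agent.S13158
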