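import Groth.Statements.S13159
import Mathlib.RingTheory.DiscreteValuationRing.Basic
import Mathlib.RingTheory.IntegralClosure.IntegrallyClosed
import Mathlib.RingTheory.Algebraic.Integral
import Mathlib.RingTheory.Polynomial.RationalRoot
import Mathlib.RingTheory.PrincipalIdealDomain
-- import your own Groth.Agent.* helpers here

set_option autoImplicit false
set_option linter.style.haveILetI false
set_option linter.unusedSimpArgs false
universe u
open CAlg

namespace Groth.Agent.S13159

/-- Let R be a discrete valuation ring with fraction field K, C an R-algebra which is finitely generated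
as an R-module (the coordinate ring of a finite R-scheme G), and A an integral domain which is an
R-algebra with injective structure map and fraction field L, K → L being compatible, such that every
element of L algebraic over K lies in the image of K (the condition satisfied by the rings of
nonempty opens of an R-scheme with geometrically integral fibres). Then every R-algebra homomorphism
C → A factors uniquely through the structure map R → A: the points of G with values in A are the
R-points of G. (The published statement is that for Y → Spec R with geometrically integral fibres
and G finite flat, the map H¹(Y, G) → H⁰(Y_Zar, R¹f_*G) from the Leray spectral sequence of Y_fl →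
Y_Zar is bijective; this row is the step asserting that G restricted to the Zariski site of Y is the
constant sheaf G(R), for an affine open with function ring A.) -/
theorem result (R : Type u) [CommRing R]
    [IsDomain R] [IsDiscreteValuationRing R] (K : Type u) [Field K] [Algebra R K] [IsFractionRing R K]
    (C : Type u) [CommRing C] [Algebra R C] [Module.Finite R C]
    (A : Type u) [CommRing A] [IsDomain A] [Algebra R A] (hinj : Function.Injective (algebraMap R A))
    (L : Type u) [Field L] [Algebra A L] [IsFractionRing A L] [Algebra R L] [Algebra K L]
    [IsScalarTower R A L] [IsScalarTower R K L]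
    (hac : ∀ x : L, IsAlgebraic K x → x ∈ (algebraMap K L).range)
    (φ : C →ₐ[R] A) : ∃! ψ : C →ₐ[R] R, φ = (Algebra.ofId R A).comp ψ := by
  haveI : Algebra.IsIntegral R C := Algebra.IsIntegral.of_finite R C
  have hmem : ∀ c : C, ∃ r : R, algebraMap R A r = φ c := by
    intro c
    have h1 : IsIntegral R (φ c) := (Algebra.IsIntegral.isIntegral c).map φ
    have h2 : IsIntegral R (algebraMap A L (φ c)) := h1.map (IsScalarTower.toAlgHom R A L)
    obtain ⟨x, hx⟩ := hac _ h2.tower_top.isAlgebraic
    have h3 : IsIntegral R x :=
      (isIntegral_algHom_iff (IsScalarTower.toAlgHom R K L) (algebraMap K L).injective).1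
        (show IsIntegral R (IsScalarTower.toAlgHom R K L x) by
          rw [IsScalarTower.toAlgHom_apply, hx]; exact h2)
    obtain ⟨r, hr⟩ := (IsIntegrallyClosed.isIntegral_iff).1 h3
    refine ⟨r, IsFractionRing.injective A L ?_⟩
    rw [← hx, ← hr, ← IsScalarTower.algebraMap_apply, ← IsScalarTower.algebraMap_apply]
  choose ρ hρ using hmem
  let ψ : C →ₐ[R] R :=
    { toFun := ρ
      map_one' := hinj (by rw [hρ, map_one, map_one])
      map_mul' := fun x y => hinj (by rw [hρ, map_mul, map_mul, hρ, hρ])
      map_zero' := hinj (by rw [hρ, map_zero, map_zero])
      map_add' := fun x y => hinj (by rw [hρ, map_add, map_add, hρ, hρ])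
      commutes' := fun r => hinj (by simp [hρ]) }
  refine ⟨ψ, AlgHom.ext fun c => (hρ c).symm, fun χ hχ => AlgHom.ext fun c => hinj ?_⟩
  exact ((AlgHom.congr_fun hχ c).symm.trans (hρ c).symm)

end Groth.Agent.S13159
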