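import Groth.Statements.S13160
import Groth.Agent.WittFilUFD.Basic
import Mathlib.RingTheory.WittVector.InitTail
import Mathlib.RingTheory.WittVector.Domain
import Mathlib.RingTheory.WittVector.Frobenius
import Mathlib.RingTheory.DiscreteValuationRing.Basic
import Mathlib.Tactic.Abel

set_option autoImplicit false
universe u
open CAlg Groth.Agent

namespace Groth.Agent.S13160

/-- Let R be a discrete valuation ring, p a prime number and λ an element of R dividing p (so that R/λR
is an 𝔽_p-algebra), and let a and b be p-typical Witt vectors with coefficients in R/λR which are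
killed by the Frobenius endomorphism. Then the Witt sum a + b has components a_n + b_n for every n.
(The published statement allows an arbitrary λ ∈ R and is stated for Witt vectors with finitely many
nonzero components; this row assumes that λ divides p, so that p = 0 in R/λR, and allows all Witt
vectors.) -/
theorem result (R : Type u) [CommRing R] [IsDomain R]
    [IsDiscreteValuationRing R] (p : ℕ) [Fact p.Prime] (lam : R) (hlam : lam ∣ (p : R))
    (a b : WittVector p (R ⧸ Ideal.span {lam})) (ha : WittVector.frobenius a = 0)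
    (hb : WittVector.frobenius b = 0) (n : ℕ) : (a + b).coeff n = a.coeff n + b.coeff n := by
  classical
  rcases subsingleton_or_nontrivial (R ⧸ Ideal.span {lam}) with hS | hS
  · exact Subsingleton.elim _ _
  haveI : CharP (R ⧸ Ideal.span {lam}) p := by
    refine (CharP.charP_iff_prime_eq_zero Fact.out).mpr ?_
    rw [← map_natCast (Ideal.Quotient.mk (Ideal.span {lam})), Ideal.Quotient.eq_zero_iff_mem, Ideal.mem_span_singleton]
    exact hlam
  have hp := (Fact.out : p.Prime)
  have hnil : ∀ x : WittVector p (R ⧸ Ideal.span {lam}), WittVector.frobenius x = 0 → ∀ n, x.coeff n ^ p = 0 :=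
    fun x hx n => by rw [← WittVector.coeff_frobenius_charP, hx, WittVector.zero_coeff]
  obtain ⟨π, hπ, hdiv⟩ : ∃ π : R ⧸ Ideal.span {lam}, π ^ p = 0 ∧ ∀ z, z ^ p = 0 → π ∣ z := by
    by_cases hl : lam = 0
    · refine ⟨0, zero_pow hp.ne_zero, fun z hz => ?_⟩
      obtain ⟨r, rfl⟩ := Ideal.Quotient.mk_surjective z
      rw [← map_pow, Ideal.Quotient.eq_zero_iff_mem, hl, Ideal.mem_span_singleton, zero_dvd_iff] at hz
      rw [eq_zero_of_pow_eq_zero hz, map_zero]
    obtain ⟨ϖ, hϖ⟩ := IsDiscreteValuationRing.exists_irreducible R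
    obtain ⟨v, u, hu⟩ := IsDiscreteValuationRing.eq_unit_mul_pow_irreducible hl hϖ
    have hmem : ∀ r, Ideal.Quotient.mk (Ideal.span {lam}) r = 0 ↔ ϖ ^ v ∣ r := fun r => by
      rw [Ideal.Quotient.eq_zero_iff_mem, Ideal.mem_span_singleton, hu, Units.mul_left_dvd]
    refine ⟨Ideal.Quotient.mk _ (ϖ ^ ((v + p - 1) / p)), ?_, fun z hz => ?_⟩
    · rw [← map_pow, hmem, ← pow_mul]
      refine pow_dvd_pow _ ?_
      have := Nat.lt_div_mul_add (a := v + p - 1) hp.pos
      omega
    · obtain ⟨r, rfl⟩ := Ideal.Quotient.mk_surjective z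
      by_cases hr : r = 0
      · rw [hr, map_zero]; exact dvd_zero _
      obtain ⟨t, w, rfl⟩ := IsDiscreteValuationRing.eq_unit_mul_pow_irreducible hr hϖ
      refine map_dvd _ (Dvd.dvd.mul_left (pow_dvd_pow ϖ ?_) _)
      rw [← map_pow, hmem, mul_pow, ← pow_mul, IsUnit.dvd_mul_left (w.isUnit.pow p),
        pow_dvd_pow_iff hϖ.ne_zero hϖ.not_isUnit] at hz
      rw [Nat.div_le_iff_le_mul_add_pred hp.pos]
      have := mul_comm p t
      omega
  have h0 : ∀ a b : R ⧸ Ideal.span {lam}, π ∣ a → π ∣ b → ∀ n, 0 < n →
      (WittVector.teichmuller p a + WittVector.teichmuller p b).coeff n = 0 := by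
    rintro _ _ ⟨a, rfl⟩ ⟨b, rfl⟩ n hn
    rw [map_mul, map_mul, ← mul_add, WittFilUFD.teichmuller_mul_coeff]
    rw [pow_eq_zero_of_le (Nat.le_self_pow hn.ne' p) hπ, zero_mul]
  have hsplit : ∀ x : WittVector p (R ⧸ Ideal.span {lam}),
      x = WittVector.teichmuller p (x.coeff 0) + WittVector.verschiebung (x.shift 1) := by
    intro x
    ext i
    rw [WittVector.coeff_add_of_disjoint]
    · cases i with
      | zero => simp [WittVector.verschiebung_coeff_zero]
      | succ i => rw [WittVector.teichmuller_coeff_pos _ _ _ (Nat.succ_pos i), WittVector.verschiebung_coeff_succ,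
          WittVector.shift_coeff, zero_add, Nat.add_comm]
    · intro j
      cases j with
      | zero => exact Or.inr (WittVector.verschiebung_coeff_zero _)
      | succ j => exact Or.inl (WittVector.teichmuller_coeff_pos _ _ _ (Nat.succ_pos j))
  have main : ∀ (n : ℕ) (a b : WittVector p (R ⧸ Ideal.span {lam})), (∀ i, π ∣ a.coeff i) → (∀ i, π ∣ b.coeff i) →
      (a + b).coeff n = a.coeff n + b.coeff n := by
    intro n
    induction n with
    | zero => intro a b _ _; exact WittVector.add_coeff_zero _ _
    | succ n ih =>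
      intro a b ha hb
      set T := WittVector.teichmuller p (a.coeff 0) + WittVector.teichmuller p (b.coeff 0)
      set W := WittVector.verschiebung (a.shift 1 + b.shift 1)
      have e : a + b = T + W := by
        conv_lhs => rw [hsplit a, hsplit b]
        simp only [T, W, map_add]
        abel
      rw [e, WittVector.coeff_add_of_disjoint, show T.coeff (n + 1) = 0 from h0 _ _ (ha 0) (hb 0) _ (Nat.succ_pos n),
        show W.coeff (n + 1) = _ from WittVector.verschiebung_coeff_succ _ _, zero_add,
        ih (a.shift 1) (b.shift 1) (fun i => ha _) (fun i => hb _), WittVector.shift_coeff, WittVector.shift_coeff, Nat.add_comm 1 n]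
      intro j
      cases j with
      | zero => exact Or.inr (WittVector.verschiebung_coeff_zero _)
      | succ j => exact Or.inl (h0 _ _ (ha 0) (hb 0) _ (Nat.succ_pos j))
  exact main n a b (fun i => hdiv _ (hnil a ha i)) (fun i => hdiv _ (hnil b hb i))

end Groth.Agent.S13160
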