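import Groth.Statements.S13161
import Mathlib.RingTheory.Localization.Module
import Mathlib.RingTheory.Localization.BaseChange
-- import your own Groth.Agent.* helpers here

set_option autoImplicit false
set_option linter.style.haveILetI false
set_option linter.unusedSimpArgs false
universe u
open scoped TensorProduct
open CAlg

namespace Groth.Agent.S13161

/-- Let R be a discrete valuation ring with fraction field K, A an R-algebra which is semireflexive as
an R-module (the map to its double dual is injective: every nonzero a ∈ A has an R-linear form f : A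
→ R with f(a) ≠ 0), and B an A-algebra which is finitely generated as an A-module and flat over R.
Suppose B ⊗ K is semireflexive as a module over A ⊗ K, which for such B amounts to: every nonzero b
∈ B has an A-linear map g : B → A ⊗_R K with g(b) ≠ 0. Then B is semireflexive as an R-module: every
nonzero b ∈ B has an R-linear form h : B → R with h(b) ≠ 0. (The published statement phrases the
hypothesis on B_K as an A_K-module; for B flat over R and finite over A this is the elementwise
condition used here.) -/
theorem result (R : Type u) [CommRing R] [IsDomain R]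
    [IsDiscreteValuationRing R] (K : Type u) [Field K] [Algebra R K] [IsFractionRing R K]
    (A B : Type u) [CommRing A] [CommRing B] [Algebra R A] [Algebra R B] [Algebra A B] [IsScalarTower R A B]
    [Module.Finite A B] [Module.Flat R B]
    (hA : ∀ a : A, a ≠ 0 → ∃ f : A →ₗ[R] R, f a ≠ 0)
    (hBK : ∀ b : B, b ≠ 0 → ∃ g : B →ₗ[A] A ⊗[R] K, g b ≠ 0) :
    ∀ b : B, b ≠ 0 → ∃ h : B →ₗ[R] R, h b ≠ 0 := by
  classical
  intro b hb
  obtain ⟨g, hg⟩ := hBK b hb
  let j : A →ₗ[A] A ⊗[R] K :=
    { toFun := fun a => a ⊗ₜ 1
      map_add' := fun x y => TensorProduct.add_tmul x y 1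
      map_smul' := fun a x => by simp [TensorProduct.smul_tmul'] }
  have hloc : IsLocalizedModule (nonZeroDivisors R) ((TensorProduct.mk R A K).flip 1) := by
    have h := (isLocalizedModule_iff_isBaseChange (nonZeroDivisors R) K
      (((TensorProduct.mk R K A) 1))).2 (TensorProduct.isBaseChange R A K)
    have e : (TensorProduct.mk R A K).flip 1 =
        (TensorProduct.comm R K A).toLinearMap ∘ₗ (TensorProduct.mk R K A) 1 := by
      ext a; simp
    rw [e]
    exact IsLocalizedModule.of_linearEquiv (nonZeroDivisors R) _ (TensorProduct.comm R K A)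
  have tf : ∀ (c : nonZeroDivisors R) (a : A), (c : R) • a = 0 → a = 0 := by
    intro c a h
    by_contra ha
    obtain ⟨f, hf⟩ := hA a ha
    refine hf ?_
    have := congrArg f h
    rw [map_smul, map_zero, smul_eq_mul, mul_eq_zero] at this
    exact this.resolve_left (nonZeroDivisors.coe_ne_zero c)
  have hjinj : Function.Injective j := by
    intro x y h
    obtain ⟨c, hc⟩ := IsLocalizedModule.exists_of_eq (S := nonZeroDivisors R)
      (f := (TensorProduct.mk R A K).flip 1) (x₁ := x) (x₂ := y) h
    exact sub_eq_zero.1 (tf c _ (by rw [smul_sub, sub_eq_zero]; exact hc))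
  have hclear : ∀ z : A ⊗[R] K, ∃ c : nonZeroDivisors R, (c : R) • z ∈ LinearMap.range j := by
    intro z
    obtain ⟨⟨a, c⟩, hac⟩ := IsLocalizedModule.surj (nonZeroDivisors R) ((TensorProduct.mk R A K).flip 1) z
    exact ⟨c, a, hac.symm⟩
  obtain ⟨G, hG⟩ := (Module.Finite.fg_top : (⊤ : Submodule A B).FG)
  choose c hc using hclear
  let d : R := ∏ y ∈ G, (c (g y) : R)
  have hd : d ∈ nonZeroDivisors R := Submonoid.prod_mem _ fun y _ => (c (g y)).2
  let g' : B →ₗ[A] A ⊗[R] K := (algebraMap R A d) • g
  have hrange : ∀ y, g' y ∈ LinearMap.range j := by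
    intro y
    have hy : y ∈ Submodule.span A (G : Set B) := hG ▸ Submodule.mem_top
    induction hy using Submodule.span_induction with
    | mem y hy =>
      have e : d = (∏ z ∈ G.erase y, (c (g z) : R)) * (c (g y) : R) :=
        (Finset.prod_erase_mul G _ hy).symm
      simp only [g', LinearMap.smul_apply, algebraMap_smul]
      rw [e, mul_smul, ← algebraMap_smul A]
      exact Submodule.smul_mem _ _ (hc (g y))
    | zero => simp
    | add x y _ _ hx hy => rw [map_add]; exact add_mem hx hy
    | smul a x _ hx => rw [map_smul]; exact Submodule.smul_mem _ _ hx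
  let e := LinearEquiv.ofInjective j hjinj
  let g'' : B →ₗ[A] A := e.symm.toLinearMap ∘ₗ LinearMap.codRestrict _ g' hrange
  have hne : g'' b ≠ 0 := by
    intro h
    have h1 : (LinearMap.codRestrict (LinearMap.range j) g' hrange) b = 0 := by
      simpa [g''] using h
    have h2 : d • g b = 0 := by
      simpa [g', Subtype.ext_iff, algebraMap_smul] using h1
    refine hg ?_
    have hu := IsLocalizedModule.map_units ((TensorProduct.mk R A K).flip 1) (⟨d, hd⟩ : nonZeroDivisors R)
    exact ((Module.End.isUnit_iff _).1 hu).1 (by simpa using h2)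
  obtain ⟨f, hf⟩ := hA _ hne
  exact ⟨f ∘ₗ g''.restrictScalars R, hf⟩

end Groth.Agent.S13161
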