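import Groth.Statements.S13162
import Mathlib

set_option autoImplicit false
universe u v
open ZeroCyc

namespace Groth.Agent.S13162

/-- Let a finite group G act on a commutative ring A by ring automorphisms and let p be a prime such
that every integer prime to p is a unit in A. If I is an ideal of A and f ∈ A has G-invariant class
modulo I, then f^(p^k) is congruent modulo I to a G-invariant element of A, where p^k is the exact
power of p dividing the order of G. (The published statement assumes I stable under G, so that G
acts on A/I and the claim reads: the p^k-th power of an invariant of A/I lies in the image of the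
invariants of A; the form here asks only that the class of f be invariant.) -/
theorem result {A : Type u} [CommRing A] {G : Type v} [Group G] [Fintype G]
    [MulSemiringAction G A] (p : ℕ) [Fact p.Prime]
    (hA : ∀ m : ℕ, ¬ p ∣ m → IsUnit (m : A))
    (I : Ideal A) (f : A) (hf : ∀ g : G, g • f - f ∈ I) :
    ∃ a : A, (∀ g : G, g • a = a) ∧ a - f ^ (p ^ (Fintype.card G).factorization p) ∈ I := by
  classical
  obtain ⟨P⟩ : Nonempty (Sylow p G) := inferInstance
  have hcard : Nat.card P = p ^ (Fintype.card G).factorization p := by
    rw [Sylow.card_eq_multiplicity, Nat.card_eq_fintype_card]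
  have hmk : ∀ g : G, Ideal.Quotient.mk I (g • f) = Ideal.Quotient.mk I f := fun g =>
    Ideal.Quotient.mk_eq_mk_iff_sub_mem _ _ |>.mpr (hf g)
  let a0 : A := ∏ h : P, (h : G) • f
  have ha0 : ∀ g : G, Ideal.Quotient.mk I (g • a0) =
      Ideal.Quotient.mk I f ^ (p ^ (Fintype.card G).factorization p) := by
    intro g
    rw [Finset.smul_prod', map_prod, ← hcard, Nat.card_eq_fintype_card]
    simp only [← mul_smul, hmk, Finset.prod_const, Finset.card_univ]
  have hinv : ∀ h ∈ (P : Subgroup G), h • a0 = a0 := by
    intro h hh
    simp only [a0, Finset.smul_prod', ← mul_smul]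
    exact Fintype.prod_equiv (Equiv.mulLeft (⟨h, hh⟩ : P)) _ _ fun _ => rfl
  let φ : G ⧸ (P : Subgroup G) → A := fun q => Quotient.liftOn' q (fun g => g • a0) (by
    intro g g' hgg
    have hm : g⁻¹ * g' ∈ (P : Subgroup G) := QuotientGroup.leftRel_apply.mp hgg
    show g • a0 = g' • a0
    conv_lhs => rw [← hinv _ hm]
    rw [← mul_smul, mul_inv_cancel_left])
  have hφ : ∀ (g : G) q, g • φ q = φ (g • q) := by
    intro g q
    induction q using Quotient.inductionOn' with
    | h g' => exact (mul_smul g g' a0).symm
  have hidx : ¬ p ∣ Nat.card (G ⧸ (P : Subgroup G)) := by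
    rw [← Subgroup.index_eq_card]
    exact P.not_dvd_index
  obtain ⟨u, hu⟩ := hA _ hidx
  refine ⟨(↑u⁻¹ : A) * ∑ q, φ q, fun g => ?_, ?_⟩
  · have hu1 : g • (↑u⁻¹ : A) = ↑u⁻¹ := by
      have h1 : g • (u : A) = u := by
        rw [hu]; exact map_natCast (MulSemiringAction.toRingHom G A g) _
      refine u.mul_right_inj.mp ?_
      conv_lhs => rw [← h1]
      rw [← smul_mul', Units.mul_inv, smul_one]
    rw [smul_mul', hu1, Finset.smul_sum]
    congr 1
    exact Fintype.sum_equiv (MulAction.toPerm g) _ _ fun q => hφ g q
  · rw [← Ideal.Quotient.mk_eq_mk_iff_sub_mem, map_mul, map_sum, map_pow]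
    have h : ∀ q, Ideal.Quotient.mk I (φ q) =
        Ideal.Quotient.mk I f ^ (p ^ (Fintype.card G).factorization p) := by
      intro q
      induction q using Quotient.inductionOn' with
      | h g' => exact ha0 g'
    rw [Finset.sum_congr rfl fun q _ => h q, Finset.sum_const, nsmul_eq_mul, ← mul_assoc,
      Finset.card_univ, ← Nat.card_eq_fintype_card, ← map_natCast (Ideal.Quotient.mk I), ← map_mul,
      ← hu, Units.inv_mul, map_one, one_mul]

end Groth.Agent.S13162
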