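import Groth.Statements.S13163
-- import your own Groth.Agent.* helpers here

set_option autoImplicit false
universe u
open ZeroCyc

namespace Groth.Agent.S13163

open Polynomial in
/-- Let P_d(T) = ∏_{0 ≤ i < j ≤ d} (T^i − T^j) − 1 ∈ ℤ[T]. Every residue field of ℤ[T]/(P_d), i.e. every
field receiving a ring homomorphism from it, has at least d + 1 elements. -/
theorem result (d : ℕ) (k : Type u) [Field k]
    (φ : (ℤ[X] ⧸ Ideal.span {(∏ j ∈ Finset.range (d + 1), ∏ i ∈ Finset.range j,
        ((X : ℤ[X]) ^ i - X ^ j)) - 1}) →+* k) :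
    ((d + 1 : ℕ) : Cardinal) ≤ Cardinal.mk k := by
  classical
  set q : ℤ[X] := ∏ j ∈ Finset.range (d + 1), ∏ i ∈ Finset.range j, ((X : ℤ[X]) ^ i - X ^ j) with hq
  have h1 : φ (Ideal.Quotient.mk _ q) = 1 := by
    have : Ideal.Quotient.mk (Ideal.span {q - 1}) q = 1 := by
      rw [← map_one (Ideal.Quotient.mk (Ideal.span {q - 1})), Ideal.Quotient.eq]
      exact Ideal.subset_span rfl
    rw [this, map_one]
  set x : k := φ (Ideal.Quotient.mk _ X)
  simp only [hq, map_prod, map_sub, map_pow] at h1
  have hne : ∀ i j : ℕ, i < j → j ≤ d → x ^ i ≠ x ^ j := by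
    intro i j hij hjd h
    rw [Finset.prod_eq_zero (i := j) (Finset.mem_range.mpr (by omega))] at h1
    · exact zero_ne_one h1
    · exact Finset.prod_eq_zero (i := i) (Finset.mem_range.mpr hij) (sub_eq_zero.mpr h)
  have hinj : Function.Injective (fun i : Fin (d + 1) => x ^ (i : ℕ)) := by
    intro i j h
    rcases lt_trichotomy (i : ℕ) j with hl | hl | hl
    · exact absurd h (hne _ _ hl (by omega))
    · exact Fin.ext hl
    · exact absurd h.symm (hne _ _ hl (by omega))
  simpa using Cardinal.mk_le_of_injective (hinj.comp Equiv.ulift.{u}.injective)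

end Groth.Agent.S13163
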