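import Groth.Statements.S13166
import Groth.Agent.ZeroCycGen

set_option autoImplicit false
universe u
open ZeroCyc

namespace Groth.Agent.S13166

/-- Let k be a field, B a k-algebra generated as an algebra by a k-subspace V, k'/k a field extension
and x_1, …, x_d pairwise distinct k'-points of B ⊗_k k' (equivalently, distinct k-algebra
homomorphisms B → k'). If k has at least d(d − 1)/2 elements, then there is b ∈ V whose values at
x_1, …, x_d are pairwise distinct. -/
theorem result {k : Type u} [Field k] {B : Type u} [CommRing B] [Algebra k B] (V : Submodule k B)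
    (hV : Algebra.adjoin k (V : Set B) = ⊤) {k' : Type u} [Field k'] [Algebra k k']
    {d : ℕ} (x : Fin d → (B →ₐ[k] k')) (hx : Function.Injective x)
    (hk : ((d.choose 2 : ℕ) : Cardinal) ≤ Cardinal.mk k) :
    ∃ b ∈ V, Function.Injective fun i => x i b := by
  classical
  let W : Finset (Fin d) → Submodule k V := fun S =>
    ⨅ i ∈ S, ⨅ j ∈ S, LinearMap.eqLocus ((x i).toLinearMap.comp V.subtype) ((x j).toLinearMap.comp V.subtype)
  let s : Finset {S : Finset (Fin d) // ∃ i j, i ≠ j ∧ S = {i, j}} := Finset.univ
  have hmemW : ∀ i j (b : V), b ∈ W {i, j} ↔ x i b = x j b := by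
    intro i j b
    simp only [W, Submodule.mem_iInf, LinearMap.mem_eqLocus, Finset.mem_insert, Finset.mem_singleton,
      LinearMap.coe_comp, Submodule.coe_subtype, Function.comp_apply, AlgHom.toLinearMap_apply]
    constructor
    · intro h; exact h i (Or.inl rfl) j (Or.inr rfl)
    · rintro h a (rfl | rfl) c (rfl | rfl) <;> first | rfl | exact h | exact h.symm
  obtain ⟨b, hb⟩ := Groth.Agent.ZeroCycGen.exists_forall_notMem
    (fun S : {S : Finset (Fin d) // ∃ i j, i ≠ j ∧ S = {i, j}} => W S.1) (⊥ : Ideal k)
    (fun i r m hr hm => by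
      have hr' : r ≠ 0 := fun h => hr (h ▸ Submodule.zero_mem _)
      exact (Submodule.smul_mem_iff _ hr').mp hm)
    (fun S h => by
      obtain ⟨i, j, hij, hS⟩ := S.2
      refine hij (hx (AlgHom.ext_of_adjoin_eq_top hV fun v hv => ?_))
      have : (⟨v, hv⟩ : V) ∈ W S.1 := h ▸ trivial
      rw [hS] at this
      exact (hmemW i j _).mp this) s (by
      refine le_trans ?_ (hk.trans (Cardinal.mk_le_of_injective
        (algebraMap k (⊥ : Ideal k).ResidueField).injective))
      refine Nat.cast_le.mpr ?_
      have h1 : s.card ≤ (Finset.univ.powersetCard 2 : Finset (Finset (Fin d))).card := by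
        refine Finset.card_le_card_of_injOn Subtype.val (fun S _ => ?_) (Subtype.val_injective.injOn)
        obtain ⟨i, j, hij, hS⟩ := S.2
        rw [Finset.mem_coe, hS, Finset.mem_powersetCard]
        exact ⟨Finset.subset_univ _, Finset.card_pair hij⟩
      simpa [Finset.card_powersetCard] using h1)
  refine ⟨b, b.2, fun i j h => ?_⟩
  by_contra hij
  exact hb ⟨{i, j}, i, j, hij, rfl⟩ (Finset.mem_univ _) ((hmemW i j b).mpr h)

end Groth.Agent.S13166
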