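import Groth.Statements.S13169
import Groth.Agent.GrT.TwistMul
import Groth.Agent.ZeroCycGen

set_option autoImplicit false
universe u
open AlgebraicGeometry
open ZeroCyc

namespace Groth.Agent.S13169


theorem exists_cover {R A : Type u} [CommRing R] [CommRing A] [Algebra R A] (𝒜 : ℕ → Submodule R A) [GradedAlgebra 𝒜]
    {s : ℕ} (f : Fin s → A) (deg : Fin s → ℕ) (hdeg : ∀ i, 0 < deg i) (hf : ∀ i, f i ∈ 𝒜 (deg i))
    (hgen : Algebra.adjoin R (Set.range f) = ⊤) {a : ℕ} (x : ProjectiveSpectrum 𝒜) :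
    ∃ g ∈ 𝒜 (a * Finset.univ.lcm deg), g ∉ x.asHomogeneousIdeal := by
  obtain ⟨i, hi⟩ : ∃ i, f i ∉ x.asHomogeneousIdeal := by
    by_contra h
    push Not at h
    exact x.not_irrelevant_le (Groth.Agent.ZeroCycGen.irrelevant_le 𝒜 hgen _ (Set.range_subset_iff.mpr h))
  obtain ⟨k, hk⟩ : deg i ∣ a * Finset.univ.lcm deg := (Finset.dvd_lcm (Finset.mem_univ i)).mul_left a
  refine ⟨f i ^ k, ?_, GrT.not_mem_pow 𝒜 hi k⟩
  rw [hk, mul_comm (deg i) k, ← smul_eq_mul]
  exact SetLike.pow_mem_graded _ (hf i)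

/-- Let B be a graded R-algebra generated by homogeneous elements f_1, …, f_s of positive degrees d_1,
…, d_s, let l be the least common multiple of the d_i and X = Proj B. For n = a l with a ≥ 1, the
twisting sheaf O_X(n) is ample and is generated by its global sections b/1, b ∈ B_n. -/
theorem result {R A : Type u} [CommRing R] [CommRing A] [Algebra R A] (𝒜 : ℕ → Submodule R A) [GradedAlgebra 𝒜]
    {s : ℕ} (f : Fin s → A) (deg : Fin s → ℕ) (hdeg : ∀ i, 0 < deg i) (hf : ∀ i, f i ∈ 𝒜 (deg i))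
    (hgen : Algebra.adjoin R (Set.range f) = ⊤) (a : ℕ) (ha : 0 < a) :
    CohB1.IsAmple (Twist.twist 𝒜 ((a * Finset.univ.lcm deg : ℕ) : ℤ)) ∧
      ProjUP.GeneratedBy (Twist.twist 𝒜 ((a * Finset.univ.lcm deg : ℕ) : ℤ))
        (fun b : 𝒜 (a * Finset.univ.lcm deg) =>
          (Twist.globalOf 𝒜 b : ProjUP.Γm (Twist.twist 𝒜 ((a * Finset.univ.lcm deg : ℕ) : ℤ)))) := by
  have hcov := exists_cover 𝒜 f deg hdeg hf hgen (a := a)
  have hl : 0 < a * Finset.univ.lcm deg := Nat.mul_pos ha (Nat.pos_of_ne_zero fun h => by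
    obtain ⟨i, -, hi⟩ := (Finset.lcm_eq_zero_iff).mp h
    exact (hdeg i).ne' hi)
  haveI : CompactSpace (Proj 𝒜) := ⟨by
    have : (Set.univ : Set (Proj 𝒜)) = ⋃ i ∈ (Finset.univ : Finset (Fin s)), (Proj.basicOpen 𝒜 (f i) : Set (Proj 𝒜)) := by
      refine (Set.eq_univ_of_forall fun x => ?_).symm
      by_contra h
      refine x.not_irrelevant_le (Groth.Agent.ZeroCycGen.irrelevant_le 𝒜 hgen _ (Set.range_subset_iff.mpr fun i => ?_))
      by_contra hi
      exact h (Set.mem_iUnion₂.mpr ⟨i, Finset.mem_univ i, (ProjectiveSpectrum.mem_basicOpen 𝒜 _ x).mpr hi⟩)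
    rw [this]
    exact Finset.univ.isCompact_biUnion fun i _ => (ProjLib.isAffineOpen_basicOpen 𝒜 (hf i) (hdeg i)).isCompact⟩
  refine ⟨GrT.isAmple_twist_of_cover hl hcov, GrT.generatedBy_twist _ fun x i j b g hb hg hij hgx => ?_⟩
  obtain ⟨q, hq, hqx⟩ := hcov x
  refine ⟨a * Finset.univ.lcm deg + j, q, SetLike.mul_mem_graded hq hg, hqx, ?_⟩
  refine Submodule.mul_mem_mul hq ?_
  rwa [show a * Finset.univ.lcm deg + j = i by omega]

end Groth.Agent.S13169
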