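import Groth.Statements.S13170
import Groth.Agent.GrT.TwistMul
import Groth.Agent.ZeroCycGen

set_option autoImplicit false
universe u
open AlgebraicGeometry CategoryTheory
open ZeroCyc

namespace Groth.Agent.S13170


theorem exists_cover {R A : Type u} [CommRing R] [CommRing A] [Algebra R A] (𝒜 : ℕ → Submodule R A) [GradedAlgebra 𝒜]
    {s : ℕ} (f : Fin s → A) (deg : Fin s → ℕ) (hdeg : ∀ i, 0 < deg i) (hf : ∀ i, f i ∈ 𝒜 (deg i))
    (hgen : Algebra.adjoin R (Set.range f) = ⊤) {a : ℕ} (x : ProjectiveSpectrum 𝒜) :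
    ∃ g ∈ 𝒜 (a * Finset.univ.lcm deg), g ∉ x.asHomogeneousIdeal := by
  obtain ⟨i, hi⟩ : ∃ i, f i ∉ x.asHomogeneousIdeal := by
    by_contra h
    push Not at h
    exact x.not_irrelevant_le (Groth.Agent.ZeroCycGen.irrelevant_le 𝒜 hgen _ (Set.range_subset_iff.mpr h))
  obtain ⟨k, hk⟩ : deg i ∣ a * Finset.univ.lcm deg := (Finset.dvd_lcm (Finset.mem_univ i)).mul_left a
  refine ⟨f i ^ k, ?_, GrT.not_mem_pow 𝒜 hi k⟩
  rw [hk, mul_comm (deg i) k, ← smul_eq_mul]
  exact SetLike.pow_mem_graded _ (hf i)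

/-- Let B be a graded R-algebra generated by homogeneous elements f_1, …, f_s of positive degrees d_1,
…, d_s, let l be the least common multiple of the d_i and X = Proj B. For all integers a and n,
O_X(al) ⊗ O_X(n) ≅ O_X(al + n). (The published statement asserts that the canonical multiplication
map is an isomorphism; this row asserts only that an isomorphism exists.) -/
theorem result {R A : Type u} [CommRing R] [CommRing A] [Algebra R A] (𝒜 : ℕ → Submodule R A) [GradedAlgebra 𝒜]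
    {s : ℕ} (f : Fin s → A) (deg : Fin s → ℕ) (hdeg : ∀ i, 0 < deg i) (hf : ∀ i, f i ∈ 𝒜 (deg i))
    (hgen : Algebra.adjoin R (Set.range f) = ⊤) (a n : ℤ) :
    Nonempty (CohB1.tensorMod (Twist.twist 𝒜 (a * (Finset.univ.lcm deg : ℕ))) (Twist.twist 𝒜 n) ≅
      Twist.twist 𝒜 (a * (Finset.univ.lcm deg : ℕ) + n)) := by
  have hb : GrT.HasFracGens 𝒜 (a * (Finset.univ.lcm deg : ℕ)) :=
    GrT.hasFracGens_of_cover (fun x => by
      simpa using exists_cover 𝒜 f deg hdeg hf hgen (a := 1) x) a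
  exact GrT.nonempty_twist_tensor_iso 𝒜 hb (add_comm n _)

end Groth.Agent.S13170
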