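import Groth.Statements.S13171
import Groth.Agent.GrT.TwistMul
import Groth.Agent.ZeroCycGen

set_option autoImplicit false
universe u
open AlgebraicGeometry
open ZeroCyc

namespace Groth.Agent.S13171

/-- Let B be a graded R-algebra generated by homogeneous elements f_1, …, f_s of positive degrees d_1,
…, d_s, let l be the least common multiple of the d_i and X = Proj B. For n ≥ (s − 1)(l − 1), O_X(n)
is generated by its global sections b/1, b ∈ B_n. -/
theorem result {R A : Type u} [CommRing R] [CommRing A] [Algebra R A] (𝒜 : ℕ → Submodule R A) [GradedAlgebra 𝒜]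
    {s : ℕ} (f : Fin s → A) (deg : Fin s → ℕ) (hdeg : ∀ i, 0 < deg i) (hf : ∀ i, f i ∈ 𝒜 (deg i))
    (hgen : Algebra.adjoin R (Set.range f) = ⊤) (n : ℕ) (hn : (s - 1) * (Finset.univ.lcm deg - 1) ≤ n) :
    ProjUP.GeneratedBy (Twist.twist 𝒜 (n : ℤ))
      (fun b : 𝒜 n => (Twist.globalOf 𝒜 b : ProjUP.Γm (Twist.twist 𝒜 (n : ℤ)))) := by
  refine GrT.generatedBy_twist _ fun x i j b g hb hg hij hgx => ?_
  have hstep : ∀ k, 𝒜 (n + k * Finset.univ.lcm deg) ≤ 𝒜 n * 𝒜 (k * Finset.univ.lcm deg) := by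
    intro k
    induction k with
    | zero =>
      simp only [zero_mul, add_zero]
      exact fun y hy => (mul_one y) ▸ Submodule.mul_mem_mul hy SetLike.GradedOne.one_mem
    | succ k ih =>
      rw [show n + (k + 1) * Finset.univ.lcm deg = n + k * Finset.univ.lcm deg + Finset.univ.lcm deg by ring,
        Groth.Agent.ZeroCycGen.mul_lcm_piece 𝒜 f deg hdeg hf hgen _ (hn.trans le_self_add),
        show (k + 1) * Finset.univ.lcm deg = k * Finset.univ.lcm deg + Finset.univ.lcm deg by ring]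
      refine (mul_le_mul' ih le_rfl).trans ?_
      rw [mul_assoc]
      exact mul_le_mul' le_rfl (Submodule.mul_le.mpr fun _ hp _ hq => SetLike.mul_mem_graded hp hq)
  obtain ⟨l, hl⟩ : ∃ l, Finset.univ.lcm deg = l + 1 := ⟨_, (Nat.succ_pred_eq_of_ne_zero fun h => by
    obtain ⟨i, -, hi⟩ := (Finset.lcm_eq_zero_iff).mp h
    exact (hdeg i).ne' hi).symm⟩
  refine ⟨j * Finset.univ.lcm deg, g ^ l, ?_, GrT.not_mem_pow 𝒜 hgx l, hstep j ?_⟩
  · rw [← pow_succ, ← hl, mul_comm j, ← smul_eq_mul]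
    exact SetLike.pow_mem_graded _ hg
  · rw [show n + j * Finset.univ.lcm deg = l • j + i by rw [hl, hij, smul_eq_mul]; ring]
    exact SetLike.mul_mem_graded (SetLike.pow_mem_graded _ hg) hb

end Groth.Agent.S13171
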