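import Groth.Statements.S13172
import Groth.Agent.GrT.TwistMul
import Groth.Agent.ZeroCycGen

set_option autoImplicit false
universe u
open AlgebraicGeometry
open ZeroCyc

namespace Groth.Agent.S13172


theorem exists_cover_one {R A : Type u} [CommRing R] [CommRing A] [Algebra R A] (𝒜 : ℕ → Submodule R A)
    [GradedAlgebra 𝒜] (hcov : (⨆ g : 𝒜 1, Proj.basicOpen 𝒜 (g : A)) = ⊤) (n : ℕ) (x : ProjectiveSpectrum 𝒜) :
    ∃ g ∈ 𝒜 n, g ∉ x.asHomogeneousIdeal := by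
  have hx : x ∈ (⨆ g : 𝒜 1, Proj.basicOpen 𝒜 (g : A)) := hcov ▸ trivial
  obtain ⟨g, hg⟩ := TopologicalSpace.Opens.mem_iSup.mp hx
  refine ⟨(g : A) ^ n, ?_, GrT.not_mem_pow 𝒜 ((ProjectiveSpectrum.mem_basicOpen 𝒜 _ x).mp hg) n⟩
  simpa using SetLike.pow_mem_graded n g.2

/-- Let B be a graded R-algebra generated by elements of degree at most d (no finiteness assumed) such
that X = Proj B is covered by the opens D_+(g), g ∈ B_1. Then for every n ≥ 1, O_X(n) is generated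
by its global sections b/1, b ∈ B_n. -/
theorem result {R A : Type u} [CommRing R] [CommRing A] [Algebra R A] (𝒜 : ℕ → Submodule R A) [GradedAlgebra 𝒜]
    (d : ℕ) (hgen : Algebra.adjoin R (⋃ i ∈ Finset.range (d + 1), (𝒜 i : Set A)) = ⊤)
    (hcov : (⨆ g : 𝒜 1, Proj.basicOpen 𝒜 (g : A)) = ⊤) (n : ℕ) (hn : 0 < n) :
    ProjUP.GeneratedBy (Twist.twist 𝒜 (n : ℤ))
      (fun b : 𝒜 n => (Twist.globalOf 𝒜 b : ProjUP.Γm (Twist.twist 𝒜 (n : ℤ)))) := by
  refine GrT.generatedBy_twist _ fun x i j b g hb hg hij hgx => ?_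
  obtain ⟨q, hq, hqx⟩ := exists_cover_one 𝒜 hcov n x
  refine ⟨n + j, q, SetLike.mul_mem_graded hq hg, hqx, Submodule.mul_mem_mul hq ?_⟩
  rwa [show n + j = i by omega]

end Groth.Agent.S13172
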