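import Groth.Statements.S13174
-- import your own Groth.Agent.* helpers here

set_option autoImplicit false
universe u v w
open scoped TensorProduct
open ZeroCyc

namespace Groth.Agent.S13174

section Extend

variable {A : Type u} [CommRing A] {M : Type v} [AddCommGroup M] [Module A M]
  {N : Type w} [AddCommGroup N] [Module A N]

/-- Tensoring an algebra map with a module. -/
local notation "ρ[" φ ", " X "]" => LinearMap.rTensor X (AlgHom.toLinearMap φ)

theorem rT_comp {R₁ R₂ R₃ : Type*} [CommSemiring R₁] [Algebra A R₁] [CommSemiring R₂] [Algebra A R₂]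
    [CommSemiring R₃] [Algebra A R₃] (φ : R₁ →ₐ[A] R₂) (ψ : R₂ →ₐ[A] R₃) {X : Type*}
    [AddCommMonoid X] [Module A X] (z : R₁ ⊗[A] X) :
    ρ[ψ.comp φ, X] z = ρ[ψ, X] (ρ[φ, X] z) := by
  rw [AlgHom.comp_toLinearMap, LinearMap.rTensor_comp_apply]

variable (T : ∀ n : ℕ, MvPolynomial (Fin n) A ⊗[A] M → MvPolynomial (Fin n) A ⊗[A] N)
  (hT : ∀ (n m : ℕ) (φ : MvPolynomial (Fin n) A →ₐ[A] MvPolynomial (Fin m) A),
    φ.toLinearMap.rTensor N ∘ T n = T m ∘ φ.toLinearMap.rTensor M)

include hT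

theorem T_nat {n m : ℕ} (φ : MvPolynomial (Fin n) A →ₐ[A] MvPolynomial (Fin m) A)
    (w : MvPolynomial (Fin n) A ⊗[A] M) : T m (ρ[φ, M] w) = ρ[φ, N] (T n w) :=
  (congrFun (hT n m φ) w).symm

variable {S : Type u} [CommRing S] [Algebra A S]

/-- Moving by a tensor with coefficient in the kernel does not change the value. -/
theorem T_add_ker {k : ℕ} (χ : MvPolynomial (Fin k) A →ₐ[A] S) (a : MvPolynomial (Fin k) A)
    (ha : χ a = 0) (m : M) (w : MvPolynomial (Fin k) A ⊗[A] M) :
    ρ[χ, N] (T k (w + a ⊗ₜ[A] m)) = ρ[χ, N] (T k w) := by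
  let e : MvPolynomial (Fin k) A →ₐ[A] MvPolynomial (Fin (k + 1)) A := MvPolynomial.rename Fin.castSucc
  let g : MvPolynomial (Fin k) A → (MvPolynomial (Fin (k + 1)) A →ₐ[A] MvPolynomial (Fin k) A) :=
    fun b => MvPolynomial.aeval (Fin.snoc (fun i => MvPolynomial.X i) b)
  have hge : ∀ b, (g b).comp e = AlgHom.id A _ := fun b =>
    MvPolynomial.algHom_ext fun i => by simp [g, e]
  have hgy : ∀ b, g b (MvPolynomial.X (Fin.last k)) = b := fun b => by simp [g]
  let u := ρ[e, M] w + MvPolynomial.X (Fin.last k) ⊗ₜ[A] m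
  have hu : ∀ b, ρ[g b, M] u = w + b ⊗ₜ[A] m := fun b => by
    simp only [u, map_add, LinearMap.rTensor_tmul, AlgHom.toLinearMap_apply, hgy, ← rT_comp, hge]
    simp
  have hχ : χ.comp (g a) = χ.comp (g 0) := MvPolynomial.algHom_ext fun i => by
    refine Fin.lastCases ?_ (fun j => ?_) i <;> simp [g, ha]
  have h0 : w + (0 : MvPolynomial (Fin k) A) ⊗ₜ[A] m = w := by simp
  calc ρ[χ, N] (T k (w + a ⊗ₜ[A] m))
      = ρ[χ.comp (g a), N] (T (k + 1) u) := by rw [← hu, T_nat T hT, rT_comp]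
    _ = ρ[χ.comp (g 0), N] (T (k + 1) u) := by rw [hχ]
    _ = ρ[χ, N] (T k w) := by rw [rT_comp, ← T_nat T hT, hu, h0]

theorem T_congr {k : ℕ} (χ : MvPolynomial (Fin k) A →ₐ[A] S)
    (w₁ w₂ : MvPolynomial (Fin k) A ⊗[A] M) (h : ρ[χ, M] w₁ = ρ[χ, M] w₂) :
    ρ[χ, N] (T k w₁) = ρ[χ, N] (T k w₂) := by
  classical
  have hfg : χ.range.FG := by
    rw [← Algebra.map_top]
    exact Subalgebra.FG.map _ Algebra.FiniteType.out
  obtain ⟨B, hB₁, hB₂, hB, hw⟩ := TensorProduct.Algebra.eq_of_fg_of_subtype_eq' (R := A) hfg hfg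
    (t := ρ[χ.rangeRestrict, M] w₁) (t' := ρ[χ.rangeRestrict, M] w₂)
    (by rw [← rT_comp, ← rT_comp, AlgHom.val_comp_rangeRestrict, h])
  obtain ⟨s, hs⟩ := hB
  let χ' : MvPolynomial (Fin (k + s.card)) A →ₐ[A] S :=
    MvPolynomial.aeval (Fin.append (fun i => χ (MvPolynomial.X i)) (fun j => (s.equivFin.symm j : S)))
  let e : MvPolynomial (Fin k) A →ₐ[A] MvPolynomial (Fin (k + s.card)) A :=
    MvPolynomial.rename (Fin.castAdd s.card)
  have he : χ'.comp e = χ := MvPolynomial.algHom_ext fun i => by simp [χ', e]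
  have hBle : B ≤ χ'.range := by
    rw [← hs, Algebra.adjoin_le_iff]
    intro x hx
    refine ⟨MvPolynomial.X (Fin.natAdd k (s.equivFin ⟨x, hx⟩)), ?_⟩
    simp [χ']
  have hr : χ'.rangeRestrict.comp e =
      ((Subalgebra.inclusion hBle).comp (Subalgebra.inclusion hB₁)).comp χ.rangeRestrict :=
    MvPolynomial.algHom_ext fun i => Subtype.ext (by simp [χ', e])
  let π := χ'.rangeRestrict.toLinearMap
  have hker : LinearMap.rTensor M π (ρ[e, M] w₁ - ρ[e, M] w₂) = 0 := by
    rw [map_sub, sub_eq_zero]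
    show ρ[χ'.rangeRestrict, M] _ = ρ[χ'.rangeRestrict, M] _
    rw [← rT_comp, ← rT_comp, hr, rT_comp, rT_comp, rT_comp, rT_comp, hw]
  have hex : Function.Exact (LinearMap.ker π).subtype π := LinearMap.exact_subtype_ker_map π
  obtain ⟨c, hc⟩ := (rTensor_exact M hex χ'.rangeRestrict_surjective _).mp hker
  have key : ∀ (c : LinearMap.ker π ⊗[A] M) (w : MvPolynomial (Fin (k + s.card)) A ⊗[A] M),
      ρ[χ', N] (T _ (w + LinearMap.rTensor M (LinearMap.ker π).subtype c)) = ρ[χ', N] (T _ w) := by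
    intro c
    induction c using TensorProduct.induction_on with
    | zero => simp
    | tmul a m =>
      intro w
      refine T_add_ker T hT χ' a.1 ?_ m w
      exact congrArg Subtype.val (LinearMap.mem_ker.mp a.2)
    | add x y hx hy => intro w; rw [map_add, ← add_assoc, hy, hx]
  calc ρ[χ, N] (T k w₁) = ρ[χ', N] (T _ (ρ[e, M] w₁)) := by rw [T_nat T hT, ← rT_comp, he]
    _ = ρ[χ', N] (T _ (ρ[e, M] w₂ + LinearMap.rTensor M (LinearMap.ker π).subtype c)) := by
      rw [hc, add_sub_cancel]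
    _ = ρ[χ', N] (T _ (ρ[e, M] w₂)) := key c _
    _ = ρ[χ, N] (T k w₂) := by rw [T_nat T hT, ← rT_comp, he]

theorem T_wd {n m : ℕ} (ψ : MvPolynomial (Fin n) A →ₐ[A] S) (ψ' : MvPolynomial (Fin m) A →ₐ[A] S)
    (w : MvPolynomial (Fin n) A ⊗[A] M) (w' : MvPolynomial (Fin m) A ⊗[A] M)
    (h : ρ[ψ, M] w = ρ[ψ', M] w') : ρ[ψ, N] (T n w) = ρ[ψ', N] (T m w') := by
  let χ : MvPolynomial (Fin (n + m)) A →ₐ[A] S :=
    MvPolynomial.aeval (Fin.append (fun i => ψ (MvPolynomial.X i)) (fun j => ψ' (MvPolynomial.X j)))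
  let e : MvPolynomial (Fin n) A →ₐ[A] MvPolynomial (Fin (n + m)) A :=
    MvPolynomial.rename (Fin.castAdd m)
  let e' : MvPolynomial (Fin m) A →ₐ[A] MvPolynomial (Fin (n + m)) A :=
    MvPolynomial.rename (Fin.natAdd n)
  have he : χ.comp e = ψ := MvPolynomial.algHom_ext fun i => by simp [χ, e]
  have he' : χ.comp e' = ψ' := MvPolynomial.algHom_ext fun i => by simp [χ, e']
  have := T_congr T hT χ (ρ[e, M] w) (ρ[e', M] w') (by rw [← rT_comp, ← rT_comp, he, he', h])
  rwa [T_nat T hT, T_nat T hT, ← rT_comp, ← rT_comp, he, he'] at this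

end Extend


/-- Let M and N be A-modules. Polynomial laws M → N correspond one-to-one, by restriction, to families
of maps T_n : M[t_1, …, t_n] → N[t_1, …, t_n], n ≥ 0, compatible with all A-algebra homomorphisms
A[t_1, …, t_n] → A[t_1, …, t_m]: in the definition of a polynomial law the category of A-algebras
may be replaced by the polynomial rings in finitely many variables. (Here a polynomial law is given
on all commutative A-algebra semirings of the universe of A.) -/
theorem result {A : Type u} [CommRing A] {M : Type v} [AddCommGroup M] [Module A M] {N : Type w} [AddCommGroup N] [Module A N] :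
    Function.Bijective (fun F : M →ₚₗ[A] N =>
      (⟨fun n => F.toFun' (MvPolynomial (Fin n) A), fun n m φ => F.isCompat' φ⟩ :
        {T : ∀ n : ℕ, MvPolynomial (Fin n) A ⊗[A] M → MvPolynomial (Fin n) A ⊗[A] N //
          ∀ (n m : ℕ) (φ : MvPolynomial (Fin n) A →ₐ[A] MvPolynomial (Fin m) A),
            φ.toLinearMap.rTensor N ∘ T n = T m ∘ φ.toLinearMap.rTensor M})) := by
  constructor
  · intro F G h
    have h' : ∀ n, F.toFun' (MvPolynomial (Fin n) A) = G.toFun' (MvPolynomial (Fin n) A) :=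
      fun n => congrFun (congrArg Subtype.val h) n
    refine PolynomialLaw.ext ?_
    funext S _ _ z
    obtain ⟨n, ψ, p, rfl⟩ := PolynomialLaw.exists_lift z
    refine (congrFun (F.isCompat' ψ) p).symm.trans (Eq.trans ?_ (congrFun (G.isCompat' ψ) p))
    simp only [Function.comp_apply, h']
  · rintro ⟨T, hT⟩
    let F : ∀ (S : Type u) [CommSemiring S] [Algebra A S], S ⊗[A] M → S ⊗[A] N := fun S _ _ z =>
      (PolynomialLaw.exists_lift z).choose_spec.choose.toLinearMap.rTensor N
        (T _ (PolynomialLaw.exists_lift z).choose_spec.choose_spec.choose)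
    have hF : ∀ (S : Type u) [CommSemiring S] [Algebra A S] {n : ℕ}
        (ψ : MvPolynomial (Fin n) A →ₐ[A] S) (p : MvPolynomial (Fin n) A ⊗[A] M),
        F S (ψ.toLinearMap.rTensor M p) = ψ.toLinearMap.rTensor N (T n p) := fun S _ _ n ψ p => by
      letI : CommRing S := { (inferInstance : CommSemiring S), Algebra.semiringToRing A with }
      exact T_wd T hT _ ψ _ p
        (PolynomialLaw.exists_lift (ψ.toLinearMap.rTensor M p)).choose_spec.choose_spec.choose_spec
    refine ⟨⟨F, fun {S} _ _ {S'} _ _ φ => funext fun z => ?_⟩, Subtype.ext (funext fun n => funext fun p => ?_)⟩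
    · obtain ⟨n, ψ, p, rfl⟩ := PolynomialLaw.exists_lift z
      simp only [Function.comp_apply]
      rw [hF, ← rT_comp, ← rT_comp, hF]
    · have := hF _ (AlgHom.id A (MvPolynomial (Fin n) A)) p
      simpa using this

end Groth.Agent.S13174
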