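import Groth.Statements.S13175
import Mathlib.LinearAlgebra.TensorProduct.Finiteness
-- import your own Groth.Agent.* helpers here

set_option autoImplicit false
universe u v w
open scoped TensorProduct
open ZeroCyc

namespace Groth.Agent.S13175

/-- Let B and C be A-algebras and F : B → C a polynomial law. If the maps F over the polynomial rings
A[t_1, …, t_n], n ≥ 0, are multiplicative (send 1 to 1 and products to products), then F is a
multiplicative law: F sends 1 to 1 and products to products over every A-algebra. -/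
theorem result {A : Type u} [CommRing A] {B : Type v} [CommRing B] [Algebra A B] {C : Type w} [CommRing C] [Algebra A C]
    (F : B →ₚₗ[A] C)
    (h1 : ∀ n : ℕ, F.toFun' (MvPolynomial (Fin n) A) 1 = 1)
    (hmul : ∀ (n : ℕ) (x y : MvPolynomial (Fin n) A ⊗[A] B),
      F.toFun' (MvPolynomial (Fin n) A) (x * y) = F.toFun' (MvPolynomial (Fin n) A) x * F.toFun' (MvPolynomial (Fin n) A) y) :
    ∀ (S : Type u) [CommRing S] [Algebra A S], F.toFun' S 1 = 1 ∧
      ∀ x y : S ⊗[A] B, F.toFun' S (x * y) = F.toFun' S x * F.toFun' S y := by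
  classical
  intro S _ _
  have one_eq : ∀ (R R' : Type u) [CommRing R] [Algebra A R] [CommRing R'] [Algebra A R'] (ψ : R →ₐ[A] R') {M : Type v}
      [CommRing M] [Algebra A M] (z : R ⊗[A] M), ψ.toLinearMap.rTensor M z = Algebra.TensorProduct.map ψ (AlgHom.id A M) z := by
    intro R R' _ _ _ _ ψ M _ _ z
    induction z using TensorProduct.induction_on with
    | zero => simp
    | tmul a b => rfl
    | add a b ha hb => rw [map_add, map_add, ha, hb]
  have one_eq' : ∀ (R R' : Type u) [CommRing R] [Algebra A R] [CommRing R'] [Algebra A R'] (ψ : R →ₐ[A] R') {M : Type w}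
      [CommRing M] [Algebra A M] (z : R ⊗[A] M), ψ.toLinearMap.rTensor M z = Algebra.TensorProduct.map ψ (AlgHom.id A M) z := by
    intro R R' _ _ _ _ ψ M _ _ z
    induction z using TensorProduct.induction_on with
    | zero => simp
    | tmul a b => rfl
    | add a b ha hb => rw [map_add, map_add, ha, hb]
  refine ⟨?_, fun x y => ?_⟩
  · let ψ : MvPolynomial (Fin 0) A →ₐ[A] S := MvPolynomial.aeval Fin.elim0
    have h := congrArg (ψ.toLinearMap.rTensor C) (h1 0)
    rwa [PolynomialLaw.isCompat_apply', one_eq, one_eq', map_one, map_one] at h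
  · obtain ⟨Sx, hx⟩ := TensorProduct.exists_finset x
    obtain ⟨Sy, hy⟩ := TensorProduct.exists_finset y
    let e := (Fintype.equivFin (Sx ⊕ Sy)).symm
    let n := Fintype.card (Sx ⊕ Sy)
    let ψ : MvPolynomial (Fin n) A →ₐ[A] S :=
      MvPolynomial.aeval fun i => Sum.elim (fun a => a.1.1) (fun a => a.1.1) (e i)
    let x' : MvPolynomial (Fin n) A ⊗[A] B := ∑ a : Sx, MvPolynomial.X (e.symm (Sum.inl a)) ⊗ₜ[A] a.1.2
    let y' : MvPolynomial (Fin n) A ⊗[A] B := ∑ a : Sy, MvPolynomial.X (e.symm (Sum.inr a)) ⊗ₜ[A] a.1.2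
    have hx' : ψ.toLinearMap.rTensor B x' = x := by
      rw [hx, map_sum, ← Finset.sum_coe_sort Sx]
      refine Finset.sum_congr rfl fun a _ => ?_
      rw [LinearMap.rTensor_tmul, AlgHom.toLinearMap_apply, MvPolynomial.aeval_X, Equiv.apply_symm_apply]
      rfl
    have hy' : ψ.toLinearMap.rTensor B y' = y := by
      rw [hy, map_sum, ← Finset.sum_coe_sort Sy]
      refine Finset.sum_congr rfl fun a _ => ?_
      rw [LinearMap.rTensor_tmul, AlgHom.toLinearMap_apply, MvPolynomial.aeval_X, Equiv.apply_symm_apply]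
      rfl
    rw [← hx', ← hy', one_eq, one_eq, ← map_mul, ← one_eq, ← one_eq, ← one_eq, ← PolynomialLaw.isCompat_apply',
      ← PolynomialLaw.isCompat_apply', ← PolynomialLaw.isCompat_apply', hmul n, one_eq', one_eq', one_eq', map_mul]

end Groth.Agent.S13175
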