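import Groth.Statements.S13176
import Groth.Agent.QuotScheme.Free

set_option autoImplicit false
universe u
open CategoryTheory CategoryTheory.Limits AlgebraicGeometry
open ZeroCyc

set_option backward.isDefEq.respectTransparency false
set_option backward.isDefEq.respectTransparency.types false

namespace Groth.Agent.S13176

/-- Let a finite group G act on a scheme X over S through ρ, let q : X → Y be a quotient of X by G over
S (affine, G-invariant, O_Y = the G-invariant sections of O_X), let S' → S be any morphism and X' =
X ×_S S' with the induced action ρ', and let r : X' → Y' be a quotient of X' by G. Then the morphism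
Y' → Y ×_S S' through which the canonical map X' → Y ×_S S' factors via r is a universal
homeomorphism. (The published statement assumes every G-orbit lies in an affine open, which is what
makes the quotients exist; here the two quotients are hypotheses.) -/
theorem result {X Y S S' Y' : Scheme.{u}} {G : Type u} [Group G] [Finite G]
    (ρ : G →* Aut X) (f : X ⟶ S) (hρ : ∀ σ : G, (ρ σ).hom ≫ f = f)
    (q : X ⟶ Y) (h : Y ⟶ S) (hq : q ≫ h = f) (hquot : SGA1.IsQuot ρ q)
    (g : S' ⟶ S)
    (ρ' : G →* Aut (pullback f g))
    (hρ' : ∀ σ : G, (ρ' σ).hom ≫ pullback.fst f g = pullback.fst f g ≫ (ρ σ).hom ∧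
      (ρ' σ).hom ≫ pullback.snd f g = pullback.snd f g)
    (r : pullback f g ⟶ Y') (hr : SGA1.IsQuot ρ' r)
    (m : Y' ⟶ pullback h g)
    (hm : r ≫ m = pullback.map f g h g q (𝟙 S') (𝟙 S)
      ((Category.comp_id f).trans hq.symm) ((Category.comp_id g).trans (Category.id_comp g).symm)) :
    FlatMor.IsUnivHomeo m := by
  classical
  haveI := QuotScheme.isIntegralHom hquot
  haveI := QuotScheme.isIntegralHom hr
  haveI : Surjective r := ⟨QuotScheme.surjective hr⟩
  let π := pullback.map f g h g q (𝟙 S') (𝟙 S) ((Category.comp_id f).trans hq.symm)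
    ((Category.comp_id g).trans (Category.id_comp g).symm)
  have sqπ : IsPullback π (pullback.fst f g) (pullback.fst h g) q := by
    refine (IsPullback.of_right ?_ (pullback.lift_fst _ _ _) (IsPullback.of_hasPullback h g).flip).flip.flip
    rw [show π ≫ pullback.snd h g = pullback.snd f g from (pullback.lift_snd _ _ _).trans (Category.comp_id _), hq]
    exact (IsPullback.of_hasPullback f g).flip
  haveI : Surjective π := MorphismProperty.of_isPullback sqπ.flip ⟨QuotScheme.surjective hquot⟩
  haveI : UniversallyClosed π := MorphismProperty.of_isPullback sqπ.flip inferInstance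
  haveI : Surjective (r ≫ m) := hm ▸ inferInstance
  haveI : UniversallyClosed (r ≫ m) := hm ▸ inferInstance
  haveI : Surjective m := Surjective.of_comp r m
  haveI : UniversallyClosed m := UniversallyClosed.of_comp_surjective r m
  haveI : UniversallyInjective m := by
    rw [UniversallyInjective.iff_diagonal]
    refine ⟨fun z ↦ ?_⟩
    let Z := pullback m m
    let a : Spec (Z.residueField z) ⟶ Y' := Z.fromSpecResidueField z ≫ pullback.fst m m
    let b : Spec (Z.residueField z) ⟶ Y' := Z.fromSpecResidueField z ≫ pullback.snd m m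
    haveI : Surjective (pullback.fst a r) := MorphismProperty.pullback_fst _ _ ‹Surjective r›
    let c1 := pullback.fst a r
    let P2 := pullback (c1 ≫ b) r
    haveI : Surjective (pullback.fst (c1 ≫ b) r) := MorphismProperty.pullback_fst _ _ ‹Surjective r›
    obtain ⟨t1, -⟩ := c1.surjective (IsLocalRing.closedPoint (Z.residueField z))
    obtain ⟨t2, -⟩ := (pullback.fst (c1 ≫ b) r).surjective t1
    let e : Spec (P2.residueField t2) ⟶ P2 := P2.fromSpecResidueField t2
    let ξ₁ : Spec (P2.residueField t2) ⟶ pullback f g := e ≫ pullback.fst _ _ ≫ pullback.snd a r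
    let ξ₂ : Spec (P2.residueField t2) ⟶ pullback f g := e ≫ pullback.snd (c1 ≫ b) r
    let c : Spec (P2.residueField t2) ⟶ Spec (Z.residueField z) := e ≫ pullback.fst _ _ ≫ c1
    have h1 : ξ₁ ≫ r = c ≫ a := by
      simp only [ξ₁, c, Category.assoc, c1, pullback.condition]
    have h2 : ξ₂ ≫ r = c ≫ b := by
      simp only [ξ₂, c, Category.assoc, ← pullback.condition]
    have h12 : ξ₁ ≫ r ≫ m = ξ₂ ≫ r ≫ m := by
      rw [reassoc_of% h1, reassoc_of% h2]
      simp only [a, b, Category.assoc, pullback.condition]
    rw [hm] at h12
    have hq12 : (ξ₁ ≫ pullback.fst f g) ≫ q = (ξ₂ ≫ pullback.fst f g) ≫ q := by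
      have := congrArg (· ≫ pullback.fst h g) h12
      simpa only [Category.assoc, pullback.lift_fst] using this
    have hs12 : ξ₁ ≫ pullback.snd f g = ξ₂ ≫ pullback.snd f g := by
      have := congrArg (· ≫ pullback.snd h g) h12
      simpa only [Category.assoc, pullback.lift_snd, Category.comp_id] using this
    obtain ⟨σ, hσ⟩ := QuotScheme.exists_comp_eq hquot _ _ hq12
    have hσ' : ξ₁ ≫ (ρ' σ).hom = ξ₂ := by
      apply pullback.hom_ext
      · rw [Category.assoc, (hρ' σ).1, ← Category.assoc, hσ]
      · rw [Category.assoc, (hρ' σ).2, hs12]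
    have hab : c ≫ a = c ≫ b := by
      rw [← h1, ← h2, ← hσ']
      exact ((Category.assoc _ _ _).trans (congrArg (ξ₁ ≫ ·) (hr.inv σ))).symm
    refine ⟨(c ≫ a) (IsLocalRing.closedPoint _), ?_⟩
    have hd : (c ≫ a) ≫ pullback.diagonal m = c ≫ Z.fromSpecResidueField z := by
      apply pullback.hom_ext
      · simp [a]
      · rw [Category.assoc, pullback.diagonal_snd, Category.comp_id, hab]
        simp [b]
    rw [← Scheme.Hom.comp_apply, hd, Scheme.Hom.comp_apply, Scheme.fromSpecResidueField_apply]
  intro A B i₁ i₂ m' H
  haveI : Surjective m' := MorphismProperty.of_isPullback H.flip ‹Surjective m›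
  haveI : UniversallyClosed m' := MorphismProperty.of_isPullback H.flip ‹UniversallyClosed m›
  haveI : UniversallyInjective m' := MorphismProperty.of_isPullback H.flip ‹UniversallyInjective m›
  exact (isHomeomorph_iff_continuous_isClosedMap_bijective).mpr
    ⟨m'.continuous, m'.isClosedMap, m'.injective, m'.surjective⟩

end Groth.Agent.S13176
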