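import Groth.Statements.S13178
import Groth.Agent.DivPow.FieldPoints

set_option autoImplicit false
universe u
open scoped TensorProduct
open ZeroCyc

namespace Groth.Agent.S13178

/-- Let K/k be a finite field extension with separable degree d_s and exponent e (the least e ≥ 1 such
that x^e is separable over k for every x ∈ K), and let d ≥ 0. The k-points of Γ^d(Spec K / Spec k)
are the multiplicative polynomial laws K → k over k that are homogeneous of degree d; there is at
most one such law, and one exists if and only if the quasi-degree d_s·e divides d. (The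
identification of k-points of Γ^d with multiplicative homogeneous laws is the universal property of
the algebra of divided powers; the row is stated directly for laws.) -/
theorem result {k : Type u} [Field k] {K : Type u} [Field K] [Algebra k K]
    [FiniteDimensional k K] (d e : ℕ) (he : 0 < e) (hexp : ∀ x : K, x ^ e ∈ separableClosure k K)
    (hmin : ∀ n : ℕ, 0 < n → (∀ x : K, x ^ n ∈ separableClosure k K) → e ≤ n) :
    (∀ F F' : K →ₚₗ[k] k,
      ((∀ (S : Type u) [CommRing S] [Algebra k S], F.toFun' S 1 = 1 ∧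
        ∀ x y : S ⊗[k] K, F.toFun' S (x * y) = F.toFun' S x * F.toFun' S y) ∧
      ∀ (S : Type u) [CommRing S] [Algebra k S] (a : S) (z : S ⊗[k] K), F.toFun' S (a • z) = a ^ d • F.toFun' S z) →
      ((∀ (S : Type u) [CommRing S] [Algebra k S], F'.toFun' S 1 = 1 ∧
        ∀ x y : S ⊗[k] K, F'.toFun' S (x * y) = F'.toFun' S x * F'.toFun' S y) ∧
      ∀ (S : Type u) [CommRing S] [Algebra k S] (a : S) (z : S ⊗[k] K), F'.toFun' S (a • z) = a ^ d • F'.toFun' S z) → F = F') ∧
    ((∃ F : K →ₚₗ[k] k, ((∀ (S : Type u) [CommRing S] [Algebra k S], F.toFun' S 1 = 1 ∧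
        ∀ x y : S ⊗[k] K, F.toFun' S (x * y) = F.toFun' S x * F.toFun' S y) ∧
      ∀ (S : Type u) [CommRing S] [Algebra k S] (a : S) (z : S ⊗[k] K), F.toFun' S (a • z) = a ^ d • F.toFun' S z)) ↔ Field.finSepDegree k K * e ∣ d) := by
  obtain ⟨huniq, hiff⟩ := Groth.Agent.DivPow.FieldPoints.main (k := k) (K := K) d e he hexp hmin
  have conv : ∀ F : K →ₚₗ[k] k, ((∀ (S : Type u) [CommRing S] [Algebra k S], F.toFun' S 1 = 1 ∧
      ∀ x y : S ⊗[k] K, F.toFun' S (x * y) = F.toFun' S x * F.toFun' S y) ∧
      ∀ (S : Type u) [CommRing S] [Algebra k S] (a : S) (z : S ⊗[k] K), F.toFun' S (a • z) = a ^ d • F.toFun' S z) →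
      ∃ G : PolLaw.MulLaw k K k d, G.law = F := by
    rintro F ⟨h1, h2⟩
    refine ⟨⟨F, fun S hS hA a z => ?_, fun S hS hA => ?_⟩, rfl⟩
    · letI : CommRing S := { Algebra.semiringToRing k (A := S) with mul_comm := mul_comm }
      exact h2 S a z
    · letI : CommRing S := { Algebra.semiringToRing k (A := S) with mul_comm := mul_comm }
      exact h1 S
  refine ⟨fun F F' hF hF' => ?_, ⟨fun ⟨F, hF⟩ => ?_, fun h => ?_⟩⟩
  · obtain ⟨G, rfl⟩ := conv F hF
    obtain ⟨G', rfl⟩ := conv F' hF'
    rw [huniq G G']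
  · obtain ⟨G, -⟩ := conv F hF
    exact hiff.mp ⟨G⟩
  · obtain ⟨G⟩ := hiff.mpr h
    exact ⟨G.law, fun S _ _ => G.mult S, fun S _ _ => G.homog S⟩

end Groth.Agent.S13178
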