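import Groth.Statements.S13182
import Groth.Agent.ProjEmb.Main
import Groth.Agent.ProjEmb.Monomials

set_option autoImplicit false
universe u
open CategoryTheory CategoryTheory.Limits AlgebraicGeometry
open ZeroCyc

set_option backward.isDefEq.respectTransparency false
set_option backward.isDefEq.respectTransparency.types false

namespace Groth.Agent.S13182

/-- Let B be a graded R-algebra generated by homogeneous elements f_1, …, f_s of positive degrees d_1,
…, d_s, let l be the least common multiple of the d_i and X = Proj B. For n = a l with a ≥ max(1, s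
− 1) there is a closed immersion i of X into a projective space over R, over Spec R, with O_X(n) ≅
i^*O(1); in particular O_X(n) is very ample relative to Spec R. (The published statement takes for i
the canonical morphism into P(B_n) given by the sections B_n; this row asserts only a closed
immersion into some projective space P^N over R with an isomorphism O_X(n) ≅ i^*O(1).) -/
theorem result {R A : Type u} [CommRing R] [CommRing A] [Algebra R A] (𝒜 : ℕ → Submodule R A) [GradedAlgebra 𝒜]
    {s : ℕ} (f : Fin s → A) (deg : Fin s → ℕ) (hdeg : ∀ i, 0 < deg i) (hf : ∀ i, f i ∈ 𝒜 (deg i))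
    (hgen : Algebra.adjoin R (Set.range f) = ⊤) (a : ℕ) (ha : 0 < a) (has : s - 1 ≤ a) :
    ∃ (N : ℕ) (i : Proj 𝒜 ⟶ CohB1.ProjSpaceOver N (Spec (CommRingCat.of R))), IsClosedImmersion i ∧
      i ≫ pullback.snd (CohB1.ProjSpace.toSpec N (ULift.{u} ℤ)) (specULiftZIsTerminal.from (Spec (CommRingCat.of R))) =
        Proj.toSpecZero 𝒜 ≫ Spec.map (CommRingCat.ofHom (algebraMap R (𝒜 0))) ∧
      Nonempty (Twist.twist 𝒜 ((a * Finset.univ.lcm deg : ℕ) : ℤ) ≅
        (Scheme.Modules.pullback i).obj (Twist.twistOver N (Spec (CommRingCat.of R)) 1)) := by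
  classical
  haveI : Algebra.FiniteType R A := ⟨⟨Finset.univ.image f, by simpa using hgen⟩⟩
  have h0 := ProjEmb.algebraMap_zero_surjective 𝒜 hf hdeg hgen
  set l := Finset.univ.lcm deg with hl
  have hdvd : ∀ i, deg i ∣ l := fun i => Finset.dvd_lcm (Finset.mem_univ i)
  have hlpos : 0 < l := Nat.pos_of_ne_zero (by
    rw [hl, Ne, Finset.lcm_eq_zero_iff]; simpa using fun i => (hdeg i).ne')
  set n := a * l with hn
  have hn0 : 0 < n := Nat.mul_pos ha hlpos
  -- exponent vectors of monomials of degree `n`
  let M := {e : Fin s → Fin (n + 1) // ∑ i, (e i : ℕ) * deg i = n}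
  let ι := Option M
  let c : ι → A := fun o => o.elim 0 (fun e => ∏ i, f i ^ (e.1 i : ℕ))
  have hc : ∀ o, c o ∈ 𝒜 n := by
    rintro (_ | ⟨e, he⟩)
    · exact zero_mem _
    · have h := ProjEmb.monomial_mem 𝒜 hf (fun i => (e i : ℕ))
      rw [he] at h
      exact h
  have hmem : ∀ e : Fin s → ℕ, ∑ i, e i * deg i = n →
      ∏ i, f i ^ e i ∈ Set.range c := fun e he => by
    have hb : ∀ i, e i < n + 1 := fun i => Nat.lt_succ_of_le
      ((Nat.le_mul_of_pos_right _ (hdeg i)).trans
        ((Finset.single_le_sum (f := fun i => e i * deg i) (fun _ _ => Nat.zero_le _) (Finset.mem_univ i)).trans_eq he))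
    exact ⟨some ⟨fun i => ⟨e i, hb i⟩, he⟩, rfl⟩
  obtain ⟨N, hN⟩ : ∃ N, Fintype.card ι = N + 1 :=
    ⟨Fintype.card ι - 1, (Nat.succ_pred_eq_of_pos Fintype.card_pos).symm⟩
  let e : Fin (N + 1) ≃ ι := (Fintype.equivFinOfCardEq hN).symm
  refine ⟨N, ProjEmb.exists_closedImmersion 𝒜 hn0 h0 (fun j => c (e j)) (fun j => hc _)
    Set.univ (fun x => ?_) ?_⟩
  · obtain ⟨i, -, hi⟩ := ProjEmb.exists_not_mem 𝒜 hf hgen x
    obtain ⟨o, ho⟩ := hmem (Pi.single i (a * (l / deg i))) (by
      rw [Finset.sum_eq_single i (fun j _ hj => by simp [hj]) (by simp)]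
      simp [hn, mul_assoc, Nat.div_mul_cancel (hdvd i)])
    refine ⟨e.symm o, trivial, ?_⟩
    simp only [Equiv.apply_symm_apply, ho]
    rw [Finset.prod_eq_single i (fun j _ hj => by simp [hj]) (by simp)]
    exact GrT.not_mem_pow 𝒜 hi _
  rintro j - k b hb
  refine ⟨0, ?_⟩
  have hrange : Set.range (fun j => c (e j)) = Set.range c := e.surjective.range_comp c
  rw [pow_zero, one_mul, zero_add, hrange]
  set J := Submodule.span R (Set.range c)
  have hsub : ∀ (b : ℕ) (q : Fin s → ℕ), b ≤ ∑ i, q i →
      ∃ q' : Fin s → ℕ, (∀ i, q' i ≤ q i) ∧ ∑ i, q' i = b := by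
    intro b q
    induction b with
    | zero => exact fun _ => ⟨0, fun i => Nat.zero_le _, by simp⟩
    | succ b ih =>
      intro hb
      obtain ⟨q', hq', hs'⟩ := ih (by omega)
      obtain ⟨i, hi⟩ : ∃ i, q' i < q i := by
        by_contra hne
        push_neg at hne
        have := Finset.sum_le_sum (s := Finset.univ) fun i _ => hne i
        omega
      refine ⟨q' + Pi.single i 1, fun m => ?_, by simp [Finset.sum_add_distrib, hs']⟩
      rcases eq_or_ne m i with rfl | hm
      · simpa using hi
      · simpa [hm] using hq' m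
  have key : ∀ (k : ℕ) (d : Fin s → ℕ), ∑ i, d i * deg i = k * n →
      ∏ i, f i ^ d i ∈ J ^ k := by
    intro k
    induction k with
    | zero =>
      intro d hd
      have : ∀ i, d i = 0 := fun i => by
        have := (Finset.sum_eq_zero_iff.mp (hd.trans (zero_mul n))) i (Finset.mem_univ i)
        exact (Nat.mul_eq_zero.mp this).resolve_right (hdeg i).ne'
      simp only [this, pow_zero, Finset.prod_const_one]
      exact Submodule.one_le.mp le_rfl
    | succ k ih =>
      intro d hd
      rcases Nat.eq_zero_or_pos k with rfl | hk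
      · rw [zero_add, pow_one]
        exact Submodule.subset_span (hmem d (by simpa using hd))
      let u : Fin s → ℕ := fun i => l / deg i
      have hu : ∀ i, u i * deg i = l := fun i => Nat.div_mul_cancel (hdvd i)
      have hdec : ∀ i, d i * deg i = l * (d i / u i) + (d i % u i) * deg i := fun i => by
        conv_lhs => rw [← Nat.div_add_mod (d i) (u i)]
        rw [add_mul, mul_right_comm, hu]
      have hr : ∀ i, (d i % u i) * deg i < l := fun i => by
        conv_rhs => rw [← hu i]
        exact Nat.mul_lt_mul_of_pos_right (Nat.mod_lt _ (Nat.pos_of_mul_pos_right (hu i ▸ hlpos))) (hdeg i)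
      have hs0 : 0 < s := by
        rcases Nat.eq_zero_or_pos s with rfl | h
        · have h2 : 0 < (k + 1) * n := Nat.mul_pos (Nat.succ_pos _) hn0
          simp at hd; omega
        · exact h
      haveI : Nonempty (Fin s) := ⟨⟨0, hs0⟩⟩
      have hlt : l * ((k + 1) * a) < l * ((∑ i, d i / u i) + s) := by
        calc l * ((k + 1) * a) = ∑ i, d i * deg i := by rw [hd, hn]; ring
          _ < ∑ i : Fin s, (l * (d i / u i) + l) :=
            Finset.sum_lt_sum_of_nonempty Finset.univ_nonempty fun i _ => by
              rw [hdec i]; have := hr i; omega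
          _ = l * ((∑ i, d i / u i) + s) := by
            rw [Finset.sum_add_distrib, ← Finset.mul_sum, Finset.sum_const, Finset.card_univ,
              Fintype.card_fin, smul_eq_mul]
            ring
      have h5 := Nat.lt_of_mul_lt_mul_left hlt
      have h6 : 2 * a ≤ (k + 1) * a := Nat.mul_le_mul_right a (by omega)
      obtain ⟨q', hq', hsum⟩ := hsub a (fun i => d i / u i) (by omega)
      have hle : ∀ i, q' i * u i ≤ d i := fun i =>
        (Nat.mul_le_mul_right _ (hq' i)).trans (Nat.div_mul_le_self _ _)
      have hd1 : ∑ i, (q' i * u i) * deg i = n := by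
        simp only [mul_assoc, hu, ← Finset.sum_mul, hsum, hn]
      have hd2 : ∑ i, (d i - q' i * u i) * deg i = k * n := by
        have h : ∑ i, (d i - q' i * u i) * deg i + ∑ i, (q' i * u i) * deg i = ∑ i, d i * deg i := by
          rw [← Finset.sum_add_distrib]
          exact Finset.sum_congr rfl fun i _ => by rw [← add_mul, Nat.sub_add_cancel (hle i)]
        rw [hd1, hd, add_mul, one_mul] at h
        omega
      rw [pow_succ, show ∏ i, f i ^ d i = (∏ i, f i ^ (d i - q' i * u i)) * ∏ i, f i ^ (q' i * u i) by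
        rw [← Finset.prod_mul_distrib]
        exact Finset.prod_congr rfl fun i _ => by rw [← pow_add, Nat.sub_add_cancel (hle i)]]
      exact Submodule.mul_mem_mul (ih _ hd2) (Submodule.subset_span (hmem _ hd1))
  refine Submodule.span_le.mpr ?_ (ProjEmb.mem_span_monomials 𝒜 hf hgen hb)
  rintro _ ⟨d, hd, rfl⟩
  exact key k d hd

end Groth.Agent.S13182
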