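import Groth.Statements.S13183
import Groth.Agent.ProjEmb.Main
import Groth.Agent.ProjEmb.Monomials

set_option autoImplicit false
universe u
open CategoryTheory CategoryTheory.Limits AlgebraicGeometry
open ZeroCyc

set_option backward.isDefEq.respectTransparency false
set_option backward.isDefEq.respectTransparency.types false

namespace Groth.Agent.S13183

/-- Let B be a graded R-algebra of finite type, generated by elements of degrees between 1 and d, such
that X = Proj B is covered by the opens D_+(g), g ∈ B_1. For n ≥ d, n ≥ 1, there is a closed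
immersion i of X into a projective space over R, over Spec R, with O_X(n) ≅ i^*O(1); in particular
O_X(n) is very ample relative to Spec R. (The published statement assumes neither finite generation
nor that the generators have positive degree, and its target is P(B_n) with i the canonical morphism
given by B_n; a closed immersion into a projective space of finite type over R needs X proper over
R, so B is taken of finite type with generators of positive degree; existence of the isomorphism
only.) -/
theorem result {R A : Type u} [CommRing R] [CommRing A] [Algebra R A] (𝒜 : ℕ → Submodule R A) [GradedAlgebra 𝒜]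
    (d : ℕ) (hgen : Algebra.adjoin R (⋃ i ∈ Finset.Icc 1 d, (𝒜 i : Set A)) = ⊤)
    (hcov : (⨆ g : 𝒜 1, Proj.basicOpen 𝒜 (g : A)) = ⊤) [Algebra.FiniteType R A] (n : ℕ) (hn : d ≤ n) (hn1 : 0 < n) :
    ∃ (N : ℕ) (i : Proj 𝒜 ⟶ CohB1.ProjSpaceOver N (Spec (CommRingCat.of R))), IsClosedImmersion i ∧
      i ≫ pullback.snd (CohB1.ProjSpace.toSpec N (ULift.{u} ℤ)) (specULiftZIsTerminal.from (Spec (CommRingCat.of R))) =
        Proj.toSpecZero 𝒜 ≫ Spec.map (CommRingCat.ofHom (algebraMap R (𝒜 0))) ∧
      Nonempty (Twist.twist 𝒜 (n : ℤ) ≅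
        (Scheme.Modules.pullback i).obj (Twist.twistOver N (Spec (CommRingCat.of R)) 1)) := by
  classical
  obtain ⟨s, f, deg, hfd, hgenf⟩ := ProjEmb.exists_finite_generators 𝒜 _ hgen
  have hdeg : ∀ i, 0 < deg i := fun i => (Finset.mem_Icc.mp (hfd i).1).1
  have hdn : ∀ i, deg i ≤ n := fun i => (Finset.mem_Icc.mp (hfd i).1).2.trans hn
  have hf : ∀ i, f i ∈ 𝒜 (deg i) := fun i => (hfd i).2
  have h0 := ProjEmb.algebraMap_zero_surjective 𝒜 hf hdeg hgenf
  haveI : IsScalarTower R (𝒜 0) A := ⟨fun r x y => smul_mul_assoc r (x : A) y⟩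
  haveI : Algebra.FiniteType (𝒜 0) A := Algebra.FiniteType.of_restrictScalars_finiteType R (𝒜 0) A
  haveI : CompactSpace (Proj 𝒜) := QuasiCompact.compactSpace_of_compactSpace (Proj.toSpecZero 𝒜)
  obtain ⟨G, hG⟩ := isCompact_univ.elim_finite_subcover (fun g : 𝒜 1 => (Proj.basicOpen 𝒜 (g : A) : Set (Proj 𝒜)))
    (fun g => (Proj.basicOpen 𝒜 (g : A)).2) (fun x _ => by
      have hx : x ∈ (⨆ g : 𝒜 1, Proj.basicOpen 𝒜 (g : A)) := hcov.ge trivial
      obtain ⟨g, hg⟩ := TopologicalSpace.Opens.mem_iSup.mp hx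
      exact Set.mem_iUnion.mpr ⟨g, hg⟩)
  let ι := Option (G ⊕ G × Fin s)
  let c : ι → A := fun o => o.elim 0 (Sum.elim (fun g => (g.1 : A) ^ n)
    (fun p => f p.2 * (p.1.1 : A) ^ (n - deg p.2)))
  have hpow : ∀ (g : 𝒜 1) (m : ℕ), (g : A) ^ m ∈ 𝒜 m := fun g m => by
    simpa using SetLike.pow_mem_graded m g.2
  have hc : ∀ o, c o ∈ 𝒜 n := by
    rintro (_ | g | ⟨g, i⟩)
    · exact zero_mem _
    · exact hpow _ _
    · have := SetLike.mul_mem_graded (hf i) (hpow g.1 (n - deg i))
      rwa [Nat.add_sub_of_le (hdn i)] at this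
  obtain ⟨N, hN⟩ : ∃ N, Fintype.card ι = N + 1 :=
    ⟨Fintype.card ι - 1, (Nat.succ_pred_eq_of_pos Fintype.card_pos).symm⟩
  let e : Fin (N + 1) ≃ ι := (Fintype.equivFinOfCardEq hN).symm
  refine ⟨N, ProjEmb.exists_closedImmersion 𝒜 hn1 h0 (fun j => c (e j)) (fun j => hc _)
    {j | ∃ g, e j = some (Sum.inl g)} (fun x => ?_) ?_⟩
  · obtain ⟨g, hg, hgx⟩ := Set.mem_iUnion₂.mp (hG (Set.mem_univ x))
    exact ⟨e.symm (some (Sum.inl ⟨g, hg⟩)), ⟨⟨g, hg⟩, by simp⟩, by
      simpa [c] using GrT.not_mem_pow 𝒜 ((ProjectiveSpectrum.mem_basicOpen 𝒜 _ x).mp hgx) n⟩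
  rintro j ⟨g, hj⟩ k a ha
  refine ⟨k * n, ?_⟩
  have hrange : Set.range (fun j => c (e j)) = Set.range c := e.surjective.range_comp c
  rw [hrange, show c (e j) = (g.1 : A) ^ n by simp [c, hj]]
  set J := Submodule.span R (Set.range c) with hJ
  have hspan := ProjEmb.mem_span_monomials 𝒜 hf hgenf ha
  clear ha
  induction hspan using Submodule.span_induction with
  | zero => simp
  | add x y _ _ hx hy => rw [mul_add]; exact add_mem hx hy
  | smul r x _ hx => rw [mul_smul_comm]; exact Submodule.smul_mem _ r hx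
  | mem x hx =>
    obtain ⟨d', hd', rfl⟩ := hx
    set E := ∑ i, d' i with hE
    have h1 : k * n ≤ n * E := by
      rw [← hd', hE, Finset.mul_sum]
      exact Finset.sum_le_sum fun i _ => by rw [mul_comm]; exact Nat.mul_le_mul_right _ (hdn i)
    have h2 : E ≤ k * n := by
      rw [← hd', hE]
      exact Finset.sum_le_sum fun i _ => Nat.le_mul_of_pos_right _ (hdeg i)
    have hprod : ∏ i, (f i * (g.1 : A) ^ (n - deg i)) ^ d' i =
        (g.1 : A) ^ (n * E - k * n) * ∏ i, f i ^ d' i := by
      simp only [mul_pow, Finset.prod_mul_distrib, ← pow_mul, Finset.prod_pow_eq_pow_sum]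
      rw [mul_comm]
      congr 2
      have h3 : ∑ i, (n - deg i) * d' i + k * n = n * E := by
        rw [← hd', hE, Finset.mul_sum, ← Finset.sum_add_distrib]
        refine Finset.sum_congr rfl fun i _ => ?_
        rw [mul_comm (d' i), ← add_mul, Nat.sub_add_cancel (hdn i)]
      omega
    have hsplit : n * (k * n) = n * (k * n + k - E) + (n * E - k * n) := by
      have h4 : k * n + k = (k * n + k - E) + E := by omega
      have h5 := congrArg (n * ·) h4
      simp only [mul_add] at h5
      have h6 : n * k = k * n := mul_comm _ _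
      omega
    have hmul : ((g.1 : A) ^ n) ^ (k * n) * ∏ i, f i ^ d' i =
        ((g.1 : A) ^ n) ^ (k * n + k - E) * ∏ i, (f i * (g.1 : A) ^ (n - deg i)) ^ d' i := by
      rw [hprod, ← mul_assoc, ← pow_mul, ← pow_mul, ← pow_add, ← hsplit]
    have hm := Submodule.mul_mem_mul (Submodule.pow_mem_pow J
      (Submodule.subset_span ⟨some (Sum.inl g), by simp [c]⟩ : (g.1 : A) ^ n ∈ J) (k * n + k - E))
      (show ∏ i, (f i * (g.1 : A) ^ (n - deg i)) ^ d' i ∈ J ^ E by
        rw [hE]
        induction (Finset.univ : Finset (Fin s)) using Finset.induction_on with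
        | empty => simp only [Finset.prod_empty, Finset.sum_empty, pow_zero]; exact Submodule.one_le.mp le_rfl
        | insert i t hit ih =>
          rw [Finset.prod_insert hit, Finset.sum_insert hit, pow_add]
          exact Submodule.mul_mem_mul (Submodule.pow_mem_pow _
            (Submodule.subset_span (R := R) (s := Set.range c) ⟨some (Sum.inr (g, i)), by simp [c]⟩) _) ih)
    rw [← pow_add, Nat.sub_add_cancel (h2.trans (Nat.le_add_right _ _))] at hm
    rwa [hmul]

end Groth.Agent.S13183
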