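import Groth.Statements.S13184
import Mathlib

set_option autoImplicit false
universe u
open ZeroCyc

namespace Groth.Agent.S13184

/-- Let k ⊆ K be a finite extension of fields of characteristic p > 0, viewed inside an algebraically
closed field Ω, and for e ≥ 0 let k^{p^{-e}} ⊆ Ω be the field of elements whose p^e-th power lies in
k. Then the compositum k^{p^{-e}}K is separable over k^{p^{-e}} if and only if x^{p^e} is separable
over k for every x ∈ K; hence the exponent of K/k (the least n ≥ 1 with K^n separable over k, a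
power of p) is the least p^e for which k^{p^{-e}} ⊆ k^{p^{-e}}K is separable. -/
theorem result {k : Type u} [Field k] (p : ℕ) [Fact p.Prime] [CharP k p]
    {K : Type u} [Field K] [Algebra k K] [FiniteDimensional k K]
    {Ω : Type u} [Field Ω] [Algebra k Ω] [Algebra K Ω] [IsScalarTower k K Ω] [IsAlgClosed Ω] (e : ℕ) :
    (∀ x : Ω, x ∈ IntermediateField.adjoin k {y : Ω | y ^ (p ^ e) ∈ Set.range (algebraMap k Ω)} ⊔
        IntermediateField.adjoin k (Set.range (algebraMap K Ω)) →
      IsSeparable (IntermediateField.adjoin k {y : Ω | y ^ (p ^ e) ∈ Set.range (algebraMap k Ω)}) x) ↔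
    ∀ x : K, x ^ (p ^ e) ∈ separableClosure k K := by
  classical
  haveI : CharP Ω p := charP_of_injective_algebraMap (algebraMap k Ω).injective p
  haveI : ExpChar Ω p := ExpChar.prime Fact.out
  haveI : ExpChar k p := ExpChar.prime Fact.out
  let φ : Ω →+* Ω := iterateFrobenius Ω p e
  have hφ : ∀ x, φ x = x ^ (p ^ e) := fun x => iterateFrobenius_def p e x
  set L := IntermediateField.adjoin k {y : Ω | y ^ (p ^ e) ∈ Set.range (algebraMap k Ω)} with hL
  have hLmem : ∀ y ∈ L, ∃ c : k, algebraMap k Ω c = φ y := by
    intro y hy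
    rw [hL] at hy
    induction hy using IntermediateField.adjoin_induction with
    | mem x hx => obtain ⟨c, hc⟩ := hx; exact ⟨c, by rw [hφ, hc]⟩
    | algebraMap x => exact ⟨x ^ (p ^ e), by rw [hφ, map_pow]⟩
    | add x y _ _ hx hy =>
        obtain ⟨a, ha⟩ := hx; obtain ⟨b, hb⟩ := hy; exact ⟨a + b, by rw [map_add, map_add, ha, hb]⟩
    | inv x _ hx => obtain ⟨a, ha⟩ := hx; exact ⟨a⁻¹, by rw [map_inv₀, map_inv₀, ha]⟩
    | mul x y _ _ hx hy =>
        obtain ⟨a, ha⟩ := hx; obtain ⟨b, hb⟩ := hy; exact ⟨a * b, by rw [map_mul, map_mul, ha, hb]⟩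
  choose g hg using hLmem
  have hinj : Function.Injective (algebraMap k Ω) := (algebraMap k Ω).injective
  let ψ : L →+* k :=
    { toFun := fun y => g y.1 y.2
      map_one' := hinj (by rw [hg, map_one]; exact map_one φ)
      map_mul' := fun a b => hinj (by rw [map_mul, hg, hg, hg]; exact map_mul φ _ _)
      map_zero' := hinj (by rw [hg, map_zero]; exact map_zero φ)
      map_add' := fun a b => hinj (by rw [map_add, hg, hg, hg]; exact map_add φ _ _) }
  have hψ : (algebraMap k Ω).comp ψ = φ.comp (algebraMap L Ω) := RingHom.ext fun y => hg y.1 y.2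
  have hψs : Function.Surjective ψ := by
    intro c
    obtain ⟨y, hy⟩ := IsAlgClosed.exists_pow_nat_eq (algebraMap k Ω c)
      (pow_pos (Fact.out : p.Prime).pos e)
    refine ⟨⟨y, IntermediateField.subset_adjoin k _ ⟨c, hy.symm⟩⟩, hinj ?_⟩
    exact (hg y (IntermediateField.subset_adjoin k _ ⟨c, hy.symm⟩)).trans ((hφ y).trans hy)
  let σ : L ≃+* k := RingEquiv.ofBijective ψ ⟨ψ.injective, hψs⟩
  have key : ∀ x : Ω, IsSeparable L x ↔ φ x ∈ separableClosure k Ω := by
    intro x
    rw [mem_separableClosure_iff]
    constructor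
    · intro hx
      have h : Polynomial.aeval (φ x) ((minpoly L x).map ψ) = 0 := by
        rw [Polynomial.aeval_def, Polynomial.eval₂_map, hψ, ← Polynomial.hom_eval₂,
          ← Polynomial.aeval_def, minpoly.aeval, map_zero]
      exact (Polynomial.Separable.map (p := minpoly L x) hx).of_dvd (minpoly.dvd k _ h)
    · intro hx
      have h : Polynomial.aeval x ((minpoly k (φ x)).map σ.symm.toRingHom) = 0 := by
        apply φ.injective
        rw [Polynomial.aeval_def, Polynomial.hom_eval₂, Polynomial.eval₂_map,
          ← hψ, RingHom.comp_assoc,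
          show ψ.comp σ.symm.toRingHom = RingHom.id k from RingHom.ext fun c => σ.apply_symm_apply c,
          RingHom.comp_id, ← Polynomial.aeval_def, minpoly.aeval, map_zero]
      exact (Polynomial.Separable.map (p := minpoly k (φ x)) hx).of_dvd (minpoly.dvd L _ h)
  let i : K →ₐ[k] Ω := IsScalarTower.toAlgHom k K Ω
  have hi : ∀ x : K, φ (algebraMap K Ω x) = i (x ^ (p ^ e)) := fun x => by
    rw [map_pow, hφ]; rfl
  constructor
  · intro h x
    have hx := (key _).mp (h (algebraMap K Ω x)
      ((le_sup_right : IntermediateField.adjoin k (Set.range (algebraMap K Ω)) ≤ _)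
        (IntermediateField.subset_adjoin k _ ⟨x, rfl⟩)))
    rw [hi, map_mem_separableClosure_iff] at hx
    exact hx
  · intro h x hx
    rw [key]
    let T : IntermediateField k Ω :=
      { carrier := {z | φ z ∈ separableClosure k Ω}
        add_mem' := fun {a b} ha hb => by simpa using add_mem ha hb
        mul_mem' := fun {a b} ha hb => by simpa using mul_mem ha hb
        zero_mem' := by simp
        one_mem' := by simp
        algebraMap_mem' := fun c => by
          rw [Set.mem_setOf_eq, hφ, ← map_pow]; exact IntermediateField.algebraMap_mem _ _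
        inv_mem' := fun a ha => by
          show φ a⁻¹ ∈ separableClosure k Ω
          rw [map_inv₀]; exact inv_mem (ha : φ a ∈ separableClosure k Ω) }
    have hle : IntermediateField.adjoin k {y : Ω | y ^ (p ^ e) ∈ Set.range (algebraMap k Ω)} ⊔
        IntermediateField.adjoin k (Set.range (algebraMap K Ω)) ≤ T := by
      refine sup_le (IntermediateField.adjoin_le_iff.mpr ?_) (IntermediateField.adjoin_le_iff.mpr ?_)
      · rintro y ⟨c, hc⟩
        show φ y ∈ separableClosure k Ω
        rw [hφ, ← hc]; exact IntermediateField.algebraMap_mem _ _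
      · rintro _ ⟨z, rfl⟩
        show φ _ ∈ separableClosure k Ω
        rw [hi, map_mem_separableClosure_iff]
        exact h z
    exact hle hx

end Groth.Agent.S13184
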