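import Groth.Statements.S13186
import Groth.Agent.GSzBasics.Hilbert90

set_option autoImplicit false
universe u
open GalCoh

namespace Groth.Agent.S13186

/-- Let L/K be a finite Galois extension of fields, n a natural number, and B a map from the Galois
group of L over K to the invertible n × n matrices over L such that B(σ) · σ(B(τ)) = B(στ) for all
σ, τ (σ acting on matrices entrywise, στ applying τ first) and det B(σ) = 1 for every σ. Then there
is an invertible matrix A over L of determinant 1 with B(σ) = A⁻¹ · σ(A) for every σ; that is, every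
1-cocycle of the Galois group with values in SL_n(L) is the coboundary of an element of SL_n(L), so
H¹ of the Galois group with values in SL_n(L) is a point. (The published statement says that every
torsor under the special linear group over K is trivial; this row is the finite-Galois-level cocycle
form that its proof establishes.) -/
theorem result (K L : Type u) [Field K] [Field L]
    [Algebra K L] [FiniteDimensional K L] [IsGalois K L] (n : ℕ)
    (B : (L ≃ₐ[K] L) → GL (Fin n) L)
    (hB : ∀ σ τ : L ≃ₐ[K] L,
      (B σ : Matrix (Fin n) (Fin n) L) * (B τ : Matrix (Fin n) (Fin n) L).map σ =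
        (B (σ * τ) : Matrix (Fin n) (Fin n) L))
    (hdet : ∀ σ : L ≃ₐ[K] L, Matrix.det (B σ : Matrix (Fin n) (Fin n) L) = 1) :
    ∃ A : GL (Fin n) L, Matrix.det (A : Matrix (Fin n) (Fin n) L) = 1 ∧ ∀ σ : L ≃ₐ[K] L,
      (B σ : Matrix (Fin n) (Fin n) L) =
        ((A⁻¹ : GL (Fin n) L) : Matrix (Fin n) (Fin n) L) * (A : Matrix (Fin n) (Fin n) L).map σ := by
  obtain ⟨C, hC⟩ := GSzBasics.exists_frame B (fun σ τ => (hB σ τ).symm)
  set M : Matrix (Fin n) (Fin n) L := ↑C with hM
  have hdetfix : ∀ σ : L ≃ₐ[K] L, σ M.det = M.det := fun σ => by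
    have h := congrArg Matrix.det (hC σ)
    rw [Matrix.det_mul, hdet, one_mul] at h
    exact (σ.map_det M).trans h
  have hd : M.det ≠ 0 := ((Matrix.isUnit_iff_isUnit_det M).mp C.isUnit).ne_zero
  obtain ⟨D, hDdet, hDfix⟩ : ∃ D : GL (Fin n) L, (D : Matrix (Fin n) (Fin n) L).det = M.det ∧
      ∀ σ : L ≃ₐ[K] L, (D : Matrix (Fin n) (Fin n) L).map σ = D := by
    rcases Nat.eq_zero_or_pos n with rfl | hn
    · exact ⟨1, by simp, fun σ => Subsingleton.elim _ _⟩
    have hu : IsUnit (Matrix.diagonal (Function.update (fun _ => (1 : L)) (⟨0, hn⟩ : Fin n) M.det)) := by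
      rw [Matrix.isUnit_iff_isUnit_det, Matrix.det_diagonal, Finset.prod_update_of_mem (Finset.mem_univ _)]
      simpa using hd
    refine ⟨hu.unit, ?_, fun σ => ?_⟩
    · rw [IsUnit.unit_spec, Matrix.det_diagonal, Finset.prod_update_of_mem (Finset.mem_univ _)]
      simp
    · rw [IsUnit.unit_spec, Matrix.diagonal_map (map_zero σ)]
      congr 1
      funext i
      by_cases hi : i = (⟨0, hn⟩ : Fin n)
      · subst hi; simp [hdetfix]
      · simp [Function.update_of_ne hi]
  refine ⟨D * C⁻¹, ?_, fun σ => ?_⟩
  · rw [Units.val_mul, Matrix.det_mul, hDdet, Matrix.coe_units_inv, Matrix.det_nonsing_inv]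
    simp [Ring.inverse_eq_inv', hd, M]
  · rw [mul_inv_rev, inv_inv, Units.val_mul, Units.val_mul, Matrix.map_mul, hDfix, mul_assoc,
      Units.inv_mul_cancel_left]
    have h := congrArg (fun X : Matrix (Fin n) (Fin n) L =>
      X * ((C⁻¹ : GL (Fin n) L) : Matrix (Fin n) (Fin n) L).map σ) (hC σ)
    simp only [mul_assoc, ← Matrix.map_mul, Units.mul_inv, hM] at h
    rw [Matrix.map_one _ (map_zero σ) (map_one σ), mul_one] at h
    exact h

end Groth.Agent.S13186
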