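import Groth.Statements.S13188
import Groth.Agent.RedNorm.Basic

set_option autoImplicit false
set_option linter.style.haveILetI false
set_option backward.isDefEq.respectTransparency false
open Groth.Agent
universe u v w
open Brauer

namespace Groth.Agent.S13188

/-- Let K be a field with property C_2 for systems of forms and D a finite-dimensional central division
algebra over K with dim_K D = d². Let N : D → K be multiplicative, a reduced norm of D over K, and
given in the coordinates of a K-basis b of D by a homogeneous polynomial F of degree d, i.e. N(Σ x_i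
b_i) = F(x) for every coordinate vector x (the reduced norm of a central simple algebra of dimension
d² is such a polynomial map of degree d; these data record it). Then N : D → K is surjective. -/
theorem result (K : Type u) [Field K] (hK : Curves.IsCi K 2)
    (D : Type v) [DivisionRing D] [Algebra K D] [Algebra.IsCentral K D] [FiniteDimensional K D]
    (d : ℕ) (hd : Module.finrank K D = d ^ 2)
    (N : D →* K) (hN : CSAGal.IsRedNorm K D N)
    {ι : Type w} [Fintype ι] (b : Module.Basis ι K D)
    (F : MvPolynomial ι K) (hF : F.IsHomogeneous d)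
    (hNF : ∀ x : ι → K, N (∑ i, x i • b i) = MvPolynomial.eval x F) :
    Function.Surjective N := by
  classical
  have hN' := RedNorm.isNrd_of_isRedNorm hd hN
  have hd0 : d ≠ 0 := RedNorm.ne_zero_of_degree hd
  have hcard : Fintype.card ι = d ^ 2 := by rw [← hd, Module.finrank_eq_card_basis b]
  intro c
  let e : ι ⊕ Unit ≃ Fin (d ^ 2 + 1) := Fintype.equivFinOfCardEq (by rw [Fintype.card_sum, hcard, Fintype.card_unit])
  let G : MvPolynomial (Fin (d ^ 2 + 1)) K :=
    MvPolynomial.rename e (MvPolynomial.rename Sum.inl F - MvPolynomial.C c * MvPolynomial.X (Sum.inr ()) ^ d)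
  have hG : G.IsHomogeneous d := by
    refine MvPolynomial.IsHomogeneous.rename_isHomogeneous (MvPolynomial.IsHomogeneous.sub hF.rename_isHomogeneous ?_)
    simpa using ((MvPolynomial.isHomogeneous_X K (Sum.inr () : ι ⊕ Unit)).pow d).C_mul c
  obtain ⟨z, hz0, hz⟩ := hK 1 (d ^ 2 + 1) (fun _ => G) (fun _ => d) (fun _ => hG) (fun _ => Nat.pos_of_ne_zero hd0)
    (by simp)
  have hz' := hz 0
  simp only [G, MvPolynomial.eval_rename, map_sub, map_mul, MvPolynomial.eval_C, map_pow, MvPolynomial.eval_X,
    Function.comp_apply, sub_eq_zero] at hz'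
  set x := fun i => z (e (Sum.inl i))
  set t := z (e (Sum.inr ()))
  have hNx : N (∑ i, x i • b i) = c * t ^ d := (hNF x).trans hz'
  by_cases ht : t = 0
  · exfalso
    rw [ht, zero_pow hd0, mul_zero] at hNx
    have hx0 : ∑ i, x i • b i = 0 := by
      by_contra h
      exact (RedNorm.isUnit_iff_nrd hd hN' _).mp (isUnit_iff_ne_zero.mpr h) hNx
    apply hz0
    funext j
    obtain ⟨i | i, rfl⟩ := e.surjective j
    · exact (Fintype.linearIndependent_iff.mp b.linearIndependent x hx0) i
    · exact ht
  refine ⟨t⁻¹ • ∑ i, x i • b i, ?_⟩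
  obtain ⟨g⟩ := RedNorm.exists_rep (k := K) (A := D) hd
  apply (algebraMap K (AlgebraicClosure K)).injective
  rw [← hN' g, map_smul, ← algebraMap_smul (AlgebraicClosure K), Matrix.det_smul, Fintype.card_fin, hN' g, hNx,
    ← map_pow, ← map_mul, inv_pow, mul_comm c, inv_mul_cancel_left₀ (pow_ne_zero _ ht)]

end Groth.Agent.S13188
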