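import Groth.Statements.S13191
import Groth.Agent.GSzBasics.Delta

set_option autoImplicit false
universe u v w x
open GalCoh

namespace Groth.Agent.S13191

/-- Let a group G act by automorphisms on a group A, and let E and E' each be a G-equivariant right
A-torsor (a set with a simply transitive right action of A, written m ↦ m·a, and a left action of G
with g(m·a) = (gm)·(ga)). Let m ∈ E and m' ∈ E' be points with attached maps a, a' : G → A (g·m =
m·a(g) and g·m' = m'·a'(g) for all g). Then there is a bijection E ≃ E' commuting with the actions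
of G and of A if and only if a and a' are cohomologous. (The published statement is for a Galois
group acting on discrete modules; this row takes an arbitrary group acting on a group.) -/
theorem result {G : Type u} {A : Type v} {E : Type w} {E' : Type x}
    [Group G] [Group A] [MulDistribMulAction G A]
    [MulAction G E] [MulAction Aᵐᵒᵖ E]
    (hfree : ∀ m₁ m₂ : E, ∃! a : A, m₂ = MulOpposite.op a • m₁)
    (hcompat : ∀ (g : G) (a : A) (m : E), g • (MulOpposite.op a • m) = MulOpposite.op (g • a) • g • m)
    [MulAction G E'] [MulAction Aᵐᵒᵖ E']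
    (hfree' : ∀ m₁ m₂ : E', ∃! a : A, m₂ = MulOpposite.op a • m₁)
    (hcompat' : ∀ (g : G) (a : A) (m : E'), g • (MulOpposite.op a • m) = MulOpposite.op (g • a) • g • m)
    (m : E) (a : G → A) (ha : ∀ g : G, g • m = MulOpposite.op (a g) • m)
    (m' : E') (a' : G → A) (ha' : ∀ g : G, g • m' = MulOpposite.op (a' g) • m') :
    (∃ f : E ≃ E', (∀ (g : G) (e : E), f (g • e) = g • f e) ∧
        ∀ (b : A) (e : E), f (MulOpposite.op b • e) = MulOpposite.op b • f e) ↔
      GpH1.Cohomologous a a' := by
  constructor
  · rintro ⟨f, hfG, hfA⟩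
    obtain ⟨c, hc, -⟩ := hfree' m' (f m)
    refine ⟨c, fun g => ?_⟩
    have h1 : f (g • m) = MulOpposite.op (c * a g) • m' := by
      rw [ha, hfA, hc, ← mul_smul, ← MulOpposite.op_mul]
    have h2 : f (g • m) = MulOpposite.op (a' g * g • c) • m' := by
      rw [hfG, hc, hcompat', ha', ← mul_smul, ← MulOpposite.op_mul]
    have h3 := (hfree' m' (f (g • m))).unique h1 h2
    rw [mul_assoc, ← h3, inv_mul_cancel_left]
  · rintro ⟨c, hc⟩
    let e : A ≃ E := Equiv.ofBijective (fun b => MulOpposite.op b • m)
      ⟨fun x y hxy => (hfree m (MulOpposite.op x • m)).unique rfl hxy,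
        fun z => ⟨(hfree m z).choose, (hfree m z).choose_spec.1.symm⟩⟩
    let e' : A ≃ E' := Equiv.ofBijective (fun b => MulOpposite.op b • m')
      ⟨fun x y hxy => (hfree' m' (MulOpposite.op x • m')).unique rfl hxy,
        fun z => ⟨(hfree' m' z).choose, (hfree' m' z).choose_spec.1.symm⟩⟩
    have hfm : ∀ b : A, ((e.symm.trans (Equiv.mulLeft c)).trans e') (MulOpposite.op b • m) =
        MulOpposite.op (c * b) • m' := fun b => by
      show e' (c * e.symm (e b)) = _
      rw [e.symm_apply_apply]
      rfl
    refine ⟨(e.symm.trans (Equiv.mulLeft c)).trans e', fun g x => ?_, fun b x => ?_⟩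
    · obtain ⟨b, rfl⟩ : ∃ b, MulOpposite.op b • m = x := e.surjective x
      rw [hcompat, ha, ← mul_smul, ← MulOpposite.op_mul, hfm, hfm, hcompat', ha', ← mul_smul,
        ← MulOpposite.op_mul, hc g, smul_mul']
      congr 2
      group
    · obtain ⟨d, rfl⟩ : ∃ d, MulOpposite.op d • m = x := e.surjective x
      rw [← mul_smul, ← MulOpposite.op_mul, hfm, hfm, ← mul_smul, ← MulOpposite.op_mul, mul_assoc]

end Groth.Agent.S13191
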