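import Groth.Statements.S13198
import Mathlib
-- import your own Groth.Agent.* helpers here

set_option autoImplicit false
universe u
open scoped TensorProduct
open Hensel

namespace Groth.Agent.S13198

/-- Let R be a local ring which is strictly henselian (henselian, with separably closed residue field),
A a local ring which is an integral R-algebra with local structure map and whose residue field is
purely inseparable over that of R, and B a local ring with a local homomorphism R → B. Then A ⊗_R B
is a local ring, the map B → A ⊗_R B is local, and the residue field extension of A ⊗_R B over B is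
purely inseparable: every element of A ⊗_R B has a p^n-th power, p the characteristic exponent of
the residue field of B, congruent modulo the maximal ideal to an element 1 ⊗ b. -/
theorem result
    (R A B : Type u) [CommRing R] [HenselianLocalRing R] [IsSepClosed (IsLocalRing.ResidueField R)]
    [CommRing A] [IsLocalRing A] [Algebra R A] [IsLocalHom (algebraMap R A)] [Algebra.IsIntegral R A]
    [IsPurelyInseparable (IsLocalRing.ResidueField R) (IsLocalRing.ResidueField A)]
    [CommRing B] [IsLocalRing B] [Algebra R B] [IsLocalHom (algebraMap R B)] :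
    ∃ _ : IsLocalRing (A ⊗[R] B),
      IsLocalHom (Algebra.TensorProduct.includeRight : B →ₐ[R] A ⊗[R] B).toRingHom ∧
      ∀ x : A ⊗[R] B, ∃ (n : ℕ) (b : B),
        x ^ (ringExpChar (IsLocalRing.ResidueField B)) ^ n - (1 : A) ⊗ₜ[R] b ∈ IsLocalRing.maximalIdeal (A ⊗[R] B) := by
  classical
  open IsLocalRing in
  let κR := ResidueField R
  let κB := ResidueField B
  let p := ringExpChar κR
  haveI : ExpChar κR p := inferInstance
  haveI : ExpChar κB p := expChar_of_injective_ringHom (ResidueField.map (algebraMap R B)).injective p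
  have hpB : ringExpChar κB = p := ringExpChar.eq κB p
  let i₂ : B →ₐ[R] A ⊗[R] B := Algebra.TensorProduct.includeRight
  let i₁ : A →ₐ[R] A ⊗[R] B := Algebra.TensorProduct.includeLeft
  let J : Ideal (A ⊗[R] B) := ((maximalIdeal B).map i₂.toRingHom).radical
  -- a point
  have hJne : J ≠ ⊤ := by
    let K := AlgebraicClosure κB
    letI : Algebra κR K := ((algebraMap κB K).comp (ResidueField.map (algebraMap R B))).toAlgebra
    let σ : ResidueField A →ₐ[κR] K := by
      set_option synthInstance.maxHeartbeats 200000 in exact IsAlgClosed.lift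
    let fA : A →+* K := σ.toRingHom.comp (residue A)
    let fB : B →+* K := (algebraMap κB K).comp (residue B)
    letI : Algebra R K := (fB.comp (algebraMap R B)).toAlgebra
    let fA' : A →ₐ[R] K :=
      { fA with
        commutes' := fun r => by
          change σ (algebraMap κR (ResidueField A) (residue R r)) = _
          rw [AlgHom.commutes]
          rfl }
    let fB' : B →ₐ[R] K := { fB with commutes' := fun r => rfl }
    let ev : A ⊗[R] B →ₐ[R] K := Algebra.TensorProduct.productMap fA' fB'
    have hev : J ≤ RingHom.ker ev.toRingHom := by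
      refine ((RingHom.ker_isPrime ev.toRingHom).radical_le_iff).2 (Ideal.map_le_iff_le_comap.2 fun b hb => ?_)
      rw [Ideal.mem_comap, RingHom.mem_ker]
      refine (Algebra.TensorProduct.productMap_right_apply fA' fB' b).trans ?_
      change algebraMap κB K (residue B b) = 0
      rw [(residue_eq_zero_iff b).2 hb, map_zero]
    exact fun h => RingHom.ker_ne_top ev.toRingHom (top_le_iff.1 (h ▸ hev))
  let Q := (A ⊗[R] B) ⧸ J
  let q : A ⊗[R] B →+* Q := Ideal.Quotient.mk J
  haveI : Nontrivial Q := Ideal.Quotient.nontrivial_iff.2 hJne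
  have hqB : ∀ b ∈ maximalIdeal B, q (i₂ b) = 0 := fun b hb =>
    Ideal.Quotient.eq_zero_iff_mem.2 (Ideal.le_radical (Ideal.mem_map_of_mem _ hb))
  let φ : κB →+* Q := Ideal.Quotient.lift (maximalIdeal B) (q.comp i₂.toRingHom) hqB
  haveI : ExpChar Q p := expChar_of_injective_ringHom φ.injective p
  have hradA : ∀ y ∈ maximalIdeal A, ∃ k : ℕ, y ^ k ∈ (maximalIdeal R).map (algebraMap R A) := by
    intro y hy
    refine (?_ : y ∈ ((maximalIdeal R).map (algebraMap R A)).radical)
    rw [Ideal.radical_eq_sInf]
    refine Submodule.mem_sInf.2 ?_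
    rintro P ⟨hP, hPp⟩
    haveI := hPp
    haveI : Ideal.IsMaximal P := Ideal.isMaximal_of_isIntegral_of_isMaximal_comap P (by
      rw [← (maximalIdeal.isMaximal R).eq_of_le (Ideal.comap_ne_top _ hPp.ne_top) (Ideal.map_le_iff_le_comap.1 hP)]
      infer_instance)
    rwa [eq_maximalIdeal this]
  have hqA : ∀ y ∈ maximalIdeal A, q (i₁ y) = 0 := fun y hy => by
    obtain ⟨k, hk⟩ := hradA y hy
    refine Ideal.Quotient.eq_zero_iff_mem.2 ⟨k, ?_⟩
    rw [← map_pow]
    have h1 := Ideal.mem_map_of_mem i₁.toRingHom hk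
    rw [Ideal.map_map, show i₁.toRingHom.comp (algebraMap R A) = i₂.toRingHom.comp (algebraMap R B) from
      RingHom.ext fun r => (i₁.commutes r).trans (i₂.commutes r).symm, ← Ideal.map_map] at h1
    exact Ideal.map_mono (show (maximalIdeal R).map (algebraMap R B) ≤ maximalIdeal B from
      Ideal.map_le_iff_le_comap.2 fun r hr => map_nonunit (algebraMap R B) r hr) h1
  have key : ∀ x : A ⊗[R] B, ∃ (n : ℕ) (b : B), q x ^ p ^ n = q (i₂ b) := by
    intro x
    induction x using TensorProduct.induction_on with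
    | zero => exact ⟨0, 0, by simp⟩
    | tmul a b =>
      obtain ⟨n, r₀, hr⟩ := IsPurelyInseparable.pow_mem κR p (residue A a)
      obtain ⟨r, rfl⟩ := residue_surjective r₀
      have h1 : q (i₁ (a ^ p ^ n - algebraMap R A r)) = 0 := hqA _ (by
        rw [← residue_eq_zero_iff, map_sub, map_pow, ← hr]
        exact sub_self _)
      rw [map_sub, map_sub, sub_eq_zero, AlgHom.commutes, ← i₂.commutes, map_pow, map_pow] at h1
      refine ⟨n, algebraMap R B r * b ^ p ^ n, ?_⟩
      rw [show a ⊗ₜ[R] b = i₁ a * i₂ b by simp [i₁, i₂], map_mul, mul_pow, h1, ← map_pow, ← map_pow, ← map_mul, ← map_mul]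
    | add x y hx hy =>
      obtain ⟨m, b, hb⟩ := hx
      obtain ⟨n, c, hc⟩ := hy
      refine ⟨m + n, b ^ p ^ n + c ^ p ^ m, ?_⟩
      rw [map_add, add_pow_expChar_pow, map_add, map_add, map_pow, map_pow, map_pow, map_pow, ← hb, ← hc, ← pow_mul,
        ← pow_mul, ← pow_add, ← pow_add, Nat.add_comm n m]
  have hunit : ∀ b : B, IsUnit b → IsUnit (q (i₂ b)) := fun b hb => (hb.map i₂).map q
  have hq0 : ∀ x, q x = 0 ↔ ∀ M : Ideal (A ⊗[R] B), M.IsMaximal → J ≤ M → x ∈ M := by
    refine fun x => ⟨fun hx M _ hM => hM (Ideal.Quotient.eq_zero_iff_mem.1 hx), fun h => ?_⟩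
    by_contra hx
    obtain ⟨n, b, hb⟩ := key x
    rcases em (IsUnit b) with hu | hu
    · have h1 : IsUnit (q x) := (isUnit_pow_iff (pow_ne_zero n (expChar_pos κR p).ne')).1 (hb ▸ hunit b hu)
      obtain ⟨M, hM, hJM⟩ := Ideal.exists_le_maximal J hJne
      obtain ⟨y, hy⟩ := Ideal.Quotient.mk_surjective (↑h1.unit⁻¹ : Q)
      have h2 : q (x * y) = 1 := by rw [map_mul, hy]; exact h1.mul_val_inv
      rw [← map_one q, Ideal.Quotient.eq] at h2
      exact hM.ne_top ((Ideal.eq_top_iff_one _).2 (by
        have := M.sub_mem (M.mul_mem_right y (h M hM hJM)) (hJM h2)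
        simpa using this))
    · refine hx ?_
      have h1 : IsNilpotent (q x) := ⟨p ^ n, by rw [hb]; exact hqB b hu⟩
      haveI : IsReduced Q := (Ideal.isRadical_iff_quotient_reduced J).1 (Ideal.radical_isRadical _)
      exact h1.eq_zero
  have hJmax : J.IsMaximal := by
    refine Ideal.isMaximal_iff.2 ⟨fun h => hJne ((Ideal.eq_top_iff_one _).2 h), fun M x hJM hxJ hxM => ?_⟩
    obtain ⟨n, b, hb⟩ := key x
    have hu : IsUnit b := by
      by_contra hu
      haveI : IsReduced Q := (Ideal.isRadical_iff_quotient_reduced J).1 (Ideal.radical_isRadical _)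
      exact hxJ (Ideal.Quotient.eq_zero_iff_mem.1 (IsNilpotent.eq_zero ⟨p ^ n, by rw [hb]; exact hqB b hu⟩))
    rw [← map_pow, Ideal.Quotient.eq] at hb
    rw [← M.eq_top_iff_one]
    refine M.eq_top_of_isUnit_mem ?_ (hu.map i₂)
    have := M.sub_mem (Ideal.pow_mem_of_mem M hxM _ (pow_pos (expChar_pos κR p) n)) (hJM hb)
    simpa using this
  haveI hjac : ∀ M : Ideal (A ⊗[R] B), M.IsMaximal → M = J := fun M hM => by
    refine (hJmax.eq_of_le hM.ne_top ?_).symm
    refine hM.isPrime.radical_le_iff.2 (Ideal.map_le_iff_le_comap.2 ?_)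
    letI : Algebra B (A ⊗[R] B) := Algebra.TensorProduct.rightAlgebra
    haveI : Algebra.IsIntegral B (A ⊗[R] B) := by
      refine ⟨fun x => ?_⟩
      induction x using TensorProduct.induction_on with
      | zero => exact isIntegral_zero
      | add x y hx hy => exact hx.add hy
      | tmul a b =>
        rw [show a ⊗ₜ[R] b = i₁ a * algebraMap B (A ⊗[R] B) b by
          change a ⊗ₜ[R] b = i₁ a * ((1 : A) ⊗ₜ[R] b); simp [i₁]]
        exact ((Algebra.IsIntegral.isIntegral (R := R) a).map i₁).tower_top.mul isIntegral_algebraMap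
    haveI := Ideal.isMaximal_comap_of_isIntegral_of_isMaximal (R := B) M
    exact (eq_maximalIdeal this).ge
  haveI hloc : IsLocalRing (A ⊗[R] B) := IsLocalRing.of_unique_max_ideal ⟨J, hJmax, hjac⟩
  have hmaxJ : maximalIdeal (A ⊗[R] B) = J := (eq_maximalIdeal hJmax).symm
  refine ⟨hloc, ((local_hom_TFAE i₂.toRingHom).out 2 0).1 (by rw [hmaxJ]; exact Ideal.le_radical), fun x => ?_⟩
  obtain ⟨n, b, hb⟩ := key x
  refine ⟨n, b, ?_⟩
  rw [hpB, hmaxJ, ← Ideal.Quotient.eq, map_pow]
  exact hb

end Groth.Agent.S13198
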