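import Groth.Statements.S13200
-- import your own Groth.Agent.* helpers here
import Groth.Agent.GRingCpl.UnibranchCat
import Groth.Agent.GRingCpl.HenselG
import Groth.Agent.FlatDepth.RegHom
import Groth.Agent.Hensel.Local

set_option autoImplicit false
universe u
open Hensel

namespace Groth.Agent.S13200

/-- Let R be an excellent local ring which is strictly henselian (henselian with separably closed
residue field), and let R^ denote its completion at the maximal ideal. An element Δ of R is a prime
element of R exactly when its image in R^ is a prime element of R^. -/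
theorem result
    (R : Type u) [CommRing R] [HenselianLocalRing R] [IsSepClosed (IsLocalRing.ResidueField R)]
    (hR : EGA4.IsExcellent R) (Δ : R) :
    Prime Δ ↔ Prime (algebraMap R (AdicCompletion (IsLocalRing.maximalIdeal R) R) Δ) := by
  haveI := hR.1
  let D := AdicCompletion (IsLocalRing.maximalIdeal R) R
  haveI : Module.FaithfullyFlat R D := Module.FaithfullyFlat.of_flat_of_isLocalHom
  have hinj : Function.Injective (algebraMap R D) := FaithfulSMul.algebraMap_injective R D
  have hn : EGA4.HasGeomNormalFormalFibres R :=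
    (FlatDepth.isNormalHom_of_isRegularHom (GRingCpl.isRegularHom_cpl_of_isGRing R hR.2.2.1)).2
  have hmap : (Ideal.span {Δ}).map (algebraMap R D) = Ideal.span {algebraMap R D Δ} := by
    rw [Ideal.map_span, Set.image_singleton]
  constructor
  · intro hΔ
    have h0 : algebraMap R D Δ ≠ 0 := fun h => hΔ.ne_zero (hinj (h.trans (map_zero _).symm))
    rw [← Ideal.span_singleton_prime h0, ← hmap]
    haveI : (Ideal.span {Δ}).IsPrime := (Ideal.span_singleton_prime hΔ.ne_zero).mpr hΔ
    let q := Ideal.span {Δ}
    haveI : Nontrivial (R ⧸ q) := Ideal.Quotient.nontrivial_iff.mpr (Ideal.IsPrime.ne_top inferInstance)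
    haveI : IsLocalRing (R ⧸ q) := IsLocalRing.of_surjective' (Ideal.Quotient.mk q) Ideal.Quotient.mk_surjective
    haveI : HenselianLocalRing (R ⧸ q) := Hensel.henselianLocalRing_finite R (R ⧸ q)
    haveI := GRingCpl.isDomain_cpl_of_henselian (R ⧸ q) (S4754.result R hn q)
    obtain ⟨e⟩ := Cohen.exists_quotient_equiv (Ideal.Quotient.mk q) Ideal.Quotient.mk_surjective
    rw [Ideal.mk_ker] at e
    exact (Ideal.Quotient.isDomain_iff_prime _).mp
      (e.toMulEquiv.isDomain (AdicCompletion (IsLocalRing.maximalIdeal (R ⧸ q)) (R ⧸ q)))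
  · intro hΔ
    have h0 : Δ ≠ 0 := fun h => hΔ.ne_zero (by rw [h, map_zero])
    rw [← Ideal.span_singleton_prime h0]
    haveI : (Ideal.span {algebraMap R D Δ}).IsPrime := (Ideal.span_singleton_prime hΔ.ne_zero).mpr hΔ
    rw [← Ideal.comap_map_eq_self_of_faithfullyFlat (B := D) (Ideal.span {Δ}), hmap]
    exact Ideal.comap_isPrime _ _

end Groth.Agent.S13200
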