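import Groth.Statements.S17730
import Groth.Agent.SmoothGU.Basic
import Groth.Agent.S2750
import Groth.Agent.Hensel.BranchSum
-- import your own Groth.Agent.* helpers here

set_option autoImplicit false
universe u
open Hensel

namespace Groth.Agent.S17730

open IsLocalRing in
/-- Let R be a Noetherian local ring which is strictly henselian (henselian with separably closed
residue field), Δ a prime element of R, R' a smooth R-algebra, q a prime ideal of R' containing the
image of the maximal ideal of R, and T a strict henselization of the localization R'_q. Then the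
image of Δ in T is a prime element of T. (This is the published statement, that a prime element of
the étale local ring of the base at a geometric point remains prime in the étale local ring of a
smooth scheme over it at a geometric point above, written for the base the spectrum of R; the
published hypothesis that the base be smooth-factorial, meaning that all its smooth schemes are
locally factorial, is not used by the argument and is omitted; R is taken Noetherian, which the
published statement does not state and the argument requires.) -/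
theorem result
    (R R' T : Type u) [CommRing R] [IsNoetherianRing R] [HenselianLocalRing R]
    [IsSepClosed (ResidueField R)]
    [CommRing R'] [Algebra R R'] [Algebra.Smooth R R']
    (q : Ideal R') [q.IsPrime] (hq : (maximalIdeal R).map (algebraMap R R') ≤ q)
    [CommRing T] [IsLocalRing T] [Algebra (Localization.AtPrime q) T]
    [IsLocalHom (algebraMap (Localization.AtPrime q) T)]
    [Hensel.IsStrictHenselization (Localization.AtPrime q) T]
    (Δ : R) (hΔ : Prime Δ) :
    Prime (algebraMap (Localization.AtPrime q) T
      (algebraMap R' (Localization.AtPrime q) (algebraMap R R' Δ))) := by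
  classical
  have hΔ0 : Δ ≠ 0 := hΔ.ne_zero
  let I : Ideal R := Ideal.span {Δ}
  haveI hI : I.IsPrime := (Ideal.span_singleton_prime hΔ0).mpr hΔ
  let J : Ideal R' := I.map (algebraMap R R')
  have hIm : I ≤ maximalIdeal R := le_maximalIdeal hI.ne_top
  have hJq : J ≤ q := (Ideal.map_mono hIm).trans hq
  -- the reduced base
  haveI : Nontrivial (R ⧸ I) := Ideal.Quotient.nontrivial_iff.mpr hI.ne_top
  haveI : IsLocalRing (R ⧸ I) := IsLocalRing.of_surjective' (Ideal.Quotient.mk I) Ideal.Quotient.mk_surjective
  haveI : HenselianLocalRing (R ⧸ I) := Hensel.henselianLocalRing_finite R (R ⧸ I)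
  haveI : IsLocalHom (Ideal.Quotient.mk I) := IsLocalHom.of_surjective _ Ideal.Quotient.mk_surjective
  haveI : IsSepClosed (ResidueField (R ⧸ I)) :=
    Hensel.isSepClosed_of_ringEquiv (RingEquiv.ofBijective (ResidueField.map (Ideal.Quotient.mk I))
      ⟨RingHom.injective _, fun y => by
        obtain ⟨y, rfl⟩ := residue_surjective y
        obtain ⟨a, rfl⟩ := Ideal.Quotient.mk_surjective y
        exact ⟨residue R a, ResidueField.map_residue _ a⟩⟩)
  haveI : Algebra.Smooth (R ⧸ I) (R' ⧸ J) :=
    Algebra.Smooth.of_equiv (Algebra.TensorProduct.quotIdealMapEquivQuotTensor R' I).symm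
  let qb : Ideal (R' ⧸ J) := q.map (Ideal.Quotient.mk J)
  have hker : RingHom.ker (Ideal.Quotient.mk J) ≤ q := by rw [Ideal.mk_ker]; exact hJq
  haveI : qb.IsPrime := Ideal.map_isPrime_of_surjective Ideal.Quotient.mk_surjective hker
  have hqb : qb.comap (Ideal.Quotient.mk J) = q := by
    rw [Ideal.comap_map_of_surjective' _ Ideal.Quotient.mk_surjective, sup_eq_left.mpr hker]
  have hmq : (maximalIdeal (R ⧸ I)).map (algebraMap (R ⧸ I) (R' ⧸ J)) ≤ qb := by
    rw [Ideal.map_le_iff_le_comap]
    intro x hx
    obtain ⟨r, rfl⟩ := Ideal.Quotient.mk_surjective x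
    exact Ideal.mem_map_of_mem (Ideal.Quotient.mk J) (hq (Ideal.mem_map_of_mem (algebraMap R R')
      ((mem_maximalIdeal _).mpr fun hu => (mem_maximalIdeal _).mp hx (hu.map _))))
  obtain ⟨hdom, hgu⟩ := SmoothGU.smooth_over_strictlyHenselian_domain (R ⧸ I) (R' ⧸ J) qb hmq
  -- the quotient of the local ring
  let A := Localization.AtPrime q
  let K : Ideal A := J.map (algebraMap R' A)
  have hKtop : K ≠ ⊤ := fun h => (maximalIdeal.isMaximal A).ne_top (top_le_iff.mp (h ▸
    (Ideal.map_mono hJq).trans (Localization.AtPrime.map_eq_maximalIdeal (I := q)).le))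
  obtain ⟨hl1, hl2, hl3⟩ := Hensel.quotient_local_setup A T K hKtop
  haveI := hl1
  haveI := hl2
  haveI := hl3
  haveI : IsLocalization.AtPrime (A ⧸ K) qb := by
    have h : IsLocalization (q.primeCompl.map (Ideal.Quotient.mk J : R' →* R' ⧸ J)) (A ⧸ K) :=
      inferInstanceAs (IsLocalization (Algebra.algebraMapSubmonoid (R' ⧸ J) q.primeCompl) (A ⧸ K))
    have he : qb.primeCompl = q.primeCompl.map (Ideal.Quotient.mk J : R' →* R' ⧸ J) := by
      ext y
      constructor
      · intro hy
        obtain ⟨x, rfl⟩ := Ideal.Quotient.mk_surjective y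
        exact ⟨x, fun hx => hy (Ideal.mem_map_of_mem _ hx), rfl⟩
      · rintro ⟨x, hx, rfl⟩ hmem
        exact hx (hqb ▸ hmem)
    rw [IsLocalization.AtPrime, he]
    exact h
  haveI : IsDomain (A ⧸ K) :=
    (IsLocalization.algEquiv qb.primeCompl (A ⧸ K) (Localization.AtPrime qb)).toMulEquiv.isDomain _
  have hguK : CAlg2.IsGeomUnibranch (A ⧸ K) :=
    SmoothGU.isGeomUnibranch_transfer qb (Localization.AtPrime qb) (A ⧸ K) hgu
  haveI := Hensel.isStrictHenselization_quotient (A := A) (S := T) K
  haveI : IsDomain (T ⧸ K.map (algebraMap A T)) :=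
    (S2750.result (A ⧸ K) (T ⧸ K.map (algebraMap A T))).1 ⟨inferInstance, hguK⟩
  have hmap : K.map (algebraMap A T) =
      Ideal.span {algebraMap A T (algebraMap R' A (algebraMap R R' Δ))} := by
    simp only [K, J, I, Ideal.map_span, Set.image_singleton]
  -- the image is nonzero
  haveI : Module.FaithfullyFlat A T := Hensel.strictHenselization_faithfullyFlat A T
  haveI : Module.Flat R A := Module.Flat.trans R R' A
  haveI : IsLocalHom (algebraMap R A) := ⟨fun r hr => by
    by_contra hu
    rw [IsScalarTower.algebraMap_apply R R' A, IsLocalization.AtPrime.isUnit_to_map_iff A q] at hr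
    exact hr (hq (Ideal.mem_map_of_mem _ ((mem_maximalIdeal _).mpr hu)))⟩
  haveI : Module.FaithfullyFlat R A := Module.FaithfullyFlat.of_flat_of_isLocalHom
  have h0 : algebraMap A T (algebraMap R' A (algebraMap R R' Δ)) ≠ 0 := fun h => hΔ0
    (FaithfulSMul.algebraMap_injective R A (FaithfulSMul.algebraMap_injective A T (by
      rw [map_zero, map_zero, IsScalarTower.algebraMap_apply R R' A]; exact h)))
  rw [← Ideal.span_singleton_prime h0, ← hmap]
  exact (Ideal.Quotient.isDomain_iff_prime _).mp inferInstance

end Groth.Agent.S17730
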