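import Groth.Statements.S13202
import Groth.Agent.SmoothGU.BaseSH
import Groth.Agent.S17730
import Groth.Agent.Hensel.HenselizationNoeth
-- import your own Groth.Agent.* helpers here

set_option autoImplicit false
universe u
open Hensel

namespace Groth.Agent.S13202

open TensorProduct

theorem aux {R R' : Type u} [CommRing R] [IsNoetherianRing R] [CommRing R'] [Algebra R R']
    [Algebra.Smooth R R'] (q : Ideal R') [q.IsPrime]
    (T : Type u) [CommRing T] [IsLocalRing T] [Algebra (Localization.AtPrime q) T]
    [IsLocalHom (algebraMap (Localization.AtPrime q) T)]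
    [Hensel.IsStrictHenselization (Localization.AtPrime q) T] (Δ : R)
    (S : Type u) [CommRing S] [IsLocalRing S]
    [Algebra (Localization.AtPrime (q.comap (algebraMap R R'))) S]
    [IsLocalHom (algebraMap (Localization.AtPrime (q.comap (algebraMap R R'))) S)]
    [hsh : Hensel.IsStrictHenselization (Localization.AtPrime (q.comap (algebraMap R R'))) S]
    (hprime : Prime (algebraMap (Localization.AtPrime (q.comap (algebraMap R R'))) S
      (algebraMap R (Localization.AtPrime (q.comap (algebraMap R R'))) Δ))) :
    Prime (algebraMap (Localization.AtPrime q) T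
      (algebraMap R' (Localization.AtPrime q) (algebraMap R R' Δ))) := by
  haveI : HenselianLocalRing S := hsh.henselian
  haveI := hsh.isSepClosure.sep_closed
  haveI : IsNoetherianRing S :=
    (Groth.Agent.Hensel.strictHenselization_isNoetherianRing_iff
      (Localization.AtPrime (q.comap (algebraMap R R'))) S).mp inferInstance
  letI : Algebra R S := ((algebraMap (Localization.AtPrime (q.comap (algebraMap R R'))) S).comp
    (algebraMap R (Localization.AtPrime (q.comap (algebraMap R R'))))).toAlgebra
  haveI : IsScalarTower R (Localization.AtPrime (q.comap (algebraMap R R'))) S :=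
    IsScalarTower.of_algebraMap_eq fun _ => rfl
  obtain ⟨q', _, hq', ψ, hψ, hl⟩ :=
    SmoothGU.exists_baseChange_point q (q.comap (algebraMap R R')) rfl T S
  letI := ψ.toAlgebra
  obtain ⟨hl1, hl2⟩ := hl
  haveI := hl1
  haveI := hl2
  have := S17730.result S (S ⊗[R] R') T q' hq' (algebraMap R S Δ) hprime
  have e : algebraMap S (S ⊗[R] R') (algebraMap R S Δ) = (1 : S) ⊗ₜ[R] algebraMap R R' Δ := by
    rw [← IsScalarTower.algebraMap_apply R S (S ⊗[R] R'),
      ← (Algebra.TensorProduct.includeRight : R' →ₐ[R] S ⊗[R] R').commutes Δ]
    rfl
  rw [e] at this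
  change Prime (ψ _) at this
  rw [hψ] at this
  exact this

/-- Let R be a Noetherian regular ring (every localization at a prime ideal is a regular local ring) and
Δ ∈ R. The element Δ is étale-universally prime — meaning that for every prime ideal p of R
containing Δ and every strict henselization T of R_p, the image of Δ in T is a prime element —
exactly when for every smooth R-algebra R', every prime ideal q of R' and every strict henselization
T of R'_q, the image of Δ in T is either invertible or a prime element. (Smooth R-algebras and their
strict henselizations are taken in the universe of R.) -/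
theorem result
    (R : Type u) [CommRing R] [IsNoetherianRing R]
    (hreg : ∀ (p : Ideal R) [p.IsPrime], IsRegularLocalRing (Localization.AtPrime p)) (Δ : R) :
    (∀ (p : Ideal R) [p.IsPrime], Δ ∈ p →
        ∀ (T : Type u) [CommRing T] [IsLocalRing T] [Algebra (Localization.AtPrime p) T]
          [IsLocalHom (algebraMap (Localization.AtPrime p) T)]
          [Hensel.IsStrictHenselization (Localization.AtPrime p) T],
          Prime (algebraMap (Localization.AtPrime p) T (algebraMap R (Localization.AtPrime p) Δ))) ↔
    (∀ (R' : Type u) [CommRing R'] [Algebra R R'] [Algebra.Smooth R R'] (q : Ideal R') [q.IsPrime]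
        (T : Type u) [CommRing T] [IsLocalRing T] [Algebra (Localization.AtPrime q) T]
          [IsLocalHom (algebraMap (Localization.AtPrime q) T)]
          [Hensel.IsStrictHenselization (Localization.AtPrime q) T],
        IsUnit (algebraMap (Localization.AtPrime q) T (algebraMap R' (Localization.AtPrime q) (algebraMap R R' Δ))) ∨
          Prime (algebraMap (Localization.AtPrime q) T (algebraMap R' (Localization.AtPrime q) (algebraMap R R' Δ)))) := by
  constructor
  · intro H R' _ _ _ q _ T _ _ _ _ _
    by_cases hΔ : algebraMap R R' Δ ∈ q
    swap
    · exact Or.inl ((IsLocalization.map_units (Localization.AtPrime q)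
        (⟨_, hΔ⟩ : q.primeCompl)).map _)
    refine Or.inr ?_
    obtain ⟨hloc, hsh⟩ := Hensel.exists_strictHenselization (Localization.AtPrime (q.comap (algebraMap R R')))
    exact @aux R R' _ _ _ _ _ q _ T _ _ _ _ _ Δ _ _ _ _ hloc hsh
      (@H (q.comap (algebraMap R R')) _ hΔ _ _ _ _ hloc hsh)
  · intro H p _ hp T _ _ _ _ _
    rcases H R p T with h | h
    · exfalso
      have h1 : IsUnit (algebraMap R (Localization.AtPrime p) Δ) := isUnit_of_map_unit _ _ h
      exact (IsLocalization.AtPrime.isUnit_to_map_iff (Localization.AtPrime p) p Δ).mp h1 hp
    · exact h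

end Groth.Agent.S13202
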