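import Groth.Statements.S13203
import Groth.Agent.NeronBij.Basic

set_option autoImplicit false
set_option backward.isDefEq.respectTransparency false
set_option linter.style.haveILetI false
universe u
open CategoryTheory AlgebraicGeometry
open Neron

namespace Groth.Agent.S13203

/-- Let S be a scheme, U ⊆ S a schematically dense open subscheme and N → S a smooth S-scheme with the
Néron mapping property with respect to U: for every smooth S-scheme Y, sending an S-morphism Y → N
to its restriction Y ×_S U → N ×_S U is a bijection onto the U-morphisms. Then for every smooth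
morphism g : S' → S the base change N ×_S S' → S' (again smooth) has the Néron mapping property with
respect to g⁻¹(U): for every smooth S'-scheme Y', restriction to g⁻¹(U) is a bijection from
S'-morphisms Y' → N ×_S S' onto g⁻¹(U)-morphisms. (The published statement is for models which are
algebraic spaces, tested against smooth algebraic spaces, and also says that separatedness is
preserved; this row states the case of a smooth scheme model tested against smooth schemes.) -/
theorem result
    {S S' : Scheme.{u}} (g : S' ⟶ S) [Smooth g]
    (U : S.Opens) (hU : CInt.IsSchematicallyDense U) (N : Over S) [Smooth N.hom]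
    (hN : ∀ Y : Over S, Smooth Y.hom →
      Function.Bijective (fun f : Y ⟶ N => (Over.pullback U.ι).map f))
    (Y' : Over S') [Smooth Y'.hom] :
    Function.Bijective (fun f : Y' ⟶ (Over.pullback g).obj N => (Over.pullback (g ⁻¹ᵁ U).ι).map f) := by
  rw [Groth.Agent.NeronBij.bijective_iff]
  intro P a b hP φ hφ
  haveI : Smooth (Over.mk (Y'.hom ≫ g)).hom := inferInstanceAs (Smooth (Y'.hom ≫ g))
  have hφ' : φ ≫ Limits.pullback.snd N.hom g = a ≫ Y'.hom := hφ
  obtain ⟨f, ⟨hf, hf'⟩, hu⟩ := (Groth.Agent.NeronBij.bijective_iff _ (Over.mk (Y'.hom ≫ g)) N).mp (hN _ this) P a _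
    (Groth.Agent.NeronBij.isPullback_comp g U Y' hP) (φ ≫ Limits.pullback.fst N.hom g)
    (by rw [Category.assoc, Limits.pullback.condition, reassoc_of% hφ']; rfl)
  refine ⟨Limits.pullback.lift f Y'.hom hf, ⟨Limits.pullback.lift_snd _ _ _, ?_⟩, fun f' ⟨h1, h2⟩ => ?_⟩
  · apply Limits.pullback.hom_ext
    · rw [Category.assoc, Limits.pullback.lift_fst, hf']
    · rw [Category.assoc, Limits.pullback.lift_snd, hφ']
  · have h1' : f' ≫ Limits.pullback.snd N.hom g = Y'.hom := h1
    apply Limits.pullback.hom_ext
    · rw [Limits.pullback.lift_fst]
      exact hu _ ⟨by rw [Category.assoc, Limits.pullback.condition, reassoc_of% h1']; rfl, by rw [← Category.assoc, h2]⟩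
    · rw [Limits.pullback.lift_snd, h1']

end Groth.Agent.S13203
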