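import Groth.Statements.S13204
import Groth.Agent.DvrDom.Basic
import Mathlib.Algebra.Polynomial.Inductions
import Mathlib.RingTheory.Localization.AtPrime.Basic
import Mathlib.RingTheory.Polynomial.Basic
import Mathlib.Tactic.LinearCombination

set_option autoImplicit false
universe u
open Neron

namespace Groth.Agent.S13204

/-- Let R be a strictly henselian Noetherian local unique factorization domain and Δ₁, Δ₂ two non-units
of R with no common prime factor. Then there are a discrete valuation ring A and an injective local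
homomorphism f : R → A — so that Spec A → Spec R sends the closed point to the closed point and the
generic point to the generic point, which lies in every dense open subset — such that f(Δ₁) is a
non-zero non-unit and f(Δ₁) = u · f(Δ₂) for some unit u of A congruent to 1 modulo the maximal
ideal. (The published statement asks for the images of Δ₁ and Δ₂ in A to be equal, with the generic
point of Spec A sent into a given dense open subset of Spec R; that cannot hold in general — for R =
ℂ[[a,b]], Δ₁ = a, Δ₂ = b and the dense open D(a − b), any local map to a discrete valuation ring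
identifying a and b sends the generic point into V(a − b) — so this row asks instead for f(Δ₁) = u ·
f(Δ₂) with u a unit congruent to 1 modulo the maximal ideal.) -/
theorem result
    (R : Type u) [CommRing R] [IsDomain R] [IsNoetherianRing R] [UniqueFactorizationMonoid R]
    [HenselianLocalRing R] [IsSepClosed (IsLocalRing.ResidueField R)]
    (Δ₁ Δ₂ : R) (h₁ : ¬ IsUnit Δ₁) (h₂ : ¬ IsUnit Δ₂) (hcop : IsRelPrime Δ₁ Δ₂) :
    ∃ (A : Type u) (_ : CommRing A) (_ : IsDomain A) (_ : IsDiscreteValuationRing A) (f : R →+* A),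
      IsLocalHom f ∧ Function.Injective f ∧ ¬ IsUnit (f Δ₁) ∧
        ∃ u : Aˣ, (u : A) - 1 ∈ IsLocalRing.maximalIdeal A ∧ f Δ₁ = (u : A) * f Δ₂ := by
  classical
  have h2' : Δ₂ ≠ 0 := fun h => h₁ ((isRelPrime_zero_right.mp (h ▸ hcop)))
  have h1' : Δ₁ ≠ 0 := fun h => h₂ ((isRelPrime_zero_left.mp (h ▸ hcop)))
  let K := FractionRing R
  have hinj : Function.Injective (algebraMap R K) := IsFractionRing.injective R K
  set x : K := algebraMap R K Δ₁ / algebraMap R K Δ₂ with hx
  have hΔ : (algebraMap R K Δ₂) * x = algebraMap R K Δ₁ := by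
    rw [hx, mul_div_cancel₀]; exact fun h => h2' (hinj (by rw [h, map_zero]))
  have hx0 : x ≠ 0 := fun h => h1' (hinj (by rw [← hΔ, h, mul_zero, map_zero]))
  have hclear : ∀ (P : Polynomial R) (e : ℕ), P.natDegree ≤ e →
      ∃ c : R, algebraMap R K c = algebraMap R K Δ₂ ^ e * Polynomial.aeval x P := by
    intro P e he
    refine ⟨∑ i ∈ Finset.range (e + 1), P.coeff i * Δ₁ ^ i * Δ₂ ^ (e - i), ?_⟩
    rw [Polynomial.aeval_eq_sum_range' (Nat.lt_succ_of_le he), Finset.mul_sum, map_sum]
    refine Finset.sum_congr rfl fun i hi => ?_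
    rw [Finset.mem_range, Nat.lt_succ_iff] at hi
    rw [map_mul, map_mul, map_pow, map_pow, ← hΔ, Algebra.smul_def, mul_pow]
    conv_rhs => rw [← Nat.sub_add_cancel hi, pow_add]
    ring
  let resid := IsLocalRing.residue R
  have key : ∀ (d : ℕ) (P : Polynomial R), P.natDegree ≤ d → Polynomial.aeval x P = 0 → resid (P.eval 1) = 0 := by
    intro d
    induction d with
    | zero =>
      intro P hP h0
      obtain ⟨a, rfl⟩ := Polynomial.natDegree_eq_zero.mp (Nat.le_zero.mp hP)
      rw [Polynomial.aeval_C] at h0
      rw [Polynomial.eval_C, hinj (by rw [h0, map_zero] : algebraMap R K a = algebraMap R K 0), map_zero]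
    | succ d ih =>
      intro P hP h0
      have hsplit := Polynomial.X_mul_divX_add P
      have hdeg : P.divX.natDegree ≤ d := by rw [Polynomial.natDegree_divX_eq_natDegree_tsub_one]; omega
      obtain ⟨c, hc⟩ := hclear P.divX d hdeg
      have hev : x * Polynomial.aeval x P.divX + algebraMap R K (P.coeff 0) = 0 := by
        have h := congrArg (Polynomial.aeval x) hsplit
        rw [map_add, map_mul, Polynomial.aeval_X, Polynomial.aeval_C] at h
        rw [h, h0]
      have hdvd : Δ₁ ∣ P.coeff 0 * Δ₂ ^ (d + 1) := ⟨-c, hinj (by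
        rw [map_mul, map_mul, map_pow, map_neg, hc, ← hΔ]
        linear_combination (algebraMap R K Δ₂) ^ (d + 1) * hev)⟩
      obtain ⟨b, hb⟩ := (hcop.pow_right).dvd_of_dvd_mul_right hdvd
      have hnew := ih (P.divX + Polynomial.C (Δ₂ * b))
        (le_trans (Polynomial.natDegree_add_le _ _) (max_le hdeg ((Polynomial.natDegree_C _).le.trans (Nat.zero_le d)))) (by
          refine mul_left_cancel₀ hx0 ?_
          rw [map_add, Polynomial.aeval_C, map_mul, mul_zero, mul_add]
          rw [hb, map_mul, ← hΔ] at hev
          linear_combination hev)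
      have e1 : resid Δ₁ = 0 := (IsLocalRing.residue_eq_zero_iff _).mpr h₁
      have e2 : resid Δ₂ = 0 := (IsLocalRing.residue_eq_zero_iff _).mpr h₂
      rw [Polynomial.eval_add, Polynomial.eval_C, map_add, map_mul, e2, zero_mul, add_zero] at hnew
      rw [← hsplit, Polynomial.eval_add, Polynomial.eval_mul, Polynomial.eval_X, one_mul, Polynomial.eval_C,
        map_add, hnew, hb, map_mul, e1, zero_mul, add_zero]
  let Φ : Polynomial R →ₐ[R] K := Polynomial.aeval x
  let B := Polynomial R ⧸ RingHom.ker Φ
  haveI : (RingHom.ker Φ).IsPrime := RingHom.ker_isPrime _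
  let ψ : B →+* IsLocalRing.ResidueField R := Ideal.Quotient.lift _ (resid.comp (Polynomial.evalRingHom 1))
    (fun P hP => key P.natDegree P le_rfl hP)
  let Q : Ideal B := RingHom.ker ψ
  haveI : Q.IsPrime := RingHom.ker_isPrime _
  let BQ := Localization.AtPrime Q
  haveI : IsDomain BQ := IsLocalization.isDomain_localization Q.primeCompl_le_nonZeroDivisors
  haveI : IsNoetherianRing BQ := IsLocalization.isNoetherianRing Q.primeCompl BQ inferInstance
  let g : R →+* BQ := (algebraMap B BQ).comp ((Ideal.Quotient.mk _).comp Polynomial.C)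
  have hBinj : Function.Injective (algebraMap B BQ) := IsLocalization.injective BQ Q.primeCompl_le_nonZeroDivisors
  have hginj : Function.Injective g := by
    refine (injective_iff_map_eq_zero g).mpr fun r hr => hinj ?_
    have h := Ideal.Quotient.eq_zero_iff_mem.mp (hBinj (hr.trans (map_zero _).symm))
    rw [RingHom.mem_ker] at h
    rw [map_zero, ← Polynomial.aeval_C x r]
    exact h
  have hgm : ∀ r ∈ IsLocalRing.maximalIdeal R, g r ∈ IsLocalRing.maximalIdeal BQ := fun r hr =>
    (IsLocalization.AtPrime.to_map_mem_maximal_iff BQ Q _).mpr (by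
      show ψ (Ideal.Quotient.mk _ (Polynomial.C r)) = 0
      show resid ((Polynomial.C r).eval 1) = 0
      rw [Polynomial.eval_C]
      exact (IsLocalRing.residue_eq_zero_iff r).mpr hr)
  set T : BQ := algebraMap B BQ (Ideal.Quotient.mk _ Polynomial.X) with hT
  have hrel : g Δ₁ = T * g Δ₂ := by
    simp only [g, hT, RingHom.comp_apply]
    rw [← map_mul (algebraMap B BQ), ← map_mul (Ideal.Quotient.mk _)]
    refine congrArg _ ((Ideal.Quotient.mk_eq_mk_iff_sub_mem _ _).mpr ?_)
    rw [RingHom.mem_ker, map_sub, map_mul, Polynomial.aeval_C, Polynomial.aeval_C, Polynomial.aeval_X, ← hΔ]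
    ring
  have hT1 : T - 1 ∈ IsLocalRing.maximalIdeal BQ := by
    rw [hT, ← map_one (algebraMap B BQ), ← map_sub]
    refine (IsLocalization.AtPrime.to_map_mem_maximal_iff BQ Q _).mpr ?_
    show ψ (Ideal.Quotient.mk _ Polynomial.X - 1) = 0
    rw [map_sub, map_one]
    show resid ((Polynomial.X : Polynomial R).eval 1) - 1 = 0
    rw [Polynomial.eval_X, map_one, sub_self]
  have hnf : ¬ IsField BQ := fun hF => by
    have := hgm Δ₁ h₁
    rw [IsLocalRing.isField_iff_maximalIdeal_eq.mp hF, Ideal.mem_bot] at this
    exact h1' (hginj (this.trans (map_zero g).symm))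
  obtain ⟨V, hV, hmem, hlt⟩ := Groth.Agent.DvrDom.exists_dvr_dominating BQ hnf (FractionRing BQ)
  let emb : BQ →+* V := (algebraMap BQ (FractionRing BQ)).codRestrict V.toSubring hmem
  have hemb : ∀ a ∈ IsLocalRing.maximalIdeal BQ, emb a ∈ IsLocalRing.maximalIdeal V := fun a ha =>
    fun hu => (hlt a ha).ne ((V.valuation_eq_one_iff _).mp hu)
  let f : R →+* V := emb.comp g
  have hfinj : Function.Injective f := fun a b h =>
    hginj (IsFractionRing.injective BQ (FractionRing BQ) (congrArg Subtype.val h))
  have hfloc : IsLocalHom f := ⟨fun r hr => by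
    by_contra hn
    exact hemb _ (hgm r hn) hr⟩
  have hTu : IsUnit (emb T) := by
    refine IsUnit.map emb ?_
    by_contra h
    refine (IsLocalRing.maximalIdeal.isMaximal BQ).ne_top ((Ideal.eq_top_iff_one _).mpr ?_)
    simpa using (IsLocalRing.maximalIdeal BQ).sub_mem (show T ∈ _ from h) hT1
  refine ⟨V, inferInstance, inferInstance, hV, f, hfloc, hfinj, hemb _ (hgm Δ₁ h₁), hTu.unit, ?_, ?_⟩
  · rw [IsUnit.unit_spec, ← map_one emb, ← map_sub]
    exact hemb _ hT1
  · rw [IsUnit.unit_spec]
    show emb (g Δ₁) = emb T * emb (g Δ₂)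
    rw [← map_mul, ← hrel]

end Groth.Agent.S13204
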