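import Groth.Statements.S13207
import Groth.Agent.NeronBij.Basic
import Mathlib.AlgebraicGeometry.Limits

set_option autoImplicit false
set_option backward.isDefEq.respectTransparency false
set_option linter.style.haveILetI false
universe u
open CategoryTheory CategoryTheory.Limits AlgebraicGeometry
open Neron

namespace Groth.Agent.S13207

open CategoryTheory.Limits

lemma eq_of_ι_eq {I : Type u} {Z : I → Scheme.{u}} {i j : I} {x : Z i} {y : Z j}
    (h : Sigma.ι Z i x = Sigma.ι Z j y) : i = j := by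
  rw [← sigmaMk_mk Z i x, ← sigmaMk_mk Z j y] at h
  exact congrArg Sigma.fst ((sigmaMk Z).injective h)

theorem isPullback_sigmaMap {I : Type u} {A B : I → Scheme.{u}} (q : ∀ j, A j ⟶ B j) (j : I) :
    IsPullback (Sigma.ι A j) (q j) (Limits.Sigma.map q) (Sigma.ι B j) := by
  refine (IsOpenImmersion.isPullback (q j) (Sigma.ι A j) (Sigma.ι B j) (Limits.Sigma.map q)
    (Limits.Sigma.ι_map _ j) ?_).flip
  ext z
  constructor
  · rintro ⟨w, hw⟩
    obtain ⟨⟨k, y⟩, rfl⟩ := (sigmaMk A).surjective z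
    rw [sigmaMk_mk] at hw ⊢
    have h1 : Limits.Sigma.map q (Sigma.ι A k y) = Sigma.ι B k (q k y) := congr($(Limits.Sigma.ι_map q k) y)
    obtain rfl := eq_of_ι_eq (hw.trans h1)
    exact ⟨y, rfl⟩
  · rintro ⟨w, rfl⟩
    exact ⟨q j w, congr($(Limits.Sigma.ι_map q j) w).symm⟩


/-- Let (S_i)_{i ∈ I} be a family of schemes, (N_i → S_i)_{i ∈ I} morphisms of schemes, S = ∐ S_i and N
= ∐ N_i with the induced morphism N → S, and U ⊆ S a schematically dense open subscheme with
preimages U_i ⊆ S_i. Then N → S is smooth with the Néron mapping property with respect to U — for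
every smooth S-scheme Y, restriction to U is a bijection from S-morphisms Y → N onto U-morphisms Y
×_S U → N ×_S U — if and only if every N_i → S_i is smooth with the Néron mapping property with
respect to U_i. (The published statement is for algebraic spaces N_i tested against smooth algebraic
spaces, and has the same form for separated models; this row is the not-necessarily-separated case
for schemes tested against smooth schemes.) -/
theorem result
    {I : Type u} (B N : I → Scheme.{u}) (f : ∀ i, N i ⟶ B i)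
    (U : (∐ B).Opens) (hU : CInt.IsSchematicallyDense U) :
    (Smooth (Limits.Sigma.map f) ∧ ∀ Y : Over (∐ B), Smooth Y.hom →
        Function.Bijective (fun g : Y ⟶ Over.mk (Limits.Sigma.map f) => (Over.pullback U.ι).map g)) ↔
    ∀ i, Smooth (f i) ∧ ∀ Y : Over (B i), Smooth Y.hom →
        Function.Bijective (fun g : Y ⟶ Over.mk (f i) => (Over.pullback ((Limits.Sigma.ι B i) ⁻¹ᵁ U).ι).map g) := by
  constructor
  · rintro ⟨hsm, hN⟩ i
    have hpb := isPullback_sigmaMap f i
    refine ⟨MorphismProperty.of_isPullback (P := @Smooth) hpb hsm, fun Y hY => ?_⟩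
    rw [Groth.Agent.NeronBij.bijective_iff]
    intro P a b hP φ hφ
    change φ ≫ f i = a ≫ Y.hom at hφ
    haveI : Smooth Y.hom := hY
    haveI : Smooth (Over.mk (Y.hom ≫ Sigma.ι B i)).hom := inferInstanceAs (Smooth (Y.hom ≫ Sigma.ι B i))
    obtain ⟨g, ⟨hg, hg'⟩, hu⟩ := (Groth.Agent.NeronBij.bijective_iff _ (Over.mk (Y.hom ≫ Sigma.ι B i))
      (Over.mk (Limits.Sigma.map f))).mp (hN _ this) P a _ (Groth.Agent.NeronBij.isPullback_comp (Sigma.ι B i) U Y hP)
      (φ ≫ Sigma.ι N i) (by
        show (φ ≫ Sigma.ι N i) ≫ Limits.Sigma.map f = a ≫ Y.hom ≫ Sigma.ι B i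
        rw [Category.assoc, hpb.w, reassoc_of% hφ])
    refine ⟨hpb.lift g Y.hom hg, ⟨hpb.lift_snd _ _ _, hpb.hom_ext ?_ ?_⟩, fun g' ⟨h1, h2⟩ => hpb.hom_ext ?_ ?_⟩
    · rw [Category.assoc, hpb.lift_fst, hg']
    · rw [Category.assoc, hpb.lift_snd, hφ]
    · rw [hpb.lift_fst]
      have h1' : g' ≫ f i = Y.hom := h1
      exact hu _ ⟨by
        show (g' ≫ Sigma.ι N i) ≫ Limits.Sigma.map f = Y.hom ≫ Sigma.ι B i
        rw [Category.assoc, hpb.w, reassoc_of% h1'], by rw [← Category.assoc, h2]⟩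
    · rw [hpb.lift_snd]
      exact h1
  · intro h
    refine ⟨IsZariskiLocalAtTarget.of_openCover (sigmaOpenCover B) fun (i : I) => ?_, fun Y hY => ?_⟩
    · have := (isPullback_sigmaMap f i).flip
      refine (MorphismProperty.cancel_left_of_respectsIso @Smooth (isPullback_sigmaMap f i).isoPullback.hom _).mp ?_
      erw [(isPullback_sigmaMap f i).isoPullback_hom_snd]
      exact (h i).1
    rw [Groth.Agent.NeronBij.bijective_iff]
    intro P a b hP φ hφ
    change φ ≫ Limits.Sigma.map f = a ≫ Y.hom at hφ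
    let W : ∀ i, (B i).Opens := fun i => Sigma.ι B i ⁻¹ᵁ U
    let Yi : ∀ i, Over (B i) := fun i => Over.mk (pullback.snd Y.hom (Sigma.ι B i))
    have hsy : ∀ i, Smooth (Yi i).hom := fun i => by
      haveI : Smooth Y.hom := hY
      exact inferInstanceAs (Smooth (pullback.snd Y.hom (Sigma.ι B i)))
    -- the pieces
    have step : ∀ i, ∃! g : (Yi i).left ⟶ N i, g ≫ f i = pullback.snd Y.hom (Sigma.ι B i) ∧
        ∀ (Q : Scheme.{u}) (q : Q ⟶ P) (q' : Q ⟶ (Yi i).left), q ≫ a = q' ≫ pullback.fst Y.hom (Sigma.ι B i) →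
          q' ≫ g ≫ Sigma.ι N i = q ≫ φ := by
      intro i
      have hsq := Groth.Agent.NeronBij.isPullback_comp (Sigma.ι B i) U (Yi i) (IsPullback.of_hasPullback (Yi i).hom (W i).ι)
      let c : pullback (Yi i).hom (W i).ι ⟶ P := hP.lift (pullback.fst _ _ ≫ pullback.fst Y.hom (Sigma.ι B i))
        (pullback.snd _ _ ≫ Sigma.ι B i ∣_ U) (by rw [Category.assoc, pullback.condition]; exact hsq.w)
      have hc : c ≫ a = pullback.fst _ _ ≫ pullback.fst Y.hom (Sigma.ι B i) := hP.lift_fst _ _ _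
      have hlift : (c ≫ φ) ≫ Limits.Sigma.map f = (pullback.fst (Yi i).hom (W i).ι ≫ (Yi i).hom) ≫ Sigma.ι B i := by
        rw [Category.assoc, hφ, reassoc_of% hc, Category.assoc, pullback.condition]
        rfl
      obtain ⟨g, ⟨hg, hg'⟩, hu⟩ := (Groth.Agent.NeronBij.bijective_iff _ (Yi i) (Over.mk (f i))).mp ((h i).2 _ (hsy i)) _ _ _
        (IsPullback.of_hasPullback (Yi i).hom (W i).ι) ((isPullback_sigmaMap f i).lift (c ≫ φ) _ hlift)
        ((isPullback_sigmaMap f i).lift_snd _ _ _)
      refine ⟨g, ⟨hg, fun Q q q' hqq => ?_⟩, fun g' ⟨h1, h2⟩ => hu g' ⟨h1, ?_⟩⟩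
      · have hw : q' ≫ (Yi i).hom ≫ Sigma.ι B i = q ≫ b ≫ U.ι := by
          show q' ≫ pullback.snd Y.hom (Sigma.ι B i) ≫ _ = _
          rw [← pullback.condition, ← reassoc_of% hqq, hP.w]
        let d : Q ⟶ pullback (Yi i).hom (W i).ι := hsq.lift q' (q ≫ b) (by rw [hw, Category.assoc])
        have hd : d ≫ pullback.fst (Yi i).hom (W i).ι = q' := hsq.lift_fst _ _ _
        have hdc : d ≫ c = q := hP.hom_ext (by rw [Category.assoc, hc, reassoc_of% hd, hqq])
          (by rw [Category.assoc, hP.lift_snd]; exact hsq.lift_snd _ _ _)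
        rw [← hd, Category.assoc, reassoc_of% hg', (isPullback_sigmaMap f i).lift_fst, ← Category.assoc, hdc]
      · apply (isPullback_sigmaMap f i).hom_ext
        · rw [(isPullback_sigmaMap f i).lift_fst, Category.assoc]
          exact h2 _ c (pullback.fst (Yi i).hom (W i).ι) hc
        · rw [(isPullback_sigmaMap f i).lift_snd, Category.assoc]
          exact congrArg (_ ≫ ·) h1
    choose g hg hgu using step
    let 𝒰 : Y.left.OpenCover := (sigmaOpenCover B).pullback₁ Y.hom
    have disj : ∀ (i j : I), i ≠ j →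
        IsEmpty ↥(pullback (pullback.fst Y.hom (Sigma.ι B i)) (pullback.fst Y.hom (Sigma.ι B j))) := by
      intro i j hij
      refine ⟨fun z => ?_⟩
      let A := pullback.fst (pullback.fst Y.hom (Sigma.ι B i)) (pullback.fst Y.hom (Sigma.ι B j))
      let A' := pullback.snd (pullback.fst Y.hom (Sigma.ι B i)) (pullback.fst Y.hom (Sigma.ι B j))
      have e : (A ≫ pullback.snd Y.hom (Sigma.ι B i)) ≫ Sigma.ι B i = (A' ≫ pullback.snd Y.hom (Sigma.ι B j)) ≫ Sigma.ι B j := by
        rw [Category.assoc, Category.assoc, ← pullback.condition, ← pullback.condition, ← Category.assoc, ← Category.assoc,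
          pullback.condition]
      exact hij (eq_of_ι_eq congr($e z))
    have compat : ∀ i j : I, pullback.fst (pullback.fst Y.hom (Sigma.ι B i)) (pullback.fst Y.hom (Sigma.ι B j)) ≫ g i ≫ Sigma.ι N i =
        pullback.snd _ _ ≫ g j ≫ Sigma.ι N j := by
      intro i j
      by_cases hij : i = j
      · subst hij
        rw [show pullback.fst (pullback.fst Y.hom (Sigma.ι B i)) (pullback.fst Y.hom (Sigma.ι B i)) = pullback.snd _ _ from
          (cancel_mono (pullback.fst Y.hom (Sigma.ι B i))).mp pullback.condition]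
      · haveI := disj i j hij
        exact (isInitialOfIsEmpty).hom_ext _ _
    refine ⟨𝒰.glueMorphisms (fun i => g i ≫ Sigma.ι N i) compat, ⟨?_, ?_⟩, fun g' ⟨h1, h2⟩ => ?_⟩
    · show _ ≫ Limits.Sigma.map f = Y.hom
      refine 𝒰.hom_ext _ _ fun (i : I) => ?_
      rw [𝒰.ι_glueMorphisms_assoc]
      show (g i ≫ Sigma.ι N i) ≫ _ = pullback.fst Y.hom (Sigma.ι B i) ≫ Y.hom
      rw [Category.assoc, (isPullback_sigmaMap f i).w, reassoc_of% (hg i).1, pullback.condition]
    · refine Scheme.Cover.hom_ext ((sigmaOpenCover B).pullback₁ (a ≫ Y.hom)) _ _ fun (i : I) => ?_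
      let q := pullback.fst (a ≫ Y.hom) (Sigma.ι B i)
      let q' : pullback (a ≫ Y.hom) (Sigma.ι B i) ⟶ pullback Y.hom (Sigma.ι B i) :=
        pullback.lift (q ≫ a) (pullback.snd _ _) (by rw [Category.assoc]; exact pullback.condition)
      have hq' : q' ≫ pullback.fst Y.hom (Sigma.ι B i) = q ≫ a := pullback.lift_fst _ _ _
      show q ≫ a ≫ _ = q ≫ φ
      rw [← reassoc_of% hq']
      erw [𝒰.ι_glueMorphisms (fun i => g i ≫ Sigma.ι N i) compat i]
      exact (hg i).2 _ q q' hq'.symm
    · have h1' : g' ≫ Limits.Sigma.map f = Y.hom := h1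
      refine 𝒰.hom_ext _ _ fun (i : I) => ?_
      rw [𝒰.ι_glueMorphisms]
      show pullback.fst Y.hom (Sigma.ι B i) ≫ g' = g i ≫ Sigma.ι N i
      let hpb := isPullback_sigmaMap f i
      have hw : (pullback.fst Y.hom (Sigma.ι B i) ≫ g') ≫ Limits.Sigma.map f =
          pullback.snd Y.hom (Sigma.ι B i) ≫ Sigma.ι B i := by
        rw [Category.assoc, h1', pullback.condition]
      have := hgu i (hpb.lift _ _ hw) ⟨hpb.lift_snd _ _ _, fun Q q q' hqq => by
        rw [hpb.lift_fst, ← Category.assoc, ← hqq, Category.assoc, h2]⟩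
      rw [← this, hpb.lift_fst]

end Groth.Agent.S13207
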