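import Groth.Statements.S13210
import Mathlib

set_option autoImplicit false
universe u
open CategoryTheory CategoryTheory.Limits AlgebraicGeometry
open AlgGrp

namespace Groth.Agent.S13210

/-- Let S be a scheme, F an algebraic space over S which is separated over S, and G a finite group
acting on F by S-automorphisms. If i : Z → F exhibits the fppf sheaf Z as the sub-sheaf of G-fixed
points of F (i is G-invariant and every G-invariant morphism W → F factors uniquely through i), then
Z is an algebraic space and i is a closed immersion (representable by closed immersions). (The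
published statement also treats a locally separated F, whose fixed points form a subspace, and
compatibility with base change; this row states only the separated case.) -/
theorem result
    {S : Scheme.{u}} (F : AlgSp.Sp S) (hF : AlgSp.IsAlgSpace F) (hsep : AlgSp.IsSeparatedSp F)
    (G : Type u) [Group G] [Finite G] (ρ : G →* Aut F)
    (Z : AlgSp.Sp S) (i : Z ⟶ F) (hi : ∀ g : G, i ≫ (ρ g).hom = i)
    (huniv : ∀ (W : AlgSp.Sp S) (x : W ⟶ F), (∀ g : G, x ≫ (ρ g).hom = x) → ∃! z : W ⟶ Z, z ≫ i = x) :
    AlgSp.IsAlgSpace Z ∧ AlgSp.RepWith @IsClosedImmersion i := by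
  classical
  haveI : (AlgSp.RepWith (S := S) @IsClosedImmersion).IsMultiplicative := AlgSp.repWith_isMultiplicative _
  haveI : (AlgSp.RepWith (S := S) @IsClosedImmersion).IsStableUnderBaseChange := AlgSp.repWith_isStableUnderBaseChange _
  haveI : (AlgSp.RepWith (S := S) @IsClosedImmersion).RespectsIso :=
    MorphismProperty.IsStableUnderBaseChange.respectsIso
  have : Fintype G := Fintype.ofFinite G
  have key : ∀ s : Finset G, ∃ (Z' : AlgSp.Sp S) (i' : Z' ⟶ F), AlgSp.RepWith @IsClosedImmersion i' ∧ Mono i' ∧
      (∀ g ∈ s, i' ≫ (ρ g).hom = i') ∧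
      ∀ (W : AlgSp.Sp S) (x : W ⟶ F), (∀ g ∈ s, x ≫ (ρ g).hom = x) → ∃ z : W ⟶ Z', z ≫ i' = x := by
    intro s
    induction s using Finset.induction with
    | empty =>
      refine ⟨F, 𝟙 F, ?_, inferInstance, by simp, fun W x _ => ⟨x, Category.comp_id x⟩⟩
      exact MorphismProperty.id_mem _ F
    | insert g s hg ih =>
      obtain ⟨Z', i', hi', hm, hfix, hu⟩ := ih
      let e : Z' ⟶ F ⨯ F := prod.lift i' (i' ≫ (ρ g).hom)
      let π : pullback (Limits.diag F) e ⟶ Z' := pullback.snd _ _
      have hπ : AlgSp.RepWith @IsClosedImmersion π :=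
        MorphismProperty.of_isPullback (IsPullback.of_hasPullback (Limits.diag F) e) hsep
      refine ⟨_, π ≫ i', MorphismProperty.comp_mem _ _ _ hπ hi', inferInstance, ?_, ?_⟩
      · intro g' hg'
        rcases Finset.mem_insert.1 hg' with rfl | hg'
        · have h1 := congrArg (fun t => t ≫ prod.fst) (pullback.condition (f := Limits.diag F) (g := e))
          have h2 := congrArg (fun t => t ≫ prod.snd) (pullback.condition (f := Limits.diag F) (g := e))
          simp only [e, Category.assoc, prod.lift_fst, prod.lift_snd, Category.comp_id] at h1 h2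
          rw [Category.assoc, ← h2]
          exact h1
        · rw [Category.assoc, hfix g' hg']
      · intro W x hx
        obtain ⟨z, hz⟩ := hu W x fun g' h => hx g' (Finset.mem_insert_of_mem h)
        refine ⟨pullback.lift x z ?_, by rw [pullback.lift_snd_assoc, hz]⟩
        apply Limits.prod.hom_ext
        · simp only [e, Category.assoc, prod.lift_fst, Category.comp_id]
          exact hz.symm
        · simp only [e, Category.assoc, prod.lift_snd, Category.comp_id]
          rw [reassoc_of% hz]
          exact (hx g (Finset.mem_insert_self g s)).symm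
  obtain ⟨Z', i', hi', hm, hfix, hu⟩ := key Finset.univ
  obtain ⟨z, hz⟩ := hu Z i fun g _ => hi g
  obtain ⟨w, hw, -⟩ := huniv Z' i' fun g => hfix g (Finset.mem_univ g)
  have h1 : z ≫ w = 𝟙 Z := by
    obtain ⟨t, ht, htu⟩ := huniv Z i hi
    exact (htu (z ≫ w) (by dsimp only; rw [Category.assoc, hw, hz])).trans (htu (𝟙 Z) (Category.id_comp i)).symm
  have h2 : w ≫ z = 𝟙 Z' := by rw [← cancel_mono i', Category.assoc, hz, hw, Category.id_comp]
  haveI : IsIso z := ⟨w, h1, h2⟩
  have hri : AlgSp.RepWith @IsClosedImmersion i := by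
    rw [show i = z ≫ i' from hz.symm]
    exact MorphismProperty.RespectsIso.precomp _ _ _ hi'
  haveI : Mono i := by rw [show i = z ≫ i' from hz.symm]; infer_instance
  refine ⟨⟨?_, ?_⟩, hri⟩
  · have hsq : IsPullback i (Limits.diag Z) (Limits.diag F) (prod.map i i) := by
      refine ⟨⟨by apply Limits.prod.hom_ext <;> simp⟩, ⟨PullbackCone.isLimitAux' _ fun s => ?_⟩⟩
      have e1 := congrArg (fun t => t ≫ prod.fst) s.condition
      have e2 := congrArg (fun t => t ≫ prod.snd) s.condition
      simp only [Category.assoc, prod.map_fst, prod.map_snd, prod.lift_fst, prod.lift_snd, Category.comp_id] at e1 e2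
      have e3 : s.snd ≫ prod.fst = s.snd ≫ prod.snd := by
        rw [← cancel_mono i, Category.assoc, Category.assoc, ← e1, e2]
      refine ⟨s.snd ≫ prod.fst, ?_, ?_, fun {m} _ h => ?_⟩
      · show (s.snd ≫ prod.fst) ≫ i = s.fst
        rw [Category.assoc]; exact e1.symm
      · show (s.snd ≫ prod.fst) ≫ Limits.diag Z = s.snd
        apply Limits.prod.hom_ext
        · rw [Category.assoc]
          erw [prod.lift_fst]
          exact Category.comp_id _
        · rw [Category.assoc]
          erw [prod.lift_snd]
          exact (Category.comp_id _).trans e3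
      · refine Eq.trans ?_ (congrArg (fun t => t ≫ (prod.fst : Z ⨯ Z ⟶ Z)) h)
        refine Eq.trans ?_ (Category.assoc _ _ _).symm
        exact ((congrArg (fun t => m ≫ t) (prod.lift_fst (𝟙 Z) (𝟙 Z))).trans (Category.comp_id m)).symm
    exact MorphismProperty.of_isPullback hsq hF.diag
  · obtain ⟨U, p, hp1, hp2⟩ := hF.atlas
    obtain ⟨V, q, v, hpb⟩ := hri.rep p
    haveI : (AlgSp.RepWith (S := S) @Etale).IsStableUnderBaseChange := AlgSp.repWith_isStableUnderBaseChange _
    haveI : (AlgSp.RepWith (S := S) @Surjective).IsStableUnderBaseChange := AlgSp.repWith_isStableUnderBaseChange _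
    exact ⟨V, v, MorphismProperty.of_isPullback hpb.flip hp1, MorphismProperty.of_isPullback hpb.flip hp2⟩

end Groth.Agent.S13210
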