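import Groth.Statements.S1323
import Mathlib
import Groth.Prelude.Def_MoreMor
import Groth.Prelude.Def_Mor2
import Groth.Agent.ThickProp.Deform

set_option autoImplicit false
universe u
open FlatMor

namespace Groth.Agent.S1323

open AlgebraicGeometry CategoryTheory Limits in
/-- Let S ⟶ S' be a finite order thickening, let X' ⟶ Y' be a morphism of schemes over S' with X' flat
over S', and let X ⟶ Y be its base change to S. Then X ⟶ Y is finite locally free of rank d if and
only if X' ⟶ Y' is. -/
theorem result (d : ℕ) {X X' Y Y' S S' : Scheme.{u}} (iX : X ⟶ X') (iY : Y ⟶ Y') (iS : S ⟶ S')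
    (f : X ⟶ Y) (f' : X' ⟶ Y') (g : Y ⟶ S) (g' : Y' ⟶ S')
    (hS : MoreMor.IsFiniteOrderThickening iS) (hcX : IsPullback iX (f ≫ g) (f' ≫ g') iS) (hcY : IsPullback iY g g' iS)
    (w : iX ≫ f' = f ≫ iY) [Flat (f' ≫ g')] :
    Mor2.IsFinLocFreeOfDeg d f ↔ Mor2.IsFinLocFreeOfDeg d f' := by
  obtain ⟨⟨_, _⟩, hn⟩ := hS
  have hc := Groth.Agent.ThickProp.isPullback_deform hcX hcY w
  haveI := Groth.Agent.ThickProp.isClosedImmersion_left hcY
  haveI := Groth.Agent.ThickProp.surjective_left hcY
  have hrank : ∀ [IsFinite f'] [Flat f'] (y : Y), f.finrank y = f'.finrank (iY y) := fun y => by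
    haveI : IsPullback f iX iY f' := hc.flip
    rw [← Scheme.Hom.finrank_pullback_snd f' iY y, ← hc.flip.flip.isoPullback_hom_snd]
    haveI : Flat (pullback.snd f' iY) := MorphismProperty.pullback_snd _ _ inferInstance
    haveI : IsFinite (pullback.snd f' iY) := MorphismProperty.pullback_snd _ _ inferInstance
    rw [Scheme.Hom.finrank_comp_left_of_isIso]
  constructor
  · rintro ⟨⟨_, _, _⟩, hd⟩
    haveI := Groth.Agent.ThickProp.flat_of_deform hcX hcY w hn
    haveI := Groth.Agent.ThickProp.locallyOfFinitePresentation_of_deform hcX hcY w hn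
    haveI : IsFinite f' := Groth.Agent.ThickProp.isFinite_of_nilpotent hc fun U => by
      rw [Scheme.Hom.ker_apply iY U]
      exact Groth.Agent.ThickProp.isNilpotent_ker_app (Groth.Agent.ThickProp.isNilpotent_ker_left hcY hn) U
    refine ⟨⟨inferInstance, inferInstance, inferInstance⟩, fun y' => ?_⟩
    obtain ⟨y, rfl⟩ := iY.surjective y'
    rw [← hrank y]
    exact hd y
  · rintro ⟨⟨_, _, _⟩, hd⟩
    refine ⟨⟨MorphismProperty.of_isPullback (P := @IsFinite) hc ‹_›, MorphismProperty.of_isPullback (P := @Flat) hc ‹_›,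
      MorphismProperty.of_isPullback (P := @LocallyOfFinitePresentation) hc ‹_›⟩, fun y => ?_⟩
    rw [hrank y]
    exact hd _

end Groth.Agent.S1323
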