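import Groth.Statements.S1324
import Groth.Agent.GeomFib.SectionConn

set_option autoImplicit false
universe u
open FlatMor

namespace Groth.Agent.S1324

section
open AlgebraicGeometry CategoryTheory Limits Groth.Agent
theorem aux {X Y : Scheme.{u}} (f : X ⟶ Y) (g : Y ⟶ X) (hg : g ≫ f = 𝟙 Y) {X' Y' : Scheme.{u}}
    {f' : X' ⟶ Y'} {e : X' ⟶ X} {σ : Y' ⟶ Y} (hsq : IsPullback e f' f σ) {g' : Y' ⟶ X'}
    (hg' : g' ≫ f' = 𝟙 Y') (hge : g' ≫ e = σ ≫ g) :
    MoreMor.sectionComponents f' g' = e.base ⁻¹' MoreMor.sectionComponents f g := by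
  ext x'
  obtain ⟨y', hy'⟩ : ∃ y', f'.base x' = y' := ⟨_, rfl⟩
  have hfe : ∀ z : X', f.base (e.base z) = σ.base (f'.base z) := fun z ↦ by
    show (e ≫ f).base z = _
    rw [hsq.w]; rfl
  have hge' : e.base (g'.base y') = g.base (σ.base y') := by
    show (g' ≫ e).base y' = _
    rw [hge]; rfl
  show x' ∈ connectedComponentIn (f'.base ⁻¹' {f'.base x'}) (g'.base (f'.base x')) ↔
    e.base x' ∈ connectedComponentIn (f.base ⁻¹' {f.base (e.base x')}) (g.base (f.base (e.base x')))
  rw [hfe, hy']
  have hgy' := Groth.Agent.GeomFib.section_apply f' g' hg' y'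
  constructor
  · intro h
    exact (isPreconnected_connectedComponentIn.image e.base e.continuous.continuousOn).subset_connectedComponentIn
      ⟨g'.base y', mem_connectedComponentIn hgy', hge'⟩
      (by
        rintro _ ⟨z, hz, rfl⟩
        show f.base (e.base z) = _
        rw [hfe, show f'.base z = y' from connectedComponentIn_subset (f'.base ⁻¹' {y'}) _ hz])
      ⟨x', h, rfl⟩
  intro h
  let y := σ.base y'
  let k := Y.residueField y
  let s : Spec k ⟶ f.fiber y :=
    pullback.lift (Y.fromSpecResidueField y ≫ g) (𝟙 _) (by rw [Category.assoc, hg, Category.comp_id, Category.id_comp])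
  have hs : s ≫ f.fiberToSpecResidueField y = 𝟙 _ := pullback.lift_snd _ _ _
  have : GeometricallyConnected (𝟙 (Spec k)) :=
    Rigid.geometricallyConnected_of_section (k := k) (𝟙 _) (𝟙 _) (Category.id_comp _)
  let _ : Algebra k (Y'.residueField y') := (σ.residueFieldMap y').hom.toAlgebra
  have hq := ConsEngine.isPullback_fiberBC hsq y'
  let q := ConsEngine.fiberBC hsq y'
  let p₀ := s (IsLocalRing.closedPoint k)
  have hp₀ : f.fiberι y p₀ = g.base y := by
    show (s ≫ f.fiberι y) (IsLocalRing.closedPoint k) = _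
    rw [show s ≫ f.fiberι y = Y.fromSpecResidueField y ≫ g from pullback.lift_fst _ _ _, Scheme.Hom.comp_apply,
      Scheme.fromSpecResidueField_apply]
  have hconn := GeomConn.isConnected_preimage_connectedComponent (k := k) (K := Y'.residueField y')
    (f.fiberToSpecResidueField y) (𝟙 _) s hs (IsLocalRing.closedPoint k)
  have hqe : hq.isoPullback.hom ≫ pullback.fst (f.fiberToSpecResidueField y) (Spec.map (σ.residueFieldMap y')) = q :=
    hq.isoPullback_hom_fst
  have hpre : _root_.IsPreconnected (q.base ⁻¹' connectedComponent p₀) := by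
    have h1 : _root_.IsPreconnected ((pullback.fst (f.fiberToSpecResidueField y) (Spec.map (σ.residueFieldMap y'))).base ⁻¹'
        connectedComponent p₀) := hconn.isPreconnected
    have h2 := h1.image hq.isoPullback.inv.base hq.isoPullback.inv.continuous.continuousOn
    convert h2 using 1
    rw [← hqe]
    refine Set.ext fun r ↦ ⟨fun hr ↦ ⟨hq.isoPullback.hom r, hr, ?_⟩, fun ⟨w, hw, hwr⟩ ↦ ?_⟩
    · show (hq.isoPullback.hom ≫ hq.isoPullback.inv).base r = r
      rw [Iso.hom_inv_id]; rfl
    · rw [Set.mem_preimage, ← hwr, ← Scheme.Hom.comp_apply, Iso.inv_hom_id_assoc]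
      exact hw
  have hkey := hpre.image (f'.fiberι y').base (f'.fiberι y').continuous.continuousOn
  have hmem : ∀ z : X', f'.base z = y' → e.base z ∈ connectedComponentIn (f.base ⁻¹' {y}) (g.base y) →
      z ∈ (f'.fiberι y').base '' (q.base ⁻¹' connectedComponent p₀) := by
    intro z hz hez
    obtain ⟨r, rfl⟩ := (f'.range_fiberι y').ge hz
    refine ⟨r, ?_, rfl⟩
    rw [← hp₀, ← Unibranch.fiberι_image_connectedComponent] at hez
    obtain ⟨r', hr', hrr'⟩ := hez
    have h3 : f.fiberι y (q r) = e (f'.fiberι y' r) := by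
      rw [← Scheme.Hom.comp_apply, ConsEngine.fiberBC_fiberι, Scheme.Hom.comp_apply]
    show q r ∈ connectedComponent p₀
    rwa [(f.fiberι y).isEmbedding.injective (h3.trans hrr'.symm)]
  refine hkey.subset_connectedComponentIn (hmem _ hgy' (by rw [hge']; exact mem_connectedComponentIn (Groth.Agent.GeomFib.section_apply f g hg y)))
    ?_ (hmem x' hy' h)
  rintro _ ⟨r, -, rfl⟩
  exact (f'.range_fiberι y').le ⟨r, rfl⟩

end

open AlgebraicGeometry CategoryTheory Limits in
/-- Let f have a section s and form, for every point of the target, the connected component of the fibre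
containing the value of the section; call the union of these the section components of (f, s). For
any base change of f with the induced section, the section components upstairs are exactly the
preimage of the section components downstairs. -/
theorem result {X Y X' Y' : Scheme.{u}} (f : X ⟶ Y) (s : Y ⟶ X) (hs : s ≫ f = 𝟙 Y)
    (f' : X' ⟶ Y') (g' : X' ⟶ X) (g : Y' ⟶ Y) (hc : IsPullback g' f' f g)
    (s' : Y' ⟶ X') (hs' : s' ≫ f' = 𝟙 Y') (hs'g : s' ≫ g' = g ≫ s) :
    MoreMor.sectionComponents f' s' = g' ⁻¹' MoreMor.sectionComponents f s := by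
  exact aux f s hs hc hs' hs'g

end Groth.Agent.S1324
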