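import Groth.Statements.S1325
import Groth.Agent.GeomFib.SectionConn
import Groth.Agent.GeomFib.NearFamily

set_option autoImplicit false
universe u
open FlatMor

namespace Groth.Agent.S1325

open AlgebraicGeometry CategoryTheory Limits in
/-- Let f be of finite type with a section s and let y be a point of the target. Then there is a subset
V of the closure of y, open in that closure and containing y (equivalently nonempty), such that the
trace of the section components of (f, s) on the preimage of V is open and closed in that preimage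
(with the subspace topology, which is the topology of the base change to the locally closed
subscheme V). -/
theorem result {X Y : Scheme.{u}} (f : X ⟶ Y) (s : Y ⟶ X) (hs : s ≫ f = 𝟙 Y)
    [LocallyOfFiniteType f] [QuasiCompact f] (y : Y) :
    ∃ V : Set ↑Y, V ⊆ closure {y} ∧ y ∈ V ∧ IsOpen (Subtype.val ⁻¹' V : Set ↑(closure ({y} : Set ↑Y))) ∧
      IsClopen (Subtype.val ⁻¹' MoreMor.sectionComponents f s : Set ↑(f ⁻¹' V)) := by
  classical
  have hsa := Groth.Agent.GeomFib.section_apply f s hs
  let P : Set ↑X := connectedComponentIn (f ⁻¹' {y}) (s y)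
  let Q : Set ↑X := f ⁻¹' {y} \ P
  have hgy : s y ∈ f ⁻¹' {y} := hsa y
  have hPsub : P ⊆ f ⁻¹' {y} := connectedComponentIn_subset _ _
  -- the component is closed and open in the fibre
  have hPcl : ∀ z, f z = y → z ∈ closure P → z ∈ P := by
    intro z hzy hzP
    obtain ⟨C, hC, hCeq⟩ := isClosed_induced_iff.mp (isClosed_connectedComponent (x := (⟨s y, hgy⟩ : f ⁻¹' {y})))
    have hP : P = C ∩ f ⁻¹' {y} := by
      show connectedComponentIn _ _ = _
      rw [connectedComponentIn_eq_image hgy, ← hCeq, Set.inter_comm, Subtype.image_preimage_coe]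
    rw [hP]
    exact ⟨closure_minimal (hP ▸ Set.inter_subset_left) hC hzP, hzy⟩
  obtain ⟨O₁, hO₁⟩ := Groth.Agent.Unibranch.exists_opens_inter_eq f y hgy
  have hdisj : ∀ z, f z = y → z ∈ closure P → z ∈ closure Q → False := by
    intro z hzy hzP hzQ
    obtain ⟨w, hwO, hwQ⟩ := mem_closure_iff.mp hzQ O₁ O₁.2 (hO₁.ge (hPcl z hzy hzP)).1
    exact hwQ.2 (hO₁.le ⟨hwO, hwQ.1⟩)
  -- an open set inside the section components around the component
  have hmem : ∀ p ∈ P, p ∈ MoreMor.sectionComponents f s := fun p hp => by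
    show p ∈ connectedComponentIn (f ⁻¹' {f p}) (s (f p))
    rw [show f p = y from hPsub hp]
    exact hp
  choose O hO hOmem using fun p : P => Groth.Agent.GeomFib.exists_open_mem_sectionComponents f s hs (hmem p p.2)
  let G : Set ↑X := ⋃ p : P, (O p : Set ↑X)
  have hG : IsOpen G := isOpen_iUnion fun p => (O p).2
  obtain ⟨U₀, hyU₀, hU₀⟩ := Groth.Agent.GeomFib.exists_open_forall_generalization f y Set.univ isClosed_univ
  obtain ⟨U₁, hyU₁, hU₁⟩ := Groth.Agent.GeomFib.exists_open_forall_generalization f y (closure P ∩ closure Q)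
    (isClosed_closure.inter isClosed_closure)
  obtain ⟨U₂, hyU₂, hU₂⟩ := Groth.Agent.GeomFib.exists_open_forall_generalization f y (closure P ∩ Gᶜ)
    (isClosed_closure.inter hG.isClosed_compl)
  let U : Y.Opens := U₀ ⊓ U₁ ⊓ U₂
  refine ⟨(U : Set ↑Y) ∩ closure {y}, Set.inter_subset_right, ⟨⟨⟨hyU₀, hyU₁⟩, hyU₂⟩, subset_closure rfl⟩, ?_, ?_⟩
  · rw [Set.preimage_inter, Subtype.coe_preimage_self, Set.inter_univ]
    exact U.2.preimage continuous_subtype_val
  have key : ∀ z : ↑X, f z ∈ (U : Set ↑Y) ∩ closure {y} →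
      (z ∈ MoreMor.sectionComponents f s ↔ z ∈ closure P) ∧ (z ∈ MoreMor.sectionComponents f s ↔ z ∈ G) := by
    rintro z ⟨⟨⟨hz₀, hz₁⟩, hz₂⟩, hzcl⟩
    have hsp : y ⤳ f z := specializes_iff_mem_closure.mpr hzcl
    have hPG : z ∈ closure P → z ∈ G := fun h => by_contra fun hn => by
      obtain ⟨z₀, ⟨hz₀P, hz₀G⟩, -, hz₀y⟩ := hU₂ (f z) hz₂ hsp z ⟨h, hn⟩ rfl
      exact hz₀G (Set.mem_iUnion.mpr ⟨⟨z₀, hPcl z₀ hz₀y hz₀P⟩, hO _⟩)
    have hGS : z ∈ G → z ∈ MoreMor.sectionComponents f s := fun h => by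
      obtain ⟨p, hp⟩ := Set.mem_iUnion.mp h
      exact hOmem p z hp (by rw [show f.base p.1 = y from hPsub p.2]; exact hsp)
    have hSP : z ∈ MoreMor.sectionComponents f s → z ∈ closure P := fun h => by
      have hfib : ∀ w, f w = f z → (w ∈ closure P ∨ w ∈ closure Q) ∧ (w ∈ closure P → w ∈ closure Q → False) := by
        intro w hw
        constructor
        · obtain ⟨w₀, -, hw₀, hw₀y⟩ := hU₀ (f z) hz₀ hsp w trivial hw
          by_cases hP : w₀ ∈ P
          · exact .inl (hw₀.mem_closed isClosed_closure (subset_closure hP))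
          · exact .inr (hw₀.mem_closed isClosed_closure (subset_closure ⟨hw₀y, hP⟩))
        · intro hwP hwQ
          obtain ⟨w₀, hw₀, -, hw₀y⟩ := hU₁ (f z) hz₁ hsp w ⟨hwP, hwQ⟩ hw
          exact hdisj _ hw₀y hw₀.1 hw₀.2
      refine ((hfib z rfl).1).resolve_right fun hzQ => ?_
      have hgP : s (f z) ∈ closure P :=
        (hsp.map s.continuous).mem_closed isClosed_closure (subset_closure (mem_connectedComponentIn hgy))
      obtain ⟨w, hw, hwP, hwQ⟩ := isPreconnected_closed_iff.mp
        (isPreconnected_connectedComponentIn (F := f ⁻¹' {f z}) (x := s (f z)))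
        (closure P) (closure Q) isClosed_closure isClosed_closure
        (fun w hw => (hfib w (connectedComponentIn_subset (f ⁻¹' {f z}) _ hw)).1)
        ⟨_, mem_connectedComponentIn (hsa (f z)), hgP⟩ ⟨z, h, hzQ⟩
      exact (hfib w (connectedComponentIn_subset (f ⁻¹' {f z}) _ hw)).2 hwP hwQ
    exact ⟨⟨hSP, fun h => hGS (hPG h)⟩, ⟨fun h => hPG (hSP h), hGS⟩⟩
  refine ⟨?_, ?_⟩
  · have h1 : IsClosed (Subtype.val ⁻¹' closure P : Set ↑(f ⁻¹' ((U : Set ↑Y) ∩ closure {y}))) :=
      isClosed_closure.preimage continuous_subtype_val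
    convert h1 using 1
    ext z
    exact (key z.1 z.2).1
  · have h1 : IsOpen (Subtype.val ⁻¹' G : Set ↑(f ⁻¹' ((U : Set ↑Y) ∩ closure {y}))) :=
      hG.preimage continuous_subtype_val
    convert h1 using 1
    ext z
    exact (key z.1 z.2).2

end Groth.Agent.S1325
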