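import Groth.Statements.S1328
import Groth.Agent.GeomFib.NearFamily

set_option autoImplicit false
universe u
open FlatMor

namespace Groth.Agent.S1328

open AlgebraicGeometry CategoryTheory Limits in
/-- Let f be of finite type with irreducible target. If the generic fibre has exactly n irreducible
components, then over some nonempty open of the target every fibre has at least n irreducible
components. -/
theorem result {X Y : Scheme.{u}} (f : X ⟶ Y) [IrreducibleSpace ↑Y] [LocallyOfFiniteType f] [QuasiCompact f] (n : ℕ)
    (h : (irreducibleComponents ↑(f.fiber (genericPoint ↑Y))).encard = n) :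
    ∃ V : Y.Opens, (V : Set ↑Y).Nonempty ∧ ∀ y ∈ V, (n : ℕ∞) ≤ (irreducibleComponents ↑(f.fiber y)).encard := by
  have hfin : (irreducibleComponents ↑(f.fiber (genericPoint ↑Y))).Finite :=
    Set.encard_ne_top_iff.mp (h ▸ ENat.natCast_ne_top n)
  have : Finite ↥(irreducibleComponents ↑(f.fiber (genericPoint ↑Y))) := hfin.to_subtype
  obtain ⟨O, hO, hfam⟩ := Groth.Agent.GeomFib.exists_open_family f (genericPoint ↑Y)
    (fun C : ↥(irreducibleComponents ↑(f.fiber (genericPoint ↑Y))) => (C : Set _))
    (fun C => isClosed_of_mem_irreducibleComponents _ C.2)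
    (fun w => ⟨⟨_, irreducibleComponent_mem_irreducibleComponents w⟩, mem_irreducibleComponent⟩)
    (fun C => by
      classical
      cases nonempty_fintype ↥(irreducibleComponents ↑(f.fiber (genericPoint ↑Y)))
      by_contra hne
      simp only [not_exists, not_and, not_forall] at hne
      obtain ⟨T, hT, hle⟩ := (isIrreducible_iff_sUnion_isClosed.mp C.2.1)
        ((Finset.univ.erase C).image Subtype.val)
        (fun T hT => by
          obtain ⟨D, -, rfl⟩ := Finset.mem_image.mp hT
          exact isClosed_of_mem_irreducibleComponents _ D.2)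
        (fun w hw => by
          obtain ⟨D, hwD, hDC⟩ := hne w hw
          exact ⟨D.1, Finset.mem_coe.mpr (Finset.mem_image_of_mem _ (Finset.mem_erase.mpr ⟨hDC, Finset.mem_univ D⟩)), hwD⟩)
      obtain ⟨D, hD, rfl⟩ := Finset.mem_image.mp hT
      exact (Finset.mem_erase.mp hD).1 (Subtype.ext ((C.2.2 D.2.1 hle).antisymm hle)))
  refine ⟨O, ⟨_, hO⟩, fun y hy => ?_⟩
  obtain ⟨D, hD, hcov, hpt, -⟩ := hfam y hy (genericPoint_specializes y)
  rw [← h, ← ENat.card_coe_set_eq]
  exact Groth.Agent.GeomFib.card_le_irreducibleComponents D hD hcov hpt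

end Groth.Agent.S1328
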