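import Groth.Statements.S1329
import Groth.Agent.GeomFib.NearFamily

set_option autoImplicit false
universe u
open FlatMor

namespace Groth.Agent.S1329

open AlgebraicGeometry CategoryTheory Limits in
/-- Let f be of finite type with irreducible target. If the generic fibre has exactly n connected
components, then over some nonempty open of the target every fibre has at least n connected
components. -/
theorem result {X Y : Scheme.{u}} (f : X ⟶ Y) [IrreducibleSpace ↑Y] [LocallyOfFiniteType f] [QuasiCompact f] (n : ℕ)
    (h : ENat.card (_root_.ConnectedComponents ↑(f.fiber (genericPoint ↑Y))) = n) :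
    ∃ V : Y.Opens, (V : Set ↑Y).Nonempty ∧ ∀ y ∈ V, (n : ℕ∞) ≤ ENat.card (_root_.ConnectedComponents ↑(f.fiber y)) := by
  have hfin : Finite (_root_.ConnectedComponents ↑(f.fiber (genericPoint ↑Y))) :=
    ENat.card_lt_top.mp (h ▸ ENat.natCast_lt_top n)
  obtain ⟨O, hO, hfam⟩ := Groth.Agent.GeomFib.exists_open_family f (genericPoint ↑Y)
    (fun c : _root_.ConnectedComponents ↑(f.fiber (genericPoint ↑Y)) => ConnectedComponents.mk ⁻¹' {c})
    (fun c => by
      obtain ⟨w, rfl⟩ := ConnectedComponents.surjective_coe c
      rw [connectedComponents_preimage_singleton]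
      exact isClosed_connectedComponent)
    (fun w => ⟨_, rfl⟩)
    (fun c => by
      obtain ⟨w, rfl⟩ := ConnectedComponents.surjective_coe c
      exact ⟨w, rfl, fun j hj => hj.symm⟩)
  refine ⟨O, ⟨_, hO⟩, fun y hy => ?_⟩
  obtain ⟨D, hD, hcov, hpt, hdisj⟩ := hfam y hy (genericPoint_specializes y)
  rw [← h]
  refine Groth.Agent.GeomFib.card_le_connectedComponents D hD hcov (fun i => ?_) fun i j hij => ?_
  · obtain ⟨w, hw, -⟩ := hpt i
    exact ⟨w, hw⟩
  · exact hdisj i j (Set.disjoint_left.mpr fun w hwi hwj => hij ((Set.mem_singleton_iff.mp hwi).symm.trans (Set.mem_singleton_iff.mp hwj)))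

end Groth.Agent.S1329
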