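import Groth.Statements.S1331
import Groth.Agent.GeomRedSpread.NearPoint

set_option autoImplicit false
universe u
open FlatMor

namespace Groth.Agent.S1331

open AlgebraicGeometry CategoryTheory Limits in
/-- Let f be of finite type with irreducible target. If the generic fibre is not geometrically reduced,
then over some nonempty open of the target no fibre is geometrically reduced. -/
theorem result {X Y : Scheme.{u}} (f : X ⟶ Y) [IrreducibleSpace ↑Y] [LocallyOfFiniteType f] [QuasiCompact f]
    (h : ¬ GeometricallyReduced (f.fiberToSpecResidueField (genericPoint ↑Y))) :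
    ∃ V : Y.Opens, (V : Set ↑Y).Nonempty ∧ ∀ y ∈ V, ¬ GeometricallyReduced (f.fiberToSpecResidueField y) := by
  obtain ⟨O, hO, hiff⟩ := Groth.Agent.GeomRedSpread.exists_open_geometricallyReduced_iff f (genericPoint ↑Y)
  exact ⟨O, ⟨_, hO⟩, fun y hy hred => h ((hiff y hy (genericPoint_specializes _)).mp hred)⟩

end Groth.Agent.S1331
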