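import Groth.Statements.S13342
import Groth.Agent.ThickSys.Sys

set_option linter.style.haveILetI false

set_option autoImplicit false
open CategoryTheory CategoryTheory.Limits
universe u
open FCompl CategoryTheory CategoryTheory.Limits AlgebraicGeometry

namespace Groth.Agent.S13342

open AlgebraicGeometry in
/-- The formal prescheme induced on an open subset of a formal prescheme (resp. of a locally Noetherian
formal prescheme, resp. of a Noetherian formal prescheme) is a formal prescheme (resp. a locally
Noetherian formal prescheme, resp. a Noetherian formal prescheme). In the presentation by systems of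
thickenings with common underlying space: for an open U, the induced system (the open subschemes of
the levels over U with the restricted transition maps) is again a system of thickenings; it is adic
with locally Noetherian levels when the given system is; and if moreover the common underlying space
is quasi-compact (a Noetherian formal prescheme), so is that of the induced system. -/
theorem result (𝔛 : FSch.Sys.{u}) (h : 𝔛.IsFormal) (U : (𝔛.X 0).Opens) :
    (𝔛.restrictOpen h U).IsFormal ∧ (𝔛.IsLocNoethFormal → (𝔛.restrictOpen h U).IsLocNoethFormal) ∧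
      (𝔛.IsLocNoethFormal → CompactSpace (𝔛.X 0) → CompactSpace ((𝔛.restrictOpen h U).X 0)) := by
  set_option backward.isDefEq.respectTransparency false in
  have had : FSch.IsAdicHom (𝔛.restrictOpenι h U) := fun n => by
    have key : ∀ (W : (𝔛.X n).Opens) (e : W ≤ 𝔛.ι n ⁻¹ᵁ 𝔛.lvU h (n + 1) U), W = 𝔛.ι n ⁻¹ᵁ 𝔛.lvU h (n + 1) U →
        IsPullback ((𝔛.ι n).resLE (𝔛.lvU h (n + 1) U) W e) W.ι (𝔛.lvU h (n + 1) U).ι (𝔛.ι n) := by
      rintro W e rfl
      have := isPullback_morphismRestrict (𝔛.ι n) (𝔛.lvU h (n + 1) U)
      rw [Scheme.Hom.resLE_eq_morphismRestrict]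
      exact this
    exact key _ (𝔛.lvU_le h n U) (𝔛.lvU_succ h n U).symm
  refine ⟨Groth.Agent.ThickSys.isFormal_of_isAdicHom _ h had, fun hL => ?_, fun hL hc => ?_⟩
  · haveI := hL.2.2 0
    haveI : IsLocallyNoetherian ((𝔛.restrictOpen h U).X 0) :=
      inferInstanceAs (IsLocallyNoetherian (𝔛.lvU h 0 U : Scheme.{u}))
    exact Groth.Agent.ThickSys.isLocNoethFormal_of_isAdicHom _ hL had
  · haveI := hL.2.2 0
    haveI : AlgebraicGeometry.IsNoetherian (𝔛.X 0) := { }
    exact isCompact_iff_compactSpace.1 (TopologicalSpace.NoetherianSpace.isCompact ((𝔛.lvU h 0 U : (𝔛.X 0).Opens) : Set (𝔛.X 0)))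

end Groth.Agent.S13342
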