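import Groth.Statements.S13341


set_option autoImplicit false
open CategoryTheory
universe u
open FCompl

namespace Groth.Agent.S13341

open CategoryTheory.Limits in
theorem isPullback_of_sections {C : Type*} [Category C] {X X' Y Y' P P' : C} (i : X ⟶ X') (j : Y ⟶ Y') [Mono j]
    (f : X ⟶ Y) (f' : X' ⟶ Y') (γ : X ⟶ P) (γ' : X' ⟶ P') (a : P ⟶ X) (b : P ⟶ Y) (a' : P' ⟶ X') (b' : P' ⟶ Y')
    (k : P ⟶ P') (hk₁ : k ≫ a' = a ≫ i) (hk₂ : k ≫ b' = b ≫ j)
    (hP : ∀ {T : C} (u v : T ⟶ P), u ≫ a = v ≫ a → u ≫ b = v ≫ b → u = v)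
    (h1 : γ ≫ a = 𝟙 X) (h1' : γ' ≫ a' = 𝟙 X') (h2 : γ ≫ b = f) (h2' : γ' ≫ b' = f')
    (e : i ≫ f' = f ≫ j) (c : i ≫ γ' = γ ≫ k) : IsPullback i γ γ' k := by
  refine IsPullback.of_isLimit (PullbackCone.IsLimit.mk c (fun s => s.snd ≫ a) (fun s => ?_) (fun s => ?_) (fun s m hm₁ hm₂ => ?_))
  · rw [Category.assoc, ← hk₁, ← Category.assoc, ← s.condition, Category.assoc, h1', Category.comp_id]
  · refine hP _ _ (by rw [Category.assoc, h1, Category.comp_id]) ?_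
    have hsi : (s.snd ≫ a) ≫ i = s.fst := by
      rw [Category.assoc, ← hk₁, ← Category.assoc, ← s.condition, Category.assoc, h1', Category.comp_id]
    rw [Category.assoc, h2, ← cancel_mono j]
    calc ((s.snd ≫ a) ≫ f) ≫ j = (s.snd ≫ a) ≫ i ≫ f' := by rw [Category.assoc, ← e]
      _ = (s.fst ≫ γ') ≫ b' := by rw [← Category.assoc, hsi, Category.assoc, h2']
      _ = (s.snd ≫ b) ≫ j := by rw [s.condition, Category.assoc, hk₂, Category.assoc]
  · rw [← hm₂, Category.assoc, h1, Category.comp_id]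

open AlgebraicGeometry in
/-- Formal schemes are presented as locally Noetherian adic systems of thickenings and the fibre product
is taken levelwise (it presents the fibre product of formal schemes since one factor is adic over
the base). Let 𝔖 be a locally Noetherian formal system, 𝔛 and 𝔜 locally Noetherian formal systems
over 𝔖 such that 𝔛 or 𝔜 is of finite type over 𝔖, and 𝔜 separated over 𝔖 at level 0. Then for every
𝔖-morphism f : 𝔛 → 𝔜 the graph morphism 𝔛 → 𝔛 ×_𝔖 𝔜 is a closed immersion: adic, with level 0 a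
closed immersion. -/
theorem result {𝔛 𝔜 𝔖 : FSch.Sys.{u}} (h𝔖 : 𝔖.IsLocNoethFormal) (h𝔛 : 𝔛.IsLocNoethFormal)
    (h𝔜 : 𝔜.IsLocNoethFormal) (p : 𝔛 ⟶ 𝔖) (q : 𝔜 ⟶ 𝔖) (hpq : FSch.IsFiniteTypeHom p ∨ FSch.IsFiniteTypeHom q)
    (hq : IsSeparated ((q : FSch.Hom 𝔜 𝔖).app 0)) (f : 𝔛 ⟶ 𝔜) (w : f ≫ q = p) :
    FSch.IsClosedImmHom (FSch.graph f p q w) := by
  let g := FSch.graph f p q w
  have h1 : ∀ n, (g : FSch.Hom _ _).app n ≫ Limits.pullback.fst _ _ = 𝟙 _ := fun n => Limits.pullback.lift_fst _ _ _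
  have h2 : ∀ n, (g : FSch.Hom _ _).app n ≫ Limits.pullback.snd _ _ = (f : FSch.Hom 𝔛 𝔜).app n := fun n => Limits.pullback.lift_snd _ _ _
  refine ⟨fun n => ?_, ?_⟩
  · haveI : IsClosedImmersion (𝔜.ι n) := (h𝔜.1 n).1
    exact isPullback_of_sections (𝔛.ι n) (𝔜.ι n) ((f : FSch.Hom 𝔛 𝔜).app n) ((f : FSch.Hom 𝔛 𝔜).app (n + 1))
      ((g : FSch.Hom _ _).app n) ((g : FSch.Hom _ _).app (n + 1))
      (Limits.pullback.fst _ _) (Limits.pullback.snd _ _) (Limits.pullback.fst _ _) (Limits.pullback.snd _ _)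
      ((FSch.pullbackSys p q).ι n) (Limits.pullback.lift_fst _ _ _) (Limits.pullback.lift_snd _ _ _)
      (fun u v => Limits.pullback.hom_ext) (h1 n) (h1 (n + 1)) (h2 n) (h2 (n + 1))
      ((f : FSch.Hom 𝔛 𝔜).comm n).symm ((g : FSch.Hom _ _).comm n).symm
  · have hs : IsSeparated (Limits.pullback.fst ((p : FSch.Hom 𝔛 𝔖).app 0) ((q : FSch.Hom 𝔜 𝔖).app 0)) :=
      MorphismProperty.pullback_fst _ _ hq
    have hc : IsClosedImmersion ((g : FSch.Hom _ _).app 0 ≫ Limits.pullback.fst ((p : FSch.Hom 𝔛 𝔖).app 0) ((q : FSch.Hom 𝔜 𝔖).app 0)) := by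
      erw [h1 0]
      infer_instance
    exact @IsClosedImmersion.of_comp _ _ _ ((g : FSch.Hom _ _).app 0)
      (Limits.pullback.fst ((p : FSch.Hom 𝔛 𝔖).app 0) ((q : FSch.Hom 𝔜 𝔖).app 0)) hc hs

end Groth.Agent.S13341
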