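import Groth.Statements.S6845
import Groth.Agent.RSStalk.Pull

set_option autoImplicit false
universe u
open CategoryTheory CategoryTheory.Limits TopologicalSpace
open ModSite

namespace Groth.Agent.S6845

/-- Let f : (X, O_X) → (Y, O_Y) be a flat morphism of ringed spaces, i.e. for every x ∈ X the ring map
of stalks O_{Y, f(x)} → O_{X, x} is flat. In this situation, pulling back modules along f gives an
exact functor f^* from Mod(O_Y) to Mod(O_X) (it is a left adjoint, so the content is that it
preserves finite limits). -/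
theorem result {X Y : TopCat.{u}} (f : X ⟶ Y) (O_X : TopCat.Sheaf CommRingCat.{u} X)
    (O_Y : TopCat.Sheaf CommRingCat.{u} Y)
    (c : O_Y ⟶ ((TopologicalSpace.Opens.map f).sheafPushforwardContinuous CommRingCat.{u}
      (Opens.grothendieckTopology Y) (Opens.grothendieckTopology X)).obj O_X)
    (hflat : ∀ x : X, ((TopCat.Presheaf.stalkFunctor CommRingCat.{u} (f x)).map
        (show O_Y.presheaf ⟶ (TopCat.Presheaf.pushforward CommRingCat.{u} f).obj O_X.presheaf from c.hom) ≫
      TopCat.Presheaf.stalkPushforward CommRingCat.{u} f O_X.presheaf x).hom.Flat) :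
    ModSite.RMor.IsFlat (ModSite.RMor.ofFlat (TopologicalSpace.Opens.map f) c) := by
  haveI : (RSStalk.rmor f c).pull.IsLeftAdjoint := (RSStalk.rmor f c).adj.isLeftAdjoint
  haveI : (RSStalk.rmor f c).pull.Additive := (RSStalk.rmor f c).adj.left_adjoint_additive
  refine RSStalk.preservesFiniteLimits_of_mono (RSStalk.rmor f c).pull fun φ _ => RSStalk.mono_of_stalks _ fun x => ?_
  haveI h1 : Mono ((RSStalk.st O_Y (f x) ⋙ ModuleCat.extendScalars.{u, u, u} (RSStalk.smap f c x).hom).map φ) :=
    RSStalk.mono_extendScalars_map (RSStalk.smap f c x) (hflat x) ((RSStalk.st O_Y (f x)).map φ)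
  have h : Mono ((RSStalk.pullStalkIso f c x).hom.app _ ≫
      (RSStalk.st O_Y (f x) ⋙ ModuleCat.extendScalars.{u, u, u} (RSStalk.smap f c x).hom).map φ ≫
        (RSStalk.pullStalkIso f c x).inv.app _) :=
    @mono_comp _ _ _ _ _ _ inferInstance _ (@mono_comp _ _ _ _ _ _ h1 _ inferInstance)
  rw [NatIso.naturality_2 (RSStalk.pullStalkIso f c x) φ] at h
  exact h

end Groth.Agent.S6845
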