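import Groth.Statements.S13345
import Groth.Agent.S6845
import Groth.Agent.ComplFlat.Stalk
import Groth.Agent.ComplFlat.Limit

set_option autoImplicit false
open CategoryTheory CategoryTheory.Limits
universe u
open FCompl

namespace Groth.Agent.S13345

open AlgebraicGeometry Opposite TopologicalSpace in
theorem appLE_surj_ker {Z X : Scheme.{u}} (g : Z ⟶ X) (U : X.Opens) (W : Z.Opens) (h : g ⁻¹ᵁ U = W)
    (e : W ≤ g ⁻¹ᵁ U) :
    (Function.Surjective (g.app U) → Function.Surjective (g.appLE U W e)) ∧
      RingHom.ker (g.appLE U W e).hom = RingHom.ker (g.app U).hom := by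
  subst h
  rw [Scheme.Hom.app_eq_appLE]
  exact ⟨fun h => h, rfl⟩

open AlgebraicGeometry Opposite TopologicalSpace in
theorem flat_sections (X : Scheme.{u}) [IsLocallyNoetherian X] (𝓘 : X.IdealSheafData)
    (h : (FSch.completionAlong X 𝓘).IsFormal) (U : X.affineOpens) :
    ((FSch.schSharp (FSch.completionAlong X 𝓘) h (FSch.completionToX X 𝓘)
      (FSch.completionToX_comm X 𝓘)).hom.app (op U.1)).hom.Flat := by
  set 𝔛 := FSch.completionAlong X 𝓘 with h𝔛
  have : IsNoetherianRing Γ(X, U.1) := IsLocallyNoetherian.component_noetherian U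
  let G : Sheaf (Opens.grothendieckTopology (𝔛.X 0)) CommRingCat.{u} ⥤ CommRingCat.{u} :=
    sheafToPresheaf _ _ ⋙ (evaluation _ _).obj (op (FSch.completionToX X 𝓘 0 ⁻¹ᵁ U.1))
  have ht : IsLimit (G.mapCone (limit.cone (𝔛.levelRing h))) :=
    isLimitOfPreserves G (limit.isLimit _)
  let p := FSch.completionToX X 𝓘
  let hp := FSch.completionToX_comm X 𝓘
  refine ComplFlat.flat_of_isLimit (𝓘.ideal U) (𝔛.levelRing h ⋙ G) _ ht _
    (fun n => ((FSch.schLevel 𝔛 h p hp n).hom.app (op U.1)).hom) (fun n => ?_) (fun n => ?_) (fun n => ?_)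
  · exact congrArg (fun k => (k.hom.app (op U.1)).hom) (FSch.schSharp_proj 𝔛 h p hp n)
  · exact (appLE_surj_ker (p n) U.1 _ (FSch.lvU_p 𝔛 h p hp n U.1) _).1
      ((𝓘 ^ (n + 1)).subschemeι_app_surjective U)
  · refine (appLE_surj_ker (p n) U.1 _ (FSch.lvU_p 𝔛 h p hp n U.1) _).2.trans ?_
    exact ((𝓘 ^ (n + 1)).ker_subschemeι_app U).trans (by rw [Scheme.IdealSheafData.ideal_pow]; rfl)

open AlgebraicGeometry in
/-- For a locally Noetherian scheme X and a quasi-coherent ideal sheaf 𝓘, the canonical morphism of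
ringed spaces from the completion X̂ of X along 𝓘 (the system of closed subschemes of the powers of
𝓘, with structure sheaf lim O_{X_k}) to X is flat; flatness of a morphism of ringed spaces is
rendered as exactness (preservation of finite limits) of its inverse image functor on modules. -/
theorem result (X : Scheme.{u}) [IsLocallyNoetherian X] (𝓘 : X.IdealSheafData)
    (h : (FSch.completionAlong X 𝓘).IsFormal) :
    ModSite.RMor.IsFlat (FSch.toSchemeMor (FSch.completionAlong X 𝓘) h (FSch.completionToX X 𝓘) (FSch.completionToX_comm X 𝓘)) := by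
  have hc : IsClosedImmersion (FSch.completionToX X 𝓘 0) :=
    inferInstanceAs (IsClosedImmersion ((𝓘 ^ (0 + 1)).subschemeι))
  refine S6845.result (FSch.completionToX X 𝓘 0).base ((FSch.completionAlong X 𝓘).Osh h) X.sheaf
    (FSch.schSharp (FSch.completionAlong X 𝓘) h (FSch.completionToX X 𝓘) (FSch.completionToX_comm X 𝓘))
    fun x => ?_
  refine ComplFlat.stalkMap_flat _ (FSch.completionToX X 𝓘 0).isClosedEmbedding.isInducing _ _ _ x
    X.isBasis_affineOpens fun U hU _ => ?_
  exact flat_sections X 𝓘 h ⟨U, hU⟩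

end Groth.Agent.S13345
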