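import Groth.Statements.S13349
import Groth.Agent.FSchTilde.Exact
import Groth.Agent.QC.AffineSpec

set_option autoImplicit false
universe u
open FCompl

namespace Groth.Agent.S13349

open AlgebraicGeometry in
open CategoryTheory in
/-- Let R be a base ring of class (N) or (V) for the ideal I, A an R-algebra topologically of finite
type, and 0 → M' → M → M'' → 0 a short exact sequence of finite A-modules. Present Spf A as the
completion of Spec A along IA, with structure sheaf the limit of the structure sheaves of the closed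
subschemes V((IA)^(n+1)), and let M^Δ be the limit of the direct images of the modules associated to
M/(IA)^(n+1)M. Then the induced maps M'^Δ → M^Δ → M''^Δ compose to zero and form a short exact
sequence of O_Spf A-modules. -/
theorem result
    (R : Type u) [CommRing R] (I : Ideal R) (hR : AdicRing.IsBase R I)
    (A : Type u) [CommRing A] [Algebra R A] (hA : AdicRing.TopFiniteType R I A)
    (h : (FSch.completionAlong (Spec (CommRingCat.of A)) (FSch.idealSpec A (I.map (algebraMap R A)))).IsFormal)
    (S : ShortComplex (ModuleCat.{u} A)) (hS : S.ShortExact)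
    [Module.Finite A S.X₁] [Module.Finite A S.X₂] [Module.Finite A S.X₃] :
    ∃ w : FSch.ModSys.realModMap h (FSch.complModMap (FSch.idealSpec A (I.map (algebraMap R A))) ((tilde.functor (CommRingCat.of A)).map S.f)) ≫
        FSch.ModSys.realModMap h (FSch.complModMap (FSch.idealSpec A (I.map (algebraMap R A))) ((tilde.functor (CommRingCat.of A)).map S.g)) = 0,
      (ShortComplex.mk _ _ w).ShortExact := by
  haveI := Groth.Agent.QC.tilde_preservesFiniteLimits (R := CommRingCat.of A)
  haveI : Limits.PreservesFiniteColimits (tilde.functor (CommRingCat.of A)) := by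
    haveI := (tilde.adjunction (R := CommRingCat.of A)).leftAdjoint_preservesColimits.{0, 0}
    exact Limits.PreservesColimitsOfSize.preservesFiniteColimits _
  haveI : (tilde.functor (CommRingCat.of A)).PreservesZeroMorphisms := inferInstance
  have hT := hS.map_of_exact (tilde.functor (CommRingCat.of A))
  obtain ⟨k, hk⟩ := Groth.Agent.FSchTilde.exists_ar hR hA S.f.hom ((ModuleCat.mono_iff_injective S.f).1 hS.mono_f)
  have hB : TopologicalSpace.Opens.IsBasis
      {U : TopologicalSpace.Opens ((FSch.completionAlong (Spec (CommRingCat.of A)) (FSch.idealSpec A (I.map (algebraMap R A)))).X 0) |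
        ∃ W, (∃ f : A, W = (PrimeSpectrum.basicOpen f : (Spec (CommRingCat.of A)).Opens)) ∧
          U = FSch.completionToX (Spec (CommRingCat.of A)) (FSch.idealSpec A (I.map (algebraMap R A))) 0 ⁻¹ᵁ W} := by
    let g0 := FSch.completionToX (Spec (CommRingCat.of A)) (FSch.idealSpec A (I.map (algebraMap R A))) 0
    rw [TopologicalSpace.Opens.isBasis_iff_nbhd]
    intro U x hx
    obtain ⟨V', hV', e⟩ := g0.isEmbedding.isInducing.isOpen_iff.1 U.isOpen
    have hx' : g0.base x ∈ (⟨V', hV'⟩ : (Spec (CommRingCat.of A)).Opens) := by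
      show x ∈ g0.base ⁻¹' V'
      rw [e]; exact hx
    obtain ⟨_, ⟨_, ⟨f, rfl⟩, rfl⟩, hxf, hle⟩ :=
      PrimeSpectrum.isBasis_basic_opens.exists_subset_of_mem_open hx' hV'
    refine ⟨g0 ⁻¹ᵁ PrimeSpectrum.basicOpen f, ⟨_, ⟨f, rfl⟩, rfl⟩, hxf, fun y hy => ?_⟩
    show y ∈ (U : Set _)
    rw [← e]
    exact hle hy
  obtain ⟨w, hw⟩ := Groth.Agent.FSchTilde.shortExact_gMod
    (FSch.completionAlong (Spec (CommRingCat.of A)) (FSch.idealSpec A (I.map (algebraMap R A))))
    (FSch.completionToX (Spec (CommRingCat.of A)) (FSch.idealSpec A (I.map (algebraMap R A))))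
    (Groth.Agent.FSchCoh.completion_hg _) h (fun W => (FSch.idealSpec A (I.map (algebraMap R A))).ideal W)
    (fun W n => Groth.Agent.FSchCoh.ker_completionToX _ W.2 n) (S.map (tilde.functor (CommRingCat.of A))) hT
    (inferInstanceAs (tilde (R := CommRingCat.of A) S.X₁).IsQuasicoherent)
    (inferInstanceAs (tilde (R := CommRingCat.of A) S.X₂).IsQuasicoherent)
    (inferInstanceAs (tilde (R := CommRingCat.of A) S.X₃).IsQuasicoherent)
    _ (fun W ⟨f, hf⟩ => by subst hf; exact IsAffineOpen.Spec_basicOpen (R := CommRingCat.of A) f) hB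
    (fun W hW ⟨f, hf⟩ => ⟨k, by
      subst hf
      exact fun j a => Groth.Agent.FSchTilde.ar_basicOpen (A := CommRingCat.of A) (I.map (algebraMap R A)) S.f hk f hW j a⟩)
    (FSch.complModMap _ ((tilde.functor (CommRingCat.of A)).map S.f)) (fun _ => rfl)
    (FSch.complModMap _ ((tilde.functor (CommRingCat.of A)).map S.g)) (fun _ => rfl)
  exact ⟨w, hw w⟩

end Groth.Agent.S13349
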