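import Groth.Statements.S13350
import Groth.Agent.FSchTilde.Affine
import Groth.Agent.FSchTilde.Funct

set_option autoImplicit false
universe u
open FCompl

namespace Groth.Agent.S13350

open AlgebraicGeometry in
open CategoryTheory in
/-- Let R be a base ring of class (N) or (V) for the ideal I, A an R-algebra topologically of finite
presentation (hence a coherent ring), and u : M' → M, v : M → M'' homomorphisms of finitely
presented A-modules. Present Spf A as the completion of Spec A along IA, with structure sheaf the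
limit of the structure sheaves of the closed subschemes V((IA)^(n+1)), and let M^Δ be the limit of
the direct images of the modules associated to M/(IA)^(n+1)M. If u^Δ and v^Δ compose to zero and 0 →
M'^Δ → M^Δ → M''^Δ → 0 is a short exact sequence of O_Spf A-modules, then u and v compose to zero
and 0 → M' → M → M'' → 0 is short exact. -/
theorem result
    (R : Type u) [CommRing R] (I : Ideal R) (hR : AdicRing.IsBase R I)
    (A : Type u) [CommRing A] [Algebra R A] (hA : AdicRing.TopFinitePresentation R I A)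
    (h : (FSch.completionAlong (Spec (CommRingCat.of A)) (FSch.idealSpec A (I.map (algebraMap R A)))).IsFormal)
    (M₁ M₂ M₃ : ModuleCat.{u} A) [Module.FinitePresentation A M₁] [Module.FinitePresentation A M₂]
    [Module.FinitePresentation A M₃] (u : M₁ ⟶ M₂) (v : M₂ ⟶ M₃)
    (hΔ : ∃ w : FSch.ModSys.realModMap h (FSch.complModMap (FSch.idealSpec A (I.map (algebraMap R A))) ((tilde.functor (CommRingCat.of A)).map u)) ≫
        FSch.ModSys.realModMap h (FSch.complModMap (FSch.idealSpec A (I.map (algebraMap R A))) ((tilde.functor (CommRingCat.of A)).map v)) = 0,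
      (ShortComplex.mk _ _ w).ShortExact) :
    ∃ w : u ≫ v = 0, (ShortComplex.mk u v w).ShortExact := by
  have hA' : AdicRing.TopFiniteType R I A := Groth.Agent.TopFin.TopFinitePresentation.topFiniteType hA
  let T := tilde.functor (CommRingCat.of A)
  let 𝓘 := FSch.idealSpec A (I.map (algebraMap R A))
  let Δ : ∀ {M N : ModuleCat.{u} A}, (M ⟶ N) →
      ((FSch.complMod 𝓘 (T.obj M)).realMod h ⟶ (FSch.complMod 𝓘 (T.obj N)).realMod h) :=
    fun u => Groth.Agent.FSchTilde.cΔ 𝓘 h (T.map u)
  have hcomp : ∀ {M N P : ModuleCat.{u} A} (a : M ⟶ N) (b : N ⟶ P), Δ (a ≫ b) = Δ a ≫ Δ b := fun a b => by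
    show Groth.Agent.FSchTilde.cΔ 𝓘 h _ = _
    rw [T.map_comp, Groth.Agent.FSchTilde.cΔ_comp]
  have hid : ∀ M : ModuleCat.{u} A, Δ (𝟙 M) = 𝟙 _ := fun M => by
    show Groth.Agent.FSchTilde.cΔ 𝓘 h _ = _
    rw [T.map_id, Groth.Agent.FSchTilde.cΔ_id]
  have hzero : ∀ M N : ModuleCat.{u} A, Δ (0 : M ⟶ N) = 0 := fun M N => by
    haveI := (tilde.adjunction (R := CommRingCat.of A)).isLeftAdjoint
    show Groth.Agent.FSchTilde.cΔ 𝓘 h _ = _
    rw [Functor.map_zero, Groth.Agent.FSchTilde.cΔ_zero]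
  have hbij : ∀ (M N : ModuleCat.{u} A) [Module.Finite A M] [Module.Finite A N],
      Function.Bijective (Δ : (M ⟶ N) → _) := fun M N _ _ => by
    haveI := Groth.Agent.FSchTilde.isAdicComplete_map hR hA' N
    exact Groth.Agent.FSchTilde.complModMap_bijective _ h (Groth.Agent.FSchTilde.fg_map hR) M N
  obtain ⟨w, hse⟩ := hΔ
  have hdef : ∀ {M N : ModuleCat.{u} A} (a : M ⟶ N),
      FSch.ModSys.realModMap h (FSch.complModMap (FSch.idealSpec A (I.map (algebraMap R A))) ((tilde.functor (CommRingCat.of A)).map a)) = Δ a :=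
    fun _ => rfl
  have key : ∀ a b, a = Δ u → b = Δ v → ∀ (w₀ : a ≫ b = 0), (ShortComplex.mk a b w₀).ShortExact →
      ∃ w₁ : Δ u ≫ Δ v = 0, (ShortComplex.mk (Δ u) (Δ v) w₁).ShortExact := by
    rintro a b rfl rfl w₀ h0
    exact ⟨w₀, h0⟩
  obtain ⟨w₁, hse'⟩ := key _ _ (hdef u) (hdef v) w hse
  haveI : Mono (Δ u) := hse'.mono_f
  haveI : Epi (Δ v) := hse'.epi_g
  have huv : u ≫ v = 0 := (hbij _ _).1 (((hcomp u v).trans w₁).trans (hzero M₁ M₃).symm)
  have hvs : Function.Surjective v.hom := by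
    let C := ModuleCat.of A (M₃ ⧸ LinearMap.range v.hom)
    let π : M₃ ⟶ C := ModuleCat.ofHom (LinearMap.range v.hom).mkQ
    have h1 : v ≫ π = 0 := ModuleCat.hom_ext (LinearMap.ext fun x => (Submodule.Quotient.mk_eq_zero _).2 ⟨x, rfl⟩)
    have h2 : π = 0 := (hbij _ _).1 <| by
      rw [← cancel_epi (Δ v), ← hcomp, h1, hzero, hzero, Limits.comp_zero]
    intro y
    exact (Submodule.Quotient.mk_eq_zero _).1 (LinearMap.congr_fun (congrArg ModuleCat.Hom.hom h2) y)
  let K := ModuleCat.of A (LinearMap.ker v.hom)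
  haveI : Module.Finite A K := Module.Finite.iff_fg.2 (Module.FinitePresentation.fg_ker v.hom hvs)
  let i : K ⟶ M₂ := ModuleCat.ofHom (LinearMap.ker v.hom).subtype
  have hiv : i ≫ v = 0 := ModuleCat.hom_ext (LinearMap.ext fun x => x.2)
  have w' : Δ i ≫ Δ v = 0 := by rw [← hcomp, hiv, hzero]
  obtain ⟨s, hs⟩ := (hbij K M₁).2 (hse'.exact.lift (Δ i) w')
  have hsu : s ≫ u = i := (hbij _ _).1 <| by
    show Δ (s ≫ u) = Δ i
    rw [hcomp, hs]
    exact hse'.exact.lift_f _ _
  let u' : M₁ ⟶ K := ModuleCat.ofHom (u.hom.codRestrict _ fun x => LinearMap.congr_fun (congrArg ModuleCat.Hom.hom huv) x)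
  have hu' : u' ≫ i = u := rfl
  have hinj : u' ≫ s = 𝟙 _ := (hbij _ _).1 <| by
    rw [← cancel_mono (Δ u), ← hcomp, Category.assoc, hsu, hu', hid, Category.id_comp]
  haveI : Mono u := (ModuleCat.mono_iff_injective u).2 fun a b e => by
    have e' : u'.hom a = u'.hom b := Subtype.ext e
    have := congrArg s.hom e'
    exact (LinearMap.congr_fun (congrArg ModuleCat.Hom.hom hinj) a).symm.trans
      (this.trans (LinearMap.congr_fun (congrArg ModuleCat.Hom.hom hinj) b))
  haveI : Epi v := (ModuleCat.epi_iff_surjective v).2 hvs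
  exact ⟨huv, ShortComplex.ShortExact.mk' ((ShortComplex.moduleCat_exact_iff _).2 fun x hx =>
    ⟨s.hom ⟨x, hx⟩, LinearMap.congr_fun (congrArg ModuleCat.Hom.hom hsu) ⟨x, hx⟩⟩) inferInstance inferInstance⟩

end Groth.Agent.S13350
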