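import Groth.Statements.S13354
import Mathlib
import Groth.Agent.AdicRingLib.RigPrincipal
-- import your own Groth.Agent.* helpers here

set_option autoImplicit false
universe u
open AdicRing

namespace Groth.Agent.S13354

/-- Let R be a complete valuation ring of height one with t a nonzero element generating an ideal of
definition, B an admissible R-algebra which is a local integral domain of Krull dimension one (the
algebra of a rig-point), and b_1, ..., b_n elements of B, not all zero. Then there is a B-subalgebra
B' of the field of fractions of B which is finite over B, is again a local ring of Krull dimension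
one, and in which the ideal generated by b_1, ..., b_n is generated by one of the b_i alone (hence
is invertible). (This is the algebraic step by which a rig-point is lifted along the formal
blowing-up of a finitely generated open ideal; the resulting bijection between rig-points of the
blowing-up and of the base is not stated here.) -/
theorem result
    (R : Type u) [CommRing R] [IsDomain R] [ValuationRing R] [Ring.KrullDimLE 1 R]
    (t : R) (ht : t ≠ 0) [IsAdicComplete (Ideal.span {t}) R]
    (B : Type u) [CommRing B] [Algebra R B] [IsDomain B] [IsLocalRing B]
    (hB : AdicRing.Admissible R (Ideal.span {t}) B) (hdim : ringKrullDim B = 1)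
    (n : ℕ) (b : Fin n → B) (hb : ∃ i, b i ≠ 0) :
    ∃ B' : Subalgebra B (FractionRing B), Module.Finite B ↥B' ∧ IsLocalRing ↥B' ∧ ringKrullDim ↥B' = 1 ∧
      ∃ i, Ideal.span (Set.range (fun j => algebraMap B ↥B' (b j))) =
        Ideal.span {algebraMap B ↥B' (b i)} := by
  obtain ⟨⟨m, φ, hφ, -⟩, hN⟩ := hB
  haveI : Ring.KrullDimLE 1 B := Ring.krullDimLE_iff.2 hdim.le
  have htB : algebraMap R B t ≠ 0 := fun h => one_ne_zero (hN 1 1 fun a ha => by
    rw [pow_one, Ideal.mem_span_singleton'] at ha
    obtain ⟨c, rfl⟩ := ha
    rw [mul_smul, Algebra.smul_def t, h, zero_mul, smul_zero])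
  haveI := Groth.Agent.AdicRingLib.finite_of_krullDimLE_one t ht htB φ hφ
  exact Groth.Agent.AdicRingLib.exists_subalgebra_span_eq_span_singleton t ht B
    (Groth.Agent.AdicRingLib.algebraMap_injective_of_ne_zero t htB) b hb

end Groth.Agent.S13354
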