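import Groth.Statements.S1336
import Groth.Agent.GeomFib.NearPoint

set_option autoImplicit false
universe u
open FlatMor

namespace Groth.Agent.S1336

open AlgebraicGeometry CategoryTheory Limits in
/-- Let f be of finite type and let y be a point of the target. Then the function counting the
irreducible components of the geometric fibres of f is constant on some subset of the closure of y
which is open in that closure and contains y. -/
theorem result {X Y : Scheme.{u}} (f : X ⟶ Y) [LocallyOfFiniteType f] [QuasiCompact f] (y : Y) :
    ∃ V : Set ↑Y, V ⊆ closure {y} ∧ y ∈ V ∧ IsOpen (Subtype.val ⁻¹' V : Set ↑(closure ({y} : Set ↑Y))) ∧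
      ∀ y' ∈ V, MoreMor.nGeomIrredComp f y' = MoreMor.nGeomIrredComp f y := by
  obtain ⟨O, hyO, hO⟩ := Groth.Agent.GeomFib.exists_open_nGeom f y
  refine ⟨(O : Set ↑Y) ∩ closure {y}, Set.inter_subset_right, ⟨hyO, subset_closure rfl⟩, ?_,
    fun y' hy' => (hO y' hy'.1 (specializes_iff_mem_closure.mpr hy'.2)).1⟩
  rw [Set.preimage_inter, Subtype.coe_preimage_self, Set.inter_univ]
  exact O.2.preimage continuous_subtype_val

end Groth.Agent.S1336
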