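import Groth.Statements.S13361
import Groth.Agent.FIAb.Basic

set_option autoImplicit false
universe u
open ProCompl

namespace Groth.Agent.S13361

/-- A finite abelian group with a nonzero element contained in every nonzero subgroup is isomorphic to a
cyclic group of prime-power order Z/p^n. -/
theorem result {A : Type u} [AddCommGroup A] [Finite A]
    (a : A) (ha : a ≠ 0) (h : ∀ B : AddSubgroup A, B ≠ ⊥ → a ∈ B) :
    ∃ p n : ℕ, p.Prime ∧ Nonempty (A ≃+ ZMod (p ^ n)) := by
  obtain ⟨p, hp, hpa, hsoc⟩ := FIAb.monolith_prime ha h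
  haveI : Fintype A := Fintype.ofFinite A
  haveI hc : IsAddCyclic A := by
    classical
    refine isAddCyclic_of_card_nsmul_eq_zero_le fun n hn => ?_
    rw [← Fintype.card_subtype, ← Nat.card_eq_fintype_card]
    exact (FIAb.card_torsion_le ha h n hn).2
  haveI : Nonempty A := ⟨0⟩
  have hne : Nat.card A ≠ 0 := Nat.card_pos.ne'
  obtain ⟨n, hn⟩ : ∃ n : ℕ, Nat.card A = p ^ n := by
    refine ⟨(Nat.card A).factorization p, Nat.eq_pow_of_factorization_eq_single hne ?_⟩
    ext q
    by_cases hqp : q = p
    · subst hqp; simp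
    · rw [Finsupp.single_eq_of_ne hqp]
      by_contra hq
      have hq' : q.Prime := by
        by_contra hnp; exact hq (Nat.factorization_eq_zero_of_not_prime _ hnp)
      haveI := Fact.mk hq'
      obtain ⟨x, hx⟩ := exists_prime_addOrderOf_dvd_card' q (Nat.dvd_of_factorization_pos hq)
      exact hqp (hsoc q x hq' (hx ▸ addOrderOf_nsmul_eq_zero x) (fun e => by
        rw [e, addOrderOf_zero] at hx; exact hq'.one_lt.ne hx)).1
  exact ⟨p, n, hp, ⟨(zmodAddCyclicAddEquiv hc).symm.trans (ZMod.ringEquivCongr hn).toAddEquiv⟩⟩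

end Groth.Agent.S13361
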