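import Groth.Statements.S13362
import Groth.Agent.FIAb.Basic

set_option autoImplicit false
universe u
open ProCompl

namespace Groth.Agent.S13362

/-- An abelian group of finite exponent having a nonzero element contained in every nonzero subgroup is
finite. -/
theorem result {A : Type u} [AddCommGroup A]
    (hA : AddMonoid.exponent A ≠ 0) (a : A) (ha : a ≠ 0) (h : ∀ B : AddSubgroup A, B ≠ ⊥ → a ∈ B) :
    Finite A := by
  haveI := (FIAb.card_torsion_le ha h _ (Nat.pos_of_ne_zero hA)).1
  exact Finite.of_injective
    (fun x : A => (⟨x, AddMonoid.exponent_nsmul_eq_zero x⟩ : {x : A // AddMonoid.exponent A • x = 0}))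
    fun x y e => congrArg Subtype.val e

end Groth.Agent.S13362
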