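import Groth.Statements.S13363
import Groth.Agent.FIAb.Basic

set_option autoImplicit false
universe u
open ProCompl

namespace Groth.Agent.S13363

/-- Let A be a topological abelian group such that the subgroup n·A is open for each n > 0, and a ∈ A.
Then A has an open subgroup of finite index not containing a if and only if a does not lie in the
subgroup of divisible elements ∩_n nA. -/
theorem result {A : Type u} [AddCommGroup A]
    [TopologicalSpace A] [IsTopologicalAddGroup A]
    (hn : ∀ n : ℕ, 0 < n → IsOpen (Set.range (fun x : A => n • x))) (a : A) :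
    (∃ B : AddSubgroup A, IsOpen (B : Set A) ∧ B.FiniteIndex ∧ a ∉ B) ↔
      ¬ (∀ n : ℕ, 0 < n → ∃ b : A, n • b = a) := by
  constructor
  · rintro ⟨B, -, hB, haB⟩ hdiv
    haveI := hB
    obtain ⟨b, rfl⟩ := hdiv B.index (Nat.pos_of_ne_zero AddSubgroup.FiniteIndex.index_ne_zero)
    exact haB (AddSubgroup.nsmul_index_mem B b)
  · intro h
    push Not at h
    obtain ⟨n, hn', hne⟩ := h
    obtain ⟨M, hM, hfi, haM⟩ := FIAb.avoid_of_nsmul (nsmulAddMonoidHom n : A →+ A).range hn'
      (fun y => ⟨y, rfl⟩) (x := a) (fun ⟨y, hy⟩ => hne y hy)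
    refine ⟨M, AddSubgroup.isOpen_mono hM ?_, hfi, haM⟩
    exact hn n hn'

end Groth.Agent.S13363
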