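import Groth.Statements.S13365
import Groth.Agent.FIAb.Top

set_option autoImplicit false
universe u
open ProCompl

namespace Groth.Agent.S13365

/-- The quotient of a profinite (compact, Hausdorff, totally disconnected) abelian topological group by
a compact subgroup is profinite. -/
theorem result {A : Type u} [AddCommGroup A] [TopologicalSpace A]
    [IsTopologicalAddGroup A] [CompactSpace A] [T2Space A] [TotallyDisconnectedSpace A]
    (B : AddSubgroup A) (hB : IsCompact (B : Set A)) :
    CompactSpace (A ⧸ B) ∧ T2Space (A ⧸ B) ∧ TotallyDisconnectedSpace (A ⧸ B) := by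
  haveI hBc : IsClosed (B : Set A) := hB.isClosed
  haveI : T2Space (A ⧸ B) := inferInstance
  refine ⟨inferInstance, inferInstance, ?_⟩
  haveI : TotallySeparatedSpace (A ⧸ B) := by
    refine ⟨fun p _ q _ hpq => ?_⟩
    obtain ⟨a, rfl⟩ := QuotientAddGroup.mk_surjective p
    obtain ⟨b, rfl⟩ := QuotientAddGroup.mk_surjective q
    have hd : -a + b ∉ B := fun h => hpq (QuotientAddGroup.eq.2 h)
    have hN : (fun u => -a + b + u) ⁻¹' (B : Set A)ᶜ ∈ nhds (0 : A) :=
      (continuous_const.add continuous_id).continuousAt.preimage_mem_nhds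
        (hBc.isOpen_compl.mem_nhds (by simpa using hd))
    obtain ⟨U, hU, hUN⟩ := FIAb.exists_openSubgroup_subset hN
    have hM : IsOpen ((U ⊔ B : AddSubgroup A) : Set A) := AddSubgroup.isOpen_mono le_sup_left hU
    have hdM : -a + b ∉ U ⊔ B := fun h => by
      obtain ⟨w, hw, c, hc, e⟩ := AddSubgroup.mem_sup.1 h
      exact hUN (U.neg_mem hw) (show -a + b + -w ∈ B by rw [← e]; simpa using hc)
    let S : Set (A ⧸ B) := QuotientAddGroup.mk '' {x | -a + x ∈ U ⊔ B}
    have hpre : QuotientAddGroup.mk ⁻¹' S = {x : A | -a + x ∈ U ⊔ B} := by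
      ext x
      refine ⟨fun ⟨y, hy, e⟩ => ?_, fun hx => ⟨x, hx, rfl⟩⟩
      have := (U ⊔ B).add_mem hy (AddSubgroup.mem_sup_right (QuotientAddGroup.eq.1 e) : -y + x ∈ U ⊔ B)
      simpa [add_assoc] using this
    have hq := QuotientAddGroup.isQuotientMap_mk B
    have hcont : Continuous fun x : A => -a + x := continuous_const.add continuous_id
    refine ⟨S, Sᶜ, hq.isOpen_preimage.1 (hpre ▸ hM.preimage hcont), ?_, ⟨a, by simp, rfl⟩, ?_,
      (Set.union_compl_self S).ge, disjoint_compl_right⟩
    · refine hq.isOpen_preimage.1 ?_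
      rw [Set.preimage_compl, hpre]
      exact ((AddSubgroup.isClosed_of_isOpen _ hM).preimage hcont).isOpen_compl
    · intro hb
      have hb' : b ∈ QuotientAddGroup.mk ⁻¹' S := hb
      rw [hpre] at hb'
      exact hdM hb'
  exact TotallySeparatedSpace.totallyDisconnectedSpace _

end Groth.Agent.S13365
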