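import Groth.Statements.S13368
import Mathlib.RingTheory.DiscreteValuationRing.Basic
import Mathlib.RingTheory.Kaehler.Basic
import Mathlib.Algebra.CharP.Frobenius
import Mathlib.Algebra.CharP.Lemmas
import Mathlib.LinearAlgebra.Dimension.Constructions
import Mathlib.LinearAlgebra.FiniteDimensional.Lemmas
import Mathlib.Algebra.CharP.Algebra
import Mathlib.Algebra.Polynomial.Div
import Mathlib.RingTheory.Localization.FractionRing
import Mathlib.Tactic.LinearCombination

set_option autoImplicit false
universe u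
open GaDual

namespace Groth.Agent.S13368

open Polynomial

section
variable {R : Type u} [CommRing R] [IsDomain R] [IsDiscreteValuationRing R] {π : R} (hπ : Irreducible π) (p : ℕ)
include hπ

theorem dvd_term {n : ℕ} (e : Fin p → R) (h : π ^ n ∣ ∑ i : Fin p, π ^ (i : ℕ) * e i ^ p) (i : Fin p) :
    π ^ n ∣ π ^ (i : ℕ) * e i ^ p := by
  classical
  by_contra hi
  let S := Finset.univ.filter fun j : Fin p => ¬ π ^ n ∣ π ^ (j : ℕ) * e j ^ p
  have hS : ∀ j ∈ S, ∃ (k : ℕ) (w : Rˣ), e j = (w : R) * π ^ k := fun j hj =>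
    IsDiscreteValuationRing.eq_unit_mul_pow_irreducible (fun h0 => (Finset.mem_filter.1 hj).2 (by
      rw [h0, zero_pow (by have := j.2; omega), mul_zero]; exact dvd_zero _)) hπ
  choose k w hw using hS
  obtain ⟨j, hj, hmin⟩ := (Finset.attach S).exists_min_image (fun j => (j.1 : ℕ) + p * k j.1 j.2)
    ⟨⟨i, Finset.mem_filter.2 ⟨Finset.mem_univ _, hi⟩⟩, Finset.mem_attach _ _⟩
  obtain ⟨j, hjS⟩ := j
  have hterm : ∀ (l : Fin p) (hl : l ∈ S), π ^ (l : ℕ) * e l ^ p = ((w l hl : Rˣ) : R) ^ p * π ^ ((l : ℕ) + p * k l hl) := fun l hl => by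
    conv_lhs => rw [hw l hl, mul_pow, ← pow_mul, mul_comm (k l hl) p]
    rw [pow_add]; ring
  have hlt : (j : ℕ) + p * k j hjS < n := by
    by_contra hge
    refine (Finset.mem_filter.1 hjS).2 ?_
    rw [hterm j hjS]
    exact dvd_mul_of_dvd_right (pow_dvd_pow π (not_lt.1 hge)) _
  have hothers : ∀ l ∈ Finset.univ.erase j, π ^ ((j : ℕ) + p * k j hjS + 1) ∣ π ^ (l : ℕ) * e l ^ p := fun l hl => by
    by_cases hlS : l ∈ S
    · rw [hterm l hlS]
      refine dvd_mul_of_dvd_right (pow_dvd_pow π ?_) _
      rcases (hmin ⟨l, hlS⟩ (Finset.mem_attach _ _)).lt_or_eq with h' | h'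
      · exact h'
      · exfalso
        refine (Finset.mem_erase.1 hl).1 (Fin.ext ?_)
        have h1 := congrArg (· % p) h'
        simp only [Nat.add_mul_mod_self_left, Nat.mod_eq_of_lt l.2, Nat.mod_eq_of_lt j.2] at h1
        exact h1.symm
    · rw [Finset.mem_filter, not_and, not_not] at hlS
      exact (pow_dvd_pow π hlt).trans (hlS (Finset.mem_univ l))
  have h1 : π ^ ((j : ℕ) + p * k j hjS + 1) ∣ π ^ (j : ℕ) * e j ^ p := by
    have h2 := (pow_dvd_pow π hlt).trans h
    rw [← Finset.add_sum_erase _ _ (Finset.mem_univ j)] at h2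
    exact (dvd_add_left (Finset.dvd_sum hothers)).1 h2
  rw [hterm j hjS, pow_succ, mul_comm ((w j hjS : R) ^ p)] at h1
  exact hπ.not_isUnit (isUnit_of_dvd_unit ((mul_dvd_mul_iff_left (pow_ne_zero _ hπ.ne_zero)).1 h1) ((w j hjS).isUnit.pow p))

theorem eq_zero_of_sum_eq_zero (e : Fin p → R) (h : ∑ i : Fin p, π ^ (i : ℕ) * e i ^ p = 0) (i : Fin p) : e i = 0 := by
  by_contra he
  obtain ⟨k, w, hw⟩ := IsDiscreteValuationRing.eq_unit_mul_pow_irreducible he hπ
  have h1 := dvd_term hπ p e (n := (i : ℕ) + p * k + 1) (h ▸ dvd_zero _) i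
  rw [hw, mul_pow, ← pow_mul, mul_comm k p, mul_left_comm, ← pow_add, pow_succ, mul_comm ((w : R) ^ p)] at h1
  exact hπ.not_isUnit (isUnit_of_dvd_unit ((mul_dvd_mul_iff_left (pow_ne_zero _ hπ.ne_zero)).1 h1) (w.isUnit.pow p))

end

/-- Let R be a discrete valuation ring of prime characteristic p whose fraction field k has degree p
over its subfield k^p of p-th powers, and π a uniformizer. Then every element of R is, in a unique
way, a sum of π^i c_i^p over 0 ≤ i < p with c_i in R, and the Kähler differentials of R (absolute,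
i.e. over the integers, equivalently over the prime field) form a free module of rank one generated
by dπ. -/
theorem result (p : ℕ) [Fact p.Prime] {R : Type u} [CommRing R]
    [IsDomain R] [IsDiscreteValuationRing R] [CharP R p]
    (kp : Subfield (FractionRing R)) (hkp : ∀ x : FractionRing R, x ∈ kp ↔ ∃ y : FractionRing R, y ^ p = x)
    (hdeg : Module.finrank kp (FractionRing R) = p)
    (π : R) (hπ : Irreducible π) :
    (∀ r : R, ∃! c : Fin p → R, r = ∑ i : Fin p, π ^ (i : ℕ) * c i ^ p) ∧
      Function.Bijective (fun r : R => r • KaehlerDifferential.D ℤ R π) := by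
  classical
  have hp : p.Prime := Fact.out
  let K := FractionRing R
  let ι := algebraMap R K
  have hι : Function.Injective ι := IsFractionRing.injective R K
  haveI : CharP K p := charP_of_injective_ringHom hι p
  have hli : LinearIndependent kp fun i : Fin p => ι π ^ (i : ℕ) := by
    rw [Fintype.linearIndependent_iff]
    intro g hg
    choose y hy using fun i => (hkp (g i : K)).1 (g i).2
    obtain ⟨b, hb⟩ := IsLocalization.exist_integer_multiples_of_finite (nonZeroDivisors R) y
    choose e he using hb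
    have hsum : ∑ i : Fin p, π ^ (i : ℕ) * e i ^ p = 0 := by
      apply hι
      rw [map_zero, map_sum, ← mul_zero (ι b ^ p), ← hg, Finset.mul_sum]
      refine Finset.sum_congr rfl fun i _ => ?_
      rw [map_mul, map_pow, map_pow, Subfield.smul_def, smul_eq_mul, ← hy i,
        show ι (e i) = ι b * y i from (he i).trans (Algebra.smul_def _ _)]
      ring
    intro i
    apply Subtype.ext
    have h2 := (he i).trans (Algebra.smul_def _ _)
    rw [eq_zero_of_sum_eq_zero hπ p e hsum i, map_zero, eq_comm, mul_eq_zero] at h2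
    rw [ZeroMemClass.coe_zero, ← hy i, h2.resolve_left (IsFractionRing.to_map_ne_zero_of_mem_nonZeroDivisors b.2),
      zero_pow hp.ne_zero]
  haveI : Nonempty (Fin p) := ⟨⟨0, hp.pos⟩⟩
  let bb := basisOfLinearIndependentOfCardEqFinrank hli (by rw [Fintype.card_fin, hdeg])
  have hex : ∀ r : R, ∃ c : Fin p → R, r = ∑ i : Fin p, π ^ (i : ℕ) * c i ^ p := fun r => by
    choose y hy using fun i => (hkp (bb.repr (ι r) i : K)).1 (bb.repr (ι r) i).2
    obtain ⟨d, hd⟩ := IsLocalization.exist_integer_multiples_of_finite (nonZeroDivisors R) y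
    choose e he using hd
    have hsum : (d : R) ^ p * r = ∑ i : Fin p, π ^ (i : ℕ) * e i ^ p := by
      apply hι
      rw [map_mul, map_pow, map_sum]
      conv_lhs => rw [← bb.sum_repr (ι r), Finset.mul_sum]
      refine Finset.sum_congr rfl fun i _ => ?_
      rw [map_mul, map_pow, map_pow, Subfield.smul_def, smul_eq_mul, coe_basisOfLinearIndependentOfCardEqFinrank, ← hy i,
        show ι (e i) = ι d * y i from (he i).trans (Algebra.smul_def _ _)]
      ring
    obtain ⟨k, w, hw⟩ := IsDiscreteValuationRing.eq_unit_mul_pow_irreducible (nonZeroDivisors.coe_ne_zero d) hπ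
    have hdvd : ∀ i, π ^ k ∣ e i := fun i => by
      have h := dvd_term hπ p e (n := p * k) (hsum ▸ dvd_mul_of_dvd_left (by
        rw [hw, mul_pow, ← pow_mul, mul_comm k p]; exact dvd_mul_left _ _) r) i
      rcases eq_or_ne (e i) 0 with h0 | h0
      · rw [h0]; exact dvd_zero _
      obtain ⟨l, v, hv⟩ := IsDiscreteValuationRing.eq_unit_mul_pow_irreducible h0 hπ
      rw [hv]
      refine dvd_mul_of_dvd_right (pow_dvd_pow π ?_) _
      by_contra hlk
      rw [not_le] at hlk
      have hlt : (i : ℕ) + p * l < p * k := by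
        have := i.2
        have : p * (l + 1) ≤ p * k := Nat.mul_le_mul_left p hlk
        rw [mul_add, mul_one] at this
        omega
      rw [hv, mul_pow, ← pow_mul, mul_comm l p, mul_left_comm, ← pow_add] at h
      obtain ⟨q, hq⟩ : ∃ q, p * k = (i : ℕ) + p * l + (q + 1) := ⟨p * k - ((i : ℕ) + p * l) - 1, by omega⟩
      rw [hq, pow_add, mul_comm ((v : R) ^ p), mul_dvd_mul_iff_left (pow_ne_zero _ hπ.ne_zero)] at h
      exact hπ.not_isUnit (isUnit_of_dvd_unit ((dvd_pow_self π (Nat.succ_ne_zero q)).trans h) (v.isUnit.pow p))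
    choose c hc using hdvd
    refine ⟨fun i => ((w⁻¹ : Rˣ) : R) * c i, ?_⟩
    apply mul_left_cancel₀ (pow_ne_zero p (nonZeroDivisors.coe_ne_zero d))
    rw [hsum, Finset.mul_sum]
    refine Finset.sum_congr rfl fun i _ => ?_
    rw [hc i, hw, mul_pow, mul_pow, mul_pow]
    have hw1 : (w : R) ^ p * ((w⁻¹ : Rˣ) : R) ^ p = 1 := by rw [← mul_pow, Units.mul_inv, one_pow]
    linear_combination (-(π ^ (i : ℕ) * (π ^ k) ^ p * c i ^ p)) * hw1
  have huniq : ∀ (c c' : Fin p → R), ∑ i : Fin p, π ^ (i : ℕ) * c i ^ p = ∑ i : Fin p, π ^ (i : ℕ) * c' i ^ p → c = c' :=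
    fun c c' h => funext fun i => sub_eq_zero.1 (eq_zero_of_sum_eq_zero hπ p (fun j => c j - c' j) (by
      simp only [sub_pow_char, mul_sub, Finset.sum_sub_distrib, h, sub_self]) i)
  refine ⟨fun r => ?_, ?_⟩
  · obtain ⟨c, hc⟩ := hex r
    exact ⟨c, hc, fun c' hc' => huniq c' c (hc'.symm.trans hc)⟩
  -- differentiation with respect to `π`
  let R₀ : Subring R := (frobenius R p).range
  haveI : CharP R₀ p := ⟨fun n => by rw [← CharP.cast_eq_zero_iff R p n, ← map_natCast R₀.subtype]; exact ⟨fun h => by rw [h, map_zero], fun h => Subtype.ext h⟩⟩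
  have hP : ∀ r : R, ∃ P : R₀[X], aeval π P = r := fun r => by
    obtain ⟨c, hc⟩ := hex r
    refine ⟨∑ i : Fin p, C ⟨c i ^ p, c i, rfl⟩ * X ^ (i : ℕ), ?_⟩
    rw [hc, map_sum]
    exact Finset.sum_congr rfl fun i _ => by rw [map_mul, map_pow, aeval_X, aeval_C, mul_comm]; rfl
  have hder : ∀ P : R₀[X], aeval π P = 0 → aeval π (derivative P) = 0 := fun P hP0 => by
    let F : R₀[X] := X ^ p - C ⟨π ^ p, π, rfl⟩
    have hF : F.Monic := monic_X_pow_sub_C _ hp.ne_zero
    have hFπ : aeval π F = 0 := by
      rw [map_sub, map_pow, aeval_X, aeval_C]; exact sub_self _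
    have hdeg' : (P %ₘ F).natDegree < p := by
      have := natDegree_modByMonic_lt P hF (fun h => by
        have h' := congrArg natDegree h
        rw [natDegree_X_pow_sub_C, natDegree_one] at h'
        exact hp.ne_zero h')
      rwa [natDegree_X_pow_sub_C] at this
    have hrem : P %ₘ F = 0 := by
      have h1 : aeval π (P %ₘ F) = 0 := by
        rw [modByMonic_eq_sub_mul_div, map_sub, map_mul, hFπ, zero_mul, hP0, sub_zero]
      rw [aeval_eq_sum_range' hdeg', Finset.sum_range] at h1
      choose c hc using fun i : Fin p => ((P %ₘ F).coeff i).2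
      have h2 := eq_zero_of_sum_eq_zero hπ p c (by
        rw [← h1]
        refine Finset.sum_congr rfl fun i _ => ?_
        rw [Subring.smul_def, smul_eq_mul, ← hc i, mul_comm, frobenius_def])
      ext n
      rcases lt_or_ge n p with hn | hn
      · rw [coeff_zero, ZeroMemClass.coe_zero, ← hc ⟨n, hn⟩, h2, frobenius_def, zero_pow hp.ne_zero]
      · rw [coeff_eq_zero_of_natDegree_lt (lt_of_lt_of_le hdeg' hn), coeff_zero]
    rw [← modByMonic_add_div P F, hrem, zero_add, derivative_mul, map_add, map_mul, map_mul, hFπ,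
      zero_mul, add_zero, map_sub derivative, derivative_C, sub_zero, derivative_X_pow, CharP.cast_eq_zero, C_0, zero_mul,
      map_zero, zero_mul]
  choose P hPr using hP
  have hδ : ∀ (r : R) (Q : R₀[X]), aeval π Q = r → aeval π (derivative (P r)) = aeval π (derivative Q) := fun r Q hQ =>
    sub_eq_zero.1 (by rw [← map_sub, ← map_sub derivative]; exact hder _ (by rw [map_sub, hPr, hQ, sub_self]))
  let δ₀ : R →+ R :=
    { toFun := fun r => aeval π (derivative (P r))
      map_zero' := by rw [hδ 0 0 (map_zero _), map_zero, map_zero]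
      map_add' := fun r s => by rw [hδ (r + s) (P r + P s) (by rw [map_add, hPr, hPr]), map_add, map_add] }
  let δ : Derivation ℤ R R := Derivation.mk' δ₀.toIntLinearMap fun r s => by
    show aeval π (derivative (P (r * s))) = r * aeval π (derivative (P s)) + s * aeval π (derivative (P r))
    rw [hδ (r * s) (P r * P s) (by rw [map_mul, hPr, hPr]), derivative_mul, map_add, map_mul, map_mul, hPr, hPr]
    ring
  have hδπ : δ π = 1 := by
    show aeval π (derivative (P π)) = 1
    rw [hδ π X (aeval_X π), derivative_X, map_one]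
  constructor
  · intro a b hab
    have h1 := congrArg δ.liftKaehlerDifferential hab
    simpa [hδπ] using h1
  · intro ω
    let N : Submodule R (Ω[R⁄ℤ]) := Submodule.span R {KaehlerDifferential.D ℤ R π}
    have hmem : ω ∈ N := by
      have hle : Submodule.span R (Set.range (KaehlerDifferential.D ℤ R)) ≤ N := by
        rw [Submodule.span_le]
        rintro _ ⟨r, rfl⟩
        obtain ⟨c, hc⟩ := hex r
        rw [hc, map_sum]
        refine Submodule.sum_mem _ fun i _ => ?_
        rw [Derivation.leibniz, Derivation.leibniz_pow, Derivation.leibniz_pow, ← Nat.cast_smul_eq_nsmul R p, CharP.cast_eq_zero,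
          zero_smul, smul_zero, zero_add]
        exact Submodule.smul_mem _ _ (Submodule.smul_of_tower_mem _ _ (Submodule.smul_mem _ _ (Submodule.mem_span_singleton_self _)))
      exact hle (by rw [KaehlerDifferential.span_range_derivation]; trivial)
    exact Submodule.mem_span_singleton.1 hmem

end Groth.Agent.S13368
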