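import Groth.Statements.S13369
import Mathlib
import Groth.Agent.ArtinDef.Basic

set_option autoImplicit false
universe u
open GaDual

namespace Groth.Agent.S13369

/-- For a normal Noetherian domain A of prime characteristic p, an element whose differential vanishes
in the absolute Kähler differentials of A is a p-th power; that is, the sequence F : A → A, d : A →
Ω_A (F the Frobenius) is exact at the middle term. (The published statement is for normal locally
Noetherian schemes of characteristic p; this row is the case of the spectrum of a normal Noetherian
domain.) -/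
theorem result (p : ℕ) [Fact p.Prime] {A : Type u} [CommRing A] [IsDomain A]
    [IsNoetherianRing A] [IsIntegrallyClosed A] [CharP A p] (s : A) (hs : KaehlerDifferential.D ℤ A s = 0) :
    ∃ f : A, f ^ p = s := by
  let K := FractionRing A
  haveI : CharP K p := charP_of_injective_algebraMap (IsFractionRing.injective A K) p
  letI : Field (ULift.{u} (ZMod p)) := ULift.field
  letI : Algebra (ULift.{u} (ZMod p)) K :=
    ((ZMod.castHom dvd_rfl K).comp ULift.ringEquiv.toRingHom).toAlgebra
  let z := algebraMap A K s
  by_cases hz : ∃ x : K, x ^ p = z
  · obtain ⟨x, hx⟩ := hz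
    have hint : IsIntegral A x := IsIntegral.of_pow (Fact.out : p.Prime).pos (hx ▸ isIntegral_algebraMap)
    obtain ⟨f, hf⟩ := IsIntegrallyClosed.isIntegral_iff.1 hint
    exact ⟨f, IsFractionRing.injective A K (by rw [map_pow, hf, hx])⟩
  · exfalso
    have hind : PBasisLib.Indep p (ULift.{u} (ZMod p)) ({z} : Set K) := by
      intro a ha hmem
      obtain rfl : a = z := ha
      apply hz
      let R : Subalgebra (ULift.{u} (ZMod p)) K :=
        { (frobenius K p).range.toSubsemiring with
          algebraMap_mem' := fun c => by
            refine ⟨algebraMap (ULift.{u} (ZMod p)) K c, ?_⟩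
            show frobenius K p (algebraMap (ULift.{u} (ZMod p)) K c) = _
            rw [frobenius_def, ← map_pow]
            congr 1
            exact ULift.ext _ _ (ZMod.pow_card c.down) }
      have hle : PBasisLib.F p (ULift.{u} (ZMod p)) (({z} : Set K) \ {z}) ≤ R := by
        refine Algebra.adjoin_le (Set.union_subset ?_ ?_)
        · rintro _ ⟨b, rfl⟩; exact ⟨b, rfl⟩
        · simp
      exact hle hmem
    obtain ⟨B, hzB, -, hB, hgen⟩ := PBasisLib.exists_maximal (p := p) (k := ULift.{u} (ZMod p)) (K := K)
      (Set.subset_univ ({z} : Set K)) hind
    obtain ⟨D, hD, -⟩ := ArtinDef.exists_derivation p B hB (fun x => hgen (Set.mem_univ x)) z (hzB rfl)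
    let D' : Derivation ℤ A K := Derivation.mk'
      ((D : K →+ K).comp (algebraMap A K).toAddMonoidHom).toIntLinearMap
      fun a b => by
        show D (algebraMap A K (a * b)) = _
        rw [map_mul, D.leibniz]
        simp [Algebra.smul_def]
    have := D'.liftKaehlerDifferential_comp_D s
    rw [hs, map_zero] at this
    exact one_ne_zero (hD.symm.trans (this.symm : D z = 0))

end Groth.Agent.S13369
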