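import Groth.Statements.S13371
import Mathlib
import Groth.Agent.AffineSpaceUnits

set_option autoImplicit false
universe u
open GaDual

namespace Groth.Agent.S13371

section
open CategoryTheory AlgebraicGeometry MonObj CartesianMonoidalCategory

lemma isUnit_single (g : Multiplicative ℤ) :
    IsUnit (MonoidAlgebra.single g (1 : ULift.{u} ℤ)) :=
  (Group.isUnit g).map (MonoidAlgebra.of (ULift.{u} ℤ) (Multiplicative ℤ))

lemma hom_ext_diag {A : Scheme.{u}} {a b : A ⟶ Spec (CommRingCat.of (MonoidAlgebra (ULift.{u} ℤ) (Multiplicative ℤ)))}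
    (h : ∀ _ : Unit, a.appTop ((Scheme.ΓSpecIso _).inv (MonoidAlgebra.single (Multiplicative.ofAdd (1 : ℤ)) 1)) =
      b.appTop ((Scheme.ΓSpecIso _).inv (MonoidAlgebra.single (Multiplicative.ofAdd (1 : ℤ)) 1))) : a = b := by
  apply ext_of_isAffine
  rw [← cancel_epi (Scheme.ΓSpecIso _).inv]
  apply CommRingCat.hom_ext
  apply MonoidAlgebra.ringHom_ext'
  · exact RingHom.ext fun r ↦ by
      obtain ⟨k⟩ := r
      have : (ULift.up k : ULift.{u} ℤ) = (k : ULift.{u} ℤ) := by ext; simp
      rw [this, map_intCast, map_intCast]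
  · exact MonoidHom.ext_mint (h ())

/-- Units on the additive group over a reduced base are pulled back from the base. -/
lemma unit_Ga (S : Scheme.{u}) [IsReduced S] (w : Γ((Red.Ga S).left, ⊤)) (hw : IsUnit w)
    (z : S ⟶ (Red.Ga S).left) (hz : z ≫ (Red.Ga S).hom = 𝟙 S) :
    ((Red.Ga S).hom ≫ z).appTop w = w := by
  let B : Module.Basis PUnit.{u + 1} (ULift.{u} ℤ) (ULift.{u} ℤ) := Module.Basis.singleton _ _
  let e := SymmetricAlgebra.equivMvPolynomial B
  let ε : CommRingCat.of (SymmetricAlgebra (ULift.{u} ℤ) (ULift.{u} ℤ)) ⟶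
      CommRingCat.of (MvPolynomial PUnit.{u + 1} (ULift.{u} ℤ)) := CommRingCat.ofHom e.toAlgHom.toRingHom
  let ε' : CommRingCat.of (MvPolynomial PUnit.{u + 1} (ULift.{u} ℤ)) ⟶
      CommRingCat.of (SymmetricAlgebra (ULift.{u} ℤ) (ULift.{u} ℤ)) := CommRingCat.ofHom e.symm.toAlgHom.toRingHom
  have hεε : ε ≫ ε' = 𝟙 _ := by
    ext x
    exact e.symm_apply_apply x
  let θ : 𝔸(PUnit.{u + 1}; S) ⟶ (Red.Ga S).left :=
    Limits.pullback.lift (AffineSpace.toSpecMvPoly PUnit.{u + 1} S ≫ Spec.map ε) (𝔸(PUnit.{u + 1}; S) ↘ S)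
      (specULiftZIsTerminal.hom_ext _ _)
  let ρ : (Red.Ga S).left ⟶ 𝔸(PUnit.{u + 1}; S) :=
    AffineSpace.homOfVector (Red.Ga S).hom fun _ ↦ (Limits.pullback.fst _ _ : (Red.Ga S).left ⟶ _).appTop Red.gaCoord
  have hρ : ρ ≫ θ = 𝟙 _ := by
    apply Limits.pullback.hom_ext
    · rw [Category.assoc, Limits.pullback.lift_fst, Category.id_comp]
      have h1 : ρ ≫ AffineSpace.toSpecMvPoly PUnit.{u + 1} S = Limits.pullback.fst _ _ ≫ Spec.map ε' := by
        apply (AffineSpace.toSpecMvPolyIntEquiv PUnit.{u + 1}).injective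
        funext i
        rw [AffineSpace.homOfVector_toSpecMvPoly, Equiv.apply_symm_apply]
        refine congrArg (Limits.pullback.fst Red.GaZ.hom (specULiftZIsTerminal.from S)).appTop ?_
        show Red.gaCoord = (Spec.map ε').appTop ((Scheme.ΓSpecIso _).inv (MvPolynomial.X i))
        rw [← CommRingCat.comp_apply, ← Scheme.ΓSpecIso_inv_naturality, CommRingCat.comp_apply]
        simp [ε', Red.gaCoord, e, B, SymmetricAlgebra.equivMvPolynomial_symm_X]
        rfl
      refine (Category.assoc _ _ _).symm.trans ((congrArg (fun m ↦ m ≫ Spec.map ε) h1).trans ?_)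
      refine (Category.assoc _ _ _).trans ((congrArg (fun m ↦ Limits.pullback.fst Red.GaZ.hom (specULiftZIsTerminal.from S) ≫ m) ?_).trans (Category.comp_id _))
      rw [← Spec.map_comp, hεε, Spec.map_id]
      rfl
    · rw [Category.assoc, Limits.pullback.lift_snd, Category.id_comp]
      exact AffineSpace.homOfVector_over _ _
  obtain ⟨v, -, hv⟩ := Groth.Agent.AffineSpaceUnits.exists_unit S (θ.appTop w) (hw.map θ.appTop.hom)
  have hwv : (Red.Ga S).hom.appTop v = w := by
    have h2 := congrArg (fun m ↦ m.appTop w) hρ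
    simp only [Scheme.Hom.comp_appTop, CommRingCat.comp_apply, Scheme.Hom.id_appTop] at h2
    rw [← hv, ← CommRingCat.comp_apply, ← Scheme.Hom.comp_appTop, AffineSpace.homOfVector_over] at h2
    exact h2
  rw [← hwv]
  show ((Red.Ga S).hom.appTop ≫ ((Red.Ga S).hom ≫ z).appTop) v = _
  rw [← Scheme.Hom.comp_appTop, Category.assoc, hz, Category.comp_id]

end

open CategoryTheory AlgebraicGeometry MonObj CartesianMonoidalCategory in
/-- If S is a reduced scheme, every homomorphism of S-group schemes from the additive group to the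
multiplicative group over S is the trivial homomorphism. -/
theorem result (S : Scheme.{u}) [IsReduced S] (φ : Red.Ga S ⟶ Red.Gm S)
    [IsMonHom φ] : φ = 1 := by
  have key := fun (w : Γ((Red.Ga S).left, ⊤)) (hw : IsUnit w) ↦ unit_Ga S w hw
  have hone : φ = toUnit _ ≫ η ≫ φ := by
    apply Over.OverMorphism.ext
    apply Limits.pullback.hom_ext
    · apply hom_ext_diag
      intro
      rw [Over.comp_left, Over.comp_left]
      have hsec : (η[Red.Ga S]).left ≫ (Red.Ga S).hom = 𝟙 S := (Over.w _).trans rfl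
      have h := key ((φ.left ≫ Limits.pullback.fst _ _).appTop
        ((Scheme.ΓSpecIso _).inv (MonoidAlgebra.single (Multiplicative.ofAdd (1 : ℤ)) 1))) ?_ _ hsec
      · refine h.symm.trans ?_
        have hc : ∀ {A B C D : Scheme.{u}} (a : A ⟶ B) (b : B ⟶ C) (c : C ⟶ D) (x : Γ(D, ⊤)),
            a.appTop ((b ≫ c).appTop x) = ((a ≫ b) ≫ c).appTop x := fun a b c x ↦ by simp <;> rfl
        refine (hc _ _ _ _).trans ?_
        simp only [Over.toUnit_left, Category.assoc]
        rfl
      · refine IsUnit.map ((φ.left ≫ Limits.pullback.fst _ _).appTop.hom) (IsUnit.map (Scheme.ΓSpecIso _).inv.hom ?_)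
        exact isUnit_single _
    · have w1 := Over.w φ
      have w2 := Over.w (toUnit (Red.Ga S) ≫ η ≫ φ)
      exact w1.trans w2.symm
  rw [hone]
  exact congrArg (toUnit _ ≫ ·) (@IsMonHom.one_hom _ _ _ _ _ _ _ φ _)

end Groth.Agent.S13371
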