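import Groth.Statements.S13375
import Groth.Agent.CechLadder.Basic

set_option autoImplicit false
universe u v
open CechDer

namespace Groth.Agent.S13375

open CategoryTheory CategoryTheory.Limits in
/-- In an abelian category, given two degreewise left exact sequences of nonnegatively graded cochain
complexes 0 → C' → C → C'' and 0 → I' → I → I'', each complex exact in positive degrees and the I's
termwise injective, every commutative ladder of maps g', g, g'' between their degree-zero
cohomologies is induced by chain maps f' : C' → I', f : C → I, f'' : C'' → I'' commuting with the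
given maps of complexes. -/
theorem result {V : Type u} [Category.{v} V]
    [Abelian V] (C' C C'' I' I I'' : CochainComplex V ℕ)
    (jC : C' ⟶ C) (πC : C ⟶ C'') (jI : I' ⟶ I) (πI : I ⟶ I'')
    (mC : ∀ n, Mono (jC.f n)) (wC : ∀ n, jC.f n ≫ πC.f n = 0)
    (exC : ∀ n, (ShortComplex.mk (jC.f n) (πC.f n) (wC n)).Exact)
    (mI : ∀ n, Mono (jI.f n)) (wI : ∀ n, jI.f n ≫ πI.f n = 0)
    (exI : ∀ n, (ShortComplex.mk (jI.f n) (πI.f n) (wI n)).Exact)
    (hC' : ∀ n, 0 < n → C'.ExactAt n) (hC : ∀ n, 0 < n → C.ExactAt n) (hC'' : ∀ n, 0 < n → C''.ExactAt n)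
    (hI' : ∀ n, 0 < n → I'.ExactAt n) (hI : ∀ n, 0 < n → I.ExactAt n) (hI'' : ∀ n, 0 < n → I''.ExactAt n)
    (injI' : ∀ n, Injective (I'.X n)) (injI : ∀ n, Injective (I.X n)) (injI'' : ∀ n, Injective (I''.X n))
    (g' : C'.homology 0 ⟶ I'.homology 0) (g : C.homology 0 ⟶ I.homology 0)
    (g'' : C''.homology 0 ⟶ I''.homology 0)
    (hg1 : HomologicalComplex.homologyMap jC 0 ≫ g = g' ≫ HomologicalComplex.homologyMap jI 0)
    (hg2 : HomologicalComplex.homologyMap πC 0 ≫ g'' = g ≫ HomologicalComplex.homologyMap πI 0) :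
    ∃ (f' : C' ⟶ I') (f : C ⟶ I) (f'' : C'' ⟶ I''),
      jC ≫ f = f' ≫ jI ∧ πC ≫ f'' = f ≫ πI ∧
      HomologicalComplex.homologyMap f' 0 = g' ∧ HomologicalComplex.homologyMap f 0 = g ∧
      HomologicalComplex.homologyMap f'' 0 = g'' := by
  classical
  let cyc : ∀ {K L : CochainComplex V ℕ}, (K.homology 0 ⟶ L.homology 0) → (K.cycles 0 ⟶ L.cycles 0) :=
    fun {K L} g => K.homologyπ 0 ≫ g ≫ inv (L.homologyπ 0)
  have hcyc : ∀ {K L : CochainComplex V ℕ} (g : K.homology 0 ⟶ L.homology 0),
      cyc g ≫ L.homologyπ 0 = K.homologyπ 0 ≫ g := fun {K L} g => by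
    simp [cyc]
  have hmono : ∀ (L : CochainComplex V ℕ), Mono (L.homologyπ 0) := fun L => by
    infer_instance
  obtain ⟨s₀, h'0, h0, h''0⟩ := CechLadder.base mC wC exC wI hC' hC hC'' injI' injI injI'' (mI 0)
    (cyc g') (cyc g) (cyc g'')
    (by
      have := hmono I
      rw [← cancel_mono (I.homologyπ 0), Category.assoc, hcyc, Category.assoc,
        ← HomologicalComplex.homologyπ_naturality, ← HomologicalComplex.homologyπ_naturality_assoc,
        ← Category.assoc (cyc g'), hcyc, Category.assoc, hg1])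
    (by
      have := hmono I''
      rw [← cancel_mono (I''.homologyπ 0), Category.assoc, hcyc, Category.assoc,
        ← HomologicalComplex.homologyπ_naturality, ← HomologicalComplex.homologyπ_naturality_assoc,
        ← Category.assoc (cyc g), hcyc, Category.assoc, hg2])
  let St := CechLadder.St C' C C'' I' I I'' jC πC jI πI
  have hstep := fun (n : ℕ) (s : St n) => CechLadder.step mC wC exC wI hC' hC hC'' injI' injI injI'' s
  let F : ∀ n, St n := fun n => Nat.rec s₀ (fun n s => (hstep n s).choose) n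
  have hF := fun n => (hstep n (F n)).choose_spec
  let f' : C' ⟶ I' := ⟨fun n => (F n).f', fun i j hij => by
    obtain rfl : i + 1 = j := hij; exact (hF i).1.symm⟩
  let f : C ⟶ I := ⟨fun n => (F n).f, fun i j hij => by
    obtain rfl : i + 1 = j := hij; exact (hF i).2.1.symm⟩
  let f'' : C'' ⟶ I'' := ⟨fun n => (F n).f'', fun i j hij => by
    obtain rfl : i + 1 = j := hij; exact (hF i).2.2.symm⟩
  have key : ∀ {K L : CochainComplex V ℕ} (φ : K ⟶ L) (w : K.homology 0 ⟶ L.homology 0),
      K.iCycles 0 ≫ φ.f 0 = cyc w ≫ L.iCycles 0 → HomologicalComplex.homologyMap φ 0 = w := by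
    intro K L φ w hw
    rw [← cancel_epi (K.homologyπ 0), HomologicalComplex.homologyπ_naturality, ← hcyc]
    congr 1
    rw [← cancel_mono (L.iCycles 0), HomologicalComplex.cyclesMap_i, hw]
  refine ⟨f', f, f'', ?_, ?_, key f' g' h'0, key f g h0, key f'' g'' h''0⟩
  · ext n; exact (F n).comm₁
  · ext n; exact (F n).comm₂

end Groth.Agent.S13375
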