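import Groth.Statements.S13378
import Groth.Agent.FIAb.ProfCompl

set_option autoImplicit false
universe u
open ProCompl

namespace Groth.Agent.S13378

/-- For an abelian group A (written multiplicatively, discrete) and a subgroup A' such that the quotient
A/A' has no nontrivial divisible element and its torsion elements are killed by one positive
integer, the map induced on profinite completions by the inclusion of A' in A is injective. (The
published statement is for topological abelian groups in which every nA is open, with completions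
formed from open subgroups of finite index; this row is the case of the discrete topology.) -/
theorem result (A : Type u) [CommGroup A] (A' : Subgroup A)
    (hdiv : ∀ x : A ⧸ A', (∀ n : ℕ, 0 < n → ∃ y : A ⧸ A', y ^ n = x) → x = 1)
    (htors : ∃ N : ℕ, 0 < N ∧ ∀ x : A ⧸ A', IsOfFinOrder x → x ^ N = 1) :
    Function.Injective (ProfiniteGrp.profiniteCompletion.map (GrpCat.ofHom A'.subtype)).hom := by
  obtain ⟨N₀, hN₀, htor⟩ := htors
  refine (injective_iff_map_eq_one (ProfiniteGrp.profiniteCompletion.map (GrpCat.ofHom A'.subtype)).hom.toMonoidHom).2 fun x hx => ?_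
  refine Subtype.ext (funext fun N => ?_)
  let i : Additive A' →+ Additive A := MonoidHom.toAdditive A'.subtype
  let A₀ : AddSubgroup (Additive A') := Subgroup.toAddSubgroup N.toSubgroup
  haveI : N.toSubgroup.FiniteIndex := inferInstance
  haveI hA₀ : A₀.FiniteIndex := ⟨by
    intro e
    exact Subgroup.FiniteIndex.index_ne_zero (H := N.toSubgroup) e⟩
  have hA : ∀ a : Additive A', a ∉ A₀ → i a ∉ A₀.map i ⊔ (⊥ : AddSubgroup (Additive A)) := by
    intro a ha hm
    rw [sup_bot_eq] at hm
    obtain ⟨a', ha', e⟩ := hm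
    exact ha ((Subtype.ext e : a' = a) ▸ ha')
  obtain ⟨M, -, hM, hMA⟩ : ∃ M : AddSubgroup (Additive A), (⊥ : AddSubgroup (Additive A)) ≤ M ∧ M.FiniteIndex ∧ M.comap i ≤ A₀ := by
    haveI : Finite (Additive A' ⧸ A₀) := AddSubgroup.finite_quotient_of_finiteIndex
    choose Mq hMq hfq hxq using fun q : {q : Additive A' ⧸ A₀ // q ≠ 0} => by
      have hxn : i q.1.out ∉ A₀.map i ⊔ (nsmulAddMonoidHom (A₀.index * N₀) : Additive A →+ Additive A).range := by
        intro hm
        obtain ⟨_, ⟨a', ha', rfl⟩, _, ⟨y, rfl⟩, e⟩ := AddSubgroup.mem_sup.1 hm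
        have hd : (A₀.index * N₀) • y = i (q.1.out - a') := by rw [map_sub, ← e]; simp
        have hmem : Additive.toMul ((A₀.index * N₀) • y) ∈ A' := by rw [hd]; exact (q.1.out - a').toMul.2
        have hto : IsOfFinOrder (QuotientGroup.mk (Additive.toMul y) : A ⧸ A') :=
          isOfFinOrder_iff_pow_eq_one.2 ⟨A₀.index * N₀, Nat.mul_pos (Nat.pos_of_ne_zero hA₀.index_ne_zero) hN₀,
            by rw [← QuotientGroup.mk_pow, QuotientGroup.eq_one_iff]; exact hmem⟩
        have h1 := htor _ hto
        rw [← QuotientGroup.mk_pow, QuotientGroup.eq_one_iff] at h1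
        let z : Additive A' := Additive.ofMul ⟨_, h1⟩
        have hz : q.1.out - a' = A₀.index • z := Subtype.ext (by
          have : i (A₀.index • z) = i (q.1.out - a') := by
            rw [← hd, map_nsmul, mul_smul]
            rfl
          exact this.symm)
        refine q.2 ?_
        rw [← Quotient.out_eq q.1]
        refine (QuotientAddGroup.eq_zero_iff _).2 ?_
        have h2 : q.1.out - a' ∈ A₀ := hz ▸ AddSubgroup.nsmul_index_mem A₀ z
        simpa using A₀.add_mem h2 ha'
      exact FIAb.avoid_of_nsmul _ (Nat.mul_pos (Nat.pos_of_ne_zero hA₀.index_ne_zero) hN₀)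
        (fun y => AddSubgroup.mem_sup_right (show (A₀.index * N₀) • y ∈ (nsmulAddMonoidHom (A₀.index * N₀) : Additive A →+ Additive A).range from ⟨y, rfl⟩)) hxn
    refine ⟨A₀.map i ⊔ ⨅ q, Mq q, bot_le, ?_, fun a ha => ?_⟩
    · haveI := AddSubgroup.finiteIndex_iInf hfq
      exact AddSubgroup.finiteIndex_of_le (le_sup_right : (⨅ q, Mq q) ≤ _)
    by_contra hn
    let q : {q : Additive A' ⧸ A₀ // q ≠ 0} := ⟨(a : Additive A' ⧸ A₀), fun e => hn ((QuotientAddGroup.eq_zero_iff a).1 e)⟩
    have hle : A₀.map i ⊔ ⨅ q, Mq q ≤ Mq q := sup_le (le_sup_left.trans (hMq q)) (iInf_le _ q)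
    refine hxq q ?_
    obtain ⟨a', ha'⟩ := QuotientAddGroup.mk_out_eq_mul A₀ a
    change i (Quotient.out (a : Additive A' ⧸ A₀)) ∈ Mq q
    rw [ha', map_add]
    exact (Mq q).add_mem (hle ha) ((le_sup_left.trans (hMq q)) ⟨a', a'.2, rfl⟩)
  let M' : FiniteIndexNormalSubgroup A :=
    { toSubgroup := AddSubgroup.toSubgroup M
      isNormal' := inferInstance
      isFiniteIndex' := ⟨fun e => hM.index_ne_zero e⟩ }
  have h1 : ((ProfiniteGrp.profiniteCompletion.map (GrpCat.ofHom A'.subtype)).hom x).val M' = 1 := by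
    have := congrFun (congrArg Subtype.val hx) M'
    exact this
  rw [FIAb.map_apply] at h1
  obtain ⟨a, ha⟩ := QuotientGroup.mk_surjective (x.val (M'.comap (GrpCat.ofHom A'.subtype).hom))
  rw [← ha] at h1
  have ha' : (Additive.ofMul a : Additive A') ∈ M.comap i := (QuotientGroup.eq_one_iff _).1 h1
  have hle : M'.comap (GrpCat.ofHom A'.subtype).hom ≤ N := fun b hb => hMA (hb : Additive.ofMul b ∈ M.comap i)
  have h2 := x.property (CategoryTheory.homOfLE hle : M'.comap (GrpCat.ofHom A'.subtype).hom ⟶ N)
  rw [← h2, ← ha]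
  exact (QuotientGroup.eq_one_iff a).2 (hMA ha')

end Groth.Agent.S13378
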