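import Groth.Statements.S13379
import Groth.Agent.FIAb.ProfCompl

set_option autoImplicit false
universe u
open ProCompl

namespace Groth.Agent.S13379

/-- Profinite completion is right exact: for an abelian group A (written multiplicatively, discrete) and
a subgroup A', the map on profinite completions induced by A → A/A' is surjective and its kernel is
the image of the completion of A'. (The published statement is right-exactness for topological
abelian groups with completions formed from open subgroups of finite index; this row is the case of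
the discrete topology.) -/
theorem result (A : Type u) [CommGroup A] (A' : Subgroup A) :
    Function.Surjective (ProfiniteGrp.profiniteCompletion.map (GrpCat.ofHom (QuotientGroup.mk' A'))).hom ∧
      (ProfiniteGrp.profiniteCompletion.map (GrpCat.ofHom (QuotientGroup.mk' A'))).hom.toMonoidHom.ker =
        (ProfiniteGrp.profiniteCompletion.map (GrpCat.ofHom A'.subtype)).hom.toMonoidHom.range := by
  constructor
  · intro y
    refine FIAb.mem_range_of_approx (GrpCat.ofHom (QuotientGroup.mk' A')) y fun N => ?_
    obtain ⟨g, hg⟩ := QuotientGroup.mk_surjective (y.val N)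
    obtain ⟨a, rfl⟩ := QuotientGroup.mk_surjective g
    exact ⟨a, hg⟩
  · ext x
    constructor
    · intro hx
      refine FIAb.mem_range_of_approx (GrpCat.ofHom A'.subtype) x fun N => ?_
      obtain ⟨a, ha⟩ := QuotientGroup.mk_surjective (x.val N)
      let N' : FiniteIndexNormalSubgroup (A ⧸ A') :=
        { toSubgroup := N.toSubgroup.map (QuotientGroup.mk' A')
          isNormal' := inferInstance
          isFiniteIndex' := ⟨fun e => Subgroup.FiniteIndex.index_ne_zero (H := N.toSubgroup)
            (Nat.eq_zero_of_zero_dvd (e ▸ Subgroup.index_map_dvd N.toSubgroup (QuotientGroup.mk'_surjective A')))⟩ }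
      have h1 : ((ProfiniteGrp.profiniteCompletion.map (GrpCat.ofHom (QuotientGroup.mk' A'))).hom x).val N' = 1 :=
        congrFun (congrArg Subtype.val (MonoidHom.mem_ker.1 hx)) N'
      rw [FIAb.map_apply] at h1
      have hle : N ≤ N'.comap (GrpCat.ofHom (QuotientGroup.mk' A')).hom := fun b hb => ⟨b, hb, rfl⟩
      have h2 := x.property (CategoryTheory.homOfLE hle : N ⟶ N'.comap (GrpCat.ofHom (QuotientGroup.mk' A')).hom)
      rw [← h2, ← ha] at h1
      obtain ⟨n, hn, e⟩ := (QuotientGroup.eq_one_iff _).1 h1
      refine ⟨⟨n⁻¹ * a, QuotientGroup.eq.1 e⟩, ?_⟩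
      rw [← ha]
      refine QuotientGroup.eq.2 ?_
      have : (n⁻¹ * a)⁻¹ * a = n := by rw [mul_inv_rev, inv_inv, mul_comm a⁻¹ n, mul_assoc, inv_mul_cancel, mul_one]
      change (n⁻¹ * a)⁻¹ * a ∈ N.toSubgroup
      rw [this]
      exact hn
    · rintro ⟨y, rfl⟩
      refine MonoidHom.mem_ker.2 (Subtype.ext (funext fun N => ?_))
      change ((ProfiniteGrp.profiniteCompletion.map (GrpCat.ofHom (QuotientGroup.mk' A'))).hom
        ((ProfiniteGrp.profiniteCompletion.map (GrpCat.ofHom A'.subtype)).hom y)).val N = 1
      rw [FIAb.map_apply, FIAb.map_apply]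
      obtain ⟨a, ha⟩ := QuotientGroup.mk_surjective
        (y.val ((N.comap (GrpCat.ofHom (QuotientGroup.mk' A')).hom).comap (GrpCat.ofHom A'.subtype).hom))
      rw [← ha]
      refine (QuotientGroup.eq_one_iff _).2 ?_
      change QuotientGroup.mk' A' (a : A) ∈ N.toSubgroup
      rw [QuotientGroup.mk'_apply, (QuotientGroup.eq_one_iff (a : A)).2 a.2]
      exact one_mem _

end Groth.Agent.S13379
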