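import Groth.Statements.S13384
import Groth.Agent.GmDual13480.Isogeny

set_option autoImplicit false
universe u
open AlgGrpK

namespace Groth.Agent.S13384

open CategoryTheory AlgebraicGeometry MonoidalCategory in
/-- If an affine commutative group scheme G of finite type over a field k contains a subtorus T with
finite quotient G/T (given as a flat surjective homomorphism with kernel T onto a finite k-group),
then G receives an isogeny — a flat surjective homomorphism with finite kernel — from the product of
a finite k-group scheme and a k-torus. (The published statement also gives two further equivalent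
conditions, on the reduced identity component over an algebraic closure and on Weil restrictions of
split tori; this row states only this implication.) -/
theorem result (k : Type u) [Field k]
    (G : Over (Spec (CommRingCat.of k))) [GrpObj G] [IsCommMonObj G]
    [LocallyOfFiniteType G.hom] [QuasiCompact G.hom] [IsAffine G.left]
    (T Q : Over (Spec (CommRingCat.of k))) [GrpObj T] [GrpObj Q] (j : T ⟶ G) (q : G ⟶ Q)
    [IsMonHom j] [IsMonHom q] [Mono j] (hT : Red.IsTorus T) (hker : AlgGrp.IsKernel j q)
    [Flat q.left] [Surjective q.left] [IsFinite Q.hom] :
    ∃ (A T' : Over (Spec (CommRingCat.of k))) (_ : GrpObj A) (_ : GrpObj T') (f : A ⊗ T' ⟶ G) (_ : IsMonHom f),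
      IsFinite A.hom ∧ Red.IsTorus T' ∧ SGA7.IsIsogenyOver f ∧ Flat f.left := by
  exact Groth.Agent.GmDual13480.exists_isogeny k G T Q j q hT hker

end Groth.Agent.S13384
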