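import Groth.Statements.S13385
import Mathlib

set_option autoImplicit false
universe u
open scoped TensorProduct
open ZeroCyc

namespace Groth.Agent.S13385

/-- Let A → A' be a surjective ring homomorphism, M an A-module and M' = A' ⊗_A M. In the divided power
algebra Γ_{A'}(M') the A'-span of the d-th divided powers γ_d(1 ⊗ m), m ∈ M, is the A'-span of
γ_d(M'). (The published statement phrases this as the surjectivity of the natural map from (γ_d(M))
⊗_A A' onto (γ_d(M')), the spans of the d-th divided powers; its further clause through the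
base-change isomorphism Γ_A(M) ⊗_A A' ≅ Γ_{A'}(M') is not restated here.) -/
theorem result {A A' M : Type u} [CommRing A] [CommRing A']
    [Algebra A A'] [AddCommGroup M] [Module A M] (hA : Function.Surjective (algebraMap A A')) (d : ℕ) :
    Submodule.span A' (Set.range fun m : M => DividedPowerAlgebra.dp A' d ((1 : A') ⊗ₜ[A] m)) =
      Submodule.span A' (Set.range (DividedPowerAlgebra.dp A' d (M := A' ⊗[A] M))) := by
  congr 1
  ext y
  constructor
  · rintro ⟨m, rfl⟩; exact ⟨_, rfl⟩
  · rintro ⟨z, rfl⟩
    obtain ⟨m, rfl⟩ : ∃ m : M, (1 : A') ⊗ₜ[A] m = z := by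
      induction z using TensorProduct.induction_on with
      | zero => exact ⟨0, TensorProduct.tmul_zero _ _⟩
      | tmul a m =>
          obtain ⟨r, rfl⟩ := hA a
          exact ⟨r • m, by rw [← TensorProduct.smul_tmul, Algebra.smul_def, mul_one]⟩
      | add x y hx hy =>
          obtain ⟨a, ha⟩ := hx; obtain ⟨b, hb⟩ := hy
          exact ⟨a + b, by rw [TensorProduct.tmul_add, ha, hb]⟩
    exact ⟨m, rfl⟩

end Groth.Agent.S13385
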