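import Groth.Statements.S13389
import Groth.Agent.DivPow.SpanDp

set_option autoImplicit false
universe u
open ZeroCyc

namespace Groth.Agent.S13389

open Polynomial in
/-- Let P_d(T) = ∏_{0 ≤ i < j ≤ d} (T^i − T^j) − 1 ∈ ℤ[T]. If A is an algebra over ℤ[T]/(P_d), i.e.
receives a ring homomorphism from it, then for every A-module M the degree-d piece Γ^d_A(M) of the
divided power algebra Γ_A(M) is spanned over A by the d-th divided powers γ_d(m), m ∈ M. (The
published statement adds that consequently every ring has a finite faithfully flat extension,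
independent of M, over which this holds; that clause is not restated.) -/
theorem result {A M : Type u} [CommRing A] [AddCommGroup M]
    [Module A M] (d : ℕ)
    (φ : (ℤ[X] ⧸ Ideal.span {(∏ j ∈ Finset.range (d + 1), ∏ i ∈ Finset.range j,
        ((X : ℤ[X]) ^ i - X ^ j)) - 1}) →+* A) :
    Submodule.span A (Set.range (DividedPowerAlgebra.dp A d : M → DividedPowerAlgebra A M)) =
      PolLaw.gammaPiece A M d := by
  classical
  refine Groth.Agent.DivPow.SpanDp.span_eq_gammaPiece d fun p => Or.inl ?_
  set t : A := φ (Ideal.Quotient.mk _ Polynomial.X) with ht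
  have hprod : ∏ j ∈ Finset.range (d + 1), ∏ i ∈ Finset.range j, (t ^ i - t ^ j) = 1 := by
    have h0 : Ideal.Quotient.mk (Ideal.span {(∏ j ∈ Finset.range (d + 1), ∏ i ∈ Finset.range j,
        ((Polynomial.X : Polynomial ℤ) ^ i - Polynomial.X ^ j)) - 1}) ((∏ j ∈ Finset.range (d + 1), ∏ i ∈ Finset.range j,
        ((Polynomial.X : Polynomial ℤ) ^ i - Polynomial.X ^ j)) - 1) = 0 :=
      Ideal.Quotient.eq_zero_iff_mem.mpr (Ideal.subset_span rfl)
    have h1 := congrArg φ h0
    simp only [map_sub, map_one, map_prod, map_pow, map_zero, sub_eq_zero] at h1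
    exact h1
  let g : Fin d → p.asIdeal.ResidueField := fun i => algebraMap A _ t ^ (i : ℕ)
  have hne : ∀ i j : ℕ, i < j → j < d + 1 →
      algebraMap A p.asIdeal.ResidueField t ^ i ≠ algebraMap A _ t ^ j := by
    intro i j hij hj heq
    have h := congrArg (algebraMap A p.asIdeal.ResidueField) hprod
    rw [map_prod, map_one, Finset.prod_eq_zero (Finset.mem_range.mpr hj)] at h
    · exact zero_ne_one h
    · rw [map_prod, Finset.prod_eq_zero (Finset.mem_range.mpr hij)]
      rw [map_sub, map_pow, map_pow, heq, sub_self]
  have hg : Function.Injective g := by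
    intro a b hab
    rcases lt_trichotomy (a : ℕ) b with h | h | h
    · exact absurd hab (hne _ _ h (by omega))
    · exact Fin.ext h
    · exact absurd hab.symm (hne _ _ h (by omega))
  simpa using Cardinal.lift_mk_le_lift_mk_of_injective hg

end Groth.Agent.S13389
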