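import Groth.Statements.S13390
import Groth.Agent.DivPow.SymGraded

set_option autoImplicit false
universe u
open scoped TensorProduct
open ZeroCyc

namespace Groth.Agent.S13390

/-- Let A be a commutative ring, B a graded A-algebra generated by its degree-one part B_1 with B_1 a
finitely generated A-module, and d ≥ 0. Inside the d-fold tensor power T^d_A(B) let C_k be the
A-span of the pure tensors b_1 ⊗ ⋯ ⊗ b_d with all b_i ∈ B_k, let C = Σ_k C_k (the A-subalgebra
generated by these pure tensors; Proj C is the d-fold fibre product of X = Proj B over S = Spec A)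
and let D = C ∩ TS^d_A(B) be its subring of symmetric tensors, graded by D_k = C_k ∩ TS^d_A(B), so
that Proj D is the symmetric product Sym^d(X/S). Then Proj D is covered in degree one: every t ∈ D_k
with k ≥ 1 has some power t^m, m ≥ 1, in the ideal of D generated by D_1. -/
theorem result {A B : Type u} [CommRing A] [CommRing B] [Algebra A B]
    (𝒜 : ℕ → Submodule A B) [GradedAlgebra 𝒜] (hgen : Algebra.adjoin A (𝒜 1 : Set B) = ⊤) (hfg : (𝒜 1).FG) (d : ℕ)
    (D : Subalgebra A (⨂[A] _ : Fin d, B))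
    (hD : D = Algebra.adjoin A {t | ∃ (k : ℕ) (b : Fin d → B), (∀ i, b i ∈ 𝒜 k) ∧ t = PiTensorProduct.tprod A b}
      ⊓ SymTen.TS A B d)
    (k : ℕ) (hk : 0 < k) (t : ⨂[A] _ : Fin d, B) (htD : t ∈ D)
    (htk : t ∈ Submodule.span A {s | ∃ b : Fin d → B, (∀ i, b i ∈ 𝒜 k) ∧ s = PiTensorProduct.tprod A b}) :
    ∃ m : ℕ, 0 < m ∧ (⟨t, htD⟩ : D) ^ m ∈
      Ideal.span {x : D | (x : ⨂[A] _ : Fin d, B) ∈
        Submodule.span A {s | ∃ b : Fin d → B, (∀ i, b i ∈ 𝒜 1) ∧ s = PiTensorProduct.tprod A b}} := by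
  classical
  obtain ⟨s, g, hg⟩ := Submodule.fg_iff_exists_fin_generating_family.mp hfg
  refine Groth.Agent.DivPow.SymGraded.pow_mem 𝒜 d g hgen hg D hD k hk t htD htk _
    fun K _ _ φ g0 h0 hφ => ?_
  obtain ⟨α, h, hne⟩ := Groth.Agent.DivPow.SymGraded.exists_orbit 𝒜 d g φ g0 h0 hφ hg
  have hmem : Groth.Agent.DivPow.SymGraded.orbit d g α ∈ D := by
    rw [hD]
    exact ⟨h, Groth.Agent.DivPow.SymGraded.orbit_mem_TS d g α⟩
  refine ⟨⟨_, hmem⟩, ?_, h, hne⟩
  show Groth.Agent.DivPow.SymGraded.orbit d g α ∈ Submodule.span A _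
  exact sum_mem fun p _ => Submodule.subset_span
    ⟨g ∘ p, fun i => hg ▸ Submodule.subset_span ⟨p i, rfl⟩, rfl⟩

end Groth.Agent.S13390
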