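import Groth.Statements.S13393
import Groth.Agent.SymProdLib.Compare

set_option autoImplicit false
set_option backward.isDefEq.respectTransparency false
set_option backward.isDefEq.respectTransparency.types false
set_option maxHeartbeats 1000000

universe u
open CategoryTheory CategoryTheory.Limits AlgebraicGeometry
open ZeroCyc

namespace Groth.Agent.S13393

/-- Scheme case. Let f : X → S be separated and let (Y, q, g) be a d-th symmetric product of X over S: q
: (X/S)^d → Y is a quotient of the d-fold fibre product by the symmetric group permuting the factors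
and g : Y → S its structure map. Let S' → S be a morphism, let the symmetric group act on (X/S)^d
×_S S' through the first factor (this is the d-fold fibre product of X' = X ×_S S' over S' with its
permutation action), let r : (X/S)^d ×_S S' → Y' be a quotient by that action, i.e. a symmetric
product Sym^d(X'/S'), and let m : Y' → Y ×_S S' be the morphism with r ≫ m = q × id. Then m induces
an isomorphism on residue fields at every point of Y' (trivial residue field extensions); if every
positive integer is invertible in Γ(S', O_{S'}) then m is an isomorphism; and if X' → S' is flat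
then m is a closed immersion. (The published statement is for X a separated algebraic space over S,
where the symmetric products always exist as algebraic spaces; this row is the case of schemes in
which both quotients exist as schemes, taken as hypotheses, and leaves the universal-homeomorphism
clause to the general finite-group statement.) -/
theorem result {X S S' Y Y' : Scheme.{u}} (f : X ⟶ S) [IsSeparated f] (d : ℕ)
    (q : SymProd.fibPow f d ⟶ Y) (g : Y ⟶ S) (hq : SymProd.IsSymProd f d q g)
    (gS : S' ⟶ S)
    (ρ' : ULift.{u} (Equiv.Perm (Fin d)) →* Aut (pullback (WidePullback.base fun _ : Fin d => f) gS))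
    (hρ' : ∀ σ, (ρ' σ).hom ≫ pullback.fst (WidePullback.base fun _ : Fin d => f) gS =
        pullback.fst (WidePullback.base fun _ : Fin d => f) gS ≫ SymProd.permHom f d σ.down ∧
      (ρ' σ).hom ≫ pullback.snd (WidePullback.base fun _ : Fin d => f) gS =
        pullback.snd (WidePullback.base fun _ : Fin d => f) gS)
    (r : pullback (WidePullback.base fun _ : Fin d => f) gS ⟶ Y') (hr : SGA1.IsQuot ρ' r)
    (m : Y' ⟶ pullback g gS)
    (hm : r ≫ m = pullback.map (WidePullback.base fun _ : Fin d => f) gS g gS q (𝟙 S') (𝟙 S)
      ((Category.comp_id _).trans hq.over.symm) ((Category.comp_id gS).trans (Category.id_comp gS).symm)) :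
    (∀ y : Y', IsIso (m.residueFieldMap y)) ∧
    ((∀ n : ℕ, 0 < n → IsUnit ((n : ℕ) : Γ(S', ⊤))) → IsIso m) ∧
    (Flat (pullback.snd f gS) → IsClosedImmersion m) := by
  classical
  let f'' := pullback.snd f gS
  let bs := WidePullback.base fun _ : Fin d => f
  let c : SymProd.fibPow f'' d ⟶ SymProd.fibPow f d :=
    WidePullback.lift (WidePullback.base _ ≫ gS) (fun k => WidePullback.π _ k ≫ pullback.fst f gS)
      fun k => by rw [Category.assoc, pullback.condition, WidePullback.π_arrow_assoc]
  have hcπ : ∀ k, c ≫ WidePullback.π (fun _ => f) k = WidePullback.π (fun _ => f'') k ≫ pullback.fst f gS :=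
    fun k => WidePullback.lift_π _ _ _ _ k
  have hcb : c ≫ bs = WidePullback.base (fun _ => f'') ≫ gS := WidePullback.lift_base _ _ _ _
  have hP := SymProdLib.isPullback_fibPow f gS c hcπ hcb
  let e := hP.isoPullback
  have he : ∀ σ, (SymProd.permActU f'' d σ).hom ≫ e.hom = e.hom ≫ (ρ' σ).hom := fun σ => by
    apply pullback.hom_ext
    · rw [Category.assoc, Category.assoc, (hρ' σ).1, hP.isoPullback_hom_fst, ← Category.assoc e.hom,
        hP.isoPullback_hom_fst, SymProd.permActU_hom, SymProdLib.perm_comm hcπ hcb]
    · rw [Category.assoc, Category.assoc, (hρ' σ).2, hP.isoPullback_hom_snd, SymProd.permActU_hom,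
        SymProd.permHom_base]
  have hid : SGA1.IsQuot ((SymProd.permActU f'' d).comp (1 : PUnit.{u + 1} →* ULift.{u} (Equiv.Perm (Fin d)))) e.hom := by
    refine ⟨inferInstance, fun _ => ?_, fun U => (ConcreteCategory.bijective_of_isIso (e.hom.app U)).1,
      fun U s => ⟨fun h a => ?_, fun _ => (ConcreteCategory.bijective_of_isIso (e.hom.app U)).2 s⟩⟩
    · rw [MonoidHom.comp_apply, MonoidHom.one_apply, map_one]
      exact Category.id_comp _
    · have h1 : ((SymProd.permActU f'' d).comp (1 : PUnit.{u + 1} →* ULift.{u} (Equiv.Perm (Fin d))) a).hom = 𝟙 _ := by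
        rw [MonoidHom.comp_apply, MonoidHom.one_apply, map_one]; rfl
      refine (congr($(Groth.Agent.QuotScheme.appLE_congr_hom h1 (e.hom ⁻¹ᵁ U) (e.hom ⁻¹ᵁ U) _
        (show e.hom ⁻¹ᵁ U ≤ (𝟙 (SymProd.fibPow f'' d)) ⁻¹ᵁ (e.hom ⁻¹ᵁ U) from fun x hx => hx)) s)).trans ?_
      simp [Scheme.Hom.appLE]
      exact congr($((SymProd.fibPow f'' d).presheaf.map_id _) s)
  have hquot : SGA1.IsQuot (SymProd.permActU f'' d) (e.hom ≫ r) :=
    SymProdLib.isQuot_comp _ 1 (MonoidHom.id _) (fun σ => ⟨1, σ, one_mul _⟩) hid hr he
  let qm := pullback.map bs gS g gS q (𝟙 S') (𝟙 S)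
    ((Category.comp_id _).trans hq.over.symm) ((Category.comp_id gS).trans (Category.id_comp gS).symm)
  have hm₁ : r ≫ m ≫ pullback.fst g gS = pullback.fst bs gS ≫ q := by
    rw [reassoc_of% hm, pullback.lift_fst]
  have hm₂ : r ≫ m ≫ pullback.snd g gS = pullback.snd bs gS := by
    rw [reassoc_of% hm, pullback.lift_snd, Category.comp_id]
  have hsym : SymProd.IsSymProd f'' d (e.hom ≫ r) (m ≫ pullback.snd g gS) :=
    ⟨hquot, by rw [Category.assoc, hm₂, hP.isoPullback_hom_snd]⟩
  have hμ : (e.hom ≫ r) ≫ m ≫ pullback.fst g gS = c ≫ q := by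
    rw [Category.assoc, hm₁, hP.isoPullback_hom_fst_assoc]
  have hw : (m ≫ pullback.fst g gS) ≫ g = (m ≫ pullback.snd g gS) ≫ gS := by
    rw [Category.assoc, Category.assoc, pullback.condition]
  have hlift : pullback.lift (m ≫ pullback.fst g gS) (m ≫ pullback.snd g gS) hw = m := by
    apply pullback.hom_ext <;> simp
  haveI : IsClosedImmersion (pullback.lift (pullback.fst f gS) (pullback.snd f gS) pullback.condition) := by
    rw [show pullback.lift (pullback.fst f gS) (pullback.snd f gS) pullback.condition = 𝟙 _ by
      apply pullback.hom_ext <;> simp]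
    infer_instance
  refine ⟨fun y => ?_, fun hu => ?_, fun hflat => ?_⟩
  · have := SymProdLib.residueFieldMap_compare_surjective pullback.condition hcπ hcb hq hsym hμ hw y
    rw [hlift] at this
    exact SymProdLib.isIso_residueFieldMap m y this
  · have hwq : (pullback.fst bs gS ≫ q) ≫ g = pullback.snd bs gS ≫ gS := by
      rw [Category.assoc, hq.over]; exact pullback.condition
    have hqm : qm = pullback.lift _ _ hwq := by
      apply pullback.hom_ext <;> simp [qm, bs]
    have hqu : SGA1.IsQuot ρ' qm := by
      rw [hqm]
      refine SymProdLib.unit_baseChange hq.isQuot (pullback.fst g gS) ?_ _ _ (SymProdLib.isPullback_map hq gS hwq) ρ'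
        (fun σ => (hρ' σ).1) fun σ => ?_
      · have := (hu (Fintype.card (ULift.{u} (Equiv.Perm (Fin d)))) Fintype.card_pos).map
          ((pullback.snd g gS).appTop).hom
        rwa [map_natCast] at this
      · apply pullback.hom_ext
        · rw [Category.assoc, pullback.lift_fst, reassoc_of% (hρ' σ).1]
          exact congrArg (_ ≫ ·) (hq.isQuot.inv σ)
        · rw [Category.assoc, pullback.lift_snd, (hρ' σ).2]
    exact SymProdLib.isIso_of_isQuot_comp hr hqu m hm
  · have := SymProdLib.isClosedImmersion_compare pullback.condition hcπ hcb hq hsym hμ hw (Or.inl hflat)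
    rwa [hlift] at this

end Groth.Agent.S13393
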