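import Groth.Statements.S13394
import Groth.Agent.SymProdLib.Compare

set_option autoImplicit false
set_option backward.isDefEq.respectTransparency false
set_option backward.isDefEq.respectTransparency.types false
set_option maxHeartbeats 1000000

universe u
open CategoryTheory CategoryTheory.Limits AlgebraicGeometry
open ZeroCyc

namespace Groth.Agent.S13394

/-- Scheme case. Let f : X → S be separated, let (Y, q, g) be a d-th symmetric product of X over S (q :
(X/S)^d → Y a quotient of the d-fold fibre product by the symmetric group, g : Y → S), let i : Z → X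
be a closed immersion and (W, r, g_W) a d-th symmetric product of Z over S, let q((Z/S)^d) ⊆ Y be
the scheme-theoretic image of the composite (Z/S)^d → (X/S)^d → Y, and let m : W → q((Z/S)^d) be the
morphism through which that composite factors via r. Then m induces an isomorphism on residue fields
at every point of W (trivial residue field extensions); if every positive integer is invertible in
Γ(S, O_S) then m is an isomorphism; and if Z → S is flat then m is a closed immersion. (The
published statement is for X a separated algebraic space over S; this row is the case of schemes in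
which both symmetric products exist as schemes, taken as hypotheses, and leaves the
universal-homeomorphism clause to the general finite-group statement.) -/
theorem result {X Z S Y W : Scheme.{u}} (f : X ⟶ S) [IsSeparated f] (d : ℕ)
    (q : SymProd.fibPow f d ⟶ Y) (g : Y ⟶ S) (hq : SymProd.IsSymProd f d q g)
    (i : Z ⟶ X) [IsClosedImmersion i]
    (r : SymProd.fibPow (i ≫ f) d ⟶ W) (gW : W ⟶ S) (hr : SymProd.IsSymProd (i ≫ f) d r gW)
    (m : W ⟶ (SymProd.fibPowMap (i ≫ f) d f i rfl ≫ q).ker.subscheme)
    (hm : r ≫ m ≫ (SymProd.fibPowMap (i ≫ f) d f i rfl ≫ q).ker.subschemeι =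
      SymProd.fibPowMap (i ≫ f) d f i rfl ≫ q) :
    (∀ w : W, IsIso (m.residueFieldMap w)) ∧
    ((∀ n : ℕ, 0 < n → IsUnit ((n : ℕ) : Γ(S, ⊤))) → IsIso m) ∧
    (Flat (i ≫ f) → IsClosedImmersion m) := by
  classical
  let c := SymProd.fibPowMap (i ≫ f) d f i rfl
  let K := (c ≫ q).ker
  have hw : i ≫ f = (i ≫ f) ≫ 𝟙 S := (Category.comp_id _).symm
  have hcπ : ∀ k, c ≫ WidePullback.π (fun _ => f) k = WidePullback.π (fun _ => i ≫ f) k ≫ i :=
    fun k => SymProd.fibPowMap_π (i ≫ f) d f i rfl k
  have hcb : c ≫ WidePullback.base (fun _ => f) = WidePullback.base (fun _ => i ≫ f) ≫ 𝟙 S := by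
    rw [Category.comp_id]; exact SymProd.fibPowMap_base (i ≫ f) d f i rfl
  haveI : IsClosedImmersion (pullback.lift i (i ≫ f) hw) := by
    haveI : IsClosedImmersion (pullback.lift i (i ≫ f) hw ≫ pullback.fst f (𝟙 S)) := by
      rw [pullback.lift_fst]; infer_instance
    exact IsClosedImmersion.of_comp_isClosedImmersion _ (pullback.fst f (𝟙 S))
  haveI := Groth.Agent.QuotScheme.epi hr.isQuot
  let μ := m ≫ K.subschemeι
  have hμ : r ≫ μ = c ≫ q := hm
  have wμ : μ ≫ g = gW ≫ 𝟙 S := by
    rw [← cancel_epi r, reassoc_of% hμ, hq.over, hcb, reassoc_of% hr.over]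
  refine ⟨fun w => ?_, fun hu => ?_, fun hflat => ?_⟩
  · have h1 := SymProdLib.residueFieldMap_compare_surjective hw hcπ hcb hq hr hμ wμ w
    refine SymProdLib.isIso_residueFieldMap m w ?_
    have h2 := SymProdLib.residueFieldMap_surjective_of_isPreimmersion (pullback.fst g (𝟙 S))
      (pullback.lift μ gW wμ w)
    have h3 : Function.Surjective ((pullback.lift μ gW wμ ≫ pullback.fst g (𝟙 S)).residueFieldMap w).hom := by
      rw [Scheme.residueFieldMap_comp]; exact h1.comp h2
    have h4 : ∀ φ, φ = μ → Function.Surjective ((Scheme.Hom.residueFieldMap φ w)).hom →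
        Function.Surjective (μ.residueFieldMap w).hom := by rintro _ rfl h; exact h
    have h5 := h4 _ (pullback.lift_fst _ _ _) h3
    rw [show μ = m ≫ K.subschemeι from rfl, Scheme.residueFieldMap_comp] at h5
    exact Function.Surjective.of_comp h5
  · have h1 := SymProdLib.isClosedImmersion_compare hw hcπ hcb hq hr hμ wμ (Or.inr hu)
    haveI hμc : IsClosedImmersion μ := by
      rw [← pullback.lift_fst (f := g) (g := 𝟙 S) μ gW wμ]; infer_instance
    haveI : IsAffineHom r := hr.isQuot.affine
    haveI : IsAffineHom (c ≫ q) := hμ ▸ inferInstance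
    refine IsClosedImmersion.isIso_of_ker_eq μ K.subschemeι m rfl ?_
    rw [Scheme.IdealSheafData.ker_subschemeι]
    refine Scheme.IdealSheafData.ext (funext fun U => ?_)
    have hK : K = (r ≫ μ).ker := by rw [hμ]
    rw [hK, Scheme.Hom.ker_apply, Scheme.Hom.ker_apply, Scheme.Hom.comp_app, CommRingCat.hom_comp]
    exact (RingHom.ker_comp_of_injective _ (hr.isQuot.injective _)).symm
  · have h1 := SymProdLib.isClosedImmersion_compare hw hcπ hcb hq hr hμ wμ (Or.inl hflat)
    haveI hμc : IsClosedImmersion (m ≫ K.subschemeι) := by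
      rw [show m ≫ K.subschemeι = μ from rfl, ← pullback.lift_fst (f := g) (g := 𝟙 S) μ gW wμ]; infer_instance
    exact IsClosedImmersion.of_comp_isClosedImmersion m K.subschemeι

end Groth.Agent.S13394
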