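import Groth.Statements.S13396
import Groth.Agent.DivPow.NormThm

set_option autoImplicit false
universe u
open scoped TensorProduct
open ZeroCyc

namespace Groth.Agent.S13396

/-- Let A be a commutative ring, B an A-algebra, d ≥ 0, and let (C, γ) be the degree-d divided power
algebra Γ^d_A(B) with its universal multiplicative law γ : B → C of degree d (every multiplicative
law of degree d out of B factors uniquely through γ). Let φ : Γ^d_A(B) → TS^d_A(B) be the canonical
homomorphism to the symmetric tensors, taken here as data characterised by: after any base change S,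
φ ∘ γ sends Σ_j s_j ⊗ b_j to Σ_{c : [d] → [n]} (∏_i s_{c(i)}) ⊗ (b_{c(1)} ⊗ ⋯ ⊗ b_{c(d)}), i.e. φ
corresponds to the law x ↦ x ⊗ ⋯ ⊗ x. Then some multiplicative polynomial law F from T^d_A(B) to
Γ^d_A(B) of degree d! has the property that φ(F(z)) = ∏_σ σ(z) in T^d_A(B) for every z ∈ T^d_A(B),
the product running over all permutations σ of the d tensor factors. (The published statement calls
F canonical; this row asserts the existence of such an F and describes the composite on elements of
T^d_A(B).) -/
theorem result {A B C : Type u} [CommRing A] [CommRing B] [Algebra A B] [CommRing C] [Algebra A C] (d : ℕ)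
    (γ : PolLaw.MulLaw A B C d) (hγ : PolLaw.IsGammaD γ) (φ : C →ₐ[A] SymTen.TS A B d)
    (hφ : ∀ (S : Type u) [CommSemiring S] [Algebra A S] (n : ℕ) (s : Fin n → S) (b : Fin n → B),
      ((SymTen.TS A B d).val.comp φ).toLinearMap.lTensor S (γ.law.toFun' S (∑ j, s j ⊗ₜ[A] b j)) =
        ∑ c : Fin d → Fin n, (∏ i, s (c i)) ⊗ₜ[A] PiTensorProduct.tprod A (fun i => b (c i))) :
    ∃ F : PolLaw.MulLaw A (⨂[A] _ : Fin d, B) C d.factorial,
      ∀ z : ⨂[A] _ : Fin d, B, ((SymTen.TS A B d).val (φ (F.law.ground z)) : ⨂[A] _ : Fin d, B) =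
        ∏ σ : Equiv.Perm (Fin d), SymTen.perm A B d σ z := by
  have hc := DivPow.postcomp_eq_tpowLaw γ φ hφ
  obtain ⟨F, hF, -⟩ := DivPow.exists_norm_law γ φ hc
  refine ⟨F, fun z => ?_⟩
  have h1 := congrFun (congrArg (fun L : (⨂[A] _ : Fin d, B) →ₚₗ[A] (⨂[A] _ : Fin d, B) => L.ground) hF) z
  simp only [PolynomialLaw.ground, Function.comp_apply] at h1
  have h2 : ∀ w : A ⊗[A] C, TensorProduct.lid A (⨂[A] _ : Fin d, B) (((SymTen.TS A B d).val.comp φ).toLinearMap.lTensor A w) =
      ((SymTen.TS A B d).val.comp φ) (TensorProduct.lid A C w) := fun w => by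
    induction w using TensorProduct.induction_on with
    | zero => simp
    | tmul a c => simp
    | add a b ha hb => simp only [map_add, ha, hb]
  refine (h2 _).symm.trans (h1.trans ?_)
  rw [DivPow.symmLaw_apply, TensorProduct.lid_symm_apply]
  simp only [Algebra.TensorProduct.map_tmul, AlgHom.id_apply]
  rw [DivPow.prod_tmul, Finset.prod_const_one, TensorProduct.lid_tmul, one_smul]

end Groth.Agent.S13396
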