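import Groth.Statements.S13398
import Groth.Agent.DivPow.NormThm

set_option autoImplicit false
universe u
open scoped TensorProduct
open ZeroCyc

namespace Groth.Agent.S13398

/-- Let A be a commutative ring, B an A-algebra, d ≥ 0, and let (C, γ) be the degree-d divided power
algebra Γ^d_A(B) with its universal multiplicative law γ : B → C of degree d (every multiplicative
law of degree d out of B factors uniquely through γ). Let φ : Γ^d_A(B) → TS^d_A(B) be the canonical
homomorphism to the symmetric tensors, taken here as data characterised by: after any base change S,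
φ ∘ γ sends Σ_j s_j ⊗ b_j to Σ_{c : [d] → [n]} (∏_i s_{c(i)}) ⊗ (b_{c(1)} ⊗ ⋯ ⊗ b_{c(d)}), i.e. φ
corresponds to the law x ↦ x ⊗ ⋯ ⊗ x. Then x^{d!} = 0 for every x in the kernel of φ, and y^{d!}
lies in the image of φ for every symmetric tensor y ∈ TS^d_A(B). -/
theorem result {A B C : Type u} [CommRing A] [CommRing B] [Algebra A B] [CommRing C] [Algebra A C] (d : ℕ)
    (γ : PolLaw.MulLaw A B C d) (hγ : PolLaw.IsGammaD γ) (φ : C →ₐ[A] SymTen.TS A B d)
    (hφ : ∀ (S : Type u) [CommSemiring S] [Algebra A S] (n : ℕ) (s : Fin n → S) (b : Fin n → B),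
      ((SymTen.TS A B d).val.comp φ).toLinearMap.lTensor S (γ.law.toFun' S (∑ j, s j ⊗ₜ[A] b j)) =
        ∑ c : Fin d → Fin n, (∏ i, s (c i)) ⊗ₜ[A] PiTensorProduct.tprod A (fun i => b (c i))) :
    (∀ x : C, φ x = 0 → x ^ d.factorial = 0) ∧
      (∀ y : SymTen.TS A B d, y ^ d.factorial ∈ φ.range) := by
  obtain ⟨F, h1, h2⟩ := DivPow.exists_pow_law γ φ (DivPow.postcomp_eq_tpowLaw γ φ hφ) hγ
  have e1 : ∀ y : SymTen.TS A B d, φ (F.law.ground y) = y ^ d.factorial := fun y => by
    have h := congrArg (fun G : PolLaw.MulLaw A (SymTen.TS A B d) (SymTen.TS A B d) d.factorial => G.law.ground y) h1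
    simp only [PolynomialLaw.ground, Function.comp_apply] at h
    have h2 : ∀ w : A ⊗[A] C, TensorProduct.lid A (SymTen.TS A B d) (φ.toLinearMap.lTensor A w) = φ (TensorProduct.lid A C w) := fun w => by
      induction w using TensorProduct.induction_on with
      | zero => simp
      | tmul a c => simp
      | add a b ha hb => simp only [map_add, ha, hb]
    refine (h2 _).symm.trans (h.trans ?_)
    show TensorProduct.lid A _ (((1 : A) ⊗ₜ[A] y) ^ d.factorial) = _
    rw [Algebra.TensorProduct.tmul_pow, one_pow, TensorProduct.lid_tmul, one_smul]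
  have e2 : ∀ x : C, F.law.ground (φ x) = x ^ d.factorial := fun x => by
    have h := congrArg (fun G : PolLaw.MulLaw A C C d.factorial => G.law.ground x) h2
    simp only [PolynomialLaw.ground, Function.comp_apply] at h
    refine Eq.trans ?_ (h.trans ?_)
    · show TensorProduct.lid A C (F.law.toFun' A ((TensorProduct.lid A (SymTen.TS A B d)).symm (φ x))) =
        TensorProduct.lid A C (F.law.toFun' A (φ.toLinearMap.lTensor A ((TensorProduct.lid A C).symm x)))
      rfl
    · show TensorProduct.lid A _ (((1 : A) ⊗ₜ[A] x) ^ d.factorial) = _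
      rw [Algebra.TensorProduct.tmul_pow, one_pow, TensorProduct.lid_tmul, one_smul]
  refine ⟨fun x hx => ?_, fun y => ⟨F.law.ground y, e1 y⟩⟩
  have h := F.homog A 0 ((1 : A) ⊗ₜ[A] (0 : SymTen.TS A B d))
  rw [zero_smul, zero_pow (Nat.factorial_ne_zero d), zero_smul] at h
  rw [← e2 x, hx, PolynomialLaw.ground_apply, TensorProduct.tmul_zero, h, map_zero]

end Groth.Agent.S13398
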