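import Groth.Statements.S13402
import Mathlib.RingTheory.Bialgebra.Hom
import Mathlib.RingTheory.HopfAlgebra.Convolution
import Mathlib.RingTheory.Flat.Basic
import Mathlib.Algebra.Category.Ring.Epi

set_option autoImplicit false
universe u v w
open Hopf

namespace Groth.Agent.S13402

/-- Let k be a field and let A and B be finite-dimensional commutative and cocommutative Hopf algebras
over k (finite commutative k-group schemes G = Spec A and H = Spec B). Let f : B → A be a bialgebra
map (a homomorphism G → H) which is injective and such that the ideal of A generated by the image of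
the augmentation ideal of B is the augmentation ideal of A (the homomorphism G → H has trivial
kernel). Then f is bijective, so G → H is an isomorphism; this is what makes the category of finite
commutative k-group schemes abelian. -/
theorem result (k : Type u) [Field k] (A : Type v) (B : Type w)
    [CommRing A] [HopfAlgebra k A] [Module.Finite k A] [Coalgebra.IsCocomm k A]
    [CommRing B] [HopfAlgebra k B] [Module.Finite k B] [Coalgebra.IsCocomm k B]
    (f : B →ₐc[k] A) (hinj : Function.Injective f)
    (hker : Ideal.map f (RingHom.ker (Bialgebra.counitAlgHom k B)) = RingHom.ker (Bialgebra.counitAlgHom k A)) :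
    Function.Bijective f := by
  classical
  refine ⟨hinj, ?_⟩
  letI : Algebra B A := (f : B →ₐ[k] A).toRingHom.toAlgebra
  haveI : IsScalarTower k B A := IsScalarTower.of_algebraMap_eq fun x => ((f : B →ₐ[k] A).commutes x).symm
  haveI : Module.Finite B A := Module.Finite.of_restrictScalars_finite k B A
  suffices Algebra.IsEpi B A from Algebra.isEpi_iff_surjective_algebraMap_of_finite.mp this
  open TensorProduct in
  rw [Algebra.isEpi_iff_forall_one_tmul_eq]
  open TensorProduct in
  intro x
  open TensorProduct in
  let iL : A →ₐ[k] A ⊗[B] A := Algebra.TensorProduct.includeLeft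
  open TensorProduct in
  let iR : A →ₐ[k] A ⊗[B] A := (Algebra.TensorProduct.includeRight (R := B) (A := A) (B := A)).restrictScalars k
  let S : A →ₐ[k] A := HopfAlgebra.antipodeAlgHom k A
  open TensorProduct in
  let K : A →ₐ[k] A ⊗[B] A :=
    (Algebra.TensorProduct.lift (iL.comp S) iR fun _ _ => .all _ _).comp (Bialgebra.comulAlgHom k A)
  have hKf : ∀ b : B, K (f b) = algebraMap k _ (Coalgebra.counit (R := k) b) := by
    intro b
    open TensorProduct in
    have e : ∀ z : B ⊗[k] B, Algebra.TensorProduct.lift (iL.comp S) iR (fun _ _ => .all _ _)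
        (TensorProduct.map (f : B →ₗc[k] A).toLinearMap (f : B →ₗc[k] A).toLinearMap z) =
        iL (LinearMap.mul' k A ((HopfAlgebra.antipode k).rTensor A
          (TensorProduct.map (f : B →ₗc[k] A).toLinearMap (f : B →ₗc[k] A).toLinearMap z))) := by
      intro z
      induction z using TensorProduct.induction_on with
      | zero => simp
      | add y z hy hz => simp only [map_add, hy, hz]
      | tmul p q =>
        simp only [TensorProduct.map_tmul, LinearMap.rTensor_tmul, LinearMap.mul'_apply,
          Algebra.TensorProduct.lift_tmul, AlgHom.comp_apply, map_mul]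
        congr 1
        show ((1 : A) ⊗ₜ[B] (algebraMap B A q)) = (algebraMap B A q) ⊗ₜ[B] (1 : A)
        rw [Algebra.algebraMap_eq_smul_one, TensorProduct.smul_tmul]
    have h1 : Bialgebra.comulAlgHom k A (f b) =
        TensorProduct.map (f : B →ₗc[k] A).toLinearMap (f : B →ₗc[k] A).toLinearMap (Coalgebra.comul b) :=
      (CoalgHomClass.map_comp_comul_apply f b).symm
    rw [show K (f b) = Algebra.TensorProduct.lift (iL.comp S) iR (fun _ _ => .all _ _)
      (Bialgebra.comulAlgHom k A (f b)) from rfl, h1, e, ← h1, Bialgebra.comulAlgHom_apply,
      HopfAlgebra.mul_antipode_rTensor_comul_apply, CoalgHomClass.counit_comp_apply, AlgHom.commutes]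
  have hK : ∀ y : A, K y = algebraMap k _ (Coalgebra.counit (R := k) y) := by
    let E : A →ₐ[k] _ := (Algebra.ofId k (TensorProduct B A A)).comp (Bialgebra.counitAlgHom k A)
    have h0 : ∀ y ∈ RingHom.ker (Bialgebra.counitAlgHom k A), K y = 0 := by
      intro y hy
      rw [← hker] at hy
      refine Submodule.span_induction (fun z hz => ?_) (map_zero K) (fun _ _ _ _ h1 h2 => by rw [map_add, h1, h2, add_zero])
        (fun c z _ h => by rw [smul_eq_mul, map_mul, h, mul_zero]) hy
      obtain ⟨b, hb, rfl⟩ := hz
      rw [hKf, show Coalgebra.counit (R := k) b = (0 : k) from hb, map_zero]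
    intro y
    have := h0 (y - algebraMap k A (Coalgebra.counit (R := k) y)) (by simp [RingHom.mem_ker])
    rwa [map_sub, AlgHom.commutes, sub_eq_zero] at this
  open TensorProduct in
  let Φ : A ⊗[k] (A ⊗[k] A) →ₐ[k] A ⊗[B] A :=
    Algebra.TensorProduct.lift iL (Algebra.TensorProduct.lift (iL.comp S) iR fun _ _ => .all _ _) fun _ _ => .all _ _
  open TensorProduct in
  have h2 : ∀ z : A ⊗[k] A, Φ (TensorProduct.assoc k A A A ((Coalgebra.comul (R := k) (A := A)).rTensor A z)) =
      iR (TensorProduct.lid k A ((Coalgebra.counit (R := k) (A := A)).rTensor A z)) := by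
    intro z
    induction z using TensorProduct.induction_on with
    | zero => simp
    | add y z hy hz => simp only [map_add, hy, hz]
    | tmul p q =>
      have e : ∀ w : A ⊗[k] A, Φ (TensorProduct.assoc k A A A (w ⊗ₜ[k] q)) =
          iL (LinearMap.mul' k A ((HopfAlgebra.antipode k).lTensor A w)) * iR q := by
        intro w
        induction w using TensorProduct.induction_on with
        | zero => simp
        | add y z hy hz => simp only [TensorProduct.add_tmul, map_add, add_mul, hy, hz]
        | tmul r s => simp [Φ, S, mul_assoc]
      rw [LinearMap.rTensor_tmul, e, HopfAlgebra.mul_antipode_lTensor_comul_apply, AlgHom.commutes,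
        LinearMap.rTensor_tmul, TensorProduct.lid_tmul, map_smul, Algebra.smul_def]
  open TensorProduct in
  have h3 : ∀ z : A ⊗[k] A, Φ ((Coalgebra.comul (R := k) (A := A)).lTensor A z) =
      iL (TensorProduct.rid k A ((Coalgebra.counit (R := k) (A := A)).lTensor A z)) := by
    intro z
    induction z using TensorProduct.induction_on with
    | zero => simp
    | add y z hy hz => simp only [map_add, hy, hz]
    | tmul p q =>
      rw [LinearMap.lTensor_tmul, show Φ (p ⊗ₜ[k] Coalgebra.comul q) = iL p * K q from
        Algebra.TensorProduct.lift_tmul _ _ _ _ _, hK, LinearMap.lTensor_tmul, TensorProduct.rid_tmul, map_smul,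
        Algebra.smul_def, mul_comm]
  have h4 := h2 (Coalgebra.comul x)
  rw [Coalgebra.coassoc_apply, h3, Coalgebra.lTensor_counit_comul, Coalgebra.rTensor_counit_comul] at h4
  simpa [iL, iR] using h4.symm

end Groth.Agent.S13402
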