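import Groth.Statements.S13403
import Groth.Agent.FontLift.Gens

set_option autoImplicit false
set_option backward.isDefEq.respectTransparency false
set_option linter.style.haveILetI false
universe u v w
open Font

namespace Groth.Agent.S13403

/-- Let O be a complete discrete valuation ring with fraction field of characteristic zero and residue
characteristic p, and let A be an O-algebra isomorphic to a quotient O[[x_1, ..., x_m]]/(f_1, ...,
f_m) of a power series ring in m variables by m power series, with A finite and flat over O. Suppose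
a is a non-zero element of O such that the module of Kähler differentials of A over O is a free
module over A/aA (so a kills it). Let S be a finite flat O-algebra and I an ideal of S equipped with
a divided power structure which is topologically nilpotent: the divided-power ideals of I (generated
by the products of divided powers of elements of I of total degree at least n) have zero
intersection over all n. Then (1) two O-algebra maps A → S which agree modulo I are equal, and (2)
an O-algebra map A → S/I lifts to an O-algebra map A → S if and only if it lifts to an O-algebra map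
A → S/aI. (The published statement asserts only (2); (1) is the uniqueness its proof establishes.) -/
theorem result (O : Type u) [CommRing O] [IsDomain O] [IsDiscreteValuationRing O]
    [IsAdicComplete (IsLocalRing.maximalIdeal O) O] [CharZero O] (p : ℕ) [Fact p.Prime]
    (hp : (p : O) ∈ IsLocalRing.maximalIdeal O)
    (m : ℕ) (f : Fin m → MvPowerSeries (Fin m) O) (A : Type v) [CommRing A] [Algebra O A]
    (e : (MvPowerSeries (Fin m) O ⧸ Ideal.span (Set.range f)) ≃ₐ[O] A)
    [Module.Finite O A] [Module.Flat O A] (a : O) (ha : a ≠ 0) (r : ℕ)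
    (hΩ : Nonempty (KaehlerDifferential O A ≃ₗ[A] (Fin r → A ⧸ Ideal.span {algebraMap O A a})))
    (S : Type w) [CommRing S] [Algebra O S] [Module.Finite O S] [Module.Flat O S]
    (I : Ideal S) (hI : DividedPowers I) (htn : W4c1noabschz1.IsDPTopNilpotent hI) :
    Function.Injective (fun χ : A →ₐ[O] S => (Ideal.Quotient.mkₐ O I).comp χ) ∧
      Set.range (fun χ : A →ₐ[O] S => (Ideal.Quotient.mkₐ O I).comp χ) =
        Set.range (fun ψ : A →ₐ[O] (S ⧸ Ideal.span {algebraMap O S a} * I) =>
          (Ideal.Quotient.factorₐ O (Ideal.mul_le_right (I := Ideal.span {algebraMap O S a}) (J := I))).comp ψ) := by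
  classical
  let π' : (A →ₐ[O] S) → (A →ₐ[O] S ⧸ I) := fun χ => (Ideal.Quotient.mkₐ O I).comp χ
  let αI : Ideal S := Ideal.span {algebraMap O S a} * I
  have hαI : αI ≤ I := Ideal.mul_le_right
  have hle : Set.range π' ⊆ Set.range
      (fun ψ : A →ₐ[O] (S ⧸ αI) => (Ideal.Quotient.factorₐ O hαI).comp ψ) := by
    rintro _ ⟨χ, rfl⟩
    exact ⟨(Ideal.Quotient.mkₐ O αI).comp χ, AlgHom.ext fun x => rfl⟩
  rcases subsingleton_or_nontrivial A with hA | hA
  · refine ⟨fun χ χ' _ => AlgHom.ext fun x => by rw [Subsingleton.elim x 0, map_zero, map_zero],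
      Set.Subset.antisymm hle ?_⟩
    rintro _ ⟨ψ, rfl⟩
    have h1 : (1 : S) ∈ αI := by
      rw [← Ideal.Quotient.eq_zero_iff_mem, map_one, ← map_one ψ, Subsingleton.elim (1 : A) 0, map_zero]
    have hS : Subsingleton S := by
      refine subsingleton_of_zero_eq_one (Eq.symm ?_)
      rw [← Ideal.mem_bot, ← htn, Ideal.mem_iInf]
      exact fun n => Ideal.subset_span ⟨n, fun _ => 1, fun _ => 1, fun _ => hαI h1, by simp,
        by simp [hI.dpow_one (hαI h1)]⟩
    haveI := hS
    let χ : A →ₐ[O] S :=
      { toFun := fun _ => 0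
        map_one' := Subsingleton.elim _ _
        map_mul' := fun _ _ => Subsingleton.elim _ _
        map_zero' := rfl
        map_add' := fun _ _ => Subsingleton.elim _ _
        commutes' := fun _ => Subsingleton.elim _ _ }
    exact ⟨χ, AlgHom.ext fun x => by rw [Subsingleton.elim x 0, map_zero, map_zero]⟩
  · let q : MvPowerSeries (Fin m) O →ₐ[O] A := e.toAlgHom.comp (Ideal.Quotient.mkₐ O (Ideal.span (Set.range f)))
    have hq : Function.Surjective q := e.surjective.comp Ideal.Quotient.mk_surjective
    haveI : IsLocalRing A := IsLocalRing.of_surjective' q.toRingHom hq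
    haveI : IsLocalHom q.toRingHom := .of_surjective _ hq
    have hker : ∀ x, q x = 0 → x ∈ Ideal.span (Set.range f) := fun x hx => by
      rw [← Ideal.Quotient.eq_zero_iff_mem]
      exact e.injective (hx.trans (map_zero e).symm)
    have hqf : ∀ i, q (f i) = 0 := fun i => by
      have hfi : f i ∈ Ideal.span (Set.range f) := Ideal.subset_span ⟨i, rfl⟩
      show e (Ideal.Quotient.mk (Ideal.span (Set.range f)) (f i)) = 0
      rw [Ideal.Quotient.eq_zero_iff_mem.2 hfi, map_zero]
    have hX : ∀ k, q (MvPowerSeries.X k) ∈ IsLocalRing.maximalIdeal A := fun k hu => by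
      have := IsUnit.of_map q.toRingHom (MvPowerSeries.X k) hu
      rw [MvPowerSeries.isUnit_iff_constantCoeff, MvPowerSeries.constantCoeff_X] at this
      exact not_isUnit_zero this
    have hres : ∀ x : A, ∃ c : O, x - algebraMap O A c ∈ IsLocalRing.maximalIdeal A := by
      intro x
      obtain ⟨Φ, rfl⟩ := hq x
      refine ⟨MvPowerSeries.constantCoeff Φ, fun hu => ?_⟩
      rw [← AlgHom.commutes q, ← map_sub] at hu
      have := IsUnit.of_map q.toRingHom _ hu
      rw [MvPowerSeries.isUnit_iff_constantCoeff, map_sub, MvPowerSeries.algebraMap_apply,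
        MvPowerSeries.constantCoeff_C] at this
      simp at this
    have hne : Groth.Agent.FontLift.mS O A ≠ ⊤ := by
      intro htop
      refine absurd ?_ (not_subsingleton A)
      have h : (⊤ : Submodule O A) = ⊥ := by
        refine Submodule.eq_bot_of_le_smul_of_le_jacobson_bot _ _ Module.Finite.fg_top ?_
          (IsLocalRing.maximalIdeal_le_jacobson ⊥)
        rw [Ideal.smul_top_eq_map, show (IsLocalRing.maximalIdeal O).map (algebraMap O A) = ⊤ from htop,
          Submodule.restrictScalars_top]
      exact (Submodule.subsingleton_iff O).1 (subsingleton_of_bot_eq_top h.symm)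
    have hregA : ∀ x : A, algebraMap O A a * x = 0 → x = 0 := fun x hx => by
      rw [← Algebra.smul_def] at hx
      exact (smul_eq_zero.1 hx).resolve_left ha
    have hregS : ∀ x : S, algebraMap O S a * x = 0 → x = 0 := fun x hx => by
      rw [← Algebra.smul_def] at hx
      exact (smul_eq_zero.1 hx).resolve_left ha
    obtain ⟨eΩ⟩ := hΩ
    obtain ⟨y, hy, hsurj, hkill, hbasis⟩ := Groth.Agent.FontLift.exists_gens a r eΩ hne hres
    obtain ⟨P, hP⟩ := Groth.Agent.FontLift.exists_pres a hregA f q hq hker hqf hX hne y hy hsurj hkill hbasis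
    let π := MvPolynomial.aeval (R := O) y
    have hpt : ∀ χ : A →ₐ[O] S, ∀ g, MvPolynomial.aeval (fun j => χ (y j)) g = χ (π g) := fun χ g => by
      rw [← AlgHom.comp_apply]
      exact DFunLike.congr_fun (MvPolynomial.algHom_ext fun j => by simp [π]) g
    have hK : ∀ g, g ∈ P.K ↔ π g = 0 := fun g => by rw [hP, RingHom.mem_ker]
    refine ⟨fun χ χ' h => ?_, Set.Subset.antisymm hle ?_⟩
    · have hj : ∀ j, χ' (y j) - χ (y j) ∈ I := fun j =>
        Ideal.Quotient.eq.1 (DFunLike.congr_fun h (y j)).symm
      have := P.point_unique hI htn hregS (s := fun j => χ (y j)) (t := fun j => χ' (y j))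
        (fun g hg => by rw [hpt, (hK g).1 hg, map_zero]) (fun g hg => by rw [hpt, (hK g).1 hg, map_zero]) hj
      refine AlgHom.ext fun x => ?_
      obtain ⟨g, rfl⟩ := hsurj x
      rw [← hpt χ, ← hpt χ', this]
    · rintro _ ⟨ψ, rfl⟩
      choose s hs using fun j => Ideal.Quotient.mk_surjective (ψ (y j))
      have hψ : ∀ g, Ideal.Quotient.mk αI (MvPolynomial.aeval s g) = ψ (π g) := fun g => by
        show ((Ideal.Quotient.mkₐ O αI).comp (MvPolynomial.aeval s)) g = (ψ.comp π) g
        exact DFunLike.congr_fun (MvPolynomial.algHom_ext fun j => by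
          simp only [AlgHom.comp_apply, π, MvPolynomial.aeval_X, Ideal.Quotient.mkₐ_eq_mk]
          refine (hs j).trans ?_
          show ψ (y j) = ψ (MvPolynomial.aeval y (MvPolynomial.X j))
          rw [MvPolynomial.aeval_X]) g
      have hgood : P.Good (W4c1noabschz1.dpPow hI 1) s := fun g hg => by
        rw [Groth.Agent.FontLift.dpPow_one_eq hI]
        show MvPolynomial.aeval s g ∈ αI
        rw [← Ideal.Quotient.eq_zero_iff_mem, hψ, (hK g).1 hg, map_zero]
      obtain ⟨t, hts, ht⟩ := P.exists_point hI htn hgood
      have hle' : RingHom.ker π ≤ RingHom.ker (MvPolynomial.aeval (R := O) t) := fun g hg =>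
        ht g ((hK g).2 hg)
      let χ : A →ₐ[O] S := (Ideal.Quotient.liftₐ (RingHom.ker π) (MvPolynomial.aeval (R := O) t)
        fun g hg => RingHom.mem_ker.1 (hle' hg)).comp (Ideal.quotientKerAlgEquivOfSurjective hsurj).symm.toAlgHom
      refine ⟨χ, AlgHom.ext fun x => ?_⟩
      obtain ⟨g, rfl⟩ := hsurj x
      have hχ : χ (π g) = MvPolynomial.aeval t g := by
        have hE : (Ideal.quotientKerAlgEquivOfSurjective hsurj).symm (π g) =
            Ideal.Quotient.mk (RingHom.ker π) g := by
          rw [AlgEquiv.symm_apply_eq]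
          rfl
        simp only [χ, AlgHom.comp_apply, AlgEquiv.coe_toAlgHom]
        exact (congrArg _ hE).trans rfl
      show Ideal.Quotient.mk I (χ (π g)) = Ideal.Quotient.factor hαI (ψ (π g))
      rw [hχ, ← hψ, Ideal.Quotient.factor_mk, Ideal.Quotient.eq]
      exact Groth.Agent.FontLift.aeval_congr I hts g

end Groth.Agent.S13403
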