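import Groth.Statements.S13404
import Groth.Agent.Hensel.Local

set_option autoImplicit false
universe u v
open Hopf

open scoped TensorProduct

namespace Groth.Agent.S13404

theorem henselian_of_equiv {S : Type*} {T : Type*} [CommRing S] [CommRing T] (φ : S ≃+* T)
    [HenselianLocalRing S] : HenselianLocalRing T := by
  haveI : IsLocalRing T := φ.isLocalRing
  have hm : ∀ t : T, t ∈ IsLocalRing.maximalIdeal T ↔ φ.symm t ∈ IsLocalRing.maximalIdeal S := fun t => by
    simp only [IsLocalRing.mem_maximalIdeal, mem_nonunits_iff]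
    exact not_congr ⟨fun h => h.map φ.symm, fun h => by simpa using h.map φ⟩
  refine ⟨fun f hf a₀ h₁ h₂ => ?_⟩
  have hev : ∀ (g : Polynomial T) (t : T),
      (g.map (φ.symm : T →+* S)).eval (φ.symm t) = φ.symm (g.eval t) := fun g t => by
    rw [← RingEquiv.coe_toRingHom, Polynomial.eval_map, Polynomial.eval₂_hom]
  obtain ⟨a, ha, ha'⟩ := HenselianLocalRing.is_henselian (f.map (φ.symm : T →+* S)) (hf.map _) (φ.symm a₀)
    (by rw [hev]; exact (hm _).1 h₁)
    (by rw [Polynomial.derivative_map, hev]; exact h₂.map φ.symm)
  refine ⟨φ a, ?_, ?_⟩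
  · have := hev f (φ a)
    rw [RingEquiv.symm_apply_apply, ha.eq_zero] at this
    exact (φ.symm.map_eq_zero_iff).1 this.symm
  · rw [hm, map_sub, RingEquiv.symm_apply_apply]
    exact ha' 

/-- Let R be a henselian local ring and G = Spec A a finite flat group scheme over R (A a commutative
Hopf algebra over R, finite and flat as an R-module; G need not be commutative). Let e be an
idempotent of A on which the counit takes the value 1 and such that A/(1 - e) is a local ring, so
that Spec A/(1 - e) is the connected component G⁰ of G containing the unit section. Then the ideal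
(1 - e) is a Hopf ideal (G⁰ is a closed subgroup scheme of G), A/(1 - e) is a henselian local ring
with the same residue field as R (the composite R → A/(1 - e) → residue field is surjective), and
A/(1 - e) is flat over R. (The published statement also asserts that G⁰ is normal in G; this row
does not state normality.) -/
theorem result (R : Type u) [CommRing R] [HenselianLocalRing R]
    (A : Type v) [CommRing A] [HopfAlgebra R A] [Module.Finite R A] [Module.Flat R A]
    (e : A) (he : IsIdempotentElem e) (hε : Bialgebra.counitAlgHom R A e = 1)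
    [IsLocalRing (A ⧸ Ideal.span ({1 - e} : Set A))] :
    (Ideal.span ({1 - e} : Set A)).IsHopfIdeal R ∧ HenselianLocalRing (A ⧸ Ideal.span ({1 - e} : Set A)) ∧
      Function.Surjective (⇑(IsLocalRing.residue (A ⧸ Ideal.span ({1 - e} : Set A))) ∘ ⇑(algebraMap R (A ⧸ Ideal.span ({1 - e} : Set A)))) ∧
      Module.Flat R (A ⧸ Ideal.span ({1 - e} : Set A)) := by
  set I := Ideal.span ({1 - e} : Set A) with hI
  let π : A →ₐ[R] A ⧸ I := Ideal.Quotient.mkₐ R I
  have hπe : π e = 1 := by
    refine (Ideal.Quotient.eq (I := I) (x := e) (y := 1)).2 ?_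
    rw [← neg_sub]
    exact I.neg_mem (Ideal.subset_span rfl)
  have hεI : I ≤ RingHom.ker (Bialgebra.counitAlgHom R A) := by
    refine Ideal.span_le.2 (Set.singleton_subset_iff.2 ?_)
    rw [SetLike.mem_coe, RingHom.mem_ker, map_sub, map_one, hε, sub_self]
  let ε0 : (A ⧸ I) →ₐ[R] R := Ideal.Quotient.liftₐ I (Bialgebra.counitAlgHom R A) fun a ha => hεI ha
  have hε0 : ∀ a : A, ε0 (π a) = Bialgebra.counitAlgHom R A a := fun a => rfl
  haveI : Module.Finite R (A ⧸ I) := Module.Finite.of_surjective π.toLinearMap Ideal.Quotient.mk_surjective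
  have hm : ∀ x : A ⧸ I, ε0 x = 0 → x ∈ IsLocalRing.maximalIdeal (A ⧸ I) := by
    intro x hx
    rw [IsLocalRing.mem_maximalIdeal, mem_nonunits_iff]
    intro hu
    have := hu.map ε0
    rw [hx] at this
    exact not_isUnit_zero this
  let T := (A ⧸ I) ⊗[R] (A ⧸ I)
  haveI : Algebra.IsIntegral (A ⧸ I) T := inferInstance
  haveI : Algebra.IsIntegral R T := inferInstance
  have hone : ∀ q : T, IsIdempotentElem q →
      Algebra.TensorProduct.lift ε0 ε0 (fun _ _ => Commute.all _ _) q = 1 → q = 1 := by
    intro q hq hq1
    have hmem : 1 - q ∈ (⊥ : Ideal T).jacobson := by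
      rw [Ideal.jacobson, Ideal.mem_sInf]
      rintro M ⟨-, hM⟩
      haveI := hM
      have hside : ∀ (ψ : (A ⧸ I) →ₐ[R] T), ψ.toRingHom.IsIntegral → ∀ a : A ⧸ I,
          ψ a - algebraMap R T (ε0 a) ∈ M := by
        intro ψ hψ a
        haveI := Ideal.isMaximal_comap_of_isIntegral_of_isMaximal' ψ.toRingHom hψ M
        have h1 : a - algebraMap R (A ⧸ I) (ε0 a) ∈ M.comap ψ.toRingHom := by
          rw [IsLocalRing.eq_maximalIdeal this]
          exact hm _ (by rw [map_sub, AlgHom.commutes]; simp)
        rw [Ideal.mem_comap, map_sub] at h1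
        simpa using h1
      have key : ∀ t : T, t - algebraMap R T
          (Algebra.TensorProduct.lift ε0 ε0 (fun _ _ => Commute.all _ _) t) ∈ M := by
        intro t
        induction t using TensorProduct.induction_on with
        | zero => simp
        | add x y hx hy =>
          rw [map_add, map_add, add_sub_add_comm]
          exact add_mem hx hy
        | tmul a b =>
          have hl := hside Algebra.TensorProduct.includeLeft
            (RingHom.IsIntegral.tower_top (algebraMap R (A ⧸ I)) _
              (by rw [AlgHom.toRingHom_eq_coe, AlgHom.comp_algebraMap]; exact Algebra.IsIntegral.isIntegral)) a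
          have hr := hside Algebra.TensorProduct.includeRight
            (RingHom.IsIntegral.tower_top (algebraMap R (A ⧸ I)) _
              (by rw [AlgHom.toRingHom_eq_coe, AlgHom.comp_algebraMap]; exact Algebra.IsIntegral.isIntegral)) b
          rw [Algebra.TensorProduct.lift_tmul, map_mul,
            show (a ⊗ₜ[R] b : T) = (Algebra.TensorProduct.includeLeft : _ →ₐ[R] T) a *
              Algebra.TensorProduct.includeRight b by simp]
          rw [show ∀ u v u' v' : T, u * v - u' * v' = u * (v - v') + (u - u') * v' from fun _ _ _ _ => by ring]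
          exact add_mem (M.mul_mem_left _ hr) (M.mul_mem_right _ hl)
      have := key q
      rw [hq1, map_one] at this
      rw [← neg_sub]
      exact M.neg_mem this
    have hu : IsUnit q := by
      have h := Ideal.mem_jacobson_bot.1 hmem (-1)
      rwa [show (1 - q) * -1 + 1 = q by ring] at h
    exact (IsIdempotentElem.iff_eq_one_of_isUnit hu).1 hq
  have hS : π (HopfAlgebra.antipodeAlgHom R A e) = 1 := by
    set q := π (HopfAlgebra.antipodeAlgHom R A e) with hqdef
    have hq : IsIdempotentElem q := (he.map (HopfAlgebra.antipodeAlgHom R A)).map π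
    have h1 : ε0 q = 1 := by
      rw [hqdef, hε0, Bialgebra.counitAlgHom_apply, HopfAlgebra.antipodeAlgHom_apply,
        HopfAlgebra.counit_antipode, ← Bialgebra.counitAlgHom_apply, hε]
    have hu : IsUnit q := by
      by_contra hn
      have := (IsLocalRing.isUnit_or_isUnit_of_add_one (a := q) (b := 1 - q) (by ring)).resolve_left hn
      have h2 := this.map ε0
      rw [map_sub, map_one, h1, sub_self] at h2
      haveI : Nontrivial R := inferInstance
      exact not_isUnit_zero h2
    exact (IsIdempotentElem.iff_eq_one_of_isUnit hu).1 hq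
  have hD : Algebra.TensorProduct.map π π (Bialgebra.comulAlgHom R A e) = 1 := by
    refine hone _ ((he.map (Bialgebra.comulAlgHom R A)).map _) ?_
    have key : ∀ t : A ⊗[R] A, Algebra.TensorProduct.lift ε0 ε0 (fun _ _ => Commute.all _ _)
        (Algebra.TensorProduct.map π π t) = Coalgebra.counit (R := R)
          (TensorProduct.rid R A ((Coalgebra.counit (R := R)).lTensor A t)) := by
      intro t
      induction t using TensorProduct.induction_on with
      | zero => simp
      | tmul a b => simp [hε0, mul_comm]
      | add x y hx hy => simp only [map_add, hx, hy]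
    rw [key, Bialgebra.comulAlgHom_apply, Coalgebra.lTensor_counit_comul, TensorProduct.rid_tmul, one_smul,
      ← Bialgebra.counitAlgHom_apply, hε]
  refine ⟨?_, ?_, ?_, ?_⟩
  · have hψ : I ≤ RingHom.ker ((Algebra.TensorProduct.map π π).comp (Bialgebra.comulAlgHom R A)) := by
      refine Ideal.span_le.2 (Set.singleton_subset_iff.2 ?_)
      rw [SetLike.mem_coe, RingHom.mem_ker, map_sub, map_one, AlgHom.comp_apply, hD, sub_self]
    have hS' : I ≤ I.comap (HopfAlgebra.antipodeAlgHom R A) := by
      refine Ideal.span_le.2 (Set.singleton_subset_iff.2 ?_)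
      rw [SetLike.mem_coe, Ideal.mem_comap, ← Ideal.Quotient.eq_zero_iff_mem, map_sub, map_one, map_sub, map_one]
      exact sub_eq_zero.2 hS.symm
    exact { toIsCoideal := ⟨fun x hx => hεI hx, fun x hx => hψ hx⟩, antipode_mem := fun x hx => hS' hx }
  · haveI : Small.{u} (A ⧸ I) := Module.Finite.small.{u} R _
    let φ : Shrink.{u} (A ⧸ I) ≃ₐ[R] (A ⧸ I) := (equivShrink (A ⧸ I)).symm.algEquiv R
    haveI : IsLocalRing (Shrink.{u} (A ⧸ I)) := φ.symm.toRingEquiv.isLocalRing
    haveI : Module.Finite R (Shrink.{u} (A ⧸ I)) := Module.Finite.equiv φ.symm.toLinearEquiv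
    haveI := Hensel.henselianLocalRing_finite R (Shrink.{u} (A ⧸ I))
    exact henselian_of_equiv φ.toRingEquiv
  · intro y
    obtain ⟨x, rfl⟩ := IsLocalRing.residue_surjective y
    refine ⟨ε0 x, (Ideal.Quotient.eq).2 ?_⟩
    exact hm _ (by rw [map_sub, AlgHom.commutes]; simp)
  · let s : (A ⧸ I) →ₗ[R] A := Submodule.liftQ (I.restrictScalars R) (LinearMap.mulLeft R e) (fun x hx => by
      obtain ⟨c, rfl⟩ := Ideal.mem_span_singleton'.1 hx
      rw [LinearMap.mem_ker, LinearMap.mulLeft_apply, ← mul_assoc, mul_comm e c, mul_assoc, mul_sub, mul_one,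
        he.eq, sub_self, mul_zero]) ∘ₗ
      (Submodule.Quotient.restrictScalarsEquiv R I).symm.toLinearMap
    refine Module.Flat.of_retract s π.toLinearMap (LinearMap.ext fun y => ?_)
    obtain ⟨x, rfl⟩ := Ideal.Quotient.mk_surjective y
    show π (e * x) = Ideal.Quotient.mk I x
    rw [map_mul, hπe, one_mul]
    rfl

end Groth.Agent.S13404
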