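import Groth.Statements.S13407
import Mathlib

set_option autoImplicit false
universe u
open TensorProduct
open Hopf

namespace Groth.Agent.S13407

set_option backward.isDefEq.respectTransparency false
set_option maxHeartbeats 800000

/-- Let R be a Dedekind domain with fraction field K and let G = Spec A be a finite flat group scheme
over R (A a commutative Hopf algebra over R, finite and flat as an R-module). Closed flat R-subgroup
schemes of G correspond one-to-one to closed K-subgroup schemes of the generic fibre G_K under H ↦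
H_K: the map sending a Hopf ideal J' of A with A/J' flat over R to the ideal it generates in K ⊗_R A
is a bijection onto the set of Hopf ideals of the Hopf algebra K ⊗_R A over K (its inverse takes a
Hopf ideal of K ⊗_R A to its preimage in A). -/
theorem result (R : Type u) [CommRing R] [IsDedekindDomain R]
    (K : Type u) [Field K] [Algebra R K] [IsFractionRing R K]
    (A : Type u) [CommRing A] [HopfAlgebra R A] [Module.Finite R A] [Module.Flat R A] :
    Set.BijOn (fun J' : Ideal A => Ideal.map (Algebra.TensorProduct.includeRight : A →ₐ[R] K ⊗[R] A) J')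
      {J' : Ideal A | J'.IsHopfIdeal R ∧ Module.Flat R (A ⧸ J')}
      {J : Ideal (K ⊗[R] A) | J.IsHopfIdeal K} := by
  haveI hloc : IsLocalizedModule (nonZeroDivisors R) (TensorProduct.mk R K A 1) :=
    (isLocalizedModule_iff_isBaseChange (nonZeroDivisors R) K _).mpr (TensorProduct.isBaseChange R A K)
  let ι : A →ₐ[R] K ⊗[R] A := Algebra.TensorProduct.includeRight
  have hsurj : ∀ y : K ⊗[R] A, ∃ (s : nonZeroDivisors R) (a : A), s • y = ι a := fun y => by
    obtain ⟨⟨a, s⟩, h⟩ := IsLocalizedModule.surj (nonZeroDivisors R) (TensorProduct.mk R K A 1) y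
    exact ⟨s, a, h⟩
  have hunit : ∀ (s : nonZeroDivisors R) (J : Ideal (K ⊗[R] A)) (y : K ⊗[R] A), s • y ∈ J → y ∈ J := by
    intro s J y h
    have hs : algebraMap R K (s : R) ≠ 0 := IsFractionRing.to_map_ne_zero_of_mem_nonZeroDivisors s.2
    have e : y = algebraMap K (K ⊗[R] A) (algebraMap R K (s : R))⁻¹ * (s • y) := by
      rw [Submonoid.smul_def, Algebra.smul_def, IsScalarTower.algebraMap_apply R K (K ⊗[R] A), ← mul_assoc,
        ← map_mul, inv_mul_cancel₀ hs, map_one, one_mul]
    rw [e]
    exact J.mul_mem_left _ h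
  have hext : ∀ (J' : Ideal A) (y : K ⊗[R] A), y ∈ J'.map ι →
      ∃ (s : nonZeroDivisors R) (a : A), a ∈ J' ∧ s • y = ι a := by
    intro J' y hy
    induction hy using Submodule.span_induction with
    | mem y hy =>
      obtain ⟨a, ha, rfl⟩ := hy
      exact ⟨1, a, ha, one_smul _ _⟩
    | zero => exact ⟨1, 0, zero_mem _, by simp⟩
    | add p q _ _ hp hq =>
      obtain ⟨s, a, ha, hs⟩ := hp
      obtain ⟨t, b, hb, ht⟩ := hq
      refine ⟨s * t, (t : R) • a + (s : R) • b, add_mem (Submodule.smul_of_tower_mem _ _ ha)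
        (Submodule.smul_of_tower_mem _ _ hb), ?_⟩
      rw [map_add, map_smul, map_smul, ← hs, ← ht, ← Submonoid.smul_def, ← Submonoid.smul_def, smul_smul,
        smul_smul, mul_comm t s, ← smul_add]
    | smul c p _ hp =>
      obtain ⟨s, a, ha, hs⟩ := hp
      obtain ⟨t, b, ht⟩ := hsurj c
      exact ⟨t * s, b * a, J'.mul_mem_left _ ha, by
        rw [map_mul, ← hs, ← ht, smul_eq_mul, smul_mul_smul_comm]⟩
  let dd : A ⊗[R] A →+* (K ⊗[R] A) ⊗[K] (K ⊗[R] A) :=
    Algebra.TensorProduct.mapRingHom (algebraMap R K)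
      (RingHomClass.toRingHom ι) (RingHomClass.toRingHom ι)
      (by simp [ι, ← IsScalarTower.algebraMap_eq]) (by simp [ι, ← IsScalarTower.algebraMap_eq])
  have hcomul : ∀ a : A, Coalgebra.comul (R := K) (ι a) = dd (Coalgebra.comul (R := R) a) := fun a =>
    RingHom.congr_fun (Bialgebra.comul_includeRight (R := R) (A := K) (B := A)) a
  have hanti : ∀ a : A, HopfAlgebra.antipode K (ι a) = ι (HopfAlgebra.antipode R a) := fun a => by
    simp [ι, TensorProduct.antipode_def]
  have hmaps : ∀ J' : Ideal A, J'.IsHopfIdeal R → (J'.map ι).IsHopfIdeal K := by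
    intro J' hJ'
    let J := (J'.map ι).restrictScalars K
    let q : (A ⧸ J'.restrictScalars R) →ₗ[R] ((K ⊗[R] A) ⧸ J) :=
      (J'.restrictScalars R).liftQ (J.mkQ.restrictScalars R ∘ₗ ι.toLinearMap) fun a ha =>
        (Submodule.Quotient.mk_eq_zero J).2 (Ideal.mem_map_of_mem ι ha)
    let L : (A ⧸ J'.restrictScalars R) ⊗[R] (A ⧸ J'.restrictScalars R) →ₗ[R]
        ((K ⊗[R] A) ⧸ J) ⊗[K] ((K ⊗[R] A) ⧸ J) :=
      TensorProduct.lift (((TensorProduct.mk K ((K ⊗[R] A) ⧸ J) ((K ⊗[R] A) ⧸ J)).restrictScalars₁₂ R R).compl₁₂ q q)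
    have hL : ∀ t, TensorProduct.map J.mkQ J.mkQ (dd t) =
        L (TensorProduct.map (J'.restrictScalars R).mkQ (J'.restrictScalars R).mkQ t) := by
      intro t
      induction t using TensorProduct.induction_on with
      | zero => simp
      | tmul x y => simp [dd, L, q, ι]
      | add x y hx hy => simp only [map_add, hx, hy]
    refine { toIsCoideal := ⟨fun y hy => ?_, fun y hy => ?_⟩, antipode_mem := fun y hy => ?_ } <;>
      obtain ⟨s, a, ha, hs⟩ := hext J' y hy
    · have h := congrArg (Coalgebra.counit (R := K)) hs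
      rw [LinearMap.map_smul_of_tower, show Coalgebra.counit (R := K) (ι a) =
          algebraMap R K (Coalgebra.counit (R := R) a) by simp [ι, Algebra.algebraMap_eq_smul_one],
        hJ'.toIsCoideal.counit_eq_zero ha, map_zero, Submonoid.smul_def, Algebra.smul_def, mul_eq_zero] at h
      exact h.resolve_left (IsFractionRing.to_map_ne_zero_of_mem_nonZeroDivisors s.2)
    · have hs0 : algebraMap R K (s : R) ≠ 0 := IsFractionRing.to_map_ne_zero_of_mem_nonZeroDivisors s.2
      rw [Submonoid.smul_def, ← IsScalarTower.algebraMap_smul K (s : R) y] at hs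
      have h := congrArg (fun z => TensorProduct.map J.mkQ J.mkQ (Coalgebra.comul (R := K) z)) hs
      simp only [map_smul, hcomul, hL, hJ'.toIsCoideal.map_mkQ_comul_eq_zero ha, map_zero] at h
      exact (smul_eq_zero.1 h).resolve_left hs0
    · refine hunit s _ _ ?_
      rw [← LinearMap.map_smul_of_tower, hs, hanti]
      exact Ideal.mem_map_of_mem ι (hJ'.antipode_mem ha)
  have htf : ∀ J' : Ideal A, Module.Flat R (A ⧸ J') → ∀ (s : nonZeroDivisors R) (a : A), s • a ∈ J' → a ∈ J' := by
    intro J' hfl s a h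
    rw [← Ideal.Quotient.eq_zero_iff_mem] at h ⊢
    have h' : (s : R) • (Ideal.Quotient.mk J' a) = 0 := h
    exact (IsSMulRegular.right_eq_zero_of_smul
      (Module.Flat.isSMulRegular_of_nonZeroDivisors s.2) h')
  refine ⟨fun J' hJ' => hmaps J' hJ'.1, ?_, ?_⟩
  · have key : ∀ J₁ J₂ : Ideal A, Module.Flat R (A ⧸ J₂) → J₁.map ι ≤ J₂.map ι → J₁ ≤ J₂ := by
      intro J₁ J₂ hfl hle x hx
      obtain ⟨s, a, ha, hs⟩ := hext J₂ _ (hle (Ideal.mem_map_of_mem ι hx))
      rw [Submonoid.smul_def, ← map_smul] at hs
      obtain ⟨c, hc⟩ := IsLocalizedModule.exists_of_eq (S := nonZeroDivisors R) (f := TensorProduct.mk R K A 1) hs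
      apply htf J₂ hfl s
      apply htf J₂ hfl c
      rw [Submonoid.smul_def s, hc]
      exact Submodule.smul_of_tower_mem _ _ ha
    intro J₁ h₁ J₂ h₂ h
    exact le_antisymm (key _ _ h₂.2 (le_of_eq h)) (key _ _ h₁.2 (le_of_eq h.symm))
  · intro J hJ
    let J' : Ideal A := J.comap ι
    have hmap : J'.map ι = J := by
      refine le_antisymm Ideal.map_comap_le fun y hy => ?_
      obtain ⟨s, a, hs⟩ := hsurj y
      refine hunit s _ _ ?_
      rw [hs]
      refine Ideal.mem_map_of_mem ι (show ι a ∈ J from ?_)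
      rw [← hs]
      exact Submodule.smul_of_tower_mem _ _ hy
    let q : (A ⧸ J'.restrictScalars R) →ₗ[R] ((K ⊗[R] A) ⧸ J.restrictScalars K) :=
      (J'.restrictScalars R).liftQ ((J.restrictScalars K).mkQ.restrictScalars R ∘ₗ ι.toLinearMap) fun a ha =>
        (Submodule.Quotient.mk_eq_zero (J.restrictScalars K)).2 ha
    have hq : Function.Injective q := by
      rw [← LinearMap.ker_eq_bot, Submodule.ker_liftQ, eq_bot_iff, Submodule.map_le_iff_le_comap, Submodule.comap_bot, Submodule.ker_mkQ]
      intro a ha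
      exact (Submodule.Quotient.mk_eq_zero (J.restrictScalars K)).1 ha
    haveI : Module.Flat R K := IsLocalization.flat K (nonZeroDivisors R)
    haveI : Module.Flat R ((K ⊗[R] A) ⧸ J.restrictScalars K) := Module.Flat.trans R K _
    have htors : ∀ (r : R) (x : A ⧸ J'.restrictScalars R), r • x = 0 → r = 0 ∨ x = 0 := by
      intro r x h
      rcases eq_or_ne r 0 with h0 | h0
      · exact Or.inl h0
      refine Or.inr (hq ((IsSMulRegular.right_eq_zero_of_smul
        (Module.Flat.isSMulRegular_of_nonZeroDivisors (mem_nonZeroDivisors_of_ne_zero h0)) ?_).trans (map_zero q).symm))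
      rw [← map_smul, h, map_zero]
    haveI : Module.IsTorsionFree R (A ⧸ J'.restrictScalars R) := Module.isTorsionFree_iff_smul_eq_zero.2 fun r x h => htors r x h
    haveI hflat : Module.Flat R (A ⧸ J'.restrictScalars R) := inferInstance
    have hinj : Function.Injective
        ((IsLocalization.moduleTensorEquiv (nonZeroDivisors R) K ((K ⊗[R] A) ⧸ J.restrictScalars K)
          ((K ⊗[R] A) ⧸ J.restrictScalars K)).symm ∘ TensorProduct.map q q) :=
      (LinearEquiv.injective _).comp (TensorProduct.map_injective_of_flat_flat _ _ hq hq)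
    have hkey : ∀ t, (IsLocalization.moduleTensorEquiv (nonZeroDivisors R) K ((K ⊗[R] A) ⧸ J.restrictScalars K)
          ((K ⊗[R] A) ⧸ J.restrictScalars K)).symm (TensorProduct.map q q
            (TensorProduct.map (J'.restrictScalars R).mkQ (J'.restrictScalars R).mkQ t)) =
        TensorProduct.map (J.restrictScalars K).mkQ (J.restrictScalars K).mkQ (dd t) := by
      intro t
      induction t using TensorProduct.induction_on with
      | zero => simp
      | tmul x y => simp [dd, q, ι, IsLocalization.moduleTensorEquiv]; rfl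
      | add x y hx hy => simp only [map_add, hx, hy]
    refine ⟨J', ⟨{ toIsCoideal := ⟨fun a ha => ?_, fun a ha => ?_⟩, antipode_mem := fun a ha => ?_ }, ?_⟩, hmap⟩
    · apply IsFractionRing.injective R K
      rw [map_zero, ← hJ.toIsCoideal.counit_eq_zero (show ι a ∈ J.restrictScalars K from ha)]
      simp [ι, Algebra.algebraMap_eq_smul_one]
    · apply hinj
      simp only [Function.comp_apply, hkey, map_zero]
      rw [← hcomul]
      exact hJ.toIsCoideal.map_mkQ_comul_eq_zero (show ι a ∈ J.restrictScalars K from ha)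
    · show ι _ ∈ J
      rw [← hanti]
      exact hJ.antipode_mem (show ι a ∈ J from ha)
    · exact Module.Flat.of_linearEquiv (LinearEquiv.refl R (A ⧸ J'.restrictScalars R) : (A ⧸ J') ≃ₗ[R] _)

end Groth.Agent.S13407
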