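import Groth.Statements.S13409
import Mathlib

set_option linter.style.haveILetI false

set_option autoImplicit false
universe u v
open CombGraph

namespace Groth.Agent.S13409

/-- Let `A` be an abelian group and `G` a finite connected simple graph on `V` that is bipartite for a
two-colouring `c : V → Bool` (adjacent vertices get different colours). If `a : V → A` has the same
sum over the vertices of each colour, then some labelling `x` of the edges by elements of `A` has,
at every vertex `v`, the sum of `x` over the edges incident to `v` equal to `a v`. (The published
statement concerns finite bipartite graphs in general; this row treats simple graphs.) -/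
theorem result {V : Type u} [Fintype V] [DecidableEq V]
    (G : SimpleGraph V) [DecidableRel G.Adj] (hconn : G.Connected) (c : V → Bool)
    (hbip : ∀ v w : V, G.Adj v w → c v ≠ c w) (A : Type v) [AddCommGroup A] (a : V → A)
    (hsum : ∑ v ∈ Finset.univ.filter (fun v => c v = true), a v =
      ∑ v ∈ Finset.univ.filter (fun v => c v = false), a v) :
    ∃ x : Sym2 V → A, ∀ v : V, ∑ e ∈ G.incidenceFinset v, x e = a v := by
  classical
  let D : (Sym2 V → A) →+ (V → A) :=
    { toFun := fun x v => ∑ e ∈ G.incidenceFinset v, x e
      map_zero' := by funext v; simp
      map_add' := fun x y => by funext v; simp [Finset.sum_add_distrib] }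
  let ε : V → ℤ := fun v => if c v then 1 else -1
  have hedge : ∀ u v, G.Adj u v → ∀ x : A, Pi.single u x + Pi.single v x ∈ D.range := by
    intro u v huv x
    refine ⟨fun e => if e = s(u, v) then x else 0, funext fun z => ?_⟩
    show (∑ e ∈ G.incidenceFinset z, if e = s(u, v) then x else 0) = _
    rw [Finset.sum_ite_eq', Pi.add_apply, Pi.single_apply, Pi.single_apply]
    simp only [SimpleGraph.mem_incidenceFinset, SimpleGraph.mk'_mem_incidenceSet_iff]
    by_cases h1 : z = u
    · subst h1; simp [huv, huv.ne]
    · by_cases h2 : z = v
      · subst h2; simp [huv, huv.ne']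
      · simp [h1, h2]
  have hwalk : ∀ {u v : V} (w : G.Walk u v) (x : A),
      (Pi.single u (ε u • x) : V → A) - Pi.single v (ε v • x) ∈ D.range := by
    intro u v w
    induction w with
    | nil => intro x; simp
    | @cons u z v h w ih =>
      intro x
      have e : ε z = - ε u := by
        have hne := hbip u z h
        simp only [ε]
        cases hu : c u <;> cases hz : c z <;> simp_all
      have := add_mem (hedge u z h (ε u • x)) (ih x)
      rw [e, neg_smul, Pi.single_neg] at this
      convert this using 1
      abel
  obtain ⟨v0⟩ := hconn.nonempty
  have hε : ∀ v, ∀ x : A, ε v • ε v • x = x := fun v x => by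
    rw [smul_smul]; simp [ε]; split_ifs <;> simp
  have hmem : a ∈ D.range := by
    have h0 : ∑ v, ε v • a v = 0 := by
      simp only [ε, ite_smul, one_smul, neg_smul]
      rw [Finset.sum_ite, Finset.sum_neg_distrib, hsum]
      simp
    have : a = ∑ v, ((Pi.single v (ε v • ε v • a v) : V → A) - Pi.single v0 (ε v0 • ε v • a v)) := by
      rw [Finset.sum_sub_distrib]
      simp only [hε, Finset.univ_sum_single]
      have hz : ∑ v, (Pi.single v0 (ε v0 • ε v • a v) : V → A) = 0 := by
        funext z
        rw [Finset.sum_apply]
        by_cases hz : z = v0
        · subst hz; simp [← Finset.smul_sum, h0]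
        · simp [hz]
      rw [hz, sub_zero]
    rw [this]
    exact sum_mem fun v _ => hwalk (hconn.preconnected v v0).some _
  obtain ⟨x, hx⟩ := hmem
  exact ⟨x, fun v => congrFun hx v⟩


end Groth.Agent.S13409
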