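import Groth.Statements.S13410
import Mathlib
import Groth.Agent.S13409

set_option linter.style.haveILetI false

set_option autoImplicit false
universe u v
open CombGraph

namespace Groth.Agent.S13410

/-- Let `A` be an abelian group and `G` a finite connected simple graph on `V`, bipartite for a
two-colouring `c`. Consider the additive group of labellings `x : Sym2 V → A` vanishing off the edge
set and with `∑_{e ∋ v} x e = 0` at every vertex `v`. If `e₀` is an edge whose deletion leaves `G`
connected, then evaluation at `e₀` restricted to this group is surjective and split: there is an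
additive map `φ : A → (Sym2 V → A)` with values in this group and with `φ a e₀ = a` for all `a`.
(The published statement concerns finite bipartite graphs in general; this row treats simple
graphs.) -/
theorem result {V : Type u} [Fintype V]
    [DecidableEq V] (G : SimpleGraph V) [DecidableRel G.Adj] (hconn : G.Connected) (c : V → Bool)
    (hbip : ∀ v w : V, G.Adj v w → c v ≠ c w) (A : Type v) [AddCommGroup A] (e₀ : Sym2 V)
    (he₀ : e₀ ∈ G.edgeSet) (hdel : (G.deleteEdges {e₀}).Connected) :
    ∃ φ : A →+ (Sym2 V → A),
      (∀ a : A, (∀ e : Sym2 V, e ∉ G.edgeSet → φ a e = 0) ∧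
        ∀ v : V, ∑ e ∈ G.incidenceFinset v, φ a e = 0) ∧
      ∀ a : A, φ a e₀ = a := by
  classical
  induction e₀ using Sym2.ind with
  | _ u w =>
  have huw : G.Adj u w := he₀
  let G' := G.deleteEdges {s(u, w)}
  obtain ⟨x, hx⟩ := Groth.Agent.S13409.result G' hdel c
    (fun a b h => hbip a b (G.deleteEdges_le {s(u, w)} h)) ℤ (fun v => if v = u ∨ v = w then (-1 : ℤ) else 0) (by
    have h := hbip u w huw
    have key : ∀ b : Bool, (∑ v ∈ Finset.univ.filter (fun v => c v = b), if v = u ∨ v = w then (-1 : ℤ) else 0) = -1 := by
      intro b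
      obtain ⟨z, hz, hz'⟩ : ∃ z, (z = u ∨ z = w) ∧ c z = b := by
        cases hu : c u <;> cases hw : c w <;> cases b <;>
          first
            | exact absurd (hu.trans hw.symm) h
            | exact ⟨u, Or.inl rfl, hu⟩
            | exact ⟨w, Or.inr rfl, hw⟩
      rw [Finset.sum_eq_single z, if_pos hz]
      · intro v hv hvz
        rw [if_neg]
        rintro hv'
        simp only [Finset.mem_filter] at hv
        rcases hv' with rfl | rfl <;> rcases hz with rfl | rfl <;>
          first | exact hvz rfl | exact h (hv.2.trans hz'.symm) | exact h (hz'.trans hv.2.symm)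
      · simp [hz']
    rw [key, key])
  let g : Sym2 V → ℤ := fun e => if e = s(u, w) then 1 else if e ∈ G'.edgeSet then x e else 0
  refine ⟨{ toFun := fun a e => g e • a, map_zero' := by funext e; simp,
            map_add' := fun a b => by funext e; simp [smul_add] }, fun a => ⟨fun e he => ?_, fun v => ?_⟩, fun a => ?_⟩
  · show g e • a = 0
    have h1 : e ≠ s(u, w) := fun h => he (h ▸ he₀)
    have h2 : e ∉ G'.edgeSet := fun h => he (SimpleGraph.edgeSet_mono (G.deleteEdges_le {s(u, w)}) h)
    simp [g, h1, h2]
  · show (∑ e ∈ G.incidenceFinset v, g e • a) = 0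
    rw [← Finset.sum_smul]
    suffices H : ∑ e ∈ G.incidenceFinset v, g e = 0 by rw [H, zero_smul]
    have hinc : (G.incidenceFinset v).erase s(u, w) = G'.incidenceFinset v := by
      ext e
      simp only [Finset.mem_erase, SimpleGraph.mem_incidenceFinset, SimpleGraph.incidenceSet, Set.mem_setOf_eq,
        G', SimpleGraph.edgeSet_deleteEdges, Set.mem_diff, Set.mem_singleton_iff]
      tauto
    have hsum : ∑ e ∈ (G.incidenceFinset v).erase s(u, w), g e = if v = u ∨ v = w then (-1 : ℤ) else 0 := by
      rw [hinc, ← hx v]
      refine Finset.sum_congr rfl fun e he => ?_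
      rw [SimpleGraph.mem_incidenceFinset] at he
      have h1 : e ∈ G'.edgeSet := he.1
      have h2 : e ≠ s(u, w) := fun h => (by simpa [G'] using h1 : e ∈ G.edgeSet ∧ e ≠ s(u, w)).2 h
      simp [g, h1, h2]
    by_cases hv : v = u ∨ v = w
    · have hmem : s(u, w) ∈ G.incidenceFinset v := by
        rw [SimpleGraph.mem_incidenceFinset, SimpleGraph.mk'_mem_incidenceSet_iff]
        exact ⟨huw, hv⟩
      rw [← Finset.add_sum_erase _ _ hmem, hsum, if_pos hv]
      simp [g]
    · have hmem : s(u, w) ∉ G.incidenceFinset v := by
        rw [SimpleGraph.mem_incidenceFinset, SimpleGraph.mk'_mem_incidenceSet_iff]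
        exact fun h => hv h.2
      rw [Finset.erase_eq_of_notMem hmem, if_neg hv] at hsum
      exact hsum
  · show g s(u, w) • a = a
    simp [g]


end Groth.Agent.S13410
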