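import Groth.Statements.S13413
import Groth.Agent.HLocTwo.Base
import Groth.Agent.HLocTwo.ExtCons

set_option autoImplicit false
universe u
open CategoryTheory CategoryTheory.Limits AlgebraicGeometry
open HLoc2

namespace Groth.Agent.S13413

/-- Let `k` be an algebraically closed field of characteristic zero, `R₀` an excellent normal henselian
local `k`-domain of Krull dimension two with residue field `k`, `K` a finite extension of its
fraction field, `O_K` the integral closure of `R₀` in `K`, and `X` the open subscheme of `Spec O_K`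
of non-closed points; let `U` be a nonempty open subscheme of `X`. Assume, as holds in this
situation, that `K` has etale cohomological dimension at most 2 and that the residue field of every
closed point of `U` has cohomological dimension at most 1. (The published text asserts both facts
for this situation without proof; this row carries them as hypotheses.) Then for every constructible
abelian etale sheaf `F` on `U` and every `r ≥ 4`, the group `Ext^r_U(F, G_m)`, computed in abelian
sheaves on the small etale site of `U`, vanishes. -/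
theorem result
    (k : Type u) [Field k] [IsAlgClosed k] [CharZero k]
    (R₀ : Type u) [CommRing R₀] [IsDomain R₀] [HenselianLocalRing R₀] [Algebra k R₀]
    [IsIntegrallyClosed R₀] (hexc : EGA4.IsExcellent R₀) (hdim : ringKrullDim R₀ = 2)
    (hres : Function.Surjective (fun a : k => IsLocalRing.residue R₀ (algebraMap k R₀ a)))
    (K : Type u) [Field K] [Algebra R₀ K] [Algebra (FractionRing R₀) K]
    [IsScalarTower R₀ (FractionRing R₀) K] [FiniteDimensional (FractionRing R₀) K]
    (U : (Spec (CommRingCat.of ↥(integralClosure R₀ K))).Opens)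
    (hU : ∀ x : ↥(Spec (CommRingCat.of ↥(integralClosure R₀ K))), x ∈ U →
      ¬ IsClosed ({x} : Set ↥(Spec (CommRingCat.of ↥(integralClosure R₀ K)))))
    (hne : Nonempty ↥(↑U : Scheme.{u}))
    (hcdK : EtCoh.CohDimLE (Spec (CommRingCat.of K)) 2)
    (hcdv : ∀ x : ↥(↑U : Scheme.{u}), IsClosed ({x} : Set ↥(↑U : Scheme.{u})) →
      EtCoh.CohDimLE (Spec ((↑U : Scheme.{u}).residueField x)) 1)
    (F : EtCoh.Ab (↑U : Scheme.{u})) (hF : EtPBC.IsConstructible F) (r : ℕ) (hr : 4 ≤ r) :
    Subsingleton (Abelian.Ext.{u + 1} F (EtCoh.Gm (↑U : Scheme.{u})) r) := by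
  obtain ⟨hnoe, hicl, hfrac, hdimA, hQ⟩ := HLocTwo.normalisation_facts k R₀ hexc hdim K
  haveI := hnoe
  haveI := hicl
  haveI := hfrac
  haveI : IsNoetherian (↑U : Scheme.{u}) := EtDivSeq.isNoetherian_open U
  haveI := hne
  haveI : IsIntegral (↑U : Scheme.{u}) := isIntegral_of_isOpenImmersion U.ι
  have h1 := HLocTwo.ringKrullDim_stalk_le U hdimA hU
  have h2 := HLocTwo.isUnit_natCast_stalk U hQ
  have h3 : ∀ x : ↥(↑U : Scheme.{u}), ¬ IsClosed ({x} : Set ↥(↑U : Scheme.{u})) → EtCoh.CohDimLE (Spec ((↑U : Scheme.{u}).residueField x)) 2 :=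
    fun x hx => HLocTwo.kVanOn_generic U hdimA hU K hcdK x (HLocTwo.eq_bot_of_not_isClosed U hdimA hU x hx)
  have h4 := HLocTwo.etFact U hdimA hU
  have h5 := @HLocTwo.subsingleton_ext_Gm (↑U : Scheme.{u}) _ _ h1 h2 h3 hcdv h4 F hF r hr
  exact h5

end Groth.Agent.S13413
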