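import Groth.Statements.S13414
import Groth.Agent.HLocTwo.Setup

set_option autoImplicit false
universe u
open CategoryTheory CategoryTheory.Limits AlgebraicGeometry
open HLoc2

namespace Groth.Agent.S13414

/-- Let `k` be an algebraically closed field of characteristic zero, `R₀` an excellent normal henselian
local `k`-domain of Krull dimension two with residue field `k`, `K` a finite extension of its
fraction field, `O_K` the integral closure of `R₀` in `K`, and `X` the open subscheme of `Spec O_K`
of non-closed points; let `U` be a nonempty open subscheme of `X`. Assume, as holds in this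
situation, that `K` has etale cohomological dimension at most 2 and that the residue field of every
closed point of `U` has cohomological dimension at most 1. (The published text asserts both facts
for this situation without proof; this row carries them as hypotheses.) Then `H^r(U, G_m) = 0` for
every `r ≥ 4`. (The published item also contains a four-term exact sequence involving the Brauer
groups of `K` and of its completions, which is not restated here.) -/
theorem result
    (k : Type u) [Field k] [IsAlgClosed k] [CharZero k]
    (R₀ : Type u) [CommRing R₀] [IsDomain R₀] [HenselianLocalRing R₀] [Algebra k R₀]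
    [IsIntegrallyClosed R₀] (hexc : EGA4.IsExcellent R₀) (hdim : ringKrullDim R₀ = 2)
    (hres : Function.Surjective (fun a : k => IsLocalRing.residue R₀ (algebraMap k R₀ a)))
    (K : Type u) [Field K] [Algebra R₀ K] [Algebra (FractionRing R₀) K]
    [IsScalarTower R₀ (FractionRing R₀) K] [FiniteDimensional (FractionRing R₀) K]
    (U : (Spec (CommRingCat.of ↥(integralClosure R₀ K))).Opens)
    (hU : ∀ x : ↥(Spec (CommRingCat.of ↥(integralClosure R₀ K))), x ∈ U →
      ¬ IsClosed ({x} : Set ↥(Spec (CommRingCat.of ↥(integralClosure R₀ K)))))
    (hne : Nonempty ↥(↑U : Scheme.{u}))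
    (hcdK : EtCoh.CohDimLE (Spec (CommRingCat.of K)) 2)
    (hcdv : ∀ x : ↥(↑U : Scheme.{u}), IsClosed ({x} : Set ↥(↑U : Scheme.{u})) →
      EtCoh.CohDimLE (Spec ((↑U : Scheme.{u}).residueField x)) 1)
    (r : ℕ) (hr : 4 ≤ r) :
    Subsingleton (EtCoh.H (↑U : Scheme.{u}) (EtCoh.Gm (↑U : Scheme.{u})) r) := by
  classical
  obtain ⟨hnoe, -⟩ := hexc
  haveI := hnoe
  let A := ↥(integralClosure R₀ K)
  haveI : CharZero R₀ := charZero_of_injective_algebraMap (algebraMap k R₀).injective
  haveI : CharZero (FractionRing R₀) := charZero_of_injective_algebraMap (IsFractionRing.injective R₀ (FractionRing R₀))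
  haveI : Module.Finite R₀ A := IsIntegralClosure.finite R₀ (FractionRing R₀) K A
  haveI : IsNoetherianRing A := IsNoetherianRing.of_finite R₀ A
  haveI : IsIntegrallyClosed A := integralClosure.isIntegrallyClosedOfFiniteExtension (FractionRing R₀)
  haveI : IsFractionRing A K := integralClosure.isFractionRing_of_finite_extension (FractionRing R₀) K
  have hdimA : ringKrullDim A ≤ 2 := hdim ▸
    Order.krullDim_le_of_strictMono (fun p : PrimeSpectrum A => PrimeSpectrum.comap (algebraMap R₀ A) p) fun p p' h => by
      obtain ⟨x, hx, hxn⟩ := SetLike.exists_of_lt (show p.asIdeal < p'.asIdeal from h)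
      exact Ideal.comap_lt_comap_of_integral_mem_sdiff h.le ⟨hx, hxn⟩ (Algebra.IsIntegral.isIntegral x)
  refine HLocTwo.subsingleton_H_Gm_open U hdimA hU (fun p hp => ?_) K hcdK hcdv r hr
  have := ((IsUnit.mk0 (p : k) (Nat.cast_ne_zero.2 hp.ne_zero)).map (algebraMap k R₀)).map (algebraMap R₀ A)
  rwa [map_natCast, map_natCast] at this

end Groth.Agent.S13414
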