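import Groth.Statements.S13417
import Groth.Agent.S1964
import Groth.Agent.S2690
import Groth.Agent.TameAbh.Steps
import Groth.Agent.SegreDim.Noether

set_option autoImplicit false
set_option backward.isDefEq.respectTransparency false
set_option linter.style.haveILetI false
universe u
open scoped TensorProduct
open HLoc2

namespace Groth.Agent.S13417

lemma map_mem_maximalIdeal {A B : Type u} [CommRing A] [CommRing B] [IsLocalRing A] [IsLocalRing B] (f : A →+* B)
    (hf : IsLocalHom f) {x : A} (hx : x ∈ IsLocalRing.maximalIdeal A) : f x ∈ IsLocalRing.maximalIdeal B := by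
  haveI := hf
  exact fun hu => hx (IsUnit.of_map f x hu)

/-- Let `k` be a field with separable closure `kˢ` and `R₀` a commutative local `k`-algebra which is
excellent, henselian, integrally closed, of Krull dimension two, with residue field `k`, and
geometrically integral (`R₀ ⊗_k kˢ` is a domain). Then `R₀ ⊗_k kˢ` is a henselian local ring which
is integrally closed, of Krull dimension two, and whose residue field is `kˢ` (the composite `kˢ →
R₀ ⊗_k kˢ →` residue field is surjective). (The published statement also asserts that `R₀ ⊗_k kˢ` is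
excellent; that assertion is not restated here.) -/
theorem result
    (k : Type u) [Field k] (R₀ : Type u) [CommRing R₀] [IsDomain R₀] [HenselianLocalRing R₀] [Algebra k R₀]
    [IsIntegrallyClosed R₀] (hexc : EGA4.IsExcellent R₀) (hdim : ringKrullDim R₀ = 2)
    (hres : Function.Surjective (fun a : k => IsLocalRing.residue R₀ (algebraMap k R₀ a)))
    [IsDomain (R₀ ⊗[k] SeparableClosure k)] :
    ∃ _ : HenselianLocalRing (R₀ ⊗[k] SeparableClosure k),
      IsIntegrallyClosed (R₀ ⊗[k] SeparableClosure k) ∧
      ringKrullDim (R₀ ⊗[k] SeparableClosure k) = 2 ∧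
      Function.Surjective (fun a : SeparableClosure k =>
        IsLocalRing.residue (R₀ ⊗[k] SeparableClosure k)
          ((Algebra.TensorProduct.includeRight : SeparableClosure k →ₐ[k] R₀ ⊗[k] SeparableClosure k) a)) := by
  let T := R₀ ⊗[k] SeparableClosure k
  haveI : Algebra.IsGeometricallyReduced k (SeparableClosure k) :=
    TameAbh.isGeometricallyReduced_of_isSeparable k _
  haveI : Algebra.IsIntegral R₀ T := ⟨fun x => by
    suffices h : x ∈ integralClosure R₀ T from h
    induction x using TensorProduct.induction_on with
    | zero => exact zero_mem _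
    | add a b ha hb => exact add_mem ha hb
    | tmul r a =>
      have h1 : IsIntegral R₀ ((1 : R₀) ⊗ₜ[k] a) :=
        ((Algebra.IsIntegral.isIntegral (R := k) a).map
          (Algebra.TensorProduct.includeRight : SeparableClosure k →ₐ[k] T)).tower_top
      have h2 : r ⊗ₜ[k] a = r • ((1 : R₀) ⊗ₜ[k] a) := by rw [TensorProduct.smul_tmul', smul_eq_mul, mul_one]
      rw [h2]
      exact Subalgebra.smul_mem _ (show (1 : R₀) ⊗ₜ[k] a ∈ integralClosure R₀ T from h1) r⟩
  obtain ⟨hH, hloc, -⟩ := Groth.Agent.S1964.result R₀ T
  refine ⟨hH, ?_, ?_, ?_⟩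
  · have hN : EGA4.IsNormalRing R₀ := fun p _ =>
      ⟨inferInstance, isIntegrallyClosed_of_isLocalization (Localization.AtPrime p) p.primeCompl
        p.primeCompl_le_nonZeroDivisors⟩
    have hN' := Groth.Agent.S2690.result k R₀ (SeparableClosure k) hN
    haveI : IsDomain (SeparableClosure k ⊗[k] R₀) :=
      (Algebra.TensorProduct.comm k (SeparableClosure k) R₀).toMulEquiv.isDomain T
    haveI : IsIntegrallyClosed (SeparableClosure k ⊗[k] R₀) :=
      IsIntegrallyClosed.of_localization_maximal fun q _ hq => (hN' q).2
    exact IsIntegrallyClosed.of_equiv (Algebra.TensorProduct.comm k (SeparableClosure k) R₀).toRingEquiv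
  · rw [← hdim]
    exact (SegreDim.ringKrullDim_eq_of_injective_integral (A := R₀) (B := T)
      (Algebra.TensorProduct.includeLeft_injective (S := R₀) (algebraMap k (SeparableClosure k)).injective)).symm
  · intro z
    obtain ⟨x, rfl⟩ := IsLocalRing.residue_surjective z
    induction x using TensorProduct.induction_on with
    | zero => exact ⟨0, by simp⟩
    | add a b ha hb =>
      obtain ⟨u, hu⟩ := ha
      obtain ⟨v, hv⟩ := hb
      exact ⟨u + v, by simp only [map_add] at hu hv ⊢; rw [hu, hv]⟩
    | tmul r a =>
      obtain ⟨c, hc⟩ := hres (IsLocalRing.residue R₀ r)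
      refine ⟨algebraMap k _ c * a, ?_⟩
      have h1 : algebraMap k R₀ c - r ∈ IsLocalRing.maximalIdeal R₀ := by
        rw [← Ideal.Quotient.eq]; exact hc
      haveI hl : IsLocalRing T := hH.toIsLocalRing
      have h2 : algebraMap R₀ T (algebraMap k R₀ c - r) ∈ IsLocalRing.maximalIdeal T :=
        map_mem_maximalIdeal (algebraMap R₀ T) hloc h1
      refine Ideal.Quotient.eq.2 ?_
      let φ : R₀ →+* T := Algebra.TensorProduct.includeLeftRingHom
      have h3 : (Algebra.TensorProduct.includeRight : SeparableClosure k →ₐ[k] T) (algebraMap k (SeparableClosure k) c * a) -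
          r ⊗ₜ[k] a = φ (algebraMap k R₀ c - r) * ((1 : R₀) ⊗ₜ[k] a) := by
        rw [show φ (algebraMap k R₀ c - r) = (algebraMap k R₀ c - r) ⊗ₜ[k] (1 : SeparableClosure k) from rfl,
          Algebra.TensorProduct.tmul_mul_tmul, one_mul, mul_one, TensorProduct.sub_tmul,
          Algebra.TensorProduct.includeRight_apply, Algebra.algebraMap_eq_smul_one (R := k) (A := SeparableClosure k),
          Algebra.algebraMap_eq_smul_one (R := k) (A := R₀), smul_mul_assoc, one_mul, TensorProduct.smul_tmul]
      rw [h3]
      exact Ideal.mul_mem_right _ _ h2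

end Groth.Agent.S13417
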