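import Groth.Statements.S13419
import Groth.Agent.NeronBij.Basic

set_option autoImplicit false
set_option backward.isDefEq.respectTransparency false
set_option linter.style.haveILetI false
universe u
open CategoryTheory AlgebraicGeometry
open NeronHD

namespace Groth.Agent.S13419

/-- Let S be a locally Noetherian scheme over a field of characteristic 0, S₀ ⊆ S₁ ⊆ S opens with S₀
scheme-theoretically dense in S, and N a smooth S-scheme. If N has the Néron mapping property for S₁
⊆ S and the restriction N|S₁ has the Néron mapping property for S₀ ⊆ S₁ (in both cases: restriction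
of morphisms from smooth schemes over the base is bijective), then N has the Néron mapping property
for S₀ ⊆ S. (Case of schemes, with smooth test schemes, of a statement about algebraic spaces.) -/
theorem result {k : Type u} [Field k] [CharZero k] {S : Scheme.{u}} (σ : S ⟶ Spec (CommRingCat.of k)) [IsLocallyNoetherian S] (S₀ S₁ : S.Opens) (h01 : S₀ ≤ S₁) (hS₀ : CInt.IsSchematicallyDense S₀)
    (N : Over S) [Smooth N.hom]
    (hN1 : ∀ Z : Over S, Smooth Z.hom → Function.Bijective (fun g : Z ⟶ N => (Over.pullback S₁.ι).map g))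
    (hN10 : ∀ Z : Over (S₁ : Scheme.{u}), Smooth Z.hom → Function.Bijective (fun g : Z ⟶ (Over.pullback S₁.ι).obj N => (Over.pullback (S₁.ι ⁻¹ᵁ S₀).ι).map g)) :
    ∀ Z : Over S, Smooth Z.hom → Function.Bijective (fun g : Z ⟶ N => (Over.pullback S₀.ι).map g) := by
  obtain ⟨kk, _, hk⟩ := Groth.Agent.NeronBij.exists_isPullback_ι h01
  intro Z hZ
  rw [Groth.Agent.NeronBij.bijective_iff]
  let Z₁ := (Over.pullback S₁.ι).obj Z
  haveI : Smooth Z.hom := hZ
  have hZ₁ : Smooth Z₁.hom := inferInstanceAs (Smooth (Limits.pullback.snd Z.hom S₁.ι))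
  intro P a b hP φ hφ
  let W : (S₁ : Scheme.{u}).Opens := S₁.ι ⁻¹ᵁ S₀
  have hP' : IsPullback a (b ≫ inv kk) Z.hom (W.ι ≫ S₁.ι) :=
    hP.of_iso (Iso.refl _) (Iso.refl _) (asIso kk).symm (Iso.refl _) (by simp) (by simp) (by simp) (by simp [W, ← hk])
  let c : P ⟶ Limits.pullback Z.hom S₁.ι := Limits.pullback.lift a ((b ≫ inv kk) ≫ W.ι) (by rw [hP'.w]; simp)
  have hc : c ≫ Limits.pullback.fst Z.hom S₁.ι = a := Limits.pullback.lift_fst _ _ _
  have hc' : c ≫ Limits.pullback.snd Z.hom S₁.ι = (b ≫ inv kk) ≫ W.ι := Limits.pullback.lift_snd _ _ _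
  have hsq : IsPullback c (b ≫ inv kk) Z₁.hom W.ι :=
    IsPullback.of_right (by rw [hc]; exact hP') hc' (IsPullback.of_hasPullback Z.hom S₁.ι)
  obtain ⟨g₁, ⟨h11, h12⟩, hu₁⟩ := (Groth.Agent.NeronBij.bijective_iff _ Z₁ _).mp (hN10 Z₁ hZ₁) P c (b ≫ inv kk) hsq
    (Limits.pullback.lift φ (c ≫ Z₁.hom) (by
      rw [hφ, ← hc, Category.assoc, Category.assoc]
      exact congrArg (c ≫ ·) Limits.pullback.condition)) (Limits.pullback.lift_snd _ _ _)
  obtain ⟨g, ⟨hg, hg'⟩, hu⟩ := (Groth.Agent.NeronBij.bijective_iff _ Z N).mp (hN1 Z hZ) _ _ _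
    (IsPullback.of_hasPullback Z.hom S₁.ι) (g₁ ≫ Limits.pullback.fst N.hom S₁.ι) (by
      rw [Category.assoc, Limits.pullback.condition, ← Category.assoc, show g₁ ≫ Limits.pullback.snd N.hom S₁.ι = Z₁.hom from h11]
      exact Limits.pullback.condition.symm)
  refine ⟨g, ⟨hg, ?_⟩, fun g' ⟨h1, h2⟩ => hu g' ⟨h1, ?_⟩⟩
  · rw [← hc, Category.assoc, hg', ← Category.assoc, h12]
    exact Limits.pullback.lift_fst _ _ _
  · rw [← hu₁ (Limits.pullback.lift (Limits.pullback.fst Z.hom S₁.ι ≫ g') (Limits.pullback.snd Z.hom S₁.ι)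
      (by rw [Category.assoc, h1, Limits.pullback.condition])) ⟨Limits.pullback.lift_snd _ _ _, ?_⟩]
    · exact (Limits.pullback.lift_fst _ _ _).symm
    · apply Limits.pullback.hom_ext
      · rw [Limits.pullback.lift_fst, Category.assoc]
        erw [Limits.pullback.lift_fst]
        rw [← Category.assoc, hc, h2]
      · rw [Limits.pullback.lift_snd, Category.assoc]
        erw [Limits.pullback.lift_snd]
        rfl

end Groth.Agent.S13419
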