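import Groth.Statements.S13420
import Groth.Agent.NeronBij.Basic

set_option autoImplicit false
set_option backward.isDefEq.respectTransparency false
set_option linter.style.haveILetI false
universe u
open CategoryTheory AlgebraicGeometry
open NeronHD

namespace Groth.Agent.S13420

/-- Let S be a locally Noetherian scheme over a field of characteristic 0, S₀ ⊆ S₁ ⊆ S opens with S₀
scheme-theoretically dense in S, and N a smooth S-scheme. If N has the Néron mapping property for S₀
⊆ S and N|S₁ has the Néron mapping property for S₀ ⊆ S₁ (restriction of morphisms from smooth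
schemes over the base is bijective), then N has the Néron mapping property for S₁ ⊆ S. (Case of
schemes, with smooth test schemes, of a statement about algebraic spaces.) -/
theorem result {k : Type u} [Field k] [CharZero k] {S : Scheme.{u}} (σ : S ⟶ Spec (CommRingCat.of k)) [IsLocallyNoetherian S] (S₀ S₁ : S.Opens) (h01 : S₀ ≤ S₁) (hS₀ : CInt.IsSchematicallyDense S₀)
    (N : Over S) [Smooth N.hom]
    (hN0 : ∀ Z : Over S, Smooth Z.hom → Function.Bijective (fun g : Z ⟶ N => (Over.pullback S₀.ι).map g))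
    (hN10 : ∀ Z : Over (S₁ : Scheme.{u}), Smooth Z.hom → Function.Bijective (fun g : Z ⟶ (Over.pullback S₁.ι).obj N => (Over.pullback (S₁.ι ⁻¹ᵁ S₀).ι).map g)) :
    ∀ Z : Over S, Smooth Z.hom → Function.Bijective (fun g : Z ⟶ N => (Over.pullback S₁.ι).map g) := by
  obtain ⟨kk, _, hk⟩ := Groth.Agent.NeronBij.exists_isPullback_ι h01
  intro Z hZ
  rw [Groth.Agent.NeronBij.bijective_iff]
  let Z₁ := (Over.pullback S₁.ι).obj Z
  haveI : Smooth Z.hom := hZ
  have hZ₁ : Smooth Z₁.hom := inferInstanceAs (Smooth (Limits.pullback.snd Z.hom S₁.ι))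
  intro Q a' b' hQ φ hφ
  let W : (S₁ : Scheme.{u}).Opens := S₁.ι ⁻¹ᵁ S₀
  let c := Limits.pullback.fst (Over.mk b').hom W.ι
  let d := Limits.pullback.snd (Over.mk b').hom W.ι
  have hsq : IsPullback c d b' W.ι := IsPullback.of_hasPullback _ _
  have hP : IsPullback (c ≫ a') (d ≫ kk) Z.hom S₀.ι :=
    (hsq.paste_horiz hQ).of_iso (Iso.refl _) (Iso.refl _) (asIso kk) (Iso.refl _) (by simp) (by simp) (by simp)
      (by simp [W, hk])
  obtain ⟨g, ⟨hg, hg'⟩, hu⟩ := (Groth.Agent.NeronBij.bijective_iff _ Z N).mp (hN0 Z hZ) _ _ _ hP (c ≫ φ)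
    (by rw [Category.assoc, hφ, Category.assoc])
  refine ⟨g, ⟨hg, ?_⟩, fun g' ⟨h1, h2⟩ => hu g' ⟨h1, by rw [Category.assoc, h2]⟩⟩
  have hsm : Smooth (Over.mk b').hom := by
    show Smooth b'
    exact MorphismProperty.of_isPullback (P := @Smooth) hQ hZ
  obtain ⟨g₁, -, hu₁⟩ := (Groth.Agent.NeronBij.bijective_iff _ (Over.mk b') _).mp (hN10 (Over.mk b') hsm) _ c d hsq
    (c ≫ Limits.pullback.lift φ b' (by rw [hφ, hQ.w])) (by
      show (c ≫ Limits.pullback.lift φ b' _) ≫ Limits.pullback.snd N.hom S₁.ι = c ≫ b'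
      rw [Category.assoc, Limits.pullback.lift_snd])
  have e1 := hu₁ (Limits.pullback.lift φ b' (by rw [hφ, hQ.w])) ⟨Limits.pullback.lift_snd _ _ _, rfl⟩
  have e2 := hu₁ (Limits.pullback.lift (a' ≫ g) b' (by rw [Category.assoc, hg, hQ.w])) ⟨Limits.pullback.lift_snd _ _ _, by
    apply Limits.pullback.hom_ext
    · simp only [Category.assoc, Limits.pullback.lift_fst]; rw [← Category.assoc, hg']
    · simp only [Category.assoc, Limits.pullback.lift_snd]⟩
  have := congrArg (fun t => t ≫ Limits.pullback.fst N.hom S₁.ι) (e2.trans e1.symm)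
  simpa using this

end Groth.Agent.S13420
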