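import Groth.Statements.S13421
import Groth.Agent.NeronBij.Basic

set_option autoImplicit false
set_option backward.isDefEq.respectTransparency false
set_option linter.style.haveILetI false
universe u
open CategoryTheory AlgebraicGeometry
open NeronHD

namespace Groth.Agent.S13421

/-- Let T be a locally Noetherian scheme over a field of characteristic 0 and T₀ ⊆ T a
scheme-theoretically dense open. Let f : S → T be étale and such that S, viewed as a T-scheme, has
the Néron mapping property for T₀ ⊆ T, and let g : N → S be smooth and such that N, viewed as an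
S-scheme, has the Néron mapping property for f⁻¹(T₀) ⊆ S (restriction of morphisms from smooth
schemes over the base is bijective). Then N → T, the composite g ≫ f, has the Néron mapping property
for T₀ ⊆ T. (Case of schemes, with smooth test schemes, of a statement about algebraic spaces.) -/
theorem result {k : Type u} [Field k] [CharZero k] {T : Scheme.{u}} (τ : T ⟶ Spec (CommRingCat.of k)) [IsLocallyNoetherian T] (T₀ : T.Opens) (hT₀ : CInt.IsSchematicallyDense T₀)
    {S N : Scheme.{u}} (f : S ⟶ T) [Etale f] (g : N ⟶ S) [Smooth g]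
    (hS : ∀ Z : Over T, Smooth Z.hom → Function.Bijective (fun g : Z ⟶ Over.mk f => (Over.pullback T₀.ι).map g))
    (hN : ∀ Z : Over S, Smooth Z.hom → Function.Bijective (fun g : Z ⟶ Over.mk g => (Over.pullback (f ⁻¹ᵁ T₀).ι).map g)) :
    ∀ Z : Over T, Smooth Z.hom → Function.Bijective (fun g : Z ⟶ Over.mk (g ≫ f) => (Over.pullback T₀.ι).map g) := by
  intro Z hZ
  rw [Groth.Agent.NeronBij.bijective_iff]
  intro P a b hP φ hφ
  change φ ≫ g ≫ f = a ≫ Z.hom at hφ
  obtain ⟨h, ⟨hh, hh'⟩, hu⟩ := (Groth.Agent.NeronBij.bijective_iff _ Z (Over.mk f)).mp (hS Z hZ) P a b hP (φ ≫ g)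
    (by rw [Category.assoc]; exact hφ)
  change h ≫ f = Z.hom at hh
  haveI : Smooth (h ≫ f) := by rw [hh]; exact hZ
  haveI : Smooth h := Groth.Agent.NeronBij.smooth_of_comp h f
  have hr := isPullback_morphismRestrict f T₀
  let b' : P ⟶ (f ⁻¹ᵁ T₀ : S.Opens) := hr.lift b (a ≫ h) (by rw [Category.assoc, hh, hP.w])
  have hsq : IsPullback a b' h (f ⁻¹ᵁ T₀).ι :=
    IsPullback.of_bot (by rw [hh, hr.lift_fst]; exact hP) (hr.lift_snd _ _ _).symm hr.flip
  obtain ⟨g', ⟨hg, hg'⟩, hu'⟩ := (Groth.Agent.NeronBij.bijective_iff _ (Over.mk h) (Over.mk g)).mp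
    (hN (Over.mk h) ‹_›) P a b' hsq φ hh'.symm
  refine ⟨g', ⟨?_, hg'⟩, fun g'' ⟨h1, h2⟩ => hu' g'' ⟨?_, h2⟩⟩
  · show g' ≫ g ≫ f = Z.hom
    rw [reassoc_of% (show g' ≫ g = h from hg), hh]
  · exact hu (g'' ≫ g) ⟨by rw [Category.assoc]; exact h1, by rw [← Category.assoc, h2]⟩

end Groth.Agent.S13421
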