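import Groth.Statements.S13426
import Groth.Agent.ClosedRep.Over
import Groth.Agent.AlgStLib.Noeth
import Groth.Agent.GrpField.SchImgExists
-- import your own Groth.Agent.* helpers here

set_option autoImplicit false
universe u
open CategoryTheory MonoidalCategory CartesianMonoidalCategory MonObj GrpObj AlgebraicGeometry
open GrpSch

open CategoryTheory CategoryTheory.Limits MonoidalCategory CartesianMonoidalCategory MonObj GrpObj AlgebraicGeometry
open scoped CategoryTheory.Obj
set_option linter.style.haveILetI false
set_option backward.isDefEq.respectTransparency false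

namespace Groth.Agent.S13426

/-- morphisms into a separated target agree when they agree after a schematically dominant morphism -/
lemma ext_of_schDominant {A Z X Y : Scheme.{u}} (v : A ⟶ Z) [IsSchemeTheoreticallyDominant v]
    (a b : Z ⟶ X) (p : X ⟶ Y) [IsSeparated p] (h : a ≫ p = b ≫ p) (hv : v ≫ a = v ≫ b) : a = b := by
  let L : Z ⟶ pullback p p := pullback.lift a b h
  have hl : (v ≫ a) ≫ pullback.diagonal p = v ≫ L := by
    apply pullback.hom_ext <;> simp [L, hv]
  let c : A ⟶ pullback (pullback.diagonal p) L := pullback.lift (v ≫ a) v hl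
  have hker : (pullback.snd (pullback.diagonal p) L).ker = ⊥ := by
    refine le_bot_iff.1 (le_trans (Scheme.Hom.le_ker_comp c _) ?_)
    rw [pullback.lift_snd, v.ker_eq_bot]
  haveI : IsIso (pullback.snd (pullback.diagonal p) L) := IsClosedImmersion.isIso_iff_ker_eq_bot.2 hker
  have e : L = (inv (pullback.snd (pullback.diagonal p) L) ≫ pullback.fst _ _) ≫ pullback.diagonal p := by
    rw [Category.assoc, pullback.condition, IsIso.inv_hom_id_assoc]
  have e1 : L ≫ pullback.fst p p = a := pullback.lift_fst _ _ _
  have e2 : L ≫ pullback.snd p p = b := pullback.lift_snd _ _ _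
  rw [← e1, ← e2, e]
  simp

/-- Let S be a locally Noetherian scheme over a field of characteristic 0, S₀ ⊆ S a scheme-theoretically
dense open, and G a smooth S-scheme with the weak Néron mapping property for S₀ ⊆ S: for every étale
S-scheme U, restriction to S₀ is a bijection from S-morphisms U → G onto S₀-morphisms. Let H be a
smooth group scheme over S together with a monomorphism H → G of S-schemes (the case in view: G a
group scheme and H a subgroup scheme), and assume that H is aligned, i.e. the scheme-theoretic image
of its unit section is étale over S, and that H ×_S S₀ → S₀ is separated. Then H → S is separated.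
(Case of schemes of a statement about group algebraic spaces; only the injectivity of H → G on
morphisms is used of the subgroup condition.) -/
theorem result {k : Type u} [Field k] [CharZero k] {S : Scheme.{u}} (σ : S ⟶ Spec (CommRingCat.of k)) [IsLocallyNoetherian S] (S₀ : S.Opens) (hS₀ : CInt.IsSchematicallyDense S₀)
    (G : Over S) [Smooth G.hom]
    (hG : ∀ U : Over S, Etale U.hom → Function.Bijective (fun g : U ⟶ G => (Over.pullback S₀.ι).map g))
    (H : Over S) [GrpObj H] [Smooth H.hom] (j : H ⟶ G) [Mono j.left]
    (hal : Etale (η[H].left.ker.subschemeι ≫ H.hom))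
    (h0 : IsSeparated (Limits.pullback.snd H.hom S₀.ι)) :
    IsSeparated H.hom := by
  haveI := hal
  haveI : IsLocallyNoetherian H.left := LocallyOfFiniteType.isLocallyNoetherian H.hom
  have hη : η[H].left ≫ H.hom = 𝟙 S := Over.w η[H]
  haveI : IsImmersion (η[H].left ≫ H.hom) := by
    rw [hη]
    exact MorphismProperty.id_mem @IsImmersion S
  haveI : IsImmersion η[H].left := IsImmersion.of_comp η[H].left H.hom
  haveI : QuasiCompact η[H].left := AlgStLib.quasiCompact_of_isImmersion _
  let k1 := η[H].left.ker.subschemeι
  let v : S ⟶ η[H].left.ker.subscheme := η[H].left.toImage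
  have hvk : v ≫ k1 = η[H].left := η[H].left.toImage_imageι
  haveI : IsSchemeTheoreticallyDominant v := GrpField.SchImg.schDom_toImage _
  let q := k1 ≫ H.hom
  let Z : Over S := Over.mk q
  let a : Z ⟶ H := Over.homMk k1 rfl
  let b : Z ⟶ H := Over.homMk (q ≫ η[H].left) (by rw [Category.assoc, hη, Category.comp_id]; rfl)
  have hab : a = b := by
    haveI : Etale Z.hom := hal
    haveI : Mono j := ⟨fun g h e => Over.OverMorphism.ext ((cancel_mono j.left).1 (congrArg Over.Hom.left e))⟩
    rw [← cancel_mono j]
    refine (hG Z hal).1 ?_
    simp only [Functor.map_comp]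
    congr 1
    refine Over.OverMorphism.ext ?_
    haveI : Flat (pullback.fst q S₀.ι) := inferInstance
    let c := pullback.snd v (pullback.fst q S₀.ι)
    haveI : IsSchemeTheoreticallyDominant c := inferInstance
    haveI := h0
    refine ext_of_schDominant c _ _ (pullback.snd H.hom S₀.ι) ?_ ?_
    · simp [Z]
    · have hc : c ≫ pullback.fst q S₀.ι = pullback.fst v (pullback.fst q S₀.ι) ≫ v :=
        (pullback.condition).symm
      apply pullback.hom_ext
      · simp only [Category.assoc]
        have ea : ∀ f : Z ⟶ H, ((Over.pullback S₀.ι).map f).left ≫ pullback.fst H.hom S₀.ι =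
            pullback.fst q S₀.ι ≫ f.left := fun f => pullback.lift_fst _ _ _
        rw [ea, ea]
        show c ≫ pullback.fst q S₀.ι ≫ k1 = c ≫ pullback.fst q S₀.ι ≫ q ≫ η[H].left
        rw [reassoc_of% hc, reassoc_of% hc, hvk, ← Category.assoc v q]
        have hvq : v ≫ q = 𝟙 S := by rw [← Category.assoc, hvk, hη]
        rw [hvq, Category.id_comp]
      · simp [Z]
  have hk1 : k1 = q ≫ η[H].left := congrArg Over.Hom.left hab
  have hqv : q ≫ v = 𝟙 _ := by
    rw [← cancel_mono k1, Category.assoc, hvk, Category.id_comp]; exact hk1.symm
  have hvq : v ≫ q = 𝟙 S := by rw [← Category.assoc, hvk, hη]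
  haveI : IsIso v := ⟨q, hvq, hqv⟩
  haveI : IsClosedImmersion η[H].left := by rw [← hvk]; infer_instance
  exact Groth.Agent.ClosedRep.isSeparated_of_one

end Groth.Agent.S13426
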