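import Groth.Statements.S13422
import Groth.Agent.S0413
import Groth.Agent.S9332
import Groth.Agent.S13426
import Groth.Agent.SectExtU.Dense
-- import your own Groth.Agent.* helpers here

set_option autoImplicit false
universe u
open CategoryTheory AlgebraicGeometry
open NeronHD

open CategoryTheory CategoryTheory.Limits AlgebraicGeometry
set_option linter.style.haveILetI false
set_option backward.isDefEq.respectTransparency false

namespace Groth.Agent.S13422

/-- A locally closed subset containing the closed points of all fibres is everything. -/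
lemma eq_univ_of_closedPoints {X S : Scheme.{u}} (f : X ⟶ S) [LocallyOfFiniteType f] (R : Set X)
    (hR : IsLocallyClosed R) (h : ∀ x : X, IsClosed ({f.asFiber x} : Set ↑(f.fiber (f x))) → x ∈ R) :
    R = Set.univ := by
  have h' : ∀ (y : S) (w : f.fiber y), IsClosed ({w} : Set ↑(f.fiber y)) → f.fiberι y w ∈ R := by
    intro y w hw
    suffices H : ∀ x : X, f x = y → f.fiberι y w = x → x ∈ R from H _ (by
      have h1 : f.fiberι y w ∈ f ⁻¹' {y} := f.range_fiberι y ▸ Set.mem_range_self w
      exact h1) rfl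
    intro x hxy hx
    subst hxy
    refine h x ?_
    rwa [show f.asFiber x = w from (f.fiberι _).isEmbedding.injective ((f.fiberι_asFiber _).trans hx.symm)]
  obtain ⟨O, C, hO, hC, rfl⟩ := hR
  refine Set.eq_univ_of_forall fun x => by_contra fun hx => ?_
  let w₀ := f.asFiber x
  let c := f.fiberι (f x)
  have hw₀ : c w₀ = x := f.fiberι_asFiber x
  have : ∃ T : Set ↑(f.fiber (f x)), IsLocallyClosed T ∧ w₀ ∈ T ∧ ∀ w ∈ T, c w ∉ O ∩ C := by
    by_cases hxO : x ∈ O
    · refine ⟨c ⁻¹' Cᶜ, (hC.isOpen_compl.preimage c.continuous).isLocallyClosed, ?_, fun w hw hc => hw hc.2⟩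
      show c w₀ ∉ C
      rw [hw₀]
      exact fun hxC => hx ⟨hxO, hxC⟩
    · refine ⟨c ⁻¹' Oᶜ, (hO.isClosed_compl.preimage c.continuous).isLocallyClosed, ?_, fun w hw hc => hw hc.1⟩
      show c w₀ ∉ O
      rwa [hw₀]
  obtain ⟨T, hT, hwT, hTR⟩ := this
  obtain ⟨w, hw, hwc⟩ := nonempty_inter_closedPoints ⟨w₀, hwT⟩ hT
  exact hTR w hw (h' _ w hwc)


/-- Let S be a locally Noetherian scheme over a field of characteristic 0, S₀ ⊆ S a scheme-theoretically
dense open, and N a smooth S-scheme with the weak Néron mapping property for S₀ ⊆ S: for every étale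
S-scheme U, restriction to S₀ is a bijection from S-morphisms U → N onto S₀-morphisms U|S₀ → N|S₀.
Then N has the uniqueness half of the Néron mapping property: for every smooth S-scheme Z,
restriction of S-morphisms Z → N to S₀ is injective. (Case of schemes of a statement about algebraic
spaces.) -/
theorem result {k : Type u} [Field k] [CharZero k] {S : Scheme.{u}} (σ : S ⟶ Spec (CommRingCat.of k)) [IsLocallyNoetherian S] (S₀ : S.Opens) (hS₀ : CInt.IsSchematicallyDense S₀)
    (N : Over S) [Smooth N.hom]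
    (hN : ∀ U : Over S, Etale U.hom → Function.Bijective (fun g : U ⟶ N => (Over.pullback S₀.ι).map g))
    (Z : Over S) [Smooth Z.hom] :
    Function.Injective (fun g : Z ⟶ N => (Over.pullback S₀.ι).map g) := by
  haveI : IsSchemeTheoreticallyDominant S₀.ι := ⟨SectExtU.ker_ι_eq_bot hS₀⟩
  let D := Z.hom ⁻¹ᵁ S₀
  haveI : IsSchemeTheoreticallyDominant D.ι :=
    IsSchemeTheoreticallyDominant.of_isPullback (isPullback_morphismRestrict Z.hom S₀)
  let e := (isPullback_morphismRestrict Z.hom S₀).flip.isoPullback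
  have he : e.hom ≫ pullback.fst Z.hom S₀.ι = D.ι := IsPullback.isoPullback_hom_fst _
  have res : ∀ f : Z ⟶ N, e.hom ≫ ((Over.pullback S₀.ι).map f).left ≫ pullback.fst N.hom S₀.ι = D.ι ≫ f.left := by
    intro f
    rw [show ((Over.pullback S₀.ι).map f).left ≫ pullback.fst N.hom S₀.ι = pullback.fst Z.hom S₀.ι ≫ f.left from
      pullback.lift_fst _ _ _, reassoc_of% he]
  intro g₁ g₂ hg
  simp only at hg
  have hD : D.ι ≫ g₁.left = D.ι ≫ g₂.left := by rw [← res g₁, ← res g₂, hg]
  let L : Z.left ⟶ pullback N.hom N.hom := pullback.lift g₁.left g₂.left ((Over.w g₁).trans (Over.w g₂).symm)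
  let E := pullback.snd (pullback.diagonal N.hom) L
  haveI : IsImmersion E := inferInstanceAs (IsImmersion (pullback.snd _ _))
  have fac : ∀ {A : Scheme.{u}} (v : A ⟶ Z.left), v ≫ g₁.left = v ≫ g₂.left →
      ∃ c : A ⟶ pullback (pullback.diagonal N.hom) L, c ≫ E = v := by
    intro A v hv
    refine ⟨pullback.lift (v ≫ g₁.left) v ?_, pullback.lift_snd _ _ _⟩
    apply pullback.hom_ext <;> simp [L, hv]
  have hrange : Set.range E = Set.univ := by
    refine eq_univ_of_closedPoints Z.hom _ E.isLocallyClosed_range fun x hx => ?_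
    have hfin := (Groth.Agent.S9332.result Z.hom x).1 hx
    letI := (Z.hom.residueFieldMap x).hom.toAlgebra
    haveI : CharZero (S.residueField (Z.hom x)) :=
      charZero_of_injective_ringHom (Spec.preimage (S.fromSpecResidueField (Z.hom x) ≫ σ)).hom.injective
    haveI : Module.Finite (S.residueField (Z.hom x)) (Z.left.residueField x) := hfin
    obtain ⟨W, j, w, hj, hje, hw, -⟩ := Groth.Agent.S0413.result Z.hom x hx inferInstance
    have : j ≫ g₁.left = j ≫ g₂.left := by
      let jo : Over.mk (j ≫ Z.hom) ⟶ Z := Over.homMk j rfl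
      have h1 : jo ≫ g₁ = jo ≫ g₂ := (hN (Over.mk (j ≫ Z.hom)) hje).1 (by
        simp only [Functor.map_comp, hg])
      exact congrArg Over.Hom.left h1
    obtain ⟨c, hc⟩ := fac j this
    exact ⟨c w, by rw [← Scheme.Hom.comp_apply, hc, hw]⟩
  haveI : IsClosedImmersion E := IsClosedImmersion.iff_isPreimmersion.2 ⟨inferInstance, by rw [hrange]; exact isClosed_univ⟩
  obtain ⟨c, hc⟩ := fac D.ι hD
  haveI : IsIso E := IsClosedImmersion.isIso_iff_ker_eq_bot.2 (le_bot_iff.1 (le_trans (Scheme.Hom.le_ker_comp c E) (by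
    rw [hc, D.ι.ker_eq_bot])))
  have eL : L = (inv E ≫ pullback.fst _ _) ≫ pullback.diagonal N.hom := by
    rw [Category.assoc, pullback.condition, IsIso.inv_hom_id_assoc]
  refine Over.OverMorphism.ext ?_
  have e1 : L ≫ pullback.fst N.hom N.hom = g₁.left := pullback.lift_fst _ _ _
  have e2 : L ≫ pullback.snd N.hom N.hom = g₂.left := pullback.lift_snd _ _ _
  rw [← e1, ← e2, eL]
  simp

end Groth.Agent.S13422
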