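import Groth.Statements.S13423
-- import your own Groth.Agent.* helpers here
import Groth.Agent.UnibranchEtale.Components
import Groth.Agent.UnibranchEtale.SmoothFibres

set_option autoImplicit false
universe u
open CategoryTheory AlgebraicGeometry
open NeronHD

namespace Groth.Agent.S13423

/-- Let S be a reduced, locally Noetherian scheme over a field of characteristic 0 whose local rings are
all geometrically unibranch, and let f : X → S be quasi-finite (locally of finite type,
quasi-compact, with finite discrete fibres), separated and dominant, with X connected and nonempty,
such that every fibre X_s over the residue field k(s) is smooth. Then f is étale. (Case of schemes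
of a statement about algebraic spaces.) -/
theorem result {k : Type u} [Field k] [CharZero k] {S : Scheme.{u}} (σ : S ⟶ Spec (CommRingCat.of k)) [IsLocallyNoetherian S] [IsReduced S]
    (hS : ∀ s : S, CAlg2.IsGeomUnibranch (S.presheaf.stalk s))
    {X : Scheme.{u}} (f : X ⟶ S) [LocallyOfFiniteType f] [QuasiCompact f] [LocallyQuasiFinite f] [IsSeparated f] [IsDominant f]
    [ConnectedSpace X]
    (hfib : ∀ s : S, Smooth (Limits.pullback.snd f (S.fromSpecResidueField s))) :
    Etale f := by
  haveI hS' : ∀ s : S, IsDomain (S.presheaf.stalk s) := fun s => by
    have h := (hS s).1.1
    exact ((RingEquiv.quotientBot (S.presheaf.stalk s)).symm.trans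
      (Ideal.quotEquivOfEq (nilradical_eq_zero (S.presheaf.stalk s)).symm)).toMulEquiv.isDomain
  haveI : ConnectedSpace S := by
    haveI : Nonempty S := ⟨f (Classical.arbitrary X)⟩
    have h := (isPreconnected_range f.continuous).closure
    rw [f.denseRange.closure_range] at h
    exact { isPreconnected_univ := h, toNonempty := inferInstance }
  haveI := UnibranchEtale.irreducibleSpace_of_connected hS fun s => Unibranch.exists_opens_finite_components s
  haveI : IsIntegral S := isIntegral_of_irreducibleSpace_of_isReduced S
  haveI : FormallyUnramified f := UnibranchEtale.formallyUnramified_of_smooth_fibres σ f hfib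
  obtain ⟨z, hz⟩ : ∃ z, f z = genericPoint S := UnibranchEtale.exists_over_generic f
  exact (UnibranchEtale.main_connected f hS ⟨z, hz⟩).1

end Groth.Agent.S13423
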