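import Groth.Statements.S13424
import Groth.Agent.SectionExt.Basic
import Groth.Agent.DomLib.Basic
import Groth.Agent.S4989
import Groth.Agent.FpqcDescent.Sep
-- import your own Groth.Agent.* helpers here

set_option autoImplicit false
universe u
open CategoryTheory AlgebraicGeometry
open GrpSch

open CategoryTheory CategoryTheory.Limits AlgebraicGeometry
set_option linter.style.haveILetI false
set_option backward.isDefEq.respectTransparency false

namespace Groth.Agent.S13424

/-- the closure of a section of a quasi-finite morphism from a scheme with domain stalks is open -/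
lemma isOpen_closure_range {P S : Scheme.{u}} (q : P ⟶ S) [LocallyQuasiFinite q] [IsLocallyNoetherian P]
    [∀ p : P, IsDomain (P.presheaf.stalk p)] (e : S ⟶ P) (he : e ≫ q = 𝟙 S) :
    IsOpen (closure (Set.range e)) := by
  refine isOpen_iff_forall_mem_open.2 fun p hp => ?_
  obtain ⟨V, hpV, -, hVint, -⟩ := SectionExt.exists_integral_nhd p ⊤ trivial
  haveI := hVint
  refine ⟨V, ?_, V.2, hpV⟩
  obtain ⟨v, hvV, s, rfl⟩ := mem_closure_iff.1 hp V V.2 hpV
  obtain ⟨η, hη, hηs⟩ := DomLib.exists_max s
  have hmax : ∀ y, y ⤳ e η → y = e η := by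
    intro y hy
    have h1 : q (e η) = η := by rw [← Scheme.Hom.comp_apply, he]; rfl
    have h2 : q y ⤳ η := h1 ▸ hy.map q.continuous
    have h3 : q y = η := (h2.antisymm (by
      rw [specializes_iff_mem_closure]
      exact hη.2 isIrreducible_singleton.closure
        (closure_minimal (Set.singleton_subset_iff.2 (specializes_iff_mem_closure.1 h2)) isClosed_closure)
        (subset_closure rfl))).eq
    haveI := (isDiscrete_iff_discreteTopology.1 (q.isDiscrete_preimage_singleton η))
    have h4 : (⟨y, h3⟩ : ↥(⇑q ⁻¹' {η})) ⤳ ⟨e η, h1⟩ :=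
      Topology.IsInducing.subtypeVal.specializes_iff.1 hy
    exact congrArg Subtype.val h4.eq
  have hV' : e η ∈ V := (hηs.map e.continuous).mem_open V.2 hvV
  intro w hw
  let g := genericPoint (V : Scheme.{u})
  have hg1 : g ⤳ (⟨e η, hV'⟩ : (V : Scheme.{u})) := genericPoint_specializes _
  have hg2 : g ⤳ (⟨w, hw⟩ : (V : Scheme.{u})) := genericPoint_specializes _
  have hge : V.ι g = e η := hmax _ (hg1.map V.ι.continuous)
  have : e η ⤳ w := hge ▸ hg2.map V.ι.continuous
  exact this.mem_closed isClosed_closure (subset_closure ⟨η, rfl⟩)

/-- Let S be a normal, locally Noetherian scheme over a field of characteristic 0. Let p : G → S and q :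
H → S be smooth morphisms with sections e_G and e_H, and f : G → H an étale morphism over S with f ∘
e_G = e_H (the case in view: an étale homomorphism of smooth group schemes and their unit sections).
Call such a pointed S-scheme aligned when the scheme-theoretic image of its section is étale over S.
If H is aligned then G is aligned. (The published statement has an arbitrary locally Noetherian
base; over the reducible curve xy = 0 the étale group scheme obtained from two copies of the base
glued along the complement of one branch maps to the trivial group by an étale homomorphism and is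
not aligned, so the base is taken normal here, where the closure of the section is a union of
connected components of the preimage of the image of e_H. Schemes only.) -/
theorem result {k : Type u} [Field k] [CharZero k] {S : Scheme.{u}} (σ : S ⟶ Spec (CommRingCat.of k)) [IsLocallyNoetherian S] (hS : Pi1.IsNormalScheme S)
    {G H : Scheme.{u}} (p : G ⟶ S) (q : H ⟶ S) [Smooth p] [Smooth q]
    (eG : S ⟶ G) (eH : S ⟶ H) (heG : eG ≫ p = 𝟙 S) (heH : eH ≫ q = 𝟙 S)
    (f : G ⟶ H) [Etale f] (hf : f ≫ q = p) (hfe : eG ≫ f = eH)
    (hH : Etale (eH.ker.subschemeι ≫ q)) :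
    Etale (eG.ker.subschemeι ≫ p) := by
  haveI := hH
  let P := pullback f eH.ker.subschemeι
  let a : P ⟶ G := pullback.fst f eH.ker.subschemeι
  haveI : IsClosedImmersion a := inferInstance
  have hap : a ≫ p = pullback.snd f eH.ker.subschemeι ≫ eH.ker.subschemeι ≫ q := by
    rw [← hf, ← Category.assoc, ← Category.assoc]
    congr 1
    exact pullback.condition
  haveI : Etale (a ≫ p) := by rw [hap]; infer_instance
  haveI : IsLocallyNoetherian P := LocallyOfFiniteType.isLocallyNoetherian (a ≫ p)
  haveI : IsLocallyNoetherian G := LocallyOfFiniteType.isLocallyNoetherian p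
  haveI : LocallyQuasiFinite (a ≫ p) := Groth.Agent.FpqcDescent.locallyQuasiFinite_of_etale _
  haveI hdom : ∀ z : P, IsDomain (P.presheaf.stalk z) := fun z =>
    ((Groth.Agent.S4989.result (a ≫ p) z (by rw [Scheme.Hom.smoothLocus_eq_top]; trivial)).2.2 (hS _)).1
  haveI : ∀ z : P, _root_.IsReduced (P.presheaf.stalk z) := fun z => inferInstance
  haveI : IsReduced P := isReduced_of_isReduced_stalk P
  let e : S ⟶ P := pullback.lift eG eH.toImage (by rw [hfe]; exact eH.toImage_imageι.symm)
  have hea : e ≫ a = eG := pullback.lift_fst _ _ _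
  have he : e ≫ a ≫ p = 𝟙 S := by rw [reassoc_of% hea, heG]
  let W : P.Opens := ⟨closure (Set.range e), isOpen_closure_range (a ≫ p) e he⟩
  haveI : IsClosedImmersion W.ι := IsClosedImmersion.of_isPreimmersion W.ι (by
    rw [Scheme.Opens.range_ι]; exact isClosed_closure)
  let e' : S ⟶ (W : Scheme.{u}) := IsOpenImmersion.lift W.ι e (by
    rw [Scheme.Opens.range_ι]; exact subset_closure)
  have he' : e' ≫ W.ι = e := IsOpenImmersion.lift_fac _ _ _
  haveI : IsDominant e' := ⟨fun w => by
    rw [W.ι.isEmbedding.closure_eq_preimage_closure_image, ← Set.range_comp]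
    show W.ι w ∈ closure (Set.range (e' ≫ W.ι))
    rw [he']
    exact w.2⟩
  haveI : IsReduced (W : Scheme.{u}) := isReduced_of_isOpenImmersion W.ι
  haveI : IsSchemeTheoreticallyDominant e' := IsSchemeTheoreticallyDominant.of_isDominant e'
  let j := W.ι ≫ a
  have hker : eG.ker = j.ker := by
    rw [← hea, ← he', Category.assoc, ← Scheme.IdealSheafData.map_ker, e'.ker_eq_bot,
      Scheme.IdealSheafData.map_bot]
  rw [hker]
  have : j.ker.subschemeι = inv j.toImage ≫ j := by
    rw [IsIso.eq_inv_comp]; exact j.toImage_imageι
  rw [this, Category.assoc]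
  haveI : Etale (j ≫ p) := by rw [Category.assoc]; infer_instance
  infer_instance

end Groth.Agent.S13424
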