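import Groth.Statements.S4809
import Groth.Agent.BiratNormal.Scheme

set_option autoImplicit false
universe u
open CategoryTheory AlgebraicGeometry
open Lim8

namespace Groth.Agent.S4809

/-- Let Y be an integral normal scheme (every local ring integrally closed), X an integral scheme, and f
: X ⟶ Y a locally quasi-finite morphism (locally of finite type with discrete fibres) which is
birational: f maps the generic point of X to that of Y and its stalk map at the generic point of X,
the induced homomorphism of function fields, is an isomorphism. Then f is a local isomorphism, and f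
is an open immersion as soon as it is separated. -/
theorem result {X Y : Scheme.{u}} [IsIntegral X] [IsIntegral Y]
    (hN : ∀ y : Y, IsIntegrallyClosed (Y.presheaf.stalk y)) (f : X ⟶ Y) [LocallyQuasiFinite f]
    [LocallyOfFiniteType f] (hgen : f (genericPoint X) = genericPoint Y)
    (hbir : IsIso (f.stalkMap (genericPoint X))) :
    IsLocalIso f ∧ (IsSeparated f → IsOpenImmersion f) := by
  refine ⟨⟨fun x => ?_⟩, fun hs => ?_⟩
  · obtain ⟨D, V, e, -, hV, h⟩ := BiratNormal.exists_nhd_isIso f hbir x (hN _) (f.quasiFiniteAt x)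
    haveI := h
    refine ⟨V, hV, ?_⟩
    rw [← Scheme.Hom.resLE_comp_ι f e]
    infer_instance
  · haveI := hs
    let R : Y.Opens := ⨆ D : {D : Y.Opens // IsIso (f ∣_ D)}, D.1
    have htop : f ⁻¹ᵁ R = ⊤ := eq_top_iff.mpr fun x _ => by
      obtain ⟨D, V, e, hD, hV, h⟩ := BiratNormal.exists_nhd_isIso f hbir x (hN _) (f.quasiFiniteAt x)
      haveI := h
      exact TopologicalSpace.Opens.mem_iSup.mpr ⟨⟨D, BiratNormal.isIso_morphismRestrict_of_nhd f D V e ⟨x, hV⟩⟩, hD⟩
    haveI : IsOpenImmersion (f ∣_ R) := by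
      refine (IsZariskiLocalAtTarget.iff_of_iSup_eq_top (P := @IsOpenImmersion)
        (fun D : {D : Y.Opens // IsIso (f ∣_ D)} => R.ι ⁻¹ᵁ D.1) ?_).mpr fun D => ?_
      · refine eq_top_iff.mpr fun z _ => ?_
        obtain ⟨D, hD⟩ := TopologicalSpace.Opens.mem_iSup.mp z.2
        exact TopologicalSpace.Opens.mem_iSup.mpr ⟨D, hD⟩
      · haveI := D.2
        refine (MorphismProperty.arrow_mk_iso_iff @IsOpenImmersion
          (morphismRestrictRestrict f R (R.ι ⁻¹ᵁ D.1) ≪≫ morphismRestrictEq f ?_)).mpr
          (inferInstance : IsOpenImmersion (f ∣_ D.1))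
        rw [Scheme.Hom.image_preimage_eq_opensRange_inf, Scheme.Opens.opensRange_ι, inf_eq_right]
        exact le_iSup (fun D : {D : Y.Opens // IsIso (f ∣_ D)} => D.1) D
    have h1 : IsOpenImmersion ((f ⁻¹ᵁ R).ι ≫ f) := by rw [← morphismRestrict_ι]; infer_instance
    haveI : IsIso (f ⁻¹ᵁ R).ι := by rw [htop]; exact (Scheme.topIso X).isIso_hom
    exact (MorphismProperty.cancel_left_of_respectsIso @IsOpenImmersion (f ⁻¹ᵁ R).ι f).mp h1

end Groth.Agent.S4809
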