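import Groth.Statements.S13425
import Groth.Agent.InjCl.Basic
import Groth.Agent.S14417
import Groth.Agent.S7849
-- import your own Groth.Agent.* helpers here

set_option autoImplicit false
universe u
open CategoryTheory AlgebraicGeometry
open NeronHD

open CategoryTheory CategoryTheory.Limits AlgebraicGeometry
set_option linter.style.haveILetI false
set_option backward.isDefEq.respectTransparency false

namespace Groth.Agent.S13425


/-- Let k be a characteristic-zero algebraically closed field and X, Y integral schemes, separated and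
of finite type over k, with Y normal, and let f : X → Y be a dominant k-morphism which is injective
on k-rational points. Then f is an open immersion. (Case of schemes of a statement about algebraic
spaces.) -/
theorem result {k : Type u} [Field k] [IsAlgClosed k] [CharZero k]
    {X Y : Scheme.{u}} (sX : X ⟶ Spec (CommRingCat.of k)) (sY : Y ⟶ Spec (CommRingCat.of k))
    [IsIntegral X] [IsIntegral Y] [IsSeparated sX] [IsSeparated sY]
    [LocallyOfFiniteType sX] [QuasiCompact sX] [LocallyOfFiniteType sY] [QuasiCompact sY]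
    (hY : Pi1.IsNormalScheme Y)
    (f : X ⟶ Y) (hf : f ≫ sY = sX) [IsDominant f]
    (hinj : ∀ a b : Spec (CommRingCat.of k) ⟶ X, a ≫ sX = 𝟙 _ → b ≫ sX = 𝟙 _ → a ≫ f = b ≫ f → a = b) :
    IsOpenImmersion f := by
  haveI : IsLocallyNoetherian X := LocallyOfFiniteType.isLocallyNoetherian sX
  haveI : IsLocallyNoetherian Y := LocallyOfFiniteType.isLocallyNoetherian sY
  haveI : CompactSpace X := QuasiCompact.compactSpace_of_compactSpace sX
  haveI : CompactSpace Y := QuasiCompact.compactSpace_of_compactSpace sY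
  haveI : IsNoetherian X := ⟨⟩
  haveI : IsNoetherian Y := ⟨⟩
  haveI : LocallyOfFiniteType (f ≫ sY) := hf ▸ inferInstance
  haveI : QuasiCompact (f ≫ sY) := hf ▸ inferInstance
  haveI : IsSeparated (f ≫ sY) := hf ▸ inferInstance
  haveI : LocallyOfFiniteType f := locallyOfFiniteType_of_comp f sY
  haveI : QuasiCompact f := QuasiCompact.of_comp f sY
  haveI : IsSeparated f := IsSeparated.of_comp f sY
  haveI : LocallyQuasiFinite f := InjCl.locallyQuasiFinite_of_points f hf hinj
  have hdom : f (genericPoint X) = genericPoint Y := by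
    refine ((genericPoint_spec X).image f.continuous).eq ?_
    rw [Set.image_univ, f.denseRange.closure_range]
    exact genericPoint_spec Y
  haveI : CharZero Y.functionField :=
    charZero_of_injective_ringHom (Spec.preimage (Y.fromSpecStalk (genericPoint Y) ≫ sY)).hom.injective
  letI := (f.stalkMap (genericPoint X)).hom.toAlgebra
  haveI : IsArtinianRing (Y.presheaf.stalk (f (genericPoint X))) := by
    have : ∀ y, y = genericPoint Y → IsArtinianRing (Y.presheaf.stalk y) := by
      rintro _ rfl
      exact inferInstanceAs (IsArtinianRing Y.functionField)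
    exact this _ hdom
  haveI : Algebra.QuasiFinite (Y.presheaf.stalk (f (genericPoint X))) (X.presheaf.stalk (genericPoint X)) :=
    RingHom.quasiFinite_algebraMap.1 (f.quasiFiniteAt (genericPoint X))
  haveI : Module.Finite (Y.presheaf.stalk (f (genericPoint X))) (X.presheaf.stalk (genericPoint X)) :=
    Module.Finite.of_quasiFinite
  obtain ⟨U, ⟨u₀, hu₀⟩, hU⟩ := Groth.Agent.S14417.result X Y f hdom 0 (by
    show Algebra.trdeg (Y.presheaf.stalk (f (genericPoint X))) (X.presheaf.stalk (genericPoint X)) = _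
    haveI := Algebra.IsIntegral.of_finite (Y.presheaf.stalk (f (genericPoint X))) (X.presheaf.stalk (genericPoint X))
    rw [trdeg_eq_zero]
    rfl)
  haveI : Etale (U.ι ≫ f) := (Etale.iff_smoothOfRelativeDimension_zero _).2 hU
  have hξU : genericPoint X ∈ U := ((genericPoint_spec X).mem_open_set_iff U.2).2 ⟨u₀, Set.mem_univ _, hu₀⟩
  obtain ⟨T, hTf, hTc, hTi, hTU⟩ := TopologicalSpace.NoetherianSpace.exists_finite_set_isClosed_irreducible
    (α := X) U.2.isClosed_compl
  let B : Set Y := ⋃ t : T, closure {f (hTi t.1 t.2).genericPoint}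
  haveI : Finite T := hTf.to_subtype
  have hB : IsClosed B := isClosed_iUnion_of_finite fun _ => isClosed_closure
  have hηB : genericPoint Y ∉ B := by
    intro hη
    obtain ⟨t, ht⟩ := Set.mem_iUnion.1 hη
    let c := (hTi t.1 t.2).genericPoint
    have hce : f c = genericPoint Y :=
      ((genericPoint_spec Y).specializes (Set.mem_univ (f c))).antisymm
        (specializes_iff_mem_closure.2 ht) |>.eq |>.symm
    have hct : c ∈ t.1 := ((hTi t.1 t.2).isGenericPoint_genericPoint (hTc _ t.2)).mem
    have hcU : c ∉ U := fun h => (hTU.symm.subset (Set.mem_sUnion_of_mem hct t.2)) h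
    refine hcU ?_
    have hξc : genericPoint X ⤳ c := (genericPoint_spec X).specializes (Set.mem_univ c)
    rw [show c = genericPoint X from ?_]
    · exact hξU
    have hd := (isDiscrete_iff_discreteTopology.1 (f.isDiscrete_preimage_singleton (genericPoint Y)))
    have h1 : (⟨genericPoint X, hdom⟩ : f ⁻¹' {genericPoint Y}) ⤳ ⟨c, hce⟩ := (subtype_specializes_iff _ _).2 hξc
    exact (congrArg Subtype.val h1.eq).symm
  let V : Y.Opens := ⟨Bᶜ, hB.isOpen_compl⟩
  have hVU : f ⁻¹ᵁ V ≤ U := by
    intro x hx
    by_contra hxU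
    obtain ⟨t, htT, hxt⟩ := Set.mem_sUnion.1 (hTU.subset hxU)
    refine hx (Set.mem_iUnion.2 ⟨⟨t, htT⟩, ?_⟩)
    exact specializes_iff_mem_closure.1
      ((((hTi t htT).isGenericPoint_genericPoint (hTc _ htT)).specializes hxt).map f.continuous)
  let O : Y.Opens := ⟨(V : Set Y) ∩ Set.range (U.ι ≫ f), V.2.inter (U.ι ≫ f).isOpenMap.isOpen_range⟩
  have hηO : genericPoint Y ∈ O := ⟨hηB, ⟨⟨genericPoint X, hξU⟩, hdom⟩⟩
  let W := f ⁻¹ᵁ O
  have hWU : W ≤ U := fun x hx => hVU hx.1
  haveI : Etale (W.ι ≫ f) := by
    rw [← Scheme.homOfLE_ι X hWU, Category.assoc]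
    infer_instance
  haveI : Etale (f ∣_ O) := by
    have : Etale ((f ∣_ O) ≫ O.ι) := by rw [morphismRestrict_ι]; infer_instance
    exact Etale.of_comp (f ∣_ O) O.ι
  haveI : Mono (f ∣_ O) := InjCl.mono_of_points (sX := W.ι ≫ sX) (sY := O.ι ≫ sY) (f ∣_ O)
    (by rw [← Category.assoc, morphismRestrict_ι, Category.assoc, hf]) fun a b ha hb h => by
      rw [← cancel_mono W.ι]
      refine hinj _ _ (by rw [Category.assoc, ha]) (by rw [Category.assoc, hb]) ?_
      rw [Category.assoc, Category.assoc, ← morphismRestrict_ι, reassoc_of% h]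
  haveI : IsOpenImmersion (f ∣_ O) := IsOpenImmersion.of_flat_of_mono _
  have hsurj : Function.Surjective (f ∣_ O) := by
    rintro ⟨y, hyV, ⟨x, hx⟩⟩
    refine ⟨⟨U.ι x, ?_⟩, Subtype.ext ?_⟩
    · show f (U.ι x) ∈ O
      rw [← Scheme.Hom.comp_apply, hx]
      exact ⟨hyV, x, hx⟩
    · rw [morphismRestrict_base_coe]
      exact hx
  haveI : IsIso (f ∣_ O) := by
    rw [isIso_iff_isOpenImmersion_and_epi_base]
    exact ⟨inferInstance, (TopCat.epi_iff_surjective _).2 hsurj⟩
  refine S7849.isOpenImmersion_core (fun y => (hY y).2) f O ⟨_, hηO⟩ ?_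
  exact W.2.dense ⟨genericPoint X, by show f (genericPoint X) ∈ O; rw [hdom]; exact hηO⟩

end Groth.Agent.S13425
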