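import Groth.Statements.S13427
-- import your own Groth.Agent.* helpers here

set_option autoImplicit false
set_option backward.isDefEq.respectTransparency false
set_option backward.isDefEq.respectTransparency.types false
universe u
open CategoryTheory AlgebraicGeometry
open NeronHD

namespace Groth.Agent.S13427

/-- Let S be a locally Noetherian scheme over a field of characteristic 0, S₀ ⊆ S a scheme-theoretically
dense open, and G, H smooth S-schemes with the Néron mapping property for S₀ ⊆ S (restriction to S₀
of S-morphisms from smooth S-schemes is bijective). Let f : G → H be an S-morphism and e : S → H a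
section of H → S, and let K = G ×_H S be the fibre of f over e (the case in view: f a homomorphism
of smooth group schemes, e the unit, K the kernel, so that 1 → K → G → H is left exact). If K → S is
smooth, then K has the Néron mapping property for S₀ ⊆ S. (Case of schemes, with smooth test
schemes, of a statement about group algebraic spaces.) -/
theorem result {k : Type u} [Field k] [CharZero k] {S : Scheme.{u}} (σ : S ⟶ Spec (CommRingCat.of k)) [IsLocallyNoetherian S] (S₀ : S.Opens) (hS₀ : CInt.IsSchematicallyDense S₀)
    (G H : Over S) [Smooth G.hom] [Smooth H.hom]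
    (hG : ∀ Z : Over S, Smooth Z.hom → Function.Bijective (fun g : Z ⟶ G => (Over.pullback S₀.ι).map g))
    (hH : ∀ Z : Over S, Smooth Z.hom → Function.Bijective (fun g : Z ⟶ H => (Over.pullback S₀.ι).map g))
    (f : G ⟶ H) (e : S ⟶ H.left) (he : e ≫ H.hom = 𝟙 S)
    [Smooth (Limits.pullback.snd f.left e)] :
    ∀ Z : Over S, Smooth Z.hom → Function.Bijective (fun g : Z ⟶ Over.mk (Limits.pullback.snd f.left e) => (Over.pullback S₀.ι).map g) := by
  intro Z hZ
  let K : Over S := Over.mk (Limits.pullback.snd f.left e)
  let ι : K ⟶ G := Over.homMk (Limits.pullback.fst f.left e) (by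
    change Limits.pullback.fst f.left e ≫ G.hom = Limits.pullback.snd f.left e
    rw [← Over.w f, Limits.pullback.condition_assoc, he, Category.comp_id])
  have hext : ∀ (X : Over S) (a b : X ⟶ K), a ≫ ι = b ≫ ι → a = b := by
    intro X a b h
    apply Over.OverMorphism.ext
    apply Limits.pullback.hom_ext
    · exact congrArg CommaMorphism.left h
    · exact (Over.w a).trans (Over.w b).symm
  refine ⟨fun a b h => hext _ _ _ ((hG Z hZ).1 ?_), fun m => ?_⟩
  · change (Over.pullback S₀.ι).map (a ≫ ι) = (Over.pullback S₀.ι).map (b ≫ ι)
    simp only [Functor.map_comp]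
    exact congrArg (· ≫ _) h
  · obtain ⟨g, hg⟩ := (hG Z hZ).2 (m ≫ (Over.pullback S₀.ι).map ι)
    let eZ : Z ⟶ H := Over.homMk (Z.hom ≫ e) (by rw [Category.assoc, he, Category.comp_id])
    let eK : K ⟶ H := Over.homMk (K.hom ≫ e) (by rw [Category.assoc, he, Category.comp_id])
    have hK : ι ≫ f = eK := Over.OverMorphism.ext Limits.pullback.condition
    have hgf : g ≫ f = eZ := (hH Z hZ).1 (by
      change (Over.pullback S₀.ι).map (g ≫ f) = (Over.pullback S₀.ι).map eZ
      rw [Functor.map_comp,
        show (Over.pullback S₀.ι).map g = m ≫ (Over.pullback S₀.ι).map ι from hg,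
        Category.assoc, ← Functor.map_comp, hK]
      apply Over.OverMorphism.ext
      apply Limits.pullback.hom_ext
      · simp [eK, eZ]
        have hm := Over.w m
        simp only [Over.pullback_obj_hom] at hm
        rw [← reassoc_of% (Limits.pullback.condition (f := Z.hom) (g := S₀.ι)).symm, ← hm]
        simp [K, Limits.pullback.condition_assoc]
      · simp [eK, eZ]
        exact Over.w m)
    refine ⟨Over.homMk (Limits.pullback.lift g.left Z.hom (congrArg CommaMorphism.left hgf))
      (Limits.pullback.lift_snd _ _ _), ?_⟩
    have hl : (Over.homMk (U := Z) (V := K) (Limits.pullback.lift g.left Z.hom (congrArg CommaMorphism.left hgf))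
        (Limits.pullback.lift_snd _ _ _)) ≫ ι = g := Over.OverMorphism.ext (Limits.pullback.lift_fst _ _ _)
    apply Over.OverMorphism.ext
    apply Limits.pullback.hom_ext
    · have h' := congrArg (fun t => t.left ≫ Limits.pullback.fst G.hom S₀.ι) hg
      have h'' := congrArg (fun t => t.left ≫ Limits.pullback.fst G.hom S₀.ι) (congrArg (Over.pullback S₀.ι).map hl)
      apply Limits.pullback.hom_ext
      · simp [ι, K] at h' h'' ⊢
        exact h'
      · have hm := Over.w m
        simp only [Over.pullback_obj_hom] at hm
        simp [K, Limits.pullback.condition, ← hm]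
    · exact (Over.w _).trans (Over.w m).symm

end Groth.Agent.S13427
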