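import Groth.Statements.S13428
import Groth.Agent.S7849
import Groth.Agent.S4989
import Groth.Agent.SectExtU.Dense
import Groth.Agent.FpqcDescent.Sep
-- import your own Groth.Agent.* helpers here

set_option autoImplicit false
universe u
open CategoryTheory AlgebraicGeometry
open NeronHD

open CategoryTheory CategoryTheory.Limits AlgebraicGeometry
set_option linter.style.haveILetI false
set_option backward.isDefEq.respectTransparency false

namespace Groth.Agent.S13428

/-- restriction of an isomorphism over an open of the base -/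
lemma isIso_restrict_of_isIso_pullback {S : Scheme.{u}} (S₀ : S.Opens) {M N : Over S} (φ : M ⟶ N)
    [IsIso ((Over.pullback S₀.ι).map φ)] : IsIso (φ.left ∣_ (N.hom ⁻¹ᵁ S₀)) := by
  let eN := (isPullback_morphismRestrict N.hom S₀).flip.isoPullback
  have sq : IsPullback (φ.left ⁻¹ᵁ (N.hom ⁻¹ᵁ S₀)).ι (φ.left ∣_ (N.hom ⁻¹ᵁ S₀) ≫ N.hom ∣_ S₀) M.hom S₀.ι := by
    rw [← Over.w φ]
    exact (isPullback_morphismRestrict φ.left (N.hom ⁻¹ᵁ S₀)).flip.paste_vert (isPullback_morphismRestrict N.hom S₀).flip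
  let eM := sq.isoPullback
  have e : φ.left ∣_ (N.hom ⁻¹ᵁ S₀) = eM.hom ≫ ((Over.pullback S₀.ι).map φ).left ≫ eN.inv := by
    rw [← Category.assoc, Iso.eq_comp_inv]
    apply pullback.hom_ext
    · simp [eN, eM]
    · simp [eN, eM]
  haveI : IsIso ((Over.pullback S₀.ι).map φ).left :=
    inferInstanceAs (IsIso ((Over.forget _).map ((Over.pullback S₀.ι).map φ)))
  rw [e]
  infer_instance

/-- Let S be a normal Noetherian scheme over a field of characteristic 0 and S₀ ⊆ S a
scheme-theoretically dense open. Let N be a smooth, separated and quasi-compact S-scheme with the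
Néron mapping property for S₀ ⊆ S (restriction to S₀ of S-morphisms from smooth S-schemes is
bijective) such that N|S₀ → S₀ is étale, so that N is a quasi-projective Néron model of the
quasi-projective étale S₀-scheme N|S₀. If M is a separated, quasi-compact, étale S-scheme and φ : M
→ N is an S-morphism restricting to an isomorphism over S₀ (so M is another quasi-projective étale
extension of N|S₀, and φ is its canonical map to the Néron model), then φ is an open immersion.
(Case of schemes of the published statement.) -/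
theorem result {k : Type u} [Field k] [CharZero k] {S : Scheme.{u}} (σ : S ⟶ Spec (CommRingCat.of k)) [IsNoetherian S] (hS : Pi1.IsNormalScheme S) (S₀ : S.Opens) (hS₀ : CInt.IsSchematicallyDense S₀)
    (N : Over S) [Smooth N.hom] [IsSeparated N.hom] [QuasiCompact N.hom]
    (hN : ∀ Z : Over S, Smooth Z.hom → Function.Bijective (fun g : Z ⟶ N => (Over.pullback S₀.ι).map g))
    [Etale ((Over.pullback S₀.ι).obj N).hom]
    (M : Over S) [Etale M.hom] [IsSeparated M.hom] [QuasiCompact M.hom]
    (φ : M ⟶ N) [IsIso ((Over.pullback S₀.ι).map φ)] :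
    IsOpenImmersion φ.left := by
  haveI : IsLocallyNoetherian N.left := LocallyOfFiniteType.isLocallyNoetherian N.hom
  have hnorm : ∀ {X : Scheme.{u}} (f : X ⟶ S) [Smooth f] (x : X),
      IsDomain (X.presheaf.stalk x) ∧ IsIntegrallyClosed (X.presheaf.stalk x) := fun f _ x =>
    (Groth.Agent.S4989.result f x (by rw [Scheme.Hom.smoothLocus_eq_top]; trivial)).2.2 (hS _)
  haveI : ∀ n : N.left, IsDomain (N.left.presheaf.stalk n) := fun n => (hnorm N.hom n).1
  haveI : ∀ n : M.left, IsDomain (M.left.presheaf.stalk n) := fun n => (hnorm M.hom n).1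
  haveI : ∀ n : M.left, _root_.IsReduced (M.left.presheaf.stalk n) := fun n => inferInstance
  haveI : IsReduced M.left := isReduced_of_isReduced_stalk M.left
  haveI : LocallyOfFiniteType (φ.left ≫ N.hom) := by rw [Over.w φ]; infer_instance
  haveI : LocallyOfFiniteType φ.left := locallyOfFiniteType_of_comp φ.left N.hom
  haveI : IsSeparated (φ.left ≫ N.hom) := by rw [Over.w φ]; infer_instance
  haveI : IsSeparated φ.left := IsSeparated.of_comp φ.left N.hom
  haveI : LocallyQuasiFinite (φ.left ≫ N.hom) := by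
    rw [Over.w φ]; exact Groth.Agent.FpqcDescent.locallyQuasiFinite_of_etale M.hom
  haveI : LocallyQuasiFinite φ.left := LocallyQuasiFinite.of_comp φ.left N.hom
  haveI : IsSchemeTheoreticallyDominant S₀.ι := ⟨SectExtU.ker_ι_eq_bot hS₀⟩
  have hd : Dense (S₀ : Set S) := by
    have := (IsDominant.denseRange (f := S₀.ι))
    rwa [DenseRange, Scheme.Opens.range_ι] at this
  choose V hnV _ hVint _ using fun n : N.left => SectionExt.exists_integral_nhd n ⊤ trivial
  refine IsZariskiLocalAtTarget.of_iSup_eq_top V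
    (top_le_iff.1 fun n _ => TopologicalSpace.Opens.mem_iSup.2 ⟨n, hnV n⟩) fun n => ?_
  haveI := hVint n
  let O : (V n : Scheme.{u}).Opens := (V n).ι ⁻¹ᵁ (N.hom ⁻¹ᵁ S₀)
  haveI hiso := isIso_restrict_of_isIso_pullback S₀ φ
  haveI : IsIso ((φ.left ∣_ V n) ∣_ O) := by
    refine ((MorphismProperty.isomorphisms Scheme.{u}).arrow_mk_iso_iff
      (morphismRestrictRestrict φ.left (V n) O)).2 ?_
    have hle' : (V n).ι ''ᵁ O ≤ N.hom ⁻¹ᵁ S₀ := by
      rintro _ ⟨x, hx, rfl⟩
      exact hx
    have hP : (MorphismProperty.isomorphisms Scheme.{u}) (φ.left ∣_ (N.hom ⁻¹ᵁ S₀)) := hiso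
    have := IsZariskiLocalAtTarget.restrict hP ((N.hom ⁻¹ᵁ S₀).ι ⁻¹ᵁ ((V n).ι ''ᵁ O))
    refine ((MorphismProperty.isomorphisms Scheme.{u}).arrow_mk_iso_iff
      (morphismRestrictRestrict φ.left _ _ ≪≫ morphismRestrictEq φ.left ?_)).1 this
    ext x
    exact ⟨fun ⟨y, hy, e⟩ => e ▸ hy, fun hx => ⟨⟨x, hle' hx⟩, hx, rfl⟩⟩
  refine S7849.isOpenImmersion_core (fun y => ?_) (φ.left ∣_ V n) O ?_ ?_
  · haveI : IsIntegrallyClosed (N.left.presheaf.stalk y.1) := (hnorm N.hom y.1).2
    exact IsIntegrallyClosed.of_equiv ((V n).stalkIso y).commRingCatIsoToRingEquiv.symm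
  · obtain ⟨x, hxU, hxV⟩ := (hd.preimage N.hom.isOpenMap).exists_mem_open (V n).2 ⟨n, hnV n⟩
    exact ⟨⟨x, hxV⟩, hxU⟩
  · have h2 := (hd.preimage ((φ.left ⁻¹ᵁ V n).ι ≫ M.hom).isOpenMap)
    convert h2 using 1
    ext w
    show N.hom ((φ.left ∣_ V n) w).1 ∈ S₀ ↔ M.hom ((φ.left ⁻¹ᵁ V n).ι w) ∈ S₀
    rw [← Over.w φ]
    have e : ((φ.left ∣_ V n) w).1 = φ.left ((φ.left ⁻¹ᵁ V n).ι w) := by
      rw [← Scheme.Hom.comp_apply, ← morphismRestrict_ι]; rfl
    rw [e]
    rfl

end Groth.Agent.S13428
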