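import Groth.Statements.S13430
import Mathlib

set_option autoImplicit false
universe u
open CategoryTheory MonoidalCategory CartesianMonoidalCategory MonObj GrpObj AlgebraicGeometry
open NeronHD

namespace Groth.Agent.S13430

/-- The implication ⇐: let S be a locally Noetherian scheme over a field of characteristic 0 and S₀ ⊆ S
a scheme-theoretically dense open. Let G be a smooth group scheme over S and N a smooth S-scheme,
both with the Néron mapping property for S₀ ⊆ S (restriction to S₀ of S-morphisms from smooth
S-schemes is bijective), and let a be an action of G on N over S whose translation map G ×_S N → N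
×_S N, (g, x) ↦ (g·x, x), restricts to an isomorphism over S₀, so that N|S₀ is a pseudo-torsor under
G|S₀ and a is the unique extension of that action. If N → S is surjective, then the translation map
is an isomorphism: N is a pseudo-torsor under G over all of S (and then a torsor for the étale
topology, N → S being smooth and surjective). (Case of schemes of a statement about group algebraic
spaces; the converse 'torsor ⇒ surjective' presumes local triviality.) -/
theorem result {k : Type u} [Field k] [CharZero k] {S : Scheme.{u}} (σ : S ⟶ Spec (CommRingCat.of k)) [IsLocallyNoetherian S] (S₀ : S.Opens) (hS₀ : CInt.IsSchematicallyDense S₀)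
    (G : Over S) [GrpObj G] [Smooth G.hom]
    (hG : ∀ Z : Over S, Smooth Z.hom → Function.Bijective (fun g : Z ⟶ G => (Over.pullback S₀.ι).map g))
    (N : Over S) [Smooth N.hom] [Surjective N.hom]
    (hN : ∀ Z : Over S, Smooth Z.hom → Function.Bijective (fun g : Z ⟶ N => (Over.pullback S₀.ι).map g))
    (a : AlgGrp.Action G N)
    (h0 : IsIso ((Over.pullback S₀.ι).map (lift a.act (snd G N)))) :
    NonAbH1.IsPseudoTorsorSch a := by
  let F := Over.pullback S₀.ι
  let φ : G ⊗ N ⟶ N ⊗ N := lift a.act (snd G N)
  have : IsIso (F.map φ) := h0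
  have hGN : Smooth (G ⊗ N).hom := by
    rw [Over.tensorObj_hom]; infer_instance
  have hNN : Smooth (N ⊗ N).hom := by
    rw [Over.tensorObj_hom]; infer_instance
  obtain ⟨g, hg⟩ := (hG (N ⊗ N) hNN).2 (inv (F.map φ) ≫ F.map (fst G N))
  let ψ : N ⊗ N ⟶ G ⊗ N := lift g (snd N N)
  have h1 : φ ≫ ψ = 𝟙 _ := by
    apply CartesianMonoidalCategory.hom_ext
    · rw [Category.assoc, lift_fst, Category.id_comp]
      refine (hG (G ⊗ N) hGN).1 ?_
      show F.map (φ ≫ g) = F.map (fst G N)
      rw [Functor.map_comp, show F.map g = _ from hg, IsIso.hom_inv_id_assoc]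
    · rw [Category.assoc, lift_snd, lift_snd, Category.id_comp]
  have hψ : F.map ψ = inv (F.map φ) := by
    rw [← cancel_epi (F.map φ), ← Functor.map_comp, h1, IsIso.hom_inv_id]; exact F.map_id _
  have h2 : ψ ≫ φ = 𝟙 _ := by
    apply CartesianMonoidalCategory.hom_ext
    · rw [Category.assoc, Category.id_comp]
      refine (hN (N ⊗ N) hNN).1 ?_
      show F.map (ψ ≫ φ ≫ fst N N) = F.map (fst N N)
      rw [Functor.map_comp, Functor.map_comp, hψ, IsIso.inv_hom_id_assoc]
    · rw [Category.assoc, lift_snd, lift_snd, Category.id_comp]
  exact ⟨ψ, h1, h2⟩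

end Groth.Agent.S13430
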