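import Groth.Statements.S13434
import Mathlib
import Groth.Agent.W4Hilb.Socle
open Groth.Agent.W4Hilb W4c1hilbpn MvPolynomial

set_option autoImplicit false
universe u
open W4c1hilbpn

set_option backward.isDefEq.respectTransparency false
namespace Groth.Agent.S13434

section
variable {σ : Type} [Finite σ] {k : Type u} [Field k] {I : Ideal (MvPolynomial σ k)}

lemma app_eq_zero_of_neg (hI : IsMonomial I) [Module.Finite k (MvPolynomial σ k ⧸ I)] {φ : Tgt I} {α : σ → ℤ}
    (hφ : φ ∈ tPiece I α) (hα : ∀ l, α l < 0) {i j : σ} (hij : i ≠ j) (b : ℕ) :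
    ∀ β (hβ : β ∈ exps I), β j ≤ b → app φ hβ = 0 := by
  classical
  induction b using Nat.strong_induction_on with
  | _ b ih =>
    intro β hβ hb
    refine eq_zero_of_coef hI fun γ hγ => by_contra fun hne => ?_
    have hv : ∀ l, (γ l : ℤ) = β l + α l := congrFun ((mem_tPiece hI).1 hφ β hβ γ hne)
    have hlt : ∀ l, γ l < β l := fun l => by have := hv l; have := hα l; omega
    have hex : ∃ m, γ + Finsupp.single i m ∈ exps I := by
      obtain ⟨N, hN⟩ := exists_single_mem hI i
      exact ⟨N, exps_of_le hN le_add_self⟩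
    have hm := Nat.find_spec hex
    have hmin : ∀ m < Nat.find hex, γ + Finsupp.single i m ∉ exps I := fun m h => Nat.find_min hex h
    have hpos : 0 < Nat.find hex := Nat.pos_of_ne_zero fun h => hγ (by simpa [h] using hm)
    revert hm hmin hpos
    generalize Nat.find hex = m
    intro hm hmin hpos
    let t := γ i + m - β i
    have htm : t < m := by have := hlt i; omega
    let δ' := β + Finsupp.single i t - (γ + Finsupp.single i m)
    have heq : γ + Finsupp.single i m + δ' = β + Finsupp.single i t := add_tsub_cancel_of_le fun l => by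
      rw [Finsupp.add_apply, Finsupp.add_apply]
      by_cases hl : l = i
      · subst hl; rw [Finsupp.single_eq_same, Finsupp.single_eq_same]; omega
      · rw [Finsupp.single_eq_of_ne hl, Finsupp.single_eq_of_ne hl]
        have := hlt l; omega
    have hj : (γ + Finsupp.single i m) j = γ j := by
      rw [Finsupp.add_apply, Finsupp.single_eq_of_ne hij.symm, add_zero]
    have h0 := ih (γ j) (lt_of_lt_of_le (hlt j) hb) _ hm hj.le
    have h2 : app φ (exps_add hβ (Finsupp.single i t)) = 0 :=
      (app_congr φ heq.symm (exps_add hβ (Finsupp.single i t))).trans (by rw [app_add φ hm δ', h0, smul_zero])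
    rw [app_add φ hβ (Finsupp.single i t)] at h2
    exact hne (by rw [← coef_smul_shift hI (Finsupp.single i t) γ _ (hmin t htm), h2, map_zero])

end


open W4c1hilbpn in
/-- Let k be an infinite field, n ≥ 2, S the polynomial ring over k in n variables, I a monomial ideal
of S of finite colength and T(I) = Hom_S(I, S/I) with its grading by integer vectors. The graded
piece of T(I) in every multidegree all of whose entries are nonnegative, or all of whose entries are
negative, vanishes, and T(I) is spanned by its pieces of non-constant sign pattern (the spans, over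
the sets N of variable indices that are neither empty nor all indices, of the graded pieces whose
multidegree is negative exactly at N). -/
theorem result (k : Type u) [Field k] [Infinite k]
    (n : ℕ) (hn : 2 ≤ n) (I : Ideal (MvPolynomial (Fin n) k)) (hI : IsMonomial I)
    [Module.Finite k (MvPolynomial (Fin n) k ⧸ I)] :
    (∀ α : Fin n → ℤ, ((∀ i, 0 ≤ α i) ∨ (∀ i, α i < 0)) → tPiece I α = ⊥) ∧
      (⨆ N : {N : Set (Fin n) // N.Nonempty ∧ N ≠ Set.univ}, sigPiece I N.1) = ⊤ := by
  classical
  have h1 : ∀ α : Fin n → ℤ, ((∀ i, 0 ≤ α i) ∨ (∀ i, α i < 0)) → tPiece I α = ⊥ := by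
    intro α hα
    refine (Submodule.eq_bot_iff _).2 fun φ hφ => eq_zero_of_mem_tPiece hI hφ fun β hβ γ hγ he => ?_
    rcases hα with hα | hα
    · refine absurd (exps_of_le hβ fun i => ?_) hγ
      have := congrFun he i
      simp only [vec, Pi.add_apply] at this
      have := hα i
      omega
    · obtain ⟨m, rfl⟩ : ∃ m, n = m + 2 := ⟨n - 2, by omega⟩
      rw [app_eq_zero_of_neg hI hφ hα (i := 0) (j := 1) (by simp) (β 1) β hβ le_rfl, map_zero]
  refine ⟨h1, eq_top_iff.2 ?_⟩
  rw [← iSup_tPiece_eq_top hI]
  refine iSup_le fun α => ?_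
  by_cases hα : (∀ i, 0 ≤ α i) ∨ (∀ i, α i < 0)
  · rw [h1 α hα]; exact bot_le
  · push_neg at hα
    obtain ⟨⟨i, hi⟩, ⟨j, hj⟩⟩ := hα
    exact le_trans (le_iSup (fun a : {a : Fin n → ℤ // ∀ l, a l < 0 ↔ l ∈ {l | α l < 0}} => tPiece I a.1) ⟨α, fun l => Iff.rfl⟩)
      (le_iSup (fun N : {N : Set (Fin n) // N.Nonempty ∧ N ≠ Set.univ} => sigPiece I N.1)
        ⟨{l | α l < 0}, ⟨i, hi⟩, fun h => (not_lt.2 hj) (h.symm ▸ Set.mem_univ j : j ∈ {l | α l < 0})⟩)

end Groth.Agent.S13434
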