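import Groth.Statements.S13433
import Mathlib
import Groth.Agent.W4Hilb.Pieces
import Groth.Agent.S13434
open Groth.Agent.W4Hilb W4c1hilbpn MvPolynomial

set_option autoImplicit false
universe u
open W4c1hilbpn

set_option backward.isDefEq.respectTransparency false
namespace Groth.Agent.S13433

open W4c1hilbpn in
/-- Let k be an infinite field, S = k[x,y,z], I a monomial ideal of S of finite colength d, and T(I) =
Hom_S(I, S/I) with its grading by triples of integers. For each variable index i, the span of the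
graded pieces of T(I) whose multidegree is negative exactly at i has dimension d plus the dimension
of the span of the graded pieces whose multidegree is negative exactly at the other two indices. -/
theorem result (k : Type u) [Field k] [Infinite k]
    (I : Ideal (MvPolynomial (Fin 3) k)) (hI : IsMonomial I)
    [Module.Finite k (MvPolynomial (Fin 3) k ⧸ I)] (i : Fin 3) :
    Module.finrank k ↥(sigPiece I {i}) =
      Module.finrank k ↥(sigPiece I ({i}ᶜ : Set (Fin 3))) + Module.finrank k (MvPolynomial (Fin 3) k ⧸ I) := by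
  classical
  haveI := finite_out hI
  letI := Fintype.ofFinite (Dual.Out I)
  have h := Dual.finrank_W_add (i := i) hI (fun g => 0 ≤ g.1 ∧ 0 ≤ g.2)
  have hv := (Groth.Agent.S13434.result k 3 (by omega) I hI).1
  have hz : Nat.card (Dual.H0 I i (Dual.op fun g => 0 ≤ g.1 ∧ 0 ≤ g.2)) = 0 := by
    haveI : IsEmpty (Dual.H0 I i (Dual.op fun g => 0 ≤ g.1 ∧ 0 ≤ g.2)) := ⟨fun γ => by
      have := γ.2
      simp [Dual.op, Dual.wt, Dual.w, vec] at this
      omega⟩
    exact Nat.card_of_isEmpty
  have hs : Nat.card (Dual.H0 I i (fun g => 0 ≤ g.1 ∧ 0 ≤ g.2)) = Nat.card (Dual.Out I) :=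
    Nat.card_congr (Equiv.subtypeUnivEquiv fun γ => by simp [Dual.wt, Dual.w, vec])
  rw [hz, hs, add_zero, ← finrank_quot hI] at h
  have cases3 : ∀ (l : Fin 3), l = i ∨ l = i + 1 ∨ l = i + 2 :=
    (by decide : ∀ (a l : Fin 3), l = a ∨ l = a + 1 ∨ l = a + 2) i
  have ne3 : i + 1 ≠ i ∧ i + 2 ≠ i := (by decide : ∀ a : Fin 3, a + 1 ≠ a ∧ a + 2 ≠ a) i
  convert h using 1
  · refine congrArg (fun W : Submodule k (Tgt I) => Module.finrank k W) (U_congr (Q := fun α : Fin 3 → ℤ => ∀ l, α l < 0 ↔ l ∈ ({i} : Set (Fin 3)))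
      (R := fun α => 0 ≤ (Dual.w i α).1 ∧ 0 ≤ (Dual.w i α).2) fun α hb => ?_)
    refine ⟨fun hq => ?_, fun hr l => ?_⟩
    · have a := (hq (i + 1)).1
      have b := (hq (i + 2)).1
      simp [Dual.w, ne3.1, ne3.2] at a b ⊢
      exact ⟨a, b⟩
    · have hlt : α i < 0 := by
        by_contra hc
        refine hb (hv α (Or.inl fun l => ?_))
        rcases cases3 l with rfl | rfl | rfl
        · omega
        · exact hr.1
        · exact hr.2
      rcases cases3 l with rfl | rfl | rfl
      · simp [hlt]
      · simpa [ne3.1, Dual.w] using hr.1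
      · simpa [ne3.2, Dual.w] using hr.2
  · congr 1
    refine congrArg (fun W : Submodule k (Tgt I) => Module.finrank k W) (U_congr (Q := fun α : Fin 3 → ℤ => ∀ l, α l < 0 ↔ l ∈ ({i}ᶜ : Set (Fin 3)))
      (R := fun α => Dual.op (fun g => 0 ≤ g.1 ∧ 0 ≤ g.2) (Dual.w i α)) fun α hb => ?_)
    refine ⟨fun hq => ?_, fun hr l => ?_⟩
    · have a := (hq (i + 1)).2
      have b := (hq (i + 2)).2
      simp [Dual.w, Dual.op, ne3.1, ne3.2] at a b ⊢
      omega
    · simp [Dual.w, Dual.op] at hr
      have hge : 0 ≤ α i := by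
        by_contra hc
        refine hb (hv α (Or.inr fun l => ?_))
        rcases cases3 l with rfl | rfl | rfl <;> omega
      rcases cases3 l with rfl | rfl | rfl
      · simp [hge]
      · simp [ne3.1]; omega
      · simp [ne3.2]; omega

end Groth.Agent.S13433
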