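import Groth.Statements.S13435
import Mathlib
import Groth.Agent.W4Hilb.MPow
open Groth.Agent.W4Hilb W4c1hilbpn MvPolynomial

set_option autoImplicit false
universe u
open W4c1hilbpn

set_option backward.isDefEq.respectTransparency false
namespace Groth.Agent.S13435

open W4c1hilbpn in
/-- Let k be an infinite field, n ≥ 2, S the polynomial ring over k in n variables with irrelevant ideal
m, r a natural number and α an integer vector; write w for the sum of the absolute values of the
negative entries of α. The graded piece of T(m^r) = Hom_S(m^r, S/m^r) of multidegree α is zero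
unless the entries of α sum to -1 and w ≤ r, and in that case its dimension is the binomial
coefficient C(n + r - w - 1, n - 1). (The published statement allows any number of variables; in one
variable it fails: the map (x^2) → k[x]/(x^2) sending x^2 to 1 is nonzero of degree −2. This row
assumes n ≥ 2.) -/
theorem result (k : Type u) [Field k] [Infinite k]
    (n : ℕ) (hn : 2 ≤ n) (r : ℕ) (α : Fin n → ℤ) :
    Module.finrank k ↥(tPiece ((Ideal.span (Set.range (MvPolynomial.X : Fin n → MvPolynomial (Fin n) k))) ^ r) α) =
      if (∑ i, α i = -1 ∧ ∑ i, (-α i).toNat ≤ r)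
        then Nat.choose (n + r - (∑ i, (-α i).toNat) - 1) (n - 1) else 0 := by
  classical
  obtain ⟨m, rfl⟩ : ∃ m, n = m + 2 := ⟨n - 2, by omega⟩
  have e : tPiece (mPow (Fin (m + 2)) k r) α = ⨆ a : {a : Fin (m + 2) → ℤ // a = α}, tPiece (mPow (Fin (m + 2)) k r) a.1 :=
    le_antisymm (le_iSup (fun a : {a : Fin (m + 2) → ℤ // a = α} => tPiece (mPow (Fin (m + 2)) k r) a.1) ⟨α, rfl⟩)
      (iSup_le fun a => by rw [a.2])
  show Module.finrank k ↥(tPiece (mPow (Fin (m + 2)) k r) α) = _
  rw [e, finrank_iSup_tPiece_mPow r (fun a => a = α)]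
  have hsum : ∀ g : Fin (m + 2) →₀ ℕ, (∀ i, (-α i).toNat ≤ g i) →
      g.degree = ∑ i, (-α i).toNat + ∑ i, (g i - (-α i).toNat) := fun g hg => by
    rw [Finsupp.degree_eq_sum, ← Finset.sum_add_distrib]
    exact Finset.sum_congr rfl fun i _ => by have := hg i; omega
  by_cases hc : ∑ i, α i = -1 ∧ ∑ i, (-α i).toNat ≤ r
  · rw [if_pos hc]
    obtain ⟨hs, hle⟩ := hc
    have key : ∀ (p : Pairs (Fin (m + 2)) r), dif p = α → ∀ i, (p.1.2 i : ℤ) = p.1.1 i + α i := fun p hp i => by
      have := congrFun hp i; simp only [dif, vec, Pi.sub_apply] at this; omega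
    let e : {p : Pairs (Fin (m + 2)) r // dif p = α} ≃
        {P : Fin (m + 2) → ℕ // ∑ i, P i = r - ∑ i, (-α i).toNat} :=
      { toFun := fun p => ⟨fun i => p.1.1.1 i - (-α i).toNat, by
          have h1 := hsum p.1.1.1 (fun i => by have := key p.1 p.2 i; omega)
          have h2 := p.1.2.1
          dsimp only at h1 h2 ⊢
          omega⟩
        invFun := fun P => ⟨⟨(Finsupp.equivFunOnFinite.symm fun i => (-α i).toNat + P.1 i,
            Finsupp.equivFunOnFinite.symm fun i => (α i).toNat + P.1 i), by
              have h1 : (Finsupp.equivFunOnFinite.symm fun i => (-α i).toNat + P.1 i).degree = r := by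
                rw [Finsupp.degree_eq_sum]
                simp only [Finsupp.equivFunOnFinite_symm_apply_apply, Finset.sum_add_distrib, P.2]
                omega
              refine ⟨h1, ?_⟩
              rw [Finsupp.degree_eq_sum] at h1 ⊢
              simp only [Finsupp.equivFunOnFinite_symm_apply_apply, Finset.sum_add_distrib] at h1 ⊢
              have h3 : (∑ i, ((α i).toNat : ℤ)) - ∑ i, ((-α i).toNat : ℤ) = -1 := by
                rw [← hs, ← Finset.sum_sub_distrib]
                exact Finset.sum_congr rfl fun i _ => by omega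
              rw [← Nat.cast_sum, ← Nat.cast_sum] at h3
              omega⟩, funext fun i => by
            simp only [dif, vec, Pi.sub_apply, Finsupp.equivFunOnFinite_symm_apply_apply]; omega⟩
        left_inv := fun p => by
          refine Subtype.ext (Subtype.ext (Prod.ext (Finsupp.ext fun i => ?_) (Finsupp.ext fun i => ?_))) <;>
            · have := key p.1 p.2 i
              simp only [Finsupp.equivFunOnFinite_symm_apply_apply]
              omega
        right_inv := fun P => Subtype.ext (funext fun i => by
          simp only [Finsupp.equivFunOnFinite_symm_apply_apply]; omega) }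
    rw [Nat.card_congr e, natCard_degree_eq (m + 1) _ (Fintype.card_fin _)]
    congr 1
    omega
  · rw [if_neg hc, Nat.card_eq_zero]
    refine Or.inl ⟨fun p => hc ?_⟩
    obtain ⟨p, hp⟩ := p
    have key : ∀ i, (p.1.2 i : ℤ) = p.1.1 i + α i := fun i => by
      have := congrFun hp i; simp only [dif, vec, Pi.sub_apply] at this; omega
    have h1 := hsum p.1.1 (fun i => by have := key i; omega)
    have h2 := p.2.1
    have h3 := p.2.2
    rw [Finsupp.degree_eq_sum] at h2 h3
    have h4 : (∑ i, (p.1.2 i : ℤ)) = ∑ i, (p.1.1 i : ℤ) + ∑ i, α i := by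
      rw [← Finset.sum_add_distrib]; exact Finset.sum_congr rfl fun i _ => key i
    rw [← Nat.cast_sum, ← Nat.cast_sum] at h4
    exact ⟨by omega, by rw [p.2.1] at h1; omega⟩

end Groth.Agent.S13435
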