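import Groth.Statements.S13436
import Mathlib
import Groth.Agent.W4Hilb.Pieces
open Groth.Agent.W4Hilb W4c1hilbpn MvPolynomial

set_option autoImplicit false
universe u
open W4c1hilbpn

set_option backward.isDefEq.respectTransparency false
namespace Groth.Agent.S13436

open W4c1hilbpn in
/-- Let k be an infinite field, S = k[x,y,z], and T(I) = Hom_S(I, S/I) graded by triples of integers (a
graded piece is indexed by its multidegree; its sign pattern records which of the three entries are
negative); let I be a monomial ideal of finite colength with staircase numbers b_{i,j} = the number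
of c with x^i y^j z^c outside I. For all natural numbers i, j, the span of the graded pieces of T(I)
of multidegrees (i, j, c), c ranging over the integers, has dimension b_{i,j} plus the dimension of
the span of the graded pieces of multidegrees (-i-1, -j-1, c). -/
theorem result (k : Type u) [Field k] [Infinite k]
    (I : Ideal (MvPolynomial (Fin 3) k)) (hI : IsMonomial I) [Module.Finite k (MvPolynomial (Fin 3) k ⧸ I)] (i j : ℕ) :
    Module.finrank k ↥(⨆ α : {α : Fin 3 → ℤ // α 0 = (i : ℤ) ∧ α 1 = (j : ℤ)}, tPiece I α.1) =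
      stairZ I i j +
        Module.finrank k ↥(⨆ α : {α : Fin 3 → ℤ // α 0 = -(i : ℤ) - 1 ∧ α 1 = -(j : ℤ) - 1}, tPiece I α.1) := by
  classical
  haveI := finite_out hI
  letI := Fintype.ofFinite (Dual.Out I)
  have h := Dual.finrank_W_add (i := (2 : Fin 3)) hI (fun g => g = ((i : ℤ), (j : ℤ)))
  have hz : Nat.card (Dual.H0 I 2 (Dual.op fun g => g = ((i : ℤ), (j : ℤ)))) = 0 := by
    haveI : IsEmpty (Dual.H0 I 2 (Dual.op fun g => g = ((i : ℤ), (j : ℤ)))) := ⟨fun γ => by
      have := γ.2
      simp [Dual.op, Dual.wt, Dual.w, vec, Prod.ext_iff] at this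
      omega⟩
    exact Nat.card_of_isEmpty
  have hs : Nat.card (Dual.H0 I 2 (fun g => g = ((i : ℤ), (j : ℤ)))) = stairZ I i j := by
    refine Nat.card_congr
      { toFun := fun γ => ⟨γ.1.1 2, ?_⟩
        invFun := fun c => ⟨⟨e3 i j c.1, c.2⟩, ?_⟩
        left_inv := fun γ => ?_
        right_inv := fun c => ?_ }
    · have e : e3 i j (γ.1.1 2) = γ.1.1 := by
        have := γ.2
        simp [Dual.wt, Dual.w, vec, Prod.ext_iff] at this
        ext l; fin_cases l <;> simp [e3] <;> omega
      rw [e]; exact γ.1.2
    · simp [Dual.wt, Dual.w, vec, e3]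
    · have := γ.2
      simp [Dual.wt, Dual.w, vec, Prod.ext_iff] at this
      refine Subtype.ext (Subtype.ext ?_)
      ext l; fin_cases l <;> simp [e3] <;> omega
    · exact Subtype.ext (by simp [e3])
  rw [hz, hs, add_zero, add_comm] at h
  convert h using 1
  · refine congrArg (fun W : Submodule k (Tgt I) => Module.finrank k W) (U_congr (Q := fun α => α 0 = (i : ℤ) ∧ α 1 = (j : ℤ))
      (R := fun α => Dual.w 2 α = ((i : ℤ), (j : ℤ))) fun α _ => ?_)
    simp [Dual.w]
  · congr 1
    refine congrArg (fun W : Submodule k (Tgt I) => Module.finrank k W) (U_congr (Q := fun α => α 0 = -(i : ℤ) - 1 ∧ α 1 = -(j : ℤ) - 1)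
      (R := fun α => Dual.op (fun g => g = ((i : ℤ), (j : ℤ))) (Dual.w 2 α)) fun α _ => ?_)
    simp [Dual.w, Dual.op, Prod.ext_iff]
    omega

end Groth.Agent.S13436
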