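import Groth.Statements.S13437
import Mathlib
import Groth.Agent.W4Hilb.Pieces
import Groth.Agent.S13434
import Groth.Agent.S13433
open Groth.Agent.W4Hilb W4c1hilbpn MvPolynomial

set_option autoImplicit false
universe u
open W4c1hilbpn

set_option backward.isDefEq.respectTransparency false
namespace Groth.Agent.S13437

open W4c1hilbpn in
/-- Let k be an infinite field, S = k[x,y,z] and I a monomial ideal of S of finite colength d. Then the
dimension of Hom_S(I, S/I) is congruent to d modulo 2. -/
theorem result (k : Type u) [Field k] [Infinite k]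
    (I : Ideal (MvPolynomial (Fin 3) k)) (hI : IsMonomial I) [Module.Finite k (MvPolynomial (Fin 3) k ⧸ I)] :
    Module.finrank k (Tgt I) % 2 = Module.finrank k (MvPolynomial (Fin 3) k ⧸ I) % 2 := by
  classical
  haveI := finite_tgt hI
  have hv := (Groth.Agent.S13434.result k 3 (by omega) I hI).1
  let d : Prop → Prop → Prop → ℕ := fun p q r =>
    Module.finrank k ↥(U I fun α => ((α 0 < 0 ↔ p) ∧ (α 1 < 0 ↔ q)) ∧ (α 2 < 0 ↔ r))
  have key : ∀ (i : Fin 3) (p q r : Prop) (p' q' r' : Prop), (p ↔ (0 : Fin 3) = i) → (q ↔ (1 : Fin 3) = i) → (r ↔ (2 : Fin 3) = i) →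
      (p' ↔ ¬ p) → (q' ↔ ¬ q) → (r' ↔ ¬ r) →
      d p q r = d p' q' r' + Module.finrank k (MvPolynomial (Fin 3) k ⧸ I) := by
    intro i p q r p' q' r' hp hq hr hp' hq' hr'
    convert Groth.Agent.S13433.result k I hI i using 1
    · refine congrArg (fun W : Submodule k (Tgt I) => Module.finrank k W) (U_congr
        (R := fun α : Fin 3 → ℤ => ∀ l, α l < 0 ↔ l ∈ ({i} : Set (Fin 3))) fun α _ => ?_)
      simp [Fin.forall_fin_succ, hp, hq, hr, and_assoc]
    · congr 1
      refine congrArg (fun W : Submodule k (Tgt I) => Module.finrank k W) (U_congr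
        (R := fun α : Fin 3 → ℤ => ∀ l, α l < 0 ↔ l ∈ ({i}ᶜ : Set (Fin 3))) fun α _ => ?_)
      simp [Fin.forall_fin_succ, hp', hq', hr', hp, hq, hr, and_assoc]
  have z : ∀ (p : Prop), d p p p = 0 := fun p => by
    have e : (U I fun α => ((α 0 < 0 ↔ p) ∧ (α 1 < 0 ↔ p)) ∧ (α 2 < 0 ↔ p)) = ⊥ := by
      refine eq_bot_iff.2 (iSup_le fun α => ?_)
      rw [hv α.1]
      obtain ⟨α, ⟨h0, h1⟩, h2⟩ := α
      by_cases h : p
      · exact Or.inr fun l => by
          fin_cases l
          · exact h0.2 h
          · exact h1.2 h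
          · exact h2.2 h
      · exact Or.inl fun l => by
          fin_cases l
          · exact not_lt.1 fun hh => h (h0.1 hh)
          · exact not_lt.1 fun hh => h (h1.1 hh)
          · exact not_lt.1 fun hh => h (h2.1 hh)
    show Module.finrank k ↥(U I _) = 0
    rw [e, finrank_bot]
  have tot : Module.finrank k (Tgt I) = (d True True True + d True True False) + (d True False True + d True False False) +
      ((d False True True + d False True False) + (d False False True + d False False False)) := by
    have e : U I (fun _ => True) = ⊤ := by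
      refine eq_top_iff.2 ?_
      rw [← iSup_tPiece_eq_top hI]
      exact iSup_le fun α => le_U trivial
    rw [← finrank_top k (Tgt I), ← e, finrank_U_split hI _ (fun α => α 0 < 0), finrank_U_split hI _ (fun α => α 1 < 0),
      finrank_U_split hI (fun α => True ∧ ¬ α 0 < 0) (fun α => α 1 < 0),
      finrank_U_split hI (fun α => (True ∧ α 0 < 0) ∧ α 1 < 0) (fun α => α 2 < 0),
      finrank_U_split hI (fun α => (True ∧ α 0 < 0) ∧ ¬ α 1 < 0) (fun α => α 2 < 0),
      finrank_U_split hI (fun α => (True ∧ ¬ α 0 < 0) ∧ α 1 < 0) (fun α => α 2 < 0),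
      finrank_U_split hI (fun α => (True ∧ ¬ α 0 < 0) ∧ ¬ α 1 < 0) (fun α => α 2 < 0)]
    have nm : ∀ Q R : (Fin 3 → ℤ) → Prop, (∀ α, Q α ↔ R α) → Module.finrank k ↥(U I Q) = Module.finrank k ↥(U I R) :=
      fun Q R h => congrArg (fun W : Submodule k (Tgt I) => Module.finrank k W) (U_congr fun α _ => h α)
    show _ = _
    refine congrArg₂ (· + ·) (congrArg₂ (· + ·) (congrArg₂ (· + ·) ?_ ?_) (congrArg₂ (· + ·) ?_ ?_))
      (congrArg₂ (· + ·) (congrArg₂ (· + ·) ?_ ?_) (congrArg₂ (· + ·) ?_ ?_)) <;>
      exact nm _ _ fun α => by simp only [iff_true, iff_false, true_and]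
  have k0 := key 0 True False False False True True (by simp) (by simp) (by simp) (by simp) (by simp) (by simp)
  have k1 := key 1 False True False True False True (by simp) (by simp) (by simp) (by simp) (by simp) (by simp)
  have k2 := key 2 False False True True True False (by simp) (by simp) (by simp) (by simp) (by simp) (by simp)
  rw [tot, z True, z False, k0, k1, k2]
  omega

end Groth.Agent.S13437
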