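import Groth.Statements.S13438
import Mathlib
import Groth.Agent.W4Hilb.Socle
open Groth.Agent.W4Hilb W4c1hilbpn MvPolynomial

set_option autoImplicit false
universe u
open W4c1hilbpn

set_option backward.isDefEq.respectTransparency false
namespace Groth.Agent.S13438

open W4c1hilbpn in
/-- Let k be an infinite field, S = k[x,y,z], and T(I) = Hom_S(I, S/I) graded by triples of integers (a
graded piece is indexed by its multidegree; its sign pattern records which of the three entries are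
negative); let I be a monomial ideal of finite colength whose minimal monomial generators include
x^a1 y^a2, x^b1 z^b3 and y^c2 z^c3 with all six exponents positive, and assume a1 ≥ b1 and a2 ≥ c2,
or b1 ≥ a1 and b3 ≥ c3, or c2 ≥ a2 and c3 ≥ b3. Then T(I) has a nonzero graded piece whose sign
pattern is negative at exactly two of the three variables. (The published statement draws the
conclusion that the corresponding point of the Hilbert scheme of points of affine 3-space is
singular; this row records the nonvanishing of a tangent piece of forbidden sign pattern, from which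
singularity follows by the smoothness criterion for monomial points.) -/
theorem result (k : Type u) [Field k] [Infinite k]
    (I : Ideal (MvPolynomial (Fin 3) k)) (hI : IsMonomial I) [Module.Finite k (MvPolynomial (Fin 3) k ⧸ I)]
    (a1 a2 b1 b3 c2 c3 : ℕ) (ha1 : 0 < a1) (ha2 : 0 < a2) (hb1 : 0 < b1) (hb3 : 0 < b3)
    (hc2 : 0 < c2) (hc3 : 0 < c3)
    (hA : e3 a1 a2 0 ∈ exps I ∧ e3 (a1 - 1) a2 0 ∉ exps I ∧ e3 a1 (a2 - 1) 0 ∉ exps I)
    (hB : e3 b1 0 b3 ∈ exps I ∧ e3 (b1 - 1) 0 b3 ∉ exps I ∧ e3 b1 0 (b3 - 1) ∉ exps I)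
    (hC : e3 0 c2 c3 ∈ exps I ∧ e3 0 (c2 - 1) c3 ∉ exps I ∧ e3 0 c2 (c3 - 1) ∉ exps I)
    (hcase : (b1 ≤ a1 ∧ c2 ≤ a2) ∨ (a1 ≤ b1 ∧ c3 ≤ b3) ∨ (a2 ≤ c2 ∧ b3 ≤ c3)) :
    sigPiece I ({0, 1} : Set (Fin 3)) ≠ ⊥ ∨ sigPiece I ({0, 2} : Set (Fin 3)) ≠ ⊥ ∨
      sigPiece I ({1, 2} : Set (Fin 3)) ≠ ⊥ := by
  classical
  have mg : ∀ {a b c : ℕ}, (0 < a → e3 (a - 1) b c ∉ exps I) → (0 < b → e3 a (b - 1) c ∉ exps I) →
      (0 < c → e3 a b (c - 1) ∉ exps I) → ∀ h ∈ exps I, h ≤ e3 a b c → h = e3 a b c := by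
    intro a b c h0 h1 h2
    refine minimal_of_pred fun i hi => ?_
    fin_cases i
    · rw [show e3 a b c - Finsupp.single _ 1 = e3 (a - 1) b c from e3_ext (by simp) (by simp) (by simp)]
      exact h0 (by simpa using hi)
    · rw [show e3 a b c - Finsupp.single _ 1 = e3 a (b - 1) c from e3_ext (by simp) (by simp) (by simp)]
      exact h1 (by simpa using hi)
    · rw [show e3 a b c - Finsupp.single _ 1 = e3 a b (c - 1) from e3_ext (by simp) (by simp) (by simp)]
      exact h2 (by simpa using hi)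
  have hgA := mg (a := a1) (b := a2) (c := 0) (fun _ => hA.2.1) (fun _ => hA.2.2) (fun h => absurd h (lt_irrefl 0))
  have hgB := mg (a := b1) (b := 0) (c := b3) (fun _ => hB.2.1) (fun h => absurd h (lt_irrefl 0)) (fun _ => hB.2.2)
  have hgC := mg (a := 0) (b := c2) (c := c3) (fun h => absurd h (lt_irrefl 0)) (fun _ => hC.2.1) (fun _ => hC.2.2)
  have sp : ∀ {a b c : ℕ} {G : Fin 3 →₀ ℕ}, e3 a b c ∈ exps I → (∀ h ∈ exps I, h ≤ G → h = G) →
      a ≤ G 0 → b ≤ G 1 → c ≤ G 2 → (a < G 0 ∨ b < G 1 ∨ c < G 2) → False := by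
    intro a b c G h hG h0 h1 h2 hs
    rw [← hG _ h (e3_le_iff.2 ⟨h0, h1, h2⟩)] at hs
    simp at hs
  rcases hcase with ⟨h1, h2⟩ | ⟨h1, h2⟩ | ⟨h1, h2⟩
  · left
    have hP : e3 0 0 (max b3 c3) ∉ exps I := fun h => by
      rcases max_choice b3 c3 with e | e <;> rw [e] at h
      · exact sp h hgB (by simp) (by simp) (by simp) (Or.inl (by simpa using hb1))
      · exact sp h hgC (by simp) (by simp) (by simp) (Or.inr (Or.inl (by simpa using hc2)))
    obtain ⟨M, hPM, hMI, hM⟩ := exists_socle_ge hI hP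
    obtain ⟨-, -, hM2⟩ := e3_le_iff.1 hPM
    have f0 : M 0 < b1 := lt_of_not_ge fun h => hMI (exps_of_le hB.1 (e3_le_iff.2 ⟨h, zero_le, by omega⟩))
    have f1 : M 1 < c2 := lt_of_not_ge fun h => hMI (exps_of_le hC.1 (e3_le_iff.2 ⟨zero_le, h, by omega⟩))
    exact sigPiece_ne_bot_of_socle hI _ M hA.1 hgA hMI hM _ (fun i => by fin_cases i <;> simp <;> omega)
  · right; left
    have hP : e3 0 (max a2 c2) 0 ∉ exps I := fun h => by
      rcases max_choice a2 c2 with e | e <;> rw [e] at h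
      · exact sp h hgA (by simp) (by simp) (by simp) (Or.inl (by simpa using ha1))
      · exact sp h hgC (by simp) (by simp) (by simp) (Or.inr (Or.inr (by simpa using hc3)))
    obtain ⟨M, hPM, hMI, hM⟩ := exists_socle_ge hI hP
    obtain ⟨-, hM1, -⟩ := e3_le_iff.1 hPM
    have f0 : M 0 < a1 := lt_of_not_ge fun h => hMI (exps_of_le hA.1 (e3_le_iff.2 ⟨h, by omega, zero_le⟩))
    have f2 : M 2 < c3 := lt_of_not_ge fun h => hMI (exps_of_le hC.1 (e3_le_iff.2 ⟨zero_le, by omega, h⟩))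
    exact sigPiece_ne_bot_of_socle hI _ M hB.1 hgB hMI hM _ (fun i => by fin_cases i <;> simp <;> omega)
  · right; right
    have hP : e3 (max a1 b1) 0 0 ∉ exps I := fun h => by
      rcases max_choice a1 b1 with e | e <;> rw [e] at h
      · exact sp h hgA (by simp) (by simp) (by simp) (Or.inr (Or.inl (by simpa using ha2)))
      · exact sp h hgB (by simp) (by simp) (by simp) (Or.inr (Or.inr (by simpa using hb3)))
    obtain ⟨M, hPM, hMI, hM⟩ := exists_socle_ge hI hP
    obtain ⟨hM0, -, -⟩ := e3_le_iff.1 hPM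
    have f1 : M 1 < a2 := lt_of_not_ge fun h => hMI (exps_of_le hA.1 (e3_le_iff.2 ⟨by omega, h, zero_le⟩))
    have f2 : M 2 < b3 := lt_of_not_ge fun h => hMI (exps_of_le hB.1 (e3_le_iff.2 ⟨by omega, zero_le, h⟩))
    exact sigPiece_ne_bot_of_socle hI _ M hC.1 hgC hMI hM _ (fun i => by fin_cases i <;> simp <;> omega)

end Groth.Agent.S13438
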