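import Groth.Statements.S13439
import Mathlib
import Groth.Agent.W4Hilb.Socle
open Groth.Agent.W4Hilb W4c1hilbpn MvPolynomial

set_option autoImplicit false
universe u
open W4c1hilbpn

set_option backward.isDefEq.respectTransparency false
namespace Groth.Agent.S13439

section
variable {k : Type u} [Field k] {I : Ideal (MvPolynomial (Fin 3) k)}

lemma piece_bot (hI : IsStronglyStable I) (hx : e3 1 0 0 ∈ exps I) (N : Set (Fin 3))
    (hN : ∀ α : Fin 3 → ℤ, (∀ i, α i < 0 ↔ i ∈ N) → (α 0 < 0 ∧ (α 1 < 0 ∨ α 2 < 0)) ∨ (α 1 < 0 ∧ α 2 < 0)) :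
    sigPiece I N = ⊥ := by
  classical
  refine iSup_eq_bot.2 fun α => (Submodule.eq_bot_iff _).2 fun φ hφ => ?_
  have hX : app φ hx = 0 := eq_zero_of_coef hI.1 fun γ hγ => by_contra fun hne => by
    have hv := congrFun ((mem_tPiece hI.1).1 hφ _ hx γ hne)
    have e1 := hv 1
    have e2 := hv 2
    simp [vec] at e1 e2
    rcases hN α.1 α.2 with ⟨-, h | h⟩ | ⟨h, -⟩ <;> omega
  have low : ∀ c b (h : e3 0 b c ∈ exps I), app φ h = 0 := by
    intro c
    induction c with
    | zero =>
      intro b h
      refine eq_zero_of_coef hI.1 fun γ _ => by_contra fun hne => ?_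
      have hv := congrFun ((mem_tPiece hI.1).1 hφ _ h γ hne)
      have e0 := hv 0
      have e2 := hv 2
      simp [vec] at e0 e2
      rcases hN α.1 α.2 with ⟨h', -⟩ | ⟨-, h'⟩ <;> omega
    | succ c ih =>
      intro b h
      refine eq_zero_of_coef hI.1 fun γ hγ => by_contra fun hne => ?_
      have hv := congrFun ((mem_tPiece hI.1).1 hφ _ h γ hne)
      have e0 := hv 0
      have e1 := hv 1
      have e2 := hv 2
      simp [vec] at e0 e1 e2
      rcases hN α.1 α.2 with ⟨h', -⟩ | ⟨h1, h2⟩
      · omega
      · have hm := stable_zy hI h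
        have he : e3 0 (b + 1) c + Finsupp.single 2 1 = e3 0 b (c + 1) + Finsupp.single 1 1 :=
          (e3_ext (a := 0) (b := b + 1) (c := c + 1) (by simp) (by simp) (by simp)).trans
            (e3_ext (by simp) (by simp) (by simp)).symm
        have h3 : app φ (exps_add h (Finsupp.single 1 1)) = 0 :=
          (app_congr φ he.symm (exps_add h (Finsupp.single 1 1))).trans (by rw [app_add φ hm (Finsupp.single 2 1), ih _ hm, smul_zero])
        rw [app_add φ h (Finsupp.single 1 1)] at h3
        by_cases hg : γ + Finsupp.single 1 1 ∈ exps I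
        · have hlow : e3 0 b c ∈ exps I → False := fun hbc => by
            have he' : e3 0 b c + Finsupp.single 2 1 = e3 0 b (c + 1) := e3_ext (by simp) (by simp) (by simp)
            exact hne (by rw [← app_congr φ he' (exps_add hbc _), app_add φ hbc (Finsupp.single 2 1), ih _ hbc, smul_zero, map_zero])
          by_cases ha : α.1 0 = 0
          · exact hlow (exps_of_le hg (le_e3_iff.2 ⟨by simp; omega, by simp; omega, by simp; omega⟩))
          · exact hγ (exps_of_le hx (e3_le_iff.2 ⟨by omega, by omega, by omega⟩))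
        · exact hne (by rw [← coef_smul_shift hI.1 (Finsupp.single 1 1) γ _ hg, h3, map_zero])
  refine eq_zero_of_mem_tPiece hI.1 hφ fun β hβ γ _ _ => ?_
  rcases Nat.eq_zero_or_pos (β 0) with h0 | h0
  · have e : e3 0 (β 1) (β 2) = β := by rw [← h0, e3_eta]
    rw [← app_congr φ e (e.symm ▸ hβ), low _ _ _, map_zero]
  · obtain ⟨δ, hδ⟩ := exists_add_of_le (show e3 1 0 0 ≤ β from e3_le_iff.2 ⟨h0, zero_le, zero_le⟩)
    rw [← app_congr φ hδ.symm (exps_add hx δ), app_add φ hx δ, hX, smul_zero, map_zero]

end


open W4c1hilbpn in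
/-- Let k be an infinite field, S = k[x,y,z], and T(I) = Hom_S(I, S/I) graded by triples of integers (a
graded piece is indexed by its multidegree; its sign pattern records which of the three entries are
negative); let I be a strongly stable ideal of finite colength (variables ordered x > y > z). Then x
lies in I if and only if the three graded pieces of T(I) whose sign pattern is negative at exactly
two of the three variables all vanish. (The published statement phrases the right-hand side as
smoothness of the corresponding point of the Hilbert scheme of points of affine 3-space, which for a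
monomial point is equivalent to this vanishing; the row records the vanishing condition, which is
what the argument establishes.) -/
theorem result (k : Type u) [Field k] [Infinite k]
    (I : Ideal (MvPolynomial (Fin 3) k)) (hI : IsStronglyStable I) [Module.Finite k (MvPolynomial (Fin 3) k ⧸ I)] :
    (MvPolynomial.X 0 : MvPolynomial (Fin 3) k) ∈ I ↔
      (sigPiece I ({1, 2} : Set (Fin 3)) = ⊥ ∧ sigPiece I ({0, 2} : Set (Fin 3)) = ⊥ ∧
        sigPiece I ({0, 1} : Set (Fin 3)) = ⊥) := by
  classical
  constructor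
  · intro hx
    have hx' : e3 1 0 0 ∈ exps I := by
      show monomial (e3 1 0 0) (1 : k) ∈ I
      rw [← X_eq_monomial_e3_zero]; exact hx
    exact ⟨piece_bot hI hx' _ (fun α hα => Or.inr ⟨(hα 1).2 (by simp), (hα 2).2 (by simp)⟩) ,
      piece_bot hI hx' _ (fun α hα => Or.inl ⟨(hα 0).2 (by simp), Or.inr ((hα 2).2 (by simp))⟩),
      piece_bot hI hx' _ (fun α hα => Or.inl ⟨(hα 0).2 (by simp), Or.inl ((hα 1).2 (by simp))⟩)⟩
  · rintro ⟨-, -, h01⟩
    by_contra hx
    have hxe : e3 1 0 0 ∉ exps I := fun h => hx (by rw [X_eq_monomial_e3_zero]; exact h)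
    have h0e : e3 0 0 0 ∉ exps I := fun h => hxe (exps_of_le h (e3_le_iff.2 ⟨zero_le, zero_le, zero_le⟩))
    obtain ⟨C, hC⟩ := exists_single_mem hI.1 (2 : Fin 3)
    have hzex : ∃ c, e3 0 0 c ∈ exps I :=
      ⟨C, exps_of_le hC (le_of_eq (e3_ext (by simp) (by simp) (by simp)))⟩
    obtain ⟨B, hB⟩ := exists_single_mem hI.1 (1 : Fin 3)
    have hyex : ∃ b, e3 1 b 0 ∈ exps I :=
      ⟨B, exps_of_le hB (fun i => by fin_cases i <;> simp)⟩
    have hc := Nat.find_spec hzex
    have hc' : ∀ c < Nat.find hzex, e3 0 0 c ∉ exps I := fun c h => Nat.find_min hzex h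
    have hj := Nat.find_spec hyex
    have hj' : ∀ b < Nat.find hyex, e3 1 b 0 ∉ exps I := fun b h => Nat.find_min hyex h
    revert hc hc' hj hj'
    generalize Nat.find hzex = c
    generalize Nat.find hyex = j
    intro hc hc' hj hj'
    obtain ⟨c, rfl⟩ : ∃ c', c = c' + 1 := ⟨c - 1, by have : c ≠ 0 := fun h => h0e (h ▸ hc); omega⟩
    obtain ⟨j, rfl⟩ : ∃ j', j = j' + 1 := ⟨j - 1, by have : j ≠ 0 := fun h => hxe (h ▸ hj); omega⟩
    have hg : ∀ h ∈ exps I, h ≤ e3 1 (j + 1) 0 → h = e3 1 (j + 1) 0 := by
      refine minimal_of_pred fun i hi => ?_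
      fin_cases i
      · intro h
        have e : e3 1 (j + 1) 0 - Finsupp.single (0 : Fin 3) 1 = e3 0 (j + 1) 0 := e3_ext (by simp) (by simp) (by simp)
        have h' : e3 0 (j + 1) 0 ∈ exps I := e ▸ h
        exact hj' j (by omega) (stable_yx hI h')
      · intro h
        have e : e3 1 (j + 1) 0 - Finsupp.single (1 : Fin 3) 1 = e3 1 j 0 := e3_ext (by simp) (by simp) (by simp)
        exact hj' j (by omega) (e ▸ h)
      · simp at hi
    refine sigPiece_ne_bot_of_socle hI.1 _ (e3 0 0 c) hj hg (hc' c (by omega)) (fun δ hd => ?_)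
      ({0, 1} : Set (Fin 3)) (fun i => by fin_cases i <;> simp) h01
    obtain h | h | h : 0 < δ 0 ∨ 0 < δ 1 ∨ 0 < δ 2 := by
      by_contra hh
      push_neg at hh
      exact hd (Finsupp.ext fun i => by fin_cases i <;> simp <;> omega)
    · exact exps_of_le (stable_zx hI hc) (e3_le_iff.2 ⟨by simp; omega, by simp, by simp⟩)
    · exact exps_of_le (stable_zy hI hc) (e3_le_iff.2 ⟨by simp, by simp; omega, by simp⟩)
    · exact exps_of_le hc (e3_le_iff.2 ⟨by simp, by simp, by simp; omega⟩)

end Groth.Agent.S13439
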