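import Groth.Statements.S13452
import Mathlib
import Groth.Agent.W4Hilb.Socle
open Groth.Agent.W4Hilb W4c1hilbpn MvPolynomial

set_option autoImplicit false
universe u
open W4c1hilbpn

set_option backward.isDefEq.respectTransparency false
namespace Groth.Agent.S13452

section
open Finsupp (single)

variable {k : Type u} [Field k] {n : ℕ} {I : Ideal (MvPolynomial (Fin n) k)}

lemma region_mem_iff {α : Fin n → ℤ} {γ : Fin n → ℤ} :
    γ ∈ region I α ↔ (∃ β ∈ exps I, γ = vec β + α) ∧ ¬ ∃ η ∈ exps I, γ = vec η := by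
  refine and_congr Iff.rfl (not_congr ?_)
  constructor
  · rintro ⟨h0, hm⟩
    exact ⟨_, hm, funext fun i => by simp [vec, h0 i]⟩
  · rintro ⟨η, hη, rfl⟩
    refine ⟨fun i => Int.natCast_nonneg _, ?_⟩
    convert hη
    exact Finsupp.ext fun i => by simp [vec]

lemma adj_step {γ : Fin n → ℤ} (i : Fin n) : (stepGraph (Fin n)).Adj γ (γ + Pi.single i 1) := by
  classical
  refine ⟨fun h => ?_, Or.inl ?_⟩
  · have := congrFun h i
    simp at this
  · show ∑ x, |γ x - (γ + Pi.single i (1 : ℤ) : Fin n → ℤ) x| = 1
    rw [Finset.sum_eq_single i]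
    · simp
    · intro j _ hj; simp [hj]
    · intro h; exact absurd (Finset.mem_univ i) h

lemma exists_step_of_adj {γ γ' : Fin n → ℤ} (h : (stepGraph (Fin n)).Adj γ γ') :
    ∃ i, γ' = γ + Pi.single i 1 ∨ γ = γ' + Pi.single i 1 := by
  classical
  have key : ∀ a b : Fin n → ℤ, ∑ x, |a x - b x| = 1 → ∃ i, b = a + Pi.single i 1 ∨ a = b + Pi.single i 1 := by
    intro a b hs
    obtain ⟨i, hi⟩ : ∃ i, a i - b i ≠ 0 := by
      by_contra hc
      push_neg at hc
      simp [hc] at hs
    have hspl := Finset.sum_erase_add Finset.univ (fun x => |a x - b x|) (Finset.mem_univ i)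
    have hnn : 0 ≤ ∑ x ∈ Finset.univ.erase i, |a x - b x| := Finset.sum_nonneg fun x _ => abs_nonneg _
    have hpos : 1 ≤ |a i - b i| := Int.one_le_abs hi
    have h1 : |a i - b i| = 1 := by omega
    have h0 : ∀ x, x ≠ i → a x = b x := fun x hx => by
      have hz : ∑ x ∈ Finset.univ.erase i, |a x - b x| = 0 := by omega
      have := (Finset.sum_eq_zero_iff_of_nonneg (fun x _ => abs_nonneg _)).1 hz x (by simp [hx])
      rwa [abs_eq_zero, sub_eq_zero] at this
    refine ⟨i, (abs_eq (by norm_num)).1 h1 |>.symm.imp (fun h => funext fun x => ?_) (fun h => funext fun x => ?_)⟩ <;>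
      · by_cases hx : x = i
        · subst hx; simp; omega
        · simp [hx, h0 x hx]
  obtain ⟨-, h | h⟩ := h
  · exact key _ _ h
  · obtain ⟨i, h | h⟩ := key _ _ h
    · exact ⟨i, Or.inr h⟩
    · exact ⟨i, Or.inl h⟩

lemma vec_single (i : Fin n) : vec (single i 1) = Pi.single i (1 : ℤ) := by
  classical
  funext x
  by_cases hx : x = i
  · subst hx; simp [vec]
  · simp [vec, hx]

open Classical in
/-- The normal-form coefficient of a piece at a lattice point. -/
noncomputable def lval (hI : IsMonomial I) (α : Fin n → ℤ) (φ : Tgt I) (γ : Fin n → ℤ) : k :=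
  if h : ∃ β, β ∈ exps I ∧ γ = vec β + α ∧ ∃ η : Fin n →₀ ℕ, γ = vec η then
    coef hI h.choose_spec.2.2.choose (app φ h.choose_spec.1) else 0

lemma lval_eq (hI : IsMonomial I) (α : Fin n → ℤ) (φ : Tgt I) {β : Fin n →₀ ℕ} (hβ : β ∈ exps I)
    {η : Fin n →₀ ℕ} (he : vec η = vec β + α) : lval hI α φ (vec η) = coef hI η (app φ hβ) := by
  have h : ∃ β', β' ∈ exps I ∧ vec η = vec β' + α ∧ ∃ η' : Fin n →₀ ℕ, vec η = vec η' := ⟨β, hβ, he, η, rfl⟩
  rw [lval, dif_pos h]
  have e1 : h.choose = β := vec_injective (add_right_cancel (h.choose_spec.2.1.symm.trans he))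
  rw [app_congr φ e1 h.choose_spec.1]
  exact congrArg (fun η' => coef hI η' (app φ hβ)) (vec_injective h.choose_spec.2.2.choose_spec.symm)

lemma lval_neg (hI : IsMonomial I) (α : Fin n → ℤ) (φ : Tgt I) {γ : Fin n → ℤ} {i : Fin n} (hi : γ i < 0) :
    lval hI α φ γ = 0 := by
  rw [lval, dif_neg]
  rintro ⟨β, -, -, η, rfl⟩
  exact absurd hi (not_lt.2 (Int.natCast_nonneg _))

lemma exists_vec_of_nonneg {γ : Fin n → ℤ} (h : ∀ i, 0 ≤ γ i) : ∃ η : Fin n →₀ ℕ, vec η = γ :=
  ⟨Finsupp.equivFunOnFinite.symm fun i => (γ i).toNat, funext fun i => by simp [vec, h i]⟩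

lemma lval_step (hI : IsMonomial I) (α : Fin n → ℤ) (φ : Tgt I) {γ : Fin n → ℤ} (i : Fin n)
    (h1 : γ ∈ region I α) (h2 : γ + Pi.single i 1 ∈ region I α) :
    lval hI α φ γ = lval hI α φ (γ + Pi.single i 1) := by
  classical
  obtain ⟨⟨β, hβ, rfl⟩, hn1⟩ := region_mem_iff.1 h1
  obtain ⟨-, hn2⟩ := region_mem_iff.1 h2
  by_cases hp : ∀ j, 0 ≤ (vec β + α + Pi.single i (1 : ℤ) : Fin n → ℤ) j
  · obtain ⟨η', he'⟩ := exists_vec_of_nonneg hp
    have he2 : vec η' = vec (β + single i 1) + α := by rw [he', vec_add, vec_single]; abel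
    have hη' : η' ∉ exps I := fun h => hn2 ⟨η', h, he'.symm⟩
    rw [← he', lval_eq hI α φ (exps_add hβ (single i 1)) he2, app_add φ hβ, coef_monomial_smul hI _ _ _ hη']
    by_cases hle : single i 1 ≤ η'
    · have he : vec (η' - single i 1) = vec β + α := by
        have h3 := congrArg vec (tsub_add_cancel_of_le hle)
        rw [vec_add, he', vec_single, add_left_inj] at h3
        exact h3
      rw [if_pos hle, ← he, lval_eq hI α φ hβ he]
    · rw [if_neg hle]
      rw [Finsupp.single_le_iff] at hle
      refine lval_neg hI α φ (i := i) ?_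
      have := congrFun he' i
      simp [vec] at this ⊢
      omega
  · push_neg at hp
    obtain ⟨j, hj⟩ := hp
    rw [lval_neg hI α φ hj, lval_neg hI α φ (i := j)]
    by_cases hji : j = i
    · subst hji; simp at hj ⊢; omega
    · simpa [hji] using hj

lemma lval_const (hI : IsMonomial I) (α : Fin n → ℤ) (φ : Tgt I) {x y : ↥(region I α)}
    (h : ((stepGraph (Fin n)).induce (region I α)).Reachable x y) : lval hI α φ x.1 = lval hI α φ y.1 := by
  obtain ⟨p⟩ := h
  induction p with
  | nil => rfl
  | @cons a b _ hab _ ih =>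
    refine Eq.trans ?_ ih
    obtain ⟨i, h | h⟩ := exists_step_of_adj (γ := a.1) (γ' := b.1) hab
    · rw [h]; exact lval_step hI α φ i a.2 (h ▸ b.2)
    · rw [h]; exact (lval_step hI α φ i b.2 (h ▸ a.2)).symm

theorem tPiece_finrank_eq_nBddComp {m : ℕ} {I : Ideal (MvPolynomial (Fin (m + 2)) k)} (hI : IsMonomial I)
    [Module.Finite k (MvPolynomial (Fin (m + 2)) k ⧸ I)] (α : Fin (m + 2) → ℤ) :
    Module.finrank k ↥(tPiece I α) = nBddComp I α := by
  classical
  let G := (stepGraph (Fin (m + 2))).induce (region I α)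
  have nonneg : ∀ x : ↥(region I α), (G.connectedComponentMk x).supp.Finite → ∀ i, 0 ≤ x.1 i := by
    intro x hx i
    by_contra hi
    rw [not_le] at hi
    obtain ⟨j, hj⟩ := exists_ne i
    have hreg : ∀ t : ℕ, x.1 + Pi.single j (t : ℤ) ∈ region I α := by
      intro t
      obtain ⟨⟨β, hβ, he⟩, -⟩ := region_mem_iff.1 x.2
      refine region_mem_iff.2 ⟨⟨_, exps_add hβ (single j t), ?_⟩, ?_⟩
      · rw [vec_add, he]
        funext l
        by_cases hl : l = j
        · subst hl; simp [vec]; ring
        · simp [vec, hl]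
      · rintro ⟨η, -, h⟩
        have := congrFun h i
        simp [hj.symm, vec] at this
        omega
    have hreach : ∀ t : ℕ, G.Reachable x ⟨_, hreg t⟩ := by
      intro t
      induction t with
      | zero => exact (show x = ⟨_, hreg 0⟩ from Subtype.ext (by simp)) ▸ SimpleGraph.Reachable.refl x
      | succ t ih =>
        refine ih.trans (SimpleGraph.Adj.reachable ?_)
        show (stepGraph (Fin (m + 2))).Adj _ _
        have e : x.1 + Pi.single j ((t + 1 : ℕ) : ℤ) = x.1 + Pi.single j (t : ℤ) + Pi.single j 1 := by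
          rw [add_assoc, ← Pi.single_add]; simp
        show (stepGraph (Fin (m + 2))).Adj (x.1 + Pi.single j (t : ℤ)) (x.1 + Pi.single j ((t + 1 : ℕ) : ℤ))
        rw [e]; exact adj_step j
    refine Set.infinite_univ ((hx.preimage (f := fun t : ℕ => (⟨_, hreg t⟩ : ↥(region I α))) ?_).subset fun t _ => ?_)
    · intro a _ b _ h
      have := congrFun (congrArg Subtype.val h) j
      simpa using this
    · exact (SimpleGraph.ConnectedComponent.mem_supp_iff _ _).2 (SimpleGraph.ConnectedComponent.eq.2 (hreach t).symm)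
  let B := {c : G.ConnectedComponent // c.supp.Finite}
  have rep : ∀ c : B, ∃ x, G.connectedComponentMk x = c.1 := fun c => c.1.exists_rep
  choose r hr using rep
  have rn : ∀ c : B, ∀ i, 0 ≤ (r c).1 i := fun c => nonneg (r c) ((hr c).symm ▸ c.2)
  have rη : ∀ c : B, ∃ η : Fin (m + 2) →₀ ℕ, vec η = (r c).1 := fun c => exists_vec_of_nonneg (rn c)
  choose η hη using rη
  have ηn : ∀ c : B, η c ∉ exps I := fun c h => (region_mem_iff.1 (r c).2).2 ⟨_, h, (hη c).symm⟩
  haveI : Finite ((exps I)ᶜ : Set (Fin (m + 2) →₀ ℕ)) := (finite_compl_exps hI).to_subtype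
  haveI : Finite B := Finite.of_injective (fun c => (⟨η c, ηn c⟩ : ((exps I)ᶜ : Set (Fin (m + 2) →₀ ℕ)))) fun c c' h => by
    refine Subtype.ext ?_
    rw [← hr c, ← hr c']
    exact congrArg _ (Subtype.ext ((hη c).symm.trans ((congrArg vec (congrArg Subtype.val h)).trans (hη c'))))
  haveI : Fintype B := Fintype.ofFinite _
  let Θ : ↥(tPiece I α) →ₗ[k] (B → k) :=
    { toFun := fun φ c => lval hI α φ.1 (r c).1
      map_add' := fun φ ψ => funext fun c => by
        show lval hI α (φ.1 + ψ.1) _ = lval hI α φ.1 _ + lval hI α ψ.1 _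
        unfold lval
        split_ifs
        · rw [app, LinearMap.add_apply, map_add]
        · rw [add_zero]
      map_smul' := fun s φ => funext fun c => by
        show lval hI α (s • φ.1) _ = s • lval hI α φ.1 _
        unfold lval
        split_ifs
        · rw [app, LinearMap.smul_apply, map_smul]
        · rw [smul_zero] }
  have inj : Function.Injective Θ := by
    intro φ ψ h
    refine Subtype.ext (tgt_ext hI fun β hβ => eq_of_coef hI fun γ hγ => ?_)
    by_cases he : vec γ = vec β + α
    · rw [← lval_eq hI α φ.1 hβ he, ← lval_eq hI α ψ.1 hβ he]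
      have hreg : vec γ ∈ region I α := region_mem_iff.2 ⟨⟨β, hβ, he⟩, fun ⟨η', h1, h2⟩ => hγ (vec_injective h2 ▸ h1)⟩
      let x : ↥(region I α) := ⟨_, hreg⟩
      by_cases hf : (G.connectedComponentMk x).supp.Finite
      · let c : B := ⟨_, hf⟩
        have hreach : G.Reachable x (r c) := SimpleGraph.ConnectedComponent.eq.1 (hr c).symm
        rw [show lval hI α φ.1 (vec γ) = lval hI α φ.1 (r c).1 from lval_const hI α φ.1 hreach,
          show lval hI α ψ.1 (vec γ) = lval hI α ψ.1 (r c).1 from lval_const hI α ψ.1 hreach]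
        exact congrFun h c
      · obtain ⟨y, hy, hneg⟩ : ∃ y ∈ (G.connectedComponentMk x).supp, ∃ i, y.1 i < 0 := by
          by_contra hc
          push_neg at hc
          refine hf ?_
          have key : ∀ y ∈ (G.connectedComponentMk x).supp, ∃ η' ∈ (exps I)ᶜ, vec η' = y.1 := fun y hy => by
            obtain ⟨η', he'⟩ := exists_vec_of_nonneg (hc y hy)
            exact ⟨η', fun hh => (region_mem_iff.1 y.2).2 ⟨η', hh, he'.symm⟩, he'⟩
          refine Set.Finite.subset (((finite_compl_exps hI).image vec).preimage Subtype.val_injective.injOn) fun y hy => ?_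
          obtain ⟨η', h1, h2⟩ := key y hy
          exact ⟨η', h1, h2⟩
        obtain ⟨i, hi⟩ := hneg
        have hreach : G.Reachable x y := SimpleGraph.ConnectedComponent.eq.1 ((SimpleGraph.ConnectedComponent.mem_supp_iff _ _).1 hy).symm
        rw [show lval hI α φ.1 (vec γ) = lval hI α φ.1 y.1 from lval_const hI α φ.1 hreach,
          show lval hI α ψ.1 (vec γ) = lval hI α ψ.1 y.1 from lval_const hI α ψ.1 hreach, lval_neg hI α _ hi, lval_neg hI α _ hi]
    · have h0 : ∀ χ ∈ tPiece I α, coef hI γ (app χ hβ) = 0 := fun χ hχ =>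
        by_contra fun hne => he ((mem_tPiece hI).1 hχ β hβ γ hne)
      rw [h0 _ φ.2, h0 _ ψ.2]
  have surj : Function.Surjective Θ := by
    intro t
    let s : G.ConnectedComponent → k := fun c => if h : c.supp.Finite then t ⟨c, h⟩ else 0
    let w : (Fin (m + 2) →₀ ℕ) → k := fun β =>
      if h : vec β + α ∈ region I α then s (G.connectedComponentMk ⟨_, h⟩) else 0
    let f : (Fin (m + 2) →₀ ℕ) → MvPolynomial (Fin (m + 2)) k ⧸ I := fun β =>
      if (∀ i, 0 ≤ (β i : ℤ) + α i) then w β • Ideal.Quotient.mk I (monomial (shift β α) (1 : k)) else 0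
    have cf : ∀ β γ, γ ∉ exps I → coef hI γ (f β) = if vec γ = vec β + α then w β else 0 := by
      intro β γ hγ
      by_cases hp : ∀ i, 0 ≤ (β i : ℤ) + α i
      · simp only [f, if_pos hp]
        rw [map_smul, coef_mono, smul_eq_mul]
        by_cases hs : shift β α = γ
        · rw [if_pos ⟨hs, hγ⟩, mul_one, if_pos (vec_eq_iff_shift.2 ⟨hp, hs.symm⟩)]
        · rw [if_neg (fun h => hs h.1), mul_zero, if_neg (fun h => hs (vec_eq_iff_shift.1 h).2.symm)]
      · simp only [f, if_neg hp]
        rw [map_zero, if_neg (fun h => hp (vec_eq_iff_shift.1 h).1)]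
    have step : ∀ β i, β ∈ exps I → f (β + single i 1) = (monomial (single i 1) (1 : k) : MvPolynomial (Fin (m + 2)) k) • f β := by
      intro β i hβ
      refine eq_of_coef hI fun γ hγ => ?_
      rw [cf _ _ hγ, coef_monomial_smul hI _ _ _ hγ]
      have e2 : vec (β + single i 1) + α = vec β + α + Pi.single i 1 := by rw [vec_add, vec_single]; abel
      have mem2 : ∀ η' : Fin (m + 2) →₀ ℕ, η' ∉ exps I → vec η' = vec (β + single i 1) + α → vec (β + single i 1) + α ∈ region I α :=
        fun η' h1 h2 => region_mem_iff.2 ⟨⟨_, exps_add hβ _, rfl⟩, fun ⟨e, he, he'⟩ => h1 (vec_injective (h2.trans he') ▸ he)⟩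
      by_cases hle : single i 1 ≤ γ
      · rw [if_pos hle]
        have hγ' : γ - single i 1 ∉ exps I := not_exps_of_le hγ tsub_le_self
        rw [cf _ _ hγ']
        have ev : vec γ = vec (γ - single i 1) + Pi.single i 1 := by
          rw [← vec_single, ← vec_add, tsub_add_cancel_of_le hle]
        by_cases hv : vec γ = vec (β + single i 1) + α
        · have hv' : vec (γ - single i 1) = vec β + α := by
            rw [ev, e2] at hv; exact add_right_cancel hv
          rw [if_pos hv, if_pos hv']
          have r2 := mem2 γ hγ hv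
          have r1 : vec β + α ∈ region I α :=
            region_mem_iff.2 ⟨⟨β, hβ, rfl⟩, fun ⟨e, he, he'⟩ => hγ' (vec_injective (hv'.trans he') ▸ he)⟩
          simp only [w, dif_pos r1, dif_pos r2]
          refine congrArg s (SimpleGraph.ConnectedComponent.eq.2 (SimpleGraph.Adj.reachable ?_)).symm
          show (stepGraph (Fin (m + 2))).Adj (vec β + α) (vec (β + single i 1) + α)
          rw [e2]; exact adj_step i
        · rw [if_neg hv, if_neg]
          intro h
          exact hv (by rw [ev, h, e2])
      · rw [if_neg hle]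
        split_ifs with hv
        · have r2 := mem2 γ hγ hv
          simp only [w, dif_pos r2, s]
          rw [dif_neg]
          intro hfin
          have hγi : γ i = 0 := by rw [Finsupp.single_le_iff] at hle; omega
          have hneg : (vec β + α) i < 0 := by
            have := congrFun (hv.trans e2) i
            simp [vec, hγi] at this ⊢
            omega
          have r1 : vec β + α ∈ region I α := region_mem_iff.2 ⟨⟨β, hβ, rfl⟩, fun ⟨e, _, he'⟩ => by
            rw [he'] at hneg; exact absurd hneg (not_lt.2 (Int.natCast_nonneg _))⟩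
          have hadj : G.Adj ⟨_, r1⟩ ⟨_, r2⟩ := by
            show (stepGraph (Fin (m + 2))).Adj (vec β + α) (vec (β + single i 1) + α)
            rw [e2]; exact adj_step i
          refine absurd (nonneg ⟨_, r1⟩ ?_ i) (not_le.2 hneg)
          rwa [SimpleGraph.ConnectedComponent.eq.2 hadj.reachable]
        · rfl
    have hf : ∀ β δ, β ∈ exps I → f (β + δ) = (monomial δ (1 : k) : MvPolynomial (Fin (m + 2)) k) • f β := by
      intro β δ hβ
      induction hd : δ.degree generalizing δ with
      | zero =>
        have : δ = 0 := Finsupp.ext fun x => by have := Finsupp.le_degree x δ; show δ x = 0; omega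
        subst this
        rw [add_zero, monomial_zero', map_one, one_smul]
      | succ d ih =>
        obtain ⟨i, hi⟩ : ∃ i, δ i ≠ 0 := by
          by_contra hc
          push_neg at hc
          rw [show δ = 0 from Finsupp.ext hc, map_zero] at hd
          omega
        obtain ⟨η', rfl⟩ := exists_add_of_le (Finsupp.single_le_iff.2 (Nat.one_le_iff_ne_zero.2 hi))
        rw [map_add Finsupp.degree, Finsupp.degree_single] at hd
        rw [add_comm (single i 1) η', ← add_assoc, step _ i (exps_add hβ η'), ih η' (by omega), smul_smul,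
          monomial_mul, one_mul, add_comm (single i 1) η']
    refine ⟨⟨mkTgt hI f hf, (mem_tPiece hI).2 fun β hβ γ hne => ?_⟩, funext fun c => ?_⟩
    · rw [app_mkTgt] at hne
      by_contra h
      by_cases hg : γ ∈ exps I
      · exact hne (coef_of_mem hI hg _)
      · exact hne (by rw [cf _ _ hg, if_neg h])
    · show lval hI α (mkTgt hI f hf) (r c).1 = t c
      obtain ⟨⟨β, hβ, he⟩, -⟩ := region_mem_iff.1 (r c).2
      have he' : vec (η c) = vec β + α := (hη c).trans he
      rw [← hη c, lval_eq hI α _ hβ he', app_mkTgt, cf _ _ (ηn c), if_pos he']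
      have r1 : vec β + α ∈ region I α := he ▸ (r c).2
      simp only [w, dif_pos r1]
      have : G.connectedComponentMk ⟨_, r1⟩ = c.1 :=
        (congrArg G.connectedComponentMk (Subtype.ext he.symm : (⟨_, r1⟩ : ↥(region I α)) = r c)).trans (hr c)
      rw [this]
      simp only [s, dif_pos c.2]
      rfl
  rw [(LinearEquiv.ofBijective Θ ⟨inj, surj⟩).finrank_eq, Module.finrank_fintype_fun_eq_card, ← Nat.card_eq_fintype_card]
  rfl

end


open W4c1hilbpn in
/-- Let k be an infinite field, n ≥ 2, S the polynomial ring over k in n variables, I a monomial ideal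
of finite colength with exponent set Ĩ, α an integer vector and T(I) = Hom_S(I, S/I) with its
grading by integer vectors. The dimension of the graded piece of T(I) of multidegree α equals the
number of bounded (finite) connected components of the region (Ĩ + α) ∖ Ĩ of the integer lattice,
two lattice points being joined when they differ by a unit vector. (The published statement allows
any number of variables; in one variable it fails: for I = (x) and α = −2 the region {−1, 0} is one
bounded component while the piece is zero. This row assumes n ≥ 2.) -/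
theorem result (k : Type u) [Field k] [Infinite k] (n : ℕ) (hn : 2 ≤ n)
    (I : Ideal (MvPolynomial (Fin n) k)) (hI : IsMonomial I) [Module.Finite k (MvPolynomial (Fin n) k ⧸ I)]
    (α : Fin n → ℤ) :
    Module.finrank k ↥(tPiece I α) = nBddComp I α := by
  obtain ⟨m, rfl⟩ : ∃ m, n = m + 2 := ⟨n - 2, by omega⟩
  exact tPiece_finrank_eq_nBddComp hI α

end Groth.Agent.S13452
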