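import Groth.Statements.S13440
import Mathlib
import Groth.Agent.S13452
open Groth.Agent.W4Hilb W4c1hilbpn MvPolynomial Groth.Agent.S13452

set_option autoImplicit false
universe u
open W4c1hilbpn

set_option backward.isDefEq.respectTransparency false
namespace Groth.Agent.S13440

section
open Finsupp (single)

variable {k : Type u} [Field k] {I : Ideal (MvPolynomial (Fin 3) k)}

lemma stair_lt_iff (hI : IsMonomial I) [Module.Finite k (MvPolynomial (Fin 3) k ⧸ I)] (a b c : ℕ) :
    c < stairZ I a b ↔ e3 a b c ∉ exps I := by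
  classical
  have hex : ∃ c, e3 a b c ∈ exps I := by
    obtain ⟨N, hN⟩ := exists_single_mem hI (2 : Fin 3)
    exact ⟨N, exps_of_le hN fun x => by fin_cases x <;> simp⟩
  have hiff : ∀ c, e3 a b c ∉ exps I ↔ c < Nat.find hex := fun c =>
    ⟨fun h => lt_of_not_ge fun hle => h (exps_of_le (Nat.find_spec hex) (e3_le_iff.2 ⟨by simp, by simp, by simpa using hle⟩)),
      fun h => Nat.find_min hex h⟩
  have he : stairZ I a b = Nat.find hex := by
    rw [stairZ, Nat.card_congr (Equiv.subtypeEquivRight hiff)]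
    exact (Nat.card_congr Fin.equivSubtype.symm).trans (Nat.card_fin _)
  rw [he, hiff]

instance finite_tgt [Module.Finite k (MvPolynomial (Fin 3) k ⧸ I)] : Module.Finite k (Tgt I) := by
  obtain ⟨s, hs⟩ := IsNoetherian.noetherian I
  have hs' : ∀ p ∈ s, p ∈ I := fun p hp => hs ▸ Submodule.subset_span hp
  let L : Tgt I →ₗ[k] ({p // p ∈ s} → MvPolynomial (Fin 3) k ⧸ I) :=
    { toFun := fun φ p => φ ⟨p.1, hs' p.1 p.2⟩
      map_add' := fun _ _ => rfl
      map_smul' := fun _ _ => rfl }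
  refine Module.Finite.of_injective L fun φ ψ h => LinearMap.ext fun p => ?_
  obtain ⟨p, hp⟩ := p
  induction (show p ∈ Submodule.span (MvPolynomial (Fin 3) k) (s : Set (MvPolynomial (Fin 3) k)) from hs.symm ▸ hp)
      using Submodule.span_induction with
  | mem q hq => exact congrFun h ⟨q, hq⟩
  | zero => exact (map_zero φ).trans (map_zero ψ).symm
  | add q r hq hr h1 h2 =>
    exact (map_add φ ⟨q, hs ▸ hq⟩ ⟨r, hs ▸ hr⟩).trans ((congrArg₂ (· + ·) (h1 _) (h2 _)).trans (map_add ψ _ _).symm)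
  | smul a q hq h1 =>
    exact (map_smul φ a ⟨q, hs ▸ hq⟩).trans ((congrArg (a • ·) (h1 _)).trans (map_smul ψ a _).symm)

theorem piece_bound (hI : IsMonomial I) [Module.Finite k (MvPolynomial (Fin 3) k ⧸ I)] (a1 a2 : ℕ) :
    Module.finrank k ↥(⨆ α : {α : Fin 3 → ℤ // α 0 = (a1 : ℤ) ∧ α 1 = (a2 : ℤ) ∧ α 2 < 0}, tPiece I α.1) ≤
      ∑ᶠ p : ℕ × ℕ, (if a1 ≤ p.1 ∧ a2 ≤ p.2
        then stairZ I p.1 p.2 - max (stairZ I (p.1 + 1) p.2) (stairZ I p.1 (p.2 + 1)) else 0) := by
  classical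
  let b : ℕ → ℕ → ℕ := stairZ I
  have hb : ∀ i j c, c < b i j ↔ e3 i j c ∉ exps I := stair_lt_iff hI
  let P : Finset (ℕ × ℕ) := (finite_compl_exps hI).toFinset.image fun v => (v 0, v 1)
  have hP : ∀ i j c, e3 i j c ∉ exps I → (i, j) ∈ P := fun i j c h =>
    Finset.mem_image.2 ⟨e3 i j c, (finite_compl_exps hI).mem_toFinset.2 h, rfl⟩
  let Q := P.filter fun p => a1 ≤ p.1 ∧ a2 ≤ p.2
  let T := Σ p : Q, Fin (b p.1.1 p.1.2 - max (b (p.1.1 + 1) p.1.2) (b p.1.1 (p.1.2 + 1)))
  have rhs : Fintype.card T = ∑ᶠ p : ℕ × ℕ, (if a1 ≤ p.1 ∧ a2 ≤ p.2 then b p.1 p.2 - max (b (p.1 + 1) p.2) (b p.1 (p.2 + 1)) else 0) := by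
    rw [finsum_eq_sum_of_support_subset _ (s := Q)]
    · simp only [T, Fintype.card_sigma, Fintype.card_fin]
      rw [Finset.univ_eq_attach, Finset.sum_attach Q (fun p => b p.1 p.2 - max (b (p.1 + 1) p.2) (b p.1 (p.2 + 1)))]
      exact Finset.sum_congr rfl fun p hp => (if_pos (Finset.mem_filter.1 hp).2).symm
    · intro p hp
      simp only [Function.mem_support, ne_eq, ite_eq_right_iff, Classical.not_imp] at hp
      obtain ⟨hp1, hp2⟩ := hp
      exact Finset.mem_filter.2 ⟨hP p.1 p.2 0 ((hb _ _ _).1 (by omega)), hp1⟩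
  refine le_of_le_of_eq ?_ rhs
  let B : ℤ → Type := fun c => {C : ((stepGraph (Fin 3)).induce (region I ![(a1 : ℤ), a2, c])).ConnectedComponent // C.supp.Finite}
  -- a lowest north-east extreme point of each bounded component
  have key : ∀ (c : ℤ), c < 0 → ∀ C : B c, ∃ (η : Fin 3 →₀ ℕ) (hη : vec η ∈ region I ![(a1 : ℤ), a2, c]),
      ((stepGraph (Fin 3)).induce _).connectedComponentMk ⟨_, hη⟩ = C.1 ∧ a1 ≤ η 0 ∧ a2 ≤ η 1 ∧
      η 2 < b (η 0) (η 1) ∧ b (η 0 + 1) (η 1) ≤ η 2 ∧ b (η 0) (η 1 + 1) ≤ η 2 ∧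
      (η 2 : ℤ) = b (η 0 - a1) (η 1 - a2) + c := by
    intro c hc C
    set α : Fin 3 → ℤ := ![(a1 : ℤ), a2, c]
    let G := (stepGraph (Fin 3)).induce (region I α)
    obtain ⟨x, hx, hmax⟩ := C.2.toFinset.exists_max_image (fun x : ↥(region I α) => toLex (x.1 0 + x.1 1, - x.1 2))
      (by obtain ⟨x, hx⟩ := C.1.exists_rep; exact ⟨x, C.2.mem_toFinset.2 ((SimpleGraph.ConnectedComponent.mem_supp_iff _ _).2 hx)⟩)
    have hxC := (SimpleGraph.ConnectedComponent.mem_supp_iff _ _).1 (C.2.mem_toFinset.1 hx)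
    have hnn : ∀ i, 0 ≤ x.1 i := by
      by_contra hneg
      push_neg at hneg
      obtain ⟨i, hi⟩ := hneg
      obtain ⟨⟨β, hβ, he⟩, -⟩ := region_mem_iff.1 x.2
      obtain ⟨j, hj⟩ := exists_ne i
      have hreg : ∀ t : ℕ, x.1 + Pi.single j (t : ℤ) ∈ region I α := fun t => region_mem_iff.2
        ⟨⟨_, exps_add hβ (single j t), by
          funext l
          have hl' : x.1 l = (β l : ℤ) + α l := congrFun he l
          show x.1 l + (Pi.single j (t : ℤ) : Fin 3 → ℤ) l = ((β + single j t) l : ℤ) + α l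
          rw [hl', Finsupp.add_apply]
          by_cases hl : l = j
          · subst hl; rw [Pi.single_eq_same, Finsupp.single_eq_same]; push_cast; ring
          · rw [Pi.single_eq_of_ne hl, Finsupp.single_eq_of_ne hl]; simp⟩, fun ⟨e, _, h⟩ => by
          have := congrFun h i; simp [hj.symm, vec] at this; omega⟩
      have hreach : ∀ t : ℕ, G.Reachable x ⟨_, hreg t⟩ := by
        intro t
        induction t with
        | zero => exact (show x = ⟨_, hreg 0⟩ from Subtype.ext (by simp)) ▸ SimpleGraph.Reachable.refl x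
        | succ t ih =>
          refine ih.trans (SimpleGraph.Adj.reachable ?_)
          show (stepGraph (Fin 3)).Adj (x.1 + Pi.single j (t : ℤ)) (x.1 + Pi.single j ((t + 1 : ℕ) : ℤ))
          rw [show x.1 + Pi.single j ((t + 1 : ℕ) : ℤ) = x.1 + Pi.single j (t : ℤ) + Pi.single j 1 by
            rw [add_assoc, ← Pi.single_add]; simp]
          exact adj_step j
      refine Set.infinite_univ ((C.2.preimage (f := fun t : ℕ => (⟨_, hreg t⟩ : ↥(region I α))) ?_).subset fun t _ => ?_)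
      · intro p _ q _ h
        have := congrFun (congrArg Subtype.val h) j
        simpa using this
      · exact (SimpleGraph.ConnectedComponent.mem_supp_iff _ _).2 ((SimpleGraph.ConnectedComponent.eq.2 (hreach t).symm).trans hxC)
    obtain ⟨η, hη⟩ := exists_vec_of_nonneg hnn
    refine ⟨η, hη ▸ x.2, ?_, ?_⟩
    · refine Eq.trans (congrArg _ ?_) hxC
      exact Subtype.ext hη
    obtain ⟨⟨β, hβ, he⟩, hnE⟩ := region_mem_iff.1 x.2
    have hv : ∀ i, (η i : ℤ) = β i + α i := congrFun (hη.trans he)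
    have hv0 : (η 0 : ℤ) = β 0 + (a1 : ℤ) := hv 0
    have hv1 : (η 1 : ℤ) = β 1 + (a2 : ℤ) := hv 1
    have hv2 : (η 2 : ℤ) = β 2 + c := hv 2
    have hηE : η ∉ exps I := fun h => hnE ⟨η, h, hη.symm⟩
    have up : ∀ i : Fin 3, i ≠ 2 → η + single i 1 ∈ exps I := by
      intro i hi
      by_contra hne
      have hreg : x.1 + Pi.single i 1 ∈ region I α := region_mem_iff.2
        ⟨⟨_, exps_add hβ (single i 1), by rw [vec_add, Groth.Agent.S13452.vec_single, he]; abel⟩,
          fun ⟨e, hme, h⟩ => hne (by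
            have : e = η + single i 1 := vec_injective (by rw [← h, vec_add, Groth.Agent.S13452.vec_single, hη])
            exact this ▸ hme)⟩
      have hadj : G.Adj x ⟨_, hreg⟩ := adj_step i
      have hmem : (⟨_, hreg⟩ : ↥(region I α)) ∈ C.2.toFinset := C.2.mem_toFinset.2
        ((SimpleGraph.ConnectedComponent.mem_supp_iff _ _).2 ((SimpleGraph.ConnectedComponent.eq.2 hadj.reachable.symm).trans hxC))
      have := hmax _ hmem
      rw [Prod.Lex.toLex_le_toLex] at this
      fin_cases i <;> simp_all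
    have hlow : (η 2 : ℤ) = b (η 0 - a1) (η 1 - a2) + c := by
      have h0 : η 0 - a1 = β 0 := by omega
      have h1 : η 1 - a2 = β 1 := by omega
      rw [h0, h1, hv2]
      congr 2
      refine le_antisymm (not_lt.1 fun hlt => ?_) (not_lt.1 fun hlt => ((hb _ _ _).1 hlt) (by rw [e3_eta]; exact hβ))
      have hpred : e3 (β 0) (β 1) (β 2 - 1) ∈ exps I := by
        by_contra h
        have := (hb _ _ _).2 h
        omega
      have hv' : vec (e3 (β 0) (β 1) (β 2 - 1)) + α = x.1 - Pi.single 2 1 := by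
        funext l
        have hl' : x.1 l = (β l : ℤ) + α l := congrFun he l
        show (e3 (β 0) (β 1) (β 2 - 1) l : ℤ) + α l = x.1 l - (Pi.single 2 1 : Fin 3 → ℤ) l
        rw [hl']
        fin_cases l <;> simp <;> omega
      have hreg : x.1 - Pi.single 2 1 ∈ region I α := region_mem_iff.2 ⟨⟨_, hpred, hv'.symm⟩, fun ⟨e, hme, h⟩ => by
        refine hηE (exps_of_le hme fun l => ?_)
        have := congrFun h l
        rw [← hη] at this
        fin_cases l <;> simp [vec] at this ⊢ <;> omega⟩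
      have hadj : G.Adj ⟨_, hreg⟩ x := by
        show (stepGraph (Fin 3)).Adj (x.1 - Pi.single 2 1) x.1
        have := adj_step (γ := x.1 - Pi.single 2 1) (2 : Fin 3)
        rwa [sub_add_cancel] at this
      have hmem : (⟨_, hreg⟩ : ↥(region I α)) ∈ C.2.toFinset := C.2.mem_toFinset.2
        ((SimpleGraph.ConnectedComponent.mem_supp_iff _ _).2 ((SimpleGraph.ConnectedComponent.eq.2 hadj.reachable).trans hxC))
      have := hmax _ hmem
      rw [Prod.Lex.toLex_le_toLex] at this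
      simp at this
    refine ⟨by omega, by omega, (hb _ _ _).2 (by rw [e3_eta]; exact hηE), not_lt.1 fun h => (hb _ _ _).1 h ?_,
      not_lt.1 fun h => (hb _ _ _).1 h ?_, hlow⟩
    · convert up 0 (by decide) using 1
      exact (e3_ext (by simp) (by simp) (by simp)).symm
    · convert up 1 (by decide) using 1
      exact (e3_ext (by simp) (by simp) (by simp)).symm
  choose η hη hcomp h1 h2 h3 h4 h5 h6 using key
  obtain ⟨N, hN⟩ : ∃ N : ℕ, ∀ i j, b i j ≤ N := by
    refine ⟨(finite_compl_exps hI).toFinset.sup (fun v => v 2) + 1, fun i j => not_lt.1 fun h => ?_⟩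
    have := Finset.le_sup (f := fun v : Fin 3 →₀ ℕ => v 2) ((finite_compl_exps hI).mem_toFinset.2 ((hb _ _ _).1 h))
    have h' : (e3 i j ((finite_compl_exps hI).toFinset.sup (fun v => v 2) + 1)) 2 ≤ (finite_compl_exps hI).toFinset.sup (fun v => v 2) := this
    rw [e3_two] at h'
    omega
  let Cs : Finset ℤ := Finset.Ico (-(N : ℤ)) 0
  have hfr : ∀ c : ℤ, Module.finrank k ↥(tPiece I ![(a1 : ℤ), a2, c]) = Nat.card (B c) := fun c =>
    tPiece_finrank_eq_nBddComp hI _
  have hB : ∀ c : ℤ, c < 0 → c ∉ Cs → IsEmpty (B c) := fun c hc hnot => ⟨fun C => hnot (Finset.mem_Ico.2 ⟨by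
    have := h6 c hc C
    have := hN (η c hc C 0 - a1) (η c hc C 1 - a2)
    omega, hc⟩)⟩
  have hle : (⨆ α : {α : Fin 3 → ℤ // α 0 = (a1 : ℤ) ∧ α 1 = (a2 : ℤ) ∧ α 2 < 0}, tPiece I α.1) ≤
      ⨆ c ∈ Cs, tPiece I ![(a1 : ℤ), a2, c] := by
    refine iSup_le fun α => ?_
    have e : α.1 = ![(a1 : ℤ), a2, α.1 2] := funext fun i => by
      fin_cases i
      · exact α.2.1
      · exact α.2.2.1
      · rfl
    by_cases hm : α.1 2 ∈ Cs
    · rw [e]; exact le_iSup₂ (f := fun c _ => tPiece I ![(a1 : ℤ), a2, c]) (α.1 2) hm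
    · have h0 : Module.finrank k ↥(tPiece I ![(a1 : ℤ), a2, α.1 2]) = 0 := by
        haveI := hB _ α.2.2.2 hm
        rw [hfr, Nat.card_of_isEmpty]
      rw [e, Submodule.finrank_eq_zero.1 h0]; exact bot_le
  refine le_trans (Submodule.finrank_mono hle) ?_
  have hsum : ∀ s : Finset ℤ, Module.finrank k ↥(⨆ c ∈ s, tPiece I ![(a1 : ℤ), a2, c]) ≤ ∑ c ∈ s, Nat.card (B c) := by
    intro s
    induction s using Finset.induction_on with
    | empty => simp
    | insert c s hc ih =>
      rw [Finset.iSup_insert, Finset.sum_insert hc]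
      exact (Submodule.finrank_add_le_finrank_add_finrank _ _).trans (add_le_add (hfr c).le ih)
  refine le_trans (hsum Cs) ?_
  have hneg : ∀ c : Cs, c.1 < 0 := fun c => (Finset.mem_Ico.1 c.2).2
  let F : (Σ c : Cs, B c.1) → T := fun x =>
    ⟨⟨(η x.1.1 (hneg x.1) x.2 0, η x.1.1 (hneg x.1) x.2 1), Finset.mem_filter.2
      ⟨hP _ _ _ ((hb _ _ _).1 (h3 x.1.1 (hneg x.1) x.2)), h1 _ _ _, h2 _ _ _⟩⟩,
      ⟨η x.1.1 (hneg x.1) x.2 2 - max (b (η x.1.1 (hneg x.1) x.2 0 + 1) (η x.1.1 (hneg x.1) x.2 1)) (b (η x.1.1 (hneg x.1) x.2 0) (η x.1.1 (hneg x.1) x.2 1 + 1)), by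
        exact Nat.sub_lt_sub_right (max_le (h4 x.1.1 (hneg x.1) x.2) (h5 x.1.1 (hneg x.1) x.2)) (h3 x.1.1 (hneg x.1) x.2)⟩⟩
  have hF : Function.Injective F := by
    rintro ⟨⟨c, hc⟩, C⟩ ⟨⟨c', hc'⟩, C'⟩ h
    have hcn := hneg ⟨c, hc⟩
    have hcn' := hneg ⟨c', hc'⟩
    have e01 := congrArg (fun t : T => t.1.1) h
    have e2 := congrArg (fun t : T => (t.2 : ℕ)) h
    simp only [F, Prod.mk.injEq] at e01 e2
    have e : η c hcn C = η c' hcn' C' := by
      refine Finsupp.ext fun l => ?_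
      fin_cases l
      · exact e01.1
      · exact e01.2
      · have := h4 c hcn C; have := h5 c hcn C; have := h4 c' hcn' C'; have := h5 c' hcn' C'
        have q1 : b (η c hcn C 0 + 1) (η c hcn C 1) = b (η c' hcn' C' 0 + 1) (η c' hcn' C' 1) := by rw [e01.1, e01.2]
        have q2 : b (η c hcn C 0) (η c hcn C 1 + 1) = b (η c' hcn' C' 0) (η c' hcn' C' 1 + 1) := by rw [e01.1, e01.2]
        show η c hcn C 2 = η c' hcn' C' 2
        omega
    have hcc : c = c' := by
      have x := h6 c hcn C; have y := h6 c' hcn' C'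
      rw [e] at x; omega
    subst hcc
    refine Sigma.ext rfl (heq_of_eq (Subtype.ext ?_))
    rw [← hcomp c hcn C, ← hcomp c hcn' C']
    exact congrArg _ (Subtype.ext (congrArg vec e))
  haveI : ∀ c : Cs, Finite (B c.1) := fun c => Finite.of_injective (fun C => F ⟨c, C⟩) fun C C' h => eq_of_heq (Sigma.mk.inj_iff.1 (hF h)).2
  calc ∑ c ∈ Cs, Nat.card (B c) = Nat.card (Σ c : Cs, B c.1) := by
        rw [Nat.card_sigma, Finset.univ_eq_attach, Finset.sum_attach Cs (fun c => Nat.card (B c))]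
    _ ≤ Nat.card T := Nat.card_le_card_of_injective F hF
    _ = _ := Nat.card_eq_fintype_card

end


open W4c1hilbpn in
/-- Let k be an infinite field, S = k[x,y,z], and T(I) = Hom_S(I, S/I) graded by triples of integers (a
graded piece is indexed by its multidegree; its sign pattern records which of the three entries are
negative); let I be a monomial ideal of finite colength with staircase numbers b_{i,j} = the number
of c with x^i y^j z^c outside I. For all natural numbers a1, a2, the span of the graded pieces of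
T(I) of multidegrees (a1, a2, c) with c < 0 has dimension at most the sum, over all i ≥ a1 and j ≥
a2, of b_{i,j} - max(b_{i+1,j}, b_{i,j+1}) (a sum with finitely many nonzero terms). -/
theorem result (k : Type u) [Field k] [Infinite k]
    (I : Ideal (MvPolynomial (Fin 3) k)) (hI : IsMonomial I) [Module.Finite k (MvPolynomial (Fin 3) k ⧸ I)] (a1 a2 : ℕ) :
    Module.finrank k ↥(⨆ α : {α : Fin 3 → ℤ // α 0 = (a1 : ℤ) ∧ α 1 = (a2 : ℤ) ∧ α 2 < 0}, tPiece I α.1) ≤
      ∑ᶠ p : ℕ × ℕ, (if a1 ≤ p.1 ∧ a2 ≤ p.2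
        then stairZ I p.1 p.2 - max (stairZ I (p.1 + 1) p.2) (stairZ I p.1 (p.2 + 1)) else 0) := by
  exact piece_bound hI a1 a2

end Groth.Agent.S13440
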