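import Groth.Statements.S13441
import Mathlib
import Groth.Agent.W4Hilb.Socle
open Groth.Agent.W4Hilb W4c1hilbpn MvPolynomial

set_option autoImplicit false
universe u
open W4c1hilbpn

set_option backward.isDefEq.respectTransparency false
namespace Groth.Agent.S13441

open W4c1hilbpn in
/-- Let k be an infinite field, S = k[x,y,z] with variables ordered x > y > z, and I a strongly stable
ideal of finite colength, with staircase numbers b^z_{i,j} = the number of c with x^i y^j z^c
outside I and b^y_{i,j} = the number of b with x^i y^b z^j outside I. Then b^z_{i+1,j} ≤ b^z_{i,j+1}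
and b^y_{i+1,j} ≤ b^y_{i,j+1} for all i and j (equivalently the maximum of the two neighbouring
staircase numbers is the second one). -/
theorem result (k : Type u) [Field k] [Infinite k]
    (I : Ideal (MvPolynomial (Fin 3) k)) (hI : IsStronglyStable I) [Module.Finite k (MvPolynomial (Fin 3) k ⧸ I)] (i j : ℕ) :
    stairZ I (i + 1) j ≤ stairZ I i (j + 1) ∧ stairY I (i + 1) j ≤ stairY I i (j + 1) := by
  have hfin := finite_compl_exps hI.1
  refine ⟨?_, ?_⟩
  · haveI : Finite {c : ℕ // e3 i (j + 1) c ∉ exps I} :=
      (hfin.preimage (f := fun c => e3 i (j + 1) c) (fun c _ c' _ h => by simpa using congrArg (fun v : Fin 3 →₀ ℕ => v 2) h)).to_subtype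
    exact Nat.card_le_card_of_injective
      (fun c => (⟨c.1, fun h => c.2 (stable_yx hI h)⟩ : {c : ℕ // e3 i (j + 1) c ∉ exps I}))
      (fun a b h => Subtype.ext (by simpa using h))
  · haveI : Finite {b : ℕ // e3 i b (j + 1) ∉ exps I} :=
      (hfin.preimage (f := fun b => e3 i b (j + 1)) (fun c _ c' _ h => by simpa using congrArg (fun v : Fin 3 →₀ ℕ => v 1) h)).to_subtype
    exact Nat.card_le_card_of_injective
      (fun c => (⟨c.1, fun h => c.2 (stable_zx hI h)⟩ : {b : ℕ // e3 i b (j + 1) ∉ exps I}))
      (fun a b h => Subtype.ext (by simpa using h))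

end Groth.Agent.S13441
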