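import Groth.Statements.S13442
import Mathlib
import Groth.Agent.W4Hilb.MPow
open Groth.Agent.W4Hilb W4c1hilbpn MvPolynomial

set_option autoImplicit false
universe u
open W4c1hilbpn

set_option backward.isDefEq.respectTransparency false
namespace Groth.Agent.S13442

section
variable {k : Type u} [Field k]

lemma finite_quot (r : ℕ) : Module.Finite k (MvPolynomial (Fin 3) k ⧸ mPow (Fin 3) k r) := by
  classical
  have hfin : ({β | β.degree < r} : Set (Fin 3 →₀ ℕ)).Finite :=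
    (Set.finite_Iic (Finsupp.equivFunOnFinite.symm fun _ => r)).subset fun β (h : β.degree < r) x => by
      have := Finsupp.le_degree x β
      simp only [Finsupp.equivFunOnFinite_symm_apply_apply]; omega
  refine ⟨⟨hfin.toFinset.image (fun β => Ideal.Quotient.mk (mPow (Fin 3) k r) (monomial β 1)), ?_⟩⟩
  refine eq_top_iff.2 fun q _ => ?_
  obtain ⟨p, rfl⟩ := Ideal.Quotient.mk_surjective q
  rw [p.as_sum, map_sum]
  refine Submodule.sum_mem _ fun β _ => ?_
  by_cases hβ : β.degree < r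
  · rw [monomial_eq_smul_one β (coeff β p)]
    show coeff β p • Ideal.Quotient.mk (mPow (Fin 3) k r) (monomial β (1 : k)) ∈ _
    refine Submodule.smul_mem _ _ (Submodule.subset_span ?_)
    exact Finset.mem_image.2 ⟨β, hfin.mem_toFinset.2 hβ, rfl⟩
  · rw [monomial_eq_smul_one β (coeff β p)]
    show coeff β p • Ideal.Quotient.mk (mPow (Fin 3) k r) (monomial β (1 : k)) ∈ _
    refine Submodule.smul_mem _ _ ?_
    have h0 : Ideal.Quotient.mk (mPow (Fin 3) k r) (monomial β 1) = 0 :=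
      Ideal.Quotient.eq_zero_iff_mem.2 (mem_exps_mPow.2 (not_lt.1 hβ))
    exact h0 ▸ Submodule.zero_mem _

noncomputable def mk3 (i : Fin 3) (a b c : ℕ) : Fin 3 →₀ ℕ :=
  Finsupp.equivFunOnFinite.symm fun x => if x = i then a else if x = i + 1 then b else c

lemma mk3_i (i : Fin 3) (a b c : ℕ) : mk3 i a b c i = a := by simp [mk3]
lemma mk3_j (i : Fin 3) (a b c : ℕ) : mk3 i a b c (i + 1) = b := by fin_cases i <;> simp [mk3]
lemma mk3_l (i : Fin 3) (a b c : ℕ) : mk3 i a b c (i + 2) = c := by fin_cases i <;> simp [mk3]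

lemma cases3 (i x : Fin 3) : x = i ∨ x = i + 1 ∨ x = i + 2 := by revert i x; decide

lemma ne3 (i : Fin 3) : i + 1 ≠ i ∧ i + 2 ≠ i := by revert i; decide

lemma deg3 (i : Fin 3) (v : Fin 3 →₀ ℕ) : v.degree = v i + v (i + 1) + v (i + 2) := by
  rw [Finsupp.degree_eq_sum, Fin.sum_univ_three]
  fin_cases i <;> simp <;> omega

lemma ext3 (i : Fin 3) {v w : Fin 3 →₀ ℕ} (h0 : v i = w i) (h1 : v (i + 1) = w (i + 1)) (h2 : v (i + 2) = w (i + 2)) :
    v = w := Finsupp.ext fun x => by rcases cases3 i x with rfl | rfl | rfl <;> assumption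

lemma sum5 (P : Fin 5 → ℕ) : ∑ x, P x = P 0 + P 1 + P 2 + P 3 + P 4 := Fin.sum_univ_five P

lemma card_one (r : ℕ) (i : Fin 3) :
    Nat.card {p : Pairs (Fin 3) r // ∀ x, dif p x < 0 ↔ x ∈ ({i} : Set (Fin 3))} = Nat.choose (r + 3) 4 := by
  rcases r with _ | r
  · rw [show Nat.choose (0 + 3) 4 = 0 from rfl, Nat.card_eq_zero]
    exact Or.inl ⟨fun p => by have := p.1.2.2; omega⟩
  have key : ∀ p : {p : Pairs (Fin 3) (r + 1) // ∀ x, dif p x < 0 ↔ x ∈ ({i} : Set (Fin 3))},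
      p.1.1.2 i < p.1.1.1 i ∧ p.1.1.1 (i + 1) ≤ p.1.1.2 (i + 1) ∧ p.1.1.1 (i + 2) ≤ p.1.1.2 (i + 2) ∧
      p.1.1.1 i + p.1.1.1 (i + 1) + p.1.1.1 (i + 2) = r + 1 ∧ p.1.1.2 i + p.1.1.2 (i + 1) + p.1.1.2 (i + 2) = r := by
    intro p
    have a := (p.2 i).2 rfl
    have b := mt (p.2 (i + 1)).1 (by simp [(ne3 i).1])
    have c := mt (p.2 (i + 2)).1 (by simp [(ne3 i).2])
    simp only [dif, vec, Pi.sub_apply] at a b c
    have h1 := p.1.2.1
    have h2 := p.1.2.2
    rw [deg3 i] at h1 h2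
    omega
  let e : {p : Pairs (Fin 3) (r + 1) // ∀ x, dif p x < 0 ↔ x ∈ ({i} : Set (Fin 3))} ≃ {P : Fin 5 → ℕ // ∑ x, P x = r} :=
    { toFun := fun p => ⟨![p.1.1.2 i, p.1.1.1 (i + 1), p.1.1.1 (i + 2), p.1.1.2 (i + 1) - p.1.1.1 (i + 1),
          p.1.1.2 (i + 2) - p.1.1.1 (i + 2)], by rw [sum5]; have := key p; simp; omega⟩
      invFun := fun P => ⟨⟨(mk3 i (P.1 0 + P.1 3 + P.1 4 + 1) (P.1 1) (P.1 2), mk3 i (P.1 0) (P.1 1 + P.1 3) (P.1 2 + P.1 4)),
          by have := (sum5 P.1).symm.trans P.2; simp only [deg3 i, mk3_i, mk3_j, mk3_l]; omega⟩,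
        fun x => by
          rcases cases3 i x with rfl | rfl | rfl
          · simp [dif, vec, mk3_i]; omega
          · simp [dif, vec, mk3_j, (ne3 i).1]
          · simp [dif, vec, mk3_l, (ne3 i).2]⟩
      left_inv := fun p => by
        have := key p
        refine Subtype.ext (Subtype.ext (Prod.ext (ext3 i ?_ ?_ ?_) (ext3 i ?_ ?_ ?_))) <;>
          simp [mk3_i, mk3_j, mk3_l] <;> omega
      right_inv := fun P => Subtype.ext (funext fun x => by fin_cases x <;> simp [mk3_i, mk3_j, mk3_l]) }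
  rw [Nat.card_congr e, natCard_degree_eq 4 _ (Fintype.card_fin _)]

lemma card_two (r : ℕ) (i : Fin 3) :
    Nat.card {p : Pairs (Fin 3) r // ∀ x, dif p x < 0 ↔ x ∈ ({i}ᶜ : Set (Fin 3))} = Nat.choose (r + 2) 4 := by
  have key : ∀ p : {p : Pairs (Fin 3) r // ∀ x, dif p x < 0 ↔ x ∈ ({i}ᶜ : Set (Fin 3))},
      p.1.1.1 i ≤ p.1.1.2 i ∧ p.1.1.2 (i + 1) < p.1.1.1 (i + 1) ∧ p.1.1.2 (i + 2) < p.1.1.1 (i + 2) ∧
      p.1.1.1 i + p.1.1.1 (i + 1) + p.1.1.1 (i + 2) = r ∧ p.1.1.2 i + p.1.1.2 (i + 1) + p.1.1.2 (i + 2) + 1 = r := by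
    intro p
    have a := mt (p.2 i).1 (by simp)
    have b := (p.2 (i + 1)).2 (by simp [(ne3 i).1])
    have c := (p.2 (i + 2)).2 (by simp [(ne3 i).2])
    simp only [dif, vec, Pi.sub_apply] at a b c
    have h1 := p.1.2.1
    have h2 := p.1.2.2
    rw [deg3 i] at h1 h2
    omega
  by_cases hr : r < 2
  · rw [Nat.choose_eq_zero_of_lt (by omega), Nat.card_eq_zero]
    exact Or.inl ⟨fun p => by have := key p; omega⟩
  obtain ⟨r, rfl⟩ : ∃ r', r = r' + 2 := ⟨r - 2, by omega⟩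
  let e : {p : Pairs (Fin 3) (r + 2) // ∀ x, dif p x < 0 ↔ x ∈ ({i}ᶜ : Set (Fin 3))} ≃ {P : Fin 5 → ℕ // ∑ x, P x = r} :=
    { toFun := fun p => ⟨![p.1.1.1 i, p.1.1.2 (i + 1), p.1.1.2 (i + 2), p.1.1.1 (i + 1) - p.1.1.2 (i + 1) - 1,
          p.1.1.1 (i + 2) - p.1.1.2 (i + 2) - 1], by rw [sum5]; have := key p; simp; omega⟩
      invFun := fun P => ⟨⟨(mk3 i (P.1 0) (P.1 1 + P.1 3 + 1) (P.1 2 + P.1 4 + 1), mk3 i (P.1 0 + P.1 3 + P.1 4 + 1) (P.1 1) (P.1 2)),
          by have := (sum5 P.1).symm.trans P.2; simp only [deg3 i, mk3_i, mk3_j, mk3_l]; omega⟩,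
        fun x => by
          rcases cases3 i x with rfl | rfl | rfl
          · simp [dif, vec, mk3_i]; omega
          · simp [dif, vec, mk3_j, (ne3 i).1]
          · simp [dif, vec, mk3_l, (ne3 i).2]⟩
      left_inv := fun p => by
        have := key p
        refine Subtype.ext (Subtype.ext (Prod.ext (ext3 i ?_ ?_ ?_) (ext3 i ?_ ?_ ?_))) <;>
          simp [mk3_i, mk3_j, mk3_l] <;> omega
      right_inv := fun P => Subtype.ext (funext fun x => by fin_cases x <;> simp [mk3_i, mk3_j, mk3_l] <;> omega) }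
  rw [Nat.card_congr e, natCard_degree_eq 4 _ (Fintype.card_fin _)]

lemma card_deg (n : ℕ) : Nat.card {v : Fin 3 →₀ ℕ // v.degree = n} = Nat.choose (n + 2) 2 := by
  rw [← natCard_degree_eq (τ := Fin 3) 2 n (Fintype.card_fin _)]
  exact Nat.card_congr (Finsupp.equivFunOnFinite.subtypeEquiv fun v => by rw [Finsupp.degree_eq_sum]; rfl)

lemma card_all (r : ℕ) : Nat.card {p : Pairs (Fin 3) r // True} = Nat.choose (r + 2) 2 * Nat.choose (r + 1) 2 := by
  rcases r with _ | r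
  · rw [show Nat.choose (0 + 2) 2 * Nat.choose (0 + 1) 2 = 0 from rfl, Nat.card_eq_zero]
    exact Or.inl ⟨fun p => by have := p.1.2.2; omega⟩
  let e : {p : Pairs (Fin 3) (r + 1) // True} ≃ {v : Fin 3 →₀ ℕ // v.degree = r + 1} × {v : Fin 3 →₀ ℕ // v.degree = r} :=
    { toFun := fun p => (⟨p.1.1.1, p.1.2.1⟩, ⟨p.1.1.2, by have := p.1.2.2; omega⟩)
      invFun := fun q => ⟨⟨(q.1.1, q.2.1), q.1.2, by rw [q.2.2]⟩, trivial⟩
      left_inv := fun p => rfl
      right_inv := fun q => rfl }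
  rw [Nat.card_congr e, Nat.card_prod, card_deg, card_deg]

end


open W4c1hilbpn in
/-- Let k be an infinite field, S = k[x,y,z], and T(I) = Hom_S(I, S/I) graded by triples of integers (a
graded piece is indexed by its multidegree; its sign pattern records which of the three entries are
negative); let m = (x,y,z) and r a natural number. For each variable index i, the span of the graded
pieces of T(m^r) negative exactly at i has dimension C(r+3, 4), the span of those negative exactly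
at the other two indices has dimension C(r+2, 4), and T(m^r) itself has dimension C(r+2, 2) · C(r+1,
2). -/
theorem result (k : Type u) [Field k] [Infinite k] (r : ℕ)
    (i : Fin 3) :
    Module.finrank k ↥(sigPiece ((Ideal.span (Set.range (MvPolynomial.X : Fin 3 → MvPolynomial (Fin 3) k))) ^ r) {i}) = Nat.choose (r + 3) 4 ∧
      Module.finrank k ↥(sigPiece ((Ideal.span (Set.range (MvPolynomial.X : Fin 3 → MvPolynomial (Fin 3) k))) ^ r) ({i}ᶜ : Set (Fin 3))) = Nat.choose (r + 2) 4 ∧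
        Module.finrank k (Tgt ((Ideal.span (Set.range (MvPolynomial.X : Fin 3 → MvPolynomial (Fin 3) k))) ^ r)) = Nat.choose (r + 2) 2 * Nat.choose (r + 1) 2 := by
  classical
  refine ⟨?_, ?_, ?_⟩
  · show Module.finrank k ↥(⨆ α : {α : Fin 3 → ℤ // ∀ x, α x < 0 ↔ x ∈ ({i} : Set (Fin 3))}, tPiece (mPow (Fin 3) k r) α.1) = _
    rw [finrank_iSup_tPiece_mPow r (fun α => ∀ x, α x < 0 ↔ x ∈ ({i} : Set (Fin 3)))]
    exact card_one r i
  · show Module.finrank k ↥(⨆ α : {α : Fin 3 → ℤ // ∀ x, α x < 0 ↔ x ∈ ({i}ᶜ : Set (Fin 3))}, tPiece (mPow (Fin 3) k r) α.1) = _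
    rw [finrank_iSup_tPiece_mPow r (fun α => ∀ x, α x < 0 ↔ x ∈ ({i}ᶜ : Set (Fin 3)))]
    exact card_two r i
  · show Module.finrank k (Tgt (mPow (Fin 3) k r)) = _
    haveI := finite_quot (k := k) r
    have e : (⨆ α : {α : Fin 3 → ℤ // True}, tPiece (mPow (Fin 3) k r) α.1) = ⊤ :=
      eq_top_iff.2 ((iSup_tPiece_eq_top (mPow_isMonomial r)).ge.trans (iSup_le fun α =>
        le_iSup (fun a : {a : Fin 3 → ℤ // True} => tPiece (mPow (Fin 3) k r) a.1) ⟨α, trivial⟩))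
    rw [← finrank_top k (Tgt (mPow (Fin 3) k r)), ← e, finrank_iSup_tPiece_mPow r (fun _ => True)]
    exact card_all r

end Groth.Agent.S13442
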