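import Groth.Statements.S13451
import Mathlib
import Groth.Agent.W4Hilb.Socle
open Groth.Agent.W4Hilb W4c1hilbpn MvPolynomial

set_option autoImplicit false
universe u
open W4c1hilbpn

set_option backward.isDefEq.respectTransparency false
namespace Groth.Agent.S13451

section
open Finsupp (single)

variable {k : Type u} [Field k]

lemma deg_add {n : ℕ} (a b : Fin (n + 1) →₀ ℕ) : (a + b).degree = a.degree + b.degree := map_add Finsupp.degree a b

lemma single_le_deg_two {n : ℕ} {a : Fin (n + 1)} {γ : Fin (n + 1) →₀ ℕ} (h2 : γ.degree = 2) (ha : 1 ≤ γ a) :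
    ∃ v, γ = single v 1 + single a 1 := by
  obtain ⟨η, rfl⟩ := exists_add_of_le (Finsupp.single_le_iff.2 ha)
  rw [deg_add, Finsupp.degree_single] at h2
  obtain ⟨v, hv⟩ : ∃ v, η = single v 1 := by
    obtain ⟨i, hi⟩ : ∃ i, η i ≠ 0 := by
      by_contra hc
      push_neg at hc
      rw [show η = 0 from Finsupp.ext hc, map_zero] at h2
      omega
    obtain ⟨ρ, rfl⟩ := exists_add_of_le (Finsupp.single_le_iff.2 (Nat.one_le_iff_ne_zero.2 hi))
    rw [deg_add, Finsupp.degree_single] at h2
    refine ⟨i, ?_⟩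
    have : ρ = 0 := Finsupp.ext fun x => by
      have := Finsupp.le_degree x ρ
      show ρ x = 0
      omega
    rw [this, add_zero]
  exact ⟨v, by rw [hv, add_comm (single a 1) (single v 1)]⟩

section planes

variable (k) (n c d : ℕ)

noncomputable def planeIdeal : Ideal (MvPolynomial (Fin (n + 1)) k) :=
  Ideal.span {f : MvPolynomial (Fin (n + 1)) k | ∃ i j : Fin (n + 1), i.val + 1 ≤ c ∧ n + 1 ≤ j.val + d ∧ f = X i * X j}

lemma planeIdeal_eq : planeIdeal k n c d = Ideal.span ((fun β => monomial β (1 : k)) ''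
    {β : Fin (n + 1) →₀ ℕ | ∃ i j : Fin (n + 1), i.val + 1 ≤ c ∧ n + 1 ≤ j.val + d ∧ β = single i 1 + single j 1}) := by
  unfold planeIdeal
  congr 1
  ext f
  constructor
  · rintro ⟨i, j, hi, hj, rfl⟩
    exact ⟨_, ⟨i, j, hi, hj, rfl⟩, by rw [X, X, monomial_mul, one_mul]⟩
  · rintro ⟨_, ⟨i, j, hi, hj, rfl⟩, rfl⟩
    exact ⟨i, j, hi, hj, by rw [X, X, monomial_mul, one_mul]⟩

variable {k n c d}

lemma mem_exps_plane (hn : c + d ≤ n) {β : Fin (n + 1) →₀ ℕ} :
    β ∈ exps (planeIdeal k n c d) ↔ ∃ i j : Fin (n + 1), i.val + 1 ≤ c ∧ n + 1 ≤ j.val + d ∧ 1 ≤ β i ∧ 1 ≤ β j := by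
  classical
  show monomial β (1 : k) ∈ planeIdeal k n c d ↔ _
  rw [planeIdeal_eq, mem_ideal_span_monomial_image]
  simp only [support_monomial, if_neg one_ne_zero, Finset.mem_singleton, forall_eq]
  constructor
  · rintro ⟨_, ⟨i, j, hi, hj, rfl⟩, hle⟩
    have hij : i ≠ j := fun e => by subst e; omega
    have h1 := hle i
    have h2 := hle j
    simp [hij, hij.symm] at h1 h2
    exact ⟨i, j, hi, hj, by omega, by omega⟩
  · rintro ⟨i, j, hi, hj, h1, h2⟩
    have hij : i ≠ j := fun e => by subst e; omega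
    refine ⟨_, ⟨i, j, hi, hj, rfl⟩, fun x => ?_⟩
    by_cases hx : x = i
    · subst hx; simp [hij]; omega
    · by_cases hy : x = j
      · subst hy; simp [hij.symm]; omega
      · simp [Finsupp.single_eq_of_ne hx, Finsupp.single_eq_of_ne hy]

lemma plane_isMonomial : IsMonomial (planeIdeal k n c d) := by
  classical
  intro p hp β hβ
  rw [planeIdeal_eq] at hp ⊢
  obtain ⟨g, hg, hle⟩ := mem_ideal_span_monomial_image.1 hp β hβ
  refine mem_ideal_span_monomial_image.2 fun x hx => ?_
  rw [support_monomial, if_neg one_ne_zero, Finset.mem_singleton] at hx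
  exact ⟨g, hg, hx ▸ hle⟩

lemma pair_mem (hn : c + d ≤ n) {a b : Fin (n + 1)} (ha : a.val + 1 ≤ c) (hb : n + 1 ≤ b.val + d) :
    single a 1 + single b 1 ∈ exps (planeIdeal k n c d) :=
  (mem_exps_plane hn).2 ⟨a, b, ha, hb, by simp, by simp⟩

/-- Free parameters: `x_v ∂/∂x_u` for `u` a variable of one plane's ideal and `v` not. -/
abbrev Pars (n c d : ℕ) : Type :=
  {p : Fin (n + 1) × Fin (n + 1) // p.1.val + 1 ≤ c ∧ c ≤ p.2.val} ⊕
    {p : Fin (n + 1) × Fin (n + 1) // n + 1 ≤ p.1.val + d ∧ p.2.val + d ≤ n}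

lemma card_pars (hn : c + d ≤ n) : Nat.card (Pars n c d) = c * (n - c + 1) + d * (n - d + 1) := by
  rw [Nat.card_sum]
  have e1 : {p : Fin (n + 1) × Fin (n + 1) // p.1.val + 1 ≤ c ∧ c ≤ p.2.val} ≃ Fin c × Fin (n - c + 1) :=
    { toFun := fun p => (⟨p.1.1.val, by omega⟩, ⟨p.1.2.val - c, by omega⟩)
      invFun := fun q => ⟨(⟨q.1.val, by omega⟩, ⟨q.2.val + c, by omega⟩), by constructor <;> simp <;> omega⟩
      left_inv := fun p => by
        have := p.2
        refine Subtype.ext (Prod.ext (Fin.ext ?_) (Fin.ext ?_)) <;> simp <;> omega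
      right_inv := fun q => by refine Prod.ext (Fin.ext ?_) (Fin.ext ?_) <;> simp }
  have e2 : {p : Fin (n + 1) × Fin (n + 1) // n + 1 ≤ p.1.val + d ∧ p.2.val + d ≤ n} ≃ Fin d × Fin (n - d + 1) :=
    { toFun := fun p => (⟨p.1.1.val + d - (n + 1), by omega⟩, ⟨p.1.2.val, by omega⟩)
      invFun := fun q => ⟨(⟨q.1.val + (n + 1 - d), by omega⟩, ⟨q.2.val, by omega⟩), by constructor <;> simp <;> omega⟩
      left_inv := fun p => by
        have := p.2
        refine Subtype.ext (Prod.ext (Fin.ext ?_) (Fin.ext ?_)) <;> simp <;> omega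
      right_inv := fun q => by refine Prod.ext (Fin.ext ?_) (Fin.ext ?_) <;> simp <;> omega }
  rw [Nat.card_congr e1, Nat.card_congr e2, Nat.card_prod, Nat.card_prod, Nat.card_fin, Nat.card_fin, Nat.card_fin, Nat.card_fin]

variable (k n c d) in
/-- The map induced on `I` by the derivation `x_v ∂/∂x_u`. -/
noncomputable def dmap (u v : Fin (n + 1)) : Tgt (planeIdeal k n c d) :=
  mkTgt (plane_isMonomial)
    (fun β => (β u : k) • Ideal.Quotient.mk (planeIdeal k n c d) (monomial (β - single u 1 + single v 1) (1 : k)))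
    (fun β δ hβ => by
      have hmk : ∀ (a : k) (x : Fin (n + 1) →₀ ℕ),
          (monomial δ (1 : k) : MvPolynomial (Fin (n + 1)) k) • (a • Ideal.Quotient.mk (planeIdeal k n c d) (monomial x (1 : k))) =
            a • Ideal.Quotient.mk (planeIdeal k n c d) (monomial (x + δ) (1 : k)) := fun a x => by
        rw [smul_comm]
        congr 1
        show Ideal.Quotient.mk _ (monomial δ (1 : k) * monomial x 1) = _
        rw [monomial_mul, one_mul, add_comm δ x]
      rw [hmk, Finsupp.add_apply, Nat.cast_add, add_smul]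
      have z : (δ u : k) • Ideal.Quotient.mk (planeIdeal k n c d) (monomial (β + δ - single u 1 + single v 1) (1 : k)) = 0 := by
        rcases Nat.eq_zero_or_pos (δ u) with h | h
        · rw [h, Nat.cast_zero, zero_smul]
        · have e : β + δ - single u 1 + single v 1 = β + (δ - single u 1 + single v 1) := by
            rw [add_tsub_assoc_of_le (Finsupp.single_le_iff.2 (show 1 ≤ δ u from h)), add_assoc]
          rw [e, Ideal.Quotient.eq_zero_iff_mem.2 (exps_add hβ _), smul_zero]
      rw [z, add_zero]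
      rcases Nat.eq_zero_or_pos (β u) with h | h
      · rw [h, Nat.cast_zero, zero_smul, zero_smul]
      · congr 3
        rw [← tsub_add_eq_add_tsub (Finsupp.single_le_iff.2 h), add_right_comm])

lemma dmap_mem (u v : Fin (n + 1)) :
    dmap k n c d u v ∈ tPiece (planeIdeal k n c d) (vec (single v 1) - vec (single u 1)) := by
  classical
  refine (mem_tPiece plane_isMonomial).2 fun β hβ γ hne => ?_
  rw [dmap, app_mkTgt, map_smul, coef_mono] at hne
  rcases Nat.eq_zero_or_pos (β u) with h | h
  · rw [h, Nat.cast_zero, zero_smul] at hne; exact absurd rfl hne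
  · by_cases hc : β - single u 1 + single v 1 = γ ∧ γ ∉ exps (planeIdeal k n c d)
    · obtain ⟨η, rfl⟩ := exists_add_of_le (Finsupp.single_le_iff.2 (show 1 ≤ β u from h))
      rw [← hc.1, add_tsub_cancel_left, vec_add, vec_add]
      abel
    · rw [if_neg hc, smul_zero] at hne; exact absurd rfl hne

theorem planes_finrank (k : Type u) [Field k] (n c d : ℕ) (hc : 2 ≤ c) (hcd : c ≤ d) (hn : c + d ≤ n) :
    Module.finrank k ↥(⨆ α : {α : Fin (n + 1) → ℤ // ∑ i, α i = 0}, tPiece (planeIdeal k n c d) α.1) =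
      c * (n - c + 1) + d * (n - d + 1) := by
  classical
  rw [← card_pars hn]
  have hI : IsMonomial (planeIdeal k n c d) := plane_isMonomial
  haveI : Fintype (Pars n c d) := Fintype.ofFinite _
  let a0 : Fin (n + 1) := ⟨0, by omega⟩
  let b0 : Fin (n + 1) := ⟨n, by omega⟩
  have ha0 : a0.val + 1 ≤ c := by show 0 + 1 ≤ c; omega
  have hb0 : n + 1 ≤ b0.val + d := by show n + 1 ≤ n + d; omega
  set W := (⨆ α : {α : Fin (n + 1) → ℤ // ∑ i, α i = 0}, tPiece (planeIdeal k n c d) α.1) with hW
  let val : Pars n c d → Tgt (planeIdeal k n c d) → k := fun p φ => Sum.elim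
    (fun q => coef hI (single q.1.2 1 + single b0 1) (app φ (pair_mem (k := k) hn q.2.1 hb0)))
    (fun q => coef hI (single q.1.2 1 + single a0 1) (app φ (pair_mem (k := k) hn ha0 q.2.1))) p
  let Θ : ↥W →ₗ[k] (Pars n c d → k) :=
    { toFun := fun φ p => val p φ.1
      map_add' := fun φ ψ => funext fun p => by
        rcases p with q | q <;>
        · show coef hI _ (app (φ.1 + ψ.1) _) = coef hI _ (app φ.1 _) + coef hI _ (app ψ.1 _)
          rw [app, LinearMap.add_apply, map_add]
      map_smul' := fun s φ => funext fun p => by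
        rcases p with q | q <;>
        · show coef hI _ (app (s • φ.1) _) = s • coef hI _ (app φ.1 _)
          rw [app, LinearMap.smul_apply, map_smul] }
  have supp : ∀ φ ∈ W, ∀ β (hβ : β ∈ exps (planeIdeal k n c d)) γ, coef hI γ (app φ hβ) ≠ 0 → γ.degree = β.degree := by
    intro φ hφ
    refine Submodule.iSup_induction _ (motive := fun φ => ∀ β (hβ : β ∈ exps (planeIdeal k n c d)) γ,
      coef hI γ (app φ hβ) ≠ 0 → γ.degree = β.degree) hφ ?_ ?_ ?_
    · intro α ψ hψ β hβ γ hne
      have hv' : ∀ i, (γ i : ℤ) = β i + α.1 i := congrFun ((mem_tPiece hI).1 hψ β hβ γ hne)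
      have hd : (γ.degree : ℤ) = β.degree + ∑ i, α.1 i := by
        rw [Finsupp.degree_eq_sum, Finsupp.degree_eq_sum, Nat.cast_sum, Nat.cast_sum, ← Finset.sum_add_distrib]
        exact Finset.sum_congr rfl fun i _ => hv' i
      rw [α.2] at hd; omega
    · intro β hβ γ hne
      rw [app, LinearMap.zero_apply, map_zero] at hne
      exact absurd rfl hne
    · intro x y hx hy β hβ γ hne
      rw [app, LinearMap.add_apply, map_add] at hne
      by_cases h : coef hI γ (app x hβ) = 0
      · exact hy β hβ γ (fun h' => hne (by rw [show coef hI γ (x ⟨monomial β 1, _⟩) = 0 from h, show coef hI γ (y ⟨monomial β 1, _⟩) = 0 from h', add_zero]))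
      · exact hx β hβ γ h
  -- the key relation
  have rel : ∀ (φ : Tgt (planeIdeal k n c d)) {β β' : Fin (n + 1) →₀ ℕ} (hβ : β ∈ exps (planeIdeal k n c d))
      (hβ' : β' ∈ exps (planeIdeal k n c d)) (u u' : Fin (n + 1)) (γ : Fin (n + 1) →₀ ℕ),
      β + single u' 1 = β' + single u 1 → γ + single u' 1 ∉ exps (planeIdeal k n c d) →
      coef hI γ (app φ hβ) = if single u 1 ≤ γ + single u' 1 then coef hI (γ + single u' 1 - single u 1) (app φ hβ') else 0 := by
    intro φ β β' hβ hβ' u u' γ he hγ
    rw [← coef_smul_shift hI (single u' 1) γ _ hγ, ← app_add φ hβ, app_congr φ he (exps_add hβ _), app_add φ hβ',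
      coef_monomial_smul hI _ _ _ hγ]
  have notmem : ∀ γ : Fin (n + 1) →₀ ℕ, ((∀ i : Fin (n + 1), i.val + 1 ≤ c → γ i = 0) ∨
      (∀ j : Fin (n + 1), n + 1 ≤ j.val + d → γ j = 0)) → γ ∉ exps (planeIdeal k n c d) := fun γ h hm => by
    obtain ⟨i, j, hi, hj, h1, h2⟩ := (mem_exps_plane hn).1 hm
    rcases h with h | h
    · rw [h i hi] at h1; omega
    · rw [h j hj] at h2; omega
  -- move b
  have moveb : ∀ (φ : Tgt (planeIdeal k n c d)) (a b b' : Fin (n + 1)) (ha : a.val + 1 ≤ c) (hb : n + 1 ≤ b.val + d)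
      (hb' : n + 1 ≤ b'.val + d) (γ : Fin (n + 1) →₀ ℕ), (∀ i : Fin (n + 1), i.val + 1 ≤ c → γ i = 0) →
      coef hI γ (app φ (pair_mem hn ha hb)) = if single b 1 ≤ γ + single b' 1 then
        coef hI (γ + single b' 1 - single b 1) (app φ (pair_mem hn ha hb')) else 0 := by
    intro φ a b b' ha hb hb' γ hγ
    refine rel φ _ _ b b' γ (by abel) (notmem _ (Or.inl fun i hi => ?_))
    rw [Finsupp.add_apply, hγ i hi, Finsupp.single_eq_of_ne (fun e => by subst e; omega), add_zero]
  have movea : ∀ (φ : Tgt (planeIdeal k n c d)) (a a' b : Fin (n + 1)) (ha : a.val + 1 ≤ c) (ha' : a'.val + 1 ≤ c)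
      (hb : n + 1 ≤ b.val + d) (γ : Fin (n + 1) →₀ ℕ), (∀ j : Fin (n + 1), n + 1 ≤ j.val + d → γ j = 0) →
      coef hI γ (app φ (pair_mem hn ha hb)) = if single a 1 ≤ γ + single a' 1 then
        coef hI (γ + single a' 1 - single a 1) (app φ (pair_mem hn ha' hb)) else 0 := by
    intro φ a a' b ha ha' hb γ hγ
    refine rel φ _ _ a a' γ (by abel) (notmem _ (Or.inr fun j hj => ?_))
    rw [Finsupp.add_apply, hγ j hj, Finsupp.single_eq_of_ne (fun e => by subst e; omega), add_zero]
  have other : ∀ x : Fin (n + 1), (∃ y : Fin (n + 1), y.val + 1 ≤ c ∧ y ≠ x) ∧ (∃ y : Fin (n + 1), n + 1 ≤ y.val + d ∧ y ≠ x) := by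
    intro x
    constructor
    · by_cases h : x = a0
      · exact ⟨⟨1, by omega⟩, by show 1 + 1 ≤ c; omega, fun e => by simpa [a0] using congrArg Fin.val (e.trans h)⟩
      · exact ⟨a0, ha0, Ne.symm h⟩
    · by_cases h : x = b0
      · exact ⟨⟨n - 1, by omega⟩, by show n + 1 ≤ n - 1 + d; omega, fun e => by have := congrArg Fin.val (e.trans h); simp [b0] at this; omega⟩
      · exact ⟨b0, hb0, Ne.symm h⟩
  have inj : Function.Injective Θ := by
    refine fun φ ψ h => sub_eq_zero.1 ?_
    have h0 : ∀ p, val p (φ - ψ : ↥W).1 = 0 := fun p => by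
      have hp : val p φ.1 = val p ψ.1 := congrFun h p
      rcases p with q | q <;>
      · show coef hI _ (app (φ.1 - ψ.1) _) = 0
        rw [app, LinearMap.sub_apply, map_sub, sub_eq_zero]
        exact hp
    generalize φ - ψ = χ at h0
    refine Subtype.ext (tgt_ext hI fun β hβ => ?_)
    obtain ⟨a, b, ha, hb, h1, h2⟩ := (mem_exps_plane hn).1 hβ
    have hab : a ≠ b := fun e => by subst e; omega
    have hle : single a 1 + single b 1 ≤ β := fun x => by
      by_cases hx : x = a
      · subst hx; simp [hab]; omega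
      · by_cases hy : x = b
        · subst hy; simp [hab.symm]; omega
        · simp [Finsupp.single_eq_of_ne hx, Finsupp.single_eq_of_ne hy]
    obtain ⟨δ, rfl⟩ := exists_add_of_le hle
    have hz : app χ.1 (pair_mem hn ha hb) = 0 := by
      refine eq_zero_of_coef hI fun γ hγ => by_contra fun hne => ?_
      have hdeg : γ.degree = 2 := by
        rw [supp χ.1 χ.2 _ _ γ hne, deg_add, Finsupp.degree_single, Finsupp.degree_single]
      by_cases hA : ∀ i : Fin (n + 1), i.val + 1 ≤ c → γ i = 0
      · by_cases hb1 : 1 ≤ γ b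
        · obtain ⟨v, rfl⟩ := single_le_deg_two hdeg hb1
          have hv : c ≤ v.val := by
            by_contra hlt
            have := hA v (by omega)
            simp at this
          have := moveb χ.1 a b b0 ha hb hb0 _ hA
          rw [if_pos (le_trans le_add_self le_self_add), add_right_comm, add_tsub_cancel_right] at this
          exact hne (this.trans (h0 (Sum.inl ⟨(a, v), ha, hv⟩)))
        · obtain ⟨b', hb', hne'⟩ := (other b).2
          have := moveb χ.1 a b b' ha hb hb' γ hA
          rw [if_neg] at this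
          · exact hne this
          · rw [Finsupp.single_le_iff, Finsupp.add_apply, Finsupp.single_eq_of_ne hne'.symm]; omega
      · have hB : ∀ j : Fin (n + 1), n + 1 ≤ j.val + d → γ j = 0 := by
          intro j hj
          by_contra hj0
          push_neg at hA
          obtain ⟨i, hi, hi0⟩ := hA
          exact hγ ((mem_exps_plane hn).2 ⟨i, j, hi, hj, by omega, by omega⟩)
        by_cases ha1 : 1 ≤ γ a
        · obtain ⟨v, rfl⟩ := single_le_deg_two hdeg ha1
          have hv : v.val + d ≤ n := by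
            by_contra hlt
            have := hB v (by omega)
            simp at this
          have := movea χ.1 a a0 b ha ha0 hb _ hB
          rw [if_pos (le_trans le_add_self le_self_add), add_right_comm, add_tsub_cancel_right] at this
          exact hne (this.trans (h0 (Sum.inr ⟨(b, v), hb, hv⟩)))
        · obtain ⟨a', ha', hne'⟩ := (other a).1
          have := movea χ.1 a a' b ha ha' hb γ hB
          rw [if_neg] at this
          · exact hne this
          · rw [Finsupp.single_le_iff, Finsupp.add_apply, Finsupp.single_eq_of_ne hne'.symm]; omega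
    show app χ.1 _ = app (0 : Tgt (planeIdeal k n c d)) _
    rw [app_add χ.1 (pair_mem hn ha hb) δ, hz, smul_zero]
    rfl
  have surj : Function.Surjective Θ := by
    intro t
    let D : Pars n c d → ↥W := fun p => ⟨Sum.elim (fun q => dmap k n c d q.1.1 q.1.2) (fun q => dmap k n c d q.1.1 q.1.2) p, by
      rcases p with q | q <;>
      · exact le_iSup (fun α : {α : Fin (n + 1) → ℤ // ∑ i, α i = 0} => tPiece (planeIdeal k n c d) α.1)
          ⟨vec (single q.1.2 1) - vec (single q.1.1 1), by
            simp [vec, Finset.sum_sub_distrib, Finsupp.single_apply]⟩ (dmap_mem _ _)⟩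
    refine ⟨∑ p, t p • D p, ?_⟩
    rw [map_sum]
    simp only [map_smul]
    suffices ∀ p q, Θ (D p) q = if p = q then 1 else 0 by
      funext q
      simp [Finset.sum_apply, this]
    intro p q
    have cdA : ∀ (u v a b : Fin (n + 1)) (hu : u.val + 1 ≤ c) (ha : a.val + 1 ≤ c) (hb : n + 1 ≤ b.val + d) γ,
        γ ∉ exps (planeIdeal k n c d) → coef hI γ (app (dmap k n c d u v) (pair_mem (k := k) hn ha hb)) =
          if u = a ∧ γ = single b 1 + single v 1 then 1 else 0 := by
      intro u v a b hu ha hb γ hγ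
      rw [dmap, app_mkTgt, map_smul, coef_mono]
      have hbu : b ≠ u := fun e => by rw [e] at hb; omega
      by_cases hau : u = a
      · subst hau
        rw [Finsupp.add_apply, Finsupp.single_eq_same, Finsupp.single_eq_of_ne hbu.symm, add_zero, Nat.cast_one, one_smul,
          add_tsub_cancel_left]
        by_cases he : single b 1 + single v 1 = γ
        · rw [if_pos ⟨he, hγ⟩, if_pos ⟨rfl, he.symm⟩]
        · rw [if_neg (fun h => he h.1), if_neg (fun h => he h.2.symm)]
      · rw [Finsupp.add_apply, Finsupp.single_eq_of_ne hau, Finsupp.single_eq_of_ne hbu.symm, if_neg (fun h : u = a ∧ _ => hau h.1)]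
        simp
    have cdB : ∀ (u v a b : Fin (n + 1)) (hu : n + 1 ≤ u.val + d) (ha : a.val + 1 ≤ c) (hb : n + 1 ≤ b.val + d) γ,
        γ ∉ exps (planeIdeal k n c d) → coef hI γ (app (dmap k n c d u v) (pair_mem (k := k) hn ha hb)) =
          if u = b ∧ γ = single a 1 + single v 1 then 1 else 0 := by
      intro u v a b hu ha hb γ hγ
      rw [dmap, app_mkTgt, map_smul, coef_mono]
      have hau : a ≠ u := fun e => by rw [e] at ha; omega
      by_cases hbu : u = b
      · subst hbu
        rw [Finsupp.add_apply, Finsupp.single_eq_same, Finsupp.single_eq_of_ne hau.symm, zero_add, Nat.cast_one, one_smul,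
          add_tsub_cancel_right]
        by_cases he : single a 1 + single v 1 = γ
        · rw [if_pos ⟨he, hγ⟩, if_pos ⟨rfl, he.symm⟩]
        · rw [if_neg (fun h => he h.1), if_neg (fun h => he h.2.symm)]
      · rw [Finsupp.add_apply, Finsupp.single_eq_of_ne hau.symm, Finsupp.single_eq_of_ne hbu, if_neg (fun h : u = b ∧ _ => hbu h.1)]
        simp
    have hbv : b0.val = n := rfl
    have hav : a0.val = 0 := rfl
    have nmA : ∀ v : Fin (n + 1), c ≤ v.val → single v 1 + single b0 1 ∉ exps (planeIdeal k n c d) := fun v hv =>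
      notmem _ (Or.inl fun i hi => by
        rw [Finsupp.add_apply, Finsupp.single_eq_of_ne (fun e => by rw [e] at hi; omega), Finsupp.single_eq_of_ne (fun e => by rw [e] at hi; omega), add_zero])
    have nmB : ∀ v : Fin (n + 1), v.val + d ≤ n → single v 1 + single a0 1 ∉ exps (planeIdeal k n c d) := fun v hv =>
      notmem _ (Or.inr fun j hj => by
        rw [Finsupp.add_apply, Finsupp.single_eq_of_ne (fun e => by rw [e] at hj; omega), Finsupp.single_eq_of_ne (fun e => by rw [e] at hj; omega), add_zero])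
    rcases p with ⟨⟨u, v⟩, hu, hv⟩ | ⟨⟨u, v⟩, hu, hv⟩ <;> rcases q with ⟨⟨u', v'⟩, hu', hv'⟩ | ⟨⟨u', v'⟩, hu', hv'⟩ <;>
      simp only at hu hv hu' hv'
    · show coef hI (single v' 1 + single b0 1) (app (dmap k n c d u v) (pair_mem (k := k) hn hu' hb0)) = _
      rw [cdA u v u' b0 hu hu' hb0 _ (nmA v' hv')]
      refine if_congr ?_ rfl rfl
      rw [add_comm (single b0 1), add_left_inj, Sum.inl.injEq, Subtype.mk.injEq, Prod.mk.injEq,
        Finsupp.single_left_inj one_ne_zero, eq_comm (a := v')]
    · show coef hI (single v' 1 + single a0 1) (app (dmap k n c d u v) (pair_mem (k := k) hn ha0 hu')) = _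
      rw [cdA u v a0 u' hu ha0 hu' _ (nmB v' hv'), if_neg, if_neg (by simp : ¬ (Sum.inl _ : Pars n c d) = Sum.inr _)]
      rintro ⟨-, e⟩
      have := congrArg (fun f : Fin (n + 1) →₀ ℕ => f a0) e
      have h1 : a0 ≠ u' := fun e => by rw [← e] at hu'; omega
      have h2 : a0 ≠ v := fun e => by rw [← e] at hv; omega
      simp [h1, h2] at this
    · show coef hI (single v' 1 + single b0 1) (app (dmap k n c d u v) (pair_mem (k := k) hn hu' hb0)) = _
      rw [cdB u v u' b0 hu hu' hb0 _ (nmA v' hv'), if_neg, if_neg (by simp : ¬ (Sum.inr _ : Pars n c d) = Sum.inl _)]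
      rintro ⟨-, e⟩
      have := congrArg (fun f : Fin (n + 1) →₀ ℕ => f b0) e
      have h1 : b0 ≠ u' := fun e => by rw [← e] at hu'; omega
      have h2 : b0 ≠ v := fun e => by rw [← e] at hv; omega
      simp [h1, h2] at this
    · show coef hI (single v' 1 + single a0 1) (app (dmap k n c d u v) (pair_mem (k := k) hn ha0 hu')) = _
      rw [cdB u v a0 u' hu ha0 hu' _ (nmB v' hv')]
      refine if_congr ?_ rfl rfl
      rw [add_comm (single a0 1), add_left_inj, Sum.inr.injEq, Subtype.mk.injEq, Prod.mk.injEq,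
        Finsupp.single_left_inj one_ne_zero, eq_comm (a := v')]
  rw [(LinearEquiv.ofBijective Θ ⟨inj, surj⟩).finrank_eq, Module.finrank_fintype_fun_eq_card, Nat.card_eq_fintype_card]

end planes
end


open W4c1hilbpn in
/-- Let k be an algebraically closed field of characteristic different from 2, S = k[x_0, ..., x_n] with
its standard grading, 2 ≤ c ≤ d with n ≥ c + d, and I = (x_0, ..., x_{c-1})·(x_{n-d+1}, ..., x_n),
the ideal of the union of two coordinate linear spaces of codimensions c and d meeting transversely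
and not spanning the ambient space. Then the degree-0 homomorphisms Hom_S(I, S/I)_0 form a space of
dimension c(n-c+1) + d(n-d+1). (The published statement gives this number as the dimension of the
tangent space to the Hilbert scheme at the pair of planes, for every n; the row records the count of
degree-0 homomorphisms in the non-spanning range n ≥ c + d, where that tangent space is Hom_S(I,
S/I)_0.) -/
theorem result (k : Type u) [Field k] [IsAlgClosed k] (hchar : ringChar k ≠ 2)
    (n c d : ℕ) (hc : 2 ≤ c) (hcd : c ≤ d) (hn : c + d ≤ n) :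
    Module.finrank k ↥(⨆ α : {α : Fin (n + 1) → ℤ // ∑ i, α i = 0},
      tPiece (Ideal.span {f : MvPolynomial (Fin (n + 1)) k | ∃ i j : Fin (n + 1), i.val + 1 ≤ c ∧ n + 1 ≤ j.val + d ∧
        f = MvPolynomial.X i * MvPolynomial.X j}) α.1) = c * (n - c + 1) + d * (n - d + 1) := by
  exact planes_finrank k n c d hc hcd hn

end Groth.Agent.S13451
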