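import Groth.Statements.S13453
import Mathlib
import Groth.Agent.W4Hilb.Socle
open Groth.Agent.W4Hilb W4c1hilbpn MvPolynomial

set_option autoImplicit false
universe u
open W4c1hilbpn

set_option backward.isDefEq.respectTransparency false
namespace Groth.Agent.S13453

section
variable {k : Type u} [Field k] {I : Ideal (MvPolynomial (Fin 3) k)}

lemma emb_eq (i : ℕ) (β : Fin 2 →₀ ℕ) :
    Finsupp.mapDomain Fin.succ β + Finsupp.single 0 i = e3 i (β 0) (β 1) := by
  refine e3_ext ?_ ?_ ?_
  · simp [Finsupp.mapDomain_notin_range (f := (Fin.succ : Fin 2 → Fin 3)) β (0 : Fin 3) (by simp)]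
  · have := Finsupp.mapDomain_apply (Fin.succ_injective 2) β 0
    simpa using this
  · have := Finsupp.mapDomain_apply (Fin.succ_injective 2) β 1
    simpa using this

lemma mem_slice_iff (hI : IsMonomial I) (i : ℕ) (p : MvPolynomial (Fin 2) k) :
    p ∈ sliceX I i ↔ ∀ β ∈ p.support, e3 i (β 0) (β 1) ∈ exps I := by
  classical
  have key : ∀ β, coeff (Finsupp.mapDomain Fin.succ β + Finsupp.single 0 i)
      (rename Fin.succ p * monomial (Finsupp.single (0 : Fin 3) i) (1 : k)) = coeff β p := fun β => by
    rw [coeff_mul_monomial, mul_one, coeff_rename_mapDomain _ (Fin.succ_injective 2)]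
  show rename Fin.succ p ∈ I.colon {X 0 ^ i} ↔ _
  rw [Submodule.mem_colon_singleton, smul_eq_mul, X_pow_eq_monomial, mem_iff hI]
  constructor
  · intro h β hβ
    exact emb_eq i β ▸ h _ (by rw [mem_support_iff, key]; exact mem_support_iff.1 hβ)
  · intro h γ hγ
    rw [mem_support_iff, coeff_mul_monomial'] at hγ
    by_cases hle : Finsupp.single (0 : Fin 3) i ≤ γ
    · rw [if_pos hle, mul_one] at hγ
      obtain ⟨β, hβ, hc⟩ := coeff_rename_ne_zero _ _ _ hγ
      have : γ = Finsupp.mapDomain Fin.succ β + Finsupp.single 0 i := by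
        rw [hβ, tsub_add_cancel_of_le hle]
      rw [this, emb_eq]
      exact h β (mem_support_iff.2 hc)
    · rw [if_neg hle] at hγ; exact absurd rfl hγ

lemma exps_slice_iff (hI : IsMonomial I) (i : ℕ) (β : Fin 2 →₀ ℕ) :
    β ∈ exps (sliceX I i) ↔ e3 i (β 0) (β 1) ∈ exps I := by
  classical
  refine (mem_slice_iff hI i _).trans ?_
  simp [support_monomial]

end


open W4c1hilbpn in
/-- Let k be an infinite field, S = k[x,y,z] with variables ordered x > y > z, and I a strongly stable
ideal of finite colength; write I_i for the ideal of polynomials f in k[y,z] with x^i f in I (so I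
is the direct sum of the x^i I_i). Then each I_i is a strongly stable ideal of k[y,z] (with y > z)
and the ideal quotient (I_i : y) is contained in I_{i+1}. -/
theorem result (k : Type u) [Field k] [Infinite k]
    (I : Ideal (MvPolynomial (Fin 3) k)) (hI : IsStronglyStable I) [Module.Finite k (MvPolynomial (Fin 3) k ⧸ I)] (i : ℕ) :
    IsStronglyStable (sliceX I i) ∧
      (sliceX I i).colon {(MvPolynomial.X 0 : MvPolynomial (Fin 2) k)} ≤ sliceX I (i + 1) := by
  classical
  refine ⟨⟨?_, ?_⟩, ?_⟩
  · intro p hp β hβ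
    exact (mem_slice_iff hI.1 i _).2 fun γ hγ => by
      rw [support_monomial, if_neg one_ne_zero, Finset.mem_singleton] at hγ
      exact hγ ▸ (mem_slice_iff hI.1 i p).1 hp β hβ
  · intro β hβ a b hab hb
    have hβ' := (exps_slice_iff hI.1 i β).1 hβ
    refine (exps_slice_iff hI.1 i _).2 ?_
    have := hI.2 _ hβ' a.succ b.succ (Fin.succ_lt_succ_iff.2 hab) (by fin_cases b <;> simpa using hb)
    convert this using 1
    refine (e3_ext ?_ ?_ ?_).symm <;> fin_cases a <;> fin_cases b <;> simp_all [Finsupp.single_apply]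
  · intro p hp
    rw [Submodule.mem_colon_singleton, smul_eq_mul] at hp
    refine (mem_slice_iff hI.1 (i + 1) p).2 fun β hβ => ?_
    have h := (mem_slice_iff hI.1 i _).1 hp (β + Finsupp.single 0 1) (by
      rw [mem_support_iff, coeff_mul_X]; exact mem_support_iff.1 hβ)
    simp only [Finsupp.add_apply, Finsupp.single_eq_same, Finsupp.single_eq_of_ne (show (1 : Fin 2) ≠ 0 by decide),
      add_zero] at h
    exact stable_yx hI h

end Groth.Agent.S13453
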