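import Groth.Statements.S13454
import Mathlib
import Groth.Agent.W4Hilb.Socle
import Groth.Agent.S13453
open Groth.Agent.W4Hilb W4c1hilbpn MvPolynomial

set_option autoImplicit false
universe u
open W4c1hilbpn

set_option backward.isDefEq.respectTransparency false
namespace Groth.Agent.S13454

section
variable {k : Type u} [Field k]

lemma finrank_quot_eq {n : ℕ} {I : Ideal (MvPolynomial (Fin n) k)} (hI : IsMonomial I)
    (hfin : (exps I)ᶜ.Finite) : Module.finrank k (MvPolynomial (Fin n) k ⧸ I) = hfin.toFinset.card := by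
  classical
  let L : (MvPolynomial (Fin n) k ⧸ I) →ₗ[k] ({x // x ∈ hfin.toFinset} → k) :=
    { toFun := fun q γ => coef hI γ.1 q
      map_add' := fun q q' => funext fun γ => map_add _ q q'
      map_smul' := fun c q => funext fun γ => map_smul _ c q }
  have inj : Function.Injective L := fun q q' h =>
    eq_of_coef hI fun γ hγ => congrFun h ⟨γ, hfin.mem_toFinset.2 hγ⟩
  have surj : Function.Surjective L := fun t => by
    refine ⟨∑ γ, t γ • Ideal.Quotient.mk I (monomial γ.1 (1 : k)), funext fun x => ?_⟩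
    show coef hI x.1 _ = t x
    rw [map_sum, Finset.sum_eq_single x]
    · rw [map_smul, coef_mono, if_pos ⟨rfl, hfin.mem_toFinset.1 x.2⟩, smul_eq_mul, mul_one]
    · intro b _ hb
      rw [map_smul, coef_mono, if_neg (fun h => hb (Subtype.ext h.1)), smul_zero]
    · intro h; exact absurd (Finset.mem_univ x) h
  rw [(LinearEquiv.ofBijective L ⟨inj, surj⟩).finrank_eq, Module.finrank_fintype_fun_eq_card, Fintype.card_coe]

lemma c2 (n : ℕ) : Nat.choose (n + 1) 2 = Nat.choose n 2 + n := by
  have h : Nat.choose (n + 1) 2 = Nat.choose n 1 + Nat.choose n 2 := Nat.choose_succ_succ' n 1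
  rw [Nat.choose_one_right] at h
  omega

lemma c3 (n : ℕ) : Nat.choose (n + 1) 3 = Nat.choose n 2 + Nat.choose n 3 := Nat.choose_succ_succ' n 2

lemma sum_succ_range (n : ℕ) : ∑ j ∈ Finset.range n, (j + 1) = Nat.choose (n + 1) 2 := by
  induction n with
  | zero => rfl
  | succ n ih => rw [Finset.sum_range_succ, ih, c2 (n + 1)]

lemma sum_tri (r : ℕ) : ∑ i ∈ Finset.range r, Nat.choose (r - i + 1) 2 = Nat.choose (r + 2) 3 := by
  induction r with
  | zero => rfl
  | succ r ih =>
    rw [Finset.sum_range_succ', Nat.sub_zero, show r + 1 + 2 = (r + 2) + 1 from rfl, c3 (r + 2),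
      ← ih, show r + 1 + 1 = r + 2 from rfl, add_comm (Nat.choose (r + 2) 2)]
    congr 1
    exact Finset.sum_congr rfl fun i _ => by rw [show r + 1 - (i + 1) = r - i by omega]

def tri (n : ℕ) : Finset (ℕ × ℕ) := ((Finset.range n) ×ˢ (Finset.range n)).filter fun p => p.1 + p.2 < n

lemma mem_tri {n : ℕ} {p : ℕ × ℕ} : p ∈ tri n ↔ p.1 + p.2 < n := by
  simp only [tri, Finset.mem_filter, Finset.mem_product, Finset.mem_range]; omega

lemma card_tri (n : ℕ) : (tri n).card = Nat.choose (n + 1) 2 := by
  classical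
  have e : tri n = (Finset.range n).biUnion fun j => Finset.HasAntidiagonal.antidiagonal j := by
    ext p
    simp [mem_tri]
  rw [e, Finset.card_biUnion, ← sum_succ_range]
  · exact Finset.sum_congr rfl fun j _ => Finset.Nat.card_antidiagonal j
  · intro a _ b _ hab
    exact Finset.disjoint_left.2 fun p hp hp' => hab (by
      rw [Finset.HasAntidiagonal.mem_antidiagonal] at hp hp'; omega)

theorem slices_le (r : ℕ) {I : Ideal (MvPolynomial (Fin 3) k)} (hI : IsStronglyStable I)
    [Module.Finite k (MvPolynomial (Fin 3) k ⧸ I)]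
    (hd : Module.finrank k (MvPolynomial (Fin 3) k ⧸ I) ≤ Nat.choose (r + 2) 3) :
    (∀ j, j ≤ r → ∑ i ∈ Finset.Ico j r, Module.finrank k (MvPolynomial (Fin 2) k ⧸ sliceX I i) ≤ ∑ i ∈ Finset.Ico j r, Nat.choose (r - i + 1) 2) ∧
    ((∀ j, j < r → ∑ i ∈ Finset.Ico j r, Module.finrank k (MvPolynomial (Fin 2) k ⧸ sliceX I i) = ∑ i ∈ Finset.Ico j r, Nat.choose (r - i + 1) 2) →
      I = (Ideal.span (Set.range (X : Fin 3 → MvPolynomial (Fin 3) k))) ^ r) := by
  classical
  have hfin := finite_compl_exps hI.1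
  let D : ℕ → Finset (ℕ × ℕ) := fun i => (hfin.toFinset.filter fun v => v 0 = i).image fun v => (v 1, v 2)
  have memD : ∀ i b c, (b, c) ∈ D i ↔ e3 i b c ∉ exps I := by
    intro i b c
    simp only [D, Finset.mem_image, Finset.mem_filter, Set.Finite.mem_toFinset, Set.mem_compl_iff]
    constructor
    · rintro ⟨v, ⟨hv, rfl⟩, he⟩
      simp only [Prod.mk.injEq] at he
      rw [← he.1, ← he.2, e3_eta]; exact hv
    · intro h; exact ⟨_, ⟨h, rfl⟩, rfl⟩
  have cardD : ∀ i, (D i).card = (hfin.toFinset.filter fun v => v 0 = i).card := fun i =>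
    Finset.card_image_of_injOn fun v hv w hw h => by
      simp only [Finset.coe_filter, Set.mem_setOf_eq] at hv hw
      simp only [Prod.mk.injEq] at h
      rw [← e3_eta v, ← e3_eta w, hv.2, hw.2, h.1, h.2]
  let d : ℕ → ℕ := fun i => (D i).card
  have zex : ∀ i, ∃ c, e3 i 0 c ∈ exps I := by
    intro i
    obtain ⟨N, hN⟩ := exists_single_mem hI.1 (2 : Fin 3)
    exact ⟨N, exps_of_le hN fun x => by fin_cases x <;> simp⟩
  let z : ℕ → ℕ := fun i => Nat.find (zex i)
  have zs : ∀ i, e3 i 0 (z i) ∈ exps I := fun i => Nat.find_spec (zex i)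
  have zlt : ∀ i c, c < z i → e3 i 0 c ∉ exps I := fun i c h => Nat.find_min (zex i) h
  have move : ∀ i b c, e3 i 0 (c + b) ∈ exps I → e3 i b c ∈ exps I := by
    intro i b
    induction b with
    | zero => intro c h; simpa using h
    | succ b ih =>
      intro c h
      exact stable_zy hI (ih (c + 1) (by rwa [show c + 1 + b = c + (b + 1) by omega]))
  have sub_tri : ∀ i, D i ⊆ tri (z i) := by
    intro i p hp
    obtain ⟨b, c⟩ := p
    rw [mem_tri]
    by_contra h
    refine (memD i b c).1 hp (move i b c (exps_of_le (zs i) (e3_le_iff.2 ⟨le_rfl, le_rfl, ?_⟩)))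
    show z i ≤ c + b
    simp only at h
    omega
  have dle : ∀ i, d i ≤ Nat.choose (z i + 1) 2 := fun i => (Finset.card_le_card (sub_tri i)).trans (card_tri _).le
  have drop : ∀ i, d (i + 1) + z i ≤ d i := by
    intro i
    have h1 : (D (i + 1)).image (fun p => (p.1 + 1, p.2)) ⊆ (D i).filter (fun p => p.1 ≠ 0) := by
      intro p hp
      obtain ⟨⟨b, c⟩, hbc, rfl⟩ := Finset.mem_image.1 hp
      exact Finset.mem_filter.2 ⟨(memD i (b + 1) c).2 fun h => (memD (i + 1) b c).1 hbc (stable_yx hI h), Nat.succ_ne_zero b⟩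
    have h2 : (Finset.range (z i)).image (fun c => ((0 : ℕ), c)) ⊆ (D i).filter (fun p => ¬ p.1 ≠ 0) := by
      intro p hp
      obtain ⟨c, hc, rfl⟩ := Finset.mem_image.1 hp
      exact Finset.mem_filter.2 ⟨(memD i 0 c).2 (zlt i c (Finset.mem_range.1 hc)), by simp⟩
    have c1 := Finset.card_le_card h1
    have c2 := Finset.card_le_card h2
    rw [Finset.card_image_of_injective _ (fun p q h => by
      simp only [Prod.mk.injEq, add_left_inj] at h; exact Prod.ext h.1 h.2)] at c1
    rw [Finset.card_image_of_injective _ (fun p q h => by simpa using h), Finset.card_range] at c2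
    have := Finset.card_filter_add_card_filter_not (s := D i) (fun p => p.1 ≠ 0)
    show (D (i + 1)).card + z i ≤ (D i).card
    omega
  have zdrop : ∀ i, 0 < z (i + 1) → z (i + 1) + 1 ≤ z i := by
    intro i hpos
    by_contra h
    obtain ⟨c, hc⟩ : ∃ c, z i ≤ c + 1 ∧ c < z (i + 1) := ⟨z (i + 1) - 1, by omega, by omega⟩
    exact zlt (i + 1) c hc.2 (stable_zx hI (exps_of_le (zs i) (e3_le_iff.2 ⟨le_rfl, le_rfl, hc.1⟩)))
  have fr : ∀ i, Module.finrank k (MvPolynomial (Fin 2) k ⧸ sliceX I i) = d i := by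
    intro i
    have hsl : ∀ β, β ∈ exps (sliceX I i) ↔ e3 i (β 0) (β 1) ∈ exps I := Groth.Agent.S13453.exps_slice_iff hI.1 i
    have hfin2 : (exps (sliceX I i))ᶜ.Finite := by
      refine (hfin.preimage (f := fun β : Fin 2 →₀ ℕ => e3 i (β 0) (β 1)) (fun a _ b _ h => ?_)).subset (fun β hβ h => hβ ((hsl β).2 h))
      have h1 := DFunLike.congr_fun h 1
      have h2 := DFunLike.congr_fun h 2
      simp at h1 h2
      exact Finsupp.ext fun x => by fin_cases x <;> assumption
    rw [finrank_quot_eq (fun p hp β hβ => (Groth.Agent.S13453.exps_slice_iff hI.1 i β).2 ((Groth.Agent.S13453.mem_slice_iff hI.1 i p).1 hp β hβ)) hfin2]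
    refine Finset.card_bij (fun β _ => (β 0, β 1)) (fun β hβ => (memD _ _ _).2 fun h => hfin2.mem_toFinset.1 hβ ((hsl β).2 h))
      (fun a _ b _ h => by simp at h; exact Finsupp.ext fun x => by fin_cases x; exacts [h.1, h.2]) ?_
    rintro ⟨b, c⟩ hbc
    exact ⟨Finsupp.equivFunOnFinite.symm ![b, c], hfin2.mem_toFinset.2 fun h => (memD i b c).1 hbc (by simpa using (hsl _).1 h), by simp⟩
  -- total
  obtain ⟨B, hB⟩ : ∃ B, ∀ v ∈ hfin.toFinset, v 0 < B :=
    ⟨(hfin.toFinset.sup fun v => v 0) + 1, fun v hv => Nat.lt_succ_of_le (Finset.le_sup (f := fun v : Fin 3 →₀ ℕ => v 0) hv)⟩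
  have total : ∀ s : Finset ℕ, ∑ i ∈ s, d i ≤ Nat.choose (r + 2) 3 := by
    intro s
    refine le_trans ?_ ((finrank_quot_eq hI.1 hfin).symm.trans_le hd)
    rw [Finset.card_eq_sum_card_fiberwise (f := fun v : Fin 3 →₀ ℕ => v 0) (t := s ∪ Finset.range B)
      (fun v hv => Finset.mem_union_right _ (Finset.mem_range.2 (hB v hv)))]
    refine le_trans ?_ (Finset.sum_le_sum_of_subset Finset.subset_union_left)
    exact (Finset.sum_congr rfl fun i _ => cardD i).le
  let t : ℕ → ℕ := fun i => Nat.choose (r - i + 1) 2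
  have tstep : ∀ i, i < r → t i = t (i + 1) + (r - i) := by
    intro i hi
    obtain ⟨m, hm⟩ : ∃ m, r - i = m + 1 := ⟨r - i - 1, by omega⟩
    show Nat.choose (r - i + 1) 2 = Nat.choose (r - (i + 1) + 1) 2 + (r - i)
    rw [show r - (i + 1) = m by omega, hm, c2 (m + 1)]
  have big : ∀ i, i < r → t i < d i → ∀ i', i' ≤ i → t i' < d i' ∧ r - i' < z i' := by
    intro i hi h i' hi'
    induction hk : i - i' generalizing i' with
    | zero =>
      obtain rfl : i' = i := by omega
      refine ⟨h, ?_⟩
      by_contra hz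
      have : Nat.choose (z i' + 1) 2 ≤ t i' := Nat.choose_le_choose 2 (by omega)
      have := dle i'
      omega
    | succ m ih =>
      obtain ⟨h1, h2⟩ := ih (i' + 1) (by omega) (by omega)
      have := drop i'
      have := zdrop i' (by omega)
      have := tstep i' (by omega)
      omega
  have le_of : ∀ j, j ≤ r → ∑ i ∈ Finset.Ico j r, d i ≤ ∑ i ∈ Finset.Ico j r, t i := by
    intro j hj
    by_contra h
    rw [not_le] at h
    obtain ⟨i, hi, hlt⟩ := Finset.exists_lt_of_sum_lt h
    rw [Finset.mem_Ico] at hi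
    have h1 : ∑ x ∈ Finset.range j, t x ≤ ∑ x ∈ Finset.range j, d x :=
      Finset.sum_le_sum fun x hx => ((big i hi.2 hlt x (by rw [Finset.mem_range] at hx; omega)).1).le
    have h2 := total (Finset.range r)
    rw [← Finset.sum_range_add_sum_Ico _ hj] at h2
    have h3 := sum_tri r
    rw [← Finset.sum_range_add_sum_Ico _ hj] at h3
    simp only [t] at h h1
    omega
  refine ⟨fun j hj => by simp only [fr]; exact le_of j hj, fun heq => ?_⟩
  simp only [fr] at heq
  have deq : ∀ i, i < r → d i = t i := by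
    intro i hi
    have a := heq i hi
    rw [Finset.sum_eq_sum_Ico_succ_bot hi, Finset.sum_eq_sum_Ico_succ_bot hi] at a
    rcases Nat.lt_or_ge (i + 1) r with h | h
    · have b := heq (i + 1) h
      show d i = Nat.choose (r - i + 1) 2
      omega
    · rw [Finset.Ico_eq_empty (by omega), Finset.sum_empty, Finset.sum_empty] at a
      exact a
  have dzero : ∀ i, r ≤ i → d i = 0 := by
    intro i hi
    have h2 := total (insert i (Finset.range r))
    rw [Finset.sum_insert (by simp; omega), Finset.sum_congr rfl (fun x hx => deq x (Finset.mem_range.1 hx))] at h2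
    have h3 := sum_tri r
    simp only [t] at h2
    omega
  have Deq : ∀ i, D i = tri (r - i) := by
    intro i
    rcases Nat.lt_or_ge i r with hi | hi
    · have e := deq i hi
      have h1 : r - i ≤ z i := by
        by_contra hz
        have hz' : Nat.choose (z i + 1) 2 ≤ Nat.choose (r - i) 2 := Nat.choose_le_choose 2 (by omega)
        have := dle i
        have hs := c2 (r - i)
        simp only [t] at e
        omega
      have h2 : z i ≤ r - i := by
        have := drop i
        have := tstep i hi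
        rcases Nat.lt_or_ge (i + 1) r with h | h
        · have := deq (i + 1) h; omega
        · have := dzero (i + 1) h
          have : t (i + 1) = 0 := by
            show Nat.choose (r - (i + 1) + 1) 2 = 0
            rw [show r - (i + 1) = 0 by omega]; rfl
          omega
      have hz : z i = r - i := le_antisymm h2 h1
      refine Finset.eq_of_subset_of_card_le (hz ▸ sub_tri i) ?_
      rw [card_tri]
      exact e.ge
    · rw [Finset.card_eq_zero.1 (dzero i hi)]
      symm
      refine Finset.eq_empty_of_forall_notMem fun p hp => ?_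
      rw [mem_tri] at hp
      omega
  have hE : ∀ v : Fin 3 →₀ ℕ, v ∈ exps I ↔ r ≤ v.degree := by
    intro v
    rw [Finsupp.degree_eq_sum, Fin.sum_univ_three]
    have h := memD (v 0) (v 1) (v 2)
    rw [e3_eta, Deq, mem_tri] at h
    constructor
    · intro hv; by_contra hc; exact h.1 (by simp only; omega) hv
    · intro hv; by_contra hc; have := h.2 hc; simp only at this; omega
  ext p
  refine (mem_iff hI.1).trans ?_
  refine Iff.trans ?_ (mem_pow_idealOfVars_iff r p).symm
  exact forall₂_congr fun v _ => hE v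

end


open W4c1hilbpn in
/-- Let k be an infinite field, S = k[x,y,z] with variables ordered x > y > z and irrelevant ideal m, r
a natural number, and I a strongly stable ideal of colength at most C(r+2, 3) = dim S/m^r; write I_i
for the ideal of polynomials f in k[y,z] with x^i f in I. Then for every j ≤ r the sum over j ≤ i <
r of dim k[y,z]/I_i is at most the sum over the same i of C(r-i+1, 2) = dim k[y,z]/(y,z)^{r-i}, and
if equality holds for every j < r then I = m^r. -/
theorem result (k : Type u) [Field k] [Infinite k] (r : ℕ)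
    (I : Ideal (MvPolynomial (Fin 3) k)) (hI : IsStronglyStable I) [Module.Finite k (MvPolynomial (Fin 3) k ⧸ I)]
    (hd : Module.finrank k (MvPolynomial (Fin 3) k ⧸ I) ≤ Nat.choose (r + 2) 3) :
    (∀ j, j ≤ r → ∑ i ∈ Finset.Ico j r, Module.finrank k (MvPolynomial (Fin 2) k ⧸ sliceX I i) ≤
        ∑ i ∈ Finset.Ico j r, Nat.choose (r - i + 1) 2) ∧
    ((∀ j, j < r → ∑ i ∈ Finset.Ico j r, Module.finrank k (MvPolynomial (Fin 2) k ⧸ sliceX I i) =
        ∑ i ∈ Finset.Ico j r, Nat.choose (r - i + 1) 2) → I = (Ideal.span (Set.range (MvPolynomial.X : Fin 3 → MvPolynomial (Fin 3) k))) ^ r) := by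
  exact slices_le r hI hd

end Groth.Agent.S13454
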