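import Groth.Statements.S13455
import Mathlib
open MvPolynomial

set_option autoImplicit false
universe u
open W4c1hilbpn

set_option backward.isDefEq.respectTransparency false
namespace Groth.Agent.S13455

section
variable {σ : Type} {k : Type u} [Field k]

lemma span_eq_span_monomial {T : Set (MvPolynomial σ k)} {G : Set (σ →₀ ℕ)}
    (h : T = (fun β => monomial β (1 : k)) '' G) : Ideal.span T = Ideal.span ((fun β => monomial β (1 : k)) '' G) := by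
  rw [h]

end


/-- Let k be an algebraically closed field of characteristic different from 2, k0 ≥ 1 and n ≥ 2k0 - 1
natural numbers, S = k[x_0, ..., x_n], and e1 ≤ e2 ≤ k0 - 1. The ideal generated by all products x_p
x_q with e1 ≤ p, q ≤ e2 together with the products x_p x_{n-k0+1+q} for e1 ≤ p < q ≤ e2 is the
intersection, over j from e1 to e2, of the ideals generated by the variables x_i with e1 ≤ i ≤ e2
and i ≠ j, the square x_j^2, and the variables x_{n-k0+1+q} for j < q ≤ e2 (a primary decomposition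
of this monomial ideal). -/
theorem result (k : Type u) [Field k] [IsAlgClosed k] (hchar : ringChar k ≠ 2)
    (n k0 e1 e2 : ℕ) (hk : 1 ≤ k0) (hn : 2 * k0 ≤ n + 1) (he : e1 ≤ e2) (he2 : e2 + 1 ≤ k0) :
    Ideal.span ({f : MvPolynomial (Fin (n + 1)) k | ∃ p q : Fin (n + 1), e1 ≤ p.val ∧ p.val ≤ e2 ∧ e1 ≤ q.val ∧ q.val ≤ e2 ∧
        f = MvPolynomial.X p * MvPolynomial.X q} ∪
      {f : MvPolynomial (Fin (n + 1)) k | ∃ p q m : Fin (n + 1), e1 ≤ p.val ∧ p.val < q.val ∧ q.val ≤ e2 ∧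
        m.val + k0 = n + 1 + q.val ∧ f = MvPolynomial.X p * MvPolynomial.X m}) =
    ⨅ j : Fin (n + 1), ⨅ (_ : e1 ≤ j.val ∧ j.val ≤ e2),
      Ideal.span ({f : MvPolynomial (Fin (n + 1)) k | ∃ i : Fin (n + 1), e1 ≤ i.val ∧ i.val ≤ e2 ∧ i ≠ j ∧ f = MvPolynomial.X i} ∪
        {MvPolynomial.X j ^ 2} ∪
        {f : MvPolynomial (Fin (n + 1)) k | ∃ q m : Fin (n + 1), j.val < q.val ∧ q.val ≤ e2 ∧ m.val + k0 = n + 1 + q.val ∧
          f = MvPolynomial.X m}) := by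
  classical
  let G : Set (Fin (n + 1) →₀ ℕ) :=
    {β | ∃ p q : Fin (n + 1), e1 ≤ p.val ∧ p.val ≤ e2 ∧ e1 ≤ q.val ∧ q.val ≤ e2 ∧ β = Finsupp.single p 1 + Finsupp.single q 1} ∪
      {β | ∃ p q m : Fin (n + 1), e1 ≤ p.val ∧ p.val < q.val ∧ q.val ≤ e2 ∧ m.val + k0 = n + 1 + q.val ∧
        β = Finsupp.single p 1 + Finsupp.single m 1}
  let H : Fin (n + 1) → Set (Fin (n + 1) →₀ ℕ) := fun j =>
    {β | ∃ i : Fin (n + 1), e1 ≤ i.val ∧ i.val ≤ e2 ∧ i ≠ j ∧ β = Finsupp.single i 1} ∪ {Finsupp.single j 2} ∪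
      {β | ∃ q m : Fin (n + 1), j.val < q.val ∧ q.val ≤ e2 ∧ m.val + k0 = n + 1 + q.val ∧ β = Finsupp.single m 1}
  have hXX : ∀ p q : Fin (n + 1),
      (X p * X q : MvPolynomial (Fin (n + 1)) k) = monomial (Finsupp.single p 1 + Finsupp.single q 1) 1 := fun p q => by
    rw [X, X, monomial_mul, one_mul]
  rw [span_eq_span_monomial (G := G)]
  swap
  · ext f
    constructor
    · rintro (⟨p, q, h1, h2, h3, h4, rfl⟩ | ⟨p, q, m, h1, h2, h3, h4, rfl⟩)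
      · exact ⟨_, Or.inl ⟨p, q, h1, h2, h3, h4, rfl⟩, (hXX p q).symm⟩
      · exact ⟨_, Or.inr ⟨p, q, m, h1, h2, h3, h4, rfl⟩, (hXX p m).symm⟩
    · rintro ⟨_, (⟨p, q, h1, h2, h3, h4, rfl⟩ | ⟨p, q, m, h1, h2, h3, h4, rfl⟩), rfl⟩
      · exact Or.inl ⟨p, q, h1, h2, h3, h4, (hXX p q).symm⟩
      · exact Or.inr ⟨p, q, m, h1, h2, h3, h4, (hXX p m).symm⟩
  have hH : ∀ j : Fin (n + 1), Ideal.span ({f : MvPolynomial (Fin (n + 1)) k | ∃ i : Fin (n + 1), e1 ≤ i.val ∧ i.val ≤ e2 ∧ i ≠ j ∧ f = MvPolynomial.X i} ∪ {MvPolynomial.X j ^ 2} ∪ {f : MvPolynomial (Fin (n + 1)) k | ∃ q m : Fin (n + 1), j.val < q.val ∧ q.val ≤ e2 ∧ m.val + k0 = n + 1 + q.val ∧ f = MvPolynomial.X m}) = Ideal.span ((fun β => monomial β (1 : k)) '' H j) := by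
    intro j
    refine span_eq_span_monomial ?_
    ext f
    constructor
    · rintro ((⟨i, h1, h2, h3, rfl⟩ | rfl) | ⟨q, m, h1, h2, h3, rfl⟩)
      · exact ⟨_, Or.inl (Or.inl ⟨i, h1, h2, h3, rfl⟩), rfl⟩
      · exact ⟨_, Or.inl (Or.inr rfl), (X_pow_eq_monomial).symm⟩
      · exact ⟨_, Or.inr ⟨q, m, h1, h2, h3, rfl⟩, rfl⟩
    · rintro ⟨_, ((⟨i, h1, h2, h3, rfl⟩ | rfl) | ⟨q, m, h1, h2, h3, rfl⟩), rfl⟩
      · exact Or.inl (Or.inl ⟨i, h1, h2, h3, rfl⟩)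
      · exact Or.inl (Or.inr (X_pow_eq_monomial).symm)
      · exact Or.inr ⟨q, m, h1, h2, h3, rfl⟩
  simp only [hH]
  ext f
  simp only [Submodule.mem_iInf, mem_ideal_span_monomial_image]
  have two : ∀ (a b : Fin (n + 1)) (β : Fin (n + 1) →₀ ℕ), a ≠ b →
      (Finsupp.single a 1 + Finsupp.single b 1 ≤ β ↔ 1 ≤ β a ∧ 1 ≤ β b) := by
    intro a b β hab
    constructor
    · intro h
      have ha := h a
      have hb := h b
      simp [hab, hab.symm] at ha hb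
      omega
    · rintro ⟨ha, hb⟩ x
      by_cases hxa : x = a
      · subst hxa; simp [hab]; omega
      · by_cases hxb : x = b
        · subst hxb; simp [hab.symm]; omega
        · simp [Finsupp.single_eq_of_ne hxa, Finsupp.single_eq_of_ne hxb]
  constructor
  · intro h j hj β hβ
    obtain ⟨g, hg, hle⟩ := h β hβ
    rcases hg with ⟨p, q, h1, h2, h3, h4, rfl⟩ | ⟨p, q, m, h1, h2, h3, h4, rfl⟩
    · by_cases hp : p = j
      · by_cases hq : q = j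
        · refine ⟨_, Or.inl (Or.inr rfl), ?_⟩
          rw [hp, hq, ← Finsupp.single_add] at hle
          exact hle
        · exact ⟨_, Or.inl (Or.inl ⟨q, h3, h4, hq, rfl⟩), le_trans le_add_self hle⟩
      · exact ⟨_, Or.inl (Or.inl ⟨p, h1, h2, hp, rfl⟩), le_trans le_self_add hle⟩
    · by_cases hp : p = j
      · exact ⟨_, Or.inr ⟨q, m, hp ▸ h2, h3, h4, rfl⟩, le_trans le_add_self hle⟩
      · exact ⟨_, Or.inl (Or.inl ⟨p, h1, by omega, hp, rfl⟩), le_trans le_self_add hle⟩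
  · intro h β hβ
    have get : ∀ j : Fin (n + 1), e1 ≤ j.val → j.val ≤ e2 →
        (∃ i : Fin (n + 1), e1 ≤ i.val ∧ i.val ≤ e2 ∧ i ≠ j ∧ 1 ≤ β i) ∨ 2 ≤ β j ∨
        (∃ q m : Fin (n + 1), j.val < q.val ∧ q.val ≤ e2 ∧ m.val + k0 = n + 1 + q.val ∧ 1 ≤ β m) := by
      intro j hj1 hj2
      obtain ⟨g, hg, hle⟩ := h j ⟨hj1, hj2⟩ β hβ
      rcases hg with (⟨i, h1, h2, h3, rfl⟩ | rfl) | ⟨q, m, h1, h2, h3, rfl⟩
      · exact Or.inl ⟨i, h1, h2, h3, Finsupp.single_le_iff.1 hle⟩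
      · exact Or.inr (Or.inl (Finsupp.single_le_iff.1 hle))
      · exact Or.inr (Or.inr ⟨q, m, h1, h2, h3, Finsupp.single_le_iff.1 hle⟩)
    obtain ⟨i0, hi1, hi2, hi⟩ : ∃ i : Fin (n + 1), e1 ≤ i.val ∧ i.val ≤ e2 ∧ 1 ≤ β i := by
      rcases get ⟨e2, by omega⟩ he le_rfl with ⟨i, a, b, -, c⟩ | c | ⟨q, m, a, b, -⟩
      · exact ⟨i, a, b, c⟩
      · exact ⟨⟨e2, by omega⟩, he, le_rfl, le_trans one_le_two c⟩
      · exact absurd a (not_lt.2 b)
    rcases get i0 hi1 hi2 with ⟨i, a, b, hne, c⟩ | c | ⟨q, m, a, b, d, c⟩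
    · exact ⟨_, Or.inl ⟨i0, i, hi1, hi2, a, b, rfl⟩, (two i0 i β hne.symm).2 ⟨hi, c⟩⟩
    · refine ⟨_, Or.inl ⟨i0, i0, hi1, hi2, hi1, hi2, rfl⟩, ?_⟩
      rw [← Finsupp.single_add]
      exact Finsupp.single_le_iff.2 c
    · refine ⟨_, Or.inr ⟨i0, q, m, hi1, a, b, d, rfl⟩, (two i0 m β ?_).2 ⟨hi, c⟩⟩
      intro he'; subst he'; omega

end Groth.Agent.S13455
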