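import Groth.Statements.S13458
import Groth.Agent.OmegaLib.Smooth
import Mathlib.AlgebraicGeometry.FunctionField
import Mathlib.RingTheory.Etale.Field
import Mathlib.RingTheory.Etale.Kaehler

set_option autoImplicit false
universe u
open CategoryTheory CategoryTheory.Limits AlgebraicGeometry TopologicalSpace
open SmVar
open CategoryTheory CategoryTheory.Limits AlgebraicGeometry TopologicalSpace Opposite TensorProduct
set_option linter.style.haveILetI false
set_option backward.isDefEq.respectTransparency false
set_option maxHeartbeats 1600000

namespace Groth.Agent.S13458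

lemma isFractionRing_residueField {X : Scheme.{u}} [IsIntegral X] {U : X.Opens} (hU : IsAffineOpen U) (y : X)
    (hy : y = genericPoint X) (h : y ∈ U) :
    @IsFractionRing Γ(X, U) _ (X.residueField y) _ (X.evaluation U y h).hom.toAlgebra := by
  subst hy
  letI := (X.evaluation U _ h).hom.toAlgebra
  haveI : Nonempty U := ⟨⟨_, h⟩⟩
  haveI := functionField_isFractionRing_of_isAffineOpen X U hU
  have hb : Function.Bijective (X.residue (genericPoint X)).hom :=
    ⟨(X.residue (genericPoint X)).hom.injective, X.residue_surjective _⟩
  let e : X.functionField ≃ₐ[Γ(X, U)] X.residueField (genericPoint X) :=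
    AlgEquiv.ofRingEquiv (f := RingEquiv.ofBijective _ hb) (fun _ => rfl)
  exact IsLocalization.isLocalization_of_algEquiv _ e

open KaehlerDifferential in
/-- Differentials pull back injectively to a domain with separable generic extension. -/
lemma mapBaseChange_injective (k A B K L : Type u) [CommRing k] [CommRing A] [CommRing B] [Field K] [Field L]
    [Algebra k A] [Algebra k B] [Algebra A B] [IsScalarTower k A B] [Algebra A K] [IsFractionRing A K]
    [Algebra K L] [Algebra.IsSeparable K L] [Algebra A L] [IsScalarTower A K L] [Algebra B L]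
    [IsScalarTower A B L] [Algebra k L] [IsScalarTower k A L] [IsScalarTower k B L]
    [Algebra.FormallySmooth k A] (hB : Function.Injective (algebraMap B L)) :
    Function.Injective (mapBaseChange k A B) := by
  haveI : Algebra.FormallyEtale A K := Algebra.FormallyEtale.of_isLocalization (nonZeroDivisors A)
  haveI : Algebra.FormallyEtale K L := Algebra.FormallyEtale.of_isSeparable K L
  haveI : Algebra.FormallyEtale A L := Algebra.FormallyEtale.comp A K L
  have hL : Function.Injective (mapBaseChange k A L) := by
    convert! (tensorKaehlerEquivOfFormallyEtale k A L).injective using 1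
  have hi : Function.Injective (LinearMap.rTensor Ω[A⁄k] (IsScalarTower.toAlgHom A B L).toLinearMap) :=
    Module.Flat.rTensor_preserves_injective_linearMap _ hB
  have key : ∀ z, mapBaseChange k A L (LinearMap.rTensor Ω[A⁄k] (IsScalarTower.toAlgHom A B L).toLinearMap z) =
      map k k B L (mapBaseChange k A B z) := by
    intro z
    induction z using TensorProduct.induction_on with
    | zero => simp
    | add a b ha hb => simp only [map_add, ha, hb]
    | tmul x y =>
      rw [LinearMap.rTensor_tmul, mapBaseChange_tmul, mapBaseChange_tmul, LinearMap.map_smul]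
      simp only [AlgHom.toLinearMap_apply, IsScalarTower.coe_toAlgHom']
      rw [algebraMap_smul]
      congr 1
      have hy : y ∈ Submodule.span A (Set.range (D k A)) := by rw [span_range_derivation]; trivial
      induction hy using Submodule.span_induction with
      | mem w hw =>
        obtain ⟨a, rfl⟩ := hw
        rw [map_D, map_D, map_D, ← IsScalarTower.algebraMap_apply]
      | zero => simp
      | add a b _ _ ha hb => simp only [map_add, ha, hb]
      | smul r a _ ha =>
        rw [LinearMap.map_smul, LinearMap.map_smul, LinearMap.map_smul_of_tower, ha]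
  intro a b h
  exact hi (hL (by rw [key, key, h]))

/-- Let k be a field, X and Y integral schemes each smooth over Spec k and of the same dimension, and φ
: X → Y a morphism over k which is dominant and separable: the residue field of X at its generic
point is a separable algebraic extension of the residue field of Y at the image point (the function
field of Y, as φ is dominant). Let Ω_Y and Ω_X be sheaves of differentials of Y and of X over k,
given as universal derivations, and c : φ^*Ω_Y → Ω_X the compatible map (it sends the pullback of
d_Y s to d_X(φ^♯ s)). Then c is a monomorphism of O_X-modules, so the relative cotangent sequence of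
φ is exact on the left as well. (The injectivity is what is stated here; the identification of the
cokernel with Ω_{X/Y} is the general cotangent sequence.) -/
theorem result (k : Type u) [Field k] {X Y : Scheme.{u}}
    (pX : X ⟶ Spec (CommRingCat.of k)) (pY : Y ⟶ Spec (CommRingCat.of k)) (φ : X ⟶ Y) (w : φ ≫ pY = pX)
    [IsIntegral X] [IsIntegral Y] [Smooth pX] [Smooth pY]
    (hdim : topologicalKrullDim X = topologicalKrullDim Y) (hdom : DenseRange φ.base)
    (hsep : letI := (φ.residueFieldMap (genericPoint X)).hom.toAlgebra
      Algebra.IsSeparable (Y.residueField (φ.base (genericPoint X))) (X.residueField (genericPoint X)))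
    (ΩY : Y.Modules) (dY : OmegaSh.Der pY ΩY) (hY : OmegaSh.IsUniversal dY)
    (ΩX : X.Modules) (dX : OmegaSh.Der pX ΩX) (hX : OmegaSh.IsUniversal dX)
    (c : (Scheme.Modules.pullback φ).obj ΩY ⟶ ΩX) (hc : OmegaSh.IsDiffCompat φ dY dX c) :
    Mono c := by
  subst w
  refine Conormal.mono_of_basis c (OmegaLib.isBasisFam_tower φ pY) ?_
  rintro U ⟨W, V, hW, hV, hU, e, eh⟩
  obtain ⟨L₀, L', hL⟩ := OmegaLib.exists_coords_tower hY hX hc hW hV hU e eh
  letI : Algebra Γ(Spec (CommRingCat.of k), W) Γ(Y, V) := (pY.appLE W V e).hom.toAlgebra
  letI : Algebra Γ(Y, V) Γ(X, U) := (φ.appLE V U eh).hom.toAlgebra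
  letI : Algebra Γ(Spec (CommRingCat.of k), W) Γ(X, U) :=
    ((φ ≫ pY).appLE W U (eh.trans (φ.preimage_mono e))).hom.toAlgebra
  haveI : IsScalarTower Γ(Spec (CommRingCat.of k), W) Γ(Y, V) Γ(X, U) :=
    IsScalarTower.of_algebraMap_eq' (OmegaLib.tower_eq φ pY e eh)
  suffices hinj : Function.Injective
      (KaehlerDifferential.mapBaseChange Γ(Spec (CommRingCat.of k), W) Γ(Y, V) Γ(X, U)) by
    intro a b hab
    apply L₀.injective
    apply hinj
    rw [← hL, ← hL]
    exact congrArg L' hab
  by_cases hne : Nonempty U
  swap
  · have hs : Subsingleton Γ(X, U) := by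
      have : U = ⊥ := by
        ext x
        exact ⟨fun hx => hne ⟨⟨x, hx⟩⟩, fun h => h.elim⟩
      subst this
      exact CommRingCat.subsingleton_of_isTerminal X.sheaf.isTerminalOfEmpty
    haveI := hs
    haveI := Module.subsingleton Γ(X, U) (Γ(X, U) ⊗[Γ(Y, V)] Ω[Γ(Y, V)⁄Γ(Spec (CommRingCat.of k), W)])
    exact Function.injective_of_subsingleton _
  obtain ⟨⟨x, hx⟩⟩ := hne
  haveI : Nonempty U := ⟨⟨x, hx⟩⟩
  have hξU : genericPoint X ∈ U := (genericPoint_specializes x).mem_open U.2 hx
  have hξV : φ.base (genericPoint X) ∈ V := eh hξU
  have hη : φ.base (genericPoint X) = genericPoint Y := by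
    refine IsGenericPoint.eq ?_ (genericPoint_spec Y)
    have h := (genericPoint_spec X).image φ.continuous
    rwa [Set.image_univ, hdom.closure_range] at h
  haveI : Algebra.FormallySmooth Γ(Spec (CommRingCat.of k), W) Γ(Y, V) := by
    have h := Smooth.smooth_appLE pY hW hV e
    exact (RingHom.smooth_algebraMap.mp h).formallySmooth
  letI := (φ.residueFieldMap (genericPoint X)).hom.toAlgebra
  haveI := hsep
  letI := (Y.evaluation V _ hξV).hom.toAlgebra
  letI := (X.evaluation U _ hξU).hom.toAlgebra
  letI : Algebra Γ(Y, V) (X.residueField (genericPoint X)) :=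
    ((φ.residueFieldMap (genericPoint X)).hom.comp (Y.evaluation V _ hξV).hom).toAlgebra
  haveI : IsScalarTower Γ(Y, V) (Y.residueField (φ.base (genericPoint X))) (X.residueField (genericPoint X)) :=
    IsScalarTower.of_algebraMap_eq' rfl
  haveI : IsScalarTower Γ(Y, V) Γ(X, U) (X.residueField (genericPoint X)) :=
    IsScalarTower.of_algebraMap_eq fun a => by
      show (Y.presheaf.germ V _ hξV ≫ Y.residue _ ≫ φ.residueFieldMap (genericPoint X)) a =
        (φ.appLE V U eh ≫ X.presheaf.germ U _ hξU ≫ X.residue (genericPoint X)) a
      congr 2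
      rw [Scheme.residue_residueFieldMap, Scheme.Hom.germ_stalkMap_assoc]
      simp [Scheme.Hom.appLE]
  haveI := isFractionRing_residueField hV (φ.base (genericPoint X)) hη hξV
  letI : Algebra Γ(Spec (CommRingCat.of k), W) (X.residueField (genericPoint X)) :=
    ((algebraMap Γ(X, U) (X.residueField (genericPoint X))).comp
      (algebraMap Γ(Spec (CommRingCat.of k), W) Γ(X, U))).toAlgebra
  haveI : IsScalarTower Γ(Spec (CommRingCat.of k), W) Γ(X, U) (X.residueField (genericPoint X)) :=
    IsScalarTower.of_algebraMap_eq' rfl
  haveI : IsScalarTower Γ(Spec (CommRingCat.of k), W) Γ(Y, V) (X.residueField (genericPoint X)) :=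
    IsScalarTower.of_algebraMap_eq fun a => by
      rw [IsScalarTower.algebraMap_apply Γ(Y, V) Γ(X, U) (X.residueField (genericPoint X)),
        ← IsScalarTower.algebraMap_apply Γ(Spec (CommRingCat.of k), W) Γ(Y, V) Γ(X, U)]
      rfl
  haveI := isFractionRing_residueField hU (genericPoint X) rfl hξU
  exact mapBaseChange_injective Γ(Spec (CommRingCat.of k), W) Γ(Y, V) Γ(X, U)
    (Y.residueField (φ.base (genericPoint X))) (X.residueField (genericPoint X))
    (IsFractionRing.injective _ _)

end Groth.Agent.S13458
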