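import Groth.Statements.S13460
import Groth.Agent.RefDiv.Order

set_option autoImplicit false
universe u
open CategoryTheory CategoryTheory.Limits AlgebraicGeometry TopologicalSpace
open WDiv

set_option backward.isDefEq.respectTransparency false
set_option backward.isDefEq.respectTransparency.types false

namespace Groth.Agent.S13460

/-- Let A be a Noetherian integral domain which is a unique factorization domain, and X = Spec A. Then
the divisor class group of X vanishes: every Weil divisor D on X, an integer-valued function on the
points of X with finite support inside the points of coheight 1 (codimension one), is the divisor of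
a nonzero rational function f on X, i.e. the order of vanishing of f at every point x of coheight 1
is D(x). (The published statement assumes only that A is a unique factorization domain; this row
also assumes A Noetherian.) -/
theorem result (A : Type u) [CommRing A] [IsDomain A] [IsNoetherianRing A]
    [UniqueFactorizationMonoid A]
    (D : ↥(Spec (CommRingCat.of A)) → ℤ) (hD : ∀ x, Order.coheight x ≠ 1 → D x = 0) (hfin : {x | D x ≠ 0}.Finite) :
    ∃ f : ↑(Spec (CommRingCat.of A)).functionField, f ≠ 0 ∧
      ∀ x : ↥(Spec (CommRingCat.of A)), Order.coheight x = 1 → Scheme.ord f x = D x := by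
  classical
  let R := CommRingCat.of A
  let X := Spec R
  haveI : IsDomain R := ‹IsDomain A›
  haveI : IsNoetherianRing R := ‹IsNoetherianRing A›
  haveI : IsLocallyNoetherian X := inferInstance
  letI k : ∀ x : X, Algebra A (X.presheaf.stalk x) := fun x => StructureSheaf.stalkAlgebra A x
  haveI hloc : ∀ x : X, IsLocalization.AtPrime (X.presheaf.stalk x) x.asIdeal :=
    fun x => StructureSheaf.IsLocalization.to_stalk A x
  haveI : Nonempty (⊤ : X.Opens) := ⟨⟨genericPoint X, trivial⟩⟩
  let φ : A →+* X.functionField := (algebraMap A (X.presheaf.stalk (genericPoint X)))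
  have hφ : ∀ (x : X) (a : A), algebraMap (X.presheaf.stalk x) X.functionField
      (algebraMap A (X.presheaf.stalk x) a) = φ a := fun x a => by
    show (X.presheaf.stalkSpecializes _).hom ((StructureSheaf.toStalk A x).hom a) = _
    exact StructureSheaf.toStalk_stalkSpecializes_apply _ a
  have hinj : Function.Injective φ := by
    show Function.Injective (algebraMap A (X.presheaf.stalk (genericPoint X)))
    exact IsLocalization.injective _ (genericPoint X).asIdeal.primeCompl_le_nonZeroDivisors
  let S := hfin.toFinset
  have hS : ∀ x ∈ S, Order.coheight x = 1 := fun x hx => by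
    by_contra h
    exact (hfin.mem_toFinset.1 hx) (hD x h)
  have hht : ∀ x : X, Order.coheight x = 1 → x.asIdeal.height = 1 := fun x hx => by
    have h1 := IsLocalization.AtPrime.ringKrullDim_eq_height x.asIdeal (X.presheaf.stalk x)
    rw [ringKrullDim_stalk_eq_coheight x, hx] at h1
    exact_mod_cast h1.symm
  have hπ : ∀ x : X, Order.coheight x = 1 → ∃ π : A, Prime π ∧ x.asIdeal = Ideal.span {π} := by
    intro x hx
    have hne : x.asIdeal ≠ ⊥ := fun e => by
      have h := hht x hx
      rw [e, Ideal.height_bot] at h
      exact zero_ne_one h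
    obtain ⟨π, hπm, hπ⟩ := x.2.exists_mem_prime_of_ne_bot hne
    refine ⟨π, hπ, ?_⟩
    haveI : (Ideal.span {π}).IsPrime := (Ideal.span_singleton_prime hπ.ne_zero).2 hπ
    rcases eq_or_lt_of_le ((Ideal.span_singleton_le_iff_mem _).2 hπm) with e | e
    · exact e.symm
    · exfalso
      haveI := x.2
      have h0 : (⊥ : Ideal A) < Ideal.span {π} := bot_lt_iff_ne_bot.2
        (fun e0 => hπ.ne_zero (Ideal.span_singleton_eq_bot.1 e0))
      haveI : (⊥ : Ideal A).IsPrime := Ideal.bot_prime
      have h1 := Ideal.height_strict_mono_of_isPrime h0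
      have h2 := Ideal.height_strict_mono_of_isPrime e
      rw [hht x hx] at h2
      rw [Ideal.height_bot] at h1
      exact absurd (Order.lt_one_iff.1 h2) h1.ne'
  choose π hπ hspan using hπ
  have hord : ∀ (z x : X) (hz : Order.coheight z = 1) (hx : Order.coheight x = 1),
      Scheme.ord (φ (π x hx)) z = if z = x then 1 else 0 := by
    intro z x hz hx
    haveI := krullDimLE_of_coheight_le hz.le
    have hne : φ (π x hx) ≠ 0 := (map_ne_zero_iff φ hinj).2 (hπ x hx).ne_zero
    rw [Scheme.ord_eq_iff hz hne]
    change Ring.ordFrac (X.presheaf.stalk z) (φ (π x hx)) = _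
    rw [← hφ z]
    split_ifs with e
    · subst e
      have hm : IsLocalRing.maximalIdeal (X.presheaf.stalk z) =
          Ideal.span {algebraMap A (X.presheaf.stalk z) (π z hx)} := by
        rw [← IsLocalization.AtPrime.map_eq_maximalIdeal z.asIdeal (X.presheaf.stalk z), hspan z hx,
          Ideal.map_span, Set.image_singleton]
      have hne0 : algebraMap A (X.presheaf.stalk z) (π z hx) ≠ 0 :=
        (map_ne_zero_iff _ (IsLocalization.injective (X.presheaf.stalk z)
          z.asIdeal.primeCompl_le_nonZeroDivisors)).2 (hπ z hx).ne_zero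
      have hP : Prime (algebraMap A (X.presheaf.stalk z) (π z hx)) := by
        rw [← Ideal.span_singleton_prime hne0, ← hm]
        exact (IsLocalRing.maximalIdeal.isMaximal _).isPrime
      have hnf : ¬ IsField (X.presheaf.stalk z) := fun hf => hne0 (by
        have h2 := IsLocalRing.isField_iff_maximalIdeal_eq.1 hf
        rw [hm] at h2
        exact Ideal.span_singleton_eq_bot.1 h2)
      haveI : IsNoetherianRing (X.presheaf.stalk z) :=
        IsLocalization.isNoetherianRing z.asIdeal.primeCompl (X.presheaf.stalk z) inferInstance
      have hpr : (IsLocalRing.maximalIdeal (X.presheaf.stalk z)).IsPrincipal := ⟨⟨_, hm⟩⟩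
      haveI : IsDiscreteValuationRing (X.presheaf.stalk z) :=
        ((IsDiscreteValuationRing.TFAE (X.presheaf.stalk z) hnf).out 4 0 rfl rfl).1 hpr
      rw [Ring.ordFrac_irreducible hP.irreducible]
      rfl
    · rw [Ring.ordFrac_of_isUnit]
      · rfl
      · refine (IsLocalization.AtPrime.isUnit_to_map_iff _ z.asIdeal _).2 fun hmem => e ?_
        have hle : x.asIdeal ≤ z.asIdeal := by
          rw [hspan x hx]; exact (Ideal.span_singleton_le_iff_mem _).2 hmem
        refine PrimeSpectrum.ext ?_
        rcases eq_or_lt_of_le hle with e' | e'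
        · exact e'.symm
        · exfalso
          haveI := z.2
          haveI := x.2
          have h2 := Ideal.height_strict_mono_of_isPrime e'
          rw [hht x hx, hht z hz] at h2
          exact lt_irrefl _ h2
  have hpow : ∀ (z : X) (g : X.functionField), g ≠ 0 → ∀ n : ℤ,
      Scheme.ord (g ^ n) z = n * Scheme.ord g z := by
    intro z g hg n
    induction n using Int.induction_on with
    | zero => simp [RefDiv.ord_one]
    | succ i hi =>
      rw [zpow_add_one₀ hg, Scheme.ord_mul (zpow_ne_zero _ hg) hg, hi]; ring
    | pred i hi =>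
      rw [zpow_sub_one₀ hg, Scheme.ord_mul (zpow_ne_zero _ hg) (inv_ne_zero hg), hi, RefDiv.ord_inv hg]
      ring
  have key : ∀ T : Finset X, (∀ x ∈ T, Order.coheight x = 1) → ∃ f : X.functionField, f ≠ 0 ∧
      ∀ z : X, Order.coheight z = 1 → Scheme.ord f z = if z ∈ T then D z else 0 := by
    intro T
    induction T using Finset.induction_on with
    | empty => exact fun _ => ⟨1, one_ne_zero, fun z _ => by simp [RefDiv.ord_one]⟩
    | @insert a T ha ih =>
      intro hT
      obtain ⟨g, hg0, hg⟩ := ih fun x hx => hT x (Finset.mem_insert_of_mem hx)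
      have hx := hT a (Finset.mem_insert_self _ _)
      have hne : φ (π a hx) ≠ 0 := (map_ne_zero_iff φ hinj).2 (hπ a hx).ne_zero
      refine ⟨φ (π a hx) ^ D a * g, mul_ne_zero (zpow_ne_zero _ hne) hg0, fun z hz => ?_⟩
      rw [Scheme.ord_mul (zpow_ne_zero _ hne) hg0, hpow z _ hne, hord z a hz hx, hg z hz]
      by_cases e : z = a
      · subst e; simp [ha]
      · simp [e]
  obtain ⟨f, hf0, hf⟩ := key S hS
  refine ⟨f, hf0, fun x hx => ?_⟩
  rw [hf x hx]
  by_cases h : x ∈ S
  · simp [h]
  · simp only [h, if_false]
    exact (not_not.1 fun h' => h (hfin.mem_toFinset.2 h')).symm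

end Groth.Agent.S13460
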