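import Groth.Statements.S13461
import Groth.Agent.CurveOmega.General
import Groth.Agent.Intersect.ProjSpace
import Groth.Agent.CurveVA.Main

set_option autoImplicit false
universe u
open CategoryTheory CategoryTheory.Limits AlgebraicGeometry TopologicalSpace
open Curves

set_option backward.isDefEq.respectTransparency false
set_option backward.isDefEq.respectTransparency.types false

open Groth.Agent

namespace Groth.Agent.S13461

/-- Let k be a field and X a smooth proper geometrically connected curve over k (proper, smooth and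
geometrically connected over k, of dimension one) of genus dim_k H^1(X, O_X) = 4, and let i : X →
P^3_k be a closed immersion over k whose pullback of O(1) is isomorphic to the sheaf of
differentials Ω_{X/k} (X is canonically embedded, hence not hyperelliptic). Then X lies on a quadric
surface: there is a nonzero global section Q of O_{P^3_k}(2) whose pullback along i is the zero
section of i^*O(2). (The published statement goes on to assert that X is the complete intersection
of such a quadric with a cubic surface; this row states only the existence of the quadric.) -/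
theorem result (k : Type u) [Field k] (X : Scheme.{u}) [X.Over (Spec (CommRingCat.of k))]
    [IsProper (X ↘ (Spec (CommRingCat.of k)))] [Smooth (X ↘ (Spec (CommRingCat.of k)))] [GeometricallyConnected (X ↘ (Spec (CommRingCat.of k)))]
    (hdim : topologicalKrullDim X = 1) (hg : Curv2.genus k X = 4)
    (i : X ⟶ CohB1.ProjSpace 3 k) [IsClosedImmersion i] (hi : i ≫ CohB1.ProjSpace.toSpec 3 k = X ↘ (Spec (CommRingCat.of k)))
    (hcan : Nonempty ((Scheme.Modules.pullback i).obj (Twist.twistProjSpace 3 k 1) ≅ Omega.sheaf (X ↘ (Spec (CommRingCat.of k))))) :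
    ∃ Q : Γ(Twist.twistProjSpace 3 k 2, ⊤), Q ≠ 0 ∧
      OmegaSh.pullSect i (Twist.twistProjSpace 3 k 2) ⊤ Q = 0 := by
  haveI := W7Slope.isIntegral_of_geomConn (k := k) (X := X) hdim
  have h0 := W7Cover.h0_of_geometricallyConnected (k := k) (X := X)
  haveI := ProjMor.isProper_toSpec 3 k
  haveI : IsProper (CohB1.ProjSpace 3 k ↘ Spec (CommRingCat.of k)) := ‹_›
  haveI := CurveRR.isNoetherian_of_proper k X
  haveI := CurveRR.isNoetherian_of_proper k (CohB1.ProjSpace 3 k)
  obtain ⟨ε⟩ := hcan
  have hI := CurveOmega.isInvertible_omega k X hdim h0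
  obtain ⟨-, -, odeg⟩ := CurveOmega.omega_facts' k X hdim h0
  obtain ⟨e2⟩ := Intersect.nonempty_twist_pow k 3 2
  obtain ⟨p2⟩ := TMul.nonempty_pullPowIso i (Twist.twistProjSpace 3 k 1) 2
  obtain ⟨c2⟩ := TMul.nonempty_powCongr ε 2
  have hT : Coh.IsCoh (Twist.twistProjSpace 3 k 2) := CurveRR.isCoh_of_inv (CohFinite.isInvertible_twist 3 k 2)
  have hP : CurveRR.h k (Twist.twistProjSpace 3 k 2) 0 = 10 := by
    rw [show CurveRR.h k (Twist.twistProjSpace 3 k 2) 0 = _ from CurveRR.h_eq_of_iso (k := k) e2 0]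
    exact (Intersect.h0_pow k 3 2).trans rfl
  have hpi : (Scheme.Modules.pullback i).obj (Twist.twistProjSpace 3 k 2) ≅
      CohB1.tensorPow (Omega.sheaf (X ↘ (Spec (CommRingCat.of k)))) 2 :=
    (Scheme.Modules.pullback i).mapIso e2 ≪≫ p2.symm ≪≫ c2
  have hX : CurveRR.h k ((Scheme.Modules.pullback i).obj (Twist.twistProjSpace 3 k 2)) 0 = 9 := by
    rw [CurveRR.h_eq_of_iso hpi 0]
    have hd := CurveRR.deg_tensorPow (k := k) hdim.le hI 2
    have := CurveRR.h0_eq_of_deg (k := k) hdim.le h0 (TMul.isInvertible_tensorPow hI 2)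
      (by rw [hd, odeg, hg]; norm_num)
    rw [hd, odeg, hg] at this
    push_cast at this
    omega
  have hQ : Coh.IsCoh ((Scheme.Modules.pullback i).obj (Twist.twistProjSpace 3 k 2)) :=
    CurveRR.isCoh_of_inv (PicLoc.isInvertible_pullback i (CohFinite.isInvertible_twist 3 k 2))
  letI m1 := CurveRR.secMod k (Twist.twistProjSpace 3 k 2) ⊤
  letI m2 := CurveRR.secMod k ((Scheme.Modules.pullback i).obj (Twist.twistProjSpace 3 k 2)) ⊤
  haveI := CohFinite.finite_proper k _ _ hT 0
  haveI := CohFinite.finite_proper k _ _ hQ 0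
  haveI : Module.Finite k Γ(Twist.twistProjSpace 3 k 2, ⊤) := Module.Finite.equiv (CurveRR.secH0 (k := k) _).symm
  haveI : Module.Finite k Γ((Scheme.Modules.pullback i).obj (Twist.twistProjSpace 3 k 2), ⊤) :=
    Module.Finite.equiv (CurveRR.secH0 (k := k) _).symm
  let φ : Γ(Twist.twistProjSpace 3 k 2, ⊤) →ₗ[k] Γ((Scheme.Modules.pullback i).obj (Twist.twistProjSpace 3 k 2), ⊤) :=
    { toFun := OmegaSh.pullSect i (Twist.twistProjSpace 3 k 2) ⊤
      map_add' := map_add _
      map_smul' := fun a s => by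
        show OmegaSh.pullSect i (Twist.twistProjSpace 3 k 2) ⊤ (CurveRR.cst k (CohB1.ProjSpace 3 k) ⊤ a • s) =
          HSMul.hSMul (α := Γ(X, i ⁻¹ᵁ ⊤)) (CurveRR.cst k X ⊤ a) (OmegaSh.pullSect i (Twist.twistProjSpace 3 k 2) ⊤ s)
        rw [OmegaSh.pullSect_smul]
        exact congrArg (· • _) (CurveVA.app_cst i hi ⊤ a) }
  have hne : LinearMap.ker φ ≠ ⊥ := LinearMap.ker_ne_bot_of_finrank_lt (by
    rw [CurveRR.finrank_sec, CurveRR.finrank_sec, hP, hX]; norm_num)
  obtain ⟨Q, hQ1, hQ2⟩ := Submodule.exists_mem_ne_zero_of_ne_bot hne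
  exact ⟨Q, hQ2, hQ1⟩

end Groth.Agent.S13461
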