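import Groth.Statements.S13463
import Groth.Agent.GmDD.Main

set_option autoImplicit false
universe u
open GmDual

namespace Groth.Agent.S13463

open CategoryTheory AlgebraicGeometry MonObj in
/-- For a field k and an affine commutative k-group scheme G of finite type, the canonical map from the
fppf sheaf of G to its double dual G^∧∧ (the dual of an abelian sheaf on the big fppf site of Spec k
being its internal Hom into the multiplicative group) is an isomorphism of fppf sheaves. -/
theorem result (k : Type u) [Field k]
    (G : Over (Spec (CommRingCat.of k))) [GrpObj G] [IsCommMonObj G] [IsAffine G.left] [LocallyOfFiniteType G.hom] :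
    IsIso (CGrpSh2.toDoubleDual Scheme.fppfPrecoverage (CGrpSh.pts Scheme.fppfPrecoverage G)) := by
  exact Groth.Agent.GmDD.isIso_toDoubleDual G

end Groth.Agent.S13463
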