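import Groth.Statements.S13475
import Groth.Agent.GaCoh.Basic

set_option autoImplicit false
universe u
open GaDual

namespace Groth.Agent.S13475

open CategoryTheory AlgebraicGeometry MonObj CategoryTheory.Limits in
/-- Let k be a field and U a split commutative unipotent k-group, given with a finite filtration by
commutative k-group schemes U₀, …, Uₙ = U with U₀ the trivial sheaf and each Uⱼ → Uⱼ₊₁ → G_a short
exact as abelian sheaves on the big fppf site of Spec k. Then H^i(k, U) = 0 for every i > 0
(cohomology of the sheaf of points of U on the big fppf site). -/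
theorem result (k : Type u) [Field k]
    (n : ℕ) (U : Fin (n + 1) → Over (Spec (CommRingCat.of k))) [∀ j, GrpObj (U j)] [∀ j, IsCommMonObj (U j)]
    (incl : ∀ j : Fin n, U j.castSucc ⟶ U j.succ) (proj : ∀ j : Fin n, U j.succ ⟶ Red.Ga (Spec (CommRingCat.of k)))
    [∀ j, IsMonHom (incl j)] [∀ j, IsMonHom (proj j)] (w : ∀ j, incl j ≫ proj j = 1)
    (hex : ∀ j, (CGrpSh.seq Scheme.fppfPrecoverage (incl j) (proj j) (w j)).ShortExact)
    (h0 : IsZero (CGrpSh.pts Scheme.fppfPrecoverage (U 0)))
    (i : ℕ) (hi : 0 < i) :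
    Subsingleton (BigSite.H Scheme.fppfPrecoverage (Spec (CommRingCat.of k)) (CGrpSh.pts Scheme.fppfPrecoverage (U (Fin.last n))) i) := by
  refine Fin.induction (motive := fun j => Subsingleton (BigSite.H Scheme.fppfPrecoverage (Spec (CommRingCat.of k))
    (CGrpSh.pts Scheme.fppfPrecoverage (U j)) i)) ?_ ?_ (Fin.last n)
  · refine subsingleton_of_forall_eq 0 fun x => ?_
    rw [← Abelian.Ext.comp_mk₀_id x, h0.eq_zero_of_src (𝟙 _), Abelian.Ext.mk₀_zero, Abelian.Ext.comp_zero]
  · intro j ih
    refine subsingleton_of_forall_eq 0 fun x => ?_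
    haveI := Groth.Agent.GaCoh.subsingleton_H_Ga (S := Spec (CommRingCat.of k)) i hi
    obtain ⟨y, rfl⟩ := Abelian.Ext.covariant_sequence_exact₂ _ (hex j) x
      (Subsingleton.elim (α := BigSite.H Scheme.fppfPrecoverage (Spec (CommRingCat.of k))
        (Groth.Agent.GaCoh.GaSh (Spec (CommRingCat.of k))) i) _ _)
    haveI := ih
    rw [show y = 0 from (Subsingleton.elim (α := BigSite.H Scheme.fppfPrecoverage
      (Spec (CommRingCat.of k)) (CGrpSh.pts Scheme.fppfPrecoverage (U j.castSucc)) i) y 0), Abelian.Ext.zero_comp]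
    rfl

end Groth.Agent.S13475
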