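import Groth.Statements.S13480
import Groth.Agent.GmDual13480.Main

set_option autoImplicit false
universe u
open GmDual

namespace Groth.Agent.S13480

open CategoryTheory AlgebraicGeometry MonObj in
/-- Let k be a field and G a finite-type affine commutative group scheme over k which is an
almost-torus, i.e. has a k-subtorus T (a monomorphic homomorphism from a torus, kernel of a flat
surjective homomorphism onto a finite k-group scheme Q). Then the fppf dual sheaf Ĝ, the internal
Hom from the sheaf of points of G into the multiplicative group on the big fppf site of Spec k, is
representable by a commutative k-group scheme locally of finite type. (The published statement is an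
equivalence between representability of Ĝ and G being an almost-torus, and adds that the
representing group is then locally of finite type; this row is the direction from almost-torus to
representability.) -/
theorem result (k : Type u) [Field k]
    (G : Over (Spec (CommRingCat.of k))) [GrpObj G] [IsCommMonObj G] [IsAffine G.left] [LocallyOfFiniteType G.hom]
    (hAT : (∃ (T Q : Over (Spec (CommRingCat.of k))) (_ : GrpObj T) (_ : GrpObj Q) (j : T ⟶ G) (q : G ⟶ Q)
      (_ : IsMonHom j) (_ : IsMonHom q), Mono j ∧ Red.IsTorus T ∧ AlgGrp.IsKernel j q ∧ Flat q.left ∧
        Surjective q.left ∧ IsFinite Q.hom)) :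
    ∃ (D : Over (Spec (CommRingCat.of k))) (_ : GrpObj D) (_ : IsCommMonObj D), LocallyOfFiniteType D.hom ∧
      Nonempty (CGrpSh.pts Scheme.fppfPrecoverage D ≅ CGrpSh2.dualSh Scheme.fppfPrecoverage (CGrpSh.pts Scheme.fppfPrecoverage G)) := by
  obtain ⟨T, Q, _, _, j, q, _, _, hj, hT, hker, hqf, hqs, hQ⟩ := hAT
  haveI := hj; haveI := hqf; haveI := hqs; haveI := hQ
  exact Groth.Agent.GmDual13480.exists_dual_representable G T Q j q hT hker

end Groth.Agent.S13480
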