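import Groth.Statements.S13481
import Groth.Agent.GmDual13481.Main

set_option autoImplicit false
universe u
open GmDual

namespace Groth.Agent.S13481

open CategoryTheory AlgebraicGeometry MonObj in
/-- Let k be a field and G a finite-type affine commutative group scheme over k whose fppf dual sheaf Ĝ
(internal Hom from the sheaf of points of G into the multiplicative group on the big fppf site of
Spec k) is isomorphic, as an abelian sheaf, to the sheaf of points of some commutative k-group
scheme. Then G is an almost-torus: it has a k-subtorus (a monomorphic homomorphism from a torus)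
which is the kernel of a flat surjective homomorphism onto a finite k-group scheme. (The published
statement is the equivalence with representability of Ĝ; the other direction is a separate row.) -/
theorem result (k : Type u) [Field k]
    (G : Over (Spec (CommRingCat.of k))) [GrpObj G] [IsCommMonObj G] [IsAffine G.left] [LocallyOfFiniteType G.hom]
    (D : Over (Spec (CommRingCat.of k))) [GrpObj D] [IsCommMonObj D]
    (e : CGrpSh.pts Scheme.fppfPrecoverage D ≅ CGrpSh2.dualSh Scheme.fppfPrecoverage (CGrpSh.pts Scheme.fppfPrecoverage G)) :
    ∃ (T Q : Over (Spec (CommRingCat.of k))) (_ : GrpObj T) (_ : GrpObj Q) (j : T ⟶ G) (q : G ⟶ Q)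
      (_ : IsMonHom j) (_ : IsMonHom q), Mono j ∧ Red.IsTorus T ∧ AlgGrp.IsKernel j q ∧ Flat q.left ∧
        Surjective q.left ∧ IsFinite Q.hom := by
  exact Groth.Agent.GmDual13481.exists_almost_torus G D e

end Groth.Agent.S13481
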