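import Groth.Statements.S13501
import Groth.Agent.EtCons.IndCons
-- import your own Groth.Agent.* helpers here

set_option autoImplicit false
universe u
open CategoryTheory CategoryTheory.Limits AlgebraicGeometry Opposite
open EtPBC

namespace Groth.Agent.S13501

/-- Let X be a quasi-compact and quasi-separated scheme and F a torsion abelian sheaf on X_et. If Hom(F,
-) commutes with filtered colimits (of shape any small filtered category in the universe of the
sheaf category's morphisms), then F is constructible. This is the converse of the compactness of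
constructible sheaves. -/
theorem result (X : Scheme.{u}) [CompactSpace X]
    [QuasiSeparatedSpace X] (F : EtCoh.Ab X) (hF : EtCoh.IsTorsion F)
    (hc : ∀ (J : Type (u + 1)) [SmallCategory J] [IsFiltered J],
      PreservesColimitsOfShape J (coyoneda.obj (op F))) :
    EtPBC.IsConstructible F := by
  obtain ⟨hfil, ⟨hcol⟩, hD⟩ := EtCons.nonempty_isColimit_consCocone (fun _ => True) F (fun _ _ => trivial)
    (fun _ _ _ _ => trivial) (fun _ _ _ _ => trivial)
    (EtCons.exists_isConstructible.elim fun G hG => ⟨G, hG, trivial⟩) hF (EtCons.exists_gen_section hF)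
  haveI := hfil
  haveI := hc (EtCons.ConsOver (fun _ => True) F)
  obtain ⟨j, (s : F ⟶ j.1.1.obj), (hs : s ≫ j.2 = 𝟙 F)⟩ :=
    Types.jointly_surjective _ (isColimitOfPreserves (coyoneda.obj (op F)) hcol) (𝟙 F)
  have h0 : s ≫ (𝟙 j.1.1.obj - j.2 ≫ s) = 0 := by
    rw [Preadditive.comp_sub, Category.comp_id, ← Category.assoc, hs, Category.id_comp, sub_self]
  refine EtCons.isConstructible_of_iso (Iso.symm
    { hom := kernel.lift _ s h0
      inv := kernel.ι (𝟙 j.1.1.obj - j.2 ≫ s) ≫ j.2
      hom_inv_id := by rw [kernel.lift_ι_assoc, hs]
      inv_hom_id := by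
        apply equalizer.hom_ext
        have h := kernel.condition (𝟙 j.1.1.obj - j.2 ≫ s)
        rw [Preadditive.comp_sub, Category.comp_id, sub_eq_zero] at h
        rw [Category.assoc, kernel.lift_ι, Category.id_comp, Category.assoc, ← h] })
    (EtCons.isConstructible_kernel_cokernel _ (hD j).1 (hD j).1).1


end Groth.Agent.S13501
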