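import Groth.Statements.S13504
import Groth.Agent.EtCons.IndCons
import Groth.Agent.EtCons.Compact1
import Groth.Agent.EtColimH.PTorsion
import Groth.Agent.EtColimH.Main
-- import your own Groth.Agent.* helpers here

set_option autoImplicit false
universe u
open CategoryTheory CategoryTheory.Limits AlgebraicGeometry
open EtPBC

namespace Groth.Agent.S13504

/-- Let X be a quasi-compact and quasi-separated scheme. For every constructible abelian sheaf F on the
small étale site of X, every q > 0 and every class α in H^q(X, F) there are a constructible abelian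
sheaf G and a monomorphism u : F → G such that H^q(u) sends α to 0. -/
theorem result (X : Scheme.{u}) [CompactSpace X] [QuasiSeparatedSpace X]
    (F : EtCoh.Ab X) (hF : EtPBC.IsConstructible F) (q : ℕ) (hq : 0 < q) (α : EtCoh.H X F q) :
    ∃ (G : EtCoh.Ab X) (u : F ⟶ G), EtPBC.IsConstructible G ∧ Mono u ∧
      (EtCoh.HF X q).map u α = 0 := by
  obtain ⟨n, hn, hk⟩ := EtCons.exists_killedBy F hF
  obtain ⟨T, e, he, hT, hkT⟩ := EtColimH.exists_acyclic_hull (P := fun m => 0 < m)
    ⟨id, Nat.one_pos, Nat.mul_pos⟩ (F := F) fun U s x => ⟨U, 𝟙 U, n, ⟨x, rfl⟩, hn, hk U _⟩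
  have hTtors : EtCoh.IsTorsion T := fun U s x => by
    obtain ⟨V, g, m, hx, hm, hs⟩ := hkT U s x
    exact ⟨V, g, hx, isOfFinAddOrder_iff_nsmul_eq_zero.2 ⟨m, hm, hs⟩⟩
  obtain ⟨hfil, ⟨hc⟩, hD⟩ := EtCons.nonempty_isColimit_consCocone (fun _ => True) T (fun _ _ => trivial)
    (fun _ _ _ _ => trivial) (fun _ _ _ _ => trivial)
    (EtCons.exists_isConstructible.elim fun G hG => ⟨G, hG, trivial⟩) hTtors (EtCons.exists_gen_section hTtors)
  haveI := hfil
  obtain ⟨j, β, hβ⟩ := EtCons.Big.exists_lift_of_constructible hc hF e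
  obtain ⟨p, rfl⟩ : ∃ p, q = p + 1 := ⟨q - 1, by omega⟩
  have hT0 : Subsingleton ((EtCoh.HF X (p + 1)).obj T) :=
    EtColimH.subsingleton_ext_of_cac (W := EtCoh.top X) ⟨‹_›, ‹_›⟩ _ (EtColimH.constEquiv X)
      (fun φ ψ => rfl) p T hT
  have h0 : (EtCoh.HF X (p + 1)).map ((EtCons.consCocone (fun _ => True) T).ι.app j)
      ((EtCoh.HF X (p + 1)).map β α) = (EtCoh.HF X (p + 1)).map ((EtCons.consCocone (fun _ => True) T).ι.app j) 0 := by
    exact hT0.elim _ _
  haveI := EtColimH.preservesColimitsOfShape_HF X (p + 1) (EtCons.ConsOver (fun _ => True) T)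
  obtain ⟨k, a, ha⟩ := (IsColimit.eq_iff' (F := EtCons.consDiagram (fun _ => True) T ⋙ EtCoh.HF X (p + 1))
    (isColimitOfPreserves (EtCoh.HF X (p + 1)) hc) _ _).1 h0
  refine ⟨_, β ≫ (EtCons.consDiagram (fun _ => True) T).map a, (hD k).1, ?_, ?_⟩
  · haveI : Mono ((β ≫ (EtCons.consDiagram (fun _ => True) T).map a) ≫ (EtCons.consCocone (fun _ => True) T).ι.app k) := by
      have := (EtCons.consCocone (fun _ => True) T).w a
      rw [Category.assoc, this, hβ]
      exact he
    exact mono_of_mono _ ((EtCons.consCocone (fun _ => True) T).ι.app k)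
  · rw [Functor.map_comp, ConcreteCategory.comp_apply]
    exact ha.trans (map_zero _)

end Groth.Agent.S13504
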