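import Groth.Statements.S1351
import Groth.Agent.ValFP.Content
-- import your own Groth.Agent.* helpers here

set_option autoImplicit false
universe u
open FlatMor

namespace Groth.Agent.S1351

/-- Let A be a valuation ring, A → B a local homomorphism of local rings essentially of finite type, and
u : N → M a B-linear map of finite B-modules with M flat over A. If u is injective after tensoring
with the residue field of A (that is, modulo the maximal ideal of A), then u is injective and its
cokernel is flat over A. -/
theorem result {A B : Type u} [CommRing A] [IsDomain A] [ValuationRing A] [CommRing B] [IsLocalRing B]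
    [Algebra A B] [IsLocalHom (algebraMap A B)] [Algebra.EssFiniteType A B]
    {N M : Type u} [AddCommGroup N] [Module B N] [Module A N] [IsScalarTower A B N] [Module.Finite B N]
    [AddCommGroup M] [Module B M] [Module A M] [IsScalarTower A B M] [Module.Finite B M] [Module.Flat A M]
    (u : N →ₗ[B] M)
    (hu : Function.Injective (Submodule.mapQ (IsLocalRing.maximalIdeal A • ⊤ : Submodule A N) (IsLocalRing.maximalIdeal A • ⊤ : Submodule A M) (u.restrictScalars A)
      (fun n hn => Submodule.smul_top_le_comap_smul_top _ _ hn))) :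
    Function.Injective u ∧ Module.Flat A (M ⧸ LinearMap.range u) := by
  haveI : Module.IsTorsionFree A M := inferInstance
  haveI : Module.IsTorsionFree A (LinearMap.range u) :=
    Function.Injective.moduleIsTorsionFree (f := (Subtype.val : LinearMap.range u → M)) Subtype.val_injective fun _ _ => rfl
  haveI := Groth.Agent.ValFP.finitePresentation_local A B (LinearMap.range u)
  have hker : (LinearMap.ker u).FG := by
    have := Module.FinitePresentation.fg_ker u.rangeRestrict u.surjective_rangeRestrict
    rwa [LinearMap.ker_rangeRestrict] at this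
  -- elements sent into `m M` lie in `m N`
  have hmem : ∀ n, u n ∈ (IsLocalRing.maximalIdeal A • ⊤ : Submodule A M) →
      n ∈ (IsLocalRing.maximalIdeal A • ⊤ : Submodule A N) := fun n hn => by
    rw [← Submodule.Quotient.mk_eq_zero]
    apply hu
    rw [map_zero, Submodule.mapQ_apply, Submodule.Quotient.mk_eq_zero]
    exact hn
  have hle : LinearMap.ker u ≤ IsLocalRing.maximalIdeal B • LinearMap.ker u := fun n hn => by
    obtain ⟨π, hπ, n', rfl⟩ := Groth.Agent.ValFP.exists_smul_of_mem_smul_top
      (hmem n (by rw [LinearMap.mem_ker.mp hn]; exact zero_mem _))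
    rcases eq_or_ne π 0 with rfl | hπ0
    · rw [zero_smul]; exact zero_mem _
    rw [← algebraMap_smul B π n']
    refine Submodule.smul_mem_smul (map_nonunit (algebraMap A B) π hπ) ?_
    rw [LinearMap.mem_ker, LinearMap.map_smul_of_tower, smul_eq_zero] at hn
    exact hn.resolve_left hπ0
  have hinj : Function.Injective u := LinearMap.ker_eq_bot.mp
    (Submodule.eq_bot_of_le_smul_of_le_jacobson_bot _ _ hker hle
      (IsLocalRing.maximalIdeal_le_jacobson _))
  refine ⟨hinj, ?_⟩
  haveI : Module.IsTorsionFree A N :=
    Function.Injective.moduleIsTorsionFree (f := u) hinj fun a n => LinearMap.map_smul_of_tower u a n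
  rw [Module.Flat.flat_iff_torsion_eq_bot_of_isBezout, eq_bot_iff]
  intro w hw
  obtain ⟨w, rfl⟩ := Submodule.Quotient.mk_surjective _ w
  obtain ⟨⟨γ, hγ⟩, hw⟩ := (Submodule.mem_torsion_iff _).mp hw
  have hγ0 : γ ≠ 0 := nonZeroDivisors.ne_zero hγ
  rw [Submodule.mem_bot, Submodule.Quotient.mk_eq_zero]
  rw [Submonoid.mk_smul, ← Submodule.Quotient.mk_smul, Submodule.Quotient.mk_eq_zero] at hw
  obtain ⟨n, hn⟩ := hw
  rcases eq_or_ne n 0 with rfl | hn0
  · rw [map_zero, eq_comm, smul_eq_zero] at hn
    rw [hn.resolve_left hγ0]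
    exact zero_mem _
  obtain ⟨c, n', hc, rfl, hn'⟩ := Groth.Agent.ValFP.exists_content_local (V := A) B n hn0
  rw [LinearMap.map_smul_of_tower] at hn
  rcases ValuationRing.dvd_total γ c with ⟨e, rfl⟩ | ⟨e, rfl⟩
  · refine ⟨e • n', ?_⟩
    rw [LinearMap.map_smul_of_tower]
    rw [mul_smul] at hn
    exact smul_right_injective M hγ0 hn
  rw [mul_smul] at hn
  have hu' := smul_right_injective M hc hn
  by_cases he : IsUnit e
  · obtain ⟨e, rfl⟩ := he
    refine ⟨(↑e⁻¹ : A) • n', ?_⟩
    rw [LinearMap.map_smul_of_tower, hu', ← mul_smul, Units.inv_mul, one_smul]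
  obtain ⟨π, hπ, z, hz⟩ := Groth.Agent.ValFP.exists_smul_of_mem_smul_top
    (hmem n' (by rw [hu']; exact Submodule.smul_mem_smul ((IsLocalRing.mem_maximalIdeal e).mpr he) Submodule.mem_top))
  exact absurd hz (hn' π hπ z)

end Groth.Agent.S1351
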