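import Groth.Statements.S1352
import Mathlib
-- import your own Groth.Agent.* helpers here

set_option autoImplicit false
universe u
open FlatMor

namespace Groth.Agent.S1352

open MvPolynomial in
/-- For fixed degree bounds, a nonzero constant obstructs factorisations after any specialisation. -/
theorem exists_no_factor {A : Type u} [CommRing A] [IsDomain A] {n : ℕ} (P : MvPolynomial (Fin n) A)
    (hP : Irreducible (MvPolynomial.map (algebraMap A (AlgebraicClosure (FractionRing A))) P))
    (d₁ d₂ : ℕ) (h₁ : 1 ≤ d₁) (h₂ : d₁ + d₂ = P.totalDegree ∧ 1 ≤ d₂) :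
    ∃ a : A, a ≠ 0 ∧ ∀ (κ : Type u) [Field κ] (ψ : A →+* κ), ψ a ≠ 0 →
      ∀ q r : MvPolynomial (Fin n) κ, q.totalDegree ≤ d₁ → r.totalDegree ≤ d₂ →
        q * r ≠ MvPolynomial.map ψ P := by
  classical
  let ι₁ := {m : Fin n →₀ ℕ // m.sum (fun _ e => e) ≤ d₁}
  let ι₂ := {m : Fin n →₀ ℕ // m.sum (fun _ e => e) ≤ d₂}
  have hfin : ∀ d : ℕ, Finite {m : Fin n →₀ ℕ // m.sum (fun _ e => e) ≤ d} := fun d => by
    refine Finite.of_injective (fun m i => (⟨m.1 i, Nat.lt_succ_of_le (le_trans ?_ m.2)⟩ : Fin (d + 1))) ?_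
    · rcases eq_or_ne (m.1 i) 0 with h | h
      · rw [h]; exact Nat.zero_le _
      · exact Finset.single_le_sum (f := fun j => m.1 j) (fun j _ => Nat.zero_le _)
          (Finsupp.mem_support_iff.mpr h)
    · intro x y h
      refine Subtype.ext (Finsupp.ext fun i => ?_)
      exact congrArg Fin.val (congrFun h i)
  haveI : Fintype ι₁ := @Fintype.ofFinite _ (hfin d₁)
  haveI : Fintype ι₂ := @Fintype.ofFinite _ (hfin d₂)
  let T := MvPolynomial (ι₁ ⊕ ι₂) A
  let Q : MvPolynomial (Fin n) T := ∑ m : ι₁, monomial m.1 (X (Sum.inl m))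
  let R : MvPolynomial (Fin n) T := ∑ m : ι₂, monomial m.1 (X (Sum.inr m))
  let E := Q * R - MvPolynomial.map (C : A →+* T) P
  let I : Ideal T := Ideal.span (Set.range fun j : Fin n →₀ ℕ => coeff j E)
  -- evaluation of a factorisation
  have hev : ∀ (κ : Type u) [Field κ] (ψ : A →+* κ) (q r : MvPolynomial (Fin n) κ),
      q.totalDegree ≤ d₁ → r.totalDegree ≤ d₂ → q * r = MvPolynomial.map ψ P →
      ∃ θ : T →+* κ, θ.comp C = ψ ∧ I ≤ RingHom.ker θ := by
    intro κ _ ψ q r hq hr hqr
    let v : ι₁ ⊕ ι₂ → κ := Sum.elim (fun m => coeff m.1 q) (fun m => coeff m.1 r)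
    refine ⟨eval₂Hom ψ v, RingHom.ext fun a => eval₂_C _ _ _, ?_⟩
    have hsum : ∀ (p : MvPolynomial (Fin n) κ) (d : ℕ) [Fintype {m : Fin n →₀ ℕ // m.sum (fun _ e => e) ≤ d}],
        p.totalDegree ≤ d → (∑ m : {m : Fin n →₀ ℕ // m.sum (fun _ e => e) ≤ d}, monomial m.1 (coeff m.1 p)) = p := by
      intro p d _ hp
      ext j
      rw [coeff_sum]
      simp only [coeff_monomial]
      by_cases hj : j.sum (fun _ e => e) ≤ d
      · rw [Finset.sum_eq_single ⟨j, hj⟩ (fun b _ hb => if_neg fun h => hb (Subtype.ext h))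
          (fun h => (h (Finset.mem_univ _)).elim), if_pos rfl]
      · rw [Finset.sum_eq_zero fun b _ => if_neg fun h : b.1 = j => hj (le_of_eq_of_le (by rw [← h]) b.2)]
        refine (notMem_support_iff.mp fun h => hj ?_).symm
        exact (le_totalDegree h).trans hp
    have hE : MvPolynomial.map (eval₂Hom ψ v) E = 0 := by
      simp only [E, Q, R, map_sub, map_mul, map_sum, map_monomial, eval₂Hom_X', v, Sum.elim_inl, Sum.elim_inr]
      rw [hsum q d₁ hq, hsum r d₂ hr, hqr, MvPolynomial.map_map]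
      rw [show (eval₂Hom ψ v).comp (C : A →+* T) = ψ from RingHom.ext fun a => eval₂_C _ _ _, sub_self]
    rw [Ideal.span_le]
    rintro _ ⟨j, rfl⟩
    change eval₂Hom ψ v (coeff j E) = 0
    rw [← coeff_map, hE, coeff_zero]
  by_cases hI : ∃ a : A, a ≠ 0 ∧ C a ∈ I
  · obtain ⟨a, ha, haI⟩ := hI
    refine ⟨a, ha, fun κ _ ψ hψ q r hq hr hqr => ?_⟩
    obtain ⟨θ, hθ, hle⟩ := hev κ ψ q r hq hr hqr
    exact hψ (by rw [← hθ]; exact hle haI)
  exfalso
  push Not at hI
  -- a point over the algebraic closure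
  letI : Algebra T (MvPolynomial (ι₁ ⊕ ι₂) (FractionRing A)) := MvPolynomial.algebraMvPolynomial
  have hne : I.map (algebraMap T (MvPolynomial (ι₁ ⊕ ι₂) (FractionRing A))) ≠ ⊤ := by
    rw [IsLocalization.map_algebraMap_ne_top_iff_disjoint ((nonZeroDivisors A).map (C : A →+* T))]
    rw [Set.disjoint_left]
    rintro _ ⟨a, ha, rfl⟩ h
    exact hI a (nonZeroDivisors.ne_zero ha) h
  obtain ⟨M, hM, hMle⟩ := Ideal.exists_le_maximal _ hne
  let L := MvPolynomial (ι₁ ⊕ ι₂) (FractionRing A) ⧸ M
  letI : Field L := Ideal.Quotient.field M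
  haveI : Algebra.FiniteType (FractionRing A) L :=
    Algebra.FiniteType.of_surjective (Ideal.Quotient.mkₐ _ M) Ideal.Quotient.mk_surjective
  haveI : Module.Finite (FractionRing A) L := finite_of_finite_type_of_isJacobsonRing _ L
  let σ : L →ₐ[FractionRing A] AlgebraicClosure (FractionRing A) := IsAlgClosed.lift
  let θ : T →+* AlgebraicClosure (FractionRing A) :=
    σ.toRingHom.comp ((Ideal.Quotient.mk M).comp (algebraMap T (MvPolynomial (ι₁ ⊕ ι₂) (FractionRing A))))
  have hθC : θ.comp (C : A →+* T) = algebraMap A (AlgebraicClosure (FractionRing A)) := by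
    ext a
    simp only [θ, RingHom.comp_apply, MvPolynomial.algebraMap_def, MvPolynomial.map_C]
    rw [IsScalarTower.algebraMap_apply A (FractionRing A) (AlgebraicClosure (FractionRing A))]
    change σ (Ideal.Quotient.mk M (MvPolynomial.map (algebraMap A (FractionRing A)) (C a))) = _
    rw [MvPolynomial.map_C]
    exact σ.commutes _
  have hE : MvPolynomial.map θ E = 0 := by
    ext j
    rw [coeff_map, coeff_zero]
    have : Ideal.Quotient.mk M (algebraMap T (MvPolynomial (ι₁ ⊕ ι₂) (FractionRing A)) (coeff j E)) = 0 :=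
      Ideal.Quotient.eq_zero_iff_mem.mpr (hMle (Ideal.mem_map_of_mem _ (Ideal.subset_span ⟨j, rfl⟩)))
    simp only [θ, RingHom.comp_apply, this, map_zero]
  have hdeg : ∀ (d : ℕ) [Fintype {m : Fin n →₀ ℕ // m.sum (fun _ e => e) ≤ d}]
      (c : {m : Fin n →₀ ℕ // m.sum (fun _ e => e) ≤ d} → T),
      (MvPolynomial.map θ (∑ m, monomial m.1 (c m))).totalDegree ≤ d := by
    intro d _ c
    rw [map_sum]
    refine totalDegree_finsetSum_le fun m _ => ?_
    rw [map_monomial]
    exact (totalDegree_monomial_le _ _).trans m.2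
  have hq1 : (MvPolynomial.map θ Q).totalDegree ≤ d₁ := hdeg d₁ _
  have hr1 : (MvPolynomial.map θ R).totalDegree ≤ d₂ := hdeg d₂ _
  rw [show E = Q * R - MvPolynomial.map (C : A →+* T) P from rfl, map_sub, sub_eq_zero, map_mul,
    MvPolynomial.map_map, hθC] at hE
  have hinj : Function.Injective (algebraMap A (AlgebraicClosure (FractionRing A))) := by
    rw [IsScalarTower.algebraMap_eq A (FractionRing A)]
    exact (algebraMap (FractionRing A) _).injective.comp (IsFractionRing.injective A _)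
  have hdP : (MvPolynomial.map (algebraMap A (AlgebraicClosure (FractionRing A))) P).totalDegree =
      P.totalDegree := by
    simp only [totalDegree, support_map_of_injective _ hinj]
  have hq0 : MvPolynomial.map θ Q ≠ 0 := fun h => hP.ne_zero (by rw [← hE, h, zero_mul])
  have hr0 : MvPolynomial.map θ R ≠ 0 := fun h => hP.ne_zero (by rw [← hE, h, mul_zero])
  rw [← hE] at hdP hP
  rw [totalDegree_mul_of_isDomain hq0 hr0] at hdP
  rcases hP.isUnit_or_isUnit rfl with h | h <;>
    obtain ⟨c, -, hc⟩ := isUnit_iff_eq_C_of_isReduced.mp h <;>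
    have h0 := congrArg MvPolynomial.totalDegree hc <;>
    rw [totalDegree_C] at h0 <;> omega


/-- For a domain A and a polynomial P in finitely many variables over A which is irreducible over an
algebraic closure of the fraction field of A: Then there is a nonzero f in A such that for every
ring map from A[1/f] to a field (in the same universe) the image of P is irreducible. (The source
leaves the nonvanishing of f implicit; for f = 0 the conclusion would be vacuous.) -/
theorem result {A : Type u} [CommRing A] [IsDomain A] {n : ℕ} (P : MvPolynomial (Fin n) A)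
    (hP : Irreducible (MvPolynomial.map (algebraMap A (AlgebraicClosure (FractionRing A))) P)) :
    ∃ f : A, f ≠ 0 ∧ ∀ (κ : Type u) [Field κ] (φ : Localization.Away f →+* κ),
      Irreducible (MvPolynomial.map (φ.comp (algebraMap A (Localization.Away f))) P) := by
  classical
  let K := FractionRing A
  let Kb := AlgebraicClosure (FractionRing A)
  let ι := algebraMap A Kb
  let d := P.totalDegree
  have hι : Function.Injective ι := by
    rw [show ι = (algebraMap K Kb).comp (algebraMap A K) from IsScalarTower.algebraMap_eq A K Kb]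
    exact (algebraMap K Kb).injective.comp (IsFractionRing.injective A K)
  have hP0 : P ≠ 0 := fun h => hP.ne_zero (by rw [h, map_zero])
  obtain ⟨m₀, hm₀, hm₀d⟩ := P.support.exists_mem_eq_sup (MvPolynomial.support_nonempty.mpr hP0) (fun s => s.sum fun _ e => e)
  have hc0 : MvPolynomial.coeff m₀ P ≠ 0 := MvPolynomial.mem_support_iff.mp hm₀
  have hd : 1 ≤ d := by
    by_contra h
    have h0 : d = 0 := by omega
    obtain ⟨c, hc⟩ : ∃ c, P = MvPolynomial.C c :=
      ⟨_, MvPolynomial.totalDegree_eq_zero_iff_eq_C.mp h0⟩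
    refine hP.not_isUnit ?_
    rw [hc, MvPolynomial.map_C]
    refine (isUnit_iff_ne_zero.mpr fun h1 => hP0 ?_).map MvPolynomial.C
    rw [hc, show c = 0 from hι (h1.trans (map_zero _).symm), map_zero]
  have key : ∀ i ∈ Finset.Ico 1 d, ∃ a : A, a ≠ 0 ∧ ∀ (κ : Type u) [Field κ] (ψ : A →+* κ), ψ a ≠ 0 →
      ∀ q r : MvPolynomial (Fin n) κ, q.totalDegree ≤ i → r.totalDegree ≤ d - i →
        q * r ≠ MvPolynomial.map ψ P :=
    fun i hi => exists_no_factor P hP i (d - i) (Finset.mem_Ico.mp hi).1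
      (by have := (Finset.mem_Ico.mp hi).2; omega)
  choose a ha hkey using key
  refine ⟨MvPolynomial.coeff m₀ P * ∏ i ∈ (Finset.Ico 1 d).attach, a i.1 i.2,
    mul_ne_zero hc0 (Finset.prod_ne_zero_iff.mpr fun i _ => ha i.1 i.2), fun κ _ φ => ?_⟩
  let ψ := φ.comp (algebraMap A (Localization.Away (MvPolynomial.coeff m₀ P * ∏ i ∈ (Finset.Ico 1 d).attach, a i.1 i.2)))
  have hu : ψ (MvPolynomial.coeff m₀ P * ∏ i ∈ (Finset.Ico 1 d).attach, a i.1 i.2) ≠ 0 :=
    ((IsLocalization.Away.algebraMap_isUnit _).map φ).ne_zero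
  rw [map_mul, map_prod, mul_ne_zero_iff, Finset.prod_ne_zero_iff] at hu
  have hdeg : (MvPolynomial.map ψ P).totalDegree = d := by
    refine le_antisymm ?_ ?_
    · exact Finset.sup_mono (MvPolynomial.support_map_subset ψ P)
    · refine le_trans (le_of_eq ?_) (MvPolynomial.le_totalDegree (s := m₀)
        (MvPolynomial.mem_support_iff.mpr (by rw [MvPolynomial.coeff_map]; exact hu.1)))
      exact hm₀d
  have hunit : ∀ q : MvPolynomial (Fin n) κ, q ≠ 0 → q.totalDegree = 0 → IsUnit q := fun q hq h0 => by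
    rw [MvPolynomial.totalDegree_eq_zero_iff_eq_C.mp h0] at hq ⊢
    exact (isUnit_iff_ne_zero.mpr fun h => hq (by rw [h, map_zero])).map MvPolynomial.C
  have hne : MvPolynomial.map ψ P ≠ 0 := fun h => by
    rw [h, MvPolynomial.totalDegree_zero] at hdeg; omega
  refine ⟨fun hU => ?_, fun {q r} hqr => ?_⟩
  · obtain ⟨s, hs⟩ := MvPolynomial.isUnit_iff_eq_C_of_isReduced.mp hU
    have : (MvPolynomial.map ψ P).totalDegree = 0 := by
      rw [hs.2, MvPolynomial.totalDegree_C]
    omega
  · by_contra hcon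
    push Not at hcon
    obtain ⟨hq, hr⟩ := hcon
    have hq0 : q ≠ 0 := fun h => hne (by rw [hqr, h, zero_mul])
    have hr0 : r ≠ 0 := fun h => hne (by rw [hqr, h, mul_zero])
    have hq1 : 1 ≤ q.totalDegree := Nat.pos_of_ne_zero fun h => hq (hunit q hq0 h)
    have hr1 : 1 ≤ r.totalDegree := Nat.pos_of_ne_zero fun h => hr (hunit r hr0 h)
    have hsum : q.totalDegree + r.totalDegree = d := by
      rw [← MvPolynomial.totalDegree_mul_of_isDomain hq0 hr0, ← hqr, hdeg]
    have hi : q.totalDegree ∈ Finset.Ico 1 d := Finset.mem_Ico.mpr ⟨hq1, by omega⟩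
    exact hkey _ hi κ ψ (hu.2 ⟨_, hi⟩ (Finset.mem_attach _ _)) q r le_rfl (by omega) hqr.symm

end Groth.Agent.S1352
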