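import Groth.Statements.S13530
import Groth.Agent.ResExtend.Generator

set_option autoImplicit false
set_option backward.isDefEq.respectTransparency false
set_option linter.style.haveILetI false
universe u
open CategoryTheory CategoryTheory.Limits AlgebraicGeometry
open ResProp

namespace Groth.Agent.S13530

/-- On a quasi-compact quasi-separated scheme there is a finitely presented quasi-coherent module F such
that every finitely presented quasi-coherent module is a quotient of a finite direct sum of copies
of a tensor power of F; more precisely, for all sufficiently large n and m there is an epimorphism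
from the direct sum of m copies of the n-th tensor power of F. -/
theorem result (X : Scheme.{u}) [CompactSpace X] [QuasiSeparatedSpace X] :
    ∃ F : X.Modules, Coh.IsQCoh F ∧ CohB1.IsFP F ∧
      ∀ M : X.Modules, Coh.IsQCoh M → CohB1.IsFP M →
        ∃ n₀ m₀ : ℕ, ∀ n m : ℕ, n₀ ≤ n → m₀ ≤ m →
          ∃ π : (∐ fun _ : Fin m => CohB1.tensorPow F n) ⟶ M, Epi π := by
  classical
  obtain ⟨ι, _, U, hU, -, hcov⟩ := Groth.Agent.QC.exists_finite_affine_cover (X := X) (W := ⊤) isCompact_univ
  let e := Fintype.equivFin ι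
  let U' : Fin (Fintype.card ι) → X.Opens := fun a => U (e.symm a)
  choose P σ hP hP' hD he using fun a => Groth.Agent.ResExtend.exists_fp_cosection (hU (e.symm a))
  obtain ⟨F, q₀, i₀, hF, hF', h0, h⟩ := Groth.Agent.ResExtend.exists_sum_retracts P hP hP' Finset.univ
  choose q i hqi using fun a => h a (Finset.mem_univ a)
  refine ⟨F, hF, hF', fun M hM hM' => ?_⟩
  have hMT : CohB1.IsFT M := Groth.Agent.ResExtend.isFT_of_fp hM hM'
  choose N k hN using fun a => Groth.Agent.ResExtend.exists_gen_maps (q a ≫ σ a) hF hF' (hU (e.symm a))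
    (fun V t => hD a V ((q a).app V t))
    (by
      obtain ⟨y, hy⟩ := he a
      exact ⟨(i a).app _ y, (congrArg (fun φ : P a ⟶ P a => Groth.Agent.ResExtend.sev (σ a) _ (φ.app _ y))
        (hqi a)).trans hy⟩) M hM hMT
  refine ⟨Finset.univ.sup N, ∑ a, k a, fun n m hn hm => ?_⟩
  choose φ hφ using fun a => hN a n ((Finset.le_sup (Finset.mem_univ a)).trans hn)
  obtain ⟨g⟩ : Nonempty ((Σ a, Fin (k a)) ↪ Fin m) := by
    refine Function.Embedding.nonempty_of_card_le ?_
    simpa using hm
  let p : Fin m → (CohB1.tensorPow F n ⟶ M) := fun l =>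
    if hl : ∃ a, g a = l then φ hl.choose.1 hl.choose.2 else 0
  refine ⟨Sigma.desc p, Groth.Agent.ResExtend.epi_desc_of_span hM _ p (fun a => U (e.symm a))
    (fun a => hU _) (fun x => by
      obtain ⟨a, ha⟩ := hcov x trivial
      exact ⟨e a, by rwa [Equiv.symm_apply_apply]⟩) fun a => top_le_iff.mp ((hφ a).symm.trans_le ?_)⟩
  refine Submodule.span_mono (Set.iUnion_subset fun l => ?_)
  have hl : ∃ b, g b = g ⟨a, l⟩ := ⟨_, rfl⟩
  have hp : p (g ⟨a, l⟩) = φ a l := by
    have hc : hl.choose = ⟨a, l⟩ := g.injective hl.choose_spec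
    simp only [p, dif_pos hl]
    rw [hc]
  intro z hz
  exact Set.mem_iUnion.2 ⟨g ⟨a, l⟩, hp ▸ hz⟩

end Groth.Agent.S13530
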