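import Groth.Statements.S13535
import Groth.Agent.CohBig.FinitePull

set_option autoImplicit false
set_option backward.isDefEq.respectTransparency false
universe u
open CategoryTheory CategoryTheory.Limits AlgebraicGeometry
open ResProp

namespace Groth.Agent.S13535

/-- Let X and Y be proper over a Noetherian ring A and let f : Y ⟶ X be a finite A-morphism. If a
sequence (E_n) of coherent modules on X is cohomologically d-ample (d a positive integer), meaning
that for every coherent F the groups H^i(X, F ⊗ E_n) vanish for all i ≥ d + 1 and all large n, then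
so is the sequence of pullbacks (f^*E_n) on Y. -/
theorem result (A : Type u) [CommRing A] [IsNoetherianRing A]
    {X Y : Scheme.{u}} (pX : X ⟶ Spec (CommRingCat.of A)) (pY : Y ⟶ Spec (CommRingCat.of A))
    [IsProper pX] [IsProper pY] (f : Y ⟶ X) (hf : f ≫ pX = pY) [IsFinite f]
    (d : ℕ) (hd : 0 < d) (E : ℕ → X.Modules) (hE : ∀ n, Coh.IsCoh (E n))
    (hamp : ∀ F : X.Modules, Coh.IsCoh F → ∃ n₀ : ℕ, ∀ n : ℕ, n₀ ≤ n → ∀ i : ℕ, d + 1 ≤ i →
        Subsingleton (Coh.HH X (CohB1.tensorMod F (E n)) i)) :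
    ∀ F : Y.Modules, Coh.IsCoh F → ∃ n₀ : ℕ, ∀ n : ℕ, n₀ ≤ n → ∀ i : ℕ, d + 1 ≤ i →
        Subsingleton (Coh.HH Y (CohB1.tensorMod F ((Scheme.Modules.pullback f).obj (E n))) i) := by
  have hXc : CompactSpace X := QuasiCompact.compactSpace_of_compactSpace pX
  have hYc : CompactSpace Y := QuasiCompact.compactSpace_of_compactSpace pY
  have hXl : IsLocallyNoetherian X := LocallyOfFiniteType.isLocallyNoetherian pX
  have hYl : IsLocallyNoetherian Y := LocallyOfFiniteType.isLocallyNoetherian pY
  have : IsNoetherian X := {}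
  have : IsNoetherian Y := {}
  intro F hF
  obtain ⟨n₀, hn₀⟩ := hamp _ (W7Exist.isCoh_push_proper f hF)
  exact ⟨n₀, fun n hn i hi => CohBig.hh_of_finite_pull f hF (hE n) i (hn₀ n hn i hi)⟩

end Groth.Agent.S13535
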