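import Groth.Statements.S13536
import Groth.Agent.CohBig.SuppVan

set_option autoImplicit false
set_option backward.isDefEq.respectTransparency false
universe u
open CategoryTheory CategoryTheory.Limits AlgebraicGeometry
open ResProp

namespace Groth.Agent.S13536

/-- On a Noetherian scheme X let Z be a closed subscheme of cohomological dimension at most k (every
quasi-coherent module on Z has zero cohomology in degrees ≥ k + 1) and let F, F' be coherent modules
which are isomorphic on the open complement of Z. Then H^i(X, F) and H^i(X, F') are isomorphic for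
all i ≥ k + 2 (existence of an additive isomorphism only; the identification depends on choices). -/
theorem result (X : Scheme.{u}) [IsNoetherian X]
    {Z : Scheme.{u}} (ι : Z ⟶ X) [IsClosedImmersion ι] (k : ℕ)
    (hcd : ∀ G : Z.Modules, Coh.IsQCoh G → ∀ i : ℕ, k + 1 ≤ i → Subsingleton (Coh.HH Z G i))
    (U : X.Opens) (hU : (U : Set X) = (Set.range ι.base)ᶜ)
    (F F' : X.Modules) (hF : Coh.IsCoh F) (hF' : Coh.IsCoh F')
    (hiso : Nonempty (F.restrict U.ι ≅ F'.restrict U.ι)) (i : ℕ) (hi : k + 2 ≤ i) :
    Nonempty (Coh.HH X F i ≃+ Coh.HH X F' i) := by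
  obtain ⟨e⟩ := hiso
  obtain ⟨B, a, b, ha, hB, hia, hb⟩ := W7Hull.exists_extend_hom hF.1 hF'.1 U e.hom
  haveI := ha
  haveI := hia
  haveI : IsIso ((Scheme.Modules.restrictFunctor U.ι).map b) := by
    rw [hb]
    exact IsIso.comp_isIso' hia inferInstance
  have hBc : Coh.IsCoh B := QC.isCoh_of_mono a hF hB
  have hK : ∀ M : X.Modules, Coh.IsCoh M → (∀ x ∈ U, Subsingleton (M.presheaf.stalk x)) →
      ∀ j, k + 1 ≤ j → Subsingleton (Coh.HH X M j) := fun M hM h j hj =>
    CohBig.hh_vanish_supp ι hcd M hM (fun x hx => by_contra fun hx' =>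
      hx (h x (show x ∈ (U : Set X) from hU ▸ hx'))) j hj
  obtain ⟨e₁⟩ := CohBig.bijective_map_of_small a U hK hBc hF
    (fun x hx => CohBig.bijective_st_of_isIso_restrict a U hx) hi
  obtain ⟨e₂⟩ := CohBig.bijective_map_of_small b U hK hBc hF'
    (fun x hx => CohBig.bijective_st_of_isIso_restrict b U hx) hi
  exact ⟨e₁.symm.trans e₂⟩

end Groth.Agent.S13536
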