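import Groth.Statements.S13541
import Groth.Agent.ResExtend.BundleEmb

set_option autoImplicit false
set_option backward.isDefEq.respectTransparency false
set_option linter.style.haveILetI false
universe u
open CategoryTheory CategoryTheory.Limits AlgebraicGeometry
open ResProp

namespace Groth.Agent.S13541

/-- In the case of schemes, a Noetherian scheme S has the resolution property exactly when each affine
finite-type morphism X ⟶ S factors over S through a closed immersion of X into a vector bundle V(E)
= Spec Sym(E), E a finite locally free module on S (V(E) is given as the relative spectrum of a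
quasi-coherent algebra A with a map E ⟶ A making A the symmetric algebra of E). (The published
statement is for Noetherian algebraic stacks; this row is the case of schemes.) -/
theorem result (S : Scheme.{u}) [IsNoetherian S] :
    PerfAux.HasResolutionProperty S ↔
      ∀ (X : Scheme.{u}) (f : X ⟶ S) [IsAffineHom f] [LocallyOfFiniteType f],
        ∃ (E : S.Modules) (A : RelSpec.QCAlg S) (j : E ⟶ A.toModule) (i : X ⟶ A.spec),
          Coh.IsQCoh E ∧ FlatMod.IsFinLocFree E ∧ RelSpec.IsSymAlg E A j ∧ IsClosedImmersion i ∧ i ≫ A.π = f := by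
  classical
  refine ⟨fun h X f _ _ => ?_, fun h M hM hMT => ?_⟩
  · obtain ⟨κ, hκ, U, hU, -, hcov⟩ := Groth.Agent.QC.exists_finite_affine_cover (X := S) (W := ⊤)
      (by simpa using isCompact_univ)
    haveI := hκ
    choose T hT using fun b => Groth.Agent.ResExtend.exists_finset_gen f (hU b)
    haveI : (RelSpec.QCAlg.directImage f).toModule.IsQuasicoherent :=
      Groth.Agent.QCSup.isQCoh_toModule _
    obtain ⟨P, hP, hs⟩ := Groth.Agent.SymAlg.exists_ft_containing (F := (RelSpec.QCAlg.directImage f).toModule)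
      (κ := Σ b, T b) (fun p => ⟨U p.1, hU p.1⟩) (fun p => p.2.1)
    obtain ⟨hq, hft⟩ := Groth.Agent.QC.Sub.isCoh_toModules hP
    obtain ⟨E, π, hE, hπ⟩ := h P.toModules hq hft
    have hEq : Coh.IsQCoh E := Groth.Agent.LocFree.isQCoh_of_isFinLocFree hE
    have hcov' : ∀ x, ∃ b, x ∈ U b := fun x => hcov x trivial
    obtain ⟨B, j, c, hB, hc, hcπ⟩ := Groth.Agent.ResExtend.exists_closedImm f hEq (π ≫ P.ι) U hU hcov'
      fun b => Groth.Agent.ResExtend.closure_eq_top_of_subset _ (hT b) fun t ht => by
        obtain ⟨a, ha⟩ := (P.range_ι_app _ _).2 (hs ⟨b, t, ht⟩)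
        obtain ⟨e, he⟩ := Groth.Agent.QC.app_surjective_of_epi (hU b) hEq hq π a
        exact ⟨e, (congrArg (P.ι.app (U b)) he).trans ha⟩
    exact ⟨E, B, j, c, hEq, hE, hB, hc, hcπ⟩
  · obtain ⟨Y, f, hf, hft, H⟩ := Groth.Agent.ResExtend.exists_thickening M hM
    haveI := hf
    haveI := hft hMT
    obtain ⟨E, A, j, i, hEq, hE, hA, hi, hiπ⟩ := h Y f
    obtain ⟨θ, hθ⟩ := H E A j i hEq hA hi hiπ
    exact ⟨E, θ, hE, hθ⟩

end Groth.Agent.S13541
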