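import Groth.Statements.S13543
import Groth.Agent.ResExtend.BundleEmb

set_option autoImplicit false
set_option backward.isDefEq.respectTransparency false
set_option linter.style.haveILetI false
universe u
open CategoryTheory CategoryTheory.Limits AlgebraicGeometry
open ResProp

namespace Groth.Agent.S13543

/-- In the case of schemes, on a quasi-compact quasi-separated scheme X let (E_i) be a family of
finitely presented quasi-coherent modules closed (up to isomorphism) under binary tensor products
and binary direct sums. Then (E_i) is a generating family, i.e. every quasi-coherent module is a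
quotient of a direct sum of copies of the E_i, if and only if every affine morphism Y ⟶ X factors
over X through a closed immersion of Y into the vector bundle V(E) = Spec Sym(E) of a direct sum E
of copies of members of the family, with finitely many summands whenever Y ⟶ X is of finite type
(V(E) is given as the relative spectrum of a quasi-coherent algebra that is the symmetric algebra of
E). (The published statement is for quasi-compact quasi-separated algebraic stacks and takes E to be
the direct sum of a subfamily without repeated members; this row is the case of schemes and allows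
repetitions, as the printed argument produces: for the generating family of free modules k, k^2,
k^3, … on a point and the affine morphism from the spectrum of a polynomial ring in uncountably many
variables, no direct sum of distinct members works.) -/
theorem result (X : Scheme.{u}) [CompactSpace X] [QuasiSeparatedSpace X]
    {ι : Type u} (E : ι → X.Modules) (hE : ∀ i, Coh.IsQCoh (E i) ∧ CohB1.IsFP (E i))
    (htens : ∀ i i' : ι, ∃ i'' : ι, Nonempty (E i'' ≅ CohB1.tensorMod (E i) (E i')))
    (hsum : ∀ i i' : ι, ∃ i'' : ι, Nonempty (E i'' ≅ E i ⊞ E i')) :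
    (∀ M : X.Modules, Coh.IsQCoh M → ∃ (κ : Type u) (j : κ → ι) (π : (∐ fun k : κ => E (j k)) ⟶ M), Epi π) ↔
    (∀ (Y : Scheme.{u}) (f : Y ⟶ X) [IsAffineHom f],
      ∃ (κ : Type u) (j : κ → ι) (B : RelSpec.QCAlg X) (φ : (∐ fun k : κ => E (j k)) ⟶ B.toModule) (c : Y ⟶ B.spec),
        RelSpec.IsSymAlg (∐ fun k : κ => E (j k)) B φ ∧ IsClosedImmersion c ∧ c ≫ B.π = f ∧
        (LocallyOfFiniteType f → Finite κ)) := by
  classical
  have hq : ∀ {κ : Type u} (j : κ → ι), Coh.IsQCoh (∐ fun k : κ => E (j k)) := fun {κ} j =>
    Groth.Agent.QC.isQCoh_colimit (Discrete.functor _) fun k => (hE (j k.as)).1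
  refine ⟨fun h Y f _ => ?_, fun h M hM => ?_⟩
  · have hA : Coh.IsQCoh (RelSpec.QCAlg.directImage f).toModule := Groth.Agent.QCSup.isQCoh_toModule _
    obtain ⟨κ, j, π, hπ⟩ := h _ hA
    obtain ⟨σ, hσ, U, hU, -, hcov⟩ := Groth.Agent.QC.exists_finite_affine_cover (X := X) (W := ⊤)
      (by simpa using isCompact_univ)
    haveI := hσ
    by_cases hf : LocallyOfFiniteType f
    · choose T hT using fun b => Groth.Agent.ResExtend.exists_finset_gen f (hU b)
      have hlift : ∀ (b : σ) (t : T b), ∃ (K : Finset κ) (a : ∀ k, Γ(E (j k), U b)),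
          π.app (U b) (∑ k ∈ K, (Sigma.ι (fun k => E (j k)) k).app (U b) (a k)) = t.1 := by
        intro b t
        obtain ⟨s, hs⟩ := Groth.Agent.QC.app_surjective_of_epi (hU b) (hq j) hA π t.1
        obtain ⟨K, a, rfl⟩ := Groth.Agent.ResExtend.exists_finset_sum (fun k => E (j k)) (hU b).isCompact s
        exact ⟨K, a, hs⟩
      choose K a ha using hlift
      let K' : Finset κ := Finset.univ.biUnion fun p : Σ b, T b => K p.1 p.2
      let incl : (∐ fun k : K' => E (j k.1)) ⟶ ∐ fun k : κ => E (j k) :=
        Sigma.desc fun k => Sigma.ι (fun k => E (j k)) k.1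
      obtain ⟨B, φ, c, hB, hc, hcπ⟩ := Groth.Agent.ResExtend.exists_closedImm f (hq fun k : K' => j k.1)
        (incl ≫ π) U hU (fun x => hcov x trivial) fun b =>
          Groth.Agent.ResExtend.closure_eq_top_of_subset _ (hT b) fun t ht => by
            have hsub : ∀ k ∈ K b ⟨t, ht⟩, k ∈ K' := fun k hk =>
              Finset.mem_biUnion.2 ⟨⟨b, t, ht⟩, Finset.mem_univ _, hk⟩
            refine ⟨∑ k ∈ (K b ⟨t, ht⟩).attach, (Sigma.ι (fun k : K' => E (j k.1)) ⟨k.1, hsub k.1 k.2⟩).app (U b)
              (a b ⟨t, ht⟩ k.1), ?_⟩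
            refine Eq.trans ?_ (ha b ⟨t, ht⟩)
            rw [map_sum, map_sum, ← Finset.sum_attach (K b ⟨t, ht⟩)]
            refine Finset.sum_congr rfl fun k _ => ?_
            change π.app (U b) ((Sigma.ι (fun k : K' => E (j k.1)) ⟨k.1, hsub k.1 k.2⟩ ≫ incl).app (U b)
              (a b ⟨t, ht⟩ k.1)) = _
            rw [Sigma.ι_desc]
      exact ⟨K', fun k => j k.1, B, φ, c, hB, hc, hcπ, fun _ => inferInstance⟩
    · obtain ⟨B, φ, c, hB, hc, hcπ⟩ := Groth.Agent.ResExtend.exists_closedImm f (hq j) π U hU
        (fun x => hcov x trivial) fun b => top_le_iff.1 fun y _ => by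
          obtain ⟨e, he⟩ := Groth.Agent.QC.app_surjective_of_epi (hU b) (hq j) hA π y
          exact Subring.subset_closure (Or.inr ⟨e, he⟩)
      exact ⟨κ, j, B, φ, c, hB, hc, hcπ, fun h' => absurd h' hf⟩
  · obtain ⟨Y, f, hf, -, H⟩ := Groth.Agent.ResExtend.exists_thickening M hM
    haveI := hf
    obtain ⟨κ, j, B, φ, c, hB, hc, hcπ, -⟩ := h Y f
    obtain ⟨θ, hθ⟩ := H _ B φ c (hq j) hB hc hcπ
    exact ⟨κ, j, θ, hθ⟩

end Groth.Agent.S13543
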