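import Groth.Statements.S13544
import Groth.Agent.VBLift.Glue
import Groth.Agent.PiSmooth.Main
import Groth.Agent.StratCoh.Main

set_option autoImplicit false
set_option backward.isDefEq.respectTransparency false
set_option linter.style.haveILetI false
universe u
open CategoryTheory CategoryTheory.Limits AlgebraicGeometry
open ResProp

namespace Groth.Agent.S13544

open TopologicalSpace

/-- Affine opens separating the components of a closed complement. -/
theorem exists_pieces {X : Scheme.{u}} [IsNoetherian X] (W : X.Opens) :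
    ∃ (n : ℕ) (U : Fin n → X.Opens), (∀ i, IsAffineOpen (U i)) ∧ (∀ i j, i ≠ j → U i ⊓ U j ≤ W) ∧
      (W : Set X)ᶜ ⊆ closure ((⋃ i, (U i : Set X)) ∩ (W : Set X)ᶜ) := by
  classical
  let C : Set X := (W : Set X)ᶜ
  obtain ⟨S, hSf, hSirr, hSclosed, hSU⟩ : ∃ S : Set (Set X), S.Finite ∧ (∀ Z ∈ S, IsIrreducible Z) ∧
      (∀ Z ∈ S, IsClosed Z) ∧ C = ⋃₀ S := by
    let h := NoetherianSpace.exists_finite_set_isClosed_irreducible (α := X) W.isOpen.isClosed_compl
    obtain ⟨S, h1, h2, h3, h4⟩ := h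
    exact ⟨S, h1, h3, h2, h4⟩
  obtain ⟨S', hS', hmax⟩ : ∃ S' ⊆ S, (∀ Z ∈ S, ∃ Z' ∈ S', Z ⊆ Z') ∧ ∀ Z ∈ S', ∀ Z' ∈ S', Z ⊆ Z' → Z = Z' := by
    refine ⟨{Z ∈ S | ∀ Z' ∈ S, Z ⊆ Z' → Z = Z'}, fun _ h => h.1, fun Z hZ => ?_, fun Z h Z' h' hle => h.2 Z' h'.1 hle⟩
    obtain ⟨Z', ⟨h1, h2⟩, h3⟩ := Set.Finite.exists_maximalFor (fun Z : Set X => Z) {T ∈ S | Z ⊆ T}
      (hSf.subset fun _ h => h.1) ⟨Z, hZ, subset_rfl⟩
    exact ⟨Z', ⟨h1, fun T hT hle => le_antisymm hle (h3 ⟨hT, h2.trans hle⟩ hle)⟩, h2⟩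
  haveI : Fintype S' := (hSf.subset hS').fintype
  have key : ∀ Z : S', ∃ U : X.Opens, IsAffineOpen U ∧ ((U : Set X) ∩ Z.1).Nonempty ∧
      ∀ Z' : S', Z' ≠ Z → Disjoint (U : Set X) Z'.1 := by
    intro Z
    have hc : IsClosed (⋃₀ (S' \ {Z.1})) := by
      rw [Set.sUnion_eq_biUnion]
      exact ((hSf.subset hS').subset Set.sdiff_subset).isClosed_biUnion fun T hT => hSclosed T (hS' hT.1)
    obtain ⟨x, hxZ, hx⟩ : ∃ x ∈ Z.1, x ∉ ⋃₀ (S' \ {Z.1}) := by
      by_contra hcon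
      push Not at hcon
      obtain ⟨T, hT, hle⟩ := isIrreducible_iff_sUnion_isClosed.1 (hSirr Z.1 (hS' Z.2))
        ((hSf.subset hS').subset Set.sdiff_subset).toFinset
        (fun T hT => hSclosed T (hS' ((Set.Finite.mem_toFinset _).1 hT).1))
        (by rw [Set.Finite.coe_toFinset]; exact hcon)
      rw [Set.Finite.mem_toFinset] at hT
      exact hT.2 (hmax.2 Z.1 Z.2 T hT.1 hle).symm
    obtain ⟨U, hU, hxU, hUle⟩ := exists_isAffineOpen_mem_and_subset (X := X) (x := x) (U := ⟨_, hc.isOpen_compl⟩) hx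
    exact ⟨U, hU, ⟨x, hxU, hxZ⟩, fun Z' hne => Set.disjoint_left.2 fun y hy hyZ =>
      hUle hy ⟨Z'.1, ⟨Z'.2, fun h => hne (Subtype.ext h)⟩, hyZ⟩⟩
  choose U hU hne hdisj using key
  let e := Fintype.equivFin S'
  refine ⟨_, fun i => U (e.symm i), fun i => hU _, fun i j hij y hy => ?_, fun x hx => ?_⟩
  · by_contra hyW
    obtain ⟨T, hT, hyT⟩ := hSU.le (show y ∈ C from hyW)
    obtain ⟨T', hT', hle⟩ := hmax.1 T hT
    rcases eq_or_ne (⟨T', hT'⟩ : S') (e.symm i) with h | h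
    · exact Set.disjoint_left.1 (hdisj (e.symm j) ⟨T', hT'⟩ fun h' => hij (e.symm.injective (h.symm.trans h')))
        hy.2 (hle hyT)
    · exact Set.disjoint_left.1 (hdisj (e.symm i) ⟨T', hT'⟩ h) hy.1 (hle hyT)
  · obtain ⟨T, hT, hxT⟩ := hSU.le (show x ∈ C from hx)
    obtain ⟨T', hT', hle⟩ := hmax.1 T hT
    let Z : S' := ⟨T', hT'⟩
    have h1 : T' ⊆ closure (T' ∩ (U Z : Set X)) :=
      subset_closure_inter_of_isPreirreducible_of_isOpen (hSirr T' (hS' hT')).2 (U Z).2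
        (by rw [Set.inter_comm]; exact hne Z)
    refine closure_mono ?_ (h1 (hle hxT))
    intro y hy
    exact ⟨Set.mem_iUnion.2 ⟨e Z, ((e.symm_apply_apply Z).symm ▸ hy.2 : y ∈ (U (e.symm (e Z)) : Set X))⟩, hSU.ge ⟨T', hS' hT', hy.1⟩⟩

/-- Let f : X' ⟶ X be a surjective closed immersion of Noetherian schemes which is an isomorphism over a
dense open, W the largest such open and Y its closed complement (the support of the kernel ideal).
Then W is contained in an open V such that V ∩ Y is dense in Y and underlies an affine closed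
subscheme of V, and every finite locally free module on the preimage of V is the pullback of a
finite locally free module on V. (The published statement also asserts that global sections of the
module on the preimage extend to sections of the lift; that clause is not restated.) -/
theorem result {X X' : Scheme.{u}} [IsNoetherian X] [IsNoetherian X']
    (f : X' ⟶ X) [IsClosedImmersion f] [Surjective f]
    (W : X.Opens) (hW : IsIso (f ∣_ W)) (hmax : ∀ W' : X.Opens, IsIso (f ∣_ W') → W' ≤ W) (hd : Dense (W : Set X)) :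
    ∃ V : X.Opens, W ≤ V ∧ (W : Set X)ᶜ ⊆ closure ((V : Set X) ∩ (W : Set X)ᶜ) ∧
      (∃ (T : Scheme.{u}) (g : T ⟶ (V : Scheme.{u})), IsClosedImmersion g ∧ IsAffine T ∧
        Set.range (g ≫ V.ι).base = (V : Set X) ∩ (W : Set X)ᶜ) ∧
      ∀ E' : (f ⁻¹ᵁ V : Scheme.{u}).Modules, FlatMod.IsFinLocFree E' →
        ∃ E : (V : Scheme.{u}).Modules, FlatMod.IsFinLocFree E ∧
          Nonempty ((Scheme.Modules.pullback (f ∣_ V)).obj E ≅ E') := by
  classical
  obtain ⟨n, U, hU, hsep, hdense⟩ := exists_pieces W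
  let C : Closeds X := ⟨(W : Set X)ᶜ, W.isOpen.isClosed_compl⟩
  let j := (Scheme.IdealSheafData.vanishingIdeal C).subschemeι
  have hr : Set.range j.base = (C : Set X) := StratCoh.range_red C
  let V : X.Opens := W ⊔ ⨆ i, U i
  have hmemV : ∀ x : X, x ∈ V ↔ x ∈ W ∨ ∃ i, x ∈ U i := fun x => by
    show x ∈ (W : Set X) ∪ _ ↔ _
    rw [Opens.coe_iSup, Set.mem_union, Set.mem_iUnion]
    rfl
  have hjV : IsAffineOpen (j ⁻¹ᵁ V) := by
    have e : j ⁻¹ᵁ V = ⨆ i, j ⁻¹ᵁ U i := Opens.ext (Set.ext fun t => by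
      show j t ∈ V ↔ _
      rw [Opens.coe_iSup, Set.mem_iUnion, hmemV]
      exact ⟨fun h => h.resolve_left (hr.le ⟨t, rfl⟩), Or.inr⟩)
    rw [e]
    refine IsAffineOpen.iSup_of_disjoint (fun i => (hU i).preimage j) fun i k hik => ?_
    change Disjoint (j ⁻¹ᵁ U i) (j ⁻¹ᵁ U k)
    rw [disjoint_iff]
    exact Opens.ext (Set.eq_empty_iff_forall_notMem.2 fun t ht => hr.le ⟨t, rfl⟩ (hsep i k hik ⟨ht.1, ht.2⟩))
  refine ⟨V, le_sup_left, hdense.trans (closure_mono (Set.inter_subset_inter_left _ fun x hx =>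
    (hmemV x).2 (Or.inr (Set.mem_iUnion.1 hx)))), ⟨_, j ∣_ V, inferInstance, hjV, ?_⟩, fun E' hE' => ?_⟩
  · refine Set.ext fun x => ⟨?_, fun hx => ?_⟩
    · rintro ⟨t, rfl⟩
      rw [morphismRestrict_ι]
      exact ⟨(show t.1 ∈ j ⁻¹ᵁ V from t.2), hr.le ⟨_, rfl⟩⟩
    · obtain ⟨t, rfl⟩ := hr.ge hx.2
      refine ⟨(⟨t, hx.1⟩ : (j ⁻¹ᵁ V : Scheme.Opens _)), ?_⟩
      rw [morphismRestrict_ι]
      rfl
  · haveI : NoetherianSpace V.toScheme := V.ι.isOpenEmbedding.isInducing.noetherianSpace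
    haveI : IsNoetherian V.toScheme :=
      { toIsLocallyNoetherian := isLocallyNoetherian_of_isOpenImmersion V.ι
        toCompactSpace := inferInstance }
    haveI : IsClosedImmersion (f ∣_ V) := RelPCS.isClosedImmersion_restr f V
    haveI : Surjective (f ∣_ V) := MorphismProperty.of_isPullback (P := @Surjective)
      (isPullback_morphismRestrict f V).flip ‹_›
    have hWV : V.ι ''ᵁ (V.ι ⁻¹ᵁ W) = W := by
      rw [Scheme.Hom.image_preimage_eq_opensRange_inf, Scheme.Opens.opensRange_ι]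
      exact inf_eq_right.2 le_sup_left
    haveI : IsIso ((f ∣_ V) ∣_ (V.ι ⁻¹ᵁ W)) := (VBLift.isIso_restrict_image f V _).2 (by rw [hWV]; exact hW)
    exact VBLift.exists_lift (f ∣_ V) (V.ι ⁻¹ᵁ W) (fun i => V.ι ⁻¹ᵁ U i)
      (fun i => IsAffineOpen.preimage_of_isOpenImmersion (hU i) V.ι (by
        rw [Scheme.Opens.opensRange_ι]
        exact fun x hx => (hmemV x).2 (Or.inr ⟨i, hx⟩)))
      (fun i k hik y hy => hsep i k hik hy) (fun y => (hmemV y.1).1 y.2) hE'

end Groth.Agent.S13544
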