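import Groth.Statements.S13545
import Groth.Agent.NilLiftAff.Basic
import Groth.Agent.PicFam.Separated
import Groth.Agent.TMul.AmpleComp

set_option autoImplicit false
set_option backward.isDefEq.respectTransparency false
set_option linter.style.haveILetI false
universe u
open CategoryTheory CategoryTheory.Limits AlgebraicGeometry
attribute [local instance] HasDerivedCategory.standard
open ResProp

namespace Groth.Agent.S13545

/-- Let f : X' ⟶ X be a surjective closed immersion of Noetherian schemes which is an isomorphism over a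
dense open, W the largest such open and Y its closed complement. Then W is contained in an open V
such that V ∩ Y is dense in Y and underlies an affine closed subscheme of V, and every ample family
of invertible modules on the preimage of V is, member by member up to isomorphism, the pullback
along f of an ample family of invertible modules on V. -/
theorem result {X X' : Scheme.{u}} [IsNoetherian X] [IsNoetherian X']
    (f : X' ⟶ X) [IsClosedImmersion f] [Surjective f]
    (W : X.Opens) (hW : IsIso (f ∣_ W)) (hmax : ∀ W' : X.Opens, IsIso (f ∣_ W') → W' ≤ W) (hd : Dense (W : Set X)) :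
    ∃ V : X.Opens, W ≤ V ∧ (W : Set X)ᶜ ⊆ closure ((V : Set X) ∩ (W : Set X)ᶜ) ∧
      (∃ (T : Scheme.{u}) (g : T ⟶ (V : Scheme.{u})), IsClosedImmersion g ∧ IsAffine T ∧
        Set.range (g ≫ V.ι).base = (V : Set X) ∩ (W : Set X)ᶜ) ∧
      ∀ (ι : Type u) (L' : ι → (f ⁻¹ᵁ V : Scheme.{u}).Modules), KSix.IsAmpleFamily L' →
        ∃ L : ι → (V : Scheme.{u}).Modules, KSix.IsAmpleFamily L ∧
          ∀ i : ι, Nonempty ((Scheme.Modules.pullback (f ∣_ V)).obj (L i) ≅ L' i) := by
  classical
  obtain ⟨V, hWV, hdense, T, g, hg, hT, hrange⟩ := Groth.Agent.NilLiftAff.exists_nbhd W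
  haveI := hg
  haveI := hT
  refine ⟨V, hWV, hdense, ⟨T, g, hg, hT, hrange⟩, fun ι L' hL' => ?_⟩
  haveI : IsNoetherian (V : Scheme.{u}) :=
    { toIsLocallyNoetherian := inferInstance
      toCompactSpace := isCompact_iff_compactSpace.1 (TopologicalSpace.NoetherianSpace.isCompact _) }
  let f' := f ∣_ V
  have hoff : Groth.Agent.NilLiftAff.off g = V.ι ⁻¹ᵁ W := by
    refine TopologicalSpace.Opens.ext (Set.ext fun v => ?_)
    change v ∉ Set.range g ↔ V.ι v ∈ W
    constructor
    · intro hv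
      by_contra hW'
      obtain ⟨t, ht⟩ := hrange.ge ⟨v.2, hW'⟩
      exact hv ⟨t, V.ι.isOpenEmbedding.injective ht⟩
    · rintro hv ⟨t, rfl⟩
      exact (hrange.le ⟨t, rfl⟩).2 hv
  haveI : IsIso (f' ∣_ Groth.Agent.NilLiftAff.off g) := by
    rw [hoff]
    have himg : V.ι ''ᵁ (V.ι ⁻¹ᵁ W) = W := by
      rw [Scheme.Hom.image_preimage_eq_opensRange_inf, Scheme.Opens.opensRange_ι, inf_eq_right.mpr hWV]
    refine ((MorphismProperty.isomorphisms Scheme.{u}).arrow_mk_iso_iff
      (morphismRestrictRestrict f V (V.ι ⁻¹ᵁ W))).2 ?_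
    rw [himg]
    exact hW
  haveI : IsClosedImmersion f' := inferInstance
  haveI : Surjective f' := IsZariskiLocalAtTarget.restrict ‹Surjective f› V
  obtain ⟨k, hk⟩ := Groth.Agent.NilLiftAff.exists_pow_ker_eq_bot f'
  obtain ⟨-, -, hinv, hamp⟩ := hL'
  choose d hd hdc using fun i => Groth.Agent.NilLiftAff.exists_lift_invertible k g f' hk ‹_› (PicF.cl (L' i))
    ⟨L' i, rfl, hinv i⟩
  choose L hLd hL using hd
  have hiso : ∀ i, Nonempty ((Scheme.Modules.pullback f').obj (L i) ≅ L' i) := fun i => by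
    refine Groth.Agent.PicFam.nonempty_iso_of_cl_eq ?_
    rw [← hdc i, ← hLd i]
    rfl
  refine ⟨L, ⟨inferInstance,
    ⟨fun _ _ _ _ _ _ => TopologicalSpace.NoetherianSpace.isCompact _⟩, hL, fun x => ?_⟩, hiso⟩
  obtain ⟨y, rfl⟩ := f'.surjective x
  obtain ⟨i, n, s, hy, haff⟩ := hamp y
  obtain ⟨ψ₀⟩ := hiso i
  obtain ⟨ψ₁⟩ := Groth.Agent.FreeCurve.nonempty_pullPow f' (L i) (n + 1)
  obtain ⟨ψ₂⟩ := TMul.nonempty_powCongr ψ₀ (n + 1)
  let ψ := ψ₁ ≪≫ ψ₂
  let s'' := s ≫ ψ.inv
  have hN : PicF.IsInvertible (CohB1.tensorPow (L i) (n + 1)) := TMul.isInvertible_tensorPow (hL i) _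
  obtain ⟨m, hm⟩ := Groth.Agent.NilLiftAff.exists_lift_section g f' hN (TMul.val s'' ⊤)
  let σ := TMul.homOf m
  have he : (PicLoc.pullbackStructureIso f').inv ≫ (Scheme.Modules.pullback f').map σ = s'' := by
    refine TMul.hom_ext_val ((Groth.Agent.AmpleDesc.val_pullback f' σ).trans ?_)
    refine Eq.trans (congrArg _ ?_) hm
    rw [TMul.val_homOf, Groth.Agent.QC.res_self]
  have hloc : f' ⁻¹ᵁ CohB1.genLocus _ σ = CohB1.genLocus _ s := by
    rw [← TMul.genLocus_pullback f' hN σ (PicLoc.pullbackStructureIso f').symm]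
    rw [show (PicLoc.pullbackStructureIso f').symm.hom = (PicLoc.pullbackStructureIso f').inv from rfl, he]
    exact TMul.genLocus_comp _ _
  refine ⟨i, n, σ, hloc.ge hy, ?_⟩
  haveI : IsAffine (f' ⁻¹ᵁ CohB1.genLocus _ σ : Scheme.{u}) := by rw [hloc]; exact haff
  haveI : Surjective (f' ∣_ CohB1.genLocus _ σ) := IsZariskiLocalAtTarget.restrict (show Surjective f' from inferInstance) _
  exact Groth.Agent.NilAffine.isAffine_of_surjective (f' ∣_ CohB1.genLocus _ σ)

end Groth.Agent.S13545
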