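import Groth.Statements.S1654
import Groth.Agent.GalComp.Def

set_option autoImplicit false
universe u
open CategoryTheory CategoryTheory.Limits AlgebraicGeometry
open Variety

namespace Groth.Agent.S1654

/-- Let X be a k-scheme locally of finite type, having only finitely many irreducible components. There
is then a finite separable extension k' of k such that every irreducible component of X_{k'}, with
its reduced induced structure, is geometrically irreducible over k'. -/
theorem result (k : Type u) [Field k] (X : Scheme.{u}) [X.Over (Spec (CommRingCat.of k))] [LocallyOfFiniteType (X ↘ (Spec (CommRingCat.of k)))]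
    (hirr : (irreducibleComponents (X : Type u)).Finite) :
    ∃ (k' : Type u) (_ : Field k') (_ : Algebra k k'), FiniteDimensional k k' ∧ Algebra.IsSeparable k k' ∧
      ∀ (T : Set (Curv2.bc k X k')) (hT : T ∈ irreducibleComponents (Curv2.bc k X k' : Type u)),
        GeometricallyIrreducible
          ((Scheme.IdealSheafData.vanishingIdeal ⟨T, isClosed_of_mem_irreducibleComponents T hT⟩).subschemeι ≫
            Curv2.bcSnd k X k') := by
  obtain ⟨E, hE, hfix⟩ := Groth.Agent.GalComp.exists_finite_stabilizing k X hirr
  haveI : Algebra.IsSeparable k E := Algebra.isSeparable_tower_bot_of_isSeparable k E (SeparableClosure k)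
  refine ⟨E, inferInstance, inferInstance, hE, inferInstance, fun T hT => ?_⟩
  refine Groth.Agent.GalComp.geometricallyIrreducible_of_preimage _ _ fun K _ _ => ?_
  exact Groth.Agent.GalComp.isIrreducible_preimage_of_sep _ (SeparableClosure k)
    (Groth.Agent.GalComp.preimage_isIrreducible k X (SeparableClosure k) E hfix T hT) K

end Groth.Agent.S1654
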