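import Groth.Statements.S1357
import Groth.Agent.SmoothStrat.GenIrred

set_option autoImplicit false
universe u
open FlatMor

namespace Groth.Agent.S1357

open AlgebraicGeometry CategoryTheory Limits in
/-- Let f be of finite type with irreducible target Y. Then there are a nonempty open V of Y and a
surjective finite étale morphism g from an irreducible affine scheme Y' to V such that, for the base
change f' of f to Y', every irreducible component of the generic fibre of f' (with its reduced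
induced structure) is geometrically irreducible over the residue field of the generic point of Y'. -/
theorem result {X Y : Scheme.{u}} (f : X ⟶ Y) [IrreducibleSpace ↑Y] [LocallyOfFiniteType f] [QuasiCompact f] :
    ∃ (V : Y.Opens) (Y' : Scheme.{u}) (g : Y' ⟶ (V : Scheme.{u})) (hY' : IrreducibleSpace ↑Y'), (V : Set ↑Y).Nonempty ∧ IsAffine Y' ∧ Surjective g ∧ IsFinite g ∧ Etale g ∧
      ∀ (Z : Set ↑((pullback.snd f (g ≫ V.ι)).fiber (genericPoint ↑Y'))) (hZ : Z ∈ irreducibleComponents ↑((pullback.snd f (g ≫ V.ι)).fiber (genericPoint ↑Y'))),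
        GeometricallyIrreducible ((Scheme.IdealSheafData.vanishingIdeal (⟨Z, isClosed_of_mem_irreducibleComponents Z hZ⟩ : TopologicalSpace.Closeds _)).subschemeι ≫
          (pullback.snd f (g ≫ V.ι)).fiberToSpecResidueField (genericPoint ↑Y')) := by
  obtain ⟨y⟩ := (inferInstance : Nonempty Y)
  obtain ⟨W, hW, hy, -⟩ := exists_isAffineOpen_mem_and_subset (x := y) (U := ⊤) trivial
  let A := Γ(Y, W)
  let w : Spec A ⟶ Y := hW.fromSpec
  haveI : Nonempty ↑(Spec A) := ⟨hW.isoSpec.hom ⟨y, hy⟩⟩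
  haveI : PreirreducibleSpace ↑(Spec A) := ⟨fun U U' hU hU' h h' => by
    obtain ⟨a, -, ha⟩ := h
    obtain ⟨a', -, ha'⟩ := h'
    obtain ⟨b, -, ⟨c, hc, rfl⟩, ⟨c', hc', he⟩⟩ := PreirreducibleSpace.isPreirreducible_univ (X := Y) (w '' U) (w '' U')
      (w.isOpenEmbedding.isOpenMap _ hU) (w.isOpenEmbedding.isOpenMap _ hU') ⟨w a, trivial, a, ha, rfl⟩
      ⟨w a', trivial, a', ha', rfl⟩
    exact ⟨c, trivial, hc, w.isOpenEmbedding.injective he ▸ hc'⟩⟩
  have hirr : IrreducibleSpace (PrimeSpectrum A) :=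
    { toPreirreducibleSpace := (inferInstance : PreirreducibleSpace ↑(Spec A)), toNonempty := (inferInstance : Nonempty ↑(Spec A)) }
  let fW := pullback.snd f w
  obtain ⟨V, Y', g, hY', hne, haff, hsurj, hfin, het, hgeo⟩ := Groth.Agent.SmoothStrat.exists_geomIrred_model A hirr fW
  let θ := w.isoImage V
  let g' := g ≫ θ.hom
  have hg' : g' ≫ (w ''ᵁ V).ι = (g ≫ V.ι) ≫ w := by
    simp only [g', θ, Category.assoc, Scheme.Hom.isoImage_hom_ι]
  haveI := hsurj
  haveI := hfin
  haveI := het
  refine ⟨w ''ᵁ V, Y', g', hY', hne.image _, haff, inferInstance, inferInstance, inferInstance, fun Z hZ => ?_⟩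
  let η := genericPoint ↑Y'
  let p := pullback.snd f (g' ≫ (w ''ᵁ V).ι)
  have hF : IsPullback (p.fiberι η ≫ pullback.fst f (g' ≫ (w ''ᵁ V).ι)) (p.fiberToSpecResidueField η) f
      ((Y'.fromSpecResidueField η ≫ g ≫ V.ι) ≫ w) := by
    have := (IsPullback.of_hasPullback p (Y'.fromSpecResidueField η)).paste_horiz
      (IsPullback.of_hasPullback f (g' ≫ (w ''ᵁ V).ι))
    have e : Y'.fromSpecResidueField η ≫ g' ≫ (w ''ᵁ V).ι = (Y'.fromSpecResidueField η ≫ g ≫ V.ι) ≫ w := by
      simp only [hg', Category.assoc]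
    exact e ▸ this
  have hW' : IsPullback (pullback.fst f w) fW f w := IsPullback.of_hasPullback f w
  let aP := hW'.lift (p.fiberι η ≫ pullback.fst f (g' ≫ (w ''ᵁ V).ι))
    (p.fiberToSpecResidueField η ≫ Y'.fromSpecResidueField η ≫ g ≫ V.ι) (hF.w.trans (Category.assoc _ _ _).symm)
  refine hgeo _ aP _ ?_ Z hZ
  refine IsPullback.of_right ?_ (hW'.lift_snd _ _ _) hW'
  rw [hW'.lift_fst]
  exact hF

end Groth.Agent.S1357
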