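import Groth.Statements.S1358
import Groth.Agent.SmoothStrat.GenRed

set_option autoImplicit false
universe u
open FlatMor

namespace Groth.Agent.S1358

open AlgebraicGeometry CategoryTheory Limits in
/-- Let f be of finite type with irreducible target Y. Then there are a nonempty open V of Y, a finite
universal homeomorphism g from an integral affine scheme Y' to V, and a reduced scheme X' with a
surjective closed immersion into the base change of X to Y' (so X' is the reduction of that base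
change), such that X' → Y' is flat and of finite presentation and its generic fibre is geometrically
reduced. -/
theorem result {X Y : Scheme.{u}} (f : X ⟶ Y) [IrreducibleSpace ↑Y] [LocallyOfFiniteType f] [QuasiCompact f] :
    ∃ (V : Y.Opens) (Y' : Scheme.{u}) (g : Y' ⟶ (V : Scheme.{u})) (X' : Scheme.{u}) (r : X' ⟶ pullback f (g ≫ V.ι)) (hY' : IsIntegral Y'),
      (V : Set ↑Y).Nonempty ∧ IsAffine Y' ∧ IsFinite g ∧ FlatMor.IsUnivHomeo g ∧ IsClosedImmersion r ∧ Surjective r ∧ IsReduced X' ∧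
      Flat (r ≫ pullback.snd f (g ≫ V.ι)) ∧ LocallyOfFinitePresentation (r ≫ pullback.snd f (g ≫ V.ι)) ∧
      QuasiCompact (r ≫ pullback.snd f (g ≫ V.ι)) ∧ QuasiSeparated (r ≫ pullback.snd f (g ≫ V.ι)) ∧
      GeometricallyReduced ((r ≫ pullback.snd f (g ≫ V.ι)).fiberToSpecResidueField (genericPoint ↑Y')) := by
  obtain ⟨y⟩ := (inferInstance : Nonempty Y)
  obtain ⟨W, hW, hy, -⟩ := exists_isAffineOpen_mem_and_subset (x := y) (U := ⊤) trivial
  let A := Γ(Y, W)
  let w : Spec A ⟶ Y := hW.fromSpec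
  haveI : Nonempty ↑(Spec A) := ⟨hW.isoSpec.hom ⟨y, hy⟩⟩
  haveI : PreirreducibleSpace ↑(Spec A) := ⟨fun U U' hU hU' h h' => by
    obtain ⟨a, -, ha⟩ := h
    obtain ⟨a', -, ha'⟩ := h'
    obtain ⟨b, -, ⟨c, hc, rfl⟩, ⟨c', hc', he⟩⟩ := PreirreducibleSpace.isPreirreducible_univ (X := Y) (w '' U) (w '' U')
      (w.isOpenEmbedding.isOpenMap _ hU) (w.isOpenEmbedding.isOpenMap _ hU') ⟨w a, trivial, a, ha, rfl⟩
      ⟨w a', trivial, a', ha', rfl⟩
    exact ⟨c, trivial, hc, w.isOpenEmbedding.injective he ▸ hc'⟩⟩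
  have hirr : IrreducibleSpace (PrimeSpectrum A) :=
    { toPreirreducibleSpace := (inferInstance : PreirreducibleSpace ↑(Spec A)), toNonempty := (inferInstance : Nonempty ↑(Spec A)) }
  let fW := pullback.snd f w
  obtain ⟨V, Y', g, X', r, hY', hne, haff, hfin, huh, hr, hrs, hred, hflat, hfp, hqs, hgr⟩ :=
    Groth.Agent.SmoothStrat.exists_geomReduced_model A hirr fW
  let θ := w.isoImage V
  let g' := g ≫ θ.hom
  have hg' : g' ≫ (w ''ᵁ V).ι = (g ≫ V.ι) ≫ w := by
    simp only [g', θ, Category.assoc, Scheme.Hom.isoImage_hom_ι]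
  have hpaste : IsPullback (pullback.fst fW (g ≫ V.ι) ≫ pullback.fst f w) (pullback.snd fW (g ≫ V.ι)) f (g' ≫ (w ''ᵁ V).ι) := by
    rw [hg']
    exact (IsPullback.of_hasPullback fW (g ≫ V.ι)).paste_horiz (IsPullback.of_hasPullback f w)
  let e := hpaste.isoPullback
  have he : (r ≫ e.hom) ≫ pullback.snd f (g' ≫ (w ''ᵁ V).ι) = r ≫ pullback.snd fW (g ≫ V.ι) := by
    rw [Category.assoc, IsPullback.isoPullback_hom_snd]
  haveI := hr
  haveI := hrs
  haveI := hfin
  haveI : (FlatMor.IsUnivHomeo : MorphismProperty Scheme.{u}).RespectsIso := by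
    unfold FlatMor.IsUnivHomeo; infer_instance
  refine ⟨w ''ᵁ V, Y', g', X', r ≫ e.hom, hY', hne.image _, haff, inferInstance,
    (MorphismProperty.cancel_right_of_respectsIso FlatMor.IsUnivHomeo g θ.hom).2 huh, inferInstance, inferInstance,
    hred, ?_, ?_, ?_, ?_, ?_⟩
  all_goals rw [he]
  · exact hflat
  · exact hfp
  · infer_instance
  · exact hqs
  · exact hgr

end Groth.Agent.S1358
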