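import Groth.Statements.S13585
import Groth.Agent.ExtFund.CanonRows

set_option autoImplicit false
universe u
open CategoryTheory CategoryTheory.Limits AlgebraicGeometry
open Canon

set_option backward.isDefEq.respectTransparency false
set_option backward.isDefEq.respectTransparency.types false

namespace Groth.Agent.S13585

/-- Let `f : X ⟶ Y` and `g : Y ⟶ Z` be morphisms of schemes with `g` smooth of relative dimension `n`,
and let `Γ : X ⟶ X ×_Z Y` be the graph of `f`. Then `Γ` is a regular immersion of codimension `n`,
and the top exterior power of its conormal sheaf is `f^* ω_{Y/Z}`, where `ω_{Y/Z} = Λ^n Ω_{Y/Z}`;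
that is, the canonical sheaf of the immersion `Γ` is the dual of `f^* ω_{Y/Z}`. (This row takes `X`
locally Noetherian and `g` separated, so that the graph is a closed immersion and the criterion for
sections of smooth morphisms over a locally Noetherian base, through which the published proof goes,
applies; the published statement has arbitrary preschemes.) -/
theorem result {X Y Z : Scheme.{u}} [IsLocallyNoetherian X]
    (f : X ⟶ Y) (g : Y ⟶ Z) (n : ℕ) [SmoothOfRelativeDimension n g] [IsSeparated g]
    (ωY : Y.Modules) (hω : Canon.IsTopDiff g n ωY) :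
    RegImm.IsRegularImmersionOfCodim .regular n (pullback.lift (𝟙 X) f (Category.id_comp (f ≫ g))) ∧
      ExtPow.IsExtPow n (Omega.conormal (pullback.lift (𝟙 X) f (Category.id_comp (f ≫ g))))
        ((Scheme.Modules.pullback f).obj ωY) := by
  let G : X ⟶ pullback (f ≫ g) g := pullback.lift (𝟙 X) f (Category.id_comp (f ≫ g))
  let p : pullback (f ≫ g) g ⟶ X := pullback.fst (f ≫ g) g
  let q : pullback (f ≫ g) g ⟶ Y := pullback.snd (f ≫ g) g
  have hsq : IsPullback q p g (f ≫ g) := (IsPullback.of_hasPullback (f ≫ g) g).flip
  haveI : SmoothOfRelativeDimension n p :=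
    (smoothOfRelativeDimension_isStableUnderBaseChange n).of_isPullback hsq inferInstance
  have hG : G ≫ p = 𝟙 X := pullback.lift_fst _ _ _
  haveI : IsSeparated p := inferInstance
  haveI : IsClosedImmersion G := by
    haveI : IsClosedImmersion (G ≫ p) := by rw [hG]; infer_instance
    exact IsClosedImmersion.of_comp G p
  refine ⟨Groth.Agent.SectRank.isRegularImmersionOfCodim_of_section n p G hG, ?_⟩
  obtain ⟨a⟩ := Groth.Agent.ExtFund.nonempty_omega_pullback hsq
  obtain ⟨b⟩ := Groth.Agent.GrpOmega.nonempty_iso_conormal p G hG (Groth.Agent.OmegaLib.isUniversal_dOmega p)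
  have h := Groth.Agent.ExtFund.hasDet_congr ((Scheme.Modules.pullback G).mapIso a ≪≫ b.symm)
    (((Groth.Agent.ExtFund.hasDet_omega g n hω).pullback q).pullback G)
  exact Groth.Agent.ExtFund.isExtPow_congr ((Scheme.Modules.pullbackComp G q).app ωY ≪≫
    (Scheme.Modules.pullbackCongr (pullback.lift_snd _ _ _)).app ωY)
    (Groth.Agent.ExtFund.isExtPow_of_hasDet h)

end Groth.Agent.S13585
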