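import Groth.Statements.S13589
import Groth.Agent.InvEquiv.Equiv

set_option autoImplicit false
universe u
open CategoryTheory CategoryTheory.Limits MonoidalCategory
attribute [local instance] HasDerivedCategory.standard
open DTen

namespace Groth.Agent.S13589

/-- Let `A` be a Noetherian commutative ring and `F` an `A`-linear triangulated equivalence from
`D^b_{Coh}(A)` (the full subcategory of `D(A)` of objects with bounded cohomology consisting of
finite `A`-modules, a triangulated subcategory) to itself. Then `F(A)` is an invertible object of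
`D(A)`: there is an object `L` with `F(A) ⊗^L L ≅ A` and `L ⊗^L F(A) ≅ A`. The membership of `A[0]`
in `D^b_{Coh}(A)` and the fact that this subcategory is triangulated are taken as (true) hypotheses.
(The published statement asks only for an `A`-linear equivalence of categories; this row takes the
equivalence compatible with shifts and distinguished triangles, which is what the published proof
uses and how the result is applied.) -/
theorem result (A : Type u) [CommRing A]
    [IsNoetherianRing A] [DTen.HasLTen A] [DTen.KFlatComputes A]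
    (P : ObjectProperty (Dual.D A))
    (hP : ∀ K : Dual.D A, P K ↔
      ((∀ i : ℤ, Module.Finite A (Dual.HD A K i)) ∧ ∃ a b : ℤ, ∀ i : ℤ, (i < a ∨ b < i) → Subsingleton (Dual.HD A K i)))
    [P.IsTriangulated]
    (F : P.FullSubcategory ⥤ P.FullSubcategory) [F.CommShift ℤ] [F.IsTriangulated] [F.IsEquivalence]
    [F.Additive] [F.Linear A]
    (hA : P (DTen.unit A)) :
    DTen.IsInvertible A (F.obj ⟨DTen.unit A, hA⟩).obj := by
  obtain ⟨C, C', hC, hC', ⟨eC⟩, ⟨e⟩⟩ := Groth.Agent.InvEquiv.exists_tensor_inverse F hP hA
  haveI h1 := DTen.KFlatComputes.isIso_counit C C' (Or.inl hC)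
  haveI h2 := DTen.KFlatComputes.isIso_counit C' C (Or.inr hC)
  exact ⟨DerivedCategory.Q.obj C',
    ⟨(DTen.LTen₂ A).mapIso (Iso.prod eC.symm (Iso.refl _)) ≪≫ asIso ((DTen.ε A).app (C, C')) ≪≫
      DerivedCategory.Q.mapIso e⟩,
    ⟨(DTen.LTen₂ A).mapIso (Iso.prod (Iso.refl _) eC.symm) ≪≫ asIso ((DTen.ε A).app (C', C)) ≪≫
      DerivedCategory.Q.mapIso (DTen.braidCx C' C ≪≫ e)⟩⟩

end Groth.Agent.S13589
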