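import Groth.Statements.S13590
import Groth.Agent.LCZ.ClosedAdj
import Groth.Agent.SiteCoh.RestrOpen
import Groth.Agent.HDU.Top
-- import your own Groth.Agent.* helpers here

set_option autoImplicit false
universe u
open CategoryTheory TopologicalSpace
open SuppFam

set_option linter.style.haveILetI false
set_option backward.isDefEq.respectTransparency false
namespace Groth.Agent.S13590

/-- For an abelian sheaf `F` on a topological space `X` and a locally closed `Z = V ∖ W` (`W ≤ V`
opens), if `F` is injective then the sheaf `Γ_Z(F) = i_* i^!(F)` of sections of `F` with supports in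
`Z` is injective. -/
theorem result {X : TopCat.{u}} (F : CohTop.Ab X) {W V : Opens X} (h : W ≤ V)
    (hF : Injective F) : Injective ((SuppFam.sectSuppLC h).obj F) := by
  let U := SuppFam.inOpen V W
  haveI : (TopCat.Sheaf.pullback AddCommGrpCat.{u} (CohCx.inclCompl (X := TopCat.of V) U)).PreservesMonomorphisms :=
    haveI : Limits.PreservesFiniteLimits (TopCat.Sheaf.pullback AddCommGrpCat.{u} (CohCx.inclCompl (X := TopCat.of V) U)) :=
      Groth.Agent.HDU.pull_preservesFiniteLimits _
    inferInstance
  haveI : (TopCat.Sheaf.pullback AddCommGrpCat.{u} (CohCx.incl V)).PreservesMonomorphisms :=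
    haveI : Limits.PreservesFiniteLimits (TopCat.Sheaf.pullback AddCommGrpCat.{u} (CohCx.incl V)) :=
      Groth.Agent.HDU.pull_preservesFiniteLimits _
    inferInstance
  haveI := hF
  haveI hr : Injective ((CohTop.restrFunctor V).obj F) := Groth.Agent.SiteCoh.restrFunctor_injective V F
  haveI : Injective ((Groth.Agent.LCZ.gamZ (X := TopCat.of V) U).obj ((CohTop.restrFunctor V).obj F)) := by
    haveI : Limits.PreservesLimitsOfSize.{0, 0} (CohTop.push (CohCx.inclCompl (X := TopCat.of V) U)) :=
      (TopCat.Sheaf.pullbackPushforwardAdjunction AddCommGrpCat.{u} (CohCx.inclCompl U)).rightAdjoint_preservesLimits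
    exact Injective.injective_of_adjoint (Groth.Agent.LCZ.pushGamZAdj U) _
  haveI : Injective ((CohTop.push (CohCx.inclCompl (X := TopCat.of V) U)).obj
      ((Groth.Agent.LCZ.gamZ (X := TopCat.of V) U).obj ((CohTop.restrFunctor V).obj F))) :=
    Injective.injective_of_adjoint (TopCat.Sheaf.pullbackPushforwardAdjunction AddCommGrpCat.{u} (CohCx.inclCompl U)) _
  haveI : Injective ((LocCohZ.sectSuppF (X := TopCat.of V) U).obj ((CohTop.restrFunctor V).obj F)) :=
    Injective.of_iso ((Groth.Agent.LCZ.gamPushIso (X := TopCat.of V) U).app _) this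
  exact Injective.injective_of_adjoint (TopCat.Sheaf.pullbackPushforwardAdjunction AddCommGrpCat.{u} (CohCx.incl V)) _

end Groth.Agent.S13590
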