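import Groth.Statements.S1360
import Groth.Agent.S1359
import Groth.Agent.S9697

set_option autoImplicit false
universe u
open FlatMor

open Groth.Agent CategoryTheory.Limits
set_option backward.isDefEq.respectTransparency false
namespace Groth.Agent.S1360

open AlgebraicGeometry CategoryTheory Limits in
/-- Let S be locally Noetherian, f : X → S of finite type, and Z the closed subscheme of S cut out by an
ideal sheaf I. If the base change of f to every infinitesimal neighbourhood of Z is étale, then
every point of X over Z has an open neighbourhood on which f is étale. -/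
theorem result {X S : Scheme.{u}} (f : X ⟶ S) [IsLocallyNoetherian S] [LocallyOfFinitePresentation f] [QuasiCompact f]
    (I : S.IdealSheafData) (h : ∀ n : ℕ, Etale (pullback.snd f (I ^ (n + 1)).subschemeι)) (x : X) (hx : f x ∈ I.support) :
    ∃ U : X.Opens, x ∈ U ∧ Etale (U.ι ≫ f) := by
  haveI hs : ∀ n : ℕ, Smooth (pullback.snd f (I ^ (n + 1)).subschemeι) := fun n => by
    haveI := h n
    infer_instance
  have hxs : x ∈ f.smoothLocus := S1359.result f I hs x hx
  obtain ⟨k, hk⟩ := ThickFlat.exists_lift I hx 0 _ (CommRingCat.ofHom (IsLocalRing.residue (S.presheaf.stalk (f x))))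
    (by simp [IsLocalRing.ker_residue])
  haveI het : Etale (f.fiberToSpecResidueField (f x)) :=
    ThickFlat.of_thickening f @Etale I (h 0) (S.fromSpecResidueField (f x)) k hk
  haveI : FormallyUnramified (f.fiberToSpecResidueField (f x)) := inferInstance
  obtain ⟨U, hxU, hU⟩ := (S9697.result f (S.fromSpecResidueField (f x)) (f.asFiber x)).mp ⟨⊤, trivial, by
    show FormallyUnramified ((⊤ : (f.fiber (f x)).Opens).ι ≫ f.fiberToSpecResidueField (f x))
    infer_instance⟩
  have hxU' : x ∈ U := by
    have : f.fiberι (f x) (f.asFiber x) ∈ U := hxU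
    rwa [f.fiberι_asFiber x] at this
  refine ⟨U ⊓ f.smoothLocus, ⟨hxU', hxs⟩, ?_⟩
  haveI : Smooth (f.smoothLocus.ι ≫ f) := by
    rw [← Scheme.Hom.smoothLocus_eq_top_iff, ← Scheme.Hom.preimage_smoothLocus_eq]
    exact Scheme.Opens.ι_preimage_self _
  haveI : Smooth ((U ⊓ f.smoothLocus).ι ≫ f) := by
    rw [← Scheme.homOfLE_ι X (show U ⊓ f.smoothLocus ≤ f.smoothLocus from inf_le_right), Category.assoc]
    infer_instance
  haveI := hU
  haveI : FormallyUnramified ((U ⊓ f.smoothLocus).ι ≫ f) := by
    rw [← Scheme.homOfLE_ι X (show U ⊓ f.smoothLocus ≤ U from inf_le_left), Category.assoc]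
    haveI : FormallyUnramified (X.homOfLE (show U ⊓ f.smoothLocus ≤ U from inf_le_left)) :=
      inferInstance
    exact MorphismProperty.comp_mem (W := @FormallyUnramified) _ _ ‹_› hU
  exact Etale.of_formallyUnramified_of_flat _

end Groth.Agent.S1360
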