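import Groth.Statements.S13600
import Groth.Agent.CycSub.Main

set_option autoImplicit false
universe u
open CategoryTheory AlgebraicGeometry
open Cyc

set_option backward.isDefEq.respectTransparency false
set_option backward.isDefEq.respectTransparency.types false

namespace Groth.Agent.S13600

/-- Let X be a separated Noetherian scheme and W = Σ a_i z_i an effective cycle on X (a function from
the points of X to the integers, non-negative and with finite support) whose points z_i (those with
a_i ≠ 0) have codimension 1 with X regular there, i.e. O_{X,z_i} is a discrete valuation ring. Then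
X has a unique closed subscheme Z (a quasi-coherent ideal sheaf) such that (1) Z has no embedded
components (every point of Z at which the maximal ideal of the local ring of Z is an associated
prime is a maximal point of Z) and (2) the cycle of Z is W: every maximal point z of Z has O_{Z,z}
of length W(z), and every point with W ≠ 0 is a maximal point of Z. -/
theorem result (X : Scheme.{u}) [IsNoetherian X]
    [X.IsSeparated] (W : X → ℤ) (hfin : {x | W x ≠ 0}.Finite) (hpos : ∀ x, 0 ≤ W x)
    (hreg : ∀ x, W x ≠ 0 → ∃ _ : IsDomain ↑(X.presheaf.stalk x), IsDiscreteValuationRing ↑(X.presheaf.stalk x)) :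
    ∃! 𝓘 : X.IdealSheafData,
      (∀ z : ↥𝓘.subscheme,
        IsAssociatedPrime (IsLocalRing.maximalIdeal ↑(𝓘.subscheme.presheaf.stalk z))
          ↑(𝓘.subscheme.presheaf.stalk z) → ∀ z' : ↥𝓘.subscheme, z' ⤳ z → z' = z) ∧
      (∀ z : ↥𝓘.subscheme, (∀ z' : ↥𝓘.subscheme, z' ⤳ z → z' = z) →
        Module.length ↑(𝓘.subscheme.presheaf.stalk z) ↑(𝓘.subscheme.presheaf.stalk z) =
          ((W (𝓘.subschemeι.base z)).toNat : ℕ∞)) ∧
      (∀ x : X, W x ≠ 0 → ∃ z : ↥𝓘.subscheme, 𝓘.subschemeι.base z = x ∧
        ∀ z' : ↥𝓘.subscheme, z' ⤳ z → z' = z) := by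
  classical
  let S : Finset X := hfin.toFinset
  let n : X → ℕ := fun x => (W x).toNat
  have hS : ∀ x, x ∈ S ↔ W x ≠ 0 := fun x => hfin.mem_toFinset
  have hn : ∀ z ∈ S, 0 < n z := fun z hz => by
    have := (hS z).1 hz; have := hpos z; show 0 < (W z).toNat; omega
  have hdim : ∀ z ∈ S, ringKrullDim (X.presheaf.stalk z) = 1 := fun z hz => by
    obtain ⟨_, _⟩ := hreg z ((hS z).1 hz)
    exact IsDiscreteValuationRing.ringKrullDim_eq_one _
  have hlen : ∀ (I : X.IdealSheafData) (z : I.subscheme) (U : X.affineOpens) (hz : I.subschemeι z ∈ (U : X.Opens)),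
      Module.length (I.subscheme.presheaf.stalk z) (I.subscheme.presheaf.stalk z) =
        Module.length (X.presheaf.stalk (I.subschemeι z)) (_ ⧸ CycSub.stalkIdeal I z hz) := fun I z U hz =>
    (CycSub.length_stalk I z hz _ (RingEquiv.refl _)).trans
      (Submodule.quotEquivOfEq _ _ (Ideal.comap_id _)).length_eq
  refine ⟨CycSub.cycIdeal S n, ⟨fun z h => CycSub.isMax_of_associated hn hdim z h, fun z hz => ?_, fun x hx => ?_⟩, ?_⟩
  · have hzS := (CycSub.isMax_cycIdeal_iff hn hdim z).1 hz
    obtain ⟨U', hU', hzU, -⟩ := exists_isAffineOpen_mem_and_subset (x := (CycSub.cycIdeal S n).subschemeι z)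
      (U := (⊤ : X.Opens)) trivial
    obtain ⟨_, _⟩ := hreg _ ((hS _).1 hzS)
    rw [hlen _ z ⟨U', hU'⟩ hzU, CycSub.stalkIdeal_cycIdeal hn hdim z (U := ⟨U', hU'⟩) hzU hzS,
      CycSub.length_quotient_pow]
  · obtain ⟨z, hz⟩ : x ∈ Set.range (CycSub.cycIdeal S n).subschemeι := by
      rw [(CycSub.cycIdeal S n).range_subschemeι]
      exact (CycSub.mem_support hn).2 ⟨x, (hS x).2 hx, specializes_rfl⟩
    refine ⟨z, hz, (CycSub.isMax_cycIdeal_iff hn hdim z).2 ?_⟩
    rw [hz]; exact (hS x).2 hx
  · rintro I ⟨h1, h2, h3⟩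
    refine CycSub.eq_cycIdeal hn hdim I h1 (fun z hz => ?_) (fun x hx => ?_) fun z U hz hzS => ?_
    · by_contra hzS
      have h := h2 z hz
      rw [not_not.1 fun h' => hzS ((hS _).2 h')] at h
      exact (Module.length_pos (R := I.subscheme.presheaf.stalk z) (M := I.subscheme.presheaf.stalk z)).ne'
        (by simpa using h)
    · obtain ⟨z, hz, -⟩ := h3 x ((hS x).1 hx)
      exact ⟨z, hz⟩
    · obtain ⟨z', hz', hmax⟩ := h3 _ ((hS _).1 hzS)
      obtain rfl := I.subschemeι.isEmbedding.injective hz'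
      obtain ⟨_, _⟩ := hreg _ ((hS _).1 hzS)
      exact CycSub.eq_pow_of_length _ _ ((hlen I z' U hz).symm.trans (h2 z' hmax))

end Groth.Agent.S13600
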