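import Groth.Statements.S13608
import Mathlib.RingTheory.AdicCompletion.Basic
import Mathlib.RingTheory.Finiteness.Ideal
import Mathlib.Algebra.BigOperators.Intervals
import Mathlib.RingTheory.Finiteness.Basic

set_option autoImplicit false
universe u v
open CAlg

namespace Groth.Agent.S13608

/-- Let A be a commutative ring, I a finitely generated ideal of A and (M_n) an inverse system of
A-modules with transition maps f_n : M_(n+1) → M_n such that I^(n+1) M_n = 0 for every n. If L is an
inverse limit of the system (projections π_n compatible with the f_n, jointly injective, and such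
that every compatible family of elements lifts to L), then L is complete and separated for the
I-adic topology. No surjectivity of the transition maps is assumed. -/
theorem result
    (A : Type u) [CommRing A] (I : Ideal A) (hI : I.FG)
    (M : ℕ → Type v) [∀ n, AddCommGroup (M n)] [∀ n, Module A (M n)]
    (f : ∀ n, M (n + 1) →ₗ[A] M n)
    (hkill : ∀ n, I ^ (n + 1) • (⊤ : Submodule A (M n)) = ⊥)
    (L : Type v) [AddCommGroup L] [Module A L] (π : ∀ n, L →ₗ[A] M n)
    (hπ : ∀ n, f n ∘ₗ π (n + 1) = π n)
    (hinj : ∀ x : L, (∀ n, π n x = 0) → x = 0)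
    (hlift : ∀ y : (∀ n, M n), (∀ n, f n (y (n + 1)) = y n) → ∃ x : L, ∀ n, π n x = y n) :
    IsAdicComplete I L := by
  classical
  have hz : ∀ n, ∀ x ∈ (I ^ (n + 1) • ⊤ : Submodule A L), π n x = 0 := by
    intro n x hx
    have h1 := Submodule.mem_map_of_mem (f := π n) hx
    rw [Submodule.map_smul''] at h1
    have h2 := Submodule.smul_mono le_rfl (le_top : Submodule.map (π n) ⊤ ≤ ⊤) h1
    rwa [hkill n, Submodule.mem_bot] at h2
  suffices h : IsHausdorff I L ∧ IsPrecomplete I L from { toIsHausdorff := h.1, toIsPrecomplete := h.2 }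
  refine ⟨⟨fun x hx => hinj x fun n => hz n x ?_⟩, ⟨fun u hu => ?_⟩⟩
  · simpa [SModEq.zero] using hx (n + 1)
  · have hu' : ∀ {a b : ℕ}, a ≤ b → u a - u b ∈ (I ^ a • ⊤ : Submodule A L) := fun h => SModEq.sub_mem.1 (hu h)
    have hstab : ∀ n j, n + 1 ≤ j → π n (u j) = π n (u (n + 1)) := fun n j hj => by
      have := hz n _ (hu' hj)
      rw [map_sub, sub_eq_zero] at this
      exact this.symm
    obtain ⟨x, hx⟩ := hlift (fun n => π n (u (n + 1))) (fun n => by
      rw [← LinearMap.comp_apply, hπ, hstab n (n + 1 + 1) (by omega)])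
    refine ⟨x, fun k => SModEq.sub_mem.2 ?_⟩
    obtain ⟨G, hG⟩ := Ideal.FG.pow (n := k) hI
    -- write the increments through the generators of I ^ k
    have hdec : ∀ j, k ≤ j → ∃ w : G → L, (∀ g, w g ∈ (I ^ (j - k) • ⊤ : Submodule A L)) ∧ u (j + 1) - u j = ∑ g : G, (g : A) • w g := by
      intro j hj
      have h1 : u (j + 1) - u j ∈ (I ^ k • (I ^ (j - k) • ⊤ : Submodule A L) : Submodule A L) := by
        rw [← smul_assoc, smul_eq_mul, ← pow_add, Nat.add_sub_cancel' hj]
        simpa using neg_mem (hu' (Nat.le_succ j))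
      refine Submodule.smul_induction_on h1 (fun r hr l hl => ?_) ?_
      · rw [← hG] at hr
        obtain ⟨c, hc⟩ := (Submodule.mem_span_finset' (R := A)).1 hr
        refine ⟨fun g => c g • l, fun g => Submodule.smul_mem _ _ hl, ?_⟩
        rw [← hc, Finset.sum_smul]
        exact Finset.sum_congr rfl fun g _ => by rw [smul_eq_mul, mul_comm, mul_smul]
      · rintro a b ⟨w, hw, rfl⟩ ⟨w', hw', rfl⟩
        exact ⟨w + w', fun g => add_mem (hw g) (hw' g), by simp [smul_add, Finset.sum_add_distrib]⟩
    choose w hw hsum using hdec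
    let S : G → ℕ → L := fun g m => ∑ i ∈ Finset.range m, w (k + i) (Nat.le_add_right k i) g
    have hS : ∀ g n, π n (S g (n + 1 + 1)) = π n (S g (n + 1)) := fun g n => by
      show π n (∑ i ∈ Finset.range (n + 1 + 1), _) = _
      rw [Finset.sum_range_succ, map_add, hz n (w (k + (n + 1)) (Nat.le_add_right _ _) g) (by simpa using hw (k + (n + 1)) (Nat.le_add_right _ _) g), add_zero]
    have hlim : ∀ g, ∃ v : L, ∀ n, π n v = π n (S g (n + 1)) := fun g => hlift _ fun n => by
      rw [← LinearMap.comp_apply, hπ, hS]
    choose v hv using hlim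
    have hx' : x - u k = ∑ g : G, (g : A) • v g := by
      refine sub_eq_zero.1 (hinj _ fun n => ?_)
      rw [map_sub, map_sum, map_sub, hx, sub_eq_zero]
      simp only [map_smul, hv]
      rw [← hstab n (k + (n + 1)) (Nat.le_add_left _ _), ← map_sub]
      simp only [← map_smul, ← map_sum]
      congr 1
      have htel : u (k + (n + 1)) - u k = ∑ i ∈ Finset.range (n + 1), (u (k + i + 1) - u (k + i)) := by
        have := Finset.sum_range_sub (fun i => u (k + i)) (n + 1)
        simpa [add_assoc] using this.symm
      rw [htel]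
      simp only [S, Finset.smul_sum]
      rw [Finset.sum_comm]
      exact Finset.sum_congr rfl fun i _ => hsum (k + i) (Nat.le_add_right k i)
    have hmem : ∑ g : G, (g : A) • v g ∈ (I ^ k • ⊤ : Submodule A L) :=
      Submodule.sum_mem _ fun g _ => Submodule.smul_mem_smul (hG ▸ Submodule.subset_span g.2) Submodule.mem_top
    rw [← neg_sub, hx']
    exact neg_mem hmem

end Groth.Agent.S13608
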