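import Groth.Statements.S13609
import Mathlib.RingTheory.AdicCompletion.Basic

set_option autoImplicit false
universe u v
open CAlg TensorProduct

namespace Groth.Agent.S13609

/-- A direct summand of a module that is complete and separated for the I-adic topology is again
complete and separated: for a commutative ring A, an ideal I and A-modules M₁, M₂, if M₁ × M₂ is
I-adically complete then so is M₁. -/
theorem result (A : Type u) [CommRing A] (I : Ideal A)
    (M₁ M₂ : Type v) [AddCommGroup M₁] [Module A M₁] [AddCommGroup M₂] [Module A M₂]
    [IsAdicComplete I (M₁ × M₂)] : IsAdicComplete I M₁ := by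
  refine { haus' := fun x hx => ?_, prec' := fun f hf => ?_ }
  · have h := IsHausdorff.haus' (I := I) (LinearMap.inl A M₁ M₂ x) fun n => ?_
    · exact congrArg Prod.fst h
    · have := (hx n).map (LinearMap.inl A M₁ M₂)
      rw [map_zero] at this
      exact this.mono (Submodule.map_smul'' _ _ _ |>.le.trans (Submodule.smul_mono le_rfl le_top))
  · obtain ⟨L, hL⟩ := IsPrecomplete.prec' (I := I) (fun n => LinearMap.inl A M₁ M₂ (f n)) fun {m n} h =>
      ((hf h).map (LinearMap.inl A M₁ M₂)).mono (Submodule.map_smul'' _ _ _ |>.le.trans (Submodule.smul_mono le_rfl le_top))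
    refine ⟨L.1, fun n => ?_⟩
    exact ((hL n).map (LinearMap.fst A M₁ M₂)).mono (Submodule.map_smul'' _ _ _ |>.le.trans (Submodule.smul_mono le_rfl le_top))

end Groth.Agent.S13609
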