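import Groth.Statements.S1361
import Groth.Agent.S0412
import Groth.Agent.S1327
import Groth.Agent.S1326
import Groth.Agent.S1549
import Groth.Agent.SmDesc.Scheme
import Groth.Agent.GeomFib.SectionConn
import Groth.Agent.CompSurj.Geom

set_option autoImplicit false
universe u
open FlatMor
open CategoryTheory CategoryTheory.Limits AlgebraicGeometry TopologicalSpace

namespace Groth.Agent.S1361

set_option backward.isDefEq.respectTransparency false
set_option backward.isDefEq.respectTransparency.types false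

lemma geometricallyReduced_opens_comp {X S : Scheme.{u}} (f : X ⟶ S) [GeometricallyReduced f] (U : X.Opens) :
    GeometricallyReduced (U.ι ≫ f) := by
  refine ⟨fun K _ y Z fst snd h => ?_⟩
  let H := IsPullback.of_hasPullback f y
  let l : Z ⟶ pullback f y := H.lift (fst ≫ U.ι) snd (by rw [Category.assoc]; exact h.w)
  have hl : IsPullback fst l U.ι (pullback.fst f y) :=
    IsPullback.of_bot (by simpa [l] using h) (by simp [l]) H
  have : IsOpenImmersion l := MorphismProperty.of_isPullback hl inferInstance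
  have : IsReduced (pullback f y) := GeometricallyReduced.geometrically_isReduced _ _ _ H
  exact isReduced_of_isOpenImmersion l

lemma geometricallyReduced_resLE {X S : Scheme.{u}} (f : X ⟶ S) [GeometricallyReduced f] (V : S.Opens)
    (W : X.Opens) (e : W ≤ f ⁻¹ᵁ V) : GeometricallyReduced (f.resLE V W e) := by
  refine ⟨fun K _ y Z fst snd h => ?_⟩
  have h' : IsPullback fst snd (W.ι ≫ f) (y ≫ V.ι) := by
    have h2 : IsPullback y (𝟙 _) V.ι (y ≫ V.ι) :=
      IsPullback.of_vert_isIso_mono ⟨(Category.id_comp _).symm⟩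
    simpa using h.paste_vert h2
  exact (geometricallyReduced_opens_comp f W).geometrically_isReduced _ _ _ h'

lemma isCompact_of_isConstructible {W : Scheme.{u}} [IsAffine W] {C : Set ↥W}
    (hC : Topology.IsConstructible C) : IsCompact C := by
  have h := hC.preimage_of_isOpenEmbedding W.isoSpec.inv.isOpenEmbedding
  obtain ⟨R, _, φ, hφ⟩ := PrimeSpectrum.exists_range_eq_of_isConstructible h
  have hc : IsCompact (W.isoSpec.inv ⁻¹' C) := hφ ▸ isCompact_range (PrimeSpectrum.continuous_comap φ)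
  have h2 := hc.image W.isoSpec.inv.continuous
  rwa [Set.image_preimage_eq _ W.isoSpec.inv.surjective] at h2

/-- the projection of a field extension maps components onto components -/
theorem exists_mem_component {k K : Type u} [Field k] [Field K] [Algebra k K] {F F' : Scheme.{u}}
    (φ : F ⟶ Spec (CommRingCat.of k)) (ψ : F' ⟶ F) (q : F' ⟶ Spec (CommRingCat.of K))
    (h : IsPullback ψ q φ (CompSurj.w (k := k) K)) (q₀ : F') (x₀ : F)
    (hx : x₀ ∈ connectedComponent (ψ q₀)) : ∃ z ∈ connectedComponent q₀, ψ z = x₀ := by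
  have himg := CompSurj.image_connectedComponent (K := K) φ (h.isoPullback.hom q₀)
  rw [← h.isoPullback_hom_fst, Scheme.Hom.comp_apply, ← himg] at hx
  obtain ⟨z', hz', rfl⟩ := hx
  refine ⟨h.isoPullback.inv z', ?_, ?_⟩
  · have := h.isoPullback.inv.continuous.image_connectedComponent_subset (h.isoPullback.hom q₀) ⟨z', hz', rfl⟩
    rwa [← Scheme.Hom.comp_apply, Iso.hom_inv_id] at this
  · rw [← Scheme.Hom.comp_apply, h.isoPullback_inv_fst]

/-- the open union of the fibre components along a section -/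
theorem fibration {P T : Scheme.{u}} [IsAffine P] [IsAffine T] (f₁ : P ⟶ T) [Flat f₁]
    [LocallyOfFinitePresentation f₁] [GeometricallyReduced f₁] (σ : T ⟶ P) (hσ : σ ≫ f₁ = 𝟙 T) :
    ∃ U : P.Opens, (U : Set P) = MoreMor.sectionComponents f₁ σ ∧ QuasiCompact (U.ι ≫ f₁) ∧
      QuasiSeparated (U.ι ≫ f₁) ∧ GeometricallyConnected (U.ι ≫ f₁) ∧ GeometricallyReduced (U.ι ≫ f₁) := by
  let SC := MoreMor.sectionComponents f₁ σ
  have hSCo : IsOpen SC := isOpen_iff_mem_nhds.2 fun z hz => mem_interior_iff_mem_nhds.1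
    (S1327.result f₁ σ hσ (f₁ z) inferInstance hz)
  have hSCc : IsCompact SC :=
    isCompact_of_isConstructible (S1326.result f₁ σ hσ).isConstructible
  let U : P.Opens := ⟨SC, hSCo⟩
  let b := U.ι ≫ f₁
  have hb : GeometricallyConnected b := by
    rw [GeometricallyConnected.iff_geometricallyConnected_fiber]
    intro y
    have hmem : σ y ∈ U := by
      show σ y ∈ connectedComponentIn _ (σ (f₁ (σ y)))
      rw [GeomFib.section_apply f₁ σ hσ]
      exact mem_connectedComponentIn (GeomFib.section_apply f₁ σ hσ y)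
    have hr : Set.range σ ⊆ U := by
      rintro _ ⟨y', rfl⟩
      show σ y' ∈ connectedComponentIn _ (σ (f₁ (σ y')))
      rw [GeomFib.section_apply f₁ σ hσ]
      exact mem_connectedComponentIn (GeomFib.section_apply f₁ σ hσ y')
    let σ' := IsOpenImmersion.lift U.ι σ (by rw [Scheme.Opens.range_ι]; exact hr)
    have hσ' : σ' ≫ b = 𝟙 _ := by
      rw [← Category.assoc, IsOpenImmersion.lift_fac, hσ]
    rw [GeomFib.geometricallyConnected_fiber_iff]
    refine GeomFib.nGeomConnComp_eq_one b σ' hσ' y ?_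
    have himg : U.ι '' (b ⁻¹' {y}) = connectedComponentIn (f₁ ⁻¹' {y}) (σ y) := by
      ext z
      constructor
      · rintro ⟨w, hw, rfl⟩
        have hw' : f₁ (U.ι w) = y := hw
        have : U.ι w ∈ connectedComponentIn (f₁ ⁻¹' {f₁ (U.ι w)}) (σ (f₁ (U.ι w))) := w.2
        rw [hw'] at this
        exact this
      · intro hz
        have hzy : f₁ z = y := (connectedComponentIn_subset (f₁ ⁻¹' {y}) (σ y) hz :)
        have hzU : z ∈ SC := by
          show z ∈ connectedComponentIn (f₁ ⁻¹' {f₁ z}) (σ (f₁ z))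
          rw [hzy]; exact hz
        exact ⟨⟨z, hzU⟩, hzy, rfl⟩
    have hne : (connectedComponentIn (f₁ ⁻¹' {y}) (σ y)).Nonempty :=
      ⟨σ y, mem_connectedComponentIn (GeomFib.section_apply f₁ σ hσ y)⟩
    refine ⟨?_, U.ι.isOpenEmbedding.isInducing.isPreconnected_image.1
      (himg ▸ isPreconnected_connectedComponentIn)⟩
    rw [← himg] at hne
    exact hne.of_image
  haveI : CompactSpace (U : Scheme.{u}) := isCompact_iff_compactSpace.mp hSCc
  exact ⟨U, rfl, (quasiCompact_iff_compactSpace b).2 inferInstance, inferInstanceAs (QuasiSeparated (U.ι ≫ f₁)),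
    hb, geometricallyReduced_opens_comp f₁ U⟩

/-- the components along a section of a base change hit every point of the component of its image -/
theorem lift_point {X S T : Scheme.{u}} (f : X ⟶ S) [LocallyOfFiniteType f] (g : T ⟶ S) (x : X) (s' : T)
    (hgs : g s' = f x) (σ : T ⟶ pullback f g) (hσ : σ ≫ pullback.snd f g = 𝟙 T)
    (x₀ : f.fiber (f x)) (hx₀ : f.fiberι (f x) x₀ = x) (O : Set X)
    (hOeq : f.fiberι (f x) ⁻¹' O = connectedComponent x₀) (hO : pullback.fst f g (σ s') ∈ O) :
    ∃ z ∈ MoreMor.sectionComponents (pullback.snd f g) σ, pullback.fst f g z = x := by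
  let f₁ := pullback.snd f g
  let SC := MoreMor.sectionComponents f₁ σ
  -- the fibre over `s'` maps onto the component of `x`
  let k := S.residueField (f x)
  let K := T.residueField s'
  have hgr : ∃ r : k ⟶ K, Spec.map r ≫ S.fromSpecResidueField (f x) =
      T.fromSpecResidueField s' ≫ g := by
    have : ∀ (y : S), g s' = y → ∃ r : S.residueField y ⟶ K, Spec.map r ≫ S.fromSpecResidueField y =
        T.fromSpecResidueField s' ≫ g := by
      rintro y rfl
      exact ⟨g.residueFieldMap s', g.SpecMap_residueFieldMap_fromSpecResidueField s'⟩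
    exact this _ hgs
  obtain ⟨r, hr⟩ := hgr
  letI : Algebra k K := r.hom.toAlgebra
  let ψ : f₁.fiber s' ⟶ f.fiber (f x) :=
    pullback.lift (f₁.fiberι s' ≫ pullback.fst f g) (f₁.fiberToSpecResidueField s' ≫ Spec.map r) (by
      rw [Category.assoc, Category.assoc, hr, pullback.condition, ← Category.assoc]
      rw [show f₁.fiberι s' ≫ pullback.snd f g =
        f₁.fiberToSpecResidueField s' ≫ T.fromSpecResidueField s' from pullback.condition,
        Category.assoc])
  have hψ : IsPullback ψ (f₁.fiberToSpecResidueField s') (f.fiberToSpecResidueField (f x)) (Spec.map r) := by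
    refine IsPullback.of_right ?_ (pullback.lift_snd _ _ _) (IsPullback.of_hasPullback f (S.fromSpecResidueField (f x)))
    rw [pullback.lift_fst, hr]
    exact (IsPullback.of_hasPullback f₁ _).paste_horiz (IsPullback.of_hasPullback f g)
  obtain ⟨q₀, hq₀⟩ := (f₁.range_fiberι s').ge (show σ s' ∈ f₁ ⁻¹' {s'} from GeomFib.section_apply f₁ σ hσ s')
  have hψq : ∀ z, f.fiberι (f x) (ψ z) = pullback.fst f g (f₁.fiberι s' z) := fun z => by
    rw [← Scheme.Hom.comp_apply, ← Scheme.Hom.comp_apply]
    exact congrArg (fun m : f₁.fiber s' ⟶ X => m z) (pullback.lift_fst _ _ _)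
  have hq₁ : ψ q₀ ∈ connectedComponent x₀ := by
    rw [← hOeq]
    show f.fiberι (f x) (ψ q₀) ∈ O
    rw [hψq, hq₀]
    exact hO
  have hψ' : IsPullback ψ (f₁.fiberToSpecResidueField s') (f.fiberToSpecResidueField (f x))
      (CompSurj.w (k := k) K) := by
    have e : Spec.map r = CompSurj.w (k := k) K := congrArg Spec.map (CommRingCat.hom_ext rfl)
    rw [← e]; exact hψ
  obtain ⟨z, hz, hψz⟩ := exists_mem_component (k := k) (K := K) _ _ _ hψ' q₀ x₀ (by
    rw [← connectedComponent_eq hq₁]; exact mem_connectedComponent)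
  have hzU : f₁.fiberι s' z ∈ SC := by
    have : f₁.fiberι s' z ∈ connectedComponentIn (f₁ ⁻¹' {s'}) (σ s') := by
      rw [← hq₀, ← Unibranch.fiberι_image_connectedComponent]
      exact ⟨z, hz, rfl⟩
    have e : f₁ (f₁.fiberι s' z) = s' := (connectedComponentIn_subset (f₁ ⁻¹' {s'}) (σ s') this :)
    show _ ∈ connectedComponentIn _ (σ (f₁ (f₁.fiberι s' z)))
    rw [e]; exact this
  exact ⟨_, hzU, by rw [← hψq, hψz, hx₀]⟩

/-- a section through the smooth part of a fibre component after an etale base change -/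
theorem exists_section_component {X S : Scheme.{u}} (f : X ⟶ S) [Flat f]
    [LocallyOfFinitePresentation f] [GeometricallyReduced f] (x : X) (x₀ : f.fiber (f x)) :
    ∃ (O : Set X) (T : Scheme.{u}) (g : T ⟶ S) (s' : T) (l : T ⟶ X), IsAffine T ∧ Etale g ∧
      g s' = f x ∧ l ≫ f = g ∧ f.fiberι (f x) ⁻¹' O = connectedComponent x₀ ∧ l s' ∈ O := by
  have := Unibranch.locallyConnectedSpace_fiber f (f x)
  -- a smooth point in the component
  letI : (f.fiber (f x)).Over (Spec (CommRingCat.of (S.residueField (f x)))) := ⟨f.fiberToSpecResidueField (f x)⟩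
  haveI : LocallyOfFiniteType (f.fiber (f x) ↘ Spec (CommRingCat.of (S.residueField (f x)))) :=
    MorphismProperty.pullback_snd _ _ (inferInstance : LocallyOfFiniteType f)
  obtain ⟨U₀, hU₀, hU₀s⟩ := (S1549.result (S.residueField (f x)) (f.fiber (f x))).1
    (inferInstance : GeometricallyReduced (f.fiberToSpecResidueField (f x)))
  obtain ⟨p, hpC, hpU⟩ := hU₀.inter_open_nonempty (connectedComponent x₀) isOpen_connectedComponent
    ⟨x₀, mem_connectedComponent⟩
  obtain ⟨O, hO, hOeq⟩ := (f.fiberι (f x)).isEmbedding.isInducing.isOpen_iff.mp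
    (isOpen_connectedComponent (x := x₀))
  let O' : X.Opens := ⟨O, hO⟩ ⊓ f.smoothLocus
  have hp : f.fiberι (f x) p ∈ O' := by
    have : LocallyOfFinitePresentation (f.fiberToSpecResidueField (f x)) :=
      MorphismProperty.pullback_snd _ _ (inferInstance : LocallyOfFinitePresentation f)
    refine ⟨hOeq.ge hpC, SmDesc.mem_smoothLocus_of_flat_fibre p rfl ?_⟩
    haveI : Smooth (U₀.ι ≫ f.fiberToSpecResidueField (f x)) := hU₀s
    exact SmDesc.mem_smoothLocus_of_smooth_ι _ hpU
  have : Smooth (O'.ι ≫ f) := by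
    have := SmDesc.smooth_smoothLocus f
    have e : O'.ι ≫ f = X.homOfLE (inf_le_right : O' ≤ f.smoothLocus) ≫ f.smoothLocus.ι ≫ f := (X.homOfLE_ι_assoc _ _).symm
    rw [e]; infer_instance
  obtain ⟨S₀, g₀, s₀, hg₀, hs₀, h, hh⟩ := S0412.result (O'.ι ≫ f) (f x)
    ⟨⟨_, hp⟩, (f.range_fiberι (f x)).le ⟨p, rfl⟩⟩
  obtain ⟨T, hT, hsT, -⟩ := exists_isAffineOpen_mem_and_subset (show s₀ ∈ (⊤ : S₀.Opens) from trivial)
  haveI : IsAffine (T : Scheme.{u}) := hT
  let g : (T : Scheme.{u}) ⟶ S := T.ι ≫ g₀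
  let s' : ↥(T : Scheme.{u}) := ⟨s₀, hsT⟩
  have hgs : g s' = f x := hs₀
  haveI : Etale g := inferInstanceAs (Etale (T.ι ≫ g₀))
  exact ⟨O, (T : Scheme.{u}), g, s', T.ι ≫ h ≫ O'.ι, hT, inferInstance, hgs,
    by rw [Category.assoc, Category.assoc, hh], hOeq, (h s₀).2.1⟩

/-- the affine case -/
theorem affine_case {X S : Scheme.{u}} [IsAffine X] [IsAffine S] (f : X ⟶ S) [Flat f]
    [LocallyOfFinitePresentation f] [GeometricallyReduced f] (x : X) :
    ∃ (S' X' : Scheme.{u}) (a : X' ⟶ X) (b : X' ⟶ S') (c : S' ⟶ S), Etale a ∧ x ∈ Set.range ⇑a ∧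
      Etale c ∧ a ≫ f = b ≫ c ∧ Flat b ∧ LocallyOfFinitePresentation b ∧ QuasiCompact b ∧
      QuasiSeparated b ∧ GeometricallyConnected b ∧ GeometricallyReduced b := by
  obtain ⟨x₀, hx₀⟩ := (f.range_fiberι (f x)).ge (rfl : x ∈ f ⁻¹' {f x})
  obtain ⟨O, T, g, s', l, hT, hg, hgs, hl, hOeq, hlO⟩ := exists_section_component f x x₀
  haveI := hT
  haveI := hg
  let σ : T ⟶ pullback f g := pullback.lift l (𝟙 _) (by rw [hl, Category.id_comp])
  have hσ : σ ≫ pullback.snd f g = 𝟙 _ := pullback.lift_snd _ _ _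
  obtain ⟨U, hU, hqc, hqs, hgc, hgr⟩ := fibration (pullback.snd f g) σ hσ
  obtain ⟨z, hz, hzx⟩ := lift_point f g x s' hgs σ hσ x₀ hx₀ O hOeq
    (by rw [← Scheme.Hom.comp_apply, pullback.lift_fst]; exact hlO)
  haveI : Etale (pullback.fst f g) := MorphismProperty.pullback_fst _ _ hg
  refine ⟨T, (U : Scheme.{u}), U.ι ≫ pullback.fst f g, U.ι ≫ pullback.snd f g, g, inferInstance,
    ⟨⟨z, hU.ge hz⟩, hzx⟩, hg, ?_, inferInstance, inferInstance, hqc, hqs, hgc, hgr⟩
  rw [Category.assoc, Category.assoc, pullback.condition]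


open AlgebraicGeometry CategoryTheory Limits in
/-- Let f : X → S be flat, locally of finite presentation, with geometrically reduced fibres. Then for
every point x of X there are an étale morphism X' → X whose image contains x, an étale morphism S' →
S and a factorization X' → S' → S of X' → X → S such that X' → S' is a flat morphism of finite
presentation all of whose fibres are geometrically connected and geometrically reduced. -/
theorem result {X S : Scheme.{u}} (f : X ⟶ S) [Flat f] [LocallyOfFinitePresentation f] [GeometricallyReduced f] (x : X) :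
    ∃ (X' S' : Scheme.{u}) (a : X' ⟶ X) (b : X' ⟶ S') (c : S' ⟶ S), Etale a ∧ x ∈ Set.range ⇑a ∧ Etale c ∧ a ≫ f = b ≫ c ∧
      Flat b ∧ LocallyOfFinitePresentation b ∧ QuasiCompact b ∧ QuasiSeparated b ∧ GeometricallyConnected b ∧ GeometricallyReduced b := by
  obtain ⟨V, hV, hxV, -⟩ := exists_isAffineOpen_mem_and_subset (show f x ∈ (⊤ : S.Opens) from trivial)
  obtain ⟨W, hW, hxW, hWV⟩ := exists_isAffineOpen_mem_and_subset (show x ∈ f ⁻¹ᵁ V from hxV)
  haveI : IsAffine (V : Scheme.{u}) := hV
  haveI : IsAffine (W : Scheme.{u}) := hW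
  haveI := geometricallyReduced_resLE f V W hWV
  haveI : Flat (f.resLE V W hWV) := inferInstance
  haveI : LocallyOfFinitePresentation (f.resLE V W hWV) := inferInstance
  obtain ⟨S', X', a, b, c, ha, ⟨x', hx'⟩, hc, hw, h1, h2, h3, h4, h5, h6⟩ :=
    affine_case (f.resLE V W hWV) ⟨x, hxW⟩
  refine ⟨X', S', a ≫ W.ι, b, c ≫ V.ι, inferInstance, ⟨x', ?_⟩, inferInstance, ?_, h1, h2, h3, h4, h5, h6⟩
  · rw [Scheme.Hom.comp_apply, hx']; rfl
  · rw [Category.assoc, ← f.resLE_comp_ι hWV, reassoc_of% hw]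

end Groth.Agent.S1361
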