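import Groth.Statements.S13622
import Mathlib.RingTheory.AdicCompletion.Completeness
import Mathlib.RingTheory.AdicCompletion.Algebra
import Mathlib.RingTheory.Finiteness.Ideal
import Mathlib.Tactic.Abel

set_option autoImplicit false
universe u v
open CAlg

namespace Groth.Agent.S13622

/-- Let A be a commutative ring, I a finitely generated ideal and (M_n) an inverse system of finitely
generated A-modules whose transition maps f_n : M_(n+1) → M_n are surjective with kernel I^(n+1)
M_(n+1), and with I^(n+1) M_n = 0 for all n. If L is an inverse limit of the system (projections π_n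
compatible with the f_n, jointly injective, every compatible family lifting to L), endowed with a
module structure over the I-adic completion A^ of A that is compatible with its A-module structure,
then L is finitely generated as an A^-module. No completeness of A is assumed. -/
theorem result
    (A : Type u) [CommRing A] (I : Ideal A) (hI : I.FG)
    (M : ℕ → Type v) [∀ n, AddCommGroup (M n)] [∀ n, Module A (M n)] [∀ n, Module.Finite A (M n)]
    (f : ∀ n, M (n + 1) →ₗ[A] M n) (hf : ∀ n, Function.Surjective (f n))
    (hker : ∀ n, LinearMap.ker (f n) = I ^ (n + 1) • (⊤ : Submodule A (M (n + 1))))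
    (hkill : ∀ n, I ^ (n + 1) • (⊤ : Submodule A (M n)) = ⊥)
    (L : Type v) [AddCommGroup L] [Module A L] (π : ∀ n, L →ₗ[A] M n)
    (hπ : ∀ n, f n ∘ₗ π (n + 1) = π n)
    (hinj : ∀ x : L, (∀ n, π n x = 0) → x = 0)
    (hlift : ∀ y : (∀ n, M n), (∀ n, f n (y (n + 1)) = y n) → ∃ x : L, ∀ n, π n x = y n)
    [Module (AdicCompletion I A) L] [IsScalarTower A (AdicCompletion I A) L] :
    Module.Finite (AdicCompletion I A) L := by
  classical
  have hsurj : ∀ n (z : M n), ∃ x : L, π n x = z := fun n z => by
    choose s hs using hf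
    suffices H : ∀ (n : ℕ) (z : M n), ∃ y : ∀ j, M j, y n = z ∧ ∀ j, j < n → f j (y (j + 1)) = y j by
      obtain ⟨Y, hY0, hY⟩ := H n z
      let y : ∀ j, M j := fun j => Nat.rec (motive := M) (Y 0) (fun j w => if j + 1 ≤ n then Y (j + 1) else s j w) j
      have hy1 : ∀ j, j ≤ n → y j = Y j := fun j hj => by
        cases j with
        | zero => rfl
        | succ j => exact if_pos hj
      obtain ⟨x, hx⟩ := hlift y fun j => by
        rcases Nat.lt_or_ge j n with h | h
        · rw [hy1 _ h, hy1 _ h.le, hY j h]
        · show f j (if j + 1 ≤ n then _ else s j (y j)) = y j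
          rw [if_neg (by omega), hs]
      exact ⟨x, by rw [hx, hy1 n le_rfl, hY0]⟩
    intro n
    induction n with
    | zero => exact fun z => ⟨Function.update (fun _ => 0) 0 z, by simp, fun j hj => by omega⟩
    | succ n ih =>
      intro z
      obtain ⟨y, hy0, hy⟩ := ih (f n z)
      refine ⟨Function.update y (n + 1) z, by simp, fun j hj => ?_⟩
      rcases Nat.lt_succ_iff_lt_or_eq.mp hj with h | rfl
      · rw [Function.update_of_ne (by omega), Function.update_of_ne (by omega), hy j h]
      · rw [Function.update_self, Function.update_of_ne (by omega), hy0]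
  obtain ⟨r, g, hg⟩ := Module.Finite.exists_fin (R := A) (M := M 0)
  choose x hx using fun i => hsurj 0 (g i)
  let G : ∀ n, Fin r → M n := fun n i => π n (x i)
  have hGf : ∀ n i, f n (G (n + 1) i) = G n i := fun n i => LinearMap.congr_fun (hπ n) (x i)
  have hspan : ∀ n, Submodule.span A (Set.range (G n)) = ⊤ := fun n => by
    induction n with
    | zero => simp [G, hx, hg]
    | succ n ih =>
      let S := Submodule.span A (Set.range (G (n + 1)))
      have hS : S ⊔ I ^ (n + 1) • ⊤ = ⊤ := by
        rw [← hker, ← Submodule.comap_map_eq, Submodule.map_span, ← Set.range_comp, show ⇑(f n) ∘ G (n + 1) = G n from funext (hGf n), ih, Submodule.comap_top]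
      refine eq_top_iff.mpr ?_
      calc (⊤ : Submodule A (M (n + 1))) = S ⊔ I ^ (n + 1) • ⊤ := hS.symm
        _ = S ⊔ I ^ (n + 1) • (S ⊔ I ^ (n + 1) • ⊤) := by rw [hS]; exact hS.symm
        _ ≤ S := by
          rw [Submodule.smul_sup, ← Submodule.mul_smul, ← pow_add]
          refine sup_le le_rfl (sup_le Submodule.smul_le_right ?_)
          exact (Submodule.smul_mono_left (Ideal.pow_le_pow_right (by omega))).trans ((hkill (n + 1)).le.trans bot_le)
  refine ⟨⟨Finset.univ.image x, eq_top_iff.mpr fun y _ => ?_⟩⟩
  have hcomb : ∀ n (z : M n), ∃ a : Fin r → A, ∑ i, a i • G n i = z := fun n z =>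
    (Submodule.mem_span_range_iff_exists_fun A).mp (hspan n ▸ Submodule.mem_top)
  have hstep : ∀ n (a : Fin r → A), (∑ i, a i • G n i = π n y) →
      ∃ b : Fin r → A, (∑ i, b i • G (n + 1) i = π (n + 1) y) ∧ ∀ i, b i - a i ∈ I ^ (n + 1) := fun n a ha => by
    have hmem : π (n + 1) y - ∑ i, a i • G (n + 1) i ∈ I ^ (n + 1) • Submodule.span A (Set.range (G (n + 1))) := by
      rw [hspan, ← hker, LinearMap.mem_ker, map_sub, map_sum, show f n (π (n + 1) y) = π n y from LinearMap.congr_fun (hπ n) y]
      simp [hGf, ha]
    obtain ⟨c, hc, hcs⟩ := (Submodule.mem_ideal_smul_span_iff_exists_sum _ _ _).mp hmem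
    refine ⟨fun i => a i + c i, ?_, fun i => by simpa using hc i⟩
    simp only [add_smul, Finset.sum_add_distrib]
    rw [show ∑ i, c i • G (n + 1) i = π (n + 1) y - ∑ i, a i • G (n + 1) i from ?_]
    · abel
    · rw [← hcs, Finsupp.sum_fintype _ _ (fun i => zero_smul A (G (n + 1) i))]
  choose nx hnx hnx' using hstep
  let a : ∀ n, {a : Fin r → A // ∑ i, a i • G n i = π n y} := fun n =>
    Nat.rec ⟨_, (hcomb 0 (π 0 y)).choose_spec⟩ (fun n p => ⟨nx n p.1 p.2, hnx n p.1 p.2⟩) n
  let c : Fin r → ℕ → A := fun i n => Nat.rec 0 (fun m _ => (a m).1 i) n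
  let q : Fin r → AdicCompletion.AdicCauchySequence I A := fun i => AdicCompletion.AdicCauchySequence.mk I A (c i) fun n => by
    cases n with
    | zero => rw [SModEq.sub_mem, pow_zero, Ideal.one_eq_top, Submodule.top_smul]; trivial
    | succ m =>
      rw [SModEq.sub_mem, smul_eq_mul, Ideal.mul_top]
      exact neg_sub ((a (m + 1)).1 i) ((a m).1 i) ▸ neg_mem (hnx' m (a m).1 (a m).2 i)
  let C : Fin r → AdicCompletion I A := fun i => AdicCompletion.mk I A (q i)
  have hy : y = ∑ i, C i • x i := by
    refine sub_eq_zero.mp (hinj _ fun n => ?_)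
    have hkey : ∀ i, π n (C i • x i) = (a n).1 i • G n i := fun i => by
      have hd : C i - algebraMap A (AdicCompletion I A) ((a n).1 i) ∈ (I ^ (n + 1) • ⊤ : Submodule A (AdicCompletion I A)) := by
        rw [AdicCompletion.pow_smul_top_eq_ker_eval hI, LinearMap.mem_ker, map_sub, sub_eq_zero]
        rfl
      have : π n ((C i - algebraMap A (AdicCompletion I A) ((a n).1 i)) • x i) = 0 := by
        refine Submodule.smul_induction_on hd (fun u hu w _ => ?_) fun u w hu hw => by rw [add_smul, map_add, hu, hw, add_zero]
        rw [smul_assoc, map_smul]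
        exact (Submodule.mem_bot A).mp (hkill n ▸ Submodule.smul_mem_smul hu Submodule.mem_top)
      rw [sub_smul, map_sub, sub_eq_zero, algebraMap_smul, (π n).map_smul ((a n).1 i) (x i)] at this
      exact this
    rw [map_sub, map_sum, Finset.sum_congr rfl fun i _ => hkey i, (a n).2, sub_self]
  rw [hy]
  refine Submodule.sum_mem _ fun i _ => Submodule.smul_mem _ _ (Submodule.subset_span ?_)
  simp

end Groth.Agent.S13622
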