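import Groth.Statements.S13623
import Mathlib.RingTheory.GradedAlgebra.Basic
import Mathlib.FieldTheory.IsAlgClosed.AlgebraicClosure
import Mathlib.RingTheory.Flat.FaithfullyFlat.Basic
import Mathlib.RingTheory.Support
import Mathlib.RingTheory.Nakayama
import Mathlib.RingTheory.LocalRing.Module

set_option autoImplicit false
universe u
open TensorProduct
open CAlg
open scoped TensorProduct

namespace Groth.Agent.S13623

/-- Let A be a commutative ring and B a commutative A-algebra, graded by A-submodules B_m (m ≥ 0)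
forming a graded-algebra structure, such that every B_m is a finitely generated A-module. If for
every algebraically closed field k and every A-algebra structure on k the k-algebra k ⊗_A B is
generated by the image of B_1 under b ↦ 1 ⊗ b, then its degree-one part B_1 generates the A-algebra
B. (Algebraically closed fields are taken in the universe of A.) -/
theorem result
    (A : Type u) [CommRing A] (B : Type u) [CommRing B] [Algebra A B]
    (𝒜 : ℕ → Submodule A B) [GradedAlgebra 𝒜]
    (hfin : ∀ m : ℕ, Module.Finite A (𝒜 m))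
    (hgen : ∀ (k : Type u) [Field k] [IsAlgClosed k] [Algebra A k],
      Algebra.adjoin k ((Algebra.TensorProduct.includeRight : B →ₐ[A] k ⊗[A] B) '' (𝒜 1 : Set B)) = ⊤) :
    Algebra.adjoin A (𝒜 1 : Set B) = ⊤ := by
  classical
  let C := Algebra.adjoin A (𝒜 1 : Set B)
  have hQ : ∀ m, ∀ b ∈ 𝒜 m, b ∈ C := by
    intro m
    let N : Submodule A (𝒜 m) := (Subalgebra.toSubmodule C).comap (𝒜 m).subtype
    haveI := hfin m
    by_contra hcon
    have hne : Nontrivial (↥(𝒜 m) ⧸ N) := by
      rw [Submodule.Quotient.nontrivial_iff]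
      intro h
      exact hcon fun b hb => (show (⟨b, hb⟩ : 𝒜 m) ∈ N from h ▸ trivial)
    obtain ⟨p, hp⟩ := Module.nonempty_support_of_nontrivial (R := A) (M := ↥(𝒜 m) ⧸ N)
    haveI := Module.mem_support_iff_nontrivial_residueField_tensorProduct (R := A) (M := ↥(𝒜 m) ⧸ N) p |>.mp hp
    let κ := p.asIdeal.ResidueField
    let k := AlgebraicClosure κ
    have hsub : Subsingleton (k ⊗[A] (↥(𝒜 m) ⧸ N)) := by
      let pr : B →ₗ[A] ↥(𝒜 m) ⧸ N := N.mkQ ∘ₗ
        ((GradedAlgebra.proj 𝒜 m).codRestrict (𝒜 m) fun b => by rw [GradedAlgebra.proj_apply]; exact SetLike.coe_mem _)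
      have hpr : Function.Surjective (pr.baseChange k) := by
        refine LinearMap.lTensor_surjective k fun z => ?_
        obtain ⟨⟨b, hb⟩, rfl⟩ := N.mkQ_surjective z
        refine ⟨b, congrArg N.mkQ (Subtype.ext ?_)⟩
        show GradedAlgebra.proj 𝒜 m b = b
        rw [GradedAlgebra.proj_apply, DirectSum.decompose_of_mem_same 𝒜 hb]
      refine subsingleton_of_forall_eq 0 fun z => ?_
      obtain ⟨w, rfl⟩ := hpr z
      have hw : w ∈ Submodule.span k (Submonoid.closure ((Algebra.TensorProduct.includeRight : B →ₐ[A] k ⊗[A] B) '' (𝒜 1 : Set B)) : Set (k ⊗[A] B)) := by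
        rw [← Algebra.adjoin_eq_span, hgen k]
        trivial
      induction hw using Submodule.span_induction with
      | mem x hx =>
        rw [← AlgHom.coe_toMonoidHom, ← MonoidHom.map_mclosure] at hx
        obtain ⟨y, hy, rfl⟩ := hx
        show pr.baseChange k ((1 : k) ⊗ₜ y) = 0
        rw [LinearMap.baseChange_tmul]
        have hyC : y ∈ C ∧ ∃ j, y ∈ 𝒜 j := by
          induction hy using Submonoid.closure_induction with
          | mem x hx => exact ⟨Algebra.subset_adjoin hx, 1, hx⟩
          | one => exact ⟨one_mem _, 0, SetLike.one_mem_graded 𝒜⟩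
          | mul a b _ _ ha hb =>
            obtain ⟨ha, i, hai⟩ := ha
            obtain ⟨hb, j, hbj⟩ := hb
            exact ⟨mul_mem ha hb, i + j, SetLike.mul_mem_graded hai hbj⟩
        obtain ⟨hyC, j, hyj⟩ := hyC
        have : pr y = 0 := by
          refine (Submodule.Quotient.mk_eq_zero N).mpr ?_
          show GradedAlgebra.proj 𝒜 m y ∈ C
          rw [GradedAlgebra.proj_apply]
          by_cases hjm : j = m
          · subst hjm; rw [DirectSum.decompose_of_mem_same 𝒜 hyj]; exact hyC
          · rw [DirectSum.decompose_of_mem_ne 𝒜 hyj hjm]; exact zero_mem C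
        rw [this, TensorProduct.tmul_zero]
      | zero => rw [map_zero]
      | add a b _ _ ha hb => rw [map_add, ha, hb, add_zero]
      | smul c a _ ha => rw [map_smul, ha, smul_zero]
    haveI : Module.Free κ k := Module.Free.of_divisionRing κ k
    haveI : Nontrivial (k ⊗[κ] (κ ⊗[A] (↥(𝒜 m) ⧸ N))) := Module.FaithfullyFlat.lTensor_nontrivial κ k _
    exact (not_subsingleton_iff_nontrivial.mpr
      ((TensorProduct.AlgebraTensorModule.cancelBaseChange A κ k k (↥(𝒜 m) ⧸ N)).symm.toEquiv.nontrivial)) hsub
  refine eq_top_iff.mpr fun b _ => ?_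
  rw [← DirectSum.sum_support_decompose 𝒜 b]
  exact sum_mem fun i _ => hQ i _ (SetLike.coe_mem _)

end Groth.Agent.S13623
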