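import Groth.Statements.S13627
import Mathlib
import Groth.Agent.GeomConn.Fibre

set_option autoImplicit false
universe u
open CategoryTheory CategoryTheory.Limits AlgebraicGeometry Opposite
open FBase

namespace Groth.Agent.S13627

/-- Let P be a property of schemes over fields, invariant under isomorphisms of schemes over the base
field and ascending along every field extension k → K (if Z over k has P then Z ×_k Spec K over K
has P). For a morphism of schemes f : X → T, these conditions are equivalent: (1) for every
algebraically closed field k and every morphism Spec k → T the fibre X ×_T Spec k has P over k; (2)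
for every point t of T the fibre of f over Spec of an algebraic closure of the residue field κ(t)
has P. (Fields are taken in the universe of the schemes. The published statement also treats a
morphism from an algebraic space X to a scheme T; this row treats morphisms of schemes.) -/
theorem result
    (P : ∀ (k : Type u) [Field k] (Z : Scheme.{u}), (Z ⟶ Spec (CommRingCat.of k)) → Prop)
    (hiso : ∀ (k : Type u) [Field k] (Z Z' : Scheme.{u}) (e : Z ≅ Z') (g : Z' ⟶ Spec (CommRingCat.of k)),
      P k Z' g → P k Z (e.hom ≫ g))
    (hext : ∀ (k K : Type u) [Field k] [Field K] (i : k →+* K) (Z : Scheme.{u}) (g : Z ⟶ Spec (CommRingCat.of k)),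
      P k Z g → P K (pullback g (Spec.map (CommRingCat.ofHom i))) (pullback.snd g (Spec.map (CommRingCat.ofHom i))))
    {X T : Scheme.{u}} (f : X ⟶ T) :
    (∀ (k : Type u) [Field k] [IsAlgClosed k] (σ : Spec (CommRingCat.of k) ⟶ T),
        P k (pullback f σ) (pullback.snd f σ)) ↔
      ∀ t : T, P (AlgebraicClosure ↥(T.residueField t))
        (pullback f (Spec.map (CommRingCat.ofHom (algebraMap ↥(T.residueField t) (AlgebraicClosure ↥(T.residueField t)))) ≫
          T.fromSpecResidueField t))
        (pullback.snd f (Spec.map (CommRingCat.ofHom (algebraMap ↥(T.residueField t) (AlgebraicClosure ↥(T.residueField t)))) ≫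
          T.fromSpecResidueField t)) := by
  constructor
  · intro h t
    exact h (AlgebraicClosure ↥(T.residueField t)) _
  · intro h k _ _ σ
    obtain ⟨⟨t, φ⟩, rfl⟩ := (Scheme.SpecToEquivOfField k T).symm.surjective σ
    letI := φ.hom.toAlgebra
    let ι : AlgebraicClosure ↥(T.residueField t) →ₐ[↥(T.residueField t)] k := IsAlgClosed.lift
    have e0 : Spec.map (CommRingCat.ofHom ι.toRingHom) ≫
        (Spec.map (CommRingCat.ofHom (algebraMap ↥(T.residueField t) (AlgebraicClosure ↥(T.residueField t)))) ≫
          T.fromSpecResidueField t) = (Scheme.SpecToEquivOfField k T).symm ⟨t, φ⟩ := by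
      rw [← Category.assoc, ← Spec.map_comp]
      change _ = Spec.map φ ≫ T.fromSpecResidueField t
      congr 2
      ext a
      exact ι.commutes a
    obtain ⟨e, he⟩ := Groth.Agent.GeomConn.exists_iso_fibre f _ _ _ e0
    have h1 := hiso k _ _ e.symm _ (hext _ k ι.toRingHom _ _ (h t))
    have h2 : e.symm.hom ≫ pullback.snd (pullback.snd f _) (Spec.map (CommRingCat.ofHom ι.toRingHom)) =
        pullback.snd f ((Scheme.SpecToEquivOfField k T).symm ⟨t, φ⟩) := by
      rw [Iso.symm_hom, ← he, Iso.inv_hom_id_assoc]
    rw [h2] at h1
    exact h1

end Groth.Agent.S13627
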