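import Groth.Statements.S13628
import Mathlib
import Groth.Agent.GeomConn.Fibre

set_option autoImplicit false
universe u
open CategoryTheory CategoryTheory.Limits AlgebraicGeometry Opposite
open FBase

namespace Groth.Agent.S13628

/-- Let P be a property of schemes over fields, invariant under isomorphisms of schemes over the base
field and invariant in both directions under every field extension k → K (Z over k has P if and only
if Z ×_k Spec K over K has P). Let f : X → T be a morphism of schemes, h : T' → T a surjective
morphism of schemes and f' : X' → T' a base change of f along h. If for every algebraically closed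
field k and every Spec k → T' the fibre X' ×_{T'} Spec k has P, then for every algebraically closed
field k and every Spec k → T the fibre X ×_T Spec k has P. (Fields are taken in the universe of the
schemes. The published statement is that families of del Pezzo surfaces form a stack for the étale
topology; this row is the step of its proof that descends the condition on geometric fibres along a
surjective base change, stated for any fibre property with the invariance above.) -/
theorem result
    (P : ∀ (k : Type u) [Field k] (Z : Scheme.{u}), (Z ⟶ Spec (CommRingCat.of k)) → Prop)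
    (hiso : ∀ (k : Type u) [Field k] (Z Z' : Scheme.{u}) (e : Z ≅ Z') (g : Z' ⟶ Spec (CommRingCat.of k)),
      P k Z' g → P k Z (e.hom ≫ g))
    (hext : ∀ (k K : Type u) [Field k] [Field K] (i : k →+* K) (Z : Scheme.{u}) (g : Z ⟶ Spec (CommRingCat.of k)),
      P k Z g ↔ P K (pullback g (Spec.map (CommRingCat.ofHom i))) (pullback.snd g (Spec.map (CommRingCat.ofHom i))))
    {X T X' T' : Scheme.{u}} (f : X ⟶ T) (h : T' ⟶ T) [Surjective h] (f' : X' ⟶ T') (h' : X' ⟶ X)
    (sq : IsPullback h' f' f h)
    (H : ∀ (k : Type u) [Field k] [IsAlgClosed k] (σ' : Spec (CommRingCat.of k) ⟶ T'),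
        P k (pullback f' σ') (pullback.snd f' σ'))
    (k : Type u) [Field k] [IsAlgClosed k] (σ : Spec (CommRingCat.of k) ⟶ T) :
    P k (pullback f σ) (pullback.snd f σ) := by
  set_option backward.isDefEq.respectTransparency false in
  obtain ⟨w⟩ : Nonempty ↥(pullback h σ) := by
    obtain ⟨t, -⟩ := (pullback.snd h σ).surjective (IsLocalRing.closedPoint k)
    exact ⟨t⟩
  let K₀ : Type u := ↥((pullback h σ).residueField w)
  letI : Field K₀ := inferInstanceAs (Field ↥((pullback h σ).residueField w))
  let L := AlgebraicClosure K₀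
  let p : Spec (CommRingCat.of L) ⟶ pullback h σ :=
    Spec.map (CommRingCat.ofHom (algebraMap K₀ L)) ≫ (pullback h σ).fromSpecResidueField w
  obtain ⟨i, hi⟩ := Spec.map_surjective (p ≫ pullback.snd h σ)
  have e0 : Spec.map (CommRingCat.ofHom i.hom) ≫ σ = (p ≫ pullback.fst h σ) ≫ h := by
    rw [CommRingCat.ofHom_hom, hi]
    simp only [Category.assoc, pullback.condition]
  obtain ⟨e1, he1⟩ := Groth.Agent.GeomConn.exists_iso_fibre f σ _ _ e0
  obtain ⟨e2, he2⟩ := Groth.Agent.GeomConn.exists_iso_fibre f h (p ≫ pullback.fst h σ) _ rfl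
  let e3 : pullback (pullback.snd f h) (p ≫ pullback.fst h σ) ≅ pullback f' (p ≫ pullback.fst h σ) :=
    asIso (pullback.map _ _ f' (p ≫ pullback.fst h σ) sq.isoPullback.inv (𝟙 _) (𝟙 _) (by simp) (by simp))
  have he3 : e3.hom ≫ pullback.snd f' (p ≫ pullback.fst h σ) =
      pullback.snd (pullback.snd f h) (p ≫ pullback.fst h σ) := by simp [e3]
  refine (hext k L i.hom _ _).2 ?_
  have h1 := hiso L _ _ (e1 ≪≫ e2.symm ≪≫ e3) _ (H L (p ≫ pullback.fst h σ))
  have h2 : (e1 ≪≫ e2.symm ≪≫ e3).hom ≫ pullback.snd f' (p ≫ pullback.fst h σ) =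
      pullback.snd (pullback.snd f σ) (Spec.map (CommRingCat.ofHom i.hom)) := by
    have he2' : e2.inv ≫ pullback.snd (pullback.snd f h) (p ≫ pullback.fst h σ) =
        pullback.snd f ((p ≫ pullback.fst h σ) ≫ h) := (Iso.inv_comp_eq e2).2 he2.symm
    change (e1.hom ≫ e2.inv ≫ e3.hom) ≫ _ = _
    refine ((Category.assoc _ _ _).trans (congrArg (e1.hom ≫ ·) ((Category.assoc _ _ _).trans ?_))).trans he1
    exact (congrArg (e2.inv ≫ ·) he3).trans he2'
  rw [h2] at h1
  exact h1

end Groth.Agent.S13628
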