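import Groth.Statements.S13629
import Groth.Agent.Intersect.Misc
import Groth.Agent.S7761
import Groth.Agent.SchDense.Unit
import Groth.Agent.DerPerf.Local

set_option autoImplicit false
universe u
open CategoryTheory CategoryTheory.Limits AlgebraicGeometry Opposite
open FGA
open Groth.Agent

namespace Groth.Agent.S13629

/-- Let f : X → Y be a proper, flat morphism of schemes, locally of finite presentation, whose
scheme-theoretic fibres X_y all have Krull dimension at most 2, and let L be an invertible
O_X-module with a tensor inverse M (M ⊗ L ≅ O_X). Then the self-intersection number (L_y · L_y) of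
the restriction of L to the fibre X_y over κ(y), namely the alternating sum χ(O_{X_y}) − 2χ(M_y) +
χ(M_y ⊗ M_y) of Euler characteristics in degrees ≤ 2, is a locally constant function of y: every
point y₀ of Y has an open neighbourhood on which it equals its value at y₀. (The published statement
is the case where the fibres are integral normal Gorenstein surfaces and L is the relative dualizing
sheaf, so that the number is the self-intersection K² of the canonical class of the fibre; the fibre
X_y is regarded as a scheme over Spec κ(y) through the second projection.) -/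
theorem result
    {X Y : Scheme.{u}} (f : X ⟶ Y) [IsProper f] [Flat f] [LocallyOfFinitePresentation f]
    (hdim : ∀ y : Y, topologicalKrullDim ↥(f.fiber y) ≤ 2)
    (L M : X.Modules) (hL : PicF.IsInvertible L) (hM : ClSub.IsInverseOf M L) (y₀ : Y) :
    ∃ U : Y.Opens, y₀ ∈ U ∧ ∀ y : Y, y ∈ U →
      @FGA.intNum ↥(Y.residueField y) _ (f.fiber y) ⟨f.fiberToSpecResidueField y⟩ 2 2
            ![(Scheme.Modules.pullback (f.fiberι y)).obj M, (Scheme.Modules.pullback (f.fiberι y)).obj M]
            (Coh.structureModule (f.fiber y)) =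
        @FGA.intNum ↥(Y.residueField y₀) _ (f.fiber y₀) ⟨f.fiberToSpecResidueField y₀⟩ 2 2
            ![(Scheme.Modules.pullback (f.fiberι y₀)).obj M, (Scheme.Modules.pullback (f.fiberι y₀)).obj M]
            (Coh.structureModule (f.fiber y₀)) := by
  have hMi : PicF.IsInvertible M := by
    obtain ⟨e⟩ := hM
    exact Groth.Agent.Intersect.isInvertible_inverse hL ⟨TMul.commIso _ _ ≪≫ e⟩
  obtain ⟨U, hy, hU⟩ := Groth.Agent.S7761.result X Y f (Coh.structureModule X)
    (Groth.Agent.SchDense.isFP_unit X) (Groth.Agent.SchDense.isFlatOver_unit f) 2 ![M, M]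
    (Groth.Agent.Intersect.isInvertible_vec₂ hMi hMi) y₀
  refine ⟨U, hy, fun y hyU => ?_⟩
  have key : ∀ y : Y, (@FGA.intNum ↥(Y.residueField y) _ (f.fiber y) ⟨f.fiberToSpecResidueField y⟩ 2 2
      ![(Scheme.Modules.pullback (f.fiberι y)).obj M, (Scheme.Modules.pullback (f.fiberι y)).obj M]
      (Coh.structureModule (f.fiber y)) : ℚ) =
      Groth.Agent.Intersect.alt (fun n : Fin 2 → ℕ => (@Curv2.euler (Y.residueField y) _ (f.fiber y)
        ⟨f.fiberToSpecResidueField y⟩ ((Scheme.Modules.pullback (f.fiberι y)).obj
          (Curv2.tensorPows (Coh.structureModule X) 2 ![M, M] n)) : ℚ)) := fun y => by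
    letI : (f.fiber y).Over (Spec (CommRingCat.of ↥(Y.residueField y))) := ⟨f.fiberToSpecResidueField y⟩
    haveI : IsProper (f.fiber y ↘ Spec (CommRingCat.of ↥(Y.residueField y))) :=
      MorphismProperty.pullback_snd (P := @IsProper) _ _ ‹IsProper f›
    rw [Groth.Agent.Intersect.intNum_eq_alt _ 2 (hdim y)]
    congr 1
    funext n
    obtain ⟨p⟩ := W7Cech.pullback_tensorPows (f.fiberι y) (Coh.structureModule X) ![M, M] n
    obtain ⟨q⟩ := W7Cech.tensorPows_iso (F := (Scheme.Modules.pullback (f.fiberι y)).obj (Coh.structureModule X))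
      (F' := Coh.structureModule _) ⟨DerPerf.pullUnitIso _⟩
      (L := fun i => (Scheme.Modules.pullback (f.fiberι y)).obj ((![M, M] : Fin 2 → X.Modules) i))
      (L' := ![(Scheme.Modules.pullback (f.fiberι y)).obj M, (Scheme.Modules.pullback (f.fiberι y)).obj M])
      (fun i => ⟨eqToIso (by fin_cases i <;> rfl)⟩) n
    obtain ⟨r⟩ := Groth.Agent.Intersect.nonempty_tensorPows_iso (Coh.structureModule (f.fiber y))
      ![(Scheme.Modules.pullback (f.fiberι y)).obj M, (Scheme.Modules.pullback (f.fiberι y)).obj M] n
    exact congrArg (fun z : ℤ => (z : ℚ)) (Groth.Agent.CurveRR.euler_eq_of_iso (p ≪≫ q ≪≫ r)).symm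
  have h := (key y).trans ((congrArg Groth.Agent.Intersect.alt (funext fun n => congrArg (fun z : ℤ => (z : ℚ)) (hU y hyU n))).trans (key y₀).symm)
  exact_mod_cast h

end Groth.Agent.S13629
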