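import Groth.Statements.S13631
import Mathlib.LinearAlgebra.FreeModule.Finite.Matrix
import Mathlib.LinearAlgebra.Dimension.Finite
import Mathlib.LinearAlgebra.Quotient.Basic

set_option autoImplicit false
set_option backward.isDefEq.respectTransparency false
set_option linter.style.haveILetI false
universe u v w
open CAlg

namespace Groth.Agent.S13631

/-- Let k be a field, R an integral domain which is a k-algebra of infinite dimension over k, M a finite
free R-module, σ a ring automorphism of R mapping the image of k onto itself, and φ : M → M a
σ-semilinear map. If the cokernel of φ is finite-dimensional over k, in the sense that some finitely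
generated k-subspace N of M satisfies M = N + φ(M), then φ is injective. -/
theorem result
    {k : Type u} {R : Type v} {M : Type w} [Field k] [CommRing R] [IsDomain R] [Algebra k R]
    (hR : ¬ Module.Finite k R)
    [AddCommGroup M] [Module R M] [Module k M] [IsScalarTower k R M]
    [Module.Finite R M] [Module.Free R M]
    (σ : R ≃+* R)
    (hσ : ∀ x : k, ∃ y : k, σ (algebraMap k R x) = algebraMap k R y)
    (hσ' : ∀ y : k, ∃ x : k, σ (algebraMap k R x) = algebraMap k R y)
    (φ : M →ₛₗ[(σ : R →+* R)] M)
    (hcoker : ∃ N : Submodule k M, N.FG ∧ ∀ m : M, ∃ n ∈ N, ∃ m' : M, m = n + φ m') :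
    Function.Injective φ := by
  classical
  let r := Module.finrank R M
  let b := Module.finBasis R M
  haveI : RingHomSurjective (σ : R →+* R) := ⟨σ.surjective⟩
  obtain ⟨N, hN, hcov⟩ := hcoker
  let L : Submodule R M := LinearMap.range φ
  have hfin : Module.Finite k (M ⧸ L.restrictScalars k) := by
    haveI : Module.Finite k N := Module.Finite.iff_fg.mpr hN
    refine Module.Finite.of_surjective ((L.restrictScalars k).mkQ ∘ₗ N.subtype) fun x => ?_
    obtain ⟨m, rfl⟩ := Submodule.mkQ_surjective _ x
    obtain ⟨n, hn, m', rfl⟩ := hcov m
    exact ⟨⟨n, hn⟩, (Submodule.Quotient.eq _).mpr (by simp [L])⟩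
  have htor : ∀ m : M, ∃ c : R, c ≠ 0 ∧ c • m ∈ L := by
    intro m
    by_contra! hcon
    refine hR (Module.Finite.of_injective
      ((L.restrictScalars k).mkQ ∘ₗ ((LinearMap.toSpanSingleton R M m).restrictScalars k)) ?_)
    rw [← LinearMap.ker_eq_bot, Submodule.eq_bot_iff]
    intro c hc
    by_contra hne
    exact hcon c hne (by simpa [Submodule.Quotient.mk_eq_zero] using hc)
  choose c hc0 hcL using fun i => htor (b i)
  choose v hv using hcL
  rw [injective_iff_map_eq_zero]
  intro m hm
  by_contra hne
  have hind : LinearIndependent R (Option.elim' m v : Option (Fin r) → M) := by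
    rw [Fintype.linearIndependent_iff]
    intro g hg
    rw [Fintype.sum_option] at hg
    have h1 := congrArg φ hg
    simp only [map_add, map_sum, map_smulₛₗ, map_zero, Option.elim'_none, Option.elim'_some, hm, smul_zero, zero_add, hv,
      smul_smul] at h1
    have h2 := Fintype.linearIndependent_iff.mp b.linearIndependent _ h1
    have h3 : ∀ i, g (some i) = 0 := fun i => by
      rcases mul_eq_zero.mp (h2 i) with h | h
      · exact (map_eq_zero_iff _ σ.injective).mp h
      · exact absurd h (hc0 i)
    simp only [h3, zero_smul, Finset.sum_const_zero, add_zero, Option.elim'_none] at hg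
    rintro (_ | i)
    · exact (smul_eq_zero.mp hg).resolve_right hne
    · exact h3 i
  have := hind.fintype_card_le_finrank
  simp [r] at this

end Groth.Agent.S13631
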