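import Groth.Statements.S13632
import Mathlib

set_option autoImplicit false
universe u
open TensorProduct
open CAlg

namespace Groth.Agent.S13632


open TensorProduct in
theorem injective_localized_aux {R A B : Type u} [CommRing R] [CommRing A] [CommRing B] [Algebra R A]
    [Algebra R B] [Module.Finite R A] [Module.Flat R A] [Algebra.FiniteType R B] (f : B →ₐ[R] A)
    (hfs : Function.Surjective f)
    (hK : ∀ (p : Ideal R) [p.IsPrime], Subsingleton (p.ResidueField ⊗[R] LinearMap.ker f.toLinearMap))
    (m : Ideal R) [m.IsPrime] (k : B) (hk : f k = 0) :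
    (1 : Localization.AtPrime m) ⊗ₜ[R] k = 0 := by
  classical
  let R' := Localization.AtPrime m
  let f' : (R' ⊗[R] B) →ₐ[R'] (R' ⊗[R] A) := Algebra.TensorProduct.map (AlgHom.id R' R') f
  have hfl : ∀ t : R' ⊗[R] B, f' t = f.toLinearMap.lTensor R' t := by
    intro t
    induction t with
    | zero => simp
    | add x y hx hy => simp [hx, hy]
    | tmul r b => simp [f']
  have hf' : Function.Surjective f' := fun z => by
    obtain ⟨t, ht⟩ := LinearMap.lTensor_surjective R' (g := f.toLinearMap) hfs z
    exact ⟨t, (hfl t).trans ht⟩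
  haveI : Module.Free R' (R' ⊗[R] A) := Module.free_of_flat_of_isLocalRing
  haveI : Module.FinitePresentation R' (R' ⊗[R] A) := Module.finitePresentation_of_projective R' _
  haveI : Algebra.FinitePresentation R' (R' ⊗[R] A) := inferInstance
  let K' : Ideal (R' ⊗[R] B) := RingHom.ker f'.toRingHom
  haveI hfin : Module.Finite (R' ⊗[R] B) K' := by
    obtain ⟨n, g, hg⟩ := Algebra.FiniteType.iff_quotient_mvPolynomial''.1
      (inferInstance : Algebra.FiniteType R' (R' ⊗[R] B))
    have h1 := Algebra.FinitePresentation.ker_fg_of_mvPolynomial (f'.comp g) (hf'.comp hg)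
    rw [Module.Finite.iff_fg]
    have h2 := h1.map g.toRingHom
    have h3 : (RingHom.ker (f'.comp g).toRingHom).map g.toRingHom = K' := by
      refine le_antisymm (Ideal.map_le_iff_le_comap.2 fun x hx => hx) fun y hy => ?_
      obtain ⟨x, rfl⟩ := hg y
      exact Ideal.mem_map_of_mem _ hy
    rwa [h3] at h2
  let L := LinearMap.ker f.toLinearMap
  have hmem : ∀ x : L, (1 : R') ⊗ₜ[R] (x : B) ∈ K' := fun x => by
    show f' ((1 : R') ⊗ₜ[R] (x : B)) = 0
    rw [hfl, LinearMap.lTensor_tmul, LinearMap.mem_ker.1 x.2, tmul_zero]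
  let ι' : L →ₗ[R] K' :=
    { toFun := fun x => ⟨_, hmem x⟩
      map_add' := fun x y => Subtype.ext (tmul_add _ _ _)
      map_smul' := fun c x => Subtype.ext (tmul_smul c _ _) }
  suffices hsub : Subsingleton K' from
    congrArg Subtype.val (Subsingleton.elim (⟨_, hmem ⟨k, hk⟩⟩ : K') 0)
  rw [← Module.support_eq_empty_iff (R := R' ⊗[R] B), Set.eq_empty_iff_forall_notMem]
  intro q hq
  rw [Module.mem_support_iff_nontrivial_residueField_tensorProduct] at hq
  apply not_subsingleton (q.asIdeal.ResidueField ⊗[R' ⊗[R] B] K')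
  let p : Ideal R := q.asIdeal.comap (algebraMap R (R' ⊗[R] B))
  let g : p.ResidueField →+* q.asIdeal.ResidueField := Ideal.ResidueField.map p q.asIdeal _ rfl
  haveI : Subsingleton (p.ResidueField ⊗[R] L) := hK p
  have h1 : ∀ x : L, (1 : q.asIdeal.ResidueField) ⊗ₜ[R' ⊗[R] B] ι' x = 0 := by
    intro x
    let φ : p.ResidueField ⊗[R] L →+ q.asIdeal.ResidueField ⊗[R' ⊗[R] B] K' :=
      TensorProduct.liftAddHom
        { toFun := fun c =>
            { toFun := fun y => g c ⊗ₜ[R' ⊗[R] B] ι' y
              map_zero' := by rw [map_zero, tmul_zero]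
              map_add' := fun y z => by rw [map_add, tmul_add] }
          map_zero' := by ext y; simp
          map_add' := fun c d => by ext y; simp [add_tmul] }
        (fun r c y => by
          show g (r • c) ⊗ₜ[R' ⊗[R] B] ι' y = g c ⊗ₜ[R' ⊗[R] B] ι' (r • y)
          rw [map_smul ι' r y, ← IsScalarTower.algebraMap_smul (R' ⊗[R] B) r (ι' y), tmul_smul,
            smul_tmul', Algebra.smul_def, Algebra.smul_def, map_mul,
            Ideal.ResidueField.map_algebraMap])
    have h2 := congrArg φ (Subsingleton.elim ((1 : p.ResidueField) ⊗ₜ[R] x) 0)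
    rw [map_zero] at h2
    simpa [φ] using h2
  have hall : ∀ y : K', (1 : q.asIdeal.ResidueField) ⊗ₜ[R' ⊗[R] B] y = 0 := by
    have hex : Function.Exact (L.subtype.lTensor R') (f.toLinearMap.lTensor R') :=
      lTensor_exact R' (LinearMap.exact_subtype_ker_map f.toLinearMap) hfs
    have hgen : ∀ t : R' ⊗[R] L, ∃ hm : L.subtype.lTensor R' t ∈ K',
        (1 : q.asIdeal.ResidueField) ⊗ₜ[R' ⊗[R] B] (⟨_, hm⟩ : K') = 0 := by
      intro t
      induction t with
      | zero =>
        refine ⟨by simp, ?_⟩
        rw [show (⟨_, _⟩ : K') = 0 from Subtype.ext (map_zero _), tmul_zero]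
      | add x y hx hy =>
        obtain ⟨hx, hx0⟩ := hx
        obtain ⟨hy, hy0⟩ := hy
        refine ⟨by rw [map_add]; exact K'.add_mem hx hy, ?_⟩
        rw [show (⟨_, _⟩ : K') = ⟨_, hx⟩ + ⟨_, hy⟩ from Subtype.ext (map_add _ _ _), tmul_add, hx0,
          hy0, add_zero]
      | tmul r x =>
        have he : L.subtype.lTensor R' (r ⊗ₜ x) = (r ⊗ₜ[R] (1 : B)) * ((1 : R') ⊗ₜ[R] (x : B)) := by
          simp
        refine ⟨by rw [he]; exact K'.mul_mem_left _ (hmem x), ?_⟩
        rw [show (⟨_, _⟩ : K') = (r ⊗ₜ[R] (1 : B)) • ι' x from Subtype.ext he]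
        refine (TensorProduct.tmul_smul (R := R' ⊗[R] B) (r ⊗ₜ[R] (1 : B))
          (1 : q.asIdeal.ResidueField) (ι' x)).trans ?_
        rw [h1, smul_zero]
    intro y
    obtain ⟨t, ht⟩ := (hex (y : R' ⊗[R] B)).1 ((hfl _).symm.trans y.2)
    obtain ⟨hm, h0⟩ := hgen t
    rw [show y = ⟨_, hm⟩ from Subtype.ext ht.symm]
    exact h0
  refine subsingleton_of_forall_eq 0 fun z => ?_
  induction z with
  | zero => rfl
  | add x y hx hy => rw [hx, hy, add_zero]
  | tmul c y =>
    rw [show c ⊗ₜ[R' ⊗[R] B] y = c • ((1 : q.asIdeal.ResidueField) ⊗ₜ[R' ⊗[R] B] y) by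
      rw [smul_tmul', smul_eq_mul, mul_one], hall, smul_zero]

/-- Let S = Spec R, X = Spec A finite and flat over S, Y = Spec B of finite type over S, and φ : X → Y
an S-morphism given by f : B → A. If for every point s of S the fibres X_s and Y_s have the same
order (the κ(s)-dimension of their rings of global sections κ(s) ⊗ A and κ(s) ⊗ B; equivalently at
every geometric point) and φ is an isomorphism over every closed point of S (κ(m) ⊗ f bijective for
every maximal ideal m), then φ is an isomorphism, i.e. f is bijective. (The published statement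
allows an arbitrary base scheme S and Y separated of finite type over S; this row is the case of an
affine base with X and Y affine, the case its proof treats directly. Over a base with no closed
points the general statement fails: the hypothesis at closed points is then empty.) -/
theorem result
    {R A B : Type u} [CommRing R] [CommRing A] [CommRing B] [Algebra R A] [Algebra R B]
    [Module.Finite R A] [Module.Flat R A] [Algebra.FiniteType R B]
    (f : B →ₐ[R] A)
    (hrank : ∀ p : PrimeSpectrum R,
      Module.rank p.asIdeal.ResidueField (p.asIdeal.ResidueField ⊗[R] B) =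
        Module.rank p.asIdeal.ResidueField (p.asIdeal.ResidueField ⊗[R] A))
    (hmax : ∀ (m : Ideal R) [m.IsMaximal],
      Function.Bijective (LinearMap.lTensor m.ResidueField f.toLinearMap)) :
    Function.Bijective f := by
  let fl := f.toLinearMap
  have hfs : Function.Surjective f := by
    let Q := A ⧸ LinearMap.range fl
    haveI : Subsingleton Q := by
      rw [← Module.support_eq_empty_iff (R := R), Set.eq_empty_iff_forall_notMem]
      intro p hp
      obtain ⟨m, hm, hle⟩ := p.asIdeal.exists_le_maximal p.isPrime.ne_top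
      haveI := hm
      have hm' := Module.mem_support_mono (q := ⟨m, hm.isPrime⟩) hle hp
      rw [Module.mem_support_iff_nontrivial_residueField_tensorProduct] at hm'
      apply not_subsingleton (m.ResidueField ⊗[R] Q)
      refine subsingleton_of_forall_eq 0 fun z => ?_
      obtain ⟨w, rfl⟩ := LinearMap.lTensor_surjective m.ResidueField
        (Submodule.mkQ_surjective (LinearMap.range fl)) z
      obtain ⟨v, rfl⟩ := (hmax m).2 w
      rw [← LinearMap.comp_apply, ← LinearMap.lTensor_comp, LinearMap.range_mkQ_comp,
        LinearMap.lTensor_zero, LinearMap.zero_apply]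
    intro a
    obtain ⟨b, hb⟩ : a ∈ LinearMap.range fl :=
      (Submodule.Quotient.mk_eq_zero _).1 (Subsingleton.elim (Submodule.Quotient.mk a : Q) 0)
    exact ⟨b, hb⟩
  refine ⟨?_, hfs⟩
  have hinj : ∀ (p : Ideal R) [p.IsPrime], Function.Injective (fl.lTensor p.ResidueField) := by
    intro p hp
    haveI : FiniteDimensional p.ResidueField (p.ResidueField ⊗[R] B) := by
      rw [FiniteDimensional, ← Module.rank_lt_aleph0_iff, hrank ⟨p, hp⟩]
      exact Module.rank_lt_aleph0 _ _
    have hfr : Module.finrank p.ResidueField (p.ResidueField ⊗[R] B) =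
        Module.finrank p.ResidueField (p.ResidueField ⊗[R] A) :=
      congrArg Cardinal.toNat (hrank ⟨p, hp⟩)
    have h := (LinearMap.injective_iff_surjective_of_finrank_eq_finrank hfr
      (f := fl.baseChange p.ResidueField)).2 (by
        rw [LinearMap.baseChange_eq_ltensor]
        exact LinearMap.lTensor_surjective _ hfs)
    rwa [LinearMap.baseChange_eq_ltensor] at h
  have hK : ∀ (p : Ideal R) [p.IsPrime],
      Subsingleton (p.ResidueField ⊗[R] LinearMap.ker f.toLinearMap) := by
    intro p _
    refine subsingleton_of_forall_eq 0 fun t => ?_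
    apply LinearMap.lTensor_injective_of_exact_of_flat fl hfs (LinearMap.ker fl).subtype
      (Submodule.subtype_injective _) (LinearMap.exact_subtype_ker_map fl) p.ResidueField
    apply hinj p
    rw [map_zero, map_zero, ← LinearMap.comp_apply, ← LinearMap.lTensor_comp,
      show fl ∘ₗ (LinearMap.ker fl).subtype = 0 from LinearMap.ext fun x => x.2,
      LinearMap.lTensor_zero, LinearMap.zero_apply]
  intro x y hxy
  rw [← sub_eq_zero]
  refine Module.eq_of_localization_maximal (fun P _ => (Localization.AtPrime P) ⊗[R] B)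
    (fun P _ => TensorProduct.mk R (Localization.AtPrime P) B 1) _ _ fun P _ => ?_
  rw [map_zero]
  exact injective_localized_aux f hfs hK P (x - y) (by rw [map_sub, hxy, sub_self])

end Groth.Agent.S13632
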