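import Groth.Statements.S13642
import Mathlib.AlgebraicGeometry.Restrict

set_option autoImplicit false
open CategoryTheory
universe u
open FSch

namespace Groth.Agent.S13642

/-- Let f : 𝔛 ⟶ 𝔜 be a finite morphism of locally Noetherian formal schemes (adic, with finite morphism
of smallest levels). Then for every open U of 𝔜 the restriction f⁻¹(U) ⟶ U of f to the induced
formal schemes on U and on its inverse image is a finite morphism. -/
theorem result (𝔛 𝔜 : FSch.Sys.{u}) (h𝔛 : 𝔛.IsLocNoethFormal) (h𝔜 : 𝔜.IsLocNoethFormal)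
    (f : 𝔛 ⟶ 𝔜) (hf : FSch.IsFiniteHom f) (U : (𝔜.X 0).Opens) :
    FSch.IsFiniteHom (FSch.Hom.restrictOpen f h𝔛.1 h𝔜.1 U) := by
  have key : ∀ {X Y : AlgebraicGeometry.Scheme.{u}} (g : X ⟶ Y) [AlgebraicGeometry.IsFinite g] (B : Y.Opens)
      (A : X.Opens) (e : A ≤ (TopologicalSpace.Opens.map g.base).obj B),
      A = (TopologicalSpace.Opens.map g.base).obj B → AlgebraicGeometry.IsFinite (g.resLE B A e) := by
    intro X Y g _ B A e eq
    subst eq
    rw [AlgebraicGeometry.Scheme.Hom.resLE_eq_morphismRestrict]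
    exact AlgebraicGeometry.IsZariskiLocalAtTarget.restrict ‹_› B
  have := hf.2
  refine ⟨fun n => ?_, key _ _ _ _ (FSch.Hom.lvU_preimage f h𝔛.1 h𝔜.1 0 U).symm⟩
  exact AlgebraicGeometry.Scheme.Hom.isPullback_resLE (hf.1 n) _ _ (by
    rw [FSch.Sys.lvU_succ 𝔛 h𝔛.1, FSch.Hom.lvU_preimage f h𝔛.1 h𝔜.1, inf_idem])

end Groth.Agent.S13642
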