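import Groth.Statements.S13647
import Groth.Agent.FSProper.AlgMain
import Groth.Agent.W7Exist.Induct

set_option autoImplicit false
set_option backward.isDefEq.respectTransparency false
set_option backward.isDefEq.respectTransparency.types false
open CategoryTheory CategoryTheory.Limits AlgebraicGeometry
universe u
open FSch Groth.Agent

namespace Groth.Agent.S13647

/-- Suppose A is a Noetherian ring that is adic with J as an ideal of definition, and put Y = Spec A.
Consider finite-type morphisms f : X ⟶ Y and h : Z ⟶ Y together with a proper Y-morphism g : Z ⟶ X.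
Write X̂ and Ẑ for the completions along the preimages of V(J), and ĝ : Ẑ ⟶ X̂ for the map on
completions induced by g. A module on X̂ (resp. Ẑ) is termed algebraizable if it is isomorphic to
the completion of some coherent module on X (resp. Z) having support proper over Y. Under these
assumptions, whenever 𝔉 is an algebraizable O_Ẑ-module, its direct image ĝ_* 𝔉 is again an
algebraizable O_X̂-module. -/
theorem result (A : Type u) [CommRing A] [IsNoetherianRing A]
    (J : Ideal A) [IsAdicComplete J A] {X Z : Scheme.{u}} (f : X ⟶ Spec (CommRingCat.of A))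
    [LocallyOfFiniteType f] [QuasiCompact f] (h : Z ⟶ Spec (CommRingCat.of A)) [LocallyOfFiniteType h]
    [QuasiCompact h] (g : Z ⟶ X) (hg : g ≫ f = h) [IsProper g]
    (𝓘 : X.IdealSheafData) (h𝓘 : 𝓘 = (FSch.idealSpec A J).comap f)
    (𝓚 : Z.IdealSheafData) (h𝓚 : 𝓚 = (FSch.idealSpec A J).comap h)
    (hX : (FSch.completionAlong X 𝓘).IsFormal) (hZ : (FSch.completionAlong Z 𝓚).IsFormal)
    (hpc : FSch.PowCompat g 𝓚 𝓘) (𝔉 : FSch.ModF (FSch.completionAlong Z 𝓚) hZ)
    (a𝔉 : (∃ G : Z.Modules, Coh.IsCoh G ∧ ClSub.IsProperOver h (CohB1.support G) ∧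
        Nonempty (𝔉 ≅ (FSch.complMod 𝓚 G).realMod hZ))) :
    (∃ G : X.Modules, Coh.IsCoh G ∧ ClSub.IsProperOver f (CohB1.support G) ∧
        Nonempty ((FSch.pushF (FSch.completionMap g 𝓚 𝓘 hpc) hZ hX).obj 𝔉 ≅ (FSch.complMod 𝓘 G).realMod hX)) := by
  obtain ⟨G, hG, hGp, ⟨e⟩⟩ := a𝔉
  haveI : IsLocallyNoetherian (Spec (CommRingCat.of A)) := inferInstance
  haveI : IsLocallyNoetherian X := LocallyOfFiniteType.isLocallyNoetherian f
  haveI : IsLocallyNoetherian Z := LocallyOfFiniteType.isLocallyNoetherian h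
  haveI : IsGrothendieckAbelian.{u} (FSch.ModF (FSch.completionAlong Z 𝓚) hZ) := Groth.Agent.KFlat.isGrothendieck _
  haveI : EnoughInjectives (FSch.ModF (FSch.completionAlong Z 𝓚) hZ) := inferInstance
  haveI : HasInjectiveResolutions (FSch.ModF (FSch.completionAlong Z 𝓚) hZ) := inferInstance
  haveI := Groth.Agent.RPushQC.hasInjectiveResolutions Z
  have h𝓚' : 𝓚 = 𝓘.comap g := by rw [h𝓚, h𝓘, ← hg, Scheme.IdealSheafData.comap_comp]
  have hHc := Groth.Agent.W7Exist.isCoh_push_proper g hG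
  refine ⟨(Scheme.Modules.pushforward g).obj G, hHc,
    Groth.Agent.W7Exist.isProperOver_support_push g hg hGp hHc.2, ?_⟩
  have hXL := Groth.Agent.S3854.result X 𝓘
  have hZL := Groth.Agent.S3854.result Z 𝓚
  let cX := FSchCoh.cmpG (FSch.completionAlong X 𝓘) hX (FSch.completionToX X 𝓘) (FSch.completionToX_comm X 𝓘)
    ((Scheme.Modules.pushforward g).obj G)
  haveI : IsIso cX := FSchCoh.isIso_cmpG (FSch.completionAlong X 𝓘) (FSch.completionToX X 𝓘)
    (FSch.completionToX_comm X 𝓘) _ hXL hHc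
  let cZ := FSchCoh.cmpG (FSch.completionAlong Z 𝓚) hZ (FSch.completionToX Z 𝓚) (FSch.completionToX_comm Z 𝓚) G
  haveI : IsIso cZ := FSchCoh.isIso_cmpG (FSch.completionAlong Z 𝓚) (FSch.completionToX Z 𝓚)
    (FSch.completionToX_comm Z 𝓚) _ hZL hG
  obtain ⟨ρ⟩ := Groth.Agent.FSProper.nonempty_completion_rpush g 𝓘 𝓚 h𝓚' hpc 0 G hG hZ hX
  let P := FSch.pushF (FSch.completionMap g 𝓚 𝓘 hpc) hZ hX
  haveI : P.IsRightAdjoint := (FSch.homMor (FSch.completionMap g 𝓚 𝓘 hpc) hZ hX).adj.isRightAdjoint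
  haveI : P.Additive := Functor.additive_of_preserves_binary_products _
  haveI : PreservesFiniteLimits P := inferInstance
  let eP := P.mapIso (e ≪≫ (asIso cZ).symm) ≪≫ (P.rightDerivedZeroIsoSelf.app _).symm ≪≫ ρ.symm
  exact ⟨eP ≪≫ (FSch.toSchemeMor (FSch.completionAlong X 𝓘) hX (FSch.completionToX X 𝓘)
    (FSch.completionToX_comm X 𝓘)).pull.mapIso ((Coh.push g).rightDerivedZeroIsoSelf.app G) ≪≫ asIso cX⟩

end Groth.Agent.S13647
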