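import Groth.Statements.S13658
import Groth.Agent.FormBlow.Chart
import Groth.Agent.AdicRingLib.Chart

set_option backward.isDefEq.respectTransparency false

set_option autoImplicit false
open CategoryTheory AlgebraicGeometry
universe u
open FBlow

namespace Groth.Agent.S13658

open FBlow Groth.Agent.FormBlow
open Groth.Agent.FSchCoh (OA)

/-- Let R be a base ring of class (N) or (V) for the ideal I and X an admissible formal R-scheme,
presented I-adically: a formal system of thickenings X_0 → X_1 → ⋯ adic over Spf R = (Spec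
R/I^(n+1))_n (all squares cartesian), with every level X_n locally of finite presentation over
R/I^(n+1), structure sheaf O_X = lim O_{X_n} on the common underlying space, and no I-torsion (over
every open, a section of O_X annihilated by the kernel of O_X → O_{X_0} is zero). Let J and K be
coherent open ideals of O_X, X' → X an admissible formal blowing-up of J (universal-property sense)
and X'' → X' an admissible formal blowing-up of the ideal K·O_{X'}. Then the composite X'' → X is an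
admissible formal blowing-up of the product ideal J·K. -/
theorem result
    (R : Type u) [CommRing R] (I : Ideal R) (hR : AdicRing.IsBase R I)
    (𝔛 : FSch.Sys.{u}) (h : 𝔛.IsFormal) (p : 𝔛 ⟶ FSch.spf R I) (hp : FSch.IsAdicHom p)
    (hfp : ∀ n, LocallyOfFinitePresentation ((p : FSch.Hom 𝔛 (FSch.spf R I)).app n))
    (htf : ∀ (U : (𝔛.X 0).Opens) (s : (𝔛.Osh h).obj.obj (Opposite.op U)),
      (∀ a ∈ (FBlow.IdealSh.ker (𝔛.OshProj h 0)).sect U, a * s = 0) → s = 0)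
    (J K : FBlow.IdealSh (𝔛.Osh h)) (hJ : FBlow.IsCohOpen 𝔛 h J) (hK : FBlow.IsCohOpen 𝔛 h K)
    (𝔛' : FSch.Sys.{u}) (h' : 𝔛'.IsFormal) (b : 𝔛' ⟶ 𝔛) (hb : FBlow.IsAdmBlowUp b h' h J)
    (𝔛'' : FSch.Sys.{u}) (h'' : 𝔛''.IsFormal) (b' : 𝔛'' ⟶ 𝔛')
    (hb' : FBlow.IsAdmBlowUp b' h'' h' (FBlow.idealMap b h' h K)) :
    FBlow.IsAdmBlowUp (b' ≫ b) h'' h (FBlow.IdealSh.mul J K) := by
  have hI := AdicRingLib.fg_of_isBase hR
  have hbp : FSch.IsAdicHom (b ≫ p) := isAdicHom_comp hb.1 hp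
  refine ⟨isAdicHom_comp hb'.1 hb.1, ?_, ?_⟩
  · -- the product becomes invertible
    rw [idealMap_mul, ← idealMap_comp h h' b h'' b', ← idealMap_comp h h' b h'' b']
    refine isInvertible_mul ?_ hb'.2.1
    rw [isInvertible_iff]
    intro x
    set x' := (b' : FSch.Hom 𝔛'' 𝔛').app 0 x
    obtain ⟨UJ, hUJ, hxUJ, sJ, cJ, fJ, hfJ, hJf, hpowJ⟩ := exists_generators h p hp hI hJ ((b : FSch.Hom 𝔛' 𝔛).app 0 x')
    obtain ⟨UK, hUK, hxUK, sK, cK, fK, hfK, hKf, hpowK⟩ := exists_generators h p hp hI hK ((b : FSch.Hom 𝔛' 𝔛).app 0 x')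
    obtain ⟨U₀, hxU₀, g, hg⟩ := isInvertible_iff.1 hb.2.1 x'
    obtain ⟨U, hU, hxU, hUle⟩ := exists_isAffineOpen_mem_and_subset
      (show x' ∈ U₀ ⊓ ((b : FSch.Hom 𝔛' 𝔛).app 0 ⁻¹ᵁ UJ ⊓ (b : FSch.Hom 𝔛' 𝔛).app 0 ⁻¹ᵁ UK) from
        ⟨hxU₀, hxUJ, hxUK⟩)
    have hUU₀ : U ≤ U₀ := fun y hy => (hUle hy).1
    have hUJ' : U ≤ (b : FSch.Hom 𝔛' 𝔛).app 0 ⁻¹ᵁ UJ := fun y hy => (hUle hy).2.1
    have hUK' : U ≤ (b : FSch.Hom 𝔛' 𝔛).app 0 ⁻¹ᵁ UK := fun y hy => (hUle hy).2.2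
    have hgU := hg.res hUU₀
    let f : Fin sK → OA 𝔛' h' U := fun k => shPb h h' b hUK' (fK k)
    have hf : ∀ k, f k ∈ (idealMap b h' h K).sect U := fun k => pb_mem_map _ _ K hUK' (hfK k)
    have hKf' : idealMap b h' h K ≤ relGen U f := map_le_relGen _ _ hKf hUK'
    have hpow : ∀ a ∈ I ^ (cK + 1), rho h' (b ≫ p) U a ∈ Ideal.span (Set.range f) := fun a ha => by
      rw [← shPb_rho h h' p b hUK' a]
      have h1 := Ideal.mem_map_of_mem (shPb h h' b hUK') (hpowK a ha)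
      rw [Ideal.map_span, ← Set.range_comp] at h1
      exact h1
    have hg' : ∀ a ∈ I ^ (cJ + 1), rs hUU₀ g ∣ rho h' (b ≫ p) U a := fun a ha => by
      have hmem : rho h' (b ≫ p) U a ∈ (idealMap b h' h J).sect U := by
        rw [← shPb_rho h h' p b hUJ' a]
        exact pb_mem_map _ _ J hUJ' ((Ideal.span_le.2 (by rintro _ ⟨k, rfl⟩; exact hfJ k)) (hpowJ a ha))
      obtain ⟨t, ht⟩ := hgU.exists_eq le_rfl hmem
      exact ⟨t, ht.trans (by rw [rs_self, mul_comm])⟩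
    have hgnz : ∀ a : OA 𝔛' h' U, rs hUU₀ g * a = 0 → a = 0 := fun a ha =>
      hgU.2.1 U le_rfl a (by rw [rs_self, mul_comm]; exact ha)
    -- a member of the family generates near `x`
    obtain ⟨V₀, hxV₀, k, hk⟩ := isInvertible_iff.1 hb'.2.1 x
    have hgen := map_le_relGen (g := ((b' : FSch.Hom 𝔛'' 𝔛').app 0).base) (φ := FSch.Hom.sharp b' h'' h')
      hKf' (le_refl ((b' : FSch.Hom 𝔛'' 𝔛').app 0 ⁻¹ᵁ U))
    obtain ⟨W, iW, jW, hxW, hW⟩ := hgen V₀ hk.1 x ⟨hxV₀, hxU⟩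
    obtain ⟨e, he⟩ := Ideal.mem_span_range_iff_exists_fun.1 hW
    have hk' := hk.res iW
    have hfmem : ∀ l, shPb h' h'' b' jW (f l) ∈ (idealMap b' h'' h' (idealMap b h' h K)).sect W :=
      fun l => pb_mem_map _ _ _ jW (hf l)
    choose d hd using fun l => hk'.exists_eq le_rfl (hfmem l)
    have hsum : ∑ l, e l * d l = 1 := by
      refine hk'.2.1.cancel le_rfl ?_
      rw [Finset.sum_mul, one_mul, rs_self]
      refine Eq.trans (Finset.sum_congr rfl fun l _ => ?_) he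
      rw [mul_assoc]
      congr 1
      refine Eq.trans ?_ (pb_rs _ _ (le_refl _) jW (f l)).symm
      exact ((hd l).trans (by rw [rs_self])).symm
    obtain ⟨V, iV, i, hxV, hu⟩ := hasLocalUnits h'' W sK (fun l => e l * d l) hsum x hxW
    rw [map_mul] at hu
    obtain ⟨w, hw⟩ := isUnit_of_mul_isUnit_right hu
    have hjV : V ≤ (b' : FSch.Hom 𝔛'' 𝔛').app 0 ⁻¹ᵁ U := iV.trans jW
    have hkV := hk'.res iV
    have hfi : shPb h' h'' b' hjV (f i) = w.val * rs iV (rs iW k) := by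
      rw [show shPb h' h'' b' hjV (f i) = rs iV (shPb h' h'' b' jW (f i)) from (pb_rs _ _ jW iV (f i)).symm,
        hd i, map_mul, hw, rs_self]
    have hinv : InvOn (idealMap b' h'' h' (idealMap b h' h K)) V (shPb h' h'' b' hjV (f i)) := by
      refine ⟨pb_mem_map _ _ _ hjV (hf i), fun V' l t ht => ?_, fun V' s hs => ?_⟩
      · rw [hfi, map_mul, ← mul_assoc] at ht
        have := hkV.2.1 V' l _ ht
        rwa [(w.isUnit.map (rs l)).mul_left_eq_zero] at this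
      · refine relGen_le_of_mem (le_refl V) (fun _ => ?_) V' (hkV.2.2 V' hs)
        rw [rs_self, show rs iV (rs iW k) = ↑w⁻¹ * shPb h' h'' b' hjV (f i) by rw [hfi, Units.inv_mul_cancel_left]]
        exact Ideal.mul_mem_left _ _ (mem_relGen_self (fun _ : Unit => shPb h' h'' b' hjV (f i)) ())
    have hnz := nzdOn_chart h' h'' (b ≫ p) hbp hI hU (idealMap b h' h K) b' hb' f hf hKf' hpow i hjV hinv hgnz hg'
    refine ⟨V, hxV, shPb h' h'' b' hjV (rs hUU₀ g), pb_mem_map _ _ _ hjV hgU.1, hnz, ?_⟩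
    exact map_le_relGen _ _ hgU.2.2 hjV
  · -- the universal property
    intro 𝔜 h𝔜 g hg hinv
    rw [idealMap_mul] at hinv
    have hJY : (idealMap g h𝔜 h J).IsInvertible := isInvertible_of_mul (hasLocalUnits h𝔜) hinv
    rw [mul_comm_idealSh] at hinv
    have hKY : (idealMap g h𝔜 h K).IsInvertible := isInvertible_of_mul (hasLocalUnits h𝔜) hinv
    obtain ⟨k₁, hk₁, hk₁u⟩ := hb.2.2 𝔜 h𝔜 g hg hJY
    have hk₁a : FSch.IsAdicHom k₁ := isAdicHom_of_comp (hk₁.symm ▸ hg) hb.1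
    obtain ⟨k₂, hk₂, hk₂u⟩ := hb'.2.2 𝔜 h𝔜 k₁ hk₁a (by rw [idealMap_comp h h' b h𝔜 k₁, hk₁]; exact hKY)
    refine ⟨k₂, (Category.assoc _ _ _).symm.trans ((congrArg (· ≫ b) hk₂).trans hk₁), fun k hk => hk₂u k (hk₁u _ ?_)⟩
    exact (Category.assoc _ _ _).trans hk

end Groth.Agent.S13658
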