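import Groth.Statements.S13654
import Groth.Agent.FormBlow.Extend

set_option autoImplicit false
open CategoryTheory AlgebraicGeometry
universe u
open FBlow
open Groth.Agent.FormBlow
open Groth.Agent.FSchCoh (OA RA projR)

set_option backward.isDefEq.respectTransparency false
set_option linter.style.haveILetI false

namespace Groth.Agent.S13654

/-- Let R be a base ring of class (N) or (V) for the ideal I and X an admissible formal R-scheme,
presented I-adically: a formal system of thickenings X_0 → X_1 → ⋯ adic over Spf R = (Spec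
R/I^(n+1))_n (all squares cartesian), with every level X_n locally of finite presentation over
R/I^(n+1), structure sheaf O_X = lim O_{X_n} on the common underlying space, and no I-torsion (over
every open, a section of O_X annihilated by the kernel of O_X → O_{X_0} is zero); assume that the
underlying space of X is quasi-separated and quasi-paracompact (covered by quasi-compact opens each
of which meets only finitely many of the others). Let U be a quasi-compact open subset, carrying the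
induced formal system, and J_U a coherent open ideal of O_U. Then J_U extends to a coherent open
ideal J of O_X: the ideal J·O_U generated by J along the inclusion of U is J_U, and J can moreover
be chosen so that its sections over every open subset disjoint from U form the unit ideal. -/
theorem result
    (R : Type u) [CommRing R] (I : Ideal R) (hR : AdicRing.IsBase R I)
    (𝔛 : FSch.Sys.{u}) (h : 𝔛.IsFormal) (p : 𝔛 ⟶ FSch.spf R I) (hp : FSch.IsAdicHom p)
    (hfp : ∀ n, LocallyOfFinitePresentation ((p : FSch.Hom 𝔛 (FSch.spf R I)).app n))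
    (htf : ∀ (U : (𝔛.X 0).Opens) (s : (𝔛.Osh h).obj.obj (Opposite.op U)),
      (∀ a ∈ (FBlow.IdealSh.ker (𝔛.OshProj h 0)).sect U, a * s = 0) → s = 0)
    [QuasiSeparatedSpace (𝔛.X 0)]
    (hqp : ∃ (ι : Type u) (V : ι → (𝔛.X 0).Opens), (⨆ i, V i) = ⊤ ∧ (∀ i, IsCompact (V i : Set (𝔛.X 0))) ∧
      ∀ i, Set.Finite {j : ι | V i ⊓ V j ≠ ⊥})
    (U : (𝔛.X 0).Opens) (hUc : IsCompact (U : Set (𝔛.X 0))) (hU : (𝔛.restrictOpen h U).IsFormal)
    (JU : FBlow.IdealSh ((𝔛.restrictOpen h U).Osh hU)) (hJU : FBlow.IsCohOpen (𝔛.restrictOpen h U) hU JU) :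
    ∃ J : FBlow.IdealSh (𝔛.Osh h), FBlow.IsCohOpen 𝔛 h J ∧
      FBlow.idealMap (𝔛.restrictOpenι h U) hU h J = JU ∧
      ∀ V : (𝔛.X 0).Opens, V ⊓ U = ⊥ → J.sect V = ⊤ := by
  classical
  have hI : I.FG := AdicRingLib.fg_of_isBase hR
  let ιU := 𝔛.restrictOpenι h U
  have hιU : FSch.IsAdicHom ιU := isAdicHom_restrictOpenι h U
  haveI : CompactSpace ((𝔛.restrictOpen h U).X 0) := by
    refine (isCompact_iff_compactSpace (s := ((𝔛.lvU h 0 U : (𝔛.X 0).Opens) : Set (𝔛.X 0)))).1 ?_
    rw [lvU_zero h U]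
    exact hUc
  haveI : QuasiSeparatedSpace ((𝔛.restrictOpen h U).X 0) :=
    QuasiSeparatedSpace.of_isOpenEmbedding (𝔛.lvU h 0 U).ι.isOpenEmbedding
  obtain ⟨N, 𝔅, -, h𝔅, hJU'⟩ := exists_level hU (ιU ≫ p) (isAdicHom_comp hιU hp) hI hJU 0
  -- a quasi-compact open containing the closure
  obtain ⟨ι, V, hV, hVc, hVf⟩ := hqp
  obtain ⟨t, ht⟩ := hUc.elim_finite_subcover (fun i => (V i : Set (𝔛.X 0))) (fun i => (V i).2)
    (fun x _ => by
      obtain ⟨i, hi⟩ := TopologicalSpace.Opens.mem_iSup.1 (hV.ge (TopologicalSpace.Opens.mem_top x))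
      exact Set.mem_iUnion.2 ⟨i, hi⟩)
  let T : Set ι := ⋃ i ∈ t, {j : ι | V i ⊓ V j ≠ ⊥}
  have hT : T.Finite := t.finite_toSet.biUnion fun i _ => hVf i
  let W : (𝔛.X 0).Opens := ⟨⋃ j ∈ T, (V j : Set (𝔛.X 0)), isOpen_biUnion fun j _ => (V j).2⟩
  have hWc : IsCompact (W : Set (𝔛.X 0)) := hT.isCompact_biUnion fun j _ => hVc j
  have hclW : closure (U : Set (𝔛.X 0)) ⊆ W := by
    intro y hy
    obtain ⟨j, hj⟩ := TopologicalSpace.Opens.mem_iSup.1 (hV.ge (TopologicalSpace.Opens.mem_top y))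
    obtain ⟨z, hzj, hzU⟩ := mem_closure_iff.1 hy _ (V j).2 hj
    obtain ⟨i, hi, hzi⟩ := Set.mem_iUnion₂.1 (ht hzU)
    refine Set.mem_iUnion₂.2 ⟨j, Set.mem_iUnion₂.2 ⟨i, hi, fun he => ?_⟩, hj⟩
    have hz : z ∈ V i ⊓ V j := ⟨hzi, hzj⟩
    rw [he] at hz
    exact hz
  -- transport to the level
  haveI := quasiSeparatedSpace_level h N
  let e : (𝔛.X N) ≃ₜ (𝔛.X 0) :=
    { toFun := fun y => 𝔛.gInv h N y
      invFun := fun x => (𝔛.toX N).base x
      left_inv := fun y => by
        show (𝔛.toX N).base (𝔛.gInv h N y) = y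
        rw [← ConcreteCategory.comp_apply, FSch.Sys.gInv_toX_base]; rfl
      right_inv := fun x => by
        show 𝔛.gInv h N ((𝔛.toX N).base x) = x
        rw [← ConcreteCategory.comp_apply, FSch.Sys.toX_base_gInv]; rfl
      continuous_toFun := (𝔛.gInv h N).hom.continuous
      continuous_invFun := (𝔛.toX N).base.hom.continuous }
  have hcpt : ∀ S : Set (𝔛.X 0), S ⊆ W → IsCompact (e ⁻¹' S) := fun S hS =>
    e.isCompact_preimage.2 (isCompact_of_subset_compact h p hR hp hfp hWc hS)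
  have hcl : closure ((𝔛.lvU h N U : (𝔛.X N).Opens) : Set (𝔛.X N)) = e ⁻¹' closure (U : Set (𝔛.X 0)) :=
    (e.preimage_closure _).symm
  obtain ⟨𝒥, h𝒥, hcomap, htop⟩ := exists_extend_ideal (𝔛.lvU h N U) (𝔛.lvU h N W)
    (hcpt _ (subset_closure.trans hclW)) (hcpt _ subset_rfl)
    (hcl.le.trans (Set.preimage_mono hclW))
    (by rw [hcl]; exact hcpt ((W : Set (𝔛.X 0)) \ closure (U : Set (𝔛.X 0))) Set.sdiff_subset)
    𝔅 h𝔅
  refine ⟨ofLevel 𝔛 h N 𝒥, isCohOpen_ofLevel h h𝒥, ?_, fun D hD => ?_⟩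
  · rw [idealMap_ofLevel h hU p hp hI ιU hιU N 𝒥, hJU']
    exact congrArg (ofLevel _ hU N) hcomap
  · rw [Ideal.eq_top_iff_one]
    refine (ofLevel 𝔛 h N 𝒥).mem_of_local fun x hx => ?_
    obtain ⟨W', hW', hxW', hW'D⟩ := exists_isAffineOpen_mem_and_subset hx
    refine ⟨W', hW'D, hxW', (mem_ofLevel_affine_iff h N 𝒥 hW' _).2 ?_⟩
    rw [htop (lvA h hW' N) (Set.disjoint_left.2 fun y hy hy' => ?_)]
    · exact Submodule.mem_top
    · have hz : 𝔛.gInv h N y ∈ D ⊓ U := ⟨hW'D hy, hy'⟩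
      rw [hD] at hz
      exact hz

end Groth.Agent.S13654
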