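import Groth.Statements.S13655
import Groth.Agent.FormBlow.LocProd
import Groth.Agent.S13652
import Groth.Agent.S13654

set_option autoImplicit false
open CategoryTheory AlgebraicGeometry
universe u
open FBlow
open Groth.Agent.FormBlow

set_option backward.isDefEq.respectTransparency false
set_option linter.style.haveILetI false

namespace Groth.Agent.S13655

/-- Let R be a base ring of class (N) or (V) for the ideal I and X an admissible formal R-scheme,
presented I-adically: a formal system of thickenings X_0 → X_1 → ⋯ adic over Spf R = (Spec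
R/I^(n+1))_n (all squares cartesian), with every level X_n locally of finite presentation over
R/I^(n+1), structure sheaf O_X = lim O_{X_n} on the common underlying space, and no I-torsion (over
every open, a section of O_X annihilated by the kernel of O_X → O_{X_0} is zero); assume the
underlying space of X is quasi-separated. Let (X_i) be a covering of finite type (each member meets
only finitely many others) by quasi-compact open subsets, each carrying the induced formal system,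
and for every i let X_i' → X_i be an admissible formal blowing-up of a coherent open ideal J_i of
O_{X_i}. Then there is an admissible formal blowing-up X' → X of some coherent open ideal of O_X
dominating all of them: for every i the restriction of X' → X over X_i factors through X_i' → X_i in
exactly one way. -/
theorem result
    (R : Type u) [CommRing R] (I : Ideal R) (hR : AdicRing.IsBase R I)
    (𝔛 : FSch.Sys.{u}) (h : 𝔛.IsFormal) (p : 𝔛 ⟶ FSch.spf R I) (hp : FSch.IsAdicHom p)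
    (hfp : ∀ n, LocallyOfFinitePresentation ((p : FSch.Hom 𝔛 (FSch.spf R I)).app n))
    (htf : ∀ (U : (𝔛.X 0).Opens) (s : (𝔛.Osh h).obj.obj (Opposite.op U)),
      (∀ a ∈ (FBlow.IdealSh.ker (𝔛.OshProj h 0)).sect U, a * s = 0) → s = 0)
    [QuasiSeparatedSpace (𝔛.X 0)]
    (ι : Type u) (V : ι → (𝔛.X 0).Opens) (hV : (⨆ i, V i) = ⊤) (hVc : ∀ i, IsCompact (V i : Set (𝔛.X 0)))
    (hVf : ∀ i, Set.Finite {j : ι | V i ⊓ V j ≠ ⊥}) (hVi : ∀ i, (𝔛.restrictOpen h (V i)).IsFormal)
    (Ji : ∀ i, FBlow.IdealSh ((𝔛.restrictOpen h (V i)).Osh (hVi i)))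
    (hJi : ∀ i, FBlow.IsCohOpen (𝔛.restrictOpen h (V i)) (hVi i) (Ji i))
    (𝔛i : ι → FSch.Sys.{u}) (hi : ∀ i, (𝔛i i).IsFormal) (bi : ∀ i, 𝔛i i ⟶ 𝔛.restrictOpen h (V i))
    (hbi : ∀ i, FBlow.IsAdmBlowUp (bi i) (hi i) (hVi i) (Ji i)) :
    ∃ (J : FBlow.IdealSh (𝔛.Osh h)) (𝔛' : FSch.Sys.{u}) (h' : 𝔛'.IsFormal) (b : 𝔛' ⟶ 𝔛),
      FBlow.IsCohOpen 𝔛 h J ∧ FBlow.IsAdmBlowUp b h' h J ∧
      ∀ i, ∃! k : 𝔛'.restrictOpen h' (((b : FSch.Hom 𝔛' 𝔛).app 0) ⁻¹ᵁ (V i)) ⟶ 𝔛i i,
        k ≫ bi i = FSch.Hom.restrictOpen b h' h (V i) := by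
  classical
  have hI : I.FG := AdicRingLib.fg_of_isBase hR
  choose Jx hJx hJxe hJxtop using fun i => Groth.Agent.S13654.result R I hR 𝔛 h p hp hfp htf
    ⟨ι, V, hV, hVc, hVf⟩ (V i) (hVc i) (hVi i) (Ji i) (hJi i)
  let F : ι → Finset ι := fun a => (hVf a).toFinset
  obtain ⟨P, hP, hPe⟩ := exists_locProd h p hp hI Jx hJx V hV F fun a i hi W hW => by
    have hai : V a ⊓ V i = ⊥ := by simpa [F] using hi
    refine hJxtop i W (le_bot_iff.1 ?_)
    rw [← hai]
    exact inf_le_inf_right _ hW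
  obtain ⟨𝔛', h', b, hb⟩ := Groth.Agent.S13652.result R I hR 𝔛 h p hp hfp htf P hP
  refine ⟨P, 𝔛', h', b, hP, hb, fun i => ?_⟩
  let Ω := (b : FSch.Hom 𝔛' 𝔛).app 0 ⁻¹ᵁ V i
  let hΩ := isFormal_restrictOpen h' Ω
  let r := FSch.Hom.restrictOpen b h' h (V i)
  have hr : FSch.IsAdicHom r := by
    refine isAdicHom_of_comp (g := 𝔛.restrictOpenι h (V i)) ?_ (isAdicHom_restrictOpenι h (V i))
    rw [FSch.Hom.restrictOpen_ι]
    exact isAdicHom_comp (isAdicHom_restrictOpenι h' Ω) hb.1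
  refine (hbi i).2.2 _ hΩ r hr ?_
  rw [← hJxe i, idealMap_comp h (hVi i) (𝔛.restrictOpenι h (V i)) hΩ r,
    show r ≫ 𝔛.restrictOpenι h (V i) = 𝔛'.restrictOpenι h' Ω ≫ b from FSch.Hom.restrictOpen_ι _ _ _ _]
  by_cases hbot : V i = ⊥
  · -- nothing lies over an empty open
    intro y
    exfalso
    have hy : (b : FSch.Hom 𝔛' 𝔛).app 0 ((𝔛'.restrictOpenι h' Ω : FSch.Hom _ _).app 0 y) ∈ V i :=
      range_restrictOpenι h' Ω y
    rw [hbot] at hy
    exact hy
  have hi : i ∈ F i := by simpa [F] using hbot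
  have e : ⊤ ≤ (𝔛'.restrictOpenι h' Ω ≫ b : FSch.Hom _ _).app 0 ⁻¹ᵁ V i := fun y _ =>
    range_restrictOpenι h' Ω y
  have h1 : (idealMap (𝔛'.restrictOpenι h' Ω ≫ b) hΩ h P).IsInvertible := by
    rw [← idealMap_comp h h' b hΩ (𝔛'.restrictOpenι h' Ω) P]
    exact isInvertible_restrictOpen h' Ω hb.2.1
  rw [idealMap_congr h hΩ e (hPe i), ← Finset.insert_erase hi,
    piSh_insert Jx (Finset.notMem_erase i (F i)), idealMap_mul h hΩ] at h1
  exact isInvertible_of_mul (hasLocalUnits hΩ) h1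

end Groth.Agent.S13655
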