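import Groth.Statements.S13656
import Groth.Agent.FormBlow.GlueHom
import Groth.Agent.S13652
import Groth.Agent.S13653
import Groth.Agent.S13654

set_option autoImplicit false
open CategoryTheory AlgebraicGeometry
universe u
open FBlow
open Groth.Agent.FormBlow

set_option backward.isDefEq.respectTransparency false
set_option linter.style.haveILetI false

namespace Groth.Agent.S13656

/-- Let R be a base ring of class (N) or (V) for the ideal I and X an admissible formal R-scheme,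
presented I-adically: a formal system of thickenings X_0 → X_1 → ⋯ adic over Spf R = (Spec
R/I^(n+1))_n (all squares cartesian), with every level X_n locally of finite presentation over
R/I^(n+1), structure sheaf O_X = lim O_{X_n} on the common underlying space, and no I-torsion (over
every open, a section of O_X annihilated by the kernel of O_X → O_{X_0} is zero); assume that the
underlying space of X is quasi-separated and quasi-paracompact (covered by quasi-compact opens each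
of which meets only finitely many of the others). If X' → X is an admissible formal blowing-up of a
coherent open ideal of O_X and X'' → X' an admissible formal blowing-up of a coherent open ideal of
O_{X'}, then there is an admissible formal blowing-up X''' → X of some coherent open ideal of O_X
dominating the composite X'' → X, that is, factoring through it by a morphism X''' → X''. -/
theorem result
    (R : Type u) [CommRing R] (I : Ideal R) (hR : AdicRing.IsBase R I)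
    (𝔛 : FSch.Sys.{u}) (h : 𝔛.IsFormal) (p : 𝔛 ⟶ FSch.spf R I) (hp : FSch.IsAdicHom p)
    (hfp : ∀ n, LocallyOfFinitePresentation ((p : FSch.Hom 𝔛 (FSch.spf R I)).app n))
    (htf : ∀ (U : (𝔛.X 0).Opens) (s : (𝔛.Osh h).obj.obj (Opposite.op U)),
      (∀ a ∈ (FBlow.IdealSh.ker (𝔛.OshProj h 0)).sect U, a * s = 0) → s = 0)
    [QuasiSeparatedSpace (𝔛.X 0)]
    (hqp : ∃ (ι : Type u) (V : ι → (𝔛.X 0).Opens), (⨆ i, V i) = ⊤ ∧ (∀ i, IsCompact (V i : Set (𝔛.X 0))) ∧
      ∀ i, Set.Finite {j : ι | V i ⊓ V j ≠ ⊥})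
    (J : FBlow.IdealSh (𝔛.Osh h)) (hJ : FBlow.IsCohOpen 𝔛 h J)
    (𝔛' : FSch.Sys.{u}) (h' : 𝔛'.IsFormal) (b : 𝔛' ⟶ 𝔛) (hb : FBlow.IsAdmBlowUp b h' h J)
    (J' : FBlow.IdealSh (𝔛'.Osh h')) (hJ' : FBlow.IsCohOpen 𝔛' h' J')
    (𝔛'' : FSch.Sys.{u}) (h'' : 𝔛''.IsFormal) (b' : 𝔛'' ⟶ 𝔛') (hb' : FBlow.IsAdmBlowUp b' h'' h' J') :
    ∃ (J''' : FBlow.IdealSh (𝔛.Osh h)) (𝔛''' : FSch.Sys.{u}) (h''' : 𝔛'''.IsFormal) (c : 𝔛''' ⟶ 𝔛),
      FBlow.IsCohOpen 𝔛 h J''' ∧ FBlow.IsAdmBlowUp c h''' h J''' ∧ ∃ s : 𝔛''' ⟶ 𝔛'', s ≫ b' ≫ b = c := by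
  classical
  have hI : I.FG := AdicRingLib.fg_of_isBase hR
  obtain ⟨ι, V, hV, hVc, hVf⟩ := hqp
  let Ω : ι → (𝔛'.X 0).Opens := fun i => (b : FSch.Hom 𝔛' 𝔛).app 0 ⁻¹ᵁ V i
  let Ω' : ι → (𝔛''.X 0).Opens := fun i => (b' : FSch.Hom 𝔛'' 𝔛').app 0 ⁻¹ᵁ Ω i
  let ρ : ∀ i, 𝔛''.restrictOpen h'' (Ω' i) ⟶ 𝔛.restrictOpen h (V i) := fun i =>
    FSch.Hom.restrictOpen b' h'' h' (Ω i) ≫ FSch.Hom.restrictOpen b h' h (V i)
  -- on each piece the composite is a blowing-up
  have hloc : ∀ i, ∃ Ji : FBlow.IdealSh ((𝔛.restrictOpen h (V i)).Osh (isFormal_restrictOpen h (V i))),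
      FBlow.IsCohOpen _ (isFormal_restrictOpen h (V i)) Ji ∧
      FBlow.IsAdmBlowUp (ρ i) (isFormal_restrictOpen h'' (Ω' i)) (isFormal_restrictOpen h (V i)) Ji := by
    intro i
    haveI : CompactSpace ((𝔛.restrictOpen h (V i)).X 0) := by
      refine (isCompact_iff_compactSpace (s := ((𝔛.lvU h 0 (V i) : (𝔛.X 0).Opens) : Set (𝔛.X 0)))).1 ?_
      rw [lvU_zero h (V i)]
      exact hVc i
    haveI : QuasiSeparatedSpace ((𝔛.restrictOpen h (V i)).X 0) :=
      QuasiSeparatedSpace.of_isOpenEmbedding (𝔛.lvU h 0 (V i)).ι.isOpenEmbedding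
    refine Groth.Agent.S13653.result R I hR _ (isFormal_restrictOpen h (V i)) (𝔛.restrictOpenι h (V i) ≫ p)
      (isAdicHom_comp (isAdicHom_restrictOpenι h (V i)) hp) (fun n => ?_) (noTorsion_restrictOpen h (V i) htf)
      _ (isCohOpen_idealMap h (isFormal_restrictOpen h (V i)) p hp hI _ (isAdicHom_restrictOpenι h (V i)) hJ)
      _ (isFormal_restrictOpen h' (Ω i)) _ (isAdmBlowUp_restrict h h' b hb (V i))
      _ (isCohOpen_idealMap h' (isFormal_restrictOpen h' (Ω i)) (b ≫ p) (isAdicHom_comp hb.1 hp) hI _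
        (isAdicHom_restrictOpenι h' (Ω i)) hJ')
      _ (isFormal_restrictOpen h'' (Ω' i)) _ (isAdmBlowUp_restrict h' h'' b' hb' (Ω i))
    haveI := hfp n
    show LocallyOfFinitePresentation ((𝔛.lvU h n (V i)).ι ≫ (p : FSch.Hom 𝔛 (FSch.spf R I)).app n)
    infer_instance
  choose Ji hJi hρ using hloc
  choose Jx hJx hJxe hJxtop using fun i => Groth.Agent.S13654.result R I hR 𝔛 h p hp hfp htf
    ⟨ι, V, hV, hVc, hVf⟩ (V i) (hVc i) (isFormal_restrictOpen h (V i)) (Ji i) (hJi i)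
  let F : ι → Finset ι := fun a => (hVf a).toFinset
  obtain ⟨P, hP, hPe⟩ := exists_locProd h p hp hI Jx hJx V hV F fun a i hi W hW => by
    have hai : V a ⊓ V i = ⊥ := by simpa [F] using hi
    refine hJxtop i W (le_bot_iff.1 ?_)
    rw [← hai]
    exact inf_le_inf_right _ hW
  obtain ⟨𝔜, hY, c, hc⟩ := Groth.Agent.S13652.result R I hR 𝔛 h p hp hfp htf P hP
  refine ⟨P, 𝔜, hY, c, hP, hc, ?_⟩
  let W : ι → (𝔜.X 0).Opens := fun i => (c : FSch.Hom 𝔜 𝔛).app 0 ⁻¹ᵁ V i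
  let rc := fun i => FSch.Hom.restrictOpen c hY h (V i)
  have hrcι : ∀ i, rc i ≫ 𝔛.restrictOpenι h (V i) = 𝔜.restrictOpenι hY (W i) ≫ c :=
    fun i => FSch.Hom.restrictOpen_ι _ _ _ _
  have hrc : ∀ i, FSch.IsAdicHom (rc i) := fun i => by
    refine isAdicHom_of_comp (g := 𝔛.restrictOpenι h (V i)) ?_ (isAdicHom_restrictOpenι h (V i))
    rw [hrcι]
    exact isAdicHom_comp (isAdicHom_restrictOpenι hY (W i)) hc.1
  have hinv : ∀ i, (FBlow.idealMap (rc i) (isFormal_restrictOpen hY (W i)) (isFormal_restrictOpen h (V i))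
      (Ji i)).IsInvertible := by
    intro i
    rw [← hJxe i, idealMap_comp h (isFormal_restrictOpen h (V i)) (𝔛.restrictOpenι h (V i))
      (isFormal_restrictOpen hY (W i)) (rc i), hrcι i]
    by_cases hbot : V i = ⊥
    · intro y
      exfalso
      have hy : (c : FSch.Hom 𝔜 𝔛).app 0 ((𝔜.restrictOpenι hY (W i) : FSch.Hom _ _).app 0 y) ∈ V i :=
        range_restrictOpenι hY (W i) y
      rw [hbot] at hy
      exact hy
    have hi : i ∈ F i := by simpa [F] using hbot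
    have e : ⊤ ≤ (𝔜.restrictOpenι hY (W i) ≫ c : FSch.Hom _ _).app 0 ⁻¹ᵁ V i := fun y _ =>
      range_restrictOpenι hY (W i) y
    have h1 : (FBlow.idealMap (𝔜.restrictOpenι hY (W i) ≫ c) (isFormal_restrictOpen hY (W i)) h P).IsInvertible := by
      rw [← idealMap_comp h hY c (isFormal_restrictOpen hY (W i)) (𝔜.restrictOpenι hY (W i)) P]
      exact isInvertible_restrictOpen hY (W i) hc.2.1
    rw [idealMap_congr h (isFormal_restrictOpen hY (W i)) e (hPe i), ← Finset.insert_erase hi,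
      piSh_insert Jx (Finset.notMem_erase i (F i)), idealMap_mul h (isFormal_restrictOpen hY (W i))] at h1
    exact isInvertible_of_mul (hasLocalUnits (isFormal_restrictOpen hY (W i))) h1
  choose k hk hku using fun i => (hρ i).2.2 _ (isFormal_restrictOpen hY (W i)) (rc i) (hrc i) (hinv i)
  let s : ∀ i, 𝔜.restrictOpen hY (W i) ⟶ 𝔛'' := fun i => k i ≫ 𝔛''.restrictOpenι h'' (Ω' i)
  have hρι : ∀ i, ρ i ≫ 𝔛.restrictOpenι h (V i) = 𝔛''.restrictOpenι h'' (Ω' i) ≫ b' ≫ b := fun i => by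
    show (FSch.Hom.restrictOpen b' h'' h' (Ω i) ≫ FSch.Hom.restrictOpen b h' h (V i)) ≫ _ = _
    rw [Category.assoc, FSch.Hom.restrictOpen_ι b h' h (V i), ← Category.assoc,
      FSch.Hom.restrictOpen_ι b' h'' h' (Ω i), Category.assoc]
  have hs : ∀ i, s i ≫ b' ≫ b = 𝔜.restrictOpenι hY (W i) ≫ c := fun i => by
    show (k i ≫ _) ≫ _ = _
    rw [Category.assoc, ← hρι i, ← Category.assoc, show k i ≫ ρ i = rc i from hk i, hrcι i]
  have hWtop : (⨆ i, W i) = ⊤ := eq_top_iff.2 fun y _ => by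
    obtain ⟨i, hi⟩ := TopologicalSpace.Opens.mem_iSup.1
      (hV.ge (TopologicalSpace.Opens.mem_top ((c : FSch.Hom 𝔜 𝔛).app 0 y)))
    exact TopologicalSpace.Opens.mem_iSup.2 ⟨i, hi⟩
  obtain ⟨g, hg⟩ := exists_glue_sys hY W hWtop s fun i j => by
    let ιi := 𝔜.restrictOpenι hY (W i)
    let hWi := isFormal_restrictOpen hY (W i)
    let O := (ιi : FSch.Hom _ _).app 0 ⁻¹ᵁ W j
    let hN := isFormal_restrictOpen hWi O
    let l := (𝔜.restrictOpen hY (W i)).restrictOpenι hWi O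
    have hlj : ⊤ ≤ (l ≫ ιi : FSch.Hom _ _).app 0 ⁻¹ᵁ W j := fun z _ => range_restrictOpenι hWi O z
    let l' := toOpen hY hN (l ≫ ιi) (W j) hlj
    have hl' : l' ≫ 𝔜.restrictOpenι hY (W j) = l ≫ ιi := toOpen_ι hY hN (l ≫ ιi) (W j) hlj
    refine ⟨_, l, l', ?_, hl'.symm, fun n => ⟨?_, ?_⟩⟩
    · have e1 : (l ≫ s i) ≫ b' ≫ b = (l ≫ ιi) ≫ c := by rw [Category.assoc, hs i, Category.assoc]
      have e2 : (l' ≫ s j) ≫ b' ≫ b = (l ≫ ιi) ≫ c := by rw [Category.assoc, hs j, ← Category.assoc, hl']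
      -- both land in the same piece
      have hland : ∀ m : (𝔜.restrictOpen hY (W i)).restrictOpen hWi O ⟶ 𝔛'', m ≫ b' ≫ b = (l ≫ ιi) ≫ c →
          ⊤ ≤ (m : FSch.Hom _ _).app 0 ⁻¹ᵁ Ω' i := by
        intro m hm z _
        show ((m ≫ b' ≫ b : FSch.Hom _ _).app 0) z ∈ V i
        rw [hm]
        exact range_restrictOpenι hY (W i) _
      let m₁ := toOpen h'' hN (l ≫ s i) (Ω' i) (hland _ e1)
      let m₂ := toOpen h'' hN (l' ≫ s j) (Ω' i) (hland _ e2)
      have hm₁ : m₁ ≫ 𝔛''.restrictOpenι h'' (Ω' i) = l ≫ s i := toOpen_ι h'' hN _ _ _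
      have hm₂ : m₂ ≫ 𝔛''.restrictOpenι h'' (Ω' i) = l' ≫ s j := toOpen_ι h'' hN _ _ _
      have key : ∀ m : (𝔜.restrictOpen hY (W i)).restrictOpen hWi O ⟶ 𝔛''.restrictOpen h'' (Ω' i),
          (m ≫ 𝔛''.restrictOpenι h'' (Ω' i)) ≫ b' ≫ b = (l ≫ ιi) ≫ c → m ≫ ρ i = l ≫ rc i := by
        intro m hm
        refine hom_eq_of_restrictOpenι h (V i) ?_
        rw [Category.assoc, hρι i, ← Category.assoc, hm, Category.assoc, Category.assoc, hrcι i]
      have hinvl : (FBlow.idealMap (l ≫ rc i) hN (isFormal_restrictOpen h (V i)) (Ji i)).IsInvertible := by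
        rw [← idealMap_comp (isFormal_restrictOpen h (V i)) hWi (rc i) hN l (Ji i)]
        exact isInvertible_restrictOpen hWi O (hinv i)
      have := ((hρ i).2.2 _ hN (l ≫ rc i) (isAdicHom_comp (isAdicHom_restrictOpenι hWi O) (hrc i)) hinvl).unique
        (key m₁ (by rw [hm₁]; exact e1)) (key m₂ (by rw [hm₂]; exact e2))
      rw [← hm₁, ← hm₂, this]
    · show IsOpenImmersion ((((𝔜.restrictOpen hY (W i)).lvU hWi n O).ι) ≫ (𝔜.lvU hY n (W i)).ι)
      infer_instance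
    · intro y hy
      have hyO : (⟨y, hy.1⟩ : (𝔜.restrictOpen hY (W i)).X n) ∈ (𝔜.restrictOpen hY (W i)).lvU hWi n O :=
        (FSch.Hom.lvU_preimage ιi hWi hY n (W j)).le hy.2
      exact ⟨⟨⟨y, hy.1⟩, hyO⟩, rfl⟩
  refine ⟨g, FSch.Hom.ext (funext fun n => ?_)⟩
  have hcovn : TopologicalSpace.IsOpenCover fun i => 𝔜.lvU hY n (W i) :=
    TopologicalSpace.IsOpenCover.mk (eq_top_iff.2 fun y _ => by
      obtain ⟨i, hi⟩ := TopologicalSpace.Opens.mem_iSup.1
        (hWtop.ge (TopologicalSpace.Opens.mem_top (𝔜.gInv hY n y)))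
      exact TopologicalSpace.Opens.mem_iSup.2 ⟨i, hi⟩)
  refine Scheme.Cover.hom_ext ((𝔜.X n).openCoverOfIsOpenCover _ hcovn) _ _ fun i => ?_
  exact congrArg (fun φ : 𝔜.restrictOpen hY (W i) ⟶ 𝔛 => (φ : FSch.Hom _ _).app n)
    (show 𝔜.restrictOpenι hY (W i) ≫ g ≫ b' ≫ b = 𝔜.restrictOpenι hY (W i) ≫ c by
      rw [← Category.assoc, hg i, hs i])

end Groth.Agent.S13656
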