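import Groth.Statements.S13657
import Groth.Agent.FormBlow.ChartAdm

set_option autoImplicit false
open CategoryTheory AlgebraicGeometry
universe u
open FBlow
open Groth.Agent.FormBlow
open Groth.Agent.FSchCoh (OA RA projR)

set_option backward.isDefEq.respectTransparency false

namespace Groth.Agent.S13657

/-- Let R be a base ring of class (N) or (V) for the ideal I and X an admissible formal R-scheme,
presented I-adically: a formal system of thickenings X_0 → X_1 → ⋯ adic over Spf R = (Spec
R/I^(n+1))_n (all squares cartesian), with every level X_n locally of finite presentation over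
R/I^(n+1), structure sheaf O_X = lim O_{X_n} on the common underlying space, and no I-torsion (over
every open, a section of O_X annihilated by the kernel of O_X → O_{X_0} is zero). Let J be a
coherent open ideal of O_X and X' → X an admissible formal blowing-up of J (universal-property
sense). Then X' is an admissible formal R-scheme again: O_{X'} has no I-torsion (over every open, a
section annihilated by the kernel of O_{X'} → O_{X'_0} vanishes), and the levels of the composite X'
→ X → Spf R are locally of finite presentation over the rings R/I^(n+1). -/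
theorem result
    (R : Type u) [CommRing R] (I : Ideal R) (hR : AdicRing.IsBase R I)
    (𝔛 : FSch.Sys.{u}) (h : 𝔛.IsFormal) (p : 𝔛 ⟶ FSch.spf R I) (hp : FSch.IsAdicHom p)
    (hfp : ∀ n, LocallyOfFinitePresentation ((p : FSch.Hom 𝔛 (FSch.spf R I)).app n))
    (htf : ∀ (U : (𝔛.X 0).Opens) (s : (𝔛.Osh h).obj.obj (Opposite.op U)),
      (∀ a ∈ (FBlow.IdealSh.ker (𝔛.OshProj h 0)).sect U, a * s = 0) → s = 0)
    (J : FBlow.IdealSh (𝔛.Osh h)) (hJ : FBlow.IsCohOpen 𝔛 h J)
    (𝔛' : FSch.Sys.{u}) (h' : 𝔛'.IsFormal) (b : 𝔛' ⟶ 𝔛) (hb : FBlow.IsAdmBlowUp b h' h J) :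
    (∀ (U : (𝔛'.X 0).Opens) (s : (𝔛'.Osh h').obj.obj (Opposite.op U)),
        (∀ a ∈ (FBlow.IdealSh.ker (𝔛'.OshProj h' 0)).sect U, a * s = 0) → s = 0) ∧
      ∀ n, LocallyOfFinitePresentation ((b ≫ p : FSch.Hom 𝔛' (FSch.spf R I)).app n) := by
  have hI : I.FG := AdicRingLib.fg_of_isBase hR
  refine ⟨fun U' s hs => ?_, fun n => ?_⟩
  · refine sec_ext fun x hx => ?_
    obtain ⟨U, hU, r, f, i, V, hxV, k, φ, ek, -, ekbp⟩ := exists_openImm_chart h h' p hp hI J hJ b hb x
    refine ⟨U' ⊓ V, inf_le_left, ⟨hx, hxV⟩, ?_⟩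
    rw [map_zero]
    refine eq_zero_of_shPb_restrictOpenι h' V inf_le_right ?_
    letI := secAlgebra h p U
    let hVf := isFormal_restrictOpen h' V
    let σ : R →+* chartRing f i := (algebraMap (OA 𝔛 h U) (chartRing f i)).comp (rho h p U)
    let hZ := isFormal_spf (chartRing f i) (I.map σ)
    let ιV := 𝔛'.restrictOpenι h' V
    let W := (k : FSch.Hom _ _).app 0 ⁻¹ᵁ (U' ⊓ V)
    have hj' : (ιV : FSch.Hom _ _).app 0 ⁻¹ᵁ (U' ⊓ V) ≤ (φ : FSch.Hom _ _).app 0 ⁻¹ᵁ W := by
      intro y hy
      show ((φ ≫ k : FSch.Hom _ _).app 0) y ∈ U' ⊓ V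
      rw [ek]
      exact hy
    have hcomp : ∀ t : OA 𝔛' h' (U' ⊓ V),
        shPb h' hVf ιV (le_refl ((ιV : FSch.Hom _ _).app 0 ⁻¹ᵁ (U' ⊓ V))) t =
          shPb hZ hVf φ hj' (shPb h' hZ k (le_refl W) t) := fun t => by
      rw [← shPb_comp h' hZ k hVf φ (le_refl W) hj' (j'' := fun y hy => hj' hy) t]
      exact shPb_congr h' hVf ek.symm _ _ t
    have h0 : shPb h' hZ k (le_refl W) (rs inf_le_left s) = 0 := by
      refine eq_zero_spf hI σ (fun n => ?_) _ fun a ha => ?_
      · obtain ⟨N, hnN, hN⟩ := exists_ar_chartRing f i hR (topFiniteType_sec h p hp hI hfp hU)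
          (noPowTorsion_sec h p hp hI htf hU) n
        refine ⟨N, hnN, fun z hz => ?_⟩
        rw [← Ideal.map_pow]
        refine hN z fun a ha => ?_
        rw [Algebra.smul_def]
        have := hz a ha
        rw [← Ideal.map_pow] at this
        exact this
      · have hmem : rho h' (b ≫ p) U' a ∈ (IdealSh.ker (𝔛'.OshProj h' 0)).sect U' :=
          RingHom.mem_ker.2 (projR_rho_eq_zero h' (b ≫ p) U' 0 (by rwa [zero_add, pow_one]))
        have h1 := congrArg (fun z => shPb h' hZ k (le_refl W) (rs (inf_le_left : U' ⊓ V ≤ U') z))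
          (hs _ hmem)
        simp only [map_mul, map_zero] at h1
        rw [rho_rs, shPb_rho, mul_comm] at h1
        refine Eq.trans (congrArg (_ * ·) ?_) h1
        rw [← rho_rs _ _ (le_top : W ≤ ⊤) a]
        refine congrArg (rs (le_top : W ≤ ⊤)) ?_
        show toSections _ (I.map σ) (σ a) =
          shPb (isFormal_spf R I) hZ (k ≫ b ≫ p) (W := ⊤) (V := ⊤) (fun _ _ => trivial) (toSections R I a)
        rw [← shPb_spfMap I (I.map σ) σ Ideal.le_comap_map a]
        exact shPb_congr (isFormal_spf R I) hZ ekbp.symm _ _ _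
    exact (hcomp _).trans ((congrArg _ h0).trans (map_zero _))
  · choose U hU r f i V hxV k φ ek hφ ekbp using exists_openImm_chart h h' p hp hI J hJ b hb
    refine (IsZariskiLocalAtSource.iff_of_iSup_eq_top (P := @LocallyOfFinitePresentation)
      (fun x => 𝔛'.lvU h' n (V x)) ?_).2 fun x => ?_
    · refine eq_top_iff.2 fun y _ => TopologicalSpace.Opens.mem_iSup.2 ⟨𝔛'.gInv h' n y, ?_⟩
      show 𝔛'.gInv h' n y ∈ V _
      exact hxV _
    have e1 : (𝔛'.lvU h' n (V x)).ι ≫ ((b ≫ p : FSch.Hom 𝔛' (FSch.spf R I)).app n) =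
        ((φ x : FSch.Hom _ _).app n) ≫ ((k x ≫ b ≫ p : FSch.Hom _ _).app n) :=
      congrArg (fun ψ : _ ⟶ _ => (ψ : FSch.Hom _ _).app n)
        (show 𝔛'.restrictOpenι h' (V x) ≫ b ≫ p = φ x ≫ k x ≫ b ≫ p by rw [← ek x, Category.assoc])
    rw [e1, show ((k x ≫ b ≫ p : FSch.Hom _ _).app n) = _ from
      congrArg (fun ψ : _ ⟶ _ => (ψ : FSch.Hom _ _).app n) (ekbp x), FSch.spfMap_app]
    haveI : IsOpenImmersion ((φ x : FSch.Hom _ _).app n) := hφ x n
    letI := secAlgebra h p (U x)
    have hA := topFiniteType_sec h p hp hI hfp (hU x)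
    have hT := noPowTorsion_sec h p hp hI htf (hU x)
    have hq := finitePresentation_chartRing_quot (f x) (i x) hR hA hT (n + 1)
      (finitePresentation_level h p hp hI hfp (hU x) n)
    rw [← TopFin.quotientMap_finitePresentation_iff (hI.pow (n := n + 1))] at hq
    let σ : R →+* chartRing (f x) (i x) :=
      (algebraMap (OA 𝔛 h (U x)) (chartRing (f x) (i x))).comp (rho h p (U x))
    have key : ∀ (J' : Ideal (chartRing (f x) (i x))) (hle : I ^ (n + 1) ≤ J'.comap σ),
        J' = (I ^ (n + 1)).map σ → RingHom.FinitePresentation (A := R ⧸ I ^ (n + 1))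
          (B := chartRing (f x) (i x) ⧸ J') (Ideal.quotientMap J' σ hle) := by
      rintro J' hle rfl
      exact hq
    haveI : LocallyOfFinitePresentation (Spec.map (CommRingCat.ofHom
        (FSch.quotPowMap (I.map σ) I σ Ideal.le_comap_map n))) :=
      (HasRingHomProperty.Spec_iff (P := @LocallyOfFinitePresentation)).2
        (key ((I.map σ) ^ (n + 1)) (FSch.pow_le_comap_pow (I.map σ) I σ Ideal.le_comap_map (n + 1))
          (Ideal.map_pow σ I (n + 1)).symm)
    infer_instance

end Groth.Agent.S13657
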