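import Groth.Statements.S1366
import Groth.Agent.ZarConn.ProperFT

set_option autoImplicit false
universe u
open FlatMor

namespace Groth.Agent.S1366

open AlgebraicGeometry CategoryTheory Limits in
/-- Let (A, I) be a henselian pair and X a separated scheme of finite type over Spec A, with X_0 its
base change to Spec (A/I). If Y is an open and closed subset of X_0 which (as an open subscheme) is
proper over Spec (A/I), then there is an open and closed subset W of X, proper over Spec A as an
open subscheme, whose preimage in X_0 is exactly Y. -/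
theorem result {A : Type u} [CommRing A] (I : Ideal A) [HenselianRing A I]
    {X : Scheme.{u}} (f : X ⟶ Spec (CommRingCat.of A)) [IsSeparated f] [LocallyOfFiniteType f] [QuasiCompact f]
    (Y : (pullback f (Spec.map (CommRingCat.ofHom (Ideal.Quotient.mk I)))).Opens) (hYc : IsClosed (Y : Set ↑(pullback f (Spec.map (CommRingCat.ofHom (Ideal.Quotient.mk I))))))
    (hYp : IsProper (Y.ι ≫ pullback.snd f (Spec.map (CommRingCat.ofHom (Ideal.Quotient.mk I))))) :
    ∃ W : X.Opens, IsClosed (W : Set ↑X) ∧ IsProper (W.ι ≫ f) ∧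
      pullback.fst f (Spec.map (CommRingCat.ofHom (Ideal.Quotient.mk I))) ⁻¹ᵁ W = Y := by
  let ι := pullback.fst f (Spec.map (CommRingCat.ofHom (Ideal.Quotient.mk I)))
  haveI : IsClosedImmersion (Spec.map (CommRingCat.ofHom (Ideal.Quotient.mk I))) :=
    IsClosedImmersion.spec_of_surjective _ Ideal.Quotient.mk_surjective
  haveI : IsClosedImmersion ι := MorphismProperty.pullback_fst _ _ inferInstance
  haveI := hYp
  haveI : IsProper ((Y.ι ≫ ι) ≫ f) := by
    rw [Category.assoc, pullback.condition, ← Category.assoc]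
    infer_instance
  have hq : Set.range (Y.ι ≫ ι) = ι '' (Y : Set ↑(pullback f (Spec.map (CommRingCat.ofHom (Ideal.Quotient.mk I))))) := by
    rw [Scheme.Hom.comp_base, TopCat.coe_comp, Set.range_comp, Scheme.Opens.range_ι]
  have hrange : Set.range ι = {x : X | I ≤ (f x).asIdeal} := Groth.Agent.ZarConn.range_fst_quotient I f
  obtain ⟨W, hWc, hWp, hW₁, hW₂⟩ := Groth.Agent.ZarConn.exists_clopen_lift_proper I f (Y.ι ≫ ι)
    (ι '' (Y : Set ↑(pullback f (Spec.map (CommRingCat.ofHom (Ideal.Quotient.mk I)))))ᶜ)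
    (ι.isClosedEmbedding.isClosedMap _ Y.2.isClosed_compl)
    (by
      rw [hq]
      exact (Set.disjoint_image_iff ι.isEmbedding.injective).mpr disjoint_compl_right)
    (fun x ↦ by
      rw [hq, ← Set.image_union, Set.union_compl_self, Set.image_univ, hrange]
      exact Iff.rfl)
  refine ⟨W, hWc, hWp, ?_⟩
  ext p
  refine ⟨fun hp ↦ by_contra fun h ↦ hW₂ _ ⟨p, h, rfl⟩ hp, fun hp ↦ hW₁ _ (hq.ge ⟨p, hp, rfl⟩)⟩

end Groth.Agent.S1366
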