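import Groth.Statements.S13660
import Groth.Agent.FormBlow.SchIdeal
import Groth.Agent.FormBlow.ChartLift
import Groth.Agent.AdicRingLib.Chart

set_option backward.isDefEq.respectTransparency false
set_option linter.style.haveILetI false
-- import your own Groth.Agent.* helpers here

set_option autoImplicit false
open CategoryTheory AlgebraicGeometry
universe u
open FBlow

namespace Groth.Agent.S13660

open FBlow TopologicalSpace Groth.Agent.FormBlow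
open Groth.Agent.FSchCoh (OA RA projR)

section Helpers

variable {𝔛 𝔜 : FSch.Sys.{u}} (h : 𝔛.IsFormal) (h𝔜 : 𝔜.IsFormal)

/-- A morphism with image in an open factors through the induced system. -/
noncomputable def toRestrict (g : 𝔜 ⟶ 𝔛) (U : (𝔛.X 0).Opens) (e : ⊤ ≤ (g : FSch.Hom 𝔜 𝔛).app 0 ⁻¹ᵁ U) :
    𝔜 ⟶ 𝔛.restrictOpen h U :=
  ⟨fun n => IsOpenImmersion.lift (𝔛.lvU h n U).ι ((g : FSch.Hom 𝔜 𝔛).app n) (by
      rintro _ ⟨y, rfl⟩
      exact (Scheme.Opens.range_ι (𝔛.lvU h n U)).ge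
        (lvU_le_preimage h h𝔜 g e n (show y ∈ 𝔜.lvU h𝔜 n ⊤ from trivial))),
    fun n => by
      haveI : Mono ((𝔛.restrictOpenι h U : FSch.Hom _ _).app (n + 1)) :=
        inferInstanceAs (Mono (𝔛.lvU h (n + 1) U).ι)
      rw [← cancel_mono ((𝔛.restrictOpenι h U : FSch.Hom _ _).app (n + 1))]
      simp only [Category.assoc]
      rw [← (𝔛.restrictOpenι h U : FSch.Hom _ _).comm n]
      refine Eq.trans ?_ (congrArg (𝔜.ι n ≫ ·) (IsOpenImmersion.lift_fac _ _ _).symm)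
      rw [← Category.assoc]
      exact (congrArg (· ≫ 𝔛.ι n) (IsOpenImmersion.lift_fac _ _ _)).trans ((g : FSch.Hom 𝔜 𝔛).comm n)⟩

theorem toRestrict_ι (g : 𝔜 ⟶ 𝔛) (U : (𝔛.X 0).Opens) (e : ⊤ ≤ (g : FSch.Hom 𝔜 𝔛).app 0 ⁻¹ᵁ U) :
    toRestrict h h𝔜 g U e ≫ 𝔛.restrictOpenι h U = g :=
  FSch.Hom.ext (funext fun _ => IsOpenImmersion.lift_fac _ _ _)

theorem eq_of_ι (U : (𝔛.X 0).Opens) {g g' : 𝔜 ⟶ 𝔛.restrictOpen h U}
    (e : g ≫ 𝔛.restrictOpenι h U = g' ≫ 𝔛.restrictOpenι h U) : g = g' :=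
  FSch.Hom.ext (funext fun n => (cancel_mono (𝔛.lvU h n U).ι).1
    (congrArg (fun φ : 𝔜 ⟶ 𝔛 => (φ : FSch.Hom 𝔜 𝔛).app n) e))

theorem invOn_sSup (J : IdealSh (𝔛.Osh h)) (U : (𝔛.X 0).Opens) (g : OA 𝔛 h U)
    (hgJ : g ∈ J.sect U) (hloc : ∀ x ∈ U, ∃ (V : (𝔛.X 0).Opens) (i : V ≤ U), x ∈ V ∧ InvOn J V (rs i g)) :
    InvOn J U g := by
  refine ⟨hgJ, NzdOn.of_local fun x hx => ?_, fun V s hs y hy => ?_⟩
  · obtain ⟨V, i, hxV, hV⟩ := hloc x hx
    exact ⟨V, i, hxV, hV.2.1⟩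
  · obtain ⟨V', i, hyV', hV'⟩ := hloc y hy.2
    obtain ⟨W, iW, jW, hyW, hW⟩ := hV'.2.2 V hs y ⟨hy.1, hyV'⟩
    refine ⟨W, iW, jW.trans i, hyW, ?_⟩
    simpa only [rs_rs] using hW

theorem invOn_of_unit {J : IdealSh (𝔛.Osh h)} {V : (𝔛.X 0).Opens} {g : OA 𝔛 h V} (hg : InvOn J V g)
    (w : (OA 𝔛 h V)ˣ) : InvOn J V (↑w * g) := by
  refine ⟨Ideal.mul_mem_left _ _ hg.1, fun V' l s hs => ?_, fun V' s hs => ?_⟩
  · refine hg.2.1 V' l s ?_
    rw [map_mul, ← mul_assoc, mul_comm s, mul_assoc] at hs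
    exact (w.isUnit.map (rs l)).mul_right_eq_zero.1 hs
  · refine relGen_le_of_mem (le_refl V) (h := fun _ : Unit => (w : OA 𝔛 h V) * g) (fun _ => ?_) V' (hg.2.2 V' hs)
    have h1 : (w : OA 𝔛 h V) * g ∈ (relGen V fun _ : Unit => (w : OA 𝔛 h V) * g).sect V :=
      mem_relGen_self (fun _ : Unit => (w : OA 𝔛 h V) * g) ()
    have h2 := Ideal.mul_mem_left _ (↑w⁻¹ : OA 𝔛 h V) h1
    rw [Units.inv_mul_cancel_left] at h2
    rwa [rs_self]

/-- A member whose pullback is regular and divides the pullback of a generator generates near the image point. -/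
theorem invOn_of_shPb {J : IdealSh (𝔛.Osh h)} {V : (𝔛.X 0).Opens} {g s : OA 𝔛 h V} (hg : InvOn J V g)
    (hs : s ∈ J.sect V) (u : 𝔜 ⟶ 𝔛) {V₀ : (𝔜.X 0).Opens} (j : V₀ ≤ (u : FSch.Hom 𝔜 𝔛).app 0 ⁻¹ᵁ V)
    (hnz : ∀ a, a * shPb h h𝔜 u j s = 0 → a = 0) (hdvd : shPb h h𝔜 u j s ∣ shPb h h𝔜 u j g)
    {z : 𝔜.X 0} (hz : z ∈ V₀) :
    ∃ (V₁ : (𝔛.X 0).Opens) (i : V₁ ≤ V), (u : FSch.Hom 𝔜 𝔛).app 0 z ∈ V₁ ∧ InvOn J V₁ (rs i s) := by
  obtain ⟨t, ht⟩ := hg.exists_eq le_rfl hs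
  rw [rs_self] at ht
  obtain ⟨e, he⟩ := hdvd
  have ht' := congrArg (shPb h h𝔜 u j) ht
  rw [map_mul, he] at ht'
  have hunit : IsUnit (shPb h h𝔜 u j t) := by
    refine IsUnit.of_mul_eq_one e (sub_eq_zero.1 (hnz _ ?_))
    linear_combination -ht'
  obtain ⟨V₁, i₁, hzV₁, w, hw⟩ := exists_isUnit_of_shPb h h𝔜 u j t hunit (y := z) hz
  refine ⟨V₁, i₁, hzV₁, ?_⟩
  rw [ht, map_mul, ← hw]
  exact invOn_of_unit h (hg.res i₁) w

/-- Where two ideal sheaves agree, the generator of the second generates the first. -/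
theorem invOn_of_sect_eq {J Ji : IdealSh (𝔛.Osh h)} (hJ : J.IsInvertible) (F : OA 𝔛 h ⊤) (hF : F ∈ J.sect ⊤)
    (hJi : Ji ≤ relGen ⊤ (fun _ : Unit => F)) {x : 𝔛.X 0} {V : (𝔛.X 0).Opens} (hxV : x ∈ V)
    (hV : ∀ V' : (𝔛.X 0).Opens, V' ≤ V → J.sect V' = Ji.sect V') :
    ∃ V₁ : (𝔛.X 0).Opens, x ∈ V₁ ∧ InvOn J V₁ (rs (le_top : V₁ ≤ ⊤) F) := by
  obtain ⟨U, hxU, g, hg⟩ := isInvertible_iff.1 hJ x
  have hg' : rs (inf_le_left : U ⊓ V ≤ U) g ∈ Ji.sect (U ⊓ V) := hV _ inf_le_right ▸ rs_mem J _ hg.1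
  obtain ⟨V₁, i₁, j₁, hxV₁, h₁⟩ := hJi _ hg' x ⟨⟨hxU, hxV⟩, trivial⟩
  rw [Set.range_const, Ideal.mem_span_singleton'] at h₁
  obtain ⟨e, he⟩ := h₁
  rw [rs_rs] at he
  have hg₁ := hg.res (i₁.trans inf_le_left : V₁ ≤ U)
  refine ⟨V₁, hxV₁, rs_mem J _ hF, fun V' l t ht => ?_, fun V' s hs => ?_⟩
  · refine hg₁.2.1 V' l t ?_
    rw [← he, map_mul, mul_left_comm, ht, mul_zero]
  · refine relGen_le_of_mem le_rfl (fun _ => ?_) V' (hg₁.2.2 V' hs)
    rw [rs_self, ← he]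
    exact Ideal.mul_mem_left _ _ (mem_relGen_self (fun _ : Unit => rs (le_top : V₁ ≤ ⊤) F) ())

/-- The chart is inverse to the locus where a member of the family generates. -/
theorem exists_chart_iso {R : Type u} [CommRing R] {I : Ideal R} {A : Type u} [CommRing A] [Algebra R A]
    {r : ℕ} (f : Fin r → A) (k : ℕ) (hopen : (I ^ k).map (algebraMap R A) ≤ Ideal.span (Set.range f))
    (hX : (FSch.spf A (I.map (algebraMap R A))).IsFormal) (b : 𝔛 ⟶ FSch.spf A (I.map (algebraMap R A)))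
    (J : IdealSh ((FSch.spf A (I.map (algebraMap R A))).Osh hX)) (hb : IsAdmBlowUp b h hX J)
    (hTJ : ∀ j, toSections A (I.map (algebraMap R A)) (f j) ∈ J.sect ⊤)
    (hJT : J ≤ relGen ⊤ (fun j => toSections A (I.map (algebraMap R A)) (f j)))
    (i : Fin r) (W : (𝔛.X 0).Opens) (jW : W ≤ (b : FSch.Hom 𝔛 _).app 0 ⁻¹ᵁ ⊤)
    (hWinv : InvOn (idealMap b h hX J) W (shPb hX h b jW (toSections A (I.map (algebraMap R A)) (f i))))
    (hWmax : ∀ (V : (𝔛.X 0).Opens) (jV : V ≤ (b : FSch.Hom 𝔛 _).app 0 ⁻¹ᵁ ⊤),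
      InvOn (idealMap b h hX J) V (shPb hX h b jV (toSections A (I.map (algebraMap R A)) (f i))) → V ≤ W)
    (C : Type u) [CommRing C] [Algebra R C] [Algebra A C] [IsScalarTower R A C]
    (hCdvd : ∀ j, algebraMap A C (f i) ∣ algebraMap A C (f j))
    (hCnzd : ∀ c, algebraMap A C (f i) * c = 0 → c = 0)
    (hle : (I.map (algebraMap R A)) ≤ (I.map (algebraMap R C)).comap (algebraMap A C))
    (hi : (FSch.spf C (I.map (algebraMap R C))).IsFormal)
    (hClift : ∀ (𝔖 : FSch.Sys.{u}) (hS : 𝔖.IsFormal) (η : A →+* OA 𝔖 hS ⊤),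
      (∀ n, ∀ a ∈ (I.map (algebraMap R A)) ^ (n + 1), projR 𝔖 hS ⊤ n (η a) = 0) →
      (∀ t : OA 𝔖 hS ⊤, t * η (f i) = 0 → t = 0) → (∀ j, η (f i) ∣ η (f j)) →
      ∃ ψ : C →+* OA 𝔖 hS ⊤, ∀ a, ψ (algebraMap A C a) = η a)
    (hCext : ∀ (𝔖 : FSch.Sys.{u}) (hS : 𝔖.IsFormal) (η : A →+* OA 𝔖 hS ⊤),
      (∀ n, ∀ a ∈ (I.map (algebraMap R A)) ^ (n + 1), projR 𝔖 hS ⊤ n (η a) = 0) →
      (∀ t : OA 𝔖 hS ⊤, t * η (f i) = 0 → t = 0) → ∀ ψ ψ' : C →+* OA 𝔖 hS ⊤,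
      (∀ a, ψ (algebraMap A C a) = η a) → (∀ a, ψ' (algebraMap A C a) = η a) → ψ = ψ') :
    ∃ u : FSch.spf C (I.map (algebraMap R C)) ⟶ 𝔛,
      u ≫ b = FSch.spfMap (I.map (algebraMap R C)) (I.map (algebraMap R A)) (algebraMap A C) hle ∧
      (∀ n, IsOpenImmersion ((u : FSch.Hom _ 𝔛).app n)) ∧
      Set.range ((u : FSch.Hom _ 𝔛).app 0).base = (W : Set (𝔛.X 0)) := by
  classical
  let KA : Ideal A := I.map (algebraMap R A)
  let T : A →+* OA _ hX ⊤ := toSections A KA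
  let KC : Ideal C := I.map (algebraMap R C)
  let α : A →+* C := algebraMap A C
  have hKmap : KA.map α = KC := by rw [Ideal.map_map, ← IsScalarTower.algebraMap_eq]
  let q := FSch.spfMap KC KA α hle
  have hq : FSch.IsAdicHom q := isAdicHom_spfMap KA KC α hle hKmap
  have hqtop : ⊤ ≤ (q : FSch.Hom _ _).app 0 ⁻¹ᵁ ⊤ := fun _ _ => trivial
  let η : A →+* OA _ hi ⊤ := (toSections C KC).comp α
  have hqT : ∀ a, shPb hX hi q hqtop (T a) = η a := shPb_spfMap KA KC α hle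
  have hηK : ∀ n, ∀ a ∈ KA ^ (n + 1), projR _ hi ⊤ n (η a) = 0 := fun n a ha =>
    projR_toSections_eq_zero KC n (by rw [← hKmap, ← Ideal.map_pow]; exact Ideal.mem_map_of_mem α ha)
  have hdiv : ∀ z ∈ KC ^ (k + 1), α (f i) ∣ z := by
    intro z hz
    rw [← Ideal.mem_span_singleton]
    refine (?_ : KC ^ (k + 1) ≤ _) hz
    rw [← hKmap, ← Ideal.map_pow, ← Ideal.map_pow]
    refine le_trans (Ideal.map_mono ((Ideal.map_mono (Ideal.pow_le_pow_right (Nat.le_succ k))).trans hopen)) ?_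
    rw [Ideal.map_span, Ideal.span_le]
    rintro _ ⟨_, ⟨j, rfl⟩, rfl⟩
    exact Ideal.mem_span_singleton.2 (hCdvd j)
  have hnzd : NzdOn (O := (FSch.spf C KC).Osh hi) ⊤ (η (f i)) :=
    nzdOn_spf KC hCnzd (c := k) hdiv
  have hqgen : ∀ j, η (f i) ∣ η (f j) := fun j => map_dvd (toSections C KC) (hCdvd j)
  have hinvq : (idealMap q hi hX J).IsInvertible := by
    rw [isInvertible_iff]
    refine fun z => ⟨⊤, trivial, η (f i), ?_, hnzd, fun V s hs => ?_⟩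
    · rw [← hqT]
      exact pb_mem_map _ _ J hqtop (hTJ i)
    · refine relGen_le_of_mem (le_refl ⊤) (fun j => ?_) V (map_le_relGen _ _ hJT hqtop V hs)
      rw [rs_self]
      show shPb hX hi q hqtop (T (f j)) ∈ _
      rw [hqT]
      obtain ⟨e, he⟩ := hqgen j
      rw [he]
      exact Ideal.mul_mem_right _ _ (mem_relGen_self (fun _ : Unit => η (f i)) ())
  obtain ⟨u, hu, hu_uniq⟩ := hb.2.2 _ hi q hq hinvq
  have hutop : ⊤ ≤ (u : FSch.Hom _ _).app 0 ⁻¹ᵁ ⊤ := fun _ _ => trivial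
  have hulands : ⊤ ≤ (u : FSch.Hom _ _).app 0 ⁻¹ᵁ W := by
    intro z _
    obtain ⟨V, jV, j, hzV, hV⟩ := exists_generator_nhd hX h (fun j => T (f j)) hTJ hJT b hb.2.1
      (x := (u : FSch.Hom _ _).app 0 z) trivial
    let V₀ := (u : FSch.Hom _ _).app 0 ⁻¹ᵁ V
    have e : ∀ l, shPb h hi u (le_refl V₀) (shPb hX h b jV (T (f l))) = rs (le_top : V₀ ≤ ⊤) (η (f l)) := fun l => by
      rw [← shPb_comp hX h b hi u jV (le_refl V₀) (fun _ _ => trivial), shPb_congr hX hi hu (W := ⊤) (V := V₀) (fun _ _ => trivial) (fun _ _ => trivial),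
        ← hqT]
      exact (pb_rs _ _ hqtop (le_top : V₀ ≤ ⊤) _).symm
    obtain ⟨V₁, i₁, hzV₁, hV₁⟩ := invOn_of_shPb h hi hV (pb_mem_map _ _ J jV (hTJ i)) u (le_refl V₀)
      (fun a ha => (hnzd.res (le_top : V₀ ≤ ⊤)) V₀ le_rfl a (by rw [rs_self, ← e]; exact ha))
      (by rw [e, e]; exact map_dvd _ (hqgen j)) (z := z) hzV
    refine hWmax V₁ (i₁.trans jV) ?_ hzV₁
    rwa [show shPb hX h b (i₁.trans jV) (T (f i)) = rs i₁ (shPb hX h b jV (T (f i))) from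
      (pb_rs _ _ jV i₁ _).symm]
  -- the inverse on the locus
  let hWf := isFormal_restrictOpen h (W)
  let ιW := 𝔛.restrictOpenι h (W)
  have hιtop := top_le_restrictOpenι h (W)
  have hbtop : (⊤ : ((𝔛.restrictOpen h (W)).X 0).Opens) ≤ (ιW ≫ b : FSch.Hom _ _).app 0 ⁻¹ᵁ ⊤ := fun _ _ => trivial
  let ηW : A →+* OA _ hWf ⊤ := (shPb hX hWf (ιW ≫ b) hbtop).comp T
  have hηWK : ∀ n, ∀ a ∈ KA ^ (n + 1), projR _ hWf ⊤ n (ηW a) = 0 := fun n a ha => by
    show projR _ hWf ⊤ n (shPb hX hWf (ιW ≫ b) hbtop (T a)) = 0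
    rw [projR_shPb, projR_toSections_eq_zero KA n ha, map_zero]
  have hηWF : ∀ j, ηW (f j) = shPb h hWf ιW hιtop (shPb hX h b jW (T (f j))) := fun j =>
    shPb_comp hX h b hWf ιW jW hιtop hbtop (T (f j))
  have hnzW : NzdOn (O := (𝔛.restrictOpen h (W)).Osh hWf) ⊤ (ηW (f i)) := by
    rw [hηWF]
    exact nzdOn_restrictOpen h hWinv.2.1
  have hnzW' : ∀ t, t * ηW (f i) = 0 → t = 0 := fun t ht => hnzW ⊤ le_rfl t (by rwa [rs_self])
  have hdvdW : ∀ j, ηW (f i) ∣ ηW (f j) := fun j => by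
    obtain ⟨e, he⟩ := hWinv.exists_eq le_rfl (pb_mem_map _ _ J jW (hTJ j))
    rw [rs_self] at he
    rw [hηWF, hηWF, he, map_mul]
    exact dvd_mul_left _ _
  obtain ⟨ψ, hψ⟩ := hClift _ hWf ηW hηWK hnzW' hdvdW
  have hψK : ∀ n, ∀ z ∈ KC ^ (n + 1), projR _ hWf ⊤ n (ψ z) = 0 := fun n z hz =>
    projR_eq_zero_of_chart hWf ηW hηWK ψ hψ n hz
  let Φ := toSpf hWf KC ψ hψK
  have hΦq : Φ ≫ q = ιW ≫ b := by
    refine hom_spf_ext hWf KA _ _ fun a => ?_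
    rw [shPb_comp hX hi q hWf Φ hqtop (V := ⊤) (fun _ hy => hy), hqT]
    exact (shPb_toSpf hWf KC ψ hψK (α a)).trans (hψ a)
  have hinvW : (idealMap (ιW ≫ b) hWf hX J).IsInvertible := by
    rw [isInvertible_iff]
    refine fun y => ⟨⊤, trivial, shPb h hWf ιW hιtop (shPb hX h b jW (T (f i))), ?_,
      nzdOn_restrictOpen h hWinv.2.1, ?_⟩
    · rw [← idealMap_comp hX h b hWf ιW J]
      exact pb_mem_map _ _ _ hιtop hWinv.1
    · rw [← idealMap_comp hX h b hWf ιW J]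
      exact map_le_relGen _ _ hWinv.2.2 hιtop
  have hΦu : Φ ≫ u = ιW := (hb.2.2 _ hWf _ (isAdicHom_comp (isAdicHom_restrictOpenι h (W)) hb.1) hinvW).unique
    (by rw [Category.assoc, hu, hΦq]) rfl
  let v := toRestrict h hi u (W) hulands
  have hv : v ≫ ιW = u := toRestrict_ι h hi u (W) hulands
  have hΦv : Φ ≫ v = 𝟙 _ := eq_of_ι h (W) (by rw [Category.assoc, hv, hΦu, Category.id_comp])
  have hvΦ : v ≫ Φ = 𝟙 _ := by
    refine hom_spf_ext hi KC _ _ fun c => ?_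
    refine RingHom.congr_fun (hCext _ hi η hηK
      (fun t ht => hnzd ⊤ le_rfl t (by rwa [rs_self]))
      ((shPb (isFormal_spf C KC) hi (v ≫ Φ) (W := ⊤) (V := ⊤) (fun _ hy => hy)).comp (toSections C KC))
      ((shPb (isFormal_spf C KC) hi (𝟙 _) (W := ⊤) (V := ⊤) (fun _ hy => hy)).comp (toSections C KC)) ?_ ?_) c
    · intro a
      show shPb (isFormal_spf C KC) hi (v ≫ Φ) (W := ⊤) (V := ⊤) (fun _ hy => hy) (η a) = η a
      rw [← hqT, ← shPb_comp hX hi q hi (v ≫ Φ) hqtop (V := ⊤) (fun _ hy => hy) (fun _ _ => trivial)]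
      exact shPb_congr hX hi (by rw [Category.assoc, hΦq, ← Category.assoc, hv]; exact hu) _ _ _
    · intro a
      show shPb (isFormal_spf C KC) hi (𝟙 _) (W := ⊤) (V := ⊤) (fun _ hy => hy) (η a) = η a
      rw [← hqT, ← shPb_comp hX hi q hi (𝟙 _) hqtop (V := ⊤) (fun _ hy => hy) (fun _ _ => trivial)]
      exact shPb_congr hX hi (Category.id_comp q) _ _ _
  have hiso : ∀ n, IsIso ((v : FSch.Hom _ _).app n) := fun n =>
    ⟨(Φ : FSch.Hom _ _).app n, congrArg (fun φ : FSch.spf C KC ⟶ FSch.spf C KC => (φ : FSch.Hom _ _).app n) hvΦ,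
      congrArg (fun φ : 𝔛.restrictOpen h (W) ⟶ 𝔛.restrictOpen h (W) => (φ : FSch.Hom _ _).app n) hΦv⟩
  refine ⟨u, hu, fun n => ?_, ?_⟩
  · rw [← hv]
    haveI := hiso n
    exact inferInstanceAs (IsOpenImmersion ((v : FSch.Hom _ _).app n ≫ (𝔛.lvU h n (W)).ι))
  · refine Set.ext fun x => ⟨?_, fun hx => ?_⟩
    · rintro ⟨z, rfl⟩
      exact hulands trivial
    · refine ⟨(Φ : FSch.Hom _ _).app 0 ⟨x, (lvU_zero h (W)).ge hx⟩, ?_⟩
      exact congrArg (fun φ : 𝔛.restrictOpen h (W) ⟶ 𝔛 => (φ : FSch.Hom _ _).app 0 ⟨x, (lvU_zero h (W)).ge hx⟩) hΦu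


end Helpers


/-- Let R be a base ring of class (N) or (V) for the ideal I, A an admissible R-algebra and f_0, …, f_r
elements generating an open ideal 𝔞 of A (one containing I^k A for some k); present Spf A as the
formal system (Spec A/(IA)^(n+1))_n and let X' → Spf A be an admissible formal blowing-up of the
ideal 𝔞·O_{Spf A} (universal-property sense). For each i let U_i be the locus of points of X' having
a neighbourhood on every open subset of which the ideals generated by 𝔞 and by f_i in O_{X'}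
coincide, and let A_i be the I-adic completion of A[ζ_j ; j ≠ i]/(f_i ζ_j − f_j ; j ≠ i) divided by
its f_i-power torsion. Then the U_i cover X', and for every i there is a morphism Spf A_i → X' over
Spf A (its composite with X' → Spf A is the morphism induced by A → A_i) which is an open immersion
at every level and whose underlying image is exactly U_i. -/
theorem result
    (R : Type u) [CommRing R] (I : Ideal R) (hR : AdicRing.IsBase R I)
    (A : Type u) [CommRing A] [Algebra R A] (hA : AdicRing.Admissible R I A)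
    (r : ℕ) (f : Fin (r + 1) → A) (k : ℕ) (hopen : (I ^ k).map (algebraMap R A) ≤ Ideal.span (Set.range f))
    (hX : (FSch.spf A (I.map (algebraMap R A))).IsFormal)
    (𝔛' : FSch.Sys.{u}) (h' : 𝔛'.IsFormal) (b : 𝔛' ⟶ (FSch.spf A (I.map (algebraMap R A))))
    (hb : FBlow.IsAdmBlowUp b h' hX (FBlow.schIdealMap (FSch.spf A (I.map (algebraMap R A))) hX (FSch.spfToSpec A (I.map (algebraMap R A))) (FSch.spfToSpec_comm A (I.map (algebraMap R A))) (FBlow.IdealSh.ofData (FSch.idealSpec A (Ideal.span (Set.range f)))))) :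
    (∀ x : 𝔛'.X 0, ∃ i : Fin (r + 1), x ∈ {x : 𝔛'.X 0 | ∃ V : (𝔛'.X 0).Opens, x ∈ V ∧ ∀ V' : (𝔛'.X 0).Opens, V' ≤ V →
          (FBlow.idealMap b h' hX (FBlow.schIdealMap (FSch.spf A (I.map (algebraMap R A))) hX (FSch.spfToSpec A (I.map (algebraMap R A))) (FSch.spfToSpec_comm A (I.map (algebraMap R A))) (FBlow.IdealSh.ofData (FSch.idealSpec A (Ideal.span (Set.range f)))))).sect V' =
          (FBlow.idealMap b h' hX (FBlow.schIdealMap (FSch.spf A (I.map (algebraMap R A))) hX (FSch.spfToSpec A (I.map (algebraMap R A))) (FSch.spfToSpec_comm A (I.map (algebraMap R A))) (FBlow.IdealSh.ofData (FSch.idealSpec A (Ideal.span {f i}))))).sect V'}) ∧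
    ∀ (i : Fin (r + 1)) (hi : (FSch.spf (AdicRing.chartAdm I f i) (I.map (algebraMap R (AdicRing.chartAdm I f i)))).IsFormal)
      (hle : (I.map (algebraMap R A)) ≤ (I.map (algebraMap R (AdicRing.chartAdm I f i))).comap (algebraMap A (AdicRing.chartAdm I f i))),
      ∃ u : FSch.spf (AdicRing.chartAdm I f i) (I.map (algebraMap R (AdicRing.chartAdm I f i))) ⟶ 𝔛',
        u ≫ b = FSch.spfMap (I.map (algebraMap R (AdicRing.chartAdm I f i))) (I.map (algebraMap R A)) (algebraMap A (AdicRing.chartAdm I f i)) hle ∧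
        (∀ n, IsOpenImmersion ((u : FSch.Hom (FSch.spf (AdicRing.chartAdm I f i) (I.map (algebraMap R (AdicRing.chartAdm I f i)))) 𝔛').app n)) ∧
        Set.range ((u : FSch.Hom (FSch.spf (AdicRing.chartAdm I f i) (I.map (algebraMap R (AdicRing.chartAdm I f i)))) 𝔛').app 0).base = {x : 𝔛'.X 0 | ∃ V : (𝔛'.X 0).Opens, x ∈ V ∧ ∀ V' : (𝔛'.X 0).Opens, V' ≤ V →
          (FBlow.idealMap b h' hX (FBlow.schIdealMap (FSch.spf A (I.map (algebraMap R A))) hX (FSch.spfToSpec A (I.map (algebraMap R A))) (FSch.spfToSpec_comm A (I.map (algebraMap R A))) (FBlow.IdealSh.ofData (FSch.idealSpec A (Ideal.span (Set.range f)))))).sect V' =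
          (FBlow.idealMap b h' hX (FBlow.schIdealMap (FSch.spf A (I.map (algebraMap R A))) hX (FSch.spfToSpec A (I.map (algebraMap R A))) (FSch.spfToSpec_comm A (I.map (algebraMap R A))) (FBlow.IdealSh.ofData (FSch.idealSpec A (Ideal.span {f i}))))).sect V'} := by
  classical
  have hI := AdicRingLib.fg_of_isBase hR
  let KA : Ideal A := I.map (algebraMap R A)
  let T : A →+* OA _ hX ⊤ := toSections A KA
  set J := schIdealMap (FSch.spf A KA) hX (FSch.spfToSpec A KA) (FSch.spfToSpec_comm A KA)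
    (IdealSh.ofData (FSch.idealSpec A (Ideal.span (Set.range f)))) with hJdef
  set J' := idealMap b h' hX J with hJ'def
  have hTJ : ∀ j, T (f j) ∈ J.sect ⊤ := fun j =>
    schFun_spf A KA hX (f j) ▸ schFun_mem_schIdealMap hX _ _ f _ rfl j
  have hTfun : ∀ a, schFun hX (FSch.spfToSpec A KA) (FSch.spfToSpec_comm A KA) a = T a := schFun_spf A KA hX
  have hJT : J ≤ relGen ⊤ (fun j => T (f j)) := by
    rw [show (fun j => T (f j)) = fun j => schFun hX _ (FSch.spfToSpec_comm A KA) (f j) from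
      funext fun j => (hTfun (f j)).symm]
    exact schIdealMap_le_relGen hX _ (FSch.spfToSpec_comm A KA) f _ rfl
  have hjtop : ∀ V : (𝔛'.X 0).Opens, V ≤ (b : FSch.Hom 𝔛' _).app 0 ⁻¹ᵁ ⊤ := fun _ _ _ => trivial
  let F : Fin (r + 1) → OA 𝔛' h' ⊤ := fun j => shPb hX h' b (hjtop ⊤) (T (f j))
  have hFres : ∀ j (V : (𝔛'.X 0).Opens) (e : V ≤ ⊤), rs e (F j) = shPb hX h' b (hjtop V) (T (f j)) :=
    fun j V e => pb_rs _ _ _ e _
  let Ji : Fin (r + 1) → IdealSh (𝔛'.Osh h') := fun i => idealMap b h' hX (schIdealMap (FSch.spf A KA) hX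
    (FSch.spfToSpec A KA) (FSch.spfToSpec_comm A KA) (IdealSh.ofData (FSch.idealSpec A (Ideal.span {f i}))))
  have hset : ∀ i, ({f i} : Set A) = Set.range (fun _ : Unit => f i) := fun i => Set.range_const.symm
  have hFJi : ∀ i, F i ∈ (Ji i).sect ⊤ := fun i => pb_mem_map _ _ _ _
    (schFun_spf A KA hX (f i) ▸ schFun_mem_schIdealMap hX _ _ (fun _ : Unit => f i) _ (by rw [← hset]) ())
  have hJiF : ∀ i, Ji i ≤ relGen ⊤ (fun _ : Unit => F i) := fun i => by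
    have h1 := schIdealMap_le_relGen hX _ (FSch.spfToSpec_comm A KA) (fun _ : Unit => f i)
      (Ideal.span {f i}) (by rw [← hset])
    rw [show (fun _ : Unit => schFun hX _ (FSch.spfToSpec_comm A KA) (f i)) = fun _ : Unit => T (f i) from
      funext fun _ => hTfun (f i)] at h1
    exact map_le_relGen _ _ h1 (hjtop ⊤)
  have hFJ' : ∀ i, F i ∈ J'.sect ⊤ := fun i => pb_mem_map _ _ _ _ (hTJ i)
  -- the locus where the `i`-th member generates
  let S : Fin (r + 1) → Set (𝔛'.X 0).Opens := fun i => {V | InvOn J' V (rs (le_top : V ≤ ⊤) (F i))}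
  let W : Fin (r + 1) → (𝔛'.X 0).Opens := fun i => sSup (S i)
  have hWinv : ∀ i, InvOn J' (W i) (rs (le_top : W i ≤ ⊤) (F i)) := fun i => by
    refine invOn_sSup h' J' _ _ (rs_mem J' _ (hFJ' i)) fun x hx => ?_
    obtain ⟨V, hV, hxV⟩ := Opens.mem_sSup.1 hx
    refine ⟨V, le_sSup hV, hxV, ?_⟩
    rw [rs_rs]
    exact hV
  have hlocus : ∀ i, {x : 𝔛'.X 0 | ∃ V : (𝔛'.X 0).Opens, x ∈ V ∧ ∀ V' : (𝔛'.X 0).Opens, V' ≤ V →
      J'.sect V' = (Ji i).sect V'} = (W i : Set (𝔛'.X 0)) := by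
    intro i
    refine Set.ext fun x => ⟨fun ⟨V, hxV, hV⟩ => ?_, fun hx => ⟨W i, hx, fun V' hV' => le_antisymm (fun s hs => ?_) ?_⟩⟩
    · obtain ⟨V₁, hxV₁, hV₁⟩ := invOn_of_sect_eq h' hb.2.1 (F i) (hFJ' i) (hJiF i) hxV hV
      exact Opens.mem_sSup.2 ⟨V₁, hV₁, hxV₁⟩
    · refine mem_of_mem_relGen (Ji i) hV' (fun _ => rs_mem _ le_top (hFJi i)) ((hWinv i).2.2 V' hs)
    · intro s hs
      exact mem_of_mem_relGen J' le_top (fun _ => hFJ' i) (hJiF i V' hs)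
  have hcover : ∀ x : 𝔛'.X 0, ∃ i, x ∈ W i := fun x => by
    obtain ⟨V, jV, i, hxV, hV⟩ := exists_generator_nhd hX h' (fun j => T (f j)) hTJ hJT b hb.2.1 (x := x) trivial
    refine ⟨i, Opens.mem_sSup.2 ⟨V, ?_, hxV⟩⟩
    show InvOn J' V (rs (le_top : V ≤ ⊤) (F i))
    rw [hFres]
    exact hV
  refine ⟨fun x => ?_, fun i hi hle => ?_⟩
  · obtain ⟨i, hi⟩ := hcover x
    exact ⟨i, (hlocus i).ge hi⟩
  have hWinv' : InvOn J' (W i) (shPb hX h' b (hjtop (W i)) (T (f i))) := by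
    rw [← hFres i (W i) le_top]
    exact hWinv i
  obtain ⟨u, hu, hoi, hrange⟩ := exists_chart_iso h' f k hopen hX b J hb hTJ hJT i (W i) (hjtop (W i)) hWinv'
    (fun V jV hV => le_sSup (show InvOn J' V (rs (le_top : V ≤ ⊤) (F i)) by rw [hFres]; exact hV))
    (AdicRing.chartAdm I f i) (chartAdm_dvd f i) (chartAdm_nzd f i) hle hi
    (fun 𝔖 hS η hη hnz hdvd => exists_chartAdm_hom f i hS η hη hnz hdvd)
    (fun 𝔖 hS η hη hnz => chartAdm_hom_ext f i hS η hη hnz hI)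
  exact ⟨u, hu, hoi, hrange.trans (hlocus i).symm⟩

end Groth.Agent.S13660
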