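import Groth.Statements.S13661
import Groth.Agent.FormBlow.Retract
import Groth.Agent.AdicRingLib.Chart

set_option backward.isDefEq.respectTransparency false
set_option linter.style.haveILetI false

set_option autoImplicit false
open CategoryTheory AlgebraicGeometry
universe u
open FBlow

namespace Groth.Agent.S13661

open FBlow TopologicalSpace Groth.Agent.FormBlow
open Groth.Agent.FSchCoh (OA RA projR)

set_option maxHeartbeats 1600000 in
/-- The test object of a flat base change: a member of a generating family stays regular on the fibre product. -/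
theorem nzdOn_flat {R : Type u} [CommRing R] {I : Ideal R} (hI : I.FG) {𝔛 𝔜 𝔛' : FSch.Sys.{u}}
    (h : 𝔛.IsFormal) (hY : 𝔜.IsFormal) (h' : 𝔛'.IsFormal) (p : 𝔛 ⟶ FSch.spf R I) (hp : FSch.IsAdicHom p)
    (φ : 𝔜 ⟶ 𝔛) (hφ : FSch.IsAdicHom φ) (J : IdealSh (𝔛.Osh h)) (b : 𝔛' ⟶ 𝔛) (hb : IsAdmBlowUp b h' h J)
    (hP : (FSch.pullbackSys b φ).IsFormal) {U : (𝔛.X 0).Opens} (hU : IsAffineOpen U)
    {U' : (𝔜.X 0).Opens} (hU' : IsAffineOpen U') (jθ : U' ≤ (φ : FSch.Hom 𝔜 𝔛).app 0 ⁻¹ᵁ U)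
    (hflat : RingHom.Flat (shPb h hY φ jθ))
    {r : ℕ} (f : Fin r → OA 𝔛 h U) (hfJ : ∀ l, f l ∈ J.sect U) (hJf : J ≤ relGen U f)
    {c : ℕ} (hpow : ∀ a ∈ I ^ (c + 1), rho h p U a ∈ Ideal.span (Set.range f))
    (i : Fin r) {V : (𝔛'.X 0).Opens} (jV : V ≤ (b : FSch.Hom 𝔛' 𝔛).app 0 ⁻¹ᵁ U)
    (hinv : InvOn (idealMap b h' h J) V (shPb h h' b jV (f i)))
    {Ω : ((FSch.pullbackSys b φ).X 0).Opens}
    (jΩV : Ω ≤ (FSch.pullbackFst b φ : FSch.Hom _ _).app 0 ⁻¹ᵁ V)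
    (jΩU : Ω ≤ (FSch.pullbackSnd b φ : FSch.Hom _ _).app 0 ⁻¹ᵁ U') :
    NzdOn (O := (FSch.pullbackSys b φ).Osh hP) Ω
      (shPb h' hP (FSch.pullbackFst b φ) jΩV (shPb h h' b jV (f i))) := by
  classical
  obtain ⟨k, φB, e, e', ek, hkadic, hka, hφa⟩ := exists_chart h h' p hp hI hU J b hb f hfJ hJf hpow i jV hinv
  set θ := shPb h hY φ jθ
  algebraize [θ]
  let B := chartRing f i
  let ψ₀ : OA 𝔛 h U →+* B := algebraMap _ _
  let KB : Ideal B := I.map (ψ₀.comp (rho h p U))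
  let α : B →+* TensorProduct (OA 𝔛 h U) (OA 𝔜 hY U') B := Algebra.TensorProduct.includeRight.toRingHom
  let β : OA 𝔜 hY U' →+* TensorProduct (OA 𝔛 h U) (OA 𝔜 hY U') B := Algebra.TensorProduct.includeLeftRingHom
  have hαβ : ∀ a, α (ψ₀ a) = β (θ a) := fun a => by
    show (1 : OA 𝔜 hY U') ⊗ₜ[OA 𝔛 h U] (algebraMap (OA 𝔛 h U) B a) = θ a ⊗ₜ[OA 𝔛 h U] (1 : B)
    rw [Algebra.algebraMap_eq_smul_one, ← TensorProduct.smul_tmul, Algebra.smul_def, mul_one]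
    rfl
  have hp' : FSch.IsAdicHom (φ ≫ p) := isAdicHom_comp hφ hp
  let KC : Ideal (TensorProduct (OA 𝔛 h U) (OA 𝔜 hY U') B) := I.map (β.comp (rho hY (φ ≫ p) U'))
  have hcomp : α.comp (ψ₀.comp (rho h p U)) = β.comp (rho hY (φ ≫ p) U') := RingHom.ext fun x =>
    (hαβ _).trans (congrArg β (shPb_rho h hY p φ jθ x))
  have hle : KB ≤ KC.comap α := Ideal.map_le_iff_le_comap.1 (le_of_eq (by rw [Ideal.map_map, hcomp]))
  let hC := isFormal_spf _ KC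
  let hB := isFormal_spf _ KB
  have hη : ∀ n a, projR 𝔜 hY U' n a = 0 → projR _ hC ⊤ n (((toSections _ KC).comp β) a) = 0 := by
    intro n a ha
    refine projR_toSections_eq_zero KC n ?_
    rw [← Ideal.map_pow, ← Ideal.map_map, ← ker_projR_eq hY (φ ≫ p) hp' hI hU' n]
    exact Ideal.mem_map_of_mem β (RingHom.mem_ker.2 ha)
  let qY := homOfRing hY hC hU' ((toSections _ KC).comp β) hη
  have hqU' := top_le_preimage_homOfRing hY hC hU' ((toSections _ KC).comp β) hη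
  have hqa : ∀ a, shPb hY hC qY hqU' a = toSections _ KC (β a) := fun a => shPb_homOfRing hY hC hU' _ hη a
  let u := FSch.spfMap KC KB α hle
  have hu : ∀ z, shPb hB hC u (W := ⊤) (V := ⊤) (fun _ hy => hy) (toSections _ KB z) = toSections _ KC (α z) :=
    shPb_spfMap KB KC α hle
  have hutop : ⊤ ≤ (u : FSch.Hom _ _).app 0 ⁻¹ᵁ ⊤ := fun _ hy => hy
  have hukU : ⊤ ≤ ((u ≫ k) ≫ b : FSch.Hom _ _).app 0 ⁻¹ᵁ U := fun y _ => e (hutop (show y ∈ ⊤ from trivial))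
  have hqφU : ⊤ ≤ (qY ≫ φ : FSch.Hom _ _).app 0 ⁻¹ᵁ U := fun y hy => jθ (hqU' hy)
  have hleg : (u ≫ k) ≫ b = qY ≫ φ := by
    refine hom_ext_of_shPb h hC hU _ _ hukU hqφU fun a => ?_
    rw [shPb_congr h hC (Category.assoc u k b) hukU (fun y hy => hukU hy) a,
      shPb_comp h hB (k ≫ b) hC u e hutop (fun y hy => hukU hy) a, hka, hu, hαβ,
      shPb_comp h hY φ hC qY jθ hqU' hqφU a, hqa]
  have sq : IsPullback (FSch.pullbackFst b φ) (FSch.pullbackSnd b φ) b φ :=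
    ThickSys.isPullback_of_levelwise fun n => IsPullback.of_hasPullback _ _
  let ℓ := sq.lift (u ≫ k) qY hleg
  let hΩ := isFormal_restrictOpen hP Ω
  let ιΩ := (FSch.pullbackSys b φ).restrictOpenι hP Ω
  let rV := restrictLE h' hP (FSch.pullbackFst b φ) jΩV
  have hΩtop := top_le_restrictOpenι hP Ω
  have hrtop : ⊤ ≤ (rV : FSch.Hom _ _).app 0 ⁻¹ᵁ ⊤ := fun _ hy => hy
  let γB : B →+* OA _ hΩ ⊤ :=
    (shPb hB hΩ (rV ≫ φB) (W := ⊤) (V := ⊤) (fun _ hy => hy)).comp (toSections _ KB)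
  have hΩU' : ⊤ ≤ (ιΩ ≫ FSch.pullbackSnd b φ : FSch.Hom _ _).app 0 ⁻¹ᵁ U' := fun y hy => jΩU (hΩtop hy)
  let γY : OA 𝔜 hY U' →+* OA _ hΩ ⊤ := shPb hY hΩ (ιΩ ≫ FSch.pullbackSnd b φ) hΩU'
  have hΩU : ⊤ ≤ ((ιΩ ≫ FSch.pullbackSnd b φ) ≫ φ : FSch.Hom _ _).app 0 ⁻¹ᵁ U := fun y hy => jθ (hΩU' hy)
  have hgam : ∀ a, γB (ψ₀ a) = γY (θ a) := fun a => by
    show shPb hB hΩ (rV ≫ φB) (W := ⊤) (V := ⊤) _ (toSections _ KB (ψ₀ a)) =
      shPb hY hΩ (ιΩ ≫ FSch.pullbackSnd b φ) hΩU' (shPb h hY φ jθ a)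
    rw [← shPb_comp h hY φ hΩ (ιΩ ≫ FSch.pullbackSnd b φ) jθ hΩU' hΩU a,
      shPb_comp hB (isFormal_restrictOpen h' V) φB hΩ rV (W := ⊤) (V' := ⊤) (fun _ hy => hy) hrtop]
    refine (congrArg (shPb _ hΩ rV hrtop) (hφa a)).trans ?_
    rw [← shPb_comp h (isFormal_restrictOpen h' V) (𝔛'.restrictOpenι h' V ≫ b) hΩ rV e' hrtop
        (fun y hy => e' (hrtop hy)) a]
    refine shPb_congr h hΩ ?_ _ _ a
    rw [← Category.assoc, restrictLE_ι, Category.assoc, sq.w, Category.assoc]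
  letI : Algebra (OA 𝔛 h U) (OA _ hΩ ⊤) := (γY.comp θ).toAlgebra
  let γYa : OA 𝔜 hY U' →ₐ[OA 𝔛 h U] OA _ hΩ ⊤ := ⟨γY, fun a => rfl⟩
  let γBa : B →ₐ[OA 𝔛 h U] OA _ hΩ ⊤ := ⟨γB, fun a => hgam a⟩
  let γ := (Algebra.TensorProduct.lift γYa γBa fun _ _ => Commute.all _ _).toRingHom
  have hγY : ∀ a, γ (β a) = γY a := fun a => Algebra.TensorProduct.lift_tmul _ _ _ a 1 |>.trans (by
    show γY a * γBa 1 = γY a
    rw [map_one, mul_one])
  have hγB : ∀ z, γ (α z) = γB z := fun z => Algebra.TensorProduct.lift_tmul _ _ _ 1 z |>.trans (by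
    show γYa 1 * γB z = γB z
    rw [map_one, one_mul])
  have hγ0 : ∀ n, ∀ z ∈ KC ^ (n + 1), projR _ hΩ ⊤ n (γ z) = 0 := by
    intro n z hz
    rw [← Ideal.map_pow] at hz
    refine RingHom.mem_ker.1 (show z ∈ RingHom.ker ((projR _ hΩ ⊤ n).comp γ) from ?_)
    refine (Ideal.map_le_iff_le_comap.2 fun x hx => ?_) hz
    show projR _ hΩ ⊤ n (γ (β (rho hY (φ ≫ p) U' x))) = 0
    rw [hγY]
    show projR _ hΩ ⊤ n (shPb hY hΩ (ιΩ ≫ FSch.pullbackSnd b φ) hΩU' _) = 0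
    rw [shPb_rho]
    exact projR_rho_eq_zero hΩ _ ⊤ n hx
  let Φ := toSpf hΩ KC γ hγ0
  have hΦ : ∀ z, shPb hC hΩ Φ (W := ⊤) (V := ⊤) (fun _ hy => hy) (toSections _ KC z) = γ z :=
    shPb_toSpf hΩ KC γ hγ0
  have hΦtop : ⊤ ≤ (Φ : FSch.Hom _ _).app 0 ⁻¹ᵁ ⊤ := fun _ hy => hy
  have eB : Φ ≫ u = rV ≫ φB := by
    refine hom_spf_ext hΩ KB _ _ fun z => ?_
    rw [shPb_comp hB hC u hΩ Φ (W := ⊤) (V' := ⊤) (fun _ hy => hy) hΦtop, hu, hΦ, hγB]
    rfl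
  have eY : Φ ≫ qY = ιΩ ≫ FSch.pullbackSnd b φ := by
    refine hom_ext_of_shPb hY hΩ hU' _ _ (fun y hy => hqU' (hΦtop hy)) hΩU' fun a => ?_
    rw [shPb_comp hY hC qY hΩ Φ hqU' hΦtop (fun y hy => hqU' (hΦtop hy)), hqa, hΦ, hγY]
  have eℓ : Φ ≫ ℓ = ιΩ := by
    refine sq.hom_ext ?_ ?_
    · rw [Category.assoc, sq.lift_fst, ← Category.assoc, eB, Category.assoc, ek, restrictLE_ι]
    · rw [Category.assoc, sq.lift_snd, eY]
  refine nzdOn_of_factor hP hC ℓ Φ eℓ ?_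
  set D := (ℓ : FSch.Hom _ _).app 0 ⁻¹ᵁ Ω
  have j1 : Ω ≤ (FSch.pullbackFst b φ ≫ b : FSch.Hom _ _).app 0 ⁻¹ᵁ U := fun y hy => jV (jΩV hy)
  have j2 : D ≤ (ℓ ≫ FSch.pullbackFst b φ ≫ b : FSch.Hom _ _).app 0 ⁻¹ᵁ U := fun y hy => j1 hy
  have heq : shPb (𝔛 := FSch.pullbackSys b φ) hP hC ℓ (le_refl D)
      (shPb h' hP (FSch.pullbackFst b φ) jΩV (shPb h h' b jV (f i))) =
      rs (le_top : D ≤ ⊤) (toSections _ KC (β (θ (f i)))) := by
    rw [← shPb_comp h h' b hP (FSch.pullbackFst b φ) jV jΩV j1,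
      ← shPb_comp h hP (FSch.pullbackFst b φ ≫ b) hC ℓ j1 (le_refl D) j2,
      shPb_congr h hC (show ℓ ≫ FSch.pullbackFst b φ ≫ b = qY ≫ φ by rw [← Category.assoc, sq.lift_fst, hleg])
        j2 (fun y _ => hqφU (show y ∈ ⊤ from trivial)) (f i),
      ← hqa, ← shPb_comp h hY φ hC qY jθ hqU' hqφU (f i)]
    exact (pb_rs _ _ hqφU (le_top : D ≤ ⊤) (f i)).symm
  rw [heq]
  refine NzdOn.res ?_ le_top
  refine nzdOn_spf KC (x := β (θ (f i))) ?_ (c := c) ?_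
  · have hinj : Function.Injective (LinearMap.lTensor (OA 𝔜 hY U') (DistribSMul.toLinearMap (OA 𝔛 h U) B (f i))) :=
      Module.Flat.lTensor_preserves_injective_linearMap _ fun x y hxy => by
        refine sub_eq_zero.1 (chartRing_nzd_self f i _ ?_)
        rw [← Algebra.smul_def, smul_sub]
        exact sub_eq_zero.2 hxy
    intro z hz
    refine hinj ?_
    rw [map_zero, ← hz]
    clear hz
    induction z using TensorProduct.induction_on with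
    | zero => simp
    | tmul a z =>
      show a ⊗ₜ[OA 𝔛 h U] (f i • z) = (θ (f i) ⊗ₜ[OA 𝔛 h U] (1 : B)) * (a ⊗ₜ[OA 𝔛 h U] z)
      rw [Algebra.TensorProduct.tmul_mul_tmul, one_mul, ← TensorProduct.smul_tmul, Algebra.smul_def]
      rfl
    | add z z' hz hz' => rw [map_add, mul_add, hz, hz']
  · intro z hz
    rw [← Ideal.mem_span_singleton]
    refine (?_ : KC ^ (c + 1) ≤ Ideal.span {β (θ (f i))}) hz
    rw [← Ideal.map_pow, ← hcomp, ← Ideal.map_map, ← hαβ]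
    refine Ideal.map_le_iff_le_comap.2 ?_
    rw [← Ideal.map_map, Ideal.map_le_iff_le_comap]
    refine le_trans (Ideal.map_le_iff_le_comap.2 (show I ^ (c + 1) ≤ (Ideal.span (Set.range f)).comap (rho h p U)
      from fun x hx => hpow x hx)) (Ideal.span_le.2 ?_)
    rintro _ ⟨l, rfl⟩
    exact Ideal.mem_span_singleton.2 (map_dvd α (chartRing_dvd f i l))

/-- Let R be a base ring of class (N) or (V) for the ideal I and X an admissible formal R-scheme,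
presented I-adically: a formal system of thickenings X_0 → X_1 → ⋯ adic over Spf R = (Spec
R/I^(n+1))_n (all squares cartesian), with every level X_n locally of finite presentation over
R/I^(n+1), structure sheaf O_X = lim O_{X_n} on the common underlying space, and no I-torsion (over
every open, a section of O_X annihilated by the kernel of O_X → O_{X_0} is zero); let Y be a second
admissible formal R-scheme presented in the same way and Y → X an adic morphism which is flat: for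
every affine open subset U of X and every affine open subset U' of Y mapped into U, the ring
homomorphism O_X(U) → O_Y(U') is flat. Let J be a coherent open ideal of O_X and X' → X an
admissible formal blowing-up of J (universal-property sense). Then the base change X' ×_X Y → Y,
formed levelwise, is an admissible formal blowing-up of the ideal J·O_Y. (The published statement is
for a flat base change between formal schemes locally of topologically finite presentation; the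
universal property asserted here is the one established for admissible formal schemes, so X and Y
are both taken admissible.) -/
theorem result
    (R : Type u) [CommRing R] (I : Ideal R) (hR : AdicRing.IsBase R I)
    (𝔛 : FSch.Sys.{u}) (h : 𝔛.IsFormal) (p : 𝔛 ⟶ FSch.spf R I) (hp : FSch.IsAdicHom p)
    (hfp : ∀ n, LocallyOfFinitePresentation ((p : FSch.Hom 𝔛 (FSch.spf R I)).app n))
    (htf : ∀ (U : (𝔛.X 0).Opens) (s : (𝔛.Osh h).obj.obj (Opposite.op U)),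
      (∀ a ∈ (FBlow.IdealSh.ker (𝔛.OshProj h 0)).sect U, a * s = 0) → s = 0)
    (𝔜 : FSch.Sys.{u}) (hY : 𝔜.IsFormal) (φ : 𝔜 ⟶ 𝔛) (hφ : FSch.IsAdicHom φ)
    (hYfp : ∀ n, LocallyOfFinitePresentation ((φ ≫ p : FSch.Hom 𝔜 (FSch.spf R I)).app n))
    (hYtf : ∀ (U : (𝔜.X 0).Opens) (s : (𝔜.Osh hY).obj.obj (Opposite.op U)),
      (∀ a ∈ (FBlow.IdealSh.ker (𝔜.OshProj hY 0)).sect U, a * s = 0) → s = 0)
    (hflat : ∀ (U : (𝔛.X 0).affineOpens) (U' : (𝔜.X 0).affineOpens)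
      (e : U'.1 ≤ ((φ : FSch.Hom 𝔜 𝔛).app 0) ⁻¹ᵁ U.1),
      RingHom.Flat (((𝔜.Osh hY).obj.map (homOfLE e).op).hom.comp
        ((FSch.Hom.sharp φ hY h).hom.app (Opposite.op U.1)).hom))
    (J : FBlow.IdealSh (𝔛.Osh h)) (hJ : FBlow.IsCohOpen 𝔛 h J)
    (𝔛' : FSch.Sys.{u}) (h' : 𝔛'.IsFormal) (b : 𝔛' ⟶ 𝔛) (hb : FBlow.IsAdmBlowUp b h' h J)
    (hP : (FSch.pullbackSys b φ).IsFormal) :
    FBlow.IsAdmBlowUp (FSch.pullbackSnd b φ) hP hY (FBlow.idealMap φ hY h J) := by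
  have hI := AdicRingLib.fg_of_isBase hR
  have sq : IsPullback (FSch.pullbackFst b φ) (FSch.pullbackSnd b φ) b φ :=
    ThickSys.isPullback_of_levelwise fun n => IsPullback.of_hasPullback _ _
  refine ⟨ThickSys.isAdicHom_pullbackSnd b φ hb.1, ?_, ?_⟩
  · rw [isInvertible_iff]
    intro z
    obtain ⟨U, hU, hxU, r, c, f, hfJ, hJf, hpow⟩ := exists_generators h p hp hI hJ
      ((b : FSch.Hom 𝔛' 𝔛).app 0 ((FSch.pullbackFst b φ : FSch.Hom _ _).app 0 z))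
    have hz : (φ : FSch.Hom 𝔜 𝔛).app 0 ((FSch.pullbackSnd b φ : FSch.Hom _ _).app 0 z) ∈ U := by
      show ((FSch.pullbackSnd b φ ≫ φ : FSch.Hom _ _).app 0) z ∈ U
      rw [← sq.w]
      exact hxU
    obtain ⟨U', hU', hzU', jθ⟩ := exists_isAffineOpen_mem_and_subset
      (U := (φ : FSch.Hom 𝔜 𝔛).app 0 ⁻¹ᵁ U) hz
    obtain ⟨V, jV, i, hzV, hinv⟩ := exists_generator_nhd h h' f hfJ hJf b hb.2.1 hxU
    let Ω : ((FSch.pullbackSys b φ).X 0).Opens :=
      (FSch.pullbackFst b φ : FSch.Hom _ _).app 0 ⁻¹ᵁ V ⊓ (FSch.pullbackSnd b φ : FSch.Hom _ _).app 0 ⁻¹ᵁ U'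
    have jΩV : Ω ≤ (FSch.pullbackFst b φ : FSch.Hom _ _).app 0 ⁻¹ᵁ V := inf_le_left
    rw [idealMap_comp h hY φ hP (FSch.pullbackSnd b φ) J, ← sq.w, ← idealMap_comp h h' b hP (FSch.pullbackFst b φ) J]
    refine ⟨Ω, ⟨hzV, hzU'⟩, shPb h' hP (FSch.pullbackFst b φ) jΩV (shPb h h' b jV (f i)), ?_, ?_, ?_⟩
    · exact pb_mem_map _ _ _ jΩV hinv.1
    · exact nzdOn_flat hI h hY h' p hp φ hφ J b hb hP hU hU' jθ (hflat ⟨U, hU⟩ ⟨U', hU'⟩ jθ)
        f hfJ hJf hpow i jV hinv jΩV inf_le_right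
    · exact map_le_relGen _ _ hinv.2.2 jΩV
  · intro ℨ hℨ g hg hinv
    rw [idealMap_comp h hY φ hℨ g J] at hinv
    obtain ⟨k₁, hk₁, hk₁u⟩ := hb.2.2 ℨ hℨ (g ≫ φ) (isAdicHom_comp hg hφ) hinv
    refine ⟨sq.lift k₁ g hk₁, sq.lift_snd _ _ _, fun k hk => sq.hom_ext ?_ ?_⟩
    · rw [sq.lift_fst]
      refine hk₁u _ ?_
      show (k ≫ FSch.pullbackFst b φ) ≫ b = g ≫ φ
      rw [Category.assoc, sq.w, ← Category.assoc]
      exact congrArg (· ≫ φ) hk
    · exact hk.trans (sq.lift_snd _ _ _).symm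

end Groth.Agent.S13661
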