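import Groth.Statements.S13662
import Groth.Agent.FormBlow.SchIdeal

set_option backward.isDefEq.respectTransparency false
set_option linter.style.haveILetI false
-- import your own Groth.Agent.* helpers here

set_option autoImplicit false
open CategoryTheory AlgebraicGeometry
open scoped TensorProduct
universe u
open FBlow

namespace Groth.Agent.S13662

open FBlow TopologicalSpace Groth.Agent.FormBlow TensorProduct
open Groth.Agent.FSchCoh (OA RA projR)

section Helpers

theorem exists_dvd_pow_base {R : Type u} [CommRing R] [IsDomain R] [ValuationRing R] [Ring.KrullDimLE 1 R]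
    (t : R) [IsAdicComplete (Ideal.span {t}) R] {c : R} (hc : c ≠ 0) : ∃ k, c ∣ t ^ k := by
  have htu : ¬ IsUnit t := fun hu => by
    have h1 : (1 : R) = 0 := IsHausdorff.haus (I := Ideal.span {t}) inferInstance 1 fun n => by
      rw [Ideal.span_singleton_eq_top.2 hu, Ideal.top_pow, SModEq.zero, Submodule.top_smul]
      exact Submodule.mem_top
    exact one_ne_zero h1
  have h1 : t ∈ (Ideal.span {c}).radical := by
    rw [Ideal.radical_eq_sInf, Submodule.mem_sInf]
    rintro P ⟨hcP, hP⟩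
    have hP0 : P ≠ ⊥ := fun h => hc (by
      have := hcP (Ideal.mem_span_singleton_self c)
      rwa [h, Ideal.mem_bot] at this)
    rw [IsLocalRing.eq_maximalIdeal (hP.isMaximal_of_ne_bot hP0)]
    exact htu
  obtain ⟨k, hk⟩ := h1
  exact ⟨k, Ideal.mem_span_singleton.1 hk⟩

/-- An integral member of a local family: the denominator generates. -/
theorem invOn_of_integral {𝔖 : FSch.Sys.{u}} (hS : 𝔖.IsFormal) {J : IdealSh (𝔖.Osh hS)} {V : (𝔖.X 0).Opens}
    {G C : OA 𝔖 hS V} (hG : InvOn J V G) (hC : C ∈ J.sect V) {m : ℕ} (a : Fin m → OA 𝔖 hS V)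
    (hrel : G ^ m + ∑ l : Fin m, a l * C ^ (m - (l : ℕ)) * G ^ (l : ℕ) = 0) : InvOn J V C := by
  obtain ⟨e, he⟩ := hG.exists_eq le_rfl hC
  rw [rs_self] at he
  have hsum : (∑ l : Fin m, a l * e ^ (m - (l : ℕ) - 1)) * e = ∑ l : Fin m, a l * e ^ (m - (l : ℕ)) := by
    rw [Finset.sum_mul]
    refine Finset.sum_congr rfl fun l _ => ?_
    rw [mul_assoc, ← pow_succ, show m - (l : ℕ) - 1 + 1 = m - (l : ℕ) by omega]
  have hterm : ∀ l : Fin m, a l * C ^ (m - (l : ℕ)) * G ^ (l : ℕ) = a l * e ^ (m - (l : ℕ)) * G ^ m := fun l => by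
    rw [he, mul_pow, ← mul_assoc, mul_assoc (a l * e ^ (m - (l : ℕ))), ← pow_add,
      Nat.sub_add_cancel l.2.le]
  rw [Finset.sum_congr rfl fun l _ => hterm l, ← Finset.sum_mul, ← hsum] at hrel
  have hpow : ∀ q : ℕ, ∀ z : OA 𝔖 hS V, z * G ^ q = 0 → z = 0 := by
    intro q
    induction q with
    | zero => intro z hz; simpa using hz
    | succ q ih =>
      intro z hz
      refine ih z (hG.2.1 V le_rfl _ ?_)
      rw [rs_self, mul_assoc, ← pow_succ]
      exact hz
  have h1 := hpow m _ (show (1 + (∑ l : Fin m, a l * e ^ (m - (l : ℕ) - 1)) * e) * G ^ m = 0 by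
    rw [add_mul, one_mul]; exact hrel)
  have hu : IsUnit e := IsUnit.of_mul_eq_one (-(∑ l : Fin m, a l * e ^ (m - (l : ℕ) - 1))) (by linear_combination -h1)
  obtain ⟨w, rfl⟩ := hu
  refine ⟨hC, fun V' l s hs => ?_, fun V' s hs => ?_⟩
  · refine hG.2.1 V' l s ?_
    rw [he, map_mul, ← mul_assoc, mul_comm s, mul_assoc] at hs
    exact (w.isUnit.map (rs l)).mul_right_eq_zero.1 hs
  · refine relGen_le_of_mem (le_refl V) (h := fun _ : Unit => C) (fun _ => ?_) V' (hG.2.2 V' hs)
    have h2 := Ideal.mul_mem_left _ (↑w⁻¹ : OA 𝔖 hS V) (mem_relGen_self (fun _ : Unit => C) ())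
    rw [he, Units.inv_mul_cancel_left, ← he] at h2
    rwa [rs_self]

/-- The relation of integrality with the denominators cleared. -/
theorem exists_rel {A B : Type u} [CommRing A] [CommRing B] [Algebra A B]
    (hinj : Function.Injective (algebraMap A B)) {x : B} (hx : IsIntegral A x) {c g : A}
    (hg : algebraMap A B g = algebraMap A B c * x) :
    ∃ (m : ℕ) (a : Fin m → A), g ^ m + ∑ l : Fin m, a l * c ^ (m - (l : ℕ)) * g ^ (l : ℕ) = 0 := by
  obtain ⟨P, hP, hPx⟩ := hx
  refine ⟨P.natDegree, fun l => P.coeff (l : ℕ), hinj ?_⟩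
  rw [map_add, map_pow, map_sum, map_zero, hg]
  have h1 : algebraMap A B c ^ P.natDegree * (P.eval₂ (algebraMap A B) x) = 0 := by rw [hPx, mul_zero]
  rw [Polynomial.eval₂_eq_sum_range, Finset.sum_range_succ] at h1
  rw [← h1, mul_add, hP.coeff_natDegree, map_one, one_mul, mul_pow, add_comm]
  congr 1
  rw [Finset.mul_sum, ← Fin.sum_univ_eq_sum_range]
  refine Finset.sum_congr rfl fun l _ => ?_
  have e : algebraMap A B c ^ P.natDegree =
      algebraMap A B c ^ (P.natDegree - (l : ℕ)) * algebraMap A B c ^ (l : ℕ) := by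
    rw [← pow_add, Nat.sub_add_cancel l.2.le]
  rw [map_mul, map_mul, map_pow, map_pow, hg, mul_pow, e]
  ring

variable {A B : Type u} [CommRing A] [CommRing B] [Algebra A B] {n : ℕ} (f : Fin n → B) (c : A) (g : Fin n → A)

/-- Maps out of the algebra generated by fractions. -/
theorem exists_adjoin_hom (hinj : Function.Injective (algebraMap A B)) (hu : IsUnit (algebraMap A B c))
    (hg : ∀ i, algebraMap A B (g i) = algebraMap A B c * f i) {S : Type u} [CommRing S] (φ : A →+* S)
    (hnz : ∀ s, s * φ c = 0 → s = 0) (hdvd : ∀ i, φ c ∣ φ (g i)) :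
    ∃ ψ : ↥(Algebra.adjoin A (Set.range f)) →+* S, ∀ a, ψ (algebraMap A _ a) = φ a := by
  let F : Fin (n + 1) → A := Fin.cons c g
  let Λ : Localization.Away (F 0) →ₐ[A] B :=
    { IsLocalization.Away.lift (S := Localization.Away (F 0)) (F 0) hu with
      commutes' := fun a => IsLocalization.Away.lift_eq (F 0) hu a }
  have hΛ : Function.Injective Λ := by
    rw [injective_iff_map_eq_zero]
    intro x hx
    obtain ⟨⟨a, s⟩, hs⟩ := IsLocalization.surj (Submonoid.powers (F 0)) x
    have h1 := congrArg Λ hs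
    rw [map_mul, hx, zero_mul, AlgHom.commutes] at h1
    have ha : a = 0 := hinj (h1.symm.trans (map_zero _).symm)
    rw [ha, map_zero] at hs
    exact (IsLocalization.map_units (Localization.Away (F 0)) s).mul_left_eq_zero.1 hs
  have hmap : (chartRing F 0).map Λ = Algebra.adjoin A (Set.range f) := by
    rw [chartRing, AlgHom.map_adjoin]
    have hΛj : ∀ j, algebraMap A B (F 0) * Λ (IsLocalization.mk' (Localization.Away (F 0)) (F j)
        (⟨F 0, Submonoid.mem_powers _⟩ : Submonoid.powers (F 0))) = algebraMap A B (F j) := fun j => by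
      rw [← AlgHom.commutes Λ (F 0), ← map_mul, IsLocalization.mk'_spec'_mk, AlgHom.commutes]
    refine le_antisymm (Algebra.adjoin_le ?_) (Algebra.adjoin_mono ?_)
    · rintro _ ⟨_, ⟨j, rfl⟩, rfl⟩
      induction j using Fin.cases with
      | zero =>
        show Λ (IsLocalization.mk' (Localization.Away (F 0)) (F 0) (⟨F 0, Submonoid.mem_powers _⟩ :
          Submonoid.powers (F 0))) ∈ _
        rw [show Λ _ = (1 : B) from hu.mul_left_cancel ((hΛj 0).trans (mul_one _).symm)]
        exact one_mem _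
      | succ j =>
        show Λ (IsLocalization.mk' (Localization.Away (F 0)) (F j.succ) (⟨F 0, Submonoid.mem_powers _⟩ :
          Submonoid.powers (F 0))) ∈ _
        rw [show Λ _ = f j from hu.mul_left_cancel ((hΛj j.succ).trans (hg j))]
        exact Algebra.subset_adjoin ⟨j, rfl⟩
    · rintro _ ⟨j, rfl⟩
      exact ⟨_, ⟨j.succ, rfl⟩, hu.mul_left_cancel ((hΛj j.succ).trans (hg j))⟩
  let e : chartRing F 0 ≃ₐ[A] ↥(Algebra.adjoin A (Set.range f)) :=
    (Subalgebra.equivMapOfInjective (chartRing F 0) Λ hΛ).trans (Subalgebra.equivOfEq _ _ hmap)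
  obtain ⟨ψ, hψ⟩ := exists_chartRing_hom F 0 φ hnz (fun j => by
    induction j using Fin.cases with
    | zero => exact dvd_rfl
    | succ j => exact hdvd j)
  refine ⟨ψ.comp e.symm.toAlgHom.toRingHom, fun a => ?_⟩
  show ψ (e.symm (algebraMap A _ a)) = φ a
  rw [AlgEquiv.commutes, hψ]

theorem adjoin_hom_ext (hg : ∀ i, algebraMap A B (g i) = algebraMap A B c * f i) {S : Type u} [CommRing S]
    (φ : A →+* S) (hnz : ∀ s, s * φ c = 0 → s = 0) (ψ ψ' : ↥(Algebra.adjoin A (Set.range f)) →+* S)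
    (h₁ : ∀ a, ψ (algebraMap A _ a) = φ a) (h₂ : ∀ a, ψ' (algebraMap A _ a) = φ a) : ψ = ψ' := by
  refine RingHom.ext fun x => ?_
  obtain ⟨x, hx⟩ := x
  induction hx using Algebra.adjoin_induction with
  | mem x hx =>
    obtain ⟨j, rfl⟩ := hx
    have h : algebraMap A ↥(Algebra.adjoin A (Set.range f)) c * ⟨f j, Algebra.subset_adjoin ⟨j, rfl⟩⟩ =
        algebraMap A _ (g j) := Subtype.ext (hg j).symm
    have e₁ := congrArg ψ h
    have e₂ := congrArg ψ' h
    rw [map_mul, h₁, h₁] at e₁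
    rw [map_mul, h₂, h₂] at e₂
    refine sub_eq_zero.1 (hnz _ ?_)
    linear_combination e₁ - e₂
  | algebraMap r => exact (h₁ r).trans (h₂ r).symm
  | add x y hx hy hx' hy' => exact ((map_add ψ ⟨x, hx⟩ ⟨y, hy⟩).trans (congrArg₂ (· + ·) hx' hy')).trans (map_add ψ' _ _).symm
  | mul x y hx hy hx' hy' => exact ((map_mul ψ ⟨x, hx⟩ ⟨y, hy⟩).trans (congrArg₂ (· * ·) hx' hy')).trans (map_mul ψ' _ _).symm

end Helpers

/-- Formal spectra of algebras generated by integral fractions are admissible blowing-ups. -/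
theorem main {R : Type u} [CommRing R] {I : Ideal R} {A : Type u} [CommRing A] [Algebra R A] {A' : Type u}
    [CommRing A'] [Algebra R A'] [Algebra A A'] [IsScalarTower R A A'] {n : ℕ} (cA : A) (g : Fin n → A)
    (hX : (FSch.spf A (I.map (algebraMap R A))).IsFormal) (h' : (FSch.spf A' (I.map (algebraMap R A'))).IsFormal)
    (hle : I.map (algebraMap R A) ≤ (I.map (algebraMap R A')).comap (algebraMap A A'))
    (hnzA' : ∀ x : A', algebraMap A A' cA * x = 0 → x = 0)
    (k : ℕ) (hpowA' : ∀ z ∈ (I.map (algebraMap R A')) ^ (k + 1), algebraMap A A' cA ∣ z)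
    (hdvdA : ∀ i, algebraMap A A' cA ∣ algebraMap A A' (g i))
    (hrels : ∀ i, ∃ (m : ℕ) (a : Fin m → A), g i ^ m + ∑ l : Fin m, a l * cA ^ (m - (l : ℕ)) * g i ^ (l : ℕ) = 0)
    (hlift : ∀ {S : Type u} [CommRing S] (φ : A →+* S), (∀ s, s * φ cA = 0 → s = 0) → (∀ i, φ cA ∣ φ (g i)) →
      ∃ ψ : A' →+* S, ∀ a, ψ (algebraMap A A' a) = φ a)
    (hext : ∀ {S : Type u} [CommRing S] (φ : A →+* S), (∀ s, s * φ cA = 0 → s = 0) → ∀ ψ ψ' : A' →+* S,
      (∀ a, ψ (algebraMap A A' a) = φ a) → (∀ a, ψ' (algebraMap A A' a) = φ a) → ψ = ψ') :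
    IsAdmBlowUp (FSch.spfMap (I.map (algebraMap R A')) (I.map (algebraMap R A)) (algebraMap A A') hle) h' hX
      (schIdealMap (FSch.spf A (I.map (algebraMap R A))) hX (FSch.spfToSpec A (I.map (algebraMap R A)))
        (FSch.spfToSpec_comm A (I.map (algebraMap R A)))
        (IdealSh.ofData (FSch.idealSpec A (Ideal.span (insert cA (Set.range g)))))) := by
  classical
  let KA : Ideal A := I.map (algebraMap R A)
  let K' : Ideal A' := I.map (algebraMap R A')
  let α : A →+* A' := algebraMap A A'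
  let F : Fin (n + 1) → A := Fin.cons cA g
  let T : A →+* OA _ hX ⊤ := toSections A KA
  set J := schIdealMap (FSch.spf A KA) hX (FSch.spfToSpec A KA) (FSch.spfToSpec_comm A KA)
    (IdealSh.ofData (FSch.idealSpec A (Ideal.span (insert cA (Set.range g))))) with hJdef
  have hF : Ideal.span (insert cA (Set.range g)) = Ideal.span (Set.range F) := by rw [Fin.range_cons]
  have hTJ : ∀ j, T (F j) ∈ J.sect ⊤ := fun j => by
    rw [show T (F j) = schFun hX _ (FSch.spfToSpec_comm A KA) (F j) from (schFun_spf A KA hX (F j)).symm]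
    exact schFun_mem_schIdealMap hX _ _ F _ hF j
  have hJT : J ≤ relGen ⊤ (fun j => T (F j)) := by
    rw [show (fun j => T (F j)) = fun j => schFun hX _ (FSch.spfToSpec_comm A KA) (F j) from
      funext fun j => (schFun_spf A KA hX (F j)).symm]
    exact schIdealMap_le_relGen hX _ (FSch.spfToSpec_comm A KA) F _ hF
  have hle' : KA ≤ K'.comap α := hle
  let q := FSch.spfMap K' KA α hle'
  have hKmap : KA.map α = K' := by rw [Ideal.map_map, ← IsScalarTower.algebraMap_eq]
  have hqtop : ⊤ ≤ (q : FSch.Hom _ _).app 0 ⁻¹ᵁ ⊤ := fun _ _ => trivial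
  have hqT : ∀ a, shPb hX h' q hqtop (T a) = toSections A' K' (α a) := shPb_spfMap KA K' α hle'
  have hnzd : NzdOn (O := (FSch.spf A' K').Osh h') ⊤ (toSections A' K' (α cA)) :=
    nzdOn_spf K' hnzA' (c := k) hpowA'
  have hdvdA' : ∀ j, α cA ∣ α (F j) := by
    intro j
    induction j using Fin.cases with
    | zero => exact dvd_rfl
    | succ j => exact hdvdA j
  refine ⟨isAdicHom_spfMap KA K' α hle' hKmap, ?_, fun 𝔖 hS φ hφ hinv => ?_⟩
  · rw [isInvertible_iff]
    refine fun z => ⟨⊤, trivial, toSections A' K' (α cA), ?_, hnzd, fun V s hs => ?_⟩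
    · rw [← hqT]
      exact pb_mem_map _ _ J hqtop (hTJ 0)
    · refine relGen_le_of_mem (le_refl ⊤) (fun j => ?_) V (map_le_relGen _ _ hJT hqtop V hs)
      rw [rs_self]
      show shPb hX h' q hqtop (T (F j)) ∈ _
      rw [hqT]
      obtain ⟨e, he⟩ := hdvdA' j
      rw [he, map_mul]
      exact Ideal.mul_mem_right _ _ (mem_relGen_self (fun _ : Unit => toSections A' K' (α cA)) ())
  have hφtop : ⊤ ≤ (φ : FSch.Hom _ _).app 0 ⁻¹ᵁ ⊤ := fun _ _ => trivial
  let η : A →+* OA 𝔖 hS ⊤ := (shPb hX hS φ hφtop).comp T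
  have hgen : InvOn (idealMap φ hS hX J) ⊤ (η cA) := by
    have hloc : ∀ x : 𝔖.X 0, ∃ V : (𝔖.X 0).Opens, x ∈ V ∧ InvOn (idealMap φ hS hX J) V (rs (le_top : V ≤ ⊤) (η cA)) := by
      intro x
      obtain ⟨V, jV, i, hxV, hV⟩ := exists_generator_nhd hX hS (fun j => T (F j)) hTJ hJT φ hinv (x := x) trivial
      have hη : ∀ a, shPb hX hS φ jV (T a) = rs (le_top : V ≤ ⊤) (η a) := fun a => (pb_rs _ _ hφtop le_top _).symm
      rw [hη] at hV
      refine ⟨V, hxV, ?_⟩
      induction i using Fin.cases with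
      | zero => exact hV
      | succ i =>
        obtain ⟨m, a, hrel⟩ := hrels i
        refine invOn_of_integral hS hV (hη cA ▸ pb_mem_map _ _ J jV (hTJ 0))
          (fun l => rs (le_top : V ≤ ⊤) (η (a l))) ?_
        have h1 := congrArg ((rs (le_top : V ≤ ⊤)).comp η) hrel
        simp only [map_add, map_sum, map_mul, map_pow, map_zero, RingHom.comp_apply] at h1
        exact h1
    refine ⟨pb_mem_map _ _ J hφtop (hTJ 0), NzdOn.of_local fun x _ => ?_, fun V s hs y hy => ?_⟩
    · obtain ⟨V, hxV, hV⟩ := hloc x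
      exact ⟨V, le_top, hxV, hV.2.1⟩
    · obtain ⟨V', hyV', hV'⟩ := hloc y
      obtain ⟨W, iW, jW, hyW, hW⟩ := hV'.2.2 V hs y ⟨hy.1, hyV'⟩
      refine ⟨W, iW, le_top, hyW, ?_⟩
      simpa only [rs_rs] using hW
  have hnzS : ∀ s, s * η cA = 0 → s = 0 := fun s hs => hgen.2.1 ⊤ le_rfl s (by rwa [rs_self])
  have hdvdS : ∀ i, η cA ∣ η (g i) := fun i => by
    obtain ⟨e, he⟩ := hgen.exists_eq le_rfl (pb_mem_map _ _ J hφtop (hTJ i.succ))
    rw [rs_self] at he
    exact Dvd.intro_left e he.symm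
  obtain ⟨ψ, hψ⟩ := hlift η hnzS hdvdS
  have hψK : ∀ m, ∀ z ∈ K' ^ (m + 1), projR _ hS ⊤ m (ψ z) = 0 := by
    intro m z hz
    rw [← hKmap, ← Ideal.map_pow] at hz
    refine RingHom.mem_ker.1 (show z ∈ RingHom.ker ((projR 𝔖 hS ⊤ m).comp ψ) from ?_)
    refine (Ideal.map_le_iff_le_comap.2 fun a ha => ?_) hz
    show projR 𝔖 hS ⊤ m (ψ (α a)) = 0
    rw [hψ]
    show projR 𝔖 hS ⊤ m (shPb hX hS φ hφtop (T a)) = 0
    rw [projR_shPb, projR_toSections_eq_zero KA m ha, map_zero]
  have hcomp : ∀ (k : 𝔖 ⟶ FSch.spf A' K') (a : A),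
      shPb hX hS (k ≫ q) (W := ⊤) (V := ⊤) (fun _ _ => trivial) (T a) =
        shPb h' hS k (W := ⊤) (V := ⊤) (fun _ hy => hy) (toSections A' K' (α a)) := fun k a => by
    rw [shPb_comp hX h' q hS k hqtop (V := ⊤) (fun _ hy => hy), hqT]
  refine ⟨toSpf hS K' ψ hψK, ?_, fun k' hk' => ?_⟩
  · refine hom_spf_ext hS KA _ _ fun a => ?_
    rw [hcomp]
    exact (shPb_toSpf hS K' ψ hψK (α a)).trans (hψ a)
  · refine hom_spf_ext hS K' _ _ fun x => ?_
    rw [shPb_toSpf hS K' ψ hψK x]
    refine RingHom.congr_fun (hext η hnzS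
      ((shPb h' hS k' (W := ⊤) (V := ⊤) (fun _ hy => hy)).comp (toSections A' K')) ψ (fun a => ?_) hψ) x
    show shPb h' hS k' _ (toSections A' K' (α a)) = η a
    rw [← hcomp]
    exact shPb_congr hX hS hk' _ _ _

/-- Let R be a complete valuation ring of height one with t a nonzero element generating an ideal of
definition and K its field of fractions, A an admissible R-algebra, f_1, …, f_n elements of A ⊗_R K
that are integral over A, c a nonzero element of R and g_1, …, g_n elements of A with g_i = c f_i in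
A ⊗_R K; put A' = A[f_1, …, f_n] ⊂ A ⊗_R K and 𝔞 = (c, g_1, …, g_n) ⊂ A, and present Spf A and Spf
A' as the formal systems (Spec A/(t)^(m+1))_m and (Spec A'/(t)^(m+1))_m. Then the morphism Spf A' →
Spf A induced by the inclusion A ⊂ A' is the admissible formal blowing-up of the ideal 𝔞·O_{Spf A}
in the sense of the universal property: it is adic, 𝔞 generates an invertible ideal of O_{Spf A'},
and every adic morphism of formal systems Y → Spf A under which 𝔞 generates an invertible ideal of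
O_Y factors through Spf A' → Spf A in exactly one way. (The published hypothesis on the f_i is that
their supremum seminorm on the affinoid algebra A ⊗_R K is at most 1; integrality over A is what is
derived from it and used, and is taken as the hypothesis here.) -/
theorem result
    (R : Type u) [CommRing R] [IsDomain R] [ValuationRing R] [Ring.KrullDimLE 1 R]
    (t : R) (ht : t ≠ 0) [IsAdicComplete (Ideal.span {t}) R]
    (A : Type u) [CommRing A] [Algebra R A] (hA : AdicRing.Admissible R (Ideal.span {t}) A)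
    (n : ℕ) (f : Fin n → A ⊗[R] FractionRing R) (hf : ∀ i, IsIntegral A (f i))
    (c : R) (hc : c ≠ 0) (g : Fin n → A)
    (hg : ∀ i, algebraMap A (A ⊗[R] FractionRing R) (g i) = c • f i)
    (hX : (FSch.spf A ((Ideal.span {t}).map (algebraMap R A))).IsFormal) (h' : (FSch.spf ↥(Algebra.adjoin A (Set.range f)) ((Ideal.span {t}).map (algebraMap R ↥(Algebra.adjoin A (Set.range f))))).IsFormal)
    (hle : ((Ideal.span {t}).map (algebraMap R A)) ≤ ((Ideal.span {t}).map (algebraMap R ↥(Algebra.adjoin A (Set.range f)))).comap (algebraMap A ↥(Algebra.adjoin A (Set.range f)))) :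
    FBlow.IsAdmBlowUp (FSch.spfMap ((Ideal.span {t}).map (algebraMap R ↥(Algebra.adjoin A (Set.range f)))) ((Ideal.span {t}).map (algebraMap R A)) (algebraMap A ↥(Algebra.adjoin A (Set.range f))) hle) h' hX
      (FBlow.schIdealMap (FSch.spf A ((Ideal.span {t}).map (algebraMap R A))) hX (FSch.spfToSpec A ((Ideal.span {t}).map (algebraMap R A))) (FSch.spfToSpec_comm A ((Ideal.span {t}).map (algebraMap R A)))
        (FBlow.IdealSh.ofData (FSch.idealSpec A (Ideal.span (insert (algebraMap R A c) (Set.range g)))))) := by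
  classical
  let I : Ideal R := Ideal.span {t}
  let KA : Ideal A := I.map (algebraMap R A)
  let B := A ⊗[R] FractionRing R
  let cA : A := algebraMap R A c
  obtain ⟨k, hk⟩ := exists_dvd_pow_base t hc
  have htors : ∀ r : R, r ≠ 0 → ∀ a : A, algebraMap R A r * a = 0 → a = 0 := by
    intro r hr a ha
    obtain ⟨k', e, hk'⟩ := exists_dvd_pow_base t hr
    refine hA.2 a k' fun z hz => ?_
    rw [Ideal.span_singleton_pow, Ideal.mem_span_singleton] at hz
    obtain ⟨d, rfl⟩ := hz
    rw [hk', Algebra.smul_def, map_mul, map_mul]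
    linear_combination (algebraMap R A e * algebraMap R A d) * ha
  have hinj : Function.Injective (algebraMap A B) := by
    rw [injective_iff_map_eq_zero]
    intro a ha
    obtain ⟨⟨_, r, hr, rfl⟩, h⟩ := (IsLocalization.map_eq_zero_iff
      (Algebra.algebraMapSubmonoid A (nonZeroDivisors R)) B a).1 ha
    exact htors r (nonZeroDivisors.ne_zero hr) a h
  have hu : IsUnit (algebraMap A B cA) := IsLocalization.map_units B
    (⟨cA, Algebra.mem_algebraMapSubmonoid_of_mem ⟨c, mem_nonZeroDivisors_of_ne_zero hc⟩⟩ :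
      Algebra.algebraMapSubmonoid A (nonZeroDivisors R))
  have hg' : ∀ i, algebraMap A B (g i) = algebraMap A B cA * f i := fun i => by
    rw [hg]
    generalize f i = z
    induction z using TensorProduct.induction_on with
    | zero => rw [smul_zero, mul_zero]
    | add x y hx hy => rw [smul_add, hx, hy, mul_add]
    | tmul a κ =>
      show (c • a) ⊗ₜ[R] κ = (cA ⊗ₜ[R] (1 : FractionRing R)) * (a ⊗ₜ[R] κ)
      rw [Algebra.TensorProduct.tmul_mul_tmul, one_mul, Algebra.smul_def]
  have hcI : ∀ {C : Type u} [CommRing C] [Algebra R C], ∀ z ∈ (I.map (algebraMap R C)) ^ (k + 1),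
      algebraMap R C c ∣ z := by
    intro C _ _ z hz
    rw [← Ideal.mem_span_singleton]
    refine (?_ : (I.map (algebraMap R C)) ^ (k + 1) ≤ _) hz
    rw [← Ideal.map_pow, Ideal.span_singleton_pow, Ideal.map_span, Set.image_singleton, Ideal.span_singleton_le_span_singleton,
      pow_succ, map_mul]
    exact (map_dvd (algebraMap R C) hk).mul_right _
  exact main cA g hX h' hle (fun x hx => Subtype.ext (hu.mul_right_eq_zero.1 (congrArg Subtype.val hx))) k
    (fun z hz => IsScalarTower.algebraMap_apply R A ↥(Algebra.adjoin A (Set.range f)) c ▸ hcI z hz)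
    (fun i => ⟨⟨f i, Algebra.subset_adjoin ⟨i, rfl⟩⟩, Subtype.ext (hg' i)⟩)
    (fun i => exists_rel hinj (hf i) (hg' i))
    (fun φ hnz hdvd => exists_adjoin_hom f cA g hinj hu hg' φ hnz hdvd)
    (fun φ hnz => adjoin_hom_ext f cA g hg' φ hnz)

end Groth.Agent.S13662
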