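import Groth.Statements.S13663
import Mathlib

set_option autoImplicit false
universe u
open GrRing

namespace Groth.Agent.S13663

/-- Let A be a commutative ring graded by the integers whose ideal generated by the homogeneous elements
of positive degree has homogeneous generators f_1, …, f_p, of positive degrees d_1, …, d_p, and let
d be a positive integer divisible by each d_i. Then A_N = A_d · A_{N-d} for every integer N > dp -
(d_1 + ⋯ + d_p). -/
theorem result {R A : Type u} [CommRing R] [CommRing A] [Algebra R A]
    (𝒜 : ℤ → Submodule R A) [GradedAlgebra 𝒜]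
    {p : ℕ} (f : Fin p → A) (deg : Fin p → ℤ) (hdeg : ∀ i, 0 < deg i) (hf : ∀ i, f i ∈ 𝒜 (deg i))
    (hgen : Ideal.span {a : A | ∃ n : ℤ, 0 < n ∧ a ∈ 𝒜 n} = Ideal.span (Set.range f))
    (d : ℤ) (hd : 0 < d) (hdvd : ∀ i, deg i ∣ d) (N : ℤ) (hN : d * p - ∑ i, deg i < N) :
    𝒜 N = 𝒜 d * 𝒜 (N - d) := by
  classical
  have hq : ∀ i, deg i ≤ d := fun i => Int.le_of_dvd hd (hdvd i)
  refine le_antisymm ?_ (Submodule.mul_le.2 fun a ha b hb => by
    simpa using SetLike.mul_mem_graded ha hb)
  let q : Fin p → ℕ := fun i => (d / deg i).toNat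
  have hqd : ∀ i, (q i : ℤ) * deg i = d := fun i => by
    simp only [q]
    rw [Int.toNat_of_nonneg (Int.ediv_nonneg hd.le (hdeg i).le), Int.ediv_mul_cancel (hdvd i)]
  have hq1 : ∀ i, 1 ≤ q i := fun i => Nat.one_le_iff_ne_zero.2 fun h => by
    have := hqd i; rw [h] at this; omega
  let w : (Fin p → ℕ) → ℤ := fun α => ∑ i, (α i : ℤ) * deg i
  have hm : ∀ α : Fin p → ℕ, ∏ i, f i ^ α i ∈ 𝒜 (w α) := fun α => by
    refine SetLike.prod_mem_graded 𝒜 (fun i => (α i : ℤ) * deg i) (fun i => f i ^ α i) fun i _ => ?_
    have := SetLike.pow_mem_graded (α i) (hf i)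
    rwa [nsmul_eq_mul] at this
  have key : ∀ (k : ℕ) (α : Fin p → ℕ), (∀ i, α i < q i) → (∑ i, (q i - α i)) ≤ k →
      ∀ a ∈ 𝒜 (N - w α), (∏ i, f i ^ α i) * a ∈ 𝒜 d * 𝒜 (N - d) := by
    intro k
    induction k with
    | zero =>
      intro α hα hk a ha
      rcases isEmpty_or_nonempty (Fin p) with hp | ⟨⟨i⟩⟩
      · have hw : w α = 0 := by simp [w]
        have hN0 : (0 : ℤ) < N := by
          obtain rfl : p = 0 := by
            by_contra h
            exact hp.false ⟨0, by omega⟩
          simpa using hN
        have hI : a ∈ Ideal.span (Set.range f) := by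
          rw [← hgen]; exact Ideal.subset_span ⟨N - w α, by omega, ha⟩
        rw [Set.range_eq_empty, Ideal.span_empty, Ideal.mem_bot] at hI
        simp [hI]
      · have h1 := hα i
        have h2 : q i - α i ≤ ∑ j, (q j - α j) := Finset.single_le_sum (fun j _ => Nat.zero_le (q j - α j)) (Finset.mem_univ i)
        omega
    | succ k ih =>
      intro α hα hk a ha
      have hpos : 0 < N - w α := by
        have hle : w α ≤ ∑ i, (d - deg i) := Finset.sum_le_sum fun i _ => by
          have : (α i : ℤ) + 1 ≤ q i := by exact_mod_cast hα i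
          nlinarith [hqd i, hdeg i]
        rw [Finset.sum_sub_distrib, Finset.sum_const, Finset.card_univ, Fintype.card_fin, nsmul_eq_mul] at hle
        linarith [mul_comm d (p : ℤ)]
      obtain ⟨c, hc⟩ := Ideal.mem_span_range_iff_exists_fun.1
        (hgen ▸ Ideal.subset_span ⟨_, hpos, ha⟩ : a ∈ Ideal.span (Set.range f))
      have hcd : a = ∑ i, (DirectSum.decompose 𝒜 (c i) (N - w α - deg i) : A) * f i := by
        conv_lhs => rw [← DirectSum.decompose_of_mem_same 𝒜 ha, ← hc, DirectSum.decompose_sum, DFinsupp.finsetSum_apply,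
          AddSubmonoidClass.coe_finsetSum]
        refine Finset.sum_congr rfl fun i _ => ?_
        have := DirectSum.coe_decompose_mul_add_of_right_mem (a := c i) 𝒜 (i := N - w α - deg i) (hf i)
        rwa [sub_add_cancel] at this
      rw [hcd, Finset.mul_sum]
      refine Submodule.sum_mem _ fun i _ => ?_
      set b := (DirectSum.decompose 𝒜 (c i) (N - w α - deg i) : A)
      have hb : b ∈ 𝒜 (N - w α - deg i) := SetLike.coe_mem _
      let β : Fin p → ℕ := Function.update α i (α i + 1)
      have hβi : β i = α i + 1 := Function.update_self ..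
      have hβj : ∀ j, j ≠ i → β j = α j := fun j hj => Function.update_of_ne hj ..
      have hprod : (∏ j, f j ^ β j) = (∏ j, f j ^ α j) * f i := by
        rw [← Finset.prod_erase_mul _ _ (Finset.mem_univ i), ← Finset.prod_erase_mul _ _ (Finset.mem_univ i), hβi,
          pow_succ, mul_assoc]
        exact congrArg (· * _) (Finset.prod_congr rfl fun j hj => by rw [hβj j (Finset.ne_of_mem_erase hj)])
      have hw : w β = w α + deg i := by
        simp only [w]
        rw [← Finset.sum_erase_add _ _ (Finset.mem_univ i), ← Finset.sum_erase_add _ _ (Finset.mem_univ i), hβi,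
          Finset.sum_congr rfl fun j hj => by rw [hβj j (Finset.ne_of_mem_erase hj)]]
        push_cast; ring
      have hb' : b ∈ 𝒜 (N - w β) := by rw [hw, ← sub_sub]; exact hb
      rw [show (∏ j, f j ^ α j) * (b * f i) = (∏ j, f j ^ β j) * b by rw [hprod]; ring]
      by_cases hfull : α i + 1 = q i
      · let γ : Fin p → ℕ := Function.update β i 0
        have hγ : (∏ j, f j ^ β j) = f i ^ q i * ∏ j, f j ^ γ j := by
          rw [← Finset.mul_prod_erase _ _ (Finset.mem_univ i), ← Finset.mul_prod_erase _ _ (Finset.mem_univ i),
            hβi, hfull, show γ i = 0 from Function.update_self .., pow_zero, one_mul]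
          exact congrArg (_ * ·) (Finset.prod_congr rfl fun j hj => by
            rw [show γ j = β j from Function.update_of_ne (Finset.ne_of_mem_erase hj) ..])
        have hwγ : w γ + d = w β := by
          simp only [w]
          rw [← Finset.sum_erase_add _ _ (Finset.mem_univ i), ← Finset.sum_erase_add _ _ (Finset.mem_univ i), hβi,
            hfull, hqd, show γ i = 0 from Function.update_self ..]
          simp only [Nat.cast_zero, zero_mul, add_zero]
          exact congrArg (· + d) (Finset.sum_congr rfl fun j hj => by
            rw [show γ j = β j from Function.update_of_ne (Finset.ne_of_mem_erase hj) ..])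
        rw [hγ, mul_assoc]
        refine Submodule.mul_mem_mul ?_ ?_
        · have := SetLike.pow_mem_graded (q i) (hf i)
          rwa [nsmul_eq_mul, hqd] at this
        · have := SetLike.mul_mem_graded (hm γ) hb'
          rwa [show w γ + (N - w β) = N - d by linarith] at this
      · refine ih β (fun j => ?_) ?_ b hb'
        · by_cases hj : j = i
          · subst hj; have := hα j; omega
          · rw [hβj j hj]; exact hα j
        · have hlt : ∑ j, (q j - β j) < ∑ j, (q j - α j) := by
            refine Finset.sum_lt_sum (fun j _ => ?_) ⟨i, Finset.mem_univ i, ?_⟩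
            · by_cases hj : j = i
              · subst hj; omega
              · rw [hβj j hj]
            · have := hα i; omega
          omega
  intro a ha
  simpa [w] using key _ (fun _ => 0) (fun i => hq1 i) le_rfl a (by simpa [w] using ha)

end Groth.Agent.S13663
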