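import Groth.Statements.S13664
-- import your own Groth.Agent.* helpers here
import Groth.Agent.GrLCLib.HighVan

set_option autoImplicit false
universe u
open GrRing

namespace Groth.Agent.S13664

/-- Let A be a commutative ring graded by the integers whose ideal I generated by the homogeneous
elements of positive degree has homogeneous generators f_1, …, f_p, of positive degrees d_1, …, d_p,
let d be a positive integer divisible by each d_i, and let x be an element of an A-module M. The
following are equivalent: x is annihilated by some power of I; x is annihilated by (A_d)^n for all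
sufficiently large n; there is an integer s such that A_n x = 0 for all n ≥ s. (The published
statement is for a homogeneous element of a graded module; this row drops both the grading of M and
the homogeneity of x, which play no role.) -/
theorem result {R A : Type u} [CommRing R] [CommRing A] [Algebra R A]
    (𝒜 : ℤ → Submodule R A) [GradedAlgebra 𝒜]
    {p : ℕ} (f : Fin p → A) (deg : Fin p → ℤ) (hdeg : ∀ i, 0 < deg i) (hf : ∀ i, f i ∈ 𝒜 (deg i))
    (hgen : Ideal.span {a : A | ∃ n : ℤ, 0 < n ∧ a ∈ 𝒜 n} = Ideal.span (Set.range f))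
    (d : ℤ) (hd : 0 < d) (hdvd : ∀ i, deg i ∣ d)
    {M : Type u} [AddCommGroup M] [Module A M] (x : M) :
    [x ∈ GrLC.gam (Ideal.span (Set.range f)) M,
     ∃ n₀ : ℕ, ∀ n : ℕ, n₀ ≤ n → ∀ r ∈ (𝒜 d) ^ n, r • x = 0,
     ∃ s : ℤ, ∀ n : ℤ, s ≤ n → ∀ r ∈ 𝒜 n, r • x = 0].TFAE := by
  tfae_have 1 → 3 := by
    rintro ⟨N, hN⟩
    obtain ⟨δ, hδ⟩ := (Set.finite_range deg).bddAbove
    refine ⟨max δ 1 * N, fun n hn r hr => hN r (GrLCLib.mem_pow_of_deg hf _ rfl (fun e he y hy => ?_)
      (fun j => hδ ⟨j, rfl⟩) N hn r hr)⟩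
    rw [← hgen]
    exact Ideal.subset_span ⟨e, he, hy⟩
  tfae_have 3 → 2 := by
    rintro ⟨s, hs⟩
    have hle : ∀ n : ℕ, (𝒜 d) ^ n ≤ 𝒜 (n • d) := by
      intro n
      induction n with
      | zero =>
        rw [pow_zero, zero_smul]
        exact Submodule.one_le.2 (SetLike.one_mem_graded 𝒜)
      | succ n ih =>
        rw [pow_succ, succ_nsmul]
        exact Submodule.mul_le.2 fun u hu v hv => SetLike.mul_mem_graded (ih hu) hv
    refine ⟨s.toNat, fun n hn r hr => hs _ ?_ r (hle n hr)⟩
    rw [nsmul_eq_mul]
    have h1 : (n : ℤ) * 1 ≤ (n : ℤ) * d := mul_le_mul_of_nonneg_left (by omega) (by omega)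
    push_cast
    omega
  tfae_have 2 → 1 := by
    rintro ⟨n₀, hn₀⟩
    choose q hq using hdvd
    let J : Ideal A := Ideal.span (Set.range fun i => f i ^ ((q i).toNat * n₀))
    have hle : Ideal.span (Set.range f) ≤ J.radical := by
      refine Ideal.span_le.2 ?_
      rintro _ ⟨i, rfl⟩
      exact ⟨(q i).toNat * n₀, Ideal.subset_span ⟨i, rfl⟩⟩
    have hkill : ∀ r ∈ J, r • x = 0 := by
      intro r hr
      induction hr using Submodule.span_induction with
      | mem y hy =>
        obtain ⟨i, rfl⟩ := hy
        refine hn₀ n₀ le_rfl _ ?_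
        show f i ^ ((q i).toNat * n₀) ∈ 𝒜 d ^ n₀
        rw [pow_mul]
        refine Submodule.pow_mem_pow _ ?_ n₀
        have h1 := SetLike.pow_mem_graded (A := 𝒜) (q i).toNat (hf i)
        have hqi : 0 ≤ q i := by
          by_contra h
          have h2 : deg i * q i < 0 := mul_neg_of_pos_of_neg (hdeg i) (not_le.1 h)
          rw [← hq i] at h2
          omega
        rwa [nsmul_eq_mul, Int.toNat_of_nonneg hqi, mul_comm, ← hq i] at h1
      | zero => exact zero_smul A x
      | add u v _ _ hu hv => rw [add_smul, hu, hv, add_zero]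
      | smul c u _ hu => rw [smul_eq_mul, mul_smul, hu, smul_zero]
    obtain ⟨m, hm⟩ := Ideal.exists_pow_le_of_le_radical_of_fg hle (Submodule.fg_span (Set.finite_range f))
    exact ⟨m, fun r hr => hkill r (hm hr)⟩
  tfae_finish

end Groth.Agent.S13664
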