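import Groth.Statements.S13665
import Mathlib

set_option autoImplicit false
universe u
open GrRing

namespace Groth.Agent.S13665

section
variable {R A : Type u} [CommRing R] [CommRing A] [Algebra R A] (𝒜 : ℤ → Submodule R A) [GradedAlgebra 𝒜]

theorem fg_hom (hfg : ∀ I : Ideal A, I.IsHomogeneous 𝒜 → I.FG) (S : Set A)
    (hS : ∀ s ∈ S, ∃ i, s ∈ 𝒜 i) :
    ∃ T : Finset A, (T : Set A) ⊆ S ∧ Ideal.span S = Ideal.span (T : Set A) :=
  Submodule.fg_span_iff_fg_span_finset_subset S |>.1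
    (hfg _ (Ideal.homogeneous_span 𝒜 S fun s hs => hS s hs))

/-- degree `d` part of a combination of homogeneous elements -/
theorem exists_coeff {T : Finset A} (e : A → ℤ) (he : ∀ g ∈ T, g ∈ 𝒜 (e g)) {d : ℤ} {x : A}
    (hx : x ∈ 𝒜 d) (hxT : x ∈ Ideal.span (T : Set A)) :
    ∃ c : A → A, (∀ g ∈ T, c g ∈ 𝒜 (d - e g)) ∧ x = ∑ g ∈ T, c g * g := by
  obtain ⟨c, hc⟩ := Submodule.mem_span_finset'.1 hxT
  classical
  let c' : A → A := fun g => if h : g ∈ T then c ⟨g, h⟩ else 0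
  refine ⟨fun g => DirectSum.decompose 𝒜 (c' g) (d - e g), fun g _ => SetLike.coe_mem _, ?_⟩
  have hsum : x = ∑ g ∈ T, c' g * g := by
    rw [← hc, ← Finset.sum_coe_sort T]
    exact Finset.sum_congr rfl fun g _ => by simp [c', g.2]
  conv_lhs => rw [← DirectSum.decompose_of_mem_same 𝒜 hx, hsum]
  rw [DirectSum.decompose_sum, DFinsupp.finsetSum_apply, AddSubmonoidClass.coe_finsetSum]
  refine Finset.sum_congr rfl fun g hg => ?_
  conv_lhs => rw [show d = d - e g + e g by ring]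
  rw [DirectSum.coe_decompose_mul_add_of_right_mem 𝒜 (he g hg)]

theorem algebraMap_zero_coe (x : 𝒜 0) : algebraMap (𝒜 0) A x = (x : A) := rfl

theorem zero_noetherian (hfg : ∀ I : Ideal A, I.IsHomogeneous 𝒜 → I.FG) : IsNoetherianRing (𝒜 0) := by
  classical
  rw [isNoetherianRing_iff_ideal_fg]
  intro J
  obtain ⟨T, hT, hspan⟩ := fg_hom 𝒜 hfg ((fun a : 𝒜 0 => (a : A)) '' J)
    (by rintro _ ⟨a, _, rfl⟩; exact ⟨0, a.2⟩)
  have hTz : ∀ g ∈ T, g ∈ 𝒜 0 := fun g hg => by obtain ⟨a, _, rfl⟩ := hT hg; exact a.2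
  refine ⟨T.attach.image fun g => (⟨g.1, hTz g.1 g.2⟩ : 𝒜 0), le_antisymm (Submodule.span_le.2 ?_) ?_⟩
  · intro a ha
    simp only [Finset.coe_image, Set.mem_image, Finset.mem_coe] at ha
    obtain ⟨g, _, rfl⟩ := ha
    obtain ⟨b, hb, hbg⟩ := hT g.2
    exact (show b = (⟨g.1, hTz g.1 g.2⟩ : 𝒜 0) from Subtype.ext hbg) ▸ hb
  · intro a ha
    obtain ⟨c, hc, hsum⟩ := exists_coeff 𝒜 (fun _ => 0) hTz a.2 (T := T)
      (hspan ▸ Ideal.subset_span ⟨a, ha, rfl⟩)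
    have : a = ∑ g ∈ T.attach, (⟨c g.1, by simpa using hc g.1 g.2⟩ : 𝒜 0) * ⟨g.1, hTz g.1 g.2⟩ := by
      apply Subtype.ext
      rw [hsum, AddSubmonoidClass.coe_finsetSum, ← Finset.sum_attach]
      exact Finset.sum_congr rfl fun g _ => rfl
    rw [this]
    exact Submodule.sum_mem _ fun g _ => Ideal.mul_mem_left _ _ (Submodule.subset_span
      (Finset.mem_coe.2 (Finset.mem_image.2 ⟨g, Finset.mem_attach _ _, rfl⟩)))

theorem half_fg (hfg : ∀ I : Ideal A, I.IsHomogeneous 𝒜 → I.FG) (ε : ℤ) (hε : ε = 1 ∨ ε = -1) :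
    (Algebra.adjoin (𝒜 0) {a : A | ∃ n : ℤ, 0 ≤ ε * n ∧ a ∈ 𝒜 n}).FG := by
  classical
  obtain ⟨F, hF, hFspan⟩ := fg_hom 𝒜 hfg {a : A | ∃ n : ℤ, 0 < ε * n ∧ a ∈ 𝒜 n}
    (by rintro a ⟨n, -, h⟩; exact ⟨n, h⟩)
  choose! e he he' using fun g (hg : g ∈ F) => hF hg
  choose G hG hGspan using fun n : ℤ => fg_hom 𝒜 hfg (𝒜 n : Set A) (fun a ha => ⟨n, ha⟩)
  let D : ℕ := F.sup fun g => (ε * e g).toNat
  let U : Finset A := F ∪ (Finset.range (D + 1)).biUnion fun m => G (ε * m)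
  have hεε : ε * ε = 1 := by rcases hε with rfl | rfl <;> norm_num
  have hUmem : ∀ g ∈ U, g ∈ {a : A | ∃ n : ℤ, 0 ≤ ε * n ∧ a ∈ 𝒜 n} := by
    intro g hg
    rcases Finset.mem_union.1 hg with hg | hg
    · exact ⟨e g, (he g hg).le, he' g hg⟩
    · obtain ⟨m, _, hgm⟩ := Finset.mem_biUnion.1 hg
      exact ⟨ε * m, by rw [← mul_assoc, hεε, one_mul]; positivity, hG _ hgm⟩
  let S := Algebra.adjoin (𝒜 0) (U : Set A)
  have hzero : ∀ a ∈ 𝒜 0, a ∈ S := fun a ha => by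
    rw [show a = algebraMap (𝒜 0) A ⟨a, ha⟩ from rfl]; exact S.algebraMap_mem _
  have key : ∀ m : ℕ, ∀ a ∈ 𝒜 (ε * m), a ∈ S := by
    intro m
    induction m using Nat.strong_induction_on with
    | _ m ih =>
      intro a ha
      by_cases hm : m ≤ D
      · obtain ⟨c, hc, hsum⟩ := exists_coeff 𝒜 (fun _ => ε * m) (fun g hg => hG _ hg) ha
          (hGspan _ ▸ Ideal.subset_span ha)
        rw [hsum]
        exact sum_mem fun g hg => S.mul_mem (hzero _ (by simpa using hc g hg))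
          (Algebra.subset_adjoin (Finset.mem_union_right _ (Finset.mem_biUnion.2
            ⟨m, Finset.mem_range.2 (Nat.lt_succ_of_le hm), hg⟩)))
      · have hpos : (0 : ℤ) < ε * (ε * m) := by rw [← mul_assoc, hεε, one_mul]; exact_mod_cast (show 0 < m by omega)
        obtain ⟨c, hc, hsum⟩ := exists_coeff 𝒜 e he' ha
          (hFspan ▸ Ideal.subset_span ⟨ε * m, hpos, ha⟩)
        rw [hsum]
        refine sum_mem fun g hg => S.mul_mem ?_ (Algebra.subset_adjoin (Finset.mem_union_left _ hg))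
        have hle : (ε * e g).toNat ≤ D := Finset.le_sup (f := fun g => (ε * e g).toNat) hg
        have hgpos := he g hg
        obtain ⟨j, hj⟩ : ∃ j : ℕ, (j : ℤ) = (m : ℤ) - ε * e g :=
          ⟨((m : ℤ) - ε * e g).toNat, Int.toNat_of_nonneg (by omega)⟩
        refine ih j (by omega) _ ?_
        have : ε * (j : ℤ) = ε * m - e g := by rw [hj, mul_sub, ← mul_assoc, hεε, one_mul]
        rw [this]
        exact hc g hg
  refine ⟨U, le_antisymm (Algebra.adjoin_mono hUmem) (Algebra.adjoin_le ?_)⟩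
  rintro a ⟨n, hn, ha⟩
  refine key (ε * n).toNat a ?_
  rwa [Int.toNat_of_nonneg hn, ← mul_assoc, hεε, one_mul]

theorem adjoin_halves_top :
    Algebra.adjoin (𝒜 0) ({a : A | ∃ n : ℤ, 0 ≤ n ∧ a ∈ 𝒜 n} ∪ {a : A | ∃ n : ℤ, n ≤ 0 ∧ a ∈ 𝒜 n}) = ⊤ := by
  refine eq_top_iff.2 fun a ha => ?_
  clear ha
  induction a using DirectSum.Decomposition.inductionOn 𝒜 with
  | zero => exact Subalgebra.zero_mem _
  | homogeneous x =>
    rename_i i
    rcases le_total 0 i with h | h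
    · exact Algebra.subset_adjoin (Or.inl ⟨i, h, x.2⟩)
    · exact Algebra.subset_adjoin (Or.inr ⟨i, h, x.2⟩)
  | add x y hx hy => exact Subalgebra.add_mem _ hx hy

end


/-- For a commutative ring A graded by the integers, with degree-zero subring A_0, the following are
equivalent: A is Noetherian; each homogeneous ideal of A has a finite generating set; A_0 is
Noetherian and the subalgebras A_{≥0}, A_{≤0} are each of finite type over A_0; A_0 is Noetherian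
and A is an A_0-algebra of finite type. -/
theorem result {R A : Type u} [CommRing R] [CommRing A] [Algebra R A]
    (𝒜 : ℤ → Submodule R A) [GradedAlgebra 𝒜] :
    [IsNoetherianRing A,
     ∀ I : Ideal A, I.IsHomogeneous 𝒜 → I.FG,
     IsNoetherianRing (𝒜 0) ∧ (Algebra.adjoin (𝒜 0) {a : A | ∃ n : ℤ, 0 ≤ n ∧ a ∈ 𝒜 n}).FG ∧
       (Algebra.adjoin (𝒜 0) {a : A | ∃ n : ℤ, n ≤ 0 ∧ a ∈ 𝒜 n}).FG,
     IsNoetherianRing (𝒜 0) ∧ Algebra.FiniteType (𝒜 0) A].TFAE := by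
  classical
  tfae_have 1 → 2 := fun h I _ => IsNoetherian.noetherian I
  tfae_have 2 → 3 := fun h => ⟨zero_noetherian 𝒜 h, by simpa using half_fg 𝒜 h 1 (Or.inl rfl),
    by simpa using half_fg 𝒜 h (-1) (Or.inr rfl)⟩
  tfae_have 3 → 4 := by
    rintro ⟨h0, hp, hn⟩
    refine ⟨h0, ⟨?_⟩⟩
    rw [← adjoin_halves_top 𝒜, Algebra.adjoin_union]
    exact hp.sup hn
  tfae_have 4 → 1 := by
    rintro ⟨h0, hf⟩
    exact Algebra.FiniteType.isNoetherianRing (𝒜 0) A
  tfae_finish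

end Groth.Agent.S13665
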