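import Groth.Statements.S13682
import Mathlib

set_option autoImplicit false
universe u v w
open scoped BigOperators
open BTGrp

namespace Groth.Agent.S13682

/-- Telescoping a multilinear map between two points. -/
lemma tele {A : Type u} [CommRing A] {r : ℕ} {M : Fin r → Type v} {N : Type w} [∀ i, AddCommGroup (M i)]
    [∀ i, Module A (M i)] [AddCommGroup N] [Module A N] (φ : MultilinearMap A M N) (x x' : ∀ i, M i) :
    φ x' - φ x = ∑ i : Fin r, φ (fun k => if k < i then x' k else if k = i then x' k - x k else x k) := by
  let g : ℕ → N := fun m => φ (fun k : Fin r => if k.val < m then x' k else x k)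
  have h0 : g 0 = φ x := congrArg φ (funext fun k => by simp)
  have h1 : g r = φ x' := congrArg φ (funext fun k => by simp [k.2])
  rw [← h0, ← h1, ← Finset.sum_range_sub, ← Fin.sum_univ_eq_sum_range (fun m => g (m + 1) - g m)]
  refine Finset.sum_congr rfl fun i _ => ?_
  let b : ∀ k, M k := fun k => if k < i then x' k else x k
  have e : ∀ a, Function.update b i a = fun k => if k < i then x' k else if h : k = i then h ▸ a else x k := by
    intro a; funext k
    rcases lt_trichotomy k i with h | h | h
    · simp [Function.update_of_ne h.ne, b, h]
    · subst h; simp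
    · simp [Function.update_of_ne h.ne', b, h.ne', h.not_gt]
  have ea : g (i.val + 1) = φ (Function.update b i (x' i)) := by
    rw [e]; refine congrArg φ (funext fun k => ?_)
    rcases lt_trichotomy k i with h | h | h
    · simp [h, Nat.lt_succ_of_lt (Fin.lt_def.1 h)]
    · subst h; simp
    · simp [h.ne', h.not_gt, show ¬ k.val < i.val + 1 by omega]
  have eb : g i.val = φ (Function.update b i (x i)) := by
    rw [e]; refine congrArg φ (funext fun k => ?_)
    rcases lt_trichotomy k i with h | h | h
    · simp [h, Fin.lt_def.1 h]
    · subst h; simp
    · simp [h.ne', h.not_gt, show ¬ k.val < i.val by omega]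
  rw [ea, eb, ← φ.map_update_sub, e]
  refine congrArg φ (funext fun k => ?_)
  by_cases h : k = i
  · subst h; simp
  · simp [h]

theorem main {A : Type u} [CommRing A] (α : A) {r : ℕ} {M : Fin r → Type v} {N : Type w}
    [∀ i, AddCommGroup (M i)] [∀ i, Module A (M i)] [AddCommGroup N] [Module A N] (φ : MultilinearMap A M N) :
    ∀ (n : ℕ) (y w : ∀ i, ℕ → M i), (∀ i, ∀ j < n, w i (j + 1) = w i j + α • y i j) →
    (∑ i : Fin r, ∑ j ∈ Finset.range n,
        φ (fun k => if k < i then w k (j + 1) else if k = i then y k j else w k j)) =
      ∑ i : Fin r, ∑ j ∈ Finset.range n,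
        φ (fun k => if k < i then w k n else if k = i then y k j else w k 0) := by
  intro n
  induction n with
  | zero => simp
  | succ n ih =>
    intro y w hw
    have hd : ∀ i, w i (n + 1) - w i n = α • y i n := fun i => by rw [hw i n n.lt_succ_self]; abel
    have hs : ∀ i, w i n - w i 0 = α • ∑ j ∈ Finset.range n, y i j := fun i => by
      rw [← Finset.sum_range_sub (fun j => w i j), Finset.smul_sum]
      refine Finset.sum_congr rfl fun j hj => ?_
      rw [hw i j (Nat.lt_succ_of_lt (Finset.mem_range.1 hj))]; abel
    let B : Fin r → Fin r → ℕ → N := fun l i j => φ (fun k =>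
      if k < l then w k (n + 1) else if k = l then y k n else if k < i then w k n
      else if k = i then y k j else w k 0)
    let C : Fin r → N := fun l => φ (fun k => if k < l then w k (n + 1) else if k = l then y k n else w k n)
    let D : Fin r → N := fun l => φ (fun k => if k < l then w k (n + 1) else if k = l then y k n else w k 0)
    have hA : ∀ i j, φ (fun k => if k < i then w k (n + 1) else if k = i then y k j else w k 0) =
        φ (fun k => if k < i then w k n else if k = i then y k j else w k 0) +
          ∑ l : Fin r, if l < i then α • B l i j else 0 := by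
      intro i j
      rw [← sub_eq_iff_eq_add', tele]
      refine Finset.sum_congr rfl fun l _ => ?_
      split_ifs with hl
      · let b : ∀ k, M k := fun k => if k < l then w k (n + 1) else if k = l then y k n else
          if k < i then w k n else if k = i then y k j else w k 0
        have hb : Function.update b l (y l n) = b := by simp [b]
        show _ = α • φ b
        rw [← hb, ← φ.map_update_smul]
        refine congrArg φ (funext fun k => ?_)
        rcases lt_trichotomy k l with h | h | h
        · simp [b, Function.update_of_ne h.ne, h, h.trans hl]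
        · subst h; simp [hl, hd]
        · simp [b, Function.update_of_ne h.ne', h.ne', h.not_gt]
      · refine φ.map_coord_zero l ?_
        simp [hl]
    have hC : ∀ l, C l - D l = ∑ i : Fin r, if l < i then ∑ j ∈ Finset.range n, α • B l i j else 0 := by
      intro l
      rw [tele]
      refine Finset.sum_congr rfl fun i _ => ?_
      split_ifs with hl
      · let b : ∀ k, M k := fun k => if k < l then w k (n + 1) else if k = l then y k n else
          if k < i then w k n else if k = i then 0 else w k 0
        have hB : ∀ j, B l i j = φ (Function.update b i (y i j)) := fun j => by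
          refine congrArg φ (funext fun k => ?_)
          by_cases h : k = i
          · subst h; simp [hl.ne', hl.not_gt]
          · simp [b, Function.update_of_ne h, h]
        simp only [hB, ← φ.map_update_smul, ← φ.map_update_sum]
        refine congrArg φ (funext fun k => ?_)
        by_cases h : k = i
        · subst h; simp [hl.ne', hl.not_gt, hs, Finset.smul_sum]
        · simp only [b, Function.update_of_ne h, h, if_false]
          rcases lt_or_gt_of_ne h with h' | h'
          · simp [h']
          · simp [h'.not_gt, (hl.trans h').ne', (hl.trans h').not_gt]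
      · refine φ.map_coord_zero i ?_
        rcases eq_or_lt_of_le (not_lt.1 hl) with h | h
        · subst h; simp
        · simp [h]
    have e1 : (∑ i : Fin r, ∑ j ∈ Finset.range n, ∑ l : Fin r, if l < i then α • B l i j else 0) =
        ∑ l : Fin r, (C l - D l) := by
      simp only [hC]
      rw [Finset.sum_comm (γ := Fin r) (s := Finset.univ) (t := Finset.univ)]
      refine Finset.sum_congr rfl fun i _ => ?_
      rw [Finset.sum_comm]
      refine Finset.sum_congr rfl fun l _ => ?_
      split_ifs <;> simp
    simp only [Finset.sum_range_succ, Finset.sum_add_distrib]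
    rw [ih y w fun i j hj => hw i j (Nat.lt_succ_of_lt hj)]
    simp only [hA _ , Finset.sum_add_distrib]
    rw [show (∑ i : Fin r, ∑ x ∈ Finset.range n, ∑ l : Fin r, if l < i then α • B l i x else 0) = _ from e1]
    simp only [Finset.sum_sub_distrib]
    have hD : (∑ l : Fin r, D l) = ∑ x : Fin r,
        φ (fun k => if k < x then w k (n + 1) else if k = x then y k n else w k 0) := rfl
    simp only [hA, Finset.sum_add_distrib] at hD
    rw [hD]
    abel

/-- Let A be a commutative ring, α ∈ A a non-zero-divisor, M_1, …, M_r and N modules over A and φ : M_1
× ⋯ × M_r → N an A-multilinear map. Let n be a natural number and let y_{i,j} (j < n) and w_{i,j} (j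
≤ n) be elements of M_i with w_{i,j+1} = w_{i,j} + α y_{i,j} for all i and all j < n. Then Σ_i
Σ_{j<n} φ(w_{1,j+1}, …, w_{i-1,j+1}, y_{i,j}, w_{i+1,j}, …, w_{r,j}) = Σ_i Σ_{j<n} φ(w_{1,n}, …,
w_{i-1,n}, y_{i,j}, w_{i+1,0}, …, w_{r,0}). (The published statement takes n ≥ 1; for n = 0 both
sides are empty sums. The families y, w are indexed by all natural numbers here and only the indices
named above enter.) -/
theorem result {A : Type u} [CommRing A] (α : A) (hα : α ∈ nonZeroDivisors A)
    {r : ℕ} (M : Fin r → Type v) (N : Type w) [∀ i, AddCommGroup (M i)] [∀ i, Module A (M i)]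
    [AddCommGroup N] [Module A N] (φ : MultilinearMap A M N) (n : ℕ)
    (y w : ∀ i, ℕ → M i) (hw : ∀ i, ∀ j < n, w i (j + 1) = w i j + α • y i j) :
    (∑ i : Fin r, ∑ j ∈ Finset.range n,
        φ (fun k => if k < i then w k (j + 1) else if k = i then y k j else w k j)) =
      ∑ i : Fin r, ∑ j ∈ Finset.range n,
        φ (fun k => if k < i then w k n else if k = i then y k j else w k 0) := by
  exact main α φ n y w hw

end Groth.Agent.S13682
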