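import Groth.Statements.S1369
import Groth.Agent.FlatFunLib.RelAssGenericSch

set_option autoImplicit false
universe u
open FlatMor

namespace Groth.Agent.S1369

open AlgebraicGeometry CategoryTheory Limits in
/-- Let f be of finite type with irreducible target, F a quasi-coherent module of finite type on the
source and U an open of the source. If some associated point of F restricted to the generic fibre is
not in U, then over some nonempty open of the target every fibre carries an associated point of F
(restricted to that fibre) outside U. -/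
theorem result {X Y : Scheme.{u}} (f : X ⟶ Y) [IrreducibleSpace ↑Y] [LocallyOfFiniteType f] [QuasiCompact f]
    (F : X.Modules) (hF : Coh.IsCoh F) (U : X.Opens)
    (h : ∃ x ∈ MoreMor.relAss f F, f x = genericPoint ↑Y ∧ x ∉ U) :
    ∃ V : Y.Opens, (V : Set ↑Y).Nonempty ∧ ∀ y ∈ V, ∃ x ∈ MoreMor.relAss f F, f x = y ∧ x ∉ U := by
  obtain ⟨x₀, hx₀, hf₀, hU₀⟩ := h
  obtain ⟨V, hV, hiff⟩ := FlatFunLib.exists_open_avoid_iff f F hF.1 hF.2 U (genericPoint ↑Y)
  refine ⟨V, ⟨_, hV⟩, fun y hy => ?_⟩
  by_contra hc
  push Not at hc
  exact hU₀ ((hiff y hy (genericPoint_specializes _)).1 hc x₀ hx₀ hf₀)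

end Groth.Agent.S1369
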