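import Groth.Statements.S13691
import Groth.Agent.KrullSch.Invariant

set_option autoImplicit false
universe u
open CategoryTheory CategoryTheory.Limits AlgebraicGeometry
open ASBun
attribute [local instance] CategoryTheory.Abelian.hasFiniteBiproducts

namespace Groth.Agent.S13691

open W4c1astiltbs12 in
/-- Let X be proper over a field k and K a separable closure of k such that X_K is connected, with
projection π : X_K → X, and write σ_X for the automorphism of X_K induced by a k-automorphism σ of
K. Let M be an indecomposable finite locally free O_X-module (nonzero, and in any decomposition as a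
direct sum one summand is zero) which splits over K into invertible modules with Galois-invariant
classes: π^*M ≅ L_1 ⊕ ⋯ ⊕ L_n with each L_i invertible and σ_X^*L_i ≅ L_i for all σ and i. Then M is
isotypical of invertible type: π^*M ≅ L^{⊕r} for some invertible O_{X_K}-module L and some r ≥ 1,
and L is unique up to isomorphism with this property. (The published statement omits the invariance
of the summands L_i, and is then contradicted by the direct image on an elliptic curve of the
invertible module of a point defined over a quadratic extension but not over k; its argument also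
treats invertible modules on X_K as indecomposable, whence the connectedness hypothesis.) -/
theorem result (k : Type u) [Field k]
    {X : Scheme.{u}} (p : X ⟶ Spec (CommRingCat.of k)) [IsProper p] (K : Type u) [Field K]
    [Algebra k K] [IsSepClosure k K] [ConnectedSpace ↥(W4bk4gw11416.baseChange p K)]
    (M : X.Modules) (hM : FlatMod.IsFinLocFree M)
    (hMi : (¬ IsZero M ∧ ∀ A B : X.Modules, Nonempty (M ≅ A ⊞ B) → IsZero A ∨ IsZero B))
    (n : ℕ) (Ls : Fin n → (W4bk4gw11416.baseChange p K).Modules) (hLs : ∀ i, PicF.IsInvertible (Ls i))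
    (hinv : ∀ (σ : K ≃ₐ[k] K) (i : Fin n),
      Nonempty ((Scheme.Modules.pullback (galAct p K σ)).obj (Ls i) ≅ Ls i))
    (e : Nonempty (bcMod p K M ≅ ∐ Ls)) :
    ∃ (L : (W4bk4gw11416.baseChange p K).Modules) (r : ℕ), PicF.IsInvertible L ∧ 0 < r ∧
      Nonempty (bcMod p K M ≅ pow L r) ∧
      ∀ (L' : (W4bk4gw11416.baseChange p K).Modules) (r' : ℕ), PicF.IsInvertible L' →
        Nonempty (bcMod p K M ≅ pow L' r') → Nonempty (L' ≅ L) := by
  classical
  haveI : IsGalois k K := inferInstance
  letI : X.Over (Spec (CommRingCat.of k)) := ⟨p⟩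
  haveI : IsProper (X ↘ Spec (CommRingCat.of k)) := inferInstanceAs (IsProper p)
  letI : (W4bk4gw11416.baseChange p K).Over (Spec (CommRingCat.of K)) := ⟨W4bk4gw11416.baseChangeTo p K⟩
  haveI : IsProper ((W4bk4gw11416.baseChange p K) ↘ Spec (CommRingCat.of K)) :=
    inferInstanceAs (IsProper (Limits.pullback.snd p (Spec.map (CommRingCat.ofHom (algebraMap k K)))))
  haveI : IsLocallyNoetherian (W4bk4gw11416.baseChange p K) :=
    LocallyOfFiniteType.isLocallyNoetherian ((W4bk4gw11416.baseChange p K) ↘ Spec (CommRingCat.of K))
  have hlf : ∀ {L : (W4bk4gw11416.baseChange p K).Modules}, PicF.IsInvertible L → FlatMod.IsFinLocFree L :=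
    fun h => ResDesc.isFinLocFree_of_isInvertible h
  have hLi : ∀ i, KrullSch.Indec (Ls i) := fun i => KrullSch.indec_invertible (hLs i)
  obtain ⟨i, r, hr, ⟨f⟩⟩ := KrullSch.exists_type_of_split p K Ls hLi
    (fun i => KrullSch.exists_indec_descends p K (Ls i) (hlf (hLs i)) (hLi i) fun σ => hinv σ i) M hM hMi e.some
  refine ⟨Ls i, r, hLs i, hr, ⟨f⟩, fun L' r' hL' ⟨f'⟩ => ?_⟩
  haveI := KrullSch.finite_end (k := K) (K0Coh.isCoh_of_isFinLocFree (hlf (hLs i)))
  obtain ⟨q, hq⟩ := KrullSch.exists_equiv K _ (fun _ : Fin r => Ls i) (fun _ : Fin r' => L') rfl (fun _ => hLi i)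
    (fun _ => KrullSch.indec_invertible hL') (fun _ => inferInstance)
    (biproduct.isoCoproduct _ ≪≫ f.symm ≪≫ f' ≪≫ (biproduct.isoCoproduct _).symm)
  exact ⟨(hq ⟨0, hr⟩).some.symm⟩

end Groth.Agent.S13691
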