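import Groth.Statements.S13692
import Mathlib
import Groth.Agent.GalDesc.Basic

set_option autoImplicit false
universe u v w
open scoped TensorProduct
attribute [local instance] CSAGal.tensorAction GpH1.unitsAction
open GalCoh

namespace Groth.Agent.S13692

open scoped Classical in
theorem exists_equiv_of_card_hom {R : Type u} [Ring R] (M N : Type u) [AddCommGroup M] [Module R M] [Finite M]
    [AddCommGroup N] [Module R N] [Finite N]
    (h : ∀ (X : Type u) [AddCommGroup X] [Module R X] [Finite X], Nat.card (X →ₗ[R] M) = Nat.card (X →ₗ[R] N)) :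
    Nonempty (M ≃ₗ[R] N) := by
  have key : ∀ (m : ℕ) (X : Type u) [AddCommGroup X] [Module R X] [Finite X], Nat.card X ≤ m →
      Nat.card {f : X →ₗ[R] M // Function.Injective f} = Nat.card {f : X →ₗ[R] N // Function.Injective f} := by
    intro m
    induction m using Nat.strong_induction_on with
    | _ m ih =>
      intro X _ _ _ hm
      haveI : Finite (Submodule R X) := Finite.of_injective (fun U => (U : Set X)) SetLike.coe_injective
      haveI : ∀ U : Submodule R X, Finite (X ⧸ U) := fun U => Finite.of_surjective _ U.mkQ_surjective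
      letI := Fintype.ofFinite (Submodule R X)
      have count : ∀ (Y : Type u) [AddCommGroup Y] [Module R Y] [Finite Y], Nat.card (X →ₗ[R] Y) =
          ∑ U : Submodule R X, Nat.card {f : (X ⧸ U) →ₗ[R] Y // Function.Injective f} := by
        intro Y _ _ _
        haveI : ∀ U : Submodule R X, Finite ((X ⧸ U) →ₗ[R] Y) := fun U => DFunLike.finite _
        rw [← Nat.card_sigma]
        refine (Nat.card_congr (Equiv.ofBijective (fun p : (U : Submodule R X) ×
          {f : (X ⧸ U) →ₗ[R] Y // Function.Injective f} => p.2.1.comp p.1.mkQ) ⟨?_, ?_⟩)).symm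
        · rintro ⟨U, g, hg⟩ ⟨U', g', hg'⟩ h
          have hk : ∀ (W : Submodule R X) (q : (X ⧸ W) →ₗ[R] Y), Function.Injective q →
              LinearMap.ker (q.comp W.mkQ) = W := fun W q hq => by
            rw [LinearMap.ker_comp, LinearMap.ker_eq_bot.2 hq, Submodule.comap_bot, Submodule.ker_mkQ]
          obtain rfl : U = U' := by rw [← hk U g hg, ← hk U' g' hg']; exact congrArg LinearMap.ker h
          obtain rfl : g = g' := Submodule.linearMap_qext _ h
          rfl
        · intro f
          exact ⟨⟨LinearMap.ker f, (LinearMap.ker f).liftQ f le_rfl,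
            LinearMap.ker_eq_bot.1 (Submodule.ker_liftQ_eq_bot _ _ _ le_rfl)⟩, Submodule.liftQ_mkQ _ _ _⟩
      have h1 := (count M).symm.trans ((h X).trans (count N))
      rw [← Finset.add_sum_erase _ _ (Finset.mem_univ ⊥), ← Finset.add_sum_erase _ _ (Finset.mem_univ ⊥)] at h1
      have h2 : ∀ U ∈ (Finset.univ : Finset (Submodule R X)).erase ⊥,
          Nat.card {f : (X ⧸ U) →ₗ[R] M // Function.Injective f} =
          Nat.card {f : (X ⧸ U) →ₗ[R] N // Function.Injective f} := by
        intro U hU
        have hlt : Nat.card (X ⧸ U) < Nat.card X := by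
          rw [Submodule.card_eq_card_quotient_mul_card U]
          have : 1 < Nat.card U := by
            have := Finite.one_lt_card_iff_nontrivial.2 ((Submodule.nontrivial_iff_ne_bot).2 (Finset.mem_erase.1 hU).1)
            exact this
          exact lt_mul_of_one_lt_left Nat.card_pos this
        exact ih (Nat.card (X ⧸ U)) (by omega) (X ⧸ U) le_rfl
      rw [Finset.sum_congr rfl h2, Nat.add_right_cancel_iff] at h1
      have e : ∀ (Y : Type u) [AddCommGroup Y] [Module R Y],
          {f : (X ⧸ (⊥ : Submodule R X)) →ₗ[R] Y // Function.Injective f} ≃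
          {f : X →ₗ[R] Y // Function.Injective f} := fun Y _ _ =>
        { toFun := fun f => ⟨f.1.comp (Submodule.quotEquivOfEqBot ⊥ rfl).symm.toLinearMap,
            f.2.comp (Submodule.quotEquivOfEqBot ⊥ rfl).symm.injective⟩
          invFun := fun f => ⟨f.1.comp (Submodule.quotEquivOfEqBot ⊥ rfl).toLinearMap,
            f.2.comp (Submodule.quotEquivOfEqBot ⊥ rfl).injective⟩
          left_inv := fun f => Subtype.ext (LinearMap.ext fun x => by
            obtain ⟨x, rfl⟩ := Submodule.mkQ_surjective _ x; simp)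
          right_inv := fun f => Subtype.ext (LinearMap.ext fun x => by simp) }
      rw [← Nat.card_congr (e M), ← Nat.card_congr (e N)]
      exact h1
  haveI : Finite (M →ₗ[R] M) := DFunLike.finite _
  haveI : Finite (M →ₗ[R] N) := DFunLike.finite _
  haveI : Finite (N →ₗ[R] M) := DFunLike.finite _
  haveI : Finite (N →ₗ[R] N) := DFunLike.finite _
  haveI : Nonempty {f : M →ₗ[R] M // Function.Injective f} := ⟨⟨LinearMap.id, Function.injective_id⟩⟩
  haveI : Nonempty {f : N →ₗ[R] N // Function.Injective f} := ⟨⟨LinearMap.id, Function.injective_id⟩⟩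
  obtain ⟨f, hf⟩ : Nonempty {f : M →ₗ[R] N // Function.Injective f} := by
    refine (Nat.card_pos_iff.1 ?_).1
    rw [← key _ M le_rfl]; exact Nat.card_pos
  obtain ⟨g, hg⟩ : Nonempty {f : N →ₗ[R] M // Function.Injective f} := by
    refine (Nat.card_pos_iff.1 ?_).1
    rw [key _ N le_rfl]; exact Nat.card_pos
  letI := Fintype.ofFinite M
  letI := Fintype.ofFinite N
  exact ⟨LinearEquiv.ofBijective f ((Fintype.bijective_iff_injective_and_card _).2
    ⟨hf, le_antisymm (Fintype.card_le_of_injective f hf) (Fintype.card_le_of_injective g hg)⟩)⟩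

/-- cancellation of powers for finite modules -/
theorem exists_equiv_of_pow {R : Type u} [Ring R] (M N : Type u) [AddCommGroup M] [Module R M] [Finite M]
    [AddCommGroup N] [Module R N] [Finite N] {n : ℕ} (hn : n ≠ 0)
    (e : (Fin n → M) ≃ₗ[R] (Fin n → N)) : Nonempty (M ≃ₗ[R] N) := by
  refine exists_equiv_of_card_hom M N fun X _ _ _ => ?_
  haveI : Finite (X →ₗ[R] M) := DFunLike.finite _
  haveI : Finite (X →ₗ[R] N) := DFunLike.finite _
  have hpi : ∀ (Y : Type u) [AddCommGroup Y] [Module R Y],
      Nat.card (X →ₗ[R] Fin n → Y) = Nat.card (X →ₗ[R] Y) ^ n := fun Y _ _ => by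
    rw [Nat.card_congr (⟨fun f i => (LinearMap.proj i).comp f, fun g => LinearMap.pi g,
      fun f => rfl, fun g => rfl⟩ : (X →ₗ[R] Fin n → Y) ≃ (Fin n → (X →ₗ[R] Y))),
      Nat.card_pi, Finset.prod_const, Finset.card_univ, Fintype.card_fin]
  have : Nat.card (X →ₗ[R] Fin n → M) = Nat.card (X →ₗ[R] Fin n → N) :=
    Nat.card_congr ⟨fun f => e.toLinearMap.comp f, fun g => e.symm.toLinearMap.comp g,
      fun f => LinearMap.ext fun x => e.symm_apply_apply _, fun g => LinearMap.ext fun x => e.apply_symm_apply _⟩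
  rw [hpi, hpi] at this
  exact Nat.pow_left_injective hn this

theorem fixed_mem_span {k : Type u} [Field k] {K : Type v} [Field K] [Algebra k K] [FiniteDimensional k K]
    [IsGalois k K] {V : Type*} [AddCommGroup V] [Module k V] [Module K V] [IsScalarTower k K V]
    (T : (K ≃ₐ[k] K) → V → V) (hT0 : ∀ σ, T σ 0 = 0) (hTa : ∀ σ v v', T σ (v + v') = T σ v + T σ v')
    (hTs : ∀ σ (c : K) v, T σ (c • v) = σ c • T σ v) {ι : Type*} [Fintype ι] (b : Module.Basis ι K V)
    (hb : ∀ i σ, T σ (b i) = b i) : ∀ v, (∀ σ, T σ v = v) → v ∈ Submodule.span k (Set.range b) := by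
  classical
  intro v hv
  have hr : ∀ (σ : K ≃ₐ[k] K) (i : ι), σ (b.repr v i) = b.repr v i := by
    intro σ i
    let f : V →+ V := ⟨⟨T σ, hT0 σ⟩, hTa σ⟩
    have h1 : T σ v = ∑ j, σ (b.repr v j) • b j := by
      conv_lhs => rw [← b.sum_repr v]
      show f (∑ j, b.repr v j • b j) = _
      rw [map_sum]
      refine Finset.sum_congr rfl fun j _ => ?_
      show T σ _ = _
      rw [hTs, hb]
    rw [hv σ] at h1
    conv_rhs => rw [h1]
    rw [b.repr_sum_self]
  choose r hr' using fun i => (IsGalois.mem_range_algebraMap_iff_fixed (b.repr v i)).2 fun σ => hr σ i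
  rw [← b.sum_repr v]
  refine Submodule.sum_mem _ fun i _ => ?_
  rw [← hr' i, algebraMap_smul]
  exact Submodule.smul_mem _ _ (Submodule.subset_span ⟨i, rfl⟩)

theorem exists_generator {k : Type u} [Field k] {K : Type v} [Field K] [Algebra k K] [FiniteDimensional k K]
    {A : Type w} [Ring A] [Algebra k A] [FiniteDimensional k A]
    {ι : Type (max v w)} [Fintype ι] (b : Module.Basis ι K (K ⊗[k] A))
    (hb : ∀ (i : ι) (a : A), b i * ((1 : K) ⊗ₜ[k] a) ∈ Submodule.span k (Set.range b)) :
    ∃ w ∈ Submodule.span k (Set.range b), IsUnit w := by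
  classical
  have hunit : ∀ w : K ⊗[k] A, Function.Surjective (LinearMap.mulLeft K w) → IsUnit w := by
    intro w hs
    have hi : Function.Injective (LinearMap.mulLeft K w) := LinearMap.injective_iff_surjective.2 hs
    obtain ⟨x, hx⟩ := hs 1
    refine ⟨⟨w, x, hx, hi ?_⟩, rfl⟩
    show w * (x * w) = w * 1
    rw [← mul_assoc, show w * x = 1 from hx, one_mul, mul_one]
  rcases finite_or_infinite k with hk | hk
  · -- finite field
    haveI : Finite A := Module.finite_of_finite k
    haveI : Finite K := Module.finite_of_finite k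
    set W := Submodule.span k (Set.range b)
    haveI : Finite (K ⊗[k] A) := Module.finite_of_finite k
    haveI : Finite W := Subtype.finite
    have hW : ∀ (w : K ⊗[k] A), w ∈ W → ∀ a : A, w * ((1 : K) ⊗ₜ[k] a) ∈ W := by
      intro w hw a
      induction hw using Submodule.span_induction with
      | mem x hx => obtain ⟨i, rfl⟩ := hx; exact hb i a
      | zero => rw [zero_mul]; exact zero_mem _
      | add x y _ _ hx hy => rw [add_mul]; exact add_mem hx hy
      | smul r x _ hx => rw [smul_mul_assoc]; exact Submodule.smul_mem _ _ hx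
    letI : SMul Aᵐᵒᵖ W := ⟨fun a x => ⟨x.1 * ((1 : K) ⊗ₜ[k] a.unop), hW x.1 x.2 _⟩⟩
    have hsm : ∀ (a : Aᵐᵒᵖ) (x : W), ((a • x : W) : K ⊗[k] A) = x.1 * ((1 : K) ⊗ₜ[k] a.unop) := fun _ _ => rfl
    letI : Module Aᵐᵒᵖ W :=
      { one_smul := fun x => Subtype.ext (by
          rw [hsm, MulOpposite.unop_one, ← Algebra.TensorProduct.one_def, mul_one])
        mul_smul := fun a c x => Subtype.ext (by
          rw [hsm, hsm, hsm, MulOpposite.unop_mul, mul_assoc, Algebra.TensorProduct.tmul_mul_tmul, one_mul])
        smul_zero := fun a => Subtype.ext (by simp [hsm])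
        smul_add := fun a x y => Subtype.ext (by simp [hsm, add_mul])
        add_smul := fun a c x => Subtype.ext (by simp [hsm, TensorProduct.tmul_add, mul_add])
        zero_smul := fun x => Subtype.ext (by simp [hsm]) }
    let c := Module.finBasis k K
    let n := Module.finrank k K
    have hn : n ≠ 0 := Module.finrank_pos.ne'
    let fA : (Fin n → A) → K ⊗[k] A := fun x => ∑ j, c j ⊗ₜ[k] x j
    let fW : (Fin n → W) → K ⊗[k] A := fun x => ∑ j, c j • (x j : K ⊗[k] A)
    have hfA : Function.Bijective fA := by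
      let e := (TensorProduct.equivFinsuppOfBasisLeft c (N := A)).symm.trans (LinearEquiv.refl k _)
      have : fA = fun x => e (Finsupp.equivFunOnFinite.symm x) := by
        funext x
        simp only [fA, e, LinearEquiv.trans_apply, LinearEquiv.refl_apply,
          TensorProduct.equivFinsuppOfBasisLeft_symm_apply]
        rw [Finsupp.sum_fintype _ _ (fun i => TensorProduct.tmul_zero _ _)]
        rfl
      rw [this]; exact e.bijective.comp (Equiv.bijective _)
    have hfW : Function.Bijective fW := by
      have hsurj : Function.Surjective fW := by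
        intro v
        let d : ι → Fin n → k := fun i j => c.repr (b.repr v i) j
        have hd : ∀ j, ∑ i, d i j • b i ∈ W := fun j =>
          Submodule.sum_mem _ fun i _ => W.smul_mem _ (Submodule.subset_span ⟨i, rfl⟩)
        refine ⟨fun j => ⟨_, hd j⟩, ?_⟩
        show ∑ j, c j • ∑ i, d i j • b i = v
        simp only [Finset.smul_sum]
        rw [Finset.sum_comm]
        conv_rhs => rw [← b.sum_repr v]
        refine Finset.sum_congr rfl fun i _ => ?_
        conv_rhs => rw [← c.sum_repr (b.repr v i), Finset.sum_smul]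
        refine Finset.sum_congr rfl fun j _ => ?_
        rw [smul_comm, smul_assoc]
      letI := Fintype.ofFinite (Fin n → W)
      letI := Fintype.ofFinite (K ⊗[k] A)
      refine (Fintype.bijective_iff_surjective_and_card _).2 ⟨hsurj, ?_⟩
      rw [← Nat.card_eq_fintype_card, ← Nat.card_eq_fintype_card, Nat.card_pi,
        Finset.prod_const, Finset.card_univ, Fintype.card_fin]
      have hcW : Nat.card W = Nat.card k ^ Fintype.card ι := by
        have hbk : LinearIndependent k b := b.linearIndependent.restrict_scalars'  k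
        rw [Nat.card_congr (Module.Basis.span hbk).equivFun.toEquiv, Nat.card_pi, Finset.prod_const,
          Finset.card_univ]
      have hcK : Nat.card K = Nat.card k ^ n := by
        rw [Nat.card_congr c.equivFun.toEquiv, Nat.card_pi, Finset.prod_const, Finset.card_univ,
          Fintype.card_fin]
      rw [Nat.card_congr b.equivFun.toEquiv, Nat.card_pi, Finset.prod_const, Finset.card_univ, hcW, hcK,
        ← pow_mul, ← pow_mul, mul_comm]
    have hA' : ∀ (a : Aᵐᵒᵖ) (x : Fin n → A), fA (a • x) = fA x * ((1 : K) ⊗ₜ[k] a.unop) := by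
      intro a x
      simp only [fA, Finset.sum_mul, Algebra.TensorProduct.tmul_mul_tmul, mul_one]
      rfl
    have hW' : ∀ (a : Aᵐᵒᵖ) (x : Fin n → W), fW (a • x) = fW x * ((1 : K) ⊗ₜ[k] a.unop) := by
      intro a x
      simp only [fW, Finset.sum_mul, smul_mul_assoc]
      rfl
    let e1 : (Fin n → A) ≃ (Fin n → W) := (Equiv.ofBijective fA hfA).trans (Equiv.ofBijective fW hfW).symm
    have he1 : ∀ x, fW (e1 x) = fA x := fun x => (Equiv.ofBijective fW hfW).apply_symm_apply _
    let el : (Fin n → A) ≃ₗ[Aᵐᵒᵖ] (Fin n → W) :=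
      { e1 with
        map_add' := fun x y => hfW.1 (by
          show fW (e1 (x + y)) = fW (e1 x + e1 y)
          rw [he1]
          simp only [fW, Pi.add_apply, Submodule.coe_add, smul_add, Finset.sum_add_distrib]
          show _ = fW (e1 x) + fW (e1 y)
          rw [he1, he1]
          simp only [fA, Pi.add_apply, TensorProduct.tmul_add, Finset.sum_add_distrib])
        map_smul' := fun a x => hfW.1 (by
          show fW (e1 (a • x)) = fW (a • e1 x)
          rw [he1, hA', hW', he1]) }
    -- universe-lift to a common universe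
    let R' := ULift.{max u v w} Aᵐᵒᵖ
    let A' := ULift.{max u v w} A
    let W' := ULift.{max u v w} W
    have ⟨e2⟩ := exists_equiv_of_pow (R := R') A' W' hn
      { toFun := fun x j => ULift.up (el (fun i => (x i).down) j)
        invFun := fun x j => ULift.up (el.symm (fun i => (x i).down) j)
        map_add' := fun x y => funext fun j => ULift.down_injective (by
          show el ((fun i => (x i).down) + (fun i => (y i).down)) j = _
          rw [map_add]; rfl)
        map_smul' := fun a x => funext fun j => ULift.down_injective (by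
          show el (a.down • fun i => (x i).down) j = _
          rw [map_smul]; rfl)
        left_inv := fun x => funext fun j => ULift.down_injective (by simp)
        right_inv := fun x => funext fun j => ULift.down_injective (by simp) }
    refine ⟨((e2 (ULift.up 1)).down : K ⊗[k] A), Subtype.prop _, hunit _ ?_⟩
    have himg : ∀ a : A, ((e2 (ULift.up a)).down : K ⊗[k] A) =
        ((e2 (ULift.up 1)).down : K ⊗[k] A) * ((1 : K) ⊗ₜ[k] a) := by
      intro a
      have h1 : (ULift.up a : A') = (ULift.up (MulOpposite.op a) : R') • (ULift.up 1 : A') :=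
        ULift.down_injective (by show a = MulOpposite.op a • (1 : A); rw [op_smul_eq_mul, one_mul])
      rw [h1, map_smul]
      rfl
    intro v
    have hv : v ∈ LinearMap.range (LinearMap.mulLeft K ((e2 (ULift.up 1)).down : K ⊗[k] A)) := by
      rw [← b.sum_repr v]
      refine Submodule.sum_mem _ fun i _ => Submodule.smul_mem _ _ ?_
      refine ⟨(1 : K) ⊗ₜ[k] (e2.symm (ULift.up ⟨b i, Submodule.subset_span ⟨i, rfl⟩⟩)).down, ?_⟩
      rw [LinearMap.mulLeft_apply, ← himg, ULift.up_down, LinearEquiv.apply_symm_apply]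
    exact hv
  · -- infinite field
    let M : ι → Matrix ι ι K := fun i => LinearMap.toMatrix b b (LinearMap.mulLeft K (b i))
    let P : MvPolynomial ι K := (∑ i, (MvPolynomial.X i : MvPolynomial ι K) • (M i).map MvPolynomial.C).det
    have heval : ∀ x : ι → K, MvPolynomial.eval x P =
        LinearMap.det (LinearMap.mulLeft K (∑ i, x i • b i)) := by
      intro x
      rw [← LinearMap.det_toMatrix b, RingHom.map_det]
      congr 1
      have : LinearMap.toMatrix b b (LinearMap.mulLeft K (∑ i, x i • b i)) = ∑ i, x i • M i := by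
        ext p q
        simp [M, LinearMap.toMatrix_apply, Algebra.leftMulMatrix_eq_repr_mul, Finset.sum_mul, map_sum, Matrix.sum_apply]
      rw [this]
      ext p q
      simp [Matrix.sum_apply]
    obtain ⟨x, hx, hx0⟩ : ∃ x ∈ Set.pi Set.univ (fun _ : ι => Set.range (algebraMap k K)),
        MvPolynomial.eval x P ≠ 0 := by
      by_contra! h
      have hP : P = 0 := MvPolynomial.funext_set _
        (fun _ => Set.infinite_range_of_injective (algebraMap k K).injective)
        (fun x hx => by rw [h x hx, map_zero])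
      have h1 := heval fun i => b.repr 1 i
      rw [hP, b.sum_repr, map_zero, LinearMap.mulLeft_one, LinearMap.det_id] at h1
      exact zero_ne_one h1
    refine ⟨∑ i, x i • b i, Submodule.sum_mem _ fun i _ => ?_, hunit _ ?_⟩
    · obtain ⟨r, hr⟩ := hx i trivial
      rw [← hr, algebraMap_smul]
      exact Submodule.smul_mem _ _ (Submodule.subset_span ⟨i, rfl⟩)
    · rw [heval] at hx0
      exact LinearMap.range_eq_top.1 (by
        by_contra h
        exact hx0 (LinearMap.det_eq_zero_iff_ker_ne_bot.2 fun hk => h (LinearMap.ker_eq_bot_iff_range_eq_top.1 hk)))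

theorem exists_fixed_basis {k : Type u} [Field k] {K : Type v} [Field K] [Algebra k K] [FiniteDimensional k K]
    [IsGalois k K] {V : Type (max v w)} [AddCommGroup V] [Module K V] [FiniteDimensional K V]
    (T : (K ≃ₐ[k] K) → V → V) (hT0 : ∀ σ, T σ 0 = 0) (hTa : ∀ σ v v', T σ (v + v') = T σ v + T σ v')
    (hT1 : ∀ v, T 1 v = v) (hTm : ∀ σ τ v, T σ (T τ v) = T (σ * τ) v)
    (hTs : ∀ σ (c : K) v, T σ (c • v) = σ c • T σ v) :
    ∃ (ι : Type (max v w)) (_ : Fintype ι) (b : Module.Basis ι K V), ∀ i σ, T σ (b i) = b i := by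
  have hspan := GalDesc.span_fixed k K T hT0 hTa hT1 hTm hTs
  obtain ⟨s, hs, hsp, hli⟩ := exists_linearIndependent K {v | ∀ σ, T σ v = v}
  rw [hspan] at hsp
  let b : Module.Basis s K V := Module.Basis.mk hli (by rw [Subtype.range_coe]; exact hsp.ge)
  refine ⟨s, FiniteDimensional.fintypeBasisIndex b, b, fun i σ => ?_⟩
  rw [Module.Basis.mk_apply]
  exact hs i.2 σ

theorem exists_fixed_unit {k : Type u} [Field k] {K : Type v} [Field K] [Algebra k K] [FiniteDimensional k K]
    [IsGalois k K] {A : Type w} [Ring A] [Algebra k A] [FiniteDimensional k A]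
    (T : (K ≃ₐ[k] K) → K ⊗[k] A → K ⊗[k] A) (hT0 : ∀ σ, T σ 0 = 0)
    (hTa : ∀ σ v v', T σ (v + v') = T σ v + T σ v') (hTs : ∀ σ (c : K) v, T σ (c • v) = σ c • T σ v)
    {ι : Type (max v w)} [Fintype ι] (b : Module.Basis ι K (K ⊗[k] A)) (hb : ∀ i σ, T σ (b i) = b i)
    (hR : ∀ σ v (c : A), T σ v = v → T σ (v * ((1 : K) ⊗ₜ[k] c)) = v * ((1 : K) ⊗ₜ[k] c)) :
    ∃ w, (∀ σ, T σ w = w) ∧ IsUnit w := by
  obtain ⟨w, hw, hwu⟩ := exists_generator b (fun i c =>
    fixed_mem_span T hT0 hTa hTs b hb _ fun σ => hR σ _ c (hb i σ))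
  refine ⟨w, fun σ => ?_, hwu⟩
  clear hwu
  induction hw using Submodule.span_induction with
  | mem v hv => obtain ⟨i, rfl⟩ := hv; exact hb i σ
  | zero => exact hT0 σ
  | add v v' _ _ h h' => rw [hTa, h, h']
  | smul r v _ h => rw [← algebraMap_smul K r v, hTs, σ.commutes, h]


/-- Let K be a finite Galois extension of a field k with Galois group G = Aut_k(K), and A a
finite-dimensional associative unital k-algebra, not assumed simple or central. Then H¹(G, (K ⊗_k
A)ˣ) is trivial, G acting on K ⊗_k A through the first factor. (The published statement allows any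
Galois extension and reduces to the finite case by a direct limit; the finite case is stated.) -/
theorem result (k : Type u) [Field k] (K : Type v)
    [Field K] [Algebra k K] [FiniteDimensional k K] [IsGalois k K]
    (A : Type w) [Ring A] [Algebra k A] [FiniteDimensional k A] :
    GpH1.H1.IsTrivial (K ≃ₐ[k] K) (K ⊗[k] A)ˣ := by
  classical
  intro x
  obtain ⟨a, rfl⟩ := Quotient.exists_rep x
  refine Quotient.sound (?_ : GpH1.Cohomologous _ _)
  let T : (K ≃ₐ[k] K) → K ⊗[k] A → K ⊗[k] A := fun σ v => (a.1 σ : K ⊗[k] A) * σ • v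
  have hT0 : ∀ σ, T σ 0 = 0 := fun σ => by simp [T]
  have hTa : ∀ σ v v', T σ (v + v') = T σ v + T σ v' := fun σ v v' => by simp [T, smul_add, mul_add]
  have ha1 : a.1 1 = 1 := by
    have := a.2 1 1
    rwa [mul_one, one_smul, left_eq_mul] at this
  have hT1 : ∀ v, T 1 v = v := fun v => by simp [T, ha1]
  have hTm : ∀ σ τ v, T σ (T τ v) = T (σ * τ) v := fun σ τ v => by
    show (a.1 σ : K ⊗[k] A) * σ • ((a.1 τ : K ⊗[k] A) * τ • v) = (a.1 (σ * τ) : K ⊗[k] A) * (σ * τ) • v
    rw [a.2 σ τ, smul_mul', ← mul_smul, Units.val_mul, mul_assoc]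
    rfl
  have hTs : ∀ σ (c : K) v, T σ (c • v) = σ c • T σ v := fun σ c v => by
    show (a.1 σ : K ⊗[k] A) * σ • (c • v) = σ c • ((a.1 σ : K ⊗[k] A) * σ • v)
    rw [CSAGal.smul_eq_map, CSAGal.smul_eq_map, Algebra.smul_def, map_mul, ← mul_smul_comm,
      Algebra.smul_def (σ c)]
    congr 1
  obtain ⟨ι, _, b, hb⟩ := exists_fixed_basis T hT0 hTa hT1 hTm hTs
  obtain ⟨w, hwf, hwu⟩ := exists_fixed_unit T hT0 hTa hTs b hb (fun σ v c hv => by
    show (a.1 σ : K ⊗[k] A) * σ • (v * ((1 : K) ⊗ₜ[k] c)) = v * ((1 : K) ⊗ₜ[k] c)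
    rw [smul_mul', ← mul_assoc, show σ • ((1 : K) ⊗ₜ[k] c) = (1 : K) ⊗ₜ[k] c by
      rw [CSAGal.smul_eq_map, Algebra.TensorProduct.map_tmul, map_one]; rfl]
    exact congrArg (· * ((1 : K) ⊗ₜ[k] c)) hv)
  obtain ⟨w, rfl⟩ := hwu
  refine ⟨w⁻¹, fun σ => ?_⟩
  have h1 : a.1 σ * σ • w = w := Units.ext (hwf σ)
  show a.1 σ = w⁻¹⁻¹ * 1 * σ • w⁻¹
  rw [inv_inv, mul_one, smul_inv', eq_mul_inv_iff_mul_eq]
  exact h1

end Groth.Agent.S13692
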