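import Groth.Statements.S13699
import Groth.Agent.DivPow.KerApps

set_option autoImplicit false
universe u
open scoped TensorProduct
open ZeroCyc

namespace Groth.Agent.S13699

/-- Let F : B → A be a multiplicative polynomial law homogeneous of degree d over the commutative ring
A. Then the kernel of the base change of F to the polynomial ring A[X] is the ideal of A[X] ⊗_A B
generated by the kernel of F. -/
theorem result {A : Type u} [CommRing A] {B : Type u} [CommRing B] [Algebra A B]
    {d : ℕ} (F : PolLaw.MulLaw A B A d) :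
    (PolLaw.ker F.law).map (Algebra.TensorProduct.includeRight : B →ₐ[A] Polynomial A ⊗[A] B) =
      PolLaw.kerBC F.law (Polynomial A) := by
  refine le_antisymm (Groth.Agent.DivPow.map_ker_le_kerBC F (Polynomial A)) fun y hy => ?_
  let ψ : Polynomial A →ₐ[A] MvPolynomial PUnit.{u+1} A := (MvPolynomial.pUnitAlgEquiv.{u} A).symm.toAlgHom
  let ψ' : MvPolynomial PUnit.{u+1} A →ₐ[A] Polynomial A := (MvPolynomial.pUnitAlgEquiv.{u} A).toAlgHom
  have h := Groth.Agent.DivPow.map_includeRight_le ψ' _ (Ideal.mem_map_of_mem _
    (Groth.Agent.DivPow.mem_map_of_co _ fun α => Groth.Agent.DivPow.co_mem_ker F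
      (Groth.Agent.DivPow.map_mem_kerBC F ψ hy) α))
  rwa [← AlgHom.comp_apply, ← Algebra.TensorProduct.map_comp, AlgHom.comp_id,
    show ψ'.comp ψ = AlgHom.id A _ from AlgEquiv.comp_symm _, Algebra.TensorProduct.map_id, AlgHom.id_apply] at h

end Groth.Agent.S13699
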