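import Groth.Statements.S13702
import Mathlib

set_option autoImplicit false
universe u
open ZeroCyc

namespace Groth.Agent.S13702

/-- Let A be a local ring with residue field of characteristic p > 0, let g ∈ A[X] be monic and
separable of degree n, so that A' = A[X]/(g) is an étale A-algebra, and let q = p^s with s ≥ 0. Then
the powers 1, t^q, t^{2q}, …, t^{(n-1)q} of the class t of X form a basis of A' as an A-module. -/
theorem result {A : Type u} [CommRing A] [IsLocalRing A] (p : ℕ) [Fact p.Prime]
    [CharP (IsLocalRing.ResidueField A) p] (g : Polynomial A) (hg : g.Monic) (hsep : g.Separable) (s : ℕ) :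
    ∃ b : Module.Basis (Fin g.natDegree) A (AdjoinRoot g),
      ∀ i : Fin g.natDegree, b i = AdjoinRoot.root g ^ (p ^ s * (i : ℕ)) := by
  classical
  set n := g.natDegree with hn
  set q := p ^ s with hq
  let e := AdjoinRoot.powerBasisAux' hg
  let v : Fin n → AdjoinRoot g := fun i => AdjoinRoot.root g ^ (q * (i : ℕ))
  let res := IsLocalRing.residue A
  have hM : ∀ j i, e.toMatrix v j i = ((Polynomial.X : Polynomial A) ^ (q * (i : ℕ)) %ₘ g).coeff j := by
    intro j i
    rw [Module.Basis.toMatrix_apply, AdjoinRoot.powerBasisAux'_repr_apply_to_fun,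
      show v i = AdjoinRoot.mk g (Polynomial.X ^ (q * (i : ℕ))) by rw [map_pow, AdjoinRoot.mk_X],
      AdjoinRoot.modByMonicHom_mk hg]
  have hdet : IsUnit (e.det v) := by
    rw [Module.Basis.det_apply, ← IsLocalRing.notMem_maximalIdeal, ← IsLocalRing.residue_eq_zero_iff,
      RingHom.map_det]
    intro h0
    obtain ⟨c, hc, hc0⟩ := Matrix.exists_mulVec_eq_zero_iff.mpr h0
    apply hc
    set gb := g.map res with hgb
    have hgm : gb.Monic := hg.map _
    let Q : Polynomial (IsLocalRing.ResidueField A) := ∑ i : Fin n, Polynomial.C (c i) * Polynomial.X ^ (i : ℕ)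
    have hQc : ∀ i : Fin n, Q.coeff i = c i := by
      intro i
      simp only [Q, Polynomial.finsetSum_coeff, Polynomial.coeff_C_mul_X_pow]
      rw [Finset.sum_eq_single i] <;> simp +contextual [Fin.val_inj, eq_comm]
    have hQ : gb ∣ Polynomial.expand _ q Q := by
      rw [← Polynomial.modByMonic_eq_zero_iff_dvd hgm]
      ext j
      rw [Polynomial.coeff_zero]
      by_cases hj : j < n
      · have h1 := congrFun hc0 ⟨j, hj⟩
        simp only [Matrix.mulVec, dotProduct, RingHom.mapMatrix_apply, Matrix.map_apply, hM,
          Pi.zero_apply] at h1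
        have h2 : Polynomial.expand _ q Q %ₘ gb =
            ∑ i : Fin n, c i • ((Polynomial.X ^ (q * (i : ℕ)) : Polynomial A) %ₘ g).map res := by
          simp only [Q, map_sum, map_mul, Polynomial.expand_C, map_pow, Polynomial.expand_X, ← pow_mul]
          rw [← Polynomial.modByMonicHom_apply, map_sum]
          refine Finset.sum_congr rfl fun i _ => ?_
          rw [← Polynomial.smul_eq_C_mul, map_smul, Polynomial.modByMonicHom_apply,
            Polynomial.map_modByMonic res hg, Polynomial.map_pow, Polynomial.map_X]
        rw [h2, Polynomial.finsetSum_coeff]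
        simpa [mul_comm] using h1
      · by_cases hb : gb = 1
        · simp [hb]
        refine Polynomial.coeff_eq_zero_of_natDegree_lt (lt_of_lt_of_le
          (Polynomial.natDegree_modByMonic_lt _ hgm hb) ?_)
        rw [hgb, hg.natDegree_map]
        omega
    let Ω := AlgebraicClosure (IsLocalRing.ResidueField A)
    let f : IsLocalRing.ResidueField A →+* Ω := algebraMap _ _
    haveI : CharP Ω p := charP_of_injective_algebraMap f.injective p
    haveI : ExpChar Ω p := ExpChar.prime Fact.out
    have hsep' : (gb.map f).Separable := (hsep.map (f := res)).map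
    have hroots : (gb.map f).roots.toFinset.card = n := by
      rw [Multiset.toFinset_card_of_nodup (Polynomial.nodup_roots hsep'),
        IsAlgClosed.card_roots_eq_natDegree, Polynomial.natDegree_map, hgb, hg.natDegree_map]
    have hQ0 : Q.map f = 0 := by
      refine Polynomial.eq_zero_of_natDegree_lt_card_of_eval_eq_zero'
        _ ((gb.map f).roots.toFinset.image (fun r => r ^ q)) (fun y hy => ?_) ?_
      · obtain ⟨r, hr, rfl⟩ := Finset.mem_image.mp hy
        have hr0 : (gb.map f).eval r = 0 := (Polynomial.mem_roots'.mp (Multiset.mem_toFinset.mp hr)).2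
        obtain ⟨w, hw⟩ := hQ
        have h := congrArg (fun P => (P.map f).eval r) hw
        simp only [Polynomial.map_expand, Polynomial.expand_eval, Polynomial.map_mul,
          Polynomial.eval_mul, hr0, zero_mul] at h
        exact h
      · rw [Finset.card_image_of_injective _ (fun a b hab => (iterateFrobenius Ω p s).injective
          (by simpa [iterateFrobenius_def] using hab)), hroots, Polynomial.natDegree_map]
        rcases Nat.eq_zero_or_pos n with h | h
        · exact absurd (funext fun i => absurd i.2 (by omega)) hc
        · exact lt_of_le_of_lt (Polynomial.natDegree_sum_le_of_forall_le _ _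
            (fun i _ => (Polynomial.natDegree_C_mul_X_pow_le _ _).trans (Nat.le_sub_one_of_lt i.2)))
            (Nat.sub_one_lt h.ne')
    funext i
    rw [← hQc i, (Polynomial.map_eq_zero_iff f.injective).mp hQ0]
    simp
  obtain ⟨hli, hsp⟩ := (Module.Basis.is_basis_iff_det e).mpr hdet
  exact ⟨Module.Basis.mk hli hsp.ge, fun i => by rw [Module.Basis.mk_apply]⟩

end Groth.Agent.S13702
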