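import Groth.Statements.S13703
import Groth.Agent.DivPow.KerFibre

set_option autoImplicit false
universe u
open scoped TensorProduct
open ZeroCyc

namespace Groth.Agent.S13703

/-- Let A be an integral domain, B a commutative A-algebra and F : B → A a multiplicative polynomial law
homogeneous of degree d. For every prime ideal P of B minimal among those containing the kernel of
F, the contraction of P to A is zero and every prime of A is the contraction of a prime of B
containing P. Geometrically: every irreducible component of the support of the family of zero-cycles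
on Spec B defined by F maps onto Spec A. (The published statement is over an arbitrary algebraic
space S, every irreducible component of the support mapping onto an irreducible component of S, and
its proof reduces to an integral affine base; this row is that case.) -/
theorem result {A : Type u} [CommRing A] [IsDomain A] {B : Type u} [CommRing B] [Algebra A B]
    {d : ℕ} (F : PolLaw.MulLaw A B A d) {P : Ideal B} (hP : P ∈ (PolLaw.ker F.law).minimalPrimes) :
    P.comap (algebraMap A B) = ⊥ ∧
      ∀ q : Ideal A, q.IsPrime → ∃ Q : Ideal B, Q.IsPrime ∧ P ≤ Q ∧ Q.comap (algebraMap A B) = q := by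
  haveI : P.IsPrime := hP.1.1
  haveI := Groth.Agent.DivPow.isIntegral_image F
  let e := Algebra.TensorProduct.lid A (PolLaw.image F.law)
  obtain ⟨Qs, h1, h2⟩ := Groth.Agent.DivPow.exists_fibre' F (U := A) ⟨⊥, Ideal.bot_prime⟩
  let Pb : Ideal (PolLaw.image F.law) := P.map (Ideal.Quotient.mk _)
  haveI hPb : Pb.IsPrime := Ideal.map_isPrime_of_surjective Ideal.Quotient.mk_surjective (by rw [Ideal.mk_ker]; exact hP.1.2)
  have hPbP : Pb.comap (Ideal.Quotient.mk _) = P := by
    rw [Ideal.comap_map_of_surjective _ Ideal.Quotient.mk_surjective, ← RingHom.ker_eq_comap_bot, Ideal.mk_ker, sup_eq_left]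
    exact hP.1.2
  obtain ⟨j, hj⟩ := h2 ⟨Pb.comap e.toAlgHom.toRingHom, inferInstance⟩ bot_le
  have hcomap : P.comap (algebraMap A B) = ⊥ := by
    let Q' : Ideal B := ((Qs j).asIdeal.comap e.symm.toAlgHom.toRingHom).comap (Ideal.Quotient.mk (PolLaw.ker F.law))
    have hQP : Q' ≤ P := by
      rw [← hPbP]
      refine Ideal.comap_mono (fun (x : PolLaw.image F.law) hx => ?_)
      have h : e.symm x ∈ Pb.comap e.toAlgHom.toRingHom := hj hx
      simpa using h
    have hker : PolLaw.ker F.law ≤ Q' := fun b hb => by
      show e.symm (Ideal.Quotient.mk (PolLaw.ker F.law) b) ∈ (Qs j).asIdeal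
      rw [Ideal.Quotient.eq_zero_iff_mem.mpr hb, map_zero]
      exact zero_mem _
    have hPQ : P ≤ Q' := hP.2 ⟨inferInstance, hker⟩ hQP
    have hq := congrArg PrimeSpectrum.asIdeal (h1 j)
    refine le_bot_iff.mp fun a ha => ?_
    rw [← show ((Qs j).asIdeal.comap (algebraMap A (A ⊗[A] PolLaw.image F.law))) = ⊥ from hq, Ideal.mem_comap]
    have := hPQ (Ideal.mem_comap.mp ha)
    rw [show algebraMap A (A ⊗[A] PolLaw.image F.law) a = e.symm (Ideal.Quotient.mk _ (algebraMap A B a)) by
      rw [Ideal.Quotient.mk_algebraMap, AlgEquiv.commutes]]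
    exact this
  refine ⟨hcomap, fun q hq => ?_⟩
  obtain ⟨Q, hQle, hQ, hQq⟩ := Ideal.exists_ideal_over_prime_of_isIntegral q Pb (S := PolLaw.image F.law) (by
    intro a ha
    rw [Ideal.mem_comap, ← Ideal.Quotient.mk_algebraMap, ← Ideal.mem_comap, hPbP, ← Ideal.mem_comap, hcomap, Ideal.mem_bot] at ha
    rw [ha]
    exact zero_mem _)
  refine ⟨Q.comap (Ideal.Quotient.mk _), inferInstance, ?_, ?_⟩
  · rw [← hPbP]
    exact Ideal.comap_mono hQle
  · rw [← hQq, Ideal.comap_comap]
    rfl

end Groth.Agent.S13703
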