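import Groth.Statements.S13706
import Groth.Agent.DivPow.KerApps

set_option autoImplicit false
universe u
open scoped TensorProduct
open ZeroCyc

namespace Groth.Agent.S13706

/-- Let A be a commutative ring, B an A-algebra of finite type and F : B → A a multiplicative polynomial
law homogeneous of degree d. Then there is a finitely generated ideal J of B, contained in the
kernel of F and with the same radical; thus the support of the family of zero-cycles defined by F is
carried by a bijective closed immersion into Spec(B/J), a scheme of finite presentation over A. -/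
theorem result {A : Type u} [CommRing A] {B : Type u} [CommRing B] [Algebra A B]
    [Algebra.FiniteType A B] {d : ℕ} (F : PolLaw.MulLaw A B A d) :
    ∃ J : Ideal B, J.FG ∧ J ≤ PolLaw.ker F.law ∧ J.radical = (PolLaw.ker F.law).radical := by
  classical
  obtain ⟨s, hs⟩ := (inferInstance : Algebra.FiniteType A B).out
  let P : B → B := fun b => Polynomial.aeval b (Groth.Agent.DivPow.chiA F A ((1 : A) ⊗ₜ[A] b))
  let J₁ : Ideal B := Ideal.span (s.image P : Set B)
  have hJ₁ : J₁ ≤ PolLaw.ker F.law := Ideal.span_le.mpr fun x hx => by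
    obtain ⟨b, -, rfl⟩ := Finset.mem_image.mp hx
    exact Groth.Agent.DivPow.aeval_chiA_mem_ker F b
  haveI : Algebra.IsIntegral A (B ⧸ J₁) := by
    refine ⟨fun x => ?_⟩
    obtain ⟨b, rfl⟩ := Ideal.Quotient.mk_surjective x
    have hb : b ∈ (integralClosure A (B ⧸ J₁)).comap (Ideal.Quotient.mkₐ A J₁) := by
      refine (show Algebra.adjoin A (s : Set B) ≤ _ from Algebra.adjoin_le fun y hy => ?_) (hs ▸ Algebra.mem_top)
      refine ⟨_, Groth.Agent.DivPow.chiA_monic F A ((1 : A) ⊗ₜ[A] y), ?_⟩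
      rw [Polynomial.eval₂_mul]
      refine mul_eq_zero_of_left ?_ _
      show Polynomial.eval₂ (algebraMap A (B ⧸ J₁)) (Ideal.Quotient.mkₐ A J₁ y) _ = 0
      rw [← Polynomial.aeval_def, Polynomial.aeval_algHom_apply, Ideal.Quotient.mkₐ_eq_mk, Ideal.Quotient.eq_zero_iff_mem]
      exact Ideal.subset_span (Finset.mem_image_of_mem P hy)
    exact hb
  haveI : Module.Finite A (B ⧸ J₁) := Algebra.IsIntegral.finite
  obtain ⟨n, g, hg⟩ := Module.Finite.exists_fin (R := A) (M := B ⧸ J₁)
  choose m hm using fun i => Ideal.Quotient.mk_surjective (g i)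
  let z : MvPolynomial (ULift.{u} (Fin n)) A ⊗[A] B := ∑ i : ULift.{u} (Fin n), MvPolynomial.X i ⊗ₜ[A] m i.down
  obtain ⟨T, -, hT⟩ := Groth.Agent.DivPow.exists_sum_monomial (Groth.Agent.DivPow.chA F _ z)
  let J : Ideal B := J₁ ⊔ Ideal.span (T.image (fun α => Groth.Agent.DivPow.co α (Groth.Agent.DivPow.chA F _ z)) : Set B)
  have hJ : J ≤ PolLaw.ker F.law := sup_le hJ₁ (Ideal.span_le.mpr fun x hx => by
    obtain ⟨α, -, rfl⟩ := Finset.mem_image.mp hx
    exact Groth.Agent.DivPow.co_chA_mem_ker F z α)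
  refine ⟨J, Submodule.FG.sup ⟨_, rfl⟩ ⟨_, rfl⟩, hJ, le_antisymm (Ideal.radical_mono hJ)
    (Ideal.radical_le_radical_iff.mpr fun b hb => ?_)⟩
  obtain ⟨a, ha⟩ : ∃ a : Fin n → A, ∑ i, a i • g i = Ideal.Quotient.mk J₁ b :=
    (Submodule.mem_span_range_iff_exists_fun A).mp (hg ▸ Submodule.mem_top)
  let b' : B := ∑ i, a i • m i
  have hbb : b' - b ∈ J₁ := by
    rw [← Ideal.Quotient.eq, ← ha, ← Ideal.Quotient.mkₐ_eq_mk A, map_sum]
    exact Finset.sum_congr rfl fun i _ => by rw [map_smul, Ideal.Quotient.mkₐ_eq_mk, hm]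
  have hb' : b' ∈ PolLaw.ker F.law := by
    have := Ideal.add_mem _ (hJ₁ hbb) hb
    rwa [sub_add_cancel] at this
  let ψ : MvPolynomial (ULift.{u} (Fin n)) A →ₐ[A] A := MvPolynomial.aeval fun i => a i.down
  have hz : Algebra.TensorProduct.map ψ (AlgHom.id A B) z = (1 : A) ⊗ₜ[A] b' := by
    simp only [z, b', map_sum, Algebra.TensorProduct.map_tmul, TensorProduct.tmul_sum, ψ, MvPolynomial.aeval_X, AlgHom.id_apply]
    rw [← Equiv.sum_comp Equiv.ulift.symm]
    refine Finset.sum_congr rfl fun i _ => ?_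
    rw [TensorProduct.tmul_smul, TensorProduct.smul_tmul', smul_eq_mul, mul_one]
    rfl
  have h1 : Groth.Agent.DivPow.chA F _ z ∈ J.map (Algebra.TensorProduct.includeRight : B →ₐ[A] _ ⊗[A] B) := by
    rw [hT]
    refine Ideal.sum_mem _ fun α hα => ?_
    rw [show MvPolynomial.monomial α (1 : A) ⊗ₜ[A] Groth.Agent.DivPow.co α (Groth.Agent.DivPow.chA F _ z) =
      (MvPolynomial.monomial α (1 : A) ⊗ₜ[A] (1 : B)) *
        (Algebra.TensorProduct.includeRight (Groth.Agent.DivPow.co α (Groth.Agent.DivPow.chA F _ z))) by simp]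
    exact Ideal.mul_mem_left _ _ (Ideal.mem_map_of_mem _ (Ideal.mem_sup_right
      (Ideal.subset_span (Finset.mem_image_of_mem _ hα))))
  have h2 := Groth.Agent.DivPow.map_includeRight_le ψ J (Ideal.mem_map_of_mem _ h1)
  rw [← Groth.Agent.DivPow.chA_map, hz, Groth.Agent.DivPow.chA_one_tmul, Groth.Agent.DivPow.chiA_of_mem_ker F hb',
    map_pow, map_neg, Polynomial.aeval_X] at h2
  have h4 : (J.map (Algebra.TensorProduct.includeRight : B →ₐ[A] A ⊗[A] B)).map
      (Algebra.TensorProduct.lid A B).toAlgHom.toRingHom ≤ J := by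
    rw [Ideal.map_le_iff_le_comap, Ideal.map_le_iff_le_comap]
    intro x hx
    simpa using hx
  have h5 : (-b') ^ d ∈ J := by
    have := h4 (Ideal.mem_map_of_mem _ h2)
    simpa using this
  refine ⟨d, ?_⟩
  have h6 : Ideal.Quotient.mk J b' = Ideal.Quotient.mk J b := Ideal.Quotient.eq.mpr (Ideal.mem_sup_left hbb)
  rw [← Ideal.Quotient.eq_zero_iff_mem, map_pow, ← h6, ← map_pow, Ideal.Quotient.eq_zero_iff_mem]
  exact Groth.Agent.DivPow.neg_pow_mem h5

end Groth.Agent.S13706
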