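import Groth.Statements.S13707
import Groth.Agent.DivPow.KerFibre

set_option autoImplicit false
universe u
open scoped TensorProduct
open ZeroCyc

namespace Groth.Agent.S13707

/-- Let k be a field, B a commutative k-algebra and F : B → k a multiplicative polynomial law
homogeneous of degree d. Then the spectrum of B/ker F (the image of the family of zero-cycles of
degree d on Spec B defined by F) is a finite set of at most d closed points, and the residue field
at each of them has finite separable degree over k. -/
theorem result {k : Type u} [Field k] {B : Type u} [CommRing B] [Algebra k B]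
    {d : ℕ} (F : PolLaw.MulLaw k B k d) :
    Finite (PrimeSpectrum (PolLaw.image F.law)) ∧ Nat.card (PrimeSpectrum (PolLaw.image F.law)) ≤ d ∧
      ∀ P : PrimeSpectrum (PolLaw.image F.law), P.asIdeal.IsMaximal ∧
        Finite (Field.Emb k P.asIdeal.ResidueField) := by
  haveI := Groth.Agent.DivPow.isIntegral_image F
  obtain ⟨h1, h2⟩ := Groth.Agent.DivPow.card_fibre_le F k ⊥
  have h : PrimeSpectrum.comap (algebraMap k (k ⊗[k] PolLaw.image F.law)) ⁻¹' {⊥} = Set.univ :=
    Set.eq_univ_of_forall fun Q => Subsingleton.elim (PrimeSpectrum.comap _ Q) ⊥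
  rw [h] at h1 h2
  let e : PrimeSpectrum (k ⊗[k] PolLaw.image F.law) ≃ PrimeSpectrum (PolLaw.image F.law) :=
    (PrimeSpectrum.comapEquiv (Algebra.TensorProduct.lid k (PolLaw.image F.law)).toRingEquiv).toEquiv
  haveI : Finite (PrimeSpectrum (k ⊗[k] PolLaw.image F.law)) := Set.finite_univ_iff.mp h1
  refine ⟨Finite.of_equiv _ e, (Nat.card_congr e).symm.trans_le ((Set.ncard_univ _).symm.trans_le h2), fun P => ?_⟩
  have hm : P.asIdeal.IsMaximal := Ideal.isMaximal_of_isIntegral_of_isMaximal_comap (R := k) _ (by
    rw [Ideal.eq_bot_of_prime (P.asIdeal.comap (algebraMap k (PolLaw.image F.law)))]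
    exact Ideal.bot_isMaximal)
  refine ⟨hm, ?_⟩
  let L := AlgebraicClosure P.asIdeal.ResidueField
  obtain ⟨g, hg⟩ := Groth.Agent.DivPow.exists_split F (Algebra.ofId k L)
  let π : B →ₐ[k] P.asIdeal.ResidueField :=
    (IsScalarTower.toAlgHom k (PolLaw.image F.law) _).comp (Ideal.Quotient.mkₐ k _)
  have hπ : Function.Surjective π := by
    show Function.Surjective ((algebraMap (PolLaw.image F.law) P.asIdeal.ResidueField) ∘ (Ideal.Quotient.mkₐ k _))
    exact (Ideal.algebraMap_residueField_surjective P.asIdeal).comp (Ideal.Quotient.mkₐ_surjective k _)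
  refine Finite.of_injective (fun σ : P.asIdeal.ResidueField →ₐ[k] L =>
    Classical.choose (Groth.Agent.DivPow.exists_eq_root F g hg (σ.comp π) fun b hb => ?_)) fun σ τ hst => ?_
  · show σ (algebraMap (PolLaw.image F.law) _ (Ideal.Quotient.mk (PolLaw.ker F.law) b)) = 0
    rw [Ideal.Quotient.eq_zero_iff_mem.mpr hb, map_zero, map_zero]
  · have h1 := Classical.choose_spec (Groth.Agent.DivPow.exists_eq_root F g hg (σ.comp π) fun b hb => by
      show σ (algebraMap (PolLaw.image F.law) _ (Ideal.Quotient.mk (PolLaw.ker F.law) b)) = 0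
      rw [Ideal.Quotient.eq_zero_iff_mem.mpr hb, map_zero, map_zero])
    have h2 := Classical.choose_spec (Groth.Agent.DivPow.exists_eq_root F g hg (τ.comp π) fun b hb => by
      show τ (algebraMap (PolLaw.image F.law) _ (Ideal.Quotient.mk (PolLaw.ker F.law) b)) = 0
      rw [Ideal.Quotient.eq_zero_iff_mem.mpr hb, map_zero, map_zero])
    simp only at hst
    rw [hst, h2] at h1
    refine AlgHom.ext fun x => ?_
    obtain ⟨b, rfl⟩ := hπ x
    exact (DFunLike.congr_fun h1 b).symm

end Groth.Agent.S13707
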