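import Groth.Statements.S13708
import Mathlib

set_option autoImplicit false
universe u
open CategoryTheory CategoryTheory.Limits AlgebraicGeometry
open ZeroCyc

namespace Groth.Agent.S13708

/-- Let X be a scheme over S such that every finite set of points of X over a common point of S lies in
some affine open subscheme of X (the condition (AF)). Then X is separated over S. (The published
condition (AF) asks for an open U with U → S quasi-affine rather than U affine; with U affine, as
here, the same argument applies verbatim, and the two conditions agree over a quasi-separated base.) -/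
theorem result {X S : Scheme.{u}} (f : X ⟶ S) (hX : SymProd.IsAF f) :
    IsSeparated f := by
  classical
  refine ⟨IsClosedImmersion.of_isPreimmersion _ ?_⟩
  let Δ := Limits.pullback.diagonal f
  rw [← isOpen_compl_iff, isOpen_iff_forall_mem_open]
  intro z hz
  let a := Limits.pullback.fst f f
  let b := Limits.pullback.snd f f
  have hab : f (a z) = f (b z) := congr($(Limits.pullback.condition (f := f) (g := f)) z)
  obtain ⟨U, hU, hmem⟩ := hX (f (a z)) {a z, b z} (by
    simp only [Finset.mem_insert, Finset.mem_singleton]
    rintro x (rfl | rfl)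
    · rfl
    · exact hab.symm)
  have hx : a z ∈ U := hmem _ (by simp)
  have hy : b z ∈ U := hmem _ (by simp)
  have : IsAffine U.toScheme := hU
  let g := U.ι ≫ f
  let m : Limits.pullback g g ⟶ Limits.pullback f f :=
    Limits.pullback.map g g f f U.ι U.ι (𝟙 S) (by simp [g]) (by simp [g])
  have hm : IsOpenImmersion m := inferInstance
  have hr : Set.range m = a ⁻¹' (U : Set X) ∩ b ⁻¹' (U : Set X) := by
    simp only [m, Scheme.Pullback.range_map, Scheme.Opens.range_ι]
    rfl
  have : IsSeparated g := inferInstance
  have hΔ : IsClosed (Set.range (Limits.pullback.diagonal g)) :=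
    (Limits.pullback.diagonal g).isClosedEmbedding.isClosed_range
  refine ⟨m '' (Set.range (Limits.pullback.diagonal g))ᶜ, ?_,
    m.isOpenEmbedding.isOpenMap _ hΔ.isOpen_compl, ?_⟩
  · rintro _ ⟨w, hw, rfl⟩ ⟨x, hx'⟩
    have hxa : a (Δ x) = x := congr($(Limits.pullback.diagonal_fst f) x)
    have hxU : x ∈ U := by
      have h2 : m w ∈ a ⁻¹' (U : Set X) ∩ b ⁻¹' (U : Set X) := hr ▸ ⟨w, rfl⟩
      have h3 := h2.1
      rw [Set.mem_preimage, ← hx', hxa] at h3
      exact h3
    refine hw ⟨⟨x, hxU⟩, m.isOpenEmbedding.injective ?_⟩
    refine Eq.trans ?_ hx'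
    have e : Limits.pullback.diagonal g ≫ m = U.ι ≫ Δ := Limits.pullback.hom_ext
      (by simp only [m, Δ, Category.assoc, Limits.pullback.lift_fst, Limits.pullback.diagonal_fst,
        Limits.pullback.diagonal_fst_assoc, Category.comp_id])
      (by simp only [m, Δ, Category.assoc, Limits.pullback.lift_snd, Limits.pullback.diagonal_snd,
        Limits.pullback.diagonal_snd_assoc, Category.comp_id])
    exact congr($e ⟨x, hxU⟩)
  · obtain ⟨w, hw⟩ : z ∈ Set.range m := hr ▸ ⟨hx, hy⟩
    refine ⟨w, fun ⟨u, hu⟩ ↦ hz ⟨u.1, ?_⟩, hw⟩
    have e : Limits.pullback.diagonal g ≫ m = U.ι ≫ Δ := Limits.pullback.hom_ext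
      (by simp only [m, Δ, Category.assoc, Limits.pullback.lift_fst, Limits.pullback.diagonal_fst,
        Limits.pullback.diagonal_fst_assoc, Category.comp_id])
      (by simp only [m, Δ, Category.assoc, Limits.pullback.lift_snd, Limits.pullback.diagonal_snd,
        Limits.pullback.diagonal_snd_assoc, Category.comp_id])
    rw [← hw, ← hu]
    exact congr($e u).symm

end Groth.Agent.S13708
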