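import Groth.Statements.S1371
import Mathlib
import Groth.Agent.GenFlatCoker.Basic
-- import your own Groth.Agent.* helpers here

set_option autoImplicit false
universe u
open FlatMor

namespace Groth.Agent.S1371

open scoped TensorProduct


/-- Let R be a Noetherian domain, R → A → B ring maps of finite type, M a finite A-module, N a finite
B-module and u : M → N an A-linear map. Then there is a nonzero f in R such that the cokernel of u,
localized at f, is a flat module over R[1/f]. -/
theorem result {R A B : Type u} [CommRing R] [IsDomain R] [IsNoetherianRing R] [CommRing A] [CommRing B]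
    [Algebra R A] [Algebra A B] [Algebra R B] [IsScalarTower R A B] [Algebra.FiniteType R A] [Algebra.FiniteType A B]
    {M N : Type u} [AddCommGroup M] [Module A M] [Module R M] [IsScalarTower R A M] [Module.Finite A M]
    [AddCommGroup N] [Module B N] [Module A N] [Module R N] [IsScalarTower A B N] [IsScalarTower R A N] [Module.Finite B N]
    (u : M →ₗ[A] N) :
    ∃ f : R, f ≠ 0 ∧ Module.Flat (Localization.Away f)
      (LocalizedModule (Submonoid.powers f) (N ⧸ (LinearMap.range u).restrictScalars R)) := by
  classical
  obtain ⟨n, ψ, hψ⟩ := Algebra.FiniteType.iff_quotient_mvPolynomial''.1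
    (inferInstance : Algebra.FiniteType A B)
  letI : Module (MvPolynomial (Fin n) A) N := Module.compHom N ψ.toRingHom
  haveI : IsScalarTower A (MvPolynomial (Fin n) A) N := ⟨fun a t x => by
    show ψ (a • t) • x = a • (ψ t • x)
    rw [map_smul, smul_assoc]⟩
  haveI : IsScalarTower R (MvPolynomial (Fin n) A) N := ⟨fun r t x => by
    show ψ (r • t) • x = r • (ψ t • x)
    rw [← algebraMap_smul A r t, map_smul, smul_assoc, algebraMap_smul]⟩
  have hN : Module.Finite (MvPolynomial (Fin n) A) N := by
    obtain ⟨s, hs⟩ := (inferInstance : Module.Finite B N).fg_top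
    refine ⟨⟨s, eq_top_iff.2 fun m hm' => ?_⟩⟩
    clear hm'
    have hm : m ∈ Submodule.span B (s : Set N) := hs.symm ▸ Submodule.mem_top
    induction hm using Submodule.span_induction with
    | mem x hx => exact Submodule.subset_span hx
    | zero => exact zero_mem _
    | add x y _ _ hx hy => exact add_mem hx hy
    | smul b x _ hx =>
      obtain ⟨p, rfl⟩ := hψ b
      exact Submodule.smul_mem _ p hx
  have hfg : (LinearMap.range u).FG := by
    rw [LinearMap.range_eq_map]
    exact (inferInstance : Module.Finite A M).fg_top.map u
  obtain ⟨f, hf, hfree⟩ := Groth.Agent.GenFree.exists_freeAt_quotient (R := R) n N hN (LinearMap.range u) hfg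
  haveI := hfree (Localization.Away f) (IsLocalization.Away.algebraMap_isUnit f)
  haveI : Module.Free (Localization.Away f)
      (LocalizedModule (Submonoid.powers f) (N ⧸ (LinearMap.range u).restrictScalars R)) :=
    Module.Free.of_equiv (LocalizedModule.equivTensorProduct (Submonoid.powers f)
      (N ⧸ (LinearMap.range u).restrictScalars R)).symm
  exact ⟨f, hf, Module.Flat.of_free⟩

end Groth.Agent.S1371
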