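import Groth.Statements.S13712
import Groth.Agent.FinFibImage.Main

set_option autoImplicit false
universe u
open CategoryTheory CategoryTheory.Limits AlgebraicGeometry
open ZeroCyc

namespace Groth.Agent.S13712

/-- Let f : X → Y and g : Y → S be morphisms of schemes with g separated, such that the composite X → S
is integral with topologically finite fibres (every fibre is a finite set). Then the
scheme-theoretic image Y' of f, with its closed immersion Y' → Y, is integral over S, and Y' → S
again has topologically finite fibres. (The published statement is for algebraic spaces; this row is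
the case of schemes.) -/
theorem result {X Y S : Scheme.{u}} (f : X ⟶ Y) (g : Y ⟶ S)
    [IsSeparated g] [IsIntegralHom (f ≫ g)] (hfin : ∀ s : S, Set.Finite ((f ≫ g).base ⁻¹' {s})) :
    IsIntegralHom (f.imageι ≫ g) ∧ ∀ s : S, Set.Finite ((f.imageι ≫ g).base ⁻¹' {s}) := by
  have : QuasiCompact f := by
    have : IsIntegralHom f := .of_comp f g
    infer_instance
  have : IsIntegralHom f := .of_comp f g
  have huc : UniversallyClosed f.toImage := inferInstance
  have : Surjective f.toImage := ⟨by
    rw [← Set.range_eq_univ, ← f.toImage.isClosedMap.isClosed_range.closure_eq]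
    exact f.toImage.denseRange.closure_eq⟩
  have hI : IsIntegralHom (f.toImage ≫ f.imageι ≫ g) := by
    rw [Scheme.Hom.toImage_imageι_assoc]
    infer_instance
  have hf : ∀ s : S, ((f.toImage ≫ f.imageι ≫ g) ⁻¹' {s}).Finite := by
    rw [Scheme.Hom.toImage_imageι_assoc]
    exact hfin
  refine ⟨Groth.Agent.FinFibImage.isIntegralHom_of_surjective_of_finite_fibres f.toImage
    (f.imageι ≫ g) hf, fun s => ((hf s).image f.toImage).subset fun y hy => ?_⟩
  obtain ⟨x, rfl⟩ := f.toImage.surjective y
  exact ⟨x, (by
    show (f.toImage ≫ f.imageι ≫ g) x = s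
    rw [Scheme.Hom.comp_apply]; exact hy), rfl⟩

end Groth.Agent.S13712
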