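import Groth.Statements.S13718
import Groth.Agent.DivPow.KerApps

set_option autoImplicit false
universe u
open scoped TensorProduct
open ZeroCyc

namespace Groth.Agent.S13718

/-- Let φ : B' → B be a map of commutative algebras over the commutative ring A and F : B → A a
multiplicative polynomial law homogeneous of degree d, with push-forward the law F ∘ φ : B' → A.
Then the radical of the kernel of F ∘ φ equals the radical of the inverse image under φ of the
kernel of F: the support of the pushed-forward family of zero-cycles on Spec B' is the image of the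
support of the family on Spec B. (The published statement is for affine morphisms X → Y → S of
algebraic spaces; this row is the case of an affine base.) -/
theorem result {A : Type u} [CommRing A] {B : Type u} [CommRing B] [Algebra A B]
    {B' : Type u} [CommRing B'] [Algebra A B'] {d : ℕ} (F : PolLaw.MulLaw A B A d) (φ : B' →ₐ[A] B) :
    (PolLaw.ker (F.precomp φ).law).radical = ((PolLaw.ker F.law).comap φ).radical := by
  have h1 : (PolLaw.ker F.law).comap φ ≤ PolLaw.ker (F.precomp φ).law := by
    intro b hb S _ _ x w
    show F.law.toFun' S (φ.toLinearMap.lTensor S (x + w * ((1 : S) ⊗ₜ[A] b))) = F.law.toFun' S (φ.toLinearMap.lTensor S x)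
    simp only [PolLaw.lTensor_algHom_apply, map_add, map_mul, Algebra.TensorProduct.map_tmul, AlgHom.id_apply]
    exact hb S _ _
  refine le_antisymm (Ideal.radical_le_radical_iff.mpr fun b hb => ⟨d, ?_⟩) (Ideal.radical_mono h1)
  rw [Ideal.mem_comap, map_pow]
  refine Groth.Agent.DivPow.neg_pow_mem ?_
  have h2 : Groth.Agent.DivPow.chiA F A ((1 : A) ⊗ₜ[A] φ b) = (-Polynomial.X) ^ d := by
    rw [← Groth.Agent.DivPow.chiA_of_mem_ker (F.precomp φ) hb, Groth.Agent.DivPow.chiA_one_tmul,
      Groth.Agent.DivPow.chiA_one_tmul]
    show _ = TensorProduct.rid A _ (F.law.toFun' _ (φ.toLinearMap.lTensor _ _))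
    rw [map_sub, LinearMap.lTensor_tmul, LinearMap.lTensor_tmul, AlgHom.toLinearMap_apply, AlgHom.toLinearMap_apply, map_one]
  have h3 := Groth.Agent.DivPow.aeval_chiA_mem_ker F (φ b)
  rwa [h2, map_pow, map_neg, Polynomial.aeval_X] at h3

end Groth.Agent.S13718
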