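import Groth.Statements.S13719
import Groth.Agent.DivPow.ProdLaw

set_option autoImplicit false
universe u
open scoped TensorProduct
open ZeroCyc

namespace Groth.Agent.S13719

/-- Let A be a commutative ring whose prime spectrum is connected, B₁, B₂ commutative A-algebras and F :
B₁ × B₂ → A a multiplicative polynomial law homogeneous of degree d (a family of zero-cycles of
degree d on the disjoint union Spec B₁ ⊔ Spec B₂ over Spec A). Then there are natural numbers d₁ +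
d₂ = d, the multiplicities of the family on the two pieces, and multiplicative laws F₁ : B₁ → A, F₂
: B₂ → A homogeneous of degrees d₁, d₂ with F(x) = F₁(x₁) F₂(x₂) for every test algebra S and x ∈ S
⊗ (B₁ × B₂) with components x₁, x₂; and the degrees d₁, d₂ of any such factorisation are uniquely
determined. (The published statement is for finitely many algebraic spaces affine over a connected
algebraic space S; this row is the case of two pieces over an affine base.) -/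
theorem result {A : Type u} [CommRing A] [ConnectedSpace (PrimeSpectrum A)]
    {B₁ : Type u} [CommRing B₁] [Algebra A B₁] {B₂ : Type u} [CommRing B₂] [Algebra A B₂]
    {d : ℕ} (F : PolLaw.MulLaw A (B₁ × B₂) A d) :
    ∃ d₁ d₂ : ℕ, d₁ + d₂ = d ∧
      (∃ (F₁ : PolLaw.MulLaw A B₁ A d₁) (F₂ : PolLaw.MulLaw A B₂ A d₂),
        ∀ (S : Type u) [CommSemiring S] [Algebra A S] (x : S ⊗[A] (B₁ × B₂)),
          F.law.toFun' S x = F₁.law.toFun' S (LinearMap.lTensor S (LinearMap.fst A B₁ B₂) x) *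
            F₂.law.toFun' S (LinearMap.lTensor S (LinearMap.snd A B₁ B₂) x)) ∧
      ∀ (e₁ e₂ : ℕ) (G₁ : PolLaw.MulLaw A B₁ A e₁) (G₂ : PolLaw.MulLaw A B₂ A e₂),
        (∀ (S : Type u) [CommSemiring S] [Algebra A S] (x : S ⊗[A] (B₁ × B₂)),
          F.law.toFun' S x = G₁.law.toFun' S (LinearMap.lTensor S (LinearMap.fst A B₁ B₂) x) *
            G₂.law.toFun' S (LinearMap.lTensor S (LinearMap.snd A B₁ B₂) x)) → e₁ = d₁ ∧ e₂ = d₂ := by
  haveI : Nontrivial A := PrimeSpectrum.nonempty_iff_nontrivial.mp inferInstance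
  obtain ⟨d₁, h₁⟩ := Groth.Agent.DivPow.ProdLaw.exists_pow F ((1, 0) : B₁ × B₂) (0, 1) (by simp) (by simp) (by simp [Prod.mk_zero_zero]) (by simp [Prod.one_eq_mk])
  obtain ⟨d₂, h₂⟩ := Groth.Agent.DivPow.ProdLaw.exists_pow F ((0, 1) : B₁ × B₂) (1, 0) (by simp) (by simp) (by simp [Prod.mk_zero_zero]) (by simp [Prod.one_eq_mk])
  have hd : d₁ + d₂ = d := by
    let R := Polynomial A
    have h := (F.mult R).2 ((Polynomial.X : R) ⊗ₜ[A] ((1, 0) : B₁ × B₂) + (1 : R) ⊗ₜ[A] ((0, 1) : B₁ × B₂))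
      ((Polynomial.X : R) ⊗ₜ[A] ((0, 1) : B₁ × B₂) + (1 : R) ⊗ₜ[A] ((1, 0) : B₁ × B₂))
    rw [h₁, h₂, show ((Polynomial.X : R) ⊗ₜ[A] ((1, 0) : B₁ × B₂) + (1 : R) ⊗ₜ[A] ((0, 1) : B₁ × B₂)) *
      ((Polynomial.X : R) ⊗ₜ[A] ((0, 1) : B₁ × B₂) + (1 : R) ⊗ₜ[A] ((1, 0) : B₁ × B₂)) =
        (Polynomial.X : R) • (1 : R ⊗[A] (B₁ × B₂)) by
      simp [add_mul, mul_add, Algebra.TensorProduct.one_def, TensorProduct.smul_tmul', Prod.mk_zero_zero, ← TensorProduct.tmul_add, Prod.one_eq_mk],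
      F.homog, (F.mult R).1, Algebra.TensorProduct.one_def, TensorProduct.smul_tmul', smul_eq_mul, mul_one,
      Algebra.TensorProduct.tmul_mul_tmul, mul_one, ← pow_add] at h
    have h' := congrArg (fun y => (TensorProduct.rid A R y).natDegree) h
    simpa [R] using h'.symm
  have hom₁ : PolLaw.IsHomog (Groth.Agent.DivPow.ProdLaw.law₁ F) d₁ := by
    intro S _ _ s x
    show F.law.toFun' S _ = s ^ d₁ • F.law.toFun' S _
    rw [show Groth.Agent.DivPow.ProdLaw.i₁ S (s • x) + Groth.Agent.DivPow.ProdLaw.e₂ B₁ B₂ S =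
      (s ⊗ₜ[A] ((1, 0) : B₁ × B₂) + (1 : S) ⊗ₜ[A] ((0, 1) : B₁ × B₂)) *
        (Groth.Agent.DivPow.ProdLaw.i₁ S x + Groth.Agent.DivPow.ProdLaw.e₂ B₁ B₂ S) by
        rw [show s ⊗ₜ[A] ((1, 0) : B₁ × B₂) = s • Groth.Agent.DivPow.ProdLaw.e₁ B₁ B₂ S by
          simp [Groth.Agent.DivPow.ProdLaw.e₁, TensorProduct.smul_tmul']]
        rw [show (1 : S) ⊗ₜ[A] ((0, 1) : B₁ × B₂) = Groth.Agent.DivPow.ProdLaw.e₂ B₁ B₂ S from rfl, add_mul, mul_add, mul_add,
          smul_mul_assoc, smul_mul_assoc, ← Groth.Agent.DivPow.ProdLaw.i₁_one (B₂ := B₂), ← Groth.Agent.DivPow.ProdLaw.i₁_mul,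
          one_mul, Groth.Agent.DivPow.ProdLaw.i₁_mul_e₂, mul_comm (Groth.Agent.DivPow.ProdLaw.e₂ B₁ B₂ S),
          Groth.Agent.DivPow.ProdLaw.i₁_mul_e₂, (Groth.Agent.DivPow.ProdLaw.e_idem S).2.1, smul_zero, add_zero, zero_add,
          Groth.Agent.DivPow.ProdLaw.i₁_smul],
      (F.mult S).2, h₁, Algebra.smul_def]
    rfl
  have hom₂ : PolLaw.IsHomog (Groth.Agent.DivPow.ProdLaw.law₂ F) d₂ := by
    intro S _ _ s x
    show F.law.toFun' S _ = s ^ d₂ • F.law.toFun' S _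
    rw [show Groth.Agent.DivPow.ProdLaw.e₁ B₁ B₂ S + Groth.Agent.DivPow.ProdLaw.i₂ S (s • x) =
      (s ⊗ₜ[A] ((0, 1) : B₁ × B₂) + (1 : S) ⊗ₜ[A] ((1, 0) : B₁ × B₂)) *
        (Groth.Agent.DivPow.ProdLaw.e₁ B₁ B₂ S + Groth.Agent.DivPow.ProdLaw.i₂ S x) by
        rw [show s ⊗ₜ[A] ((0, 1) : B₁ × B₂) = s • Groth.Agent.DivPow.ProdLaw.e₂ B₁ B₂ S by
          simp [Groth.Agent.DivPow.ProdLaw.e₂, TensorProduct.smul_tmul']]
        rw [show (1 : S) ⊗ₜ[A] ((1, 0) : B₁ × B₂) = Groth.Agent.DivPow.ProdLaw.e₁ B₁ B₂ S from rfl, add_mul, mul_add, mul_add,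
          smul_mul_assoc, smul_mul_assoc, ← Groth.Agent.DivPow.ProdLaw.i₂_one (B₁ := B₁), ← Groth.Agent.DivPow.ProdLaw.i₂_mul,
          one_mul, Groth.Agent.DivPow.ProdLaw.i₂_mul_e₁, (Groth.Agent.DivPow.ProdLaw.e_idem S).1,
          mul_comm (Groth.Agent.DivPow.ProdLaw.e₁ B₁ B₂ S), Groth.Agent.DivPow.ProdLaw.i₂_mul_e₁, smul_zero, add_zero, zero_add,
          Groth.Agent.DivPow.ProdLaw.i₂_smul, add_comm],
      (F.mult S).2, h₂, Algebra.smul_def]
    rfl
  refine ⟨d₁, d₂, hd, ⟨⟨_, hom₁, Groth.Agent.DivPow.ProdLaw.isMult₁ F⟩, ⟨_, hom₂, Groth.Agent.DivPow.ProdLaw.isMult₂ F⟩,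
    fun S _ _ x => ?_⟩, fun e₁ e₂ G₁ G₂ hG => ?_⟩
  · show F.law.toFun' S x = F.law.toFun' S _ * F.law.toFun' S _
    rw [← (F.mult S).2, Groth.Agent.DivPow.ProdLaw.decomp]
  · let R := Polynomial A
    have key : ∀ (n : ℕ) (e : ℕ), (Polynomial.X ^ n : R) ⊗ₜ[A] (1 : A) = (Polynomial.X ^ e : R) ⊗ₜ[A] (1 : A) → e = n := by
      intro n e h
      simpa [R] using (congrArg (fun y => (TensorProduct.rid A R y).natDegree) h).symm
    refine ⟨key _ _ ?_, key _ _ ?_⟩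
    · rw [← h₁ R Polynomial.X, hG R, map_add, map_add, LinearMap.lTensor_tmul, LinearMap.lTensor_tmul, LinearMap.lTensor_tmul,
        LinearMap.lTensor_tmul]
      simp only [LinearMap.fst_apply, LinearMap.snd_apply, TensorProduct.tmul_zero, add_zero, zero_add]
      rw [show (Polynomial.X : R) ⊗ₜ[A] (1 : B₁) = (Polynomial.X : R) • (1 : R ⊗[A] B₁) by
        rw [Algebra.TensorProduct.one_def, TensorProduct.smul_tmul', smul_eq_mul, mul_one], G₁.homog, (G₁.mult R).1]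
      rw [← Algebra.TensorProduct.one_def, (G₂.mult R).1, mul_one, Algebra.TensorProduct.one_def, TensorProduct.smul_tmul', smul_eq_mul, mul_one]
    · rw [← h₂ R Polynomial.X, hG R, map_add, map_add, LinearMap.lTensor_tmul, LinearMap.lTensor_tmul, LinearMap.lTensor_tmul,
        LinearMap.lTensor_tmul]
      simp only [LinearMap.fst_apply, LinearMap.snd_apply, TensorProduct.tmul_zero, add_zero, zero_add]
      rw [show (Polynomial.X : R) ⊗ₜ[A] (1 : B₂) = (Polynomial.X : R) • (1 : R ⊗[A] B₂) by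
        rw [Algebra.TensorProduct.one_def, TensorProduct.smul_tmul', smul_eq_mul, mul_one], G₂.homog, (G₂.mult R).1]
      rw [← Algebra.TensorProduct.one_def, (G₁.mult R).1, one_mul, Algebra.TensorProduct.one_def, TensorProduct.smul_tmul', smul_eq_mul, mul_one]

end Groth.Agent.S13719
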