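import Groth.Statements.S1372
import Mathlib.AlgebraicGeometry.Morphisms.UniversallyOpen
import Mathlib.AlgebraicGeometry.PullbackCarrier
import Mathlib.RingTheory.TensorProduct.MvPolynomial
import Mathlib.Algebra.Category.Ring.Constructions

set_option autoImplicit false
set_option backward.isDefEq.respectTransparency false
set_option linter.style.haveILetI false
universe u
open FlatMor

namespace Groth.Agent.S1372

open AlgebraicGeometry CategoryTheory Limits TensorProduct

theorem isOpenMap_comap {A B R : Type u} [CommRing A] [CommRing B] [Algebra A B] [CommRing R] [Algebra A R] {d : ℕ}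
    (b : Fin d → B) (hb : Submodule.span A (Set.range b) = ⊤)
    (hopen : IsOpen (PrimeSpectrum.comap (MvPolynomial.map (σ := Fin d) (algebraMap A B)) ''
        (PrimeSpectrum.basicOpen (∑ i : Fin d, MvPolynomial.X i * MvPolynomial.C (b i)) : Set (PrimeSpectrum (MvPolynomial (Fin d) B))))) :
    IsOpenMap (PrimeSpectrum.comap (algebraMap R (R ⊗[A] B))) := by
  rw [PrimeSpectrum.isTopologicalBasis_basic_opens.isOpenMap_iff]
  rintro _ ⟨g, rfl⟩
  obtain ⟨r, hr⟩ : ∃ r : Fin d → R, ∑ i, r i ⊗ₜ[A] b i = g := by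
    induction g using TensorProduct.induction_on with
    | zero => exact ⟨0, by simp⟩
    | tmul s y =>
      obtain ⟨c, hc⟩ := (Submodule.mem_span_range_iff_exists_fun A).mp (hb ▸ Submodule.mem_top : y ∈ Submodule.span A (Set.range b))
      refine ⟨fun i => c i • s, ?_⟩
      rw [← hc, tmul_sum]
      exact Finset.sum_congr rfl fun i _ => smul_tmul (c i) s (b i)
    | add x y hx hy =>
      obtain ⟨r, rfl⟩ := hx
      obtain ⟨r', rfl⟩ := hy
      exact ⟨r + r', by simp [add_tmul, Finset.sum_add_distrib]⟩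
  letI : Algebra (MvPolynomial (Fin d) A) (MvPolynomial (Fin d) B) := MvPolynomial.algebraMvPolynomial
  let Ψ : MvPolynomial (Fin d) A →+* R := MvPolynomial.eval₂Hom (algebraMap A R) r
  let Φ : MvPolynomial (Fin d) B →+* R ⊗[A] B :=
    MvPolynomial.eval₂Hom (Algebra.TensorProduct.includeRight : B →ₐ[A] R ⊗[A] B).toRingHom (fun i => r i ⊗ₜ[A] 1)
  have hΦ : Φ (∑ i : Fin d, MvPolynomial.X i * MvPolynomial.C (b i)) = g := by
    simp [Φ, ← hr]
  have t := CommRingCat.isPushout_of_isPushout A B (MvPolynomial (Fin d) A) (MvPolynomial (Fin d) B)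
  have s : IsPushout (CommRingCat.ofHom (algebraMap A B))
      (CommRingCat.ofHom (algebraMap A (MvPolynomial (Fin d) A)) ≫ CommRingCat.ofHom Ψ)
      (CommRingCat.ofHom (algebraMap B (MvPolynomial (Fin d) B)) ≫ CommRingCat.ofHom Φ)
      (CommRingCat.ofHom (algebraMap R (R ⊗[A] B))) := by
    convert (CommRingCat.isPushout_tensorProduct A R B).flip using 1
    · ext x
      simp [Ψ]
    · ext x
      simp [Φ]
    all_goals rfl
  have p : CommRingCat.ofHom (algebraMap (MvPolynomial (Fin d) A) (MvPolynomial (Fin d) B)) ≫ CommRingCat.ofHom Φ =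
      CommRingCat.ofHom Ψ ≫ CommRingCat.ofHom (algebraMap R (R ⊗[A] B)) := by
    apply CommRingCat.hom_ext
    apply MvPolynomial.ringHom_ext
    · intro x
      show Φ (MvPolynomial.map (algebraMap A B) (MvPolynomial.C x)) = algebraMap R (R ⊗[A] B) (Ψ (MvPolynomial.C x))
      rw [MvPolynomial.map_C]
      simp [Φ, Ψ]
    · intro i
      show Φ (MvPolynomial.map (algebraMap A B) (MvPolynomial.X i)) = algebraMap R (R ⊗[A] B) (Ψ (MvPolynomial.X i))
      rw [MvPolynomial.map_X]
      simp [Φ, Ψ]
  have sq := isPullback_SpecMap_of_isPushout _ _ _ _ (IsPushout.of_top s p t)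
  have e : PrimeSpectrum.comap (algebraMap R (R ⊗[A] B)) '' (PrimeSpectrum.basicOpen g : Set _) =
      PrimeSpectrum.comap Ψ ⁻¹' (PrimeSpectrum.comap (MvPolynomial.map (σ := Fin d) (algebraMap A B)) ''
        (PrimeSpectrum.basicOpen (∑ i : Fin d, MvPolynomial.X i * MvPolynomial.C (b i)) : Set (PrimeSpectrum (MvPolynomial (Fin d) B)))) := by
    ext P
    constructor
    · rintro ⟨Q, hQ, rfl⟩
      refine ⟨PrimeSpectrum.comap Φ Q, fun h => hQ (by rw [← hΦ]; exact h), ?_⟩
      exact (congr($(sq.w) Q) : _)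
    · rintro ⟨q, hq, hqP⟩
      obtain ⟨Q, hQ1, hQ2⟩ := Scheme.exists_preimage_of_isPullback sq q P hqP
      refine ⟨Q, fun h => hq ?_, hQ2⟩
      rw [← hΦ] at h
      rw [← hQ1]
      exact h
  rw [e]
  exact hopen.preimage (PrimeSpectrum.continuous_comap Ψ)

open AlgebraicGeometry CategoryTheory Limits in
/-- Let A → B be a ring map and b_1, ..., b_d elements generating B as an A-module. Let h = Σ x_i b_i in
the polynomial ring B[x_1, ..., x_d]. Then universal openness of Spec B → Spec A is equivalent to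
openness of the image in Spec A[x_1, ..., x_d] of the basic open D(h). -/
theorem result {A B : Type u} [CommRing A] [CommRing B] [Algebra A B] {d : ℕ} (b : Fin d → B)
    (hb : Submodule.span A (Set.range b) = ⊤) :
    UniversallyOpen (Spec.map (CommRingCat.ofHom (algebraMap A B))) ↔
      IsOpen (PrimeSpectrum.comap (MvPolynomial.map (σ := Fin d) (algebraMap A B)) ''
        (PrimeSpectrum.basicOpen (∑ i : Fin d, MvPolynomial.X i * MvPolynomial.C (b i)) : Set (PrimeSpectrum (MvPolynomial (Fin d) B)))) := by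
  constructor
  · intro hu
    letI : Algebra (MvPolynomial (Fin d) A) (MvPolynomial (Fin d) B) := MvPolynomial.algebraMvPolynomial
    have ho : IsOpenMap (Spec.map (CommRingCat.ofHom (algebraMap (MvPolynomial (Fin d) A) (MvPolynomial (Fin d) B)))) :=
      hu.universally_isOpenMap _ _ _ (isPullback_SpecMap_of_isPushout _ _ _ _
        (CommRingCat.isPushout_of_isPushout A B (MvPolynomial (Fin d) A) (MvPolynomial (Fin d) B))).flip
    exact ho _ (PrimeSpectrum.isOpen_basicOpen)
  · intro hopen
    refine ⟨MorphismProperty.universally_mk' _ _ fun {T} g _ => ?_⟩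
    wlog hT : ∃ R, T = Spec R generalizing T
    · refine (IsZariskiLocalAtTarget.iff_of_openCover T.affineCover).mpr fun i ↦ ?_
      refine (MorphismProperty.cancel_left_of_respectsIso _
        ((pullbackRightPullbackFstIso ..).inv ≫ (pullbackSymmetry ..).hom) _).mp ?_
      simpa [Scheme.Cover.pullbackHom] using! this _ _ ⟨_, rfl⟩
    obtain ⟨R, rfl⟩ := hT
    obtain ⟨ψ, rfl⟩ := Spec.map_surjective g
    algebraize [ψ.hom]
    refine (MorphismProperty.cancel_left_of_respectsIso _ (pullbackSpecIso A R B).inv _).mp ?_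
    convert_to! topologically _ (Spec.map <| CommRingCat.ofHom (algebraMap R (TensorProduct A R B)))
    · exact pullbackSpecIso_inv_fst ..
    exact isOpenMap_comap b hb hopen

end Groth.Agent.S1372
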