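import Groth.Statements.S13720
-- import your own Groth.Agent.* helpers here

set_option autoImplicit false
universe u
open scoped TensorProduct
open ZeroCyc

namespace Groth.Agent.S13720

/-- Let B be the filtered direct limit of a directed system (B_i, t_ij : B_i → B_j) of commutative
algebras over the commutative ring A, with structure maps φ_i : B_i → B (jointly surjective, and an
element of B_i vanishing in B already vanishes in some B_j), and let F : B → C be a multiplicative
polynomial law homogeneous of degree d, with restrictions F_i = F ∘ φ_i. Then an element b of B lies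
in the kernel of F if and only if it is the image of some x ∈ B_i whose images in B_j lie in the
kernel of F_j for every j ≥ i; that is, the kernel of F is the direct limit of the kernels of the
F_i. -/
theorem result {A : Type u} [CommRing A] {B : Type u} [CommRing B] [Algebra A B]
    {C : Type u} [CommRing C] [Algebra A C] {ι : Type u} [Preorder ι] [IsDirected ι (fun i j => i ≤ j)] [Nonempty ι]
    (Bi : ι → Type u) [∀ i, CommRing (Bi i)] [∀ i, Algebra A (Bi i)]
    (t : ∀ i j : ι, i ≤ j → (Bi i →ₐ[A] Bi j)) (φ : ∀ i : ι, Bi i →ₐ[A] B)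
    (hcomp : ∀ (i j : ι) (h : i ≤ j), (φ j).comp (t i j h) = φ i)
    (hsurj : ∀ b : B, ∃ (i : ι) (x : Bi i), φ i x = b)
    (hzero : ∀ (i : ι) (x : Bi i), φ i x = 0 → ∃ (j : ι) (h : i ≤ j), t i j h x = 0)
    {d : ℕ} (F : PolLaw.MulLaw A B C d) (b : B) :
    b ∈ PolLaw.ker F.law ↔ ∃ (i : ι) (x : Bi i), φ i x = b ∧
      ∀ (j : ι) (h : i ≤ j), t i j h x ∈ PolLaw.ker (F.precomp (φ j)).law := by
  constructor
  · intro hb
    obtain ⟨i, x, rfl⟩ := hsurj b
    refine ⟨i, x, rfl, fun j h S _ _ y w => ?_⟩
    show F.law.toFun' S ((φ j).toLinearMap.lTensor S (y + w * ((1 : S) ⊗ₜ[A] t i j h x))) =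
      F.law.toFun' S ((φ j).toLinearMap.lTensor S y)
    simp only [PolLaw.lTensor_algHom_apply, map_add, map_mul, Algebra.TensorProduct.map_tmul, AlgHom.id_apply,
      show φ j (t i j h x) = φ i x from DFunLike.congr_fun (hcomp i j h) x]
    exact hb S _ _
  · rintro ⟨i, x, rfl, hx⟩ S _ _ y w
    have key : ∀ y : S ⊗[A] B, ∃ i, ∀ j, i ≤ j → ∃ y' : S ⊗[A] Bi j, (φ j).toLinearMap.lTensor S y' = y := by
      intro y
      induction y using TensorProduct.induction_on with
      | zero => exact ⟨i, fun j _ => ⟨0, map_zero _⟩⟩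
      | tmul s b =>
        obtain ⟨k, z, rfl⟩ := hsurj b
        exact ⟨k, fun j h => ⟨s ⊗ₜ[A] t k j h z, by
          rw [LinearMap.lTensor_tmul, AlgHom.toLinearMap_apply,
            show φ j (t k j h z) = φ k z from DFunLike.congr_fun (hcomp k j h) z]⟩⟩
      | add a b ha hb =>
        obtain ⟨k, hk⟩ := ha
        obtain ⟨l, hl⟩ := hb
        obtain ⟨n, hkn, hln⟩ := exists_ge_ge k l
        refine ⟨n, fun j h => ?_⟩
        obtain ⟨a', rfl⟩ := hk j (hkn.trans h)
        obtain ⟨b', rfl⟩ := hl j (hln.trans h)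
        exact ⟨a' + b', map_add _ _ _⟩
    obtain ⟨k, hk⟩ := key y
    obtain ⟨l, hl⟩ := key w
    obtain ⟨n, hkn, hln⟩ := exists_ge_ge k l
    obtain ⟨j, hnj, hij⟩ := exists_ge_ge n i
    obtain ⟨y', rfl⟩ := hk j (hkn.trans hnj)
    obtain ⟨w', rfl⟩ := hl j (hln.trans hnj)
    have h : F.law.toFun' S ((φ j).toLinearMap.lTensor S (y' + w' * ((1 : S) ⊗ₜ[A] t i j hij x))) =
        F.law.toFun' S ((φ j).toLinearMap.lTensor S y') := hx j hij S y' w'
    simp only [PolLaw.lTensor_algHom_apply, map_add, map_mul, Algebra.TensorProduct.map_tmul, AlgHom.id_apply,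
      show φ j (t i j hij x) = φ i x from DFunLike.congr_fun (hcomp i j hij) x] at h ⊢
    exact h

end Groth.Agent.S13720
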