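import Groth.Statements.S13721
import Groth.Agent.DivPow.KerFin

set_option autoImplicit false
universe u
open scoped TensorProduct
open ZeroCyc

namespace Groth.Agent.S13721

/-- Let F : B → A be a multiplicative polynomial law homogeneous of degree d over the commutative ring
A, on a commutative A-algebra B which is finite as an A-module, and let A' be the filtered direct
limit of a directed system (A'_i, t_ij) of commutative A-algebras (t_ii the identity, t_jk ∘ t_ij =
t_ik) with structure maps φ_i : A'_i → A' (compatible with the t_ij, jointly surjective, and an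
element of A'_i vanishing in A' already vanishes in some A'_j). Then the kernel of the base change
of F to A', an ideal of A' ⊗_A B, is the supremum over i of the extensions along φ_i ⊗ B of the
kernels of the base changes of F to the A'_i: the kernel of the base-changed law is the direct limit
of the kernels. (The published statement has no finiteness hypothesis on B and is false without one:
for a suitable algebra B that is not finitely generated and a suitable directed system of quotients
of A, an element of A' ⊗_A B lies in the kernel over the limit although it comes from the kernel at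
no finite stage, because the conditions cutting out the kernel at an element are infinitely many and
die one at a time along the system; the published proof's reduction to finite B does not go through.
This row assumes B finite over A, the case that proof establishes.) -/
theorem result {A : Type u} [CommRing A] {B : Type u} [CommRing B] [Algebra A B]
    [Module.Finite A B] {A' : Type u} [CommRing A'] [Algebra A A'] {ι : Type u} [Preorder ι] [IsDirected ι (fun i j => i ≤ j)] [Nonempty ι]
    (Ai : ι → Type u) [∀ i, CommRing (Ai i)] [∀ i, Algebra A (Ai i)]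
    (t : ∀ i j : ι, i ≤ j → (Ai i →ₐ[A] Ai j)) (φ : ∀ i : ι, Ai i →ₐ[A] A')
    (hcomp : ∀ (i j : ι) (h : i ≤ j), (φ j).comp (t i j h) = φ i)
    (hsurj : ∀ a : A', ∃ (i : ι) (x : Ai i), φ i x = a)
    (hzero : ∀ (i : ι) (x : Ai i), φ i x = 0 → ∃ (j : ι) (h : i ≤ j), t i j h x = 0)
    (hid : ∀ (i : ι) (h : i ≤ i), t i i h = AlgHom.id A (Ai i))
    (htrans : ∀ (i j k : ι) (hij : i ≤ j) (hjk : j ≤ k), (t j k hjk).comp (t i j hij) = t i k (hij.trans hjk))
    {d : ℕ} (F : PolLaw.MulLaw A B A d) :
    PolLaw.kerBC F.law A' =
      ⨆ i : ι, (PolLaw.kerBC F.law (Ai i)).map (Algebra.TensorProduct.map (φ i) (AlgHom.id A B)) := by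
  classical
  refine le_antisymm (fun z hz => ?_) (iSup_le fun i => Ideal.map_le_iff_le_comap.mpr fun y hy =>
    Groth.Agent.DivPow.map_mem_kerBC F (φ i) hy)
  obtain ⟨n, g, hg⟩ := Module.Finite.exists_fin (R := A) (M := B)
  let m : ULift.{u} (Fin n) → B := fun i => g i.down
  have hm : Submodule.span A (Set.range m) = ⊤ := by
    rw [← hg]
    congr 1
    exact EquivLike.range_comp g Equiv.ulift
  obtain ⟨i, y, rfl⟩ : ∃ (i : ι) (y : Ai i ⊗[A] B), Algebra.TensorProduct.map (φ i) (AlgHom.id A B) y = z := by
    clear hz
    induction z using TensorProduct.induction_on with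
    | zero => exact ⟨Classical.arbitrary ι, 0, map_zero _⟩
    | tmul a b =>
      obtain ⟨i, x, rfl⟩ := hsurj a
      exact ⟨i, x ⊗ₜ[A] b, rfl⟩
    | add a b ha hb =>
      obtain ⟨i, x, rfl⟩ := ha
      obtain ⟨j, y, rfl⟩ := hb
      obtain ⟨k, hik, hjk⟩ := exists_ge_ge i j
      refine ⟨k, Algebra.TensorProduct.map (t i k hik) (AlgHom.id A B) x +
        Algebra.TensorProduct.map (t j k hjk) (AlgHom.id A B) y, ?_⟩
      rw [map_add, ← AlgHom.comp_apply, ← AlgHom.comp_apply (Algebra.TensorProduct.map (φ k) _),
        ← Algebra.TensorProduct.map_comp, ← Algebra.TensorProduct.map_comp, hcomp, hcomp]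
      rfl
  let D := Groth.Agent.DivPow.defect F m (Ai i) y
  have hD : D.map (φ i).toRingHom = 0 := by
    rw [← Groth.Agent.DivPow.defect_map]
    exact (Groth.Agent.DivPow.mem_kerBC_iff_defect F m A' hm _).mp hz
  have key : ∀ s : Finset (ULift.{u} (Fin n) ⊕ ULift.{u} (Fin n) →₀ ℕ),
      ∃ (j : ι) (h : i ≤ j), ∀ α ∈ s, t i j h (D.coeff α) = 0 := by
    intro s
    induction s using Finset.induction_on with
    | empty => exact ⟨i, le_rfl, by simp⟩
    | insert α s _ ih =>
      obtain ⟨j, hij, hj⟩ := ih
      have h1 : φ j (t i j hij (D.coeff α)) = 0 := by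
        rw [← AlgHom.comp_apply, hcomp]
        have := congrArg (MvPolynomial.coeff α) hD
        rwa [MvPolynomial.coeff_map, MvPolynomial.coeff_zero] at this
      obtain ⟨k, hjk, hk⟩ := hzero j _ h1
      refine ⟨k, hij.trans hjk, fun β hβ => ?_⟩
      rw [← htrans i j k hij hjk, AlgHom.comp_apply]
      rcases Finset.mem_insert.mp hβ with rfl | hβ
      · exact hk
      · rw [hj β hβ, map_zero]
  obtain ⟨j, hij, hj⟩ := key D.support
  have hy : Algebra.TensorProduct.map (t i j hij) (AlgHom.id A B) y ∈ PolLaw.kerBC F.law (Ai j) := by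
    rw [Groth.Agent.DivPow.mem_kerBC_iff_defect F m (Ai j) hm, Groth.Agent.DivPow.defect_map]
    refine MvPolynomial.ext _ _ fun α => ?_
    rw [MvPolynomial.coeff_map, MvPolynomial.coeff_zero]
    by_cases hα : α ∈ D.support
    · exact hj α hα
    · rw [MvPolynomial.notMem_support_iff.mp hα, map_zero]
  have h := Ideal.mem_iSup_of_mem (S := fun i => (PolLaw.kerBC F.law (Ai i)).map (Algebra.TensorProduct.map (φ i) (AlgHom.id A B))) j
    (Ideal.mem_map_of_mem (Algebra.TensorProduct.map (φ j) (AlgHom.id A B)) hy)
  rwa [← AlgHom.comp_apply, ← Algebra.TensorProduct.map_comp, hcomp] at h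

end Groth.Agent.S13721
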