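import Groth.Statements.S13722
import Groth.Agent.DivPow.KerApps

set_option autoImplicit false
universe u
open scoped TensorProduct
open ZeroCyc

namespace Groth.Agent.S13722

/-- Let B and C be commutative algebras over the commutative ring A and F : B → C a multiplicative
polynomial law homogeneous of degree d. If C is reduced, then the quotient of B by the kernel of F
is reduced. In particular the image of a family of zero-cycles parametrised by a reduced base is
reduced. -/
theorem result {A : Type u} [CommRing A] {B : Type u} [CommRing B] [Algebra A B]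
    {C : Type u} [CommRing C] [Algebra A C] [IsReduced C] {d : ℕ} (F : PolLaw.MulLaw A B C d) :
    IsReduced (PolLaw.image F.law) := by
  refine ⟨fun x hx => ?_⟩
  obtain ⟨b, rfl⟩ := Ideal.Quotient.mk_surjective x
  obtain ⟨n, hn⟩ := hx
  rw [← map_pow, Ideal.Quotient.eq_zero_iff_mem] at hn
  rw [Ideal.Quotient.eq_zero_iff_mem]
  intro S _ _ x w
  obtain ⟨s, t, rfl⟩ := Groth.Agent.DivPow.exists_sum (id : B → B) Groth.Agent.DivPow.span_range_id S x
  obtain ⟨s', t', rfl⟩ := Groth.Agent.DivPow.exists_sum (id : B → B) Groth.Agent.DivPow.span_range_id S w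
  suffices h : F.law.toFun' (MvPolynomial (B ⊕ B) A) ((∑ i ∈ s, MvPolynomial.X (Sum.inl i) ⊗ₜ[A] i) +
      (∑ i ∈ s', MvPolynomial.X (Sum.inr i) ⊗ₜ[A] i) * ((1 : MvPolynomial (B ⊕ B) A) ⊗ₜ[A] b)) =
      F.law.toFun' (MvPolynomial (B ⊕ B) A) (∑ i ∈ s, MvPolynomial.X (Sum.inl i) ⊗ₜ[A] i) by
    let ev : MvPolynomial (B ⊕ B) A →ₐ[A] S := MvPolynomial.aeval (Sum.elim t t')
    have h' := congrArg (ev.toLinearMap.rTensor C) h
    rw [PolynomialLaw.isCompat_apply', PolynomialLaw.isCompat_apply'] at h'
    simpa [ev, Finset.sum_mul, map_sum] using h'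
  refine Groth.Agent.DivPow.co_ext fun α => sub_eq_zero.mp (IsNilpotent.eq_zero (nilpotent_iff_mem_prime.mpr ?_))
  intro p hp
  let L := AlgebraicClosure p.ResidueField
  let f₀ : C →ₐ[A] L := IsScalarTower.toAlgHom A C L
  obtain ⟨g, hg⟩ := Groth.Agent.DivPow.exists_split F f₀
  have hval : ∀ (S : Type u) [CommSemiring S] [Algebra A S] (x : S ⊗[A] B), f₀.toLinearMap.lTensor S (F.law.toFun' S x) =
      ∏ j, Algebra.TensorProduct.map (AlgHom.id S S) (g j) x := fun S _ _ x =>
    congrFun (congrArg (fun G : B →ₚₗ[A] L => G.toFun' S) hg) x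
  have hgb : ∀ j, g j b = 0 := by
    intro j
    refine (pow_eq_zero_iff (n := n) ?_).mp ?_
    · rintro rfl
      rw [pow_zero] at hn
      have h := hn (Polynomial A) 0 ((Polynomial.X : Polynomial A) • 1)
      rw [← Algebra.TensorProduct.one_def, mul_one, zero_add, F.homog, (F.mult _).1, ← zero_smul (Polynomial A) (1 : Polynomial A ⊗[A] B),
        F.homog, (F.mult _).1, zero_pow (by have := j.isLt; omega), zero_smul] at h
      have h' := congrArg (fun z => Algebra.TensorProduct.lift ((Algebra.ofId A C).comp (Polynomial.aeval (1 : A)))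
        (AlgHom.id A C) (fun _ _ => Commute.all _ _) z) h
      simp [Algebra.smul_def] at h'
      exact one_ne_zero (α := L) (by simpa using congrArg f₀ h')
    rw [← map_pow]
    have h := congrArg (f₀.toLinearMap.lTensor (Polynomial A)) (hn (Polynomial A) ((Polynomial.X : Polynomial A) • 1) 1)
    rw [hval, hval, one_mul] at h
    have h' := congrArg (Algebra.TensorProduct.lift (Polynomial.aeval (- g j (b ^ n))) (AlgHom.id A L)
      (fun _ _ => Commute.all _ _)) h
    rw [map_prod, map_prod, Finset.prod_eq_zero (Finset.mem_univ j) (by simp [Algebra.TensorProduct.one_def, TensorProduct.smul_tmul'])] at h'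
    obtain ⟨k, -, hk⟩ := Finset.prod_eq_zero_iff.mp h'.symm
    simpa [Algebra.TensorProduct.one_def, TensorProduct.smul_tmul'] using hk
  have hker : ∀ c : C, f₀ c = 0 → c ∈ p := by
    intro c hc
    rw [IsScalarTower.coe_toAlgHom', IsScalarTower.algebraMap_apply C p.ResidueField L, map_eq_zero] at hc
    exact Ideal.algebraMap_residueField_eq_zero.mp hc
  refine hker _ ?_
  rw [map_sub, sub_eq_zero]
  show f₀.toLinearMap _ = f₀.toLinearMap _
  rw [← Groth.Agent.DivPow.co_lTensor, ← Groth.Agent.DivPow.co_lTensor,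
    hval, hval]
  congr 1
  refine Finset.prod_congr rfl fun j _ => ?_
  rw [map_add, map_mul, Algebra.TensorProduct.map_tmul, hgb, TensorProduct.tmul_zero, mul_zero, add_zero]

end Groth.Agent.S13722
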