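import Groth.Statements.S13724
import Groth.Agent.DivPow.KerFibre

set_option autoImplicit false
universe u
open scoped TensorProduct
open ZeroCyc

namespace Groth.Agent.S13724

/-- Let A be a commutative ring with finitely many maximal ideals, B a commutative A-algebra and F : B →
A a multiplicative polynomial law homogeneous of degree d. Then B/ker F, the coordinate ring of the
image of the family of zero-cycles defined by F, has finitely many maximal ideals. -/
theorem result {A : Type u} [CommRing A] [Finite (MaximalSpectrum A)] {B : Type u} [CommRing B] [Algebra A B]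
    {d : ℕ} (F : PolLaw.MulLaw A B A d) :
    Finite (MaximalSpectrum (PolLaw.image F.law)) := by
  haveI := Groth.Agent.DivPow.isIntegral_image F
  let e : A ⊗[A] PolLaw.image F.law ≃ₐ[A] PolLaw.image F.law := Algebra.TensorProduct.lid A (PolLaw.image F.law)
  let f : MaximalSpectrum (PolLaw.image F.law) → MaximalSpectrum A := fun M =>
    ⟨M.asIdeal.comap (algebraMap A _), Ideal.isMaximal_comap_of_isIntegral_of_isMaximal M.asIdeal⟩
  let g : MaximalSpectrum (PolLaw.image F.law) → PrimeSpectrum (A ⊗[A] PolLaw.image F.law) := fun M =>
    PrimeSpectrum.comap e.toAlgHom.toRingHom M.toPrimeSpectrum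
  have hg : Function.Injective g :=
    (PrimeSpectrum.comap_injective_of_surjective _ e.surjective).comp MaximalSpectrum.toPrimeSpectrum_injective
  have hfib : ∀ m, (f ⁻¹' {m}).Finite := by
    intro m
    refine (Set.Finite.preimage hg.injOn (Groth.Agent.DivPow.card_fibre_le F A m.toPrimeSpectrum).1).subset fun M hM => ?_
    show PrimeSpectrum.comap _ (g M) = _
    rw [← (show f M = m from hM)]
    refine PrimeSpectrum.ext (Ideal.ext fun a => ?_)
    show e (algebraMap A _ a) ∈ M.asIdeal ↔ _
    rw [e.commutes]
    rfl
  have := Set.finite_univ (α := MaximalSpectrum A) |>.preimage' (f := f) fun m _ => hfib m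
  rw [Set.preimage_univ] at this
  exact Set.finite_univ_iff.mp this

end Groth.Agent.S13724
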