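import Groth.Statements.S13725
-- import your own Groth.Agent.* helpers here

set_option autoImplicit false
universe u
open scoped TensorProduct
open ZeroCyc

namespace Groth.Agent.S13725

/-- Let k be a field of characteristic p > 0 and let F : k → k be the law x ↦ x^p, multiplicative and
homogeneous of degree p over k. The kernel of F is the zero ideal, but after the flat base change k
→ A' = k[X]/(X^p) the kernel of the base-changed law on A' ⊗_k k is not zero (the class of X lies in
it). So in characteristic p, forming the kernel of a multiplicative law is not compatible with flat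
base change. -/
theorem result {k : Type u} [Field k] (p : ℕ) [Fact p.Prime] [CharP k p] :
    PolLaw.ker (PolLaw.MulLaw.pow k k p).law = ⊥ ∧
      PolLaw.kerBC (PolLaw.MulLaw.pow k k p).law (AdjoinRoot ((Polynomial.X : Polynomial k) ^ p)) ≠ ⊥ := by
  classical
  have hp := (Fact.out : p.Prime)
  refine ⟨(Ideal.eq_bot_or_top _).resolve_right fun h => ?_, fun h => ?_⟩
  · have h1 := (Ideal.eq_top_iff_one _).mp h (Polynomial k) 0 ((Polynomial.X : Polynomial k) ⊗ₜ[k] (1 : k))
    change ((0 : Polynomial k ⊗[k] k) + _) ^ p = (0 : Polynomial k ⊗[k] k) ^ p at h1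
    have h2 := congrArg (TensorProduct.rid k (Polynomial k)) h1
    simp [zero_pow hp.ne_zero] at h2
  · let R₀ := AdjoinRoot ((Polynomial.X : Polynomial k) ^ p)
    let c : R₀ := AdjoinRoot.root _
    have hc : c ⊗ₜ[k] (1 : k) ∈ PolLaw.kerBC (PolLaw.MulLaw.pow k k p).law R₀ := by
      intro R _ _ _ _ x w
      show (x + _) ^ p = x ^ p
      have h0 : (p : R ⊗[k] k) = 0 := by
        rw [← map_natCast (algebraMap k (R ⊗[k] k)), CharP.cast_eq_zero, map_zero]
      rw [add_pow_prime_eq hp, mul_pow, ← map_pow, Algebra.TensorProduct.tmul_pow,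
        show c ^ p = 0 by simpa using AdjoinRoot.eval₂_root ((Polynomial.X : Polynomial k) ^ p), TensorProduct.zero_tmul,
        map_zero, mul_zero, add_zero, h0]
      simp
    rw [h, Ideal.mem_bot] at hc
    have h1 := congrArg (TensorProduct.rid k R₀) hc
    rw [TensorProduct.rid_tmul, map_zero, one_smul] at h1
    have h2 : Polynomial.X ^ p ∣ (Polynomial.X : Polynomial k) := AdjoinRoot.mk_eq_zero.mp h1
    have h3 := Polynomial.natDegree_le_of_dvd h2 Polynomial.X_ne_zero
    rw [Polynomial.natDegree_X_pow, Polynomial.natDegree_X] at h3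
    exact absurd h3 (by have := hp.two_le; omega)

end Groth.Agent.S13725
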