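import Groth.Statements.S13726
import Mathlib
-- import your own Groth.Agent.* helpers here

set_option autoImplicit false
universe u
open scoped TensorProduct
open ZeroCyc

namespace Groth.Agent.S13726

/-- Let k be a field of characteristic p > 0 and A = k[t_i : i ∈ ℕ]/(t_i^p : i ∈ ℕ). The law x ↦ x^p
from A to A is multiplicative and homogeneous of degree p over A; its kernel is the ideal generated
by the classes of the variables t_i, and this ideal is not finitely generated. Hence the image of a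
family of zero-cycles need not be of finite presentation over the base even when X → S is. -/
theorem result {k : Type u} [Field k] (p : ℕ) [Fact p.Prime] [CharP k p] :
    PolLaw.ker (PolLaw.MulLaw.pow
        (MvPolynomial ℕ k ⧸ Ideal.span (Set.range fun i : ℕ => (MvPolynomial.X i : MvPolynomial ℕ k) ^ p))
        (MvPolynomial ℕ k ⧸ Ideal.span (Set.range fun i : ℕ => (MvPolynomial.X i : MvPolynomial ℕ k) ^ p)) p).law =
      (Ideal.span (Set.range fun i : ℕ => (MvPolynomial.X i : MvPolynomial ℕ k))).map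
        (Ideal.Quotient.mk (Ideal.span (Set.range fun i : ℕ => (MvPolynomial.X i : MvPolynomial ℕ k) ^ p))) ∧
    ¬ (PolLaw.ker (PolLaw.MulLaw.pow
        (MvPolynomial ℕ k ⧸ Ideal.span (Set.range fun i : ℕ => (MvPolynomial.X i : MvPolynomial ℕ k) ^ p))
        (MvPolynomial ℕ k ⧸ Ideal.span (Set.range fun i : ℕ => (MvPolynomial.X i : MvPolynomial ℕ k) ^ p)) p).law).FG := by
  classical
  have hp := (Fact.out : p.Prime)
  let I : Ideal (MvPolynomial ℕ k) := Ideal.span (Set.range fun i : ℕ => (MvPolynomial.X i : MvPolynomial ℕ k) ^ p)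
  let t : ℕ → MvPolynomial ℕ k ⧸ I := fun i => Ideal.Quotient.mk I (MvPolynomial.X i)
  have hm : (Ideal.span (Set.range fun i : ℕ => (MvPolynomial.X i : MvPolynomial ℕ k))).map (Ideal.Quotient.mk I) =
      Ideal.span (Set.range t) := by
    rw [Ideal.map_span, ← Set.range_comp]
    rfl
  have hpow : ∀ i, t i ^ p = 0 := fun i => by
    show Ideal.Quotient.mk I (MvPolynomial.X i) ^ p = 0
    rw [← map_pow, Ideal.Quotient.eq_zero_iff_mem]
    exact Ideal.subset_span ⟨i, rfl⟩
  have hp0 : (p : MvPolynomial ℕ k ⧸ I) = 0 := by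
    rw [← map_natCast (Ideal.Quotient.mk I), ← map_natCast (MvPolynomial.C (σ := ℕ)), CharP.cast_eq_zero, map_zero, map_zero]
  have hnil : ∀ b ∈ Ideal.span (Set.range t), b ^ p = 0 := by
    intro b hb
    induction hb using Submodule.span_induction with
    | mem x hx => obtain ⟨i, rfl⟩ := hx; exact hpow i
    | zero => exact zero_pow hp.ne_zero
    | add x y _ _ hx hy => rw [add_pow_prime_eq hp, hx, hy, hp0]; simp
    | smul a x _ hx => rw [smul_eq_mul, mul_pow, hx, mul_zero]
  have hle : Ideal.span (Set.range t) ≤ PolLaw.ker (PolLaw.MulLaw.pow (MvPolynomial ℕ k ⧸ I) (MvPolynomial ℕ k ⧸ I) p).law := by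
    intro b hb S _ _ x w
    show (x + w * ((1 : S) ⊗ₜ[MvPolynomial ℕ k ⧸ I] b)) ^ p = x ^ p
    have h0 : (p : S ⊗[MvPolynomial ℕ k ⧸ I] (MvPolynomial ℕ k ⧸ I)) = 0 := by
      rw [← nsmul_one p, Algebra.TensorProduct.one_def, TensorProduct.smul_tmul', nsmul_one,
      ← map_natCast (algebraMap (MvPolynomial ℕ k ⧸ I) S) p, hp0, map_zero, TensorProduct.zero_tmul]
    rw [add_pow_prime_eq hp, mul_pow, Algebra.TensorProduct.tmul_pow, hnil b hb, TensorProduct.tmul_zero, mul_zero, add_zero, h0]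
    simp
  let ev : MvPolynomial ℕ k ⧸ I →ₐ[k] k := Ideal.Quotient.liftₐ I (MvPolynomial.aeval (fun _ => (0 : k))) fun x hx => by
    have : I ≤ RingHom.ker (MvPolynomial.aeval (fun _ => (0 : k)) : MvPolynomial ℕ k →ₐ[k] k) :=
      Ideal.span_le.mpr (by rintro _ ⟨i, rfl⟩; simp [hp.ne_zero])
    exact this hx
  have hmax : ∀ b, ev b = 0 → b ∈ Ideal.span (Set.range t) := by
    intro b hb
    obtain ⟨q, rfl⟩ := Ideal.Quotient.mk_surjective b
    have key : ∀ q : MvPolynomial ℕ k, q - MvPolynomial.C (MvPolynomial.aeval (fun _ => (0 : k)) q) ∈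
        Ideal.span (Set.range fun i : ℕ => (MvPolynomial.X i : MvPolynomial ℕ k)) := by
      intro q
      induction q using MvPolynomial.induction_on with
      | C c => simp
      | add q r hq hr => simpa [add_sub_add_comm] using Ideal.add_mem _ hq hr
      | mul_X q i _ => simpa using Ideal.mul_mem_left (Ideal.span (Set.range fun i : ℕ => (MvPolynomial.X i : MvPolynomial ℕ k))) q (Ideal.subset_span ⟨i, rfl⟩)
    have := key q
    rw [show MvPolynomial.aeval (fun _ => (0 : k)) q = 0 from hb, map_zero, sub_zero] at this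
    rw [← hm]
    exact Ideal.mem_map_of_mem _ this
  have hker : PolLaw.ker (PolLaw.MulLaw.pow (MvPolynomial ℕ k ⧸ I) (MvPolynomial ℕ k ⧸ I) p).law = Ideal.span (Set.range t) := by
    refine le_antisymm (fun b hb => hmax b (by_contra fun hne => ?_)) hle
    have hb' : Ideal.Quotient.mk I (MvPolynomial.C (ev b)) ∈
        PolLaw.ker (PolLaw.MulLaw.pow (MvPolynomial ℕ k ⧸ I) (MvPolynomial ℕ k ⧸ I) p).law := by
      have h1 : b - Ideal.Quotient.mk I (MvPolynomial.C (ev b)) ∈ Ideal.span (Set.range t) := hmax _ (by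
        rw [map_sub, show ev (Ideal.Quotient.mk I (MvPolynomial.C (ev b))) = ev b by simp [ev], sub_self])
      simpa using Ideal.sub_mem _ hb (hle h1)
    have h2 := Ideal.eq_top_of_isUnit_mem _ hb' (((Ne.isUnit hne).map MvPolynomial.C).map (Ideal.Quotient.mk I))
    have h3 := ((Ideal.eq_top_iff_one _).mp h2) (MvPolynomial ℕ k ⧸ I) 0 1
    change ((0 : (MvPolynomial ℕ k ⧸ I) ⊗[MvPolynomial ℕ k ⧸ I] (MvPolynomial ℕ k ⧸ I)) + 1 * 1) ^ p = 0 ^ p at h3
    simp only [zero_add, ← Algebra.TensorProduct.one_def, mul_one, one_pow, zero_pow hp.ne_zero] at h3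
    have h4 := congrArg ev (congrArg (Algebra.TensorProduct.lid (MvPolynomial ℕ k ⧸ I) (MvPolynomial ℕ k ⧸ I)) h3)
    simp [hp.ne_zero] at h4
  refine ⟨hker.trans hm.symm, fun hfg => ?_⟩
  rw [hker] at hfg
  obtain ⟨s, hs⟩ := hfg
  have hfin : ∀ x ∈ s, ∃ T : Finset ℕ, x ∈ Ideal.span (t '' T) := by
    intro x hx
    have hx' : x ∈ Ideal.span (Set.range t) := hs ▸ Ideal.subset_span hx
    obtain ⟨U, hU, hxU⟩ := Submodule.mem_span_finite_of_mem_span hx'
    choose i hi using fun u : {u // u ∈ U} => hU u.2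
    refine ⟨U.attach.image i, Submodule.span_mono ?_ hxU⟩
    intro u hu
    exact ⟨i ⟨u, hu⟩, Finset.mem_image_of_mem _ (Finset.mem_attach _ _), hi ⟨u, hu⟩⟩
  choose T hT using hfin
  let T' : Finset ℕ := s.attach.biUnion fun x => T x.1 x.2
  obtain ⟨N, hN⟩ := Infinite.exists_notMem_finset T'
  let R := AdjoinRoot ((Polynomial.X : Polynomial k) ^ p)
  let χ : MvPolynomial ℕ k ⧸ I →ₐ[k] R :=
    Ideal.Quotient.liftₐ I (MvPolynomial.aeval fun j => if j = N then AdjoinRoot.root _ else 0) fun x hx => by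
      have : I ≤ RingHom.ker (MvPolynomial.aeval (fun j => if j = N then AdjoinRoot.root _ else 0) : MvPolynomial ℕ k →ₐ[k] R) := by
        refine Ideal.span_le.mpr ?_
        rintro _ ⟨i, rfl⟩
        rw [SetLike.mem_coe, RingHom.mem_ker, map_pow, MvPolynomial.aeval_X]
        split_ifs
        · simpa using AdjoinRoot.eval₂_root ((Polynomial.X : Polynomial k) ^ p)
        · exact zero_pow hp.ne_zero
      exact this hx
  have hχ : ∀ j, χ (t j) = if j = N then AdjoinRoot.root _ else 0 := fun j => by simp [χ, t]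
  have h1 : Ideal.span (Set.range t) ≤ RingHom.ker χ := by
    rw [← hs]
    refine Ideal.span_le.mpr fun x hx => (Ideal.span_le.mpr ?_ : Ideal.span (t '' T x hx) ≤ RingHom.ker χ) (hT x hx)
    rintro _ ⟨j, hj, rfl⟩
    rw [SetLike.mem_coe, RingHom.mem_ker, hχ, if_neg]
    rintro rfl
    exact hN (Finset.mem_biUnion.mpr ⟨⟨x, hx⟩, Finset.mem_attach _ _, hj⟩)
  have h2 : χ (t N) = 0 := h1 (Ideal.subset_span ⟨N, rfl⟩)
  rw [hχ, if_pos rfl] at h2
  have h3 := Polynomial.natDegree_le_of_dvd (AdjoinRoot.mk_eq_zero.mp h2) Polynomial.X_ne_zero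
  rw [Polynomial.natDegree_X_pow, Polynomial.natDegree_X] at h3
  exact absurd h3 (by have := hp.two_le; omega)

end Groth.Agent.S13726
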