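import Groth.Statements.S13727
import Groth.Agent.DivPow.KerFibre

set_option autoImplicit false
universe u
open scoped TensorProduct
open ZeroCyc

namespace Groth.Agent.S13727

/-- Let A be a commutative ring whose prime spectrum is connected, B a commutative A-algebra and F : B →
A a multiplicative polynomial law homogeneous of degree d. Then Spec(B/ker F), the support of the
family of zero-cycles of degree d defined by F, has at most d connected components (in particular
finitely many). -/
theorem result {A : Type u} [CommRing A] [ConnectedSpace (PrimeSpectrum A)]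
    {B : Type u} [CommRing B] [Algebra A B] {d : ℕ} (F : PolLaw.MulLaw A B A d) :
    Finite (ConnectedComponents (PrimeSpectrum (PolLaw.image F.law))) ∧
      Nat.card (ConnectedComponents (PrimeSpectrum (PolLaw.image F.law))) ≤ d := by
  haveI := Groth.Agent.DivPow.isIntegral_image F
  obtain ⟨q⟩ := (inferInstance : Nonempty (PrimeSpectrum A))
  obtain ⟨Qs, h1, h2⟩ := Groth.Agent.DivPow.exists_fibre_eq F A q
  let e : A ⊗[A] PolLaw.image F.law ≃ₐ[A] PolLaw.image F.law := Algebra.TensorProduct.lid A (PolLaw.image F.law)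
  let π : PrimeSpectrum (PolLaw.image F.law) → PrimeSpectrum (A ⊗[A] PolLaw.image F.law) :=
    PrimeSpectrum.comap e.toAlgHom.toRingHom
  let pts : Fin d → PrimeSpectrum (PolLaw.image F.law) := fun j => PrimeSpectrum.comap e.symm.toAlgHom.toRingHom (Qs j)
  have hπ : ∀ z, PrimeSpectrum.comap e.symm.toAlgHom.toRingHom (π z) = z := fun z => by
    refine PrimeSpectrum.ext (Ideal.ext fun a => ?_)
    show e (e.symm a) ∈ z.asIdeal ↔ _
    rw [AlgEquiv.apply_symm_apply]
  have hmeet : ∀ C : Set (PrimeSpectrum (PolLaw.image F.law)), IsClopen C → C.Nonempty → ∃ j, pts j ∈ C := by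
    intro C hC hne
    have hD : IsClopen ((PrimeSpectrum.comap e.symm.toAlgHom.toRingHom) ⁻¹' C) :=
      hC.preimage (PrimeSpectrum.continuous_comap _)
    haveI := Groth.Agent.DivPow.isIntegral_baseChange F A
    have hc : IsClopen (PrimeSpectrum.comap (algebraMap A (A ⊗[A] PolLaw.image F.law)) ''
        ((PrimeSpectrum.comap e.symm.toAlgHom.toRingHom) ⁻¹' C)) :=
      ⟨PrimeSpectrum.isClosedMap_comap_of_isIntegral _ (algebraMap_isIntegral_iff.mpr inferInstance) _ hD.1,
        Groth.Agent.DivPow.isOpenMap F A _ hD.2⟩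
    have hne' : (PrimeSpectrum.comap (algebraMap A (A ⊗[A] PolLaw.image F.law)) ''
        ((PrimeSpectrum.comap e.symm.toAlgHom.toRingHom) ⁻¹' C)).Nonempty := by
      obtain ⟨z, hz⟩ := hne
      exact ⟨_, π z, by rw [Set.mem_preimage, hπ]; exact hz, rfl⟩
    obtain ⟨Q, hQ, hQq⟩ := (hc.eq_univ hne').symm ▸ Set.mem_univ q
    obtain ⟨j, rfl⟩ := h2 Q hQq
    exact ⟨j, hQ⟩
  have hfin : {C : Set (PrimeSpectrum (PolLaw.image F.law)) | IsClopen C}.Finite := by
    refine Set.Finite.of_finite_image (f := fun C => {j | pts j ∈ C}) (Set.toFinite _) fun C hC D hD hCD => ?_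
    have key : ∀ C D : Set (PrimeSpectrum (PolLaw.image F.law)), IsClopen C → IsClopen D →
        (∀ j, pts j ∈ C → pts j ∈ D) → C ⊆ D := by
      intro C D hC hD h
      by_contra hcon
      obtain ⟨z, hzC, hzD⟩ := Set.not_subset.mp hcon
      obtain ⟨j, hj⟩ := hmeet (C \ D) (hC.diff hD) ⟨z, hzC, hzD⟩
      exact hj.2 (h j hj.1)
    exact Set.Subset.antisymm (key C D hC hD fun j hj => (Set.ext_iff.mp hCD j).mp hj)
      (key D C hD hC fun j hj => (Set.ext_iff.mp hCD j).mpr hj)
  have hsurj : Function.Surjective (fun j => ConnectedComponents.mk (pts j)) := by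
    intro c
    obtain ⟨x, rfl⟩ := ConnectedComponents.surjective_coe c
    let U : Set (PrimeSpectrum (PolLaw.image F.law)) := ⋂ C ∈ {C | IsClopen C ∧ x ∈ C}, C
    have hU : IsClopen U := (hfin.subset fun C hC => hC.1).isClopen_biInter fun C hC => hC.1
    have hxU : x ∈ U := Set.mem_iInter₂.mpr fun C hC => hC.2
    have hsub : ∀ C, IsClopen C → x ∈ C → U ⊆ C := fun C hC hx => Set.biInter_subset_of_mem (t := id) ⟨hC, hx⟩
    have hpre : IsPreconnected U := by
      rw [isPreconnected_iff_subset_of_disjoint]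
      intro u v hu hv huv hdisj
      have hclo : ∀ u v : Set (PrimeSpectrum (PolLaw.image F.law)), IsOpen u → IsOpen v → U ⊆ u ∪ v →
          U ∩ (u ∩ v) = ∅ → IsClopen (U ∩ u) := by
        intro u v hu hv huv hdisj
        refine ⟨⟨?_⟩, hU.2.inter hu⟩
        have : (U ∩ u)ᶜ = Uᶜ ∪ (U ∩ v) := by
          ext z
          have h₁ : z ∈ U → z ∈ u ∪ v := fun h => huv h
          have h₂ : ¬ (z ∈ U ∧ z ∈ u ∧ z ∈ v) := fun h => (Set.eq_empty_iff_forall_notMem.mp hdisj z) h
          simp only [Set.mem_compl_iff, Set.mem_inter_iff, Set.mem_union] at h₁ ⊢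
          tauto
        rw [this]
        exact hU.1.isOpen_compl.union (hU.2.inter hv)
      rcases huv hxU with hx | hx
      · exact Or.inl ((hsub _ (hclo u v hu hv huv hdisj) ⟨hxU, hx⟩).trans Set.inter_subset_right)
      · exact Or.inr ((hsub _ (hclo v u hv hu (by rwa [Set.union_comm]) (by rwa [Set.inter_comm v])) ⟨hxU, hx⟩).trans
          Set.inter_subset_right)
    obtain ⟨j, hj⟩ := hmeet U hU ⟨x, hxU⟩
    exact ⟨j, ConnectedComponents.coe_eq_coe'.mpr (hpre.subset_connectedComponent hxU hj)⟩
  haveI := Finite.of_surjective _ hsurj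
  refine ⟨inferInstance, (Nat.card_le_card_of_surjective _ hsurj).trans ?_⟩
  rw [Nat.card_fin]

end Groth.Agent.S13727
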