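import Groth.Statements.S13728
import Mathlib.Algebra.Colimit.Module
import Mathlib.Data.Fintype.Perm
-- import your own Groth.Agent.* helpers here

set_option autoImplicit false
universe u
open scoped TensorProduct
open ZeroCyc

namespace Groth.Agent.S13728

/-- The functor B ↦ TS^d_A(B) (symmetric tensors of degree d, the invariants of the symmetric group in
the d-fold tensor power) commutes with filtered direct limits. Concretely, let B be the direct limit
of a directed system (B_i, t_ij : B_i → B_j) of commutative algebras over the commutative ring A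
(t_ii the identity, t_jk ∘ t_ij = t_ik) with structure maps φ_i : B_i → B (compatible with the t_ij,
jointly surjective, and an element of B_i vanishing in B vanishes in some B_j). Then every element
of TS^d_A(B) is the image of an element of some TS^d_A(B_i), and an element of TS^d_A(B_i) whose
image in TS^d_A(B) is zero has image zero in TS^d_A(B_j) for some j ≥ i. -/
theorem result {A : Type u} [CommRing A] {B : Type u} [CommRing B] [Algebra A B]
    {ι : Type u} [Preorder ι] [IsDirected ι (fun i j => i ≤ j)] [Nonempty ι]
    (Bi : ι → Type u) [∀ i, CommRing (Bi i)] [∀ i, Algebra A (Bi i)]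
    (t : ∀ i j : ι, i ≤ j → (Bi i →ₐ[A] Bi j)) (φ : ∀ i : ι, Bi i →ₐ[A] B)
    (hcomp : ∀ (i j : ι) (h : i ≤ j), (φ j).comp (t i j h) = φ i)
    (hsurj : ∀ b : B, ∃ (i : ι) (x : Bi i), φ i x = b)
    (hzero : ∀ (i : ι) (x : Bi i), φ i x = 0 → ∃ (j : ι) (h : i ≤ j), t i j h x = 0)
    (hid : ∀ (i : ι) (h : i ≤ i), t i i h = AlgHom.id A (Bi i))
    (htrans : ∀ (i j k : ι) (hij : i ≤ j) (hjk : j ≤ k), (t j k hjk).comp (t i j hij) = t i k (hij.trans hjk)) (d : ℕ) :
    (∀ z : SymTen.TS A B d, ∃ (i : ι) (y : SymTen.TS A (Bi i) d), SymTen.TSmap A d (φ i) y = z) ∧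
      ∀ (i : ι) (y : SymTen.TS A (Bi i) d), SymTen.TSmap A d (φ i) y = 0 →
        ∃ (j : ι) (h : i ≤ j), SymTen.TSmap A d (t i j h) y = 0 := by
  classical
  let G : ι → Type u := fun i => ⨂[A] _ : Fin d, Bi i
  let f : ∀ i j, i ≤ j → G i →ₗ[A] G j := fun i j h => (SymTen.tmap A d (t i j h)).toLinearMap
  have tm_comp : ∀ {X Y Z : Type u} [CommRing X] [Algebra A X] [CommRing Y] [Algebra A Y] [CommRing Z] [Algebra A Z]
      (g : Y →ₐ[A] Z) (h : X →ₐ[A] Y) (v : ⨂[A] _ : Fin d, X),
      SymTen.tmap A d g (SymTen.tmap A d h v) = SymTen.tmap A d (g.comp h) v := by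
    intro X Y Z _ _ _ _ _ _ g h v
    induction v using PiTensorProduct.induction_on with
    | smul_tprod r p => simp only [map_smul, SymTen.tmap_tprod, AlgHom.comp_apply]
    | add x y hx hy => rw [map_add, map_add, map_add, hx, hy]
  haveI : DirectedSystem G (fun i j h => f i j h) :=
    { map_self := fun i v => by
        show SymTen.tmap A d (t i i le_rfl) v = v
        rw [hid]
        induction v using PiTensorProduct.induction_on with
        | smul_tprod r p => simp only [map_smul, SymTen.tmap_tprod, AlgHom.id_apply]
        | add x y hx hy => rw [map_add, hx, hy]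
      map_map := fun k j i hij hjk v => by
        show SymTen.tmap A d (t _ _ _) (SymTen.tmap A d (t _ _ _) v) = _
        rw [tm_comp, htrans]
        rfl }
  let L := Module.DirectLimit G f
  let ofL : ∀ i, G i →ₗ[A] L := fun i => Module.DirectLimit.of A ι G f i
  have ofL_f : ∀ (i j : ι) (h : i ≤ j) (v : G i), ofL j (SymTen.tmap A d (t i j h) v) = ofL i v :=
    fun i j h v => Module.DirectLimit.of_f
  have stage : ∀ b : Fin d → B, ∀ s : Finset (Fin d), ∀ i₀ : ι, ∃ (j : ι) (_ : i₀ ≤ j) (x : Fin d → Bi j),
      ∀ k ∈ s, φ j (x k) = b k := by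
    intro b s
    induction s using Finset.induction_on with
    | empty => exact fun i₀ => ⟨i₀, le_rfl, 0, by simp⟩
    | insert a s ha ih =>
      intro i₀
      obtain ⟨j, hij, x, hx⟩ := ih i₀
      obtain ⟨l, y, hy⟩ := hsurj (b a)
      obtain ⟨m, hjm, hlm⟩ := exists_ge_ge j l
      refine ⟨m, hij.trans hjm, Function.update (fun k => t j m hjm (x k)) a (t l m hlm y), fun k hk => ?_⟩
      rcases Finset.mem_insert.mp hk with rfl | hk
      · rw [Function.update_self, ← AlgHom.comp_apply, hcomp, hy]
      · rw [Function.update_of_ne (fun h : k = a => ha (h ▸ hk)), ← AlgHom.comp_apply, hcomp, hx k hk]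
  have agree : ∀ (j : ι) (x x' : Fin d → Bi j), (∀ k, φ j (x k) = φ j (x' k)) → ∀ s : Finset (Fin d),
      ∃ (l : ι) (h : j ≤ l), ∀ k ∈ s, t j l h (x k) = t j l h (x' k) := by
    intro j x x' hxx s
    induction s using Finset.induction_on with
    | empty => exact ⟨j, le_rfl, by simp⟩
    | insert a s ha ih =>
      obtain ⟨l, hjl, hl⟩ := ih
      obtain ⟨m, hlm, hm⟩ := hzero l (t j l hjl (x a - x' a)) (by
        rw [← AlgHom.comp_apply, hcomp, map_sub, hxx a, sub_self])
      refine ⟨m, hjl.trans hlm, fun k hk => ?_⟩
      rw [← htrans j l m hjl hlm, AlgHom.comp_apply, AlgHom.comp_apply]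
      rcases Finset.mem_insert.mp hk with rfl | hk
      · rw [← sub_eq_zero, ← map_sub, ← map_sub]
        exact hm
      · rw [hl k hk]
  have val_eq : ∀ (j j' : ι) (x : Fin d → Bi j) (x' : Fin d → Bi j'), (∀ k, φ j (x k) = φ j' (x' k)) →
      ofL j (PiTensorProduct.tprod A x) = ofL j' (PiTensorProduct.tprod A x') := by
    intro j j' x x' hxx
    obtain ⟨m, hjm, hjm'⟩ := exists_ge_ge j j'
    obtain ⟨l, hml, hl⟩ := agree m (fun k => t j m hjm (x k)) (fun k => t j' m hjm' (x' k)) (fun k => by
      rw [← AlgHom.comp_apply, hcomp, ← AlgHom.comp_apply, hcomp, hxx k]) Finset.univ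
    rw [← ofL_f j l (hjm.trans hml), ← ofL_f j' l (hjm'.trans hml), SymTen.tmap_tprod, SymTen.tmap_tprod]
    congr 2
    funext k
    have := hl k (Finset.mem_univ k)
    rwa [← AlgHom.comp_apply, htrans, ← AlgHom.comp_apply, htrans] at this
  choose J hJ X hX using fun b : Fin d → B => stage b Finset.univ (Classical.arbitrary ι)
  have μ_eq : ∀ (b : Fin d → B) (j : ι) (x : Fin d → Bi j), (∀ k, φ j (x k) = b k) →
      ofL (J b) (PiTensorProduct.tprod A (X b)) = ofL j (PiTensorProduct.tprod A x) := fun b j x hx =>
    val_eq _ _ _ _ fun k => (hX b k (Finset.mem_univ k)).trans (hx k).symm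
  let μ : MultilinearMap A (fun _ : Fin d => B) L :=
    { toFun := fun b => ofL (J b) (PiTensorProduct.tprod A (X b))
      map_update_add' := fun b k u v => by
        obtain ⟨j, -, x, hx⟩ := stage (Function.update b k u) Finset.univ (Classical.arbitrary ι)
        obtain ⟨l, hjl, y, hy⟩ := stage (Function.update b k v) Finset.univ j
        have hu : ∀ i, φ l (Function.update (fun i => t j l hjl (x i)) k (t j l hjl (x k)) i) = Function.update b k u i := by
          intro i
          rw [Function.update_eq_self, ← AlgHom.comp_apply, hcomp, hx i (Finset.mem_univ i)]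
        have hv : ∀ i, φ l (Function.update (fun i => t j l hjl (x i)) k (y k) i) = Function.update b k v i := by
          intro i
          by_cases hik : i = k
          · subst hik
            rw [Function.update_self, hy i (Finset.mem_univ i)]
          · rw [Function.update_of_ne hik, Function.update_of_ne hik, ← AlgHom.comp_apply, hcomp, hx i (Finset.mem_univ i),
              Function.update_of_ne hik]
        have huv : ∀ i, φ l (Function.update (fun i => t j l hjl (x i)) k (t j l hjl (x k) + y k) i) =
            Function.update b k (u + v) i := by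
          intro i
          by_cases hik : i = k
          · subst hik
            rw [Function.update_self, Function.update_self, map_add, hy i (Finset.mem_univ i), ← AlgHom.comp_apply, hcomp,
              hx i (Finset.mem_univ i), Function.update_self, Function.update_self]
          · rw [Function.update_of_ne hik, Function.update_of_ne hik, ← AlgHom.comp_apply, hcomp, hx i (Finset.mem_univ i),
              Function.update_of_ne hik]
        rw [μ_eq _ _ _ huv, μ_eq _ _ _ hu, μ_eq _ _ _ hv, MultilinearMap.map_update_add, map_add]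
      map_update_smul' := fun b k c u => by
        obtain ⟨j, -, x, hx⟩ := stage (Function.update b k u) Finset.univ (Classical.arbitrary ι)
        have hu : ∀ i, φ j (Function.update x k (x k) i) = Function.update b k u i := by
          intro i
          rw [Function.update_eq_self, hx i (Finset.mem_univ i)]
        have hcu : ∀ i, φ j (Function.update x k (c • x k) i) = Function.update b k (c • u) i := by
          intro i
          by_cases hik : i = k
          · subst hik
            rw [Function.update_self, Function.update_self, map_smul, hx i (Finset.mem_univ i), Function.update_self]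
          · rw [Function.update_of_ne hik, Function.update_of_ne hik, hx i (Finset.mem_univ i), Function.update_of_ne hik]
        rw [μ_eq _ _ _ hcu, μ_eq _ _ _ hu, MultilinearMap.map_update_smul, map_smul] }
  let Ψ : (⨂[A] _ : Fin d, B) →ₗ[A] L := PiTensorProduct.lift μ
  have hΨ : ∀ (i : ι) (v : G i), Ψ (SymTen.tmap A d (φ i) v) = ofL i v := by
    intro i v
    induction v using PiTensorProduct.induction_on with
    | smul_tprod r p =>
      rw [map_smul, map_smul, map_smul, SymTen.tmap_tprod]
      congr 1
      show PiTensorProduct.lift μ _ = _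
      rw [PiTensorProduct.lift.tprod]
      exact μ_eq _ _ _ fun k => rfl
    | add x y hx hy => rw [map_add, map_add, map_add, hx, hy]
  have die : ∀ (i : ι) (v : G i), SymTen.tmap A d (φ i) v = 0 → ∃ (j : ι) (h : i ≤ j), SymTen.tmap A d (t i j h) v = 0 := by
    intro i v hv
    have h0 : Module.DirectLimit.of A ι G f i v = 0 := by
      rw [show Module.DirectLimit.of A ι G f i v = Ψ (SymTen.tmap A d (φ i) v) from (hΨ i v).symm, hv, map_zero]
    exact Module.DirectLimit.of.zero_exact h0
  refine ⟨fun z => ?_, fun i y hy => ?_⟩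
  · obtain ⟨i, v, hv⟩ : ∃ (i : ι) (v : G i), SymTen.tmap A d (φ i) v = (z : ⨂[A] _ : Fin d, B) := by
      induction (z : ⨂[A] _ : Fin d, B) using PiTensorProduct.induction_on with
      | smul_tprod r p =>
        obtain ⟨j, -, x, hx⟩ := stage p Finset.univ (Classical.arbitrary ι)
        refine ⟨j, r • PiTensorProduct.tprod A x, ?_⟩
        rw [map_smul, SymTen.tmap_tprod]
        congr 2
        funext k
        exact hx k (Finset.mem_univ k)
      | add a b ha hb =>
        obtain ⟨i, v, rfl⟩ := ha
        obtain ⟨j, w, rfl⟩ := hb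
        obtain ⟨l, hil, hjl⟩ := exists_ge_ge i j
        exact ⟨l, SymTen.tmap A d (t i l hil) v + SymTen.tmap A d (t j l hjl) w, by
          rw [map_add, tm_comp, tm_comp, hcomp, hcomp]⟩
    have sym : ∀ s : Finset (Equiv.Perm (Fin d)), ∃ (j : ι) (h : i ≤ j), ∀ σ ∈ s,
        PiTensorProduct.reindex A (fun _ : Fin d => Bi j) σ (SymTen.tmap A d (t i j h) v) =
          SymTen.tmap A d (t i j h) v := by
      intro s
      induction s using Finset.induction_on with
      | empty => exact ⟨i, le_rfl, by simp⟩
      | insert σ s _ ih =>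
        obtain ⟨j, hij, hj⟩ := ih
        obtain ⟨l, hjl, hl⟩ := die j (PiTensorProduct.reindex A (fun _ : Fin d => Bi j) σ (SymTen.tmap A d (t i j hij) v) -
          SymTen.tmap A d (t i j hij) v) (by
            rw [map_sub, SymTen.tmap_reindex, tm_comp, hcomp, hv, z.2 σ, sub_self])
        refine ⟨l, hij.trans hjl, fun τ hτ => ?_⟩
        rw [← htrans i j l hij hjl, ← tm_comp]
        rcases Finset.mem_insert.mp hτ with rfl | hτ
        · rw [← SymTen.tmap_reindex, ← sub_eq_zero, ← map_sub]
          exact hl
        · rw [← SymTen.tmap_reindex, hj τ hτ]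
    obtain ⟨j, hij, hj⟩ := sym Finset.univ
    refine ⟨j, ⟨SymTen.tmap A d (t i j hij) v, fun σ => hj σ (Finset.mem_univ σ)⟩, Subtype.ext ?_⟩
    show SymTen.tmap A d (φ j) (SymTen.tmap A d (t i j hij) v) = _
    rw [tm_comp, hcomp, hv]
  · obtain ⟨j, hij, hj⟩ := die i (y : ⨂[A] _ : Fin d, Bi i) (congrArg Subtype.val hy)
    exact ⟨j, hij, Subtype.ext hj⟩

end Groth.Agent.S13728
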