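import Groth.Statements.S1373
import Groth.Agent.GoingDown.AffineSpace

set_option autoImplicit false
universe u
open FlatMor

namespace Groth.Agent.S1373

open AlgebraicGeometry CategoryTheory Limits in
/-- (1) ⇔ (3): a morphism f : X → S is universally open if and only if for every n the induced morphism
from affine n-space over X to affine n-space over S is open. -/
theorem result {X S : Scheme.{u}} (f : X ⟶ S) :
    UniversallyOpen f ↔ ∀ n : ℕ, IsOpenMap ⇑(AffineSpace.map (ULift.{u} (Fin n)) f) := by
  constructor
  · intro _ n
    have h : UniversallyOpen (AffineSpace.map (ULift.{u} (Fin n)) f) :=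
      MorphismProperty.IsStableUnderBaseChange.of_isPullback
        (P := (@UniversallyOpen : MorphismProperty Scheme.{u}))
        (AffineSpace.isPullback_map f).flip inferInstance
    exact (AffineSpace.map (ULift.{u} (Fin n)) f).isOpenMap
  · intro h
    refine GoingDown.universallyOpen_of_affineSpace f fun n ↦ ?_
    have e := (AffineSpace.isPullback_map (n := ULift.{u} (Fin (n + 1))) f).flip
    rw [← e.isoPullback_inv_snd]
    exact (h (n + 1)).comp (Scheme.Hom.homeomorph e.isoPullback.inv).isOpenMap

end Groth.Agent.S1373
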