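import Groth.Statements.S13732
import Groth.Agent.AICQfh.Basic
import Groth.Agent.SubtrLib.ValLift

set_option autoImplicit false
set_option backward.isDefEq.respectTransparency false
set_option backward.isDefEq.respectTransparency.types false
universe u
open HTop

namespace Groth.Agent.S13732

open CategoryTheory CategoryTheory.Limits AlgebraicGeometry in
/-- Let Y be a separated Noetherian scheme and {p_j : Y_j → Y} a finite family of separated quasi-finite
morphisms of finite type whose induced morphism from the disjoint union of the Y_j to Y is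
universally submersive (a qfh-covering). Then there are a finite surjective morphism p : Y' → Y and
finitely many open subschemes V_1, …, V_n covering Y' such that every composite V_i → Y' → Y factors
through some member of the family. -/
theorem result {Y : Scheme.{u}} [IsNoetherian Y] [Y.IsSeparated] (E : PreZeroHypercover.{u} Y) [Finite E.I₀] [∀ j, LocallyOfFiniteType (E.f j)] [∀ j, QuasiCompact (E.f j)] [∀ j, LocallyQuasiFinite (E.f j)] [∀ j, IsSeparated (E.f j)] (hE : SGA1.UnivSubmersive (Sigma.desc E.f)) : ∃ (Y' : Scheme.{u}) (p : Y' ⟶ Y) (n : ℕ) (V : Fin n → Y'.Opens), IsFinite p ∧ Surjective p ∧ ⨆ i, V i = ⊤ ∧ ∀ i, ∃ (j : E.I₀) (h : (↑(V i) : Scheme.{u}) ⟶ E.X j), h ≫ E.f j = (V i).ι ≫ p := by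
  classical
  let X : Scheme.{u} := ∐ E.X
  let f : X ⟶ Y := Sigma.desc E.f
  haveI : LocallyOfFinitePresentation f := IsZariskiLocalAtSource.sigmaDesc fun j => inferInstance
  haveI : LocallyQuasiFinite f := IsZariskiLocalAtSource.sigmaDesc fun j => inferInstance
  haveI : ∀ j, CompactSpace (E.X j) := fun j => QuasiCompact.compactSpace_of_compactSpace (E.f j)
  haveI : Finite (sigmaOpenCover E.X).I₀ := inferInstanceAs (Finite E.I₀)
  haveI : ∀ j, CompactSpace ((sigmaOpenCover E.X).X j) := fun j => inferInstanceAs (CompactSpace (E.X j))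
  haveI : CompactSpace X := Scheme.OpenCover.compactSpace (sigmaOpenCover E.X)
  haveI : QuasiCompact f := inferInstance
  have hf : Subtr.UnivSSubtrusive f := Groth.Agent.SubtrLib.univSSubtrusive_of_univSubmersive f hE
  obtain ⟨Y', p, hps, hpf, -, hloc⟩ := Groth.Agent.AICCover.exists_finite_cover_of_local_section f
    (Groth.Agent.AICCover.exists_local_section_qf f hf)
  haveI := hpf
  haveI : CompactSpace Y' := QuasiCompact.compactSpace_of_compactSpace p
  have hloc' : ∀ z : Y', ∃ V : Y'.Opens, z ∈ V ∧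
      ∃ (j : E.I₀) (h : (V : Scheme.{u}) ⟶ E.X j), h ≫ E.f j = V.ι ≫ p := by
    intro z
    obtain ⟨V, r, hzV, hr⟩ := hloc z
    obtain ⟨j, v, hv⟩ := (sigmaOpenCover E.X).exists_eq (r ⟨z, hzV⟩)
    haveI : IsOpenImmersion (Sigma.ι E.X j) := inferInstance
    let V' : Y'.Opens := V.ι ''ᵁ (r ⁻¹ᵁ (Sigma.ι E.X j).opensRange)
    have hrange : Set.range V'.ι ⊆ Set.range V.ι := by
      rw [Scheme.Opens.range_ι]
      rintro y ⟨y', -, rfl⟩
      exact ⟨y', rfl⟩
    let l := IsOpenImmersion.lift V.ι V'.ι hrange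
    have hl : l ≫ V.ι = V'.ι := IsOpenImmersion.lift_fac _ _ _
    have hrange' : Set.range (l ≫ r) ⊆ Set.range (Sigma.ι E.X j) := by
      rintro - ⟨y, rfl⟩
      obtain ⟨y', hy', e⟩ := y.2
      have : l y = y' := V.ι.isOpenEmbedding.injective (by
        rw [← Scheme.Hom.comp_apply, hl]; exact e.symm)
      rw [Scheme.Hom.comp_apply, this]
      exact hy'
    refine ⟨V', ⟨⟨z, hzV⟩, ⟨v, hv⟩, rfl⟩, j, IsOpenImmersion.lift (Sigma.ι E.X j) (l ≫ r) hrange', ?_⟩
    have e1 : Sigma.ι E.X j ≫ f = E.f j := Sigma.ι_desc E.f j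
    rw [← e1, IsOpenImmersion.lift_fac_assoc, Category.assoc, hr, ← Category.assoc, hl]
  choose V hzV hV using hloc'
  obtain ⟨s, hs⟩ := isCompact_univ.elim_finite_subcover (fun z : Y' => (V z : Set Y'))
    (fun z => (V z).2) (fun z _ => Set.mem_iUnion.mpr ⟨z, hzV z⟩)
  obtain ⟨n, ⟨e⟩⟩ := Finite.exists_equiv_fin {z // z ∈ s}
  refine ⟨Y', p, n, fun m => V (e.symm m).1, hpf, hps, top_le_iff.mp fun y _ => ?_, fun m => hV _⟩
  obtain ⟨z, hz, hyz⟩ := Set.mem_iUnion₂.mp (hs (Set.mem_univ y))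
  refine TopologicalSpace.Opens.mem_iSup.mpr ⟨e ⟨z, hz⟩, ?_⟩
  show y ∈ V (e.symm (e ⟨z, hz⟩)).1
  rw [e.symm_apply_apply]
  exact hyz

end Groth.Agent.S13732
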