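import Groth.Statements.S13733
import Groth.Agent.FlatBlowUp.Refine
import Groth.Agent.AICCover.Finite
import Groth.Agent.SubtrLib.ValLift

set_option autoImplicit false
set_option backward.isDefEq.respectTransparency false
set_option backward.isDefEq.respectTransparency.types false
universe u
open HTop

namespace Groth.Agent.S13733

open CategoryTheory CategoryTheory.Limits AlgebraicGeometry in
/-- Let Y be a separated Noetherian scheme and {p_j : Y_j → Y} a finite family of separated morphisms of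
finite type whose induced morphism from the disjoint union of the Y_j to Y is universally submersive
(an h-covering). Then there are: a reduced scheme Y_red with a surjective closed immersion ι : Y_red
→ Y, a surjective blow-up b : Y'' → Y_red of Y_red in some quasi-coherent sheaf of ideals (b has the
universal property of the blowing up), a finite surjective morphism q : Y' → Y'', and finitely many
open subschemes V_1, …, V_n covering Y', such that the composite p = q ≫ b ≫ ι is proper and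
surjective and every composite V_i → Y' → Y factors through some member of the family. -/
theorem result {Y : Scheme.{u}} [IsNoetherian Y] [Y.IsSeparated] (E : PreZeroHypercover.{u} Y) [Finite E.I₀] [∀ j, LocallyOfFiniteType (E.f j)] [∀ j, QuasiCompact (E.f j)] [∀ j, IsSeparated (E.f j)] (hE : SGA1.UnivSubmersive (Sigma.desc E.f)) : ∃ (Yr Y'' Y' : Scheme.{u}) (ι : Yr ⟶ Y) (𝓘 : Yr.IdealSheafData) (b : Y'' ⟶ Yr) (q : Y' ⟶ Y'') (n : ℕ) (V : Fin n → Y'.Opens), IsClosedImmersion ι ∧ Surjective ι ∧ IsReduced Yr ∧ BlowUp.IsBlowUp b 𝓘 ∧ Surjective b ∧ IsFinite q ∧ Surjective q ∧ IsProper (q ≫ b ≫ ι) ∧ Surjective (q ≫ b ≫ ι) ∧ ⨆ i, V i = ⊤ ∧ ∀ i, ∃ (j : E.I₀) (h : (↑(V i) : Scheme.{u}) ⟶ E.X j), h ≫ E.f j = (V i).ι ≫ q ≫ b ≫ ι := by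
  let f : ∐ E.X ⟶ Y := Sigma.desc E.f
  haveI : LocallyOfFiniteType f := IsZariskiLocalAtSource.sigmaDesc fun j => inferInstance
  haveI : LocallyOfFinitePresentation f := Groth.Agent.AbsApprox.lfp_of_lft_noetherian f
  haveI : ∀ j, CompactSpace (E.X j) := fun j => QuasiCompact.compactSpace_of_compactSpace (E.f j)
  haveI : CompactSpace ↥(∐ E.X) := (sigmaMk E.X).compactSpace
  haveI : QuasiCompact f := QuasiCompact.of_comp f (terminal.from Y)
  haveI : IsLocallyNoetherian (∐ E.X) := LocallyOfFiniteType.isLocallyNoetherian f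
  haveI : QuasiSeparatedSpace ↥(∐ E.X) := inferInstance
  haveI : QuasiSeparated f := inferInstance
  have hf : Subtr.UnivSSubtrusive f := Groth.Agent.SubtrLib.univSSubtrusive_of_univSubmersive f hE
  let N := Y.nilradical
  let ι := N.subschemeι
  haveI : Surjective ι := ⟨fun y => by
    have h : y ∈ Set.range ι := by
      rw [show Set.range ι = _ from N.range_subschemeι, Scheme.support_nilradical]
      trivial
    exact h⟩
  haveI : AlgebraicGeometry.IsReduced N.subscheme := by
    rw [show N = Scheme.IdealSheafData.vanishingIdeal (⊤ : TopologicalSpace.Closeds Y) from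
      Scheme.IdealSheafData.vanishingIdeal_top.symm]
    exact Groth.Agent.DvrDom.isReduced_vanishingIdeal_subscheme _
  haveI : CompactSpace N.subscheme := QuasiCompact.compactSpace_of_compactSpace ι
  haveI : IsLocallyNoetherian N.subscheme := LocallyOfFiniteType.isLocallyNoetherian ι
  haveI : IsNoetherian N.subscheme := ⟨⟩
  let fr := pullback.snd f ι
  haveI : LocallyOfFinitePresentation fr := MorphismProperty.pullback_snd _ _ ‹_›
  haveI : QuasiCompact fr := MorphismProperty.pullback_snd _ _ ‹_›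
  haveI : QuasiSeparated fr := MorphismProperty.pullback_snd _ _ ‹_›
  have hfr : Subtr.UnivSSubtrusive fr :=
    MorphismProperty.of_isPullback (IsPullback.of_hasPullback f ι) hf
  obtain ⟨U, 𝓘, Y'', b, hUd, -, hb, hadm, hsurj, hall⟩ :=
    Groth.Agent.S14793.result (Groth.Agent.FlatBlowUp.finite_maximalPts _).isCompact fr hfr
  haveI := hsurj
  haveI : IsProper b := Groth.Agent.BlowUpExist.isProper_of_isFiniteType hb hadm.1
  let p₁ := pullback.fst fr b
  let p₂ := pullback.snd fr b
  have hlp : HTop.IsLocPrincipal ((𝓘.comap fr).comap p₁) := fun x => by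
    obtain ⟨W, e, hx, -, he⟩ := Groth.Agent.RZExt.IsTorsionIdeal.exists_small hb.1 p₂ x ⊤ trivial
    exact ⟨W, hx, e, by rw [← Scheme.IdealSheafData.comap_comp, pullback.condition, Scheme.IdealSheafData.comap_comp]; exact he⟩
  have hT := Groth.Agent.FlatBlowUp.isTorsionIdeal_supportedOn hlp
  obtain ⟨hfl, hs, hlfp, hqc, hqs⟩ := hall _ p₁ p₂ (IsPullback.of_hasPullback fr b)
    (HTop.supportedOn ((𝓘.comap fr).comap p₁)) fun V a => (hT V a).trans Iff.rfl
  let r := (HTop.supportedOn ((𝓘.comap fr).comap p₁)).subschemeι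
  haveI := hfl
  haveI := hs
  haveI := hlfp
  haveI : CompactSpace Y'' := QuasiCompact.compactSpace_of_compactSpace b
  haveI : QuasiSeparatedSpace Y'' := quasiSeparatedSpace_of_quasiSeparated b
  haveI : UniversallyOpen (r ≫ p₂) := inferInstance
  obtain ⟨Z, q, hqs', hqfin, -, hsec⟩ := Groth.Agent.AICCover.exists_finite_cover (r ≫ p₂)
  haveI := hqs'
  haveI := hqfin
  haveI : CompactSpace Z := QuasiCompact.compactSpace_of_compactSpace q
  have hloc : ∀ z : Z, ∃ W : Z.Opens, z ∈ W ∧
      ∃ (j : E.I₀) (h : (W : Scheme.{u}) ⟶ E.X j), h ≫ E.f j = W.ι ≫ q ≫ b ≫ ι := by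
    intro z
    obtain ⟨V, s, hzV, hsV⟩ := hsec z
    let g : (V : Scheme.{u}) ⟶ ∐ E.X := s ≫ r ≫ p₁ ≫ pullback.fst f ι
    have hg : g ≫ f = V.ι ≫ q ≫ b ≫ ι := by
      simp only [g, Category.assoc]
      rw [pullback.condition, show p₁ ≫ pullback.snd f ι ≫ ι = p₂ ≫ b ≫ ι from pullback.condition_assoc ι,
        ← Category.assoc r, ← Category.assoc s, hsV, Category.assoc]
    obtain ⟨j, y, hy⟩ := (sigmaOpenCover E.X).exists_eq (g ⟨z, hzV⟩)
    let O : (V : Scheme.{u}).Opens := g ⁻¹ᵁ (Sigma.ι E.X j).opensRange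
    have hrg : Set.range ((V.ι.isoImage O).inv ≫ O.ι ≫ g) ⊆ Set.range (Sigma.ι E.X j) := by
      rintro - ⟨w, rfl⟩
      exact ((V.ι.isoImage O).inv w).2
    refine ⟨V.ι ''ᵁ O, ⟨⟨z, hzV⟩, ⟨y, hy⟩, rfl⟩, j, IsOpenImmersion.lift (Sigma.ι E.X j) _ hrg, ?_⟩
    rw [← Sigma.ι_desc E.f j, ← Category.assoc, IsOpenImmersion.lift_fac, Category.assoc, Category.assoc, hg,
      ← Scheme.Hom.isoImage_inv_ι_assoc]
  choose W hzW hW using hloc
  obtain ⟨t, ht⟩ := (isCompact_univ (X := Z)).elim_finite_subcover (fun z => (W z : Set Z)) (fun z => (W z).2)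
    fun z _ => Set.mem_iUnion.2 ⟨z, hzW z⟩
  refine ⟨N.subscheme, Y'', Z, ι, 𝓘, b, q, t.card, fun i => W (t.equivFin.symm i).1, inferInstance, ‹_›, ‹_›, hb,
    hsurj, hqfin, hqs', inferInstance, inferInstance, ?_, fun i => hW _⟩
  refine TopologicalSpace.Opens.ext (Set.eq_univ_iff_forall.2 fun z => ?_)
  obtain ⟨z', hz', hzz⟩ := Set.mem_iUnion₂.1 (ht (Set.mem_univ z))
  rw [TopologicalSpace.Opens.coe_iSup]
  exact Set.mem_iUnion.2 ⟨t.equivFin ⟨z', hz'⟩, by simpa using hzz⟩

end Groth.Agent.S13733
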