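import Groth.Statements.S2562
import Groth.Agent.FlatDom.DvrTest
import Groth.Agent.FlatDom.Scheme
import Groth.Agent.FlatDom.Unit
import Groth.Agent.DerPerf.Local
import Groth.Agent.FlatLimMod.Basic
import Groth.Agent.FlatModBC.Basic

set_option autoImplicit false
open CategoryTheory AlgebraicGeometry
universe u
open EGA43
set_option backward.isDefEq.respectTransparency false

namespace Groth.Agent.S2562

open CategoryTheory.Limits IsLocalRing

/-- Flatness over a reduced noetherian local ring of the base tested on discrete valuation rings. -/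
theorem isFlatOverAt_of_dvr {X Y : Scheme.{u}} (f : X ⟶ Y) [LocallyOfFinitePresentation f] (F : X.Modules)
    (hF : Coh.IsQCoh F) (hfp : CohB1.IsFP F) (x : X) [IsNoetherianRing (Y.presheaf.stalk (f x))]
    [_root_.IsReduced (Y.presheaf.stalk (f x))]
    (h : ∀ (A' : Type u) [CommRing A'] [IsDomain A'] [IsDiscreteValuationRing A']
      (φ : (Y.presheaf.stalk (f x) : Type u) →+* A') [IsLocalHom φ],
      ∀ x' : ↥(pullback f (Spec.map (CommRingCat.ofHom φ) ≫ Y.fromSpecStalk (f x))),
        pullback.fst f (Spec.map (CommRingCat.ofHom φ) ≫ Y.fromSpecStalk (f x)) x' = x →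
        pullback.snd f (Spec.map (CommRingCat.ofHom φ) ≫ Y.fromSpecStalk (f x)) x' = closedPoint A' →
        FlatMod.IsFlatOverAt (pullback.snd f (Spec.map (CommRingCat.ofHom φ) ≫ Y.fromSpecStalk (f x)))
          ((Scheme.Modules.pullback (pullback.fst f (Spec.map (CommRingCat.ofHom φ) ≫ Y.fromSpecStalk (f x)))).obj F) x') :
    FlatMod.IsFlatOverAt f F x := by
  obtain ⟨V, hV, hyV, -⟩ := exists_isAffineOpen_mem_and_subset (X := Y) (x := f x) (U := ⊤) trivial
  obtain ⟨W, hW, hxW, e⟩ := exists_isAffineOpen_mem_and_subset (X := X) (x := x) (U := f ⁻¹ᵁ V) hyV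
  let A := Γ(Y, V)
  let B := Γ(X, W)
  let p := (hV.primeIdealOf ⟨f x, hyV⟩).asIdeal
  let O := Y.presheaf.stalk (f x)
  letI : Algebra A O := (Y.presheaf.germ V (f x) hyV).hom.toAlgebra
  haveI : IsLocalization.AtPrime O p := hV.isLocalization_stalk ⟨_, hyV⟩
  let eO : O ≃+* Localization.AtPrime p :=
    (IsLocalization.algEquiv p.primeCompl O (Localization.AtPrime p)).toRingEquiv
  haveI : IsNoetherianRing (Localization.AtPrime p) := isNoetherianRing_of_ringEquiv O eO
  haveI : _root_.IsReduced (Localization.AtPrime p) := isReduced_of_injective eO.symm eO.symm.injective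
  letI : Algebra A B := (f.appLE V W e).hom.toAlgebra
  haveI : Algebra.FinitePresentation A B := f.finitePresentation_appLE hV hW e
  letI : Module A Γ(F, W) := Module.compHom Γ(F, W) (f.appLE V W e).hom
  haveI : IsScalarTower A B Γ(F, W) := IsScalarTower.of_algebraMap_smul fun _ _ => rfl
  haveI := Groth.Agent.LocFree.finitePresentation_sections_of_isFP hF hfp hW
  refine (Groth.Agent.InjFibre.isFlatOverAt_iff f F hF hV hW e x hxW).2 ?_
  haveI : (hW.primeIdealOf ⟨x, hxW⟩).asIdeal.LiesOver p := ⟨by
    have h1 : PrimeSpectrum.comap (algebraMap A B) (hW.primeIdealOf ⟨x, hxW⟩) = hV.primeIdealOf ⟨f x, hyV⟩ := by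
      apply hV.fromSpec.isOpenEmbedding.injective
      show hV.fromSpec _ = hV.fromSpec _
      rw [hV.fromSpec_primeIdealOf]
      refine (congr($(hV.SpecMap_appLE_fromSpec f hW e).base (hW.primeIdealOf ⟨x, hxW⟩))).trans ?_
      exact congrArg f.base (hW.fromSpec_primeIdealOf _)
    exact (congrArg PrimeSpectrum.asIdeal h1).symm⟩
  refine Groth.Agent.FlatDom.flat_at_of_dvr (A := A) (B := B) Γ(F, W) p _ ?_
  intro R _ _ _ algR hR T _ _ _ _ _ _ _
  let φ : O →+* R := IsLocalization.lift (M := p.primeCompl) (S := O) (g := algebraMap A R) fun s => by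
    rw [← notMem_maximalIdeal]
    exact fun hm => s.2 ((SetLike.ext_iff.1 hR s.1).1 hm)
  haveI : IsLocalHom φ := ⟨fun z hz => by
    obtain ⟨⟨a, s⟩, hs⟩ := IsLocalization.surj p.primeCompl z
    by_contra hn
    have h1 : algebraMap A O a ∈ maximalIdeal O := by
      rw [← hs]
      exact Ideal.mul_mem_right _ _ hn
    have h2 : a ∈ p := ((IsLocalization.AtPrime.to_map_mem_maximal_iff O p a).1 h1)
    have h3 : algebraMap A R a ∈ maximalIdeal R := (SetLike.ext_iff.1 hR a).2 h2
    rw [← IsLocalization.lift_eq (M := p.primeCompl) (S := O) (g := algebraMap A R) _ a] at h3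
    change φ (algebraMap A O a) ∈ _ at h3
    rw [← hs, map_mul] at h3
    exact h3 (hz.mul ((IsLocalization.map_units O s).map φ))⟩
  refine Groth.Agent.FlatDom.ptsFlat_of_isFlatOverAt f F hF x hV hW e hxW
    (Spec.map (CommRingCat.ofHom φ) ≫ Y.fromSpecStalk (f x)) R (𝟙 _)
    (fun x' h1 h2 => h R φ x' h1 h2) ?_ T
  rw [Category.id_comp, ← hV.fromSpecStalk_eq_fromSpecStalk hyV, IsAffineOpen.fromSpecStalk, ← Category.assoc,
    ← Spec.map_comp]
  congr 2
  ext a
  exact IsLocalization.lift_eq (M := p.primeCompl) (S := O) (g := algebraMap A R) _ a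

open CategoryTheory.Limits in
/-- Let f : X ⟶ Y be locally of finite presentation, x a point of X, y = f x, and suppose the local ring
O_{Y,y} is reduced and Noetherian. Then O_{Y,y} ⟶ O_{X,x} is flat if and only if, for every discrete
valuation ring A' and every local homomorphism O_{Y,y} ⟶ A', the base change X' = X ×_Y Spec A' ⟶
Spec A' is flat at every point of X' lying over x and over the closed point of Spec A'. -/
theorem result {X Y : Scheme.{u}} (f : X ⟶ Y) [LocallyOfFinitePresentation f]
    (x : X) [IsNoetherianRing (Y.presheaf.stalk (f.base x))] [_root_.IsReduced (Y.presheaf.stalk (f.base x))] :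
    (f.stalkMap x).hom.Flat ↔
      ∀ (A' : Type u) [CommRing A'] [IsDomain A'] [IsDiscreteValuationRing A']
        (φ : (Y.presheaf.stalk (f.base x) : Type u) →+* A') [IsLocalHom φ],
        ∀ x' : ↥(pullback f (Spec.map (CommRingCat.ofHom φ) ≫ Y.fromSpecStalk (f.base x))),
          (pullback.fst f _).base x' = x →
          (pullback.snd f _).base x' = IsLocalRing.closedPoint A' →
          ((pullback.snd f (Spec.map (CommRingCat.ofHom φ) ≫ Y.fromSpecStalk (f.base x))).stalkMap x').hom.Flat := by
  constructor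
  · intro h A' _ _ _ φ _ x' h1 h2
    rw [Groth.Agent.FlatDom.flat_stalkMap_iff] at h
    refine (Groth.Agent.FlatDom.flat_stalkMap_iff _ x').2 ?_
    exact Groth.Agent.FlatLimMod.isFlatOverAt_of_iso _ (Groth.Agent.DerPerf.pullUnitIso _)
      (Groth.Agent.FlatModBC.isFlatOverAt_baseChange (IsPullback.of_hasPullback f _) _ x' (by rw [h1]; exact h))
  intro h
  refine (Groth.Agent.FlatDom.flat_stalkMap_iff f x).2 ?_
  refine isFlatOverAt_of_dvr f _ (Groth.Agent.QC.isQCoh_unit X) (Groth.Agent.SchDense.isFP_unit X) x ?_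
  intro R _ _ _ φ hφ x' h1 h2
  exact Groth.Agent.FlatLimMod.isFlatOverAt_of_iso _ (Groth.Agent.DerPerf.pullUnitIso _).symm
    ((Groth.Agent.FlatDom.flat_stalkMap_iff _ x').1 (h R φ x' h1 h2))

end Groth.Agent.S2562
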