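import Groth.Statements.S13735
import Groth.Agent.FpqcDescent.Affine
import Groth.Agent.S2562
import Groth.Agent.S13734

set_option autoImplicit false
set_option backward.isDefEq.respectTransparency false
set_option backward.isDefEq.respectTransparency.types false
universe u
open HTop

namespace Groth.Agent.S13735

open CategoryTheory CategoryTheory.Limits AlgebraicGeometry in
/-- Let S be a separated reduced Noetherian scheme, f : X → S a separated morphism locally of finite
type and g : S' → S a separated morphism of finite type which is universally submersive (an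
h-covering). If the base change of f along g is flat, then f is flat. -/
theorem result {X S S' : Scheme.{u}} [IsNoetherian S] [IsReduced S] [S.IsSeparated] (f : X ⟶ S) [LocallyOfFiniteType f] [IsSeparated f] (g : S' ⟶ S) [LocallyOfFiniteType g] [QuasiCompact g] [IsSeparated g] (hg : SGA1.UnivSubmersive g) (hflat : Flat (pullback.snd f g)) : Flat f := by
  haveI : LocallyOfFinitePresentation f := inferInstance
  rw [Flat.iff_flat_stalkMap]
  intro x
  refine (Groth.Agent.S2562.result f x).mpr fun A' _ _ _ φ _ x' hx' hc => ?_
  let t : Spec (CommRingCat.of A') ⟶ S := Spec.map (CommRingCat.ofHom φ) ≫ S.fromSpecStalk (f.base x)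
  suffices hflat' : Flat (pullback.snd f t) from (Flat.iff_flat_stalkMap _).mp hflat' x'
  obtain ⟨R', _, _, _, ψ, h, hψ, hh⟩ := (Groth.Agent.S13734.result g).mp hg A' t
  obtain ⟨α, rfl⟩ := Spec.map_surjective ψ
  haveI : Flat (Spec.map α) := by
    rw [HasRingHomProperty.Spec_iff (P := @Flat)]
    letI := α.hom.toAlgebra
    have hinj : Function.Injective α.hom := by
      rw [injective_iff_map_eq_zero]
      intro a ha
      obtain ⟨q, hq⟩ := hψ.surj ⟨⊥, Ideal.isPrime_bot⟩
      have h1 : a ∈ (Spec.map α q).asIdeal := by
        show α.hom a ∈ q.asIdeal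
        rw [ha]
        exact zero_mem _
      rw [hq] at h1
      exact h1
    haveI : FaithfulSMul A' R' := (faithfulSMul_iff_algebraMap_injective A' R').mpr hinj
    haveI : Module.IsTorsionFree A' R' := inferInstance
    exact (inferInstance : Module.Flat A' R')
  haveI : Flat (pullback.snd (pullback.snd f g) h) :=
    MorphismProperty.pullback_snd (P := @Flat) _ _ hflat
  have hsq : IsPullback (pullback.fst (pullback.snd f g) h ≫ pullback.fst f g) (pullback.snd (pullback.snd f g) h)
      f (h ≫ g) := (IsPullback.of_hasPullback _ h).paste_horiz (IsPullback.of_hasPullback f g)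
  rw [hh] at hsq
  let l := pullback.lift (pullback.fst (pullback.snd f g) h ≫ pullback.fst f g)
    (pullback.snd (pullback.snd f g) h ≫ Spec.map α) (by rw [hsq.w, Category.assoc])
  have hsq' : IsPullback (pullback.snd (pullback.snd f g) h) l (Spec.map α) (pullback.snd f t) := by
    refine IsPullback.flip (IsPullback.of_right ?_ (pullback.lift_snd _ _ _) (IsPullback.of_hasPullback f t))
    rw [pullback.lift_fst]
    exact hsq
  haveI := hψ
  exact MorphismProperty.of_isPullback_of_descendsAlong (P := @Flat)
    (Q := @Surjective ⊓ @Flat ⊓ @QuasiCompact) hsq' ⟨⟨hψ, inferInstance⟩, inferInstance⟩ inferInstance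

end Groth.Agent.S13735
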