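import Groth.Statements.S13738
import Mathlib

set_option autoImplicit false
universe u
open SGA1

namespace Groth.Agent.S13738

open CategoryTheory CategoryTheory.Limits AlgebraicGeometry in
/-- Let S be a separated irreducible Noetherian scheme, q : X → S finite and surjective with X
separated, and G a finite group acting on X by S-automorphisms, transitively on the geometric points
of X over every geometric point of S. Then every irreducible component of X maps onto S and G acts
transitively on the set of irreducible components of X. -/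
theorem result {X S : Scheme.{u}} [IsNoetherian S] [S.IsSeparated] [X.IsSeparated] [IrreducibleSpace ↥S] (q : X ⟶ S) [IsFinite q] [Surjective q] {G : Type u} [Group G] [Finite G] (ρ : G →* Aut X) (hρ : ∀ g : G, (ρ g).hom ≫ q = q) (htrans : ∀ (Ω : Type u) [Field Ω] [IsAlgClosed Ω] (τ₁ τ₂ : Spec (CommRingCat.of Ω) ⟶ X), τ₁ ≫ q = τ₂ ≫ q → ∃ g : G, τ₁ ≫ (ρ g).hom = τ₂) : (∀ T ∈ irreducibleComponents ↥X, Set.image (fun x => q x) T = Set.univ) ∧ ∀ T₁ ∈ irreducibleComponents ↥X, ∀ T₂ ∈ irreducibleComponents ↥X, ∃ g : G, Set.image (fun x => (ρ g).hom x) T₁ = T₂ := by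
  have htr : ∀ x y : X, q x = q y → ∃ g : G, (ρ g).hom x = y := by
    intro x y hxy
    obtain ⟨z, hz1, hz2⟩ := Scheme.Pullback.exists_preimage_pullback x y hxy
    let Ω := AlgebraicClosure ((pullback q q).residueField z)
    let t : Spec (CommRingCat.of Ω) ⟶ pullback q q :=
      Spec.map (CommRingCat.ofHom (algebraMap ((pullback q q).residueField z) Ω)) ≫ (pullback q q).fromSpecResidueField z
    obtain ⟨g, hg⟩ := htrans Ω (t ≫ pullback.fst q q) (t ≫ pullback.snd q q) (by simp only [Category.assoc, pullback.condition])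
    refine ⟨g, ?_⟩
    let p : Spec (CommRingCat.of Ω) := IsLocalRing.closedPoint Ω
    have ht : t p = z := by
      show (Spec.map (CommRingCat.ofHom (algebraMap ((pullback q q).residueField z) Ω)) ≫ (pullback q q).fromSpecResidueField z) p = z
      rw [Scheme.Hom.comp_apply]
      exact Scheme.fromSpecResidueField_apply _ _
    have h2 : (ρ g).hom ((pullback.fst q q) (t p)) = (pullback.snd q q) (t p) := congr($(hg) p)
    rwa [ht, hz1, hz2] at h2
  have hq : ∀ g : G, ∀ A : Set X, (fun x => q x) '' ((fun x => (ρ g).hom x) '' A) = (fun x => q x) '' A := fun g A => by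
    rw [Set.image_image]
    refine Set.image_congr fun a _ => ?_
    rw [← Scheme.Hom.comp_apply, hρ]
  obtain ⟨x0, hx0⟩ := (q.surjective) (genericPoint ↥S)
  have hT0c : IsClosed (irreducibleComponent x0) := isClosed_irreducibleComponent
  have hT0i : IsIrreducible (irreducibleComponent x0) := isIrreducible_irreducibleComponent
  have hT0 : (fun x => q x) '' irreducibleComponent x0 = Set.univ := by
    refine Set.eq_univ_of_univ_subset ((genericPoint_spec ↥S).def.symm.le.trans ?_)
    refine closure_minimal (Set.singleton_subset_iff.2 ⟨x0, mem_irreducibleComponent, hx0⟩) ?_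
    exact q.isClosedMap _ hT0c
  have hall : ∀ T ∈ irreducibleComponents ↥X, ∃ g : G, (fun x => (ρ g).hom x) '' irreducibleComponent x0 = T := by
    intro T hT
    have hTc := isClosed_of_mem_irreducibleComponents T hT
    obtain ⟨η, hη⟩ := QuasiSober.sober hT.1 hTc
    obtain ⟨y, hy, hqy⟩ : q η ∈ (fun x => q x) '' irreducibleComponent x0 := by rw [hT0]; trivial
    obtain ⟨g, hg⟩ := htr y η hqy
    refine ⟨g, ?_⟩
    have hsub : T ⊆ (fun x => (ρ g).hom x) '' irreducibleComponent x0 := by
      rw [← hη.def]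
      exact closure_minimal (Set.singleton_subset_iff.2 ⟨y, hy, hg⟩)
        (haveI : IsIso ((ρ g).hom : X ⟶ X) := ⟨(ρ g).inv, (ρ g).hom_inv_id, (ρ g).inv_hom_id⟩
         (ρ g).hom.isClosedEmbedding.isClosedMap _ hT0c)
    exact (hT.2 (hT0i.image _ (ρ g).hom.continuous.continuousOn) hsub).antisymm hsub
  refine ⟨fun T hT => ?_, fun T₁ h₁ T₂ h₂ => ?_⟩
  · obtain ⟨g, rfl⟩ := hall T hT
    rw [hq, hT0]
  · obtain ⟨g₁, rfl⟩ := hall T₁ h₁
    obtain ⟨g₂, rfl⟩ := hall T₂ h₂
    refine ⟨g₂ * g₁⁻¹, ?_⟩
    rw [Set.image_image]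
    congr 1
    funext x
    have h3 : (ρ g₁).hom ≫ (ρ (g₂ * g₁⁻¹)).hom = (ρ g₂).hom := by
      conv_rhs => rw [← inv_mul_cancel_right g₂ g₁, map_mul]
      rfl
    exact congr($(h3) x)

end Groth.Agent.S13738
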