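import Groth.Statements.S1374
import Groth.Agent.SpecDense.Ring
-- import your own Groth.Agent.* helpers here

set_option autoImplicit false
universe u
open FlatMor

namespace Groth.Agent.S1374

open AlgebraicGeometry CategoryTheory Limits in
/-- Let f : X ⟶ S be locally of finite type and x ⤳ x' a specialization of points of X, with x' a closed
point of its fibre f⁻¹(f(x')) and f(x) ≠ f(x'). Then the points x₁ with f(x₁) = f(x) which are
closed in the fibre f⁻¹(f(x)) and satisfy x ⤳ x₁ ⤳ x' are dense in the closure of {x} intersected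
with the fibre f⁻¹(f(x)) (fibres taken as subspaces of X). (The published statement omits the
condition f(x) ≠ f(x'), but the claim fails without it; it is stated here with that condition.) -/
theorem result {X S : Scheme.{u}} (f : X ⟶ S) [LocallyOfFiniteType f] (x x' : X) (hsp : x ⤳ x') (hne : f x ≠ f x')
    (hcl : IsClosed (Subtype.val ⁻¹' {x'} : Set ↑(f ⁻¹' {f x'}))) :
    Dense (Subtype.val ⁻¹' {x₁ : ↑X | f x₁ = f x ∧ IsClosed (Subtype.val ⁻¹' {x₁} : Set ↑(f ⁻¹' {f x})) ∧ x ⤳ x₁ ∧ x₁ ⤳ x'} :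
      Set ↑(closure {x} ∩ f ⁻¹' {f x})) := by
  -- closed in the fibre means maximal among the specialisations with the same image
  have hmax' : ∀ y, x' ⤳ y → f y = f x' → y = x' := fun y hy hfy => by
    have h1 : (⟨x', rfl⟩ : ↑(f ⁻¹' {f x'})) ⤳ ⟨y, hfy⟩ := (Topology.IsInducing.subtypeVal.specializes_iff).mp hy
    exact h1.mem_closed hcl rfl
  rw [dense_iff_inter_open]
  rintro O ⟨U, hU, rfl⟩ ⟨⟨z, hzcl, hzs⟩, hzU⟩
  have hxU : x ∈ U := (specializes_iff_mem_closure.mpr hzcl).mem_open hU hzU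
  obtain ⟨V, hV, hfV, -⟩ := exists_isAffineOpen_mem_and_subset (x := f x') (U := ⊤) trivial
  obtain ⟨W, hW, hxW, hWV⟩ :=
    exists_isAffineOpen_mem_and_subset (x := x') (U := f ⁻¹ᵁ V) hfV
  let φ := f.appLE V W hWV
  letI : Algebra Γ(S, V) Γ(X, W) := φ.hom.toAlgebra
  haveI : Algebra.FiniteType Γ(S, V) Γ(X, W) := f.finiteType_appLE hV hW hWV
  let ι : PrimeSpectrum Γ(X, W) → X := fun p => hW.fromSpec p
  let κ : PrimeSpectrum Γ(S, V) → S := fun p => hV.fromSpec p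
  have hι : Topology.IsOpenEmbedding ι := hW.fromSpec.isOpenEmbedding
  have hκ : Topology.IsOpenEmbedding κ := hV.fromSpec.isOpenEmbedding
  have hιf : ∀ p, f (ι p) = κ (PrimeSpectrum.comap φ.hom p) := fun p => by
    have := congr($(IsAffineOpen.SpecMap_appLE_fromSpec f hV hW hWV) p)
    exact this.symm
  have hsurj : ∀ y ∈ W, ∃ p, ι p = y := fun y hy =>
    ⟨hW.primeIdealOf ⟨y, hy⟩, hW.fromSpec_primeIdealOf ⟨y, hy⟩⟩
  have hιW : ∀ p, ι p ∈ W := fun p => by
    show (ι p) ∈ (W : Set X)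
    rw [← hW.range_fromSpec]
    exact Set.mem_range_self p
  obtain ⟨Q, hQ⟩ := hsurj x (hsp.mem_open W.2 hxW)
  obtain ⟨Q', hQ'⟩ := hsurj x' hxW
  have hle : Q.asIdeal ≤ Q'.asIdeal := (PrimeSpectrum.le_iff_specializes Q Q').mpr
    (hι.isInducing.specializes_iff.mp (by rw [hQ, hQ']; exact hsp))
  have hpt : ∀ p q : PrimeSpectrum Γ(X, W), f (ι p) = f (ι q) ↔
      p.asIdeal.comap φ.hom = q.asIdeal.comap φ.hom := fun p q => by
    rw [hιf, hιf, hκ.injective.eq_iff, PrimeSpectrum.ext_iff]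
    rfl
  obtain ⟨-, ⟨h, rfl⟩, hhQ, hhU⟩ := (PrimeSpectrum.isTopologicalBasis_basic_opens
    (R := Γ(X, W))).exists_subset_of_mem_open (show Q ∈ ι ⁻¹' U by
      rw [Set.mem_preimage, hQ]; exact hxU) (hU.preimage hι.continuous)
  obtain ⟨Q₁, hQ₁, hQQ₁, hQ₁Q', hhQ₁, hcomap, hQ₁max⟩ :=
    Groth.Agent.SpecDense.exists_closed_between (A := Γ(S, V)) Q.asIdeal Q'.asIdeal hle
      (fun e => hne (by
        have := (hpt Q Q').mpr e
        rwa [hQ, hQ'] at this))
      (fun R hR hle' e => by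
        have h2 := hmax' (ι ⟨R, hR⟩) (hQ' ▸ hι.isInducing.specializes_iff.mpr
          ((PrimeSpectrum.le_iff_specializes Q' ⟨R, hR⟩).mp hle'))
          (hQ' ▸ (hpt ⟨R, hR⟩ Q').mpr e)
        exact congrArg PrimeSpectrum.asIdeal (hι.injective (h2.trans hQ'.symm)))
      h hhQ
  let P₁ : PrimeSpectrum Γ(X, W) := ⟨Q₁, hQ₁⟩
  have hxx₁ : x ⤳ ι P₁ := hQ ▸ hι.isInducing.specializes_iff.mpr
    ((PrimeSpectrum.le_iff_specializes Q P₁).mp hQQ₁)
  have hx₁x' : ι P₁ ⤳ x' := hQ' ▸ hι.isInducing.specializes_iff.mpr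
    ((PrimeSpectrum.le_iff_specializes P₁ Q').mp hQ₁Q')
  have hfx₁ : f (ι P₁) = f x := hQ ▸ (hpt P₁ Q).mpr hcomap
  refine ⟨⟨ι P₁, specializes_iff_mem_closure.mp hxx₁, hfx₁⟩, hhU hhQ₁, hfx₁, ?_, hxx₁, hx₁x'⟩
  -- closed in the fibre
  haveI : JacobsonSpace ↑(f ⁻¹' {f x}) := JacobsonSpace.of_isOpenEmbedding
    (f.fiberHomeo (f x)).symm.isOpenEmbedding
  let y₁ : ↑(f ⁻¹' {f x}) := ⟨ι P₁, hfx₁⟩
  have hsingle : (Subtype.val ⁻¹' {ι P₁} : Set ↑(f ⁻¹' {f x})) = {y₁} := by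
    ext w
    exact ⟨fun e => Subtype.ext e, fun e => congrArg Subtype.val e⟩
  rw [hsingle]
  refine isClosed_singleton_of_isLocallyClosed_singleton ?_
  have : ({y₁} : Set ↑(f ⁻¹' {f x})) = Subtype.val ⁻¹' (W : Set X) ∩ closure {y₁} := by
    refine Set.Subset.antisymm (fun w hw => ⟨?_, subset_closure hw⟩) ?_
    · rw [Set.mem_singleton_iff] at hw
      subst hw
      exact hιW P₁
    · rintro ⟨w, hfw⟩ ⟨hwW, hwcl⟩
      obtain ⟨R, rfl⟩ := hsurj w hwW
      have h1 : ι P₁ ⤳ ι R := (specializes_iff_mem_closure.mpr hwcl).map continuous_subtype_val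
      have h2 := hQ₁max R.asIdeal R.2
        ((PrimeSpectrum.le_iff_specializes P₁ R).mpr (hι.isInducing.specializes_iff.mp h1))
        ((hpt R Q).mp (hQ ▸ hfw))
      exact Subtype.ext (congrArg ι (PrimeSpectrum.ext h2 : R = P₁))
  rw [this]
  exact (W.2.preimage continuous_subtype_val).isLocallyClosed.inter isClosed_closure.isLocallyClosed

end Groth.Agent.S1374
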