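import Groth.Statements.S13740
import Groth.Agent.S13739
import Mathlib

set_option autoImplicit false
universe w u
open SGA1

namespace Groth.Agent.S13740

open CategoryTheory CategoryTheory.Limits AlgebraicGeometry in
/-- Let S be a separated Noetherian scheme, π : X → S finite and surjective with X separated, G a finite
group acting on X by S-automorphisms and transitively on the geometric points of X over every
geometric point of S, and F a presheaf of sets on schemes satisfying the sheaf condition for every
finite family of quasi-finite morphisms of finite type whose induced morphism from the disjoint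
union is universally submersive (a qfh-sheaf). Then pulling back along π identifies F(S) with the
G-invariant elements of F(X): F(π) is injective with image the invariants. (The published statement
takes F a qfh-sheaf on Noetherian schemes over S; this row takes a presheaf on all schemes with the
sheaf property for every such family, a stronger hypothesis.) -/
theorem result {X S : Scheme.{u}} [IsNoetherian S] [S.IsSeparated] [X.IsSeparated] (q : X ⟶ S) [IsFinite q] [Surjective q] {G : Type u} [Group G] [Finite G] (ρ : G →* Aut X) (hρ : ∀ g : G, (ρ g).hom ≫ q = q) (htrans : ∀ (Ω : Type u) [Field Ω] [IsAlgClosed Ω] (τ₁ τ₂ : Spec (CommRingCat.of Ω) ⟶ X), τ₁ ≫ q = τ₂ ≫ q → ∃ g : G, τ₁ ≫ (ρ g).hom = τ₂) (F : Scheme.{u}ᵒᵖ ⥤ Type w) (hF : ∀ ⦃T : Scheme.{u}⦄ (E : PreZeroHypercover.{u} T), Finite E.I₀ → (∀ i, LocallyOfFiniteType (E.f i)) → (∀ i, QuasiCompact (E.f i)) → (∀ i, LocallyQuasiFinite (E.f i)) → SGA1.UnivSubmersive (Sigma.desc E.f) → Presieve.IsSheafFor F E.presieve₀) : Function.Injective (F.map q.op) ∧ Set.range (F.map q.op) = {f :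 F.obj (Opposite.op X) | ∀ g : G, F.map (ρ g).hom.op f = f} := by
  have husub : ∀ {A B : Scheme.{u}} (f : A ⟶ B), IsFinite f → Surjective f → SGA1.UnivSubmersive f := by
    intro A B f hf hs A' B' i₁ i₂ f' sq
    haveI : IsFinite f' := MorphismProperty.of_isPullback sq.flip hf
    haveI : Surjective f' := MorphismProperty.of_isPullback sq.flip hs
    exact f'.isClosedMap.isQuotientMap f'.continuous Surjective.surj
  let E : PreZeroHypercover.{u} S := ⟨PUnit, fun _ => X, fun _ => q⟩
  have hfE : IsFinite (Sigma.desc E.f) ∧ Surjective (Sigma.desc E.f) := by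
    haveI : IsIso (Sigma.ι E.X PUnit.unit) := by
      refine ⟨⟨Sigma.desc (fun _ => 𝟙 X), ?_, ?_⟩⟩
      · exact Sigma.ι_desc _ _
      · exact Sigma.hom_ext _ _ fun i => by rw [Sigma.ι_desc_assoc]; exact Category.id_comp _
    have hd : Sigma.desc E.f = inv (Sigma.ι E.X PUnit.unit) ≫ q := by
      rw [IsIso.eq_inv_comp]; exact Sigma.ι_desc _ _
    rw [hd]
    exact ⟨inferInstance, inferInstance⟩
  have hE : Presieve.IsSheafFor F E.presieve₀ :=
    hF E (inferInstanceAs (Finite PUnit)) (fun _ => inferInstanceAs (LocallyOfFiniteType q))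
      (fun _ => inferInstanceAs (QuasiCompact q)) (fun _ => inferInstanceAs (LocallyQuasiFinite q)) (husub _ hfE.1 hfE.2)
  rw [PreZeroHypercover.presieve₀, Presieve.isSheafFor_arrows_iff] at hE
  have hinj : Function.Injective (F.map q.op) := by
    intro a b hab
    have hc : Presieve.Arrows.Compatible F E.f (fun _ => F.map q.op a) := by
      intro i j Z gi gj hg
      change F.map gi.op (F.map q.op a) = F.map gj.op (F.map q.op a)
      rw [← FunctorToTypes.map_comp_apply, ← FunctorToTypes.map_comp_apply, ← op_comp, ← op_comp]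
      exact congr(F.map (Quiver.Hom.op $hg) a)
    obtain ⟨t, -, ht⟩ := hE _ hc
    exact (ht a fun _ => rfl).trans (ht b fun _ => hab.symm).symm
  refine ⟨hinj, Set.ext fun f => ⟨?_, fun hf => ?_⟩⟩
  · rintro ⟨a, rfl⟩ g
    rw [← FunctorToTypes.map_comp_apply, ← op_comp, hρ]
  · let l : G → (X ⟶ pullback (𝟙 X ≫ q) q) := fun σ => pullback.lift (𝟙 X) (ρ σ).hom (by rw [hρ, Category.id_comp, Category.id_comp])
    let E' : PreZeroHypercover.{u} (pullback (𝟙 X ≫ q) q) := ⟨G, fun _ => X, l⟩
    have hl : ∀ σ, IsFinite (l σ) := fun σ => by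
      haveI : IsFinite (l σ ≫ pullback.fst (𝟙 X ≫ q) q) := by rw [pullback.lift_fst]; infer_instance
      exact IsFinite.of_comp (l σ) (pullback.fst (𝟙 X ≫ q) q)
    obtain ⟨hυ, hυ'⟩ := Groth.Agent.S13739.result q ρ hρ htrans (𝟙 X) (Sigma.desc E'.f)
      (fun σ => by rw [Sigma.ι_desc_assoc]; exact pullback.lift_fst _ _ _)
      (fun σ => by rw [Sigma.ι_desc_assoc]; exact (pullback.lift_snd _ _ _).trans (Category.id_comp _).symm)
    have hE' : Presieve.IsSheafFor F E'.presieve₀ :=
      hF E' (inferInstanceAs (Finite G)) (fun i => haveI := hl i; inferInstanceAs (LocallyOfFiniteType (l i)))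
        (fun i => haveI := hl i; inferInstanceAs (QuasiCompact (l i)))
        (fun i => haveI := hl i; inferInstanceAs (LocallyQuasiFinite (l i))) (husub _ hυ hυ')
    rw [PreZeroHypercover.presieve₀, Presieve.isSheafFor_arrows_iff] at hE'
    have key : F.map (pullback.fst (𝟙 X ≫ q) q).op f = F.map (pullback.snd (𝟙 X ≫ q) q).op f := by
      have hc : Presieve.Arrows.Compatible F E'.f (fun i => F.map (l i).op (F.map (pullback.fst (𝟙 X ≫ q) q).op f)) := by
        intro i j Z gi gj hg
        change F.map gi.op (F.map (l i).op _) = F.map gj.op (F.map (l j).op _)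
        rw [← FunctorToTypes.map_comp_apply, ← FunctorToTypes.map_comp_apply F (l j).op gj.op, ← op_comp, ← op_comp]
        exact congr(F.map (Quiver.Hom.op $hg) (F.map (pullback.fst (𝟙 X ≫ q) q).op f))
      obtain ⟨t, -, ht⟩ := hE' _ hc
      refine (ht _ fun _ => rfl).trans (ht _ fun i => ?_).symm
      change F.map (l i).op (F.map (pullback.snd (𝟙 X ≫ q) q).op f) = F.map (l i).op (F.map (pullback.fst (𝟙 X ≫ q) q).op f)
      rw [← FunctorToTypes.map_comp_apply, ← FunctorToTypes.map_comp_apply, ← op_comp, ← op_comp, pullback.lift_fst, pullback.lift_snd, hf i]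
      simp
    have hc : Presieve.Arrows.Compatible F E.f (fun _ => f) := by
      intro i j Z gi gj hg
      have hg' : gi ≫ (𝟙 X ≫ q) = gj ≫ q := by rw [Category.id_comp]; exact hg
      have := congrArg (F.map (pullback.lift gi gj hg').op) key
      rw [← FunctorToTypes.map_comp_apply, ← FunctorToTypes.map_comp_apply, ← op_comp, ← op_comp, pullback.lift_fst, pullback.lift_snd] at this
      exact this
    obtain ⟨t, ht, -⟩ := hE _ hc
    exact ⟨t, ht PUnit.unit⟩

end Groth.Agent.S13740
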