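import Groth.Statements.S13741
import Mathlib

set_option autoImplicit false
universe u
open SGA1

namespace Groth.Agent.S13741

open CategoryTheory CategoryTheory.Limits AlgebraicGeometry in
/-- Let S be a separated Noetherian scheme, q : X → S finite and surjective with X separated, and G a
finite group acting on X by S-automorphisms. Assume that G acts transitively on every fibre of q,
that each residue field extension k(x)/k(q x) is normal, and that for each x every k(q
x)-automorphism of k(x) is induced by an element of G fixing x. Then for every algebraically closed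
field Ω, any two Ω-points of X with the same composite to S are conjugate under G. -/
theorem result {X S : Scheme.{u}} [IsNoetherian S] [S.IsSeparated] [X.IsSeparated] (q : X ⟶ S) [IsFinite q] [Surjective q] {G : Type u} [Group G] [Finite G] (ρ : G →* Aut X) (hρ : ∀ g : G, (ρ g).hom ≫ q = q) (h1 : ∀ x y : X, q x = q y → ∃ g : G, (ρ g).hom x = y) (h2 : ∀ x : X, @Normal (S.residueField (q x)) (X.residueField x) _ _ (q.residueFieldMap x).hom.toAlgebra) (h3 : ∀ (x : X) (σ : X.residueField x ≅ X.residueField x), q.residueFieldMap x ≫ σ.hom = q.residueFieldMap x → ∃ g : G, X.fromSpecResidueField x ≫ (ρ g).hom = Spec.map σ.hom ≫ X.fromSpecResidueField x) (Ω : Type u) [Field Ω] [IsAlgClosed Ω] (τ₁ τ₂ : Spec (CommRingCat.of Ω) ⟶ X) (hτ : τ₁ ≫ q = τ₂ ≫ q) : ∃ g : G, τ₁ ≫ (ρ g).hom = τ₂ := by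
  obtain ⟨⟨x, φ⟩, rfl⟩ := (Scheme.SpecToEquivOfField Ω X).symm.surjective τ₂
  let p : Spec (CommRingCat.of Ω) := IsLocalRing.closedPoint Ω
  have hp2 : ((Scheme.SpecToEquivOfField Ω X).symm ⟨x, φ⟩) p = x := by
    show (Spec.map φ ≫ X.fromSpecResidueField x) p = x
    rw [Scheme.Hom.comp_apply]
    exact Scheme.fromSpecResidueField_apply _ _
  obtain ⟨g, hg⟩ := h1 (τ₁ p) x (by
    rw [← hp2, ← Scheme.Hom.comp_apply, ← Scheme.Hom.comp_apply, hτ])
  obtain ⟨⟨y, ψ⟩, hψ⟩ := (Scheme.SpecToEquivOfField Ω X).symm.surjective (τ₁ ≫ (ρ g).hom)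
  have hy : y = x := by
    have h4 : ((Scheme.SpecToEquivOfField Ω X).symm ⟨y, ψ⟩) p = y := by
      show (Spec.map ψ ≫ X.fromSpecResidueField y) p = y
      rw [Scheme.Hom.comp_apply]
      exact Scheme.fromSpecResidueField_apply _ _
    rw [← h4, hψ, Scheme.Hom.comp_apply, hg]
  subst hy
  change Spec.map ψ ≫ X.fromSpecResidueField y = _ at hψ
  change τ₁ ≫ q = (Spec.map φ ≫ X.fromSpecResidueField y) ≫ q at hτ
  have hK : q.residueFieldMap y ≫ ψ = q.residueFieldMap y ≫ φ := by
    apply Spec.map_injective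
    rw [← cancel_mono (S.fromSpecResidueField (q y)), Spec.map_comp, Spec.map_comp, Category.assoc, Category.assoc,
      Scheme.Hom.SpecMap_residueFieldMap_fromSpecResidueField, ← Category.assoc, ← Category.assoc, hψ, Category.assoc, hρ, hτ]
  let K := S.residueField (q y)
  let L := X.residueField y
  letI : Algebra K L := (q.residueFieldMap y).hom.toAlgebra
  letI : Algebra L Ω := ψ.hom.toAlgebra
  letI : Algebra K Ω := (q.residueFieldMap y ≫ ψ).hom.toAlgebra
  haveI : IsScalarTower K L Ω := IsScalarTower.of_algebraMap_eq fun a => rfl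
  haveI : Normal K L := h2 y
  let φA : L →ₐ[K] Ω := { φ.hom with commutes' := fun a => (congr($(hK) a)).symm }
  let e : L ≃ₐ[K] L := φA.restrictNormal' L
  let σ : X.residueField y ≅ X.residueField y := e.toRingEquiv.toCommRingCatIso
  have hσ : q.residueFieldMap y ≫ σ.hom = q.residueFieldMap y := by
    ext a
    exact e.commutes a
  have hφ : σ.hom ≫ ψ = φ := by
    ext a
    exact φA.restrictNormal_commutes L a
  obtain ⟨g', hg'⟩ := h3 y σ hσ
  refine ⟨g' * g, ?_⟩
  have hm : (ρ (g' * g)).hom = (ρ g).hom ≫ (ρ g').hom := by rw [map_mul]; rfl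
  rw [hm, ← Category.assoc, ← hψ, Category.assoc, hg']
  show _ = Spec.map φ ≫ X.fromSpecResidueField y
  rw [← hφ, Spec.map_comp, Category.assoc]

end Groth.Agent.S13741
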