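import Groth.Statements.S13742
import Groth.Agent.TorQC.Main

set_option autoImplicit false
universe u
open Cyc

set_option backward.isDefEq.respectTransparency false
set_option backward.isDefEq.respectTransparency.types false

namespace Groth.Agent.S13742

open CategoryTheory CategoryTheory.Limits AlgebraicGeometry in
/-- Let S be a separated Noetherian scheme, f : X → S separated of finite type, z a point of X mapping
to a generic point of an irreducible component of S, and ι : Z → X a closed immersion from a reduced
scheme with image the closure of z (the closure of z with its reduced structure). Then Z ×_S Spec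
k(f z) is an integral scheme, and its image in the fibre X ×_S Spec k(f z) is the closure of the
unique point w of that fibre lying over z: Z ×_S Spec k(f z) is the closure of z in its fibre, with
reduced structure. -/
theorem result {X S Z : Scheme.{u}} [IsNoetherian S] [S.IsSeparated] [X.IsSeparated] (f : X ⟶ S) [LocallyOfFiniteType f] [QuasiCompact f] (z : X) (hz : closure {f z} ∈ irreducibleComponents ↥S) (ι : Z ⟶ X) [IsClosedImmersion ι] [IsReduced Z] (hZ : Set.range ι = closure {z}) : IsIntegral (pullback (ι ≫ f) (S.fromSpecResidueField (f z))) ∧ ∃ w : ↥(pullback f (S.fromSpecResidueField (f z))), pullback.fst f (S.fromSpecResidueField (f z)) w = z ∧ Set.range (pullback.map (ι ≫ f) (S.fromSpecResidueField (f z)) f (S.fromSpecResidueField (f z)) ι (𝟙 _) (𝟙 S) (Category.comp_id _) ((Category.comp_id _).trans (Category.id_comp _).symm)) = closure {w} := by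
  let s := S.fromSpecResidueField (f z)
  let p := pullback.fst (ι ≫ f) s
  haveI : IsPreimmersion p := inferInstance
  obtain ⟨z', hz'⟩ : z ∈ Set.range ι := by rw [hZ]; exact subset_closure rfl
  have hgen : ∀ t : Z, z' ⤳ t := fun t => by
    rw [ι.isClosedEmbedding.toIsEmbedding.toIsInducing.specializes_iff.symm, hz']
    rw [specializes_iff_mem_closure, ← hZ]
    exact ⟨t, rfl⟩
  haveI : Nonempty Z := ⟨z'⟩
  haveI : IrreducibleSpace Z := by
    refine (irreducibleSpace_def _).mpr ?_
    rw [Set.top_eq_univ, ← Set.eq_univ_of_forall fun t => specializes_iff_mem_closure.mp (hgen t)]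
    exact isIrreducible_singleton.closure
  haveI : IsIntegral Z := isIntegral_of_irreducibleSpace_of_isReduced Z
  have hfz : (ι ≫ f) z' = f z := by rw [Scheme.Hom.comp_apply, hz']
  have hrange : Set.range p = (ι ≫ f) ⁻¹' {f z} := by
    rw [Scheme.Pullback.range_fst, Scheme.range_fromSpecResidueField]
  obtain ⟨w', hw'⟩ : z' ∈ Set.range p := by rw [hrange]; exact hfz
  have hspec : ∀ u, w' ⤳ u := fun u => by
    rw [p.isEmbedding.toIsInducing.specializes_iff.symm, hw']
    exact hgen _
  constructor
  · haveI : Nonempty ↥(pullback (ι ≫ f) s) := ⟨w'⟩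
    haveI : IrreducibleSpace ↥(pullback (ι ≫ f) s) := by
      refine (irreducibleSpace_def _).mpr ?_
      rw [Set.top_eq_univ, ← Set.eq_univ_of_forall fun t => specializes_iff_mem_closure.mp (hspec t)]
      exact isIrreducible_singleton.closure
    haveI : ∀ u, _root_.IsReduced ((pullback (ι ≫ f) s).presheaf.stalk u) := fun u => by
      have hu : (ι ≫ f) (p u) = f z := by
        have h : p u ∈ Set.range p := ⟨u, rfl⟩
        rwa [hrange] at h
      -- the maximal ideal of the base dies in the stalk
      have hkill : ∀ a ∈ IsLocalRing.maximalIdeal (S.presheaf.stalk ((ι ≫ f) (p u))), (ι ≫ f).stalkMap (p u) a = 0 := by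
        intro a ha
        have hinj : Function.Injective (Z.presheaf.stalkSpecializes (hgen (p u))) := by
          intro b c hbc
          apply IsFractionRing.injective (Z.presheaf.stalk (p u)) Z.functionField
          have h2 := congrArg (Z.presheaf.stalkSpecializes ((genericPoint_spec Z).specializes (Set.mem_univ z'))) hbc
          rwa [← ConcreteCategory.comp_apply, ← ConcreteCategory.comp_apply, TopCat.Presheaf.stalkSpecializes_comp] at h2
        apply hinj
        rw [map_zero, ← ConcreteCategory.comp_apply, ← Scheme.Hom.stalkSpecializes_stalkMap, ConcreteCategory.comp_apply]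
        haveI : IsIso (S.presheaf.stalkSpecializes ((hgen (p u)).map (ι ≫ f).continuous)) := by
          have he : (ι ≫ f) z' = (ι ≫ f) (p u) := hfz.trans hu.symm
          exact (S.presheaf.stalkCongr (.of_eq he.symm)).isIso_hom
        have hmem : S.presheaf.stalkSpecializes ((hgen (p u)).map (ι ≫ f).continuous) a ∈
            IsLocalRing.maximalIdeal (S.presheaf.stalk ((ι ≫ f) z')) := by
          rw [IsLocalRing.mem_maximalIdeal, mem_nonunits_iff] at ha ⊢
          intro h
          exact ha ((isUnit_map_iff (asIso (S.presheaf.stalkSpecializes ((hgen (p u)).map (ι ≫ f).continuous))).commRingCatIsoToRingEquiv a).mp h)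
        have hgz : genericPoint Z = z' :=
          ((genericPoint_spec Z).specializes (Set.mem_univ z')).antisymm (hgen _) |>.eq
        have hF : IsField (Z.presheaf.stalk z') := hgz ▸ Field.toIsField Z.functionField
        by_contra hne
        have hu2 : IsUnit ((ι ≫ f).stalkMap z' (S.presheaf.stalkSpecializes ((hgen (p u)).map (ι ≫ f).continuous) a)) := by
          obtain ⟨b, hb⟩ := hF.mul_inv_cancel hne
          exact .of_mul_eq_one _ hb
        exact hmem (isUnit_of_map_unit ((ι ≫ f).stalkMap z').hom _ hu2)
      let θ : S.residueField ((ι ≫ f) (p u)) ⟶ Z.presheaf.stalk (p u) :=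
        CommRingCat.ofHom (Ideal.Quotient.lift _ ((ι ≫ f).stalkMap (p u)).hom hkill)
      have hθ : S.residue _ ≫ θ = (ι ≫ f).stalkMap (p u) := rfl
      let q : Spec (Z.presheaf.stalk (p u)) ⟶ Spec (S.residueField (f z)) :=
        Spec.map θ ≫ Spec.map (S.residueFieldCongr hu).inv
      have hq : Z.fromSpecStalk (p u) ≫ (ι ≫ f) = q ≫ s := by
        rw [← Scheme.SpecMap_stalkMap_fromSpecStalk, ← hθ, Spec.map_comp, Category.assoc, Category.assoc]
        congr 1
        exact (S.residueFieldCongr_fromSpecResidueField hu.symm).symm
      let g := pullback.lift (Z.fromSpecStalk (p u)) q hq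
      have hgp : g ≫ p = Z.fromSpecStalk (p u) := pullback.lift_fst _ _ _
      have hgu : g (IsLocalRing.closedPoint _) = u := by
        apply p.isEmbedding.injective
        rw [← Scheme.Hom.comp_apply, hgp, Scheme.fromSpecStalk_closedPoint]
      have hinjp : Function.Injective (p.stalkMap (g (IsLocalRing.closedPoint _))) := by
        haveI : IsIso ((g ≫ p).stalkMap (IsLocalRing.closedPoint _)) := by
          rw [Scheme.Hom.stalkMap_congr_hom _ _ hgp]
          haveI := Groth.Agent.TorQC.isIso_stalkMap_fromSpecStalk (p u)
          infer_instance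
        have h1 : Function.Injective ((g ≫ p).stalkMap (IsLocalRing.closedPoint (Z.presheaf.stalk (p u)))) :=
          ((ConcreteCategory.isIso_iff_bijective _).mp inferInstance).1
        rw [Scheme.Hom.stalkMap_comp] at h1
        intro a b hab
        refine h1 ?_
        rw [ConcreteCategory.comp_apply, ConcreteCategory.comp_apply]
        exact congrArg _ hab
      rw [← hgu]
      exact isReduced_of_injective
        (RingEquiv.ofBijective (p.stalkMap (g (IsLocalRing.closedPoint _))).hom ⟨hinjp, p.stalkMap_surjective _⟩).symm
        (RingEquiv.injective _)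
    haveI : IsReduced (pullback (ι ≫ f) s) := isReduced_of_isReduced_stalk _
    exact isIntegral_of_irreducibleSpace_of_isReduced _
  · let m := pullback.map (ι ≫ f) s f s ι (𝟙 _) (𝟙 S) (Category.comp_id _) ((Category.comp_id _).trans (Category.id_comp _).symm)
    have hm : m = (pullbackRightPullbackFstIso f s ι).inv ≫ pullback.snd ι (pullback.fst f s) := by
      apply pullback.hom_ext <;> simp [m]
    haveI : IsClosedImmersion m := by rw [hm]; infer_instance
    refine ⟨m w', ?_, ?_⟩
    · rw [← Scheme.Hom.comp_apply, show m ≫ pullback.fst f s = p ≫ ι from pullback.lift_fst _ _ _,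
        Scheme.Hom.comp_apply, hw', hz']
    · refine subset_antisymm ?_ (closure_minimal (Set.singleton_subset_iff.mpr ⟨w', rfl⟩) m.isClosedEmbedding.isClosed_range)
      rintro _ ⟨u, rfl⟩
      exact specializes_iff_mem_closure.mp ((hspec u).map m.continuous)

end Groth.Agent.S13742
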