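import Groth.Statements.S13746
import Groth.Agent.LBDesc.App
-- import your own Groth.Agent.* helpers here

set_option autoImplicit false
set_option backward.isDefEq.respectTransparency false
set_option linter.style.haveILetI false
universe u
open CategoryTheory AlgebraicGeometry
open SemiFact

namespace Groth.Agent.S13746

open CategoryTheory.Limits in
/-- elements integral over the base which become integral multiples are in the base -/
theorem mem_range_of_pow_mul {A B : Type u} [CommRing A] [CommRing B] (f : A →+* B) (hf : Function.Injective f)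
    (hint : f.IsIntegral) (t : A) (ht : ∀ b : B, f t * b = 0 → b = 0)
    (hred : ∀ (a : A) (d : ℕ), t ∣ a ^ d → t ∣ a) :
    ∀ (n : ℕ) (b : B), f t ^ n * b ∈ Set.range f → b ∈ Set.range f
  | 0, b, h => by simpa using h
  | n + 1, b, h => by
    obtain ⟨a, ha⟩ := h
    obtain ⟨p, hp, hpb⟩ := hint b
    have h0 : f (Polynomial.eval a (p.scaleRoots (t ^ (n + 1)))) = 0 := by
      rw [← Polynomial.eval₂_at_apply, ha, ← map_pow f t, Polynomial.scaleRoots_eval₂_mul, hpb, mul_zero]
    have h1 : Polynomial.eval a (p.scaleRoots (t ^ (n + 1))) = 0 := hf (h0.trans (map_zero f).symm)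
    rw [Polynomial.eval_eq_sum_range, Polynomial.natDegree_scaleRoots, Finset.sum_range_succ,
      Polynomial.coeff_scaleRoots_natDegree, hp.leadingCoeff, one_mul] at h1
    have h2 : t ∣ a ^ p.natDegree := by
      rw [eq_neg_of_add_eq_zero_right h1, dvd_neg]
      refine Finset.dvd_sum fun i hi => ?_
      rw [Polynomial.coeff_scaleRoots, ← pow_mul]
      exact dvd_mul_of_dvd_left (dvd_mul_of_dvd_right (dvd_pow_self t
        (mul_ne_zero (Nat.succ_ne_zero n) (Nat.sub_ne_zero_of_lt (Finset.mem_range.1 hi)))) _) _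
    obtain ⟨a', rfl⟩ := hred a _ h2
    refine mem_range_of_pow_mul f hf hint t ht hred n b ⟨a', ?_⟩
    refine (sub_eq_zero.1 (ht (f t ^ n * b - f a') ?_)).symm
    rw [mul_sub, ← mul_assoc, ← pow_succ', ← ha, map_mul, sub_self]

open CategoryTheory.Limits TensorProduct in
/-- reduced special fibre -/
theorem dvd_of_dvd_pow (R : Type u) [CommRing R] [IsDomain R] [IsDiscreteValuationRing R] {X : Scheme.{u}}
    (f : X ⟶ Spec (CommRingCat.of R)) [IsReduced (f.fiber (IsLocalRing.closedPoint R))]
    {U : X.Opens} (hU : IsAffineOpen U) (φ : CommRingCat.of R ⟶ Γ(X, U)) (hφ : Spec.map φ = hU.fromSpec ≫ f)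
    (ϖ : R) (hϖ : Irreducible ϖ) (a : Γ(X, U)) (d : ℕ) (h : φ.hom ϖ ∣ a ^ d) : φ.hom ϖ ∣ a := by
  let m := IsLocalRing.maximalIdeal R
  let κ := m.ResidueField
  let g : Spec (CommRingCat.of κ) ⟶ Spec (CommRingCat.of R) := Spec.map (CommRingCat.ofHom (algebraMap R κ))
  haveI : IsReduced (pullback f g) := by
    let e : pullback f g ≅ f.fiber (IsLocalRing.closedPoint R) := by
      refine asIso (pullback.map _ _ _ _ (𝟙 _)
        (Spec.map (Scheme.Spec.residueFieldIso (CommRingCat.of R) (IsLocalRing.closedPoint R)).hom) (𝟙 _) (by simp) ?_)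
      rw [← Scheme.Spec.map_residueFieldIso_inv_eq_fromSpecResidueField (CommRingCat.of R) (IsLocalRing.closedPoint R),
        ← Category.assoc, ← Spec.map_comp, Iso.inv_hom_id, Spec.map_id, Category.comp_id]
      exact (Category.id_comp _).symm
    exact isReduced_of_isOpenImmersion e.hom
  letI : Algebra R Γ(X, U) := φ.hom.toAlgebra
  let j : pullback (Spec.map (CommRingCat.ofHom (algebraMap R Γ(X, U)))) g ⟶ pullback f g :=
    pullback.map _ _ _ _ hU.fromSpec (𝟙 _) (𝟙 _) (by rw [Category.comp_id, ← hφ]; rfl) (by simp)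
  haveI : IsReduced (pullback (Spec.map (CommRingCat.ofHom (algebraMap R Γ(X, U)))) g) := isReduced_of_isOpenImmersion j
  haveI : IsReduced (Spec (CommRingCat.of (Γ(X, U) ⊗[R] κ))) :=
    isReduced_of_isOpenImmersion (pullbackSpecIso R Γ(X, U) κ).inv
  haveI : _root_.IsReduced (Γ(X, U) ⊗[R] κ) := (affine_isReduced_iff (CommRingCat.of (Γ(X, U) ⊗[R] κ))).1 inferInstance
  let e2 : (Γ(X, U) ⧸ m.map (algebraMap R Γ(X, U))) ≃ₐ[R] Γ(X, U) ⊗[R] κ :=
    ((Algebra.TensorProduct.quotIdealMapEquivTensorQuot Γ(X, U) m).restrictScalars R).trans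
      (Algebra.TensorProduct.congr AlgEquiv.refl
        (AlgEquiv.ofBijective (IsScalarTower.toAlgHom R (R ⧸ m) κ) m.bijective_algebraMap_quotient_residueField))
  haveI : _root_.IsReduced (Γ(X, U) ⧸ m.map (algebraMap R Γ(X, U))) := isReduced_of_injective e2.toRingHom e2.injective
  have hm : m.map (algebraMap R Γ(X, U)) = Ideal.span {φ.hom ϖ} := by
    rw [show m = Ideal.span {ϖ} from hϖ.maximalIdeal_eq, Ideal.map_span, Set.image_singleton]
    rfl
  rw [← Ideal.mem_span_singleton, ← hm] at h ⊢
  rw [← Ideal.Quotient.eq_zero_iff_mem] at h ⊢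
  exact IsNilpotent.eq_zero ⟨d, by rw [← map_pow]; exact h⟩

open CategoryTheory.Limits in
theorem torsionFree_sections {R : Type u} [CommRing R] [IsDomain R] {Y : Scheme.{u}}
    (f : Y ⟶ Spec (CommRingCat.of R)) [Flat f] (r : R) (hr : r ≠ 0) {W : Y.Opens}
    (s : Γ(Y, W)) (h : (f.appLE ⊤ W (fun _ _ => trivial)).hom ((Scheme.ΓSpecIso (CommRingCat.of R)).inv.hom r) * s = 0) :
    s = 0 := by
  refine Y.sheaf.eq_of_locally_eq' (fun V : {V : Y.affineOpens // V.1 ≤ W} => V.1.1) W (fun V => homOfLE V.2) ?_ s 0 fun V => ?_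
  · intro y hy
    obtain ⟨V, hV, hyV, hVW⟩ := exists_isAffineOpen_mem_and_subset (X := Y) (x := y) (U := W) hy
    exact TopologicalSpace.Opens.mem_iSup.2 ⟨⟨⟨V, hV⟩, hVW⟩, hyV⟩
  · letI : Algebra Γ(Spec (CommRingCat.of R), ⊤) Γ(Y, V.1.1) := (f.appLE ⊤ V.1.1 (fun _ _ => trivial)).hom.toAlgebra
    haveI : Module.Flat Γ(Spec (CommRingCat.of R), ⊤) Γ(Y, V.1.1) := Flat.flat_appLE f (isAffineOpen_top _) V.1.2 _
    haveI : IsDomain Γ(Spec (CommRingCat.of R), ⊤) :=
      (Scheme.ΓSpecIso (CommRingCat.of R)).commRingCatIsoToRingEquiv.toMulEquiv.isDomain R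
    set r' := (Scheme.ΓSpecIso (CommRingCat.of R)).inv.hom r with hr'
    have hr0 : r' ≠ 0 := fun h0 => hr ((Scheme.ΓSpecIso (CommRingCat.of R)).commRingCatIsoToRingEquiv.symm.injective
      (h0.trans (map_zero _).symm))
    have h2 : r' • (Y.presheaf.map (homOfLE V.2).op).hom s = 0 := by
      have h3 := congrArg (Y.presheaf.map (homOfLE V.2).op).hom h
      rw [map_mul, map_zero, ← CommRingCat.comp_apply, Scheme.Hom.appLE_map] at h3
      exact h3
    have := (Module.Flat.isSMulRegular_of_nonZeroDivisors (M := Γ(Y, V.1.1)) (mem_nonZeroDivisors_of_ne_zero hr0))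
    exact (this (h2.trans (smul_zero r').symm)).trans (map_zero _).symm

open CategoryTheory.Limits in
theorem app_bijective (R : Type u) [CommRing R] [IsDomain R] [IsDiscreteValuationRing R]
    (X Y : Over (Spec (CommRingCat.of R))) [Flat X.hom] [Flat Y.hom] (π : Y ⟶ X) [IsProper π.left]
    (hgen : IsIso ((Neron.genericFibre R).map π))
    [IsReduced (X.hom.fiber (IsLocalRing.closedPoint R))] {U : X.left.Opens} (hU : IsAffineOpen U) :
    Function.Bijective (π.left.app U).hom := by
  obtain ⟨ϖ, hϖ⟩ := IsDiscreteValuationRing.exists_irreducible R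
  let S := Spec (CommRingCat.of R)
  let ϖS : Γ(S, ⊤) := (Scheme.ΓSpecIso (CommRingCat.of R)).inv.hom ϖ
  let φ : CommRingCat.of R ⟶ Γ(X.left, U) :=
    (Scheme.ΓSpecIso (CommRingCat.of R)).inv ≫ X.hom.appLE ⊤ U (fun _ _ => trivial)
  have hφ : Spec.map φ = hU.fromSpec ≫ X.hom := by
    rw [Spec.map_comp, ← IsAffineOpen.SpecMap_appLE_fromSpec X.hom (isAffineOpen_top S) hU (fun _ _ => trivial),
      IsAffineOpen.fromSpec_top, Scheme.isoSpec_Spec_inv]
  set t : Γ(X.left, U) := φ.hom ϖ
  -- the generic open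
  let K := FractionRing R
  haveI : IsLocalization.Away ϖ K := by
    have hinj : Function.Injective (algebraMap R K) := IsFractionRing.injective R K
    refine { map_units := ?_, surj := ?_, exists_of_eq := fun h => ⟨1, by simpa using hinj h⟩ }
    · rintro ⟨_, n, rfl⟩
      exact (IsUnit.mk0 _ fun h => pow_ne_zero n hϖ.ne_zero (hinj (h.trans (map_zero _).symm)))
    · intro z
      obtain ⟨a, c, hc, rfl⟩ := IsFractionRing.div_surjective (A := R) z
      obtain ⟨n, u, rfl⟩ := IsDiscreteValuationRing.eq_unit_mul_pow_irreducible (nonZeroDivisors.ne_zero hc) hϖ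
      refine ⟨⟨(↑u⁻¹ : R) * a, ⟨ϖ ^ n, n, rfl⟩⟩, ?_⟩
      show algebraMap R K a / algebraMap R K (↑u * ϖ ^ n) * algebraMap R K (ϖ ^ n) = algebraMap R K ((↑u⁻¹ : R) * a)
      have hu : algebraMap R K ((↑u⁻¹ : R)) * algebraMap R K (u : R) = 1 := by rw [← map_mul, Units.inv_mul, map_one]
      have hn : algebraMap R K (ϖ ^ n) ≠ 0 := fun h => pow_ne_zero n hϖ.ne_zero (hinj (h.trans (map_zero _).symm))
      have hu0 : algebraMap R K (u : R) ≠ 0 := fun h => by rw [h, mul_zero] at hu; exact zero_ne_one hu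
      rw [map_mul, map_mul]
      rw [div_mul_eq_mul_div, div_eq_iff (mul_ne_zero hu0 hn)]
      linear_combination (algebraMap R K a * algebraMap R K (ϖ ^ n)) * hu.symm
  haveI : IsOpenImmersion (Neron.genPt R) := IsOpenImmersion.of_isLocalization ϖ
  let ρ := pullback.fst X.hom (Neron.genPt R)
  haveI : IsIso (π.left ∣_ ρ.opensRange) := by
    let L := ((Neron.genericFibre R).map π).left
    haveI := hgen
    haveI : IsIso L := (inferInstance : IsIso ((Over.forget _).map ((Neron.genericFibre R).map π)))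
    have hL : L ≫ ρ = pullback.fst Y.hom (Neron.genPt R) ≫ π.left := pullback.lift_fst _ _ _
    have sq : IsPullback (pullback.fst Y.hom (Neron.genPt R)) L π.left ρ := by
      refine IsPullback.of_bot ?_ hL.symm (IsPullback.of_hasPullback X.hom (Neron.genPt R))
      rw [Over.w π, show L ≫ pullback.snd X.hom (Neron.genPt R) = pullback.snd Y.hom (Neron.genPt R) from pullback.lift_snd _ _ _]
      exact IsPullback.of_hasPullback Y.hom (Neron.genPt R)
    haveI : IsIso (pullback.snd π.left ρ) := by
      rw [← sq.isoPullback_inv_snd]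
      infer_instance
    exact ((MorphismProperty.isomorphisms Scheme).arrow_mk_iso_iff (morphismRestrictOpensRange π.left ρ)).2
      (MorphismProperty.isomorphisms.infer_property _)
  have hgenapp : ∀ V : X.left.Opens, V ≤ ρ.opensRange → Function.Bijective (π.left.app V).hom := by
    intro V hV
    have e : ρ.opensRange.ι ''ᵁ (ρ.opensRange.ι ⁻¹ᵁ V) = V := by
      rw [Scheme.Hom.image_preimage_eq_opensRange_inf, Scheme.Opens.opensRange_ι, inf_eq_right.2 hV]
    have h1 : IsIso ((π.left ∣_ ρ.opensRange).app (ρ.opensRange.ι ⁻¹ᵁ V)) := inferInstance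
    rw [morphismRestrict_app] at h1
    haveI := h1
    haveI h2 : IsIso (π.left.app (ρ.opensRange.ι ''ᵁ (ρ.opensRange.ι ⁻¹ᵁ V))) :=
      IsIso.of_isIso_comp_right _ (Y.left.presheaf.map (eqToHom (image_morphismRestrict_preimage π.left ρ.opensRange _)).op)
    rw [e] at h2
    exact ConcreteCategory.bijective_of_isIso _
  have hD : X.left.basicOpen t ≤ ρ.opensRange := by
    intro x hx
    show x ∈ Set.range ρ
    rw [Scheme.Pullback.range_fst]
    show X.hom x ∈ Set.range (Neron.genPt R)
    rw [show Set.range (Neron.genPt R) = (PrimeSpectrum.basicOpen ϖ : Set (PrimeSpectrum R)) from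
      PrimeSpectrum.localization_away_comap_range K ϖ]
    have h1 : x ∈ X.hom ⁻¹ᵁ S.basicOpen ϖS := by
      have := Scheme.preimage_basicOpen X.hom ϖS
      rw [this]
      have h2 : X.left.basicOpen t ≤ X.left.basicOpen (X.hom.app ⊤ ϖS) := by
        show X.left.basicOpen ((X.left.presheaf.map (homOfLE _).op).hom (X.hom.app ⊤ ϖS)) ≤ _
        rw [Scheme.basicOpen_res]
        exact inf_le_right
      exact h2 hx
    rw [show S.basicOpen ϖS = PrimeSpectrum.basicOpen ϖ from basicOpen_eq_of_affine (R := CommRingCat.of R) ϖ] at h1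
    exact h1
  -- torsion freeness
  have hYw : ∀ a : Γ(S, ⊤), (π.left.app U).hom ((X.hom.appLE ⊤ U (fun _ _ => trivial)).hom a) =
      (Y.hom.appLE ⊤ (π.left ⁻¹ᵁ U) (fun _ _ => trivial)).hom a := by
    intro a
    rw [Scheme.Hom.app_eq_appLE, ← CommRingCat.comp_apply, Scheme.Hom.appLE_comp_appLE]
    congr 3
    exact Over.w π
  have htY : ∀ b : Γ(Y.left, π.left ⁻¹ᵁ U), (π.left.app U).hom t * b = 0 → b = 0 := by
    intro b hb
    refine torsionFree_sections Y.hom ϖ hϖ.ne_zero b ?_
    rw [← hYw]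
    exact hb
  have hD' : Function.Bijective (π.left.app (X.left.basicOpen t)).hom := hgenapp _ hD
  have hres : ∀ a : Γ(X.left, U), (π.left.app (X.left.basicOpen t)).hom
      ((X.left.presheaf.map (homOfLE (X.left.basicOpen_le t)).op).hom a) =
      (Y.left.presheaf.map (homOfLE (π.left.preimage_mono (X.left.basicOpen_le t))).op).hom ((π.left.app U).hom a) :=
    fun a => ConcreteCategory.congr_hom (π.left.naturality (homOfLE (X.left.basicOpen_le t)).op) a
  haveI := hU.isLocalization_basicOpen t
  have hinj : Function.Injective (π.left.app U).hom := by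
    intro a a' h
    rw [← sub_eq_zero] at h ⊢
    rw [← map_sub] at h
    have h1 : (X.left.presheaf.map (homOfLE (X.left.basicOpen_le t)).op).hom (a - a') = 0 :=
      hD'.1 (by rw [hres, h, map_zero, map_zero])
    obtain ⟨⟨_, n, rfl⟩, hn⟩ := (IsLocalization.map_eq_zero_iff (Submonoid.powers t) Γ(X.left, X.left.basicOpen t) _).1 h1
    clear h1 h
    induction n with
    | zero => simpa using hn
    | succ k ih =>
      refine ih ?_
      refine torsionFree_sections X.hom ϖ hϖ.ne_zero _ ?_
      show t * (t ^ k * (a - a')) = 0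
      rw [← mul_assoc, ← pow_succ']
      exact hn
  refine ⟨hinj, fun b => ?_⟩
  have hint : (π.left.app U).hom.IsIntegral := by
    haveI : IsAffine U.toScheme := hU
    haveI : UniversallyClosed (π.left ∣_ U) := IsZariskiLocalAtTarget.restrict (P := @UniversallyClosed) (inferInstance : UniversallyClosed π.left) U
    have h1 := isIntegral_appTop_of_universallyClosed (π.left ∣_ U)
    change ((π.left ∣_ U).app ⊤).hom.IsIntegral at h1
    rw [morphismRestrict_app, CommRingCat.hom_comp] at h1
    have key : ∀ (U' : X.left.Opens) (Z : CommRingCat.{u}) (i : Γ(Y.left, π.left ⁻¹ᵁ U') ⟶ Z),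
        (i.hom.comp (π.left.app U').hom).IsIntegral → IsIso i → U' = U → (π.left.app U).hom.IsIntegral := by
      intro U' Z i h hi e
      subst e
      have : (π.left.app U').hom = (asIso i).commRingCatIsoToRingEquiv.symm.toRingHom.comp (i.hom.comp (π.left.app U').hom) := by
        ext z
        exact ((asIso i).commRingCatIsoToRingEquiv.symm_apply_apply _).symm
      rw [this]
      exact h.trans _ _ (RingHom.isIntegral_of_surjective _ (asIso i).commRingCatIsoToRingEquiv.symm.surjective)
    refine key _ _ _ h1 ?_ U.ι_image_top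
    infer_instance
  have hloc : IsLocalization.Away ((π.left.app U).hom t) Γ(Y.left, Y.left.basicOpen ((π.left.app U).hom t)) :=
    isLocalization_basicOpen_of_qcqs (π.left.isCompact_preimage hU.isCompact)
      (π.left.isQuasiSeparated_preimage hU.isQuasiSeparated) _
  have hpre : π.left ⁻¹ᵁ X.left.basicOpen t = Y.left.basicOpen ((π.left.app U).hom t) := Scheme.preimage_basicOpen _ _
  obtain ⟨c, hc⟩ := hD'.2 ((Y.left.presheaf.map (homOfLE (π.left.preimage_mono (X.left.basicOpen_le t))).op).hom b)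
  obtain ⟨⟨a, ⟨_, n, rfl⟩⟩, ha⟩ := IsLocalization.surj (Submonoid.powers t) c
  have h2 : (Y.left.presheaf.map (homOfLE (π.left.preimage_mono (X.left.basicOpen_le t))).op).hom
      ((π.left.app U).hom t ^ n * b - (π.left.app U).hom a) = 0 := by
    rw [map_sub, map_mul, ← map_pow (π.left.app U).hom, ← hres, ← hres, ← hc, ← map_mul, sub_eq_zero]
    congr 1
    rw [mul_comm]
    exact ha
  have h3 : (Y.left.presheaf.map (homOfLE (Y.left.basicOpen_le ((π.left.app U).hom t))).op).hom
      ((π.left.app U).hom t ^ n * b - (π.left.app U).hom a) = 0 := by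
    have key : ∀ (O : Y.left.Opens) (hO : O ≤ π.left ⁻¹ᵁ U), O = π.left ⁻¹ᵁ X.left.basicOpen t →
        (Y.left.presheaf.map (homOfLE hO).op).hom ((π.left.app U).hom t ^ n * b - (π.left.app U).hom a) = 0 := by
      rintro _ hO rfl
      exact h2
    exact key _ _ hpre.symm
  obtain ⟨⟨_, k, rfl⟩, hk⟩ := (IsLocalization.map_eq_zero_iff (Submonoid.powers ((π.left.app U).hom t))
    Γ(Y.left, Y.left.basicOpen ((π.left.app U).hom t)) _).1 h3
  have h4 : (π.left.app U).hom t ^ (k + n) * b = (π.left.app U).hom (t ^ k * a) := by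
    rw [map_mul, map_pow, ← sub_eq_zero, pow_add, mul_assoc, ← mul_sub]
    exact hk
  obtain ⟨a', ha'⟩ := mem_range_of_pow_mul _ hinj hint t htY
    (fun a d h => dvd_of_dvd_pow R X.hom hU φ hφ ϖ hϖ a d h) (k + n) b ⟨_, h4.symm⟩
  exact ⟨a', ha'⟩

/-- Let R be a discrete valuation ring with fraction field K, let X and Y be schemes flat over Spec R
and let π : Y → X be a proper morphism over Spec R whose base change along Spec K → Spec R is an
isomorphism. If the fibre of X over the closed point of Spec R is reduced, then the canonical map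
O_X → π_* O_Y is an isomorphism: for every open V ⊆ X the ring map O_X(V) → O_Y(π⁻¹ V) is bijective. -/
theorem result
    (R : Type u) [CommRing R] [IsDomain R] [IsDiscreteValuationRing R]
    (X Y : Over (Spec (CommRingCat.of R))) [Flat X.hom] [Flat Y.hom]
    (π : Y ⟶ X) [IsProper π.left]
    (hgen : IsIso ((Neron.genericFibre R).map π))
    [IsReduced (X.hom.fiber (IsLocalRing.closedPoint R))] :
    ∀ V : X.left.Opens, IsIso (π.left.app V) := by
  intro V
  rw [ConcreteCategory.isIso_iff_bijective]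
  refine Groth.Agent.LBDesc.app_bijective_of_affine π.left (fun x => ⟨⊤, trivial, fun U hU _ => ?_⟩) V
  exact app_bijective R X Y π hgen hU

end Groth.Agent.S13746
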