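import Groth.Statements.S5104
import Groth.Agent.RatMap.Spread
import Groth.Agent.SectionExt.Setup

set_option autoImplicit false
universe u
open CategoryTheory CategoryTheory.Limits AlgebraicGeometry TopologicalSpace
open Rat20

namespace Groth.Agent.S5104

/-- Let X be an S-scheme which is locally Noetherian, or reduced with locally finite set of irreducible
components; let Y be separated and locally of finite presentation over S, U a schematically dense
open subset of X, h : U → Y an S-morphism (a pseudo-S-morphism ω of X into Y) and x a point of X.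
Then ω is defined at x — some S-morphism from an open neighbourhood V of x to Y agrees with h on U ∩
V — if and only if the restriction of ω to Spec O_{X,x} is everywhere defined — some S-morphism Spec
O_{X,x} → Y agrees with h after pulling back to Spec O_{X,x} ×_X U. (The published statement does
not assume Y separated over S and compares morphisms only on some schematically dense open; this row
assumes Y separated over S, where the two readings agree.) -/
theorem result {X Y S : Scheme.{u}} (pX : X ⟶ S) (pY : Y ⟶ S)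
    [IsSeparated pY] [LocallyOfFinitePresentation pY]
    (hX : IsLocallyNoetherian X ∨ (IsReduced X ∧ ∀ x : ↥X, ∃ W : X.Opens, x ∈ W ∧
      {Z : Set ↥X | Z ∈ irreducibleComponents ↥X ∧ (Z ∩ (W : Set ↥X)).Nonempty}.Finite))
    (U : X.Opens) (hU : CInt.IsSchematicallyDense U) (h : (U : Scheme.{u}) ⟶ Y) (hh : h ≫ pY = U.ι ≫ pX)
    (x : ↥X) :
    (∃ (V : X.Opens) (v : (V : Scheme.{u}) ⟶ Y), x ∈ V ∧ v ≫ pY = V.ι ≫ pX ∧
        X.homOfLE (inf_le_right : U ⊓ V ≤ V) ≫ v = X.homOfLE (inf_le_left : U ⊓ V ≤ U) ≫ h) ↔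
      ∃ w : Spec (X.presheaf.stalk x) ⟶ Y, w ≫ pY = X.fromSpecStalk x ≫ pX ∧
        pullback.fst (X.fromSpecStalk x) U.ι ≫ w = pullback.snd (X.fromSpecStalk x) U.ι ≫ h := by
  constructor
  · rintro ⟨V, v, hxV, hv, heq⟩
    refine ⟨V.fromSpecStalkOfMem x hxV ≫ v, by
      rw [Category.assoc, hv, Scheme.Opens.fromSpecStalkOfMem_ι_assoc], ?_⟩
    let p := pullback.fst (X.fromSpecStalk x) U.ι ≫ V.fromSpecStalkOfMem x hxV
    let q := pullback.snd (X.fromSpecStalk x) U.ι
    have hpq : p ≫ V.ι = q ≫ U.ι := by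
      simp only [p, q, Category.assoc, Scheme.Opens.fromSpecStalkOfMem_ι]
      exact pullback.condition
    have hr : Set.range (q ≫ U.ι) ⊆ Set.range (U ⊓ V).ι := by
      rintro _ ⟨z, rfl⟩
      rw [Scheme.Opens.range_ι]
      refine ⟨(q z).2, ?_⟩
      have h1 : (q ≫ U.ι) z = (p ≫ V.ι) z := by rw [hpq]
      rw [h1]
      exact (p z).2
    let l := IsOpenImmersion.lift (U ⊓ V).ι (q ≫ U.ι) hr
    have hlp : l ≫ X.homOfLE (inf_le_right : U ⊓ V ≤ V) = p := by
      rw [← cancel_mono V.ι, Category.assoc, Scheme.homOfLE_ι, hpq, IsOpenImmersion.lift_fac]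
    have hlq : l ≫ X.homOfLE (inf_le_left : U ⊓ V ≤ U) = q := by
      rw [← cancel_mono U.ι, Category.assoc, Scheme.homOfLE_ι, IsOpenImmersion.lift_fac]
    show pullback.fst (X.fromSpecStalk x) U.ι ≫ V.fromSpecStalkOfMem x hxV ≫ v = q ≫ h
    rw [← Category.assoc]
    show p ≫ v = q ≫ h
    rw [← hlp, ← hlq, Category.assoc, Category.assoc, heq]
  · rintro ⟨w, hw, hwh⟩
    obtain ⟨W, hxW, f, hfw, hf⟩ := RatMap.spread_out_of_locallyOfFinitePresentation pX pY w hw
    let O : X.Opens := U ⊓ W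
    let a := X.homOfLE (inf_le_left : O ≤ U) ≫ h
    let b := X.homOfLE (inf_le_right : O ≤ W) ≫ f
    have ha : a ≫ pY = O.ι ≫ pX := by
      simp only [a, Category.assoc, hh, Scheme.homOfLE_ι_assoc]; rfl
    have hb : b ≫ pY = O.ι ≫ pX := by
      simp only [b, Category.assoc, hf, Scheme.homOfLE_ι_assoc]; rfl
    have hgen : ∀ z : (O : Scheme.{u}), O.ι z ⤳ x →
        ∃ N : (O : Scheme.{u}).Opens, z ∈ N ∧ N.ι ≫ a = N.ι ≫ b := by
      intro z hz
      refine RatMap.spread_out_unique_of_locallyOfFiniteType (O.ι ≫ pX) pY a b ha hb ?_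
      let σ := (O : Scheme.{u}).fromSpecStalk z
      let j := Spec.map (O.ι.stalkMap z) ≫ Spec.map (X.presheaf.stalkSpecializes hz)
      have hj : j ≫ X.fromSpecStalk x = σ ≫ O.ι := by
        simp only [j, σ, Category.assoc, Scheme.SpecMap_stalkSpecializes_fromSpecStalk,
          Scheme.SpecMap_stalkMap_fromSpecStalk]
      have hjU : j ≫ X.fromSpecStalk x = (σ ≫ X.homOfLE (inf_le_left : O ≤ U)) ≫ U.ι := by
        rw [hj, Category.assoc, Scheme.homOfLE_ι]
      have h1 : j ≫ w = σ ≫ a := by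
        have := congrArg (pullback.lift j _ hjU ≫ ·) hwh
        simpa only [pullback.lift_fst_assoc, pullback.lift_snd_assoc, Category.assoc] using this
      have h2 : j ≫ W.fromSpecStalkOfMem x hxW = σ ≫ X.homOfLE (inf_le_right : O ≤ W) := by
        rw [← cancel_mono W.ι, Category.assoc, Category.assoc, Scheme.Opens.fromSpecStalkOfMem_ι]
        erw [Category.assoc, Scheme.homOfLE_ι]
        exact (Category.assoc _ _ _).symm.trans hj
      rw [← h1, hfw, reassoc_of% h2]
    let E : (O : Scheme.{u}).Opens := ⨆ N : {N : (O : Scheme.{u}).Opens // N.ι ≫ a = N.ι ≫ b}, N.1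
    have hE : E.ι ≫ a = E.ι ≫ b := by
      let 𝒰 := (E : Scheme.{u}).openCoverOfIsOpenCover
        (fun N : {N : (O : Scheme.{u}).Opens // N.ι ≫ a = N.ι ≫ b} => E.ι ⁻¹ᵁ N.1) (by
          refine eq_top_iff.2 fun z _ => ?_
          obtain ⟨N, hN⟩ := TopologicalSpace.Opens.mem_iSup.1 z.2
          exact TopologicalSpace.Opens.mem_iSup.2 ⟨N, hN⟩)
      refine Scheme.Cover.hom_ext 𝒰 _ _ fun N => ?_
      show (E.ι ⁻¹ᵁ N.1).ι ≫ E.ι ≫ a = (E.ι ⁻¹ᵁ N.1).ι ≫ E.ι ≫ b
      rw [← morphismRestrict_ι_assoc, ← morphismRestrict_ι_assoc, N.2]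
    have hmem : ∀ z : (O : Scheme.{u}), O.ι z ⤳ x → z ∈ E := fun z hz => by
      obtain ⟨N, hzN, hN⟩ := hgen z hz
      exact TopologicalSpace.Opens.mem_iSup.2 ⟨⟨N, hN⟩, hzN⟩
    suffices H : ∃ V : X.Opens, ∃ hVW : V ≤ W, x ∈ V ∧
        X.homOfLE (inf_le_inf_left U hVW : U ⊓ V ≤ O) ≫ a =
          X.homOfLE (inf_le_inf_left U hVW : U ⊓ V ≤ O) ≫ b by
      obtain ⟨V, hVW, hxV, hab⟩ := H
      refine ⟨V, X.homOfLE hVW ≫ f, hxV, by rw [Category.assoc, hf, Scheme.homOfLE_ι_assoc], ?_⟩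
      simp only [a, b, Scheme.homOfLE_homOfLE_assoc] at hab
      rw [Scheme.homOfLE_homOfLE_assoc]
      exact hab.symm
    rcases hX with hN | ⟨hR, hfin⟩
    · let K : Set X := (O.ι ''ᵁ E : X.Opens)ᶜ
      have hKc : IsClosed K := (O.ι ''ᵁ E).2.isClosed_compl
      have hx : x ∉ closure ((O : Set X) ∩ K) := fun hx => by
        obtain ⟨z, ⟨hzO, hzK⟩, hzx⟩ := SectionExt.exists_specializes_of_mem_closure O hKc hx
        exact hzK ⟨⟨z, hzO⟩, hmem ⟨z, hzO⟩ hzx, rfl⟩
      let V : X.Opens := W ⊓ ⟨(closure ((O : Set X) ∩ K))ᶜ, isClosed_closure.isOpen_compl⟩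
      refine ⟨V, inf_le_left, ⟨hxW, hx⟩, ?_⟩
      let m := X.homOfLE (inf_le_inf_left U inf_le_left : U ⊓ V ≤ O)
      have hr : Set.range m ⊆ Set.range E.ι := by
        rintro _ ⟨z, rfl⟩
        rw [Scheme.Opens.range_ι]
        by_contra hz
        have hzO : z.1 ∈ O := (inf_le_inf_left U inf_le_left : U ⊓ V ≤ O) z.2
        refine z.2.2.2 (subset_closure ⟨hzO, ?_⟩)
        rintro ⟨e, he, hez⟩
        refine hz ?_
        have : m z = e := O.ι.injective (by
          rw [← Scheme.Hom.comp_apply, Scheme.homOfLE_ι]; exact hez.symm)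
        rw [this]; exact he
      show m ≫ a = m ≫ b
      rw [← IsOpenImmersion.lift_fac E.ι m hr, Category.assoc, Category.assoc, hE]
    · obtain ⟨W₀, hxW₀, hW₀⟩ := hfin x
      let C : Set X := ⋃ Z ∈ {Z : Set X | (Z ∈ irreducibleComponents X ∧ (Z ∩ (W₀ : Set X)).Nonempty) ∧ x ∉ Z}, Z
      have hC : IsClosed C := (hW₀.subset fun Z hZ => hZ.1).isClosed_biUnion
        fun Z hZ => isClosed_of_mem_irreducibleComponents Z hZ.1.1
      have hxC : x ∉ C := fun hx => by
        obtain ⟨Z, hZ, hxZ⟩ := Set.mem_iUnion₂.1 hx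
        exact hZ.2 hxZ
      let V : X.Opens := W ⊓ W₀ ⊓ ⟨Cᶜ, hC.isOpen_compl⟩
      have hVW : V ≤ W := inf_le_left.trans inf_le_left
      refine ⟨V, hVW, ⟨⟨hxW, hxW₀⟩, hxC⟩, ?_⟩
      let m := X.homOfLE (inf_le_inf_left U hVW : U ⊓ V ≤ O)
      have hd : IsDominant (m ⁻¹ᵁ E).ι := by
        refine ⟨?_⟩
        rw [DenseRange, Scheme.Opens.range_ι, dense_iff_inter_open]
        rintro S hS ⟨z, hzS⟩
        have hZ := irreducibleComponent_mem_irreducibleComponents z.1
        have hxZ : x ∈ irreducibleComponent z.1 := by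
          by_contra h'
          exact z.2.2.2 (Set.mem_iUnion₂.2 ⟨_, ⟨⟨hZ, ⟨z.1, mem_irreducibleComponent, z.2.2.1.2⟩⟩, h'⟩,
            mem_irreducibleComponent⟩)
        obtain ⟨η, hη⟩ := QuasiSober.sober hZ.1 (isClosed_of_mem_irreducibleComponents _ hZ)
        have hηz : η ⤳ z.1 := hη.specializes mem_irreducibleComponent
        have hηV : η ∈ U ⊓ V := hηz.mem_open (U ⊓ V).2 z.2
        let η' : (U ⊓ V : X.Opens).toScheme := ⟨η, hηV⟩
        have h1 : η' ⤳ z := (U ⊓ V).ι.isOpenEmbedding.isInducing.specializes_iff.1 hηz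
        refine ⟨η', h1.mem_open hS hzS, hmem (m η') ?_⟩
        rw [← Scheme.Hom.comp_apply, Scheme.homOfLE_ι]
        exact hη.specializes hxZ
      haveI : IsReduced (U ⊓ V : X.Opens).toScheme := isReduced_of_isOpenImmersion (U ⊓ V).ι
      show m ≫ a = m ≫ b
      refine ext_of_isDominant_of_isSeparated pY (by simp only [Category.assoc]; exact congrArg (m ≫ ·) (ha.trans hb.symm)) (m ⁻¹ᵁ E).ι ?_
      rw [← morphismRestrict_ι_assoc, ← morphismRestrict_ι_assoc, hE]

end Groth.Agent.S5104
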