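import Groth.Statements.S13749
import Groth.Agent.S5104
import Groth.Agent.S13426
import Groth.Agent.SectExtU.Dense
import Groth.Agent.GrpField.FlatPoint
import Mathlib.AlgebraicGeometry.Sites.Fpqc
-- import your own Groth.Agent.* helpers here

set_option autoImplicit false
universe u
open CategoryTheory AlgebraicGeometry
open Neron

open CategoryTheory CategoryTheory.Limits AlgebraicGeometry
set_option linter.style.haveILetI false
set_option backward.isDefEq.respectTransparency false

namespace Groth.Agent.S13749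

/-- morphisms to a separated scheme agreeing on a schematically dense open agree, after a flat base change -/
lemma ext_flat {T X N Z : Scheme.{u}} (D : X.Opens) [QuasiCompact D.ι] [IsSchemeTheoreticallyDominant D.ι]
    (q : T ⟶ X) [Flat q] (a b : T ⟶ N) (p : N ⟶ Z) [IsSeparated p] (h : a ≫ p = b ≫ p)
    (hD : (q ⁻¹ᵁ D).ι ≫ a = (q ⁻¹ᵁ D).ι ≫ b) : a = b := by
  haveI : IsSchemeTheoreticallyDominant (q ⁻¹ᵁ D).ι :=
    IsSchemeTheoreticallyDominant.of_isPullback (isPullback_morphismRestrict q D)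
  exact S13426.ext_of_schDominant (q ⁻¹ᵁ D).ι a b p h hD

lemma surjective_specMap_stalkMap {X Y : Scheme.{u}} (p : X ⟶ Y) [Flat p] (x : X) :
    Surjective (Spec.map (p.stalkMap x)) := by
  letI := (p.stalkMap x).hom.toAlgebra
  haveI : Module.Flat (Y.presheaf.stalk (p x)) (X.presheaf.stalk x) := Flat.stalkMap p x
  haveI : IsLocalHom (algebraMap (Y.presheaf.stalk (p x)) (X.presheaf.stalk x)) :=
    inferInstanceAs (IsLocalHom (p.stalkMap x).hom)
  haveI : Module.FaithfullyFlat (Y.presheaf.stalk (p x)) (X.presheaf.stalk x) :=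
    Module.FaithfullyFlat.of_flat_of_isLocalHom
  exact ⟨fun z => PrimeSpectrum.comap_surjective_of_faithfullyFlat z⟩

set_option maxHeartbeats 1600000 in
/-- Let S be a locally Noetherian scheme, U ⊆ S a schematically dense open subscheme, N → S a smooth
separated morphism of finite type and g : S' → S a flat surjective morphism, and put U' = g⁻¹(U).
Suppose the base change N ×_S S' → S' has the Néron mapping property with respect to U': for every
smooth S'-scheme Y', sending an S'-morphism Y' → N ×_S S' to its restriction over U' is a bijection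
onto the U'-morphisms Y' ×_{S'} U' → (N ×_S S') ×_{S'} U'. Then N → S has the Néron mapping property
with respect to U: for every smooth S-scheme Y, restriction to U is a bijection from S-morphisms Y →
N onto U-morphisms Y ×_S U → N ×_S U. (The published statement is for an arbitrary base S and open
U, with N an algebraic space which is a model of an abelian scheme over U, tested against smooth
schemes; this row takes N a scheme, drops the abelian-scheme hypothesis, and assumes S locally
Noetherian with U schematically dense, the setting in which schematic closures of U-sections commute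
with flat base change and fill S'.) -/
theorem result
    {S S' : Scheme.{u}} [IsLocallyNoetherian S] (g : S' ⟶ S) [Flat g] [Surjective g]
    (U : S.Opens) (hU : CInt.IsSchematicallyDense U)
    (N : Over S) [Smooth N.hom] [IsSeparated N.hom] [QuasiCompact N.hom]
    (hN' : ∀ Y' : Over S', Smooth Y'.hom →
      Function.Bijective (fun f : Y' ⟶ (Over.pullback g).obj N => (Over.pullback (g ⁻¹ᵁ U).ι).map f))
    (Y : Over S) [Smooth Y.hom] :
    Function.Bijective (fun f : Y ⟶ N => (Over.pullback U.ι).map f) := by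
  haveI : IsLocallyNoetherian Y.left := LocallyOfFiniteType.isLocallyNoetherian Y.hom
  haveI : IsSchemeTheoreticallyDominant U.ι := ⟨SectExtU.ker_ι_eq_bot hU⟩
  let D := Y.hom ⁻¹ᵁ U
  haveI : QuasiCompact D.ι := inferInstance
  haveI : IsSchemeTheoreticallyDominant D.ι :=
    IsSchemeTheoreticallyDominant.of_isPullback (isPullback_morphismRestrict Y.hom U)
  let e := (isPullback_morphismRestrict Y.hom U).flip.isoPullback
  have he : e.hom ≫ pullback.fst Y.hom U.ι = D.ι := IsPullback.isoPullback_hom_fst _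
  have res : ∀ f : Y ⟶ N, e.hom ≫ ((Over.pullback U.ι).map f).left ≫ pullback.fst N.hom U.ι = D.ι ≫ f.left := by
    intro f
    rw [show ((Over.pullback U.ι).map f).left ≫ pullback.fst N.hom U.ι = pullback.fst Y.hom U.ι ≫ f.left from
      pullback.lift_fst _ _ _, reassoc_of% he]
  refine ⟨fun f₁ f₂ hf => ?_, fun h => ?_⟩
  · refine Over.OverMorphism.ext (S13426.ext_of_schDominant D.ι _ _ N.hom ?_ ?_)
    · rw [Over.w f₁, Over.w f₂]
    · rw [← res f₁, ← res f₂]
      exact congrArg (fun k => e.hom ≫ Over.Hom.left k ≫ pullback.fst N.hom U.ι) hf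
  let h₀ : (D : Scheme.{u}) ⟶ N.left := e.hom ≫ h.left ≫ pullback.fst N.hom U.ι
  have hh₀ : h₀ ≫ N.hom = D.ι ≫ Y.hom := by
    simp only [h₀, Category.assoc]
    rw [pullback.condition]
    have : h.left ≫ pullback.snd N.hom U.ι = pullback.snd Y.hom U.ι := Over.w h
    rw [reassoc_of% this, ← pullback.condition, reassoc_of% he]
  -- the extension upstairs
  let P := pullback Y.hom g
  let p : P ⟶ Y.left := pullback.fst Y.hom g
  haveI : Smooth ((Over.pullback g).obj Y).hom := inferInstanceAs (Smooth (pullback.snd Y.hom g))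
  let U' := g ⁻¹ᵁ U
  let Q := pullback (pullback.snd Y.hom g) U'.ι
  have hQ : ∀ z : Q, p (pullback.fst (pullback.snd Y.hom g) U'.ι z) ∈ D := by
    intro z
    show Y.hom (p (pullback.fst (pullback.snd Y.hom g) U'.ι z)) ∈ U
    rw [← Scheme.Hom.comp_apply, ← Scheme.Hom.comp_apply, pullback.condition, pullback.condition_assoc]
    exact (pullback.snd (pullback.snd Y.hom g) U'.ι z).2
  let l : Q ⟶ (D : Scheme.{u}) := IsOpenImmersion.lift D.ι (pullback.fst (pullback.snd Y.hom g) U'.ι ≫ p) (by
    rw [Scheme.Opens.range_ι]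
    rintro _ ⟨z, rfl⟩
    exact hQ z)
  have hl : l ≫ D.ι = pullback.fst (pullback.snd Y.hom g) U'.ι ≫ p := IsOpenImmersion.lift_fac _ _ _
  let h' : (Over.pullback U'.ι).obj ((Over.pullback g).obj Y) ⟶ (Over.pullback U'.ι).obj ((Over.pullback g).obj N) :=
    Over.homMk (pullback.lift
      (pullback.lift (l ≫ h₀) (pullback.fst (pullback.snd Y.hom g) U'.ι ≫ pullback.snd Y.hom g) (by
        rw [Category.assoc, hh₀, reassoc_of% hl, Category.assoc]
        exact congrArg _ pullback.condition))
      (pullback.snd (pullback.snd Y.hom g) U'.ι) (by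
        show pullback.lift _ _ _ ≫ pullback.snd N.hom g = _
        rw [pullback.lift_snd]
        exact pullback.condition))
      (pullback.lift_snd _ _ _)
  obtain ⟨f', hf'⟩ := (hN' _ ‹_›).2 h'
  let F : P ⟶ N.left := f'.left ≫ pullback.fst N.hom g
  have hF : F ≫ N.hom = p ≫ Y.hom := by
    have hw : f'.left ≫ pullback.snd N.hom g = pullback.snd Y.hom g := Over.w f'
    simp only [F, p, Category.assoc, pullback.condition]
    rw [reassoc_of% hw]
  have key : ∀ {T : Scheme.{u}} (c : T ⟶ P) (d : T ⟶ (D : Scheme.{u})), d ≫ D.ι = c ≫ p → c ≫ F = d ≫ h₀ := by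
    intro T c d hd
    let c' : T ⟶ Q := pullback.lift c (IsOpenImmersion.lift U'.ι (c ≫ pullback.snd Y.hom g) (by
      rw [Scheme.Opens.range_ι]
      rintro _ ⟨t, rfl⟩
      show g ((c ≫ pullback.snd Y.hom g) t) ∈ U
      rw [← Scheme.Hom.comp_apply, Category.assoc, ← pullback.condition, ← reassoc_of% hd, Scheme.Hom.comp_apply,
        Scheme.Hom.comp_apply]
      exact (d t).2)) (IsOpenImmersion.lift_fac _ _ _).symm
    have e1 : c' ≫ pullback.fst (pullback.snd Y.hom g) U'.ι = c := pullback.lift_fst _ _ _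
    have e2 : pullback.fst (pullback.snd Y.hom g) U'.ι ≫ F = l ≫ h₀ := by
      have := congrArg (fun k => Over.Hom.left k ≫ pullback.fst (pullback.snd N.hom g) U'.ι ≫ pullback.fst N.hom g) hf'
      simp only [F, ← Category.assoc]
      refine Eq.trans ?_ (this.trans ?_)
      · rw [show ((Over.pullback U'.ι).map f').left ≫ pullback.fst (pullback.snd N.hom g) U'.ι ≫ pullback.fst N.hom g =
            (((Over.pullback U'.ι).map f').left ≫ pullback.fst (pullback.snd N.hom g) U'.ι) ≫ pullback.fst N.hom g from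
            (Category.assoc _ _ _).symm]
        exact congrArg (· ≫ pullback.fst N.hom g) (pullback.lift_fst _ _ _).symm
      · show pullback.lift _ _ _ ≫ pullback.fst (pullback.snd N.hom g) U'.ι ≫ pullback.fst N.hom g = _
        rw [pullback.lift_fst_assoc, pullback.lift_fst]
    rw [← e1, Category.assoc, e2, ← Category.assoc]
    congr 1
    rw [← cancel_mono D.ι, Category.assoc, hl, reassoc_of% e1, hd]
  have loc : ∀ y : Y.left, ∃ (V : Y.left.Opens) (v : (V : Scheme.{u}) ⟶ N.left), y ∈ V ∧ v ≫ N.hom = V.ι ≫ Y.hom ∧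
      Y.left.homOfLE (inf_le_right : D ⊓ V ≤ V) ≫ v = Y.left.homOfLE (inf_le_left : D ⊓ V ≤ D) ≫ h₀ := by
    intro y
    refine (Groth.Agent.S5104.result Y.hom N.hom (Or.inl ‹_›) D SectExtU.isSchematicallyDense_of_ι h₀ hh₀ y).2 ?_
    obtain ⟨y', rfl⟩ := p.surjective y
    let π := Spec.map (p.stalkMap y')
    haveI : Surjective π := surjective_specMap_stalkMap p y'
    haveI : Flat π := (HasRingHomProperty.Spec_iff (P := @Flat)).2 (Flat.stalkMap p y')
    have hπ : π ≫ Y.left.fromSpecStalk (p y') = P.fromSpecStalk y' ≫ p :=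
      Scheme.SpecMap_stalkMap_fromSpecStalk p
    let w' := P.fromSpecStalk y' ≫ F
    have hw' : w' ≫ N.hom = π ≫ Y.left.fromSpecStalk (p y') ≫ Y.hom := by
      simp only [w', Category.assoc, hF, reassoc_of% hπ]
    have hfac : ∀ {T : Scheme.{u}} (g₁ g₂ : T ⟶ Spec (P.presheaf.stalk y')), g₁ ≫ π = g₂ ≫ π → g₁ ≫ w' = g₂ ≫ w' := by
      intro T g₁ g₂ eg
      let q := pullback.fst π π ≫ π ≫ Y.left.fromSpecStalk (p y')
      haveI : Flat (Y.left.fromSpecStalk (p y')) := GrpField.flat_fromSpecStalk _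
      have hh : pullback.fst π π ≫ w' = pullback.snd π π ≫ w' := by
        refine ext_flat D q _ _ N.hom ?_ ?_
        · rw [Category.assoc (pullback.fst π π) w', Category.assoc (pullback.snd π π) w', hw', pullback.condition_assoc]
        · let d : ((q ⁻¹ᵁ D) : Scheme.{u}) ⟶ (D : Scheme.{u}) := q ∣_ D
          have hd : d ≫ D.ι = (q ⁻¹ᵁ D).ι ≫ q := morphismRestrict_ι q D
          have k1 := key ((q ⁻¹ᵁ D).ι ≫ pullback.fst π π ≫ P.fromSpecStalk y') d (by
            rw [hd, Category.assoc, Category.assoc, ← hπ])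
          have k2 := key ((q ⁻¹ᵁ D).ι ≫ pullback.snd π π ≫ P.fromSpecStalk y') d (by
            rw [hd, Category.assoc, Category.assoc, ← hπ, ← pullback.condition_assoc])
          simp only [w', Category.assoc] at k1 k2 ⊢
          rw [k1, k2]
      rw [← pullback.lift_fst g₁ g₂ eg, Category.assoc, hh, pullback.lift_snd_assoc]
    let w := EffectiveEpi.desc π w' (fun g₁ g₂ eg => hfac g₁ g₂ eg)
    have hw : π ≫ w = w' := EffectiveEpi.fac _ _ _
    refine ⟨w, by rw [← cancel_epi π, reassoc_of% hw, hw'], ?_⟩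
    let b := pullback.fst (Y.left.fromSpecStalk (p y')) D.ι
    rw [← cancel_epi (pullback.snd π b)]
    rw [← reassoc_of% (pullback.condition (f := π) (g := b)), hw]
    simp only [w', ← Category.assoc]
    refine key _ _ ?_
    simp only [Category.assoc]
    rw [← hπ, pullback.condition_assoc, pullback.condition]
  choose V v hyV hvN hvD using loc
  have hglue : ∀ y z, pullback.fst (V y).ι (V z).ι ≫ v y = pullback.snd (V y).ι (V z).ι ≫ v z := by
    intro y z
    let q := pullback.fst (V y).ι (V z).ι ≫ (V y).ι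
    refine ext_flat D q _ _ N.hom ?_ ?_
    · rw [Category.assoc, Category.assoc, hvN, hvN, pullback.condition_assoc]
    · have part : ∀ (a : Y.left) (c : pullback (V y).ι (V z).ι ⟶ ((V a : Y.left.Opens) : Scheme.{u})),
          c ≫ (V a).ι = q → (q ⁻¹ᵁ D).ι ≫ c ≫ v a = (q ∣_ D) ≫ h₀ := by
        intro a c hc
        let m : ((q ⁻¹ᵁ D) : Scheme.{u}) ⟶ ((D ⊓ V a : Y.left.Opens) : Scheme.{u}) :=
          IsOpenImmersion.lift (D ⊓ V a).ι ((q ⁻¹ᵁ D).ι ≫ q) (by
            rw [Scheme.Opens.range_ι]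
            rintro _ ⟨t, rfl⟩
            refine ⟨t.2, ?_⟩
            have : q ((q ⁻¹ᵁ D).ι t) = (V a).ι (c ((q ⁻¹ᵁ D).ι t)) := by
              rw [← Scheme.Hom.comp_apply c, hc]
            rw [Scheme.Hom.comp_apply, this]
            exact (c ((q ⁻¹ᵁ D).ι t)).2)
        have hm : m ≫ (D ⊓ V a).ι = (q ⁻¹ᵁ D).ι ≫ q := IsOpenImmersion.lift_fac _ _ _
        have m1 : m ≫ Y.left.homOfLE inf_le_right = (q ⁻¹ᵁ D).ι ≫ c := by
          rw [← cancel_mono (V a).ι, Category.assoc, Category.assoc, Scheme.homOfLE_ι, hm, hc]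
        have m2 : m ≫ Y.left.homOfLE inf_le_left = q ∣_ D := by
          rw [← cancel_mono D.ι, Category.assoc, Scheme.homOfLE_ι, hm, morphismRestrict_ι]
        rw [← reassoc_of% m1, hvD, reassoc_of% m2]
      rw [part y _ rfl, part z _ pullback.condition.symm]
  let 𝒰 := Y.left.openCoverOfIsOpenCover V (TopologicalSpace.IsOpenCover.mk
    (top_le_iff.1 fun y _ => TopologicalSpace.Opens.mem_iSup.2 ⟨y, hyV y⟩))
  let G := 𝒰.glueMorphisms v hglue
  have hG : ∀ y, (V y).ι ≫ G = v y := fun y => 𝒰.ι_glueMorphisms v hglue y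
  let f : Y ⟶ N := Over.homMk G (𝒰.hom_ext _ _ fun y => by
    show (V y).ι ≫ G ≫ N.hom = (V y).ι ≫ Y.hom
    rw [reassoc_of% hG y, hvN])
  refine ⟨f, Over.OverMorphism.ext ?_⟩
  rw [← cancel_epi e.hom]
  apply pullback.hom_ext
  · rw [Category.assoc, Category.assoc]
    refine (res f).trans ?_
    refine (Scheme.Cover.hom_ext (Scheme.openCoverOfIsOpenCover (D : Scheme.{u}) (fun y => D.ι ⁻¹ᵁ V y)
      (TopologicalSpace.IsOpenCover.mk (top_le_iff.1 fun d _ => TopologicalSpace.Opens.mem_iSup.2 ⟨d.1, hyV d.1⟩)))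
      _ _ fun y => ?_)
    show (D.ι ⁻¹ᵁ V y).ι ≫ D.ι ≫ G = (D.ι ⁻¹ᵁ V y).ι ≫ h₀
    let m : ((D.ι ⁻¹ᵁ V y) : Scheme.{u}) ⟶ ((D ⊓ V y : Y.left.Opens) : Scheme.{u}) :=
      IsOpenImmersion.lift (D ⊓ V y).ι ((D.ι ⁻¹ᵁ V y).ι ≫ D.ι) (by
        rw [Scheme.Opens.range_ι]
        rintro _ ⟨t, rfl⟩
        exact ⟨t.1.2, t.2⟩)
    have hm : m ≫ (D ⊓ V y).ι = (D.ι ⁻¹ᵁ V y).ι ≫ D.ι := IsOpenImmersion.lift_fac _ _ _
    have m2 : m ≫ Y.left.homOfLE inf_le_left = (D.ι ⁻¹ᵁ V y).ι := by
      rw [← cancel_mono D.ι, Category.assoc, Scheme.homOfLE_ι, hm]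
    rw [← reassoc_of% hm, ← Scheme.homOfLE_ι _ (inf_le_right : D ⊓ V y ≤ V y), Category.assoc, hG, hvD, reassoc_of% m2]
  · rw [Category.assoc, Category.assoc]
    congr 1
    exact (Over.w _).trans (Over.w h).symm

end Groth.Agent.S13749
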