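import Groth.Statements.S13751
import Groth.Agent.AbExt.Main
import Groth.Agent.AbExt.Const
import Groth.Agent.WeilExt.Extend

set_option autoImplicit false
set_option backward.isDefEq.respectTransparency false
set_option backward.isDefEq.respectTransparency.types false
universe u
open CategoryTheory CategoryTheory.Limits AlgebraicGeometry MonObj
open Neron

namespace Groth.Agent.S13751

/-- Let S be a locally Noetherian scheme all of whose local rings are regular, let U ⊆ S be a dense open
subscheme and let A → S be an abelian scheme: a proper smooth group scheme over S whose geometric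
fibres are connected. Then A is a Néron model of its restriction A ×_S U over S, in the sense that
for every smooth S-scheme Y the restriction map from S-morphisms Y → A to U-morphisms Y ×_S U → A
×_S U is a bijection. (The published statement is for an abelian algebraic space over a regular base
and does not ask U to be dense; for U empty and A of positive relative dimension the identity and
the zero map of A both restrict to the empty morphism, so uniqueness fails, and the published
uniqueness argument uses density — this row takes A a scheme and U dense.) -/
theorem result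
    {S : Scheme.{u}} [IsLocallyNoetherian S] (hreg : ∀ s : S, IsRegularLocalRing (S.presheaf.stalk s))
    (U : S.Opens) (hU : Dense (U : Set S))
    (A : Over S) [GrpObj A] [IsProper A.hom] [Smooth A.hom]
    (hconn : ∀ (L : Type u) [Field L] (t : Spec (CommRingCat.of L) ⟶ S), ConnectedSpace ↑(pullback A.hom t))
    (Y : Over S) [Smooth Y.hom] :
    Function.Bijective (fun f : Y ⟶ A => (Over.pullback U.ι).map f) := by
  haveI : IsLocallyNoetherian Y.left := LocallyOfFiniteType.isLocallyNoetherian Y.hom
  have hYreg := Groth.Agent.WeilExt.regular_of_smooth hreg Y.hom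
  let V : Y.left.Opens := Y.hom ⁻¹ᵁ U
  have hV : Dense (V : Set Y.left) := hU.preimage Y.hom.isOpenMap
  let e := pullbackRestrictIsoRestrict Y.hom U
  have hfst : pullback.fst Y.hom U.ι = e.hom ≫ V.ι := (pullbackRestrictIsoRestrict_hom_ι _ _).symm
  refine ⟨fun f₁ f₂ h => ?_, fun φ => ?_⟩
  · haveI := Groth.Agent.AbExt.isReduced_of_regular_stalks hYreg
    haveI : IsDominant V.ι := ⟨by rw [DenseRange, Scheme.Opens.range_ι]; exact hV⟩
    refine Over.OverMorphism.ext (ext_of_isDominant_of_isSeparated A.hom ((Over.w f₁).trans (Over.w f₂).symm) V.ι ?_)
    have h' := congrArg (fun k => k.left ≫ pullback.fst A.hom U.ι) h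
    simp only [Over.pullback_map_left, pullback.lift_fst] at h'
    rw [hfst, Category.assoc, Category.assoc] at h'
    exact (cancel_epi e.hom).1 h'
  · let g : V.toScheme ⟶ A.left := e.inv ≫ φ.left ≫ pullback.fst A.hom U.ι
    have hg : g ≫ A.hom = V.ι ≫ Y.hom := by
      rw [← cancel_epi e.hom, ← Category.assoc e.hom V.ι, ← hfst, pullback.condition]
      simp only [g, Category.assoc, e.hom_inv_id_assoc, pullback.condition]
      exact (Category.assoc _ _ _).symm.trans (congrArg (· ≫ U.ι) (Over.w φ))
    obtain ⟨f, ⟨hf, hfV⟩, -⟩ := Groth.Agent.AbExt.existsUnique_ext A.hom Y.hom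
      (Groth.Agent.AbExt.noP1_of_grpObj A) hYreg V hV g hg
    refine ⟨Over.homMk f hf, Over.OverMorphism.ext (pullback.hom_ext ?_ ?_)⟩
    · simp only [Over.pullback_map_left, pullback.lift_fst, Over.homMk_left]
      rw [hfst, Category.assoc, hfV]
      simp only [g, e.hom_inv_id_assoc]
    · simp only [Over.pullback_map_left, pullback.lift_snd]
      exact (Over.w φ).symm

end Groth.Agent.S13751
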