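import Groth.Statements.S1377
import Mathlib

set_option autoImplicit false
universe u
open FlatMor

namespace Groth.Agent.S1377

open AlgebraicGeometry CategoryTheory Limits in
/-- Let S be a scheme, U ⊆ S an open subscheme whose inclusion U → S is quasi-compact (U retrocompact in
S), and V → U a surjective integral morphism. Then there are a scheme V' and a surjective integral
morphism V' → S whose base change to U is V → U. (The published statement puts no condition on U,
and in that generality it is false: e.g. S = Spec ∏_i ℤ/4^i with U = D(2) ∪ ⋃_i D(e_i), e_i the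
idempotents, and V equal to U except that over D(2) it is cut out by x = (2^i)_i. Stated here with U
→ S quasi-compact, under which hypothesis the published argument applies.) -/
theorem result {S V : Scheme.{u}} (U : S.Opens) [QuasiCompact U.ι]
    (v : V ⟶ (U : Scheme.{u})) [IsIntegralHom v] [Surjective v] :
    ∃ (V' : Scheme.{u}) (π : V' ⟶ S) (i : V ⟶ V'), Surjective π ∧ IsIntegralHom π ∧ IsPullback i v π U.ι := by
  let f := v ≫ U.ι
  let i₁ : V ⟶ f.normalization := f.toNormalization
  let π₁ : f.normalization ⟶ S := f.fromNormalization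
  haveI : IsIso (pullback.fst f U.ι) := by
    have hl : pullback.lift (𝟙 V) v (show 𝟙 V ≫ f = v ≫ U.ι from Category.id_comp _) ≫
        pullback.fst f U.ι = 𝟙 V := pullback.lift_fst _ _ _
    refine ⟨pullback.lift (𝟙 V) v (show 𝟙 V ≫ f = v ≫ U.ι from Category.id_comp _), ?_, hl⟩
    apply pullback.hom_ext
    · rw [Category.assoc, hl, Category.id_comp, Category.comp_id]
    · rw [← cancel_mono U.ι]
      simp only [Category.assoc, Category.id_comp, pullback.lift_snd]
      exact pullback.condition
  have hsnd : pullback.snd f U.ι = pullback.fst f U.ι ≫ v := by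
    rw [← cancel_mono U.ι, ← pullback.condition]
    simp [f]
  haveI : IsIntegralHom (pullback.snd f U.ι) := by
    rw [hsnd]
    infer_instance
  let e : V ≅ pullback π₁ U.ι := (asIso (pullback.fst f U.ι)).symm ≪≫
    asIso (pullback.snd f U.ι).toNormalization ≪≫ asIso (f.normalizationPullback U.ι)
  have he1 : e.hom ≫ pullback.fst π₁ U.ι = i₁ := by
    show (inv (pullback.fst f U.ι) ≫ (pullback.snd f U.ι).toNormalization ≫
      f.normalizationPullback U.ι) ≫ pullback.fst _ _ = _
    simp only [Category.assoc]
    rw [Scheme.Hom.toNormalization_normalizationPullback_fst]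
    simp [i₁]
  have he2 : e.hom ≫ pullback.snd π₁ U.ι = v := by
    show (inv (pullback.fst f U.ι) ≫ (pullback.snd f U.ι).toNormalization ≫
      f.normalizationPullback U.ι) ≫ pullback.snd _ _ = _
    simp only [Category.assoc, Scheme.Hom.normalizationPullback_snd,
      Scheme.Hom.toNormalization_fromNormalization]
    rw [hsnd]
    simp
  have h₁ : IsPullback i₁ v π₁ U.ι :=
    (IsPullback.of_hasPullback π₁ U.ι).of_iso e.symm (Iso.refl _) (Iso.refl _) (Iso.refl _)
      (by simp [← he1]) (by simp [← he2]) (by simp) (by simp)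
  let Z : TopologicalSpace.Closeds S := ⟨(U : Set S)ᶜ, U.2.isClosed_compl⟩
  let I := Scheme.IdealSheafData.vanishingIdeal Z
  have hrange : Set.range I.subschemeι = (U : Set S)ᶜ := by
    rw [Scheme.IdealSheafData.range_subschemeι, Scheme.IdealSheafData.coe_support_vanishingIdeal]
    rfl
  let π : f.normalization ⨿ I.subscheme ⟶ S := coprod.desc π₁ I.subschemeι
  refine ⟨_, π, i₁ ≫ coprod.inl, ⟨fun s => ?_⟩, inferInstance, ?_⟩
  · by_cases hs : s ∈ U
    · obtain ⟨x, hx⟩ := v.surjective ⟨s, hs⟩
      refine ⟨(i₁ ≫ coprod.inl) x, ?_⟩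
      rw [← Scheme.Hom.comp_apply, Category.assoc, coprod.inl_desc]
      rw [h₁.w, Scheme.Hom.comp_apply, hx]
      rfl
    · obtain ⟨z, hz⟩ : s ∈ Set.range I.subschemeι := hrange ▸ hs
      refine ⟨(coprod.inr : I.subscheme ⟶ _) z, ?_⟩
      rw [← Scheme.Hom.comp_apply, coprod.inr_desc]
      exact hz
  · have hw : CommSq (i₁ ≫ coprod.inl) v π U.ι :=
      ⟨(Category.assoc _ _ _).trans ((congrArg (i₁ ≫ ·) (coprod.inl_desc π₁ I.subschemeι)).trans h₁.w)⟩
    have hr : ∀ {T : Scheme.{u}} (a : T ⟶ f.normalization ⨿ I.subscheme) (b : T ⟶ U),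
        a ≫ π = b ≫ U.ι → Set.range a ⊆ Set.range (coprod.inl : f.normalization ⟶
          f.normalization ⨿ I.subscheme) := by
      rintro T a b h _ ⟨t, rfl⟩
      by_contra hc
      have : a t ∈ Set.range (coprod.inr : I.subscheme ⟶ f.normalization ⨿ I.subscheme) := by
        rw [← (isCompl_range_inl_inr f.normalization I.subscheme).compl_eq]
        exact hc
      obtain ⟨z, hz⟩ := this
      have h2 : I.subschemeι z = U.ι (b t) := by
        rw [← Scheme.Hom.comp_apply b U.ι, ← h, Scheme.Hom.comp_apply, ← hz,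
          ← Scheme.Hom.comp_apply, coprod.inr_desc]
      have h3 : I.subschemeι z ∈ (U : Set S)ᶜ := hrange ▸ ⟨z, rfl⟩
      exact h3 (h2 ▸ (b t).2)
    refine ⟨hw, ⟨PullbackCone.IsLimit.mk hw.w
      (fun c => h₁.lift (IsOpenImmersion.lift coprod.inl c.fst (hr c.fst c.snd c.condition)) c.snd ?_)
      (fun c => ?_) (fun c => by simp) (fun c m hm1 hm2 => ?_)⟩⟩
    · rw [← c.condition]
      generalize hl : IsOpenImmersion.lift coprod.inl c.fst (hr c.fst c.snd c.condition) = l
      have hfac : l ≫ coprod.inl = c.fst := hl ▸ IsOpenImmersion.lift_fac _ _ _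
      rw [← hfac, Category.assoc]
      exact congrArg (l ≫ ·) (coprod.inl_desc π₁ I.subschemeι).symm
    · simp
    · apply h₁.hom_ext
      · rw [← cancel_mono (coprod.inl : f.normalization ⟶ f.normalization ⨿ I.subscheme)]
        simp [← hm1]
      · simp [← hm2]

end Groth.Agent.S1377
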