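import Groth.Statements.S13781
import Groth.Agent.RegTrans.Basic
import Groth.Agent.UFDLib.Basic
import Groth.Agent.FlatDepth.Regular
import Groth.Agent.GeomProp.SmoothReg
import Groth.Agent.Hensel.FiniteEtale
import Mathlib.Tactic.LinearCombination

set_option autoImplicit false
universe u
open CAlg Groth.Agent

namespace Groth.Agent.S13781

/-- Let A be a regular local ring, s a non-zero element of A such that A/(s) is regular, and e a
positive integer invertible in A. Then A[t]/(t^e - s) is regular. (Regularity of a ring is taken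
throughout as: Noetherian, with every localization at a prime ideal a regular local ring; the
hypotheses on A and on A/(s) and the conclusion on A[t]/(t^e - s) are all read this way, which for
the local rings A and A/(s) is the usual notion once localizations of regular local rings are known
to be regular.) -/
theorem result (A : Type u) [CommRing A] [IsLocalRing A]
    [IsRegularRing A] (s : A) (hs : s ≠ 0) (hreg : IsRegularRing (A ⧸ Ideal.span {s}))
    (e : ℕ) (he : 0 < e) (heu : IsUnit (e : A)) :
    IsRegularRing (AdjoinRoot (Polynomial.X ^ e - Polynomial.C s)) := by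
  classical
  let F : Polynomial A := Polynomial.X ^ e - Polynomial.C s
  have hF : F.Monic := Polynomial.monic_X_pow_sub_C s he.ne'
  haveI : Module.Finite A (AdjoinRoot F) := hF.finite_adjoinRoot
  haveI : Module.Free A (AdjoinRoot F) := hF.free_adjoinRoot
  haveI : IsNoetherianRing (AdjoinRoot F) := IsNoetherianRing.of_finite A _
  by_cases hu : IsUnit s
  · obtain ⟨e', hee⟩ := heu.exists_left_inv
    obtain ⟨s', hss⟩ := hu.exists_left_inv
    have hc : IsCoprime F (Polynomial.derivative F) := by
      refine ⟨-Polynomial.C s', Polynomial.C (s' * e') * Polynomial.X, ?_⟩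
      obtain ⟨k, rfl⟩ : ∃ k, e = k + 1 := ⟨e - 1, by omega⟩
      have h1 : (Polynomial.C s' : Polynomial A) * Polynomial.C s = 1 := by rw [← map_mul, hss, map_one]
      have h2 : (Polynomial.C e' : Polynomial A) * Polynomial.C ((k + 1 : ℕ) : A) = 1 := by rw [← map_mul, hee, map_one]
      simp only [F, Polynomial.derivative_sub, Polynomial.derivative_X_pow, Polynomial.derivative_C, sub_zero, Nat.add_sub_cancel, map_mul]
      linear_combination h1 + (Polynomial.C s' * Polynomial.X ^ (k + 1)) * h2
    haveI := Hensel.etale_adjoinRoot hF hc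
    exact FlatDepth.isRegularRing_ascent A (AdjoinRoot F) inferInstance fun Q _ =>
      GeomProp.isRegularRing_of_smooth Q.ResidueField (Q.Fiber (AdjoinRoot F))
  · let J : Ideal A := Ideal.span {s}
    haveI := hreg
    let π : AdjoinRoot F →+* A ⧸ J := AdjoinRoot.lift (Ideal.Quotient.mk J) 0 (by
      simp [F, zero_pow he.ne', Ideal.Quotient.eq_zero_iff_mem, J])
    have hπ : ∀ p, π (AdjoinRoot.mk F p) = Ideal.Quotient.mk J (p.coeff 0) := fun p => by
      rw [AdjoinRoot.lift_mk, Polynomial.eval₂_at_zero]
    have hroot : AdjoinRoot.root F ^ e = AdjoinRoot.of F s := by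
      refine sub_eq_zero.1 ?_
      rw [← AdjoinRoot.mk_C, ← AdjoinRoot.mk_X, ← map_pow, ← map_sub]
      exact AdjoinRoot.mk_self
    refine RegTrans.isRegularRing_of_quot π (fun a => ?_) (AdjoinRoot.root F) ?_ ?_ ?_
    · obtain ⟨a, rfl⟩ := Ideal.Quotient.mk_surjective a
      exact ⟨AdjoinRoot.mk F (Polynomial.C a), by rw [hπ, Polynomial.coeff_C_zero]⟩
    · refine le_antisymm (fun z hz => ?_) ((Ideal.span_singleton_le_iff_mem _).2 ?_)
      · obtain ⟨p, rfl⟩ := AdjoinRoot.mk_surjective z
        rw [RingHom.mem_ker, hπ, Ideal.Quotient.eq_zero_iff_mem] at hz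
        obtain ⟨c, hc⟩ := Ideal.mem_span_singleton'.1 hz
        rw [← Polynomial.divX_mul_X_add p, map_add, map_mul, AdjoinRoot.mk_X, AdjoinRoot.mk_C, ← hc, map_mul, ← hroot]
        exact add_mem (Ideal.mul_mem_left _ _ (Ideal.mem_span_singleton_self _))
          (Ideal.mul_mem_left _ _ (Ideal.pow_mem_of_mem _ (Ideal.mem_span_singleton_self _) e he))
      · rw [RingHom.mem_ker, ← AdjoinRoot.mk_X, hπ, Polynomial.coeff_X_zero, map_zero]
    · haveI := IsRegularLocalRing.of_isRegularRing_of_isLocalRing (R := A)
      haveI : IsDomain A := RegLoc.isDomain A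
      have h1 : IsSMulRegular A s := fun a b h => mul_left_cancel₀ hs h
      have h2 : IsSMulRegular (AdjoinRoot F) (AdjoinRoot.root F ^ e) := fun a b h => by
        rw [hroot] at h
        refine Module.Flat.isSMulRegular_of_nonZeroDivisors (M := AdjoinRoot F) (mem_nonZeroDivisors_of_ne_zero hs) ?_
        simpa [Algebra.smul_def, AdjoinRoot.algebraMap_eq] using h
      exact (IsSMulRegular.pow_iff he).1 h2
    · refine Ideal.mem_sInf.2 fun M hM => ?_
      haveI := hM.2
      have hs' : s ∈ IsLocalRing.maximalIdeal A := hu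
      have hM' : M.comap (algebraMap A (AdjoinRoot F)) = IsLocalRing.maximalIdeal A :=
        IsLocalRing.eq_maximalIdeal (Ideal.isMaximal_comap_of_isIntegral_of_isMaximal M)
      exact hM.2.isPrime.mem_of_pow_mem e (by rw [hroot]; exact (hM'.ge hs' : s ∈ M.comap (algebraMap A (AdjoinRoot F))))

end Groth.Agent.S13781
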