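import Groth.Statements.S13782
import Mathlib.RingTheory.AdjoinRoot
import Mathlib.RingTheory.Smooth.Basic
import Mathlib.RingTheory.Derivation.MapCoeffs
import Mathlib.Algebra.TrivSqZeroExt.Basic
import Mathlib.RingTheory.Jacobson.Ring
import Mathlib.Tactic.LinearCombination
import Groth.Agent.SmoothRed.Basic

set_option autoImplicit false
universe u
open CAlg Groth.Agent

namespace Groth.Agent.S13782

open Polynomial

/-- A quotient by one element with a derivation sending it to a unit is formally smooth. -/
theorem formallySmooth_of_derivation (k P : Type u) [CommRing k] [CommRing P] [Algebra k P] [Algebra.FormallySmooth k P]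
    (s : P) (D : Derivation k P (P ⧸ Ideal.span {s})) (hD : D s = 1) :
    Algebra.FormallySmooth k (P ⧸ Ideal.span {s}) := by
  classical
  let I : Ideal P := Ideal.span {s}
  let f : P →ₐ[k] P ⧸ I := Ideal.Quotient.mkₐ k I
  have hker : RingHom.ker f.toRingHom = I := Ideal.mk_ker
  let J : Ideal P := RingHom.ker f.toRingHom ^ 2
  choose σ hσ using fun b : P ⧸ I => Ideal.Quotient.mk_surjective b
  have hss : ∀ c : P, s * (s * c) ∈ J := fun c => by
    rw [← mul_assoc, show J = I ^ 2 from by simp only [J, hker]]
    exact Ideal.mul_mem_right _ _ (by rw [pow_two]; exact Ideal.mul_mem_mul (Ideal.mem_span_singleton_self s) (Ideal.mem_span_singleton_self s))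
  let h₀ : P → P ⧸ J := fun p => Ideal.Quotient.mk J (p - s * σ (D p))
  have hspec : ∀ p x, Ideal.Quotient.mk I x = D p → h₀ p = Ideal.Quotient.mk J (p - s * x) := fun p x hx => by
    refine Ideal.Quotient.eq.2 ?_
    obtain ⟨c, hc⟩ := Ideal.mem_span_singleton'.1 (Ideal.Quotient.eq.1 (hx.trans (hσ (D p)).symm))
    rw [show p - s * σ (D p) - (p - s * x) = s * (s * c) by linear_combination -s * hc]
    exact hss c
  let h : P →ₐ[k] P ⧸ J :=
    { toFun := h₀
      map_one' := by simp [hspec 1 0 (by simp)]
      map_zero' := by simp [hspec 0 0 (by simp)]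
      map_add' := fun p q => by
        rw [hspec (p + q) (σ (D p) + σ (D q)) (by rw [map_add, hσ, hσ, map_add]), ← map_add]
        congr 1; ring
      map_mul' := fun p q => by
        rw [hspec (p * q) (p * σ (D q) + q * σ (D p)) (by
          rw [map_add, map_mul, map_mul, hσ, hσ, D.leibniz]; rfl), ← map_mul]
        refine Ideal.Quotient.eq.2 ?_
        rw [show p * q - s * (p * σ (D q) + q * σ (D p)) - (p - s * σ (D p)) * (q - s * σ (D q)) =
          s * (s * (-(σ (D p) * σ (D q)))) by ring]
        exact hss _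
      commutes' := fun r => by
        rw [hspec (algebraMap k P r) 0 (by simp)]; simp }
  refine Algebra.FormallySmooth.of_split f (Ideal.Quotient.liftₐ I h fun p hp => ?_) ?_
  · obtain ⟨c, rfl⟩ := Ideal.mem_span_singleton'.1 hp
    rw [map_mul, show h s = 0 from (hspec s 1 (by rw [hD, map_one])).trans (by simp), mul_zero]
  · refine AlgHom.ext fun b => ?_
    obtain ⟨p, rfl⟩ := Ideal.Quotient.mk_surjective b
    show f (p - s * σ (D p)) = Ideal.Quotient.mk I p
    exact Ideal.Quotient.eq.2 (by
      rw [sub_sub_cancel_left]; exact neg_mem (Ideal.mul_mem_right _ _ (Ideal.mem_span_singleton_self s)))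

/-- A formally smooth quotient by one regular element has such a derivation. -/
theorem exists_derivation_of_formallySmooth (k P : Type u) [CommRing k] [CommRing P] [Algebra k P]
    (s : P) (hreg : ∀ a, a * s = 0 → a = 0) [Algebra.FormallySmooth k (P ⧸ Ideal.span {s})] :
    ∃ D : Derivation k P (P ⧸ Ideal.span {s}), D s = 1 := by
  classical
  let I : Ideal P := Ideal.span {s}
  let f : P →ₐ[k] P ⧸ I := Ideal.Quotient.mkₐ k I
  have hker : RingHom.ker f.toRingHom = I := Ideal.mk_ker
  let J : Ideal P := RingHom.ker f.toRingHom ^ 2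
  have hJ : J = Ideal.span {s * s} := by
    rw [show J = I ^ 2 from by simp only [J, hker], Ideal.span_singleton_pow, pow_two]
  have hsurj : Function.Surjective f.kerSquareLift := fun b => by
    obtain ⟨p, rfl⟩ := Ideal.Quotient.mk_surjective b
    exact ⟨Ideal.Quotient.mk _ p, rfl⟩
  have hnil : IsNilpotent (RingHom.ker (f.kerSquareLift : P ⧸ J →+* P ⧸ I)) :=
    ⟨2, AlgHom.ker_kerSquareLift f ▸ Ideal.cotangentIdeal_square _⟩
  let g := Algebra.FormallySmooth.liftOfSurjective (R := k) (AlgHom.id k (P ⧸ I)) f.kerSquareLift hsurj hnil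
  have hg : ∀ b, f.kerSquareLift (g b) = b := Algebra.FormallySmooth.liftOfSurjective_apply _ _ hsurj hnil
  have hex : ∀ p : P, ∃ x : P, g (Ideal.Quotient.mk I p) = Ideal.Quotient.mk J (p - s * x) := fun p => by
    obtain ⟨r, hr⟩ := Ideal.Quotient.mk_surjective (g (Ideal.Quotient.mk I p))
    have h1 : Ideal.Quotient.mk I r = Ideal.Quotient.mk I p := by
      have h2 := hg (Ideal.Quotient.mk I p)
      rwa [← hr] at h2
    obtain ⟨c, hc⟩ := Ideal.mem_span_singleton'.1 (Ideal.Quotient.eq.1 h1)
    exact ⟨-c, by rw [← hr, show p - s * -c = r by linear_combination hc]⟩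
  choose x hx using hex
  have huniq : ∀ p y, g (Ideal.Quotient.mk I p) = Ideal.Quotient.mk J (p - s * y) →
      Ideal.Quotient.mk I (x p) = Ideal.Quotient.mk I y := fun p y hy => by
    have h1 := Ideal.Quotient.eq.1 ((hx p).symm.trans hy)
    rw [hJ] at h1
    obtain ⟨c, hc⟩ := Ideal.mem_span_singleton'.1 h1
    refine Ideal.Quotient.eq.2 (Ideal.mem_span_singleton'.2 ⟨-c, ?_⟩)
    have := hreg (x p - y + c * s) (by linear_combination hc)
    linear_combination -this
  let L : P →ₗ[k] P ⧸ I :=
    { toFun := fun p => Ideal.Quotient.mk I (x p)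
      map_add' := fun p q => by
        show Ideal.Quotient.mk I (x (p + q)) = Ideal.Quotient.mk I (x p) + Ideal.Quotient.mk I (x q)
        rw [← map_add (Ideal.Quotient.mk I) (x p)]
        refine huniq _ _ ?_
        rw [map_add, map_add, hx, hx, ← map_add]; congr 1; ring
      map_smul' := fun r p => by
        show Ideal.Quotient.mk I (x (r • p)) = r • Ideal.Quotient.mk I (x p)
        rw [show r • Ideal.Quotient.mk I (x p) = Ideal.Quotient.mk I (r • x p) from (map_smul f r (x p)).symm]
        refine huniq _ _ ?_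
        rw [show Ideal.Quotient.mk I (r • p) = r • Ideal.Quotient.mk I p from map_smul f r p, map_smul, hx, mul_smul_comm,
          ← smul_sub]
        exact (map_smul (Ideal.Quotient.mkₐ k J) r _).symm }
  refine ⟨Derivation.mk' L fun p q => ?_, ?_⟩
  · show Ideal.Quotient.mk I (x (p * q)) = Ideal.Quotient.mk I p * Ideal.Quotient.mk I (x q) + Ideal.Quotient.mk I q * Ideal.Quotient.mk I (x p)
    rw [← map_mul, ← map_mul, ← map_add]
    refine huniq _ _ ?_
    rw [map_mul, map_mul, hx, hx, ← map_mul]
    refine Ideal.Quotient.eq.2 ?_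
    rw [hJ]
    exact Ideal.mem_span_singleton'.2 ⟨x p * x q, by ring⟩
  · show Ideal.Quotient.mk I (x s) = 1
    rw [← map_one (Ideal.Quotient.mk I)]
    refine huniq _ _ ?_
    rw [Ideal.Quotient.eq_zero_iff_mem.2 (Ideal.mem_span_singleton_self s), map_zero, mul_one, sub_self, map_zero]

theorem eq_zero_of_mul_irreducible {A : Type u} [CommRing A] [IsReduced A] [IsJacobsonRing A]
    {s : A} (hs : Irreducible s) (a : A) (ha : a * s = 0) : a = 0 := by
  have h : a ∈ (⊥ : Ideal A).jacobson := Ideal.mem_jacobson_bot.2 fun y =>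
    (hs.isUnit_or_isUnit (show s = s * (a * y + 1) by linear_combination -y * ha)).resolve_left hs.not_isUnit
  rw [← Ideal.radical_eq_jacobson] at h
  obtain ⟨n, hn⟩ := h
  exact IsReduced.eq_zero _ ⟨n, hn⟩

theorem exists_derivation_poly {k A B : Type u} [CommRing k] [CommRing A] [Algebra k A] [CommRing B] [Algebra k B]
    [Algebra A B] [IsScalarTower k A B] [Algebra A[X] B] [IsScalarTower A A[X] B] [IsScalarTower k A[X] B]
    (D : Derivation k A B) (c : B) :
    ∃ D' : Derivation k A[X] B, (∀ a, D' (C a) = D a) ∧ D' X = c := by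
  let φ₀ : A →ₐ[k] TrivSqZeroExt B B :=
    { toFun := fun a => TrivSqZeroExt.inl (algebraMap A B a) + TrivSqZeroExt.inr (D a)
      map_one' := by simp
      map_zero' := by simp
      map_add' := fun a b => by ext <;> simp
      map_mul' := fun a b => by
        refine TrivSqZeroExt.ext ?_ ?_
        · simp only [TrivSqZeroExt.fst_mul, TrivSqZeroExt.fst_add, TrivSqZeroExt.fst_inl, TrivSqZeroExt.fst_inr, add_zero,
            map_mul]
        · simp only [TrivSqZeroExt.snd_mul, TrivSqZeroExt.fst_add, TrivSqZeroExt.fst_inl, TrivSqZeroExt.fst_inr,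
            TrivSqZeroExt.snd_add, TrivSqZeroExt.snd_inl, TrivSqZeroExt.snd_inr, add_zero, zero_add, D.leibniz,
            smul_eq_mul, MulOpposite.smul_eq_mul_unop, MulOpposite.unop_op, Algebra.smul_def, map_mul]
          ring
      commutes' := fun r => by
        refine TrivSqZeroExt.ext ?_ ?_
        · simp only [TrivSqZeroExt.algebraMap_eq_inl', TrivSqZeroExt.fst_add, TrivSqZeroExt.fst_inl, TrivSqZeroExt.fst_inr,
            add_zero, ← IsScalarTower.algebraMap_apply k A B]
        · simp only [TrivSqZeroExt.algebraMap_eq_inl', TrivSqZeroExt.snd_add, TrivSqZeroExt.snd_inl, TrivSqZeroExt.snd_inr,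
            Derivation.map_algebraMap, add_zero] }
  let w : TrivSqZeroExt B B := TrivSqZeroExt.inl (algebraMap A[X] B X) + TrivSqZeroExt.inr c
  let Φ : A[X] →ₐ[k] TrivSqZeroExt B B :=
    { Polynomial.eval₂RingHom φ₀.toRingHom w with
      commutes' := fun r => by
        show eval₂ φ₀.toRingHom w (algebraMap k A[X] r) = _
        rw [IsScalarTower.algebraMap_apply k A A[X], Polynomial.algebraMap_eq, eval₂_C]
        exact φ₀.commutes r }
  have hfst : ∀ p, (Φ p).fst = algebraMap A[X] B p := by
    have h : (TrivSqZeroExt.fstHom B B B).toRingHom.comp Φ.toRingHom = algebraMap A[X] B := by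
      refine Polynomial.ringHom_ext (fun a => ?_) ?_
      · show (eval₂ φ₀.toRingHom w (C a)).fst = algebraMap A[X] B (C a)
        rw [eval₂_C, ← Polynomial.algebraMap_eq, ← IsScalarTower.algebraMap_apply A A[X] B]
        show (TrivSqZeroExt.inl (algebraMap A B a) + TrivSqZeroExt.inr (D a)).fst = _
        rw [TrivSqZeroExt.fst_add, TrivSqZeroExt.fst_inl, TrivSqZeroExt.fst_inr, add_zero]
      · show (eval₂ φ₀.toRingHom w X).fst = algebraMap A[X] B X
        rw [eval₂_X, TrivSqZeroExt.fst_add, TrivSqZeroExt.fst_inl, TrivSqZeroExt.fst_inr, add_zero]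
    exact fun p => RingHom.congr_fun h p
  let L : A[X] →ₗ[k] B :=
    { toFun := fun p => (Φ p).snd
      map_add' := fun p q => by simp
      map_smul' := fun r p => by simp }
  refine ⟨Derivation.mk' L fun p q => ?_, fun a => ?_, ?_⟩
  · show (Φ (p * q)).snd = p • (Φ q).snd + q • (Φ p).snd
    rw [map_mul, TrivSqZeroExt.snd_mul, hfst, hfst, MulOpposite.smul_eq_mul_unop, MulOpposite.unop_op]
    simp only [Algebra.smul_def, Algebra.algebraMap_self, RingHom.id_apply, smul_eq_mul]
    ring
  · show (eval₂ φ₀.toRingHom w (C a)).snd = D a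
    rw [eval₂_C]
    show (TrivSqZeroExt.inl (algebraMap A B a) + TrivSqZeroExt.inr (D a)).snd = _
    rw [TrivSqZeroExt.snd_add, TrivSqZeroExt.snd_inl, TrivSqZeroExt.snd_inr, zero_add]
  · show (eval₂ φ₀.toRingHom w X).snd = c
    rw [eval₂_X, TrivSqZeroExt.snd_add, TrivSqZeroExt.snd_inl, TrivSqZeroExt.snd_inr, zero_add]

/-- Let k be a field, A a smooth k-algebra, s an irreducible element of A and e an integer, at least 2,
that is invertible in k. Then the k-algebra A[t]/(t^e - s) is smooth exactly when the quotient ring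
A/(s) is a smooth k-algebra. (Smooth over k means formally smooth and of finite presentation over
k.) -/
theorem result (k A : Type u) [Field k] [CommRing A] [Algebra k A]
    [Algebra.Smooth k A] (s : A) (hs : Irreducible s) (e : ℕ) (he : 2 ≤ e) (hek : (e : k) ≠ 0) :
    Algebra.Smooth k (AdjoinRoot (Polynomial.X ^ e - Polynomial.C s)) ↔
      Algebra.Smooth k (A ⧸ Ideal.span {s}) := by
  haveI : IsReduced A := SmoothRed.isReduced_of_smooth k A
  haveI : IsJacobsonRing A := isJacobsonRing_of_finiteType (A := k)
  have hreg : ∀ a, a * s = 0 → a = 0 := eq_zero_of_mul_irreducible hs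
  have hm : (X ^ e - C s : A[X]).Monic := monic_X_pow_sub_C s (by omega)
  have hregP : ∀ a, a * (X ^ e - C s : A[X]) = 0 → a = 0 := fun a => hm.mul_left_eq_zero_iff.1
  show Algebra.Smooth k (A[X] ⧸ Ideal.span {(X ^ e - C s : A[X])}) ↔ _
  let B := A[X] ⧸ Ideal.span {(X ^ e - C s : A[X])}
  haveI : Algebra.FormallySmooth k A[X] := Algebra.FormallySmooth.comp k A A[X]
  let r : B := Ideal.Quotient.mk _ X
  have hr : r ^ e = algebraMap A B s := by
    rw [← map_pow]
    exact Ideal.Quotient.eq.2 (Ideal.mem_span_singleton_self _)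
  constructor <;> intro h
  · -- from the cover to the quotient
    obtain ⟨D, hD⟩ := exists_derivation_of_formallySmooth k A[X] (X ^ e - C s) hregP
    let π : B →ₐ[A] A ⧸ Ideal.span {s} := Ideal.Quotient.liftₐ _ (aeval (0 : A ⧸ Ideal.span {s})) fun p hp => by
      obtain ⟨c, rfl⟩ := Ideal.mem_span_singleton'.1 hp
      simp [zero_pow (show e ≠ 0 by omega), Ideal.Quotient.eq_zero_iff_mem.2 (Ideal.mem_span_singleton_self s)]
    let L : A →ₗ[k] A ⧸ Ideal.span {s} :=
      ((π.restrictScalars k).toLinearMap.comp D.toLinearMap).comp (IsScalarTower.toAlgHom k A A[X]).toLinearMap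
    have hL : ∀ a, L a = π (D (C a)) := fun a => rfl
    have hπs : ∀ (a : A) (y : B), π (C a • y) = a • π y := fun a y => by
      exact (congrArg π (algebraMap_smul A[X] a y)).trans (map_smul π a y)
    let D₁ : Derivation k A (A ⧸ Ideal.span {s}) := Derivation.mk' L fun a b => by
      rw [hL, hL, hL, map_mul, D.leibniz, map_add, hπs, hπs]
    have hD₁ : D₁ s = -1 := by
      have h1 := congrArg π hD
      rw [map_sub, D.leibniz_pow, map_sub, map_nsmul, map_one, Algebra.smul_def (X ^ (e - 1) : A[X]) (D X), map_mul] at h1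
      rw [show π (algebraMap A[X] B (X ^ (e - 1))) = 0 from (by
        show aeval (0 : A ⧸ Ideal.span {s}) (X ^ (e - 1) : A[X]) = 0
        simp [zero_pow (show e - 1 ≠ 0 by omega)]), zero_mul, smul_zero, zero_sub] at h1
      show π (D (C s)) = -1
      rw [← h1, neg_neg]
    haveI := formallySmooth_of_derivation k A s (-D₁) (by rw [Derivation.neg_apply, hD₁, neg_neg])
    exact ⟨inferInstance, Algebra.FinitePresentation.quotient (Submodule.fg_span_singleton s)⟩
  · -- from the quotient to the cover
    obtain ⟨D, hD⟩ := exists_derivation_of_formallySmooth k A s hreg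
    obtain ⟨l, hl⟩ := Module.projective_lifting_property (Ideal.span {s}).mkQ D.liftKaehlerDifferential
      (Submodule.mkQ_surjective _)
    let D₀ : Derivation k A A := l.compDer (KaehlerDifferential.D k A)
    obtain ⟨t, ht⟩ : ∃ t, t * s = D₀ s - 1 := Ideal.mem_span_singleton'.1 (Ideal.Quotient.eq.1 (by
      rw [map_one, ← hD, ← D.liftKaehlerDifferential_comp_D s, ← hl]; rfl))
    let D₂ : Derivation k A B := (Algebra.linearMap A B).compDer D₀
    obtain ⟨D', hC, hX⟩ := exists_derivation_poly D₂ (algebraMap k B (e : k)⁻¹ * (algebraMap A B t * r))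
    have he1 : (e : B) * algebraMap k B (e : k)⁻¹ = 1 := by
      rw [← map_natCast (algebraMap k B), ← map_mul, mul_inv_cancel₀ hek, map_one]
    have hD' : D' (X ^ e - C s) = -1 := by
      have hre : r ^ (e - 1) * r = algebraMap A B s := by
        rw [← pow_succ, Nat.sub_add_cancel (by omega), hr]
      rw [map_sub, D'.leibniz_pow, hX, hC, Algebra.smul_def, map_pow, nsmul_eq_mul,
        show algebraMap A[X] B X = r from rfl, show D₂ s = algebraMap A B (D₀ s) from rfl,
        show D₀ s = 1 + t * s by linear_combination -ht, map_add, map_one, map_mul]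
      linear_combination (algebraMap A B t * (r ^ (e - 1) * r)) * he1 + algebraMap A B t * hre
    haveI := formallySmooth_of_derivation k A[X] (X ^ e - C s) (-D') (by rw [Derivation.neg_apply, hD', neg_neg])
    exact ⟨inferInstance, Algebra.FinitePresentation.quotient (Submodule.fg_span_singleton _)⟩

end Groth.Agent.S13782
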