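import Groth.Statements.S13784
import Mathlib.RingTheory.IntegralDomain
import Mathlib.RingTheory.LocalRing.ResidueField.Basic

set_option autoImplicit false
universe u
open CAlg

namespace Groth.Agent.S13784

/-- Let A be a commutative local ring and G a finite subgroup of Aˣ. If the order of G is invertible in
A, then G is cyclic. -/
theorem result {A : Type u} [CommRing A] [IsLocalRing A]
    (G : Subgroup Aˣ) [Finite G] (hG : IsUnit ((Nat.card G : ℕ) : A)) : IsCyclic G := by
  let φ : G →* IsLocalRing.ResidueField A := (IsLocalRing.residue A).toMonoidHom.comp ((Units.coeHom A).comp G.subtype)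
  refine isCyclic_of_subgroup_isDomain φ ((injective_iff_map_eq_one φ).2 fun g hg => ?_)
  have h1 : ((g : Aˣ) : A) ^ Nat.card G = 1 := by
    rw [← Units.val_pow_eq_pow_val, ← SubgroupClass.coe_pow, pow_card_eq_one']; rfl
  let s : A := ∑ i ∈ Finset.range (Nat.card G), ((g : Aˣ) : A) ^ i
  have hs : IsUnit s := by
    refine IsUnit.of_map (IsLocalRing.residue A) _ ?_
    have hg' : IsLocalRing.residue A ((g : Aˣ) : A) = 1 := hg
    simp only [s, map_sum, map_pow, hg', one_pow, Finset.sum_const, Finset.card_range, nsmul_eq_mul, mul_one]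
    simpa using hG.map (IsLocalRing.residue A)
  have h2 : s * (((g : Aˣ) : A) - 1) = 0 := by rw [geom_sum_mul, h1, sub_self]
  exact Subtype.ext (Units.ext (sub_eq_zero.1 (hs.mul_right_eq_zero.1 h2)))

end Groth.Agent.S13784
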