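import Groth.Statements.S13785
import Mathlib.LinearAlgebra.Matrix.Charpoly.Coeff
import Mathlib.LinearAlgebra.Matrix.MvPolynomial

set_option autoImplicit false
universe u
open CAlg

namespace Groth.Agent.S13785

theorem negInvol {A : Type*} [CommRing A] {σ : Type*} :
    (MvPolynomial.aeval fun i : σ => (-MvPolynomial.X i : MvPolynomial σ A)).comp (MvPolynomial.aeval fun i => -MvPolynomial.X i) =
      AlgHom.id A _ :=
  MvPolynomial.algHom_ext fun i => by simp

/-- For any commutative ring A, the determinant of the generic n × n matrix is a nonzerodivisor of the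
polynomial ring over A in the n² matrix entries. -/
theorem result (A : Type u) [CommRing A] (n : ℕ) :
    (Matrix.mvPolynomialX (Fin n) (Fin n) A).det ∈ nonZeroDivisors (MvPolynomial (Fin n × Fin n) A) := by
  classical
  refine mem_nonZeroDivisors_iff_right.2 fun q hq => ?_
  let R := MvPolynomial (Fin n × Fin n) A
  let X : Matrix (Fin n) (Fin n) R := Matrix.mvPolynomialX (Fin n) (Fin n) A
  -- translate the generic matrix to `t - X`, whose determinant is monic in `t`
  let sub : R →ₐ[A] Polynomial R := MvPolynomial.aeval fun ij => (Matrix.charmatrix X) ij.1 ij.2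
  have hdet : sub X.det = X.charpoly := by
    rw [Matrix.charpoly, AlgHom.map_det]
    congr 1
    refine Matrix.ext fun a b => ?_
    rw [AlgHom.mapMatrix_apply, Matrix.map_apply]
    exact MvPolynomial.aeval_X _ (a, b)
  have h0 : sub q = 0 := by
    have h := congrArg sub hq
    rw [map_mul, hdet, map_zero] at h
    exact (X.charpoly_monic).mul_left_eq_zero_iff.1 h
  -- specialise at `t = 0`: recovers `q(-X)`
  let neg : R →ₐ[A] R := MvPolynomial.aeval fun ij => -MvPolynomial.X ij
  have hneg : ((Polynomial.aeval (0 : R)).restrictScalars A).comp sub = neg := by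
    refine MvPolynomial.algHom_ext fun ⟨a, b⟩ => ?_
    simp only [sub, neg, X, AlgHom.comp_apply, MvPolynomial.aeval_X, AlgHom.restrictScalars_apply]
    by_cases h : a = b
    · subst h; rw [Matrix.charmatrix_apply_eq]; simp [Matrix.mvPolynomialX_apply]
    · rw [Matrix.charmatrix_apply_ne _ _ _ h]; simp [Matrix.mvPolynomialX_apply]
  have hinv : neg.comp neg = AlgHom.id A R := negInvol
  have h1 : neg q = 0 := by rw [← hneg, AlgHom.comp_apply, h0, map_zero]
  have := congrArg neg h1
  rwa [map_zero, ← AlgHom.comp_apply, hinv] at this

end Groth.Agent.S13785
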