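import Groth.Statements.S13786
import Mathlib.RingTheory.AdjoinRoot
import Mathlib.LinearAlgebra.Matrix.Charpoly.Coeff
import Mathlib.LinearAlgebra.Matrix.MvPolynomial
import Mathlib.RingTheory.Flat.FaithfullyFlat.Basic
import Mathlib.RingTheory.MvPolynomial.Basic
import Mathlib.LinearAlgebra.Basis.SMul
import Mathlib.RingTheory.Ideal.Quotient.Operations

set_option autoImplicit false
universe u
open CAlg

namespace Groth.Agent.S13786

/-- For a commutative ring A and n ≥ 1, with det the determinant of the generic n × n matrix in the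
polynomial ring A[X] in n² indeterminates, the A-algebra A[X]/(det) is faithfully flat over A. (For
n = 0 the determinant is 1 and the quotient is the zero ring, so n ≥ 1 is required.) -/
theorem result (A : Type u) [CommRing A] (n : ℕ) (hn : 0 < n) :
    Module.FaithfullyFlat A
      (MvPolynomial (Fin n × Fin n) A ⧸ Ideal.span {(Matrix.mvPolynomialX (Fin n) (Fin n) A).det}) := by
  classical
  rcases subsingleton_or_nontrivial A with hA | hA
  · have : Subsingleton (MvPolynomial (Fin n × Fin n) A ⧸ Ideal.span {(Matrix.mvPolynomialX (Fin n) (Fin n) A).det}) :=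
      Module.subsingleton A _
    exact { submodule_ne_top := fun m hm => absurd (Subsingleton.elim m ⊤) hm.ne_top }
  let o : Fin n × Fin n := (⟨0, hn⟩, ⟨0, hn⟩)
  let B := MvPolynomial {p : Fin n × Fin n // p ≠ o} A
  let M : Matrix (Fin n) (Fin n) B := fun i j =>
    if h : (i, j) = o then 0 else MvPolynomial.X ⟨(i, j), h⟩
  let f : MvPolynomial (Fin n × Fin n) A →ₐ[A] Polynomial B := MvPolynomial.aeval fun p =>
    if h : p = o then Polynomial.X
    else Polynomial.C (MvPolynomial.X ⟨p, h⟩) + (if p.1 = p.2 then Polynomial.X else 0)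
  let g₀ : B →ₐ[A] MvPolynomial (Fin n × Fin n) A := MvPolynomial.aeval fun p =>
    MvPolynomial.X p.1 - (if p.1.1 = p.1.2 then MvPolynomial.X o else 0)
  let g : Polynomial B →+* MvPolynomial (Fin n × Fin n) A := Polynomial.eval₂RingHom g₀.toRingHom (MvPolynomial.X o)
  have hfo : f (MvPolynomial.X o) = Polynomial.X := by simp [f]
  have hfX : ∀ (p : Fin n × Fin n) (h : p ≠ o), f (MvPolynomial.X p) =
      Polynomial.C (MvPolynomial.X ⟨p, h⟩ : B) + (if p.1 = p.2 then Polynomial.X else 0) :=
    fun p h => (MvPolynomial.aeval_X _ p).trans (dif_neg h)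
  have hgX : ∀ (p : Fin n × Fin n) (h : p ≠ o), g₀ (MvPolynomial.X ⟨p, h⟩) =
      MvPolynomial.X p - (if p.1 = p.2 then MvPolynomial.X o else 0) := fun p h => MvPolynomial.aeval_X _ _
  have hgC : ∀ a : A, g₀ (MvPolynomial.C a) = MvPolynomial.C a := fun a => MvPolynomial.aeval_C _ a
  have hfC : ∀ a : A, f (MvPolynomial.C a) = Polynomial.C (MvPolynomial.C a : B) := fun a => MvPolynomial.aeval_C _ a
  have hgP : ∀ b : B, g (Polynomial.C b) = g₀ b := fun b => Polynomial.eval₂_C _ _
  have hgT : g Polynomial.X = MvPolynomial.X o := Polynomial.eval₂_X _ _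
  have h1 : ∀ q, g (f q) = q := by
    intro q
    have : g.comp f.toRingHom = RingHom.id _ := by
      refine MvPolynomial.ringHom_ext (fun a => ?_) fun p => ?_
      · show g (f (MvPolynomial.C a)) = MvPolynomial.C a
        rw [hfC, hgP, hgC]
      · show g (f (MvPolynomial.X p)) = MvPolynomial.X p
        by_cases h : p = o
        · rw [h, hfo, hgT]
        · rw [hfX p h, map_add, hgP, hgX p h]
          split_ifs
          · rw [hgT, sub_add_cancel]
          · rw [map_zero, sub_zero, add_zero]
    exact RingHom.congr_fun this q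
  have h2 : ∀ q, f (g q) = q := by
    intro q
    have : f.toRingHom.comp g = RingHom.id _ := by
      refine Polynomial.ringHom_ext (fun b => ?_) ?_
      · have : (f.toRingHom.comp g).comp Polynomial.C = (Polynomial.C : B →+* Polynomial B) := by
          refine MvPolynomial.ringHom_ext (fun a => ?_) fun p => ?_
          · show f (g (Polynomial.C (MvPolynomial.C a))) = _
            rw [hgP, hgC, hfC]
          · obtain ⟨p, hp⟩ := p
            show f (g (Polynomial.C (MvPolynomial.X ⟨p, hp⟩))) = _
            rw [hgP, hgX p hp, map_sub, hfX p hp]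
            split_ifs
            · rw [hfo, add_sub_cancel_right]
            · rw [map_zero, sub_zero, add_zero]
        exact RingHom.congr_fun this b
      · show f (g Polynomial.X) = _
        rw [hgT, hfo]; rfl
    exact RingHom.congr_fun this q
  let e : MvPolynomial (Fin n × Fin n) A ≃ₐ[A] Polynomial B :=
    { f with invFun := g, left_inv := h1, right_inv := h2 }
  have hdet : f (Matrix.mvPolynomialX (Fin n) (Fin n) A).det = (-M).charpoly := by
    rw [AlgHom.map_det, Matrix.charpoly]
    congr 1
    refine Matrix.ext fun i j => ?_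
    by_cases h : (i, j) = o
    · obtain ⟨rfl, rfl⟩ : i = o.1 ∧ j = o.2 := ⟨congrArg Prod.fst h, congrArg Prod.snd h⟩
      simp [f, M, o, Matrix.mvPolynomialX_apply, Matrix.charmatrix_apply]
    · simp only [AlgHom.mapMatrix_apply, Matrix.map_apply, Matrix.mvPolynomialX_apply, f, MvPolynomial.aeval_X, dif_neg h,
        Matrix.charmatrix_apply, Matrix.neg_apply, M, map_neg, sub_neg_eq_add]
      by_cases hij : i = j
      · subst hij; simp [add_comm]
      · simp [hij]
  have hmap : Ideal.span {(-M).charpoly} = (Ideal.span {(Matrix.mvPolynomialX (Fin n) (Fin n) A).det}).map (e : _ →+* Polynomial B) := by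
    rw [Ideal.map_span, Set.image_singleton]
    exact congrArg (fun x => Ideal.span {x}) hdet.symm
  let q := Ideal.quotientEquivAlg _ _ e hmap
  let pb := AdjoinRoot.powerBasis' (Matrix.charpoly_monic (-M))
  let bas := (MvPolynomial.basisMonomials {p : Fin n × Fin n // p ≠ o} A).smulTower pb.basis
  have hd : 0 < pb.dim := by
    show 0 < (-M).charpoly.natDegree
    rw [Matrix.charpoly_natDegree_eq_dim, Fintype.card_fin]; exact hn
  have : Nonempty ({p : Fin n × Fin n // p ≠ o} →₀ ℕ) := ⟨0⟩
  have : Nonempty (Fin pb.dim) := ⟨⟨0, hd⟩⟩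
  exact Module.FaithfullyFlat.of_linearEquiv A _ (q.toLinearEquiv ≪≫ₗ bas.repr)

end Groth.Agent.S13786
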