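import Groth.Statements.S13787
import Mathlib.LinearAlgebra.Matrix.MvPolynomial
import Mathlib.RingTheory.Localization.Away.Basic
import Mathlib.LinearAlgebra.Matrix.Adjugate
import Mathlib.Algebra.GroupWithZero.NonZeroDivisors
import Mathlib.Algebra.Polynomial.AlgebraMap

set_option autoImplicit false
universe u
open CAlg

namespace Groth.Agent.S13787

/-- Let A be a nonzero commutative ring and n ≥ 1, let det be the determinant of the generic n × n
matrix in the polynomial ring A[X] in its n² entries, and let A[X, 1/det] be the localization at det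
(the coordinate ring of GL_n over A). The homomorphism Aˣ × ℤ → (A[X, 1/det])ˣ sending (a, e) to a ·
det^e is injective. (The published statement takes the exponent in the group of locally constant
ℤ-valued functions on Spec A, which also covers A = 0; with integer exponents as here, A must be
nonzero and n ≥ 1.) -/
theorem result (A : Type u) [CommRing A] [Nontrivial A] (n : ℕ) (hn : 0 < n) :
    Function.Injective (fun p : Aˣ × ℤ =>
        Units.map (algebraMap A (Localization.Away (Matrix.mvPolynomialX (Fin n) (Fin n) A).det)).toMonoidHom p.1 *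
          (IsLocalization.Away.algebraMap_isUnit (S := Localization.Away (Matrix.mvPolynomialX (Fin n) (Fin n) A).det)
            (Matrix.mvPolynomialX (Fin n) (Fin n) A).det).unit ^ p.2) := by
  classical
  set D := (Matrix.mvPolynomialX (Fin n) (Fin n) A).det with hD
  set L := Localization.Away D
  intro ⟨a, e⟩ ⟨b, e'⟩ h
  have : Nonempty (Fin n) := ⟨⟨0, hn⟩⟩
  -- specialise to diagonal matrices in A[X]
  let φ : MvPolynomial (Fin n × Fin n) A →ₐ[A] Polynomial A :=
    MvPolynomial.aeval fun ij => Matrix.diagonal (fun i : Fin n => if i = ⟨0, hn⟩ then (Polynomial.X : Polynomial A) else 1) ij.1 ij.2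
  have hφD : φ D = Polynomial.X := by
    rw [hD, AlgHom.map_det, AlgHom.mapMatrix_apply, show (Matrix.mvPolynomialX (Fin n) (Fin n) A).map φ = Matrix.diagonal (fun i : Fin n => if i = ⟨0, hn⟩ then (Polynomial.X : Polynomial A) else 1) from ?_, Matrix.det_diagonal]
    · simp
    · ext i j
      simp [φ, Matrix.mvPolynomialX]
  have key : ∀ (x y : Aˣ) (i j : ℕ), algebraMap A L x * algebraMap _ L D ^ i = algebraMap A L y * algebraMap _ L D ^ j → i = j ∧ (x : A) = y := by
    intro x y i j hxy
    rw [IsScalarTower.algebraMap_apply A (MvPolynomial (Fin n × Fin n) A) L, IsScalarTower.algebraMap_apply A (MvPolynomial (Fin n × Fin n) A) L,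
      ← map_pow, ← map_pow, ← map_mul, ← map_mul] at hxy
    obtain ⟨⟨_, k, rfl⟩, hk⟩ := (IsLocalization.eq_iff_exists (Submonoid.powers D) L).1 hxy
    have h2 := congrArg φ hk
    simp only [map_mul, map_pow, hφD, AlgHom.commutes] at h2
    have h3 := congrArg (fun q => Polynomial.coeff q (i + k)) h2
    simp only [← mul_assoc, mul_comm (Polynomial.X ^ k), Polynomial.algebraMap_eq, mul_assoc, ← pow_add, Polynomial.coeff_C_mul_X_pow, if_pos rfl] at h3
    by_cases hij : i + k = j + k
    · rw [if_pos hij] at h3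
      exact ⟨by omega, h3⟩
    · rw [if_neg hij] at h3
      exact absurd h3 x.ne_zero
  simp only at h
  set u := (IsLocalization.Away.algebraMap_isUnit (S := L) D).unit
  obtain ⟨i, hi⟩ : ∃ i : ℕ, (i : ℤ) = e + (e.natAbs + e'.natAbs : ℕ) := ⟨(e + (e.natAbs + e'.natAbs : ℕ)).toNat, by omega⟩
  obtain ⟨j, hj⟩ : ∃ j : ℕ, (j : ℤ) = e' + (e.natAbs + e'.natAbs : ℕ) := ⟨(e' + (e.natAbs + e'.natAbs : ℕ)).toNat, by omega⟩
  have h1 := congrArg (fun v : Lˣ => v * u ^ ((e.natAbs + e'.natAbs : ℕ) : ℤ)) h
  have hi' : u ^ e * u ^ ((e.natAbs + e'.natAbs : ℕ) : ℤ) = u ^ i := by rw [← zpow_add, ← hi, zpow_natCast]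
  have hj' : u ^ e' * u ^ ((e.natAbs + e'.natAbs : ℕ) : ℤ) = u ^ j := by rw [← zpow_add, ← hj, zpow_natCast]
  simp only [mul_assoc, hi', hj'] at h1
  have h2 := congrArg Units.val h1
  simp only [Units.val_mul, Units.val_pow_eq_pow_val, u, IsUnit.unit_spec] at h2
  obtain ⟨hij, hab⟩ := key a b i j h2
  have he : e = e' := by omega
  exact Prod.ext (Units.ext hab) he

end Groth.Agent.S13787
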