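import Groth.Statements.S1379
import Groth.Agent.QFDom.Basic
import Groth.Agent.SpQS.EtSplit

set_option autoImplicit false
universe u
open FlatMor

namespace Groth.Agent.S1379

open AlgebraicGeometry CategoryTheory Limits in
/-- Let S₁ → S be flat, locally of finite presentation and surjective (an fppf cover by one morphism).
Then for every point s of S there are an étale morphism S' → S whose image contains s and a
surjective, finite, flat morphism of finite presentation V → S' such that V → S factors through S₁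
Zariski locally on V. -/
theorem result {S₁ S : Scheme.{u}} (g : S₁ ⟶ S) [Flat g] [LocallyOfFinitePresentation g] [Surjective g] (s : S) :
    ∃ (S' V : Scheme.{u}) (e : S' ⟶ S) (π : V ⟶ S'), Etale e ∧ s ∈ Set.range ⇑e ∧ Surjective π ∧ IsFinite π ∧ Flat π ∧ LocallyOfFinitePresentation π ∧
      ∀ v : ↑V, ∃ (W : V.Opens) (r : ↑W ⟶ S₁), v ∈ W ∧ r ≫ g = W.ι ≫ π ≫ e := by
  obtain ⟨x, hx⟩ := g.surjective s
  obtain ⟨U, hU, hsU, -⟩ := exists_isAffineOpen_mem_and_subset (x := s) (U := ⊤) trivial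
  obtain ⟨W, hW, hxW, hWU'⟩ := exists_isAffineOpen_mem_and_subset (x := x) (U := g ⁻¹ᵁ U)
    (by change g x ∈ U; rw [hx]; exact hsU)
  have hWU : W ≤ g ⁻¹ᵁ U := hWU'
  let : Algebra Γ(S, U) Γ(S₁, W) := (g.appLE U W hWU).hom.toAlgebra
  haveI : Module.Flat Γ(S, U) Γ(S₁, W) := g.flat_appLE hU hW hWU
  haveI : Algebra.FinitePresentation Γ(S, U) Γ(S₁, W) := g.finitePresentation_appLE hU hW hWU
  let P : PrimeSpectrum Γ(S₁, W) := hW.primeIdealOf ⟨x, hxW⟩
  obtain ⟨T, _, _, hqf, hfl, hfp, ⟨χ⟩, Q, hQ, hQP⟩ :=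
    Groth.Agent.QFDom.exists_dominating_at Γ(S, U) Γ(S₁, W) P.asIdeal
  let m : Spec (CommRingCat.of T) ⟶ Spec Γ(S, U) :=
    Spec.map (CommRingCat.ofHom (algebraMap Γ(S, U) T))
  haveI : LocallyQuasiFinite m := by
    rw [HasRingHomProperty.Spec_iff (P := @LocallyQuasiFinite), CommRingCat.hom_ofHom,
      RingHom.quasiFinite_algebraMap]
    exact hqf
  haveI : LocallyOfFinitePresentation m := by
    rw [HasRingHomProperty.Spec_iff (P := @LocallyOfFinitePresentation), CommRingCat.hom_ofHom,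
      RingHom.finitePresentation_algebraMap]
    exact hfp
  haveI : Flat m := by
    rw [HasRingHomProperty.Spec_iff (P := @Flat), CommRingCat.hom_ofHom, RingHom.flat_algebraMap_iff]
    exact hfl
  let v : Spec Γ(S, U) := hU.primeIdealOf ⟨s, hsU⟩
  -- the two descriptions of the projection to `S`
  have hm : Spec.map (CommRingCat.ofHom χ.toRingHom) ≫ hW.fromSpec ≫ g = m ≫ hU.fromSpec := by
    rw [← IsAffineOpen.SpecMap_appLE_fromSpec g hU hW hWU, ← Spec.map_comp_assoc]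
    congr 2
    ext c
    exact χ.commutes c
  have hQv : m ⟨Q, hQ⟩ = v := by
    apply (Scheme.Hom.isOpenEmbedding hU.fromSpec).injective
    rw [hU.fromSpec_primeIdealOf]
    have : m ⟨Q, hQ⟩ = (Spec.map (g.appLE U W hWU)) P := PrimeSpectrum.ext hQP
    rw [this, ← Scheme.Hom.comp_apply, IsAffineOpen.SpecMap_appLE_fromSpec g hU hW hWU,
      Scheme.Hom.comp_apply, hW.fromSpec_primeIdealOf]
    exact hx
  obtain ⟨E, e, u, he, heu, V, hVfin, hVmem⟩ := Groth.Agent.SpQS.exists_etale_split m v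
    (Set.finite_singleton (⟨Q, hQ⟩ : Spec (CommRingCat.of T))) (by rintro z rfl; exact hQv)
  haveI := he
  obtain ⟨z, hzQ, hzu⟩ := Scheme.Pullback.exists_preimage_pullback
    (f := m) (g := e) ⟨Q, hQ⟩ u (hQv.trans heu.symm)
  haveI : IsFinite (V.ι ≫ pullback.snd m e) := hVfin
  let π₀ : (V : Scheme.{u}) ⟶ E := V.ι ≫ pullback.snd m e
  haveI : IsFinite π₀ := hVfin
  haveI : Flat π₀ := inferInstanceAs (Flat (_ ≫ _))
  haveI : LocallyOfFinitePresentation π₀ := inferInstanceAs (LocallyOfFinitePresentation (_ ≫ _))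
  let S' : E.Opens := ⟨Set.range π₀, π₀.isOpenMap.isOpen_range⟩
  have hzS : u ∈ S' := ⟨⟨z, (hVmem z hzu).mpr hzQ⟩, hzu⟩
  refine ⟨S', (π₀ ⁻¹ᵁ S' : V.toScheme.Opens), S'.ι ≫ e ≫ hU.fromSpec, π₀ ∣_ S', inferInstance,
    ⟨⟨u, hzS⟩, ?_⟩, ⟨fun y => ?_⟩, MorphismProperty.of_isPullback (isPullback_morphismRestrict π₀ S').flip hVfin,
    MorphismProperty.of_isPullback (isPullback_morphismRestrict π₀ S').flip ‹Flat π₀›,
    MorphismProperty.of_isPullback (isPullback_morphismRestrict π₀ S').flip ‹LocallyOfFinitePresentation π₀›,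
    fun w => ⟨⊤, Scheme.Opens.ι ⊤ ≫ (π₀ ⁻¹ᵁ S').ι ≫ V.ι ≫ pullback.fst m e ≫
      Spec.map (CommRingCat.ofHom χ.toRingHom) ≫ hW.fromSpec, trivial, ?_⟩⟩
  · change hU.fromSpec (e u) = s
    rw [heu, hU.fromSpec_primeIdealOf]
  · obtain ⟨y', hy'⟩ := y.2
    refine ⟨⟨y', show π₀ y' ∈ S' from hy' ▸ y.2⟩, Subtype.ext ?_⟩
    rw [morphismRestrict_base]
    exact hy'
  · simp only [Category.assoc, hm, morphismRestrict_ι_assoc, π₀]
    rw [pullback.condition_assoc]

end Groth.Agent.S1379
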