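import Groth.Statements.S13790
import Mathlib.RingTheory.Localization.FractionRing

set_option autoImplicit false
universe u
open CAlg

namespace Groth.Agent.S13790

/-- Let A be a commutative ring with total ring of fractions Q and let B be a ring with A ⊆ B ⊆ Q. Then
Q, with the inclusion B ⊆ Q, is the total ring of fractions of B. -/
theorem result {A Q : Type u} [CommRing A] [CommRing Q] [Algebra A Q] [IsFractionRing A Q] (B : Subalgebra A Q) :
    IsFractionRing B Q := by
  have hQ : Function.Injective (algebraMap A Q) := IsFractionRing.injective A Q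
  constructor
  constructor
  · rintro ⟨b, hb⟩
    obtain ⟨⟨a, s⟩, h⟩ := IsLocalization.surj (nonZeroDivisors A) (b : Q)
    have hs : IsUnit (algebraMap A Q s) := IsLocalization.map_units Q s
    have ha : a ∈ nonZeroDivisors A := mem_nonZeroDivisors_iff_right.2 fun c hc => by
      apply hQ
      rw [map_zero]
      have h2 : (algebraMap A B c) * b = 0 := by
        apply Subtype.ext
        apply hs.mul_left_injective
        show algebraMap A Q c * (b : Q) * algebraMap A Q s = 0 * algebraMap A Q s
        rw [mul_assoc, h, ← map_mul, hc, map_zero, zero_mul]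
      exact congrArg Subtype.val (mem_nonZeroDivisors_iff_right.1 hb _ h2)
    have := IsLocalization.map_units Q ⟨a, ha⟩
    exact isUnit_of_mul_isUnit_left (show IsUnit ((b : Q) * algebraMap A Q s) by rw [h]; exact this)
  · intro q
    obtain ⟨⟨a, s⟩, h⟩ := IsLocalization.surj (nonZeroDivisors A) q
    refine ⟨⟨algebraMap A B a, ⟨algebraMap A B s, mem_nonZeroDivisors_iff_right.2 fun c hc => ?_⟩⟩, h⟩
    apply Subtype.ext
    exact (IsLocalization.map_units Q s).mul_left_eq_zero.1 (congrArg Subtype.val hc)
  · intro x y h
    exact ⟨1, by rw [Subtype.ext h]⟩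

end Groth.Agent.S13790
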