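import Groth.Statements.S13791
import Mathlib
open CategoryTheory Limits Opposite

set_option autoImplicit false
universe u
open CategoryTheory
open CohSite

set_option backward.isDefEq.respectTransparency false
namespace Groth.Agent.S13791

/-- On a site, for a short exact sequence 0 → A → B → C → 0 of abelian groups the map H¹(A) → H¹(B) on
the first cohomology of the associated constant sheaves is injective. Stated for an injective
homomorphism f : A → B (C being its cokernel), with H¹ the Ext-based sheaf cohomology of the site. -/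
theorem result {C : Type u} [SmallCategory C] (J : GrothendieckTopology C)
    {A B : Type u} [AddCommGroup A] [AddCommGroup B] (f : A →+ B) (hf : Function.Injective f) :
    Function.Injective
      (Sheaf.H.map ((constantSheaf J AddCommGrpCat.{u}).map (AddCommGrpCat.ofHom f)) 1) := by
  rw [injective_iff_map_eq_zero]
  intro x hx
  rw [Sheaf.H.map_apply] at hx
  let Q := AddCommGrpCat.of (B ⧸ f.range)
  let π : AddCommGrpCat.of B ⟶ Q := AddCommGrpCat.ofHom (QuotientAddGroup.mk' f.range)
  have w : AddCommGrpCat.ofHom f ≫ π = 0 := by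
    ext a
    exact (QuotientAddGroup.eq_zero_iff _).2 ⟨a, rfl⟩
  let S := ShortComplex.mk (AddCommGrpCat.ofHom f) π w
  have hS : S.ShortExact :=
    { exact := (ShortComplex.ab_exact_iff_function_exact _).2 fun b => (QuotientAddGroup.eq_zero_iff b)
      mono_f := (AddCommGrpCat.mono_iff_injective _).2 hf
      epi_g := (AddCommGrpCat.epi_iff_surjective _).2 (QuotientAddGroup.mk'_surjective _) }
  haveI : PreservesFiniteLimits (Functor.const Cᵒᵖ : AddCommGrpCat.{u} ⥤ _) := inferInstance
  haveI : PreservesFiniteColimits (Functor.const Cᵒᵖ : AddCommGrpCat.{u} ⥤ _) := inferInstance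
  haveI : PreservesFiniteLimits (constantSheaf J AddCommGrpCat.{u}) := comp_preservesFiniteLimits _ _
  haveI : PreservesFiniteColimits (constantSheaf J AddCommGrpCat.{u}) := comp_preservesFiniteColimits _ _
  haveI : (constantSheaf J AddCommGrpCat.{u}).PreservesZeroMorphisms :=
    inferInstanceAs ((Functor.const Cᵒᵖ ⋙ presheafToSheaf J AddCommGrpCat.{u}).PreservesZeroMorphisms)
  have hT := hS.map_of_exact (constantSheaf J AddCommGrpCat.{u})
  obtain ⟨x3, hx3⟩ := Abelian.Ext.covariant_sequence_exact₁ _ hT x hx (n₀ := 0) rfl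
  obtain ⟨ψ, rfl⟩ := (Abelian.Ext.mk₀_bijective _ _).2 x3
  let g := (constantSheaf J AddCommGrpCat.{u}).map π
  suffices h : ∃ φ, φ ≫ g = ψ by
    obtain ⟨φ, rfl⟩ := h
    rw [← hx3, ← Abelian.Ext.mk₀_comp_mk₀, Abelian.Ext.comp_assoc (a₁₂ := 0) (a₂₃ := 1) _ _ _ (by omega) (by omega) (by omega)]
    erw [hT.comp_extClass]
    rw [Abelian.Ext.comp_zero]
  let P := fun A : AddCommGrpCat.{u} => (Functor.const Cᵒᵖ).obj A
  let η := fun A : AddCommGrpCat.{u} => Functor.whiskerRight (toSheafify J (P A)) (forget AddCommGrpCat.{u})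
  have hW : ∀ A (G : Sheaf J (Type u)), Function.Bijective
      fun t : sheafify J (P A) ⋙ forget AddCommGrpCat.{u} ⟶ G.obj => η A ≫ t :=
    fun A G => J.W_of_isLocallyBijective (η A) _ G.property
  obtain ⟨σ, hσ⟩ := (QuotientAddGroup.mk'_surjective f.range).hasRightInverse
  let U' := (sheafCompose J (forget AddCommGrpCat.{u}))
  let s₀ : P Q ⋙ forget AddCommGrpCat.{u} ⟶ sheafify J (P (AddCommGrpCat.of B)) ⋙ forget AddCommGrpCat.{u} :=
    { app := fun V => ↾fun c => (toSheafify J (P (AddCommGrpCat.of B))).app V (σ c)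
      naturality := fun V W a => by
        ext c
        exact NatTrans.naturality_apply (toSheafify J (P (AddCommGrpCat.of B))) a (σ c) }
  obtain ⟨s, hs⟩ := (hW Q (U'.obj ((presheafToSheaf J _).obj (P (AddCommGrpCat.of B))))).2 s₀
  have hnat : ∀ V (b : B), g.hom.app V ((toSheafify J (P (AddCommGrpCat.of B))).app V b) = (toSheafify J (P Q)).app V (π b) :=
    fun V b => (ConcreteCategory.congr_hom
      (NatTrans.congr_app (toSheafify_naturality J ((Functor.const Cᵒᵖ).map π)) V) b).symm
  have hsg : s ≫ Functor.whiskerRight g.hom (forget AddCommGrpCat.{u}) = 𝟙 _ := by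
    refine (hW Q (U'.obj ((presheafToSheaf J _).obj (P Q)))).1 ?_
    ext V c
    refine (congr_arg (g.hom.app V) (ConcreteCategory.congr_hom (NatTrans.congr_app hs V) c)).trans ?_
    exact (hnat V (σ c)).trans (congr_arg _ (hσ c))
  let Z := AddCommGrpCat.of (ULift.{u} ℤ)
  let t := fun V => ψ.hom.app V ((toSheafify J (P Z)).app V ⟨1⟩)
  let r : ∀ V, (sheafify J (P (AddCommGrpCat.of B))).obj V := fun V => s.app V (t V)
  have hr : ∀ V W (a : V ⟶ W), (sheafify J (P (AddCommGrpCat.of B))).map a (r V) = r W := fun V W a => by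
    refine (NatTrans.naturality_apply s a (t V)).symm.trans (congrArg (s.app W) ?_)
    refine (NatTrans.naturality_apply ψ.hom a _).symm.trans (congrArg (ψ.hom.app W) ?_)
    exact (NatTrans.naturality_apply (toSheafify J (P Z)) a _).symm
  let φ0 : P Z ⟶ sheafify J (P (AddCommGrpCat.of B)) :=
    { app := fun V => AddCommGrpCat.ofHom (((zmultiplesHom _ (r V))).comp AddEquiv.ulift.toAddMonoidHom)
      naturality := fun V W a => by
        ext n
        show n.down • r W = (sheafify J (P (AddCommGrpCat.of B))).map a (n.down • r V)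
        rw [map_zsmul, hr V W a] }
  refine ⟨⟨sheafifyLift J φ0 ((presheafToSheaf J _).obj (P (AddCommGrpCat.of B))).property⟩, Sheaf.hom_ext ?_⟩
  refine sheafify_hom_ext J _ _ ((presheafToSheaf J _).obj (P Q)).property ?_
  refine NatTrans.ext (funext fun V => ?_)
  ext n
  obtain ⟨n⟩ := n
  show g.hom.app V ((sheafifyLift J φ0 _).app V ((toSheafify J (P Z)).app V ⟨n⟩)) = ψ.hom.app V ((toSheafify J (P Z)).app V ⟨n⟩)
  rw [show (sheafifyLift J φ0 ((presheafToSheaf J _).obj (P (AddCommGrpCat.of B))).property).app V ((toSheafify J (P Z)).app V ⟨n⟩) = φ0.app V ⟨n⟩ from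
    ConcreteCategory.congr_hom (NatTrans.congr_app (toSheafify_sheafifyLift J φ0 _) V) _]
  show g.hom.app V (n • r V) = _
  have h1 : g.hom.app V (r V) = t V := ConcreteCategory.congr_hom (NatTrans.congr_app hsg V) (t V)
  rw [map_zsmul, h1]
  show n • ψ.hom.app V ((toSheafify J (P Z)).app V ⟨1⟩) = _
  rw [← map_zsmul]
  refine congrArg (ψ.hom.app V) ((map_zsmul ((toSheafify J (P Z)).app V).hom n (⟨1⟩ : ULift.{u} ℤ)).symm.trans (congrArg _ ?_))
  exact ULift.ext _ _ (mul_one n)

end Groth.Agent.S13791
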