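import Groth.Statements.S13792
import Groth.Agent.CurveDiv.Basic

set_option autoImplicit false
universe u
open CategoryTheory AlgebraicGeometry
open Curves

namespace Groth.Agent.S13792

open AlgebraicGeometry in
theorem closed_of_ne_generic {X : Scheme.{u}} [IsNoetherian X] [IrreducibleSpace ↥X]
    (hX : topologicalKrullDim ↥X = 1) (z : X) (hz : z ≠ genericPoint ↥X) : IsClosed ({z} : Set X) := by
  by_contra hcl
  obtain ⟨c, hc, hcc⟩ := (isClosed_closure (s := ({z} : Set X))).exists_closed_singleton ⟨z, subset_closure rfl⟩
  let A : TopologicalSpace.IrreducibleCloseds ↥X := ⟨{c}, isIrreducible_singleton, hcc⟩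
  let B : TopologicalSpace.IrreducibleCloseds ↥X := ⟨closure {z}, isIrreducible_singleton.closure, isClosed_closure⟩
  let T : TopologicalSpace.IrreducibleCloseds ↥X := ⟨Set.univ, IrreducibleSpace.isIrreducible_univ _, isClosed_univ⟩
  have h1 : A < B := lt_of_le_of_ne (Set.singleton_subset_iff.2 hc) fun e => hcl (by
    have hzA : z ∈ (A : Set X) := by rw [e]; exact subset_closure rfl
    rw [Set.mem_singleton_iff.1 hzA]; exact hcc)
  have h2 : B < T := lt_of_le_of_ne (fun _ _ => trivial) fun e => hz (by
    have hg : IsGenericPoint z (Set.univ : Set X) := congrArg SetLike.coe e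
    exact hg.eq (genericPoint_spec ↥X))
  let l : LTSeries (TopologicalSpace.IrreducibleCloseds ↥X) :=
    ((RelSeries.singleton _ A).snoc B h1).snoc T (by simpa using h2)
  have h3 : ((2 : ℕ) : WithBot ℕ∞) ≤ topologicalKrullDim ↥X := Order.le_krullDim_iff.mpr ⟨l, rfl⟩
  rw [hX] at h3
  have h4 : (2 : ℕ) ≤ 1 := by exact_mod_cast h3
  omega


/-- Let k be a field and E an integral k-scheme of finite type whose underlying space has dimension 1,
and let ι : G → E be a closed immersion. Then either ι is an isomorphism or G is finite over k. (The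
published statement is about a closed subgroup scheme of an elliptic curve and its proof states this
fact for E geometrically integral; this row assumes only that E is integral.) -/
theorem result {k : Type u} [Field k]
    {E G : Scheme.{u}} (f : E ⟶ Spec (CommRingCat.of k)) [LocallyOfFiniteType f] [QuasiCompact f]
    [IsIntegral E] (hdim : topologicalKrullDim ↥E = 1) (ι : G ⟶ E) [IsClosedImmersion ι] :
    IsIso ι ∨ IsFinite (ι ≫ f) := by
  classical
  haveI : IsLocallyNoetherian E := LocallyOfFiniteType.isLocallyNoetherian f
  haveI : CompactSpace ↥E := QuasiCompact.compactSpace_of_compactSpace f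
  haveI : IsNoetherian E := ⟨⟩
  by_cases hη : genericPoint ↥E ∈ Set.range ι
  · left
    haveI : Surjective ι := ⟨fun x => by
      have h : closure {genericPoint ↥E} ⊆ Set.range ι :=
        closure_minimal (Set.singleton_subset_iff.2 hη) ι.isClosedEmbedding.isClosed_range
      rw [genericPoint_closure] at h
      exact h (Set.mem_univ x)⟩
    exact isIso_of_isClosedImmersion_of_surjective ι
  · right
    have hfin : (Set.range ι).Finite := (Groth.Agent.CurveDiv.finite_of_forall_isClosed ⊤
      ⟨(Set.range ι)ᶜ, ι.isClosedEmbedding.isClosed_range.isOpen_compl⟩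
      fun z _ hz => closed_of_ne_generic hdim z fun e => hη (e ▸ not_not.1 hz)).subset
      fun z hz => ⟨trivial, not_not.2 hz⟩
    haveI : Finite G := Set.finite_univ_iff.1 (Set.Finite.of_finite_image (by rwa [Set.image_univ]) ι.isClosedEmbedding.injective.injOn)
    haveI : LocallyQuasiFinite (ι ≫ f) := .of_finite_preimage_singleton _ fun x => Set.toFinite _
    exact IsFinite.of_locallyQuasiFinite (ι ≫ f)

end Groth.Agent.S13792
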