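import Groth.Statements.S13793
import Mathlib

set_option autoImplicit false
universe u
open CAlg

namespace Groth.Agent.S13793

open AddMonoidAlgebra

noncomputable section

section General

variable {A : Type u} [CommRing A] {M N : Type} [AddCommGroup M] [AddCommGroup N]

/-- Elements with all coefficients in `J`. -/
def KJ (J : Ideal A) : Ideal A[M] := RingHom.ker (mapRingHom M (Ideal.Quotient.mk J))

theorem mem_KJ {J : Ideal A} {x : A[M]} : x ∈ KJ J ↔ ∀ m, x.coeff m ∈ J := by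
  rw [KJ, RingHom.mem_ker]
  constructor
  · intro h m
    rw [← Ideal.Quotient.eq_zero_iff_mem, ← coeff_mapRingHom, h]
    rfl
  · intro h
    ext m
    rw [coeff_mapRingHom, Ideal.Quotient.eq_zero_iff_mem.2 (h m)]
    rfl

theorem mul_mem_KJ {I J : Ideal A} {x y : A[M]} (hx : x ∈ KJ I) (hy : y ∈ KJ J) : x * y ∈ KJ (I * J) := by
  classical
  rw [mem_KJ] at *
  intro m
  rw [coeff_mul]
  refine Ideal.sum_mem _ fun i _ => Ideal.sum_mem _ fun j _ => ?_
  dsimp only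
  split_ifs
  · exact Ideal.mul_mem_mul (hx i) (hy j)
  · exact zero_mem _

theorem KJ_mono {I J : Ideal A} (h : I ≤ J) : (KJ I : Ideal A[M]) ≤ KJ J := fun _ hx =>
  mem_KJ.2 fun m => h (mem_KJ.1 hx m)

theorem pow_mem_KJ {J : Ideal A} {x : A[M]} (hx : x ∈ KJ J) : ∀ n : ℕ, x ^ (n + 1) ∈ KJ (J ^ (n + 1))
  | 0 => by simpa using hx
  | n + 1 => by rw [pow_succ x, pow_succ J]; exact mul_mem_KJ (pow_mem_KJ hx n) hx

theorem isNilpotent_of_mem_KJ {J : Ideal A} (hJ : IsNilpotent J) {x : A[M]} (hx : x ∈ KJ J) : IsNilpotent x := by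
  obtain ⟨n, hn⟩ := hJ
  refine ⟨n + 1, ?_⟩
  have h := pow_mem_KJ hx n
  rw [pow_succ J, hn, zero_mul, mem_KJ] at h
  ext m
  simpa using h m

theorem map_mem_KJ {J : Ideal A} {x : A[M]} (hx : x ∈ KJ J) (e : M →+ N) :
    mapDomainRingHom A e x ∈ KJ J := by
  classical
  rw [mem_KJ] at *
  intro n
  show (Finsupp.mapDomain e x.coeff) n ∈ J
  rw [Finsupp.mapDomain, Finsupp.sum_apply]
  refine Ideal.sum_mem _ fun m _ => ?_
  dsimp only
  rw [Finsupp.single_apply]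
  split_ifs
  · exact hx m
  · exact zero_mem _

theorem coeff_map_apply (e : M →+ N) (he : Function.Injective e) (x : A[M]) (m : M) :
    (mapDomainRingHom A e x).coeff (e m) = x.coeff m := Finsupp.mapDomain_apply he _ _

theorem coeff_map_zero (e : M →+ N) (x : A[M]) (n : N) (h : ∀ m, e m ≠ n) :
    (mapDomainRingHom A e x).coeff n = 0 :=
  Finsupp.mapDomain_notin_range _ _ (by rintro ⟨m, hm⟩; exact h m hm)

theorem units_single [IsDomain A] [TwoUniqueSums M] (u : A[M]ˣ) :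
    ∃ (g : M) (a : A), a ≠ 0 ∧ (u : A[M]) = single g a := by
  classical
  have hne : ∀ v : A[M]ˣ, (v : A[M]).coeff.support.Nonempty := fun v => by
    rw [Finsupp.support_nonempty_iff]
    intro h
    exact v.ne_zero (AddMonoidAlgebra.ext h)
  have hu := (hne u).card_pos
  have hv := (hne u⁻¹).card_pos
  have hle : (u : A[M]).coeff.support.card ≤ 1 := by
    by_contra hlt
    have hlt' : 1 < (u : A[M]).coeff.support.card * (↑u⁻¹ : A[M]).coeff.support.card :=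
      lt_of_lt_of_le (not_le.1 hlt) (Nat.le_mul_of_pos_right _ hv)
    obtain ⟨p, hp, q, hq, hpq, h1, h2⟩ := TwoUniqueSums.uniqueAdd_of_one_lt_card hlt'
    rw [Finset.mem_product] at hp hq
    have key : ∀ r : M × M, r.1 ∈ (u : A[M]).coeff.support → r.2 ∈ (↑u⁻¹ : A[M]).coeff.support →
        UniqueAdd (u : A[M]).coeff.support (↑u⁻¹ : A[M]).coeff.support r.1 r.2 → r.1 + r.2 = 0 := by
      intro r hr1 hr2 hr
      by_contra h
      have := coeff_mul_add_of_uniqueAdd hr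
      rw [u.mul_inv, AddMonoidAlgebra.one_def, AddMonoidAlgebra.coeff_single, Finsupp.single_eq_of_ne h] at this
      exact mul_ne_zero (Finsupp.mem_support_iff.1 hr1) (Finsupp.mem_support_iff.1 hr2) this.symm
    obtain ⟨ha, hb⟩ := h1 hq.1 hq.2 ((key q hq.1 hq.2 h2).trans (key p hp.1 hp.2 h1).symm)
    exact hpq (Prod.ext ha hb).symm
  obtain ⟨g, hg⟩ := Finset.card_eq_one.1 (le_antisymm hle hu)
  refine ⟨g, (u : A[M]).coeff g, ?_, AddMonoidAlgebra.ext ?_⟩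
  · exact Finsupp.mem_support_iff.1 (by rw [hg]; exact Finset.mem_singleton_self g)
  · rw [AddMonoidAlgebra.coeff_single]
    exact (Finsupp.support_eq_singleton.1 hg).2

end General

/-- The coface `(t₁, t₂) ↦ (t₂, t₃)`. -/
abbrev e0 : (Fin 2 → ℤ) →+ (Fin 3 → ℤ) := (Matrix.mulVecLin (!![0, 0; 1, 0; 0, 1] : Matrix (Fin 3) (Fin 2) ℤ)).toAddMonoidHom
/-- The coface `(t₁, t₂) ↦ (t₁t₂, t₃)`. -/
abbrev e1 : (Fin 2 → ℤ) →+ (Fin 3 → ℤ) := (Matrix.mulVecLin (!![1, 0; 1, 0; 0, 1] : Matrix (Fin 3) (Fin 2) ℤ)).toAddMonoidHom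
/-- The coface `(t₁, t₂) ↦ (t₁, t₂t₃)`. -/
abbrev e2 : (Fin 2 → ℤ) →+ (Fin 3 → ℤ) := (Matrix.mulVecLin (!![1, 0; 0, 1; 0, 1] : Matrix (Fin 3) (Fin 2) ℤ)).toAddMonoidHom
/-- The coface `(t₁, t₂) ↦ (t₁, t₂)`. -/
abbrev e3 : (Fin 2 → ℤ) →+ (Fin 3 → ℤ) := (Matrix.mulVecLin (!![1, 0; 0, 1; 0, 0] : Matrix (Fin 3) (Fin 2) ℤ)).toAddMonoidHom
/-- `t ↦ t₂`. -/
abbrev E0 : (Fin 1 → ℤ) →+ (Fin 2 → ℤ) := (Matrix.mulVecLin (!![0; 1] : Matrix (Fin 2) (Fin 1) ℤ)).toAddMonoidHom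
/-- `t ↦ t₁t₂`. -/
abbrev E1 : (Fin 1 → ℤ) →+ (Fin 2 → ℤ) := (Matrix.mulVecLin (!![1; 1] : Matrix (Fin 2) (Fin 1) ℤ)).toAddMonoidHom
/-- `t ↦ t₁`. -/
abbrev E2 : (Fin 1 → ℤ) →+ (Fin 2 → ℤ) := (Matrix.mulVecLin (!![1; 0] : Matrix (Fin 2) (Fin 1) ℤ)).toAddMonoidHom

theorem e0_apply (a b : ℤ) : e0 ![a, b] = ![0, a, b] := by ext i; fin_cases i <;> simp [e0, Matrix.mulVec, dotProduct, Fin.sum_univ_two]
theorem e1_apply (a b : ℤ) : e1 ![a, b] = ![a, a, b] := by ext i; fin_cases i <;> simp [e1, Matrix.mulVec, dotProduct, Fin.sum_univ_two]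
theorem e2_apply (a b : ℤ) : e2 ![a, b] = ![a, b, b] := by ext i; fin_cases i <;> simp [e2, Matrix.mulVec, dotProduct, Fin.sum_univ_two]
theorem e3_apply (a b : ℤ) : e3 ![a, b] = ![a, b, 0] := by ext i; fin_cases i <;> simp [e3, Matrix.mulVec, dotProduct, Fin.sum_univ_two]
theorem E0_apply (a : ℤ) : E0 ![a] = ![0, a] := by ext i; fin_cases i <;> simp [E0, Matrix.mulVec, dotProduct]
theorem E1_apply (a : ℤ) : E1 ![a] = ![a, a] := by ext i; fin_cases i <;> simp [E1, Matrix.mulVec, dotProduct]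
theorem E2_apply (a : ℤ) : E2 ![a] = ![a, 0] := by ext i; fin_cases i <;> simp [E2, Matrix.mulVec, dotProduct]

theorem vec2 (g : Fin 2 → ℤ) : g = ![g 0, g 1] := by ext i; fin_cases i <;> rfl
theorem vec1 (g : Fin 1 → ℤ) : g = ![g 0] := by ext i; fin_cases i; rfl

theorem vec3_eq {a b c a' b' c' : ℤ} : (![a, b, c] : Fin 3 → ℤ) = ![a', b', c'] ↔ a = a' ∧ b = b' ∧ c = c' :=
  ⟨fun h => ⟨congrFun h 0, congrFun h 1, congrFun h 2⟩, by rintro ⟨rfl, rfl, rfl⟩; rfl⟩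

theorem vec2_eq {a b a' b' : ℤ} : (![a, b] : Fin 2 → ℤ) = ![a', b'] ↔ a = a' ∧ b = b' :=
  ⟨fun h => ⟨congrFun h 0, congrFun h 1⟩, by rintro ⟨rfl, rfl⟩; rfl⟩

theorem inj_e0 : Function.Injective e0 := fun x y h => by
  rw [vec2 x, vec2 y, e0_apply, e0_apply, vec3_eq] at h
  rw [vec2 x, vec2 y, vec2_eq]; omega
theorem inj_e1 : Function.Injective e1 := fun x y h => by
  rw [vec2 x, vec2 y, e1_apply, e1_apply, vec3_eq] at h
  rw [vec2 x, vec2 y, vec2_eq]; omega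
theorem inj_e2 : Function.Injective e2 := fun x y h => by
  rw [vec2 x, vec2 y, e2_apply, e2_apply, vec3_eq] at h
  rw [vec2 x, vec2 y, vec2_eq]; omega
theorem inj_e3 : Function.Injective e3 := fun x y h => by
  rw [vec2 x, vec2 y, e3_apply, e3_apply, vec3_eq] at h
  rw [vec2 x, vec2 y, vec2_eq]; omega
theorem inj_E0 : Function.Injective E0 := fun x y h => by
  rw [vec1 x, vec1 y, E0_apply, E0_apply, vec2_eq] at h
  rw [vec1 x, vec1 y, h.2]
theorem inj_E1 : Function.Injective E1 := fun x y h => by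
  rw [vec1 x, vec1 y, E1_apply, E1_apply, vec2_eq] at h
  rw [vec1 x, vec1 y, h.1]
theorem inj_E2 : Function.Injective E2 := fun x y h => by
  rw [vec1 x, vec1 y, E2_apply, E2_apply, vec2_eq] at h
  rw [vec1 x, vec1 y, h.1]

variable {A : Type u} [CommRing A]

/-- The map on units. -/
abbrev U {M N : Type} [AddCommGroup M] [AddCommGroup N] (e : M →+ N) : A[M]ˣ →* A[N]ˣ :=
  Units.map (mapDomainRingHom A e).toMonoidHom

/-- The cocycle expression. -/
def Cyc (x : A[Fin 2 → ℤ]ˣ) : A[Fin 3 → ℤ]ˣ := U e0 x * (U e1 x)⁻¹ * U e2 x * (U e3 x)⁻¹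

/-- The coboundary. -/
def Bd (η : A[Fin 1 → ℤ]ˣ) : A[Fin 2 → ℤ]ˣ := U E0 η * (U E1 η)⁻¹ * U E2 η

theorem Cyc_mul (x y : A[Fin 2 → ℤ]ˣ) : Cyc (x * y) = Cyc x * Cyc y := by
  apply Additive.ofMul.injective
  simp only [Cyc, map_mul, mul_inv, ofMul_mul, ofMul_inv]
  abel

theorem Bd_mul (x y : A[Fin 1 → ℤ]ˣ) : Bd (x * y) = Bd x * Bd y := by
  apply Additive.ofMul.injective
  simp only [Bd, map_mul, mul_inv, ofMul_mul, ofMul_inv]
  abel

theorem U_comp (f : (Fin 2 → ℤ) →+ (Fin 3 → ℤ)) (g : (Fin 1 → ℤ) →+ (Fin 2 → ℤ)) (f' : (Fin 2 → ℤ) →+ (Fin 3 → ℤ))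
    (g' : (Fin 1 → ℤ) →+ (Fin 2 → ℤ)) (h : ∀ a, f (g ![a]) = f' (g' ![a])) (η : A[Fin 1 → ℤ]ˣ) :
    U f (U g η) = U f' (U g' η) := by
  have hfg : f.comp g = f'.comp g' := AddMonoidHom.ext fun x => by rw [vec1 x]; exact h _
  refine Units.ext ?_
  show mapDomainRingHom A f (mapDomainRingHom A g (η : A[Fin 1 → ℤ])) =
    mapDomainRingHom A f' (mapDomainRingHom A g' (η : A[Fin 1 → ℤ]))
  rw [← RingHom.comp_apply, ← mapDomainRingHom_comp, hfg, mapDomainRingHom_comp, RingHom.comp_apply]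

theorem Cyc_Bd (η : A[Fin 1 → ℤ]ˣ) : Cyc (Bd η) = 1 := by
  have h1 := U_comp (A := A) e0 E0 e1 E0 (fun a => by rw [E0_apply, e0_apply, e1_apply]) η
  have h2 := U_comp (A := A) e0 E1 e2 E0 (fun a => by rw [E1_apply, E0_apply, e0_apply, e2_apply]) η
  have h3 := U_comp (A := A) e0 E2 e3 E0 (fun a => by rw [E2_apply, E0_apply, e0_apply, e3_apply]) η
  have h4 := U_comp (A := A) e1 E1 e2 E1 (fun a => by rw [E1_apply, e1_apply, e2_apply]) η
  have h5 := U_comp (A := A) e1 E2 e3 E1 (fun a => by rw [E2_apply, E1_apply, e1_apply, e3_apply]) η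
  have h6 := U_comp (A := A) e2 E2 e3 E2 (fun a => by rw [E2_apply, e2_apply, e3_apply]) η
  apply Additive.ofMul.injective
  simp only [Cyc, Bd, map_mul, map_inv, h1, h2, h3, h4, h5, h6, mul_inv, inv_inv, ofMul_mul, ofMul_inv, ofMul_one]
  abel

theorem step {J : Ideal A} (hJ : IsNilpotent J) (x : A[Fin 2 → ℤ]ˣ) (hx : Cyc x = 1)
    (hxJ : (x : A[Fin 2 → ℤ]) - 1 ∈ KJ J) :
    ∃ η : A[Fin 1 → ℤ]ˣ, ((x * (Bd η)⁻¹ : A[Fin 2 → ℤ]ˣ) : A[Fin 2 → ℤ]) - 1 ∈ KJ (J * J) := by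
  classical
  set f : A[Fin 2 → ℤ] := (x : A[Fin 2 → ℤ]) - 1 with hf
  have hxf : (x : A[Fin 2 → ℤ]) = 1 + f := by rw [hf]; ring
  have hm : ∀ e : (Fin 2 → ℤ) →+ (Fin 3 → ℤ), mapDomainRingHom A e f ∈ KJ J := fun e => map_mem_KJ hxJ e
  have heq : mapDomainRingHom A e0 f + mapDomainRingHom A e2 f - mapDomainRingHom A e1 f - mapDomainRingHom A e3 f
      ∈ KJ (J * J) := by
    have h : U e0 x * U e2 x = U e1 x * U e3 x := by
      apply Additive.ofMul.injective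
      have := congrArg Additive.ofMul hx
      simp only [Cyc, ofMul_mul, ofMul_inv, ofMul_one] at this ⊢
      rw [← sub_eq_zero, ← this]
      abel
    have h' := congrArg Units.val h
    simp only [Units.val_mul, Units.coe_map, RingHom.toMonoidHom_eq_coe, MonoidHom.coe_coe, hxf, map_add, map_one] at h'
    have h2 : mapDomainRingHom A e0 f + mapDomainRingHom A e2 f - mapDomainRingHom A e1 f - mapDomainRingHom A e3 f
        = mapDomainRingHom A e1 f * mapDomainRingHom A e3 f - mapDomainRingHom A e0 f * mapDomainRingHom A e2 f := by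
      linear_combination h'
    rw [h2]
    exact sub_mem (mul_mem_KJ (hm _) (hm _)) (mul_mem_KJ (hm _) (hm _))
  rw [mem_KJ] at heq
  -- the primitive
  let diag : (Fin 1 → ℤ) → (Fin 2 → ℤ) := E1
  let h : A[Fin 1 → ℤ] := single 0 (2 * f.coeff 0) - .ofCoeff (Finsupp.comapDomain diag f.coeff inj_E1.injOn)
  have hh : ∀ a : ℤ, h.coeff ![a] = if a = 0 then f.coeff ![0, 0] else -f.coeff ![a, a] := by
    intro a
    have h00 : (![0, 0] : Fin 2 → ℤ) = 0 := by ext i; fin_cases i <;> rfl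
    simp only [h, diag, coeff_sub, Finsupp.coe_sub, Pi.sub_apply, coeff_single, Finsupp.comapDomain_apply, E1_apply]
    split_ifs with ha
    · subst ha
      rw [h00, show (![0] : Fin 1 → ℤ) = 0 by ext i; fin_cases i; rfl, Finsupp.single_eq_same]
      ring
    · rw [Finsupp.single_eq_of_ne (fun h => ha (congrFun h 0)), zero_sub]
  have hfJ := mem_KJ.1 hxJ
  have hhJ : h ∈ KJ J := mem_KJ.2 fun g => by
    rw [vec1 g, hh]
    split_ifs
    · exact hfJ _
    · exact neg_mem (hfJ _)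
  have hE : ∀ E : (Fin 1 → ℤ) →+ (Fin 2 → ℤ), mapDomainRingHom A E h ∈ KJ J := fun E => map_mem_KJ hhJ E
  let η : A[Fin 1 → ℤ]ˣ := (IsNilpotent.isUnit_one_add (isNilpotent_of_mem_KJ hJ hhJ)).unit
  refine ⟨η, ?_⟩
  have hlin : f + mapDomainRingHom A E1 h - mapDomainRingHom A E0 h - mapDomainRingHom A E2 h ∈ KJ (J * J) := by
    rw [mem_KJ]
    intro g
    rw [vec2 g]
    generalize g 0 = a
    generalize g 1 = b
    simp only [coeff_add, coeff_sub, Finsupp.coe_add, Finsupp.coe_sub, Pi.add_apply, Pi.sub_apply]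
    have z : ∀ (E : (Fin 1 → ℤ) →+ (Fin 2 → ℤ)), (∀ i : ℤ, E ![i] ≠ ![a, b]) →
        (mapDomainRingHom A E h).coeff ![a, b] = 0 := fun E hEne =>
      coeff_map_zero E h _ fun m => by rw [vec1 m]; exact hEne _
    have z' : ∀ (e : (Fin 2 → ℤ) →+ (Fin 3 → ℤ)) (c : Fin 3 → ℤ), (∀ i j : ℤ, e ![i, j] ≠ c) →
        (mapDomainRingHom A e f).coeff c = 0 := fun e c hne =>
      coeff_map_zero e f _ fun m => by rw [vec2 m]; exact hne _ _
    by_cases ha : a = 0
    · subst ha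
      by_cases hb : b = 0
      · subst hb
        have q : ∀ (E : (Fin 1 → ℤ) →+ (Fin 2 → ℤ)), Function.Injective E → E ![0] = ![0, 0] →
            (mapDomainRingHom A E h).coeff ![0, 0] = f.coeff ![0, 0] := fun E hi he => by
          rw [← he, coeff_map_apply E hi, hh, if_pos rfl, he]
        rw [q E0 inj_E0 (E0_apply 0), q E1 inj_E1 (E1_apply 0), q E2 inj_E2 (E2_apply 0)]
        convert zero_mem (J * J) using 1
        ring
      · rw [← E0_apply b, coeff_map_apply E0 inj_E0, E0_apply, hh, if_neg hb,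
          z E1 (fun i => by rw [E1_apply, Ne, vec2_eq]; omega), z E2 (fun i => by rw [E2_apply, Ne, vec2_eq]; omega)]
        have h3 := heq ![0, b, b]
        simp only [coeff_add, coeff_sub, Finsupp.coe_add, Finsupp.coe_sub, Pi.add_apply, Pi.sub_apply] at h3
        rw [show (![0, b, b] : Fin 3 → ℤ) = e0 ![b, b] from (e0_apply b b).symm, coeff_map_apply e0 inj_e0,
          e0_apply, show (![0, b, b] : Fin 3 → ℤ) = e2 ![0, b] from (e2_apply 0 b).symm, coeff_map_apply e2 inj_e2,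
          e2_apply, z' e1 _ (fun i j => by rw [e1_apply, Ne, vec3_eq]; omega),
          z' e3 _ (fun i j => by rw [e3_apply, Ne, vec3_eq]; omega)] at h3
        convert h3 using 1
        ring
    · by_cases hb : b = 0
      · subst hb
        rw [z E0 (fun i => by rw [E0_apply, Ne, vec2_eq]; omega), z E1 (fun i => by rw [E1_apply, Ne, vec2_eq]; omega),
          ← E2_apply a, coeff_map_apply E2 inj_E2, E2_apply, hh, if_neg ha]
        have h3 := heq ![a, a, 0]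
        simp only [coeff_add, coeff_sub, Finsupp.coe_add, Finsupp.coe_sub, Pi.add_apply, Pi.sub_apply] at h3
        rw [z' e0 _ (fun i j => by rw [e0_apply, Ne, vec3_eq]; omega),
          z' e2 _ (fun i j => by rw [e2_apply, Ne, vec3_eq]; omega),
          show (![a, a, 0] : Fin 3 → ℤ) = e1 ![a, 0] from (e1_apply a 0).symm, coeff_map_apply e1 inj_e1,
          e1_apply, show (![a, a, 0] : Fin 3 → ℤ) = e3 ![a, a] from (e3_apply a a).symm, coeff_map_apply e3 inj_e3] at h3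
        convert neg_mem h3 using 1
        ring
      · by_cases hab : a = b
        · subst hab
          rw [z E0 (fun i => by rw [E0_apply, Ne, vec2_eq]; omega), z E2 (fun i => by rw [E2_apply, Ne, vec2_eq]; omega),
            ← E1_apply a, coeff_map_apply E1 inj_E1, E1_apply, hh, if_neg ha]
          simp
        · rw [z E0 (fun i => by rw [E0_apply, Ne, vec2_eq]; omega), z E1 (fun i => by rw [E1_apply, Ne, vec2_eq]; omega),
            z E2 (fun i => by rw [E2_apply, Ne, vec2_eq]; omega)]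
          have h3 := heq ![a, a, b]
          simp only [coeff_add, coeff_sub, Finsupp.coe_add, Finsupp.coe_sub, Pi.add_apply, Pi.sub_apply] at h3
          rw [z' e0 _ (fun i j => by rw [e0_apply, Ne, vec3_eq]; omega),
            z' e2 _ (fun i j => by rw [e2_apply, Ne, vec3_eq]; omega),
            z' e3 _ (fun i j => by rw [e3_apply, Ne, vec3_eq]; omega),
            show (![a, a, b] : Fin 3 → ℤ) = e1 ![a, b] from (e1_apply a b).symm, coeff_map_apply e1 inj_e1] at h3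
          convert neg_mem h3 using 1
          ring
  set y : A[Fin 2 → ℤ]ˣ := x * (Bd η)⁻¹ with hy
  have hrel : y * (U E0 η * U E2 η) = x * U E1 η := by
    apply Additive.ofMul.injective
    simp only [hy, Bd, mul_inv, inv_inv, ofMul_mul, ofMul_inv]
    abel
  have hval := congrArg Units.val hrel
  have hηval : (η : A[Fin 1 → ℤ]) = 1 + h := IsUnit.unit_spec _
  simp only [Units.val_mul, Units.coe_map, RingHom.toMonoidHom_eq_coe, MonoidHom.coe_coe, hxf, hηval, map_add, map_one] at hval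
  have hmain : ((y : A[Fin 2 → ℤ]) - 1) * ((1 + mapDomainRingHom A E0 h) * (1 + mapDomainRingHom A E2 h)) ∈ KJ (J * J) := by
    have h2 : ((y : A[Fin 2 → ℤ]) - 1) * ((1 + mapDomainRingHom A E0 h) * (1 + mapDomainRingHom A E2 h)) =
        (f + mapDomainRingHom A E1 h - mapDomainRingHom A E0 h - mapDomainRingHom A E2 h) +
          (f * mapDomainRingHom A E1 h - mapDomainRingHom A E0 h * mapDomainRingHom A E2 h) := by
      linear_combination hval
    rw [h2]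
    exact add_mem hlin (sub_mem (mul_mem_KJ hxJ (hE _)) (mul_mem_KJ (hE _) (hE _)))
  have hu : IsUnit ((1 + mapDomainRingHom A E0 h) * (1 + mapDomainRingHom A E2 h)) :=
    ((isNilpotent_of_mem_KJ hJ (hE E0)).isUnit_one_add).mul ((isNilpotent_of_mem_KJ hJ (hE E2)).isUnit_one_add)
  exact (Ideal.mul_unit_mem_iff_mem _ hu).1 hmain

theorem exists_primitive {J : Ideal A} (hJ : IsNilpotent J) (x : A[Fin 2 → ℤ]ˣ) (hx : Cyc x = 1)
    (hxJ : (x : A[Fin 2 → ℤ]) - 1 ∈ KJ J) (n : ℕ) :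
    ∃ η : A[Fin 1 → ℤ]ˣ, ((x * (Bd η)⁻¹ : A[Fin 2 → ℤ]ˣ) : A[Fin 2 → ℤ]) - 1 ∈ KJ (J ^ (n + 1)) := by
  induction n with
  | zero => exact ⟨1, by simpa [Bd] using hxJ⟩
  | succ n ih =>
    obtain ⟨η, hη⟩ := ih
    have hnil : IsNilpotent (J ^ (n + 1)) := hJ.pow_of_pos (Nat.succ_ne_zero n)
    have hc : Cyc (x * (Bd η)⁻¹) = 1 := by
      have h := Cyc_mul (x * (Bd η)⁻¹) (Bd η)
      rw [inv_mul_cancel_right, hx, Cyc_Bd, mul_one] at h
      exact h.symm
    obtain ⟨η', hη'⟩ := step hnil _ hc hη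
    refine ⟨η * η', ?_⟩
    rw [Bd_mul, mul_inv, ← mul_assoc]
    exact KJ_mono (by rw [← pow_add]; exact Ideal.pow_le_pow_right (by omega)) hη'

end

/-- For any commutative ring A, the second cohomology of the complex of unit groups A[t₁^±]ˣ → A[t₁^±,
t₂^±]ˣ → A[t₁^±, t₂^±, t₃^±]ˣ → ⋯ attached to the cosimplicial ring of Laurent polynomial rings
(coface maps (t₁, t₂) ↦ (t₂, t₃), (t₁t₂, t₃), (t₁, t₂t₃), (t₁, t₂) and t₁ ↦ t₂, t₁t₂, t₁) vanishes:
every unit ξ of A[t₁^±, t₂^±] with ξ(t₂,t₃) ξ(t₁t₂,t₃)⁻¹ ξ(t₁,t₂t₃) ξ(t₁,t₂)⁻¹ = 1 is of the form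
η(t₂) η(t₁t₂)⁻¹ η(t₁) for a unit η of A[t^±]. Laurent polynomial rings are written as group algebras
of ℤ^p and the coface maps as the maps induced by the corresponding additive maps ℤ^p → ℤ^(p+1). -/
theorem result (A : Type u) [CommRing A] (ξ : (AddMonoidAlgebra A (Fin 2 → ℤ))ˣ)
    (hξ : Units.map (AddMonoidAlgebra.mapDomainRingHom A
          (Matrix.mulVecLin (!![0, 0; 1, 0; 0, 1] : Matrix (Fin 3) (Fin 2) ℤ)).toAddMonoidHom).toMonoidHom ξ *
        (Units.map (AddMonoidAlgebra.mapDomainRingHom A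
          (Matrix.mulVecLin (!![1, 0; 1, 0; 0, 1] : Matrix (Fin 3) (Fin 2) ℤ)).toAddMonoidHom).toMonoidHom ξ)⁻¹ *
        Units.map (AddMonoidAlgebra.mapDomainRingHom A
          (Matrix.mulVecLin (!![1, 0; 0, 1; 0, 1] : Matrix (Fin 3) (Fin 2) ℤ)).toAddMonoidHom).toMonoidHom ξ *
        (Units.map (AddMonoidAlgebra.mapDomainRingHom A
          (Matrix.mulVecLin (!![1, 0; 0, 1; 0, 0] : Matrix (Fin 3) (Fin 2) ℤ)).toAddMonoidHom).toMonoidHom ξ)⁻¹ = 1) :
    ∃ η : (AddMonoidAlgebra A (Fin 1 → ℤ))ˣ,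
      ξ = Units.map (AddMonoidAlgebra.mapDomainRingHom A
          (Matrix.mulVecLin (!![0; 1] : Matrix (Fin 2) (Fin 1) ℤ)).toAddMonoidHom).toMonoidHom η *
        (Units.map (AddMonoidAlgebra.mapDomainRingHom A
          (Matrix.mulVecLin (!![1; 1] : Matrix (Fin 2) (Fin 1) ℤ)).toAddMonoidHom).toMonoidHom η)⁻¹ *
        Units.map (AddMonoidAlgebra.mapDomainRingHom A
          (Matrix.mulVecLin (!![1; 0] : Matrix (Fin 2) (Fin 1) ℤ)).toAddMonoidHom).toMonoidHom η := by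
  classical
  have hc : Cyc ξ = 1 := hξ
  -- the coefficients away from the origin are nilpotent
  have hnil : ∀ g : Fin 2 → ℤ, g ≠ 0 → IsNilpotent ((ξ : AddMonoidAlgebra A (Fin 2 → ℤ)).coeff g) := by
    intro g hg
    rw [nilpotent_iff_mem_prime]
    intro P hP
    haveI := hP
    let q := Ideal.Quotient.mk P
    obtain ⟨g₀, a, ha, hga⟩ := units_single (Units.map (AddMonoidAlgebra.mapRingHom (Fin 2 → ℤ) q).toMonoidHom ξ)
    rw [Units.coe_map] at hga
    have h : U e0 ξ * U e2 ξ = U e1 ξ * U e3 ξ := by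
      apply Additive.ofMul.injective
      have := congrArg Additive.ofMul hc
      simp only [Cyc, ofMul_mul, ofMul_inv, ofMul_one] at this ⊢
      rw [← sub_eq_zero, ← this]
      abel
    have hval := congrArg (AddMonoidAlgebra.mapRingHom (Fin 3 → ℤ) q) (congrArg Units.val h)
    have hcomm : ∀ e : (Fin 2 → ℤ) →+ (Fin 3 → ℤ),
        AddMonoidAlgebra.mapRingHom (Fin 3 → ℤ) q (AddMonoidAlgebra.mapDomainRingHom A e (ξ : AddMonoidAlgebra A (Fin 2 → ℤ))) =
          AddMonoidAlgebra.single (e g₀) a := fun e => by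
      rw [← RingHom.comp_apply, AddMonoidAlgebra.mapRingHom_comp_mapDomainRingHom, RingHom.comp_apply]
      erw [hga]
      simp
    simp only [Units.val_mul, Units.coe_map, RingHom.toMonoidHom_eq_coe, MonoidHom.coe_coe, map_mul, hcomm,
      AddMonoidAlgebra.single_mul_single] at hval
    have h2 : e0 g₀ + e2 g₀ = e1 g₀ + e3 g₀ := by
      by_contra hne
      have h3 := congrArg (fun z => z.coeff (e0 g₀ + e2 g₀)) hval
      simp only [AddMonoidAlgebra.coeff_single, Finsupp.single_eq_same, Finsupp.single_eq_of_ne hne] at h3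
      exact mul_ne_zero ha ha h3
    have hg₀ : g₀ = 0 := by
      rw [vec2 g₀, e0_apply, e1_apply, e2_apply, e3_apply] at h2
      have p0 := congrFun h2 0
      have p2 := congrFun h2 2
      simp only [Pi.add_apply, Matrix.cons_val_zero, Matrix.cons_val] at p0 p2
      ext i
      fin_cases i <;> simp <;> omega
    rw [← Ideal.Quotient.eq_zero_iff_mem, ← AddMonoidAlgebra.coeff_mapRingHom]
    erw [hga]
    rw [AddMonoidAlgebra.coeff_single, Finsupp.single_eq_of_ne (by rw [hg₀]; exact hg)]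
  -- the ideal they generate
  let J : Ideal A := Ideal.span ((((ξ : AddMonoidAlgebra A (Fin 2 → ℤ)).coeff.support.erase 0).image
    fun g => (ξ : AddMonoidAlgebra A (Fin 2 → ℤ)).coeff g : Finset A) : Set A)
  have hJ : IsNilpotent J := (Ideal.FG.isNilpotent_iff_le_nilradical ⟨_, rfl⟩).2 (Ideal.span_le.2 fun z hz => by
    obtain ⟨g, hg, rfl⟩ := Finset.mem_image.1 (Finset.mem_coe.1 hz)
    exact hnil g (Finset.mem_erase.1 hg).1)
  have hmem : ∀ g, g ≠ 0 → (ξ : AddMonoidAlgebra A (Fin 2 → ℤ)).coeff g ∈ J := fun g hg => by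
    by_cases hs : g ∈ (ξ : AddMonoidAlgebra A (Fin 2 → ℤ)).coeff.support
    · exact Ideal.subset_span (Finset.mem_coe.2 (Finset.mem_image.2 ⟨g, Finset.mem_erase.2 ⟨hg, hs⟩, rfl⟩))
    · rw [Finsupp.notMem_support_iff.1 hs]; exact zero_mem _
  set a₀ := (ξ : AddMonoidAlgebra A (Fin 2 → ℤ)).coeff 0 with ha₀
  have hres : (ξ : AddMonoidAlgebra A (Fin 2 → ℤ)) - AddMonoidAlgebra.single 0 a₀ ∈ KJ J := mem_KJ.2 fun g => by
    rw [AddMonoidAlgebra.coeff_sub, Finsupp.sub_apply, AddMonoidAlgebra.coeff_single]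
    by_cases hg : g = 0
    · subst hg; rw [Finsupp.single_eq_same, ← ha₀, sub_self]; exact zero_mem _
    · rw [Finsupp.single_eq_of_ne hg, sub_zero]; exact hmem g hg
  have hu₀ : IsUnit (AddMonoidAlgebra.single (0 : Fin 2 → ℤ) a₀) := by
    simpa using (isNilpotent_of_mem_KJ hJ hres).neg.isUnit_add_left_of_commute ξ.isUnit (Commute.all _ _)
  let au : Aˣ := (show IsUnit a₀ by
    let ev : AddMonoidAlgebra A (Fin 2 → ℤ) →+* A := (AddMonoidAlgebra.lift A A (Fin 2 → ℤ) 1).toRingHom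
    simpa [ev] using hu₀.map ev).unit
  let c₁ : (AddMonoidAlgebra A (Fin 1 → ℤ))ˣ := Units.map (AddMonoidAlgebra.singleZeroRingHom (R := A) (M := Fin 1 → ℤ)).toMonoidHom au
  let c₂ : (AddMonoidAlgebra A (Fin 2 → ℤ))ˣ := Units.map (AddMonoidAlgebra.singleZeroRingHom (R := A) (M := Fin 2 → ℤ)).toMonoidHom au
  have hB : Bd c₁ = c₂ := by
    have hE : ∀ E : (Fin 1 → ℤ) →+ (Fin 2 → ℤ), U E c₁ = c₂ := fun E => Units.ext (by
      simp [c₁, c₂, U])
    simp [Bd, hE]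
  have hc' : Cyc (ξ * c₂⁻¹) = 1 := by
    have h := Cyc_mul (ξ * c₂⁻¹) c₂
    rw [inv_mul_cancel_right, hc, ← hB, Cyc_Bd, mul_one, hB] at h
    exact h.symm
  have hres' : ((ξ * c₂⁻¹ : (AddMonoidAlgebra A (Fin 2 → ℤ))ˣ) : AddMonoidAlgebra A (Fin 2 → ℤ)) - 1 ∈ KJ J := by
    have h : ((ξ * c₂⁻¹ : (AddMonoidAlgebra A (Fin 2 → ℤ))ˣ) : AddMonoidAlgebra A (Fin 2 → ℤ)) - 1 =
        ((ξ : AddMonoidAlgebra A (Fin 2 → ℤ)) - AddMonoidAlgebra.single 0 a₀) * (↑c₂⁻¹ : AddMonoidAlgebra A (Fin 2 → ℤ)) := by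
      have hc2 : (c₂ : AddMonoidAlgebra A (Fin 2 → ℤ)) = AddMonoidAlgebra.single 0 a₀ := by simp [c₂, au]
      rw [sub_mul, ← hc2, Units.mul_inv, Units.val_mul]
    rw [h]
    exact Ideal.mul_mem_right _ _ hres
  obtain ⟨n, hn⟩ := hJ
  obtain ⟨η, hη⟩ := exists_primitive ⟨n, hn⟩ _ hc' hres' n
  rw [pow_succ, hn, zero_mul] at hη
  refine ⟨c₁ * η, ?_⟩
  show ξ = Bd (c₁ * η)
  rw [Bd_mul, hB]
  have h0 : ((ξ * c₂⁻¹ * (Bd η)⁻¹ : (AddMonoidAlgebra A (Fin 2 → ℤ))ˣ) : AddMonoidAlgebra A (Fin 2 → ℤ)) - 1 = 0 := by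
    ext g
    simpa using mem_KJ.1 hη g
  have h1 : ξ * c₂⁻¹ * (Bd η)⁻¹ = 1 := Units.ext (sub_eq_zero.1 h0)
  rw [mul_inv_eq_one, mul_inv_eq_iff_eq_mul] at h1
  rw [h1, mul_comm]

end Groth.Agent.S13793
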