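import Groth.Statements.S13794
import Mathlib

set_option autoImplicit false
universe u
open Polynomial
open Curves

namespace Groth.Agent.S13794

/-- Let k be a field of characteristic not 3 and β ∈ k. If a line ax + by + c = 0 with a³ ≠ b³ is the
tangent line at a flex point of the affine cubic x³ + y³ + β = 3xy, then β is a cube in k. Here the
line is normalised to b ≠ 0 (the roles of x and y are symmetric) and the flex-tangency is expressed
by the restriction of the cubic to the line being λ (x − x₀)³. -/
theorem result {k : Type u} [Field k] (h3 : (3 : k) ≠ 0)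
    (β a b c : k) (hb : b ≠ 0) (hab : a ^ 3 ≠ b ^ 3) (lam x₀ : k)
    (hflex : (X : k[X]) ^ 3 + (C (-a / b) * X + C (-c / b)) ^ 3 + C β - 3 * X * (C (-a / b) * X + C (-c / b)) =
      C lam * (X - C x₀) ^ 3) :
    ∃ γ : k, β = γ ^ 3 := by
  have hp : (-a / b) ^ 3 ≠ -1 := fun h => hab (by
    rw [div_pow, div_eq_iff (pow_ne_zero 3 hb)] at h
    linear_combination -h)
  generalize -a / b = p, -c / b = q at hflex hp
  have hn : ∀ n, ((C (1 + p ^ 3) * X ^ 3 + C (3 * p ^ 2 * q - 3 * p) * X ^ 2 +
      C (3 * p * q ^ 2 - 3 * q) * X + C (q ^ 3 + β) : k[X])).coeff n =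
      (C lam * X ^ 3 + C (-3 * lam * x₀) * X ^ 2 + C (3 * lam * x₀ ^ 2) * X + C (-lam * x₀ ^ 3) : k[X]).coeff n :=
    fun n => congrArg (fun P : k[X] => P.coeff n) (by
      simp only [map_add, map_sub, map_mul, map_neg, map_pow, map_ofNat, map_one]
      linear_combination hflex)
  have e3 : 1 + p ^ 3 = lam := by
    have h := hn 3
    simp only [coeff_add, coeff_C_mul_X_pow, coeff_C_mul_X, coeff_C] at h
    norm_num at h
    linear_combination h
  have e2 : 3 * p ^ 2 * q - 3 * p = -3 * lam * x₀ := by
    have h := hn 2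
    simp only [coeff_add, coeff_C_mul_X_pow, coeff_C_mul_X, coeff_C] at h
    norm_num at h
    linear_combination h
  have e1 : 3 * p * q ^ 2 - 3 * q = 3 * lam * x₀ ^ 2 := by
    have h := hn 1
    simp only [coeff_add, coeff_C_mul_X_pow, coeff_C_mul_X, coeff_C] at h
    norm_num at h
    linear_combination h
  have e0 : q ^ 3 + β = -lam * x₀ ^ 3 := by
    have h := hn 0
    simp only [coeff_add, coeff_C_mul_X_pow, coeff_C_mul_X, coeff_C] at h
    norm_num at h
    linear_combination h
  have hl : lam ≠ 0 := fun h => hp (by linear_combination e3 + h)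
  have f2 : p * (p * q - 1) = -lam * x₀ := mul_left_cancel₀ h3 (by linear_combination e2)
  have f1 : q * (p * q - 1) = lam * x₀ ^ 2 := mul_left_cancel₀ h3 (by linear_combination e1)
  by_cases hw : p * q - 1 = 0
  · have hx0 : x₀ = 0 := (mul_eq_zero.1 (show lam * x₀ = 0 by linear_combination f2 - p * hw)).resolve_left hl
    exact ⟨-q, by rw [hx0] at e0; linear_combination e0⟩
  · have hq : q = -p ^ 2 := by
      have : p ^ 2 * (p * q - 1) = lam * q := mul_left_cancel₀ hw (by
        linear_combination (p * (p * q - 1) - lam * x₀) * f2 - lam * f1)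
      linear_combination -this + q * e3
    have hx : x₀ = p := mul_left_cancel₀ hl (by
      rw [hq] at f2; linear_combination f2 + p * e3)
    exact ⟨-p, by rw [hx, hq] at e0; linear_combination e0 + p ^ 3 * e3⟩

end Groth.Agent.S13794
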