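import Groth.Statements.S1380
import Groth.Agent.EtSplit1380.Main

set_option linter.style.haveILetI false

set_option autoImplicit false
universe u
open FlatMor TensorProduct
open Groth.Agent.EtSplit1380

namespace Groth.Agent.S1380

open TensorProduct in
/-- Let R → S be integral and p a prime of R with only finitely many primes of S above it, such that for
each of them the separable closure of κ(p) in its residue field is finite over κ(p). Then there are
an étale R-algebra R' and a prime p' of R' over p such that R' ⊗ S is a finite product of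
R'-algebras, each integral over R' with exactly one prime over p', whose residue field is purely
inseparable over κ(p'). -/
theorem result {R S : Type u} [CommRing R] [CommRing S] [Algebra R S] [Algebra.IsIntegral R S]
    (p : Ideal R) [p.IsPrime] (hfin : {q : PrimeSpectrum S | q.asIdeal.comap (algebraMap R S) = p}.Finite)
    (hsep : ∀ (q : PrimeSpectrum S) (hq : q.asIdeal.comap (algebraMap R S) = p),
      letI := (Ideal.ResidueField.map p q.asIdeal (algebraMap R S) hq.symm).toAlgebra
      Module.Finite p.ResidueField (separableClosure p.ResidueField q.asIdeal.ResidueField)) :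
    ∃ (R' : Type u) (_ : CommRing R') (_ : Algebra R R') (p' : PrimeSpectrum R'), Algebra.Etale R R' ∧ p'.asIdeal.comap (algebraMap R R') = p ∧
      ∃ (m : ℕ) (A : Fin m → Type u) (_ : ∀ j, CommRing (A j)) (_ : ∀ j, Algebra R' (A j)) (e : R' ⊗[R] S ≃ₐ[R'] (Π j, A j)),
        ∀ j, Algebra.IsIntegral R' (A j) ∧ ∃ (r : PrimeSpectrum (A j)) (hr : r.asIdeal.comap (algebraMap R' (A j)) = p'.asIdeal),
          (∀ r' : PrimeSpectrum (A j), r'.asIdeal.comap (algebraMap R' (A j)) = p'.asIdeal → r' = r) ∧
          letI := (Ideal.ResidueField.map p'.asIdeal r.asIdeal (algebraMap R' (A j)) hr.symm).toAlgebra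
          IsPurelyInseparable p'.asIdeal.ResidueField r.asIdeal.ResidueField := by
  classical
  let Ω := AlgebraicClosure p.ResidueField
  obtain ⟨hfinH, α, hα, hkey⟩ := exists_separable_bound (S := S) (Ω := Ω) p hfin hsep
  haveI := hfinH
  obtain ⟨R', _, _, v, _, hfrac, m, f, hf, huniq⟩ := exists_split_idempotents α hα hkey
  let T := R' ⊗[R] S
  let p' : PrimeSpectrum R' := ⟨RingHom.ker v, RingHom.ker_isPrime v⟩
  have hp' : p'.asIdeal.comap (algebraMap R R') = p := by
    ext r
    rw [Ideal.mem_comap, RingHom.mem_ker, v.commutes,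
      IsScalarTower.algebraMap_apply R p.ResidueField Ω, map_eq_zero,
      Ideal.algebraMap_residueField_eq_zero]
  let I : Fin m → Ideal T := fun j => Ideal.span {1 - f j}
  let A : Fin m → Type u := fun j => T ⧸ I j
  let e₀ : T →ₐ[R'] (Π j, A j) := AlgHom.pi fun j => Ideal.Quotient.mkₐ R' (I j)
  have he₀ : Function.Bijective e₀ := hf.bijective_pi
  refine ⟨R', inferInstance, inferInstance, p', inferInstance, hp', m, A, inferInstance, inferInstance,
    AlgEquiv.ofBijective e₀ he₀, fun j => ⟨inferInstance, ?_⟩⟩
  obtain ⟨ξ, hξ, hξu⟩ := huniq j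
  have hξ1 : pair v ξ (f j) = 1 := by
    rcases IsIdempotentElem.iff_eq_zero_or_one.mp ((hf.idem j).map (pair v ξ)) with h | h
    exacts [absurd h hξ, h]
  let η : A j →ₐ[R] Ω := Ideal.Quotient.liftₐ (I j) (pair v ξ) fun z hz => by
    obtain ⟨y, rfl⟩ := Ideal.mem_span_singleton.mp hz
    rw [map_mul, map_sub, map_one, hξ1, sub_self, zero_mul]
  have hη : ∀ z, η (Ideal.Quotient.mk (I j) z) = pair v ξ z := fun z => rfl
  have hηv : ∀ a, η (algebraMap R' (A j) a) = v a := fun a => by
    rw [show algebraMap R' (A j) a = Ideal.Quotient.mk (I j) (a ⊗ₜ 1) from rfl, hη]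
    simp [pair]
  let r : PrimeSpectrum (A j) := ⟨RingHom.ker η, RingHom.ker_isPrime η⟩
  have hr : r.asIdeal.comap (algebraMap R' (A j)) = p'.asIdeal := by
    ext a
    rw [Ideal.mem_comap, RingHom.mem_ker, hηv]
    rfl
  refine ⟨r, hr, fun r' hr' => ?_, ?_⟩
  · haveI := r'.isPrime
    obtain ⟨η', hη', hker'⟩ := exists_hom_of_prime v.toRingHom r'.asIdeal hr'
    let ξ' : S →ₐ[R] Ω :=
      { toRingHom := (η'.comp (Ideal.Quotient.mk (I j))).comp
          (Algebra.TensorProduct.includeRight : S →ₐ[R] T).toRingHom
        commutes' := fun a => by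
          change η' (Ideal.Quotient.mk (I j) (1 ⊗ₜ algebraMap R S a)) = _
          rw [show (1 : R') ⊗ₜ[R] algebraMap R S a = algebraMap R' T (algebraMap R R' a) by
            rw [← IsScalarTower.algebraMap_apply]
            exact (Algebra.TensorProduct.includeRight : S →ₐ[R] T).commutes a]
          exact (DFunLike.congr_fun hη' _).trans (v.commutes a) }
    have hpair : ∀ z, pair v ξ' z = η' (Ideal.Quotient.mk (I j) z) := fun z => by
      induction z using TensorProduct.induction_on with
      | zero => simp
      | add a b ha hb => simp [ha, hb]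
      | tmul a s =>
        rw [pair, Algebra.TensorProduct.lift_tmul,
          show a ⊗ₜ[R] s = algebraMap R' T a * (1 ⊗ₜ s) by simp [T], map_mul, map_mul]
        exact congrArg (· * _) (DFunLike.congr_fun hη' a).symm
    have h1 : pair v ξ' (f j) = 1 := by
      rw [hpair, show Ideal.Quotient.mk (I j) (f j) = 1 from ?_, map_one]
      rw [← map_one (Ideal.Quotient.mk (I j)), Ideal.Quotient.eq]
      have := (I j).neg_mem (Ideal.mem_span_singleton_self (1 - f j))
      rwa [neg_sub] at this
    have hξ' : ξ' = ξ := hξu ξ' (show pair v ξ' (f j) ≠ 0 by rw [h1]; exact one_ne_zero)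
    refine PrimeSpectrum.ext ?_
    change r'.asIdeal = RingHom.ker η
    rw [← hker']
    ext z
    obtain ⟨z, rfl⟩ := Ideal.Quotient.mk_surjective z
    rw [RingHom.mem_ker, RingHom.mem_ker, ← hpair, hη, hξ']
  haveI := p'.isPrime
  haveI := r.isPrime
  haveI := p'.isPrime
  haveI := r.isPrime
  letI := (Ideal.ResidueField.map p'.asIdeal r.asIdeal (algebraMap R' (A j)) hr.symm).toAlgebra
  let K' := p'.asIdeal.ResidueField
  let L := r.asIdeal.ResidueField
  let J : L →+* Ω := Ideal.ResidueField.lift r.asIdeal η.toRingHom le_rfl fun x hx => isUnit_iff_ne_zero.2 hx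
  have hJ : ∀ z, J (algebraMap (A j) L z) = η z :=
    Ideal.ResidueField.lift_algebraMap r.asIdeal η.toRingHom le_rfl fun x hx => isUnit_iff_ne_zero.2 hx
  have halg : ∀ a, algebraMap K' L (algebraMap R' K' a) = algebraMap (A j) L (algebraMap R' (A j) a) :=
    fun a => by rw [RingHom.algebraMap_toAlgebra, Ideal.ResidueField.map_algebraMap]
  let q := ringExpChar p.ResidueField
  haveI : ExpChar Ω q := expChar_of_injective_ringHom (algebraMap p.ResidueField Ω).injective _
  haveI : ExpChar K' q := RingHom.expChar (J.comp (algebraMap K' L)) (RingHom.injective _) q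
  have hgen : ∀ z : A j, algebraMap (A j) L z ∈ perfectClosure K' L := by
    intro z
    obtain ⟨z, rfl⟩ := Ideal.Quotient.mk_surjective z
    induction z using TensorProduct.induction_on with
    | zero => rw [map_zero, map_zero]; exact zero_mem _
    | add a b ha hb => rw [map_add, map_add]; exact add_mem ha hb
    | tmul a s =>
      rw [show a ⊗ₜ[R] s = algebraMap R' T a * (1 ⊗ₜ s) by simp [T], map_mul, map_mul]
      refine mul_mem ?_ ?_
      · exact (halg a) ▸ (perfectClosure K' L).algebraMap_mem _
      · obtain ⟨k, c, d, hc, hcd⟩ := hfrac ξ s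
        rw [mem_perfectClosure_iff_pow_mem q]
        refine ⟨k, algebraMap R' K' d / algebraMap R' K' c, J.injective ?_⟩
        rw [map_div₀, halg, halg, map_div₀, hJ, hJ, hηv, hηv, map_pow, hJ, hη]
        rw [div_eq_iff hc, ← hcd]
        simp [pair, mul_comm, q]
  refine (isPurelyInseparable_iff_pow_mem K' q).mpr fun y => (mem_perfectClosure_iff_pow_mem q).mp ?_
  obtain ⟨a, b, -, rfl⟩ := IsFractionRing.div_surjective (A := A j ⧸ r.asIdeal) y
  obtain ⟨a, rfl⟩ := Ideal.Quotient.mk_surjective a
  obtain ⟨b, rfl⟩ := Ideal.Quotient.mk_surjective b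
  exact div_mem (hgen a) (hgen b)

end Groth.Agent.S1380
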