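import Groth.Statements.S13800
import Groth.Agent.EtPunctLine.Main
import Groth.Agent.KummerLib.MuConst
import Groth.Agent.EtPBC.CdFibre

set_option autoImplicit false
universe u
open CategoryTheory AlgebraicGeometry Polynomial
open EtCoh

set_option backward.isDefEq.respectTransparency false
set_option backward.isDefEq.respectTransparency.types false
set_option linter.style.haveILetI false
set_option maxHeartbeats 1000000
set_option synthInstance.maxHeartbeats 400000
attribute [local instance 100000] EtCoh.H._proof_1 Groth.Agent.EtMV.hext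
attribute [local instance 200000] Groth.Agent.EtMV.hextAb

namespace Groth.Agent.S13800

/-- Let k be an algebraically closed field, ℓ ≥ 1 an integer invertible in k, and a₁, …, a_r (r ≥ 1)
distinct elements of k, viewed as k-points of the affine line 𝔸¹_k = Spec k[x]. Let j : U → 𝔸¹_k be
an open immersion whose image is the complement of these points (the basic open set of ∏ (x − a_i)),
and let j_! μ_ℓ be the extension by zero of the sheaf of ℓ-th roots of unity on the small étale
site. Then H^s(𝔸¹_k, j_! μ_ℓ) = 0 for s ≠ 1, and H¹(𝔸¹_k, j_! μ_ℓ) is isomorphic to μ_ℓ(k)^(r−1)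
(existence of an isomorphism of abelian groups). -/
theorem result {k : Type u} [Field k] [IsAlgClosed k]
    (ℓ : ℕ) (hℓ : (ℓ : k) ≠ 0) (r : ℕ) (hr : 0 < r) (a : Fin r → k) (ha : Function.Injective a)
    {U : Scheme.{u}} (j : U ⟶ Spec (CommRingCat.of k[X])) [IsOpenImmersion j] [Etale j] [EtShriek.JCont j]
    (hj : j.opensRange = (Spec (CommRingCat.of k[X])).basicOpen ((Scheme.ΓSpecIso (CommRingCat.of k[X])).inv
      (Finset.univ.prod fun i => (X - C (a i))))) :
    (∀ s : ℕ, s ≠ 1 → Subsingleton (EtCoh.H (Spec (CommRingCat.of k[X])) ((EtShriek.extZero j).obj (EtCoh.mu U ℓ)) s)) ∧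
      Nonempty (EtCoh.H (Spec (CommRingCat.of k[X])) ((EtShriek.extZero j).obj (EtCoh.mu U ℓ)) 1 ≃+
        (Fin (r - 1) → Additive (rootsOfUnity ℓ k))) := by
  classical
  let A := Spec (CommRingCat.of k[X])
  let f : A ⟶ Spec (CommRingCat.of k) := Spec.map (CommRingCat.ofHom (Polynomial.C : k →+* k[X]))
  haveI : LocallyOfFiniteType f := by
    rw [HasRingHomProperty.Spec_iff (P := @LocallyOfFiniteType)]
    exact RingHom.finiteType_algebraMap.2 (inferInstance : Algebra.FiniteType k k[X])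
  haveI : IsSepClosed k := inferInstance
  have hdim : topologicalKrullDim A ≤ 1 := by
    show topologicalKrullDim (PrimeSpectrum k[X]) ≤ 1
    rw [PrimeSpectrum.topologicalKrullDim_eq_ringKrullDim, Polynomial.ringKrullDim_of_isNoetherianRing,
      ringKrullDim_eq_zero_of_field, zero_add]
  haveI hirr : IrreducibleSpace A := inferInstanceAs (IrreducibleSpace (PrimeSpectrum k[X]))
  haveI : ConnectedSpace A := inferInstance
  haveI : NeZero ℓ := ⟨fun h => hℓ (by rw [h, Nat.cast_zero])⟩
  haveI : NeZero (ℓ : k) := ⟨hℓ⟩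
  let γ : k →+* Γ(A, ⊤) := ((Scheme.ΓSpecIso (CommRingCat.of k[X])).inv.hom).comp Polynomial.C
  have hu : IsUnit (ℓ : Γ(A, ⊤)) := by
    rw [← map_natCast γ]
    exact (isUnit_iff_ne_zero.2 hℓ).map γ
  obtain ⟨ζ, hζ⟩ := IsAlgClosed.exists_root (Polynomial.cyclotomic ℓ k) (by
    rw [Polynomial.degree_cyclotomic]
    exact fun h => (Nat.totient_pos.2 (NeZero.pos ℓ)).ne' (by exact_mod_cast h))
  have hprim : IsPrimitiveRoot ζ ℓ := Polynomial.isRoot_cyclotomic_iff.1 hζ
  obtain ⟨em⟩ := KummerLib.nonempty_mu_iso_const (X := A) ℓ (NeZero.one_le) hu (γ ζ) (by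
    rw [Polynomial.aeval_def, show algebraMap ℤ Γ(A, ⊤) = γ.comp (algebraMap ℤ k) from Subsingleton.elim _ _,
      ← Polynomial.hom_eval₂, ← Polynomial.eval_map, Polynomial.map_cyclotomic]
    rw [show Polynomial.eval ζ (Polynomial.cyclotomic ℓ k) = 0 from hζ, map_zero])
  -- degree one on the line
  have hm : Epi (EtCoh.powMap A ℓ) := Groth.Agent.S0108.result A ℓ hu
  have hmu1 : Subsingleton (EtCoh.H A (EtCoh.mu A ℓ) 1) := by
    refine subsingleton_of_forall_eq 0 fun x => ?_
    obtain ⟨a₁, rfl⟩ := EtGmKummer.kum_surjective hm (EtGmKummer.subsingleton_H1_Gm_ufd k[X]) x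
    let e : (k[X]) ≃+* Γ(A, ⊤) := (Scheme.ΓSpecIso (CommRingCat.of k[X])).symm.commRingCatIsoToRingEquiv
    obtain ⟨c, hc, hcu⟩ := Polynomial.isUnit_iff.1 ((a₁.toMul).isUnit.map e.symm.toRingHom)
    obtain ⟨d, hd⟩ := IsAlgClosed.exists_pow_nat_eq c (NeZero.pos ℓ)
    have hd0 : IsUnit d := by
      refine isUnit_iff_ne_zero.2 fun h => hc.ne_zero ?_
      rw [← hd, h, zero_pow (NeZero.ne ℓ)]
    let b : Γ(A, ⊤)ˣ := Units.map γ.toMonoidHom hd0.unit
    have hb : a₁ = ℓ • Additive.ofMul b := by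
      refine Additive.toMul.injective (Units.ext ?_)
      show (a₁.toMul : Γ(A, ⊤)) = (γ d) ^ ℓ
      rw [← map_pow, hd]
      exact (e.apply_symm_apply _).symm.trans (congrArg e hcu.symm)
    rw [hb]
    exact EtGmKummer.kum_nsmul hm (Additive.ofMul b)
  haveI : Subsingleton ↑((EtCoh.HF A 1).obj (EtCoh.mu A ℓ)) := hmu1
  have hc1 : Subsingleton (EtCoh.H A (EtCoh.const A (ZMod ℓ)) 1) :=
    ((EtCoh.HF A 1).mapIso em).addCommGroupIsoToAddEquiv.symm.injective.subsingleton
  -- the points
  have hirrX : ∀ i, Irreducible (Polynomial.X - Polynomial.C (a i)) := fun i => Polynomial.irreducible_X_sub_C _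
  have hmax : ∀ i, (Ideal.span {Polynomial.X - Polynomial.C (a i)}).IsMaximal := fun i =>
    PrincipalIdealRing.isMaximal_of_irreducible (hirrX i)
  let P : Fin r → A := fun i => (⟨Ideal.span {Polynomial.X - Polynomial.C (a i)}, (hmax i).isPrime⟩ : PrimeSpectrum k[X])
  have hP : Function.Injective P := fun i i' h => by
    have h1 : Polynomial.X - Polynomial.C (a i) ∈ Ideal.span {Polynomial.X - Polynomial.C (a i')} := by
      have e : Ideal.span {Polynomial.X - Polynomial.C (a i)} = Ideal.span {Polynomial.X - Polynomial.C (a i')} :=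
        congrArg PrimeSpectrum.asIdeal h
      rw [← e]; exact Ideal.mem_span_singleton_self _
    rw [Ideal.mem_span_singleton, Polynomial.dvd_iff_isRoot, Polynomial.IsRoot, Polynomial.eval_sub,
      Polynomial.eval_X, Polynomial.eval_C, sub_eq_zero] at h1
    exact ha h1.symm
  let S : Finset A := Finset.univ.image P
  have hS : ∀ x ∈ S, IsClosed ({x} : Set A) := fun x hx => by
    obtain ⟨i, -, rfl⟩ := Finset.mem_image.1 hx
    exact (PrimeSpectrum.isClosed_singleton_iff_isMaximal _).2 (hmax i)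
  have hcompl : ∀ x, x ∉ Set.range j ↔ x ∈ S := fun x => by
    have h0 : x ∈ Set.range j ↔ Finset.univ.prod (fun i => (Polynomial.X - Polynomial.C (a i))) ∉
        (x : PrimeSpectrum k[X]).asIdeal := by
      rw [← Scheme.Hom.coe_opensRange, hj, basicOpen_eq_of_affine']
      simp only [SetLike.mem_coe, Iso.inv_hom_id_apply]
      exact Iff.rfl
    rw [h0, not_not]
    constructor
    · intro h
      obtain ⟨i, -, hi⟩ := (Ideal.IsPrime.prod_mem_iff (hp := (x : PrimeSpectrum k[X]).isPrime)).1 h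
      refine Finset.mem_image.2 ⟨i, Finset.mem_univ _, PrimeSpectrum.ext ?_⟩
      exact (hmax i).eq_of_le (x : PrimeSpectrum k[X]).isPrime.ne_top ((Ideal.span_singleton_le_iff_mem _).2 hi)
    · intro h
      obtain ⟨i, -, rfl⟩ := Finset.mem_image.1 h
      exact Ideal.mem_of_dvd _ (Finset.dvd_prod_of_mem _ (Finset.mem_univ i)) (Ideal.mem_span_singleton_self _)
  obtain ⟨hz, ⟨e1⟩⟩ := EtPunctLine.extZero_const j ℓ S hS
    (fun x hx => EtPBC.isSepClosed_of_isClosed f x (hS x hx)) ⟨P ⟨0, hr⟩, Finset.mem_image.2 ⟨_, Finset.mem_univ _, rfl⟩⟩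
    hcompl hc1
  have hcard : S.card = r := by
    rw [Finset.card_image_of_injective _ hP, Finset.card_univ, Fintype.card_fin]
  rw [hcard] at e1
  -- transport to roots of unity
  obtain ⟨em'⟩ := EtPur.nonempty_pull_mu j ℓ
  let eU : (EtShriek.restrAlong j).obj (EtCoh.const A (ZMod ℓ)) ≅ EtCoh.mu U ℓ :=
    (EtShriek.restrAlong j).mapIso em.symm ≪≫ (EtPushStalk.restrPullIso j).app _ ≪≫ em'
  let eJ : ∀ q, EtCoh.H A ((EtShriek.extZero j).obj ((EtShriek.restrAlong j).obj (EtCoh.const A (ZMod ℓ)))) q ≃+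
      EtCoh.H A ((EtShriek.extZero j).obj (EtCoh.mu U ℓ)) q := fun q =>
    ((EtCoh.HF A q).mapIso ((EtShriek.extZero j).mapIso eU)).addCommGroupIsoToAddEquiv
  refine ⟨fun s hs => ?_, ?_⟩
  · rcases Nat.eq_zero_or_pos s with rfl | hs0
    · haveI := hz
      exact (eJ 0).symm.injective.subsingleton
    · refine EtPBC.cohDimLE_affine_curve A f hdim _ (HLocTwo.isTorsion_of_killed (NeZero.pos ℓ) ?_) s (by omega)
      have hk : EtPBC.Killed ℓ (EtCoh.mu U ℓ) := EtPur.killedBy_mu U ℓ
      rw [EtPBC.killed_iff] at hk ⊢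
      haveI : (EtShriek.extZero j).Additive := (EtShriek.extZeroAdj j).left_adjoint_additive
      rw [← (EtShriek.extZero j).map_id, ← Functor.map_nsmul, hk, Functor.map_zero]
  · have hu' : IsPrimitiveRoot (hprim.isUnit (NeZero.ne ℓ)).unit ℓ := hprim.isUnit_unit (NeZero.ne ℓ)
    let eR : ZMod ℓ ≃+ Additive (rootsOfUnity ℓ k) :=
      hu'.zmodEquivZPowers.trans (MulEquiv.toAdditive (MulEquiv.subgroupCongr hu'.zpowers_eq))
    exact ⟨((eJ 1).symm.trans e1).trans (AddEquiv.arrowCongr (Equiv.refl _) eR)⟩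

end Groth.Agent.S13800
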