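import Groth.Statements.S13801
-- import your own Groth.Agent.* helpers here

set_option autoImplicit false
open ChowMon

namespace Groth.Agent.S13801

/-- For a prime p and positive natural numbers a_1, ..., a_k with sum n one has v_p(a_1!) + ... +
v_p(a_k!) ≤ v_p(n!), and the inequality is strict whenever some a_i is not divisible by p^(v_p(n)). -/
theorem result {k : ℕ} (p : ℕ) [Fact p.Prime]
    (a : Fin k → ℕ) (ha : ∀ i, 0 < a i) :
    (∑ i, padicValNat p (a i).factorial ≤ padicValNat p (∑ i, a i).factorial) ∧
      ((∃ i, ¬ p ^ padicValNat p (∑ j, a j) ∣ a i) →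
        ∑ i, padicValNat p (a i).factorial < padicValNat p (∑ i, a i).factorial) := by
  have hp : p.Prime := Fact.out
  have hle : ∀ s : Finset (Fin k),
      ∑ i ∈ s, padicValNat p (a i).factorial ≤ padicValNat p (∑ i ∈ s, a i).factorial := by
    intro s
    induction s using Finset.induction_on with
    | empty => simp
    | insert i s hi ih =>
      rw [Finset.sum_insert hi, Finset.sum_insert hi]
      refine (Nat.add_le_add_left ih _).trans ?_
      have h := Nat.choose_mul_factorial_mul_factorial (Nat.le_add_right (a i) (∑ j ∈ s, a j))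
      rw [Nat.add_sub_cancel_left] at h
      rw [← h, mul_assoc, padicValNat.mul (Nat.choose_pos (Nat.le_add_right _ _)).ne'
        (mul_ne_zero (Nat.factorial_ne_zero _) (Nat.factorial_ne_zero _)),
        padicValNat.mul (Nat.factorial_ne_zero _) (Nat.factorial_ne_zero _)]
      omega
  refine ⟨hle _, ?_⟩
  rintro ⟨i, hi⟩
  set n := ∑ j, a j with hn
  have hs : a i + ∑ j ∈ Finset.univ.erase i, a j = n := Finset.add_sum_erase _ a (Finset.mem_univ i)
  obtain ⟨m, hm⟩ : ∃ m, n = m + 1 := ⟨n - 1, by have := ha i; omega⟩
  obtain ⟨c, hc⟩ : ∃ c, a i = c + 1 := ⟨a i - 1, by have := ha i; omega⟩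
  have hch : 0 < padicValNat p (n.choose (a i)) := by
    by_contra h0
    refine hi ?_
    have hid := Nat.add_one_mul_choose_eq m c
    rw [← hm, ← hc] at hid
    have hcp : 0 < n.choose (a i) := Nat.choose_pos (by omega)
    have h1 : p ^ padicValNat p n ∣ n.choose (a i) * a i := by
      rw [← hid]
      exact Dvd.dvd.mul_right pow_padicValNat_dvd _
    refine (Nat.Coprime.pow_left _ ?_).dvd_of_dvd_mul_left h1
    rw [hp.coprime_iff_not_dvd]
    intro hdvd
    exact h0 (one_le_padicValNat_of_dvd hcp.ne' hdvd)
  rw [← Finset.add_sum_erase _ _ (Finset.mem_univ i)]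
  have h := Nat.choose_mul_factorial_mul_factorial (Nat.le_add_right (a i) (∑ j ∈ Finset.univ.erase i, a j))
  rw [Nat.add_sub_cancel_left, hs] at h
  have h2 : padicValNat p n.factorial = padicValNat p (n.choose (a i)) +
      (padicValNat p (a i).factorial + padicValNat p (∑ j ∈ Finset.univ.erase i, a j).factorial) := by
    rw [← h, mul_assoc, padicValNat.mul (Nat.choose_pos (by omega)).ne'
      (mul_ne_zero (Nat.factorial_ne_zero _) (Nat.factorial_ne_zero _)),
      padicValNat.mul (Nat.factorial_ne_zero _) (Nat.factorial_ne_zero _)]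
  have h3 := hle (Finset.univ.erase i)
  omega

end Groth.Agent.S13801
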