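import Groth.Statements.S13814
import Groth.Agent.EtaPt.Valuation

set_option autoImplicit false
universe u
open EtaPt

namespace Groth.Agent.S13814

/-- Let R be a valuation ring with fraction field K = k((0)) such that η is bijective at K, or such that
every field of the same characteristic as R at which η is bijective is perfect. Then the ring M_η(R)
is again a valuation ring, every element of F(K) is a quotient of generic components of elements of
M_η(R), and an element of F(K) that is both the generic component of an element of M_η(R) and in the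
image of K comes from R. (The published statement assumes nothing about η beyond the standing
conditions, and then fails: for the endofunctor equal to the perfect closure on the fields of
characteristic 2 and transcendence degree at least 2 over the prime field and to the identity on
every other field, and R = F_2(s)[t] localised at (t), neither of the elements (s^(1/2) t, 0) and
(t, 0) of M_η(R) ⊆ F(K) × F_2(s) divides the other, so M_η(R) is not a valuation ring. This row
assumes that η is bijective at Frac R, or that every field of the same characteristic as R at which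
η is bijective is perfect; both the identity and the perfect closure satisfy this.) Here η is a
natural transformation from the identity of the category of fields to an endofunctor F with F(η_K)
bijective and η_K purely inseparable for every field K, N_η(A) is the product of the F(k(p)) over
the primes p of A with diagonal map t_A, and M_η(A) ⊆ N_η(A) is the subring of elements sent into
the range of t_R by every ring map from A to a valuation ring R at whose fraction field η is
bijective; q_A : A → M_η(A) is the corestriction of t_A. -/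
theorem result (η : EtaPt.FieldEndo.{u}) (R : Type u) [CommRing R] [IsDomain R] [ValuationRing R]
    (hη : η.InV R ∨ ∀ (k : Type u) [Field k], ringChar k = ringChar R →
      Function.Bijective (η.eta k) → PerfectField k) :
    IsDomain (η.M R) ∧ PreValuationRing (η.M R) ∧
      (∀ y : η.obj (⊥ : Ideal R).ResidueField, ∃ a b : η.M R,
        (b : η.N R) ⟨⊥, Ideal.isPrime_bot⟩ ≠ 0 ∧
          y * (b : η.N R) ⟨⊥, Ideal.isPrime_bot⟩ = (a : η.N R) ⟨⊥, Ideal.isPrime_bot⟩) ∧
      (fun x : η.N R => x ⟨⊥, Ideal.isPrime_bot⟩) '' (η.M R : Set (η.N R)) ∩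
          Set.range (η.eta (⊥ : Ideal R).ResidueField) =
        Set.range ((η.eta (⊥ : Ideal R).ResidueField).comp (algebraMap R (⊥ : Ideal R).ResidueField)) := by
  haveI := Groth.Agent.EtaPtLib.isIntegrallyClosed_of_valuationRing R
  let P : PrimeSpectrum R := ⟨⊥, Ideal.isPrime_bot⟩
  let e : η.M R →+* η.obj P.asIdeal.ResidueField := Groth.Agent.EtaPtLib.evM η P
  have he : Function.Injective e := fun x y h =>
    Subtype.ext (Groth.Agent.EtaPtLib.injective_eval_bot η x.2 y.2 h)
  haveI hdom : IsDomain (η.M R) := he.isDomain e
  have himg := Groth.Agent.EtaPtLib.eval_bot_image η hη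
  have hmem : ∀ y : η.obj P.asIdeal.ResidueField,
      (Groth.Agent.EtaPtLib.etaPt η P).IsIntegralElem y → ∃ x : η.M R, e x = y := by
    intro y hy
    obtain ⟨x, hx, hxy⟩ := himg.symm.subset hy
    exact ⟨⟨x, hx⟩, hxy⟩
  let ρ : P.asIdeal.ResidueField →+* FractionRing R :=
    Groth.Agent.EtaPtLib.rfLift (algebraMap R _) ⊥
      ((RingHom.injective_iff_ker_eq_bot _).mp (IsFractionRing.injective R _))
  have htot : ∀ y : η.obj P.asIdeal.ResidueField, (∃ x, e x = y) ∨ ∃ x, e x = y⁻¹ := by
    intro y
    letI := (Groth.Agent.EtaPtLib.etaPt η P).toAlgebra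
    have := ringExpChar.expChar P.asIdeal.ResidueField
    obtain ⟨n, z, hz⟩ := η.exists_pow_mem_range_eta P.asIdeal.ResidueField y
    have hq : 0 < ringExpChar P.asIdeal.ResidueField ^ n :=
      pow_pos (expChar_pos P.asIdeal.ResidueField _) n
    have key : ∀ (w : η.obj P.asIdeal.ResidueField) (c : P.asIdeal.ResidueField),
        w ^ ringExpChar P.asIdeal.ResidueField ^ n = η.eta _ c →
        (∃ a, algebraMap R (FractionRing R) a = ρ c) → ∃ x, e x = w := by
      rintro w c hw ⟨a, ha⟩
      refine hmem w (IsIntegral.of_pow (R := R) hq ?_)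
      have hac : algebraMap R P.asIdeal.ResidueField a = c :=
        ρ.injective ((Groth.Agent.EtaPtLib.rfLift_algebraMap ..).trans ha)
      rw [hw, ← hac]
      exact isIntegral_algebraMap
    rcases ValuationRing.isInteger_or_isInteger R (ρ z) with h | h
    · exact .inl (key y z hz.symm h)
    · exact .inr (key y⁻¹ z⁻¹ (by rw [inv_pow, ← hz, map_inv₀]) (by rwa [map_inv₀]))
  refine ⟨hdom, ⟨fun a b => ?_⟩, fun y => ?_, ?_⟩
  · by_cases ha : e a = 0
    · exact ⟨0, .inr (he (by simp [map_mul, ha]))⟩
    by_cases hb : e b = 0
    · exact ⟨0, .inl (he (by simp [map_mul, hb]))⟩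
    rcases htot (e b / e a) with ⟨c, hc⟩ | ⟨c, hc⟩
    · exact ⟨c, .inl (he (by rw [map_mul, hc, mul_div_cancel₀ _ ha]))⟩
    · exact ⟨c, .inr (he (by rw [map_mul, hc, inv_div, mul_div_cancel₀ _ hb]))⟩
  · rcases htot y with ⟨a, ha⟩ | ⟨b, hb⟩
    · exact ⟨a, 1, one_ne_zero, by exact (mul_one y).trans ha.symm⟩
    · by_cases hy : y = 0
      · exact ⟨0, 1, one_ne_zero, by exact (mul_one y).trans hy⟩
      refine ⟨1, b, ?_, ?_⟩
      · change e b ≠ 0
        rw [hb]; exact inv_ne_zero hy
      · change y * e b = 1
        rw [hb]; exact mul_inv_cancel₀ hy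
  · refine Set.Subset.antisymm ?_ ?_
    · rintro y ⟨⟨x, hx, rfl⟩, z, hz⟩
      obtain ⟨H, hH, hH'⟩ := Groth.Agent.EtaPtLib.isIntegralElem_component η hx P
      rw [Groth.Agent.EtaPtLib.etaPt, show (x : η.N R) P = η.eta _ z from hz.symm,
        ← Polynomial.hom_eval₂, map_eq_zero] at hH'
      have h2 := congrArg ρ hH'
      rw [Polynomial.hom_eval₂, map_zero, Groth.Agent.EtaPtLib.rfLift_comp] at h2
      obtain ⟨a, ha⟩ := IsIntegrallyClosed.isIntegral_iff.mp (⟨H, hH, h2⟩ : IsIntegral R (ρ z))
      refine ⟨a, ?_⟩
      rw [← hz]
      exact congrArg (η.eta _) (ρ.injective ((Groth.Agent.EtaPtLib.rfLift_algebraMap ..).trans ha))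
    · rintro _ ⟨a, rfl⟩
      exact ⟨⟨η.t R a, η.t_mem_M R a, rfl⟩, _, rfl⟩

end Groth.Agent.S13814
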