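import Groth.Statements.S13834
import Mathlib

set_option autoImplicit false
universe u
open AlgebraicGeometry
open EtaPt

set_option backward.isDefEq.respectTransparency false
open AlgebraicGeometry Topology

namespace Groth.Agent.S13834

theorem comps_cover {T : Type u} [TopologicalSpace T] {ι : Type*} [Finite ι] {W : ι → Type u}
    [∀ j, TopologicalSpace (W j)] (f : ∀ j, W j → T) (hf : ∀ j, IsOpenEmbedding (f j))
    (hc : ∀ t, ∃ j, t ∈ Set.range (f j)) (h : ∀ j, (irreducibleComponents (W j)).Finite) :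
    (irreducibleComponents T).Finite := by
  refine Set.Finite.subset (Set.finite_iUnion fun j => (h j).image (fun A => closure (f j '' A))) ?_
  intro Z hZ
  obtain ⟨z, hz⟩ := hZ.1.nonempty
  obtain ⟨j, hj⟩ := hc z
  refine Set.mem_iUnion.mpr ⟨j, _, preimage_mem_irreducibleComponents hZ (hf j) ⟨z, hz, hj⟩, ?_⟩
  obtain ⟨w, rfl⟩ := hj
  exact closure_image_preimage_of_isPreirreducible (f j) (hf j).isOpenMap Z ⟨w, hz⟩ hZ.1.2
    (isClosed_of_mem_irreducibleComponents Z hZ)

theorem comps_open {T W : Type u} [TopologicalSpace T] [TopologicalSpace W] (f : W → T)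
    (hf : IsOpenEmbedding f) (h : (irreducibleComponents T).Finite) :
    (irreducibleComponents W).Finite := by
  refine Set.Finite.subset (h.image (f ⁻¹' ·)) ?_
  intro A hA
  obtain ⟨Z, hZ, hAZ⟩ := exists_mem_irreducibleComponents_subset_of_isIrreducible _
    (hA.1.image f hf.continuous.continuousOn)
  refine ⟨Z, hZ, ?_⟩
  obtain ⟨a, ha⟩ := hA.1.nonempty
  have h2 := preimage_mem_irreducibleComponents hZ hf ⟨f a, hAZ ⟨a, ha, rfl⟩, a, rfl⟩
  have h3 : A ⊆ f ⁻¹' Z := fun x hx => hAZ ⟨x, hx, rfl⟩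
  exact le_antisymm (hA.2 h2.1 h3) h3

theorem minimalPrimes_finite {A B : Type u} [CommRing A] [CommRing B] [Algebra A B]
    [Module.Flat A B] [Algebra.FiniteType A B] (h : (minimalPrimes A).Finite) :
    (minimalPrimes B).Finite := by
  have := h.to_subtype
  refine Set.Finite.subset (Set.finite_iUnion
    (f := fun p : minimalPrimes A => haveI : p.1.IsPrime := p.2.1.1
      (fun r => r.comap Algebra.TensorProduct.includeRight.toRingHom) '' minimalPrimes (p.1.Fiber B))
    fun p =>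
    haveI : p.1.IsPrime := p.2.1.1
    haveI : IsNoetherianRing (p.1.Fiber B) := Algebra.FiniteType.isNoetherianRing p.1.ResidueField _
    (minimalPrimes.finite_of_isNoetherianRing (p.1.Fiber B)).image _) ?_
  intro q hq
  have hqp : q.IsPrime := hq.1.1
  have hp : q.comap (algebraMap A B) ∈ minimalPrimes A :=
    ⟨⟨inferInstance, bot_le⟩, fun r hr hle => by
      have := hr.1
      have hl : q.LiesOver (q.comap (algebraMap A B)) := ⟨rfl⟩
      obtain ⟨Q, hQq, hQp, hQl⟩ := Ideal.exists_ideal_le_liesOver_of_le (p := r)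
        (q := q.comap (algebraMap A B)) q hle
      rw [hQl.over]
      exact Ideal.comap_mono (hq.2 ⟨hQp, bot_le⟩ hQq)⟩
  have : (q.comap (algebraMap A B)).IsPrime := inferInstance
  refine Set.mem_iUnion.mpr ⟨⟨_, hp⟩, ?_⟩
  let e := PrimeSpectrum.primesOverOrderIsoFiber A B (q.comap (algebraMap A B))
  let q' : (q.comap (algebraMap A B)).primesOver B := ⟨q, hqp, ⟨rfl⟩⟩
  refine ⟨(e q').asIdeal, ⟨⟨(e q').2, bot_le⟩, fun r hr hle => ?_⟩, ?_⟩
  · have hle' : (⟨r, hr.1⟩ : PrimeSpectrum _) ≤ e q' := hle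
    have := (e.symm_apply_le).mpr hle'
    have h2 : q ≤ (e.symm ⟨r, hr.1⟩).1 := hq.2 ⟨(e.symm ⟨r, hr.1⟩).2.1, bot_le⟩ this
    have h3 : e q' ≤ ⟨r, hr.1⟩ := e.le_symm_apply.mp h2
    exact h3
  · exact (PrimeSpectrum.coe_primesOverOrderIsoFiber_symm_apply _ (e q')).symm.trans
      (by rw [e.symm_apply_apply])


/-- If f : Y → X is faithfully flat and locally of finite presentation and each quasi-compact open
subset of X has only finitely many irreducible components, the same is true of each quasi-compact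
open subset of Y. -/
theorem result {Y X : Scheme.{u}} (f : Y ⟶ X) [Flat f] [LocallyOfFinitePresentation f] [Surjective f]
    (hX : ∀ U : X.Opens, IsCompact (U : Set X) → (irreducibleComponents (U : Type u)).Finite)
    (V : Y.Opens) (hV : IsCompact (V : Set Y)) : (irreducibleComponents (V : Type u)).Finite := by
  have hpiece : ∀ y : V, ∃ (U : X.Opens) (W : Y.Opens), IsAffineOpen U ∧ IsAffineOpen W ∧
      y.1 ∈ W ∧ W ≤ V ⊓ f ⁻¹ᵁ U := by
    intro y
    obtain ⟨U, hU, hyU, -⟩ := exists_isAffineOpen_mem_and_subset (X := X) (x := f y.1) (U := ⊤) trivial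
    obtain ⟨W, hW, hyW, hWU⟩ := exists_isAffineOpen_mem_and_subset (X := Y) (x := y.1)
      (U := V ⊓ f ⁻¹ᵁ U) ⟨y.2, hyU⟩
    exact ⟨U, W, hU, hW, hyW, hWU⟩
  choose U W hU hW hyW hWU using hpiece
  obtain ⟨t, ht⟩ := hV.elim_finite_subcover (fun y => (W y : Set Y)) (fun y => (W y).2)
    (fun y hy => Set.mem_iUnion.mpr ⟨⟨y, hy⟩, hyW _⟩)
  refine comps_cover (ι := t) (W := fun y => ↥(W y.1))
    (fun y => Set.inclusion (fun x hx => (hWU y.1 hx).1)) (fun y => ?_) ?_ (fun y => ?_)
  · exact IsOpenEmbedding.of_comp _ V.2.isOpenEmbedding_subtypeVal (W y.1).2.isOpenEmbedding_subtypeVal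
  · intro x
    obtain ⟨y, hy, hxy⟩ := Set.mem_iUnion₂.mp (ht x.2)
    exact ⟨⟨y, hy⟩, ⟨x.1, hxy⟩, rfl⟩
  · set y0 := y.1
    have e : W y0 ≤ f ⁻¹ᵁ U y0 := fun x hx => (hWU y0 hx).2
    let φ := f.appLE (U y0) (W y0) e
    algebraize [φ.hom]
    have : Module.Flat Γ(X, U y0) Γ(Y, W y0) :=
      HasRingHomProperty.appLE (P := @Flat) f inferInstance ⟨_, hU y0⟩ ⟨_, hW y0⟩ e
    have : LocallyOfFiniteType f := inferInstance
    have : Algebra.FiniteType Γ(X, U y0) Γ(Y, W y0) :=
      HasRingHomProperty.appLE (P := @LocallyOfFiniteType) f inferInstance ⟨_, hU y0⟩ ⟨_, hW y0⟩ e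
    have h1 : (irreducibleComponents (Spec Γ(X, U y0))).Finite :=
      comps_open _ (hU y0).isoSpec.inv.isOpenEmbedding (hX _ (hU y0).isCompact)
    have h2 : (minimalPrimes Γ(X, U y0)).Finite := by
      rw [← PrimeSpectrum.vanishingIdeal_irreducibleComponents]; exact h1.image _
    have h3 := minimalPrimes_finite (B := Γ(Y, W y0)) h2
    have h4 : (irreducibleComponents (Spec Γ(Y, W y0))).Finite := by
      erw [← PrimeSpectrum.zeroLocus_minimalPrimes]; exact h3.image _
    exact comps_open _ (hW y0).isoSpec.hom.isOpenEmbedding h4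

end Groth.Agent.S13834
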