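import Groth.Statements.S13835
-- import your own Groth.Agent.* helpers here
import Groth.Agent.WeakNorm.AwnLoc

set_option autoImplicit false
universe u
open AlgebraicGeometry CategoryTheory
open ChowMon CategoryTheory.Limits

namespace Groth.Agent.S13835

/-- Let p : T' → T be a universal homeomorphism of separated schemes with T reduced and f' : T' → Y a
morphism (Y separated); if T has an open cover by affine opens U_i such that each restriction of f'
to p⁻¹(U_i) factors through p⁻¹(U_i) → U_i, then f' factors through p. -/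
theorem result {T' T Y : Scheme.{u}} (p : T' ⟶ T) (hp : FlatMor.IsUnivHomeo p) [IsReduced T]
    [T.IsSeparated] [T'.IsSeparated] [Y.IsSeparated] (f' : T' ⟶ Y)
    {ι : Type u} (U : ι → T.affineOpens) (hU : ⨆ i, (U i : T.Opens) = ⊤)
    (hloc : ∀ i, ∃ fi : ((U i : T.Opens) : Scheme.{u}) ⟶ Y, (p ⁻¹ᵁ (U i : T.Opens)).ι ≫ f' = (p ∣_ (U i : T.Opens)) ≫ fi) :
    ∃ f : T ⟶ Y, p ≫ f = f' := by
  classical
  choose fi hfi using hloc
  obtain ⟨-, -, hs⟩ := (Groth.Agent.WeakNorm.isUnivHomeo_iff p).mp hp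
  haveI : Surjective p := hs
  let 𝒰 : T.OpenCover := T.openCoverOfIsOpenCover (fun i => (U i : T.Opens)) hU
  have hagree : ∀ i j, pullback.fst (𝒰.f i) (𝒰.f j) ≫ fi i = pullback.snd _ _ ≫ fi j := by
    intro i j
    let q : pullback (𝒰.f i) (𝒰.f j) ⟶ T := pullback.fst (𝒰.f i) (𝒰.f j) ≫ 𝒰.f i
    haveI : IsReduced (pullback (𝒰.f i) (𝒰.f j)) := isReduced_of_isOpenImmersion q
    haveI : Surjective (pullback.snd p q) := MorphismProperty.pullback_snd _ _ inferInstance
    refine ext_of_isDominant (pullback.snd p q) ?_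
    let li := (isPullback_morphismRestrict p (U i : T.Opens)).lift
      (pullback.snd p q ≫ pullback.fst (𝒰.f i) (𝒰.f j)) (pullback.fst p q) (by
        rw [pullback.condition, Category.assoc]; rfl)
    let lj := (isPullback_morphismRestrict p (U j : T.Opens)).lift
      (pullback.snd p q ≫ pullback.snd (𝒰.f i) (𝒰.f j)) (pullback.fst p q) (by
        rw [pullback.condition]
        show _ = pullback.snd p q ≫ q
        rw [Category.assoc]
        exact congrArg (pullback.snd p q ≫ ·) pullback.condition.symm)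
    have e1 : pullback.snd p q ≫ pullback.fst (𝒰.f i) (𝒰.f j) ≫ fi i = pullback.fst p q ≫ f' := by
      rw [← Category.assoc]
      calc (pullback.snd p q ≫ pullback.fst (𝒰.f i) (𝒰.f j)) ≫ fi i
          = (li ≫ (p ∣_ (U i : T.Opens))) ≫ fi i :=
            congrArg (· ≫ fi i) ((isPullback_morphismRestrict p (U i : T.Opens)).lift_fst _ _ _).symm
        _ = li ≫ (p ⁻¹ᵁ (U i : T.Opens)).ι ≫ f' := by rw [Category.assoc, hfi i]
        _ = _ := by
          rw [← Category.assoc]
          exact congrArg (· ≫ f') ((isPullback_morphismRestrict p (U i : T.Opens)).lift_snd _ _ _)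
    have e2 : pullback.snd p q ≫ pullback.snd (𝒰.f i) (𝒰.f j) ≫ fi j = pullback.fst p q ≫ f' := by
      rw [← Category.assoc]
      calc (pullback.snd p q ≫ pullback.snd (𝒰.f i) (𝒰.f j)) ≫ fi j
          = (lj ≫ (p ∣_ (U j : T.Opens))) ≫ fi j :=
            congrArg (· ≫ fi j) ((isPullback_morphismRestrict p (U j : T.Opens)).lift_fst _ _ _).symm
        _ = lj ≫ (p ⁻¹ᵁ (U j : T.Opens)).ι ≫ f' := by rw [Category.assoc, hfi j]
        _ = _ := by
          rw [← Category.assoc]
          exact congrArg (· ≫ f') ((isPullback_morphismRestrict p (U j : T.Opens)).lift_snd _ _ _)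
    exact e1.trans e2.symm
  refine ⟨𝒰.glueMorphisms fi hagree, ?_⟩
  refine Scheme.hom_ext_of_forall _ _ fun x => ?_
  obtain ⟨i, hi⟩ := TopologicalSpace.Opens.mem_iSup.1 (hU ▸ TopologicalSpace.Opens.mem_top (p x))
  refine ⟨p ⁻¹ᵁ (U i : T.Opens), hi, ?_⟩
  rw [← morphismRestrict_ι_assoc, hfi i]
  exact congrArg ((p ∣_ (U i : T.Opens)) ≫ ·) (𝒰.ι_glueMorphisms fi hagree i)

end Groth.Agent.S13835
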