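import Groth.Statements.S13839
-- import your own Groth.Agent.* helpers here
import Groth.Agent.SymInsep.Basic
import Groth.Agent.WeakNorm.SnNormal

set_option autoImplicit false
universe u
open AlgebraicGeometry
open scoped TensorProduct
open ChowMon

namespace Groth.Agent.S13839


open Groth.Agent

/-- Elements with trivial residue values descend along universal homeomorphisms onto seminormal rings. -/
theorem mem_range_of_residue {C C' : Type u} [CommRing C] [CommRing C'] [_root_.IsReduced C'] {ψ : C →+* C'}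
    (hC : HTop.IsSeminormalRing C) (hψ : WeakNorm.UH ψ) (c : C')
    (hc : ∀ q : Ideal C', q.IsPrime → ∃ t a : C, ψ t ∉ q ∧ ψ t * c - ψ a ∈ q) : c ∈ ψ.range := by
  classical
  letI := ψ.toAlgebra
  obtain ⟨hint, hinj', hsurj⟩ := EtaPtLib.isIntegral_of_isUnivHomeo ψ hψ
  have := WeakNorm.isReduced_of_isSeminormalRing hC
  have hinj : Function.Injective ψ := by
    rw [injective_iff_map_eq_zero]
    intro a ha
    refine IsNilpotent.eq_zero (nilpotent_iff_mem_prime.mpr fun P hP => ?_)
    obtain ⟨Q, hQ⟩ := hsurj ⟨P, hP⟩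
    have : a ∈ (PrimeSpectrum.comap ψ Q).asIdeal := by
      show ψ a ∈ Q.asIdeal
      rw [ha]; exact zero_mem _
    rwa [hQ] at this
  let E : Subalgebra C C' :=
    { carrier := {y | ∀ q : Ideal C', q.IsPrime → ∃ t a : C, ψ t ∉ q ∧ ψ t * y - ψ a ∈ q}
      mul_mem' := by
        intro y z hy hz q hq
        obtain ⟨t, a, ht, hta⟩ := hy q hq
        obtain ⟨s, b, hs, hsb⟩ := hz q hq
        refine ⟨t * s, a * b, by rw [map_mul]; exact fun h => (hq.mem_or_mem h).elim ht hs, ?_⟩
        rw [map_mul, map_mul, show ψ t * ψ s * (y * z) - ψ a * ψ b =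
          (ψ t * y - ψ a) * (ψ s * z) + ψ a * (ψ s * z - ψ b) by ring]
        exact add_mem (Ideal.mul_mem_right _ _ hta) (Ideal.mul_mem_left _ _ hsb)
      add_mem' := by
        intro y z hy hz q hq
        obtain ⟨t, a, ht, hta⟩ := hy q hq
        obtain ⟨s, b, hs, hsb⟩ := hz q hq
        refine ⟨t * s, a * s + t * b, by rw [map_mul]; exact fun h => (hq.mem_or_mem h).elim ht hs, ?_⟩
        rw [map_add, map_mul, map_mul, map_mul, show ψ t * ψ s * (y + z) - (ψ a * ψ s + ψ t * ψ b) =
          (ψ t * y - ψ a) * ψ s + ψ t * (ψ s * z - ψ b) by ring]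
        exact add_mem (Ideal.mul_mem_right _ _ hta) (Ideal.mul_mem_left _ _ hsb)
      algebraMap_mem' := fun r q hq => ⟨1, r, by
        rw [map_one]; exact fun h => hq.ne_top ((Ideal.eq_top_iff_one q).2 h), by
        show ψ 1 * ψ r - ψ r ∈ q
        simp⟩ }
  have hci : Algebra.IsIntegral C C' := ⟨hint⟩
  have hE : Algebra.IsIntegral C E := ⟨fun e => (isIntegral_algHom_iff E.val Subtype.val_injective).1 (hci.1 _)⟩
  have : _root_.IsReduced E := isReduced_of_injective E.val Subtype.val_injective
  have hlift : ∀ Q : Ideal E, Q.IsPrime → ∃ q : Ideal C', q.IsPrime ∧ q.comap E.val = Q := fun Q hQ => by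
    have : Algebra.IsIntegral E C' := Algebra.IsIntegral.tower_top C
    obtain ⟨q, -, hq, hqQ⟩ := Ideal.exists_ideal_over_prime_of_isIntegral (S := C') Q ⊥
      (fun z hz => by rw [show z = 0 from Subtype.ext hz]; exact zero_mem _)
    exact ⟨q, hq, hqQ⟩
  have htop : (⊥ : Subalgebra C E) = ⊤ := by
    refine Tower.eq_top_of_closed (fun b hb2 hb3 => ?_) (fun Q Q' hQ hQ' h => ?_) fun Q hQ d => ?_
    · obtain ⟨x, hx⟩ := Algebra.mem_bot.1 hb2
      obtain ⟨y, hy⟩ := Algebra.mem_bot.1 hb3
      have hx' : ψ x = (b : C') ^ 2 := congrArg Subtype.val hx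
      have hy' : ψ y = (b : C') ^ 3 := congrArg Subtype.val hy
      obtain ⟨a, ⟨h1, h2⟩, -⟩ := hC x y (hinj (by rw [map_pow, map_pow, hx', hy']; ring))
      refine Algebra.mem_bot.2 ⟨a, Subtype.ext (WeakNorm.eq_of_sq_eq_of_cube_eq ?_ ?_)⟩
      · show ψ a ^ 2 = _
        rw [← map_pow, ← h1, hx']
      · show ψ a ^ 3 = _
        rw [← map_pow, ← h2, hy']
    · obtain ⟨q, hq, rfl⟩ := hlift Q hQ
      obtain ⟨q', hq', rfl⟩ := hlift Q' hQ'
      have heq : (⟨q, hq⟩ : PrimeSpectrum C') = ⟨q', hq'⟩ := hinj' (PrimeSpectrum.ext h)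
      rw [PrimeSpectrum.mk.injEq] at heq
      subst heq
      rfl
    · obtain ⟨q, hq, rfl⟩ := hlift Q hQ
      obtain ⟨t, a, ht, hta⟩ := d.2 q hq
      refine ⟨t, a, 1, ht, ?_, Or.inl rfl⟩
      rw [pow_one]
      exact hta
  obtain ⟨a, ha⟩ := Algebra.mem_bot.1 (show (⟨c, hc⟩ : E) ∈ (⊥ : Subalgebra C E) from htop ▸ Algebra.mem_top)
  exact ⟨a, congrArg Subtype.val ha⟩

/-- Let C be a Noetherian seminormal A-algebra, g : C → C' an A-algebra map with C' reduced such that
Spec C' → Spec C is a finite universal homeomorphism, and d ≥ 1 an integer divisible by every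
residue degree [k(q) : k(g⁻¹q)]; let B be a flat A-algebra and φ : B → C' an A-algebra map. Then for
every symmetric tensor x ∈ TS^d_A(B) the element φ(m_d(x)) of C', m_d : B^{⊗d} → B the
multiplication, lies in the image of C. (The published statement does not assume C' reduced and is
false without it: take A = C = k a field, C' = k[ε]/(ε²), d = 1, B = k[t] and φ(t) = ε; then ε is
not in k.) -/
theorem result (A C C' B : Type u) [CommRing A] [CommRing C] [CommRing C'] [CommRing B]
    [Algebra A C] [Algebra A C'] [Algebra A B] [IsNoetherianRing C] (hC : HTop.IsSeminormalRing C)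
    (g : C →ₐ[A] C') [IsReduced C'] (hfin : g.toRingHom.Finite)
    (hg : FlatMor.IsUnivHomeo (Spec.map (CommRingCat.ofHom g.toRingHom)))
    (d : ℕ) (hd : 0 < d)
    (hdeg : ∀ q : PrimeSpectrum C',
      @Module.finrank (PrimeSpectrum.comap g.toRingHom q).asIdeal.ResidueField q.asIdeal.ResidueField _ _
          (Ideal.ResidueField.map (PrimeSpectrum.comap g.toRingHom q).asIdeal q.asIdeal g.toRingHom
            rfl).toAlgebra.toModule ∣ d)
    [Module.Flat A B] (φ : B →ₐ[A] C') (x : ⨂[A] _ : Fin d, B) (hx : x ∈ SymTen.TS A B d) :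
    φ (PiTensorProduct.lift (MultilinearMap.mkPiAlgebra A (Fin d) B) x) ∈ g.range := by
  classical
  refine mem_range_of_residue (ψ := g.toRingHom) hC hg _ fun q hq => ?_
  let p : Ideal C := q.comap g.toRingHom
  have hp : p.IsPrime := Ideal.comap_isPrime _ _
  letI : Algebra p.ResidueField q.ResidueField := (Ideal.ResidueField.map p q g.toRingHom rfl).toAlgebra
  have hdvd : Module.finrank p.ResidueField q.ResidueField ∣ d := hdeg ⟨q, hq⟩
  have : FiniteDimensional p.ResidueField q.ResidueField := Module.finite_of_finrank_pos <|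
    Nat.pos_of_ne_zero fun h => hd.ne' (Nat.eq_zero_of_zero_dvd (h ▸ hdvd))
  have hmap : ∀ c : C, algebraMap p.ResidueField q.ResidueField (algebraMap C p.ResidueField c) =
      algebraMap C' q.ResidueField (g c) := fun c => by
    show Ideal.ResidueField.map p q g.toRingHom rfl (algebraMap C p.ResidueField c) = _
    simp
  have : IsScalarTower A p.ResidueField q.ResidueField := IsScalarTower.of_algebraMap_eq fun a => by
    rw [IsScalarTower.algebraMap_apply A C p.ResidueField, hmap, AlgHom.commutes,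
      ← IsScalarTower.algebraMap_apply A C' q.ResidueField]
  have hsub : Subsingleton (q.ResidueField →ₐ[p.ResidueField] AlgebraicClosure q.ResidueField) := by
    refine ⟨fun f f' => ?_⟩
    have h : f.toRingHom.comp (algebraMap C' q.ResidueField) =
        f'.toRingHom.comp (algebraMap C' q.ResidueField) := by
      refine WeakNorm.UH.hom_ext (ψ := g.toRingHom) hg (RingHom.ext fun c => ?_)
      show f (algebraMap C' q.ResidueField (g c)) = f' (algebraMap C' q.ResidueField (g c))
      rw [← hmap, AlgHom.commutes, AlgHom.commutes]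
    refine AlgHom.ext fun z => ?_
    obtain ⟨u, v, hv, rfl⟩ := IsFractionRing.div_surjective (C' ⧸ q) z
    obtain ⟨u, rfl⟩ := Ideal.Quotient.mk_surjective u
    obtain ⟨v, rfl⟩ := Ideal.Quotient.mk_surjective v
    rw [map_div₀, map_div₀]
    congr 1
    · exact RingHom.congr_fun h u
    · exact RingHom.congr_fun h v
  obtain ⟨e, a, he, hrank, hpow⟩ := SymInsep.exists_pow_mem hsub
  obtain ⟨y, hy⟩ := SymInsep.lift_mem (K := p.ResidueField) (L := q.ResidueField) e a d (hrank ▸ hdvd) hpow
    ((IsScalarTower.toAlgHom A C' q.ResidueField).comp φ) x (fun σ => hx σ)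
  obtain ⟨u, v, hv, rfl⟩ := IsFractionRing.div_surjective (C ⧸ p) y
  obtain ⟨u, rfl⟩ := Ideal.Quotient.mk_surjective u
  obtain ⟨v, rfl⟩ := Ideal.Quotient.mk_surjective v
  have hv' : g v ∉ q := fun hmem => nonZeroDivisors.ne_zero hv (Ideal.Quotient.eq_zero_iff_mem.2 hmem)
  refine ⟨v, u, hv', ?_⟩
  rw [← Ideal.algebraMap_residueField_eq_zero, map_sub, map_mul, sub_eq_zero]
  have hv0 : algebraMap C' q.ResidueField (g v) ≠ 0 := fun h => hv' (Ideal.algebraMap_residueField_eq_zero.1 h)
  change algebraMap p.ResidueField q.ResidueField (algebraMap C p.ResidueField u / algebraMap C p.ResidueField v) =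
    algebraMap C' q.ResidueField (φ (PiTensorProduct.lift (MultilinearMap.mkPiAlgebra A (Fin d) B) x)) at hy
  rw [map_div₀, hmap, hmap] at hy
  show algebraMap C' q.ResidueField (g v) * _ = algebraMap C' q.ResidueField (g u)
  rw [← hy, mul_div_cancel₀ _ hv0]

end Groth.Agent.S13839
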