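import Groth.Statements.S13841
import Groth.Agent.Brauer.Period

set_option autoImplicit false
universe u v
open scoped TensorProduct
open Brauer

namespace Groth.Agent.S13841

/-- Let k be a field and A a finite-dimensional central simple k-algebra of period n. Then A has index n
if and only if there is a finite field extension k' of k of degree coprime to n such that the index
of the k'-algebra k' ⊗_k A divides n. (The published statement is for a class of period n in H²(X,
G_m) on a scheme X over k; this row is the case where X is the spectrum of k.) -/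
theorem result (k : Type u) [Field k] (A : Type v) [Ring A] [Algebra k A]
    [Algebra.IsCentral k A] [IsSimpleRing A] [FiniteDimensional k A] (n : ℕ) (hper : CSAGal.IsPeriod k A n) :
    CSAGal.IsIndex k A n ↔
      ∃ (k' : Type u) (_ : Field k') (_ : Algebra k k') (_ : FiniteDimensional k k'),
        Nat.Coprime n (Module.finrank k k') ∧ ∃ d' : ℕ, CSAGal.IsIndex k' (k' ⊗[k] A) d' ∧ d' ∣ n := by
  open Groth.Agent.Brauer in
  have hA : IsCSA k A := ⟨inferInstance, inferInstance, inferInstance⟩
  open Groth.Agent.Brauer in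
  obtain ⟨hn, hn'⟩ := period_spec hA hper
  constructor
  · intro hd
    open Groth.Agent.Brauer in
    obtain ⟨d', hd'⟩ := exists_isIndex (hA.baseChange k)
    refine ⟨k, inferInstance, inferInstance, inferInstance, ?_, d', hd', ?_⟩
    · rw [Module.finrank_self]; exact Nat.coprime_one_right n
    · exact ((((Groth.Agent.Brauer.indDvd_iff_of_isIndex (hA.baseChange k) hd').2 n).1
        ((((Groth.Agent.Brauer.indDvd_iff_of_isIndex hA hd).2 n).2 ⟨hn, dvd_rfl⟩).baseChange k))).2
  · rintro ⟨k', _, _, _, hcop, d', hd', hdn⟩
    open Groth.Agent.Brauer in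
    obtain ⟨d, hd⟩ := exists_isIndex hA
    open Groth.Agent.Brauer in
    obtain ⟨hd0, hiff⟩ := indDvd_iff_of_isIndex hA hd
    have h1 : d ∣ n * Module.finrank k k' := ((hiff _).1
      ((((Groth.Agent.Brauer.indDvd_iff_of_isIndex (hA.baseChange k') hd').2 n).2 ⟨hn, hdn⟩).restrict k')).2
    have hco : Nat.Coprime d (Module.finrank k k') := Nat.coprime_of_dvd fun p hp hpd hpl =>
      hp.ne_one (Nat.dvd_one.1 (hcop ▸ Nat.dvd_gcd
        (Groth.Agent.Brauer.prime_dvd_exponent hA hiff hd0 hn ((hn' n).2 dvd_rfl) hp hpd) hpl))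
    rwa [Nat.dvd_antisymm ((hn' d).1 (Groth.Agent.Brauer.split_of_indDvd hA ((hiff d).2 ⟨hd0, dvd_rfl⟩)))
      (hco.dvd_of_dvd_mul_right h1)]

end Groth.Agent.S13841
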