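import Groth.Statements.S13848
import Mathlib.RingTheory.SimpleRing.Basic
import Mathlib.RingTheory.TwoSidedIdeal.Basic
import Mathlib.Tactic

set_option autoImplicit false
set_option linter.style.haveILetI false

universe u v
open TwSh

namespace Groth.Agent.S13848

/-- Let A be a ring with A/J a simple left-Artinian ring, J the Jacobson radical, and let P be a
non-zero finitely generated projective left A-module. An A-linear automorphism u of P which commutes
with every A-linear endomorphism of P (equivalently, induces the identity on End_A(P) by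
conjugation) is scalar multiplication by a unique central element a of A: u(x) = a·x for all x ∈ P,
and a is determined by u. (So the automorphisms of P acting trivially on End_A(P) are exactly the
central units of A acting by scalars; the published assertion does not exclude P = 0, where
uniqueness fails.) -/
theorem result (A : Type u) [Ring A] [IsSimpleRing (A ⧸ Ring.jacobson A)] [IsArtinianRing (A ⧸ Ring.jacobson A)] (P : Type v) [AddCommGroup P] [Module A P] [Module.Finite A P] [Module.Projective A P] [Nontrivial P] (u : P ≃ₗ[A] P) (hu : ∀ f : Module.End A P, (u : P →ₗ[A] P) ∘ₗ f = f ∘ₗ (u : P →ₗ[A] P)) : ∃! a : A, (∀ b : A, a * b = b * a) ∧ ∀ x : P, u x = a • x := by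
  classical
  let s : Set A := {r | ∃ (f : P →ₗ[A] A) (x : P), f x = r}
  let T : Ideal A := Ideal.span s
  have hright : ∀ r ∈ T, ∀ b : A, r * b ∈ T := by
    intro r hr b
    induction hr using Submodule.span_induction with
    | mem r hr =>
      obtain ⟨f, x, rfl⟩ := hr
      exact Ideal.subset_span ⟨{ toFun := fun y => f y * b, map_add' := by simp [add_mul],
                                 map_smul' := by simp [mul_assoc] }, x, rfl⟩
    | zero => simp
    | add x y _ _ hx hy => rw [add_mul]; exact add_mem hx hy
    | smul c x _ hx => rw [smul_eq_mul, mul_assoc]; exact T.mul_mem_left c hx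
  let J := Ring.jacobson A
  let q := Ideal.Quotient.mk J
  let T' : TwoSidedIdeal (A ⧸ J) := TwoSidedIdeal.mk' (q '' T) ⟨0, zero_mem _, map_zero _⟩
    (by rintro _ _ ⟨a, ha, rfl⟩ ⟨b, hb, rfl⟩; exact ⟨a + b, add_mem ha hb, map_add _ _ _⟩)
    (by rintro _ ⟨a, ha, rfl⟩; exact ⟨-a, neg_mem ha, map_neg _ _⟩)
    (by
      rintro c _ ⟨a, ha, rfl⟩
      obtain ⟨c, rfl⟩ := Ideal.Quotient.mk_surjective c
      exact ⟨c * a, T.mul_mem_left c ha, map_mul _ _ _⟩)
    (by
      rintro _ c ⟨a, ha, rfl⟩
      obtain ⟨c, rfl⟩ := Ideal.Quotient.mk_surjective c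
      exact ⟨a * c, hright a ha c, map_mul _ _ _⟩)
  have hT' : ∀ y, y ∈ T' ↔ y ∈ q '' T := fun y => TwoSidedIdeal.mem_mk' _ _ _ _ _ _ y
  obtain ⟨σ, hσ⟩ := Module.projective_def'.1 (inferInstance : Module.Projective A P)
  have htop : T = ⊤ := by
    rcases eq_bot_or_eq_top T' with h | h
    · exfalso
      have hTJ : ∀ a ∈ T, a ∈ J := fun a ha => by
        have : q a ∈ T' := (hT' _).2 ⟨a, ha, rfl⟩
        rw [h, TwoSidedIdeal.mem_bot] at this
        exact Ideal.Quotient.eq_zero_iff_mem.1 this
      have hle : (⊤ : Submodule A P) ≤ J • (⊤ : Submodule A P) := by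
        intro x _
        have hx : Finsupp.linearCombination A id (σ x) = x := LinearMap.congr_fun hσ x
        rw [← hx, Finsupp.linearCombination_apply]
        refine Submodule.sum_mem _ fun y _ => Submodule.smul_mem_smul (hTJ _ ?_) Submodule.mem_top
        exact Ideal.subset_span ⟨(Finsupp.lapply y).comp σ, x, rfl⟩
      exact (Submodule.jacobson_smul_lt_top (⊤ : Submodule A P)).ne (top_le_iff.1 hle)
    · have h1 : (1 : A ⧸ J) ∈ q '' T := (hT' 1).1 (h ▸ TwoSidedIdeal.mem_top (A ⧸ J))
      obtain ⟨a, ha, h1⟩ := h1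
      have hj : a - 1 ∈ Ring.jacobson A := by
        refine Ideal.Quotient.eq_zero_iff_mem.1 ?_
        change q (a - 1) = 0
        rw [map_sub, h1, map_one, sub_self]
      by_contra hne
      obtain ⟨M, hM, hTM⟩ := Ideal.exists_le_maximal T hne
      have h2 : a - 1 ∈ M := (sInf_le (show IsCoatom M from hM.out) : Ring.jacobson A ≤ M) hj
      refine hM.ne_top ((Ideal.eq_top_iff_one M).2 ?_)
      simpa using sub_mem (hTM ha) h2
  have hrep : ∀ r ∈ T, ∃ a : A, ∀ x : P, u (r • x) = a • x := by
    intro r hr
    induction hr using Submodule.span_induction with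
    | mem r hr =>
      obtain ⟨f, y, rfl⟩ := hr
      exact ⟨f (u y), fun x => LinearMap.congr_fun (hu (f.smulRight x)) y⟩
    | zero => exact ⟨0, fun x => by simp⟩
    | add x y _ _ hx hy =>
      obtain ⟨a, ha⟩ := hx
      obtain ⟨b, hb⟩ := hy
      exact ⟨a + b, fun z => by rw [add_smul, add_smul, map_add, ha, hb]⟩
    | smul c x _ hx =>
      obtain ⟨a, ha⟩ := hx
      exact ⟨c * a, fun z => by rw [smul_eq_mul, mul_smul, mul_smul, map_smul, ha]⟩
  have hfaith : ∀ c : A, (∀ x : P, c • x = 0) → c = 0 := by
    intro c hc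
    have : ∀ r ∈ T, c * r = 0 := by
      intro r hr
      have : ∀ (b : A) (f : P →ₗ[A] A) (x : P), c * (b * f x) = 0 := fun b f x => by
        have := congrArg f (hc (b • x))
        simpa [mul_assoc] using this
      have key : ∀ b, c * (b * r) = 0 := by
        induction hr using Submodule.span_induction with
        | mem r hr => obtain ⟨f, y, rfl⟩ := hr; exact fun b => this b f y
        | zero => simp
        | add x y _ _ hx hy => intro b; rw [mul_add, mul_add, hx, hy, add_zero]
        | smul d x _ hx => intro b; rw [smul_eq_mul, ← mul_assoc b]; exact hx _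
      simpa using key 1
    simpa using this 1 (htop ▸ Submodule.mem_top)
  obtain ⟨a, ha⟩ := hrep 1 (htop ▸ Submodule.mem_top)
  simp only [one_smul] at ha
  refine ⟨a, ⟨fun b => ?_, ha⟩, fun a' ha' => ?_⟩
  · refine sub_eq_zero.1 (hfaith _ fun x => ?_)
    rw [sub_smul, mul_smul, mul_smul, ← ha, ← ha, map_smul, sub_self]
  · refine sub_eq_zero.1 (hfaith _ fun x => ?_)
    rw [sub_smul, ← ha, ← ha'.2, sub_self]

end Groth.Agent.S13848
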