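import Groth.Statements.S1385
import Groth.Agent.FibCrit.Thickening
import Groth.Agent.ThickProp.Deform

set_option autoImplicit false
universe u
open FlatMor

namespace Groth.Agent.S1385

open AlgebraicGeometry CategoryTheory Limits in
/-- Let S ⟶ S' be an arbitrary thickening, let X' ⟶ Y' be a morphism of schemes over S' with X' flat and
locally of finite presentation over S' and Y' locally of finite type over S', and let X ⟶ Y be its
base change to S. Then X ⟶ Y is étale if and only if X' ⟶ Y' is. -/
theorem result {X X' Y Y' S S' : Scheme.{u}} (iX : X ⟶ X') (iY : Y ⟶ Y') (iS : S ⟶ S')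
    (f : X ⟶ Y) (f' : X' ⟶ Y') (g : Y ⟶ S) (g' : Y' ⟶ S')
    (hS : MoreMor.IsThickening iS) (hcX : IsPullback iX (f ≫ g) (f' ≫ g') iS) (hcY : IsPullback iY g g' iS)
    (w : iX ≫ f' = f ≫ iY) [Flat (f' ≫ g')] [LocallyOfFinitePresentation (f' ≫ g')] [LocallyOfFiniteType g'] :
    Etale f ↔ Etale f' := by
  obtain ⟨_, _⟩ := hS
  have hc := Groth.Agent.ThickProp.isPullback_deform hcX hcY w
  refine ⟨fun h => Groth.Agent.FibCrit.LFT.etale_of_fibres (h := f' ≫ g') rfl (Groth.Agent.FibCrit.prop_fibre_of_thickening hcY hc @Etale h), fun h => MorphismProperty.of_isPullback (P := @Etale) hc h⟩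

end Groth.Agent.S1385
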