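import Groth.Statements.S13860
import Mathlib.GroupTheory.Sylow
import Mathlib.Tactic

set_option autoImplicit false
set_option linter.style.haveILetI false

universe u v w
open ModRep

namespace Groth.Agent.S13860

/-- For k a field of characteristic p > 0, G a finite group and P a Sylow p-subgroup of G, a short exact
sequence of k[G]-modules has a k[G]-linear splitting exactly when it has a k[P]-linear one. Stated
here for the surjection of the sequence: a G-equivariant k-linear map g : B → C between k-linear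
representations of G admits a G-equivariant k-linear section if and only if it admits a
P-equivariant k-linear section. -/
theorem result {k : Type u} [Field k] (p : ℕ) [Fact p.Prime]
    [CharP k p] {G : Type v} [Group G] [Finite G] (P : Sylow p G)
    {B C : Type w} [AddCommGroup B] [Module k B] [AddCommGroup C] [Module k C]
    (ρB : Representation k G B) (ρC : Representation k G C)
    (g : B →ₗ[k] C) (hg : ∀ x : G, g ∘ₗ ρB x = ρC x ∘ₗ g) :
    (∃ s : C →ₗ[k] B, g ∘ₗ s = LinearMap.id ∧ ∀ x : G, s ∘ₗ ρC x = ρB x ∘ₗ s) ↔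
      (∃ s : C →ₗ[k] B, g ∘ₗ s = LinearMap.id ∧ ∀ x : G, x ∈ P → s ∘ₗ ρC x = ρB x ∘ₗ s) := by
  classical
  refine ⟨fun ⟨s, h1, h2⟩ => ⟨s, h1, fun x _ => h2 x⟩, fun ⟨s, h1, h2⟩ => ?_⟩
  let H : Subgroup G := P
  haveI := Fintype.ofFinite (G ⧸ H)
  let T : G → (C →ₗ[k] B) := fun x => ρB x ∘ₗ s ∘ₗ ρC x⁻¹
  have hT : ∀ x y : G, x⁻¹ * y ∈ H → T x = T y := by
    intro x y hxy
    have h := h2 _ hxy
    refine LinearMap.ext fun c => ?_
    have h' : s (ρC (x⁻¹ * y) (ρC y⁻¹ c)) = ρB (x⁻¹ * y) (s (ρC y⁻¹ c)) := LinearMap.congr_fun h _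
    simp only [map_mul, Module.End.mul_apply, Representation.self_inv_apply] at h'
    simp only [T, LinearMap.comp_apply, h', Representation.self_inv_apply]
  let S : G ⧸ H → (C →ₗ[k] B) := fun q => Quotient.liftOn' q T fun a b hab =>
    hT a b (QuotientGroup.leftRel_apply.1 hab)
  let n := Fintype.card (G ⧸ H)
  have hn : (n : k) ≠ 0 := by
    intro h0
    have hi : ¬ p ∣ H.index := P.not_dvd_index
    rw [Subgroup.index_eq_card, Nat.card_eq_fintype_card] at hi
    exact hi ((CharP.cast_eq_zero_iff k p n).1 h0)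
  refine ⟨(n : k)⁻¹ • ∑ q, S q, ?_, fun x => ?_⟩
  · refine LinearMap.ext fun c => ?_
    simp only [LinearMap.comp_apply, LinearMap.smul_apply, map_smul, LinearMap.coe_sum,
      Finset.sum_apply, map_sum]
    have : ∀ q, g (S q c) = c := by
      intro q
      induction q using Quotient.inductionOn' with
      | h a =>
        change g (ρB a (s (ρC a⁻¹ c))) = c
        have ha : g (ρB a (s (ρC a⁻¹ c))) = ρC a (g (s (ρC a⁻¹ c))) := LinearMap.congr_fun (hg a) _
        rw [ha, show g (s (ρC a⁻¹ c)) = ρC a⁻¹ c from LinearMap.congr_fun h1 _,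
          Representation.self_inv_apply]
    simp [this, Finset.card_univ, n, ← Nat.cast_smul_eq_nsmul k, smul_smul, inv_mul_cancel₀ hn]
  · refine LinearMap.ext fun c => ?_
    simp only [LinearMap.comp_apply, LinearMap.smul_apply, map_smul, LinearMap.coe_sum,
      Finset.sum_apply, map_sum]
    congr 1
    refine (Fintype.sum_equiv (MulAction.toPerm x) _ _ fun q => ?_).symm
    induction q using Quotient.inductionOn' with
    | h a =>
      change ρB x (ρB a (s (ρC a⁻¹ c))) = ρB (x * a) (s (ρC (x * a)⁻¹ (ρC x c)))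
      simp [map_mul, mul_inv_rev, Representation.inv_self_apply]

end Groth.Agent.S13860
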