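import Groth.Statements.S13863
import Mathlib.RingTheory.PowerSeries.Substitution
import Mathlib.RingTheory.PowerSeries.Inverse
import Mathlib.Algebra.CharP.Lemmas
import Mathlib.Algebra.CharP.Algebra
import Mathlib.FieldTheory.IsAlgClosed.Basic
import Mathlib.Tactic.LinearCombination

set_option autoImplicit false
universe u
open ASCover

namespace Groth.Agent.S13863

open PowerSeries

section
variable {k : Type u} [Field k]

theorem eq_of_pow_eq {n : ℕ} (hn : (n : k) ≠ 0) {x y : PowerSeries k} (hx : constantCoeff x = 1)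
    (hy : constantCoeff y = 1) (h : x ^ n = y ^ n) : x = y := by
  have h1 : (∑ i ∈ Finset.range n, x ^ i * y ^ (n - 1 - i)) * (x - y) = 0 := by rw [geom_sum₂_mul, h, sub_self]
  refine sub_eq_zero.1 ((mul_eq_zero.1 h1).resolve_left fun h2 => hn ?_)
  have := congrArg constantCoeff h2
  simpa [hx, hy] using this

theorem dvd_sub_one {n N : ℕ} (hn : (n : k) ≠ 0) {x : PowerSeries k} (hx : constantCoeff x = 1)
    (h : X ^ N ∣ x ^ n - 1) : X ^ N ∣ x - 1 := by
  have hu : IsUnit (∑ i ∈ Finset.range n, x ^ i) := by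
    rw [isUnit_iff_constantCoeff]; simpa [hx, isUnit_iff_ne_zero] using hn
  rw [← mul_geom_sum] at h
  obtain ⟨w, hw⟩ := hu.exists_right_inv
  have := h.mul_right w
  rwa [mul_assoc, hw, mul_one] at this

theorem constantCoeff_substAlg {a : PowerSeries k} (ha : HasSubst a) (ha0 : constantCoeff a = 0) (f : PowerSeries k) :
    constantCoeff (substAlgHom ha f : PowerSeries k) = constantCoeff f := by
  conv_lhs => rw [eq_X_mul_shift_add_const f]
  rw [map_add, map_mul, map_add, map_mul, substAlgHom_X, ha0, zero_mul, zero_add,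
    show substAlgHom ha (C (constantCoeff f)) = C (constantCoeff f) from (substAlgHom ha).commutes _, constantCoeff_C]

end

/-- For k an algebraically closed field of characteristic p > 0, n ≥ 1 an integer prime to p, and u ∈
k[[t]] the power series with constant term 1 and u^n · (1 + t^n) = 1, the substitution σ(t) = t·u is
a k-automorphism of k((t)) of order p and, for an integer a, σ acts on the fractional ideal I =
t^a·k[[t]]; transported to B = k[[t]] along h ↦ t^a·h this action is h ↦ u^a · h(t·u). For an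
integer i with a − n ≤ i ≤ a − 1 the element σ(t^i) − t^i lies in I, so t^i defines a class in
H^1(⟨σ⟩, I); the classes with p ∤ i form a basis of this H^1, and when p divides i the class
vanishes, i.e. σ(t^i) − t^i = σ(w) − w for some w ∈ I. (The published statement of this vanishing is
printed with the condition p ∤ i, which contradicts the basis assertion of the same lemma; its proof
treats p | i, and this row states that case.) In transported form, with m = a − i ∈ [1, n] and c ∈
k[[t]] defined by t^m · c = u^i − 1: there is h ∈ k[[t]] with u^a · h(t·u) − h = c. -/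
theorem result {k : Type u} [Field k] [IsAlgClosed k] (p : ℕ)
    [Fact p.Prime] [CharP k p] (n : ℕ) (hn : 0 < n) (hpn : ¬ p ∣ n)
    (u : PowerSeries k) (hu1 : PowerSeries.constantCoeff u = 1)
    (hun : u ^ n * (1 + PowerSeries.X ^ n) = 1) (hu : IsUnit u) (a : ℤ) (m : ℕ)
    (hm1 : 1 ≤ m) (hmn : m ≤ n) (hdvd : (p : ℤ) ∣ a - m) (c : PowerSeries k)
    (hc : PowerSeries.X ^ m * c = ((hu.unit ^ (a - m) : (PowerSeries k)ˣ) : PowerSeries k) - 1) :
    ∃ h : PowerSeries k,
      ((hu.unit ^ a : (PowerSeries k)ˣ) : PowerSeries k) * PowerSeries.subst (PowerSeries.X * u) h - h = c := by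
  classical
  have hp : p.Prime := Fact.out
  have hnk : (n : k) ≠ 0 := by rwa [Ne, CharP.cast_eq_zero_iff k p]
  haveI : CharP (PowerSeries k) p := charP_of_injective_algebraMap (algebraMap k (PowerSeries k)).injective p
  have hap : HasSubst (X * u : PowerSeries k) := HasSubst.of_constantCoeff_zero' (by simp)
  let σ : PowerSeries k →ₐ[k] PowerSeries k := substAlgHom hap
  obtain ⟨z, hz⟩ := IsAlgClosed.exists_pow_nat_eq (-1 : k) hn
  have hp1 : p - 1 ≠ 0 := by have := hp.two_le; omega
  have hb0 : constantCoeff (C z * X ^ (p - 1) : PowerSeries k) = 0 := by simp [zero_pow hp1]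
  have hb : HasSubst (C z * X ^ (p - 1) : PowerSeries k) := HasSubst.of_constantCoeff_zero' hb0
  let v : PowerSeries k := substAlgHom hb u
  have hv1 : constantCoeff v = 1 := by rw [constantCoeff_substAlg hb hb0, hu1]
  have hvn : v ^ n * (1 - (X ^ n) ^ (p - 1)) = 1 := by
    have h := congrArg (substAlgHom hb : PowerSeries k →ₐ[k] PowerSeries k) hun
    rw [map_mul, map_add, map_pow, map_pow, map_one, substAlgHom_X] at h
    rw [mul_pow, ← map_pow C, hz, ← pow_mul, mul_comm (p - 1) n, pow_mul, map_neg, map_one, neg_one_mul, ← sub_eq_add_neg] at h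
    exact h
  have hinv : σ v * u ^ p = v := by
    refine eq_of_pow_eq hnk ?_ hv1 ?_
    · rw [map_mul, map_pow, constantCoeff_substAlg hap (by simp), hv1, hu1, one_pow, one_mul]
    · have h := congrArg σ hvn
      rw [map_mul, map_sub, map_pow, map_pow, map_pow, map_one,
        show σ X = X * u from substAlgHom_X hap, mul_pow X u n, mul_pow] at h
      have hu' : (u ^ n) ^ p * (1 + X ^ n) ^ p = 1 := by rw [← mul_pow, hun, one_pow]
      have hu'' : (u ^ n) ^ (p - 1) * (1 + X ^ n) ^ (p - 1) = 1 := by rw [← mul_pow, hun, one_pow]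
      rw [show (1 + X ^ n : PowerSeries k) ^ p = 1 + (X ^ n) ^ p by rw [add_pow_char, one_pow]] at hu'
      have hT : ((X : PowerSeries k) ^ n) ^ p = (X ^ n) ^ (p - 1) * X ^ n := by rw [← pow_succ, Nat.sub_add_cancel hp.pos]
      have hU : (u ^ n) ^ p = (u ^ n) ^ (p - 1) * u ^ n := by rw [← pow_succ, Nat.sub_add_cancel hp.pos]
      rw [mul_pow, pow_right_comm u p n]
      have hne : (1 - (X ^ n) ^ (p - 1) : PowerSeries k) ≠ 0 := right_ne_zero_of_mul_eq_one hvn
      apply mul_right_cancel₀ hne
      rw [hvn]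
      have hw : (u ^ n) ^ p * (1 - (X ^ n) ^ (p - 1)) = 1 - (X ^ n) ^ (p - 1) * (u ^ n) ^ (p - 1) := by
        linear_combination hu' - (u ^ n) ^ p * hT - (X ^ n) ^ (p - 1) * (u ^ n) ^ (p - 1) * hun - (X ^ n) ^ (p - 1) * (1 + X ^ n) * hU
      rw [mul_assoc, hw]
      linear_combination h
  obtain ⟨j, hj⟩ := hdvd
  let vu : (PowerSeries k)ˣ := (isUnit_iff_constantCoeff.2 (by rw [hv1]; exact isUnit_one) : IsUnit v).unit
  let σu : (PowerSeries k)ˣ →* (PowerSeries k)ˣ := Units.map σ.toRingHom.toMonoidHom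
  have hinvu : σu (vu ^ j) * hu.unit ^ (a - m) = vu ^ j := by
    have h1 : σu vu * hu.unit ^ p = vu := Units.ext (by simpa [σu, vu] using hinv)
    rw [map_zpow, hj, zpow_mul, zpow_natCast, ← _root_.mul_zpow, h1]
  obtain ⟨g, hg⟩ : X ^ m ∣ 1 - ((vu ^ j : (PowerSeries k)ˣ) : PowerSeries k) := by
    refine (pow_dvd_pow X hmn).trans ?_
    have h1 : X ^ n ∣ v - 1 := by
      refine dvd_sub_one hnk hv1 ?_
      rw [show v ^ n - 1 = v ^ n * (X ^ n) ^ (p - 1) by linear_combination hvn]
      exact dvd_mul_of_dvd_right (dvd_pow_self _ hp1) _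
    rw [← Ideal.mem_span_singleton, ← Ideal.Quotient.eq_zero_iff_mem, map_sub, map_one, sub_eq_zero, eq_comm]
    let q := Units.map (Ideal.Quotient.mk (Ideal.span {(X ^ n : PowerSeries k)})).toMonoidHom
    have h2 : q vu = 1 := Units.ext (Ideal.Quotient.eq.2 (Ideal.mem_span_singleton.2 h1))
    exact congrArg Units.val (show q (vu ^ j) = 1 by rw [map_zpow, h2, _root_.one_zpow])
  refine ⟨g, ?_⟩
  rw [← coe_substAlgHom hap]
  apply mul_left_cancel₀ (pow_ne_zero m (X_ne_zero (R := k)))
  show X ^ m * (((hu.unit ^ a : (PowerSeries k)ˣ) : PowerSeries k) * σ g - g) = X ^ m * c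
  have hg' := congrArg σ hg
  rw [map_sub, map_one, map_mul, map_pow, show σ X = X * u from substAlgHom_X hap, mul_pow] at hg'
  have hsplit : ((hu.unit ^ a : (PowerSeries k)ˣ) : PowerSeries k) =
      ((hu.unit ^ (a - m) : (PowerSeries k)ˣ) : PowerSeries k) * u ^ m := by
    rw [show u ^ m = ((hu.unit ^ (m : ℤ) : (PowerSeries k)ˣ) : PowerSeries k) by simp, ← Units.val_mul, ← zpow_add,
      sub_add_cancel]
  have hI : σ ((vu ^ j : (PowerSeries k)ˣ) : PowerSeries k) * ((hu.unit ^ (a - m) : (PowerSeries k)ˣ) : PowerSeries k) =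
      ((vu ^ j : (PowerSeries k)ˣ) : PowerSeries k) := congrArg Units.val hinvu
  rw [hc, hsplit]
  linear_combination hg - ((hu.unit ^ (a - m) : (PowerSeries k)ˣ) : PowerSeries k) * hg' - hI

end Groth.Agent.S13863
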