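import Groth.Statements.S1387
import Groth.Agent.FlatFunLib.NoVertical
import Groth.Agent.TopDim.Basic

set_option autoImplicit false
set_option linter.style.haveILetI false
set_option backward.isDefEq.respectTransparency false
universe u
open FlatMor

namespace Groth.Agent.S1387

open AlgebraicGeometry CategoryTheory Limits

theorem nilradical_eq_generic {X : Scheme.{u}} [IrreducibleSpace ↑X] {V : X.Opens} (hV : IsAffineOpen V)
    (h : genericPoint ↑X ∈ V) : nilradical Γ(X, V) = (hV.primeIdealOf ⟨_, h⟩).asIdeal := by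
  refine le_antisymm (nilradical_le_prime _) ?_
  rw [nilradical_eq_sInf]
  refine le_sInf fun P hP => ?_
  haveI : P.IsPrime := hP
  have h1 : hV.fromSpec (hV.primeIdealOf ⟨_, h⟩) ⤳ hV.fromSpec ⟨P, hP⟩ := by
    rw [hV.fromSpec_primeIdealOf]
    exact genericPoint_specializes _
  exact (PrimeSpectrum.le_iff_specializes _ _).2 (hV.fromSpec.isEmbedding.isInducing.specializes_iff.1 h1)

theorem range_mk_nilradical {R : Type u} [CommRing R] (p : PrimeSpectrum R) :
    ∃ P : PrimeSpectrum (R ⧸ nilradical R), PrimeSpectrum.comap (Ideal.Quotient.mk _) P = p := by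
  have hk : RingHom.ker (Ideal.Quotient.mk (nilradical R)) ≤ p.asIdeal := by
    rw [Ideal.mk_ker]; exact nilradical_le_prime _
  haveI := Ideal.map_isPrime_of_surjective Ideal.Quotient.mk_surjective hk
  refine ⟨⟨p.asIdeal.map (Ideal.Quotient.mk _), inferInstance⟩, PrimeSpectrum.ext ?_⟩
  change (p.asIdeal.map _).comap _ = _
  rw [Ideal.comap_map_of_surjective _ Ideal.Quotient.mk_surjective, ← RingHom.ker_eq_comap_bot, sup_eq_left.2 hk]

/-- Let f : X → S be dominant and locally of finite type with X and S irreducible, let η be the generic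
point of S and s a point with dim X_s ≤ dim X_η, and let Z be a locally principal closed subscheme
of X (its ideal sheaf is generated by one section on an affine neighbourhood of each point) whose
generic fibre is empty. Then, set-theoretically, the fibre of Z over s is a union of irreducible
components of the fibre of X over s. -/
theorem result {X S : Scheme.{u}} (f : X ⟶ S) [IrreducibleSpace ↑S] [IrreducibleSpace ↑X] [IsDominant f] [LocallyOfFiniteType f]
    (s : S) (hdim : topologicalKrullDim ↑(f.fiber s) ≤ topologicalKrullDim ↑(f.fiber (genericPoint ↑S)))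
    (Z : X.IdealSheafData) (hZ : ∀ x : X, ∃ (U : X.Opens) (hU : IsAffineOpen U) (g : Γ(X, U)), x ∈ U ∧ Z.ideal ⟨U, hU⟩ = Ideal.span {g})
    (hη : ∀ x ∈ (Z.support : Set ↑X), f x ≠ genericPoint ↑S) :
    ∀ x : ↑(f ⁻¹' {s}), (x : ↑X) ∈ (Z.support : Set ↑X) →
      ∃ C ∈ irreducibleComponents ↑(f ⁻¹' {s}), x ∈ C ∧ Subtype.val '' C ⊆ (Z.support : Set ↑X) := by
  classical
  rintro ⟨x, hxs⟩ hxZ
  have hxs' : f x = s := hxs
  subst hxs'
  obtain ⟨U, hU, g, hxU, hZg⟩ := hZ x
  obtain ⟨W, hW, hxW, -⟩ := exists_isAffineOpen_mem_and_subset (x := f x) (U := ⊤) trivial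
  obtain ⟨V, hV, hxV, hVle⟩ := exists_isAffineOpen_mem_and_subset (x := x) (U := U ⊓ f ⁻¹ᵁ W) ⟨hxU, hxW⟩
  have hVU : V ≤ U := fun v hv => (hVle hv).1
  have hVW : V ≤ f ⁻¹ᵁ W := fun v hv => (hVle hv).2
  -- generic points
  have hξ : ∀ v : X, genericPoint ↑X ⤳ v := fun v => genericPoint_specializes v
  have hfξ : f (genericPoint ↑X) = genericPoint ↑S := by
    refine Specializes.antisymm ?_ (genericPoint_specializes _) |>.eq
    refine specializes_iff_mem_closure.2 ?_
    have h1 : Set.range f ⊆ closure {f (genericPoint ↑X)} := by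
      rintro _ ⟨v, rfl⟩
      exact specializes_iff_mem_closure.1 ((hξ v).map f.continuous)
    exact closure_minimal h1 isClosed_closure (f.denseRange (genericPoint ↑S))
  have hξV : genericPoint ↑X ∈ V := (hξ x).mem_open V.2 hxV
  have hηW : genericPoint ↑S ∈ W := hfξ ▸ hVW hξV
  haveI : (nilradical Γ(S, W)).IsPrime := nilradical_eq_generic hW hηW ▸ inferInstance
  haveI : (nilradical Γ(X, V)).IsPrime := nilradical_eq_generic hV hξV ▸ inferInstance
  let A := Γ(S, W) ⧸ nilradical Γ(S, W)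
  let C := Γ(X, V) ⧸ nilradical Γ(X, V)
  let φ₀ := (f.appLE W V hVW).hom
  let φ : A →+* C := Ideal.quotientMap _ φ₀ fun a ha => mem_nilradical.2 ((mem_nilradical.1 ha).map φ₀)
  letI : Algebra A C := φ.toAlgebra
  haveI : Algebra.FiniteType A C := by
    have h0 : (φ.comp (Ideal.Quotient.mk (nilradical Γ(S, W)))).FiniteType := by
      rw [Ideal.quotientMap_comp_mk]
      exact RingHom.FiniteType.comp (RingHom.FiniteType.of_surjective _ Ideal.Quotient.mk_surjective)
        (f.finiteType_appLE hW hV hVW)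
    exact RingHom.FiniteType.of_comp_finiteType h0
  let q₁ : Spec (CommRingCat.of C) ⟶ Spec Γ(X, V) := Spec.map (CommRingCat.ofHom (Ideal.Quotient.mk _))
  let r₁ : Spec (CommRingCat.of A) ⟶ Spec Γ(S, W) := Spec.map (CommRingCat.ofHom (Ideal.Quotient.mk _))
  haveI : IsClosedImmersion q₁ := IsClosedImmersion.spec_of_surjective _ Ideal.Quotient.mk_surjective
  haveI : IsClosedImmersion r₁ := IsClosedImmersion.spec_of_surjective _ Ideal.Quotient.mk_surjective
  let i : Spec (CommRingCat.of C) ⟶ X := q₁ ≫ hV.fromSpec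
  let j : Spec (CommRingCat.of A) ⟶ S := r₁ ≫ hW.fromSpec
  let π : Spec (CommRingCat.of C) ⟶ Spec (CommRingCat.of A) := Spec.map (CommRingCat.ofHom (algebraMap A C))
  haveI : LocallyOfFiniteType π :=
    HasRingHomProperty.Spec_iff.2 (RingHom.finiteType_algebraMap.2 (inferInstance : Algebra.FiniteType A C))
  have hsq : i ≫ f = π ≫ j := by
    show (q₁ ≫ hV.fromSpec) ≫ f = Spec.map (CommRingCat.ofHom φ) ≫ r₁ ≫ hW.fromSpec
    rw [Category.assoc, ← IsAffineOpen.SpecMap_appLE_fromSpec f hW hV hVW, ← Category.assoc, ← Category.assoc]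
    congr 1
    rw [← Spec.map_comp, ← Spec.map_comp]
    congr 1
  have hfi : ∀ P, f (i P) = j (π P) := fun P => by
    rw [← Scheme.Hom.comp_apply, hsq, Scheme.Hom.comp_apply]
  have hirange : ∀ v ∈ V, ∃ P, i P = v := fun v hv => by
    obtain ⟨P, hP⟩ := range_mk_nilradical (hV.primeIdealOf ⟨v, hv⟩)
    exact ⟨P, (congrArg hV.fromSpec hP).trans (hV.fromSpec_primeIdealOf ⟨v, hv⟩)⟩
  have hiV : ∀ P, i P ∈ V := fun P => hV.range_fromSpec.le ⟨q₁ P, rfl⟩
  have hZi : ∀ P : PrimeSpectrum C, i P ∈ Z.support ↔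
      Ideal.Quotient.mk _ ((X.presheaf.map (homOfLE hVU).op).hom g) ∈ P.asIdeal := fun P => by
    rw [Scheme.IdealSheafData.mem_support_iff_of_mem (U := ⟨U, hU⟩) (hVU (hiV P)), hZg, Scheme.zeroLocus_span,
      Scheme.mem_zeroLocus_iff]
    have h1 : i P ∈ X.basicOpen g ↔ q₁ P ∈ hV.fromSpec ⁻¹ᵁ X.basicOpen ((X.presheaf.map (homOfLE hVU).op).hom g) := by
      show _ ↔ i P ∈ X.basicOpen _
      rw [Scheme.basicOpen_res]
      exact ⟨fun h => ⟨hiV P, h⟩, fun h => h.2⟩
    simp only [Set.mem_singleton_iff, forall_eq, h1]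
    rw [hV.fromSpec_preimage_basicOpen]
    exact not_not
  have hibot : i (⊥ : PrimeSpectrum C) = genericPoint ↑X := by
    obtain ⟨P, hP⟩ := hirange _ hξV
    refine (Specializes.antisymm ?_ (hξ _)).eq
    rw [← hP]
    exact Specializes.map ((PrimeSpectrum.le_iff_specializes _ _).1 bot_le) i.continuous
  have hjbot : j (⊥ : PrimeSpectrum A) = genericPoint ↑S := by
    obtain ⟨P, hP⟩ := range_mk_nilradical (hW.primeIdealOf ⟨_, hηW⟩)
    refine (Specializes.antisymm ?_ (genericPoint_specializes _)).eq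
    rw [show genericPoint ↑S = j P from ((congrArg hW.fromSpec hP).trans (hW.fromSpec_primeIdealOf ⟨_, hηW⟩)).symm]
    exact Specializes.map ((PrimeSpectrum.le_iff_specializes _ _).1 bot_le) j.continuous
  have hπbot : π (⊥ : PrimeSpectrum C) = (⊥ : PrimeSpectrum A) := j.isEmbedding.injective (by
    rw [← hfi, hibot, hjbot, hfξ])
  haveI : FaithfulSMul A C := by
    rw [faithfulSMul_iff_algebraMap_injective, RingHom.injective_iff_ker_eq_bot, RingHom.ker_eq_comap_bot]
    exact congrArg PrimeSpectrum.asIdeal hπbot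
  -- dimensions
  obtain ⟨n, hn, hchains, -⟩ := FlatFunLib.exists_resTrdeg_chains f (genericPoint ↑X)
  have hgen : topologicalKrullDim ↑(f.fiber (genericPoint ↑S)) ≤ (n : WithBot ℕ∞) := by
    rw [Unibranch.topologicalKrullDim_le_iff f (S := Set.univ) (y := genericPoint ↑S)
      (f.fiberι (genericPoint ↑S)).isEmbedding (by rw [Scheme.Hom.range_fiberι, Set.univ_inter]), ← hfξ]
    exact hchains.mono fun v _ => specializes_iff_mem_closure.1 (hξ v)
  have hx : FlatMor.fibreDimAt f x ≤ (n : WithBot ℕ∞) := (TopDim.localDim_le_dim _).trans (hdim.trans hgen)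
  have hr : ∀ P, Dual3.resTrdeg π P = Dual3.resTrdeg f (i P) := fun P => by
    rw [← SpQS.resTrdeg_postcomp π j (SpRelDim.quasiFiniteAt_of_isPreimmersion j _), ← hsq,
      SpQS.resTrdeg_precomp i f (SpRelDim.quasiFiniteAt_of_isPreimmersion i _)]
  have htr : Algebra.trdeg A C = (n : Cardinal.{u}) := by
    rw [← FlatFunLib.resTrdeg_generic (⊥ : PrimeSpectrum C) rfl]
    exact (hr _).trans (hibot ▸ hn)
  obtain ⟨⟨q, hqp⟩, hq⟩ := hirange x hxV
  have hπdim : FlatMor.fibreDimAt π (⟨q, hqp⟩ : PrimeSpectrum C) ≤ (n : WithBot ℕ∞) :=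
    FlatFunLib.fibreDimAt_le_of_max π _ n fun m hm _ _ => by
      rw [hr]
      exact FlatFunLib.resTrdeg_le_of_fibreDimAt_le f (hq ▸ hm.map i.continuous) n hx
  obtain ⟨M, hMq, hcM, hMp, hMmin⟩ := FlatFunLib.exists_vertical_component q _ ((hZi ⟨q, hqp⟩).1 (hq.symm ▸ hxZ))
    n htr hπdim fun P _ hcP hP0 => hη (i P) ((hZi P).2 hcP) (by
      rw [hfi, show π P = (⊥ : PrimeSpectrum A) from PrimeSpectrum.ext hP0, hjbot])
  have hfM : f (i M) = f x := by
    rw [← hq, hfi, hfi, show π M = π (⟨q, hqp⟩ : PrimeSpectrum C) from PrimeSpectrum.ext hMp]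
  have hMx : i M ⤳ x := hq ▸ ((PrimeSpectrum.le_iff_specializes _ _).1 hMq).map i.continuous
  haveI : QuasiSober ↑(f ⁻¹' {f x}) := by
    let e : ↑(f.fiber (f x)) ≃ₜ ↑(f ⁻¹' {f x}) := f.fiberHomeo (f x)
    exact e.symm.isClosedEmbedding.quasiSober
  let m : ↑(f ⁻¹' {f x}) := ⟨i M, hfM⟩
  refine ⟨closure {m}, ⟨isIrreducible_singleton.closure, fun T hT hmT => ?_⟩, ?_, ?_⟩
  · obtain ⟨r, hr'⟩ := QuasiSober.sober hT.closure isClosed_closure
    have hrm : r ⤳ m := hr'.specializes (subset_closure (hmT (subset_closure rfl)))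
    have hrm' : (r : X) ⤳ i M := (subtype_specializes_iff _ _).1 hrm
    obtain ⟨N, hN⟩ := hirange r (hrm'.mem_open V.2 (hiV M))
    have hNM : N.asIdeal ≤ M.asIdeal := (PrimeSpectrum.le_iff_specializes _ _).2
      (i.isEmbedding.isInducing.specializes_iff.1 (hN.symm ▸ hrm'))
    have hNp : N.asIdeal.comap (algebraMap A C) = q.comap (algebraMap A C) :=
      congrArg PrimeSpectrum.asIdeal (j.isEmbedding.injective (a₁ := π N) (a₂ := π ⟨q, hqp⟩) (by
        rw [← hfi, ← hfi, hN, hq]; exact r.2))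
    have : r = m := Subtype.ext (by rw [← hN, hMmin N hNM hNp])
    exact subset_closure.trans (this ▸ hr'.def.ge)
  · exact specializes_iff_mem_closure.1 ((subtype_specializes_iff _ _).2 hMx)
  · rintro _ ⟨w, hw, rfl⟩
    exact ((subtype_specializes_iff _ _).1 (specializes_iff_mem_closure.2 hw)).mem_closed Z.support.isClosed
      ((hZi M).2 hcM)

end Groth.Agent.S1387
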