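import Groth.Statements.S13875
import Groth.Agent.DivPow.DetNormal
import Groth.Agent.S13174
import Groth.Agent.S13175

set_option autoImplicit false
universe u
open scoped TensorProduct
open ZeroCyc

namespace Groth.Agent.S13875

/-- Affine form of the determinant law over a normal base. Let A be an integrally closed domain with
fraction field K, B a commutative A-algebra and M a B-module that is finitely generated as an
A-module (not necessarily flat over A), and let d be the generic rank of M, the dimension of the
K-vector space K ⊗_A M. Then there is exactly one multiplicative polynomial law N : B → A over A,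
homogeneous of degree d, such that for every n and every x ∈ A[t_1, …, t_n] ⊗_A B the value N(x) ∈
A[t_1, …, t_n], read in the fraction field L of A[t_1, …, t_n], is the determinant of x acting on
the finite-dimensional L-vector space L ⊗_A M. (Over a general test algebra the law is the unique
extension of these members; for M free of rank d over A it is the determinant law of M.) -/
theorem result {A B M : Type u} [CommRing A] [IsDomain A] [IsIntegrallyClosed A]
    [CommRing B] [Algebra A B] [AddCommGroup M] [Module A M] [Module B M] [IsScalarTower A B M] [Module.Finite A M]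
    (d : ℕ) (hd : Module.finrank (FractionRing A) (FractionRing A ⊗[A] M) = d) :
    ∃! N : PolLaw.MulLaw A B A d, ∀ (n : ℕ) (x : MvPolynomial (Fin n) A ⊗[A] B),
      algebraMap (MvPolynomial (Fin n) A) (FractionRing (MvPolynomial (Fin n) A))
          (TensorProduct.rid A (MvPolynomial (Fin n) A) (N.law.toFun' (MvPolynomial (Fin n) A) x)) =
        LinearMap.det (PolLaw.actEnd M (FractionRing (MvPolynomial (Fin n) A))
          (Algebra.TensorProduct.map
            (IsScalarTower.toAlgHom A (MvPolynomial (Fin n) A) (FractionRing (MvPolynomial (Fin n) A)))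
            (AlgHom.id A B) x)) := by
  classical
  let K := FractionRing A
  obtain ⟨G, hG⟩ := Groth.Agent.DivPow.DetNormal.exists_generic (A := A) (B := B) (M := M) K d hd
  have hval : ∀ (n : ℕ), ∃ θ : MvPolynomial (Fin n) A ⊗[A] K →ₐ[A] FractionRing (MvPolynomial (Fin n) A),
      Function.Injective θ ∧ (∀ r : MvPolynomial (Fin n) A, θ (r ⊗ₜ[A] (1 : K)) = algebraMap _ _ r) ∧
      ∀ x, θ (G.law.toFun' _ x) = LinearMap.det (PolLaw.actEnd M (FractionRing (MvPolynomial (Fin n) A))
        (Algebra.TensorProduct.map (IsScalarTower.toAlgHom A (MvPolynomial (Fin n) A) _) (AlgHom.id A B) x)) := by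
    intro n
    let R := MvPolynomial (Fin n) A
    let L := FractionRing R
    have hAL : Function.Injective (algebraMap A L) := by
      rw [IsScalarTower.algebraMap_eq A R L]
      exact (IsFractionRing.injective R L).comp (MvPolynomial.C_injective (Fin n) A)
    letI : Algebra K L := (IsFractionRing.lift hAL : K →+* L).toAlgebra
    haveI : IsScalarTower A K L := IsScalarTower.of_algebraMap_eq fun a => (IsFractionRing.lift_algebraMap hAL a).symm
    let θ : R ⊗[A] K →ₐ[A] L := Algebra.TensorProduct.lift (IsScalarTower.toAlgHom A R L) (IsScalarTower.toAlgHom A K L)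
      (fun _ _ => Commute.all _ _)
    have key : ∀ y : R ⊗[A] K, ∃ (a : A) (r : R), a ≠ 0 ∧ a • y = r ⊗ₜ[A] (1 : K) := by
      intro y
      induction y using TensorProduct.induction_on with
      | zero => exact ⟨1, 0, one_ne_zero, by simp⟩
      | tmul r k =>
        obtain ⟨⟨b, c⟩, hbc⟩ := IsLocalization.surj (nonZeroDivisors A) k
        refine ⟨c, b • r, nonZeroDivisors.coe_ne_zero c, ?_⟩
        rw [← TensorProduct.tmul_smul, Algebra.smul_def, mul_comm, hbc, Algebra.algebraMap_eq_smul_one, ← TensorProduct.smul_tmul]
      | add y z hy hz =>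
        obtain ⟨a, r, ha, hy⟩ := hy
        obtain ⟨a', r', ha', hz⟩ := hz
        refine ⟨a' * a, a' • r + a • r', mul_ne_zero ha' ha, ?_⟩
        rw [smul_add, mul_smul, hy, mul_comm a' a, mul_smul, hz, TensorProduct.smul_tmul', TensorProduct.smul_tmul',
          TensorProduct.add_tmul]
    refine ⟨θ, ?_, fun r => by simp [θ, R, L], fun x => hG R L (IsScalarTower.toAlgHom A R L) x⟩
    rw [injective_iff_map_eq_zero]
    intro y hy
    obtain ⟨a, r, ha, hr⟩ := key y
    have h1 : algebraMap R L r = 0 := by
      have h := congrArg θ hr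
      rw [map_smul, hy, smul_zero] at h
      simpa [θ] using h.symm
    rw [(IsFractionRing.injective R L) (h1.trans (map_zero _).symm), TensorProduct.zero_tmul] at hr
    have hu : IsUnit (algebraMap A K a) := isUnit_iff_ne_zero.mpr fun h => ha (IsFractionRing.injective A K (h.trans (map_zero _).symm))
    obtain ⟨u, hu⟩ := hu
    calc y = ((1 : R) ⊗ₜ[A] ((↑u⁻¹ : K) * algebraMap A K a)) * y := by
          rw [← hu, Units.inv_mul, ← Algebra.TensorProduct.one_def, one_mul]
      _ = ((1 : R) ⊗ₜ[A] (↑u⁻¹ : K)) * (a • y) := by
          rw [← mul_one (1 : R), ← Algebra.TensorProduct.tmul_mul_tmul, mul_assoc, mul_one, Algebra.smul_def a y,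
            Algebra.TensorProduct.algebraMap_apply, IsScalarTower.algebraMap_apply A A R]
          congr 2
          rw [Algebra.algebraMap_eq_smul_one a (A := K), ← TensorProduct.smul_tmul, Algebra.algebraMap_eq_smul_one]
          simp
      _ = 0 := by rw [hr, mul_zero]
  choose θ hθinj hθ1 hθG using hval
  let ι : ∀ n, MvPolynomial (Fin n) A ⊗[A] A →ₐ[A] MvPolynomial (Fin n) A ⊗[A] K := fun n =>
    Algebra.TensorProduct.map (AlgHom.id A _) (Algebra.ofId A K)
  have hι : ∀ n (y : MvPolynomial (Fin n) A ⊗[A] A),
      θ n (ι n y) = algebraMap _ _ (TensorProduct.rid A (MvPolynomial (Fin n) A) y) := by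
    intro n y
    induction y using TensorProduct.induction_on with
    | zero => simp
    | tmul r a =>
      rw [show ι n (r ⊗ₜ[A] a) = (a • r) ⊗ₜ[A] (1 : K) by
        simp [ι, TensorProduct.smul_tmul, Algebra.algebraMap_eq_smul_one], hθ1, TensorProduct.rid_tmul]
    | add y z hy hz => simp only [map_add, hy, hz]
  have hιinj : ∀ n, Function.Injective (ι n) := fun n y z h => (TensorProduct.rid A _).injective
    (IsFractionRing.injective _ (FractionRing (MvPolynomial (Fin n) A)) (by rw [← hι, ← hι, h]))
  have hmem : ∀ n (x : MvPolynomial (Fin n) A ⊗[A] B), ∃ y, ι n y = G.law.toFun' _ x := by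
    intro n x
    haveI := Groth.Agent.DivPow.DetNormal.isIntegrallyClosed_mvPolynomial (R := A) n
    obtain ⟨r, hr⟩ := IsIntegrallyClosed.isIntegral_iff.mp (Groth.Agent.DivPow.DetNormal.isIntegral_det (M := M)
      (MvPolynomial (Fin n) A) (FractionRing (MvPolynomial (Fin n) A)) x)
    refine ⟨r ⊗ₜ[A] (1 : A), hθinj n ?_⟩
    rw [hι, TensorProduct.rid_tmul, one_smul, hr, hθG]
  choose T hT using hmem
  have hιnat : ∀ (n m : ℕ) (φ : MvPolynomial (Fin n) A →ₐ[A] MvPolynomial (Fin m) A) (y : MvPolynomial (Fin n) A ⊗[A] A),
      φ.toLinearMap.rTensor K (ι n y) = ι m (φ.toLinearMap.rTensor A y) := by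
    intro n m φ y
    induction y using TensorProduct.induction_on with
    | zero => simp
    | tmul r a => simp [ι]
    | add y z hy hz => simp only [map_add, hy, hz]
  obtain ⟨N₀, hN₀⟩ := (Groth.Agent.S13174.result (A := A) (M := B) (N := A)).2 ⟨T, fun n m φ => funext fun x => hιinj m (by
    simp only [Function.comp_apply]
    rw [← hιnat, hT, hT, PolynomialLaw.isCompat_apply'])⟩
  have hN : ∀ n (x : MvPolynomial (Fin n) A ⊗[A] B), ι n (N₀.toFun' _ x) = G.law.toFun' _ x := by
    intro n x
    rw [show N₀.toFun' (MvPolynomial (Fin n) A) x = T n x from congrFun (congrFun (congrArg Subtype.val hN₀) n) x, hT]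
  have hmult : PolLaw.IsMult N₀ := by
    intro S _ _
    letI : CommRing S := { Algebra.semiringToRing A, (inferInstance : CommSemiring S) with }
    exact Groth.Agent.S13175.result N₀ (fun n => hιinj n (by rw [hN, (G.mult _).1, map_one]))
      (fun n x y => hιinj n (by rw [hN, map_mul, hN, hN, (G.mult _).2])) S
  have hhom : PolLaw.IsHomog N₀ d := by
    intro S _ _ s x
    letI : CommRing S := { Algebra.semiringToRing A, (inferInstance : CommSemiring S) with }
    obtain ⟨n, ψ, x', s', rfl, rfl⟩ := Groth.Agent.DivPow.DetNormal.exists_lift_smul S x s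
    have hsm : ∀ {P : Type u} [CommRing P] [Algebra A P] (r : MvPolynomial (Fin n) A) (z : MvPolynomial (Fin n) A ⊗[A] P),
        ψ r • ψ.toLinearMap.rTensor P z = ψ.toLinearMap.rTensor P (r • z) := by
      intro P _ _ r z
      induction z using TensorProduct.induction_on with
      | zero => simp
      | tmul a p => simp [TensorProduct.smul_tmul']
      | add y z hy hz => simp only [smul_add, map_add, hy, hz]
    have hp : N₀.toFun' _ (s' • x') = s' ^ d • N₀.toFun' _ x' := by
      refine hιinj n ?_
      rw [hN, G.homog, ← hN]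
      generalize N₀.toFun' (MvPolynomial (Fin n) A) x' = y
      induction y using TensorProduct.induction_on with
      | zero => simp
      | tmul a p => simp [ι, TensorProduct.smul_tmul']
      | add y z hy hz => simp only [smul_add, map_add, hy, hz]
    rw [hsm s' x', ← PolynomialLaw.isCompat_apply', hp, ← PolynomialLaw.isCompat_apply', ← map_pow, hsm]
  refine ⟨⟨N₀, hhom, hmult⟩, fun n x => ?_, fun N hN' => PolLaw.MulLaw.ext ?_⟩
  · show algebraMap _ _ (TensorProduct.rid A _ (N₀.toFun' _ x)) = _
    rw [← hι, hN, hθG]
  · refine (Groth.Agent.S13174.result (A := A) (M := B) (N := A)).1 (Subtype.ext (funext fun n => funext fun x => hιinj n (hθinj n ?_)))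
    show θ n (ι n (N.law.toFun' _ x)) = θ n (ι n (N₀.toFun' _ x))
    rw [hι, hN', hN, hθG]

end Groth.Agent.S13875
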