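import Groth.Statements.S13877
import Groth.Agent.CycDim.Det
import Mathlib.RingTheory.Discriminant
import Mathlib.RingTheory.OrderOfVanishing.Noetherian
import Mathlib.RingTheory.PowerSeries.Inverse
-- import your own Groth.Agent.* helpers here

set_option autoImplicit false
universe u v
open Crimp

namespace Groth.Agent.S13877

/-- Over R = k⟦t⟧ with k an algebraically closed field of characteristic zero, let S' be a commutative
R-algebra with an R-basis of size d whose discriminant generates the ideal (t ^ a) (a finite cover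
of the formal disk of degree d, unramified over the punctured disk, with branch divisor (t ^ a)),
and let S be an R-subalgebra of S' with an R-basis of size d whose discriminant generates (t ^ b) (a
crimp with branch divisor (t ^ b)). Then t ^ b annihilates S' / S and twice the R-length of S' / S
plus a equals b. (The published statement is for a family of such subalgebras over a k-scheme T and
also asserts T-flatness of the quotient; this row is its restriction to T a point.) -/
theorem result {k : Type u} [Field k] [IsAlgClosed k] [CharZero k]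
    {St : Type v} [CommRing St] [Algebra (PowerSeries k) St] (d a b : ℕ)
    (bt : Module.Basis (Fin d) (PowerSeries k) St)
    (ha : Ideal.span {Algebra.discr (PowerSeries k) ⇑bt} = Ideal.span {(PowerSeries.X : PowerSeries k) ^ a})
    (S : Subalgebra (PowerSeries k) St) (bS : Module.Basis (Fin d) (PowerSeries k) S)
    (hb : Ideal.span {Algebra.discr (PowerSeries k) ⇑bS} = Ideal.span {(PowerSeries.X : PowerSeries k) ^ b}) :
    (∀ q : St ⧸ Subalgebra.toSubmodule S, ((PowerSeries.X : PowerSeries k) ^ b) • q = 0) ∧
    2 * Module.length (PowerSeries k) (St ⧸ Subalgebra.toSubmodule S) + (a : ℕ∞) = (b : ℕ∞) := by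
  classical
  let R := PowerSeries k
  haveI : IsDomain R := inferInstance
  let val : S →ₗ[R] St := S.val.toLinearMap
  have hval : Function.Injective val := Subtype.val_injective
  let M : Matrix (Fin d) (Fin d) R := LinearMap.toMatrix bS bt val
  have hM : ∀ s : S, M.mulVec (bS.repr s) = bt.repr (s : St) := fun s => LinearMap.toMatrix_mulVec_repr bS bt val s
  have hdet : M.det ≠ 0 := by
    intro h
    obtain ⟨v, hv, hMv⟩ := Matrix.exists_mulVec_eq_zero_iff.2 h
    apply hv
    have h1 := hM (bS.equivFun.symm v)
    rw [← Module.Basis.equivFun_apply, ← Module.Basis.equivFun_apply, LinearEquiv.apply_symm_apply, hMv] at h1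
    have h2 : ((bS.equivFun.symm v : S) : St) = 0 := bt.equivFun.injective (h1.symm.trans (map_zero _).symm)
    have h3 : bS.equivFun.symm v = 0 := Subtype.ext h2
    have h4 := congrArg bS.equivFun h3
    rwa [LinearEquiv.apply_symm_apply, map_zero] at h4
  -- traces agree
  have htr : ∀ s : S, Algebra.trace R St (s : St) = Algebra.trace R S s := by
    intro s
    let Ls : Matrix (Fin d) (Fin d) R := LinearMap.toMatrix bS bS (Algebra.lmul R S s)
    let Lt : Matrix (Fin d) (Fin d) R := LinearMap.toMatrix bt bt (Algebra.lmul R St (s : St))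
    have hcomm : Lt * M = M * Ls := by
      rw [← LinearMap.toMatrix_comp bS bt bt, ← LinearMap.toMatrix_comp bS bS bt]
      congr 1
    rw [Algebra.trace_apply, Algebra.trace_apply, LinearMap.trace_eq_matrix_trace R bt, LinearMap.trace_eq_matrix_trace R bS]
    refine mul_left_cancel₀ hdet ?_
    calc M.det * Lt.trace = (M.det • Lt).trace := by rw [Matrix.trace_smul, smul_eq_mul]
      _ = (Lt * M * M.adjugate).trace := by rw [mul_assoc, Matrix.mul_adjugate, Matrix.mul_smul, mul_one]
      _ = (M.adjugate * (M * Ls)).trace := by rw [hcomm, Matrix.trace_mul_comm]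
      _ = (M.det • Ls).trace := by rw [← mul_assoc, Matrix.adjugate_mul, Matrix.smul_mul, one_mul]
      _ = M.det * Ls.trace := by rw [Matrix.trace_smul, smul_eq_mul]
  have hdisc : Algebra.discr R ⇑bS = M.det ^ 2 * Algebra.discr R ⇑bt := by
    rw [← Algebra.discr_of_matrix_vecMul (A := R) ⇑bt M]
    have hv : Matrix.vecMul (⇑bt) (M.map (algebraMap R St)) = fun j => ((bS j : S) : St) := funext fun j => by
      simp only [Matrix.vecMul, dotProduct, Matrix.map_apply, M, LinearMap.toMatrix_apply]
      conv_rhs => rw [← bt.sum_repr ((bS j : S) : St)]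
      refine Finset.sum_congr rfl fun i _ => ?_
      rw [Algebra.smul_def, mul_comm]
      rfl
    rw [hv, Algebra.discr_def, Algebra.discr_def]
    congr 1
    ext i j
    simp only [Algebra.traceMatrix_apply, Algebra.traceForm_apply]
    rw [← Subalgebra.coe_mul, htr]
  obtain ⟨ua, hua⟩ : Associated (Algebra.discr R ⇑bt) ((PowerSeries.X : R) ^ a) := Ideal.span_singleton_eq_span_singleton.1 ha
  obtain ⟨ub, hub⟩ : Associated (Algebra.discr R ⇑bS) ((PowerSeries.X : R) ^ b) := Ideal.span_singleton_eq_span_singleton.1 hb
  have hX : (PowerSeries.X : R) ≠ 0 := PowerSeries.X_ne_zero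
  have hordX : ∀ m : ℕ, Ring.ord R ((PowerSeries.X : R) ^ m) = m := fun m => by
    rw [Ring.ord_pow (mem_nonZeroDivisors_of_ne_zero hX), Ring.ord_of_irreducible PowerSeries.X_irreducible]
    simp
  have ha' : Ring.ord R (Algebra.discr R ⇑bt) = a := by
    rw [← hordX a, ← hua, Ring.ord_mul_of_isUnit_right ua.isUnit]
  have hb' : Ring.ord R (Algebra.discr R ⇑bS) = b := by
    rw [← hordX b, ← hub, Ring.ord_mul_of_isUnit_right ub.isUnit]
  have hne : Algebra.discr R ⇑bt ≠ 0 := fun h => by
    rw [h, zero_mul] at hua
    exact pow_ne_zero a hX hua.symm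
  let e : St ≃ₗ[R] (Fin d → R) := bt.equivFun
  have hrange : (Subalgebra.toSubmodule S).map e.toLinearMap = LinearMap.range M.mulVecLin := by
    ext v
    constructor
    · rintro ⟨x, hx, rfl⟩
      exact ⟨bS.repr ⟨x, hx⟩, hM ⟨x, hx⟩⟩
    · rintro ⟨w, rfl⟩
      refine ⟨((bS.equivFun.symm w : S) : St), (bS.equivFun.symm w).2, ?_⟩
      have h1 := hM (bS.equivFun.symm w)
      rw [← Module.Basis.equivFun_apply, ← Module.Basis.equivFun_apply, LinearEquiv.apply_symm_apply] at h1
      exact h1.symm
  let E : (St ⧸ Subalgebra.toSubmodule S) ≃ₗ[R] (Fin d → R) ⧸ LinearMap.range M.mulVecLin :=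
    Submodule.Quotient.equiv _ _ e hrange
  refine ⟨fun q => E.injective ?_, ?_⟩
  · rw [map_zero, map_smul]
    obtain ⟨w, hw⟩ := Submodule.Quotient.mk_surjective _ (E q)
    rw [← hw, ← Submodule.Quotient.mk_smul, Submodule.Quotient.mk_eq_zero]
    have hc : (PowerSeries.X : R) ^ b = M.det * (M.det * Algebra.discr R ⇑bt * ub) := by
      rw [← hub, hdisc]; ring
    refine ⟨(M.det * Algebra.discr R ⇑bt * (ub : R)) • M.adjugate.mulVec w, ?_⟩
    rw [map_smul, Matrix.mulVecLin_apply, Matrix.mulVec_mulVec, Matrix.mul_adjugate, Matrix.smul_mulVec, Matrix.one_mulVec,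
      smul_smul, hc]
    congr 1
    ring
  · rw [E.length_eq, Groth.Agent.CycNorm.length_coker_eq_ord_det hdet, ← ha', ← hb', hdisc,
      Ring.ord_mul R (mem_nonZeroDivisors_of_ne_zero hne), Ring.ord_pow (mem_nonZeroDivisors_of_ne_zero hdet)]
    rw [nsmul_eq_mul, Nat.cast_ofNat]

end Groth.Agent.S13877
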