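import Groth.Statements.S13878
import Mathlib.RingTheory.PowerSeries.Inverse
import Mathlib.LinearAlgebra.Matrix.NonsingularInverse
import Mathlib.LinearAlgebra.Matrix.ToLinearEquiv
import Mathlib.RingTheory.Ideal.Quotient.Operations
import Mathlib.LinearAlgebra.Matrix.Determinant.Basic
import Mathlib.Tactic.FinCases
import Mathlib.Tactic.Ring
-- import your own Groth.Agent.* helpers here

set_option autoImplicit false
universe u
open Crimp

namespace Groth.Agent.S13878

open PowerSeries in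
private theorem exists_basis {k : Type u} [Field k] (m n : ℕ) (hmn : m ≤ n)
    (ψ : (Fin 2 → PowerSeries k) →ₗ[PowerSeries k]
      ((PowerSeries k ⧸ Ideal.span {(X : PowerSeries k) ^ m}) × (PowerSeries k ⧸ Ideal.span {(X : PowerSeries k) ^ n})))
    (hψ : Function.Surjective ψ) :
    ∃ g₁ g₂ : Fin 2 → PowerSeries k, ψ g₁ = (1, 0) ∧ ψ g₂ = (0, 1) ∧ IsUnit (!![g₁ 0, g₂ 0; g₁ 1, g₂ 1]).det := by
  have hz : ∀ j : ℕ, j = 0 → ∀ z w : PowerSeries k ⧸ Ideal.span {(X : PowerSeries k) ^ j}, z = w := by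
    rintro _ rfl z w
    obtain ⟨z, rfl⟩ := Ideal.Quotient.mk_surjective z
    obtain ⟨w, rfl⟩ := Ideal.Quotient.mk_surjective w
    rw [Ideal.Quotient.eq, pow_zero, Ideal.span_singleton_one]
    trivial
  rcases Nat.eq_zero_or_pos n with hn | hn
  · refine ⟨![1, 0], ![0, 1], Prod.ext (hz m (by omega) _ _) (hz n hn _ _), Prod.ext (hz m (by omega) _ _) (hz n hn _ _), ?_⟩
    simp [Matrix.det_fin_two]
  have hdvd : ∀ (j : ℕ) (a : PowerSeries k), 1 ≤ j → Ideal.Quotient.mk (Ideal.span {(X : PowerSeries k) ^ j}) a = 0 →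
      constantCoeff a = 0 := fun j a hj h => by
    rw [Ideal.Quotient.eq_zero_iff_mem, Ideal.mem_span_singleton] at h
    exact X_dvd_iff.1 ((dvd_pow_self X (by omega)).trans h)
  have hsm : ∀ (j : ℕ) (a : PowerSeries k), a • (1 : PowerSeries k ⧸ Ideal.span {(X : PowerSeries k) ^ j}) = Ideal.Quotient.mk _ a := fun j a => by
    show Ideal.Quotient.mk _ (a • 1) = _; rw [smul_eq_mul, mul_one]
  obtain ⟨g₂, hg₂⟩ := hψ (0, 1)
  rcases Nat.eq_zero_or_pos m with hm | hm
  · -- `g₂` is nonzero modulo `X`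
    have h2 : constantCoeff (g₂ 0) ≠ 0 ∨ constantCoeff (g₂ 1) ≠ 0 := by
      by_contra! h
      obtain ⟨⟨a, ha⟩, ⟨b, hb⟩⟩ := And.intro (X_dvd_iff.2 h.1) (X_dvd_iff.2 h.2)
      have hg : g₂ = (X : PowerSeries k) • (![a, b] : Fin 2 → PowerSeries k) := by
        ext1 i; fin_cases i <;> simp [ha, hb]
      obtain ⟨c, hc⟩ := Ideal.Quotient.mk_surjective (ψ ![a, b]).2
      have h3 : Ideal.Quotient.mk (Ideal.span {(X : PowerSeries k) ^ n}) (1 - X * c) = 0 := by
        have h4 : (ψ g₂).2 = 1 := by rw [hg₂]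
        rw [hg, map_smul, Prod.smul_snd, ← hc] at h4
        rw [map_sub, map_mul, map_one]
        exact sub_eq_zero.2 h4.symm
      have := hdvd n _ hn h3
      simp at this
    obtain ⟨v, hv⟩ : ∃ v : Fin 2 → PowerSeries k, IsUnit (!![v 0, g₂ 0; v 1, g₂ 1]).det := by
      rcases h2 with h | h
      · exact ⟨![0, 1], by simpa [Matrix.det_fin_two, isUnit_iff_constantCoeff] using h⟩
      · exact ⟨![1, 0], by simpa [Matrix.det_fin_two, isUnit_iff_constantCoeff] using h⟩
    obtain ⟨c, hc⟩ := Ideal.Quotient.mk_surjective (ψ v).2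
    refine ⟨v - c • g₂, g₂, Prod.ext (hz m hm _ _) ?_, hg₂, ?_⟩
    · rw [map_sub, map_smul, Prod.snd_sub, Prod.smul_snd, hg₂, hsm, hc, sub_self]
    · have : (!![(v - c • g₂) 0, g₂ 0; (v - c • g₂) 1, g₂ 1]).det = (!![v 0, g₂ 0; v 1, g₂ 1]).det := by
        simp [Matrix.det_fin_two]; ring
      rwa [this]
  · obtain ⟨g₁, hg₁⟩ := hψ (1, 0)
    refine ⟨g₁, g₂, hg₁, hg₂, ?_⟩
    rw [isUnit_iff_constantCoeff, isUnit_iff_ne_zero]
    intro hdet
    rw [RingHom.map_det] at hdet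
    obtain ⟨w, hw, hMw⟩ := Matrix.exists_mulVec_eq_zero_iff.2 hdet
    let a : PowerSeries k := C (w 0)
    let b : PowerSeries k := C (w 1)
    have hcomb : ∀ i, constantCoeff ((a • g₁ + b • g₂) i) = 0 := by
      intro i
      have := congrFun hMw i
      simp [Matrix.mulVec, dotProduct, Fin.sum_univ_two] at this
      fin_cases i <;> simp_all [a, b, mul_comm]
    have hX : ∀ i, ∃ c, (a • g₁ + b • g₂) i = X * c := fun i => X_dvd_iff.2 (hcomb i)
    choose c hc using hX
    have heq : a • g₁ + b • g₂ = (X : PowerSeries k) • c := funext fun i => by rw [hc i]; rfl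
    have h5 := congrArg ψ heq
    rw [map_add, map_smul, map_smul, map_smul, hg₁, hg₂] at h5
    obtain ⟨c₁, hc₁⟩ := Ideal.Quotient.mk_surjective (ψ c).1
    obtain ⟨c₂, hc₂⟩ := Ideal.Quotient.mk_surjective (ψ c).2
    have e1 := congrArg Prod.fst h5
    have e2 := congrArg Prod.snd h5
    simp only [Prod.fst_add, Prod.snd_add, Prod.smul_fst, Prod.smul_snd, smul_zero, add_zero, zero_add, hsm,
      ← hc₁, ← hc₂] at e1 e2
    have f1 := hdvd m (a - X * c₁) hm (by rw [map_sub, map_mul]; exact sub_eq_zero.2 e1)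
    have f2 := hdvd n (b - X * c₂) hn (by rw [map_sub, map_mul]; exact sub_eq_zero.2 e2)
    simp [a, b] at f1 f2
    apply hw
    ext i; fin_cases i <;> assumption


/-- Over R = k⟦t⟧ with k an algebraically closed field of characteristic zero, let S' = R × R × R (the
unramified triple cover of the formal disk) and let S be an R-submodule of S' containing 1 such that
S' / S is isomorphic to R / (t ^ m) ⊕ R / (t ^ n) with m ≤ n. Then t ^ n S' is contained in S, and
there is f in S', not lying in R·1 + t S', such that S = R·1 + R·(t ^ m f) + t ^ n S'. -/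
theorem result {k : Type u} [Field k] [IsAlgClosed k] [CharZero k] (m n : ℕ) (hmn : m ≤ n)
    (S : Submodule (PowerSeries k) (Fin 3 → PowerSeries k))
    (h1 : (1 : (Fin 3 → PowerSeries k)) ∈ S)
    (e : ((Fin 3 → PowerSeries k) ⧸ S) ≃ₗ[PowerSeries k]
      ((PowerSeries k ⧸ Ideal.span {(PowerSeries.X : PowerSeries k) ^ m}) × (PowerSeries k ⧸ Ideal.span {(PowerSeries.X : PowerSeries k) ^ n}))) :
    Ideal.span {(PowerSeries.X : PowerSeries k) ^ n} • (⊤ : Submodule (PowerSeries k) (Fin 3 → PowerSeries k)) ≤ S ∧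
    ∃ f : (Fin 3 → PowerSeries k),
      f ∉ Submodule.span (PowerSeries k) {(1 : (Fin 3 → PowerSeries k))} ⊔ Ideal.span {(PowerSeries.X : PowerSeries k)} • (⊤ : Submodule (PowerSeries k) (Fin 3 → PowerSeries k)) ∧
      S = Submodule.span (PowerSeries k) {(1 : (Fin 3 → PowerSeries k)), ((PowerSeries.X : PowerSeries k) ^ m) • f} ⊔
        Ideal.span {(PowerSeries.X : PowerSeries k) ^ n} • (⊤ : Submodule (PowerSeries k) (Fin 3 → PowerSeries k)) := by
  let R := PowerSeries k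
  let I : Ideal R := Ideal.span {(PowerSeries.X : R) ^ n}
  have hkill : ∀ z, ((PowerSeries.X : R) ^ n) • z = (0 : (Fin 3 → R) ⧸ S) := fun z => e.injective (by
    rw [map_smul, map_zero]
    obtain ⟨a, ha⟩ := Ideal.Quotient.mk_surjective (e z).1
    obtain ⟨b, hb⟩ := Ideal.Quotient.mk_surjective (e z).2
    refine Prod.ext ?_ ?_
    · rw [Prod.smul_fst, ← ha]
      show Ideal.Quotient.mk _ ((PowerSeries.X : R) ^ n * a) = 0
      exact Ideal.Quotient.eq_zero_iff_mem.2 (Ideal.mul_mem_right _ _ (Ideal.mem_span_singleton.2 (pow_dvd_pow _ hmn)))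
    · rw [Prod.smul_snd, ← hb]
      show Ideal.Quotient.mk _ ((PowerSeries.X : R) ^ n * b) = 0
      exact Ideal.Quotient.eq_zero_iff_mem.2 (Ideal.mul_mem_right _ _ (Ideal.mem_span_singleton_self _)))
  have hle : I • (⊤ : Submodule R (Fin 3 → R)) ≤ S := Submodule.smul_le.2 fun r hr v _ => by
    obtain ⟨c, rfl⟩ := Ideal.mem_span_singleton'.1 hr
    rw [mul_smul]
    refine S.smul_mem c ?_
    rw [← Submodule.Quotient.mk_eq_zero, Submodule.Quotient.mk_smul]
    exact hkill _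
  refine ⟨hle, ?_⟩
  let σ : (Fin 2 → R) →ₗ[R] (Fin 3 → R) := LinearMap.pi ![(0 : (Fin 2 → R) →ₗ[R] R), LinearMap.proj (R := R) (φ := fun _ : Fin 2 => R) 0, LinearMap.proj (R := R) (φ := fun _ : Fin 2 => R) 1]
  let π : (Fin 3 → R) →ₗ[R] (Fin 2 → R) := LinearMap.pi ![LinearMap.proj (R := R) (φ := fun _ : Fin 3 => R) 1 - LinearMap.proj (R := R) (φ := fun _ : Fin 3 => R) 0, LinearMap.proj (R := R) (φ := fun _ : Fin 3 => R) 2 - LinearMap.proj (R := R) (φ := fun _ : Fin 3 => R) 0]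
  have hdec : ∀ x : Fin 3 → R, x = x 0 • (1 : Fin 3 → R) + σ (π x) := fun x => by
    ext1 i; fin_cases i <;> simp [σ, π]
  have hπσ : ∀ v, π (σ v) = v := fun v => by ext1 i; fin_cases i <;> simp [σ, π]
  have hπ1 : π 1 = 0 := by ext1 i; fin_cases i <;> simp [π]
  let ψ := e.toLinearMap ∘ₗ S.mkQ ∘ₗ σ
  have hψ : Function.Surjective ψ := fun y => by
    obtain ⟨x, hx⟩ := Submodule.mkQ_surjective S (e.symm y)
    refine ⟨π x, ?_⟩
    show e (S.mkQ (σ (π x))) = y
    rw [show σ (π x) = x - x 0 • (1 : Fin 3 → R) from eq_sub_of_add_eq' (hdec x).symm, map_sub, map_smul]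
    rw [show S.mkQ (1 : Fin 3 → R) = 0 from (Submodule.Quotient.mk_eq_zero S).2 h1, smul_zero, sub_zero, hx, e.apply_symm_apply]
  obtain ⟨g₁, g₂, hg₁, hg₂, hdet⟩ := exists_basis m n hmn ψ hψ
  let M : Matrix (Fin 2) (Fin 2) R := !![g₁ 0, g₂ 0; g₁ 1, g₂ 1]
  have hMv : ∀ w, M.mulVec w = w 0 • g₁ + w 1 • g₂ := fun w => by
    ext1 i; fin_cases i <;> simp [M, Matrix.mulVec, dotProduct, Fin.sum_univ_two] <;> ring
  have hsm : ∀ (j : ℕ) (a : R), a • (1 : R ⧸ Ideal.span {(PowerSeries.X : R) ^ j}) = Ideal.Quotient.mk _ a := fun j a => by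
    show Ideal.Quotient.mk _ (a • 1) = _; rw [smul_eq_mul, mul_one]
  have hψmem : ∀ a b : R, σ (a • g₁ + b • g₂) ∈ S ↔ (PowerSeries.X : R) ^ m ∣ a ∧ (PowerSeries.X : R) ^ n ∣ b := by
    intro a b
    rw [← Submodule.Quotient.mk_eq_zero, ← e.map_eq_zero_iff]
    show ψ (a • g₁ + b • g₂) = 0 ↔ _
    rw [map_add, map_smul, map_smul, hg₁, hg₂, ← Ideal.mem_span_singleton, ← Ideal.mem_span_singleton,
      ← Ideal.Quotient.eq_zero_iff_mem, ← Ideal.Quotient.eq_zero_iff_mem, Prod.ext_iff]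
    simp [hsm]
  refine ⟨σ g₁, fun hmem => ?_, le_antisymm (fun x hx => ?_) ?_⟩
  · obtain ⟨u, hu, w, hw, huw⟩ := Submodule.mem_sup.1 hmem
    obtain ⟨r, rfl⟩ := Submodule.mem_span_singleton.1 hu
    have h2 := congrArg π huw
    rw [map_add, map_smul, hπ1, smul_zero, zero_add, hπσ] at h2
    have hw0 : ∀ i, PowerSeries.constantCoeff (π w i) = 0 := by
      intro i
      have h3 := Submodule.mem_map_of_mem (f := π) hw
      rw [Submodule.map_smul''] at h3
      refine Submodule.smul_induction_on h3 (fun r hr v _ => ?_) (fun a b ha hb => ?_)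
      · obtain ⟨c, rfl⟩ := Ideal.mem_span_singleton'.1 hr
        simp
      · simp [ha, hb]
    rw [PowerSeries.isUnit_iff_constantCoeff, isUnit_iff_ne_zero] at hdet
    apply hdet
    rw [Matrix.det_fin_two]
    simp [← h2, hw0]
  · obtain ⟨w, hw⟩ := (Matrix.mulVec_surjective_iff_isUnit.2 ((Matrix.isUnit_iff_isUnit_det M).2 hdet)) (π x)
    rw [hMv] at hw
    have hσ : σ (w 0 • g₁ + w 1 • g₂) ∈ S := by
      rw [hw, eq_sub_of_add_eq' (hdec x).symm]
      exact S.sub_mem hx (S.smul_mem _ h1)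
    obtain ⟨⟨a', ha⟩, ⟨b', hb⟩⟩ := (hψmem _ _).1 hσ
    rw [hdec x, ← hw, map_add, map_smul, map_smul, ha, hb, mul_comm _ a', mul_smul, ← add_assoc]
    refine Submodule.add_mem_sup (Submodule.add_mem _ ?_ ?_) ?_
    · exact Submodule.smul_mem _ _ (Submodule.subset_span (Set.mem_insert _ _))
    · exact Submodule.smul_mem _ _ (Submodule.subset_span (Set.mem_insert_of_mem _ rfl))
    · rw [mul_smul]
      exact Submodule.smul_mem_smul (Ideal.mem_span_singleton_self _) trivial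
  · refine sup_le (Submodule.span_le.2 ?_) hle
    rintro z (rfl | rfl)
    · exact h1
    · have := (hψmem ((PowerSeries.X : R) ^ m) 0).2 ⟨dvd_rfl, dvd_zero _⟩
      rwa [zero_smul, add_zero, map_smul] at this

end Groth.Agent.S13878
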