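import Groth.Statements.S13879
import Mathlib.RingTheory.PowerSeries.Basic
import Mathlib.RingTheory.Ideal.Operations
-- import your own Groth.Agent.* helpers here

set_option autoImplicit false
universe u
open Crimp

namespace Groth.Agent.S13879

private theorem mul_closed {R : Type u} [CommRing R] (I : Ideal R) (T : Set (Fin 3 → R)) (S : Submodule R (Fin 3 → R))
    (hS : S = Submodule.span R T ⊔ I • (⊤ : Submodule R (Fin 3 → R))) (h : ∀ a ∈ T, ∀ b ∈ T, a * b ∈ S) :
    ∀ x ∈ S, ∀ y ∈ S, x * y ∈ S := by
  have hid : ∀ z ∈ I • (⊤ : Submodule R (Fin 3 → R)), ∀ y, z * y ∈ S := by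
    intro z hz y
    refine Submodule.smul_induction_on hz (fun r hr v _ => ?_) (fun a b ha hb => by rw [add_mul]; exact S.add_mem ha hb)
    rw [smul_mul_assoc, hS]
    exact Submodule.mem_sup_right (Submodule.smul_mem_smul hr trivial)
  have h1 : ∀ a ∈ T, ∀ y ∈ S, a * y ∈ S := by
    intro a ha y hy
    rw [hS] at hy
    obtain ⟨u, hu, z, hz, rfl⟩ := Submodule.mem_sup.1 hy
    rw [mul_add, mul_comm a z]
    refine S.add_mem ?_ (hid z hz a)
    clear hy
    induction hu using Submodule.span_induction with
    | mem b hb => exact h a ha b hb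
    | zero => rw [mul_zero]; exact S.zero_mem
    | add b c _ _ hb hc => rw [mul_add]; exact S.add_mem hb hc
    | smul c b _ hb => rw [mul_smul_comm]; exact S.smul_mem c hb
  intro x hx y hy
  rw [hS] at hx
  obtain ⟨u, hu, z, hz, rfl⟩ := Submodule.mem_sup.1 hx
  rw [add_mul]
  refine S.add_mem ?_ (hid z hz y)
  clear hx
  induction hu using Submodule.span_induction with
  | mem a ha => exact h1 a ha y hy
  | zero => rw [zero_mul]; exact S.zero_mem
  | add b c _ _ hb hc => rw [add_mul]; exact S.add_mem hb hc
  | smul c b _ hb => rw [smul_mul_assoc]; exact S.smul_mem c hb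


/-- Over R = k⟦t⟧ with k an algebraically closed field of characteristic zero, let S' = R × R × R and
let S be the R-submodule R·1 + R·(t ^ m f) + t ^ n S' of S' for some f in S' and natural numbers m,
n. Then S is closed under multiplication (equivalently, is an R-subalgebra of S') if and only if t ^
(2m) f ^ 2 lies in S. (The published statement has m ≤ n and S' / S isomorphic to R / (t ^ m) ⊕ R /
(t ^ n), under which S has this shape; this row states the criterion for every submodule of this
shape.) -/
theorem result {k : Type u} [Field k] [IsAlgClosed k] [CharZero k] (m n : ℕ) (f : (Fin 3 → PowerSeries k))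
    (S : Submodule (PowerSeries k) (Fin 3 → PowerSeries k))
    (hS : S = Submodule.span (PowerSeries k) {(1 : (Fin 3 → PowerSeries k)), ((PowerSeries.X : PowerSeries k) ^ m) • f} ⊔
        Ideal.span {(PowerSeries.X : PowerSeries k) ^ n} • (⊤ : Submodule (PowerSeries k) (Fin 3 → PowerSeries k))) :
    (∀ x ∈ S, ∀ y ∈ S, x * y ∈ S) ↔ ((PowerSeries.X : PowerSeries k) ^ (2 * m)) • (f * f) ∈ S := by
  let R := PowerSeries k
  have e : ((PowerSeries.X : R) ^ m • f) * ((PowerSeries.X : R) ^ m • f) = (PowerSeries.X : R) ^ (2 * m) • (f * f) := by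
    rw [smul_mul_smul_comm, ← pow_add, two_mul]
  have h1 : ((PowerSeries.X : R) ^ m • f) ∈ S := by
    rw [hS]; exact Submodule.mem_sup_left (Submodule.subset_span (Set.mem_insert_of_mem _ rfl))
  have h0 : (1 : Fin 3 → R) ∈ S := by
    rw [hS]; exact Submodule.mem_sup_left (Submodule.subset_span (Set.mem_insert _ _))
  refine ⟨fun h => e ▸ h _ h1 _ h1, fun h => mul_closed _ _ S hS ?_⟩
  rintro a (rfl | rfl) b (rfl | rfl)
  · rwa [mul_one]
  · rwa [one_mul]
  · rwa [mul_one]
  · rwa [e]

end Groth.Agent.S13879
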