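import Groth.Statements.S13880
import Mathlib
import Groth.Agent.CrimpDouble.Basic
-- import your own Groth.Agent.* helpers here

set_option autoImplicit false
universe u
open Crimp

namespace Groth.Agent.S13880

/-- Over R = k⟦t⟧ with k an algebraically closed field of characteristic zero, let S' = R × R, the
trivial double cover of the formal disk (branch divisor (t ^ 0)). An R-subalgebra S of S' admits an
R-basis of size 2 whose discriminant generates (t ^ b), that is, S is a crimp with branch divisor (t
^ b), if and only if b = 2n for some n and S = R·1 + t ^ n S'. So there is exactly one such crimp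
when b is even and none when b is odd; moreover the subalgebra R·1 + t ^ n S' is isomorphic as an
R-algebra to R[y] / (y ^ 2 - t ^ (2n)) (existence of an isomorphism; y ↦ (t ^ n, -t ^ n)). (The
published statement also gives the space of crimps its reduced one-point scheme structure; this row
classifies its k-points.) -/
theorem result {k : Type u} [Field k] [IsAlgClosed k] [CharZero k] (b : ℕ) (S : Subalgebra (PowerSeries k) (Fin 2 → PowerSeries k)) :
    ((∃ bS : Module.Basis (Fin 2) (PowerSeries k) S,
      Ideal.span {Algebra.discr (PowerSeries k) ⇑bS} = Ideal.span {(PowerSeries.X : PowerSeries k) ^ b}) ↔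
    ∃ n : ℕ, b = 2 * n ∧
      Subalgebra.toSubmodule S = Submodule.span (PowerSeries k) {(1 : (Fin 2 → PowerSeries k))} ⊔
        Ideal.span {(PowerSeries.X : PowerSeries k) ^ n} • (⊤ : Submodule (PowerSeries k) (Fin 2 → PowerSeries k))) ∧
    (∀ n : ℕ, Subalgebra.toSubmodule S = Submodule.span (PowerSeries k) {(1 : (Fin 2 → PowerSeries k))} ⊔
        Ideal.span {(PowerSeries.X : PowerSeries k) ^ n} • (⊤ : Submodule (PowerSeries k) (Fin 2 → PowerSeries k)) →
      Nonempty (S ≃ₐ[PowerSeries k] AdjoinRoot (Polynomial.X ^ 2 - Polynomial.C ((PowerSeries.X : PowerSeries k) ^ (2 * n))))) := by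
  classical
  obtain ⟨h, hh⟩ : ∃ h : PowerSeries k, h * 2 = 1 := by
    have h2 : IsUnit (2 : PowerSeries k) := PowerSeries.isUnit_iff_constantCoeff.mpr (by
      rw [map_ofNat]; exact isUnit_iff_ne_zero.mpr two_ne_zero)
    exact h2.exists_left_inv
  let e : (Fin 2 → PowerSeries k) ≃ₗ[PowerSeries k] (Fin 2 → PowerSeries k) :=
    { toFun := fun z => ![h * (z 0 + z 1), h * (z 0 - z 1)]
      map_add' := fun z w => by ext1 i; fin_cases i <;> simp <;> ring
      map_smul' := fun c z => by ext1 i; fin_cases i <;> simp <;> ring
      invFun := fun c => ![c 0 + c 1, c 0 - c 1]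
      left_inv := fun z => by
        ext1 i; fin_cases i
        · change h * (z 0 + z 1) + h * (z 0 - z 1) = z 0
          linear_combination (z 0) * hh
        · change h * (z 0 + z 1) - h * (z 0 - z 1) = z 1
          linear_combination (z 1) * hh
      right_inv := fun c => by
        ext1 i; fin_cases i
        · change h * ((c 0 + c 1) + (c 0 - c 1)) = c 0
          linear_combination (c 0) * hh
        · change h * ((c 0 + c 1) - (c 0 - c 1)) = c 1
          linear_combination (c 1) * hh }
  let bt := Module.Basis.ofEquivFun e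
  have hb0 : bt 0 = 1 := by
    rw [Module.Basis.coe_ofEquivFun]
    ext1 i; fin_cases i <;> simp [e]
  have hb1 : bt 1 = ![1, -1] := by
    rw [Module.Basis.coe_ofEquivFun]
    ext1 i; fin_cases i <;> simp [e]
  have hsq : bt 1 * bt 1 = (1 : PowerSeries k) • (1 : Fin 2 → PowerSeries k) + (0 : PowerSeries k) • bt 1 := by
    rw [one_smul, zero_smul, add_zero, hb1]
    ext1 i; fin_cases i <;> simp
  refine ⟨?_, fun n hn => ?_⟩
  · refine (Groth.Agent.CrimpDouble.classify bt S hb0 1 0 hsq 0 ?_ b).trans (by simp)
    rw [pow_zero, Ideal.span_singleton_one, Ideal.span_singleton_eq_top, PowerSeries.isUnit_iff_constantCoeff]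
    refine isUnit_iff_ne_zero.mpr ?_
    rw [map_add, map_pow, map_zero, map_mul, map_one, map_ofNat]
    norm_num
  · obtain ⟨c, hc0, hc1⟩ := Groth.Agent.CrimpDouble.exists_basis bt S hb0 n hn
    refine Groth.Agent.CrimpDouble.nonempty_adjoinRoot c hc0 _ (Subtype.ext ?_)
    simp only [MulMemClass.coe_mul, SetLike.val_smul, OneMemClass.coe_one, hc1, smul_mul_smul_comm, hsq,
      one_smul, zero_smul, add_zero, ← pow_add, two_mul]

end Groth.Agent.S13880
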