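import Groth.Statements.S13881
import Mathlib
import Groth.Agent.CrimpDouble.Basic
-- import your own Groth.Agent.* helpers here

set_option autoImplicit false
universe u
open Crimp

namespace Groth.Agent.S13881

/-- Over R = k⟦t⟧ with k an algebraically closed field of characteristic zero, let S' = R[x] / (x ^ 2 -
t), the ramified smooth double cover of the formal disk (branch divisor (t)). An R-subalgebra S of
S' admits an R-basis of size 2 whose discriminant generates (t ^ b), that is, S is a crimp with
branch divisor (t ^ b), if and only if b = 2n + 1 for some n and S = R·1 + t ^ n S'. So there is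
exactly one such crimp when b is odd and none when b is even; moreover the subalgebra R·1 + t ^ n S'
is isomorphic as an R-algebra to R[y] / (y ^ 2 - t ^ (2n+1)) (existence of an isomorphism; y ↦ t ^ n
x). (The published statement describes this algebra as R[y] / (y ^ 2 - t ^ (b - a)) with a = 1, that
is R[y] / (y ^ 2 - t ^ (2n)); that algebra has discriminant ideal (t ^ (b - 1)), not (t ^ b), so
this row uses R[y] / (y ^ 2 - t ^ b) = R[y] / (y ^ 2 - t ^ (2n+1)), which is the algebra R·1 + t ^ n
S'. The published statement also gives the space of crimps its reduced one-point scheme structure;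
this row classifies its k-points.) -/
theorem result {k : Type u} [Field k] [IsAlgClosed k] [CharZero k] (b : ℕ)
    (S : Subalgebra (PowerSeries k) (AdjoinRoot (Polynomial.X ^ 2 - Polynomial.C (PowerSeries.X : PowerSeries k)))) :
    ((∃ bS : Module.Basis (Fin 2) (PowerSeries k) S,
      Ideal.span {Algebra.discr (PowerSeries k) ⇑bS} = Ideal.span {(PowerSeries.X : PowerSeries k) ^ b}) ↔
    ∃ n : ℕ, b = 2 * n + 1 ∧
      Subalgebra.toSubmodule S = Submodule.span (PowerSeries k) {(1 : (AdjoinRoot (Polynomial.X ^ 2 - Polynomial.C (PowerSeries.X : PowerSeries k))))} ⊔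
        Ideal.span {(PowerSeries.X : PowerSeries k) ^ n} • (⊤ : Submodule (PowerSeries k) (AdjoinRoot (Polynomial.X ^ 2 - Polynomial.C (PowerSeries.X : PowerSeries k))))) ∧
    (∀ n : ℕ, Subalgebra.toSubmodule S = Submodule.span (PowerSeries k) {(1 : (AdjoinRoot (Polynomial.X ^ 2 - Polynomial.C (PowerSeries.X : PowerSeries k))))} ⊔
        Ideal.span {(PowerSeries.X : PowerSeries k) ^ n} • (⊤ : Submodule (PowerSeries k) (AdjoinRoot (Polynomial.X ^ 2 - Polynomial.C (PowerSeries.X : PowerSeries k)))) →
      Nonempty (S ≃ₐ[PowerSeries k] AdjoinRoot (Polynomial.X ^ 2 - Polynomial.C ((PowerSeries.X : PowerSeries k) ^ (2 * n + 1))))) := by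
  classical
  have hm : (Polynomial.X ^ 2 - Polynomial.C (PowerSeries.X : PowerSeries k) : Polynomial (PowerSeries k)).Monic :=
    Polynomial.monic_X_pow_sub_C _ (by norm_num)
  let pb := AdjoinRoot.powerBasis' hm
  have hdim : pb.dim = 2 := by simp [pb]
  let bt := pb.basis.reindex (finCongr hdim)
  have hb0 : bt 0 = 1 := by simp [bt, PowerBasis.coe_basis]
  have hsq : bt 1 * bt 1 = (PowerSeries.X : PowerSeries k) •
      (1 : AdjoinRoot (Polynomial.X ^ 2 - Polynomial.C (PowerSeries.X : PowerSeries k))) +
        (0 : PowerSeries k) • bt 1 := by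
    have h1 : bt 1 = AdjoinRoot.root (Polynomial.X ^ 2 - Polynomial.C (PowerSeries.X : PowerSeries k)) := by
      simp [bt, PowerBasis.coe_basis, pb]
    have h2 := AdjoinRoot.eval₂_root (Polynomial.X ^ 2 - Polynomial.C (PowerSeries.X : PowerSeries k))
    rw [Polynomial.eval₂_sub, Polynomial.eval₂_X_pow, Polynomial.eval₂_C, sub_eq_zero] at h2
    rw [zero_smul, add_zero, h1, Algebra.smul_def, mul_one, ← pow_two, h2]
    rfl
  refine ⟨?_, fun n hn => ?_⟩
  · refine Groth.Agent.CrimpDouble.classify bt S hb0 PowerSeries.X 0 hsq 1 ?_ b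
    rw [pow_one, zero_pow two_ne_zero, zero_add, Ideal.span_singleton_mul_left_unit]
    rw [PowerSeries.isUnit_iff_constantCoeff, map_ofNat]
    exact isUnit_iff_ne_zero.mpr (by norm_num)
  · obtain ⟨c, hc0, hc1⟩ := Groth.Agent.CrimpDouble.exists_basis bt S hb0 n hn
    refine Groth.Agent.CrimpDouble.nonempty_adjoinRoot c hc0 _ (Subtype.ext ?_)
    simp only [MulMemClass.coe_mul, SetLike.val_smul, OneMemClass.coe_one, hc1, smul_mul_smul_comm, hsq,
      zero_smul, add_zero, smul_smul, ← pow_add, ← pow_succ, ← two_mul]

end Groth.Agent.S13881
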