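import Groth.Statements.S13884
import Mathlib
import Groth.Agent.CrimpVal.Basic
-- import your own Groth.Agent.* helpers here

set_option autoImplicit false
universe u
open Crimp

namespace Groth.Agent.S13884

/-- Over R = k⟦t⟧ with k an algebraically closed field of characteristic zero, let S' = k⟦x⟧ regarded as
an R-algebra through t ↦ x ^ 3, that is S' = R[x] / (x ^ 3 - t), the smooth totally ramified triple
cover of the formal disk. If M is an R-submodule of S' which is free of rank 3, then M has an
R-basis consisting of three power series whose x-adic valuations are pairwise distinct modulo 3.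
(Items (2) and (3) of the published proposition, on the base change of M to R[s] / (s ^ 3 - t), are
not restated.) -/
theorem result {k : Type u} [Field k] [IsAlgClosed k] [CharZero k]
    (M : Submodule (PowerSeries k) (W4c1hurwitzcpt.RootDisk 3 k))
    (bM : Module.Basis (Fin 3) (PowerSeries k) M) :
    ∃ g : Module.Basis (Fin 3) (PowerSeries k) M, ∀ i j : Fin 3, i ≠ j →
      ¬ Nat.ModEq 3 (PowerSeries.order (W4c1hurwitzcpt.RootDisk.val (((g i : M) : (W4c1hurwitzcpt.RootDisk 3 k)) : W4c1hurwitzcpt.RootDisk 3 k))).toNat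
        (PowerSeries.order (W4c1hurwitzcpt.RootDisk.val (((g j : M) : (W4c1hurwitzcpt.RootDisk 3 k)) : W4c1hurwitzcpt.RootDisk 3 k))).toNat := by
  classical
  have hv : Submodule.span (PowerSeries k) (Set.range fun r : Fin 3 =>
      W4c1hurwitzcpt.RootDisk.val.symm ((PowerSeries.X : PowerSeries k) ^ (r : ℕ))) = (⊤ : Submodule (PowerSeries k) (W4c1hurwitzcpt.RootDisk 3 k)) :=
    eq_top_iff.mpr fun f _ => Groth.Agent.CrimpVal.exists_sum f
  haveI : Module.Finite (PowerSeries k) (W4c1hurwitzcpt.RootDisk 3 k) := ⟨hv ▸ Submodule.fg_span (Set.finite_range _)⟩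
  obtain ⟨N, hN⟩ := Groth.Agent.CrimpVal.exists_pow_smul_mem _ hv M bM
  obtain ⟨g, hg, hspan⟩ := Groth.Agent.CrimpVal.exists_generators M (IsNoetherian.noetherian M) N hN
  have hgM : ∀ i, g i ∈ M := fun i => hspan ▸ Submodule.subset_span ⟨i, rfl⟩
  let w : Fin 3 → M := fun i => ⟨g i, hgM i⟩
  have hw : ⊤ ≤ Submodule.span (PowerSeries k) (Set.range w) := by
    intro m _
    apply Submodule.apply_mem_span_image_iff_mem_span (f := M.subtype) M.injective_subtype |>.mp
    rw [← Set.range_comp]
    exact hspan.ge m.2
  refine ⟨basisOfTopLeSpanOfCardEqFinrank w hw (Module.finrank_eq_card_basis bM).symm, fun i j hij h => hij (Fin.ext ?_)⟩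
  rw [coe_basisOfTopLeSpanOfCardEqFinrank] at h
  rw [← (hg i).1, ← (hg j).1]
  exact h

end Groth.Agent.S13884
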