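import Groth.Statements.S13885
import Mathlib
import Groth.Agent.CrimpVal.Basic
-- import your own Groth.Agent.* helpers here

set_option autoImplicit false
universe u
open Crimp

namespace Groth.Agent.S13885

/-- Over R = k⟦t⟧ with k an algebraically closed field of characteristic zero, let S' = k⟦x⟧ × R, where
k⟦x⟧ is regarded as an R-algebra through t ↦ x ^ 2, that is S' = R[x] / (x ^ 2 - t) ⊕ R, the smooth
simply ramified triple cover of the formal disk, with R embedded diagonally. If M is an R-submodule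
of S' containing 1 which is free of rank 3, then M is spanned by 1, (f₁, 0) and (f₂, 0) for some
power series f₁, f₂ whose x-adic valuations are distinct modulo 2. (Items (2) and (3) of the
published proposition, on the base change of M to R[s] / (s ^ 2 - t), are not restated.) -/
theorem result {k : Type u} [Field k] [IsAlgClosed k] [CharZero k]
    (M : Submodule (PowerSeries k) (W4c1hurwitzcpt.RootDisk 2 k × PowerSeries k))
    (h1 : (1 : (W4c1hurwitzcpt.RootDisk 2 k × PowerSeries k)) ∈ M)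
    (bM : Module.Basis (Fin 3) (PowerSeries k) M) :
    ∃ f₁ f₂ : W4c1hurwitzcpt.RootDisk 2 k,
      ¬ Nat.ModEq 2 (PowerSeries.order (W4c1hurwitzcpt.RootDisk.val (f₁ : W4c1hurwitzcpt.RootDisk 2 k))).toNat (PowerSeries.order (W4c1hurwitzcpt.RootDisk.val (f₂ : W4c1hurwitzcpt.RootDisk 2 k))).toNat ∧
      M = Submodule.span (PowerSeries k) {(1 : (W4c1hurwitzcpt.RootDisk 2 k × PowerSeries k)), (f₁, 0), (f₂, 0)} := by
  classical
  have hv : Submodule.span (PowerSeries k) (Set.range fun r : Fin 2 =>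
      W4c1hurwitzcpt.RootDisk.val.symm ((PowerSeries.X : PowerSeries k) ^ (r : ℕ))) = (⊤ : Submodule (PowerSeries k) (W4c1hurwitzcpt.RootDisk 2 k)) :=
    eq_top_iff.mpr fun f _ => Groth.Agent.CrimpVal.exists_sum f
  haveI : Module.Finite (PowerSeries k) (W4c1hurwitzcpt.RootDisk 2 k) := ⟨hv ▸ Submodule.fg_span (Set.finite_range _)⟩
  let F := W4c1hurwitzcpt.RootDisk 2 k × PowerSeries k
  let ι : W4c1hurwitzcpt.RootDisk 2 k →ₗ[PowerSeries k] F := LinearMap.inl _ _ _
  let v : Fin 3 → F := ![ι (W4c1hurwitzcpt.RootDisk.val.symm ((PowerSeries.X : PowerSeries k) ^ (0 : ℕ))),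
    ι (W4c1hurwitzcpt.RootDisk.val.symm ((PowerSeries.X : PowerSeries k) ^ (1 : ℕ))), (0, 1)]
  have hvF : Submodule.span (PowerSeries k) (Set.range v) = ⊤ := by
    rw [eq_top_iff]
    intro z _
    have h2 : z = ι z.1 + z.2 • ((0 : W4c1hurwitzcpt.RootDisk 2 k), (1 : PowerSeries k)) :=
      Prod.ext
        (show z.1 = z.1 + z.2 • (0 : W4c1hurwitzcpt.RootDisk 2 k) by rw [smul_zero, add_zero])
        (show z.2 = 0 + z.2 • (1 : PowerSeries k) by rw [smul_eq_mul, mul_one, zero_add])
    rw [h2]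
    refine add_mem ?_ (Submodule.smul_mem _ _ (Submodule.subset_span ⟨2, rfl⟩))
    have h1 : z.1 ∈ Submodule.span (PowerSeries k) _ := Groth.Agent.CrimpVal.exists_sum z.1
    refine Submodule.span_le.mpr ?_ ((Submodule.map_span ι _).le (Submodule.mem_map_of_mem h1))
    rintro _ ⟨_, ⟨r, rfl⟩, rfl⟩
    fin_cases r
    · exact Submodule.subset_span ⟨0, rfl⟩
    · exact Submodule.subset_span ⟨1, rfl⟩
  obtain ⟨N, hN⟩ := Groth.Agent.CrimpVal.exists_pow_smul_mem v hvF M bM
  obtain ⟨g, hg, hspan⟩ := Groth.Agent.CrimpVal.exists_generators (M.comap ι) (IsNoetherian.noetherian _) N (fun f => by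
    rw [Submodule.mem_comap, map_smul]; exact hN (ι f))
  refine ⟨g 0, g 1, fun h => ?_, le_antisymm ?_ ?_⟩
  · have h' : _ % 2 = _ % 2 := h
    rw [(hg 0).1, (hg 1).1] at h'
    simp at h'
  · intro m hm
    have h2 : m = m.2 • (1 : F) + ι (m.1 - m.2 • 1) := Prod.ext
        (show m.1 = m.2 • (1 : W4c1hurwitzcpt.RootDisk 2 k) + (m.1 - m.2 • 1) by abel)
        (show m.2 = m.2 • (1 : PowerSeries k) + 0 by rw [smul_eq_mul, mul_one, add_zero])
    have hmem : ι (m.1 - m.2 • 1) ∈ M := by
      rw [show ι (m.1 - m.2 • 1) = m - m.2 • (1 : F) from eq_sub_of_add_eq' h2.symm]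
      exact M.sub_mem hm (M.smul_mem _ h1)
    rw [h2]
    refine add_mem (Submodule.smul_mem _ _ (Submodule.subset_span (Or.inl rfl))) ?_
    refine Submodule.span_le.mpr ?_ ((Submodule.map_span ι _).le (Submodule.mem_map_of_mem (hspan.ge hmem)))
    rintro _ ⟨_, ⟨r, rfl⟩, rfl⟩
    fin_cases r
    · exact Submodule.subset_span (Or.inr (Or.inl rfl))
    · exact Submodule.subset_span (Or.inr (Or.inr rfl))
  · rw [Submodule.span_le]
    rintro z (rfl | rfl | rfl)
    · exact h1
    · exact (hspan.le (Submodule.subset_span ⟨0, rfl⟩) : ι (g 0) ∈ M)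
    · exact (hspan.le (Submodule.subset_span ⟨1, rfl⟩) : ι (g 1) ∈ M)

end Groth.Agent.S13885
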