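import Groth.Statements.S13886
import Mathlib.RingTheory.PowerSeries.Inverse
import Mathlib.RingTheory.Ideal.Operations
import Mathlib.LinearAlgebra.Quotient.Basic
import Mathlib.Tactic.FinCases
import Mathlib.Tactic.Ring
import Mathlib.Tactic.LinearCombination
import Mathlib.LinearAlgebra.Pi
-- import your own Groth.Agent.* helpers here

set_option autoImplicit false
universe u
open Crimp

namespace Groth.Agent.S13886

private theorem mul_closed {R : Type u} [CommRing R] (I : Ideal R) (T : Set (Fin 3 → R)) (S : Submodule R (Fin 3 → R))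
    (hS : S = Submodule.span R T ⊔ I • (⊤ : Submodule R (Fin 3 → R))) (h : ∀ a ∈ T, ∀ b ∈ T, a * b ∈ S) :
    ∀ x ∈ S, ∀ y ∈ S, x * y ∈ S := by
  have hid : ∀ z ∈ I • (⊤ : Submodule R (Fin 3 → R)), ∀ y, z * y ∈ S := by
    intro z hz y
    refine Submodule.smul_induction_on hz (fun r hr v _ => ?_) (fun a b ha hb => by rw [add_mul]; exact S.add_mem ha hb)
    rw [smul_mul_assoc, hS]
    exact Submodule.mem_sup_right (Submodule.smul_mem_smul hr trivial)
  have h1 : ∀ a ∈ T, ∀ y ∈ S, a * y ∈ S := by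
    intro a ha y hy
    rw [hS] at hy
    obtain ⟨u, hu, z, hz, rfl⟩ := Submodule.mem_sup.1 hy
    rw [mul_add, mul_comm a z]
    refine S.add_mem ?_ (hid z hz a)
    clear hy
    induction hu using Submodule.span_induction with
    | mem b hb => exact h a ha b hb
    | zero => rw [mul_zero]; exact S.zero_mem
    | add b c _ _ hb hc => rw [mul_add]; exact S.add_mem hb hc
    | smul c b _ hb => rw [mul_smul_comm]; exact S.smul_mem c hb
  intro x hx y hy
  rw [hS] at hx
  obtain ⟨u, hu, z, hz, rfl⟩ := Submodule.mem_sup.1 hx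
  rw [add_mul]
  refine S.add_mem ?_ (hid z hz y)
  clear hx
  induction hu using Submodule.span_induction with
  | mem a ha => exact h1 a ha y hy
  | zero => rw [zero_mul]; exact S.zero_mem
  | add b c _ _ hb hc => rw [add_mul]; exact S.add_mem hb hc
  | smul c b _ hb => rw [smul_mul_assoc]; exact S.smul_mem c hb


/-- Over R = k⟦t⟧ with k an algebraically closed field of characteristic zero, let S' = R × R × R be the
unramified triple cover of the formal disk and let m ≤ n ≤ 2m be natural numbers. For every f in S'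
not lying in R·1 + t S', the R-submodule S = R·1 + R·(t ^ m f) + t ^ n S' is closed under
multiplication, hence an R-subalgebra (a crimp), and S' / S is isomorphic to R / (t ^ m) ⊕ R / (t ^
n) (so the crimp has μ-invariant n - m and branch divisor (t ^ (2(m+n)))). Together with the
structure result for submodules with this quotient, this identifies the k-points of the space of
crimps of splitting type (m, n), 2m ≥ n, with the submodules of this shape. (The published statement
moreover asserts that this stratum is an irreducible variety of dimension n - m; that part is not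
restated.) -/
theorem result {k : Type u} [Field k] [IsAlgClosed k] [CharZero k]
    (m n : ℕ) (hmn : m ≤ n) (hn : n ≤ 2 * m)
    (f : (Fin 3 → PowerSeries k)) (hf : f ∉ Submodule.span (PowerSeries k) {(1 : (Fin 3 → PowerSeries k))} ⊔ Ideal.span {(PowerSeries.X : PowerSeries k)} • (⊤ : Submodule (PowerSeries k) (Fin 3 → PowerSeries k)))
    (S : Submodule (PowerSeries k) (Fin 3 → PowerSeries k))
    (hS : S = Submodule.span (PowerSeries k) {(1 : (Fin 3 → PowerSeries k)), ((PowerSeries.X : PowerSeries k) ^ m) • f} ⊔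
        Ideal.span {(PowerSeries.X : PowerSeries k) ^ n} • (⊤ : Submodule (PowerSeries k) (Fin 3 → PowerSeries k))) :
    (∀ x ∈ S, ∀ y ∈ S, x * y ∈ S) ∧
    Nonempty (((Fin 3 → PowerSeries k) ⧸ S) ≃ₗ[PowerSeries k]
      ((PowerSeries k ⧸ Ideal.span {(PowerSeries.X : PowerSeries k) ^ m}) × (PowerSeries k ⧸ Ideal.span {(PowerSeries.X : PowerSeries k) ^ n}))) := by
  let R := PowerSeries k
  have h1 : (1 : Fin 3 → R) ∈ S := by
    rw [hS]; exact Submodule.mem_sup_left (Submodule.subset_span (Set.mem_insert _ _))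
  have hf1 : ((PowerSeries.X : R) ^ m • f) ∈ S := by
    rw [hS]; exact Submodule.mem_sup_left (Submodule.subset_span (Set.mem_insert_of_mem _ rfl))
  refine ⟨mul_closed _ _ S hS ?_, ?_⟩
  · rintro a (rfl | rfl) b (rfl | rfl)
    · rwa [mul_one]
    · rwa [one_mul]
    · rwa [mul_one]
    · rw [hS, smul_mul_smul_comm, ← pow_add]
      exact Submodule.mem_sup_right (Submodule.smul_mem_smul (Ideal.mem_span_singleton.2 (pow_dvd_pow _ (by omega))) trivial)
  -- coordinates modulo `R • 1`
  let a : R := f 1 - f 0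
  let b : R := f 2 - f 0
  have hab : PowerSeries.constantCoeff a ≠ 0 ∨ PowerSeries.constantCoeff b ≠ 0 := by
    by_contra! h
    obtain ⟨⟨ca, hca⟩, ⟨cb, hcb⟩⟩ := And.intro (PowerSeries.X_dvd_iff.2 h.1) (PowerSeries.X_dvd_iff.2 h.2)
    apply hf
    have hdec : f = f 0 • (1 : Fin 3 → R) + (PowerSeries.X : R) • (![0, ca, cb] : Fin 3 → R) := by
      ext1 i; fin_cases i <;> simp [← hca, ← hcb, a, b]
    rw [hdec]
    exact Submodule.add_mem_sup (Submodule.smul_mem _ _ (Submodule.mem_span_singleton_self _))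
      (Submodule.smul_mem_smul (Ideal.mem_span_singleton_self _) trivial)
  obtain ⟨u, v, D, hD⟩ : ∃ u v : R, ∃ D : Rˣ, (D : R) = a * v - b * u := by
    rcases hab with h | h
    · obtain ⟨D, hD⟩ : IsUnit a := PowerSeries.isUnit_iff_constantCoeff.2 (Ne.isUnit h)
      exact ⟨0, 1, D, by rw [hD]; ring⟩
    · obtain ⟨D, hD⟩ : IsUnit b := PowerSeries.isUnit_iff_constantCoeff.2 (Ne.isUnit h)
      exact ⟨-1, 0, D, by rw [hD]; ring⟩
  let I₁ : Ideal R := Ideal.span {(PowerSeries.X : R) ^ m}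
  let I₂ : Ideal R := Ideal.span {(PowerSeries.X : R) ^ n}
  let d₁ : (Fin 3 → R) →ₗ[R] R := LinearMap.proj (R := R) (φ := fun _ : Fin 3 => R) 1 - LinearMap.proj (R := R) (φ := fun _ : Fin 3 => R) 0
  let d₂ : (Fin 3 → R) →ₗ[R] R := LinearMap.proj (R := R) (φ := fun _ : Fin 3 => R) 2 - LinearMap.proj (R := R) (φ := fun _ : Fin 3 => R) 0
  let c₁ : (Fin 3 → R) →ₗ[R] R := (↑D⁻¹ : R) • (v • d₁ - u • d₂)
  let c₂ : (Fin 3 → R) →ₗ[R] R := (↑D⁻¹ : R) • (a • d₂ - b • d₁)
  let Ψ : (Fin 3 → R) →ₗ[R] (R ⧸ I₁) × (R ⧸ I₂) := (I₁.mkQ ∘ₗ c₁).prod (I₂.mkQ ∘ₗ c₂)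
  let g : Fin 3 → R := ![0, u, v]
  have hc1 : c₁ (1 : Fin 3 → R) = 0 ∧ c₂ (1 : Fin 3 → R) = 0 := by constructor <;> simp [c₁, c₂, d₁, d₂]
  have hcf : c₁ f = 1 ∧ c₂ f = 0 := by
    constructor
    · show (↑D⁻¹ : R) * (v * a - u * b) = 1
      rw [show v * a - u * b = (D : R) by rw [hD]; ring, Units.inv_mul]
    · show (↑D⁻¹ : R) * (a * b - b * a) = 0
      ring
  have hcg : c₁ g = 0 ∧ c₂ g = 1 := by
    constructor
    · show (↑D⁻¹ : R) * (v * (u - 0) - u * (v - 0)) = 0
      ring
    · show (↑D⁻¹ : R) * (a * (v - 0) - b * (u - 0)) = 1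
      rw [show a * (v - 0) - b * (u - 0) = (D : R) by rw [hD]; ring, Units.inv_mul]
  have hdec : ∀ z : Fin 3 → R, z = z 0 • 1 + c₁ z • (f - f 0 • 1) + c₂ z • g := by
    intro z
    have hu := Units.inv_mul D
    ext1 i
    fin_cases i
    · simp [g]
    · show z 1 = z 0 * 1 + (↑D⁻¹ : R) * (v * (z 1 - z 0) - u * (z 2 - z 0)) * (f 1 - f 0 * 1) + (↑D⁻¹ : R) * (a * (z 2 - z 0) - b * (z 1 - z 0)) * u
      linear_combination (z 0 - z 1) * hu + (z 1 - z 0) * (↑D⁻¹ : R) * hD
    · show z 2 = z 0 * 1 + (↑D⁻¹ : R) * (v * (z 1 - z 0) - u * (z 2 - z 0)) * (f 2 - f 0 * 1) + (↑D⁻¹ : R) * (a * (z 2 - z 0) - b * (z 1 - z 0)) * v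
      linear_combination (z 0 - z 2) * hu + (z 2 - z 0) * (↑D⁻¹ : R) * hD
  have hsurj : Function.Surjective Ψ := by
    rintro ⟨p, q⟩
    obtain ⟨p, rfl⟩ := Submodule.mkQ_surjective _ p
    obtain ⟨q, rfl⟩ := Submodule.mkQ_surjective _ q
    exact ⟨p • f + q • g, by simp [Ψ, hcf, hcg]⟩
  have hker : LinearMap.ker Ψ = S := by
    refine le_antisymm (fun z hz => ?_) ?_
    · rw [LinearMap.mem_ker] at hz
      obtain ⟨p', hp⟩ := Ideal.mem_span_singleton.1 ((Submodule.Quotient.mk_eq_zero I₁).1 (congrArg Prod.fst hz))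
      obtain ⟨q', hq⟩ := Ideal.mem_span_singleton.1 ((Submodule.Quotient.mk_eq_zero I₂).1 (congrArg Prod.snd hz))
      rw [hdec z, hp, hq, smul_sub, smul_smul]
      refine S.add_mem (S.add_mem (S.smul_mem _ h1) (S.sub_mem ?_ (S.smul_mem _ h1))) ?_
      · rw [mul_comm, mul_smul]; exact S.smul_mem _ hf1
      · rw [hS, mul_smul]
        exact Submodule.mem_sup_right (Submodule.smul_mem_smul (Ideal.mem_span_singleton_self _) trivial)
    · rw [hS]
      refine sup_le (Submodule.span_le.2 ?_) (Submodule.smul_le.2 fun r hr z _ => ?_)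
      · rintro z (rfl | rfl)
        · simp [Ψ, hc1]
        · rw [SetLike.mem_coe, LinearMap.mem_ker, map_smul]
          refine Prod.ext ?_ ?_
          · show (PowerSeries.X : R) ^ m • I₁.mkQ (c₁ f) = 0
            rw [hcf.1, ← map_smul]
            exact (Submodule.Quotient.mk_eq_zero I₁).2 (by simp [I₁, Ideal.mem_span_singleton_self])
          · show (PowerSeries.X : R) ^ m • I₂.mkQ (c₂ f) = 0
            rw [hcf.2, map_zero, smul_zero]
      · rw [LinearMap.mem_ker, map_smul]
        refine Prod.ext ?_ ?_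
        · show r • I₁.mkQ (c₁ z) = 0
          rw [← map_smul]
          exact (Submodule.Quotient.mk_eq_zero I₁).2 (I₁.mul_mem_right _ (Ideal.span_singleton_le_span_singleton.2 (pow_dvd_pow _ hmn) hr))
        · show r • I₂.mkQ (c₂ z) = 0
          rw [← map_smul]
          exact (Submodule.Quotient.mk_eq_zero I₂).2 (I₂.mul_mem_right _ hr)
  exact ⟨(Submodule.quotEquivOfEq _ _ hker.symm).trans (Ψ.quotKerEquivOfSurjective hsurj)⟩

end Groth.Agent.S13886
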