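import Groth.Statements.S1390
import Mathlib
import Groth.Agent.S9722

set_option autoImplicit false
universe u
open FlatMor

namespace Groth.Agent.S1390

open AlgebraicGeometry CategoryTheory Limits in
/-- Let (U, u) be an étale neighbourhood of (S, s), i.e. U → S étale with u over s. Then there are an
affine open neighbourhood V of s and a surjective, finite, flat morphism of finite presentation π :
T → V such that every point t of T over s has an open neighbourhood W_t with an S-morphism W_t → U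
sending t to u. -/
theorem result {U S : Scheme.{u}} (e : U ⟶ S) [Etale e] (u : U) (s : S) (hu : e u = s) :
    ∃ (V : S.Opens) (T : Scheme.{u}) (π : T ⟶ (V : Scheme.{u})), s ∈ V ∧ IsAffineOpen V ∧ Surjective π ∧ IsFinite π ∧ Flat π ∧ LocallyOfFinitePresentation π ∧
      ∀ t : T, V.ι (π t) = s → ∃ (W : T.Opens) (h : (W : Scheme.{u}) ⟶ U), t ∈ W ∧ h ≫ e = W.ι ≫ π ≫ V.ι ∧ ∀ ht : t ∈ W, h ⟨t, ht⟩ = u := by
  classical
  subst hu
  obtain ⟨V, hV, hsV, -⟩ :=
    exists_isAffineOpen_mem_and_subset (U := ⊤) (show e u ∈ (⊤ : S.Opens) from trivial)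
  obtain ⟨U', hU', huU', le, hstd⟩ := (Groth.Agent.S9722.result e u V hV hsV).mp
    ⟨⊤, trivial, inferInstance⟩
  letI : Algebra Γ(S, V) Γ(U, U') := (e.appLE V U' le).hom.toAlgebra
  haveI : Algebra.IsStandardEtale Γ(S, V) Γ(U, U') := hstd
  obtain ⟨P⟩ := Algebra.IsStandardEtale.nonempty_standardEtalePresentation (R := Γ(S, V)) (S := Γ(U, U'))
  haveI : Nontrivial Γ(S, V) := ⟨⟨0, 1, fun h => (hV.primeIdealOf ⟨e u, hsV⟩).isPrime.ne_top
    ((Ideal.eq_top_iff_one _).mpr (h ▸ zero_mem _))⟩⟩
  obtain ⟨T, _, _, _, _, _, hsplit⟩ := P.monic_f.exists_splits_map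
  let π₀ : Spec (CommRingCat.of T) ⟶ Spec Γ(S, V) := Spec.map (CommRingCat.ofHom (algebraMap Γ(S, V) T))
  let π : Spec (CommRingCat.of T) ⟶ (V : Scheme.{u}) := π₀ ≫ hV.isoSpec.inv
  have hπι : π ≫ V.ι = π₀ ≫ hV.fromSpec := by
    simp only [π, Category.assoc, IsAffineOpen.isoSpec_inv_ι]
  have h0f : IsFinite π₀ := by
    rw [IsFinite.SpecMap_iff]
    exact RingHom.finite_algebraMap.mpr inferInstance
  have h0fl : Flat π₀ := by
    rw [HasRingHomProperty.Spec_iff (P := @Flat)]
    exact RingHom.flat_algebraMap_iff.mpr inferInstance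
  haveI : Module.FinitePresentation Γ(S, V) T := Module.finitePresentation_of_projective _ T
  have h0p : LocallyOfFinitePresentation π₀ := by
    rw [HasRingHomProperty.Spec_iff (P := @LocallyOfFinitePresentation)]
    exact RingHom.finitePresentation_algebraMap.mpr
      (Algebra.FinitePresentation.of_finitePresentation _ _)
  have h0s : Surjective π₀ := by
    refine ⟨?_⟩
    haveI : Module.FaithfullyFlat Γ(S, V) T := inferInstance
    exact PrimeSpectrum.comap_surjective_of_faithfullyFlat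
  refine ⟨V, Spec (CommRingCat.of T), π, hsV, hV, inferInstance, inferInstance, inferInstance, inferInstance,
    fun t ht => ?_⟩
  let q : PrimeSpectrum Γ(U, U') := hU'.primeIdealOf ⟨u, huU'⟩
  have hq : hU'.fromSpec q = u := hU'.fromSpec_primeIdealOf ⟨u, huU'⟩
  have sq := IsAffineOpen.SpecMap_appLE_fromSpec e hV hU' le
  have hpq : Spec.map (CommRingCat.ofHom (algebraMap Γ(S, V) Γ(U, U'))) q = π₀ t := by
    apply hV.fromSpec.isOpenEmbedding.injective
    rw [← Scheme.Hom.comp_apply π₀, ← hπι, Scheme.Hom.comp_apply, ht,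
      show CommRingCat.ofHom (algebraMap Γ(S, V) Γ(U, U')) = e.appLE V U' le from rfl,
      ← Scheme.Hom.comp_apply, sq, Scheme.Hom.comp_apply, hq]
  obtain ⟨z, hz₁, hz₂⟩ := Scheme.Pullback.exists_preimage_pullback (f := Spec.map (CommRingCat.ofHom (algebraMap Γ(S, V) Γ(U, U')))) (g := π₀) q t hpq
  let r : PrimeSpectrum (TensorProduct Γ(S, V) Γ(U, U') T) := (pullbackSpecIso Γ(S, V) Γ(U, U') T).hom z
  have hrz : (pullbackSpecIso Γ(S, V) Γ(U, U') T).inv r = z := by
    rw [← Scheme.Hom.comp_apply, Iso.hom_inv_id]; rfl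
  have hrq : PrimeSpectrum.comap Algebra.TensorProduct.includeLeftRingHom r = q := by
    have h1 := congrArg (fun m : _ ⟶ Spec (CommRingCat.of Γ(U, U')) => m r) (pullbackSpecIso_inv_fst Γ(S, V) Γ(U, U') T)
    simp only [Scheme.Hom.comp_apply] at h1
    rw [hrz, hz₁] at h1
    exact h1.symm
  have hrt : PrimeSpectrum.comap (Algebra.TensorProduct.includeRight : T →ₐ[Γ(S, V)] _).toRingHom r = t := by
    have h1 := congrArg (fun m : _ ⟶ Spec (CommRingCat.of T) => m r) (pullbackSpecIso_inv_snd Γ(S, V) Γ(U, U') T)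
    simp only [Scheme.Hom.comp_apply] at h1
    rw [hrz, hz₂] at h1
    exact h1.symm
  let L := r.asIdeal.ResidueField
  let ψ : Γ(U, U') →ₐ[Γ(S, V)] L := (IsScalarTower.toAlgHom Γ(S, V) (TensorProduct Γ(S, V) Γ(U, U') T) L).comp Algebra.TensorProduct.includeLeft
  let ρ : T →ₐ[Γ(S, V)] L := (IsScalarTower.toAlgHom Γ(S, V) (TensorProduct Γ(S, V) Γ(U, U') T) L).comp Algebra.TensorProduct.includeRight
  have hψ : ∀ c, ψ c = 0 ↔ c ∈ q.asIdeal := fun c => by
    rw [← hrq]
    exact Ideal.algebraMap_residueField_eq_zero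
  have hρ : ∀ c, ρ c = 0 ↔ c ∈ (t : PrimeSpectrum T).asIdeal := fun c => by
    rw [← hrt]
    exact Ideal.algebraMap_residueField_eq_zero
  -- a root of `f` in `T` with the same image as `x`
  obtain ⟨α, hα, hfα⟩ : ∃ α : T, ρ α = ψ P.x ∧ Polynomial.aeval α P.f = 0 := by
    obtain ⟨h1, -⟩ := P.hasMap
    have hz : ((P.f.map (algebraMap Γ(S, V) T)).map (ρ : T →+* L)).eval (ψ P.x) = 0 := by
      rw [Polynomial.map_map, AlgHom.comp_algebraMap, Polynomial.eval_map, ← Polynomial.aeval_def,
        Polynomial.aeval_algHom_apply, h1, map_zero]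
    have hne : (P.f.map (algebraMap Γ(S, V) T)).map (ρ : T →+* L) ≠ 0 :=
      ((P.monic_f.map _).map _).ne_zero
    have key : ∀ F ∈ Submonoid.closure ({Polynomial.C a | a : T} ∪ {Polynomial.X + Polynomial.C a | a : T}),
        F.map (ρ : T →+* L) ≠ 0 → (F.map (ρ : T →+* L)).eval (ψ P.x) = 0 →
          ∃ α : T, ρ α = ψ P.x ∧ F.eval α = 0 := by
      intro F hF
      induction hF using Submonoid.closure_induction with
      | mem G hG =>
        rcases hG with ⟨a, rfl⟩ | ⟨a, rfl⟩
        · intro hn h0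
          simp only [Polynomial.map_C, Polynomial.eval_C] at hn h0
          exact absurd (by rw [h0, map_zero]) hn
        · intro _ h0
          refine ⟨-a, ?_, by simp⟩
          simp only [Polynomial.map_add, Polynomial.map_X, Polynomial.map_C, Polynomial.eval_add,
            Polynomial.eval_X, Polynomial.eval_C] at h0
          rw [map_neg]
          exact (eq_neg_of_add_eq_zero_left h0).symm
      | one => intro _ h0; simp at h0
      | mul G H _ _ hG hH =>
        intro hn h0
        rw [Polynomial.map_mul] at hn h0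
        rw [Polynomial.eval_mul] at h0
        rcases mul_eq_zero.mp h0 with h0 | h0
        · obtain ⟨α, h1, h2⟩ := hG (left_ne_zero_of_mul hn) h0
          exact ⟨α, h1, by rw [Polynomial.eval_mul, h2, zero_mul]⟩
        · obtain ⟨α, h1, h2⟩ := hH (right_ne_zero_of_mul hn) h0
          exact ⟨α, h1, by rw [Polynomial.eval_mul, h2, mul_zero]⟩
    obtain ⟨α, h2, h3⟩ := key _ hsplit hne hz
    exact ⟨α, h2, by rwa [Polynomial.eval_map, ← Polynomial.aeval_def] at h3⟩
  let h : T := Polynomial.aeval α P.g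
  have hρh : ρ h = ψ (Polynomial.aeval P.x P.g) := by
    rw [← Polynomial.aeval_algHom_apply, hα, Polynomial.aeval_algHom_apply]
  have hht : h ∉ (t : PrimeSpectrum T).asIdeal := by
    rw [← hρ, hρh]
    exact (P.hasMap.2.map ψ).ne_zero
  let Th := Localization.Away h
  have hmap : P.HasMap (algebraMap T Th α) := by
    refine ⟨?_, ?_⟩
    · rw [Polynomial.aeval_algebraMap_apply, hfα, map_zero]
    · rw [Polynomial.aeval_algebraMap_apply]
      exact IsLocalization.Away.algebraMap_isUnit h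
  let φ : Γ(U, U') →ₐ[Γ(S, V)] Th := (P.lift (algebraMap T Th α) hmap).comp P.equivRing.toAlgHom
  let j : Spec (CommRingCat.of Th) ⟶ Spec (CommRingCat.of T) := Spec.map (CommRingCat.ofHom (algebraMap T Th))
  haveI : IsOpenImmersion j := IsOpenImmersion.of_isLocalization h
  let k : Spec (CommRingCat.of Th) ⟶ U :=
    Spec.map (CommRingCat.ofHom φ.toRingHom) ≫ hU'.fromSpec
  have hk : k ≫ e = j ≫ π ≫ V.ι := by
    simp only [k, j, Category.assoc]
    rw [← sq, hπι, ← Category.assoc, ← Category.assoc, ← Spec.map_comp, ← Spec.map_comp]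
    congr 2
    ext a
    exact (φ.commutes a).trans (IsScalarTower.algebraMap_apply Γ(S, V) T Th a)
  let ρ' : Th →+* L := IsLocalization.Away.lift h (g := (ρ : T →+* L))
    (isUnit_iff_ne_zero.mpr fun h0 => hht ((hρ h).mp h0))
  have hρ' : ∀ c, ρ' (algebraMap T Th c) = ρ c := fun c => IsLocalization.Away.lift_eq _ _ c
  have hcomp : ∀ c, ρ' (φ c) = ψ c := by
    have hc : ∀ a, ρ' (algebraMap Γ(S, V) Th a) = algebraMap Γ(S, V) L a := fun a => by
      rw [IsScalarTower.algebraMap_apply Γ(S, V) T Th, hρ', AlgHom.commutes]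
    let ρa : Th →ₐ[Γ(S, V)] L := { ρ' with commutes' := hc }
    have he : (ρa.comp (P.lift (algebraMap T Th α) hmap)) = ψ.comp P.equivRing.symm.toAlgHom := by
      apply P.P.hom_ext
      simp [ρa, hρ', hα]
    intro c
    have := DFunLike.congr_fun he (P.equivRing c)
    simpa [ρa, φ] using this
  let t' : PrimeSpectrum Th := ⟨RingHom.ker ρ', RingHom.ker_isPrime _⟩
  have hjt : j t' = t := by
    refine PrimeSpectrum.ext (Ideal.ext fun c => ?_)
    show ρ' (algebraMap T Th c) = 0 ↔ _
    rw [hρ']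
    exact hρ c
  have hkt : k t' = u := by
    rw [← hq]
    show hU'.fromSpec (Spec.map (CommRingCat.ofHom φ.toRingHom) t') = _
    congr 1
    refine PrimeSpectrum.ext (Ideal.ext fun c => ?_)
    show ρ' (φ c) = 0 ↔ _
    rw [hcomp]
    exact hψ c
  refine ⟨j.opensRange, j.isoOpensRange.inv ≫ k, ⟨t', hjt⟩, ?_, fun htW => ?_⟩
  · rw [Category.assoc, hk, ← Category.assoc, Scheme.Hom.isoOpensRange_inv_comp]
  · have : j.isoOpensRange.inv ⟨t, htW⟩ = t' := by
      apply j.isOpenEmbedding.injective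
      rw [← Scheme.Hom.comp_apply, Scheme.Hom.isoOpensRange_inv_comp]
      exact hjt.symm
    rw [Scheme.Hom.comp_apply, this, hkt]

end Groth.Agent.S1390
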