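import Groth.Statements.S13903
import Mathlib

set_option autoImplicit false
universe u
open EtAlg

namespace Groth.Agent.S13903

/-- Let K be a field and L a finite-dimensional reduced commutative K-algebra of dimension d all of
whose elements are separable over K, generated as a K-algebra by z and t. In any finite set of at
least d^(4d) elements of K there is an element c such that c • z + t generates L as a K-algebra.
(The published statement does not require separability; for K of characteristic p and L obtained by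
adjoining p-th roots of two independent indeterminates, L is a reduced finite K-algebra generated by
two elements with no single generator, so separability over K is assumed here, as the counting in
the published proof requires.) -/
theorem result (K L : Type u) [Field K] [CommRing L]
    [Algebra K L] [Module.Finite K L] [IsReduced L] [Algebra.IsSeparable K L] (z t : L)
    (hgen : Algebra.adjoin K ({z, t} : Set L) = ⊤) (S : Finset K)
    (hS : Module.finrank K L ^ (4 * Module.finrank K L) ≤ S.card) :
    ∃ c ∈ S, Algebra.adjoin K ({c • z + t} : Set L) = ⊤ := by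
  classical
  let Ω := AlgebraicClosure K
  haveI : IsArtinianRing L := IsArtinianRing.of_finite K L
  haveI : Fintype (MaximalSpectrum L) := Fintype.ofFinite _
  letI : ∀ m : MaximalSpectrum L, Field (L ⧸ m.asIdeal) := fun m => Ideal.Quotient.field m.asIdeal
  have hsep : ∀ m : MaximalSpectrum L, Algebra.IsSeparable K (L ⧸ m.asIdeal) := fun m => ⟨fun x => by
    obtain ⟨y, rfl⟩ := Ideal.Quotient.mk_surjective x
    refine (Algebra.IsSeparable.isSeparable K y).of_dvd (minpoly.dvd K _ ?_)
    rw [← Ideal.Quotient.mkₐ_eq_mk K, Polynomial.aeval_algHom_apply, minpoly.aeval, map_zero]⟩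
  haveI : Finite (L →ₐ[K] Ω) := inferInstance
  have hcard : Module.finrank K L ≤ Nat.card (L →ₐ[K] Ω) := by
    let E : L ≃ₐ[K] ∀ m : MaximalSpectrum L, L ⧸ m.asIdeal := (IsArtinianRing.equivPi L).restrictScalars K
    let F : (Σ m : MaximalSpectrum L, (L ⧸ m.asIdeal) →ₐ[K] Ω) → (L →ₐ[K] Ω) := fun x => x.2.comp (Ideal.Quotient.mkₐ K x.1.asIdeal)
    have hF : Function.Injective F := by
      rintro ⟨m, φ⟩ ⟨m', φ'⟩ h
      have hk : ∀ (x : Σ m : MaximalSpectrum L, (L ⧸ m.asIdeal) →ₐ[K] Ω), RingHom.ker (F x) = x.1.asIdeal := fun x => by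
        ext y
        show x.2 (Ideal.Quotient.mk _ y) = 0 ↔ _
        rw [map_eq_zero_iff x.2 x.2.toRingHom.injective, Ideal.Quotient.eq_zero_iff_mem]
      have hm : m = m' := MaximalSpectrum.ext (by rw [← hk ⟨m, φ⟩, ← hk ⟨m', φ'⟩, h])
      subst hm
      refine Sigma.ext rfl (heq_of_eq (AlgHom.ext fun y => ?_))
      obtain ⟨y, rfl⟩ := Ideal.Quotient.mk_surjective y
      exact AlgHom.congr_fun h y
    calc Module.finrank K L = Module.finrank K (∀ m : MaximalSpectrum L, L ⧸ m.asIdeal) := E.toLinearEquiv.finrank_eq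
      _ = ∑ m : MaximalSpectrum L, Module.finrank K (L ⧸ m.asIdeal) := Module.finrank_pi_fintype K
      _ = ∑ m : MaximalSpectrum L, Nat.card ((L ⧸ m.asIdeal) →ₐ[K] Ω) := Finset.sum_congr rfl fun m _ => by
          haveI := hsep m
          rw [Nat.card_eq_fintype_card, AlgHom.card]
      _ = Nat.card (Σ m : MaximalSpectrum L, (L ⧸ m.asIdeal) →ₐ[K] Ω) := Nat.card_sigma.symm
      _ ≤ _ := Nat.card_le_card_of_injective F hF
  letI : Fintype (L →ₐ[K] Ω) := Fintype.ofFinite _
  let bad : Finset K := (Finset.univ : Finset ((L →ₐ[K] Ω) × (L →ₐ[K] Ω))).biUnion fun x =>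
    S.filter fun c => x.1 (c • z + t) = x.2 (c • z + t) ∧ x.1 ≠ x.2
  have hone : ∀ x : (L →ₐ[K] Ω) × (L →ₐ[K] Ω), (S.filter fun c => x.1 (c • z + t) = x.2 (c • z + t) ∧ x.1 ≠ x.2).card ≤ 1 := by
    intro x
    rw [Finset.card_le_one]
    intro c hc c' hc'
    simp only [Finset.mem_filter, map_add, map_smul] at hc hc'
    by_contra hne
    have h1 : (algebraMap K Ω c - algebraMap K Ω c') * (x.1 z - x.2 z) = 0 := by
      have e1 := hc.2.1; have e2 := hc'.2.1
      rw [Algebra.smul_def, Algebra.smul_def] at e1 e2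
      linear_combination e1 - e2
    have hz : x.1 z = x.2 z := sub_eq_zero.1 ((mul_eq_zero.1 h1).resolve_left (sub_ne_zero.2 fun h => hne ((algebraMap K Ω).injective h)))
    have ht : x.1 t = x.2 t := by
      have e1 := hc.2.1
      rw [hz] at e1
      exact add_left_cancel e1
    exact hc.2.2 (AlgHom.ext_of_adjoin_eq_top hgen (by rintro y (rfl | rfl) <;> assumption))
  have hle : Nat.card (L →ₐ[K] Ω) ≤ Module.finrank K L := card_algHom_le_finrank K L Ω
  rcases Nat.eq_zero_or_pos (Module.finrank K L) with hn | hn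
  · rw [hn] at hS
    obtain ⟨c, hc⟩ : S.Nonempty := Finset.card_pos.1 (lt_of_lt_of_le (by simp) hS)
    haveI : Subsingleton L := Module.finrank_zero_iff.1 hn
    exact ⟨c, hc, Subsingleton.elim _ _⟩
  by_cases hn1 : Module.finrank K L = 1
  · obtain ⟨c, hc⟩ : S.Nonempty := Finset.card_pos.1 (lt_of_lt_of_le (by simp [hn1]) hS)
    exact ⟨c, hc, Algebra.eq_top_iff.2 fun x => by
      haveI : Nontrivial L := Module.nontrivial_of_finrank_pos (R := K) hn
      obtain ⟨a, rfl⟩ := exists_smul_eq_of_finrank_eq_one hn1 (one_ne_zero) x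
      exact Subalgebra.smul_mem _ (one_mem _) a⟩
  have hbad : bad.card < S.card := by
    refine lt_of_le_of_lt (Finset.card_biUnion_le.trans (Finset.sum_le_sum fun x _ => hone x)) ?_
    rw [Finset.sum_const, Finset.card_univ, Fintype.card_prod, smul_eq_mul, mul_one, ← Nat.card_eq_fintype_card, ← sq]
    refine lt_of_le_of_lt (Nat.pow_le_pow_left hle 2) (lt_of_lt_of_le ?_ hS)
    exact Nat.pow_lt_pow_right (by omega) (by omega)
  obtain ⟨c, hcS, hcb⟩ := Finset.exists_mem_notMem_of_card_lt_card hbad
  refine ⟨c, hcS, ?_⟩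
  set θ := c • z + t
  set L' := Algebra.adjoin K ({θ} : Set L)
  let res : (L →ₐ[K] Ω) → (L' →ₐ[K] Ω) := fun f => f.comp L'.val
  have hres : Function.Injective res := by
    intro f g h
    by_contra hne
    exact hcb (Finset.mem_biUnion.2 ⟨(f, g), Finset.mem_univ _, Finset.mem_filter.2
      ⟨hcS, AlgHom.congr_fun h ⟨θ, Algebra.self_mem_adjoin_singleton K θ⟩, hne⟩⟩)
  have h1 : Module.finrank K L ≤ Module.finrank K L' :=
    hcard.trans ((Nat.card_le_card_of_injective res hres).trans (card_algHom_le_finrank K L' Ω))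
  have h2 : Subalgebra.toSubmodule L' = ⊤ := Submodule.eq_top_of_finrank_eq (le_antisymm (Submodule.finrank_le _) h1)
  exact Algebra.toSubmodule_eq_top.1 h2

end Groth.Agent.S13903
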