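import Groth.Statements.S13904
import Mathlib

set_option autoImplicit false
universe u
open CAlg

namespace Groth.Agent.S13904

/-- Let k be a field, A a commutative k-algebra and φ : k[x_1, …, x_r] → A a finite k-algebra map such
that A/p has Krull dimension r for every minimal prime p of A (an equidimensional affine scheme of
dimension r, finite over affine r-space). Then for every minimal prime p of A and every prime q of
k[x_1, …, x_r] there is a prime P ⊇ p of A with φ⁻¹(P) = q: the finite map restricted to each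
irreducible component of Spec A is surjective onto affine r-space. (The published statement is over
an algebraically closed field with φ a Noether normalisation; this row allows any field and any
finite k-algebra map φ.) -/
theorem result (k : Type u) [Field k] (r : ℕ)
    (A : Type u) [CommRing A] [Algebra k A] (φ : MvPolynomial (Fin r) k →ₐ[k] A)
    (hφ : φ.toRingHom.Finite)
    (hdim : ∀ p ∈ minimalPrimes A, ringKrullDim (A ⧸ p) = r)
    (p : Ideal A) (hp : p ∈ minimalPrimes A)
    (q : Ideal (MvPolynomial (Fin r) k)) [q.IsPrime] :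
    ∃ P : Ideal A, P.IsPrime ∧ p ≤ P ∧ P.comap φ.toRingHom = q := by
  haveI : p.IsPrime := hp.1.1
  set R := MvPolynomial (Fin r) k
  letI : Algebra R (A ⧸ p) := ((Ideal.Quotient.mk p).comp φ.toRingHom).toAlgebra
  haveI : Module.Finite R (A ⧸ p) := RingHom.Finite.comp (RingHom.Finite.of_surjective _ Ideal.Quotient.mk_surjective) hφ
  haveI : Algebra.IsIntegral R (A ⧸ p) := Algebra.IsIntegral.of_finite R (A ⧸ p)
  have hinj : Function.Injective (algebraMap R (A ⧸ p)) := by
    rw [RingHom.injective_iff_ker_eq_bot]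
    by_contra hne
    obtain ⟨f, hf, hf0⟩ := Submodule.exists_mem_ne_zero_of_ne_bot hne
    set I := RingHom.ker (algebraMap R (A ⧸ p))
    let g : (R ⧸ I) →+* (A ⧸ p) := RingHom.kerLift (algebraMap R (A ⧸ p))
    have hg : g.IsIntegral := RingHom.IsIntegral.tower_top (Ideal.Quotient.mk I) g (fun x => Algebra.IsIntegral.isIntegral (R := R) x)
    have hsm : StrictMono (PrimeSpectrum.comap g) := fun P Q hPQ => by
      obtain ⟨x, hxQ, hxP⟩ := SetLike.exists_of_lt ((PrimeSpectrum.asIdeal_lt_asIdeal P Q).2 hPQ)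
      letI := g.toAlgebra
      exact (PrimeSpectrum.asIdeal_lt_asIdeal _ _).1 (Ideal.comap_lt_comap_of_integral_mem_sdiff hPQ.le ⟨hxQ, hxP⟩ (hg x))
    have h1 : ringKrullDim (A ⧸ p) ≤ ringKrullDim (R ⧸ I) := Order.krullDim_le_of_strictMono _ hsm
    have h2 : ringKrullDim (R ⧸ I) + 1 ≤ ringKrullDim R :=
      ringKrullDim_succ_le_of_surjective (Ideal.Quotient.mk I) Ideal.Quotient.mk_surjective (mem_nonZeroDivisors_of_ne_zero hf0)
        (Ideal.Quotient.eq_zero_iff_mem.2 hf)
    have h3 : ringKrullDim R = r := by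
      rw [MvPolynomial.ringKrullDim_of_isNoetherianRing, ringKrullDim_eq_zero_of_field]; simp
    replace h2 := le_trans (add_le_add h1 (le_refl (1 : WithBot ℕ∞))) h2
    rw [hdim p hp, h3] at h2
    have : ((r + 1 : ℕ) : WithBot ℕ∞) ≤ (r : ℕ) := by exact_mod_cast h2
    have : r + 1 ≤ r := by exact_mod_cast this
    omega
  obtain ⟨Q, hQ, hQq⟩ : ∃ Q : Ideal (A ⧸ p), Q.IsPrime ∧ Q.comap (algebraMap R (A ⧸ p)) = q := by
    obtain ⟨Q, -, hQ, hQq⟩ := Ideal.exists_ideal_over_prime_of_isIntegral q (⊥ : Ideal (A ⧸ p))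
      (by rw [← RingHom.ker_eq_comap_bot, (RingHom.injective_iff_ker_eq_bot _).1 hinj]; exact bot_le)
    exact ⟨Q, hQ, hQq⟩
  refine ⟨Q.comap (Ideal.Quotient.mk p), Ideal.IsPrime.comap _, ?_, by rw [Ideal.comap_comap]; exact hQq⟩
  intro x hx
  rw [Ideal.mem_comap, Ideal.Quotient.eq_zero_iff_mem.2 hx]
  exact zero_mem _

end Groth.Agent.S13904
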