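import Groth.Statements.S13905
import Mathlib

set_option autoImplicit false
universe u
open ProjGeom

namespace Groth.Agent.S13905

open W4c1etcurveeff3b in
/-- Hyperplanes of projective n-space in general position, in linear-algebra form (V of dimension n + 1
over a field k, hyperplanes as n-dimensional subspaces, points as nonzero vectors): if S is a finite
set of hyperplanes in general position with at least n members and H is a hyperplane containing none
of the lines cut out by n members of S, then S with H added is again in general position. (The
published statement is for hyperplanes of P^n_k and closed points; a closed point lying on n + 1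
members is automatically one of the rational points cut out by n of them, so the condition on
nonzero vectors of V is the same condition.) -/
theorem result (k V : Type u) [Field k]
    [AddCommGroup V] [Module k V] [DecidableEq (Submodule k V)] (n : ℕ) (S : Finset (Submodule k V))
    (hS : InGeneralPosition k V n S) (hn : n ≤ S.card) (H : Submodule k V)
    (hH : Module.finrank k H = n)
    (havoid : ∀ T ⊆ S, T.card = n → ¬ (T.inf id ≤ H)) :
    InGeneralPosition k V n (insert H S) := by
  classical
  obtain ⟨hV, hdim, hT, hv⟩ := hS
  haveI : Module.Finite k V := Module.finite_of_finrank_eq_succ hV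
  have key : ∀ T ⊆ S, T.card < n → Module.finrank k ↥(T.inf id ⊓ H) = n - T.card := by
    intro T hTS hcard
    obtain ⟨T', hTT', hT'S, hT'⟩ := Finset.exists_subsuperset_card_eq hTS hcard.le hn
    have hnle : ¬ T.inf id ≤ H := fun h => havoid T' hT'S hT' ((Finset.inf_mono hTT').trans h)
    have h1 := Submodule.finrank_sup_add_finrank_inf_eq (T.inf id) H
    have h2 : Module.finrank k ↥(T.inf id ⊔ H) ≤ n + 1 := hV ▸ Submodule.finrank_le _
    have h3 : Module.finrank k H < Module.finrank k ↥(T.inf id ⊔ H) :=
      Submodule.finrank_lt_finrank_of_lt (lt_of_le_of_ne le_sup_right fun h => hnle (by rw [h]; exact le_sup_left))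
    rw [hT T hTS hcard.le, hH] at h1
    omega
  refine ⟨hV, fun H' h => ?_, fun T hTS hcard => ?_, fun v hv0 T hTS hvT => ?_⟩
  · rcases Finset.mem_insert.1 h with rfl | h
    · exact hH
    · exact hdim H' h
  · by_cases hmem : H ∈ T
    · have hsub : T.erase H ⊆ S := fun x hx => (Finset.mem_insert.1 (hTS (Finset.mem_of_mem_erase hx))).resolve_left (Finset.ne_of_mem_erase hx)
      have hc := Finset.card_erase_of_mem hmem
      have hpos := Finset.card_pos.2 ⟨H, hmem⟩
      rw [← Finset.insert_erase hmem, Finset.inf_insert, id_eq, inf_comm, key _ hsub (by omega),
        Finset.card_insert_of_notMem (Finset.notMem_erase _ _)]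
      omega
    · exact hT T ((Finset.subset_insert_iff_of_notMem hmem).1 hTS) hcard
  · by_cases hmem : H ∈ T
    · have hsub : T.erase H ⊆ S := fun x hx => (Finset.mem_insert.1 (hTS (Finset.mem_of_mem_erase hx))).resolve_left (Finset.ne_of_mem_erase hx)
      have hc := Finset.card_erase_of_mem hmem
      have h1 := hv v hv0 _ hsub fun x hx => hvT x (Finset.mem_of_mem_erase hx)
      by_contra hgt
      have heq : (T.erase H).card = n := by omega
      have hd := hT _ hsub h1
      have hmemv : v ∈ (T.erase H).inf id := (Submodule.mem_finsetInf).2 fun x hx => hvT x (Finset.mem_of_mem_erase hx)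
      have hspan : Submodule.span k {v} = (T.erase H).inf id :=
        Submodule.eq_of_le_of_finrank_eq ((Submodule.span_singleton_le_iff_mem _ _).2 hmemv)
          (by rw [finrank_span_singleton hv0, hd, heq]; omega)
      exact havoid _ hsub heq (hspan ▸ (Submodule.span_singleton_le_iff_mem _ _).2 (hvT H hmem))
    · exact hv v hv0 T ((Finset.subset_insert_iff_of_notMem hmem).1 hTS) hvT

end Groth.Agent.S13905
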