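import Groth.Statements.S13907
import Mathlib
import Groth.Agent.HomogIdeal.Basic
-- import your own Groth.Agent.* helpers here

set_option autoImplicit false
universe u
open ProjGeom

namespace Groth.Agent.S13907

/-- Irreducible closed sets of the projective spectrum have generic points. -/
theorem exists_generic {k : Type u} [Field k] {n : ℕ}
    (Z : Set (ProjectiveSpectrum (CohB1.polyGrading n k))) (hZ : IsIrreducible Z) (hc : IsClosed Z) :
    ∃ η ∈ Z, ∀ s ∈ Z, η ≤ s := by
  classical
  obtain ⟨x, hx⟩ := hZ.nonempty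
  set J := ProjectiveSpectrum.vanishingIdeal Z with hJ
  have hle : ∀ s ∈ Z, J.toIdeal ≤ s.asHomogeneousIdeal.toIdeal := fun s hs f hf =>
    (ProjectiveSpectrum.mem_vanishingIdeal Z f).mp hf s hs
  have hprime : J.toIdeal.IsPrime := by
    refine J.isHomogeneous.isPrime_of_homogeneous_mem_or_mem
      (ne_top_of_le_ne_top x.isPrime.ne_top (hle x hx)) ?_
    intro f g hf hg hfg
    have hsub : Z ⊆ ProjectiveSpectrum.zeroLocus _ {f} ∪ ProjectiveSpectrum.zeroLocus _ {g} := by
      intro s hs
      rcases s.isPrime.mem_or_mem (hle s hs hfg) with h | h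
      · exact Or.inl (Set.singleton_subset_iff.mpr h)
      · exact Or.inr (Set.singleton_subset_iff.mpr h)
    rcases (isPreirreducible_iff_isClosed_union_isClosed.mp hZ.isPreirreducible _ _
      (ProjectiveSpectrum.isClosed_zeroLocus _ _) (ProjectiveSpectrum.isClosed_zeroLocus _ _) hsub) with h | h
    · exact Or.inl ((ProjectiveSpectrum.mem_vanishingIdeal Z f).mpr fun s hs => h hs rfl)
    · exact Or.inr ((ProjectiveSpectrum.mem_vanishingIdeal Z g).mpr fun s hs => h hs rfl)
  let η : ProjectiveSpectrum (CohB1.polyGrading n k) :=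
    ⟨J, hprime, fun h => x.not_irrelevant_le (le_trans h (hle x hx))⟩
  refine ⟨η, ?_, hle⟩
  rw [← hc.closure_eq, ← ProjectiveSpectrum.zeroLocus_vanishingIdeal_eq_closure]
  rw [ProjectiveSpectrum.mem_zeroLocus]


/-- Over an algebraically closed field k, let C be a nonempty irreducible closed subset of the
underlying space of projective n-space with homogeneous coordinates x_0, …, x_n, and for i ≤ n let
L_i be the linear subspace where x_1, …, x_i vanish. Then there is an index i ≤ n with C ∩ L_i
nonempty and of topological Krull dimension zero. -/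
theorem result (k : Type u) [Field k]
    [IsAlgClosed k] (n : ℕ) (C : Set (ProjectiveSpectrum (CohB1.polyGrading n k)))
    (hC : IsClosed C) (hirr : IsIrreducible C) :
    ∃ i : ℕ, i ≤ n ∧
      (C ∩ ProjectiveSpectrum.zeroLocus (CohB1.polyGrading n k)
          ((fun j : Fin (n + 1) => (MvPolynomial.X j : MvPolynomial (Fin (n + 1)) k)) ''
            {j : Fin (n + 1) | 1 ≤ j.val ∧ j.val ≤ i})).Nonempty ∧
      topologicalKrullDim ↥(C ∩ ProjectiveSpectrum.zeroLocus (CohB1.polyGrading n k)
          ((fun j : Fin (n + 1) => (MvPolynomial.X j : MvPolynomial (Fin (n + 1)) k)) ''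
            {j : Fin (n + 1) | 1 ≤ j.val ∧ j.val ≤ i})) = 0 := by
  classical
  set L : ℕ → Set (ProjectiveSpectrum (CohB1.polyGrading n k)) := fun i => C ∩
    ProjectiveSpectrum.zeroLocus (CohB1.polyGrading n k)
      ((fun j : Fin (n + 1) => (MvPolynomial.X j : MvPolynomial (Fin (n + 1)) k)) ''
        {j : Fin (n + 1) | 1 ≤ j.val ∧ j.val ≤ i}) with hL
  have h0 : (L 0).Nonempty := by
    obtain ⟨x, hx⟩ := hirr.nonempty
    refine ⟨x, hx, ?_⟩
    rw [ProjectiveSpectrum.mem_zeroLocus]
    rintro _ ⟨j, ⟨hj1, hj2⟩, rfl⟩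
    omega
  let i := Nat.findGreatest (fun i => (L i).Nonempty) n
  have hi : (L i).Nonempty := Nat.findGreatest_spec (P := fun i => (L i).Nonempty) (Nat.zero_le n) h0
  have hin : i ≤ n := Nat.findGreatest_le n
  refine ⟨i, hin, hi, ?_⟩
  have hclosed : IsClosed (L i) := hC.inter (ProjectiveSpectrum.isClosed_zeroLocus _ _)
  have hmax : ∀ a ∈ L i, ∀ b ∈ L i, a ≤ b → a = b := by
    intro a ha b hb hab
    rcases eq_or_lt_of_le hin with hi' | hi'
    · have key : ∀ c ∈ L i, c.asHomogeneousIdeal.toIdeal =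
          Ideal.span ((MvPolynomial.X : Fin (n + 1) → MvPolynomial (Fin (n + 1)) k) '' {j | j ≠ 0}) := by
        intro c hc
        haveI := c.isPrime
        refine Groth.Agent.HomogIdeal.eq_of_vars_le c.asHomogeneousIdeal.isHomogeneous ?_ fun j hj => ?_
        · rw [← Groth.Agent.HomogIdeal.irrelevant_eq]
          exact c.not_irrelevant_le
        · exact hc.2 ⟨j, ⟨Nat.pos_of_ne_zero fun h => hj (Fin.ext h), by omega⟩, rfl⟩
      exact ProjectiveSpectrum.ext (HomogeneousIdeal.toIdeal_injective ((key a ha).trans (key b hb).symm))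
    · by_contra hne
      haveI := a.isPrime
      haveI := b.isPrime
      have h1 : a.asHomogeneousIdeal.toIdeal < b.asHomogeneousIdeal.toIdeal :=
        lt_of_le_of_ne hab fun h => hne (ProjectiveSpectrum.ext (HomogeneousIdeal.toIdeal_injective h))
      have hbrel : ¬ Groth.Agent.HomogIdeal.mIdeal k n ≤ b.asHomogeneousIdeal.toIdeal := by
        rw [← Groth.Agent.HomogIdeal.irrelevant_eq]
        exact b.not_irrelevant_le
      have h2 : b.asHomogeneousIdeal.toIdeal < Groth.Agent.HomogIdeal.mIdeal k n :=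
        lt_of_le_of_ne (Groth.Agent.HomogIdeal.le_mIdeal b.asHomogeneousIdeal.isHomogeneous b.isPrime.ne_top)
          fun h => hbrel h.ge
      obtain ⟨q, hqp, hqh, haq, hxq, hqrel⟩ := Groth.Agent.HomogIdeal.exists_prime_of_lt
        a.asHomogeneousIdeal.isHomogeneous h1 h2
        (MvPolynomial.isHomogeneous_X k (⟨i + 1, by omega⟩ : Fin (n + 1)))
      let c : ProjectiveSpectrum (CohB1.polyGrading n k) := ⟨⟨q, hqh⟩, hqp, by
        rw [← Groth.Agent.HomogIdeal.irrelevant_eq] at hqrel
        exact hqrel⟩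
      have hac : a ≤ c := haq
      have hcl := (ProjectiveSpectrum.le_iff_mem_closure _ a c).mp hac
      have hcC : c ∈ C := closure_minimal (Set.singleton_subset_iff.mpr ha.1) hC hcl
      have hci : c ∈ L (i + 1) := by
        refine ⟨hcC, ?_⟩
        rw [ProjectiveSpectrum.mem_zeroLocus]
        rintro _ ⟨j, ⟨hj1, hj2⟩, rfl⟩
        rcases Nat.lt_or_eq_of_le hj2 with hlt | heq
        · exact haq (ha.2 ⟨j, ⟨hj1, by omega⟩, rfl⟩)
        · have hjeq : j = (⟨i + 1, by omega⟩ : Fin (n + 1)) := Fin.ext heq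
          simp only [hjeq]
          exact hxq
      have := Nat.le_findGreatest (P := fun i => (L i).Nonempty) (by omega : i + 1 ≤ n) ⟨c, hci⟩
      change i + 1 ≤ i at this
      omega
  haveI : Nonempty ↥(L i) := hi.to_subtype
  refine le_antisymm ?_ ?_
  · refine Order.krullDim_nonpos_iff_forall_isMax.mpr fun Z W hZW => ?_
    have hsingle : ∀ T : TopologicalSpace.IrreducibleCloseds ↥(L i), ∀ s ∈ (T : Set ↥(L i)),
        ∀ t ∈ (T : Set ↥(L i)), s = t := by
      intro T s hs t ht
      obtain ⟨η, hη, hgen⟩ := exists_generic (closure (Subtype.val '' (T : Set ↥(L i))))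
        (T.isIrreducible.image Subtype.val continuous_subtype_val.continuousOn).closure isClosed_closure
      have hηL : η ∈ L i := closure_minimal (by rintro _ ⟨x, -, rfl⟩; exact x.2) hclosed hη
      have e1 := hmax η hηL s s.2 (hgen _ (subset_closure ⟨s, hs, rfl⟩))
      have e2 := hmax η hηL t t.2 (hgen _ (subset_closure ⟨t, ht, rfl⟩))
      exact Subtype.ext (e1.symm.trans e2)
    intro x hx
    obtain ⟨y, hy⟩ := Z.isIrreducible.nonempty
    rwa [hsingle W x hx y (hZW hy)]
  · haveI : Nonempty (TopologicalSpace.IrreducibleCloseds ↥(L i)) :=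
      ⟨⟨closure {Classical.arbitrary _}, isIrreducible_singleton.closure, isClosed_closure⟩⟩
    exact Order.krullDim_nonneg

end Groth.Agent.S13907
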