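import Groth.Statements.S13911
import Mathlib
open MvPolynomial Matrix

set_option autoImplicit false
universe u
open PlaneConic

namespace Groth.Agent.S13911


variable {k : Type u} [Field k]

/-- The quadratic form of a matrix. -/
noncomputable def qf (Q : Matrix (Fin 3) (Fin 3) k) : MvPolynomial (Fin 3) k :=
  ∑ i : Fin 3, ∑ j : Fin 3, Q i j • (X i * X j)

/-- A linear form. -/
noncomputable def lin (a : Fin 3 → k) : MvPolynomial (Fin 3) k := ∑ i : Fin 3, a i • X i

theorem eval_qf (Q : Matrix (Fin 3) (Fin 3) k) (x : Fin 3 → k) : eval x (qf Q) = x ⬝ᵥ (Q *ᵥ x) := by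
  simp [qf, Fin.sum_univ_three, Matrix.mulVec, dotProduct, smul_eval]
  ring

theorem eval_lin (a x : Fin 3 → k) : eval x (lin a) = a ⬝ᵥ x := by
  simp [lin, dotProduct, smul_eval]

theorem lin_ne_zero {a : Fin 3 → k} (h : lin a ≠ 0) : a ≠ 0 := fun e => h (by simp [lin, e])

theorem lin_isHomogeneous (a : Fin 3 → k) : (lin a).IsHomogeneous 1 :=
  IsHomogeneous.sum _ _ _ fun i _ => by rw [smul_eq_C_mul]; exact (isHomogeneous_X k i).C_mul _

/-- The symmetric matrix of a product of two linear forms. -/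
noncomputable def sym (a b : Fin 3 → k) : Matrix (Fin 3) (Fin 3) k := Matrix.of fun i j => (a i * b j + a j * b i) / 2

theorem eq_of_qf [CharZero k] {Q R : Matrix (Fin 3) (Fin 3) k} (hQ : Q.IsSymm) (hR : R.IsSymm) (h : qf Q = qf R) : Q = R := by
  have diag : ∀ i, Q i i = R i i := fun i => by
    have := congrArg (eval (Pi.single i 1)) h
    rw [eval_qf, eval_qf] at this
    simpa [dotProduct, Matrix.mulVec, Pi.single_apply] using this
  ext i j
  have := congrArg (eval (Pi.single i 1 + Pi.single j 1)) h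
  rw [eval_qf, eval_qf] at this
  simp [Matrix.mulVec_add, dotProduct_add, add_dotProduct, Matrix.mulVec_single] at this
  rw [diag i, diag j, hQ.apply i j, hR.apply i j] at this
  have h2 : (2 : k) * Q i j = 2 * R i j := by linear_combination this
  exact mul_left_cancel₀ two_ne_zero h2

theorem qf_sym [CharZero k] (a b : Fin 3 → k) : qf (sym a b) = lin a * lin b := by
  refine MvPolynomial.funext fun x => ?_
  rw [map_mul, eval_qf, eval_lin, eval_lin]
  simp [sym, dotProduct, Matrix.mulVec, Fin.sum_univ_three]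
  field_simp
  ring

theorem sym_isSymm (a b : Fin 3 → k) : (sym a b).IsSymm := by
  ext i j; simp [sym]; ring

theorem eq_sym [CharZero k] {Q : Matrix (Fin 3) (Fin 3) k} (hQ : Q.IsSymm) {a b : Fin 3 → k} (h : qf Q = lin a * lin b) :
    Q = sym a b := eq_of_qf hQ (sym_isSymm a b) (h.trans (qf_sym a b).symm)

theorem rank_sym (a b : Fin 3 → k) : (sym a b).rank ≤ 2 := by
  have e : sym a b = vecMulVec ((2 : k)⁻¹ • a) b + vecMulVec ((2 : k)⁻¹ • b) a := by
    ext i j; simp [sym, vecMulVec]; ring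
  rw [e]
  refine le_trans (Submodule.finrank_mono ?_) (le_trans (Submodule.finrank_add_le_finrank_add_finrank
    (LinearMap.range (vecMulVec ((2 : k)⁻¹ • a) b).mulVecLin) (LinearMap.range (vecMulVec ((2 : k)⁻¹ • b) a).mulVecLin))
    (Nat.add_le_add (rank_vecMulVec_le _ _) (rank_vecMulVec_le _ _)))
  rintro _ ⟨x, rfl⟩
  rw [Matrix.mulVecLin_add, LinearMap.add_apply]
  exact Submodule.add_mem_sup ⟨x, rfl⟩ ⟨x, rfl⟩

theorem rank_add_ker (Q : Matrix (Fin 3) (Fin 3) k) : Q.rank + Module.finrank k (LinearMap.ker Q.mulVecLin) = 3 := by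
  have := LinearMap.finrank_range_add_finrank_ker Q.mulVecLin
  simpa [Matrix.rank] using this

theorem rank_eq_zero {Q : Matrix (Fin 3) (Fin 3) k} (h : Q.rank = 0) : Q = 0 := by
  have h1 : LinearMap.range Q.mulVecLin = ⊥ := Submodule.finrank_eq_zero.1 h
  refine Matrix.toLin'.injective ?_
  rw [map_zero, Matrix.toLin'_apply']
  exact LinearMap.range_eq_bot.1 h1

theorem step [CharZero k] [IsAlgClosed k] {Q : Matrix (Fin 3) (Fin 3) k} (hQ : Q.IsSymm) (h0 : Q ≠ 0) :
    ∃ s : Fin 3 → k, (Q - vecMulVec s s).rank < Q.rank ∧ (Q - vecMulVec s s).IsSymm := by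
  obtain ⟨u, hu⟩ : ∃ u, u ⬝ᵥ (Q *ᵥ u) ≠ 0 := by
    by_contra hc
    push_neg at hc
    refine h0 (eq_of_qf hQ Matrix.isSymm_zero (MvPolynomial.funext fun x => ?_))
    rw [eval_qf, eval_qf, hc, Matrix.zero_mulVec, dotProduct_zero]
  obtain ⟨d, hd⟩ := IsAlgClosed.exists_eq_mul_self (u ⬝ᵥ (Q *ᵥ u))
  have hd0 : d ≠ 0 := fun h => hu (by rw [hd, h, zero_mul])
  have hsw : ∀ v, (Q *ᵥ u) ⬝ᵥ v = u ⬝ᵥ (Q *ᵥ v) := fun v => by
    rw [dotProduct_mulVec, ← Matrix.mulVec_transpose, hQ.eq]
  refine ⟨d⁻¹ • (Q *ᵥ u), ?_, by ext i j; simp [vecMulVec, hQ.apply i j]; ring⟩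
  have hker : LinearMap.ker Q.mulVecLin ⊔ Submodule.span k {u} ≤
      LinearMap.ker (Q - vecMulVec (d⁻¹ • (Q *ᵥ u)) (d⁻¹ • (Q *ᵥ u))).mulVecLin := by
    refine sup_le (fun v hv => ?_) (Submodule.span_le.2 ?_)
    · rw [LinearMap.mem_ker, Matrix.mulVecLin_apply] at hv ⊢
      rw [Matrix.sub_mulVec, Matrix.vecMulVec_mulVec, hv, smul_dotProduct, hsw, hv, dotProduct_zero]
      simp
    · rw [Set.singleton_subset_iff, SetLike.mem_coe, LinearMap.mem_ker, Matrix.mulVecLin_apply,
        Matrix.sub_mulVec, Matrix.vecMulVec_mulVec, smul_dotProduct, hsw, hd]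
      ext i
      simp
      field_simp
      ring
  have hlt : LinearMap.ker Q.mulVecLin < LinearMap.ker Q.mulVecLin ⊔ Submodule.span k {u} := by
    refine lt_of_le_of_ne le_sup_left fun e => hu ?_
    have : u ∈ LinearMap.ker Q.mulVecLin := e ▸ Submodule.mem_sup_right (Submodule.mem_span_singleton_self u)
    rw [show Q *ᵥ u = 0 from this, dotProduct_zero]
  have h1 := Submodule.finrank_lt_finrank_of_lt (lt_of_lt_of_le hlt hker)
  have h2 := rank_add_ker Q
  have h3 := rank_add_ker (Q - vecMulVec (d⁻¹ • (Q *ᵥ u)) (d⁻¹ • (Q *ᵥ u)))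
  omega

theorem exists_sq [CharZero k] [IsAlgClosed k] {Q : Matrix (Fin 3) (Fin 3) k} (hQ : Q.IsSymm) (hr : Q.rank ≤ 1) :
    ∃ a : Fin 3 → k, Q = sym a a := by
  by_cases h0 : Q = 0
  · exact ⟨0, by subst h0; ext i j; simp [sym]⟩
  obtain ⟨s, hs, -⟩ := step hQ h0
  refine ⟨s, ?_⟩
  have := sub_eq_zero.1 (rank_eq_zero (Q := Q - vecMulVec s s) (by omega))
  rw [this]
  ext i j; simp [sym, vecMulVec]; ring

theorem exists_prod [CharZero k] [IsAlgClosed k] {Q : Matrix (Fin 3) (Fin 3) k} (hQ : Q.IsSymm) (hr : Q.rank ≤ 2) :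
    ∃ a b : Fin 3 → k, Q = sym a b := by
  by_cases h0 : Q = 0
  · exact ⟨0, 0, by subst h0; ext i j; simp [sym]⟩
  obtain ⟨s, hs, hs'⟩ := step hQ h0
  obtain ⟨t, ht⟩ := exists_sq hs' (by omega)
  obtain ⟨w, hw⟩ := IsAlgClosed.exists_eq_mul_self (-1 : k)
  refine ⟨s + w • t, s - w • t, ?_⟩
  rw [sub_eq_iff_eq_add.1 ht]
  ext i j
  simp [sym, vecMulVec]
  linear_combination (t i * t j) * -hw

theorem rank_sym_dep [CharZero k] [IsAlgClosed k] {a b : Fin 3 → k} (h : ¬ LinearIndependent k ![a, b]) :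
    (sym a b).rank ≤ 1 := by
  by_cases ha : a = 0
  · rw [ha, show sym (0 : Fin 3 → k) b = 0 by ext i j; simp [sym], Matrix.rank_zero]; omega
  rw [LinearIndependent.pair_iff' ha] at h
  push_neg at h
  obtain ⟨r, rfl⟩ := h
  rw [show sym a (r • a) = vecMulVec (r • a) a by ext i j; simp [sym, vecMulVec]; ring]
  exact rank_vecMulVec_le _ _

theorem dep_of_rank [CharZero k] [IsAlgClosed k] {a b : Fin 3 → k} (h : (sym a b).rank ≤ 1) :
    ¬ LinearIndependent k ![a, b] := by
  obtain ⟨s, hs⟩ := exists_sq (sym_isSymm a b) h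
  have e : ∀ i j, a i * b j = a j * b i := fun i j => by
    have e1 := congrFun (congrFun hs i) j
    have e2 := congrFun (congrFun hs i) i
    have e3 := congrFun (congrFun hs j) j
    simp [sym] at e1 e2 e3
    have : (a i * b j - a j * b i) ^ 2 = 0 := by
      linear_combination (a i * b j + a j * b i + 2 * (s i * s j)) * e1 - 4 * (a i * b i) * e3 - 4 * (s j * s j) * e2
    exact sub_eq_zero.1 (pow_eq_zero_iff two_ne_zero |>.1 this)
  intro hli
  rw [LinearIndependent.pair_iff] at hli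
  have ha : a ≠ 0 := fun ha => one_ne_zero (hli 1 0 (by simp [ha])).1
  obtain ⟨i, hi⟩ := Function.ne_iff.1 ha
  refine hi (neg_eq_zero.1 (hli (b i) (-(a i)) ?_).2)
  ext j
  simp
  linear_combination -(e i j)

theorem exists_affine {p : MvPolynomial (Fin 3) k} (hp : p.totalDegree = 1) : ∃ (c : k) (a : Fin 3 → k), p = C c + lin a := by
  have h := sum_homogeneousComponent p
  rw [hp, Finset.sum_range_succ, Finset.sum_range_one, homogeneousComponent_zero] at h
  have h1 : homogeneousComponent 1 p ∈ Submodule.span k (Set.range (X : Fin 3 → MvPolynomial (Fin 3) k)) := by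
    rw [← MvPolynomial.homogeneousSubmodule_one_eq_span_X]; exact homogeneousComponent_isHomogeneous 1 p
  obtain ⟨a, ha⟩ := (Submodule.mem_span_range_iff_exists_fun k).1 h1
  exact ⟨_, a, by rw [← ha] at h; exact h.symm⟩

theorem det_eq_zero_iff_rank {Q : Matrix (Fin 3) (Fin 3) k} : Q.det = 0 ↔ Q.rank ≤ 2 := by
  rw [← Matrix.exists_mulVec_eq_zero_iff]
  have h := rank_add_ker Q
  constructor
  · rintro ⟨v, hv, hv0⟩
    have hne : LinearMap.ker Q.mulVecLin ≠ ⊥ := fun e => hv ((Submodule.eq_bot_iff _).1 e v hv0)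
    have : 0 < Module.finrank k (LinearMap.ker Q.mulVecLin) := Nat.pos_of_ne_zero fun e => hne (Submodule.finrank_eq_zero.1 e)
    omega
  · intro hr
    obtain ⟨v, hv, hv0⟩ := Submodule.exists_mem_ne_zero_of_ne_bot (p := LinearMap.ker Q.mulVecLin) fun e => by
      rw [e, finrank_bot] at h; omega
    exact ⟨v, hv0, hv⟩

/-- For an algebraically closed field k of characteristic zero, a nonzero symmetric 3 × 3 matrix Q over
k and the ternary quadratic form f = Σ Q_ij X_i X_j in k[X_0, X_1, X_2] (the equation of a plane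
conic): (1) f is irreducible iff det Q ≠ 0; (2) the conic has a singular point, that is a nonzero
vector at which all partial derivatives of f vanish, iff det Q = 0 (so smooth conics are exactly the
irreducible ones); (3) f is the product of two linearly independent linear forms (two distinct
lines) iff rank Q = 2; (4) f is the square of a linear form (a double line) iff rank Q = 1. -/
theorem result (k : Type u) [Field k] [IsAlgClosed k] [CharZero k]
    (Q : Matrix (Fin 3) (Fin 3) k) (hQ : Q.IsSymm) (hQ0 : Q ≠ 0) (f : MvPolynomial (Fin 3) k)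
    (hf : f = ∑ i : Fin 3, ∑ j : Fin 3, Q i j • (MvPolynomial.X i * MvPolynomial.X j)) :
    (Irreducible f ↔ Q.det ≠ 0) ∧
    ((∃ u : Fin 3 → k, u ≠ 0 ∧ ∀ i : Fin 3, MvPolynomial.eval u (MvPolynomial.pderiv i f) = 0) ↔ Q.det = 0) ∧
    ((∃ a b : Fin 3 → k, LinearIndependent k ![a, b] ∧
        f = (∑ i : Fin 3, a i • MvPolynomial.X i) * (∑ i : Fin 3, b i • MvPolynomial.X i)) ↔ Q.rank = 2) ∧
    ((∃ a : Fin 3 → k, f = (∑ i : Fin 3, a i • MvPolynomial.X i) ^ 2) ↔ Q.rank = 1) := by
  have hf' : f = qf Q := hf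
  subst hf'
  have hne : qf Q ≠ 0 := fun h => hQ0 (eq_of_qf hQ Matrix.isSymm_zero (h.trans (by simp [qf])))
  have hhom : (qf Q).IsHomogeneous 2 := IsHomogeneous.sum _ _ _ fun i _ => IsHomogeneous.sum _ _ _ fun j _ => by
    rw [smul_eq_C_mul]; exact ((isHomogeneous_X k i).mul (isHomogeneous_X k j)).C_mul _
  have hdeg := hhom.totalDegree hne
  have hnu : ∀ a : Fin 3 → k, lin a ≠ 0 → ¬ IsUnit (lin a) := fun a ha hu => by
    have h1 := (lin_isHomogeneous a).totalDegree ha
    rw [((isUnit_iff_totalDegree_of_isReduced).1 hu).2] at h1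
    omega
  refine ⟨?_, ?_, ?_, ?_⟩
  · constructor
    · intro hirr hdet
      obtain ⟨a, b, hab⟩ := exists_prod hQ (det_eq_zero_iff_rank.1 hdet)
      rw [hab, qf_sym] at hirr
      rcases hirr.isUnit_or_isUnit rfl with h | h
      · exact hnu a (fun e => by rw [e, zero_mul] at hirr; exact hirr.ne_zero rfl) h
      · exact hnu b (fun e => by rw [e, mul_zero] at hirr; exact hirr.ne_zero rfl) h
    · intro hdet
      refine ⟨fun hu => ?_, fun p q e => ?_⟩
      · rw [((isUnit_iff_totalDegree_of_isReduced).1 hu).2] at hdeg; omega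
      have hp : p ≠ 0 := fun h => hne (by rw [e, h, zero_mul])
      have hq : q ≠ 0 := fun h => hne (by rw [e, h, mul_zero])
      have hd : p.totalDegree + q.totalDegree = 2 := by rw [← totalDegree_mul_of_isDomain hp hq, ← e, hdeg]
      have unit_of : ∀ r : MvPolynomial (Fin 3) k, r ≠ 0 → r.totalDegree = 0 → IsUnit r := fun r hr h0 => by
        rw [totalDegree_eq_zero_iff_eq_C.1 h0]
        refine IsUnit.map _ (Ne.isUnit fun hc => hr ?_)
        rw [totalDegree_eq_zero_iff_eq_C.1 h0, hc, map_zero]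
      rcases Nat.eq_zero_or_pos p.totalDegree with h | h
      · exact Or.inl (unit_of p hp h)
      rcases Nat.eq_zero_or_pos q.totalDegree with h' | h'
      · exact Or.inr (unit_of q hq h')
      obtain ⟨c₁, a, rfl⟩ := exists_affine (show p.totalDegree = 1 by omega)
      obtain ⟨c₂, b, rfl⟩ := exists_affine (show q.totalDegree = 1 by omega)
      have ev : ∀ x, x ⬝ᵥ (Q *ᵥ x) = (c₁ + a ⬝ᵥ x) * (c₂ + b ⬝ᵥ x) := fun x => by
        have := congrArg (eval x) e
        rwa [map_mul, map_add, map_add, eval_C, eval_C, eval_lin, eval_lin, eval_qf] at this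
      have h00 : c₁ * c₂ = 0 := by have := ev 0; simp at this; rcases this with h | h <;> simp [h]
      have hodd : ∀ x, c₁ * (b ⬝ᵥ x) + c₂ * (a ⬝ᵥ x) = 0 := fun x => by
        have e1 := ev x
        have e2 := ev (-x)
        simp [Matrix.mulVec_neg] at e2
        have : (2 : k) * (c₁ * (b ⬝ᵥ x) + c₂ * (a ⬝ᵥ x)) = 2 * 0 := by linear_combination e2 - e1
        exact mul_left_cancel₀ two_ne_zero this
      have z : ∀ (c : k) (v : Fin 3 → k), c ≠ 0 → (∀ x, c * (v ⬝ᵥ x) = 0) → lin v = 0 := fun c v hc h => by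
        refine MvPolynomial.funext fun x => ?_
        rw [eval_lin, map_zero]
        exact (mul_eq_zero.1 (h x)).resolve_left hc
      have hc1 : c₁ = 0 := by
        by_contra hc
        have hc2 : c₂ = 0 := (mul_eq_zero.1 h00).resolve_left hc
        refine hq ?_
        rw [hc2, map_zero, zero_add]
        exact z c₁ b hc fun x => by have := hodd x; rw [hc2] at this; linear_combination this
      have hc2 : c₂ = 0 := by
        by_contra hc
        refine hp ?_
        rw [hc1, map_zero, zero_add]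
        exact z c₂ a hc fun x => by have := hodd x; rw [hc1] at this; linear_combination this
      rw [hc1, hc2, map_zero, zero_add, zero_add] at e
      refine absurd (det_eq_zero_iff_rank.2 ?_) hdet
      rw [eq_sym hQ e]
      exact rank_sym a b
  · have hpd : ∀ (u : Fin 3 → k) i, eval u (pderiv i (qf Q)) = 2 * (Q *ᵥ u) i := fun u i => by
      have h01 := hQ.apply 0 1; have h02 := hQ.apply 0 2; have h12 := hQ.apply 1 2
      fin_cases i <;> simp [qf, Fin.sum_univ_three, Matrix.mulVec, dotProduct, pderiv_X, Pi.single_apply, smul_eval, h01, h02, h12] <;> ring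
    rw [← Matrix.exists_mulVec_eq_zero_iff]
    constructor
    · rintro ⟨u, hu, h⟩
      exact ⟨u, hu, funext fun i => by have := h i; rw [hpd] at this; simpa using this⟩
    · rintro ⟨u, hu, h⟩
      exact ⟨u, hu, fun i => by rw [hpd, h]; simp⟩
  · constructor
    · rintro ⟨a, b, hli, e⟩
      rw [eq_sym hQ e]
      refine le_antisymm (rank_sym a b) ?_
      by_contra hlt
      exact dep_of_rank (by omega) hli
    · intro hr
      obtain ⟨a, b, rfl⟩ := exists_prod hQ hr.le
      refine ⟨a, b, ?_, qf_sym a b⟩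
      by_contra hli
      have := rank_sym_dep hli
      omega
  · constructor
    · rintro ⟨a, e⟩
      have hQe := eq_sym hQ (e.trans (pow_two _))
      have h1 : Q.rank ≤ 1 := by
        rw [hQe, show sym a a = vecMulVec a a by ext i j; simp [sym, vecMulVec]; ring]
        exact rank_vecMulVec_le _ _
      have h2 : Q.rank ≠ 0 := fun h => hQ0 (rank_eq_zero h)
      omega
    · intro hr
      obtain ⟨a, ha⟩ := exists_sq hQ hr.le
      exact ⟨a, by rw [pow_two, ha]; exact qf_sym a a⟩

end Groth.Agent.S13911
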