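import Groth.Statements.S13912
import Mathlib
open MvPolynomial Matrix

set_option autoImplicit false
universe u
open PlaneConic

namespace Groth.Agent.S13912


variable {k : Type u} [Field k]

theorem mul_eq_zero_or {A B : Matrix (Fin 2) (Fin 2) k} (hA : A.det = 0) (hB : B.det = 0) (hAB : (A + B).det = 0) :
    B * A.adjugate = 0 ∨ A.adjugate * B = 0 := by
  have key : ∀ i j p q, (B * A.adjugate) i j * (A.adjugate * B) p q = 0 := by
    intro i j p q
    rw [Matrix.det_fin_two] at hA hB hAB
    simp only [Matrix.add_apply] at hAB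
    have hm : A 0 0 * B 1 1 + A 1 1 * B 0 0 - A 0 1 * B 1 0 - A 1 0 * B 0 1 = 0 := by linear_combination hAB - hA - hB
    have mA : ∀ a b c d, A a b * A c d = A a d * A c b := by
      intro a b c d
      fin_cases a <;> fin_cases b <;> fin_cases c <;> fin_cases d <;>
        simp only [Fin.isValue, Fin.zero_eta, Fin.mk_one] <;>
        first | ring1 | linear_combination hA | linear_combination -hA
    have mB : ∀ a b c d, B.adjugate a b * B.adjugate c d = B.adjugate a d * B.adjugate c b := by
      intro a b c d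
      rw [Matrix.adjugate_fin_two]
      fin_cases a <;> fin_cases b <;> fin_cases c <;> fin_cases d <;>
        simp <;> first | ring1 | linear_combination hB | linear_combination -hB
    have e1 : B * A.adjugate = - (A * B.adjugate) := by
      ext a b
      fin_cases a <;> fin_cases b <;> simp [Matrix.mul_apply, Fin.sum_univ_two, Matrix.adjugate_fin_two, Matrix.vecMul, dotProduct] <;>
        first | ring1 | linear_combination hm | linear_combination -hm
    have e2 : A.adjugate * B = - (B.adjugate * A) := by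
      ext a b
      fin_cases a <;> fin_cases b <;> simp [Matrix.mul_apply, Fin.sum_univ_two, Matrix.adjugate_fin_two, Matrix.vecMul, dotProduct] <;>
        first | ring1 | linear_combination hm | linear_combination -hm
    have tr : A 0 0 * B.adjugate 0 0 + A 0 1 * B.adjugate 1 0 + (A 1 0 * B.adjugate 0 1 + A 1 1 * B.adjugate 1 1) = 0 := by
      simp [Matrix.adjugate_fin_two]
      linear_combination hm
    rw [e1, e2, Matrix.neg_apply, Matrix.neg_apply, neg_mul_neg, Matrix.mul_apply, Matrix.mul_apply, Fin.sum_univ_two, Fin.sum_univ_two]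
    have t : ∀ a b, A i a * B.adjugate a j * (B.adjugate p b * A b q) = A i q * B.adjugate p j * (A b a * B.adjugate a b) := by
      intro a b
      calc A i a * B.adjugate a j * (B.adjugate p b * A b q) = (A i a * A b q) * (B.adjugate a j * B.adjugate p b) := by ring
        _ = (A i q * A b a) * (B.adjugate a b * B.adjugate p j) := by rw [mA, mB]
        _ = _ := by ring
    rw [add_mul, mul_add, mul_add, t, t, t, t]
    linear_combination (A i q * B.adjugate p j) * tr
  by_contra hc
  push_neg at hc
  obtain ⟨h1, h2⟩ := hc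
  obtain ⟨i, j, hij⟩ : ∃ i j, (B * A.adjugate) i j ≠ 0 := by
    by_contra hn; push_neg at hn; exact h1 (Matrix.ext hn)
  obtain ⟨p, q, hpq⟩ : ∃ p q, (A.adjugate * B) p q ≠ 0 := by
    by_contra hn; push_neg at hn; exact h2 (Matrix.ext hn)
  exact mul_ne_zero hij hpq (key i j p q)

/-- A space of singular 2 x 2 matrices has a common right or left kernel vector. -/
theorem common_kernel {W : Type u} [AddCommGroup W] [Module k W] (T : W →ₗ[k] Matrix (Fin 2) (Fin 2) k) (hT : ∀ x, (T x).det = 0) :
    (∃ w : Fin 2 → k, w ≠ 0 ∧ ∀ x, T x *ᵥ w = 0) ∨ (∃ v : Fin 2 → k, v ≠ 0 ∧ ∀ x, v ᵥ* T x = 0) := by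
  by_cases h0 : ∀ x, T x = 0
  · exact Or.inl ⟨![1, 0], by simp, fun x => by simp [h0 x]⟩
  push_neg at h0
  obtain ⟨x0, hx0⟩ := h0
  have hadj : (T x0).adjugate ≠ 0 := fun h => hx0 (by
    have h' : ∀ a b, (T x0).adjugate a b = 0 := fun a b => by rw [h]; rfl
    ext a b
    have := h' 0 0; have := h' 0 1; have := h' 1 0; have := h' 1 1
    simp [Matrix.adjugate_fin_two] at *
    fin_cases a <;> fin_cases b <;> assumption)
  obtain ⟨a, b, hab⟩ : ∃ a b, (T x0).adjugate a b ≠ 0 := by
    by_contra hn; push_neg at hn; exact hadj (Matrix.ext hn)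
  have alt : ∀ y, T y * (T x0).adjugate = 0 ∨ (T x0).adjugate * T y = 0 := fun y =>
    mul_eq_zero_or (hT x0) (hT y) (by rw [← map_add]; exact hT _)
  by_cases hall : ∀ y, T y * (T x0).adjugate = 0
  · refine Or.inl ⟨fun c => (T x0).adjugate c b, fun h => hab (congrFun h a), fun x => ?_⟩
    funext r
    exact congrFun (congrFun (hall x) r) b
  · push_neg at hall
    obtain ⟨y1, hy1⟩ := hall
    refine Or.inr ⟨fun c => (T x0).adjugate a c, fun h => hab (congrFun h b), fun x => ?_⟩
    have h2 : (T x0).adjugate * T x = 0 := by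
      rcases alt x with h | h
      · rcases alt (y1 + x) with h' | h'
        · rw [map_add, add_mul, h, add_zero] at h'
          exact absurd h' hy1
        · rw [map_add, mul_add, (alt y1).resolve_left hy1, zero_add] at h'
          exact h'
      · exact h
    funext r
    exact congrFun (congrFun h2 a) r

theorem exists_coeffs {p : MvPolynomial (Fin 3) k} (hp : p.IsHomogeneous 1) : ∃ c : Fin 3 → k, p = ∑ i, c i • X i := by
  have : p ∈ Submodule.span k (Set.range (X : Fin 3 → MvPolynomial (Fin 3) k)) := by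
    rw [← MvPolynomial.homogeneousSubmodule_one_eq_span_X]; exact hp
  obtain ⟨c, hc⟩ := (Submodule.mem_span_range_iff_exists_fun k).1 this
  exact ⟨c, hc.symm⟩

/-- Evaluation of a linear form as a linear map. -/
theorem exists_linearMap {p : MvPolynomial (Fin 3) k} (hp : p.IsHomogeneous 1) :
    ∃ φ : (Fin 3 → k) →ₗ[k] k, ∀ x, eval x p = φ x := by
  obtain ⟨c, rfl⟩ := exists_coeffs hp
  refine ⟨∑ i, c i • LinearMap.proj i, fun x => ?_⟩
  simp [smul_eval]

theorem exists_gl_row (v : Fin 2 → k) (hv : v ≠ 0) : ∃ g : GL (Fin 2) k, g.val 0 = v := by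
  by_cases h : v 0 = 0
  · have h1 : v 1 ≠ 0 := fun h1 => hv (funext fun c => by fin_cases c <;> assumption)
    exact ⟨GeneralLinearGroup.mkOfDetNeZero !![v 0, v 1; 1, 0] (by simp [Matrix.det_fin_two, h, h1]),
      by ext c; fin_cases c <;> simp [GeneralLinearGroup.mkOfDetNeZero]⟩
  · exact ⟨GeneralLinearGroup.mkOfDetNeZero !![v 0, v 1; 0, 1] (by simp [Matrix.det_fin_two, h]),
      by ext c; fin_cases c <;> simp [GeneralLinearGroup.mkOfDetNeZero]⟩

theorem exists_gl_col (w : Fin 2 → k) (hw : w ≠ 0) : ∃ h : GL (Fin 2) k, ∀ c, h.val c 1 = w c := by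
  by_cases h : w 1 = 0
  · have h1 : w 0 ≠ 0 := fun h1 => hw (funext fun c => by fin_cases c <;> assumption)
    exact ⟨GeneralLinearGroup.mkOfDetNeZero !![0, w 0; 1, w 1] (by simp [Matrix.det_fin_two, h, h1]),
      fun c => by fin_cases c <;> simp [GeneralLinearGroup.mkOfDetNeZero]⟩
  · exact ⟨GeneralLinearGroup.mkOfDetNeZero !![1, w 0; 0, w 1] (by simp [Matrix.det_fin_two, h]),
      fun c => by fin_cases c <;> simp [GeneralLinearGroup.mkOfDetNeZero]⟩

theorem exists_perp (c : Fin 2 → k) : ∃ v : Fin 2 → k, v ≠ 0 ∧ v 0 * c 0 + v 1 * c 1 = 0 := by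
  by_cases h : c = 0
  · exact ⟨![1, 0], by simp, by simp [h]⟩
  · refine ⟨![-c 1, c 0], fun e => h ?_, by simp; ring⟩
    have := congrFun e 0
    have := congrFun e 1
    funext j; fin_cases j <;> simp_all

theorem eq_smul_of_vanish {W : Type u} [AddCommGroup W] [Module k W] (μ φ : W →ₗ[k] k) (h : ∀ x, μ x = 0 → φ x = 0) :
    ∃ c : k, ∀ x, φ x = c * μ x := by
  by_cases hμ : ∀ x, μ x = 0
  · exact ⟨0, fun x => by rw [zero_mul]; exact h x (hμ x)⟩
  · push_neg at hμ
    obtain ⟨z, hz⟩ := hμ
    refine ⟨φ z / μ z, fun x => ?_⟩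
    have := h (x - (μ x / μ z) • z) (by rw [map_sub, map_smul, smul_eq_mul, div_mul_cancel₀ _ hz, sub_self])
    rw [map_sub, map_smul, smul_eq_mul, sub_eq_zero] at this
    rw [this]; field_simp

/-- Over an algebraically closed field k of characteristic zero, for a 2 × 2 matrix M of linear forms in
k[X_0, X_1, X_2] (entries homogeneous of degree 1, zero allowed), det M is a product of two linear
forms if and only if M can be brought by invertible scalar row and column operations g M h, with g,
h in GL_2(k), to a matrix with zero upper-right entry. (The published statement concerns matrices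
with nonzero determinant; this row also allows determinant zero, where both sides hold.) -/
theorem result (k : Type u) [Field k] [IsAlgClosed k] [CharZero k]
    (M : Matrix (Fin 2) (Fin 2) (MvPolynomial (Fin 3) k)) (hM : ∀ a b : Fin 2, (M a b).IsHomogeneous 1) :
    (∃ l₁ l₂ : MvPolynomial (Fin 3) k, l₁.IsHomogeneous 1 ∧ l₂.IsHomogeneous 1 ∧ M.det = l₁ * l₂) ↔
    ∃ g h : GL (Fin 2) k,
      ((MvPolynomial.C : k →+* MvPolynomial (Fin 3) k).mapMatrix g.val * M *
        (MvPolynomial.C : k →+* MvPolynomial (Fin 3) k).mapMatrix h.val) 0 1 = 0 := by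
  constructor
  · rintro ⟨l₁, l₂, h1, -, hd⟩
    have hlin : ∀ a b, ∃ φ : (Fin 3 → k) →ₗ[k] k, ∀ x, eval x (M a b) = φ x := fun a b => exists_linearMap (hM a b)
    choose φ hφ using hlin
    obtain ⟨μ, hμ⟩ := exists_linearMap h1
    let T : ↥(LinearMap.ker μ) →ₗ[k] Matrix (Fin 2) (Fin 2) k :=
      { toFun := fun x => Matrix.of fun a b => φ a b x.1
        map_add' := fun x y => by ext a b; exact map_add (φ a b) x.1 y.1
        map_smul' := fun c x => by ext a b; exact map_smul (φ a b) c x.1 }
    have hT : ∀ x, (T x).det = 0 := fun x => by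
      have := congrArg (eval x.1) hd
      rw [map_mul, hμ, show μ x.1 = 0 from x.2, zero_mul, Matrix.det_fin_two, map_sub, map_mul, map_mul, hφ, hφ, hφ, hφ] at this
      rw [Matrix.det_fin_two]
      exact this
    have fin : ∀ v w : Fin 2 → k, v ≠ 0 → w ≠ 0 → (∀ x, (v 0 * (φ 0 0 x * w 0 + φ 0 1 x * w 1) + v 1 * (φ 1 0 x * w 0 + φ 1 1 x * w 1)) = 0) →
        ∃ g h : GL (Fin 2) k, ((MvPolynomial.C : k →+* MvPolynomial (Fin 3) k).mapMatrix g.val * M *
          (MvPolynomial.C : k →+* MvPolynomial (Fin 3) k).mapMatrix h.val) 0 1 = 0 := by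
      intro v w hv hw hx
      obtain ⟨g, hg⟩ := exists_gl_row v hv
      obtain ⟨h, hh⟩ := exists_gl_col w hw
      refine ⟨g, h, MvPolynomial.funext fun x => ?_⟩
      have g0 := congrFun hg 0
      have g1 := congrFun hg 1
      simp [Matrix.mul_apply, Fin.sum_univ_two, hh, g0, g1, hφ]
      linear_combination hx x
    rcases common_kernel T hT with ⟨w, hw, hwT⟩ | ⟨v, hv, hvT⟩
    · have hc : ∀ a, ∃ c : k, ∀ x, (φ a 0 x * w 0 + φ a 1 x * w 1) = c * μ x := fun a => by
        obtain ⟨c, hc⟩ := eq_smul_of_vanish μ (w 0 • φ a 0 + w 1 • φ a 1) fun x hx => by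
          have := congrFun (hwT ⟨x, hx⟩) a
          simp [T, Matrix.mulVec, dotProduct, Fin.sum_univ_two] at this
          simp; linear_combination this
        exact ⟨c, fun x => by have := hc x; simp at this; linear_combination this⟩
      choose c hc using hc
      obtain ⟨v, hv, hvc⟩ := exists_perp c
      exact fin v w hv hw fun x => by rw [hc, hc]; linear_combination μ x * hvc
    · have hc : ∀ b, ∃ c : k, ∀ x, (v 0 * φ 0 b x + v 1 * φ 1 b x) = c * μ x := fun b => by
        obtain ⟨c, hc⟩ := eq_smul_of_vanish μ (v 0 • φ 0 b + v 1 • φ 1 b) fun x hx => by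
          have := congrFun (hvT ⟨x, hx⟩) b
          simp [T, Matrix.vecMul, dotProduct, Fin.sum_univ_two] at this
          simp; linear_combination this
        exact ⟨c, fun x => by have := hc x; simp at this; linear_combination this⟩
      choose c hc using hc
      obtain ⟨w, hw, hwc⟩ := exists_perp c
      exact fin v w hv hw fun x => by linear_combination w 0 * hc 0 x + w 1 * hc 1 x + μ x * hwc
  · rintro ⟨g, h, e⟩
    set N := (MvPolynomial.C : k →+* MvPolynomial (Fin 3) k).mapMatrix g.val * M *
          (MvPolynomial.C : k →+* MvPolynomial (Fin 3) k).mapMatrix h.val with hN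
    have hgd : g.val.det ≠ 0 := ((Matrix.isUnit_iff_isUnit_det _).1 g.isUnit).ne_zero
    have hhd : h.val.det ≠ 0 := ((Matrix.isUnit_iff_isUnit_det _).1 h.isUnit).ne_zero
    have hhom : ∀ a b, (N a b).IsHomogeneous 1 := fun a b => by
      rw [hN]
      simp only [Matrix.mul_apply, RingHom.mapMatrix_apply, Matrix.map_apply]
      refine IsHomogeneous.sum _ _ _ fun j _ => ?_
      rw [mul_comm]
      exact (IsHomogeneous.sum _ _ _ fun i _ => (hM i j).C_mul _).C_mul _
    refine ⟨MvPolynomial.C (g.val.det * h.val.det)⁻¹ * N 0 0, N 1 1, (hhom 0 0).C_mul _, hhom 1 1, ?_⟩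
    have e2 : N.det = MvPolynomial.C (g.val.det * h.val.det) * M.det := by
      rw [hN, Matrix.det_mul, Matrix.det_mul, ← RingHom.map_det, ← RingHom.map_det, map_mul]; ring
    rw [Matrix.det_fin_two, e, zero_mul, sub_zero] at e2
    rw [mul_assoc, e2, ← mul_assoc, ← map_mul, inv_mul_cancel₀ (mul_ne_zero hgd hhd), map_one, one_mul]

end Groth.Agent.S13912
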