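import Groth.Statements.S13913
import Mathlib.RingTheory.MvPolynomial.EulerIdentity
import Mathlib.Tactic.LinearCombination
-- import your own Groth.Agent.* helpers here

set_option autoImplicit false
universe u
open PlaneCubic

namespace Groth.Agent.S13913

/-- Over an algebraically closed field of characteristic zero, for linearly independent linear forms z₁,
z₂ and quadratic forms q₁, q₂ in three variables and a nonzero common zero p of z₁ and z₂, the point
p is a singular point of the plane cubic z₁q₂ − z₂q₁ = 0 (all three partial derivatives vanish at p)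
if and only if q₁ and q₂ both vanish at p. -/
theorem result (k : Type u) [Field k] [IsAlgClosed k] [CharZero k]
    (z₁ z₂ q₁ q₂ : MvPolynomial (Fin 3) k) (hz₁ : z₁.IsHomogeneous 1) (hz₂ : z₂.IsHomogeneous 1)
    (hq₁ : q₁.IsHomogeneous 2) (hq₂ : q₂.IsHomogeneous 2) (hind : LinearIndependent k ![z₁, z₂])
    (p : Fin 3 → k) (hp : p ≠ 0) (hp₁ : MvPolynomial.eval p z₁ = 0) (hp₂ : MvPolynomial.eval p z₂ = 0) :
    (∀ i : Fin 3, MvPolynomial.eval p (MvPolynomial.pderiv i (z₁ * q₂ - z₂ * q₁)) = 0) ↔
      (MvPolynomial.eval p q₁ = 0 ∧ MvPolynomial.eval p q₂ = 0) := by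
  obtain ⟨hA, hB⟩ : (∀ i, MvPolynomial.pderiv i z₁ = MvPolynomial.C (MvPolynomial.eval p (MvPolynomial.pderiv i z₁)))
      ∧ (∀ i, MvPolynomial.pderiv i z₂ = MvPolynomial.C (MvPolynomial.eval p (MvPolynomial.pderiv i z₂))) := by
    have key : ∀ z : MvPolynomial (Fin 3) k, z.IsHomogeneous 1 → ∀ i,
        MvPolynomial.pderiv i z = MvPolynomial.C (MvPolynomial.eval p (MvPolynomial.pderiv i z)) := by
      intro z hz i
      have h0 : (MvPolynomial.pderiv i z).IsHomogeneous 0 := hz.pderiv
      have hC : MvPolynomial.pderiv i z = MvPolynomial.C (MvPolynomial.coeff 0 (MvPolynomial.pderiv i z)) := by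
        rw [← MvPolynomial.homogeneousComponent_zero, MvPolynomial.homogeneousComponent_eq_self h0]
      rw [hC, MvPolynomial.eval_C]
    exact ⟨key z₁ hz₁, key z₂ hz₂⟩
  constructor
  · intro h
    have hz : MvPolynomial.C (MvPolynomial.eval p q₂) * z₁ + MvPolynomial.C (-MvPolynomial.eval p q₁) * z₂ = 0 := by
      set φ := MvPolynomial.C (MvPolynomial.eval p q₂) * z₁ + MvPolynomial.C (-MvPolynomial.eval p q₁) * z₂
        with hφ
      have hh : φ.IsHomogeneous 1 := (hz₁.C_mul _).add (hz₂.C_mul _)
      have hd : ∀ i, MvPolynomial.pderiv i φ = 0 := by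
        intro i
        rw [hφ, map_add, MvPolynomial.pderiv_C_mul, MvPolynomial.pderiv_C_mul, hA i, hB i,
          ← MvPolynomial.C_mul, ← MvPolynomial.C_mul, ← MvPolynomial.C_add, ← map_zero (MvPolynomial.C : k →+* MvPolynomial (Fin 3) k)]
        congr 1
        have := h i
        simp only [map_sub, MvPolynomial.pderiv_mul, map_add, map_mul, hp₁, hp₂, zero_mul, add_zero] at this
        linear_combination this
      have := hh.sum_X_mul_pderiv
      simp only [hd, mul_zero, Finset.sum_const_zero, one_smul] at this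
      exact this.symm
    have h2 := (LinearIndependent.pair_iff.1 hind) (MvPolynomial.eval p q₂) (-MvPolynomial.eval p q₁)
      (by rw [MvPolynomial.smul_eq_C_mul, MvPolynomial.smul_eq_C_mul]; exact hz)
    exact ⟨neg_eq_zero.1 h2.2, h2.1⟩
  · rintro ⟨h1, h2⟩ i
    simp [map_sub, MvPolynomial.pderiv_mul, hp₁, hp₂, h1, h2]

end Groth.Agent.S13913
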