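import Groth.Statements.S13914
-- import your own Groth.Agent.* helpers here

set_option autoImplicit false
universe u
open PlaneConic

namespace Groth.Agent.S13914

/-- Over an algebraically closed field of characteristic zero, an invertible 3 × 3 matrix g, acting on
row vectors and so on the projective plane, fixes every point of the line u_0 = 0 if and only if g
is a nonzero scalar multiple of a matrix with rows (α, β, γ), (0, 1, 0), (0, 0, 1). -/
theorem result (k : Type u) [Field k] [IsAlgClosed k] [CharZero k]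
    (g : Matrix (Fin 3) (Fin 3) k) (hg : IsUnit g.det) :
    (∀ v : Fin 3 → k, v 0 = 0 → ∃ c : k, Matrix.vecMul v g = c • v) ↔
      ∃ c α β γ : k, c ≠ 0 ∧ g = c • !![α, β, γ; 0, 1, 0; 0, 0, 1] := by
  constructor
  · intro h
    obtain ⟨c1, h1⟩ := h ![0, 1, 0] (by simp)
    obtain ⟨c2, h2⟩ := h ![0, 0, 1] (by simp)
    obtain ⟨c3, h3⟩ := h ![0, 1, 1] (by simp)
    simp [funext_iff, Fin.forall_fin_succ, Matrix.vecMul, dotProduct, Fin.sum_univ_three] at h1 h2 h3
    obtain ⟨a10, a11, a12⟩ := h1
    obtain ⟨a20, a21, a22⟩ := h2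
    obtain ⟨-, b1, b2⟩ := h3
    have e : c1 = c2 := by
      rw [a11, a21, add_zero] at b1
      rw [a12, a22, zero_add] at b2
      rw [b1, b2]
    subst e
    have hc : c1 ≠ 0 := by
      intro hc
      apply hg.ne_zero
      rw [Matrix.det_fin_three, a10, a11, a12, a20, a21, a22, hc]; ring
    refine ⟨c1, g 0 0 / c1, g 0 1 / c1, g 0 2 / c1, hc, ?_⟩
    ext i j
    fin_cases i <;> fin_cases j <;> simp [a10, a11, a12, a20, a21, a22, mul_div_cancel₀ _ hc]
  · rintro ⟨c, α, β, γ, hc, rfl⟩ v hv
    refine ⟨c, ?_⟩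
    ext j
    fin_cases j <;> simp [Matrix.vecMul, dotProduct, Fin.sum_univ_three, hv] <;> ring

end Groth.Agent.S13914
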