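import Groth.Statements.S13915
import Groth.Agent.BlowP2.Euler
-- import your own Groth.Agent.* helpers here

set_option autoImplicit false
universe u
open CategoryTheory CategoryTheory.Limits AlgebraicGeometry
open BlowUp

namespace Groth.Agent.S13915

/-- On the blowing up σ : X ⟶ P²_k of the projective plane over an algebraically closed field k of
characteristic zero at a closed point, with E the ideal of the exceptional line and H the pull-back
of O(1), one has χ(X, σ^*O(a) ⊗ E^b) = (a² + 3a)/2 − (b² + b)/2 + 1 for all integers a and natural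
numbers b (the line bundle written aH − bL; the k-structure on X is the composite through σ). -/
theorem result (k : Type u) [Field k] [IsAlgClosed k] [CharZero k]
    (p : ↥(CohB1.ProjSpace 2 k)) (hp : IsClosed ({p} : Set ↥(CohB1.ProjSpace 2 k)))
    {X : Scheme.{u}} [X.Over (Spec (CommRingCat.of k))] (σ : X ⟶ CohB1.ProjSpace 2 k)
    (hσk : σ ≫ CohB1.ProjSpace.toSpec 2 k = X ↘ Spec (CommRingCat.of k))
    (hσ : BlowUp.IsBlowUp σ (Scheme.IdealSheafData.vanishingIdeal ⟨{p}, hp⟩)) (a : ℤ) (b : ℕ) :
    Curv2.euler k X (CohB1.tensorMod ((Scheme.Modules.pullback σ).obj (Twist.twistProjSpace 2 k a))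
      (ClSub.idealMod ((BlowUp.exceptional σ (Scheme.IdealSheafData.vanishingIdeal ⟨{p}, hp⟩)) ^ b))) =
      (a * a + 3 * a) / 2 - ((b : ℤ) * b + b) / 2 + 1 := by
  have h := BlowP2.euler_twist_pow (k := k) p hp σ hσk hσ a b
  obtain ⟨c, hc⟩ : (2 : ℤ) ∣ a * a + 3 * a := by
    rw [show a * a + 3 * a = a * (a + 1) + 2 * a by ring]
    exact dvd_add (Int.even_mul_succ_self a).two_dvd (dvd_mul_right _ _)
  obtain ⟨d, hd⟩ : (2 : ℤ) ∣ (b : ℤ) * b + b := by
    rw [show (b : ℤ) * b + b = (b : ℤ) * ((b : ℤ) + 1) by ring]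
    exact (Int.even_mul_succ_self (b : ℤ)).two_dvd
  rw [hc, hd, Int.mul_ediv_cancel_left _ two_ne_zero, Int.mul_ediv_cancel_left _ two_ne_zero]
  linarith

end Groth.Agent.S13915
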