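import Groth.Statements.S13916
import Mathlib
open MvPolynomial Matrix

set_option autoImplicit false
universe u
open PlaneConic

namespace Groth.Agent.S13916

/-- Over an algebraically closed field k of characteristic zero, with u_0, u_1, u_2 the coordinate
linear forms of k[X_0, X_1, X_2] and 2 × 2 matrices of linear forms compared up to M ↦ g M h with g,
h invertible scalar matrices: (1) the matrices with rows (u_1, 0), (u_0, u_2) and (u_2, 0), (u_0,
u_1) are not equivalent; (2) for α ≠ 0 the matrix with rows (u_1, 0), (αu_0 + βu_1 + γu_2, u_2) is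
equivalent to the one with rows (u_1, 0), (u_0, u_2). -/
theorem result (k : Type u) [Field k] [IsAlgClosed k] [CharZero k] :
    (¬ ∃ g h : GL (Fin 2) k,
      (MvPolynomial.C : k →+* MvPolynomial (Fin 3) k).mapMatrix g.val *
          !![MvPolynomial.X 1, 0; MvPolynomial.X 0, MvPolynomial.X 2] *
        (MvPolynomial.C : k →+* MvPolynomial (Fin 3) k).mapMatrix h.val =
      !![MvPolynomial.X 2, 0; MvPolynomial.X 0, MvPolynomial.X 1]) ∧
    (∀ α β γ : k, α ≠ 0 → ∃ g h : GL (Fin 2) k,
      (MvPolynomial.C : k →+* MvPolynomial (Fin 3) k).mapMatrix g.val *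
          !![MvPolynomial.X 1, 0;
             MvPolynomial.C α * MvPolynomial.X 0 + MvPolynomial.C β * MvPolynomial.X 1 + MvPolynomial.C γ * MvPolynomial.X 2,
             MvPolynomial.X 2] *
        (MvPolynomial.C : k →+* MvPolynomial (Fin 3) k).mapMatrix h.val =
      !![MvPolynomial.X 1, 0; MvPolynomial.X 0, MvPolynomial.X 2]) := by
  constructor
  · rintro ⟨g, h, e⟩
    have e' : (C : k →+* MvPolynomial (Fin 3) k).mapMatrix g.val * !![X 1, 0; X 0, X 2] =
        !![X 2, 0; X 0, X 1] * (C : k →+* MvPolynomial (Fin 3) k).mapMatrix (h⁻¹ : GL (Fin 2) k).val := by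
      rw [← e, mul_assoc _ _ ((C : k →+* MvPolynomial (Fin 3) k).mapMatrix (h⁻¹ : GL (Fin 2) k).val), ← map_mul]
      simp
    generalize ((h⁻¹ : GL (Fin 2) k).val) = q at e'
    have c : ∀ (i j : Fin 2) (v : Fin 3),
        coeff (Finsupp.single v 1) (((C : k →+* MvPolynomial (Fin 3) k).mapMatrix g.val * !![X 1, 0; X 0, X 2] : Matrix (Fin 2) (Fin 2) (MvPolynomial (Fin 3) k)) i j) =
          coeff (Finsupp.single v 1) ((!![X 2, 0; X 0, X 1] * (C : k →+* MvPolynomial (Fin 3) k).mapMatrix q : Matrix (Fin 2) (Fin 2) (MvPolynomial (Fin 3) k)) i j) :=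
      fun i j v => by rw [e']
    have hdet : g.val.det ≠ 0 := (Matrix.isUnit_iff_isUnit_det _).1 g.isUnit |>.ne_zero
    refine hdet ?_
    rw [Matrix.det_fin_two]
    have a := c 0 0 1
    have b := c 0 0 0
    have d := c 0 1 0
    have d' := c 1 1 2
    have f := c 1 0 1
    have f' := c 0 0 2
    have f'' := c 0 1 2
    simp [Matrix.mul_apply, Fin.sum_univ_two, coeff_C_mul, mul_comm _ (C _), coeff_X', Finsupp.single_eq_single_iff] at a b d d' f f' f''
    rw [a, b]; ring
  · intro α β γ hα
    refine ⟨GeneralLinearGroup.mkOfDetNeZero !![1, 0; -β / α, 1 / α] (by simp [Matrix.det_fin_two, hα]),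
      GeneralLinearGroup.mkOfDetNeZero !![1, 0; -γ, α] (by simp [Matrix.det_fin_two, hα]), ?_⟩
    have hc : (C α⁻¹ : MvPolynomial (Fin 3) k) * C α = 1 := by rw [← map_mul, inv_mul_cancel₀ hα, map_one]
    have hd : (C (-β / α) : MvPolynomial (Fin 3) k) = - C β * C α⁻¹ := by rw [← map_neg, ← map_mul, div_eq_mul_inv]
    ext i j : 1
    fin_cases i <;> fin_cases j <;> simp [Matrix.mul_apply, Fin.sum_univ_two, GeneralLinearGroup.mkOfDetNeZero, hd] <;>
      first
        | linear_combination (X 0 : MvPolynomial (Fin 3) k) * hc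
        | linear_combination (X 2 : MvPolynomial (Fin 3) k) * hc

end Groth.Agent.S13916
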