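import Groth.Statements.S13922
import Groth.Agent.RamP1.Flip

set_option autoImplicit false
universe u
open W4c1limliniiii

namespace Groth.Agent.S13922

open Polynomial Groth.Agent.RamP1 Groth.Agent.RamP1.Flip Groth.Agent.RamP1.GeneralMain in
theorem transfer {k : Type u} [Field k] {p d n : ℕ} [CharP k p] (hp : p.Prime) {e : Fin n → ℕ}
    (he : Data p d e) (hlt : ∀ l, e l < p) {i j : Fin n} (hij : i ≠ j) (hd : e i + e j ≤ d + p) {m : ℕ}
    (h : HasGenericCount (k := k) d e m) :
    HasGenericCount (k := k) (d + p - e i - e j) (flipE p e i j) m := by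
  classical
  obtain ⟨Φ₀, hΦ₀, h0⟩ := h
  have hdata' := data_flipE hij he hlt hd
  have hlt' := flipE_lt hij he hlt
  obtain ⟨Φ₁, hΦ₁, h1⟩ := finite_and_separate' (k := k) he
  obtain ⟨Φ₂, hΦ₂, h2⟩ := finite_and_separate' (k := k) hdata'
  have hD : (∏ q ∈ Finset.univ.offDiag, (MvPolynomial.X q.1 - MvPolynomial.X q.2) : MvPolynomial (Fin n) k) ≠ 0 :=
    Finset.prod_ne_zero_iff.2 fun q hq => sub_ne_zero.2 fun h0 =>
      (Finset.mem_offDiag.1 hq).2.2 (MvPolynomial.X_injective h0)
  refine ⟨_, mul_ne_zero (mul_ne_zero (mul_ne_zero hD hΦ₀) hΦ₁) hΦ₂, fun P hP => ?_⟩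
  rw [map_mul, map_mul, map_mul, map_prod, mul_ne_zero_iff, mul_ne_zero_iff, mul_ne_zero_iff] at hP
  obtain ⟨⟨⟨hPd, hP0⟩, hP1⟩, hP2⟩ := hP
  have hinj : Function.Injective P := fun a b hab => by
    by_contra hne
    exact Finset.prod_ne_zero_iff.1 hPd (a, b) (by simp [hne]) (by simp [hab])
  have fwd : ∀ V : ramMaps d P e, ∃! V', V' ∈ ramMaps (d + p - e i - e j) P (flipE p e i j) ∧
      Rel p (P i) (P j) (e i) (e j) V.1 V' := fun V =>
    flip_pair hp hinj hij he hlt hd V.2 (fun s hs => (h1 P hP1).2 V.1 V.2 i j hij s hs)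
  have hd' : flipE p e i j i + flipE p e i j j ≤ (d + p - e i - e j) + p := by
    rw [flipE_left hij, flipE_right]
    have := hlt i
    have := hlt j
    omega
  have ed : d + p - e i - e j + p - flipE p e i j i - flipE p e i j j = d := by
    rw [flipE_left hij, flipE_right]
    have := hlt i
    have := hlt j
    omega
  have bwd : ∀ V' : ramMaps (d + p - e i - e j) P (flipE p e i j), ∃! V, V ∈ ramMaps d P e ∧
      Rel p (P i) (P j) (p - e i) (p - e j) V'.1 V := fun V' => by
    have := flip_pair hp hinj hij hdata' hlt' hd' V'.2 (fun s hs => (h2 P hP2).2 V'.1 V'.2 i j hij s hs)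
    rwa [ed, flipE_flipE hij hlt, flipE_left hij, flipE_right] at this
  let E : ramMaps d P e ≃ ramMaps (d + p - e i - e j) P (flipE p e i j) :=
    { toFun := fun V => ⟨(fwd V).exists.choose, (fwd V).exists.choose_spec.1⟩
      invFun := fun V' => ⟨(bwd V').exists.choose, (bwd V').exists.choose_spec.1⟩
      left_inv := fun V => Subtype.ext ((bwd _).unique (bwd _).exists.choose_spec
        ⟨V.2, rel_symm (hlt i).le (hlt j).le (fwd V).exists.choose_spec.2⟩)
      right_inv := fun V' => Subtype.ext ((fwd _).unique (fwd _).exists.choose_spec ⟨V'.2, by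
        have := rel_symm (Nat.sub_le p (e i)) (Nat.sub_le p (e j)) (bwd V').exists.choose_spec.2
        rwa [Nat.sub_sub_self (hlt i).le, Nat.sub_sub_self (hlt j).le] at this⟩) }
  refine ⟨(h2 P hP2).1, ?_⟩
  rw [← Nat.card_congr E, (h0 P hP0).2]

open Polynomial in
/-- Over an algebraically closed field of prime characteristic p, let (d; e_1, …, e_n) be admissible
ramification data (2 ≤ e_i ≤ d, ∑ (e_i − 1) = 2d − 2) with every e_i < p, and for two distinct
indices i ≠ j replace e_i, e_j by p − e_i, p − e_j and d by d + p − e_i − e_j. Then the number of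
separable self-maps of the projective line with the prescribed ramification at general points, up to
automorphisms of the target (counted as base-point-free separable pencils of polynomials, for
configurations of points of the affine line off the zero set of a non-zero polynomial), is the same
for the two data: a number is the general count for one if and only if it is the general count for
the other. -/
theorem result (k : Type u) [Field k] [IsAlgClosed k]
    (p : ℕ) [Fact p.Prime] [CharP k p] (d n : ℕ) (e : Fin n → ℕ)
    (he : W4c1limliniiii.Admissible p d e) (hlt : ∀ l, e l < p) (i j : Fin n) (hij : i ≠ j)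
    (m : ℕ) :
    W4c1limliniiii.HasGenericCount (k := k) d e m ↔
      W4c1limliniiii.HasGenericCount (k := k) (d + p - e i - e j)
        (Function.update (Function.update e i (p - e i)) j (p - e j)) m := by
  have hp : p.Prime := Fact.out
  have hd : e i + e j ≤ d + p := add_le_add (he.1 i).2.1 (hlt j).le
  have hdata := Groth.Agent.RamP1.GeneralMain.data_of_admissible he
  refine ⟨fun h => transfer hp hdata hlt hij hd h, fun h => ?_⟩
  have h' := transfer hp (Groth.Agent.RamP1.Flip.data_flipE hij hdata hlt hd)
    (Groth.Agent.RamP1.Flip.flipE_lt hij hdata hlt) hij (m := m) (by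
      rw [Groth.Agent.RamP1.Flip.flipE_left hij, Groth.Agent.RamP1.Flip.flipE_right]
      have := hlt i
      have := hlt j
      omega) h
  rw [Groth.Agent.RamP1.Flip.flipE_flipE hij hlt, Groth.Agent.RamP1.Flip.flipE_left hij,
    Groth.Agent.RamP1.Flip.flipE_right] at h'
  have ed : d + p - e i - e j + p - (p - e i) - (p - e j) = d := by
    have := hlt i
    have := hlt j
    omega
  rwa [ed] at h' 

end Groth.Agent.S13922
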