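import Groth.Statements.S13925


set_option autoImplicit false
universe u v w x
open W4c1limliniiii

namespace Groth.Agent.S13925

/-- Let k be a field and U, E, W vector spaces over k with linear maps f : U → E, g' : E → U, f₂ : E → W
and g : W → E such that g' ∘ f = 0, the kernel of f₂ is contained in the image of g, and the image
of g meets the kernel of g' only in 0 — the conditions holding at a point of a linked Grassmannian
at which the linking scalar vanishes. Let V₁ ≤ U and V₂ ≤ E be subspaces and let C' ≤ V₂ be a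
subspace contained in the kernel of g' and meeting f(V₁) only in 0. Then the subspaces f(V₁), ker f₂
∩ V₂ and C' of E are independent: their sum is direct. (The published statement is for two
consecutive members V_{i-1}, V_i of a point of a linked Grassmannian at which the linking scalar
vanishes and adds the decomposition V_i = f(V_{i-1}) ⊕ (ker f_i ∩ V_i) ⊕ C with C ⊇ C'; this row
states the independence, with only the three conditions the argument uses.) -/
theorem result (k : Type u) [Field k]
    (U : Type v) (E : Type w) (W : Type x) [AddCommGroup U] [Module k U] [AddCommGroup E]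
    [Module k E] [AddCommGroup W] [Module k W]
    (f : U →ₗ[k] E) (g' : E →ₗ[k] U) (f₂ : E →ₗ[k] W) (g : W →ₗ[k] E)
    (hgf : g'.comp f = 0) (hII : LinearMap.ker f₂ ≤ LinearMap.range g)
    (hIII : LinearMap.range g ⊓ LinearMap.ker g' = ⊥)
    (V₁ : Submodule k U) (V₂ : Submodule k E) (C' : Submodule k E) (hC : C' ≤ V₂)
    (hCg : C' ≤ LinearMap.ker g') (hCf : Submodule.map f V₁ ⊓ C' = ⊥) :
    iSupIndep ![Submodule.map f V₁, LinearMap.ker f₂ ⊓ V₂, C'] := by
  rw [iSupIndep_def]
  intro i
  rw [disjoint_iff, Submodule.eq_bot_iff]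
  have hfg : ∀ x ∈ LinearMap.ker f₂, g' x = 0 → x = 0 := fun x hx h0 =>
    (Submodule.eq_bot_iff _).1 hIII x ⟨hII hx, h0⟩
  have hf0 : ∀ x ∈ Submodule.map f V₁, g' x = 0 := by
    rintro _ ⟨y, -, rfl⟩
    exact LinearMap.congr_fun hgf y
  have hCf' : ∀ x ∈ Submodule.map f V₁, x ∈ C' → x = 0 := fun x h1 h2 => (Submodule.eq_bot_iff _).1 hCf x ⟨h1, h2⟩
  intro x hx
  obtain ⟨hxi, hxj⟩ := hx
  fin_cases i
  · have h : x ∈ (LinearMap.ker f₂ ⊓ V₂) ⊔ C' := by
      refine (iSup₂_le fun j hj => ?_ : _ ≤ (LinearMap.ker f₂ ⊓ V₂) ⊔ C') hxj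
      fin_cases j <;> simp_all
    obtain ⟨a, ha, c, hc, rfl⟩ := Submodule.mem_sup.1 h
    have h0 := hf0 _ hxi
    rw [map_add, show g' c = 0 from hCg hc, add_zero] at h0
    have := hfg a ha.1 h0
    subst this
    rw [zero_add] at hxi ⊢
    exact hCf' c hxi hc
  · have h : x ∈ Submodule.map f V₁ ⊔ C' := by
      refine (iSup₂_le fun j hj => ?_ : _ ≤ Submodule.map f V₁ ⊔ C') hxj
      fin_cases j <;> simp_all
    obtain ⟨a, ha, c, hc, rfl⟩ := Submodule.mem_sup.1 h
    refine hfg _ hxi.1 ?_
    rw [map_add, hf0 a ha, show g' c = 0 from hCg hc, add_zero]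
  · have h : x ∈ Submodule.map f V₁ ⊔ (LinearMap.ker f₂ ⊓ V₂) := by
      refine (iSup₂_le fun j hj => ?_ : _ ≤ Submodule.map f V₁ ⊔ (LinearMap.ker f₂ ⊓ V₂)) hxj
      fin_cases j <;> simp_all
    obtain ⟨a, ha, c, hc, rfl⟩ := Submodule.mem_sup.1 h
    have h0 : g' (a + c) = 0 := hCg hxi
    rw [map_add, hf0 a ha, zero_add] at h0
    have := hfg c hc.1 h0
    subst this
    rw [add_zero] at hxi ⊢
    exact hCf' a ha hxi

end Groth.Agent.S13925
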