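import Groth.Statements.S13926
import Mathlib.LinearAlgebra.FiniteDimensional.Lemmas
-- import your own Groth.Agent.* helpers here

set_option autoImplicit false
set_option linter.style.haveILetI false
set_option linter.unusedSimpArgs false
universe u v w
open W4c1limliniiii

namespace Groth.Agent.S13926

/-- Let k be a field, E₁ and E₂ finite-dimensional vector spaces over k of the same dimension, f : E₁ →
E₂ and g : E₂ → E₁ linear maps whose composite g ∘ f is multiplication by a scalar s, and V₁ a
subspace of E₁. Then there is a subspace V₂ of E₂ of the same dimension as V₁ with f(V₁) ≤ V₂ and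
g(V₂) ≤ V₁. (The published statement is the surjectivity of the truncation morphisms of a linked
Grassmannian, with a further assertion on lifting families; this row is the lifting step over a
field — over a point the chain of linked subspaces V_1, …, V_{n'} extends one index at a time — and
assumes only g ∘ f = s.) -/
theorem result (k : Type u) [Field k]
    (E₁ : Type v) (E₂ : Type w) [AddCommGroup E₁] [Module k E₁] [FiniteDimensional k E₁]
    [AddCommGroup E₂] [Module k E₂] [FiniteDimensional k E₂]
    (hdim : Module.finrank k E₁ = Module.finrank k E₂)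
    (f : E₁ →ₗ[k] E₂) (g : E₂ →ₗ[k] E₁) (s : k) (hgf : g.comp f = s • LinearMap.id)
    (V₁ : Submodule k E₁) :
    ∃ V₂ : Submodule k E₂, Module.finrank k V₂ = Module.finrank k V₁ ∧
      Submodule.map f V₁ ≤ V₂ ∧ Submodule.map g V₂ ≤ V₁ := by
  have hle : V₁.map f ≤ V₁.comap g := by
    rintro _ ⟨v, hv, rfl⟩
    have e : g (f v) = s • v := LinearMap.congr_fun hgf v
    simpa [Submodule.mem_comap, e] using V₁.smul_mem s hv
  have hbig : Module.finrank k V₁ ≤ Module.finrank k (V₁.comap g) := by
    let q : V₁.comap g →ₗ[k] V₁ := g.restrict (fun x hx => hx)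
    have h1 := q.finrank_range_add_finrank_ker
    have h2 : Module.finrank k (LinearMap.range q) = Module.finrank k ↥(LinearMap.range g ⊓ V₁) := by
      rw [← LinearMap.finrank_range_of_inj (f := V₁.subtype ∘ₗ (LinearMap.range q).subtype)
        (V₁.injective_subtype.comp (LinearMap.range q).injective_subtype)]
      refine congrArg (fun p : Submodule k E₁ => Module.finrank k p) ?_
      ext x
      constructor
      · rintro ⟨⟨_, ⟨y, rfl⟩⟩, rfl⟩
        exact ⟨⟨y.1, rfl⟩, y.2⟩
      · rintro ⟨⟨y, rfl⟩, hx⟩
        exact ⟨⟨⟨g y, hx⟩, ⟨⟨y, hx⟩, rfl⟩⟩, rfl⟩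
    have h3 : Module.finrank k (LinearMap.ker q) = Module.finrank k (LinearMap.ker g) := by
      have e : LinearMap.ker q = (LinearMap.ker g).comap (V₁.comap g).subtype := by
        ext x; simp [q, LinearMap.restrict_apply, Subtype.ext_iff]
      rw [e]
      refine (Submodule.comapSubtypeEquivOfLe ?_).finrank_eq
      intro x hx
      simp [LinearMap.mem_ker.1 hx]
    have h4 := g.finrank_range_add_finrank_ker
    have h5 := Submodule.finrank_sup_add_finrank_inf_eq (LinearMap.range g) V₁
    have h6 := Submodule.finrank_le (LinearMap.range g ⊔ V₁)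
    omega
  have between : ∀ (d : ℕ) (W : Submodule k E₂), W ≤ V₁.comap g → Module.finrank k W + d = Module.finrank k V₁ →
      ∃ V₂ : Submodule k E₂, Module.finrank k V₂ = Module.finrank k V₁ ∧ W ≤ V₂ ∧ V₂ ≤ V₁.comap g := by
    intro d
    induction d with
    | zero => intro W hW h; exact ⟨W, by omega, le_rfl, hW⟩
    | succ d ih =>
      intro W hW h
      obtain ⟨x, hx, hxW⟩ : ∃ x ∈ V₁.comap g, x ∉ W := by
        by_contra hno
        push Not at hno
        have := Submodule.finrank_mono (show V₁.comap g ≤ W from hno)
        omega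
      have hx0 : x ≠ 0 := fun h0 => hxW (h0 ▸ W.zero_mem)
      have hdis : W ⊓ Submodule.span k {x} = ⊥ := by
        rw [eq_bot_iff]
        rintro z ⟨hzW, hzx⟩
        obtain ⟨c, rfl⟩ := Submodule.mem_span_singleton.1 hzx
        by_contra hz
        have hc : c ≠ 0 := fun hc => hz (by simp [hc])
        exact hxW (by simpa [hc] using W.smul_mem c⁻¹ hzW)
      have hr := Submodule.finrank_sup_add_finrank_inf_eq W (Submodule.span k {x})
      rw [hdis, finrank_bot, finrank_span_singleton hx0] at hr
      obtain ⟨V₂, h1, h2, h3⟩ := ih (W ⊔ Submodule.span k {x})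
        (sup_le hW ((Submodule.span_singleton_le_iff_mem x _).2 hx)) (by omega)
      exact ⟨V₂, h1, le_sup_left.trans h2, h3⟩
  have hm := Submodule.finrank_map_le f V₁
  obtain ⟨V₂, h1, h2, h3⟩ := between (Module.finrank k V₁ - Module.finrank k (V₁.map f)) _ hle (by omega)
  exact ⟨V₂, h1, h2, Submodule.map_le_iff_le_comap.2 h3⟩

end Groth.Agent.S13926
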