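import Groth.Statements.S13934
import Groth.Agent.CurveRR.Deg
import Groth.Agent.CurveRR.Easy
import Groth.Agent.W7Slope.Hom

set_option autoImplicit false
set_option backward.isDefEq.respectTransparency false
universe u
open CategoryTheory CategoryTheory.Limits AlgebraicGeometry
open W4c1limliniiii

namespace Groth.Agent.S13934

/-- On a smooth proper integral curve over an algebraically closed field (any characteristic), let 0 → L
→ E → M → 0 be a short exact sequence of O_X-modules with E finite locally free of rank 2 and degree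
0, L and M invertible and deg L > 0 (so M is det E ⊗ L⁻¹). Then: every invertible sheaf N admitting
a non-zero map N → E has deg N ≤ deg L, so L is the line bundle of maximal degree in E; every
invertible subsheaf N of E of positive degree with invertible quotient E/N coincides with L (some
isomorphism N ≅ L commutes with the inclusions); and E is not an extension of two invertible sheaves
of degree 0. Degrees are χ(−) minus rank times χ(O_X). (The published lemma is stated on a curve of
genus 2 in characteristic p; its argument uses neither, and this row assumes neither.) -/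
theorem result (k : Type u) [Field k] [IsAlgClosed k] (X : Scheme.{u}) [X.Over (Spec (CommRingCat.of k))]
    [IsIntegral X] [IsProper (X ↘ Spec (CommRingCat.of k))] [Smooth (X ↘ Spec (CommRingCat.of k))]
    (hdim : topologicalKrullDim X = 1)
    (S : ShortComplex X.Modules) (hS : S.ShortExact)
    (hE : FlatMod.IsFinLocFreeOfRank 2 S.X₂) (hE0 : Curv2.deg k X S.X₂ 2 = 0)
    (hL : PicF.IsInvertible S.X₁) (hM : PicF.IsInvertible S.X₃) (hpos : 0 < Curv2.deg k X S.X₁ 1) :
    (∀ (N : X.Modules), PicF.IsInvertible N → ∀ j : N ⟶ S.X₂, j ≠ 0 →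
        Curv2.deg k X N 1 ≤ Curv2.deg k X S.X₁ 1) ∧
    (∀ (N : X.Modules), PicF.IsInvertible N → ∀ (j : N ⟶ S.X₂), Mono j →
        PicF.IsInvertible (cokernel j) → 0 < Curv2.deg k X N 1 → ∃ φ : N ≅ S.X₁, φ.hom ≫ S.f = j) ∧
    (∀ (N N' : X.Modules), PicF.IsInvertible N → PicF.IsInvertible N' →
        Curv2.deg k X N 1 = 0 → Curv2.deg k X N' 1 = 0 →
        ∀ (a : N ⟶ S.X₂) (b : S.X₂ ⟶ N') (w : a ≫ b = 0), ¬ (ShortComplex.mk a b w).ShortExact) := by
  have r1 := fun {N : X.Modules} (h : PicF.IsInvertible N) => Groth.Agent.CurveRR.isFinLocFreeOfRank_one h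
  have hsum : Curv2.deg k X S.X₂ 2 = Curv2.deg k X S.X₁ 1 + Curv2.deg k X S.X₃ 1 :=
    Groth.Agent.CurveRR.Easy.deg_add S hS (r1 hL) hE (r1 hM) rfl
  have le : ∀ {N N' : X.Modules}, PicF.IsInvertible N → PicF.IsInvertible N' → ∀ φ : N ⟶ N', φ ≠ 0 →
      Curv2.deg k X N 1 ≤ Curv2.deg k X N' 1 :=
    fun {N N'} hN hN' φ hφ => (Groth.Agent.CurveRR.deg_le_and_isIso hdim.le hN hN' φ hφ).1
  haveI := hS.mono_f
  refine ⟨fun N hN j hj => ?_, fun N hN j hj hC hd => ?_, fun N N' hN hN' hN0 hN0' a b w hab => ?_⟩
  · by_cases h : j ≫ S.g = 0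
    · refine le hN hL (hS.exact.lift j h) fun h0 => hj ?_
      rw [← hS.exact.lift_f j h, h0, zero_comp]
    · have := le hN hM _ h
      omega
  · haveI := hj
    have hjS : j ≫ S.g = 0 := by
      by_contra h
      have := le hN hM _ h
      omega
    have hT : (ShortComplex.mk j (cokernel.π j) (cokernel.condition j)).ShortExact :=
      { exact := ShortComplex.exact_cokernel j }
    have hsum' : Curv2.deg k X S.X₂ 2 = Curv2.deg k X N 1 + Curv2.deg k X (cokernel j) 1 :=
      Groth.Agent.CurveRR.Easy.deg_add _ hT (r1 hN) hE (r1 hC) rfl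
    have hLc : S.f ≫ cokernel.π j = 0 := by
      by_contra h
      have := le hL hC _ h
      omega
    refine ⟨⟨hS.exact.lift j hjS, hT.exact.lift S.f hLc, ?_, ?_⟩, hS.exact.lift_f j hjS⟩
    · rw [← cancel_mono j, Category.assoc, show hT.exact.lift S.f hLc ≫ j = S.f from hT.exact.lift_f _ _,
        hS.exact.lift_f, Category.id_comp]
    · rw [← cancel_mono S.f, Category.assoc, hS.exact.lift_f,
        show hT.exact.lift S.f hLc ≫ j = S.f from hT.exact.lift_f _ _, Category.id_comp]
  · have hLb : S.f ≫ b = 0 := by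
      by_contra h
      have := le hL hN' _ h
      omega
    haveI := hab.mono_f
    have hne : S.f ≠ 0 := fun h0 =>
      Groth.Agent.W7Slope.pos_rank_not_isZero k one_pos (r1 hL) (IsZero.of_mono_eq_zero S.f h0)
    have h1 := le hL hN (hab.exact.lift S.f hLb) fun h0 => hne (by
      rw [← hab.exact.lift_f S.f hLb, h0, zero_comp])
    omega

end Groth.Agent.S13934
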