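import Groth.Statements.S3811
import Groth.Agent.PrinParts.Basic

set_option autoImplicit false
universe u
open scoped TensorProduct
open PP16

namespace Groth.Agent.S3811

theorem pow_le_ker {R S : Type*} [CommRing R] [CommRing S] (d : R →+* S) (J : Ideal S) (K : Ideal R)
    (N : Ideal S) (m : ℕ) (hN : N ^ m = ⊥) (h : ∀ k ∈ K, d k ∈ N ⊔ J) :
    K ^ m ≤ RingHom.ker ((Ideal.Quotient.mk J).comp d) := by
  have h1 : K.map ((Ideal.Quotient.mk J).comp d) ≤ N.map (Ideal.Quotient.mk J) := by
    refine Ideal.map_le_iff_le_comap.2 fun k hk => ?_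
    have := Ideal.mem_map_of_mem (Ideal.Quotient.mk J) (h k hk)
    rwa [Ideal.map_sup, Ideal.map_quotient_self, sup_bot_eq] at this
  intro b hb
  have h2 := Ideal.pow_right_mono (n := m) h1
  rw [← Ideal.map_pow, ← Ideal.map_pow, hN, Ideal.map_bot] at h2
  exact (Ideal.mem_bot).1 (h2 (Ideal.mem_map_of_mem _ hb))

/-- Let B be an A-algebra with an A-algebra retraction g : B → A, and K the kernel of g. The composite
of d^n : B → P^n_{B/A} with the projection P^n_{B/A} → P^n_{B/A} / K P^n_{B/A} (base change of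
P^n_{B/A} along g) is surjective with kernel K^(n+1); thus P^n_{B/A} ⊗_B A is identified with
B/K^(n+1), the class of d^n t corresponding to the class of t. -/
theorem result (n : ℕ) (A B : Type u) [CommRing A] [CommRing B] [Algebra A B]
    (g : B →ₐ[A] A) :
    Function.Surjective ((Ideal.Quotient.mk ((RingHom.ker g).map (algebraMap B (PP16.P n A B)))).comp
        (PP16.dn n A B).toRingHom) ∧
      RingHom.ker ((Ideal.Quotient.mk ((RingHom.ker g).map (algebraMap B (PP16.P n A B)))).comp
        (PP16.dn n A B).toRingHom) = RingHom.ker g ^ (n + 1) := by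
  set K := RingHom.ker g with hK
  set J := K.map (algebraMap B (PP16.P n A B)) with hJ
  set q := Ideal.Quotient.mk J with hq
  have hk : ∀ a : B, q (algebraMap B (PP16.P n A B) a) =
      q (algebraMap B (PP16.P n A B) (algebraMap A B (g a))) := fun a => by
    rw [hq, Ideal.Quotient.eq, ← map_sub]
    exact Ideal.mem_map_of_mem _ (by simp [hK, RingHom.mem_ker])
  refine ⟨fun z => ?_, le_antisymm (fun b hb => ?_) ?_⟩
  · obtain ⟨z, rfl⟩ := Ideal.Quotient.mk_surjective z
    induction z using Groth.Agent.PrinParts.induction_on n A B with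
    | mul a b =>
      refine ⟨algebraMap A B (g a) * b, ?_⟩
      change q (PP16.dn n A B _) = _
      rw [map_mul (PP16.dn n A B), AlgHom.commutes, map_mul, map_mul, hk a,
        ← IsScalarTower.algebraMap_apply A B (PP16.P n A B)]
    | add x y hx hy =>
      obtain ⟨u, hu⟩ := hx
      obtain ⟨v, hv⟩ := hy
      exact ⟨u + v, by rw [map_add, map_add, hu, hv]⟩
  · let l : B →ₐ[A] B ⧸ K ^ (n + 1) := (Algebra.ofId A _).comp g
    let r : B →ₐ[A] B ⧸ K ^ (n + 1) := Ideal.Quotient.mkₐ A _
    let N : Ideal (B ⧸ K ^ (n + 1)) := K.map (Ideal.Quotient.mk _)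
    have hN : N ^ (n + 1) = ⊥ := by rw [← Ideal.map_pow]; exact Ideal.map_quotient_self _
    have h : ∀ b, r b - l b ∈ N := fun b => by
      change Ideal.Quotient.mk _ b - algebraMap A _ (g b) ∈ N
      rw [IsScalarTower.algebraMap_apply A B (B ⧸ K ^ (n + 1)), Ideal.Quotient.algebraMap_eq, ← map_sub]
      exact Ideal.mem_map_of_mem _ (by simp [hK, RingHom.mem_ker])
    let Ψ := Groth.Agent.PrinParts.desc (n := n) l r N hN h
    have hΨ : J ≤ RingHom.ker Ψ := Ideal.map_le_iff_le_comap.2 fun k hk' => by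
      rw [Ideal.mem_comap, RingHom.mem_ker, Groth.Agent.PrinParts.desc_algebraMap]
      change algebraMap A _ (g k) = 0
      rw [show g k = 0 from hk', map_zero]
    have hb' : PP16.dn n A B b ∈ J := Ideal.Quotient.eq_zero_iff_mem.1 hb
    have := hΨ hb'
    rw [RingHom.mem_ker, Groth.Agent.PrinParts.desc_dn] at this
    exact Ideal.Quotient.eq_zero_iff_mem.1 this
  · refine pow_le_ker (PP16.dn n A B).toRingHom J K (PP16.augIdeal n A B) (n + 1)
      (Groth.Agent.PrinParts.augIdeal_pow n A B) fun k hk' => ?_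
    have h2 := Groth.Agent.PrinParts.dn_sub_mem n A B k
    have h0 : algebraMap B (PP16.P n A B) k ∈ J := Ideal.mem_map_of_mem _ hk'
    have h5 := add_mem (Ideal.mem_sup_left (T := J) h2)
      (Ideal.mem_sup_right (S := PP16.augIdeal n A B) h0)
    rwa [sub_add_cancel] at h5

end Groth.Agent.S3811
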