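import Groth.Statements.S13936
import Groth.Agent.PrinParts.Basic
import Groth.Agent.S3811

set_option autoImplicit false
universe u
open W4c1limliniiii

namespace Groth.Agent.S13936

open Groth.Agent.PrinParts PP16 in
theorem smul_augIdeal {m : ℕ} {R S : Type u} [CommRing R] [CommRing S] [Algebra R S] (I : Ideal S)
    (z : P m R S) :
    z ∈ I • (augIdeal m R S).restrictScalars S ↔
      z ∈ I.map (algebraMap S (P m R S)) ∧ z ∈ augIdeal m R S := by
  constructor
  · intro h
    refine ⟨?_, ((Submodule.smul_le (P := (augIdeal m R S).restrictScalars S)).2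
      (fun r _ x hx => Submodule.smul_mem _ r hx)) h⟩
    have h' : z ∈ I • (⊤ : Submodule S (P m R S)) := Submodule.smul_mono le_rfl le_top h
    rw [Ideal.smul_top_eq_map] at h'
    exact h'
  · rintro ⟨h1, h2⟩
    let π : P m R S →ₗ[S] P m R S :=
      LinearMap.id - (Algebra.linearMap S (P m R S)).comp (aug m R S).toLinearMap
    have hπ : π z = z := by
      change z - algebraMap S (P m R S) (aug m R S z) = z
      rw [aug_eq_zero m R S h2, map_zero, sub_zero]
    have h1' : z ∈ I • (⊤ : Submodule S (P m R S)) := by
      rw [Ideal.smul_top_eq_map]; exact h1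
    have hle : (⊤ : Submodule S (P m R S)).map π ≤ (augIdeal m R S).restrictScalars S := by
      rintro _ ⟨x, -, rfl⟩
      exact sub_aug_mem m R S x
    have := Submodule.smul_mono (le_refl I) hle (Submodule.map_smul'' I ⊤ π ▸ Submodule.mem_map_of_mem h1')
    rwa [hπ] at this

/-- Let R be a commutative ring, S_Y → S_X a homomorphism of R-algebras (an affine piece of a morphism f
: X → Y of schemes over Spec R) and σ : S_X → R an R-algebra retraction (a section of X over the
base) with kernel I. For e ≥ 1 write T^{e−1} for the augmentation ideal of the ring of principal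
parts of order e − 1 (the kernel of P^{e−1} → the algebra; for e = 2 this is the module of
differentials). Then the natural map T^{e−1}(S_Y/R) → T^{e−1}(S_X/R) takes values in I ·
T^{e−1}(S_X/R) — that is, the induced map f^*T^{e−1}_Y → T^{e−1}_X vanishes at the section σ — if
and only if every element of S_Y whose image in S_X lies in I has image in I^e, which says that the
fibre of f through σ contains the e-th order thickening of σ. (The published statement is for a
morphism of separated schemes over a base and sections over an arbitrary base change; this row is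
the affine computation it reduces to.) -/
theorem result (R SY SX : Type u)
    [CommRing R] [CommRing SY] [CommRing SX] [Algebra R SY] [Algebra R SX] [Algebra SY SX]
    [IsScalarTower R SY SX] (σ : SX →ₐ[R] R) (e : ℕ) (he : 1 ≤ e) :
    (∀ y ∈ PP16.augIdeal (e - 1) R SY,
        PP16.map (e - 1) R SY R SX y ∈
          RingHom.ker σ.toRingHom • (PP16.augIdeal (e - 1) R SX).restrictScalars SX) ↔
      (∀ b : SY, algebraMap SY SX b ∈ RingHom.ker σ.toRingHom →
        algebraMap SY SX b ∈ RingHom.ker σ.toRingHom ^ e) := by
  obtain ⟨m, rfl⟩ := Nat.exists_eq_add_of_le' he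
  change (∀ y ∈ PP16.augIdeal m R SY, PP16.map m R SY R SX y ∈
      RingHom.ker σ.toRingHom • (PP16.augIdeal m R SX).restrictScalars SX) ↔ _
  set I := RingHom.ker σ.toRingHom with hI
  have hI' : RingHom.ker σ = I := rfl
  have hker := (Groth.Agent.S3811.result m R SX σ).2
  rw [hI'] at hker
  set J := I.map (algebraMap SX (PP16.P m R SX)) with hJ
  set c : SY → R := fun b => σ (algebraMap SY SX b) with hc
  have key : ∀ b, (PP16.map m R SY R SX
      (PP16.dn m R SY b - algebraMap SY (PP16.P m R SY) b) ∈ J) ↔
      algebraMap SY SX b - algebraMap R SX (c b) ∈ I ^ (m + 1) := by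
    intro b
    rw [map_sub, PP16.map_dn, PP16.map_algebraMap]
    have h1 : algebraMap SX (PP16.P m R SX) (algebraMap SY SX b - algebraMap R SX (c b)) ∈ J :=
      Ideal.mem_map_of_mem _ (by simp [hI, hc, RingHom.mem_ker])
    rw [← hker, RingHom.mem_ker, RingHom.comp_apply, Ideal.Quotient.eq_zero_iff_mem]
    change _ ↔ PP16.dn m R SX _ ∈ J
    rw [map_sub (PP16.dn m R SX), AlgHom.commutes,
      IsScalarTower.algebraMap_apply R SX (PP16.P m R SX)]
    rw [map_sub] at h1
    constructor
    · intro h
      have := add_mem h h1
      rwa [sub_add_sub_cancel] at this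
    · intro h
      have := sub_mem h h1
      rwa [sub_sub_sub_cancel_right] at this
  constructor
  · intro h b hb
    have hb' := (key b).1 ((smul_augIdeal I _).1 (h _ (Groth.Agent.PrinParts.dn_sub_mem m R SY b))).1
    rw [show c b = 0 from hb, map_zero, sub_zero] at hb'
    exact hb'
  · intro h y hy
    have hle : PP16.augIdeal m R SY ≤
        (J ⊓ PP16.augIdeal m R SX).comap (PP16.map m R SY R SX) := by
      rw [Groth.Agent.PrinParts.augIdeal_eq_span m R SY, Ideal.span_le]
      rintro _ ⟨b, rfl⟩
      refine ⟨(key b).2 ?_, ?_⟩
      · have hb : algebraMap SY SX (b - algebraMap R SY (c b)) ∈ I := by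
          rw [map_sub, ← IsScalarTower.algebraMap_apply R SY SX]
          simp [hI, hc, RingHom.mem_ker]
        have := h _ hb
        rwa [map_sub, ← IsScalarTower.algebraMap_apply R SY SX] at this
      · change PP16.map m R SY R SX _ ∈ PP16.augIdeal m R SX
        rw [map_sub, PP16.map_dn, PP16.map_algebraMap]
        exact Groth.Agent.PrinParts.dn_sub_mem m R SX _
    exact (smul_augIdeal I _).2 ⟨(hle hy).1, (hle hy).2⟩

end Groth.Agent.S13936
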