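import Groth.Statements.S1395
import Groth.Agent.W7Strat.Model
import Groth.Agent.W7See.SubLocal
import Groth.Agent.W7See.SubLT
import Groth.Agent.W7See.Trivial
import Groth.Agent.FibCrit.Scheme
import Groth.Agent.MeroLib.Special
import Groth.Agent.W7Hull.InvNear
import Groth.Agent.W7See.Locus

set_option autoImplicit false
universe u
open FlatMor

noncomputable section
set_option maxHeartbeats 2000000

namespace Groth.Agent.S1395

open AlgebraicGeometry CategoryTheory TopologicalSpace
open Groth.Agent.QC (res resO res_res res_self res_smul app_res section_eq_of_locally)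
open TMul (IsGen tm)

section Lin

variable {A : Type u} [CommRing A] [IsDomain A] [PreValuationRing A]

lemma exists_dvd_all {ι : Type*} (s : Finset ι) (a : ι → A) {P : Ideal A} (ha : ∀ i ∈ s, a i ∈ P) :
    ∃ π ∈ P, ∀ i ∈ s, π ∣ a i := by
  classical
  induction s using Finset.induction with
  | empty => exact ⟨0, zero_mem _, by simp⟩
  | @insert j s hj ih =>
    obtain ⟨π, hπ, h⟩ := ih fun i hi => ha i (Finset.mem_insert_of_mem hi)
    rcases ValuationRing.dvd_total π (a j) with hd | hd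
    · exact ⟨π, hπ, Finset.forall_mem_insert _ _ _ |>.2 ⟨hd, h⟩⟩
    · exact ⟨a j, ha j (Finset.mem_insert_self _ _), Finset.forall_mem_insert _ _ _ |>.2
        ⟨dvd_rfl, fun i hi => hd.trans (h i hi)⟩⟩

lemma exists_notDvd_hom {Q B : Type u} [AddCommGroup Q] [Module A Q] [Module.Finite A Q] [AddCommGroup B] [Module A B]
    (hB : ∀ (a : A) (b : B), a • b = 0 → a = 0 ∨ b = 0) (φ : Q →ₗ[A] B) (hφ : φ ≠ 0) :
    ∃ ψ : Q →ₗ[A] A, ∀ π : A, ¬ IsUnit π → ∀ ψ' : Q →ₗ[A] A, ψ ≠ π • ψ' := by
  classical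
  obtain ⟨n, g, hg⟩ := Module.Finite.exists_fin (R := A) (M := Q)
  obtain ⟨q, hq⟩ : ∃ q, φ q ≠ 0 := by
    by_contra h
    exact hφ (LinearMap.ext fun q => not_not.1 fun hq => h ⟨q, hq⟩)
  let K := FractionRing A
  have h1 : (TensorProduct.mk A K Q 1 q) ≠ 0 := by
    intro h
    have : IsLocalizedModule (nonZeroDivisors A) (TensorProduct.mk A K Q 1) :=
      (isLocalizedModule_iff_isBaseChange (nonZeroDivisors A) K _).2 (TensorProduct.isBaseChange A Q K)
    obtain ⟨c, hc⟩ := (IsLocalizedModule.eq_zero_iff (nonZeroDivisors A) _).1 h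
    have h2 : (c : A) • φ q = 0 := by
      rw [← map_smul, show (c : A) • q = 0 from hc, map_zero]
    exact (hB _ _ h2).elim (nonZeroDivisors.ne_zero c.2) hq
  obtain ⟨l, hl⟩ : ∃ l : Module.Dual K (TensorProduct A K Q), l (TensorProduct.mk A K Q 1 q) ≠ 0 := by
    by_contra h
    exact h1 ((Module.forall_dual_apply_eq_zero_iff K _).1 fun l => not_not.1 fun hl => h ⟨l, hl⟩)
  let χ : Q →ₗ[A] K := (l.restrictScalars A) ∘ₗ TensorProduct.mk A K Q 1
  obtain ⟨d, hd⟩ := IsLocalization.exist_integer_multiples_of_finset (nonZeroDivisors A) (Finset.univ.image fun i => χ (g i))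
  have hrange : ∀ x : Q, ((d : A) • χ) x ∈ LinearMap.range (Algebra.linearMap A K) := by
    intro x
    have hx : x ∈ Submodule.span A (Set.range g) := hg ▸ trivial
    induction hx using Submodule.span_induction with
    | mem y hy =>
      obtain ⟨i, rfl⟩ := hy
      obtain ⟨a, ha⟩ := hd (χ (g i)) (Finset.mem_image_of_mem _ (Finset.mem_univ i))
      exact ⟨a, by simpa [Algebra.smul_def] using ha⟩
    | zero => rw [map_zero]; exact zero_mem _
    | add y z _ _ hy hz => rw [map_add]; exact add_mem hy hz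
    | smul a y _ hy => rw [map_smul]; exact Submodule.smul_mem _ _ hy
  have hinj : Function.Injective (Algebra.linearMap A K) := IsFractionRing.injective A K
  let θ : Q →ₗ[A] A := (LinearEquiv.ofInjective _ hinj).symm.toLinearMap ∘ₗ ((d : A) • χ).codRestrict _ hrange
  have hθ : ∀ x, algebraMap A K (θ x) = (d : A) • χ x := fun x =>
    congrArg Subtype.val ((LinearEquiv.ofInjective _ hinj).apply_symm_apply (((d : A) • χ).codRestrict _ hrange x))
  have hθ0 : θ q ≠ 0 := by
    intro h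
    have h2 := hθ q
    rw [h, map_zero] at h2
    rcases smul_eq_zero.1 h2.symm with h3 | h3
    · exact nonZeroDivisors.ne_zero d.2 h3
    · exact hl h3
  obtain ⟨i, hi0, hi⟩ : ∃ i, θ (g i) ≠ 0 ∧ ∀ j, θ (g i) ∣ θ (g j) := by
    have hne : ∃ i, θ (g i) ≠ 0 := by
      by_contra h
      push_neg at h
      exact hθ0 (DFunLike.congr_fun (LinearMap.ext_on_range hg (g := (0 : Q →ₗ[A] A)) h) q)
    obtain ⟨i₀, hi₀⟩ := hne
    have key : ∀ s : Finset (Fin n), ∃ i, θ (g i) ≠ 0 ∧ ∀ j ∈ s, θ (g i) ∣ θ (g j) := by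
      intro s
      induction s using Finset.induction with
      | empty => exact ⟨i₀, hi₀, by simp⟩
      | @insert j s hj ih =>
        obtain ⟨i, hi, h⟩ := ih
        rcases ValuationRing.dvd_total (θ (g i)) (θ (g j)) with hd | hd
        · exact ⟨i, hi, Finset.forall_mem_insert _ _ _ |>.2 ⟨hd, h⟩⟩
        · refine ⟨j, fun h0 => hi ?_, Finset.forall_mem_insert _ _ _ |>.2 ⟨dvd_rfl, fun k hk => hd.trans (h k hk)⟩⟩
          rw [h0, zero_dvd_iff] at hd
          exact hd
    obtain ⟨i, hi, h⟩ := key Finset.univ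
    exact ⟨i, hi, fun j => h j (Finset.mem_univ j)⟩
  have hspan : ∀ x, θ x ∈ LinearMap.range (LinearMap.mulLeft A (θ (g i))) := by
    intro x
    have hx : x ∈ Submodule.span A (Set.range g) := hg ▸ trivial
    induction hx using Submodule.span_induction with
    | mem y hy =>
      obtain ⟨j, rfl⟩ := hy
      obtain ⟨c, hc⟩ := hi j
      exact ⟨c, hc.symm⟩
    | zero => rw [map_zero]; exact zero_mem _
    | add y z _ _ hy hz => rw [map_add]; exact add_mem hy hz
    | smul a y _ hy => rw [map_smul]; exact Submodule.smul_mem _ _ hy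
  have hm : Function.Injective (LinearMap.mulLeft A (θ (g i))) := mul_right_injective₀ hi0
  let ψ : Q →ₗ[A] A := (LinearEquiv.ofInjective _ hm).symm.toLinearMap ∘ₗ θ.codRestrict _ hspan
  have hψ : ∀ x, θ (g i) * ψ x = θ x := fun x =>
    congrArg Subtype.val ((LinearEquiv.ofInjective _ hm).apply_symm_apply (θ.codRestrict _ hspan x))
  refine ⟨ψ, fun π hπ ψ' h => hπ (IsUnit.of_mul_eq_one (ψ' (g i)) ?_)⟩
  have h2 : ψ (g i) = π * ψ' (g i) := DFunLike.congr_fun h (g i)
  rw [← h2]
  exact mul_left_cancel₀ hi0 ((hψ (g i)).trans (mul_one _).symm)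

end Lin

variable {A : Type u} [CommRing A] [IsDomain A] [ValuationRing A] {X : Scheme.{u}}
  (f : X ⟶ Spec (CommRingCat.of A))

/-- The global functions of the base. -/
abbrev Rg (A : Type u) [CommRing A] : Type u := Γ(Spec (CommRingCat.of A), ⊤)

/-- The constants on an open of `X`. -/
def cst (O : X.Opens) : (Rg A) →+* Γ(X, O) := (f.appLE ⊤ O le_top).hom

lemma resO_cst {O O' : X.Opens} (h : O' ≤ O) (a : (Rg A)) : resO X h (cst f O a) = cst f O' a :=
  congr($(f.appLE_map (le_top : O ≤ f ⁻¹ᵁ ⊤) (homOfLE h).op) a)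

lemma exists_instances : IsDomain (Rg A) ∧ PreValuationRing (Rg A) := by
  let e := (Scheme.ΓSpecIso (CommRingCat.of A)).commRingCatIsoToRingEquiv
  exact ⟨MulEquiv.isDomain A e.toMulEquiv,
    Function.Surjective.preValuationRing (R := A) (e.symm.toMulEquiv.toMulHom) e.symm.surjective⟩

lemma isUnit_of_mem_closedPoint {a : (Rg A)}
    (ha : IsLocalRing.closedPoint A ∈ (Spec (CommRingCat.of A)).basicOpen a) : IsUnit a := by
  have h : (Spec (CommRingCat.of A)).basicOpen a = ⊤ := eq_top_iff.2 fun p _ =>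
    (IsLocalRing.specializes_closedPoint p).mem_open ((Spec (CommRingCat.of A)).basicOpen a).2 ha
  exact RingedSpace.isUnit_of_isUnit_germ _ _ _ fun p _ =>
    ((Spec (CommRingCat.of A)).mem_basicOpen a p trivial).1 (by rw [h]; trivial)

/-- A function vanishing on the closed fibre is locally a multiple of a non-unit constant. -/
lemma exists_local_mul {V : X.Opens} (a : Γ(X, V)) {x : X} (hx : x ∈ V) (hA : IsAffineOpen V)
    (h : (f.fiberι (IsLocalRing.closedPoint A)).app V a = 0) :
    ∃ (O : X.Opens) (hO : O ≤ V) (π : (Rg A)) (b : Γ(X, O)), x ∈ O ∧ ¬ IsUnit π ∧ resO X hO a = cst f O π * b := by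
  let S := Spec (CommRingCat.of A)
  let c : S := IsLocalRing.closedPoint A
  by_cases hfx : f x = c
  · obtain ⟨y, hy⟩ : x ∈ Set.range (f.fiberι c) := by rw [Scheme.Hom.range_fiberι]; exact hfx
    subst hy
    let ι := f.fiberι c
    obtain ⟨-, hker⟩ := FibCrit.fiberι_stalkMap f c y
    have h1 : X.presheaf.germ V (ι y) hx a ∈ RingHom.ker (ι.stalkMap y).hom := by
      rw [RingHom.mem_ker]
      have := ConcreteCategory.congr_hom (Scheme.Hom.germ_stalkMap ι V y hx) a
      refine this.trans ?_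
      refine (congrArg _ (show (ι.app V).hom a = 0 from h)).trans ?_
      exact RingHom.map_zero _
    rw [hker] at h1
    let T : Ideal (S.presheaf.stalk (f (ι y))) := IsLocalRing.maximalIdeal _
    obtain ⟨hD, hV⟩ := exists_instances (A := A)
    haveI := hD
    haveI := hV
    letI : Algebra (Rg A) (S.presheaf.stalk (f (ι y))) := (S.presheaf.germ ⊤ (f (ι y)) trivial).hom.toAlgebra
    haveI := (isAffineOpen_top S).isLocalization_stalk ⟨f (ι y), trivial⟩
    let g : (Rg A) →+* X.presheaf.stalk (ι y) :=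
      (f.stalkMap (ι y)).hom.comp (S.presheaf.germ ⊤ (f (ι y)) trivial).hom
    have key : ∀ z ∈ T.map (f.stalkMap (ι y)).hom, ∃ π : (Rg A), ¬ IsUnit π ∧ ∃ r, z = g π * r := by
      intro z hz
      induction hz using Submodule.span_induction with
      | mem z hz =>
        obtain ⟨w, hw, rfl⟩ := hz
        obtain ⟨⟨π, d⟩, hπd⟩ := IsLocalization.surj ((isAffineOpen_top S).primeIdealOf ⟨f (ι y), trivial⟩).asIdeal.primeCompl w
        have hd : IsUnit (algebraMap (Rg A) (S.presheaf.stalk (f (ι y))) d) := IsLocalization.map_units _ d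
        refine ⟨π, fun hu => ?_, (f.stalkMap (ι y)).hom (hd.unit⁻¹ : (S.presheaf.stalk (f (ι y)))ˣ), ?_⟩
        · exact hw (isUnit_of_mul_isUnit_left (hπd ▸ hu.map (algebraMap (Rg A) (S.presheaf.stalk (f (ι y))))))
        · change _ = (f.stalkMap (ι y)).hom (algebraMap (Rg A) (S.presheaf.stalk (f (ι y))) π) * _
          rw [← map_mul, ← hπd, mul_assoc, IsUnit.mul_val_inv, mul_one]
      | zero => exact ⟨0, not_isUnit_zero, 0, by simp⟩
      | add z w _ _ hz hw =>
        obtain ⟨π, hπ, r, rfl⟩ := hz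
        obtain ⟨π', hπ', r', rfl⟩ := hw
        rcases ValuationRing.dvd_total π π' with ⟨e, rfl⟩ | ⟨e, rfl⟩
        · exact ⟨π, hπ, r + g e * r', by rw [map_mul]; ring⟩
        · exact ⟨π', hπ', g e * r + r', by rw [map_mul]; ring⟩
      | smul q z _ hz =>
        obtain ⟨π, hπ, r, rfl⟩ := hz
        exact ⟨π, hπ, q * r, by rw [smul_eq_mul]; ring⟩
    obtain ⟨π, hπ, r, hr⟩ := key _ h1
    obtain ⟨W, hxW, b, rfl⟩ := TopCat.Presheaf.exists_germ_eq X.presheaf r
    let W' := V ⊓ W
    have hgπ : g π = X.presheaf.germ W' (ι y) ⟨hx, hxW⟩ (cst f W' π) := by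
      have h1 := ConcreteCategory.congr_hom (Scheme.Hom.germ_stalkMap f ⊤ (ι y) trivial) π
      refine h1.trans ?_
      change X.presheaf.germ (f ⁻¹ᵁ ⊤) (ι y) trivial (f.app ⊤ π) = _
      exact (X.presheaf.germ_res_apply (homOfLE (le_top : W' ≤ f ⁻¹ᵁ ⊤)) (ι y) ⟨hx, hxW⟩ _).symm
    have hW' : ι y ∈ W' := ⟨hx, hxW⟩
    rw [hgπ, ← X.presheaf.germ_res_apply (homOfLE (inf_le_left : W' ≤ V)) (ι y) hW',
      ← X.presheaf.germ_res_apply (homOfLE (inf_le_right : W' ≤ W)) (ι y) hW', ← map_mul] at hr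
    obtain ⟨O, hxO, iV, iW, hO⟩ := X.presheaf.germ_eq (ι y) hW' hW' _ _ hr
    refine ⟨O, (leOfHom iV).trans inf_le_left, π, resO X ((leOfHom iV).trans inf_le_right) b, hxO, hπ, ?_⟩
    rw [map_mul] at hO
    have e1 : ∀ {U U' U'' : X.Opens} (h : U' ≤ U) (h' : U'' ≤ U') (s : Γ(X, U)),
        resO X h' (resO X h s) = resO X (h'.trans h) s := fun h h' s =>
      (ConcreteCategory.congr_hom (X.presheaf.map_comp _ _) s).symm
    rw [Subsingleton.elim iV (homOfLE (leOfHom iV)), Subsingleton.elim iW (homOfLE (leOfHom iV))] at hO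
    change resO X (leOfHom iV) (resO X inf_le_left a) =
      resO X (leOfHom iV) (cst f W' π) * resO X (leOfHom iV) (resO X inf_le_right b) at hO
    rw [e1, e1, resO_cst] at hO
    exact hO
  · -- a constant non-unit is invertible at `x`
    obtain ⟨_, ⟨p, rfl⟩, hp, hpc⟩ := PrimeSpectrum.isTopologicalBasis_basic_opens.exists_subset_of_mem_open
      (a := f x) (u := ({c} : Set S)ᶜ) hfx (IsLocalRing.isClosed_singleton_closedPoint A).isOpen_compl
    let π : (Rg A) := (Scheme.ΓSpecIso (CommRingCat.of A)).inv p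
    have hπb : S.basicOpen π = PrimeSpectrum.basicOpen p := basicOpen_eq_of_affine p
    let O := V ⊓ f ⁻¹ᵁ S.basicOpen π
    have hu : IsUnit (cst f O π) := by
      refine RingedSpace.isUnit_of_isUnit_germ _ _ _ fun z hz => ?_
      have hm : z ∈ X.basicOpen (f.app ⊤ π) := by rw [← Scheme.preimage_basicOpen]; exact hz.2
      have := (X.mem_basicOpen (f.app ⊤ π) z (show z ∈ f ⁻¹ᵁ ⊤ from trivial)).1 hm
      exact (congrArg IsUnit (X.presheaf.germ_res_apply (homOfLE (le_top : O ≤ f ⁻¹ᵁ ⊤)) z hz _)).mpr this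
    refine ⟨O, inf_le_left, π, (↑hu.unit⁻¹ : Γ(X, O)) * resO X (inf_le_left : O ≤ V) a, ⟨hx, by
      change f x ∈ S.basicOpen π; rw [hπb]; exact hp⟩, fun h => ?_, ?_⟩
    · have hc : c ∈ S.basicOpen π := by rw [S.basicOpen_of_isUnit h]; trivial
      rw [hπb] at hc
      exact hpc hc rfl
    · rw [← mul_assoc, IsUnit.mul_val_inv, one_mul]

/-- Non-zero constants are not zero divisors. -/
lemma eq_zero_of_cst_smul [Flat f] {N : X.Modules} (hN : PicF.IsInvertible N) {O : X.Opens} {π : (Rg A)} (hπ : π ≠ 0)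
    {t : Γ(N, O)} (h : cst f O π • t = 0) : t = 0 := by
  refine section_eq_of_locally fun x hx => ?_
  obtain ⟨V, e, hxV, he⟩ := TMul.exists_isGen hN x
  obtain ⟨W, hW, hxW, hWle⟩ := exists_isAffineOpen_mem_and_subset (X := X) (x := x) (U := V ⊓ O) ⟨hxV, hx⟩
  refine ⟨W, fun z hz => (hWle hz).2, hxW, ?_⟩
  have he' := he.res (fun z hz => (hWle hz).1 : W ≤ V)
  obtain ⟨a, ha⟩ := (he' W le_rfl).2 (res N (fun z hz => (hWle hz).2 : W ≤ O) t)
  change a • res N le_rfl _ = _ at ha
  rw [res_self] at ha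
  have h1 : cst f W π * a = 0 := (he' W le_rfl).1 (a₂ := 0) (by
    change _ • res N le_rfl _ = (0 : Γ(X, W)) • res N le_rfl _
    rw [res_self, zero_smul, mul_smul, ha, ← resO_cst f (fun z hz => (hWle hz).2 : W ≤ O), ← res_smul, h, map_zero])
  have hfl := Flat.flat_appLE f (isAffineOpen_top _) hW (le_top : W ≤ f ⁻¹ᵁ ⊤)
  letI : Algebra (Rg A) Γ(X, W) := (cst f W).toAlgebra
  haveI : Module.Flat (Rg A) Γ(X, W) := hfl
  haveI := (exists_instances (A := A)).1
  have h2 : IsSMulRegular Γ(X, W) π := Module.Flat.isSMulRegular_of_isRegular (IsRegular.of_ne_zero hπ)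
  have h3 : a = 0 := h2 (show π • a = π • 0 by rw [smul_zero, Algebra.smul_def]; exact h1)
  rw [map_zero, ← ha, h3, zero_smul]

/-- A section with no unit coefficient at the generic point of the closed fibre is divisible by a non-unit constant. -/
theorem exists_div [CompactSpace X] [Flat f] [IsIntegral (f.fiber (IsLocalRing.closedPoint A))] {N : X.Modules}
    (hN : PicF.IsInvertible N) (s : Γ(N, ⊤))
    (h : ∀ (V : X.Opens) (e : Γ(N, V)) (a : Γ(X, V)), IsGen e → res N le_top s = a • e →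
      f.fiberι (IsLocalRing.closedPoint A) (genericPoint _) ∉ X.basicOpen a) :
    ∃ (π : (Rg A)) (t : Γ(N, ⊤)), ¬ IsUnit π ∧ s = cst f ⊤ π • t := by
  classical
  obtain ⟨hD, hV⟩ := exists_instances (A := A)
  haveI := hD
  haveI := hV
  let ι := f.fiberι (IsLocalRing.closedPoint A)
  have hloc : ∀ x : X, ∃ (O : X.Opens) (π : (Rg A)) (t : Γ(N, O)), x ∈ O ∧ ¬ IsUnit π ∧
      res N le_top s = cst f O π • t := by
    intro x
    obtain ⟨V₀, e, hxV₀, he⟩ := TMul.exists_isGen hN x
    obtain ⟨V, hVa, hxV, hle⟩ := exists_isAffineOpen_mem_and_subset (X := X) (x := x) (U := V₀) hxV₀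
    obtain ⟨a, ha⟩ := ((he.res (show V ≤ V₀ from hle)) V le_rfl).2 (res N (le_top : V ≤ ⊤) s)
    change a • res N le_rfl _ = _ at ha
    rw [res_self] at ha
    have hb : (f.fiber _).basicOpen (ι.app V a) = ⊥ := by
      refine eq_bot_iff.2 fun z hz => ?_
      refine h V _ a (he.res (show V ≤ V₀ from hle)) ha.symm ?_
      rw [← Scheme.preimage_basicOpen] at hz
      exact ((genericPoint_spec _).specializes trivial).mem_open (ι ⁻¹ᵁ X.basicOpen a).2 hz
    obtain ⟨O, hO, π, b, hxO, hπ, heq⟩ := exists_local_mul f a hxV hVa ((basicOpen_eq_bot_iff _).1 hb)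
    refine ⟨O, π, b • res N (hO.trans (show V ≤ V₀ from hle)) e, hxO, hπ, ?_⟩
    have h2 := congrArg (res N hO) ha
    rw [res_smul, res_res, res_res, heq, mul_smul] at h2
    exact h2.symm
  choose O π t hxO hπ ht using hloc
  obtain ⟨F, hF⟩ := isCompact_univ.elim_finite_subcover (fun x => (O x : Set X)) (fun x => (O x).2)
    fun x _ => Set.mem_iUnion.2 ⟨x, hxO x⟩
  haveI : IsLocalRing (Rg A) := (Scheme.ΓSpecIso (CommRingCat.of A)).commRingCatIsoToRingEquiv.symm.isLocalRing
  obtain ⟨p, hp, hdvd⟩ := exists_dvd_all F π (P := IsLocalRing.maximalIdeal (Rg A)) fun i _ => hπ i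
  by_cases hp0 : p = 0
  · refine ⟨0, 0, not_isUnit_zero, ?_⟩
    rw [smul_zero]
    refine section_eq_of_locally fun x _ => ?_
    obtain ⟨i, hi, hxi⟩ := Set.mem_iUnion₂.1 (hF (Set.mem_univ x))
    refine ⟨O i, le_top, hxi, ?_⟩
    obtain ⟨c, hc⟩ := hdvd i hi
    rw [map_zero, ht i, hc, hp0, zero_mul, map_zero, zero_smul]
  choose c hc using fun i : F => hdvd i.1 i.2
  let sf : ∀ i : F, Γ(N, O i.1) := fun i => cst f (O i.1) (c i) • t i.1
  have hsf : ∀ i : F, cst f (O i.1) p • sf i = res N le_top s := fun i => by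
    simp only [sf]
    rw [smul_smul, ← map_mul, ← hc i, ← ht i.1]
  obtain ⟨T, hT, -⟩ := TopCat.Sheaf.existsUnique_gluing' (Groth.Agent.QC.abSheaf N) (fun i : F => O i.1) ⊤
    (fun i => homOfLE le_top)
    (fun x _ => let ⟨i, hi, hxi⟩ := Set.mem_iUnion₂.1 (hF (Set.mem_univ x)); Opens.mem_iSup.mpr ⟨⟨i, hi⟩, hxi⟩)
    sf (fun i j => by
      change res N inf_le_left (sf i) = res N inf_le_right (sf j)
      refine sub_eq_zero.1 (eq_zero_of_cst_smul f hN hp0 ?_)
      rw [smul_sub, ← resO_cst f (inf_le_left : O i.1 ⊓ O j.1 ≤ O i.1), ← res_smul, hsf,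
        resO_cst f (inf_le_left : O i.1 ⊓ O j.1 ≤ O i.1), ← resO_cst f (inf_le_right : O i.1 ⊓ O j.1 ≤ O j.1),
        ← res_smul, hsf, res_res, res_res, sub_self])
  let T' : Γ(N, ⊤) := T
  refine ⟨p, T', hp, section_eq_of_locally fun x _ => ?_⟩
  obtain ⟨i, hi, hxi⟩ := Set.mem_iUnion₂.1 (hF (Set.mem_univ x))
  refine ⟨O i, le_top, hxi, ?_⟩
  rw [res_smul, resO_cst, show res N (le_top : O i ≤ ⊤) T' = sf ⟨i, hi⟩ from hT ⟨i, hi⟩]
  exact (hsf ⟨i, hi⟩).symm

/-- A bundle trivial on the generic fibre has a section not vanishing identically on the closed fibre. -/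
theorem exists_good_section [IsProper f] [Flat f] [LocallyOfFinitePresentation f]
    [IsIntegral (f.fiber (IsLocalRing.closedPoint A))] (L : X.Modules) (hL : PicF.IsInvertible L)
    (htriv : Nonempty ((Scheme.Modules.pullback (f.fiberι (genericPoint (Spec (CommRingCat.of A))))).obj L ≅
      Coh.structureModule (f.fiber (genericPoint (Spec (CommRingCat.of A))))))
    (hne : Nonempty (f.fiber (genericPoint (Spec (CommRingCat.of A))))) :
    ∃ (s : Γ((Scheme.Modules.pullback (𝟙 X)).obj L, ⊤)) (V : X.Opens)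
      (e : Γ((Scheme.Modules.pullback (𝟙 X)).obj L, V)) (a : Γ(X, V)), IsGen e ∧ res _ le_top s = a • e ∧
      f.fiberι (IsLocalRing.closedPoint A) (genericPoint _) ∈ X.basicOpen a := by
  obtain ⟨hD, hV⟩ := exists_instances (A := A)
  haveI := hD
  haveI := hV
  haveI : CompactSpace X := QuasiCompact.compactSpace_of_compactSpace f
  have hq := TMul.isQCoh_of_isInvertible hL
  obtain ⟨m⟩ := W7Cech.nonempty_ModelNN f hq (W7Hull.isFP_of_isInvertible hL)
    (W7Hull.isFlatOver_of_isInvertible f hL) (isAffineOpen_top (Spec (CommRingCat.of A)))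
  obtain ⟨Q, hQ, ⟨η⟩⟩ := W7Strat.exists_corep_model f m
  haveI := hQ
  let S := Spec (CommRingCat.of A)
  let p : S := genericPoint S
  let g := S.fromSpecResidueField p
  obtain ⟨E₁⟩ := W7See.exists_T0_sections f hq m (IsPullback.of_hasPullback f g) (V := ⊤) (isAffineOpen_top _) le_top
  obtain ⟨E₀⟩ := W7See.exists_T0_sections f hq m (IsPullback.of_id_fst (f := f)) (V := ⊤) (isAffineOpen_top S) le_top
  letI : Algebra (Rg A) Γ(Spec (S.residueField p), ⊤) := (g.appLE ⊤ ⊤ le_top).hom.toAlgebra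
  have hinj : Function.Injective (g.appLE ⊤ ⊤ le_top).hom := by
    intro a b hab
    have h2 : S.evaluation ⊤ p trivial (a - b) = 0 := by
      rw [← W7Cech.appLE_fromSpecResidueField (isAffineOpen_top S) p trivial le_top]
      refine (congrArg _ ((map_sub _ a b).trans (sub_eq_zero.2 hab))).trans ?_
      exact RingHom.map_zero _
    have h3 : p ∉ S.basicOpen (a - b) := fun hm => (Scheme.evaluation_ne_zero_iff_mem_basicOpen _ _ _ _).2 hm h2
    refine sub_eq_zero.1 ((basicOpen_eq_bot_iff _).1 (eq_bot_iff.2 fun z hz => h3 ?_))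
    exact ((genericPoint_spec S).specializes trivial).mem_open (S.basicOpen _).2 hz
  obtain ⟨σ, hσ⟩ := W7See.exists_ne_zero_of_iso htriv.some
  have hφ : (η.hom.app _).hom (E₁.symm σ) ≠ 0 := by
    intro h
    have h2 : (η.app (ModuleCat.of (Rg A) Γ(Spec (S.residueField p), ⊤))).toLinearEquiv (E₁.symm σ) = 0 := h
    exact hσ (E₁.symm.map_eq_zero_iff.1 ((η.app _).toLinearEquiv.map_eq_zero_iff.1 h2))
  obtain ⟨ψ, hψ⟩ := exists_notDvd_hom (B := Γ(Spec (S.residueField p), ⊤)) (fun a b hab => by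
    rw [Algebra.smul_def] at hab
    exact (mul_eq_zero.1 hab).imp_left fun h => hinj (h.trans (map_zero _).symm))
    ((η.hom.app _).hom (E₁.symm σ)).hom fun h => hφ (ModuleCat.hom_ext h)
  letI : Algebra (Rg A) (Rg A) := ((𝟙 S : S ⟶ S).appLE ⊤ ⊤ le_top).hom.toAlgebra
  let E := (η.app (ModuleCat.of (Rg A) (Rg A))).toLinearEquiv
  let s : Γ((Scheme.Modules.pullback (𝟙 X)).obj L, ⊤) := E₀ (E.symm (ModuleCat.ofHom ψ))
  by_contra hcon
  obtain ⟨π, t, hπ, hst⟩ := exists_div f (PicLoc.isInvertible_pullback (𝟙 X) hL) s fun V e a he hse hm =>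
    hcon ⟨s, V, e, a, he, hse, hm⟩
  refine hψ π hπ (E (E₀.symm t)).hom ?_
  have h2 : E.symm (ModuleCat.ofHom ψ) = π • E₀.symm t := by
    apply E₀.injective
    rw [map_smul]
    erw [LinearEquiv.apply_symm_apply]
    refine hst.trans ?_
    rfl
  have h3 := congrArg E h2
  exact congrArg ModuleCat.Hom.hom ((E.apply_symm_apply _).symm.trans (h3.trans (E.map_smul π _)))

/-- Over a valuation ring, trivial on the generic fibre and integral closed fibre: trivial. -/
theorem nonempty_iso_unit [IsProper f] [Flat f] [LocallyOfFinitePresentation f]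
    [IsIntegral (f.fiber (IsLocalRing.closedPoint A))] (L : X.Modules) (hL : PicF.IsInvertible L)
    (htriv : Nonempty ((Scheme.Modules.pullback (f.fiberι (genericPoint (Spec (CommRingCat.of A))))).obj L ≅
      Coh.structureModule (f.fiber (genericPoint (Spec (CommRingCat.of A))))))
    (hne : Nonempty (f.fiber (genericPoint (Spec (CommRingCat.of A))))) :
    Nonempty (L ≅ Coh.structureModule X) := by
  obtain ⟨L', hL', ⟨ε⟩⟩ := W7Hull.exists_tensor_inverse hL
  let η := genericPoint (Spec (CommRingCat.of A))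
  let c : ↥(Spec (CommRingCat.of A)) := IsLocalRing.closedPoint A
  have htriv' : Nonempty ((Scheme.Modules.pullback (f.fiberι η)).obj L' ≅ Coh.structureModule (f.fiber η)) := by
    obtain ⟨i⟩ := htriv
    obtain ⟨a⟩ := TMul.nonempty_pullTensorIso (f.fiberι η) L L'
    exact ⟨(TMul.leftUnitIso _).symm ≪≫ PicGrp.tensorModIso i.symm (Iso.refl _) ≪≫ a ≪≫
      (Scheme.Modules.pullback (f.fiberι η)).mapIso ε ≪≫ PicLoc.pullbackStructureIso _⟩
  obtain ⟨s, V, e, a, he, hsa, ha⟩ := exists_good_section f L hL htriv hne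
  obtain ⟨s', V', e', a', he', hsa', ha'⟩ := exists_good_section f L' hL' htriv' hne
  let N := (Scheme.Modules.pullback (𝟙 X)).obj L
  let N' := (Scheme.Modules.pullback (𝟙 X)).obj L'
  let i : CohB1.tensorMod N N' ≅ Coh.structureModule X :=
    (TMul.nonempty_pullTensorIso (𝟙 X) L L').some ≪≫ (Scheme.Modules.pullbackId X).app _ ≪≫ ε
  let u : Γ(X, ⊤) := i.hom.app ⊤ (tm s s')
  have hu : ∀ (W : X.Opens) (b b' : Γ(X, W)) (d : Γ(N, W)) (d' : Γ(N', W)), IsGen d → IsGen d' →
      res N le_top s = b • d → res N' le_top s' = b' • d' →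
      IsUnit (show Γ(X, W) from i.hom.app W (tm d d')) ∧
      resO X (le_top : W ≤ ⊤) u = b * b' * (show Γ(X, W) from i.hom.app W (tm d d')) := by
    intro W b b' d d' hd hd' hb hb'
    constructor
    · obtain ⟨w, hw⟩ := ((W7See.isGen_app i (TMul.isGen_tm hd hd')) W le_rfl).2 (1 : Γ(X, W))
      change w • res (Coh.structureModule X) le_rfl _ = _ at hw
      rw [res_self] at hw
      exact IsUnit.of_mul_eq_one_right w hw
    · have h1 : res (Coh.structureModule X) (le_top : W ≤ ⊤) (i.hom.app ⊤ (tm s s')) =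
          i.hom.app W ((b * b') • tm d d') := by
        rw [app_res i.hom, TMul.res_tm, hb, hb', TMul.smul_tm, TMul.tm_smul, smul_smul]
      rw [Scheme.Modules.Hom.app_smul] at h1
      exact h1
  have hξu : f.fiberι c (genericPoint _) ∈ X.basicOpen u := by
    let x := f.fiberι c (genericPoint (f.fiber c))
    have hxV : x ∈ V ⊓ V' := ⟨X.basicOpen_le a ha, X.basicOpen_le a' ha'⟩
    obtain ⟨hc, he2⟩ := hu (V ⊓ V') (resO X inf_le_left a) (resO X inf_le_right a') _ _ (he.res inf_le_left) (he'.res inf_le_right)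
      (by rw [← res_smul, ← hsa, res_res]) (by rw [← res_smul, ← hsa', res_res])
    rw [Scheme.mem_basicOpen _ _ _ (show x ∈ (⊤ : X.Opens) from trivial),
      ← X.presheaf.germ_res_apply (homOfLE (le_top : V ⊓ V' ≤ ⊤)) x hxV]
    change IsUnit (X.presheaf.germ _ x hxV (resO X le_top u))
    rw [he2, map_mul, map_mul]
    refine (IsUnit.mul ?_ ?_).mul (hc.map _)
    · exact (X.presheaf.germ_res_apply (homOfLE (inf_le_left : V ⊓ V' ≤ V)) x hxV a).symm ▸ (X.mem_basicOpen a x hxV.1).1 ha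
    · exact (X.presheaf.germ_res_apply (homOfLE (inf_le_right : V ⊓ V' ≤ V')) x hxV a').symm ▸ (X.mem_basicOpen a' x hxV.2).1 ha'
  have huu : IsUnit u := by
    let ι := f.fiberι c
    let q := f.fiberToSpecResidueField c
    haveI : IsProper q := MorphismProperty.of_isPullback (P := @IsProper) (IsPullback.of_hasPullback f _) inferInstance
    have hF : IsField Γ(f.fiber c, ⊤) :=
      isField_of_universallyClosed (K := (Spec (CommRingCat.of A)).residueField c) q
    have hne0 : (ι.app ⊤ u : Γ(f.fiber c, ⊤)) ≠ 0 := by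
      intro h0
      have h2 : genericPoint _ ∈ ι ⁻¹ᵁ X.basicOpen u := hξu
      rw [Scheme.preimage_basicOpen, h0, Scheme.basicOpen_zero] at h2
      exact h2
    have htop : ι ⁻¹ᵁ X.basicOpen u = ⊤ := by
      rw [Scheme.preimage_basicOpen]
      obtain ⟨b, hb⟩ := hF.mul_inv_cancel (a := (ι.app ⊤ u : Γ(f.fiber c, ⊤))) hne0
      exact (f.fiber c).basicOpen_of_isUnit (IsUnit.of_mul_eq_one b hb)
    haveI : CompactSpace X := QuasiCompact.compactSpace_of_compactSpace f
    refine RingedSpace.isUnit_of_isUnit_germ _ _ _ fun x _ => ?_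
    refine (X.mem_basicOpen u x trivial).1 ?_
    obtain ⟨z, hxz, hz⟩ := (isClosed_closure (s := ({x} : Set X))).exists_closed_singleton
      (S := closure ({x} : Set X)) ⟨x, subset_closure rfl⟩
    have hfz : f z = c := by
      have h2 : IsClosed (f.base '' {z}) := f.isClosedMap _ hz
      rw [Set.image_singleton] at h2
      exact PrimeSpectrum.ext (IsLocalRing.eq_maximalIdeal ((PrimeSpectrum.isClosed_singleton_iff_isMaximal _).1 h2))
    obtain ⟨w, hw⟩ : z ∈ Set.range ι := by rw [Scheme.Hom.range_fiberι]; exact hfz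
    have hzu : z ∈ X.basicOpen u := by
      rw [← hw]
      exact (show w ∈ ι ⁻¹ᵁ X.basicOpen u by rw [htop]; trivial)
    exact (specializes_iff_mem_closure.2 hxz).mem_open (X.basicOpen u).2 hzu
  have hgen : IsGen s := by
    refine MeroLib.isGen_of_locally s fun x _ => ?_
    obtain ⟨W₁, d, hx₁, hd⟩ := TMul.exists_isGen (PicLoc.isInvertible_pullback (𝟙 X) hL) x
    obtain ⟨W₂, d', hx₂, hd'⟩ := TMul.exists_isGen (PicLoc.isInvertible_pullback (𝟙 X) hL') x
    let W := W₁ ⊓ W₂
    obtain ⟨b, hb⟩ := ((hd.res (inf_le_left : W ≤ W₁)) W le_rfl).2 (res N (le_top : W ≤ ⊤) s)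
    obtain ⟨b', hb'⟩ := ((hd'.res (inf_le_right : W ≤ W₂)) W le_rfl).2 (res N' (le_top : W ≤ ⊤) s')
    change b • res N le_rfl _ = _ at hb
    change b' • res N' le_rfl _ = _ at hb'
    rw [res_self] at hb hb'
    obtain ⟨-, h2⟩ := hu W b b' _ _ (hd.res inf_le_left) (hd'.res inf_le_right) hb.symm hb'.symm
    refine ⟨W, le_top, ⟨hx₁, hx₂⟩, ?_⟩
    rw [← hb]
    refine W7Hull.isGen_smul (hd.res inf_le_left)
      (isUnit_of_mul_isUnit_left (y := b' * (show Γ(X, W) from i.hom.app W (tm (res N (inf_le_left : W ≤ W₁) d) (res N' (inf_le_right : W ≤ W₂) d')))) ?_)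
    rw [← mul_assoc, ← h2]
    exact huu.map _
  obtain ⟨j⟩ := InvGen.nonempty_iso (𝟙 X) N (U := ⊤) le_top s hgen
  exact ⟨((Scheme.Modules.pullbackId X).app L).symm ≪≫ (Scheme.Modules.restrictFunctorId.app N).symm ≪≫ j⟩


open AlgebraicGeometry CategoryTheory Limits in
/-- Over a valuation ring A consider a proper, flat morphism of finite presentation f : X → Spec A and
an invertible O_X-module L. If L is trivial on the generic fibre, the closed fibre is integral, and
the global functions of the generic fibre are just the fraction field (the residue field of the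
generic point), then L is trivial. -/
theorem result {A : Type u} [CommRing A] [IsDomain A] [ValuationRing A] {X : Scheme.{u}}
    (f : X ⟶ Spec (CommRingCat.of A)) [IsProper f] [Flat f] [LocallyOfFinitePresentation f] (L : X.Modules) (hL : PicF.IsInvertible L)
    (htriv : Nonempty ((Scheme.Modules.pullback (f.fiberι (genericPoint ↑(Spec (CommRingCat.of A))))).obj L ≅
      Coh.structureModule (f.fiber (genericPoint ↑(Spec (CommRingCat.of A))))))
    (hint : IsIntegral (f.fiber (IsLocalRing.closedPoint A)))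
    (h0 : Function.Bijective ((f.fiberToSpecResidueField (genericPoint ↑(Spec (CommRingCat.of A)))).appTop)) :
    Nonempty (L ≅ Coh.structureModule X) := by
  haveI := hint
  refine nonempty_iso_unit f L hL htriv ?_
  by_contra h
  rw [not_nonempty_iff] at h
  haveI : Nontrivial Γ(f.fiber (genericPoint ↑(Spec (CommRingCat.of A))), ⊤) := h0.1.nontrivial
  exact not_subsingleton Γ(f.fiber (genericPoint ↑(Spec (CommRingCat.of A))), ⊤) inferInstance

end Groth.Agent.S1395
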