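import Groth.Statements.S13951
import Groth.Agent.InfTorsor.Basic
import Groth.Agent.SpQS.FieldImm
import Groth.Prelude.Def_ActBC

set_option autoImplicit false
universe u
open TateLoc

namespace Groth.Agent.S13951

open CategoryTheory AlgebraicGeometry CategoryTheory.Limits MonoidalCategory in
set_option backward.isDefEq.respectTransparency false in
theorem eq_of_isReduced {S : Scheme.{u}} (I : Over S) [GrpObj I] [IsFinite I.hom]
    (hconn : ∀ s : S, ConnectedSpace ↥(I.hom.fiber s)) {U : Over S} [IsReduced U.left] (g₁ g₂ : U ⟶ I) :
    g₁ = g₂ := by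
  refine Over.OverMorphism.ext (ext_of_fromSpecResidueField_eq _ _ I.hom Set.univ dense_univ (fun z _ => ?_)
    ((Over.w g₁).trans (Over.w g₂).symm))
  let f := S.fromSpecResidueField (U.hom z)
  let J := (Over.pullback f).obj I
  letI : GrpObj J := Functor.grpObjObj
  haveI : IsFinite J.hom := inferInstanceAs (IsFinite (pullback.snd I.hom f))
  haveI : Subsingleton ↥(J.left) := by
    haveI : ConnectedSpace ↥(pullback I.hom f) := hconn (U.hom z)
    haveI : IsFinite (pullback.snd I.hom f) := inferInstance
    haveI : DiscreteTopology ↥(I.hom.fiber (U.hom z)) := inferInstance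
    haveI : DiscreteTopology ↥(pullback I.hom f) := this
    exact PreconnectedSpace.trivial_of_discrete (X := ↥(pullback I.hom f))
  let r := Spec.map (U.hom.residueFieldMap z)
  let lf : ∀ g : U ⟶ I, Over.mk r ⟶ J := fun g =>
    Over.homMk (pullback.lift (U.left.fromSpecResidueField z ≫ g.left) r (by
      rw [Category.assoc, Over.w g]; exact (Scheme.Hom.SpecMap_residueFieldMap_fromSpecResidueField U.hom z).symm))
      (pullback.lift_snd _ _ _)
  have h := congrArg (fun q => CommaMorphism.left q ≫ pullback.fst I.hom f)
    (Groth.Agent.InfTorsor.points_unique J r (lf g₁) (lf g₂))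
  exact (pullback.lift_fst _ _ _).symm.trans (h.trans (pullback.lift_fst _ _ _))

open CategoryTheory AlgebraicGeometry CategoryTheory.Limits in
/-- Let S be a reduced scheme and I a finite locally free commutative S-group scheme (finite, flat, of
finite presentation) whose fibres over all points of S are connected. Then the restriction of the
sheaf of points of I from the big fppf site of S to the small etale site of S is the zero sheaf. -/
theorem result (S : Scheme.{u}) [IsReduced S]
    (I : Over S) [GrpObj I] [IsCommMonObj I] [IsFinite I.hom] [Flat I.hom] [LocallyOfFinitePresentation I.hom]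
    (hconn : ∀ s : S, ConnectedSpace ↥(I.hom.fiber s)) :
    IsZero ((BigSite.resEt Scheme.fppfPrecoverage S).obj (CGrpSh.pts Scheme.fppfPrecoverage I)) := by
  refine (IsZero.iff_id_eq_zero _).2 ?_
  refine Sheaf.hom_ext (NatTrans.ext (funext fun U => ?_))
  ext x
  change x = (0 : _)
  refine ULift.ext _ _ ?_
  refine Additive.toMul.injective ?_
  haveI : IsReduced ((EtFppf.a S).obj U.unop).left :=
    @SpQS.isReduced_of_etale_reduced _ _ ((EtFppf.a S).obj U.unop).hom U.unop.prop inferInstance
  haveI : IsReduced (Opposite.unop ((EtFppf.a S).op.obj U)).left := ‹IsReduced ((EtFppf.a S).obj U.unop).left›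
  exact eq_of_isReduced I hconn _ _

end Groth.Agent.S13951
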