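import Groth.Statements.S13953
import Mathlib.RingTheory.Spectrum.Prime.Topology
-- import your own Groth.Agent.* helpers here

set_option autoImplicit false
universe u
open TateLoc

namespace Groth.Agent.S13953

/-- Let (R_i) be a family of local commutative rings and R = ∏ R_i. Any open cover of Spec R can be
refined by one coming from a finite partition of the index set: there is a map c from the index set
to a finite set such that, for each value m, the basic open subset of Spec R defined by the
idempotent which is 1 at the indices with c i = m and 0 elsewhere (this open is the spectrum of the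
product of the R_i over that class) is contained in some member of the cover. -/
theorem result {ι : Type u} (R : ι → Type u)
    [∀ i, CommRing (R i)] [∀ i, IsLocalRing (R i)] {J : Type u}
    (U : J → TopologicalSpace.Opens (PrimeSpectrum (∀ i, R i))) (hU : ⨆ j, U j = ⊤) :
    ∃ (n : ℕ) (c : ι → Fin n), ∀ m : Fin n, ∃ j : J,
      PrimeSpectrum.basicOpen (fun i => if c i = m then (1 : R i) else 0) ≤ U j := by
  classical
  have hex : ∀ p : PrimeSpectrum (∀ i, R i), ∃ (a : ∀ i, R i) (j : J),
      p ∈ PrimeSpectrum.basicOpen a ∧ PrimeSpectrum.basicOpen a ≤ U j := by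
    intro p
    have hp : p ∈ ⨆ j, U j := by rw [hU]; trivial
    obtain ⟨j, hj⟩ := TopologicalSpace.Opens.mem_iSup.1 hp
    obtain ⟨_, ⟨a, rfl⟩, hpa, ha⟩ :=
      PrimeSpectrum.isTopologicalBasis_basic_opens.exists_subset_of_mem_open hj (U j).2
    exact ⟨a, j, hpa, ha⟩
  choose a jj hpa ha using hex
  obtain ⟨s, hs⟩ := isCompact_univ.elim_finite_subcover
    (fun p => (PrimeSpectrum.basicOpen (a p) : Set (PrimeSpectrum (∀ i, R i))))
    (fun p => (PrimeSpectrum.basicOpen (a p)).2) (fun p _ => Set.mem_iUnion.2 ⟨p, hpa p⟩)
  have hspan : Ideal.span (Set.range fun p : s => a p.1) = ⊤ := by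
    rw [← PrimeSpectrum.iSup_basicOpen_eq_top_iff, eq_top_iff]
    intro q _
    obtain ⟨p, hp, hq⟩ := Set.mem_iUnion₂.1 (hs (Set.mem_univ q))
    exact TopologicalSpace.Opens.mem_iSup.2 ⟨⟨p, hp⟩, hq⟩
  obtain ⟨g, hg⟩ := Ideal.mem_span_range_iff_exists_fun.1 ((Ideal.eq_top_iff_one _).1 hspan)
  have hunit : ∀ i, ∃ p : s, IsUnit (a p.1 i) := by
    intro i
    have h1 : ∑ p : s, g p i * a p.1 i = (1 : R i) := by
      have := congrFun hg i
      simpa [Finset.sum_apply] using this
    by_contra hne
    push Not at hne
    have : (1 : R i) ∈ IsLocalRing.maximalIdeal (R i) := by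
      rw [← h1]
      exact sum_mem fun p _ => Ideal.mul_mem_left _ _ (hne p)
    exact (IsLocalRing.maximalIdeal.isMaximal (R i)).ne_top ((Ideal.eq_top_iff_one _).2 this)
  choose c hc using hunit
  refine ⟨Fintype.card s, fun i => Fintype.equivFin s (c i), fun m => ?_⟩
  refine ⟨jj ((Fintype.equivFin s).symm m).1, le_trans ?_ (ha _)⟩
  intro q hq hq'
  refine hq ?_
  let p := (Fintype.equivFin s).symm m
  have he : (fun i => if Fintype.equivFin s (c i) = m then (1 : R i) else 0) =
      a p.1 * (fun i => if Fintype.equivFin s (c i) = m then Ring.inverse (a p.1 i) else 0) := by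
    funext i
    by_cases hi : Fintype.equivFin s (c i) = m
    · have hp : c i = p := by rw [← (Fintype.equivFin s).symm_apply_apply (c i), hi]
      simp only [Pi.mul_apply, if_pos hi]
      rw [Ring.mul_inverse_cancel _ (hp ▸ hc i)]
    · simp [hi]
  rw [he]
  exact q.asIdeal.mul_mem_right _ hq'

end Groth.Agent.S13953
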