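import Groth.Statements.S13956
import Groth.Agent.EtDivSeq.Coh
import Groth.Agent.EtTorsPoint.Push
import Groth.Agent.Misc3.EtFieldRatModInt
import Groth.Agent.EtMV.ConstUnit
import Groth.Agent.EtMV.NormalIrr
import Groth.Agent.S14401
import Mathlib

set_option autoImplicit false
set_option backward.isDefEq.respectTransparency false
set_option backward.isDefEq.respectTransparency.types false
set_option linter.auxLemma false
set_option linter.style.haveILetI false
universe u
open CategoryTheory CategoryTheory.Limits CategoryTheory.Abelian AlgebraicGeometry Opposite TopologicalSpace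
open TateLoc

noncomputable section

namespace Groth.Agent.S13956

attribute [local instance 100000] EtCoh.H._proof_1 EtMV.hext
attribute [local instance 200000] EtMV.hextAb

theorem eq_zero_of_torsion {X : Scheme.{u}} {F : EtCoh.Ab X} (hdiv : ∀ n : ℕ, 0 < n → IsIso (n • 𝟙 F)) {q : ℕ}
    (c : EtCoh.H X F q) (hc : IsOfFinAddOrder c) : c = 0 := by
  obtain ⟨n, hn, hnc⟩ := isOfFinAddOrder_iff_nsmul_eq_zero.1 hc
  haveI := hdiv n hn
  have h1 : Ext.comp c (Ext.mk₀ (n • 𝟙 F)) (add_zero q) = 0 := by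
    rw [show Ext.mk₀ (n • 𝟙 F) = n • Ext.mk₀ (𝟙 F) from map_nsmul Ext.addEquiv₀.symm n (𝟙 F)]
    refine (map_nsmul (AddMonoidHom.mk' (fun e : Ext F F 0 => Ext.comp c e (add_zero q))
      fun a b => Ext.comp_add _ _ _ _) n (Ext.mk₀ (𝟙 F))).trans ?_
    show n • Ext.comp c (Ext.mk₀ (𝟙 F)) (add_zero q) = 0
    rw [Ext.comp_mk₀_id]
    exact hnc
  rw [← Ext.comp_mk₀_id c, ← IsIso.hom_inv_id (n • 𝟙 F), ← Ext.mk₀_comp_mk₀,
    ← Ext.comp_assoc_of_second_deg_zero, h1, Ext.zero_comp]

theorem integral_case (X : Scheme.{u}) [IsIntegral X] [IsNoetherian X] (hN : ∀ x : X, IsIntegrallyClosed (X.presheaf.stalk x))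
    (m : ℕ) : Subsingleton (EtCoh.H X (EtCoh.const X ℚ) (m + 1)) := by
  let i : Spec (X.residueField (genericPoint X)) ⟶ X := X.fromSpecResidueField (genericPoint X)
  haveI := EtMV.isIso_unit_const (M := ℚ) (EtMV.irrNhd_of_normal hN) i (Scheme.fromSpecResidueField_apply _ _)
  let e := asIso ((EtCoh.pullPushAdj i).unit.app (EtCoh.const X ℚ))
  refine subsingleton_of_forall_eq 0 fun c =>
    eq_zero_of_torsion (fun n hn => Misc3.EtFieldRatModInt.isIso_nsmul_constQ _ n hn) c ?_
  have h := EtTorsPoint.isOfFinAddOrder_H_push (X := X) i m _ (((EtCoh.HF X (m + 1)).map e.hom).hom c)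
  have h2 := AddMonoidHom.isOfFinAddOrder ((EtCoh.HF X (m + 1)).map e.inv).hom h
  rwa [← ConcreteCategory.comp_apply, ← Functor.map_comp, e.hom_inv_id, CategoryTheory.Functor.map_id] at h2

/-- For a Noetherian normal scheme X (quasi-compact, locally Noetherian, all local rings integrally
closed domains), the cohomology of the constant sheaf ℚ on the small etale site of X vanishes in
every positive degree. -/
theorem result (X : Scheme.{u}) [IsLocallyNoetherian X] [CompactSpace X]
    (hN : ∀ x : X, IsDomain (X.presheaf.stalk x) ∧ IsIntegrallyClosed (X.presheaf.stalk x))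
    (i : ℕ) (hi : 0 < i) :
    Subsingleton (EtCoh.H X (EtCoh.const X ℚ) i) := by
  obtain ⟨m, rfl⟩ : ∃ m, i = m + 1 := ⟨i - 1, by omega⟩
  haveI : IsNoetherian X := {}
  obtain ⟨hopen, huniq⟩ := Groth.Agent.S14401.result X fun x => (hN x).1
  haveI : IsReduced X := by
    haveI : ∀ x : X, _root_.IsReduced (X.presheaf.stalk x) := fun x => by haveI := (hN x).1; infer_instance
    exact isReduced_of_isReduced_stalk X
  let C : ↥(irreducibleComponents (X : Type u)) → X.Opens := fun Z => ⟨Z.1, hopen Z.1 Z.2⟩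
  refine subsingleton_of_forall_eq 0 fun c => EtDivSeq.eq_zero_of_rs C (fun Z Z' hne x hx hx' => ?_)
    (fun x => ?_) _ m c fun Z => ?_
  · obtain ⟨W, -, hW⟩ := huniq x
    exact hne (Subtype.ext ((hW Z.1 ⟨Z.2, hx⟩).trans (hW Z'.1 ⟨Z'.2, hx'⟩).symm))
  · obtain ⟨W, ⟨hW, hx⟩, -⟩ := huniq x
    exact ⟨⟨W, hW⟩, hx⟩
  · haveI : IrreducibleSpace (C Z : Scheme.{u}) := Subtype.irreducibleSpace Z.2.1
    haveI : IsIntegral (C Z : Scheme.{u}) := isIntegral_of_irreducibleSpace_of_isReduced _
    haveI := Groth.Agent.EtPullExact.pull_preservesFiniteLimits (C Z).ι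
    haveI : IsNoetherian (C Z : Scheme.{u}) := EtDivSeq.isNoetherian_open (C Z)
    haveI hsub : Subsingleton (EtCoh.H (C Z : Scheme.{u}) (EtCoh.const (C Z : Scheme.{u}) ℚ) (m + 1)) := integral_case (C Z : Scheme.{u}) (fun z => by
      haveI := (hN ((C Z).ι z)).2
      exact IsIntegrallyClosed.of_equiv (asIso ((C Z).ι.stalkMap z)).commRingCatIsoToRingEquiv) m
    haveI : Subsingleton (EtCoh.H (C Z : Scheme.{u}) ((EtCoh.pull (C Z).ι).obj (EtCoh.const X ℚ)) (m + 1)) :=
      @Equiv.subsingleton _ _ ((EtCoh.HF (C Z : Scheme.{u}) (m + 1)).mapIso (EtCore.pullConst (C Z).ι ℚ)).addCommGroupIsoToAddEquiv.toEquiv hsub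
    haveI := (EtMV.Φ (C Z) (EtCoh.const X ℚ) (m + 1)).toEquiv.subsingleton
    exact Subsingleton.elim _ _

end Groth.Agent.S13956
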