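import Groth.Statements.S13958
import Mathlib.Topology.Algebra.Category.ProfiniteGrp.Completion
import Mathlib.GroupTheory.FiniteAbelian.Basic
-- import your own Groth.Agent.* helpers here

set_option autoImplicit false
set_option linter.style.haveILetI false
set_option linter.unusedSimpArgs false
universe u
open TateLoc

namespace Groth.Agent.S13958

open CategoryTheory in
/-- Let A' be a finitely generated abelian group (written multiplicatively, discrete) and A a subgroup.
If the image of x ∈ A' in the profinite completion of A' lies in the image of the profinite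
completion of A under the map induced by the inclusion, then x ∈ A. (The published statement says
that the square formed by the two completion maps and the two inclusions is Cartesian; given the
injectivity of the induced map on completions, which holds here, that amounts to this membership
criterion.) -/
theorem result (A' : Type u) [CommGroup A'] [Group.FG A']
    (A : Subgroup A') (x : A')
    (hx : ProfiniteGrp.ProfiniteCompletion.etaFn (GrpCat.of A') x ∈
      Set.range ⇑(ProfiniteGrp.profiniteCompletion.map (GrpCat.ofHom A.subtype)).hom) :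
    x ∈ A := by
  classical
  by_contra hxA
  -- a maximal subgroup containing `A` but not `x`
  haveI : IsNoetherian ℤ (Additive A') :=
    isNoetherian_of_isNoetherianRing_of_finite ℤ (Additive A')
  have hwf : WellFoundedGT (Submodule ℤ (Additive A')) := inferInstance
  obtain ⟨M, hMmem, hmax⟩ := hwf.wf.has_min
    {M : Submodule ℤ (Additive A') | (∀ a ∈ A, Additive.ofMul a ∈ M) ∧ Additive.ofMul x ∉ M}
    ⟨A.toAddSubgroup.toIntSubmodule, fun a ha => ha, hxA⟩
  obtain ⟨hMA, hMx⟩ := hMmem
  have hsmall : ∀ z : Additive A', z ∉ M → ∃ n : ℤ, Additive.ofMul x - n • z ∈ M := by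
    intro z hz
    by_contra hno
    push Not at hno
    refine hmax (M ⊔ Submodule.span ℤ {z}) ⟨fun a ha => Submodule.mem_sup_left (hMA a ha), fun h => ?_⟩
      (left_lt_sup.2 fun h => hz (h (Submodule.mem_span_singleton_self z)))
    obtain ⟨m, hm, w, hw, e⟩ := Submodule.mem_sup.1 h
    obtain ⟨n, rfl⟩ := Submodule.mem_span_singleton.1 hw
    exact hno n (by rw [← e, add_sub_cancel_right]; exact hm)
  have hxtor : ∃ k : ℤ, k ≠ 0 ∧ k • Additive.ofMul x ∈ M := by
    by_cases h2 : (2 : ℤ) • Additive.ofMul x ∈ M
    · exact ⟨2, by norm_num, h2⟩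
    · obtain ⟨n, hn⟩ := hsmall _ h2
      refine ⟨1 - n * 2, by omega, ?_⟩
      rwa [sub_smul, one_smul, mul_smul]
  obtain ⟨k, hk, hkx⟩ := hxtor
  haveI : Module.Finite ℤ (Additive A' ⧸ M) := inferInstance
  have htor : Module.IsTorsion ℤ (Additive A' ⧸ M) := by
    intro q
    induction q using Submodule.Quotient.induction_on with
    | H z =>
      by_cases hz : z ∈ M
      · exact ⟨1, by rw [one_smul, (Submodule.Quotient.mk_eq_zero M).2 hz]⟩
      · obtain ⟨n, hn⟩ := hsmall z hz
        have hn0 : n ≠ 0 := fun h => hMx (by simpa [h] using hn)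
        refine ⟨⟨k * n, mem_nonZeroDivisors_of_ne_zero (mul_ne_zero hk hn0)⟩, ?_⟩
        change (k * n) • (Submodule.Quotient.mk z : Additive A' ⧸ M) = 0
        rw [← Submodule.Quotient.mk_smul, Submodule.Quotient.mk_eq_zero, mul_smul]
        have := M.smul_mem k hn
        rw [smul_sub] at this
        simpa using sub_mem hkx this
  haveI : Finite (Additive A' ⧸ M) := Module.finite_of_fg_torsion _ htor
  let H : Subgroup A' := M.toAddSubgroup.toSubgroup'
  haveI : Finite (A' ⧸ H) := Finite.of_injective
    (Quotient.map' Additive.ofMul (fun u v h => by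
      rw [QuotientGroup.leftRel_apply] at h
      exact QuotientAddGroup.leftRel_apply.2 h) : A' ⧸ H → Additive A' ⧸ M)
    (fun u v => by
      induction u using QuotientGroup.induction_on with
      | H u => induction v using QuotientGroup.induction_on with
        | H v =>
          intro h
          refine QuotientGroup.eq.2 ?_
          have h' := QuotientAddGroup.eq.1 (show ((Additive.ofMul u : Additive A') :
            Additive A' ⧸ M.toAddSubgroup) = Additive.ofMul v from h)
          exact h')
  haveI : H.FiniteIndex := Subgroup.finiteIndex_of_finite_quotient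
  haveI : H.Normal := Subgroup.normal_of_comm H
  let N : FiniteIndexNormalSubgroup (GrpCat.of A') := FiniteIndexNormalSubgroup.ofSubgroup H
  obtain ⟨y, hy⟩ := hx
  let π : ProfiniteGrp.profiniteCompletion.obj (GrpCat.of A') →
      (ProfiniteGrp.ProfiniteCompletion.diagram (GrpCat.of A')).obj N := fun z => z.1 N
  have hπ : Continuous π := (continuous_apply N).comp continuous_subtype_val
  let m := (ProfiniteGrp.profiniteCompletion.map (GrpCat.ofHom A.subtype)).hom
  have hone : ∀ z, π (m z) = π (ProfiniteGrp.ProfiniteCompletion.etaFn (GrpCat.of A') (1 : A')) := by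
    refine congrFun ((ProfiniteGrp.ProfiniteCompletion.denseRange (GrpCat.of A)).equalizer
      (hπ.comp m.continuous_toFun) continuous_const ?_)
    funext a
    have h1 := congrArg (fun t => t.hom a)
      (ProfiniteGrp.ProfiniteCompletion.lift_eta (G := GrpCat.of A)
        (P := ProfiniteGrp.ProfiniteCompletion.completion (GrpCat.of A'))
        (GrpCat.ofHom A.subtype ≫ ProfiniteGrp.ProfiniteCompletion.eta _))
    have h2 : m (ProfiniteGrp.ProfiniteCompletion.etaFn (GrpCat.of A) a) =
        ProfiniteGrp.ProfiniteCompletion.etaFn (GrpCat.of A') (a : A') := h1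
    change π (m (ProfiniteGrp.ProfiniteCompletion.etaFn (GrpCat.of A) a)) = π _
    rw [h2]
    change ((a : A') : A' ⧸ H) = ((1 : A') : A' ⧸ H)
    refine QuotientGroup.eq.2 ?_
    rw [mul_one]
    exact inv_mem (show (a : A') ∈ H from hMA _ a.2)
  have h3 := hone y
  rw [show m y = _ from hy] at h3
  have h4 : (1 : A') ∈ H := one_mem _
  have h5 : x⁻¹ * 1 ∈ H := QuotientGroup.eq.1 h3
  rw [mul_one, inv_mem_iff] at h5
  exact hMx h5

end Groth.Agent.S13958
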