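import Groth.Statements.S13963
import Mathlib

set_option autoImplicit false
universe u
open TateLoc

namespace Groth.Agent.S13963

/-- Let A' → A → A'' be continuous homomorphisms of locally compact, second-countable, Hausdorff abelian
topological groups which form a short exact sequence of abstract groups (the first injective, the
second surjective, image equal to kernel). If A' and A'' are compact, then A is compact. -/
theorem result (A' A A'' : Type u)
    [AddCommGroup A'] [TopologicalSpace A'] [IsTopologicalAddGroup A'] [SecondCountableTopology A'] [T2Space A']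
    [CompactSpace A']
    [AddCommGroup A] [TopologicalSpace A] [IsTopologicalAddGroup A] [LocallyCompactSpace A]
    [SecondCountableTopology A] [T2Space A]
    [AddCommGroup A''] [TopologicalSpace A''] [IsTopologicalAddGroup A''] [SecondCountableTopology A''] [T2Space A'']
    [CompactSpace A'']
    (f : A' →+ A) (g : A →+ A'') (hf : Continuous f) (hg : Continuous g)
    (hinj : Function.Injective f) (hsurj : Function.Surjective g) (hex : g.ker = f.range) :
    CompactSpace A := by
  have hopen : IsOpenMap g := AddMonoidHom.isOpenMap_of_sigmaCompact g hsurj hg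
  choose K hKc hKn using fun a : A => exists_compact_mem_nhds a
  have hcov : (Set.univ : Set A'') ⊆ ⋃ a : A, g '' interior (K a) := fun x _ => by
    obtain ⟨a, rfl⟩ := hsurj x
    exact Set.mem_iUnion.2 ⟨a, a, mem_interior_iff_mem_nhds.2 (hKn a), rfl⟩
  obtain ⟨t, ht⟩ := isCompact_univ.elim_finite_subcover _ (fun a => hopen _ isOpen_interior) hcov
  have hker : IsCompact (g.ker : Set A) := by
    rw [hex]; simpa using isCompact_range hf
  refine ⟨?_⟩
  have hc := ((t.isCompact_biUnion fun a _ => hKc a).prod hker).image continuous_add
  convert hc using 1
  refine (Set.eq_univ_of_forall fun x => ?_).symm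
  obtain ⟨a, ha, y, hy, he⟩ := Set.mem_iUnion₂.1 (ht (Set.mem_univ (g x)))
  exact ⟨(y, x - y), ⟨Set.mem_iUnion₂.2 ⟨a, ha, interior_subset hy⟩, by simp [he]⟩, add_sub_cancel _ _⟩

end Groth.Agent.S13963
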