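import Groth.Statements.S13978
import Groth.Agent.ArtFib.Basic
import Groth.Agent.ObsBound.Basic

set_option autoImplicit false
universe u v
open CategoryTheory
open scoped TensorProduct
open ArtFun ArtFun.ObsTheory

namespace Groth.Agent.S13978

open scoped TensorProduct

/-- For obstruction theories of functors in the vector-space form, let k be a field, F a functor on
Artinian local k-algebras with residue field k and (V, ω) an obstruction theory for F — for each
surjection p : C' → C whose kernel J is killed by the maximal ideal and each u ∈ F(C) an obstruction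
ω(p, u) ∈ V ⊗_k J, zero exactly when u lifts, and compatible with replacing C' → C by C'/K → C for
ideals K ≤ J. Let Ω ⊆ V be the subspace spanned by the obstructions along tiny extensions (those p
whose kernel is one-dimensional), transported into V by the isomorphisms V ⊗ J ≅ V coming from
linear isomorphisms J ≅ k. Then for every p and u the obstruction ω(p, u) lies in the image of Ω ⊗_k
J → V ⊗_k J. (The published statement is for deformation categories and obstruction theories
functorial along all morphisms of extensions; this row assumes functoriality along quotients C'/K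
only, which is all its proof uses, and no condition on F.) -/
theorem result {k : Type u} [Field k]
    {F : ArtFun.Art k k ⥤ Type v} {V : Type u} [AddCommGroup V] [Module k V]
    (T : ArtFun.ObsTheory F V) {C' C : ArtFun.Art k k} (p : C' ⟶ C) (hp : ArtFun.Art.IsSemismallExt p)
    (u : F.obj C) :
    T.obs p hp u ∈ LinearMap.range (LinearMap.rTensor (↥(RingHom.ker p.toAlgHom))
      (Submodule.span k {v : V | ∃ (B' B : ArtFun.Art k k) (t : B' ⟶ B) (ht : ArtFun.Art.IsSmallExt t)
          (w : F.obj B) (φ : ↥(RingHom.ker t.toAlgHom) ≃ₗ[k] k),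
          v = TensorProduct.rid k V (LinearMap.lTensor V φ.toLinearMap (T.obs t ht.isSemismallExt w))}).subtype) := by
  classical
  set J := RingHom.ker p.toAlgHom
  have := Groth.Agent.ArtFib.module_finite C'
  have : IsNoetherian k C' := isNoetherian_of_isNoetherianRing_of_finite k C'
  have : Module.Finite k ↥J := Module.Finite.iff_fg.2 (IsNoetherian.noetherian (J.restrictScalars k))
  let b := Module.finBasis k ↥J
  obtain ⟨j, hj⟩ : ∃ v : Fin (Module.finrank k ↥J) → V, T.obs p hp u = ∑ i, v i ⊗ₜ b i := by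
    generalize T.obs p hp u = z
    induction z using TensorProduct.induction_on with
    | zero => exact ⟨0, by simp⟩
    | tmul v w => exact ⟨fun i => b.repr w i • v, by
        conv_lhs => rw [← b.sum_repr w, TensorProduct.tmul_sum]
        exact Finset.sum_congr rfl fun i _ => by rw [TensorProduct.smul_tmul]⟩
    | add x y hx hy =>
      obtain ⟨a, rfl⟩ := hx
      obtain ⟨c, rfl⟩ := hy
      exact ⟨a + c, by simp [TensorProduct.add_tmul, Finset.sum_add_distrib]⟩
  suffices hv : ∀ i, j i ∈ Submodule.span k {v : V | ∃ (B' B : ArtFun.Art k k) (t : B' ⟶ B) (ht : ArtFun.Art.IsSmallExt t)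
      (w : F.obj B) (φ : ↥(RingHom.ker t.toAlgHom) ≃ₗ[k] k),
      v = TensorProduct.rid k V (LinearMap.lTensor V φ.toLinearMap (T.obs t ht.isSemismallExt w))} by
    rw [hj]
    exact Submodule.sum_mem _ fun i _ => ⟨⟨j i, hv i⟩ ⊗ₜ b i, rfl⟩
  intro i
  have hJm : J ≤ IsLocalRing.maximalIdeal C' := IsLocalRing.le_maximalIdeal (RingHom.ker_ne_top _)
  have hmul : ∀ (a : C') (x : ↥J), a * (x : C') = C'.res a • (x : C') := fun a x => by
    have hm : a - algebraMap k C' (C'.res a) ∈ IsLocalRing.maximalIdeal C' := by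
      rw [Art.mem_maximalIdeal_iff, map_sub, AlgHom.commutes]; exact sub_self _
    have h0 : (a - algebraMap k C' (C'.res a)) * (x : C') = 0 := Ideal.mem_bot.1 (hp.2 ▸ Ideal.mul_mem_mul hm x.2)
    rw [sub_mul, sub_eq_zero] at h0
    rw [h0, Algebra.smul_def]
  let K : Ideal C' :=
    { carrier := {x | ∃ hx : x ∈ J, b.coord i ⟨x, hx⟩ = 0}
      zero_mem' := ⟨zero_mem _, (b.coord i).map_zero⟩
      add_mem' := fun {x y} ⟨hx, hx'⟩ ⟨hy, hy'⟩ => ⟨add_mem hx hy, by
        show b.coord i (⟨x, hx⟩ + ⟨y, hy⟩ : ↥J) = 0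
        rw [map_add, hx', hy', add_zero]⟩
      smul_mem' := fun a x ⟨hx, hx'⟩ => ⟨J.mul_mem_left a hx, by
        show b.coord i ⟨a * x, J.mul_mem_left a hx⟩ = 0
        rw [show (⟨a * x, J.mul_mem_left a hx⟩ : ↥J) = C'.res a • (⟨x, hx⟩ : ↥J) from Subtype.ext (hmul a ⟨x, hx⟩),
          map_smul, hx', smul_zero]⟩ }
  have hKJ : K ≤ J := fun x ⟨hx, _⟩ => hx
  have hKm : K ≤ IsLocalRing.maximalIdeal C' := hKJ.trans hJm
  let p' := Art.quotFactor hKm p hKJ
  let L := (Art.kerToQuot hKm p hKJ).restrictScalars k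
  have hLs : Function.Surjective L := by
    rintro ⟨y, hy⟩
    obtain ⟨x, rfl⟩ := Art.quotMk_surjective C' K hKm y
    exact ⟨⟨x, RingHom.mem_ker.2 ((congrArg (fun m : C' ⟶ C => m x) (Art.quotMk_quotFactor hKm p hKJ)).symm.trans
      (RingHom.mem_ker.1 hy))⟩, Subtype.ext rfl⟩
  have hLk : ∀ x : ↥J, L x = 0 ↔ b.coord i x = 0 := fun x => by
    constructor
    · intro h
      obtain ⟨_, hx⟩ := Ideal.Quotient.eq_zero_iff_mem.1 (congrArg Subtype.val h)
      exact hx
    · intro h
      exact Subtype.ext (Ideal.Quotient.eq_zero_iff_mem.2 ⟨x.2, h⟩)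
  choose l hl using hLs
  let φ₀ : ↥(RingHom.ker p'.toAlgHom) →ₗ[k] k :=
    { toFun := fun y => b.coord i (l y)
      map_add' := fun y z => by
        rw [← map_add, ← sub_eq_zero, ← map_sub, ← hLk, map_sub, map_add, hl, hl, hl, sub_self]
      map_smul' := fun c y => by
        rw [RingHom.id_apply, ← map_smul, ← sub_eq_zero, ← map_sub, ← hLk, map_sub, map_smul, hl, hl, sub_self] }
  have hφL : φ₀ ∘ₗ L = b.coord i := LinearMap.ext fun x => by
    show b.coord i (l (L x)) = b.coord i x
    rw [← sub_eq_zero, ← map_sub, ← hLk, map_sub, hl, sub_self]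
  have hb : b.coord i (b i) = 1 := by simp
  let φ : ↥(RingHom.ker p'.toAlgHom) ≃ₗ[k] k := LinearEquiv.ofBijective φ₀
    ⟨(injective_iff_map_eq_zero φ₀).2 fun y hy => by rw [← hl y]; exact (hLk _).2 hy,
      fun c => ⟨L (c • b i), (DFunLike.congr_fun hφL (c • b i)).trans (by rw [map_smul, hb, smul_eq_mul, mul_one])⟩⟩
  have hs : Function.Surjective p' := fun z => by
    obtain ⟨x, hx⟩ := hp.1 z
    exact ⟨Art.quotMk C' K hKm x,
      (congrArg (fun m : C' ⟶ C => m x) (Art.quotMk_quotFactor hKm p hKJ)).trans hx⟩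
  have hgen : ∀ y : ↥(RingHom.ker p'.toAlgHom), y = φ₀ y • L (b i) := fun y => φ.injective (by
    show φ₀ y = φ₀ (φ₀ y • L (b i))
    rw [map_smul, show φ₀ (L (b i)) = 1 from (DFunLike.congr_fun hφL (b i)).trans hb, smul_eq_mul, mul_one])
  have ht : ArtFun.Art.IsSmallExt p' := by
    refine ⟨hs, fun h => ?_, ⟨⟨(L (b i) : Art.quot C' K hKm), le_antisymm (fun y hy => ?_) ((Submodule.span_singleton_le_iff_mem _ _).2 (L (b i)).2)⟩⟩,
      le_bot_iff.1 (Ideal.mul_le.2 fun x hx y hy => ?_)⟩
    · have h0 : L (b i) = 0 := Subtype.ext (by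
        exact Ideal.mem_bot.1 (h.le (L (b i)).2))
      exact one_ne_zero (hb.symm.trans ((hLk _).1 h0))
    · have := congrArg Subtype.val (hgen ⟨y, hy⟩)
      show y ∈ Submodule.span _ _
      rw [Submodule.mem_span_singleton]
      exact ⟨algebraMap k _ (φ₀ ⟨y, hy⟩), (by rw [smul_eq_mul, ← Algebra.smul_def]; exact this.symm)⟩
    · obtain ⟨x', rfl⟩ := Art.quotMk_surjective C' K hKm x
      obtain ⟨z, hz⟩ : ∃ z, L z = ⟨y, hy⟩ := ⟨_, hl ⟨y, hy⟩⟩
      have hx' : x' ∈ IsLocalRing.maximalIdeal C' := by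
        rw [Art.mem_maximalIdeal_iff] at hx ⊢
        exact (Art.res_app (Art.quotMk C' K hKm) x').symm.trans hx
      rw [Ideal.mem_bot, ← show (Art.quotMk C' K hKm) (z : C') = y from congrArg Subtype.val hz, ← map_mul,
        show x' * (z : C') = 0 from Ideal.mem_bot.1 (hp.2 ▸ Ideal.mul_mem_mul hx' z.2), map_zero]
  refine Submodule.subset_span ⟨_, _, p', ht, u, φ, ?_⟩
  rw [T.obs_quot p hp K hKm hKJ ht.isSemismallExt u, ← LinearMap.comp_apply, ← LinearMap.lTensor_comp,
    show φ.toLinearMap ∘ₗ L = b.coord i from hφL, hj, map_sum, map_sum,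
    Finset.sum_eq_single i (fun m _ hm => by simp [hm]) (by simp)]
  simp

end Groth.Agent.S13978
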