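import Groth.Statements.S13981
import Groth.Agent.ArtKit.Minimal
import Groth.Agent.ArtKit.Cmp

set_option autoImplicit false
universe u v
open CategoryTheory
open ArtFun

namespace Groth.Agent.S13981

/-- Let F be a functor on Artinian local Λ-algebras with residue field k (Λ Noetherian, Λ → k finite and
surjective) satisfying (RS) — the comparison map for A₁ ×_A A₂ is bijective whenever A₂ → A is
surjective — and let ξ be a versal family of F over a complete local Noetherian Λ-algebra R with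
residue field k. Then the lifting property defining versality also holds along surjections of
complete local Noetherian algebras: if g : A' → A is such a surjection, η' is a formal element of F
over A' (a compatible system over the truncations A'/m^(n+1)) and φ : R → A is a map under which the
formal element of ξ becomes the pushforward of η' along g, then φ lifts to ψ : R → A' with g ∘ ψ = φ
and with ξ inducing η' along ψ. (The published statement takes Λ complete local Noetherian with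
residue field k; its proof does not use completeness of Λ, and this row assumes only Λ Noetherian
with Λ → k surjective.) -/
theorem result {Λ : Type u} {k : Type u} [CommRing Λ] [Field k]
    [Algebra Λ k] [IsNoetherianRing Λ] [Module.Finite Λ k] (hΛ : Function.Surjective (algebraMap Λ k))
    {F : ArtFun.Art Λ k ⥤ Type v}
    (hRS : ∀ ⦃B A A₁ A₂ : ArtFun.Art Λ k⦄ (p₁ : B ⟶ A₁) (p₂ : B ⟶ A₂) (f₁ : A₁ ⟶ A) (f₂ : A₂ ⟶ A)
        (h : ArtFun.Art.IsFibreProd p₁ p₂ f₁ f₂), Function.Surjective f₂ → Function.Bijective (ArtFun.cmp F h))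
    (R : ArtFun.CRing Λ k) (ξ : ArtFun.Family R.carrier R.res F) (hξ : ArtFun.IsVersal ξ)
    (A' A : ArtFun.CRing Λ k) (g : A'.carrier →ₐ[Λ] A.carrier) (hg : A.res.comp g = A'.res)
    (hgs : Function.Surjective g) (η' : ArtFun.FormalElt F A')
    (φ : R.carrier →ₐ[Λ] A.carrier) (hφ : A.res.comp φ = R.res)
    (hsq : (ξ.along φ hφ).toFormalElt = η'.push g hg) :
    ∃ (ψ : R.carrier →ₐ[Λ] A'.carrier) (hψ : A'.res.comp ψ = R.res),
      g.comp ψ = φ ∧ (ξ.along ψ hψ).toFormalElt = η' := by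
  have hT : ∀ n, Function.Surjective (ArtFun.CRing.truncMapOfHom g hg n) := fun n y => by
    obtain ⟨a, rfl⟩ := Groth.Agent.ArtKit.truncHom_surjective A n y
    obtain ⟨b, rfl⟩ := hgs a
    exact ⟨(A'.truncHom n).1 b, rfl⟩
  let φn : ∀ n, ArtFun.HomSet R.carrier R.res (A.trunc n) := fun n =>
    ⟨(A.truncHom n).1.comp φ, by rw [← AlgHom.comp_assoc, (A.truncHom n).2, hφ]⟩
  have hφn : ∀ n, ξ.app _ (φn n) = F.map (ArtFun.CRing.truncMapOfHom g hg n) (η'.elt n) := fun n =>
    congrArg (fun u => u.elt n) hsq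
  obtain ⟨ψ0, hψ0, hψ0'⟩ := hξ _ (hT 0) (φn 0) (η'.elt 0) (hφn 0).symm
  have hstep : ∀ n (ψ : {ψ : ArtFun.HomSet R.carrier R.res (A'.trunc n) //
      ArtFun.HomSet.map (ArtFun.CRing.truncMapOfHom g hg n) ψ = φn n ∧ ξ.app _ ψ = η'.elt n}),
      ∃ χ : {ψ : ArtFun.HomSet R.carrier R.res (A'.trunc (n + 1)) //
        ArtFun.HomSet.map (ArtFun.CRing.truncMapOfHom g hg (n + 1)) ψ = φn (n + 1) ∧ ξ.app _ ψ = η'.elt (n + 1)},
      ArtFun.HomSet.map (A'.truncMap n) χ.1 = ψ.1 := by
    rintro n ⟨ψ, hψ1, hψ2⟩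
    obtain ⟨P, p', p'', hP⟩ := Groth.Agent.ArtFib.exists_isFibreProd_of_surjective
      (ArtFun.CRing.truncMapOfHom g hg n) (A.truncMap n) (Groth.Agent.ArtKit.truncMap_surjective A n)
    obtain ⟨q, hq1, hq2⟩ := Groth.Agent.ArtKit.exists_lift hP (A'.truncMap n)
      (ArtFun.CRing.truncMapOfHom g hg (n + 1)) (ArtFun.CRing.truncMapOfHom_truncMap g hg n).symm
    have hqs : Function.Surjective q := fun z => by
      obtain ⟨a, ha⟩ := Groth.Agent.ArtKit.truncHom_surjective A' n (p' z)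
      obtain ⟨b, hb⟩ := Groth.Agent.ArtKit.truncHom_surjective A (n + 1) (p'' z)
      have hw := hP.w_apply z
      rw [← ha, ← hb] at hw
      have hmem : g a - b ∈ IsLocalRing.maximalIdeal A.carrier ^ (n + 1) := Ideal.Quotient.eq.1 hw
      have hmap : Ideal.map g (IsLocalRing.maximalIdeal A'.carrier) = IsLocalRing.maximalIdeal A.carrier := by
        refine le_antisymm (Groth.Agent.ArtKit.map_maximalIdeal_le A'.res_surjective A.res_surjective g hg) ?_
        intro y hy
        obtain ⟨x, rfl⟩ := hgs y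
        refine Ideal.mem_map_of_mem _ ?_
        rw [ArtFun.CRing.mem_maximalIdeal_iff] at hy ⊢
        rwa [← DFunLike.congr_fun hg x]
      rw [← hmap, ← Ideal.map_pow] at hmem
      obtain ⟨μ, hμ, hμ'⟩ := (Ideal.mem_map_iff_of_surjective g hgs).1 hmem
      refine ⟨(A'.truncHom (n + 1)).1 (a - μ), hP.inj _ _ ?_ ?_⟩
      · rw [← ha, ← ArtFun.Art.comp_apply q p', hq1]
        show Ideal.Quotient.mk _ (a - μ) = Ideal.Quotient.mk _ a
        rw [Ideal.Quotient.eq, sub_sub_cancel_left]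
        exact neg_mem hμ
      · rw [← hb, ← ArtFun.Art.comp_apply q p'', hq2]
        show Ideal.Quotient.mk _ (g (a - μ)) = Ideal.Quotient.mk _ b
        rw [map_sub, hμ', sub_sub_cancel]
    obtain ⟨χ, hχ1, hχ2⟩ := Groth.Agent.ArtKit.homSet_exists_lift hP ψ (φn (n + 1))
      (by rw [hψ1]; exact Subtype.ext (AlgHom.ext fun _ => rfl))
    have hy : F.map q (η'.elt (n + 1)) = ξ.app _ χ :=
      (Groth.Agent.ArtKit.injective_cmp_iff hP).1 (hRS _ _ _ _ hP (Groth.Agent.ArtKit.truncMap_surjective A n)).1 _ _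
        (by rw [← Groth.Agent.ArtKit.map_comp_app F q p', hq1, η'.compat, ← ξ.natural, hχ1, hψ2])
        (by rw [← Groth.Agent.ArtKit.map_comp_app F q p'', hq2, ← hφn, ← ξ.natural, hχ2])
    obtain ⟨ω, hω1, hω2⟩ := hξ q hqs χ _ hy
    refine ⟨⟨ω, ?_, hω2⟩, ?_⟩
    · rw [← hq2, Groth.Agent.ArtKit.homSet_map_comp, hω1, hχ2]
    · show ArtFun.HomSet.map (A'.truncMap n) ω = ψ
      rw [← hq1, Groth.Agent.ArtKit.homSet_map_comp, hω1, hχ1]
  choose step hstep using hstep
  let base : {ψ : ArtFun.HomSet R.carrier R.res (A'.trunc 0) //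
      ArtFun.HomSet.map (ArtFun.CRing.truncMapOfHom g hg 0) ψ = φn 0 ∧ ξ.app _ ψ = η'.elt 0} := ⟨ψ0, hψ0, hψ0'⟩
  let ψn : ∀ n, {ψ : ArtFun.HomSet R.carrier R.res (A'.trunc n) //
      ArtFun.HomSet.map (ArtFun.CRing.truncMapOfHom g hg n) ψ = φn n ∧ ξ.app _ ψ = η'.elt n} :=
    fun n => Nat.rec base step n
  obtain ⟨Ψ, hΨ, hΨn⟩ := Groth.Agent.ArtKit.exists_algHom_of_truncs A' (fun n => (ψn n).1) fun n => hstep n (ψn n)
  refine ⟨Ψ, hΨ, Groth.Agent.ArtKit.algHom_ext_truncs fun n => ?_, ArtFun.FormalElt.ext' fun n => ?_⟩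
  · refine Eq.trans ?_ (congrArg Subtype.val (ψn n).2.1)
    show _ = (ArtFun.CRing.truncMapOfHom g hg n).toAlgHom.comp (ψn n).1.1
    rw [← hΨn n]
    rfl
  · exact (congrArg (ξ.app _) (Subtype.ext (hΨn n))).trans (ψn n).2.2

end Groth.Agent.S13981
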