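import Groth.Statements.S13989
import Mathlib

set_option autoImplicit false
set_option linter.style.haveILetI false
universe v u v' u' v'' u''
open CategoryTheory CategoryTheory.Limits
open CohGab

namespace Groth.Agent.S13989

/-- Let A be an abelian category, A' a full abelian subcategory (given as a fully faithful exact functor
i : A' ⥤ A) and J a Serre subcategory of A, with J' = J ∩ A' (the preimage of J under i, a Serre
subcategory of A'). Assume that every subobject and every quotient object, in A, of an object of A'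
which belongs to J belongs to A' (lies in the essential image of i). Then the functor A'/J' ⥤ A/J
induced between the quotient categories is fully faithful: for L : A ⥤ Q and L' : A' ⥤ Q'
localization functors at the morphisms whose kernel and cokernel lie in J, resp. J', every functor Φ
: Q' ⥤ Q with L' ⋙ Φ ≅ i ⋙ L is full and faithful. -/
theorem result
    {A A' : Type u} [Category.{v} A] [Abelian A] [Category.{v} A'] [Abelian A']
    (i : A' ⥤ A) [i.Full] [i.Faithful] [PreservesFiniteLimits i] [PreservesFiniteColimits i]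
    (J : ObjectProperty A) [J.IsSerreClass] [(J.inverseImage i).IsSerreClass]
    (hsub : ∀ (M : A') (N : A) (f : N ⟶ i.obj M), Mono f → J N → i.essImage N)
    (hquot : ∀ (M : A') (N : A) (p : i.obj M ⟶ N), Epi p → J N → i.essImage N)
    {Q : Type u'} [Category.{v'} Q] (L : A ⥤ Q) [L.IsLocalization J.isoModSerre]
    {Q' : Type u''} [Category.{v''} Q'] (L' : A' ⥤ Q') [L'.IsLocalization (J.inverseImage i).isoModSerre]
    (Φ : Q' ⥤ Q) (e : L' ⋙ Φ ≅ i ⋙ L) : Φ.Full ∧ Φ.Faithful := by
  have hW : ∀ {X Y : A'} (f : X ⟶ Y), (J.inverseImage i).isoModSerre f ↔ J.isoModSerre (i.map f) := by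
    intro X Y f
    rw [ObjectProperty.isoModSerre_iff, ObjectProperty.isoModSerre_iff]
    exact and_congr (J.prop_iff_of_iso (PreservesKernel.iso i f))
      (J.prop_iff_of_iso (PreservesCokernel.iso i f))
  have hess := Localization.essSurj L' (J.inverseImage i).isoModSerre
  have hinv := Localization.inverts L' (J.inverseImage i).isoModSerre
  haveI hΦ : ∀ {M N : A'} (r : M ⟶ N), (J.inverseImage i).isoModSerre r → IsIso (L'.map r) := fun r hr => hinv r hr
  haveI : i.Additive := Functor.additive_of_preserves_binary_products i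
  constructor
  · suffices H : ∀ (M N : A') (h : L.obj (i.obj M) ⟶ L.obj (i.obj N)),
        ∃ u : L'.obj M ⟶ L'.obj N, Φ.map u = e.hom.app M ≫ h ≫ e.inv.app N by
      refine ⟨fun {X Y} h => ?_⟩
      let eX := L'.objObjPreimageIso X
      let eY := L'.objObjPreimageIso Y
      obtain ⟨u, hu⟩ := H _ _ (e.inv.app _ ≫ Φ.map eX.hom ≫ h ≫ Φ.map eY.inv ≫ e.hom.app _)
      refine ⟨eX.inv ≫ u ≫ eY.hom, ?_⟩
      rw [Functor.map_comp, Functor.map_comp, hu]
      simp [← Functor.map_comp, ← Functor.map_comp_assoc]
    intro M N h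
    obtain ⟨φ, hφ⟩ := Localization.exists_rightFraction L J.isoModSerre h
    -- the denominator, replaced by a subobject in A'
    obtain ⟨Q0, ⟨eQ⟩⟩ := hquot M _ (cokernel.π φ.s) inferInstance φ.hs.2
    let q : M ⟶ Q0 := i.preimage (cokernel.π φ.s ≫ eQ.inv)
    let eK : i.obj (kernel q) ≅ Abelian.image φ.s :=
      PreservesKernel.iso i q ≪≫ kernelIsoOfEq (i.map_preimage _) ≪≫ kernelCompMono _ _
    have heK : eK.hom ≫ Abelian.image.ι φ.s = i.map (kernel.ι q) := by
      simp [eK, Abelian.image.ι]
    let s' : φ.X' ⟶ i.obj (kernel q) := Abelian.factorThruImage φ.s ≫ eK.inv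
    have hs' : s' ≫ i.map (kernel.ι q) = φ.s := by simp [s', ← heK]
    have hιW : (J.inverseImage i).isoModSerre (kernel.ι q) := by
      rw [hW, ← heK]
      exact MorphismProperty.comp_mem _ _ _
        (by rw [ObjectProperty.isoModSerre_iff]; exact ⟨J.monoModSerre_of_mono _, J.epiModSerre_of_epi _⟩)
        (ObjectProperty.epiModSerre.isoModSerre_image_ι φ.hs.2)
    -- the target, divided by a subobject in A'
    have hker : J (kernel φ.s) := φ.hs.1
    obtain ⟨R0, ⟨eR⟩⟩ := hsub N _ (Abelian.image.ι (kernel.ι φ.s ≫ φ.f)) inferInstance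
      (J.prop_of_epi (Abelian.factorThruImage (kernel.ι φ.s ≫ φ.f)) hker)
    let j : R0 ⟶ N := i.preimage (eR.hom ≫ Abelian.image.ι (kernel.ι φ.s ≫ φ.f))
    haveI : Mono j := i.mono_of_mono_map (by simp only [j, i.map_preimage]; infer_instance)
    have hπW : (J.inverseImage i).isoModSerre (cokernel.π j) := by
      have hR0 : (J.inverseImage i) R0 :=
        J.prop_of_iso eR.symm (J.prop_of_epi (Abelian.factorThruImage (kernel.ι φ.s ≫ φ.f)) hker)
      rw [show (J.inverseImage i).isoModSerre = (J.inverseImage i).isoModSerre from rfl, ObjectProperty.isoModSerre_iff_of_epi]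
      exact (J.inverseImage i).prop_of_iso
        ((asIso (kernel.lift (cokernel.π j) j (cokernel.condition j))) ) hR0
    have hzero : kernel.ι s' ≫ φ.f ≫ i.map (cokernel.π j) = 0 := by
      have h1 : kernel.ι s' ≫ φ.s = 0 :=
        (kernel.ι s' ≫= hs'.symm).trans (by rw [kernel.condition_assoc, zero_comp])
      have h2 : i.map j ≫ i.map (cokernel.π j) = 0 := by
        rw [← Functor.map_comp, cokernel.condition, Functor.map_zero]
      simp only [j, i.map_preimage, Category.assoc] at h2
      have h3 : Abelian.image.ι (kernel.ι φ.s ≫ φ.f) ≫ i.map (cokernel.π j) = 0 :=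
        (cancel_epi eR.hom).mp (by rw [h2, comp_zero])
      have h4 : (kernel.ι φ.s ≫ φ.f) ≫ i.map (cokernel.π j) = 0 := by
        rw [← Abelian.image.fac (kernel.ι φ.s ≫ φ.f), Category.assoc, h3, comp_zero]
      rw [← kernel.lift_ι φ.s (kernel.ι s') h1, Category.assoc]
      simp only [Category.assoc] at h4
      rw [h4, comp_zero]
    haveI : Epi s' := by simp only [s']; infer_instance
    let g' : kernel q ⟶ cokernel j := i.preimage (Abelian.epiDesc s' (φ.f ≫ i.map (cokernel.π j)) hzero)
    have hg' : s' ≫ i.map g' = φ.f ≫ i.map (cokernel.π j) := by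
      simp only [g', i.map_preimage]; exact Abelian.comp_epiDesc _ _ _
    haveI := hΦ _ hιW
    haveI := hΦ _ hπW
    refine ⟨inv (L'.map (kernel.ι q)) ≫ L'.map g' ≫ inv (L'.map (cokernel.π j)), ?_⟩
    haveI : IsIso (L.map φ.s) := Localization.inverts L J.isoModSerre _ φ.hs
    have hsh : L.map φ.s ≫ h = L.map φ.f := by
      rw [hφ]; exact φ.map_s_comp_map _ _
    rw [Functor.map_comp, Functor.map_comp, Functor.map_inv, Functor.map_inv, IsIso.inv_comp_eq,
      ← Category.assoc, IsIso.comp_inv_eq]
    have nat : ∀ {X Y : A'} (r : X ⟶ Y), Φ.map (L'.map r) = e.hom.app X ≫ L.map (i.map r) ≫ e.inv.app Y :=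
      fun r => by
        have := e.hom.naturality r
        simp only [Functor.comp_map] at this
        rw [← reassoc_of% this, Iso.hom_inv_id_app]
        simp
    simp only [nat, Category.assoc, Iso.inv_hom_id_app_assoc]
    congr 1
    simp only [← Category.assoc]
    congr 1
    haveI : IsIso (L.map (i.map (kernel.ι q))) :=
      Localization.inverts L J.isoModSerre _ ((hW _).mp hιW)
    have hs'iso : IsIso (L.map s') := by
      have : IsIso (L.map s' ≫ L.map (i.map (kernel.ι q))) := by rw [← L.map_comp, hs']; infer_instance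
      exact IsIso.of_isIso_comp_right _ (L.map (i.map (kernel.ι q)))
    rw [← cancel_epi (L.map s'), ← L.map_comp, hg', L.map_comp, Category.assoc, ← L.map_comp_assoc, hs',
      reassoc_of% hsh]
  · have key : ∀ {X N : A'} (a b : X ⟶ N), Φ.map (L'.map a) = Φ.map (L'.map b) → L'.map a = L'.map b := by
      intro X N a b h
      have h' : L.map (i.map a) = L.map (i.map b) := by
        have na := e.hom.naturality a
        have nb := e.hom.naturality b
        simp only [Functor.comp_map] at na nb
        exact (cancel_epi (e.hom.app X)).mp (by rw [← na, ← nb, h])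
      obtain ⟨Z, r, hr, hrab⟩ := (MorphismProperty.map_eq_iff_precomp L J.isoModSerre _ _).mp h'
      have hJ : J (Abelian.image (i.map (a - b))) :=
        (ObjectProperty.exists_isoModSerre_comp_eq_zero_iff J _).mp
          ⟨Z, r, hr, by rw [i.map_sub, Preadditive.comp_sub, hrab, sub_self]⟩
      have hk : (J.inverseImage i).isoModSerre (kernel.ι (a - b)) := by
        rw [hW]
        have hco : J.isoModSerre (kernel.ι (i.map (a - b))) := by
          rw [ObjectProperty.isoModSerre_iff_of_mono]
          exact J.prop_of_iso (Abelian.coimageIsoImage _).symm hJ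
        rw [← kernelComparison_comp_ι (a - b) i]
        exact MorphismProperty.comp_mem _ _ _
          (by rw [ObjectProperty.isoModSerre_iff]; exact ⟨J.monoModSerre_of_mono _, J.epiModSerre_of_epi _⟩) hco
      exact (MorphismProperty.map_eq_iff_precomp L' (J.inverseImage i).isoModSerre a b).mpr
        ⟨_, _, hk, by rw [← sub_eq_zero, ← Preadditive.comp_sub, kernel.condition]⟩
    suffices H : ∀ (M N : A') (f g : L'.obj M ⟶ L'.obj N), Φ.map f = Φ.map g → f = g by
      refine ⟨fun {X Y f g} h => ?_⟩
      let eX := L'.objObjPreimageIso X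
      let eY := L'.objObjPreimageIso Y
      have := H _ _ (eX.hom ≫ f ≫ eY.inv) (eX.hom ≫ g ≫ eY.inv) (by simp [h])
      simpa using this
    intro M N f g h
    obtain ⟨φ, rfl⟩ := Localization.exists_rightFraction L' (J.inverseImage i).isoModSerre f
    haveI := hΦ _ φ.hs
    rw [← cancel_epi (L'.map φ.s), φ.map_s_comp_map]
    obtain ⟨ψ, hψ⟩ := Localization.exists_rightFraction L' (J.inverseImage i).isoModSerre (L'.map φ.s ≫ g)
    haveI := hΦ _ ψ.hs
    rw [hψ, ← cancel_epi (L'.map ψ.s), ψ.map_s_comp_map, ← L'.map_comp]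
    refine key _ _ ?_
    rw [← ψ.map_s_comp_map L' hinv, ← hψ, L'.map_comp, Φ.map_comp, Φ.map_comp, Φ.map_comp, ← h,
      ← Φ.map_comp (L'.map φ.s), φ.map_s_comp_map]

end Groth.Agent.S13989
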