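import Groth.Statements.S13990
import Groth.Agent.Devissage.Serre

set_option autoImplicit false
universe u
open CategoryTheory CategoryTheory.Limits AlgebraicGeometry Groth.Agent
open CohGab

namespace Groth.Agent.S13990

/-- Let X be a Noetherian scheme. Then Z ↦ Coh_Z(X), the coherent O_X-modules with support contained in
Z, is a bijection from the closed subsets of X onto the Serre subcategories of finite type of Coh(X)
(those generated, as Serre subcategories, by one object). Spelled out with Serre subcategories of
Coh(X) as properties P of O_X-modules such that in a short exact sequence of coherent modules the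
middle term has P iff both outer terms do: (a) for every closed Z, 'support ⊆ Z' is such a property
and there is a coherent F supported in Z such that every such property containing F contains all
coherent modules supported in Z; (b) for every such property P generated on coherent modules by one
coherent module F, there is exactly one closed Z with P(M) ⟺ Supp(M) ⊆ Z for all coherent M. (The
published statement is about coherent sheaves twisted by a class in the second etale cohomology
group of the units of the structure sheaf; this row is its case of the trivial class.) -/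
theorem result (X : Scheme.{u}) [IsNoetherian X] :
    (∀ Z : TopologicalSpace.Closeds X,
      (∀ S : ShortComplex X.Modules, S.ShortExact → Coh.IsCoh S.X₁ → Coh.IsCoh S.X₂ →
          Coh.IsCoh S.X₃ → (CohB1.support S.X₂ ⊆ (↑Z : Set X) ↔
            CohB1.support S.X₁ ⊆ (↑Z : Set X) ∧ CohB1.support S.X₃ ⊆ (↑Z : Set X))) ∧
      ∃ F : X.Modules, Coh.IsCoh F ∧ CohB1.support F ⊆ (↑Z : Set X) ∧
        ∀ Q : ObjectProperty X.Modules, (∀ S : ShortComplex X.Modules, S.ShortExact → Coh.IsCoh S.X₁ → Coh.IsCoh S.X₂ →
          Coh.IsCoh S.X₃ → (Q S.X₂ ↔ Q S.X₁ ∧ Q S.X₃)) → Q F →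
          ∀ M : X.Modules, Coh.IsCoh M → CohB1.support M ⊆ (↑Z : Set X) → Q M) ∧
    (∀ P : ObjectProperty X.Modules, (∀ S : ShortComplex X.Modules, S.ShortExact → Coh.IsCoh S.X₁ → Coh.IsCoh S.X₂ →
          Coh.IsCoh S.X₃ → (P S.X₂ ↔ P S.X₁ ∧ P S.X₃)) →
      (∃ F : X.Modules, Coh.IsCoh F ∧ P F ∧
        ∀ Q : ObjectProperty X.Modules, (∀ S : ShortComplex X.Modules, S.ShortExact → Coh.IsCoh S.X₁ → Coh.IsCoh S.X₂ →
          Coh.IsCoh S.X₃ → (Q S.X₂ ↔ Q S.X₁ ∧ Q S.X₃)) → Q F →
          ∀ M : X.Modules, Coh.IsCoh M → P M → Q M) →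
      ∃! Z : TopologicalSpace.Closeds X, ∀ M : X.Modules, Coh.IsCoh M →
        (P M ↔ CohB1.support M ⊆ (↑Z : Set X))) := by
  have hser : ∀ (Z : TopologicalSpace.Closeds X) (S : ShortComplex X.Modules), S.ShortExact →
      (CohB1.support S.X₂ ⊆ (↑Z : Set X) ↔ CohB1.support S.X₁ ⊆ (↑Z : Set X) ∧ CohB1.support S.X₃ ⊆ (↑Z : Set X)) :=
    fun Z S hS => by rw [ClSubLib.support_shortExact S hS, Set.union_subset_iff]
  have hex : ∀ Z : TopologicalSpace.Closeds X, ∃ F : X.Modules, Coh.IsCoh F ∧ CohB1.support F = (↑Z : Set X) := by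
    intro Z
    obtain ⟨S, hS, hZ⟩ := TopologicalSpace.NoetherianSpace.exists_finset_irreducible Z
    have hgen : ∀ j : S, ∃ ξ : X, closure ({ξ} : Set X) = ((j : TopologicalSpace.Closeds X) : Set X) := fun j => by
      obtain ⟨ξ, hξ⟩ := QuasiSober.sober (hS j) (j : TopologicalSpace.Closeds X).isClosed
      exact ⟨ξ, hξ⟩
    choose ξ hξ using hgen
    let e := (Fintype.equivFin S).symm
    let N : Fin (Fintype.card S) → X.Modules := fun i => Devissage.A (ξ (e i))
    have hp := fun i => Devissage.piece_A (ξ (e i))
    haveI : HasFiniteBiproducts X.Modules := HasFiniteBiproducts.of_hasFiniteProducts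
    refine ⟨⨁ N, Devissage.isCoh_biproduct N fun i => (hp i).coh, Set.Subset.antisymm (fun x hx => ?_) ?_⟩
    · by_contra hxZ
      refine (ClSubLib.notMem_support_iff_isZero _ x).2 ?_ hx
      have h0 : ∀ i, Limits.IsZero ((DerSch.stalkFunctor X x).obj (N i)) := fun i => by
        refine (ClSubLib.notMem_support_iff_isZero _ x).1 fun h => hxZ ?_
        have h' : x ∈ ((e i : TopologicalSpace.Closeds X) : Set X) := by
          rw [← hξ]
          exact (hp i).support_subset h
        have hle : (e i : TopologicalSpace.Closeds X) ≤ Z := by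
          rw [hZ]
          exact Finset.le_sup (f := id) (e i).2
        exact hle h'
      rw [Limits.IsZero.iff_id_eq_zero, ← CategoryTheory.Functor.map_id, ← Limits.biproduct.total,
        CategoryTheory.Functor.map_sum]
      exact Finset.sum_eq_zero fun i _ => by
        rw [CategoryTheory.Functor.map_comp, (h0 i).eq_of_tgt ((DerSch.stalkFunctor X x).map (Limits.biproduct.π N i)) 0,
          Limits.zero_comp]
    · intro x hx
      rw [hZ] at hx
      obtain ⟨W, hW, hxW⟩ : ∃ W ∈ S, x ∈ (W : Set X) := by
        clear hZ hS ξ hξ e N hp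
        classical
        induction S using Finset.induction with
        | empty => simp at hx
        | insert a s ha ih =>
          rw [Finset.sup_insert, id, TopologicalSpace.Closeds.coe_sup] at hx
          rcases hx with hx | hx
          · exact ⟨a, by simp, hx⟩
          · obtain ⟨W, hW, h⟩ := ih hx
            exact ⟨W, by simp [hW], h⟩
      refine closure_minimal (Set.singleton_subset_iff.2 ?_)
        (Devissage.isClosed_support' (Devissage.isCoh_biproduct N fun i => (hp i).coh)) ((hξ ⟨W, hW⟩).symm ▸ hxW)
      refine Devissage.support_subset_of_mono (Limits.biproduct.ι N (e.symm ⟨W, hW⟩)) ?_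
      have h := (hp (e.symm ⟨W, hW⟩)).mem
      simp only [N, Equiv.apply_symm_apply] at h ⊢
      exact h
  refine ⟨fun Z => ⟨fun S hS _ _ _ => hser Z S hS, ?_⟩, fun P hP ⟨F, hF, hPF, hgen⟩ => ?_⟩
  · obtain ⟨F, hF, hFs⟩ := hex Z
    exact ⟨F, hF, hFs.subset, fun Q hQ hQF M hM hMs =>
      Devissage.serre_closure (fun M => Q M) F hF hQF hQ M hM (hMs.trans hFs.superset)⟩
  · refine ⟨⟨CohB1.support F, Devissage.isClosed_support' hF⟩, fun M hM => ⟨fun hPM => ?_, fun hMs => ?_⟩, fun Z hZ => ?_⟩
    · exact hgen (fun M => CohB1.support M ⊆ CohB1.support F)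
        (fun S hS _ _ _ => hser ⟨_, Devissage.isClosed_support' hF⟩ S hS) subset_rfl M hM hPM
    · exact Devissage.serre_closure (fun M => P M) F hF hPF hP M hM hMs
    · obtain ⟨G, hG, hGs⟩ := hex Z
      refine le_antisymm ?_ ((hZ F hF).1 hPF)
      have h := hgen (fun M => CohB1.support M ⊆ CohB1.support F)
        (fun S hS _ _ _ => hser ⟨_, Devissage.isClosed_support' hF⟩ S hS) subset_rfl G hG ((hZ G hG).2 hGs.subset)
      exact fun x hx => h (hGs.superset hx)

end Groth.Agent.S13990
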