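import Groth.Statements.S13991
import Groth.Agent.Devissage.Serre

set_option autoImplicit false
universe u
open CategoryTheory AlgebraicGeometry
open CohGab

namespace Groth.Agent.S13991

/-- Let X be a Noetherian scheme and Z ⊆ X a closed subset. Then Z is irreducible (or empty) if and only
if Coh_Z(X), the coherent O_X-modules supported in Z, is an irreducible Serre subcategory of Coh(X),
i.e. it is not generated as a Serre subcategory by two Serre subcategories properly contained in it:
whenever J₁, J₂ are Serre classes on coherent modules (middle term of a short exact sequence of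
coherent modules belongs iff both outer terms do), both contained in Coh_Z, such that every Serre
class on coherent modules containing J₁ and J₂ contains Coh_Z, then J₁ or J₂ contains Coh_Z.
Consequently the points of X correspond to the irreducible Serre subcategories of finite type other
than the zero subcategory. (The published statement says 'Z is irreducible iff Coh_Z is irreducible'
and deduces a bijection between the points of X and all irreducible Serre subcategories of finite
type; the zero subcategory Coh_∅ is irreducible in this sense while ∅ is not an irreducible space,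
so irreducibility of Z is read here as 'irreducible or empty'. The published statement is also about
coherent sheaves twisted by a class in the second etale cohomology group of the units of the
structure sheaf; this row is its case of the trivial class.) -/
theorem result (X : Scheme.{u}) [IsNoetherian X]
    (Z : TopologicalSpace.Closeds X) :
    IsPreirreducible (↑Z : Set X) ↔
    ∀ J₁ J₂ : ObjectProperty X.Modules, (∀ S : ShortComplex X.Modules, S.ShortExact → Coh.IsCoh S.X₁ → Coh.IsCoh S.X₂ →
        Coh.IsCoh S.X₃ → (J₁ S.X₂ ↔ J₁ S.X₁ ∧ J₁ S.X₃)) → (∀ S : ShortComplex X.Modules, S.ShortExact → Coh.IsCoh S.X₁ → Coh.IsCoh S.X₂ →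
        Coh.IsCoh S.X₃ → (J₂ S.X₂ ↔ J₂ S.X₁ ∧ J₂ S.X₃)) →
      (∀ M : X.Modules, Coh.IsCoh M → J₁ M → CohB1.support M ⊆ (↑Z : Set X)) →
      (∀ M : X.Modules, Coh.IsCoh M → J₂ M → CohB1.support M ⊆ (↑Z : Set X)) →
      (∀ Q : ObjectProperty X.Modules, (∀ S : ShortComplex X.Modules, S.ShortExact → Coh.IsCoh S.X₁ → Coh.IsCoh S.X₂ →
        Coh.IsCoh S.X₃ → (Q S.X₂ ↔ Q S.X₁ ∧ Q S.X₃)) →
        (∀ M : X.Modules, Coh.IsCoh M → J₁ M → Q M) → (∀ M : X.Modules, Coh.IsCoh M → J₂ M → Q M) →
        ∀ M : X.Modules, Coh.IsCoh M → CohB1.support M ⊆ (↑Z : Set X) → Q M) →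
      (∀ M : X.Modules, Coh.IsCoh M → CohB1.support M ⊆ (↑Z : Set X) → J₁ M) ∨
        (∀ M : X.Modules, Coh.IsCoh M → CohB1.support M ⊆ (↑Z : Set X) → J₂ M) := by
  have hcl : ∀ ξ ∈ (↑Z : Set X), (closure {ξ} : Set X) ⊆ ↑Z := fun ξ hξ =>
    closure_minimal (Set.singleton_subset_iff.2 hξ) Z.isClosed
  constructor
  · intro hirr J₁ J₂ h1 h2 hs1 hs2 hQ
    obtain hZ | hne := (↑Z : Set X).eq_empty_or_nonempty
    · -- every module supported in the empty set is zero
      by_cases hJ : ∃ F, Coh.IsCoh F ∧ (J₁ F ∨ J₂ F)
      · obtain ⟨F, hF, hF'⟩ := hJ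
        rcases hF' with h | h
        · exact Or.inl fun M hM hMs => Groth.Agent.Devissage.serre_closure (fun M => J₁ M) F hF h h1 M hM
            (fun x hx => absurd (hZ ▸ hMs hx : x ∈ (∅ : Set X)) (Set.notMem_empty x))
        · exact Or.inr fun M hM hMs => Groth.Agent.Devissage.serre_closure (fun M => J₂ M) F hF h h2 M hM
            (fun x hx => absurd (hZ ▸ hMs hx : x ∈ (∅ : Set X)) (Set.notMem_empty x))
      · exact Or.inl fun M hM hMs => (hQ (fun _ => False) (fun S _ _ _ _ => iff_of_false id fun h => h.1)
          (fun M hM h => hJ ⟨M, hM, Or.inl h⟩) (fun M hM h => hJ ⟨M, hM, Or.inr h⟩) M hM hMs).elim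
    · obtain ⟨η, hη⟩ := quasiSober_iff _ |>.1 inferInstance ⟨hne, hirr⟩ Z.isClosed
      let U : Set X := {x | ∃ M, Coh.IsCoh M ∧ (J₁ M ∨ J₂ M) ∧ x ∈ CohB1.support M}
      have hA := Groth.Agent.Devissage.piece_A η
      have h : η ∈ U := hQ (fun M => CohB1.support M ⊆ U)
        (fun S hS _ _ _ => by rw [ClSubLib.support_shortExact S hS, Set.union_subset_iff])
        (fun M hM h x hx => ⟨M, hM, Or.inl h, hx⟩) (fun M hM h x hx => ⟨M, hM, Or.inr h, hx⟩)
        _ hA.coh (hA.support_subset.trans (hcl η hη.mem)) hA.mem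
      obtain ⟨F, hF, hF', hηF⟩ := h
      have hsupp : (↑Z : Set X) ⊆ CohB1.support F := by
        rw [← hη]
        exact closure_minimal (Set.singleton_subset_iff.2 hηF) (Groth.Agent.Devissage.isClosed_support' hF)
      rcases hF' with h | h
      · exact Or.inl fun M hM hMs => Groth.Agent.Devissage.serre_closure (fun M => J₁ M) F hF h h1 M hM (hMs.trans hsupp)
      · exact Or.inr fun M hM hMs => Groth.Agent.Devissage.serre_closure (fun M => J₂ M) F hF h h2 M hM (hMs.trans hsupp)
  · intro h
    rw [isPreirreducible_iff_isClosed_union_isClosed]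
    intro z₁ z₂ hz₁ hz₂ hZ
    have hser : ∀ (z : Set X) (S : ShortComplex X.Modules), S.ShortExact →
        (CohB1.support S.X₂ ⊆ ↑Z ∩ z ↔ CohB1.support S.X₁ ⊆ ↑Z ∩ z ∧ CohB1.support S.X₃ ⊆ ↑Z ∩ z) :=
      fun z S hS => by rw [ClSubLib.support_shortExact S hS, Set.union_subset_iff]
    have hall := h (fun M => CohB1.support M ⊆ ↑Z ∩ z₁) (fun M => CohB1.support M ⊆ ↑Z ∩ z₂)
      (fun S hS _ _ _ => hser z₁ S hS) (fun S hS _ _ _ => hser z₂ S hS)
      (fun M _ hM => hM.trans Set.inter_subset_left) (fun M _ hM => hM.trans Set.inter_subset_left) (by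
        intro Q hQ hQ1 hQ2 M hM hMs
        refine Groth.Agent.Devissage.serre_of_pieces (fun M => Q M) Z hQ (fun N hN => ?_) (fun ξ hξ R hR => ?_) M hM hMs
        · intro hNc
          refine hQ1 N hNc ?_
          show CohB1.support N ⊆ _
          rw [Groth.Agent.Devissage.support_of_isZero hN]; exact Set.empty_subset _
        · rcases hZ hξ with h' | h'
          · exact hQ1 R hR.coh (hR.support_subset.trans (Set.subset_inter (hcl ξ hξ)
              (closure_minimal (Set.singleton_subset_iff.2 h') hz₁)))
          · exact hQ2 R hR.coh (hR.support_subset.trans (Set.subset_inter (hcl ξ hξ)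
              (closure_minimal (Set.singleton_subset_iff.2 h') hz₂))))
    rcases hall with h' | h'
    · exact Or.inl fun ξ hξ => (h' _ (Groth.Agent.Devissage.piece_A ξ).coh
        ((Groth.Agent.Devissage.piece_A ξ).support_subset.trans (hcl ξ hξ)) (Groth.Agent.Devissage.piece_A ξ).mem).2
    · exact Or.inr fun ξ hξ => (h' _ (Groth.Agent.Devissage.piece_A ξ).coh
        ((Groth.Agent.Devissage.piece_A ξ).support_subset.trans (hcl ξ hξ)) (Groth.Agent.Devissage.piece_A ξ).mem).2

end Groth.Agent.S13991
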