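import Groth.Statements.S13993
import Mathlib
-- import your own Groth.Agent.* helpers here

set_option autoImplicit false
universe u
open CategoryTheory
open CAlg

namespace Groth.Agent.S13993

section aux

variable {k A : Type u} [Field k] [CommRing A] [Algebra k A] (x y : A)

theorem finrank_ext_one (hxy : x * y = 0) (hann : ∀ a, a * y = 0 → x ∣ a)
    (hdec : ∀ a : A, ∃ (c : k) (b b' : A), a = algebraMap k A c + x * b + y * b')
    (hne : ∀ b b' : A, x * b + y * b' ≠ 1) :
    Module.finrank k (Abelian.Ext (ModuleCat.of A (A ⧸ Ideal.span {y})) (ModuleCat.of A (A ⧸ Ideal.span {x})) 1) = 1 := by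
  let N := A ⧸ Ideal.span {x}
  let f : N →ₗ[A] A := Submodule.liftQ (Ideal.span {x}) (LinearMap.mulRight A y) (by
    rw [Ideal.span, Submodule.span_singleton_le_iff_mem, LinearMap.mem_ker, LinearMap.mulRight_apply, hxy])
  let g : A →ₗ[A] A ⧸ Ideal.span {y} := (Ideal.span {y}).mkQ
  have hf : ∀ a : A, f (Ideal.Quotient.mk _ a) = a * y := fun a => rfl
  let S : ShortComplex (ModuleCat.{u} A) := ModuleCat.shortComplexOfCompEqZero f g (LinearMap.ext fun n => by
    obtain ⟨a, rfl⟩ := Ideal.Quotient.mk_surjective n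
    rw [LinearMap.comp_apply, hf, LinearMap.zero_apply]
    exact (Submodule.Quotient.mk_eq_zero _).2 (Ideal.mem_span_singleton.2 ⟨a, mul_comm _ _⟩))
  have hS : S.ShortExact := by
    refine ModuleCat.shortComplex_shortExact S ?_ ?_ (Submodule.mkQ_surjective _)
    · intro z
      constructor
      · intro hz
        obtain ⟨a, rfl⟩ := Ideal.mem_span_singleton.1 ((Submodule.Quotient.mk_eq_zero _).1 hz)
        exact ⟨Ideal.Quotient.mk _ a, mul_comm a y⟩
      · rintro ⟨n, rfl⟩
        obtain ⟨a, rfl⟩ := Ideal.Quotient.mk_surjective n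
        exact (Submodule.Quotient.mk_eq_zero _).2 (Ideal.mem_span_singleton.2 ⟨a, mul_comm _ _⟩)
    · refine (injective_iff_map_eq_zero f).2 fun n hn => ?_
      obtain ⟨a, rfl⟩ := Ideal.Quotient.mk_surjective n
      rw [hf] at hn
      exact (Ideal.Quotient.eq_zero_iff_dvd _ _).2 (hann a hn)
  refine finrank_eq_one hS.extClass ?_ ?_
  · intro h0
    obtain ⟨x₂, hx₂⟩ := Abelian.Ext.contravariant_sequence_exact₁ hS (ModuleCat.of A N)
      (Abelian.Ext.mk₀ (𝟙 (ModuleCat.of A N))) (rfl : 1 + 0 = 1) (by rw [h0, Abelian.Ext.zero_comp])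
    obtain ⟨h, rfl⟩ := (Abelian.Ext.mk₀_bijective _ _).2 x₂
    rw [Abelian.Ext.mk₀_comp_mk₀] at hx₂
    have h1 := congrArg (fun φ : ModuleCat.of A N ⟶ ModuleCat.of A N => φ.hom (Ideal.Quotient.mk _ 1))
      ((Abelian.Ext.mk₀_bijective _ _).1 hx₂)
    obtain ⟨b, hb⟩ := Ideal.Quotient.mk_surjective (h.hom (1 : A))
    have h2 : h.hom (f (Ideal.Quotient.mk _ 1)) = Ideal.Quotient.mk _ (1 : A) := h1
    rw [hf, one_mul, show y = y • (1 : A) from (mul_one y).symm, map_smul, ← hb,
      show y • Ideal.Quotient.mk (Ideal.span {x}) b = Ideal.Quotient.mk (Ideal.span {x}) (y * b) from rfl,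
      Ideal.Quotient.eq, Ideal.mem_span_singleton] at h2
    obtain ⟨t, ht⟩ := h2
    exact hne (-t) b (by linear_combination ht)
  · intro w
    haveI : Projective S.X₂ := IsProjective.iff_projective (R := A) (P := A) |>.1 inferInstance
    obtain ⟨x₁, rfl⟩ := Abelian.Ext.contravariant_sequence_exact₃ hS (ModuleCat.of A N) w
      (Abelian.Ext.eq_zero_of_projective _) (rfl : 1 + 0 = 1)
    obtain ⟨φ, rfl⟩ := (Abelian.Ext.mk₀_bijective _ _).2 x₁
    obtain ⟨a, ha⟩ := Ideal.Quotient.mk_surjective (φ.hom (Ideal.Quotient.mk _ (1 : A)))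
    obtain ⟨c, b, b', hab⟩ := hdec a
    refine ⟨c, ?_⟩
    let h : S.X₂ ⟶ ModuleCat.of A N := ModuleCat.ofHom ((LinearMap.toSpanSingleton A N (Ideal.Quotient.mk _ b')))
    have hφ : φ = c • 𝟙 (ModuleCat.of A N) + S.f ≫ h := by
      refine ModuleCat.hom_ext (LinearMap.ext fun n => ?_)
      obtain ⟨r, rfl⟩ := Ideal.Quotient.mk_surjective n
      have e1 : φ.hom (Ideal.Quotient.mk _ r) = Ideal.Quotient.mk _ (r * a) := by
        rw [show Ideal.Quotient.mk (Ideal.span {x}) r = r • Ideal.Quotient.mk (Ideal.span {x}) (1 : A) from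
          (congrArg _ (mul_one r).symm).trans rfl, map_smul, ← ha]
        rfl
      refine e1.trans ?_
      show _ = c • Ideal.Quotient.mk (Ideal.span {x}) r + (r * y) • Ideal.Quotient.mk (Ideal.span {x}) b'
      rw [show c • Ideal.Quotient.mk (Ideal.span {x}) r = Ideal.Quotient.mk (Ideal.span {x}) (c • r) from rfl,
        show (r * y) • Ideal.Quotient.mk (Ideal.span {x}) b' = Ideal.Quotient.mk (Ideal.span {x}) ((r * y) * b') from rfl,
        ← map_add, Ideal.Quotient.eq, Ideal.mem_span_singleton, hab, Algebra.smul_def]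
      exact ⟨r * b, by ring⟩
    rw [hφ, Abelian.Ext.mk₀_add, Abelian.Ext.comp_add, ← Abelian.Ext.mk₀_comp_mk₀, hS.extClass_comp_assoc, add_zero]
    refine (Abelian.Ext.smul_eq_comp_mk₀ hS.extClass c).trans (congrArg (fun e => hS.extClass.comp (Abelian.Ext.mk₀ e) (add_zero 1)) ?_)
    exact ModuleCat.hom_ext (LinearMap.ext fun n => algebra_compatible_smul A c n |>.symm)

end aux

/-- Let k be a field and A = k[[x,y]]/(xy) the complete local ring of a node, with branch rings A/(y)
and A/(x) viewed as A-modules. Then the first Ext group Ext¹_A(A/(y), A/(x)) has dimension one over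
k. (The published statement is for the local ring at a node of a reduced curve over an algebraically
closed field of characteristic zero, a node being a point whose complete local ring is A; this row
states the case of the complete local ring A itself, over an arbitrary field.) -/
theorem result (k : Type u) [Field k] : Module.finrank k (Abelian.Ext (ModuleCat.of (MvPowerSeries (Fin 2) k ⧸ Ideal.span {(MvPowerSeries.X (0 : Fin 2) : MvPowerSeries (Fin 2) k) * MvPowerSeries.X (1 : Fin 2)}) ((MvPowerSeries (Fin 2) k ⧸ Ideal.span {(MvPowerSeries.X (0 : Fin 2) : MvPowerSeries (Fin 2) k) * MvPowerSeries.X (1 : Fin 2)}) ⧸ Ideal.span {Ideal.Quotient.mk (Ideal.span {(MvPowerSeries.X (0 : Fin 2) : MvPowerSeries (Fin 2) k) * MvPowerSeries.X (1 : Fin 2)}) (MvPowerSeries.X (1 : Fin 2))})) (ModuleCat.of (MvPowerSeries (Fin 2) k ⧸ Ideal.span {(MvPowerSeries.X (0 : Fin 2) : MvPowerSeries (Fin 2) k) * MvPowerSeries.X (1 : Fin 2)}) ((MvPowerSeries (Fin 2) k ⧸ Ideal.span {(MvPowerSeries.X (0 :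 Fin 2) : MvPowerSeries (Fin 2) k) * MvPowerSeries.X (1 : Fin 2)}) ⧸ Ideal.span {Ideal.Quotient.mk (Ideal.span {(MvPowerSeries.X (0 : Fin 2) : MvPowerSeries (Fin 2) k) * MvPowerSeries.X (1 : Fin 2)}) (MvPowerSeries.X (0 : Fin 2))})) 1) = 1 := by
  set P := MvPowerSeries (Fin 2) k
  set X₀ : P := MvPowerSeries.X (0 : Fin 2)
  set X₁ : P := MvPowerSeries.X (1 : Fin 2)
  refine finrank_ext_one (k := k) (Ideal.Quotient.mk _ X₀) (Ideal.Quotient.mk _ X₁) ?_ ?_ ?_ ?_
  · rw [← map_mul]; exact Ideal.Quotient.eq_zero_iff_mem.2 (Ideal.mem_span_singleton_self _)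
  · intro a ha
    obtain ⟨a, rfl⟩ := Ideal.Quotient.mk_surjective a
    rw [← map_mul, Ideal.Quotient.eq_zero_iff_mem, Ideal.mem_span_singleton] at ha
    obtain ⟨t, ht⟩ := ha
    have hX : X₁ ≠ 0 := fun h => by
      classical
      simpa [X₁] using congrArg (MvPowerSeries.coeff (Finsupp.single (1 : Fin 2) 1)) h
    exact map_dvd _ ⟨t, mul_right_cancel₀ hX (by rw [ht]; ring)⟩
  · intro a
    obtain ⟨a, rfl⟩ := Ideal.Quotient.mk_surjective a
    obtain ⟨b, b', hb⟩ : ∃ b b', a - MvPowerSeries.C (MvPowerSeries.constantCoeff a) = X₀ * b + X₁ * b' := by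
      classical
      set f : P := a - MvPowerSeries.C (MvPowerSeries.constantCoeff a) with hf
      let g : P := fun n => if n 0 = 0 then MvPowerSeries.coeff n f else 0
      have hg : ∀ n, MvPowerSeries.coeff n g = if n 0 = 0 then MvPowerSeries.coeff n f else 0 := fun n => rfl
      obtain ⟨b, hb⟩ := MvPowerSeries.X_dvd_iff.2 (show ∀ n : Fin 2 →₀ ℕ, n 0 = 0 → MvPowerSeries.coeff n (f - g) = 0 from
        fun n hn => by rw [map_sub, hg, if_pos hn, sub_self])
      obtain ⟨b', hb'⟩ := MvPowerSeries.X_dvd_iff.2 (show ∀ n : Fin 2 →₀ ℕ, n 1 = 0 → MvPowerSeries.coeff n g = 0 from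
        fun n hn => by
          rw [hg]
          split_ifs with h0
          · have : n = 0 := Finsupp.ext fun i => by fin_cases i <;> simp [h0, hn]
            rw [this, MvPowerSeries.coeff_zero_eq_constantCoeff_apply, hf, map_sub, MvPowerSeries.constantCoeff_C, sub_self]
          · rfl)
      exact ⟨b, b', by rw [← hb, ← hb', sub_add_cancel]⟩
    refine ⟨MvPowerSeries.constantCoeff a, Ideal.Quotient.mk _ b, Ideal.Quotient.mk _ b', ?_⟩
    rw [← Ideal.Quotient.mk_algebraMap, ← map_mul, ← map_mul, ← map_add, ← map_add]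
    congr 1
    rw [sub_eq_iff_eq_add'] at hb
    exact hb.trans (by rw [add_assoc]; rfl)
  · intro b b'
    obtain ⟨b, rfl⟩ := Ideal.Quotient.mk_surjective b
    obtain ⟨b', rfl⟩ := Ideal.Quotient.mk_surjective b'
    intro h
    rw [← map_mul, ← map_mul, ← map_add, ← map_one (Ideal.Quotient.mk _), Ideal.Quotient.eq, Ideal.mem_span_singleton] at h
    obtain ⟨t, ht⟩ := h
    have := congrArg MvPowerSeries.constantCoeff ht
    simp [X₀, X₁] at this

end Groth.Agent.S13993
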