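import Groth.Statements.S13995
import Mathlib.RingTheory.Ideal.AssociatedPrime.Finiteness
import Mathlib.RingTheory.Support
import Mathlib.LinearAlgebra.FiniteDimensional.Basic
import Mathlib.LinearAlgebra.FiniteDimensional.Lemmas
import Mathlib.RingTheory.Localization.Ideal
import Mathlib.RingTheory.LocalProperties.Reduced
import Mathlib.RingTheory.Localization.Finiteness
import Mathlib.RingTheory.Spectrum.Prime.Topology

set_option autoImplicit false
universe u
open CAlg

namespace Groth.Agent.S13995

/-- Let R be a reduced Noetherian ring, M a finitely generated R-module all of whose associated primes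
are minimal primes of R and whose localization at each minimal prime p is one-dimensional over the
field R_p, and let g : M → Q be a surjection onto a finitely generated R-module Q all of whose
associated primes are minimal primes of R. Then the kernel of g is the intersection, over the
minimal primes p of R lying in the support of Q, of the kernels of the localization maps M → M_p.
(The published statement is for a torsion-free coherent sheaf F of uniform rank one on a reduced
connected projective curve over a characteristic-zero algebraically closed field: its non-zero
torsion-free quotients are exactly the maximal torsion-free quotients F_D of the restrictions of F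
to subcurves D; this row is the corresponding statement for modules over a reduced Noetherian ring,
a subcurve being a set of minimal primes, and identifies each torsion-free quotient with F_D for D
the set of generic points of its support.) -/
theorem result (R : Type u) [CommRing R] [IsNoetherianRing R] [IsReduced R] (M : Type u) [AddCommGroup M] [Module R M] [Module.Finite R M] (hM : associatedPrimes R M ⊆ minimalPrimes R) (hrk : ∀ p : PrimeSpectrum R, p.asIdeal ∈ minimalPrimes R → Module.finrank (Localization.AtPrime p.asIdeal) (LocalizedModule p.asIdeal.primeCompl M) = 1) (Q : Type u) [AddCommGroup Q] [Module R Q] [Module.Finite R Q] (hQ : associatedPrimes R Q ⊆ minimalPrimes R) (g : M →ₗ[R] Q) (hg : Function.Surjective g) : LinearMap.ker g = ⨅ p ∈ {p : PrimeSpectrum R | p.asIdeal ∈ minimalPrimes R ∧ p ∈ Module.support R Q}, LinearMap.ker (LocalizedModule.mkLinearMap p.asIdeal.primeCompl M) := by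
  classical
  refine le_antisymm ?_ ?_
  · intro m hm
    simp only [Submodule.mem_iInf]
    intro p hp
    obtain ⟨hmin, hsupp⟩ := hp
    let S := p.asIdeal.primeCompl
    let gp := LocalizedModule.map S g
    have hgs : Function.Surjective gp := LocalizedModule.map_surjective S g hg
    haveI := IsLocalization.subsingleton_primeSpectrum_of_mem_minimalPrimes p.asIdeal hmin (Localization.AtPrime p.asIdeal)
    haveI : IsReduced (Localization.AtPrime p.asIdeal) := inferInstanceAs (IsReduced (Localization p.asIdeal.primeCompl))
    have hF : IsField (Localization.AtPrime p.asIdeal) := by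
      rw [IsLocalRing.isField_iff_maximalIdeal_eq, eq_bot_iff]
      intro x hx
      refine (IsNilpotent.eq_zero (nilpotent_iff_mem_prime.mpr fun J hJ => ?_) : x = 0)
      have := congrArg PrimeSpectrum.asIdeal (Subsingleton.elim (⟨J, hJ⟩ : PrimeSpectrum (Localization.AtPrime p.asIdeal)) (IsLocalRing.closedPoint _))
      rw [show J = _ from this]
      exact hx
    letI := hF.toField
    haveI : Nontrivial (LocalizedModule S Q) := Module.mem_support_iff.mp hsupp
    haveI : Module.Finite (Localization.AtPrime p.asIdeal) (LocalizedModule S M) := inferInstance
    have hinj : Function.Injective gp := by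
      haveI : Module.Finite (Localization.AtPrime p.asIdeal) (LocalizedModule S Q) := inferInstance
      refine (LinearMap.injective_iff_surjective_of_finrank_eq_finrank ?_).mpr hgs
      refine le_antisymm ?_ (LinearMap.finrank_le_finrank_of_surjective hgs)
      rw [hrk p hmin]
      exact Module.finrank_pos
    refine LinearMap.mem_ker.mpr (hinj ?_)
    rw [map_zero, LocalizedModule.mkLinearMap_apply, LocalizedModule.map_mk, LinearMap.mem_ker.mp hm, LocalizedModule.zero_mk]
  · intro m hm
    by_contra hne
    rw [LinearMap.mem_ker] at hne
    obtain ⟨P, hP, hle⟩ := exists_le_isAssociatedPrime_of_isNoetherianRing R (g m) hne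
    have hPmin : P ∈ minimalPrimes R := hQ hP
    obtain ⟨p, rfl⟩ : ∃ p : PrimeSpectrum R, p.asIdeal = P := ⟨⟨P, IsAssociatedPrime.isPrime hP⟩, rfl⟩
    have hps : p ∈ Module.support R Q := Module.mem_support_iff_exists_annihilator.mpr ⟨g m, fun r hr => hle (by
      rw [Submodule.mem_annihilator_span_singleton] at hr
      simpa using hr)⟩
    simp only [Submodule.mem_iInf] at hm
    have h0 := LinearMap.mem_ker.mp (hm p ⟨hPmin, hps⟩)
    obtain ⟨⟨s, hs⟩, hs0⟩ := (IsLocalizedModule.eq_zero_iff p.asIdeal.primeCompl (LocalizedModule.mkLinearMap p.asIdeal.primeCompl M)).mp h0
    refine hs (hle ?_)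
    have : s • g m = 0 := by
      rw [← map_smul, show s • m = 0 from hs0, map_zero]
    simpa using this

end Groth.Agent.S13995
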