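import Groth.Statements.S13996
import Mathlib.RingTheory.Ideal.AssociatedPrime.Finiteness
import Mathlib.RingTheory.Regular.IsSMulRegular
import Mathlib.RingTheory.KrullDimension.Basic
import Mathlib.RingTheory.Ideal.MinimalPrime.Noetherian
import Mathlib.RingTheory.Ideal.MinimalPrime.Localization
import Mathlib.RingTheory.Ideal.Height
import Mathlib.RingTheory.KrullDimension.Zero

set_option autoImplicit false
universe u
open CAlg

namespace Groth.Agent.S13996

/-- Let R be a reduced Noetherian local ring of Krull dimension one with maximal ideal m, and M a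
non-zero finitely generated R-module. Then M is torsion-free in the sense that no element of m which
is a non-zero-divisor on R is a zero-divisor on M, if and only if M has depth one, i.e. some element
of m is a non-zero-divisor on M. (The published statement is for a non-zero coherent sheaf F on a
connected reduced projective curve over a characteristic-zero algebraically closed field and asserts
the equivalence of: F torsion-free in the above sense at every closed point; F pure of dimension
one; depth of F_p equal to one at every closed point p. This row is the equivalence of the first and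
third conditions at a single closed point p with F_p ≠ 0; at points outside the support the third
condition as published cannot hold, so the row assumes the stalk non-zero.) -/
theorem result (R : Type u) [CommRing R] [IsLocalRing R] [IsNoetherianRing R] [IsReduced R] (hdim : ringKrullDim R = 1) (M : Type u) [AddCommGroup M] [Module R M] [Module.Finite R M] [Nontrivial M] : (∀ r : R, r ∈ IsLocalRing.maximalIdeal R → IsSMulRegular R r → IsSMulRegular M r) ↔ (∃ x : R, x ∈ IsLocalRing.maximalIdeal R ∧ IsSMulRegular M x) := by
  classical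
  set m := IsLocalRing.maximalIdeal R with hm
  have hfin := Ideal.finite_minimalPrimes_of_isNoetherianRing R (⊥ : Ideal R)
  have hred : ∀ r : R, (∀ p ∈ minimalPrimes R, r ∉ p) → IsSMulRegular R r := by
    intro r hr
    rw [isSMulRegular_iff_right_eq_zero_of_smul]
    intro x hx
    refine IsReduced.eq_zero x ?_
    rw [nilpotent_iff_mem_prime]
    intro P hP
    obtain ⟨q, hq, hqP⟩ := Ideal.exists_minimalPrimes_le (J := P) (I := (⊥ : Ideal R)) bot_le
    exact hqP ((hq.1.1.mem_or_mem (show r * x ∈ q by rw [← smul_eq_mul, hx]; exact q.zero_mem)).resolve_left (hr q hq))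
  have hnotmin : m ∉ minimalPrimes R := by
    intro hmin
    have h0 : Ring.KrullDimLE 0 R := Ring.krullDimLE_zero_iff.2 fun P hP => by
      have hle : P ≤ m := IsLocalRing.le_maximalIdeal hP.ne_top
      rw [le_antisymm hle (hmin.2 ⟨hP, bot_le⟩ hle)]
      exact IsLocalRing.maximalIdeal.isMaximal R
    rw [(ringKrullDimZero_iff_ringKrullDim_eq_zero).1 h0] at hdim
    exact zero_ne_one hdim
  constructor
  · intro h
    obtain ⟨r, hr, hrp⟩ : ∃ r ∈ m, ∀ p ∈ minimalPrimes R, r ∉ p := by
      by_contra hne
      push Not at hne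
      have hsub : (m : Set R) ⊆ ⋃ q ∈ (hfin.toFinset : Set (Ideal R)), (q : Set R) := fun x hx => by
        obtain ⟨p, hp, hxp⟩ := hne x hx
        simp only [Set.mem_iUnion]
        exact ⟨p, hfin.mem_toFinset.2 hp, hxp⟩
      obtain ⟨q, hq, hle⟩ := (Ideal.subset_union_prime ⊥ ⊥ fun q hq _ _ => (hfin.mem_toFinset.1 hq).1.1).1 hsub
      have hq' := hfin.mem_toFinset.1 hq
      have heq : q = m := le_antisymm (IsLocalRing.le_maximalIdeal hq'.1.1.ne_top) hle
      exact hnotmin (heq ▸ hq')
    exact ⟨r, hr, h r hr (hred r hrp)⟩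
  · rintro ⟨x, hx, hxM⟩ r hr hrR
    have hcomp := biUnion_associatedPrimes_eq_compl_regular R M
    by_contra hrM
    have h1 : r ∈ ⋃ p ∈ associatedPrimes R M, (p : Set R) := by rw [hcomp]; exact hrM
    simp only [Set.mem_iUnion] at h1
    obtain ⟨p, hp, hrp⟩ := h1
    have hpp : p.IsPrime := hp.1
    have hxp : x ∉ p := fun h => by
      have h2 : x ∈ ⋃ p ∈ associatedPrimes R M, (p : Set R) := Set.mem_biUnion hp h
      rw [hcomp] at h2
      exact h2 hxM
    -- `p` is not maximal, hence minimal in dimension one
    obtain ⟨q, hq, hqp⟩ := Ideal.exists_minimalPrimes_le (J := p) (I := (⊥ : Ideal R)) bot_le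
    have hqeq : q = p := by
      by_contra hne
      have hlt : (⟨q, hq.1.1⟩ : PrimeSpectrum R) < ⟨p, hpp⟩ := lt_of_le_of_ne hqp fun h => hne (congrArg PrimeSpectrum.asIdeal h)
      have hlt' : (⟨p, hpp⟩ : PrimeSpectrum R) < ⟨m, inferInstance⟩ := lt_of_le_of_ne (IsLocalRing.le_maximalIdeal hpp.ne_top) fun h => hxp (by rw [show p = m from congrArg PrimeSpectrum.asIdeal h]; exact hx)
      have h3 : ((2 : ℕ) : WithBot ℕ∞) ≤ ringKrullDim R := Order.LTSeries.length_le_krullDim
        (((RelSeries.singleton _ (⟨q, hq.1.1⟩ : PrimeSpectrum R)).snoc ⟨p, hpp⟩ hlt).snoc ⟨m, inferInstance⟩ (by rw [RelSeries.last_snoc]; exact hlt'))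
      rw [hdim] at h3
      exact absurd (WithBot.coe_le_coe.1 h3 : ((2 : ℕ) : ℕ∞) ≤ ((1 : ℕ) : ℕ∞)) (by norm_num)
    subst hqeq
    have h4 : r ∈ (nonZeroDivisors R : Set R) := mem_nonZeroDivisors_iff_right.2 fun y hy => hrR.right_eq_zero_of_smul (by rw [smul_eq_mul, mul_comm]; exact hy)
    exact Set.disjoint_left.1 (Ideal.disjoint_nonZeroDivisors_of_mem_minimalPrimes hq) hrp h4

end Groth.Agent.S13996
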