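import Groth.Statements.S14003
import Groth.Agent.K0Coh.Basic
import Groth.Agent.Devissage.Apply

set_option autoImplicit false
universe u
open CategoryTheory AlgebraicGeometry
open KZero

namespace Groth.Agent.S14003

/-- Let X be a Noetherian scheme and Y' a closed subset; write K_0 for the Grothendieck group of the
abelian category of coherent O_X-modules with support in Y' (free abelian group on its objects
modulo the relations of short exact sequences). Let (F_a) be a family of such modules such that for
every irreducible closed subset Z ⊆ Y' with generic point ζ there is an index a with the support of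
F_a contained in Z and the stalk of F_a at ζ of length one over the local ring (a one-dimensional
vector space over the residue field). Then the classes of the F_a generate K_0. (The published
statement omits the condition that the support of F_a lie in Z; without it the claim fails already
for the spectrum of a product of two fields, where the modules k_1 ⊕ k_2 ⊕ k_2 and k_1 ⊕ k_1 ⊕ k_2
have one-dimensional stalks at the two points but their classes generate a subgroup of index 3 in
K_0 = ℤ².) -/
theorem result (X : Scheme.{u}) [IsNoetherian X]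
    (Y' : Set X) (hY' : IsClosed Y') {ι : Type u} (F : ι → X.Modules)
    (hF : ∀ a : ι, Coh.IsCoh (F a) ∧ CohB1.support (F a) ⊆ Y')
    (hgen : ∀ (Z : Set X), IsClosed Z → IsIrreducible Z → Z ⊆ Y' → ∀ y : X, closure ({y} : Set X) = Z →
      ∃ a : ι, CohB1.support (F a) ⊆ Z ∧ Module.length (X.presheaf.stalk y) ((F a).presheaf.stalk y) = 1) :
    AddSubgroup.closure (Set.range fun a : ι =>
        KZero.clSub (fun G : X.Modules => Coh.IsCoh G ∧ CohB1.support G ⊆ Y') (F a)) = ⊤ := by
  let P : ObjectProperty X.Modules := fun G => Coh.IsCoh G ∧ CohB1.support G ⊆ Y'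
  haveI : P.IsClosedUnderIsomorphisms := K0Coh.cohOn_iso Y'
  haveI : P.ContainsZero := K0Coh.cohOn_zero Y'
  haveI : P.IsClosedUnderKernels := K0Coh.cohOn_ker Y'
  haveI : P.IsClosedUnderCokernels := K0Coh.cohOn_coker Y'
  show AddSubgroup.closure (Set.range fun a : ι => KZero.clSub P (F a)) = ⊤
  let H := AddSubgroup.closure (Set.range fun a : ι => KZero.clSub P (F a))
  have hmem : ∀ M : X.Modules, Coh.IsCoh M → CohB1.support M ⊆ Y' → KZero.clSub P M ∈ H := by
    intro M hM hMY
    refine Devissage.twothree (fun N => KZero.clSub P N ∈ H) (fun N hN => ?_) ⟨Y', hY'⟩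
      (fun S hS c₁ c₂ c₃ hs => ?_) (fun ξ hξ => Or.inr ?_) M hM hMY
    · show KZero.clSub P N ∈ H
      rw [K0DerSub.cl_zero (P := P) hN]
      exact H.zero_mem
    · have hsupp := ClSubLib.support_shortExact _ hS
      have e := K0DerSub.cl_add (P := P) hS ⟨c₁, fun x hx => hs (hsupp ▸ Or.inl hx)⟩ ⟨c₂, hs⟩
        ⟨c₃, fun x hx => hs (hsupp ▸ Or.inr hx)⟩
      refine ⟨fun h1 h2 => ?_, fun h1 h3 => ?_, fun h2 h3 => ?_⟩
      · show KZero.clSub P S.X₃ ∈ H
        rw [eq_sub_of_add_eq' e.symm]
        exact H.sub_mem h2 h1
      · show KZero.clSub P S.X₂ ∈ H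
        rw [e]
        exact H.add_mem h1 h3
      · show KZero.clSub P S.X₁ ∈ H
        rw [eq_sub_of_add_eq e.symm]
        exact H.sub_mem h2 h3
    · obtain ⟨a, ha, hl⟩ := hgen (closure {ξ}) isClosed_closure isIrreducible_singleton.closure
        (closure_minimal (Set.singleton_subset_iff.2 hξ) hY') ξ rfl
      obtain ⟨h1, h2⟩ := Devissage.simpleAt_of_length hl
      exact ⟨F a, (hF a).1, ha, h2, h1, AddSubgroup.subset_closure ⟨a, rfl⟩⟩
  refine eq_top_iff.2 fun x hx => ?_
  clear hx
  obtain ⟨x, rfl⟩ := QuotientAddGroup.mk_surjective x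
  induction x using FreeAbelianGroup.induction_on with
  | zero => exact H.zero_mem
  | of G =>
    obtain ⟨G, hG⟩ := G
    rw [← K0DerSub.clSub_mk (P := P) hG]
    exact hmem G hG.1 hG.2
  | neg G h => exact H.neg_mem h
  | add a b ha hb => exact H.add_mem ha hb

end Groth.Agent.S14003
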