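import Groth.Statements.S14004
import Groth.Agent.EtInvariance.ThickLft
import Groth.Agent.ThickSys.Sys
import Groth.Agent.InfLift.SchemeSmallExt
import Groth.Agent.FibCrit.Thickening
import Mathlib.AlgebraicGeometry.Morphisms.SmoothFiber

set_option autoImplicit false
universe u
open CategoryTheory AlgebraicGeometry
open FSch

set_option backward.isDefEq.respectTransparency false

namespace Groth.Agent.S14004

open CategoryTheory.Limits

/-- Formal schemes are modelled as ℕ-indexed systems of thickenings. Let 𝔛 and 𝔜 be locally Noetherian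
adic formal systems and f : 𝔛 ⟶ 𝔜 an adic morphism (every square X_n → X_{n+1}, Y_n → Y_{n+1}
cartesian) all of whose levels f_n : X_n ⟶ Y_n are flat. Then f is smooth, in the sense that every
level f_n is smooth, if and only if the bottom level f_0 is smooth. -/
theorem result (𝔛 𝔜 : FSch.Sys.{u})
    (h𝔛 : 𝔛.IsLocNoethFormal) (h𝔜 : 𝔜.IsLocNoethFormal) (f : 𝔛 ⟶ 𝔜) (hf : FSch.IsAdicHom f)
    (hflat : ∀ n : ℕ, Flat ((f : FSch.Hom 𝔛 𝔜).app n)) :
    (∀ n : ℕ, AlgebraicGeometry.Smooth ((f : FSch.Hom 𝔛 𝔜).app n)) ↔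
      AlgebraicGeometry.Smooth ((f : FSch.Hom 𝔛 𝔜).app 0) := by
  refine ⟨fun h => h 0, fun h0 n => ?_⟩
  haveI := h0
  have sq := Groth.Agent.ThickSys.isPullback_toX f hf n
  obtain ⟨hY, hYs⟩ := Groth.Agent.ThickSys.closed_surj_toX h𝔜.1 n
  obtain ⟨hX, hXs⟩ := Groth.Agent.ThickSys.closed_surj_toX h𝔛.1 n
  haveI := hY
  haveI := hYs
  haveI := hflat n
  haveI : IsLocallyNoetherian (𝔜.X n) := h𝔜.2.2 n
  haveI hlft : LocallyOfFiniteType ((f : FSch.Hom 𝔛 𝔜).app n) := by
    refine Groth.Agent.EtInvariance.lft_of_forall_affine _ fun {U V} u v g hU hV hu hv e => ?_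
    have sqV := IsPullback.of_hasPullback v (𝔜.toX n)
    have sqU := IsPullback.of_hasPullback u (𝔛.toX n)
    let g₀ : pullback u (𝔛.toX n) ⟶ pullback v (𝔜.toX n) :=
      pullback.lift (pullback.fst _ _ ≫ g) (pullback.snd _ _ ≫ (f : FSch.Hom 𝔛 𝔜).app 0) (by
        rw [Category.assoc, e, ← Category.assoc, pullback.condition, Category.assoc, Category.assoc, sq.w])
    have hbig : IsPullback (pullback.fst u (𝔛.toX n)) (g₀ ≫ pullback.snd v (𝔜.toX n)) (g ≫ v) (𝔜.toX n) := by
      rw [e, pullback.lift_snd]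
      exact sqU.paste_vert sq
    have sq' : IsPullback (pullback.fst u (𝔛.toX n)) g₀ g (pullback.fst v (𝔜.toX n)) :=
      IsPullback.of_bot hbig (pullback.lift_fst _ _ _).symm sqV
    haveI : LocallyOfFiniteType (g₀ ≫ pullback.snd v (𝔜.toX n)) := by
      rw [pullback.lift_snd]
      infer_instance
    haveI : LocallyOfFiniteType g₀ := locallyOfFiniteType_of_comp g₀ (pullback.snd v (𝔜.toX n))
    haveI : IsClosedImmersion (pullback.fst v (𝔜.toX n)) := inferInstance
    refine Groth.Agent.EtInvariance.lft_of_thick_affine sq' n ?_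
    haveI := hX
    rw [Groth.Agent.ThickSys.ker_of_isPullback sqU, ← Groth.Agent.ThickSys.comap_pow,
      Groth.Agent.ThickSys.ker_toX_pow_succ h𝔛.1 h𝔛.2.1 n, Scheme.IdealSheafData.comap_bot]
  haveI : LocallyOfFinitePresentation ((f : FSch.Hom 𝔛 𝔜).app n) := Groth.Agent.InfLift.lfp_of_lft _
  refine Smooth.of_smooth_fiberToSpecResidueField _ fun y => ?_
  obtain ⟨t, ht⟩ := Groth.Agent.FibCrit.exists_fac_fromSpecResidueField (𝔜.toX n) y
  have h2 := (IsPullback.of_hasPullback ((f : FSch.Hom 𝔛 𝔜).app 0) t).paste_horiz sq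
  rw [ht] at h2
  have : Smooth (pullback.snd ((f : FSch.Hom 𝔛 𝔜).app 0) t) := inferInstance
  rw [← h2.isoPullback_hom_snd] at this
  exact (MorphismProperty.cancel_left_of_respectsIso @Smooth _ _).1 this

end Groth.Agent.S14004
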