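import Groth.Statements.S14006
import Groth.Agent.DefLift.FormalLift

set_option linter.style.haveILetI false
set_option backward.isDefEq.respectTransparency false
set_option backward.isDefEq.respectTransparency.types false

set_option autoImplicit false
universe u
open CategoryTheory AlgebraicGeometry
open FSch

namespace Groth.Agent.S14006

/-- Formal schemes are modelled as ℕ-indexed systems of thickenings. Let S be a locally Noetherian
scheme, 𝒥 a quasi-coherent ideal of O_S, 𝔖 the completion of S along 𝒥 (the system of the closed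
subschemes defined by the powers 𝒥^{n+1}) and S₀ its bottom level. Let X₀ and Y₀ be schemes smooth
over S₀ via a and b, f : X₀ ⟶ Y₀ a morphism with f ≫ b = a, and x a point of X₀. Then there are an
open neighbourhood U₀ of x and an open V₀ of Y₀ with f(U₀) ⊆ V₀, systems 𝔘 and 𝔙 with adic morphisms
p : 𝔘 ⟶ 𝔖 and q : 𝔙 ⟶ 𝔖 (all squares cartesian) all of whose levels are smooth, a morphism Φ : 𝔘 ⟶ 𝔙
with Φ ≫ q = p, and isomorphisms of the bottom levels of 𝔘 and 𝔙 with U₀ and V₀, compatible with the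
maps to S₀, under which the bottom level of Φ is the restriction U₀ ⟶ V₀ of f. In words: locally on
X₀ the morphism f has a smooth formal lifting over 𝔖. -/
theorem result (S : Scheme.{u}) [IsLocallyNoetherian S]
    (𝒥 : S.IdealSheafData) {X₀ Y₀ : Scheme.{u}}
    (a : X₀ ⟶ (FSch.completionAlong S 𝒥).X 0) (b : Y₀ ⟶ (FSch.completionAlong S 𝒥).X 0)
    [AlgebraicGeometry.Smooth a] [AlgebraicGeometry.Smooth b] (f : X₀ ⟶ Y₀) (w : f ≫ b = a) (x : X₀) :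
    ∃ (U₀ : X₀.Opens) (V₀ : Y₀.Opens) (hU : x ∈ U₀) (hUV : U₀ ≤ f ⁻¹ᵁ V₀)
      (𝔘 𝔙 : FSch.Sys.{u}) (p : 𝔘 ⟶ FSch.completionAlong S 𝒥) (q : 𝔙 ⟶ FSch.completionAlong S 𝒥)
      (Φ : 𝔘 ⟶ 𝔙) (eU : 𝔘.X 0 ≅ U₀.toScheme) (eV : 𝔙.X 0 ≅ V₀.toScheme),
      Φ ≫ q = p ∧ FSch.IsAdicHom p ∧ FSch.IsAdicHom q ∧
      (∀ n : ℕ, AlgebraicGeometry.Smooth ((p : FSch.Hom 𝔘 _).app n)) ∧
      (∀ n : ℕ, AlgebraicGeometry.Smooth ((q : FSch.Hom 𝔙 _).app n)) ∧
      eU.hom ≫ U₀.ι ≫ a = (p : FSch.Hom 𝔘 _).app 0 ∧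
      eV.hom ≫ V₀.ι ≫ b = (q : FSch.Hom 𝔙 _).app 0 ∧
      (Φ : FSch.Hom 𝔘 𝔙).app 0 ≫ eV.hom = eU.hom ≫ f.resLE V₀ U₀ hUV := by
  let ι := (𝒥 ^ (0 + 1)).subschemeι
  obtain ⟨W, hW, -⟩ := KosExt.exists_affine_le (O := (⊤ : S.Opens)) (x := ι (b (f x))) trivial
  obtain ⟨V₀, hfx, hV⟩ := KosExt.exists_affine_le (O := b ⁻¹ᵁ (ι ⁻¹ᵁ W.1)) (x := f x) hW
  obtain ⟨U₀, hx, hUV⟩ := KosExt.exists_affine_le (O := f ⁻¹ᵁ V₀.1) (x := x) hfx
  have hU : U₀.1 ≤ a ⁻¹ᵁ (ι ⁻¹ᵁ W.1) := fun z hz => by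
    rw [← w]
    exact hV (hUV hz)
  obtain ⟨UU, gU, kU, hgU, hcU⟩ := DefLift.exists_affine_lift (ι := ι) (f₀ := a) U₀ W hU
  obtain ⟨VV, gV, kV, hgV, hcV⟩ := DefLift.exists_affine_lift (ι := ι) (f₀ := b) V₀ W hV
  haveI := hgU.1
  haveI := hgU.2
  haveI := hgV.2
  let eU := hcU.isoPullback.symm
  let eV := hcV.isoPullback.symm
  have h0 : (eU.hom ≫ f.resLE V₀.1 U₀.1 hUV ≫ kV) ≫ gV = Limits.pullback.fst gU ι ≫ gU := by
    rw [Category.assoc, Category.assoc, hcV.w, Category.assoc, Scheme.Hom.resLE_comp_ι_assoc, reassoc_of% w,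
      ← Category.assoc U₀.1.ι, ← hcU.w, ← Category.assoc eU.hom, Iso.symm_hom, hcU.isoPullback_inv_fst]
  obtain ⟨Φ, hΦ, hΦ0⟩ := DefLift.exists_pullSys_map (J := 𝒥) gU gV (eU.hom ≫ f.resLE V₀.1 U₀.1 hUV ≫ kV) h0
  refine ⟨U₀.1, V₀.1, hx, hUV, DefLift.pullSys gU, DefLift.pullSys gV, DefLift.pullSysHom gU, DefLift.pullSysHom gV,
    Φ, eU, eV, hΦ, DefLift.isAdicHom_pullSysHom gU, DefLift.isAdicHom_pullSysHom gV,
    DefLift.smooth_pullSysHom gU, DefLift.smooth_pullSysHom gV, hcU.isoPullback_inv_snd, hcV.isoPullback_inv_snd, ?_⟩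
  haveI : IsClosedImmersion kV := MorphismProperty.of_isPullback (P := @IsClosedImmersion) hcV.flip inferInstance
  rw [← cancel_mono kV, Category.assoc, Category.assoc]
  exact ((congrArg (_ ≫ ·) hcV.isoPullback_inv_fst).trans hΦ0)

end Groth.Agent.S14006
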