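import Groth.Statements.S14018
import Mathlib

set_option autoImplicit false
open CategoryTheory CategoryTheory.Limits Opposite
universe w v u
open CohSite

namespace Groth.Agent.S14018


section helpers

/-- An inverse system of sets with surjective transition maps: every element lifts. -/
lemma exists_section_nat (G : ℕᵒᵖ ⥤ Type w)
    (hG : ∀ m : ℕ, Function.Surjective (G.map (homOfLE (Nat.le_succ m)).op))
    (n : ℕ) (s : G.obj (op n)) : ∃ x ∈ G.sections, x (op n) = s := by
  classical
  choose sec hsec using hG
  let y : ∀ j : ℕ, G.obj (op (n + j)) := fun j => Nat.rec s (fun i yi => sec (n + i) yi) j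
  have hcomp : ∀ (j d : ℕ) (h : n + j ≤ n + (j + d)),
      G.map (homOfLE h).op (y (j + d)) = y j := by
    intro j d
    induction d with
    | zero =>
      intro h
      rw [Subsingleton.elim (homOfLE h).op (𝟙 (op (n + j)))]
      show G.map (𝟙 (op (n + j))) (y j) = y j
      simp
    | succ d ih =>
      intro h
      have e : (homOfLE h).op = (homOfLE (Nat.le_succ (n + (j + d)))).op ≫
          (homOfLE (by omega : n + j ≤ n + (j + d))).op := Subsingleton.elim _ _
      rw [e, Functor.map_comp, ConcreteCategory.comp_apply]
      exact (congrArg _ (hsec (n + (j + d)) (y (j + d)))).trans (ih (by omega))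
  have hy : ∀ (a b : ℕ) (hab : a ≤ b) (h : n + a ≤ n + b),
      G.map (homOfLE h).op (y b) = y a := by
    intro a b hab h
    obtain ⟨d, rfl⟩ := Nat.exists_eq_add_of_le hab
    exact hcomp a d h
  refine ⟨fun a => G.map (homOfLE (Nat.le_add_left a.unop n)).op (y a.unop), ?_, ?_⟩
  · intro a b f
    have hba : b.unop ≤ a.unop := leOfHom f.unop
    show G.map f (G.map (homOfLE (Nat.le_add_left a.unop n)).op (y a.unop)) =
      G.map (homOfLE (Nat.le_add_left b.unop n)).op (y b.unop)
    rw [← hy b.unop a.unop hba (Nat.add_le_add_left hba n), ← ConcreteCategory.comp_apply,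
      ← ConcreteCategory.comp_apply, ← G.map_comp, ← G.map_comp]
    exact congrArg (fun m => G.map m (y a.unop)) (Subsingleton.elim _ _)
  · show G.map (homOfLE (Nat.le_add_left n n)).op (y n) = s
    exact hy 0 n (Nat.zero_le n) (Nat.le_add_left n n)

end helpers

/-- Let (C, J) be a site with enough weakly contractible objects — every object V has a covering sieve
all of whose arrows factor through some weakly contractible object, an object U being weakly
contractible when every epimorphism of sheaves of sets (valued in a fixed universe) is surjective on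
sections over U. Then the topos of sheaves of sets is replete: if (F_n) is an inverse system of
sheaves of sets indexed by ℕ with every transition map F_(n+1) ⟶ F_n an epimorphism, then each
projection lim_n F_n ⟶ F_n is an epimorphism; the limit is taken as any limit cone. (The small
pro-étale site of a scheme is such a site.) -/
theorem result
    {C : Type u} [Category.{v} C] (J : GrothendieckTopology C)
    (hwc : ∀ V : C, ∃ S : Sieve V, S ∈ J V ∧ ∀ ⦃W : C⦄ (f : W ⟶ V), S.arrows f →
      ∃ (U : C) (g : W ⟶ U) (h : U ⟶ V), (∀ (A B : Sheaf J (Type w)) (ψ : A ⟶ B), Epi ψ → Function.Surjective (ψ.hom.app (op U))) ∧ g ≫ h = f)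
    (F : ℕᵒᵖ ⥤ Sheaf J (Type w))
    (hF : ∀ n : ℕ, Epi (F.map (homOfLE (Nat.le_succ n)).op))
    (c : Cone F) (hc : IsLimit c) (n : ℕ) :
    Epi (c.π.app (op n)) := by
  haveI : Sheaf.IsLocallySurjective (c.π.app (op n)) := by
    constructor
    intro V s
    obtain ⟨T, hT, hTfac⟩ := hwc V
    refine J.superset_covering ?_ hT
    intro W f hf
    obtain ⟨U, g, q, hU, rfl⟩ := hTfac f hf
    let Ev := sheafToPresheaf J (Type w) ⋙ (evaluation Cᵒᵖ (Type w)).obj (op U)
    have hsurj : ∀ m : ℕ, Function.Surjective ((F ⋙ Ev).map (homOfLE (Nat.le_succ m)).op) :=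
      fun m => hU _ _ _ (hF m)
    obtain ⟨x, hx, hxn⟩ := exists_section_nat (F ⋙ Ev) hsurj n ((F.obj (op n)).obj.map q.op s)
    have hlim : IsLimit (Ev.mapCone c) := isLimitOfPreserves Ev hc
    refine ⟨c.pt.obj.map g.op ((Types.isLimitEquivSections hlim).symm ⟨x, hx⟩), ?_⟩
    have h1 : (c.π.app (op n)).hom.app (op U) ((Types.isLimitEquivSections hlim).symm ⟨x, hx⟩) =
        x (op n) := Types.isLimitEquivSections_symm_apply hlim ⟨x, hx⟩ (op n)
    refine (NatTrans.naturality_apply (c.π.app (op n)).hom g.op _).trans ?_
    refine (congrArg _ (h1.trans hxn)).trans ?_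
    rw [op_comp, Functor.map_comp, ConcreteCategory.comp_apply]
  infer_instance

end Groth.Agent.S14018
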