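import Groth.Statements.S14034
import Mathlib.RingTheory.LocalRing.Module
import Mathlib.RingTheory.Nilpotent.Lemmas
import Mathlib.LinearAlgebra.Dimension.Constructions
import Mathlib.LinearAlgebra.Dimension.Free

set_option autoImplicit false
universe u
open W4c1frobunstiva

namespace Groth.Agent.S14034

/-- Let R be a Noetherian local ring and f an element of R whose annihilator consists of nilpotent
elements (a f = 0 forces a nilpotent), r, s and l ≤ s natural numbers, N the quotient of the free
module R^s by the submodule spanned by f e_1, …, f e_l (e_i the standard basis vectors), and φ : R^r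
→ N a surjective linear map. Then the kernel of φ is NR-free of rank r + l − s: it is generated by r
+ l − s elements every linear relation among which has nilpotent coefficients; and when l = 0 the
kernel is free of rank r − s. (The published statement takes R Noetherian with irreducible spectrum
and R_red a domain, not necessarily local, and f arbitrary. Over the coordinate ring of the real
2-sphere the kernel of (x, y, z) : R³ → R is not free, and over k[x, y]/(y², xy) localised at (x, y)
with f = y the kernel of R → R/(y) is spanned by y with the non-nilpotent relation x·y = 0. The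
published argument uses that the kernel of a surjection of free modules is free, true over a local
ring, and that a f = 0 forces a nilpotent, which is the hypothesis taken here; it holds when R_red
is a domain and f is not nilpotent, and also for f = ε in A[ε] with A a domain, so primality of the
nilradical is not assumed.) -/
theorem result (R : Type u)
    [CommRing R] [IsNoetherianRing R] [IsLocalRing R] (f : R)
    (hann : ∀ a : R, a * f = 0 → IsNilpotent a) (r s l : ℕ) (hls : l ≤ s)
    (φ : (Fin r → R) →ₗ[R]
      ((Fin s → R) ⧸ Submodule.span R (Set.range fun i : Fin l => (Pi.single (Fin.castLE hls i) f : Fin s → R))))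
    (hφ : Function.Surjective φ) :
    W4c1frobunstiva.IsNRFree R (LinearMap.ker φ) (r + l - s) ∧
      (l = 0 → Nonempty (Module.Basis (Fin (r - s)) R (LinearMap.ker φ))) := by
  classical
  revert φ hφ
  generalize hS : Submodule.span R (Set.range fun i : Fin l => (Pi.single (Fin.castLE hls i) f : Fin s → R)) = S
  intro φ hφ
  obtain ⟨ψ, hψ⟩ := Module.projective_lifting_property S.mkQ φ (Submodule.mkQ_surjective S)
  have hψ' : ∀ x, S.mkQ (ψ x) = φ x := fun x => LinearMap.congr_fun hψ x
  let E : (Fin l → R) →ₗ[R] (Fin s → R) :=
    Fintype.linearCombination R fun i => (Pi.single (Fin.castLE hls i) f : Fin s → R)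
  have hE : LinearMap.range E = S := by rw [← hS]; exact Fintype.range_linearCombination R _
  let Ψ : (Fin r → R) × (Fin l → R) →ₗ[R] (Fin s → R) := ψ.coprod E
  have hsurj : Function.Surjective Ψ := fun z => by
    obtain ⟨x, hx⟩ := hφ (S.mkQ z)
    have : z - ψ x ∈ LinearMap.range E := by
      rw [hE, ← Submodule.ker_mkQ S, LinearMap.mem_ker, map_sub, hψ', hx, sub_self]
    obtain ⟨y, hy⟩ := this
    exact ⟨(x, y), by simp [Ψ, hy]⟩
  obtain ⟨sec, hsec⟩ := Ψ.exists_rightInverse_of_surjective (LinearMap.range_eq_top.mpr hsurj)
  have hsec' : ∀ z, Ψ (sec z) = z := fun z => LinearMap.congr_fun hsec z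
  let K := LinearMap.ker Ψ
  let pr : (Fin r → R) × (Fin l → R) →ₗ[R] K :=
    (LinearMap.id - sec ∘ₗ Ψ).codRestrict K fun x => by simp [K, hsec']
  let e : ((Fin r → R) × (Fin l → R)) ≃ₗ[R] K × (Fin s → R) :=
    LinearEquiv.ofLinear (pr.prod Ψ) (K.subtype.coprod sec)
      (by
        refine LinearMap.ext fun ⟨k, z⟩ => Prod.ext (Subtype.ext ?_) ?_
        · simp [pr, hsec', LinearMap.mem_ker.mp k.2]
        · simp [hsec', LinearMap.mem_ker.mp k.2])
      (LinearMap.ext fun x => by simp [pr])
  haveI : Module.Projective R K := Module.Projective.of_split K.subtype pr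
    (LinearMap.ext fun k => Subtype.ext (by simp [pr, LinearMap.mem_ker.mp k.2]))
  haveI : Module.Finite R K := Module.Finite.iff_fg.mpr (IsNoetherian.noetherian K)
  haveI : Module.Free R K := Module.free_of_flat_of_isLocalRing
  have hrank : Module.finrank R K = r + l - s := by
    have := e.finrank_eq
    rw [Module.finrank_prod, Module.finrank_prod, Module.finrank_fin_fun, Module.finrank_fin_fun,
      Module.finrank_fin_fun] at this
    omega
  let B : Module.Basis (Fin (r + l - s)) R K :=
    (Module.finBasis R K).reindex (finCongr hrank)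
  let q : K →ₗ[R] LinearMap.ker φ :=
    ((LinearMap.fst R _ _) ∘ₗ K.subtype).codRestrict _ fun k => by
      have h := LinearMap.mem_ker.mp k.2
      simp only [Ψ, LinearMap.coprod_apply] at h
      simp only [LinearMap.mem_ker, LinearMap.comp_apply, Submodule.subtype_apply, LinearMap.fst_apply]
      rw [← hψ', eq_neg_of_add_eq_zero_left h, map_neg, neg_eq_zero, Submodule.mkQ_apply,
        Submodule.Quotient.mk_eq_zero, ← hE]
      exact ⟨_, rfl⟩
  have hq : Function.Surjective q := fun x => by
    have : ψ x.1 ∈ LinearMap.range E := by
      rw [hE]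
      exact (Submodule.Quotient.mk_eq_zero S).mp ((hψ' x.1).trans (LinearMap.mem_ker.mp x.2))
    obtain ⟨y, hy⟩ := this
    exact ⟨⟨(x.1, -y), by simp [K, Ψ, hy]⟩, Subtype.ext rfl⟩
  refine ⟨⟨fun i => q (B i), ?_, fun a ha i => ?_⟩, fun hl => ?_⟩
  · rw [Set.range_comp' q B, ← Submodule.map_span, B.span_eq, Submodule.map_top,
      LinearMap.range_eq_top.mpr hq]
  · set k := ∑ i, a i • B i with hk
    have hqk : q k = 0 := by simpa [hk] using ha
    have hx : k.1.1 = 0 := congrArg Subtype.val hqk
    have hy : ∀ j, IsNilpotent (k.1.2 j) := fun j => by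
      refine hann _ ?_
      have h := LinearMap.mem_ker.mp k.2
      simp only [Ψ, LinearMap.coprod_apply, hx, map_zero, zero_add] at h
      have h' := congrFun h (Fin.castLE hls j)
      simpa [E, Fintype.linearCombination_apply, Pi.single_apply, (Fin.castLE_injective hls).eq_iff] using h'
    have hai : a i = ((B.coord i) ∘ₗ pr) k.1 := by
      have : pr k.1 = k := Subtype.ext (by simp [pr, LinearMap.mem_ker.mp k.2])
      rw [LinearMap.comp_apply, this, hk, map_sum]
      simp [B.coord_apply, Finsupp.single_apply]
    rw [hai, show k.1 = (0, ∑ j, k.1.2 j • (Pi.single j 1 : Fin l → R)) from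
      Prod.ext hx ((pi_eq_sum_univ' k.1.2).trans rfl)]
    have : ((0 : Fin r → R), ∑ j, k.1.2 j • (Pi.single j 1 : Fin l → R)) =
        ∑ j, k.1.2 j • ((0 : Fin r → R), (Pi.single j 1 : Fin l → R)) :=
      Prod.ext (by simp [Prod.fst_sum]) (by simp [Prod.snd_sum])
    rw [this, map_sum, ← mem_nilradical]
    refine Submodule.sum_mem _ fun j _ => ?_
    rw [map_smul, smul_eq_mul]
    exact Ideal.mul_mem_right _ _ (mem_nilradical.mpr (hy j))
  · subst hl
    have hinj : Function.Injective q := fun k k' h =>
      Subtype.ext (Prod.ext (congrArg Subtype.val h) (Subsingleton.elim _ _))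
    exact ⟨(B.map (LinearEquiv.ofBijective q ⟨hinj, hq⟩)).reindex (finCongr (by omega))⟩

end Groth.Agent.S14034
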