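import Groth.Statements.S14037
import Groth.Agent.Nagata.Noether
import Groth.Agent.Nagata.PrimeSubscheme
import Groth.Agent.ProperAt.FlatGeneric
import Groth.Agent.FEtEssIm.Conn
import Groth.Agent.S7803
import Groth.Agent.S9812

set_option autoImplicit false
set_option backward.isDefEq.respectTransparency false
universe u
open CategoryTheory CategoryTheory.Limits AlgebraicGeometry
open W4c1frobunstiva

namespace Groth.Agent.S14037

/-- Let f : X → Y be separated and of finite type, with X and Y integral, Y Noetherian and normal.
Suppose that every geometric fibre of f — the base change of X along any morphism from the spectrum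
of an algebraically closed field to Y — is proper over that field and connected (so non-empty). Then
f is proper. -/
theorem result {X Y : Scheme.{u}}
    (f : X ⟶ Y) [IsSeparated f] [LocallyOfFiniteType f] [QuasiCompact f]
    [IsIntegral X] [IsIntegral Y] [IsNoetherian Y] (hY : Pi1.IsNormalScheme Y)
    (hfib : ∀ (Ω : Type u) [Field Ω] [IsAlgClosed Ω] (y : Spec (CommRingCat.of Ω) ⟶ Y),
      IsProper (pullback.snd f y) ∧ ConnectedSpace ↥(pullback f y)) :
    IsProper f := by
  haveI hgc : GeometricallyConnected f :=
    Groth.Agent.FEtEssIm.geometricallyConnected_of_algClosed f fun Ω _ _ σ => (hfib Ω σ).2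
  obtain ⟨P, j, p, hj, hjq, hp, hjp⟩ := Groth.Agent.Nagata.exists_compactification f
  haveI := hj
  haveI := hjq
  haveI := hp
  -- the closure
  let i := j.toImage
  let h := j.imageι ≫ p
  have hih : i ≫ h = f := by rw [Scheme.Hom.toImage_imageι_assoc, hjp]
  haveI : IsOpenImmersion i := inferInstance
  haveI : IsIntegral j.image := Groth.Agent.Nagata.isIntegral_image j
  haveI : IsDominant i := inferInstance
  haveI : IsProper h := inferInstance
  haveI hdom : IsDominant h := by
    haveI : Surjective (i ≫ h) := by rw [hih]; infer_instance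
    haveI := Surjective.of_comp i h
    infer_instance
  -- proper fibres
  have hfibp : ∀ y : Y, IsProper (f.fiberToSpecResidueField y) := fun y => by
    let v := Spec.map (CommRingCat.ofHom (algebraMap (Y.residueField y) (AlgebraicClosure (Y.residueField y))))
    haveI := (hfib (AlgebraicClosure (Y.residueField y)) (v ≫ Y.fromSpecResidueField y)).1
    let b : Limits.pullback f (v ≫ Y.fromSpecResidueField y) ⟶ f.fiber y :=
      pullback.lift (pullback.fst _ _) (pullback.snd _ _ ≫ v) (by rw [Category.assoc, pullback.condition])
    have H : IsPullback b (pullback.snd f (v ≫ Y.fromSpecResidueField y)) (f.fiberToSpecResidueField y) v := by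
      refine IsPullback.of_right ?_ (pullback.lift_snd _ _ _) (IsPullback.of_hasPullback f (Y.fromSpecResidueField y))
      rw [pullback.lift_fst]
      exact IsPullback.of_hasPullback f (v ≫ Y.fromSpecResidueField y)
    haveI : IsSeparated (f.fiberToSpecResidueField y) := inferInstanceAs (IsSeparated (pullback.snd f _))
    haveI : LocallyOfFiniteType (f.fiberToSpecResidueField y) := inferInstanceAs (LocallyOfFiniteType (pullback.snd f _))
    exact Groth.Agent.ProperAt.isProper_of_fieldExt _ H
  let jy : ∀ y : Y, f.fiber y ⟶ h.fiber y := fun y =>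
    pullback.lift (pullback.fst f (Y.fromSpecResidueField y) ≫ i) (pullback.snd f (Y.fromSpecResidueField y)) (by
      rw [Category.assoc, hih, pullback.condition])
  have hsq : ∀ y, IsPullback (f.fiberι y) (jy y) i (h.fiberι y) := fun y => by
    refine IsPullback.of_bot (h₁₁ := f.fiberι y) (v₂₁ := h.fiberToSpecResidueField y) (v₂₂ := h) ?_ ?_
      (IsPullback.of_hasPullback h (Y.fromSpecResidueField y))
    · rw [hih, show jy y ≫ h.fiberToSpecResidueField y = f.fiberToSpecResidueField y from pullback.lift_snd _ _ _]
      exact IsPullback.of_hasPullback f (Y.fromSpecResidueField y)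
    · exact (pullback.lift_fst _ _ _).symm
  have hclopen : ∀ y, IsClopen (Set.range (jy y)) := fun y => by
    haveI : IsOpenImmersion (jy y) := MorphismProperty.of_isPullback (hsq y) ‹IsOpenImmersion i›
    haveI := hfibp y
    haveI : IsProper (jy y ≫ h.fiberToSpecResidueField y) := by
      rw [show jy y ≫ h.fiberToSpecResidueField y = f.fiberToSpecResidueField y from pullback.lift_snd _ _ _]
      infer_instance
    haveI : IsSeparated (h.fiberToSpecResidueField y) := inferInstanceAs (IsSeparated (pullback.snd h _))
    haveI : IsProper (jy y) := IsProper.of_comp (jy y) (h.fiberToSpecResidueField y)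
    exact ⟨(jy y).isClosedMap.isClosed_range, (jy y).isOpenEmbedding.isOpen_range⟩
  -- the generic fibre
  let η := genericPoint Y
  have hη : Surjective (jy η) := ⟨fun w => by
    have hξ : genericPoint j.image ∈ Set.range i :=
      ((genericPoint_spec j.image).mem_open_set_iff i.isOpenEmbedding.isOpen_range).2
        ⟨i (genericPoint X), trivial, ⟨_, rfl⟩⟩
    have hhξ : h (genericPoint j.image) = η :=
      ((genericPoint_spec j.image).image h.continuous).eq (by
        rw [Set.image_univ, hdom.denseRange.closure_range]; exact genericPoint_spec Y)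
    obtain ⟨ξ', hξ'⟩ : genericPoint j.image ∈ Set.range (h.fiberι η) := by
      rw [Scheme.Hom.range_fiberι]; exact hhξ
    have hsp : ξ' ⤳ w := by
      rw [← (h.fiberι η).isEmbedding.isInducing.specializes_iff, hξ']
      exact genericPoint_specializes _
    have hmem : ξ' ∈ Set.range (jy η) := by
      obtain ⟨x, hx⟩ := hξ
      obtain ⟨z, -, hz⟩ := Groth.Agent.ProperAt.exists_point_of_isPullback (hsq η) x ξ' (hx.trans hξ'.symm)
      exact ⟨z, hz⟩
    exact hsp.mem_closed (hclopen η).1 hmem⟩
  haveI hgη : GeometricallyConnected (h.fiberToSpecResidueField η) := by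
    haveI : IsOpenImmersion (jy η) := MorphismProperty.of_isPullback (hsq η) ‹IsOpenImmersion i›
    haveI := hη
    haveI : IsIso (jy η) := (isIso_iff_isOpenImmersion_and_surjective (jy η)).2 ⟨inferInstance, hη⟩
    have e : h.fiberToSpecResidueField η = inv (jy η) ≫ f.fiberToSpecResidueField η := by
      rw [IsIso.eq_inv_comp]; exact pullback.lift_snd _ _ _
    rw [e]
    exact (MorphismProperty.cancel_left_of_respectsIso @GeometricallyConnected (inv (jy η)) _).2 inferInstance
  haveI hgh : GeometricallyConnected h := Groth.Agent.S7803.result h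
    (fun y => by
      haveI := (hY y).1
      haveI := (hY y).2
      exact Groth.Agent.S9812.result _) hgη
  haveI : Surjective i := ⟨fun w => by
    let y := h w
    obtain ⟨w', hw'⟩ : w ∈ Set.range (h.fiberι y) := by rw [Scheme.Hom.range_fiberι]; exact rfl
    haveI : Nonempty ↥(f.fiber y) := by
      obtain ⟨x, hx⟩ := f.surjective y
      obtain ⟨x', -⟩ : x ∈ Set.range (f.fiberι y) := by rw [Scheme.Hom.range_fiberι]; exact hx
      exact ⟨x'⟩
    obtain ⟨z, hz⟩ : w' ∈ Set.range (jy y) := by
      rw [(hclopen y).eq_univ (Set.range_nonempty _)]; trivial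
    exact ⟨f.fiberι y z, by rw [← Scheme.Hom.comp_apply, (hsq y).w, Scheme.Hom.comp_apply, hz, hw']⟩⟩
  haveI : IsIso i := (isIso_iff_isOpenImmersion_and_surjective i).2 ⟨inferInstance, inferInstance⟩
  rw [← hih]
  infer_instance

end Groth.Agent.S14037
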