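import Groth.Statements.S14038
import Mathlib.LinearAlgebra.Matrix.ToLin
import Mathlib.RingTheory.PowerSeries.Inverse
import Mathlib.LinearAlgebra.Matrix.NonsingularInverse
import Mathlib.RingTheory.DiscreteValuationRing.Basic

set_option autoImplicit false
universe u
open W4c1frobunstiva

namespace Groth.Agent.S14038

/-- Let k be a field and M a square matrix of size r over the formal power series ring k[[t]] with
non-zero determinant. Call a matrix H over k[[t]] row-reduced when it is upper triangular, each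
diagonal entry is a power t^{e_i} of the variable, and every entry above the diagonal in column j is
a polynomial of degree less than e_j (all its coefficients in degrees ≥ e_j vanish). Then there is
exactly one row-reduced H obtainable from M by left multiplication with an invertible matrix over
k[[t]]. (The published statement takes k algebraically closed; the row-reduction argument needs only
a field.) -/
theorem result (k : Type u) [Field k] (r : ℕ)
    (M : Matrix (Fin r) (Fin r) (PowerSeries k)) (hM : M.det ≠ 0) :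
    ∃! H : Matrix (Fin r) (Fin r) (PowerSeries k),
      (∃ e : Fin r → ℕ, (∀ i, H i i = PowerSeries.X ^ e i) ∧ (∀ i j, j < i → H i j = 0) ∧
        (∀ i j, i < j → ∀ n, e j ≤ n → PowerSeries.coeff n (H i j) = 0)) ∧
      ∃ N : Matrix (Fin r) (Fin r) (PowerSeries k), IsUnit N ∧ N * M = H := by
  classical
  let L : Submodule (PowerSeries k) (Fin r → PowerSeries k) := LinearMap.range M.vecMulLinear
  let Z : Fin r → Submodule (PowerSeries k) (Fin r → PowerSeries k) := fun j =>
    ⨅ i ∈ Finset.univ.filter (· < j), LinearMap.ker (LinearMap.proj i)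
  have hZ : ∀ j v, v ∈ Z j ↔ ∀ i, i < j → v i = 0 := fun j v => by simp [Z, Submodule.mem_iInf]
  have hdet : ∀ j, Pi.single j M.det ∈ L := fun j => ⟨Matrix.vecMul (Pi.single j 1) M.adjugate, by
    show Matrix.vecMul (Matrix.vecMul (Pi.single j 1) M.adjugate) M = _
    rw [Matrix.vecMul_vecMul, Matrix.adjugate_mul]
    ext i
    simp [Matrix.single_vecMul, Pi.single_apply, Matrix.one_apply, eq_comm]⟩
  have hI : ∀ j, ∃ e : ℕ, ((L ⊓ Z j).map (LinearMap.proj j) : Ideal (PowerSeries k)) =
      Ideal.span {PowerSeries.X ^ e} := by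
    intro j
    refine IsDiscreteValuationRing.ideal_eq_span_pow_irreducible ?_ PowerSeries.X_irreducible
    intro h
    have hmem : M.det ∈ (L ⊓ Z j).map (LinearMap.proj j) :=
      ⟨Pi.single j M.det, ⟨hdet j, (hZ _ _).mpr fun i hi => Pi.single_eq_of_ne hi.ne _⟩, by simp⟩
    rw [h] at hmem
    exact hM ((Submodule.mem_bot (PowerSeries k)).mp hmem)
  choose e he using hI
  have hw : ∀ j, ∃ w ∈ L, (∀ i, i < j → w i = 0) ∧ w j = PowerSeries.X ^ e j := by
    intro j
    have hmem : PowerSeries.X ^ e j ∈ (L ⊓ Z j).map (LinearMap.proj j) := by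
      rw [he j]; exact Ideal.mem_span_singleton_self _
    obtain ⟨w, ⟨hwL, hwZ⟩, hw⟩ := hmem
    exact ⟨w, hwL, (hZ _ _).mp hwZ, hw⟩
  choose w hwL hwlow hwdiag using hw
  have hdvd : ∀ v ∈ L, ∀ j, (∀ i, i < j → v i = 0) → PowerSeries.X ^ e j ∣ v j := by
    intro v hv j hlow
    rw [← Ideal.mem_span_singleton, ← he j]
    exact ⟨v, ⟨hv, (hZ _ _).mpr hlow⟩, rfl⟩
  have hred : ∀ (d s : ℕ), s + d = r → ∀ v : Fin r → PowerSeries k, ∃ u ∈ L,
      (∀ i : Fin r, (i : ℕ) < s → u i = 0) ∧
      (∀ l : Fin r, s ≤ (l : ℕ) → ∀ m, e l ≤ m → PowerSeries.coeff m (v l - u l) = 0) := by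
    intro d
    induction d with
    | zero =>
      intro s hs v
      exact ⟨0, L.zero_mem, fun i _ => rfl, fun l hl => by omega⟩
    | succ d ih =>
      intro s hs v
      let j : Fin r := ⟨s, by omega⟩
      let q : PowerSeries k := PowerSeries.mk fun m => PowerSeries.coeff (m + e j) (v j)
      obtain ⟨u, huL, hulow, hured⟩ := ih (s + 1) (by omega) (v - q • w j)
      refine ⟨q • w j + u, L.add_mem (L.smul_mem _ (hwL j)) huL, fun i hi => ?_, fun l hl m hm => ?_⟩
      · rw [Pi.add_apply, Pi.smul_apply, hwlow j i hi, smul_zero, hulow i (by omega), add_zero]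
      · rcases Nat.lt_or_ge s l with h | h
        · have := hured l h m hm
          rw [Pi.sub_apply] at this
          rwa [Pi.add_apply, ← sub_sub]
        · have hl' : l = j := Fin.ext (by simp only [j]; omega)
          subst hl'
          rw [Pi.add_apply, Pi.smul_apply, hwdiag, hulow j (Nat.lt_succ_self s), add_zero, smul_eq_mul,
            map_sub]
          obtain ⟨c, rfl⟩ := Nat.exists_eq_add_of_le hm
          rw [Nat.add_comm (e j) c, PowerSeries.coeff_mul_X_pow, PowerSeries.coeff_mk, sub_self]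
  have hrow : ∀ j : Fin r, ∃ h ∈ L, (∀ i, i < j → h i = 0) ∧ h j = PowerSeries.X ^ e j ∧
      ∀ l, j < l → ∀ m, e l ≤ m → PowerSeries.coeff m (h l) = 0 := by
    intro j
    obtain ⟨u, huL, hulow, hured⟩ := hred (r - (j + 1)) (j + 1) (by omega) (w j)
    refine ⟨w j - u, L.sub_mem (hwL j) huL, fun i hi => ?_, ?_, fun l hl m hm => ?_⟩
    · rw [Pi.sub_apply, hwlow j i hi, hulow i (Nat.lt_succ_of_lt hi), sub_zero]
    · rw [Pi.sub_apply, hwdiag, hulow j (Nat.lt_succ_self _), sub_zero]
    · exact hured l hl m hm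
  choose h hhL hhlow hhdiag hhred using hrow
  let H : Matrix (Fin r) (Fin r) (PowerSeries k) := Matrix.of h
  -- the rows of `H` span `L`
  have hspan : L ≤ LinearMap.range H.vecMulLinear := by
    suffices hs : ∀ (d s : ℕ), s + d = r → ∀ v ∈ L, (∀ i : Fin r, (i : ℕ) < s → v i = 0) →
        v ∈ LinearMap.range H.vecMulLinear from
      fun v hv => hs r 0 (Nat.zero_add r) v hv (fun i hi => absurd hi (Nat.not_lt_zero _))
    intro d
    induction d with
    | zero =>
      intro s hs v _ hlow
      have : v = 0 := funext fun i => hlow i (by omega)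
      rw [this]
      exact Submodule.zero_mem _
    | succ d ih =>
      intro s hs v hv hlow
      let j : Fin r := ⟨s, by omega⟩
      obtain ⟨q, hq⟩ := hdvd v hv j (fun i hi => hlow i hi)
      have hj : h j ∈ LinearMap.range H.vecMulLinear :=
        ⟨Pi.single j 1, Matrix.single_one_vecMul j H⟩
      have := ih (s + 1) (by omega) (v - q • h j) (L.sub_mem hv (L.smul_mem _ (hhL j))) fun i hi => by
        rcases Nat.lt_or_ge (i : ℕ) s with h' | h'
        · rw [Pi.sub_apply, Pi.smul_apply, hlow i h', hhlow j i h', smul_zero, sub_zero]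
        · have : i = j := Fin.ext (by simp only [j]; omega)
          rw [this, Pi.sub_apply, Pi.smul_apply, hhdiag, hq, smul_eq_mul, mul_comm, sub_self]
      simpa using Submodule.add_mem _ this (Submodule.smul_mem _ q hj)
  have hM' : ∀ i, M i ∈ L := fun i => ⟨Pi.single i 1, Matrix.single_one_vecMul i M⟩
  choose Nr hNr using hhL
  choose Nr' hNr' using fun i => hspan (hM' i)
  have hNM : Matrix.of Nr * M = H := by
    exact Matrix.ext fun i j => congrFun (hNr i) j
  have hNH : Matrix.of Nr' * H = M := by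
    exact Matrix.ext fun i j => congrFun (hNr' i) j
  have hN : IsUnit (Matrix.of Nr) := by
    rw [Matrix.isUnit_iff_isUnit_det]
    have := congrArg Matrix.det hNH
    rw [← hNM, ← Matrix.mul_assoc, Matrix.det_mul, Matrix.det_mul, mul_eq_right₀ hM] at this
    exact isUnit_of_dvd_one ⟨(Matrix.of Nr').det, by rw [mul_comm]; exact this.symm⟩
  -- uniqueness
  refine existsUnique_of_exists_of_unique ⟨H, ⟨e, hhdiag, fun i j hij => hhlow i j hij, hhred⟩,
    Matrix.of Nr, hN, hNM⟩ ?_
  suffices hu : ∀ H' : Matrix (Fin r) (Fin r) (PowerSeries k),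
      ((∃ e : Fin r → ℕ, (∀ i, H' i i = PowerSeries.X ^ e i) ∧ (∀ i j, j < i → H' i j = 0) ∧
        (∀ i j, i < j → ∀ n, e j ≤ n → PowerSeries.coeff n (H' i j) = 0)) ∧
      ∃ N : Matrix (Fin r) (Fin r) (PowerSeries k), IsUnit N ∧ N * M = H') → H' = H from
    fun H₁ H₂ h₁ h₂ => (hu H₁ h₁).trans (hu H₂ h₂).symm
  rintro H' ⟨⟨e', hdiag', hlow', hred'⟩, N, hN', hNM'⟩
  have hmemL : ∀ i, H' i ∈ L := fun i => ⟨N i, by rw [← hNM']; rfl⟩
  have hLle : ∀ v ∈ L, ∃ c, Matrix.vecMul c H' = v := by
    rintro v ⟨c, rfl⟩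
    obtain ⟨u, rfl⟩ := hN'
    refine ⟨Matrix.vecMul c (↑u⁻¹ : Matrix (Fin r) (Fin r) (PowerSeries k)), ?_⟩
    rw [← hNM', Matrix.vecMul_vecMul, ← Matrix.mul_assoc, Units.inv_mul, Matrix.one_mul]
    rfl
  have hdvd' : ∀ v ∈ L, ∀ j, (∀ i, i < j → v i = 0) → PowerSeries.X ^ e' j ∣ v j := by
    intro v hv j hlow
    obtain ⟨c, rfl⟩ := hLle v hv
    have hsum : ∀ i, (∀ l, l < i → c l = 0) → Matrix.vecMul c H' i = c i * PowerSeries.X ^ e' i := by
      intro i hi
      rw [Matrix.vecMul, dotProduct, Finset.sum_eq_single i, hdiag' i]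
      · intro l _ hl
        rcases lt_or_gt_of_ne hl with h' | h'
        · rw [hi l h', zero_mul]
        · rw [hlow' l i h', mul_zero]
      · exact fun h' => absurd (Finset.mem_univ i) h'
    have hc : ∀ i, i < j → c i = 0 := by
      intro i
      induction i using WellFoundedLT.induction with
      | _ i ih =>
        intro hij
        have := hlow i hij
        rw [hsum i fun l hl => ih l hl (hl.trans hij)] at this
        exact (mul_eq_zero.mp this).resolve_right (pow_ne_zero _ PowerSeries.X_ne_zero)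
    rw [hsum j hc]
    exact dvd_mul_left _ _
  have hee : ∀ j, e' j = e j := by
    intro j
    have h1 := hdvd (H' j) (hmemL j) j fun i hi => hlow' j i hi
    have h2 := hdvd' (h j) ⟨Nr j, hNr j⟩ j fun i hi => hhlow j i hi
    rw [hdiag'] at h1
    rw [hhdiag] at h2
    exact le_antisymm ((pow_dvd_pow_iff PowerSeries.X_ne_zero PowerSeries.X_irreducible.not_isUnit).mp h2)
      ((pow_dvd_pow_iff PowerSeries.X_ne_zero PowerSeries.X_irreducible.not_isUnit).mp h1)
  suffices hh : ∀ i, H' i = h i from Matrix.ext fun i j => congrFun (hh i) j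
  intro i
  funext l
  induction l using WellFoundedLT.induction with
  | _ l ih =>
    rcases lt_trichotomy l i with h' | h' | h'
    · rw [hlow' i l h', hhlow i l h']
    · rw [h', hdiag', hhdiag, hee]
    · have hd := hdvd (H' i - h i) (L.sub_mem (hmemL i) ⟨Nr i, hNr i⟩) l fun m hm => by
        rw [Pi.sub_apply, ih m hm, sub_self]
      rw [Pi.sub_apply] at hd
      ext m
      rcases Nat.lt_or_ge m (e l) with hm | hm
      · have := PowerSeries.X_pow_dvd_iff.mp hd m hm
        rwa [map_sub, sub_eq_zero] at this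
      · rw [hhred i l h' m hm, hred' i l h' m (hee l ▸ hm)]

end Groth.Agent.S14038
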