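import Groth.Statements.S14039
import Mathlib.RingTheory.PowerSeries.WellKnown
import Mathlib.Algebra.Order.Antidiag.Pi
import Mathlib.Algebra.Ring.GeomSum
-- import your own Groth.Agent.* helpers here

set_option autoImplicit false
set_option linter.style.haveILetI false
set_option linter.unusedSimpArgs false
open W4c1frobunstiva

namespace Groth.Agent.S14039

/-- For natural numbers p, n ≥ 1 and s, the number of monomials of degree s in n variables in which
every variable occurs with a positive exponent strictly less than p — that is, of exponent vectors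
(e_1, …, e_n) with sum s and 1 ≤ e_i ≤ p − 1 — equals the inclusion–exclusion sum over i from 0 to n
of (−1)^i · C(n, i) · C(s − i(p − 1) − 1, n − 1), the last factor counting monomials of degree s −
i(p − 1) − n in n variables and read as 0 when s < i(p − 1) + n. (A companion count, by how many
exponents lie below p/2, and a remark on polynomiality in s and p are not part of this row.) -/
theorem result (p n s : ℕ)
    (hn : 1 ≤ n) :
    (Fintype.card {e : Fin n → Fin p // (∀ i, 1 ≤ (e i : ℕ)) ∧ ∑ i, (e i : ℕ) = s} : ℤ) =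
      ∑ i ∈ Finset.range (n + 1),
        (-1 : ℤ) ^ i * (n.choose i : ℤ) *
          (if i * (p - 1) + n ≤ s then (((s - i * (p - 1) - 1).choose (n - 1) : ℕ) : ℤ) else 0) := by
  classical
  let q : PowerSeries ℤ := ∑ a ∈ (Finset.range p).filter (1 ≤ ·), (PowerSeries.X : PowerSeries ℤ) ^ a
  have hcard : (Fintype.card {e : Fin n → Fin p // (∀ i, 1 ≤ (e i : ℕ)) ∧ ∑ i, (e i : ℕ) = s} : ℤ) =
      PowerSeries.coeff s (q ^ n) := by
    have hexp : q ^ n = ∑ e ∈ Fintype.piFinset (fun _ : Fin n => (Finset.range p).filter (1 ≤ ·)),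
        (PowerSeries.X : PowerSeries ℤ) ^ (∑ i, e i) := by
      rw [← Fin.prod_const, Finset.prod_univ_sum]
      simp only [Finset.prod_pow_eq_pow_sum]
    rw [hexp, map_sum]
    simp only [PowerSeries.coeff_X_pow, Finset.sum_boole]
    norm_cast
    refine Finset.card_bij (fun e _ i => (e.1 i : ℕ)) (fun e _ => ?_) (fun a _ b _ h => ?_)
      (fun e he => ?_)
    · refine Finset.mem_filter.2 ⟨Fintype.mem_piFinset.2 fun i => ?_, e.2.2.symm⟩
      exact Finset.mem_filter.2 ⟨Finset.mem_range.2 (e.1 i).2, e.2.1 i⟩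
    · exact Subtype.ext (funext fun i => Fin.ext (congrFun h i))
    · obtain ⟨he1, he2⟩ := Finset.mem_filter.1 he
      rw [Fintype.mem_piFinset] at he1
      exact ⟨⟨fun i => ⟨e i, Finset.mem_range.1 (Finset.mem_filter.1 (he1 i)).1⟩,
        fun i => (Finset.mem_filter.1 (he1 i)).2, he2.symm⟩, Finset.mem_univ _, rfl⟩
  obtain ⟨N, rfl⟩ : ∃ N, n = N + 1 := ⟨n - 1, by omega⟩
  have hgeom : q * (1 - PowerSeries.X) = PowerSeries.X * (1 - PowerSeries.X ^ (p - 1)) := by
    have e : q = ∑ a ∈ Finset.range (p - 1), (PowerSeries.X : PowerSeries ℤ) * PowerSeries.X ^ a := by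
      refine Finset.sum_nbij' (fun a => a - 1) (fun a => a + 1) ?_ ?_ ?_ ?_ ?_ <;>
        intro a ha <;> simp only [Finset.coe_filter, Finset.mem_filter, Finset.mem_coe,
          Finset.mem_range, Set.mem_ofPred_eq, Finset.coe_range, Set.mem_Iio] at ha ⊢ <;>
        try omega
      rw [← pow_succ']
      congr 1
      omega
    rw [e, ← Finset.mul_sum, mul_assoc, geom_sum_mul_neg]
  have hq : q ^ (N + 1) = PowerSeries.X ^ (N + 1) * (1 - PowerSeries.X ^ (p - 1)) ^ (N + 1) *
      PowerSeries.mk fun t => ((N + t).choose N : ℤ) := by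
    have h1 := congrArg (fun t => t ^ (N + 1) * PowerSeries.mk fun t => ((N + t).choose N : ℤ)) hgeom
    simp only [mul_pow] at h1
    rw [← h1, mul_assoc, mul_comm ((1 - PowerSeries.X) ^ (N + 1)),
      PowerSeries.mk_add_choose_mul_one_sub_pow_eq_one ℤ N, mul_one]
  have hbin : (1 - (PowerSeries.X : PowerSeries ℤ) ^ (p - 1)) ^ (N + 1) =
      ∑ i ∈ Finset.range (N + 1 + 1), PowerSeries.C ((-1 : ℤ) ^ i * ((N + 1).choose i : ℤ)) *
        PowerSeries.X ^ (i * (p - 1)) := by
    rw [sub_eq_neg_add, add_pow]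
    refine Finset.sum_congr rfl fun i _ => ?_
    rw [neg_pow, one_pow, mul_one, map_mul, map_pow, map_neg, map_one, map_natCast, ← pow_mul,
      mul_comm (p - 1) i]
    ring
  rw [hcard, hq, hbin, Finset.mul_sum, Finset.sum_mul, map_sum]
  refine Finset.sum_congr rfl fun i _ => ?_
  rw [← mul_assoc, mul_comm (PowerSeries.X ^ (N + 1)) (PowerSeries.C _), mul_assoc (PowerSeries.C _),
    ← pow_add, mul_assoc, PowerSeries.coeff_C_mul, PowerSeries.coeff_X_pow_mul']
  congr 1
  simp only [add_comm (N + 1) (i * (p - 1))]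
  split_ifs with h
  · rw [PowerSeries.coeff_mk]
    congr 2
    omega
  · rfl

end Groth.Agent.S14039
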