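import Groth.Statements.S1404
import Groth.Agent.FlatFunLib.NoVertical

set_option autoImplicit false
universe u
open FlatMor

namespace Groth.Agent.S1404

/-- Let A → B be an injective local homomorphism of local domains with B essentially of finite type over
A, and g an element of the maximal ideal of B lying in no minimal prime over m_A B. Assume dim(B /
m_A B) + trdeg_{κ(A)} κ(B) = trdeg_A B (with all three finite). Then A → B/gB is injective. -/
theorem result {A B : Type u} [CommRing A] [CommRing B] [IsDomain A] [IsDomain B] [IsLocalRing A] [IsLocalRing B]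
    [Algebra A B] [IsLocalHom (algebraMap A B)] [FaithfulSMul A B] [Algebra.EssFiniteType A B]
    (g : B) (hg : g ∈ IsLocalRing.maximalIdeal B)
    (hmin : ∀ q ∈ (Ideal.map (algebraMap A B) (IsLocalRing.maximalIdeal A)).minimalPrimes, g ∉ q)
    (d e : ℕ) (hd : ringKrullDim (B ⧸ Ideal.map (algebraMap A B) (IsLocalRing.maximalIdeal A)) = d)
    (he : Algebra.trdeg (IsLocalRing.ResidueField A) (IsLocalRing.ResidueField B) = e) (hsum : Algebra.trdeg A B = (d + e : ℕ)) :
    Function.Injective (algebraMap A (B ⧸ Ideal.span {g})) := by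
  let C := Algebra.EssFiniteType.subalgebra A B
  obtain ⟨q, hq, hloc, hp, b, δ, hb, hδ, hdim⟩ := FlatFunLib.exists_chart (A := A) (B := B)
  haveI := hq
  haveI := hloc
  haveI : FaithfulSMul A C := (faithfulSMul_iff_algebraMap_injective _ _).2 fun x y hxy =>
    FaithfulSMul.algebraMap_injective A B (congrArg Subtype.val hxy)
  haveI hinj : FaithfulSMul C B := (faithfulSMul_iff_algebraMap_injective _ _).2 Subtype.val_injective
  haveI : Algebra.IsAlgebraic C B := IsLocalization.isAlgebraic B q.primeCompl
  have htr : Algebra.trdeg A C = ((d + e : ℕ) : Cardinal.{u}) := by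
    rw [← hsum, ← trdeg_add_eq A C (A := B), trdeg_eq_zero (R := C) (A := B), add_zero]
  have hbd : b + δ = d + e := by
    have h1 : b = d := by exact_mod_cast hb.symm.trans hd
    have h2 : δ = e := by exact_mod_cast hδ.symm.trans he
    rw [h1, h2]
  rw [hbd] at hdim
  obtain ⟨⟨c, s⟩, hgs⟩ := IsLocalization.surj q.primeCompl g
  have hcq : c ∈ q := by
    rw [← IsLocalization.AtPrime.comap_maximalIdeal B q, Ideal.mem_comap, ← hgs]
    exact Ideal.mul_mem_right _ _ hg
  rw [injective_iff_map_eq_zero]
  intro a ha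
  by_contra ha0
  rw [IsScalarTower.algebraMap_apply A B (B ⧸ Ideal.span {g}), Ideal.Quotient.algebraMap_eq,
    Ideal.Quotient.eq_zero_iff_mem, Ideal.mem_span_singleton'] at ha
  obtain ⟨r, hr⟩ := ha
  obtain ⟨⟨c', s'⟩, hrs⟩ := IsLocalization.surj q.primeCompl r
  have hkey : algebraMap A C a * (s * s' : C) = c * c' := by
    refine FaithfulSMul.algebraMap_injective C B ?_
    rw [map_mul, map_mul, map_mul, ← IsScalarTower.algebraMap_apply, ← hr, ← hgs, ← hrs]
    ring
  obtain ⟨M, hMq, hcM, hMp, hMmin⟩ := FlatFunLib.exists_vertical_component q c hcq (d + e) htr hdim.le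
    fun P hPq hcP hP0 => by
      have h1 : algebraMap A C a * (s * s' : C) ∈ P.asIdeal := hkey ▸ Ideal.mul_mem_right _ _ hcP
      rcases P.2.mem_or_mem h1 with h1 | h1
      · have h2 : a ∈ P.asIdeal.comap (algebraMap A C) := h1
        rw [hP0, Ideal.mem_bot] at h2
        exact ha0 h2
      · rcases P.2.mem_or_mem h1 with h1 | h1
        · exact s.2 (hPq h1)
        · exact s'.2 (hPq h1)
  have hdis : Disjoint (q.primeCompl : Set C) (M.asIdeal : Set C) :=
    Set.disjoint_left.2 fun z hz hzM => hz (hMq hzM)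
  have hP := IsLocalization.isPrime_of_isPrime_disjoint q.primeCompl B M.asIdeal M.2 hdis
  have hcomap := IsLocalization.comap_map_of_isPrime_disjoint q.primeCompl B M.2 hdis
  have hgP : g ∈ Ideal.map (algebraMap C B) M.asIdeal := by
    refine (hP.mem_or_mem (?_ : g * algebraMap C B s ∈ _)).resolve_right fun h => ?_
    · exact hgs ▸ Ideal.mem_map_of_mem _ hcM
    · exact s.2 (hMq (hcomap ▸ (Ideal.mem_comap.2 h)))
  refine hmin (Ideal.map (algebraMap C B) M.asIdeal) ⟨⟨hP, ?_⟩, fun Q hQ hQP => ?_⟩ hgP
  · rw [IsScalarTower.algebraMap_eq A C B, ← Ideal.map_map]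
    exact Ideal.map_mono (Ideal.map_le_iff_le_comap.2 (hMp.trans hp).ge)
  · haveI := hQ.1
    have hle : Q.comap (algebraMap C B) ≤ M.asIdeal := hcomap ▸ Ideal.comap_mono hQP
    have hQA : (Q.comap (algebraMap C B)).comap (algebraMap A C) = IsLocalRing.maximalIdeal A := by
      rw [Ideal.comap_comap, ← IsScalarTower.algebraMap_eq]
      exact ((IsLocalRing.maximalIdeal.isMaximal A).eq_of_le (Ideal.IsPrime.ne_top inferInstance)
        (Ideal.map_le_iff_le_comap.1 hQ.2)).symm
    have hN := hMmin ⟨Q.comap (algebraMap C B), inferInstance⟩ hle (hQA.trans hp.symm)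
    rw [← IsLocalization.map_comap q.primeCompl B Q]
    exact Ideal.map_mono (congrArg PrimeSpectrum.asIdeal hN).ge

end Groth.Agent.S1404
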