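import Groth.Statements.S14040
import Groth.Agent.FlatDvr.Scheme

set_option autoImplicit false
universe u v
open W4c1frobunstiva

namespace Groth.Agent.S14040

open TensorProduct in
/-- Let A be a discrete valuation ring and B a Noetherian A-algebra such that the nilradical of B is
prime and meets the image of A only in 0 — the spectrum of B is irreducible and its generic point
lies over the generic point of A. If every fibre ring κ(p) ⊗_A B, p a prime of A, is reduced, then B
is reduced and flat over A. (Affine form of the statement for a dominant morphism from an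
irreducible scheme to the spectrum of a discrete valuation ring with reduced fibres. The published
statement also covers a scheme that is already reduced and does not assume it locally Noetherian;
this row treats reduced fibres with B Noetherian, without which the square-zero extension A ⊕
Frac(A)/A is a counterexample.) -/
theorem result (A : Type u) [CommRing A]
    [IsDomain A] [IsDiscreteValuationRing A] (B : Type v) [CommRing B] [Algebra A B]
    [IsNoetherianRing B] (hirr : (nilradical B).IsPrime)
    (hdom : (nilradical B).comap (algebraMap A B) = ⊥)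
    (hfib : ∀ p : PrimeSpectrum A, IsReduced (p.asIdeal.ResidueField ⊗[A] B)) :
    IsReduced B ∧ Module.Flat A B := by
  classical
  obtain ⟨ϖ, hϖ⟩ := IsDiscreteValuationRing.exists_irreducible A
  let e := algebraMap A B ϖ
  have hm : IsLocalRing.maximalIdeal A = Ideal.span {ϖ} := hϖ.maximalIdeal_eq
  -- the special fibre
  have hred : _root_.IsReduced (B ⧸ Ideal.span ({e} : Set B)) := by
    let p : PrimeSpectrum A := IsLocalRing.closedPoint A
    have := hfib p
    have : p.asIdeal.IsMaximal := IsLocalRing.maximalIdeal.isMaximal A
    let g : (A ⧸ p.asIdeal) ⊗[A] B →ₐ[A] p.asIdeal.ResidueField ⊗[A] B :=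
      Algebra.TensorProduct.map (IsScalarTower.toAlgHom A (A ⧸ p.asIdeal) p.asIdeal.ResidueField) (AlgHom.id A B)
    have hinj : Function.Injective g := by
      have : Function.Bijective (IsScalarTower.toAlgHom A (A ⧸ p.asIdeal) p.asIdeal.ResidueField) :=
        Ideal.bijective_algebraMap_quotient_residueField p.asIdeal
      exact (Algebra.TensorProduct.congr (AlgEquiv.ofBijective _ this) AlgEquiv.refl).injective
    have : _root_.IsReduced ((A ⧸ p.asIdeal) ⊗[A] B) := isReduced_of_injective g hinj
    let e' := (Algebra.TensorProduct.quotIdealMapEquivTensorQuot B p.asIdeal).toRingEquiv.trans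
      (Algebra.TensorProduct.comm A B (A ⧸ p.asIdeal)).toRingEquiv
    have : _root_.IsReduced (B ⧸ p.asIdeal.map (algebraMap A B)) := isReduced_of_injective e' e'.injective
    have heq : p.asIdeal.map (algebraMap A B) = Ideal.span ({e} : Set B) := by
      rw [show p.asIdeal = Ideal.span {ϖ} from hm, Ideal.map_span, Set.image_singleton]
    rwa [heq] at this
  -- the uniformiser is regular
  have hreg : IsSMulRegular B e := by
    refine IsSMulRegular.of_right_eq_zero_of_smul fun a ha ↦ ?_
    by_contra ha0
    obtain ⟨Q, hQ, hle⟩ := Ideal.exists_le_maximal ((⊥ : Ideal B).colon {a}) (by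
      intro htop
      have : (1 : B) ∈ (⊥ : Ideal B).colon {a} := by rw [htop]; trivial
      rw [Submodule.mem_colon_singleton, one_smul, Submodule.mem_bot] at this
      exact ha0 this)
    have heQ : e ∈ Q := hle (by rw [Submodule.mem_colon_singleton, Submodule.mem_bot]; exact ha)
    let T := Localization.AtPrime Q
    have : IsNoetherianRing T := IsLocalization.isNoetherianRing Q.primeCompl T inferInstance
    have hT : _root_.IsReduced (T ⧸ Ideal.span ({algebraMap B T e} : Set T)) := by
      have h1 : Ideal.span ({algebraMap B T e} : Set T) = (Ideal.span ({e} : Set B)).map (algebraMap B T) := by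
        rw [Ideal.map_span, Set.image_singleton]
      rw [h1, ← Ideal.isRadical_iff_quotient_reduced]
      intro z hz
      obtain ⟨c, s, rfl⟩ := IsLocalization.exists_mk'_eq Q.primeCompl z
      obtain ⟨n, hn⟩ := hz
      rw [← IsLocalization.mk'_pow, IsLocalization.mk'_mem_map_algebraMap_iff] at hn
      obtain ⟨t, ht, htc⟩ := hn
      rw [IsLocalization.mk'_mem_map_algebraMap_iff]
      refine ⟨t, ht, ((Ideal.isRadical_iff_quotient_reduced _).mpr hred) ⟨n + 1, ?_⟩⟩
      rw [show (t * c) ^ (n + 1) = t * c ^ n * (t ^ n * c) by ring]
      exact Ideal.mul_mem_right _ _ htc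
    have hregT := FlatDvr.isSMulRegular_of_isReduced_quotient (algebraMap B T e)
      ((IsLocalization.AtPrime.to_map_mem_maximal_iff T Q e).mpr heQ) hT fun P hP ↦ by
        have : (nilradical B).IsPrime := hirr
        have hnQ : nilradical B ≤ Q := fun b hb ↦ (mem_nilradical.mp hb).elim fun n hn ↦
          hQ.isPrime.mem_of_pow_mem n (hn ▸ zero_mem _)
        refine ⟨(nilradical B).map (algebraMap B T), IsLocalization.isPrime_of_isPrime_disjoint Q.primeCompl T _ hirr
          (Set.disjoint_left.mpr fun s hs hsn ↦ hs (hnQ hsn)), ?_, fun h ↦ ?_⟩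
        · rw [Ideal.map_le_iff_le_comap]
          intro b hb
          obtain ⟨n, hn⟩ := mem_nilradical.mp hb
          exact hP.1.1.mem_of_pow_mem n (by rw [← map_pow, hn, map_zero]; exact zero_mem _)
        · obtain ⟨s, hs, hse⟩ := (IsLocalization.algebraMap_mem_map_algebraMap_iff Q.primeCompl T _ e).mp h
          have he0 : e ∈ nilradical B := (hirr.mem_or_mem hse).resolve_left fun h' ↦ hs (hnQ h')
          exact hϖ.ne_zero ((Ideal.mem_bot).mp (hdom.le (show ϖ ∈ (nilradical B).comap (algebraMap A B) from he0)))
    have h0 : algebraMap B T a = 0 := hregT.right_eq_zero_of_smul (by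
      rw [smul_eq_mul, ← map_mul, show e * a = 0 from ha, map_zero])
    obtain ⟨s, hs⟩ := (IsLocalization.map_eq_zero_iff Q.primeCompl T a).mp h0
    exact s.2 (hle (by rw [Submodule.mem_colon_singleton, Submodule.mem_bot]; exact hs))
  have hreg' : IsSMulRegular B ϖ := fun a b hab ↦ hreg (by
    show e * a = e * b
    rw [← Algebra.smul_def, ← Algebra.smul_def]; exact hab)
  refine ⟨⟨fun a ha ↦ ?_⟩, FlatDvr.flat_of_isSMulRegular hϖ hreg'⟩
  -- a nilpotent element dies in the generic fibre
  have := hfib ⟨⊥, Ideal.isPrime_bot⟩
  let K := (⊥ : Ideal A).ResidueField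
  have h0 : (1 : K) ⊗ₜ[A] a = 0 := IsReduced.eq_zero _ (ha.map (Algebra.TensorProduct.includeRight : B →ₐ[A] K ⊗[A] B))
  have : Module.Flat A B := FlatDvr.flat_of_isSMulRegular hϖ hreg'
  have hK : Function.Injective (Algebra.linearMap A K) := by
    intro x y hxy
    rw [← sub_eq_zero] at hxy ⊢
    change algebraMap A K x - algebraMap A K y = 0 at hxy
    rw [← map_sub] at hxy
    exact Ideal.mem_bot.mp (Ideal.algebraMap_residueField_eq_zero.mp hxy)
  have h1 := Module.Flat.rTensor_preserves_injective_linearMap (M := B) _ hK
  have h2 : (Algebra.linearMap A K).rTensor B ((1 : A) ⊗ₜ[A] a) = 0 := by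
    rw [LinearMap.rTensor_tmul, Algebra.linearMap_apply, map_one]; exact h0
  have h3 : (1 : A) ⊗ₜ[A] a = 0 := h1 (h2.trans (map_zero _).symm)
  have h4 := congrArg (TensorProduct.lid A B) h3
  simpa using h4

end Groth.Agent.S14040
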