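import Groth.Statements.S14044
import Groth.Agent.S14038
import Mathlib

set_option autoImplicit false
universe u
open W4c1frobunstiva

namespace Groth.Agent.S14044

/-- Let k be a field, p a prime number and M a square matrix of size r over k[[t]] with non-zero
determinant. Allowing, besides invertible row operations over k[[t]], invertible column operations
by matrices with entries in k[[t^p]] (power series whose coefficients vanish in all degrees not
divisible by p), M can be brought to a row-reduced form — upper triangular, diagonal entries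
t^{e_i}, entries above the diagonal in column j polynomials of degree less than e_j — in which in
addition the (i, j) entry (i < j) has no term in a degree that is at least e_i and congruent to e_i
modulo p. (Existence only; the form is not unique. The published statement asks that no term in any
degree congruent to e_i modulo p remain; the published reduction — adding k[[t^p]]-multiples of
column i to column j — removes exactly the terms of degree at least e_i, which is what is asserted
here. The published statement takes k algebraically closed of characteristic p, where k[[t^p]] is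
the ring of p-th powers; neither assumption is used.) -/
theorem result (k : Type u)
    [Field k] (p : ℕ) [Fact p.Prime] (r : ℕ) (M : Matrix (Fin r) (Fin r) (PowerSeries k))
    (hM : M.det ≠ 0) :
    ∃ (N P : Matrix (Fin r) (Fin r) (PowerSeries k)) (e : Fin r → ℕ), IsUnit N ∧ IsUnit P ∧
      (∀ i j n, ¬ p ∣ n → PowerSeries.coeff n (P i j) = 0) ∧
      (∀ i, (N * M * P) i i = PowerSeries.X ^ e i) ∧ (∀ i j, j < i → (N * M * P) i j = 0) ∧
      (∀ i j, i < j → ∀ n, (e j ≤ n ∨ (e i ≤ n ∧ n % p = e i % p)) →
        PowerSeries.coeff n ((N * M * P) i j) = 0) := by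
  classical
  obtain ⟨H₀, ⟨⟨e, he1, he2, -⟩, N₀, hN₀, hNM⟩, -⟩ := Groth.Agent.S14038.result k r M hM
  -- clearing one column
  have hclear : ∀ (H : Matrix (Fin r) (Fin r) (PowerSeries k)), (∀ i, H i i = PowerSeries.X ^ e i) →
      (∀ i j, j < i → H i j = 0) → ∀ (d : ℕ), d ≤ r → ∀ v : Fin r → PowerSeries k,
      ∃ c : Fin r → PowerSeries k, (∀ l : Fin r, d ≤ (l : ℕ) → c l = 0) ∧
        (∀ (l : Fin r) (n : ℕ), ¬ p ∣ n → PowerSeries.coeff n (c l) = 0) ∧
        ∀ i : Fin r, (i : ℕ) < d → ∀ n, e i ≤ n → n % p = e i % p →
          PowerSeries.coeff n (v i + ∑ l, H i l * c l) = 0 := by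
    intro H h1 h2 d
    induction d with
    | zero => exact fun _ v => ⟨0, fun _ _ => rfl, fun _ _ _ => map_zero _, fun i hi => absurd hi (Nat.not_lt_zero _)⟩
    | succ d ih =>
      intro hd v
      let s : Fin r := ⟨d, hd⟩
      let a : PowerSeries k := PowerSeries.mk fun n => if p ∣ n then - PowerSeries.coeff (n + e s) (v s) else 0
      obtain ⟨c, hc0, hcp, hc⟩ := ih (by omega) fun i => v i + H i s * a
      refine ⟨c + Pi.single s a, fun l hl => ?_, fun l n hn => ?_, fun i hi n hn hnp => ?_⟩
      · rw [Pi.add_apply, hc0 l (by omega), Pi.single_eq_of_ne (fun h => by rw [h] at hl; simp [s] at hl), add_zero]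
      · rw [Pi.add_apply, map_add, hcp l n hn, zero_add]
        rcases eq_or_ne l s with rfl | hl
        · rw [Pi.single_eq_same, PowerSeries.coeff_mk, if_neg hn]
        · rw [Pi.single_eq_of_ne hl, map_zero]
      · have hsum : ∑ l : Fin r, H i l * (c l + if l = s then a else 0) = ∑ l, H i l * c l + H i s * a := by
          simp [mul_add, Finset.sum_add_distrib]
        simp only [Pi.add_apply, Pi.single_apply]
        rw [hsum]
        rcases Nat.lt_or_ge (i : ℕ) d with hid | hid
        · have := hc i hid n hn hnp
          rwa [← add_assoc, add_right_comm]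
        · obtain rfl : i = s := Fin.ext (by simp only [s]; omega)
          have h0 : ∑ l, H s l * c l = 0 := Finset.sum_eq_zero fun l _ => by
            rcases Nat.lt_or_ge (l : ℕ) d with hl | hl
            · rw [h2 s l hl, zero_mul]
            · rw [hc0 l hl, mul_zero]
          rw [h0, zero_add, h1, map_add]
          obtain ⟨m, rfl⟩ := Nat.exists_eq_add_of_le hn
          have hpm : p ∣ m := by
            have := Nat.sub_mod_eq_zero_of_mod_eq hnp
            rw [Nat.add_sub_cancel_left] at this
            exact Nat.dvd_of_mod_eq_zero this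
          rw [add_comm (e s) m, mul_comm, PowerSeries.coeff_mul_X_pow, PowerSeries.coeff_mk, if_pos hpm,
            add_neg_cancel]
  suffices key : ∀ s, s ≤ r → ∃ N P : Matrix (Fin r) (Fin r) (PowerSeries k), IsUnit N ∧ IsUnit P ∧
      (∀ i j n, ¬ p ∣ n → PowerSeries.coeff n (P i j) = 0) ∧
      (∀ i, (N * M * P) i i = PowerSeries.X ^ e i) ∧ (∀ i j, j < i → (N * M * P) i j = 0) ∧
      ∀ i j : Fin r, (j : ℕ) < s → i < j → ∀ n, (e j ≤ n ∨ (e i ≤ n ∧ n % p = e i % p)) →
        PowerSeries.coeff n ((N * M * P) i j) = 0 by
    obtain ⟨N, P, h1, h2, h3, h4, h5, h6⟩ := key r le_rfl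
    exact ⟨N, P, e, h1, h2, h3, h4, h5, fun i j hij => h6 i j j.2 hij⟩
  intro s
  induction s with
  | zero =>
    refine fun _ => ⟨N₀, 1, hN₀, isUnit_one, fun i j n hn => ?_, ?_, ?_, fun i j hj => absurd hj (Nat.not_lt_zero _)⟩
    · rw [Matrix.one_apply]
      split_ifs with h
      · rw [PowerSeries.coeff_one, if_neg]
        rintro rfl
        exact hn (dvd_zero p)
      · exact map_zero _
    · rw [mul_one, hNM]; exact he1
    · rw [mul_one, hNM]; exact he2
  | succ s ih =>
    intro hs
    obtain ⟨N, P, hN, hP, hPp, h1, h2, h3⟩ := ih (by omega)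
    generalize hH : N * M * P = H at h1 h2 h3
    let j : Fin r := ⟨s, hs⟩
    obtain ⟨c, hc0, hcp, hc⟩ := hclear H h1 h2 s (by omega) fun i => H i j
    set w : Fin r → PowerSeries k := fun i => H i j + ∑ l, H i l * c l with hwdef
    let q : Fin r → PowerSeries k := fun l => if (l : ℕ) < s then
      PowerSeries.mk (fun m => - PowerSeries.coeff (m + e j) (w l)) else 0
    let C : Matrix (Fin r) (Fin r) (PowerSeries k) := Matrix.of fun a b => if b = j then c a else 0
    let Q : Matrix (Fin r) (Fin r) (PowerSeries k) := Matrix.of fun a b => if b = j then q a else 0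
    have hC : C * C = 0 := by
      ext1 a b
      rw [Matrix.mul_apply, Matrix.zero_apply]
      refine Finset.sum_eq_zero fun l _ => ?_
      simp only [C, Matrix.of_apply]
      by_cases h : l = j
      · rw [if_pos h]
        by_cases h' : b = j
        · rw [if_pos h', h, hc0 j le_rfl, mul_zero]
        · rw [if_neg h', mul_zero]
      · rw [if_neg h, zero_mul]
    have hQ : Q * Q = 0 := by
      ext1 a b
      rw [Matrix.mul_apply, Matrix.zero_apply]
      refine Finset.sum_eq_zero fun l _ => ?_
      simp only [Q, Matrix.of_apply]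
      by_cases h : l = j
      · rw [if_pos h]
        by_cases h' : b = j
        · rw [if_pos h', h, show q j = 0 from if_neg (lt_irrefl s), mul_zero]
        · rw [if_neg h', mul_zero]
      · rw [if_neg h, zero_mul]
    have hG : ∀ a b, ((1 + Q) * N * M * (P * (1 + C))) a b =
        (if b = j then w a + q a * w j else H a b + q a * H j b) := by
      intro a b
      rw [show (1 + Q) * N * M * (P * (1 + C)) = (1 + Q) * (N * M * P * (1 + C)) by
        simp only [Matrix.mul_assoc], hH, add_mul, one_mul, Matrix.add_apply, Matrix.mul_apply (M := Q)]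
      have hX : ∀ x, (H * (1 + C)) x b = if b = j then w x else H x b := fun x => by
        rw [mul_add, mul_one, Matrix.add_apply, Matrix.mul_apply]
        split_ifs with hb
        · subst hb
          show _ = H x j + ∑ l, H x l * c l
          refine congrArg _ (Finset.sum_congr rfl fun l _ => ?_)
          rw [show C l j = c l from if_pos rfl]
        · rw [Finset.sum_eq_zero (fun l _ => by
            rw [show C l b = 0 from if_neg hb, mul_zero]), add_zero]
      simp only [Q, Matrix.of_apply, ite_mul, zero_mul, Finset.sum_ite_eq', Finset.mem_univ, if_true, hX]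
      split_ifs <;> rfl
    have hwlow : ∀ a, j ≤ a → w a = H a j := fun a ha => by
      rw [hwdef]
      simp only [add_eq_left]
      refine Finset.sum_eq_zero fun l _ => ?_
      rcases Nat.lt_or_ge (l : ℕ) s with hl | hl
      · rw [h2 a l (lt_of_lt_of_le (show l < j from hl) ha), zero_mul]
      · rw [hc0 l hl, mul_zero]
    have hq0 : ∀ a, j ≤ a → q a = 0 := fun a ha => if_neg (by
      have : s ≤ (a : ℕ) := ha
      omega)
    have hunitC : IsUnit (1 + C) := ⟨⟨1 + C, 1 - C, by noncomm_ring; simp [hC], by noncomm_ring; simp [hC]⟩, rfl⟩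
    have hunitQ : IsUnit (1 + Q) := ⟨⟨1 + Q, 1 - Q, by noncomm_ring; simp [hQ], by noncomm_ring; simp [hQ]⟩, rfl⟩
    refine ⟨(1 + Q) * N, P * (1 + C), hunitQ.mul hN, hP.mul hunitC, fun a b n hn => ?_, fun a => ?_,
      fun a b hba => ?_, fun a b hb hab n hn => ?_⟩
    · rw [mul_add, mul_one, Matrix.add_apply, map_add, hPp a b n hn, zero_add, Matrix.mul_apply, map_sum]
      refine Finset.sum_eq_zero fun l _ => ?_
      rw [PowerSeries.coeff_mul]
      refine Finset.sum_eq_zero fun x hx => ?_
      rw [Finset.HasAntidiagonal.mem_antidiagonal] at hx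
      by_cases hx1 : p ∣ x.1
      · have hx2 : ¬ p ∣ x.2 := fun h => hn (hx ▸ dvd_add hx1 h)
        have : PowerSeries.coeff x.2 (C l b) = 0 := by
          simp only [C, Matrix.of_apply]
          split_ifs
          · exact hcp l x.2 hx2
          · exact map_zero _
        rw [this, mul_zero]
      · rw [hPp a l x.1 hx1, zero_mul]
    · rw [hG]
      split_ifs with h
      · rw [h, hwlow j le_rfl, hq0 j le_rfl, zero_mul, add_zero, h1]
      · rcases lt_or_gt_of_ne h with h' | h'
        · rw [h2 j a h', mul_zero, add_zero, h1]
        · rw [hq0 a h'.le, zero_mul, add_zero, h1]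
    · rw [hG]
      split_ifs with h
      · subst h
        rw [hwlow a hba.le, hq0 a hba.le, zero_mul, add_zero, h2 a j hba]
      · rcases lt_or_ge a j with h' | h'
        · rw [h2 a b hba, h2 j b (hba.trans h'), mul_zero, add_zero]
        · rw [hq0 a h', zero_mul, add_zero, h2 a b hba]
    · rw [hG]
      rcases Nat.lt_or_ge (b : ℕ) s with hbs | hbs
      · rw [if_neg (fun h => by rw [h] at hbs; simp [j] at hbs), h2 j b hbs, mul_zero, add_zero]
        exact h3 a b hbs hab n hn
      · obtain rfl : b = j := Fin.ext (by simp only [j]; omega)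
        rw [if_pos rfl, hwlow j le_rfl, h1, map_add]
        have has : (a : ℕ) < s := hab
        rcases Nat.lt_or_ge n (e j) with hnj | hnj
        · have hx : PowerSeries.coeff n (q a * PowerSeries.X ^ e j) = 0 :=
            PowerSeries.X_pow_dvd_iff.1 (dvd_mul_left _ _) n hnj
          obtain ⟨hn1, hn2⟩ := hn.resolve_left (by omega)
          rw [hx, add_zero]
          exact hc a has n hn1 hn2
        · obtain ⟨m, rfl⟩ := Nat.exists_eq_add_of_le hnj
          rw [add_comm (e j) m, PowerSeries.coeff_mul_X_pow]
          simp [q, has]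

end Groth.Agent.S14044
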