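import Groth.Statements.S14047
import Groth.Agent.NodeFib.FamilyCrit
import Groth.Agent.OmegaLib.FiniteType
-- import your own Groth.Agent.* helpers here

set_option autoImplicit false
set_option backward.isDefEq.respectTransparency false
set_option backward.isDefEq.respectTransparency.types false
set_option maxHeartbeats 1000000
universe u
open CategoryTheory AlgebraicGeometry
open W4c1frobunstiva

namespace Groth.Agent.S14047

/-- Let f : X → B be a proper family of nodal curves — flat, locally of finite presentation, each fibre
having all its irreducible components of dimension one and at worst nodes as singularities. Let Ω be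
an O_X-module equipped with a universal B-derivation (a sheaf of relative differentials of X over B)
and let Z be the closed subscheme of X cut out by the first Fitting ideal sheaf of Ω, the singular
locus of f. Then the composite Z → X → B is finite and formally unramified, so unramified. -/
theorem result {X B : Scheme.{u}}
    (f : X ⟶ B) (hf : Curv2.IsNodalFamily f) [IsProper f] (Ω : X.Modules) (d : OmegaSh.Der f Ω)
    (hd : OmegaSh.IsUniversal d) :
    IsFinite ((Fitt.sheafIdeal Ω 1).subschemeι ≫ f) ∧
      FormallyUnramified ((Fitt.sheafIdeal Ω 1).subschemeι ≫ f) := by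
  obtain ⟨hflat, hfp, -⟩ := (NodeFib.isNodalFamily_iff f).1 hf
  have hu := ((NodeFib.isNodalFamily_iff_of_ideal f (Fitt.sheafIdeal Ω 1) fun _ U V e => by
    letI := (f.appLE U.1 V.1 e).hom.toAlgebra
    haveI : Algebra.FiniteType Γ(B, U.1) Γ(X, V.1) := f.finiteType_appLE U.2 V.2 e
    obtain ⟨L, -⟩ := OmegaLib.exists_linearEquiv hd e V.2 U.2
    haveI : Module.Finite Γ(X, V.1) Γ(Ω, V.1) := Module.Finite.equiv L.symm
    rw [FittLib.sheafIdeal_ideal (OmegaLib.isQCoh_of_isUniversal hd) (OmegaLib.isFT_of_locallyOfFiniteType hd)]
    exact FittLib.ideal_congr L 1).1 hf).2.2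
  refine ⟨?_, hu⟩
  haveI := hu
  haveI := UnivInjMor.lqf_of_unramified ((Fitt.sheafIdeal Ω 1).subschemeι ≫ f)
  exact IsFinite.of_isProper_of_locallyQuasiFinite _

end Groth.Agent.S14047
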