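import Groth.Statements.S14048
import Mathlib

set_option autoImplicit false
universe u
open TensorProduct
open CAlg

namespace Groth.Agent.S14048

/-- Let A be an integral domain in which 2 is invertible and let t be an element of A, so that Spec A is
a scheme over the affine line Spec ℤ[1/2][t]. Assume that (1) the ℚ-algebra map ℚ[X] → ℚ ⊗_ℤ A
sending X to 1 ⊗ t is bijective (the map Spec A → Spec ℤ[1/2][t] becomes an isomorphism after base
change to ℚ); (2) every prime number is invertible in A/(t) (the fibre over t = 0 is of pure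
characteristic zero); and (3) there is a ring homomorphism s : A → ℤ[1/2] with s(t) = 1 (the fibre
over t = 1 admits a section). Then A is not Noetherian. -/
theorem result (A : Type u) [CommRing A]
    [IsDomain A] (h2 : IsUnit (2 : A)) (t : A)
    (h1 : Function.Bijective (Polynomial.aeval (R := ℚ) ((1 : ℚ) ⊗ₜ[ℤ] t : ℚ ⊗[ℤ] A)))
    (h0 : ∀ p : ℕ, p.Prime → IsUnit ((p : ℕ) : A ⧸ Ideal.span ({t} : Set A)))
    (s : A →+* Localization.Away (2 : ℤ)) (hs : s t = 1) :
    ¬ IsNoetherianRing A := by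
  intro hN
  let eQ : (ℚ ⊗[ℤ] A) ≃ₐ[ℚ] Polynomial ℚ := (AlgEquiv.ofBijective _ h1).symm
  let γ : Polynomial ℚ →ₐ[ℚ] Polynomial ℚ := Polynomial.aeval (Polynomial.X + 1)
  -- expansion at `t = 1`
  let φ : A →+* Polynomial ℚ := γ.toRingHom.comp (eQ.toRingHom.comp
    (Algebra.TensorProduct.includeRight : A →ₐ[ℤ] ℚ ⊗[ℤ] A).toRingHom)
  have he : eQ ((1 : ℚ) ⊗ₜ[ℤ] t) = Polynomial.X := by
    rw [AlgEquiv.symm_apply_eq]
    simp
  have hφt : φ t = Polynomial.X + 1 := by
    show γ (eQ ((1 : ℚ) ⊗ₜ[ℤ] t)) = _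
    rw [he, Polynomial.aeval_X]
  let ι : Localization.Away (2 : ℤ) →+* ℚ :=
    IsLocalization.Away.lift (2 : ℤ) (g := Int.castRingHom ℚ) (by norm_num)
  have hs0 : ∀ a, (φ a).coeff 0 = ι (s a) := by
    let χ : (ℚ ⊗[ℤ] A) →ₐ[ℚ] ℚ := Algebra.TensorProduct.lift (AlgHom.id ℚ ℚ) (ι.comp s).toIntAlgHom
      fun x y => mul_comm _ _
    have hχ : χ.comp eQ.symm.toAlgHom = Polynomial.aeval (1 : ℚ) := Polynomial.algHom_ext (by
      show χ (eQ.symm Polynomial.X) = _
      rw [← he, eQ.symm_apply_apply, Algebra.TensorProduct.lift_tmul]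
      simp [hs, he])
    intro a
    have := DFunLike.congr_fun hχ (eQ ((1 : ℚ) ⊗ₜ[ℤ] a))
    simp only [AlgHom.comp_apply, AlgEquiv.coe_algHom, eQ.symm_apply_apply, χ, Algebra.TensorProduct.lift_tmul,
      map_one, one_mul] at this
    rw [Polynomial.coeff_zero_eq_eval_zero]
    show Polynomial.eval 0 (γ (eQ ((1 : ℚ) ⊗ₜ[ℤ] a))) = _
    refine Eq.trans ?_ this.symm
    generalize eQ ((1 : ℚ) ⊗ₜ[ℤ] a) = q
    simp [γ, ← Polynomial.coe_aeval_eq_eval, ← Polynomial.aeval_algHom_apply]
  obtain ⟨G, hG⟩ := IsNoetherian.noetherian (RingHom.ker s)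
  obtain ⟨p, hp, hpp⟩ :=
    Nat.exists_infinite_primes (2 + ∑ g ∈ G, ∑ k ∈ (φ g).support, ((φ g).coeff k).den + 1)
  let R : Subring ℚ :=
    { carrier := {q | ¬ p ∣ q.den}
      mul_mem' := fun {x y} hx hy h => (hpp.dvd_mul.1 (h.trans (Rat.mul_den_dvd x y))).elim hx hy
      add_mem' := fun {x y} hx hy h => (hpp.dvd_mul.1 (h.trans (Rat.add_den_dvd x y))).elim hx hy
      one_mem' := fun h => hpp.not_dvd_one h
      zero_mem' := fun h => hpp.not_dvd_one h
      neg_mem' := fun {x} hx => by simpa using hx }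
  have hιR : ∀ z, ι z ∈ R := by
    intro z
    obtain ⟨⟨m, ⟨d, k, hk⟩⟩, hm⟩ := IsLocalization.surj (Submonoid.powers (2 : ℤ)) z
    have h2R : ((2 : ℚ)⁻¹) ∈ R := fun h => by
      rw [show ((2 : ℚ)⁻¹).den = 2 by norm_num] at h
      have := Nat.le_of_dvd (by norm_num) h
      omega
    have h := congrArg ι hm
    simp only at hk h
    rw [map_mul, IsLocalization.Away.lift_eq, IsLocalization.Away.lift_eq, ← hk] at h
    simp only [eq_intCast, Int.cast_pow, Int.cast_ofNat] at h
    rw [show ι z = (m : ℚ) * ((2 : ℚ)⁻¹) ^ k by rw [← h, inv_pow]; field_simp]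
    exact mul_mem (intCast_mem R m) (pow_mem h2R k)
  have hgR : ∀ g ∈ G, ∀ k, (φ g).coeff k ∈ R := fun g hg k h => by
    by_cases hk : k ∈ (φ g).support
    · have h1 := Finset.single_le_sum (f := fun k => ((φ g).coeff k).den) (fun _ _ => Nat.zero_le _) hk
      have h2 := Finset.single_le_sum (f := fun g => ∑ k ∈ (φ g).support, ((φ g).coeff k).den)
        (fun _ _ => Nat.zero_le _) hg
      have := Nat.le_of_dvd (Rat.den_pos _) h
      omega
    · rw [Polynomial.notMem_support_iff.1 hk] at h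
      exact hpp.not_dvd_one h
  have hall : ∀ k a, (φ a).coeff k ∈ R := by
    intro k
    induction k using Nat.strong_induction_on with
    | _ k ih =>
      intro a
      rcases Nat.eq_zero_or_pos k with rfl | hk
      · rw [hs0]; exact hιR _
      obtain ⟨⟨m, ⟨d, j, hj⟩⟩, hm⟩ := IsLocalization.surj (Submonoid.powers (2 : ℤ)) (s a)
      simp only at hj hm
      have hmem : a * (2 : A) ^ j - (m : A) ∈ RingHom.ker s := by
        rw [RingHom.mem_ker, map_sub, map_mul, map_pow, map_ofNat, map_intCast, ← eq_intCast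
          (algebraMap ℤ (Localization.Away (2 : ℤ))) m, ← hm, ← hj, map_pow, map_ofNat, sub_self]
      rw [← hG] at hmem
      obtain ⟨c, -, hc⟩ := (Submodule.mem_span_finset).1 hmem
      have h := congrArg (fun x => (φ x).coeff k) hc
      simp only [map_sum, smul_eq_mul, map_mul, map_sub, map_pow, map_ofNat, map_intCast,
        Polynomial.finset_sum_coeff, Polynomial.coeff_sub] at h
      have hR : ((φ a) * 2 ^ j).coeff k ∈ R := by
        have hz : ((m : Polynomial ℚ)).coeff k = 0 := by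
          rw [show (m : Polynomial ℚ) = Polynomial.C (m : ℚ) from (map_intCast _ _).symm, Polynomial.coeff_C,
            if_neg hk.ne']
        rw [hz, sub_zero] at h
        rw [← h]
        refine sum_mem fun g hg => ?_
        rw [Polynomial.coeff_mul]
        refine sum_mem fun x hx => ?_
        rw [Finset.HasAntidiagonal.mem_antidiagonal] at hx
        rcases Nat.eq_zero_or_pos x.2 with hx0 | hx0
        · have hg0 : g ∈ RingHom.ker s := by rw [← hG]; exact Submodule.subset_span hg
          rw [hx0, hs0 g, RingHom.mem_ker.1 hg0, map_zero, mul_zero]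
          exact zero_mem _
        · exact mul_mem (ih _ (by omega) _) (hgR g hg _)
      rw [show (2 : Polynomial ℚ) ^ j = Polynomial.C ((2 : ℚ) ^ j) by simp [map_pow, map_ofNat],
        Polynomial.coeff_mul_C] at hR
      have h2R : ((2 : ℚ)⁻¹) ∈ R := fun h => by
        rw [show ((2 : ℚ)⁻¹).den = 2 by norm_num] at h
        have := Nat.le_of_dvd (by norm_num) h
        omega
      have := mul_mem hR (pow_mem h2R j)
      rwa [inv_pow, mul_assoc, mul_inv_cancel₀ (by positivity), mul_one] at this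
  -- an element which is `1/p` at `t = 0`
  obtain ⟨b, hb⟩ := Ideal.Quotient.mk_surjective ((h0 p hpp).unit⁻¹ : (A ⧸ Ideal.span ({t} : Set A))ˣ).val
  obtain ⟨w, hw⟩ : ∃ w, (p : A) * b - 1 = t * w := by
    refine Ideal.mem_span_singleton.1 (Ideal.Quotient.eq.1 ?_)
    rw [map_mul, map_natCast, hb, map_one, IsUnit.mul_val_inv]
  have hev : ∀ a, (φ a).eval (-1) ∈ R := fun a => by
    rw [Polynomial.eval_eq_sum]
    exact sum_mem fun k _ => mul_mem (hall k a) (pow_mem (neg_mem (one_mem _)) _)
  have h := congrArg (fun x => (φ x).eval (-1)) hw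
  simp only [map_sub, map_mul, map_natCast, map_one, hφt, Polynomial.eval_sub, Polynomial.eval_mul,
    Polynomial.eval_natCast, Polynomial.eval_one, Polynomial.eval_add, Polynomial.eval_X, neg_add_cancel,
    zero_mul, sub_eq_zero] at h
  have h' := hev b
  rw [show (φ b).eval (-1) = (p : ℚ)⁻¹ from eq_inv_of_mul_eq_one_right h] at h'
  exact h' (by rw [Rat.inv_natCast_den_of_pos hpp.pos])

end Groth.Agent.S14048
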