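import Groth.Statements.S14049
import Mathlib
import Groth.Agent.GrpField.Descent
import Groth.Agent.FinFibImage.Main

set_option autoImplicit false
universe u
open CategoryTheory AlgebraicGeometry
open LocStr

namespace Groth.Agent.S14049

/-- For schemes. Let f : X → Y be a morphism of schemes and let I be a quasi-coherent sheaf of ideals on
X which is nilpotent (some power of I is zero). Let X₁ ⊆ X be the closed subscheme defined by I².
Then f is a closed immersion as soon as the composite X₁ → X → Y is one. (The published statement is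
the same assertion for a morphism of algebraic stacks; it is stated here for schemes.) -/
theorem result (X Y : Scheme.{u}) (f : X ⟶ Y)
    (I : X.IdealSheafData) (hI : IsNilpotent I)
    (h : IsClosedImmersion ((I ^ 2).subschemeι ≫ f)) :
    IsClosedImmersion f := by
  have hring : ∀ {A B : Type u} [CommRing A] [CommRing B] (φ : A →+* B) (J : Ideal B),
      IsNilpotent J → (∀ b, ∃ a, b - φ a ∈ J ^ 2) → Function.Surjective φ := by
    intro A B _ _ φ J hJ hs
    have hm : ∀ m, ∀ x ∈ J ^ (m + 1), ∃ a, φ a ∈ J ^ (m + 1) ∧ x - φ a ∈ J ^ (m + 2) := by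
      intro m
      induction m with
      | zero =>
        intro x hx
        obtain ⟨a, ha⟩ := hs x
        rw [zero_add, pow_one] at hx ⊢
        refine ⟨a, ?_, ha⟩
        have h2 := J.sub_mem hx (Ideal.pow_le_self two_ne_zero ha)
        rwa [sub_sub_cancel] at h2
      | succ m ih =>
        intro x hx
        rw [pow_succ J (m + 1)] at hx
        induction hx using Submodule.mul_induction_on' with
        | mem_mul_mem u hu v hv =>
          obtain ⟨c, hc, hc'⟩ := ih u hu
          obtain ⟨d, hd⟩ := hs v
          have hdJ : φ d ∈ J := by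
            have h2 := J.sub_mem hv (Ideal.pow_le_self two_ne_zero hd)
            rwa [sub_sub_cancel] at h2
          refine ⟨c * d, by rw [map_mul, pow_succ]; exact Ideal.mul_mem_mul hc hdJ, ?_⟩
          rw [map_mul, show u * v - φ c * φ d = φ c * (v - φ d) + (u - φ c) * v by ring]
          refine Ideal.add_mem _ ?_ ?_
          · rw [show m + 1 + 2 = (m + 1) + 2 from rfl, pow_add]
            exact Ideal.mul_mem_mul hc hd
          · rw [show m + 1 + 2 = (m + 2) + 1 from rfl, pow_succ]
            exact Ideal.mul_mem_mul hc' hv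
        | add u _ v _ hu hv =>
          obtain ⟨a, ha, ha'⟩ := hu
          obtain ⟨b, hb, hb'⟩ := hv
          refine ⟨a + b, by rw [map_add]; exact Ideal.add_mem _ ha hb, ?_⟩
          rw [map_add, add_sub_add_comm]
          exact Ideal.add_mem _ ha' hb'
    obtain ⟨n, hn⟩ := hJ
    have key : ∀ m, ∀ b, ∃ a, b - φ a ∈ J ^ (m + 1) := by
      intro m
      induction m with
      | zero => intro b; obtain ⟨a, ha⟩ := hs b; exact ⟨a, by simpa using Ideal.pow_le_self two_ne_zero ha⟩
      | succ m ih =>
        intro b
        obtain ⟨a, ha⟩ := ih b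
        obtain ⟨c, -, hc⟩ := hm m _ ha
        exact ⟨a + c, by rw [map_add, ← sub_sub]; exact hc⟩
    intro b
    obtain ⟨a, ha⟩ := key n b
    rw [pow_succ, hn, zero_mul, Ideal.zero_eq_bot, Ideal.mem_bot, sub_eq_zero] at ha
    exact ⟨a, ha.symm⟩
  haveI := h
  let ι := (I ^ 2).subschemeι
  haveI : Surjective ι := by
    obtain ⟨n, hn⟩ := hI
    have h1 : (I ^ (n + 1)).support = I.support := Scheme.IdealSheafData.support_pow_succ I n
    have h0 : I ^ (n + 1) = ⊥ := by
      ext1
      funext U
      have h2 : (I ^ n).ideal U = (0 : X.IdealSheafData).ideal U := by rw [hn]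
      rw [Scheme.IdealSheafData.ideal_pow, Pi.pow_apply] at h2 ⊢
      rw [pow_succ, h2]
      exact Ideal.bot_mul _
    have h3 : I.support = ⊤ := by rw [← h1, h0, Scheme.IdealSheafData.support_bot]
    refine ⟨fun x => ?_⟩
    show x ∈ Set.range ι
    rw [Scheme.IdealSheafData.range_subschemeι, Scheme.IdealSheafData.support_pow_succ I 1, h3]
    trivial
  haveI : IsSeparated f := Groth.Agent.GrpField.isSeparated_of_comp ι f
  haveI : IsIntegralHom f := Groth.Agent.FinFibImage.isIntegralHom_of_surjective_of_finite_fibres ι f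
    (fun s => (Set.finite_singleton s).preimage ((ι ≫ f).isClosedEmbedding.injective.injOn))
  rw [isClosedImmersion_iff_isAffineHom]
  refine ⟨inferInstance, fun U hU => ?_⟩
  let V : X.affineOpens := ⟨f ⁻¹ᵁ U, hU.preimage f⟩
  refine hring (f.app U).hom (I.ideal V) ?_ fun b => ?_
  · obtain ⟨n, hn⟩ := hI
    have h2 : (I ^ n).ideal V = (0 : X.IdealSheafData).ideal V := by rw [hn]
    rw [Scheme.IdealSheafData.ideal_pow, Pi.pow_apply] at h2
    exact ⟨n, h2⟩
  · obtain ⟨a, ha⟩ := (ι ≫ f).app_surjective U hU (ι.app V.1 b)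
    refine ⟨a, ?_⟩
    have hk : ι.ker.ideal V = RingHom.ker (ι.app V.1).hom := Scheme.Hom.ker_apply ι V
    rw [Scheme.IdealSheafData.ker_subschemeι] at hk
    rw [Scheme.IdealSheafData.ideal_pow, Pi.pow_apply] at hk
    rw [hk, RingHom.mem_ker, map_sub, sub_eq_zero]
    rw [Scheme.Hom.comp_app] at ha
    exact ha.symm

end Groth.Agent.S14049
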