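import Groth.Statements.S14051
import Mathlib.RingTheory.GradedAlgebra.Basic
import Mathlib.Algebra.GradedMulAction
import Mathlib.Algebra.Algebra.Operations
import Mathlib.Algebra.Module.BigOperators

set_option autoImplicit false
universe u
open CAlg

namespace Groth.Agent.S14051

/-- Let A be a commutative ℕ-graded algebra over a base ring R which is generated by A_1 as an
A_0-algebra, written as A_{n+1} = A_1 · A_n for every n, and let M be a graded A-module: an A-module
with R-submodules M_n giving a direct-sum decomposition and A_i · M_j ⊆ M_{i+j}. If M is spanned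
over A by a set of homogeneous elements all of degree at most n₀, then for every n ≥ n₀ and every k
≥ 0 the degree-(n+k) part of M is A_k · M_n. -/
theorem result
    (R : Type u) [CommRing R] (A : Type u) [CommRing A] [Algebra R A]
    (𝒜 : ℕ → Submodule R A) [GradedAlgebra 𝒜]
    (hA : ∀ n : ℕ, 𝒜 (n + 1) = 𝒜 1 * 𝒜 n)
    (M : Type u) [AddCommGroup M] [Module R M] [Module A M] [IsScalarTower R A M]
    (ℳ : ℕ → Submodule R M) [DirectSum.Decomposition ℳ] [SetLike.GradedSMul 𝒜 ℳ]
    (s : Set M) (n₀ : ℕ) (hs : ∀ y ∈ s, ∃ d : ℕ, d ≤ n₀ ∧ y ∈ ℳ d)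
    (hspan : Submodule.span A s = ⊤)
    (n k : ℕ) (hn : n₀ ≤ n) :
    ℳ (n + k) = 𝒜 k • ℳ n := by
  classical
  have hk : ∀ a b : ℕ, 𝒜 (a + b) = 𝒜 a * 𝒜 b ∨ a = 0 := by
    intro a b
    rcases Nat.eq_zero_or_pos a with h | h
    · exact Or.inr h
    left
    induction a, h using Nat.le_induction with
    | base => rw [show Nat.succ 0 + b = b + 1 by omega]; exact hA b
    | succ a ha ih => rw [show a + 1 + b = (a + b) + 1 by omega, hA, ih, hA a, mul_assoc]
  refine le_antisymm ?_ (Submodule.smul_le.mpr fun a ha x hx => by
    rw [add_comm]; exact SetLike.GradedSMul.smul_mem ha hx)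
  intro z hz
  have hzspan : z ∈ Submodule.span A s := by rw [hspan]; trivial
  have hmain : ∀ w ∈ Submodule.span A s, ((DirectSum.decompose ℳ w (n + k) : ℳ (n + k)) : M) ∈ 𝒜 k • ℳ n := by
    intro w hw
    induction hw using Submodule.span_induction with
    | mem x hx =>
      obtain ⟨d, hd, hxd⟩ := hs x hx
      by_cases h : d = n + k
      · subst h
        obtain rfl : k = 0 := by omega
        rw [DirectSum.decompose_of_mem_same ℳ hxd]
        rw [← one_smul A x]
        exact Submodule.smul_mem_smul (SetLike.one_mem_graded 𝒜) (by simpa using hxd)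
      · rw [DirectSum.decompose_of_mem_ne ℳ hxd h]; exact zero_mem _
    | zero => simp
    | add x y _ _ hx hy => rw [DirectSum.decompose_add, DirectSum.add_apply, Submodule.coe_add]; exact add_mem hx hy
    | smul a x hx ih =>
      clear ih
      have key : ∀ (i j : ℕ) (ai : A) (y : M), ai ∈ 𝒜 i → y ∈ ℳ j → j ≤ n₀ →
          ((DirectSum.decompose ℳ (ai • y) (n + k) : ℳ (n + k)) : M) ∈ 𝒜 k • ℳ n := by
        intro i j ai y hai hy hj
        by_cases h : i + j = n + k
        · rw [DirectSum.decompose_of_mem_same ℳ (show ai • y ∈ ℳ (n + k) from h ▸ SetLike.GradedSMul.smul_mem hai hy)]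
          rcases Nat.eq_zero_or_pos k with rfl | hk0
          · rw [← one_smul A (ai • y)]
            refine Submodule.smul_mem_smul (SetLike.one_mem_graded 𝒜) ?_
            have := SetLike.GradedSMul.smul_mem (A := 𝒜) (B := ℳ) hai hy
            rw [show i +ᵥ j = i + j from rfl, h, add_zero] at this
            exact this
          · have e : 𝒜 i = 𝒜 k * 𝒜 (i - k) := by
              rcases hk k (i - k) with h1 | h1
              · rwa [Nat.add_sub_cancel' (by omega)] at h1
              · omega
            rw [e] at hai
            refine Submodule.mul_induction_on hai (fun b hb c hc => ?_) fun b c hb hc => by rw [add_smul]; exact add_mem hb hc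
            rw [mul_smul]
            refine Submodule.smul_mem_smul hb ?_
            have := SetLike.GradedSMul.smul_mem (A := 𝒜) (B := ℳ) hc hy
            rwa [show (i - k) +ᵥ j = n from by show (i - k) + j = n; omega] at this
        · rw [DirectSum.decompose_of_mem_ne ℳ (SetLike.GradedSMul.smul_mem hai hy) h]; exact zero_mem _
      induction hx using Submodule.span_induction generalizing a with
      | mem y hy =>
        obtain ⟨j, hj, hyj⟩ := hs y hy
        rw [← DirectSum.sum_support_decompose 𝒜 a, Finset.sum_smul, DirectSum.decompose_sum, DFinsupp.finsetSum_apply, AddSubmonoidClass.coe_finsetSum]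
        exact sum_mem fun i _ => key i j _ y (SetLike.coe_mem _) hyj hj
      | zero => simp
      | add y w _ _ hy hw =>
        rw [smul_add, DirectSum.decompose_add, DirectSum.add_apply, Submodule.coe_add]
        exact add_mem (hy a) (hw a)
      | smul b y _ hy => rw [smul_smul]; exact hy _
  have := hmain z hzspan
  rwa [DirectSum.decompose_of_mem_same ℳ hz] at this

end Groth.Agent.S14051
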