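import Groth.Statements.S14053
import Mathlib.RingTheory.GradedAlgebra.Basic
import Mathlib.Algebra.MvPolynomial.Eval
import Mathlib.LinearAlgebra.FiniteDimensional.Basic

set_option autoImplicit false
universe u
open CAlg

namespace Groth.Agent.S14053

/-- Above the bound `5 d₁ + 4 d₂ + 3 d₃` every piece is the product of the degree six piece and the
piece six degrees lower. -/
theorem step {k : Type u} [Field k] {R : Type u} [CommRing R] [Algebra k R] (ℛ : ℕ → Submodule k R)
    [GradedAlgebra ℛ]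
    (hgen : Algebra.adjoin k ((ℛ 1 : Set R) ∪ (ℛ 2 : Set R) ∪ (ℛ 3 : Set R)) = ⊤)
    [Module.Finite k (ℛ 1)] [Module.Finite k (ℛ 2)] [Module.Finite k (ℛ 3)] (N : ℕ)
    (hN : 5 * Module.finrank k (ℛ 1) + 4 * Module.finrank k (ℛ 2) + 3 * Module.finrank k (ℛ 3) < N) :
    ℛ N ≤ ℛ 6 * ℛ (N - 6) := by
  classical
  set ι := Fin (Module.finrank k (ℛ 1)) ⊕ Fin (Module.finrank k (ℛ 2)) ⊕ Fin (Module.finrank k (ℛ 3))
  let b₁ := Module.finBasis k (ℛ 1)
  let b₂ := Module.finBasis k (ℛ 2)
  let b₃ := Module.finBasis k (ℛ 3)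
  let b : ι → R := Sum.elim (fun i => (b₁ i : R)) (Sum.elim (fun i => (b₂ i : R)) fun i => (b₃ i : R))
  let w : ι → ℕ := Sum.elim (fun _ => 1) (Sum.elim (fun _ => 2) fun _ => 3)
  let q : ι → ℕ := Sum.elim (fun _ => 6) (Sum.elim (fun _ => 3) fun _ => 2)
  have hqw : ∀ i, q i * w i = 6 := by rintro (i | i | i) <;> rfl
  have hb : ∀ i, b i ∈ ℛ (w i) := by
    rintro (i | i | i)
    exacts [(b₁ i).2, (b₂ i).2, (b₃ i).2]
  have hspan : ∀ (j : ℕ) {τ : Type} (v : Module.Basis τ k (ℛ j)),
      (ℛ j : Submodule k R) = Submodule.span k (Set.range fun t => (v t : R)) := fun j τ v => by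
    conv_lhs => rw [← Submodule.map_subtype_top (ℛ j), ← v.span_eq, Submodule.map_span]
    rw [← Set.range_comp]
    rfl
  have hsurj : Function.Surjective (MvPolynomial.aeval (R := k) b) := by
    rw [← AlgHom.range_eq_top, ← Algebra.adjoin_range_eq_range_aeval, eq_top_iff, ← hgen,
      Algebra.adjoin_le_iff]
    refine Set.union_subset (Set.union_subset ?_ ?_) ?_
    · rw [hspan 1 b₁]
      refine (SetLike.coe_subset_coe.2 (Submodule.span_mono ?_)).trans (Algebra.span_le_adjoin k _)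
      rintro _ ⟨i, rfl⟩; exact ⟨Sum.inl i, rfl⟩
    · rw [hspan 2 b₂]
      refine (SetLike.coe_subset_coe.2 (Submodule.span_mono ?_)).trans (Algebra.span_le_adjoin k _)
      rintro _ ⟨i, rfl⟩; exact ⟨Sum.inr (Sum.inl i), rfl⟩
    · rw [hspan 3 b₃]
      refine (SetLike.coe_subset_coe.2 (Submodule.span_mono ?_)).trans (Algebra.span_le_adjoin k _)
      rintro _ ⟨i, rfl⟩; exact ⟨Sum.inr (Sum.inr i), rfl⟩
  have hmon : ∀ d : ι → ℕ, ∏ i, b i ^ d i ∈ ℛ (∑ i, d i * w i) := fun d =>
    SetLike.prod_mem_graded (A := ℛ) (i := fun i => d i * w i) (g := fun i => b i ^ d i) fun i _ => by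
      simpa [smul_eq_mul] using SetLike.pow_mem_graded (d i) (hb i)
  intro x hx
  obtain ⟨p, rfl⟩ := hsurj x
  rw [← DirectSum.decompose_of_mem_same ℛ hx, ← GradedRing.proj_apply, p.as_sum, map_sum, map_sum]
  refine Submodule.sum_mem _ fun d _ => ?_
  rw [MvPolynomial.aeval_monomial, ← Algebra.smul_def,
    Finsupp.prod_fintype _ _ (fun i => pow_zero (b i))]
  have hmem : p.coeff d • ∏ i, b i ^ d i ∈ ℛ (∑ i, d i * w i) := Submodule.smul_mem _ _ (hmon d)
  rw [GradedRing.proj_apply]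
  rcases ne_or_eq (∑ i, d i * w i) N with hne | heq
  · rw [DirectSum.decompose_of_mem_ne ℛ hmem hne]
    exact zero_mem _
  rw [DirectSum.decompose_of_mem_same ℛ (heq ▸ hmem)]
  refine Submodule.smul_mem _ _ ?_
  obtain ⟨i, hi⟩ : ∃ i, q i ≤ d i := by
    by_contra hcon
    push Not at hcon
    have h1 : ∑ i, d i * w i ≤ ∑ i, (q i - 1) * w i :=
      Finset.sum_le_sum fun i _ => Nat.mul_le_mul_right _ (Nat.le_sub_one_of_lt (hcon i))
    have h2 : ∑ i, (q i - 1) * w i = 5 * Module.finrank k (ℛ 1) + (4 * Module.finrank k (ℛ 2) +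
        3 * Module.finrank k (ℛ 3)) := by
      simp only [ι, q, w, Fintype.sum_sum_type, Sum.elim_inl, Sum.elim_inr, Finset.sum_const,
        Finset.card_univ, Fintype.card_fin, smul_eq_mul]
      ring
    omega
  let d' : ι → ℕ := Function.update d i (d i - q i)
  have hd : ∀ j, d j = d' j + if j = i then q i else 0 := fun j => by
    rcases eq_or_ne j i with rfl | hj
    · rw [if_pos rfl]; simp only [d', Function.update_self]
      omega
    · simp only [d', Function.update_of_ne hj, if_neg hj, add_zero]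
  have hw' : ∑ j, d' j * w j = N - 6 := by
    have h : ∑ j, d j * w j = ∑ j, d' j * w j + 6 := by
      rw [← hqw i]
      simp_rw [hd, add_mul, Finset.sum_add_distrib, ite_mul, zero_mul]
      rw [Finset.sum_eq_single i (fun j _ hj => if_neg hj) (fun h => absurd (Finset.mem_univ i) h), if_pos rfl]
    omega
  have hprod : ∏ j, b j ^ d j = b i ^ q i * ∏ j, b j ^ d' j := by
    simp_rw [hd, pow_add, Finset.prod_mul_distrib, pow_ite, pow_zero]
    rw [mul_comm, Finset.prod_eq_single i (fun j _ hj => if_neg hj) (fun h => absurd (Finset.mem_univ i) h),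
      if_pos rfl]
  rw [hprod]
  exact Submodule.mul_mem_mul (by simpa [smul_eq_mul, hqw i] using SetLike.pow_mem_graded (q i) (hb i))
    (hw' ▸ hmon d')

/-- Let k be a field and R a commutative ℕ-graded k-algebra with R_0 = k · 1 which is generated as a
k-algebra by R_1, R_2 and R_3, each a finite-dimensional k-vector space, of dimensions d_1, d_2,
d_3. Then for every natural number e ≥ 5 d_1 + 4 d_2 + 3 d_3 the (6e)-th Veronese subring of R is
generated in degree one over k: R_{6em} = (R_{6e})^m for every m > 0. -/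
theorem result
    (k : Type u) [Field k] (R : Type u) [CommRing R] [Algebra k R]
    (ℛ : ℕ → Submodule k R) [GradedAlgebra ℛ]
    (h0 : ℛ 0 = 1)
    (hgen : Algebra.adjoin k ((ℛ 1 : Set R) ∪ (ℛ 2 : Set R) ∪ (ℛ 3 : Set R)) = ⊤)
    [Module.Finite k (ℛ 1)] [Module.Finite k (ℛ 2)] [Module.Finite k (ℛ 3)]
    (e : ℕ) (he : 5 * Module.finrank k (ℛ 1) + 4 * Module.finrank k (ℛ 2) + 3 * Module.finrank k (ℛ 3) ≤ e)
    (m : ℕ) (hm : 0 < m) :
    ℛ (m * (6 * e)) = ℛ (6 * e) ^ m := by
  have hmul : ∀ a b : ℕ, ℛ a * ℛ b ≤ ℛ (a + b) := fun a b =>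
    Submodule.mul_le.2 fun x hx y hy => SetLike.mul_mem_graded hx hy
  have hpow6 : ∀ j : ℕ, 0 < j → ℛ 6 ^ j ≤ ℛ (6 * j) := fun j hj => by
    induction j, hj using Nat.le_induction with
    | base => simp
    | succ j _ ih =>
      rw [pow_succ]
      exact (mul_le_mul' ih le_rfl).trans ((hmul _ _).trans_eq (by rw [mul_add, mul_one]))
  have hdown : ∀ j : ℕ, ℛ (6 * (e + j)) ≤ ℛ 6 ^ j * ℛ (6 * e) := fun j => by
    induction j with
    | zero => simp
    | succ j ih =>
      refine (step ℛ hgen _ (by omega)).trans ?_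
      rw [show 6 * (e + (j + 1)) - 6 = 6 * (e + j) by omega, pow_succ', mul_assoc]
      exact mul_le_mul' le_rfl ih
  obtain ⟨m, rfl⟩ := Nat.exists_eq_add_of_le' hm
  rcases Nat.eq_zero_or_pos m with rfl | hm'
  · simp
  refine le_antisymm ?_ ?_
  · rcases Nat.eq_zero_or_pos e with rfl | he'
    · simp [h0]
    rw [show (m + 1) * (6 * e) = 6 * (e + m * e) by ring]
    refine (hdown _).trans ?_
    rw [mul_comm m e, pow_mul, pow_succ]
    exact mul_le_mul' (pow_le_pow_left' (hpow6 e he') m) le_rfl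
  · clear hm hm'
    induction m with
    | zero => simp
    | succ m ih =>
      rw [pow_succ]
      exact (mul_le_mul' ih le_rfl).trans ((hmul _ _).trans_eq (congrArg ℛ (by ring)))

end Groth.Agent.S14053
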