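import Groth.Statements.S14054
import Groth.Agent.CMKoszul.Surjective

set_option autoImplicit false
set_option backward.isDefEq.respectTransparency false
set_option linter.style.haveILetI false
universe u
open CategoryTheory CategoryTheory.Limits AlgebraicGeometry TopologicalSpace
open Variety

namespace Groth.Agent.S14054

attribute [local instance] Nakai.clMonoid

/-- Let X be a proper scheme over a field k, L a globally generated invertible O_X-module with tensor
inverse M, r = dim_k H⁰(X, L), and b ≥ 1 an integer such that H^q(X, L^{⊗(b−q)}) = 0 whenever 1 ≤ q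
≤ r − 1, where for q > b the module L^{⊗(b−q)} is the tensor power M^{⊗(q−b)}. Then the
multiplication map H⁰(X, L^{⊗b}) ⊗ H⁰(X, L) → H⁰(X, L^{⊗(b+1)}) is surjective. The map is written as
the canonical map from the global sections of the sectionwise tensor product presheaf of L^{⊗b} and
L (these are H⁰(L^{⊗b}) ⊗ H⁰(L), tensor over the global functions) to the global sections of its
sheafification L^{⊗b} ⊗ L = L^{⊗(b+1)}. The base field is arbitrary. -/
theorem result (k : Type u) [Field k]
    (X : Scheme.{u}) [X.Over (Spec (CommRingCat.of k))] [IsProper (X ↘ (Spec (CommRingCat.of k)))]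
    (L : X.Modules) (hL : PicF.IsInvertible L) (hgg : Curv2.IsGloballyGenerated L)
    (M : X.Modules) (hM : ClSub.IsInverseOf M L)
    (b : ℕ) (hb : 1 ≤ b)
    (hvan₁ : ∀ q : ℕ, 1 ≤ q → q ≤ b → q < Module.finrank k (Coh.HH X L 0) →
      Subsingleton (Coh.HH X (CohB1.tensorPow L (b - q)) q))
    (hvan₂ : ∀ q : ℕ, b < q → q < Module.finrank k (Coh.HH X L 0) →
      Subsingleton (Coh.HH X (CohB1.tensorPow M (q - b)) q)) :
    Function.Surjective
      ((toSheafify (Opens.grothendieckTopology X) (CohB1.tensorPre (CohB1.tensorPow L b) L).presheaf).app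
        (Opposite.op ⊤)) := by
  obtain ⟨η⟩ := hM
  have hMi : PicF.IsInvertible M := Intersect.isInvertible_inverse hL ⟨TMul.commIso L M ≪≫ η⟩
  obtain ⟨l, hlen, hl⟩ := CMKoszul.exists_list k hL hgg
  have hml : PicF.cl M * PicF.cl L = 1 := Nakai.cl_inv ⟨η⟩
  refine Mumford.toSheafify_surjective (CMKoszul.mem_pureSums η hL hMi _ l hl fun q hq hql => ?_)
  rcases le_or_gt q b with hqb | hqb
  · obtain ⟨d, rfl⟩ := Nat.exists_eq_add_of_le hqb
    have h := hvan₁ q hq hqb (by omega)
    rw [Nat.add_sub_cancel_left] at h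
    obtain ⟨e⟩ := Nakai.iso_of_cl (show PicF.cl (CohB1.tensorPow L d) =
        PicF.cl (CohB1.tensorMod (CohB1.tensorMod (CohB1.tensorPow L (q + d)) (CohB1.tensorPow M (q + 1))) L) by
      simp only [Nakai.cl_tensor, Nakai.cl_pow]
      rw [mul_assoc, pow_succ, mul_assoc, hml, mul_one, pow_add,
        show PicF.cl L ^ q * PicF.cl L ^ d * PicF.cl M ^ q = PicF.cl L ^ d * (PicF.cl M ^ q * PicF.cl L ^ q) by ac_rfl,
        ← mul_pow, hml, one_pow, mul_one])
    exact CohQC.hh_subsingleton_of_iso e _ h
  · obtain ⟨d, rfl⟩ := Nat.exists_eq_add_of_lt hqb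
    have h := hvan₂ (b + d + 1) hqb (by omega)
    rw [show b + d + 1 - b = d + 1 by omega] at h
    obtain ⟨e⟩ := Nakai.iso_of_cl (show PicF.cl (CohB1.tensorPow M (d + 1)) =
        PicF.cl (CohB1.tensorMod (CohB1.tensorMod (CohB1.tensorPow L b) (CohB1.tensorPow M (b + d + 1 + 1))) L) by
      simp only [Nakai.cl_tensor, Nakai.cl_pow]
      rw [mul_assoc, pow_succ (PicF.cl M) (b + d + 1), mul_assoc, hml, mul_one, show b + d + 1 = b + (d + 1) by omega,
        pow_add (PicF.cl M) b (d + 1), ← mul_assoc,
        ← mul_pow, mul_comm (PicF.cl L), hml, one_pow, one_mul])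
    exact CohQC.hh_subsingleton_of_iso e _ h

end Groth.Agent.S14054
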