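import Groth.Statements.S14056
import Groth.Agent.SurfAdj.Nef

set_option autoImplicit false
universe u
open CategoryTheory CategoryTheory.Limits AlgebraicGeometry TopologicalSpace
open Surf

namespace Groth.Agent.S14056

/-- Let k be an algebraically closed field and X a smooth surface over k: an integral scheme, proper and
smooth over k, of dimension 2; let W be its canonical module, a second exterior power of Ω_{X/k}.
For an invertible module L and an integral closed one-dimensional subscheme C ⊆ X write (L·C) =
χ(O_C ⊗ L) − χ(O_C). Suppose that X has non-negative Kodaira dimension, that is some tensor power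
W^{⊗m} with m > 0 has a nonzero global section, and that X is minimal: it contains no (−1)-curve,
where a (−1)-curve is taken, through its numerical characterization, to be an integral closed
one-dimensional subscheme E with H¹(E, O_E) = 0 and (O_X(E)·E) = −1, O_X(E) being a tensor inverse
of the ideal sheaf of E. Then W is nef: (W·C) ≥ 0 for every integral closed one-dimensional C ⊆ X.
(Together with the first assertion: under non-negative Kodaira dimension, X is minimal if and only
if W is nef.) -/
theorem result (k : Type u) [Field k] [IsAlgClosed k] (X : Scheme.{u})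
    [X.Over (Spec (CommRingCat.of k))] [IsProper (X ↘ (Spec (CommRingCat.of k)))] [Smooth (X ↘ (Spec (CommRingCat.of k)))]
    [IsIntegral X] (hdim : topologicalKrullDim X = 2)
    (W : X.Modules) (hW : ExtPow.IsExtPow 2 (Omega.sheaf (X ↘ (Spec (CommRingCat.of k)))) W)
    (m : ℕ) (hm : 0 < m) (hsec : Nontrivial (Coh.HH X (CohB1.tensorPow W m) 0))
    (hmin : (∀ (E : X.IdealSheafData) (N : X.Modules), IsIntegral E.subscheme →
      topologicalKrullDim (E.support : Set X) = 1 → ClSub.IsInverseOf N (ClSub.idealMod E) →
      Subsingleton (Coh.HH E.subscheme (Coh.structureModule E.subscheme) 1) →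
      Curv2.euler k X (CohB1.tensorMod (ClSub.quotMod E) N) - Curv2.euler k X (ClSub.quotMod E) ≠ -1)) :
    (∀ C : X.IdealSheafData, IsIntegral C.subscheme → topologicalKrullDim (C.support : Set X) = 1 →
      0 ≤ Curv2.euler k X (CohB1.tensorMod (ClSub.quotMod C) W) - Curv2.euler k X (ClSub.quotMod C)) := by
  intro C hC hC1
  haveI := hC
  have hW' := Groth.Agent.SurfAdj.isInvertible_W k hdim hW
  have h := Groth.Agent.SurfAdj.adj k hdim hW C hC1
  have h1 := Groth.Agent.SurfAdj.euler_quot_le k hdim C hC1
  have h2 := Groth.Agent.SurfAdj.deg_eq k hdim C hC1 hW'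
  by_contra hlt
  obtain ⟨s, hs⟩ : ∃ s : Coh.structureModule X ⟶ CohB1.tensorPow W m, s ≠ 0 := by
    haveI : Module.Finite k (Coh.HH X (CohB1.tensorPow W m) 0) :=
      Groth.Agent.CohFinite.finite_proper k X _
        (Groth.Agent.Nakai.isCoh_inv k (TMul.isInvertible_tensorPow hW' m)) 0
    haveI := hsec
    exact Groth.Agent.Nakai.exists_section_of_h0 k Module.finrank_pos
  have hneg : FGA.intNum k X 2 ![ClSub.idealMod C, ClSub.idealMod C] (Coh.structureModule X) < 0 := by
    by_contra hc
    have h5 := Groth.Agent.SurfAdj.deg_nonneg_of_self_nonneg k hdim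
      (TMul.isInvertible_tensorPow hW' m) s hs C hC1 (by omega)
    rw [Groth.Agent.Nakai.degOn_pow k C hC1 hW' m] at h5
    have h6 : Groth.Agent.Nakai.degOn k C W < 0 := by
      have : ((Curv2.euler k X (CohB1.tensorMod (ClSub.quotMod C) W) - Curv2.euler k X (ClSub.quotMod C) : ℤ) : ℚ) < 0 := by
        exact_mod_cast (not_le.1 hlt)
      push_cast at this
      exact this
    have h7 : (0 : ℚ) < m := by exact_mod_cast hm
    nlinarith
  obtain ⟨N, -, ⟨e⟩⟩ := Groth.Agent.W7Hull.exists_tensor_inverse (Groth.Agent.SurfAdj.inv_ideal k hdim C hC1)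
  have hN : ClSub.IsInverseOf N (ClSub.idealMod C) := ⟨TMul.commIso _ _ ≪≫ e⟩
  have h5 := Groth.Agent.SurfAdj.deg_inv k hdim C hC1 hN
  exact hmin C N hC hC1 hN ((Groth.Agent.SurfAdj.subsingleton_h1_iff k hdim C hC1).2 (by omega)) (by omega)

end Groth.Agent.S14056
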