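import Groth.Statements.S14057
import Groth.Agent.SurfAdj.Nef

set_option autoImplicit false
universe u
open CategoryTheory CategoryTheory.Limits AlgebraicGeometry TopologicalSpace
open Surf

namespace Groth.Agent.S14057

/-- Let k be an algebraically closed field and X a smooth surface over k: an integral scheme, proper and
smooth over k, of dimension 2; let W be its canonical module, a second exterior power of Ω_{X/k}.
For an invertible module L and an integral closed one-dimensional subscheme C ⊆ X write (L·C) =
χ(O_C ⊗ L) − χ(O_C), and (W·W) for the self-intersection number of W (the alternating sum χ(O_X) −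
2χ(W) + χ(W ⊗ W)). Suppose W is nef and (W·W) > 0. Then W is ample if and only if X contains no
(−2)-curve, where a (−2)-curve is taken, through its numerical characterization, to be an integral
closed one-dimensional subscheme E with H¹(E, O_E) = 0 and (O_X(E)·E) = −2, O_X(E) being a tensor
inverse of the ideal sheaf of E. (The published statement is for a minimal surface of general type;
its proof uses exactly that the canonical module is nef with positive self-intersection, which is
how the hypothesis is written here.) -/
theorem result (k : Type u) [Field k] [IsAlgClosed k] (X : Scheme.{u})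
    [X.Over (Spec (CommRingCat.of k))] [IsProper (X ↘ (Spec (CommRingCat.of k)))] [Smooth (X ↘ (Spec (CommRingCat.of k)))]
    [IsIntegral X] (hdim : topologicalKrullDim X = 2)
    (W : X.Modules) (hW : ExtPow.IsExtPow 2 (Omega.sheaf (X ↘ (Spec (CommRingCat.of k)))) W)
    (hnef : (∀ C : X.IdealSheafData, IsIntegral C.subscheme → topologicalKrullDim (C.support : Set X) = 1 →
      0 ≤ Curv2.euler k X (CohB1.tensorMod (ClSub.quotMod C) W) - Curv2.euler k X (ClSub.quotMod C)))
    (hpos : 0 < FGA.intNum k X 2 ![W, W] (Coh.structureModule X)) :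
    CohB1.IsAmple W ↔
    (∀ (E : X.IdealSheafData) (N : X.Modules), IsIntegral E.subscheme →
      topologicalKrullDim (E.support : Set X) = 1 → ClSub.IsInverseOf N (ClSub.idealMod E) →
      Subsingleton (Coh.HH E.subscheme (Coh.structureModule E.subscheme) 1) →
      Curv2.euler k X (CohB1.tensorMod (ClSub.quotMod E) N) - Curv2.euler k X (ClSub.quotMod E) ≠ -2) := by
  have hW' := Groth.Agent.SurfAdj.isInvertible_W k hdim hW
  refine ⟨fun hA E N hE hE1 hN hh hdeg => ?_, fun hno => ?_⟩
  · haveI := hE
    have h := Groth.Agent.SurfAdj.adj k hdim hW E hE1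
    have h1 := (Groth.Agent.SurfAdj.subsingleton_h1_iff k hdim E hE1).1 hh
    have h2 := Groth.Agent.SurfAdj.deg_inv k hdim E hE1 hN
    have h3 := Groth.Agent.SurfAdj.deg_ample_pos k hdim E hE1 hA
    omega
  · have hWW : 0 < Groth.Agent.Nakai.inter k W W := by
      rw [← Groth.Agent.SurfAdj.intNum_inter k hdim]; exact_mod_cast hpos
    refine Groth.Agent.SurfAdj.isAmple_of_pos k hdim hW' hWW fun C hC hC1 => ?_
    haveI := hC
    have h := Groth.Agent.SurfAdj.adj k hdim hW C hC1
    have h1 := Groth.Agent.SurfAdj.euler_quot_le k hdim C hC1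
    have h2 := Groth.Agent.SurfAdj.deg_eq k hdim C hC1 hW'
    have h3 := hnef C hC hC1
    by_contra hle
    have h4 := Groth.Agent.SurfAdj.self_neg_of_orth k hdim hW' hWW C hC1 (by omega)
    obtain ⟨N, -, ⟨e⟩⟩ := Groth.Agent.W7Hull.exists_tensor_inverse (Groth.Agent.SurfAdj.inv_ideal k hdim C hC1)
    have hN : ClSub.IsInverseOf N (ClSub.idealMod C) := ⟨TMul.commIso _ _ ≪≫ e⟩
    have h5 := Groth.Agent.SurfAdj.deg_inv k hdim C hC1 hN
    exact hno C N hC hC1 hN ((Groth.Agent.SurfAdj.subsingleton_h1_iff k hdim C hC1).2 (by omega)) (by omega)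

end Groth.Agent.S14057
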