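import Groth.Statements.S1406
import Groth.Agent.Hensel.HenselizationNoeth
import Mathlib.AlgebraicGeometry.Fiber
import Mathlib.AlgebraicGeometry.Morphisms.Flat
import Mathlib.AlgebraicGeometry.Morphisms.UniversallyOpen

set_option autoImplicit false
universe u
open FlatMor

namespace Groth.Agent.S1406

open AlgebraicGeometry CategoryTheory Limits in
/-- Let a : X' → X be flat, locally of finite presentation and surjective. Then all fibres of f : X → Y
are locally Noetherian if and only if all fibres of a ≫ f are. -/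
theorem result {X X' Y : Scheme.{u}} (f : X ⟶ Y) (a : X' ⟶ X) [Flat a] [LocallyOfFinitePresentation a] [Surjective a] :
    (∀ y : Y, IsLocallyNoetherian (f.fiber y)) ↔ ∀ y : Y, IsLocallyNoetherian ((a ≫ f).fiber y) := by
  have key : ∀ {W W' : Scheme.{u}} (b : W' ⟶ W) [Flat b] [LocallyOfFinitePresentation b] [Surjective b],
      IsLocallyNoetherian W ↔ IsLocallyNoetherian W' := by
    intro W W' b _ _ _
    refine ⟨fun _ => LocallyOfFiniteType.isLocallyNoetherian b, fun _ => ⟨fun V => ?_⟩⟩
    haveI : IsAffine (V.1 : Scheme) := V.2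
    haveI : CompactSpace (V.1 : Scheme) := isCompact_iff_compactSpace.mp V.2.isCompact
    haveI : Surjective (b ∣_ V.1) := MorphismProperty.of_isPullback (P := @Surjective) (isPullback_morphismRestrict b V.1).flip inferInstance
    haveI : Flat (b ∣_ V.1) := MorphismProperty.of_isPullback (P := @Flat) (isPullback_morphismRestrict b V.1).flip inferInstance
    haveI : LocallyOfFinitePresentation (b ∣_ V.1) := MorphismProperty.of_isPullback (P := @LocallyOfFinitePresentation) (isPullback_morphismRestrict b V.1).flip inferInstance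
    let 𝒰 := (b ⁻¹ᵁ V.1 : Scheme).affineCover
    let U : 𝒰.I₀ → Set (V.1 : Scheme) := fun i => Set.range (𝒰.f i ≫ (b ∣_ V.1))
    obtain ⟨t, ht⟩ := isCompact_univ.elim_finite_subcover U (fun i => (𝒰.f i ≫ (b ∣_ V.1)).isOpenMap.isOpen_range)
      (fun x _ => by
        obtain ⟨x', hx'⟩ := (b ∣_ V.1).surjective x
        obtain ⟨i, z, hz⟩ := 𝒰.exists_eq x'
        exact Set.mem_iUnion.2 ⟨i, z, by rw [Scheme.Hom.comp_apply, hz, hx']⟩)
    let Z : Scheme := ∐ fun i : t => 𝒰.X i
    haveI hLN : ∀ i : t, IsLocallyNoetherian (𝒰.X i) := fun i => isLocallyNoetherian_of_isOpenImmersion (𝒰.f i ≫ (b ⁻¹ᵁ V.1).ι)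
    haveI : IsLocallyNoetherian Z := by
      refine (isLocallyNoetherian_iff_openCover (sigmaOpenCover fun i : t => 𝒰.X i)).2 fun i => ?_
      exact hLN i
    let g : Z ⟶ (V.1 : Scheme) := Sigma.desc (fun i : t => 𝒰.f i) ≫ (b ∣_ V.1)
    haveI : Surjective g := ⟨fun x => by
      obtain ⟨i, hi, z, hz⟩ := Set.mem_iUnion₂.1 (ht (Set.mem_univ x))
      refine ⟨(Sigma.ι (fun i : t => 𝒰.X i) ⟨i, hi⟩).base z, ?_⟩
      rw [← hz, ← Scheme.Hom.comp_apply]
      simp [g]⟩
    have hff : g.appTop.hom.FaithfullyFlat :=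
      (Flat.flat_and_surjective_iff_faithfullyFlat_of_isAffine g).1 ⟨inferInstance, inferInstance⟩
    algebraize [g.appTop.hom]
    haveI : IsNoetherianRing Γ(Z, ⊤) := IsLocallyNoetherian.component_noetherian ⟨⊤, isAffineOpen_top Z⟩
    haveI := Groth.Agent.Hensel.isNoetherianRing_of_faithfullyFlat (R := Γ((V.1 : Scheme), ⊤)) (S := Γ(Z, ⊤))
    exact isNoetherianRing_of_ringEquiv _ V.1.topIso.commRingCatIsoToRingEquiv
  refine forall_congr' fun y => ?_
  let e : pullback a (f.fiberι y) ≅ (a ≫ f).fiber y := pullbackRightPullbackFstIso f (Y.fromSpecResidueField y) a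
  let b : (a ≫ f).fiber y ⟶ f.fiber y := e.inv ≫ pullback.snd a (f.fiberι y)
  exact key b

end Groth.Agent.S1406
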