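import Groth.Statements.S14060
import Mathlib
open CategoryTheory CategoryTheory.Limits TopologicalSpace

set_option autoImplicit false
universe u
open CategoryTheory CategoryTheory.Limits TopologicalSpace
open CohTop

set_option maxHeartbeats 1000000
namespace Groth.Agent.S14060


variable {C : Type*} [Category C] [Abelian C]

/-- An exact `A → B → C` gives `0 → ker f → A → ker g → 0`. -/
theorem ses_of_exact (S : ShortComplex C) (hS : S.Exact) :
    (ShortComplex.mk (kernel.ι S.f) (kernel.lift S.g S.f S.zero)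
      (by rw [← cancel_mono (kernel.ι S.g)]; simp)).ShortExact := by
  have he : Epi (kernel.lift S.g S.f S.zero) := (S.exact_iff_epi_kernel_lift).1 hS
  refine { exact := ?_, mono_f := inferInstance, epi_g := he }
  let S' : ShortComplex C := ShortComplex.mk (kernel.ι S.f) (kernel.lift S.g S.f S.zero)
    (by rw [← cancel_mono (kernel.ι S.g)]; simp)
  let S'' : ShortComplex C := ShortComplex.mk (kernel.ι S.f) S.f (kernel.condition _)
  let φ : S' ⟶ S'' := { τ₁ := 𝟙 _, τ₂ := 𝟙 _, τ₃ := kernel.ι S.g }
  haveI : Epi φ.τ₁ := show Epi (𝟙 _) by infer_instance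
  haveI : IsIso φ.τ₂ := show IsIso (𝟙 _) by infer_instance
  haveI : Mono φ.τ₃ := show Mono (kernel.ι S.g) by infer_instance
  exact (ShortComplex.exact_iff_of_epi_of_isIso_of_mono φ).2
    (ShortComplex.exact_of_f_is_kernel S'' (kernelIsKernel S.f))

/-- Let X be a topological space, r ≥ 1 an integer and 0 → F_r → ⋯ → F_2 → F_1 → F_0 → 0 an exact
sequence of sheaves of abelian groups on X, presented as a chain complex F of abelian sheaves
indexed by the natural numbers whose differential F_r → F_{r−1} is a monomorphism, whose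
differential F_1 → F_0 is an epimorphism of sheaves, and which is exact at F_j for 1 ≤ j ≤ r − 1
(for r = 1 the single map F_1 → F_0 is mono and epi). Assume the sheaf cohomology groups H^{j−1}(X,
F_j) vanish for 2 ≤ j ≤ r. Then the map on global sections F_1(X) → F_0(X) is surjective. (The
instance hypothesis that the category of abelian sheaves on X has Ext groups in the universe of X
holds for every X, abelian sheaves on a space forming a Grothendieck abelian category; it is the
setting in which sheaf cohomology is defined.) -/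
theorem result (X : TopCat.{u})
    [HasExt.{u} (Sheaf (Opens.grothendieckTopology X) AddCommGrpCat.{u})]
    (r : ℕ) (hr : 1 ≤ r)
    (F : ChainComplex (Sheaf (Opens.grothendieckTopology X) AddCommGrpCat.{u}) ℕ)
    (hmono : Mono (F.d r (r - 1))) (hepi : Epi (F.d 1 0))
    (hex : ∀ j : ℕ, 1 ≤ j → j < r → F.ExactAt j)
    (hvan : ∀ j : ℕ, 2 ≤ j → j ≤ r → Subsingleton (Sheaf.H (F.X j) (j - 1))) :
    Function.Surjective ((F.d 1 0).hom.app (Opposite.op ⊤)) := by
  classical
  let Q : ℕ → Prop := fun j => Subsingleton (Sheaf.H (kernel (F.d j (j - 1))) j)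
  have hr' : Q r := Sheaf.subsingleton_H_of_isZero (IsZero.of_iso (isZero_zero _) (kernel.ofMono (F.d r (r - 1)))) r
  have hses : ∀ j : ℕ, 1 ≤ j → j < r → ∃ (S : ShortComplex (Sheaf (Opens.grothendieckTopology X) AddCommGrpCat.{u})),
      S.ShortExact ∧ S.X₁ = kernel (F.d (j + 1) j) ∧ S.X₂ = F.X (j + 1) ∧ S.X₃ = kernel (F.d j (j - 1)) := by
    intro j hj hjr
    have h := (F.exactAt_iff' (j + 1) j (j - 1) (by simp)
      (by obtain ⟨i, rfl⟩ := Nat.exists_eq_succ_of_ne_zero (show j ≠ 0 by omega); simp)).1 (hex j hj hjr)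
    exact ⟨_, ses_of_exact _ h, rfl, rfl, rfl⟩
  have hQ : ∀ i : ℕ, i < r → Q (r - i) := by
    intro i
    induction i with
    | zero => exact fun _ => hr'
    | succ i ih =>
      intro hi
      obtain ⟨j, hj⟩ : ∃ j, j = r - (i + 1) := ⟨_, rfl⟩
      have hQ' : Q (j + 1) := by
        rw [show j + 1 = r - i by omega]
        exact ih (by omega)
      rw [← hj]
      obtain ⟨S, hS, h1, h2, h3⟩ := hses j (by omega) (by omega)
      show Subsingleton (Sheaf.H (kernel (F.d j (j - 1))) j)
      rw [← h3]
      haveI : Subsingleton (Sheaf.H S.X₁ (j + 1)) := h1 ▸ hQ'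
      haveI : Subsingleton (Sheaf.H S.X₂ j) := h2 ▸ hvan (j + 1) (by omega) (by omega)
      refine subsingleton_of_forall_eq 0 fun x => ?_
      obtain ⟨x₂, rfl⟩ := Abelian.Ext.covariant_sequence_exact₃ _ hS x rfl (Subsingleton.elim _ _)
      rw [Subsingleton.elim x₂ 0, Abelian.Ext.zero_comp]
  have h1 : Subsingleton (Sheaf.H (kernel (F.d 1 0)) 1) := by
    have := hQ (r - 1) (by omega)
    rwa [show r - (r - 1) = 1 by omega] at this
  let S : ShortComplex (Sheaf (Opens.grothendieckTopology X) AddCommGrpCat.{u}) :=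
    ShortComplex.mk (kernel.ι (F.d 1 0)) (F.d 1 0) (kernel.condition _)
  have hS : S.ShortExact :=
    { exact := ShortComplex.exact_of_f_is_kernel S (kernelIsKernel _), mono_f := inferInstance, epi_g := hepi }
  intro s
  obtain ⟨x₃, rfl⟩ := (Sheaf.H.equiv₀ (F.X 0) (Limits.isTerminalTop (α := Opens X))).surjective s
  haveI : Subsingleton (Sheaf.H S.X₁ 1) := h1
  obtain ⟨x₂, hx₂⟩ := Abelian.Ext.covariant_sequence_exact₃ (n₁ := 1) _ hS x₃ rfl (Subsingleton.elim _ _)
  refine ⟨Sheaf.H.equiv₀ (F.X 1) (Limits.isTerminalTop (α := Opens X)) x₂, ?_⟩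
  rw [← hx₂]
  exact Sheaf.H.equiv₀_naturality (Limits.isTerminalTop (α := Opens X)) (F.d 1 0) x₂

end Groth.Agent.S14060
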