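import Groth.Statements.S14062
import Groth.Agent.Castel.SurfRes

set_option autoImplicit false
universe u
open CategoryTheory CategoryTheory.Limits AlgebraicGeometry TopologicalSpace
open Surf

set_option backward.isDefEq.respectTransparency false
set_option backward.isDefEq.respectTransparency.types false

namespace Groth.Agent.S14062

/-- Let k be an algebraically closed field and X a normal surface over k (an integral normal scheme,
proper over k, of dimension 2), with U its open subset of regular points. Here a resolution of X is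
a proper morphism π : S → X from an integral scheme S of dimension 2 smooth over k such that O_X →
π_*O_S is an isomorphism and π is an isomorphism over the open subset U of regular points of X; it
is minimal when every resolution π' : S' → X factors as π' = π ∘ u for a unique morphism u : S' → S.
If X admits some resolution, then X admits a minimal resolution. (The published statement asserts
the existence of a minimal resolution outright, taking the existence of a resolution of the normal
surface from the literature at the start of its proof; that existence is carried as the hypothesis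
here.) -/
theorem result (k : Type u) [Field k] [IsAlgClosed k]
    (X : Scheme.{u}) [X.Over (Spec (CommRingCat.of k))] [IsProper (X ↘ (Spec (CommRingCat.of k)))] [IsIntegral X]
    (hdimX : topologicalKrullDim X = 2) (hnorm : Pi1.IsNormalScheme X)
    (U : X.Opens) (hU : ∀ x : X, x ∈ U ↔ IsRegularLocalRing (X.presheaf.stalk x))
    (hex : ∃ (S₀ : Scheme.{u}) (π₀ : S₀ ⟶ X), (IsProper π₀ ∧ IsIntegral S₀ ∧ topologicalKrullDim S₀ = 2 ∧ Smooth (π₀ ≫ (X ↘ (Spec (CommRingCat.of k)))) ∧
        IsIso (ClSub.unitToPush π₀) ∧ IsIso (π₀ ∣_ U))) :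
    ∃ (S : Scheme.{u}) (π : S ⟶ X), (IsProper π ∧ IsIntegral S ∧ topologicalKrullDim S = 2 ∧ Smooth (π ≫ (X ↘ (Spec (CommRingCat.of k)))) ∧
        IsIso (ClSub.unitToPush π) ∧ IsIso (π ∣_ U)) ∧
      (∀ (S' : Scheme.{u}) (π' : S' ⟶ X), (IsProper π' ∧ IsIntegral S' ∧ topologicalKrullDim S' = 2 ∧ Smooth (π' ≫ (X ↘ (Spec (CommRingCat.of k)))) ∧
        IsIso (ClSub.unitToPush π') ∧ IsIso (π' ∣_ U)) → ∃! u : S' ⟶ S, u ≫ π = π') := by
  obtain ⟨S₀, π₀, hπp, hS₀i, hS₀d, hS₀s, hπO, hπU⟩ := hex
  haveI := hπp
  haveI := hS₀i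
  haveI := hS₀s
  let sX := X ↘ Spec (CommRingCat.of k)
  haveI : IsLocallyNoetherian X := LocallyOfFiniteType.isLocallyNoetherian sX
  haveI : CompactSpace X := QuasiCompact.compactSpace_of_compactSpace sX
  haveI : IsNoetherian X := {}
  haveI : IsLocallyNoetherian S₀ := LocallyOfFiniteType.isLocallyNoetherian (π₀ ≫ sX)
  haveI : CompactSpace S₀ := QuasiCompact.compactSpace_of_compactSpace (π₀ ≫ sX)
  haveI : IsNoetherian S₀ := {}
  have hr₀ : ∀ x : S₀, IsRegularLocalRing (S₀.presheaf.stalk x) := fun x =>
    Groth.Agent.SmLocalST.isRegularLocalRing_stalk_of_smooth_field (π₀ ≫ sX) x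
  have hUne : (U : Set X).Nonempty := ⟨genericPoint X, (hU _).2 inferInstance⟩
  obtain ⟨L, hL⟩ := Groth.Agent.Castel.exists_ample_surface (π₀ ≫ sX) hS₀d hr₀
  obtain ⟨S, c, h, hSi, hSn, hch, hp, hcp, hcs, happ, hSr, hSd, -, hbir, hexc⟩ :=
    Groth.Agent.Castel.exists_no_exc sX (Groth.Agent.PtBlow.exc π₀).ncard π₀ L hL hr₀ hS₀d.le ⟨U, hUne, hπU⟩ le_rfl
  haveI := hSi
  haveI := hSn
  haveI := hp
  haveI := hcp
  haveI : IsProper h := IsProper.of_comp h sX
  have hπapp : ∀ V : X.Opens, Function.Bijective (π₀.app V) := fun V => by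
    haveI := hπO
    exact ConcreteCategory.bijective_of_isIso ((ClSub.unitToPush π₀).app V)
  have hhapp : ∀ V : X.Opens, Function.Bijective (h.app V) := fun V => by
    have h1 := hπapp V
    rw [← hch, Scheme.Hom.comp_app] at h1
    exact (Function.Bijective.of_comp_iff' (happ (h ⁻¹ᵁ V)) _).1 h1
  haveI : IsIso (ClSub.unitToPush h) := by
    rw [Scheme.Modules.Hom.isIso_iff_isIso_app]
    intro V
    rw [ConcreteCategory.isIso_iff_bijective]
    exact hhapp V
  have hinj : ∀ x x' : S, h x = h x' → h x ∈ U → x = x' := by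
    intro x x' hxx hx
    obtain ⟨z, rfl⟩ := hcs x
    obtain ⟨z', rfl⟩ := hcs x'
    have e1 : π₀ z = π₀ z' := by rw [← hch]; exact hxx
    haveI := hπU
    have e2 := (π₀ ∣_ U).isOpenEmbedding.injective
      (a₁ := ⟨z, show π₀ z ∈ U by rw [← hch]; exact hx⟩)
      (a₂ := ⟨z', show π₀ z' ∈ U by rw [← hch, Scheme.Hom.comp_apply, ← hxx]; exact hx⟩)
      (Subtype.ext (by rw [morphismRestrict_base_coe, morphismRestrict_base_coe]; exact e1))
    exact congrArg c (congrArg Subtype.val e2)
  haveI : LocallyQuasiFinite (h ∣_ U) := by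
    refine LocallyQuasiFinite.of_finite_preimage_singleton _ fun y => Set.Subsingleton.finite fun a ha b hb => ?_
    refine Subtype.ext (hinj a.1 b.1 ?_ a.2)
    have e1 := congrArg Subtype.val ((ha : (h ∣_ U) a = y).trans (hb : (h ∣_ U) b = y).symm)
    rwa [morphismRestrict_base_coe, morphismRestrict_base_coe] at e1
  haveI : IsFinite (h ∣_ U) := IsFinite.of_isProper_of_locallyQuasiFinite (h ∣_ U)
  have hhU : IsIso (h ∣_ U) := Groth.Agent.BiratCodimTwo.isIso_restrict_of_isAffineHom h hhapp U
  have hdim2 : topologicalKrullDim S = 2 := le_antisymm hSd (by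
    by_contra hlt
    rcases Groth.Agent.Castel.le_one_or_two_le (topologicalKrullDim S) with h1 | h2
    · have hs : Function.Surjective h := by
        intro y
        obtain ⟨w, hw⟩ := (h ∣_ U).surjective ⟨genericPoint X, (hU _).2 inferInstance⟩
        exact (genericPoint_specializes y).mem_closed h.isClosedMap.isClosed_range
          ⟨w.1, (morphismRestrict_base_coe h U w).symm.trans (congrArg Subtype.val hw)⟩
      have := Groth.Agent.Castel.dim_le_of_closedMap h hs h.isClosedMap (n := 1) h1
      rw [hdimX] at this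
      exact absurd this (by decide)
    · exact hlt h2)
  refine ⟨S, h, ⟨inferInstance, hSi, hdim2, Groth.Agent.Castel.smooth_of_regular_stalks (h ≫ sX) hSr, inferInstance,
    hhU⟩, fun S' π' hS' => ?_⟩
  obtain ⟨hp', hS'i, hS'd, hS's, -, hU'⟩ := hS'
  haveI := hp'
  haveI := hS'i
  haveI := hS's
  haveI : IsLocallyNoetherian S' := LocallyOfFiniteType.isLocallyNoetherian (π' ≫ sX)
  haveI : CompactSpace S' := QuasiCompact.compactSpace_of_compactSpace (π' ≫ sX)
  haveI : IsNoetherian S' := {}
  exact Groth.Agent.PtBlow.existsUnique_hom_of_no_exc hnorm hdimX.le h hSr hdim2.le ⟨U, hUne, hhU⟩ hexc π'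
    (fun x => Groth.Agent.SmLocalST.isRegularLocalRing_stalk_of_smooth_field (π' ≫ sX) x) hS'd.le ⟨U, hUne, hU'⟩

end Groth.Agent.S14062
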