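import Groth.Statements.S14064
import Groth.Agent.Intersect.Misc
import Groth.Agent.CohFinite.AmpleFinite
import Groth.Agent.MeroLib.Special
import Groth.Agent.PicFam.Basic

set_option autoImplicit false
universe u
open CategoryTheory CategoryTheory.Limits AlgebraicGeometry TopologicalSpace
open Surf

set_option backward.isDefEq.respectTransparency false
set_option backward.isDefEq.respectTransparency.types false

namespace Groth.Agent.S14064

/-- Fix a field k, an integral proper k-scheme X, and an invertible O_X-module L with tensor inverse M.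
Suppose that L^{⊗j} has a nonzero global section for every j ≥ 4 and that no tensor power L^{⊗j}
with j ≥ 1 is isomorphic to O_X. Then H⁰(X, M^{⊗i}) = 0 for every i ≥ 1: the negative powers of L
have no nonzero global sections. (The published statement is for the canonical module of a minimal
surface of general type over an algebraically closed field, where the fourth and higher powers are
globally generated by a deep result quoted without proof, and non-triviality of the positive powers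
comes from bigness; the published deduction of this part uses exactly the two hypotheses carried
here, on an integral proper X.) -/
theorem result (k : Type u) [Field k]
    (X : Scheme.{u}) [X.Over (Spec (CommRingCat.of k))] [IsProper (X ↘ (Spec (CommRingCat.of k)))] [IsIntegral X]
    (L M : X.Modules) (hL : PicF.IsInvertible L) (hM : ClSub.IsInverseOf M L)
    (hsec : ∀ j : ℕ, 4 ≤ j → Nontrivial (Coh.HH X (CohB1.tensorPow L j) 0))
    (hnt : ∀ j : ℕ, 1 ≤ j → IsEmpty (CohB1.tensorPow L j ≅ Coh.structureModule X))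
    (i : ℕ) (hi : 1 ≤ i) :
    Subsingleton (Coh.HH X (CohB1.tensorPow M i) 0) := by
  classical
  obtain ⟨θ0⟩ := hM
  have hMi : PicF.IsInvertible M :=
    Groth.Agent.Intersect.isInvertible_inverse hL ⟨TMul.commIso _ _ ≪≫ θ0⟩
  have hfield : IsField (Γ(X, ⊤) : Type u) :=
    isField_of_universallyClosed k (X ↘ Spec (CommRingCat.of k))
  obtain ⟨eA, -⟩ := Groth.Agent.CohFinite.exists_zero_equiv k (X := X) (CohB1.tensorPow M i)
  obtain ⟨eB, -⟩ := Groth.Agent.CohFinite.exists_zero_equiv k (X := X) (CohB1.tensorPow L (i * 4))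
  haveI := hsec (i * 4) (by omega)
  obtain ⟨τ, hτ⟩ : ∃ τ : Γ(CohB1.tensorPow L (i * 4), ⊤), τ ≠ 0 :=
    @exists_ne _ eB.toEquiv.symm.nontrivial 0
  suffices H : ∀ σ : Γ(CohB1.tensorPow M i, ⊤), σ = 0 by
    exact ⟨fun a b => eA.injective ((H (eA a)).trans (H (eA b)).symm)⟩
  intro σ
  by_contra hσ
  have hMI : PicF.IsInvertible (CohB1.tensorPow M i) := TMul.isInvertible_tensorPow hMi i
  have hLI : PicF.IsInvertible (CohB1.tensorPow L (i * 4)) := TMul.isInvertible_tensorPow hL _
  -- the pairing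
  obtain ⟨θ⟩ : Nonempty (CohB1.tensorMod (CohB1.tensorPow (CohB1.tensorPow M i) 4)
      (CohB1.tensorPow L (i * 4)) ≅ Coh.structureModule X) := by
    obtain ⟨p⟩ := TMul.nonempty_powMulIso (L := M) i 4
    obtain ⟨q⟩ := TMul.nonempty_powTensorIso (L := M) (L' := L) (i * 4)
    obtain ⟨r⟩ := TMul.nonempty_powCongr θ0 (i * 4)
    obtain ⟨z⟩ := TMul.nonempty_powUnitIso (X := X) (i * 4)
    exact ⟨PicGrp.tensorModIso p (Iso.refl _) ≪≫ q.symm ≪≫ r ≪≫ z⟩
  -- nonzero sections have nonzero coefficients on every nonempty chart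
  have hne : ∀ (N : X.Modules), PicF.IsInvertible N → ∀ (v : Γ(N, ⊤)), v ≠ 0 →
      ∀ (W : X.Opens) [Nonempty W], Groth.Agent.QC.res N (le_top : W ≤ ⊤) v ≠ 0 := by
    intro N hN v hv W hW h0
    refine hv (Groth.Agent.QC.section_eq_of_locally fun y _ => ?_)
    obtain ⟨U, e, hyU, he⟩ := TMul.exists_isGen hN y
    refine ⟨U, le_top, hyU, ?_⟩
    obtain ⟨a, ha⟩ := (he U le_rfl).2 (Groth.Agent.QC.res N (le_top : U ≤ ⊤) v)
    simp only at ha
    obtain ⟨w, hw⟩ := hW
    obtain ⟨z, hz⟩ := nonempty_preirreducible_inter U.2 W.2 ⟨y, hyU⟩ ⟨w, hw⟩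
    have h1 := congrArg (Groth.Agent.QC.res N (inf_le_left : U ⊓ W ≤ U)) ha
    rw [Groth.Agent.QC.res_smul, Groth.Agent.QC.res_res, Groth.Agent.QC.res_res,
      ← Groth.Agent.QC.res_res N (inf_le_right : U ⊓ W ≤ W) (le_top : W ≤ ⊤) v, h0, map_zero] at h1
    have h2 : Groth.Agent.QC.resO X (inf_le_left : U ⊓ W ≤ U) a = 0 :=
      (he (U ⊓ W) inf_le_left).1 (h1.trans (zero_smul _ _).symm)
    have h3 : a = 0 := by
      refine @map_injective_of_isIntegral X _ _ _ (homOfLE (inf_le_left : U ⊓ W ≤ U)) ⟨⟨z, hz⟩⟩ _ _ ?_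
      rw [map_zero]
      exact h2
    rw [map_zero, ← ha, h3, zero_smul]
  let μ := TMul.tm (TMul.pw σ 4) τ
  have hμ : ∀ y : X, ∃ (U : X.Opens) (e : Γ(CohB1.tensorPow M i, U))
      (f : Γ(CohB1.tensorPow L (i * 4), U)) (a b : Γ(X, U)), y ∈ U ∧ TMul.IsGen e ∧ TMul.IsGen f ∧
      Groth.Agent.QC.res _ le_top σ = a • e ∧ Groth.Agent.QC.res _ le_top τ = b • f ∧
      Groth.Agent.QC.res _ (le_top : U ≤ ⊤) μ = (a ^ 4 * b) • TMul.tm (TMul.pw e 4) f := by
    intro y
    obtain ⟨U₁, e₁, hy₁, he₁⟩ := TMul.exists_isGen hMI y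
    obtain ⟨U₂, f₂, hy₂, hf₂⟩ := TMul.exists_isGen hLI y
    let U := U₁ ⊓ U₂
    let e := Groth.Agent.QC.res _ (inf_le_left : U ≤ U₁) e₁
    let f := Groth.Agent.QC.res _ (inf_le_right : U ≤ U₂) f₂
    have he : TMul.IsGen e := he₁.res inf_le_left
    have hf : TMul.IsGen f := hf₂.res inf_le_right
    obtain ⟨a, ha⟩ := (he U le_rfl).2 (Groth.Agent.QC.res _ (le_top : U ≤ ⊤) σ)
    obtain ⟨b, hb⟩ := (hf U le_rfl).2 (Groth.Agent.QC.res _ (le_top : U ≤ ⊤) τ)
    replace ha : a • e = Groth.Agent.QC.res _ (le_top : U ≤ ⊤) σ :=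
      (congrArg (a • ·) (Groth.Agent.QC.res_self _ _ _)).symm.trans ha
    replace hb : b • f = Groth.Agent.QC.res _ (le_top : U ≤ ⊤) τ :=
      (congrArg (b • ·) (Groth.Agent.QC.res_self _ _ _)).symm.trans hb
    refine ⟨U, e, f, a, b, ⟨hy₁, hy₂⟩, he, hf, ha.symm, hb.symm, ?_⟩
    rw [TMul.res_tm, TMul.res_pw, ← ha, ← hb, TMul.pw_smul, TMul.smul_tm, TMul.tm_smul, smul_smul]
  let c : Γ(X, ⊤) := θ.hom.app ⊤ μ
  have hc0 : c ≠ 0 := by
    intro hc
    obtain ⟨U, e, f, a, b, hyU, he, hf, ha, hb, hμU⟩ := hμ (genericPoint X)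
    haveI : Nonempty U := ⟨⟨_, hyU⟩⟩
    haveI : IsDomain Γ(X, U) := @IsIntegral.component_integral X _ U inferInstance
    have ha0 : a ≠ 0 := fun h => hne _ hMI σ hσ U (by rw [ha, h, zero_smul])
    have hb0 : b ≠ 0 := fun h => hne _ hLI τ hτ U (by rw [hb, h, zero_smul])
    have hg := TMul.isGen_tm (TMul.isGen_pw he 4) hf
    have h1 : μ = 0 := by
      have : Function.Injective (θ.hom.app ⊤) :=
        (ConcreteCategory.bijective_of_isIso (θ.hom.app ⊤)).1
      exact this (hc.trans (map_zero _).symm)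
    rw [h1, map_zero] at hμU
    have := (hg U le_rfl).1 (a₁ := a ^ 4 * b) (a₂ := 0)
      (by simp only [Groth.Agent.QC.res_self]; exact hμU.symm.trans (zero_smul _ _).symm)
    exact mul_ne_zero (pow_ne_zero _ ha0) hb0 this
  have hcu : IsUnit c := by
    letI := hfield.toField
    exact isUnit_iff_ne_zero.mpr hc0
  -- `τ` generates
  have hgen : TMul.IsGen τ := by
    refine Groth.Agent.MeroLib.isGen_of_locally τ fun y _ => ?_
    obtain ⟨U, e, f, a, b, hyU, he, hf, ha, hb, hμU⟩ := hμ y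
    refine ⟨U, le_top, hyU, ?_⟩
    have h1 := congrArg (θ.hom.app U) hμU
    rw [← Groth.Agent.QC.app_res, Scheme.Modules.Hom.app_smul] at h1
    have h2 : IsUnit (Groth.Agent.QC.resO X (le_top : U ≤ ⊤) c) := hcu.map _
    have h3 : (a ^ 4 * b) * (show Γ(X, U) from θ.hom.app U (TMul.tm (TMul.pw e 4) f)) =
        Groth.Agent.QC.resO X (le_top : U ≤ ⊤) c := h1.symm
    have hbu : IsUnit b := isUnit_of_mul_isUnit_right (isUnit_of_mul_isUnit_left (h3 ▸ h2))
    rw [hb]
    intro V hV
    have e' : (fun r : Γ(X, V) => r • Groth.Agent.QC.res _ hV (b • f)) =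
        (fun r : Γ(X, V) => r • Groth.Agent.QC.res _ hV f) ∘
          (fun r => r * Groth.Agent.QC.resO X hV b) := by
      funext r
      simp [Groth.Agent.QC.res_smul, smul_smul]
    change Function.Bijective (fun r : Γ(X, V) => r • Groth.Agent.QC.res _ hV (b • f))
    rw [e']
    exact (hf V hV).comp (hbu.map (Groth.Agent.QC.resO X hV)).unit.mulRight.bijective
  obtain ⟨φ⟩ := Groth.Agent.PicFam.nonempty_iso_of_gen hgen
  exact (hnt (i * 4) (by omega)).false φ

end Groth.Agent.S14064
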