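import Groth.Statements.S14065
import Groth.Agent.CurveOmega.Duality
import Groth.Agent.CurveRR.Easy

set_option autoImplicit false
universe u
open CategoryTheory CategoryTheory.Limits AlgebraicGeometry TopologicalSpace
open Curves

set_option backward.isDefEq.respectTransparency false
set_option backward.isDefEq.respectTransparency.types false

open Groth.Agent

namespace Groth.Agent.S14065

/-- Let k be an algebraically closed field and C a smooth projective connected curve over k — an
integral scheme, proper and smooth over k, of dimension 1 — of genus g = dim_k H¹(C, O_C) with g ≥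
2, and let T be the tangent module of C, a tensor inverse of the module of differentials Ω_{C/k}.
Then dim_k H¹(C, T) = 3g − 3. (The published proof makes this computation, together with the
vanishing of H⁰(C, T), to find the dimension of the tangent space of the moduli stack of genus-g
curves at C; only the dimension of H¹(C, T) is stated here.) -/
theorem result (k : Type u) [Field k] [IsAlgClosed k]
    (C : Scheme.{u}) [C.Over (Spec (CommRingCat.of k))] [IsProper (C ↘ (Spec (CommRingCat.of k)))] [Smooth (C ↘ (Spec (CommRingCat.of k)))] [IsIntegral C]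
    (hdim : topologicalKrullDim C = 1) (g : ℕ) (hg : Curv2.genus k C = g) (h2 : 2 ≤ g)
    (T : C.Modules) (hT : ClSub.IsInverseOf T (Omega.sheaf (C ↘ (Spec (CommRingCat.of k))))) :
    Module.finrank k (Coh.HH C T 1) = 3 * g - 3 := by
  have hC : Curve.IsSmoothProperCurve k C (C ↘ (Spec (CommRingCat.of k))) :=
    ⟨inferInstance, inferInstance, inferInstance, hdim⟩
  obtain ⟨hI, hh0, hdeg, -⟩ := CurveOmega.omega_facts k C hC
  obtain ⟨e⟩ := hT
  have hTi := NegTwist.isInvertible_inverse hI (TMul.commIso _ _ ≪≫ e)
  haveI := CurveRR.isNoetherian_of_proper k C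
  have hd : Curv2.deg k C T 1 = -(2 * (g : ℤ) - 2) := by
    have h2 := CurveRR.deg_tensor_inv (k := k) hdim.le hTi hI
    rw [Curv2.deg, CurveRR.euler_eq_of_iso e] at h2
    have h3 : Curv2.deg k C (Coh.structureModule C) 1 = 0 := CurveRR.deg_structure
    rw [Curv2.deg] at h3
    omega
  have h0 : CurveRR.h k T 0 = 0 := by
    by_contra hne
    obtain ⟨s, hs⟩ := CurveRR.exists_section hne
    have := CurveRR.Easy.deg_nonneg (k := k) hdim.le hTi s hs
    omega
  rw [Curv2.deg, CurveRR.euler_eq hdim.le, CurveRR.euler_structure hdim.le (CurveRR.h0_structure k C), h0, hg] at hd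
  show CurveRR.h k T 1 = _
  push_cast at hd
  omega

end Groth.Agent.S14065
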