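import Groth.Statements.S14069
import Mathlib
import Groth.Agent.EtLiftLib.Basic
import Groth.Agent.FibCrit.Tools

set_option autoImplicit false
universe u
open CategoryTheory AlgebraicGeometry
open FamCyc

namespace Groth.Agent.S14069

/-- Let i : S₀ ⟶ S be a closed immersion, p : X ⟶ S a scheme over S, q : Y ⟶ S a smooth morphism, X₀ = X
×_S S₀, x₀ a point of X₀ and f₀ : X₀ ⟶ Y a morphism over S. Then there are a scheme U, an étale
morphism e : U ⟶ X whose base change U ×_X X₀ ⟶ X₀ is an open immersion whose image contains x₀, and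
a morphism f : U ⟶ Y over S whose restriction to U ×_X X₀ equals the restriction of f₀. -/
theorem result {S S₀ X Y : Scheme.{u}} (i : S₀ ⟶ S) [IsClosedImmersion i]
    (p : X ⟶ S) (q : Y ⟶ S) [Smooth q] (f₀ : Limits.pullback p i ⟶ Y)
    (hf₀ : f₀ ≫ q = Limits.pullback.fst p i ≫ p) (x₀ : ↥(Limits.pullback p i)) :
    ∃ (U : Scheme.{u}) (e : U ⟶ X) (f : U ⟶ Y), Etale e ∧ f ≫ q = e ≫ p ∧
      IsOpenImmersion (Limits.pullback.snd e (Limits.pullback.fst p i)) ∧
      x₀ ∈ Set.range (Limits.pullback.snd e (Limits.pullback.fst p i)).base ∧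
      Limits.pullback.snd e (Limits.pullback.fst p i) ≫ f₀ =
        Limits.pullback.fst e (Limits.pullback.fst p i) ≫ f := by
  classical
  let x := (Limits.pullback.fst p i) x₀
  -- affine charts on `S` and on `Y`
  obtain ⟨US, hUS, hxS, -⟩ := exists_isAffineOpen_mem_and_subset (x := p x) (U := ⊤) trivial
  have hy : f₀ x₀ ∈ q ⁻¹ᵁ US := by
    show q (f₀ x₀) ∈ US
    rw [← Scheme.Hom.comp_apply, hf₀, Scheme.Hom.comp_apply]
    exact hxS
  obtain ⟨Y₁, hY₁, hyY, hY₁U'⟩ := exists_isAffineOpen_mem_and_subset (x := f₀ x₀) (U := q ⁻¹ᵁ US) hy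
  have hY₁U : Y₁ ≤ q ⁻¹ᵁ US := hY₁U'
  let R := Γ(S, US)
  let B₁ := Γ(Y, Y₁)
  letI : Algebra R B₁ := (q.appLE US Y₁ hY₁U).hom.toAlgebra
  haveI : Algebra.Smooth R B₁ :=
    RingHom.smooth_algebraMap.mp (HasRingHomProperty.appLE (P := @Smooth) q inferInstance ⟨US, hUS⟩ ⟨Y₁, hY₁⟩ hY₁U)
  obtain ⟨g, hg, n, hPB, htow, hstd⟩ :=
    Algebra.IsSmoothAt.exists_isStandardEtale_mvPolynomial (R := R) (p := (hY₁.primeIdealOf ⟨f₀ x₀, hyY⟩).asIdeal)
  haveI := htow
  haveI := hstd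
  let P := MvPolynomial (Fin n) R
  let B := Localization.Away g
  haveI : Algebra.Etale P B := inferInstance
  let jY : Spec (CommRingCat.of B) ⟶ Y :=
    Spec.map (CommRingCat.ofHom (algebraMap B₁ B)) ≫ hY₁.fromSpec
  haveI : IsOpenImmersion (Spec.map (CommRingCat.ofHom (algebraMap B₁ B))) :=
    IsOpenImmersion.of_isLocalization g
  have hjYq : jY ≫ q = Spec.map (CommRingCat.ofHom (algebraMap R B)) ≫ hUS.fromSpec := by
    simp only [jY, Category.assoc]
    rw [← IsAffineOpen.SpecMap_appLE_fromSpec q hUS hY₁ hY₁U, ← Spec.map_comp_assoc]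
    congr 2
  have hyr : f₀ x₀ ∈ jY.opensRange := by
    obtain ⟨z, hz⟩ : hY₁.primeIdealOf ⟨f₀ x₀, hyY⟩ ∈
        Set.range (Spec.map (CommRingCat.ofHom (algebraMap B₁ B))) :=
      (PrimeSpectrum.localization_away_comap_range B g).symm ▸ hg
    exact ⟨z, by rw [Scheme.Hom.comp_apply, hz, hY₁.fromSpec_primeIdealOf]⟩
  -- the affine chart of `X`
  have hemb : Topology.IsEmbedding (Limits.pullback.fst p i) :=
    (Limits.pullback.fst p i).isClosedEmbedding.isEmbedding
  obtain ⟨O', hO', hO'eq⟩ := hemb.isInducing.isOpen_iff.mp (f₀ ⁻¹ᵁ jY.opensRange).2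
  obtain ⟨V, hV, hxV, hVO⟩ := exists_isAffineOpen_mem_and_subset (x := x)
    (U := (⟨O', hO'⟩ : X.Opens) ⊓ p ⁻¹ᵁ US) ⟨(Set.ext_iff.mp hO'eq x₀).mpr hyr, hxS⟩
  have hVU : V ≤ p ⁻¹ᵁ US := fun z hz => (hVO hz).2
  let A := Γ(X, V)
  letI : Algebra R A := (p.appLE US V hVU).hom.toAlgebra
  let W₀ := Limits.pullback (Limits.pullback.fst p i) hV.fromSpec
  have hci : IsClosedImmersion (Limits.pullback.snd (Limits.pullback.fst p i) hV.fromSpec) := inferInstance
  obtain ⟨I, ε, hε⟩ := IsClosedImmersion.Spec_iff.mp hci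
  let j₀ : Spec (CommRingCat.of (A ⧸ I)) ⟶ Limits.pullback p i :=
    ε.inv ≫ Limits.pullback.fst (Limits.pullback.fst p i) hV.fromSpec
  let quot : Spec (CommRingCat.of (A ⧸ I)) ⟶ Spec A := Spec.map (CommRingCat.ofHom (Ideal.Quotient.mk I))
  have h2 : IsPullback j₀ quot (Limits.pullback.fst p i) hV.fromSpec :=
    (IsPullback.of_hasPullback _ _).of_iso ε (Iso.refl _) (Iso.refl _) (Iso.refl _)
      (by simp [j₀]) (by simp [quot, hε]) (by simp) (by simp)
  have hj₀range : ∀ z, f₀ (j₀ z) ∈ jY.opensRange := by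
    intro z
    refine (Set.ext_iff.mp hO'eq (j₀ z)).mp ?_
    show (Limits.pullback.fst p i) (j₀ z) ∈ O'
    rw [← Scheme.Hom.comp_apply, h2.w, Scheme.Hom.comp_apply]
    have : hV.fromSpec (quot z) ∈ V := by
      rw [← SetLike.mem_coe, ← hV.range_fromSpec]; exact ⟨_, rfl⟩
    exact (hVO this).1
  let t : Spec (CommRingCat.of (A ⧸ I)) ⟶ Spec (CommRingCat.of B) :=
    IsOpenImmersion.lift jY (j₀ ≫ f₀) (by rintro _ ⟨z, rfl⟩; exact hj₀range z)
  obtain ⟨φ₀, hφ₀⟩ := Spec.map_surjective t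
  have hφ₀f : Spec.map φ₀ ≫ jY = j₀ ≫ f₀ := by rw [hφ₀]; exact IsOpenImmersion.lift_fac _ _ _
  have hφR : ∀ r : R, φ₀.hom (algebraMap R B r) = algebraMap R (A ⧸ I) r := by
    have h := congrArg (· ≫ q) hφ₀f
    simp only [Category.assoc, hjYq, hf₀, h2.w_assoc, quot] at h
    rw [← IsAffineOpen.SpecMap_appLE_fromSpec p hUS hV hVU, ← Spec.map_comp_assoc,
      ← Spec.map_comp_assoc, cancel_mono] at h
    exact fun r => RingHom.congr_fun (congrArg CommRingCat.Hom.hom (Spec.map_injective h)) r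
  let φ : B →ₐ[R] A ⧸ I := ⟨φ₀.hom, hφR⟩
  -- coordinates on `X`
  choose a ha using fun k : Fin n => Ideal.Quotient.mk_surjective (φ (algebraMap P B (MvPolynomial.X k)))
  letI : Algebra P A := (MvPolynomial.aeval a).toRingHom.toAlgebra
  haveI : IsScalarTower R P A :=
    IsScalarTower.of_algebraMap_eq fun r => ((MvPolynomial.aeval (R := R) a).commutes r).symm
  have hφP : ∀ z : P, φ (algebraMap P B z) = Ideal.Quotient.mk I (algebraMap P A z) := by
    have h : (φ.comp (IsScalarTower.toAlgHom R P B)) =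
        (Ideal.Quotient.mkₐ R I).comp (MvPolynomial.aeval (R := R) a) :=
      MvPolynomial.algHom_ext fun k => by simp [ha]; rfl
    exact fun z => AlgHom.congr_fun h z
  haveI : IsScalarTower P A (A ⧸ I) := inferInstance
  let φP : B →ₐ[P] A ⧸ I := ⟨φ₀.hom, fun z => hφP z⟩
  let B₂ := TensorProduct P A B
  haveI : Algebra.Etale A B₂ := Algebra.Etale.baseChange P B A
  let φ₂ : B₂ →ₐ[A] A ⧸ I :=
    Algebra.TensorProduct.lift (Algebra.ofId A (A ⧸ I)) φP (fun a b => Commute.all _ _)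
  obtain ⟨A', _, _, hA', hbij, η, hη⟩ := Groth.Agent.EtLiftLib.exists_etale_nhd I φ₂
  haveI := hA'
  let I' := I.map (algebraMap A A')
  let ψ : B →+* A' := η.toRingHom.comp (Algebra.TensorProduct.includeRight : B →ₐ[P] B₂).toRingHom
  let e : Spec (CommRingCat.of A') ⟶ X := Spec.map (CommRingCat.ofHom (algebraMap A A')) ≫ hV.fromSpec
  let fU : Spec (CommRingCat.of A') ⟶ Y := Spec.map (CommRingCat.ofHom ψ) ≫ jY
  haveI : Etale (Spec.map (CommRingCat.ofHom (algebraMap A A'))) := by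
    rw [HasRingHomProperty.Spec_iff (P := @Etale), CommRingCat.hom_ofHom, RingHom.etale_algebraMap]
    exact hA'
  have hψR : ∀ r : R, ψ (algebraMap R B r) = algebraMap A A' (algebraMap R A r) := by
    intro r
    change η ((1 : A) ⊗ₜ[P] algebraMap R B r) = _
    rw [IsScalarTower.algebraMap_apply R P B, Algebra.algebraMap_eq_smul_one (algebraMap R P r),
      ← TensorProduct.smul_tmul, ← Algebra.algebraMap_eq_smul_one, ← IsScalarTower.algebraMap_apply]
    exact η.commutes _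
  refine ⟨Spec (CommRingCat.of A'), e, fU, inferInstance, ?_, ?_⟩
  · simp only [e, fU, Category.assoc, hjYq]
    rw [← IsAffineOpen.SpecMap_appLE_fromSpec p hUS hV hVU, ← Spec.map_comp_assoc, ← Spec.map_comp_assoc]
    congr 2
    ext r
    exact hψR r
  -- the base change of the neighbourhood
  let quot' : Spec (CommRingCat.of (A' ⧸ I')) ⟶ Spec (CommRingCat.of A') :=
    Spec.map (CommRingCat.ofHom (Ideal.Quotient.mk I'))
  let α : CommRingCat.of (A ⧸ I) ⟶ CommRingCat.of (A' ⧸ I') :=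
    CommRingCat.ofHom (algebraMap (A ⧸ I) (A' ⧸ I'))
  haveI : IsIso α := (ConcreteCategory.isIso_iff_bijective _).mpr hbij
  haveI := Groth.Agent.FibCrit.isPushout_quot (A := A) (B := A') I (J := I') rfl
  have h1 : IsPullback quot' (Spec.map α) (Spec.map (CommRingCat.ofHom (algebraMap A A'))) quot :=
    (isPullback_SpecMap_of_isPushout _ _ _ _
      (CommRingCat.isPushout_of_isPushout A (A ⧸ I) A' (A' ⧸ I'))).flip
  have h3 : IsPullback quot' (Spec.map α ≫ j₀) e (Limits.pullback.fst p i) := h1.paste_vert h2.flip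
  refine ⟨?_, ?_, ?_⟩
  · rw [← h3.isoPullback_inv_snd]
    infer_instance
  · obtain ⟨z, hz⟩ : x₀ ∈ Set.range j₀ := by
      obtain ⟨w, hw1, -⟩ := Scheme.Pullback.exists_preimage_pullback (f := Limits.pullback.fst p i)
        (g := hV.fromSpec) x₀ (hV.primeIdealOf ⟨x, hxV⟩) (hV.fromSpec_primeIdealOf ⟨x, hxV⟩).symm
      exact ⟨ε.hom w, by simp only [j₀, ← Scheme.Hom.comp_apply, Iso.hom_inv_id_assoc, hw1]⟩
    obtain ⟨z', hz'⟩ := (Spec.map α).surjective z
    refine ⟨h3.isoPullback.hom z', ?_⟩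
    rw [← Scheme.Hom.comp_apply, h3.isoPullback_hom_snd, Scheme.Hom.comp_apply, hz', hz]
  · rw [← cancel_epi h3.isoPullback.hom, h3.isoPullback_hom_snd_assoc, h3.isoPullback_hom_fst_assoc]
    rw [Category.assoc, ← hφ₀f]
    have hb : ∀ b : B, Ideal.Quotient.mk I' (ψ b) = algebraMap (A ⧸ I) (A' ⧸ I') (φ₀.hom b) := by
      intro b
      have h : φ₂ ((1 : A) ⊗ₜ[P] b) = φ₀.hom b := by
        refine (Algebra.TensorProduct.lift_tmul _ _ _ _ _).trans ?_
        rw [map_one, one_mul]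
        rfl
      exact (hη ((1 : A) ⊗ₜ[P] b)).trans (congrArg _ h)
    have hm : φ₀ ≫ α = CommRingCat.ofHom ψ ≫ CommRingCat.ofHom (Ideal.Quotient.mk I') :=
      CommRingCat.hom_ext (RingHom.ext fun b => (hb b).symm)
    rw [← Category.assoc (Spec.map α), ← Spec.map_comp, hm, Spec.map_comp, Category.assoc]

end Groth.Agent.S14069
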