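import Groth.Statements.S1407
import Groth.Agent.CMFlat.BaseChange

set_option autoImplicit false
universe u
open FlatMor

namespace Groth.Agent.S1407

open AlgebraicGeometry CategoryTheory Limits in
/-- Let Y' → Y be flat, locally of finite presentation and surjective and f' the base change of f : X →
Y. Then f has locally Noetherian fibres and is Cohen–Macaulay at every point if and only if the same
holds for f'. -/
theorem result {X Y X' Y' : Scheme.{u}} (f : X ⟶ Y) (f' : X' ⟶ Y') (g' : X' ⟶ X) (g : Y' ⟶ Y) [Flat g] [LocallyOfFinitePresentation g] [Surjective g]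
    (hc : IsPullback g' f' f g) :
    ((∀ y : Y, IsLocallyNoetherian (f.fiber y)) ∧ ∀ x : X, MoreMor.IsCMAt f x) ↔
      (∀ y' : Y', IsLocallyNoetherian (f'.fiber y')) ∧ ∀ x' : X', MoreMor.IsCMAt f' x' := by
  haveI : Surjective g' := MorphismProperty.of_isPullback (P := @Surjective) hc.flip inferInstance
  constructor
  · rintro ⟨hN, h⟩
    refine ⟨fun y' => Groth.Agent.CMFlat.isLocallyNoetherian_fiber_baseChange hc y' (hN _), fun x' => ?_⟩
    haveI := hN (g (f' x'))
    exact Groth.Agent.CMFlat.isCMAt_baseChange hc x' (Or.inl inferInstance) (h _)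
  · rintro ⟨hN', h⟩
    have hN : ∀ y : Y, IsLocallyNoetherian (f.fiber y) := fun y => by
      obtain ⟨y', rfl⟩ := g.surjective y
      letI := (g.residueFieldMap y').hom.toAlgebra
      letI : (f.fiber (g y')).Over (Spec (CommRingCat.of (Y.residueField (g y')))) :=
        ⟨f.fiberToSpecResidueField (g y')⟩
      haveI : IsLocallyNoetherian (Curv2.bc (Y.residueField (g y')) (f.fiber (g y')) (Y'.residueField y')) :=
        @isLocallyNoetherian_of_isOpenImmersion _ _
          (Groth.Agent.ConsEngine.isPullback_fiberBC hc y').isoPullback.inv inferInstance (hN' y')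
      exact Groth.Agent.CMFlat.isLocallyNoetherian_of_bc (Y.residueField (g y')) (f.fiber (g y'))
        (Y'.residueField y')
    refine ⟨hN, fun x => ?_⟩
    obtain ⟨x', rfl⟩ := g'.surjective x
    haveI := hN (g (f' x'))
    exact Groth.Agent.CMFlat.isCMAt_of_baseChange hc x' (Or.inl inferInstance)
      (Groth.Agent.CMFlat.flatAt_of_flatAt_baseChange hc x' (Flat.stalkMap g _) (h x').1) (h x')

end Groth.Agent.S1407
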