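import Groth.Statements.S14074
import Groth.Agent.KSixLib.Ascend

set_option autoImplicit false
open CategoryTheory AlgebraicGeometry
universe u
attribute [local instance] HasDerivedCategory.standard
open FamCyc

set_option backward.isDefEq.respectTransparency false
set_option backward.isDefEq.respectTransparency.types false
attribute [local instance] HasDerivedCategory.standard

namespace Groth.Agent.S14074

open CategoryTheory Limits AlgebraicGeometry

/-- Let h : B ⟶ S be a smooth morphism, φ : X ⟶ B a morphism locally of finite type and F a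
quasi-coherent O_X-module of pointwise finite tor dimension over S, i.e. at every point x of X the
stalk F_x is, over the local ring of S below x, isomorphic in the derived category to a bounded
complex of flat modules. Then F has finite tor dimension over B pointwise in the same sense. -/
theorem result {X B S : Scheme.{u}} (h : B ⟶ S) [Smooth h]
    (φ : X ⟶ B) [LocallyOfFiniteType φ] (F : X.Modules) (hF : Coh.IsQCoh F)
    (hS : ∀ x : X, ∃ a b : ℤ,
      DerSch.HasTorAmplitudeAt (φ ≫ h) a b ((HomologicalComplex.single X.Modules (ComplexShape.up ℤ) 0).obj F) x) :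
    ∀ x : X, ∃ a b : ℤ,
      DerSch.HasTorAmplitudeAt φ a b ((HomologicalComplex.single X.Modules (ComplexShape.up ℤ) 0).obj F) x := by
  intro x
  obtain ⟨a, b, hab⟩ := hS x
  obtain ⟨W, n, hy, hW⟩ := KSixLib.exists_flatTd_nhd h (φ.base x)
  refine ⟨a - n, b, ?_⟩
  let G := (HomologicalComplex.single X.Modules (ComplexShape.up ℤ) 0).obj F
  let K : DRing.Cx (B.presheaf.stalk (φ.base x)) := (DerSch.stalkCxOver φ x).obj G
  have hcomp : ((φ ≫ h).stalkMap x).hom = (φ.stalkMap x).hom.comp (h.stalkMap (φ.base x)).hom :=
    congrArg CommRingCat.Hom.hom (Scheme.Hom.stalkMap_comp φ h x)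
  let i := ModuleCat.restrictScalarsComp'.{u} (h.stalkMap (φ.base x)).hom (φ.stalkMap x).hom
    ((φ ≫ h).stalkMap x).hom hcomp
  let e : (DerSch.stalkCxOver (φ ≫ h) x).obj G ≅
      ((ModuleCat.restrictScalars.{u} (h.stalkMap (φ.base x)).hom).mapHomologicalComplex (ComplexShape.up ℤ)).obj K :=
    HomologicalComplex.Hom.isoOfComponents (fun m => i.app ((DerSch.stalkFunctor X x).obj (G.X m)))
      (fun p q _ => (i.hom.naturality ((DerSch.stalkFunctor X x).map (G.d p q))).symm)
  exact KSixLib.amp_ascend (h.stalkMap (φ.base x)).hom (Flat.stalkMap h (φ.base x)) (hW _ hy) _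
    (DRingKP.amp_of_iso (DerivedCategory.Q.mapIso e ≪≫
      ((ModuleCat.restrictScalars.{u} (h.stalkMap (φ.base x)).hom).mapDerivedCategoryFactors.app K).symm) hab)

end Groth.Agent.S14074
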