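import Groth.Statements.S14075
import Groth.Agent.Unibranch.UpperSemicont
import Groth.Agent.GoingDown.Components

set_option autoImplicit false
open CategoryTheory AlgebraicGeometry
universe u
open FamCyc

namespace Groth.Agent.S14075

/-- Let f : X ⟶ S be locally of finite type and universally open. Then every point x of X lies on an
irreducible component W of X, given its reduced subscheme structure, such that W ⟶ S is
equidimensional at x. -/
theorem result {X S : Scheme.{u}} (f : X ⟶ S) [LocallyOfFiniteType f]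
    [UniversallyOpen f] (x : X) :
    ∃ W : TopologicalSpace.Closeds X, (W : Set X) ∈ irreducibleComponents (X : Type u) ∧
      ∃ w : ↥((Scheme.IdealSheafData.vanishingIdeal W).subscheme),
        (Scheme.IdealSheafData.vanishingIdeal W).subschemeι.base w = x ∧
        EGA43.IsEquidimAt ((Scheme.IdealSheafData.vanishingIdeal W).subschemeι ≫ f) w := by
  open Groth.Agent.Unibranch in
  obtain ⟨d, hd⟩ := exists_fibreDimAt_eq f x
  obtain ⟨U₀, hxU₀, hU₀⟩ := (fibreDimAt_le_iff f x).mp hd.le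
  obtain ⟨z, hzx, hfz, -, hzc⟩ := exists_max_hasChain f x hd.ge
  obtain ⟨η, hη, hηy⟩ := exists_isMaxPt_specializes (f.base x)
  obtain ⟨ζ₁, hζ₁z, hfζ₁, hk⟩ := exists_hasChain_of_isUnivOpenAt f
    (Groth.Agent.GoingDown.universallyOpen_iff_forall_isUnivOpenAt.mp ‹_› z)
    (η := η) (hfz.symm ▸ hηy)
  obtain ⟨ζ, hζmax, hζx, hfζ, hζc⟩ := exists_isMaxPt_hasChain f (x := x) hη
    fun O hO ↦ hasChain_opens_of_lift (hζ₁z.trans hzx) hfζ₁ (hk d (hfz.symm ▸ hzc)) hO
  subst hfζ
  let W : TopologicalSpace.Closeds X := ⟨closure {ζ}, isClosed_closure⟩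
  let ι := (Scheme.IdealSheafData.vanishingIdeal W).subschemeι
  have hr : Set.range ι = closure {ζ} := by
    rw [Scheme.IdealSheafData.range_subschemeι, Scheme.IdealSheafData.coe_support_vanishingIdeal]
    rfl
  obtain ⟨w, hw⟩ : x ∈ Set.range ι := hr.ge (specializes_iff_mem_closure.mp hζx)
  obtain ⟨ζ', hζ'⟩ : ζ ∈ Set.range ι := hr.ge (subset_closure rfl)
  have hsp : ∀ a b, ι a ⤳ ι b ↔ a ⤳ b := fun a b ↦ ι.isEmbedding.isInducing.specializes_iff
  let g := ι ≫ f
  have hgf : ∀ a, g a = f.base (ι a) := fun a ↦ Scheme.Hom.comp_apply _ _ _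
  have hgen : ∀ a, ζ' ⤳ a := fun a ↦ (hsp _ _).mp (by
    rw [hζ']; exact specializes_iff_mem_closure.mpr (hr.le ⟨a, rfl⟩))
  have hle₀ : ChainsLE g (ι ⁻¹ᵁ U₀) (g w) d := fun k c hc hc' ↦
    hU₀ k (fun i ↦ ι (c i)) (fun i ↦ ⟨(hc i).1, ((hgf _).symm.trans (hc i).2).trans ((hgf w).trans (congrArg f.base hw))⟩)
      fun i ↦ ⟨(hsp _ _).mpr (hc' i).1, fun h ↦ (hc' i).2 (ι.isEmbedding.injective h)⟩
  obtain ⟨U, hwU, -, hU⟩ := exists_opens_chainsLE g (show w ∈ ι ⁻¹ᵁ U₀ by
    show ι w ∈ U₀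
    rw [hw]; exact hxU₀) hle₀
  have hge : HasChain g (closure {ζ'}) (g ζ') d := by
    obtain ⟨c, hc, hc'⟩ := hζc
    choose a ha using fun i ↦ hr.ge (hc i).1
    refine ⟨a, fun i ↦ ⟨specializes_iff_mem_closure.mp (hgen _), ?_⟩,
      fun i ↦ ⟨(hsp _ _).mp ?_, fun h ↦ (hc' i).2 ?_⟩⟩
    · rw [hgf, hgf, ha, hζ']; exact (hc i).2
    · rw [ha, ha]; exact (hc' i).1
    · rw [← ha, ← ha, h]
  refine ⟨W, hζmax.mem_irreducibleComponents, w, hw, d, U, hwU, fun Z hZ ↦ ?_, fun x' C hC ↦ ?_⟩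
  · have hζU : ζ' ∈ U := (hgen w).mem_open U.2 hwU
    have hirr : closure ({⟨ζ', hζU⟩} : Set ↥U) = Set.univ := Set.eq_univ_of_forall fun a ↦
      specializes_iff_mem_closure.mp ((subtype_specializes_iff _ _).mpr (hgen a.1))
    have hZu : Z = Set.univ := Set.eq_univ_of_univ_subset
      (hZ.2 (hirr ▸ isIrreducible_singleton.closure) (Set.subset_univ _))
    refine ⟨closure {f.base ζ}, hη.mem_irreducibleComponents, ?_, ?_⟩
    · show (ι ≫ f) w ∈ _
      rw [show (ι ≫ f) w = f.base x from (hgf w).trans (congrArg f.base hw)]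
      exact specializes_iff_mem_closure.mp hηy
    · rw [hZu, ← hirr]
      refine (closure_image_closure_singleton (U.ι ≫ g) (⟨ζ', hζU⟩ : U)).trans ?_
      congr 2
      exact (Scheme.Hom.comp_apply _ _ _).trans ((hgf ζ').trans (congrArg f.base hζ'))
  · let h := U.ι ≫ g
    let y := h x'
    let j := h.fiberι y
    obtain ⟨c, hcmax, hcC⟩ := exists_isMaxPt hC
    subst hcC
    let γ := j c
    have hjr : Set.range (j ∘ ((↑) : closure ({c} : Set ↥(h.fiber y)) → ↥(h.fiber y))) =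
        closure {γ} ∩ h ⁻¹' {y} := by
      ext v
      constructor
      · rintro ⟨⟨a, ha⟩, rfl⟩
        exact ⟨specializes_iff_mem_closure.mp
          ((specializes_iff_mem_closure.mpr ha).map j.continuous), (h.range_fiberι y).le ⟨a, rfl⟩⟩
      · rintro ⟨hv, hvy⟩
        obtain ⟨a, rfl⟩ := (h.range_fiberι y).ge hvy
        exact ⟨⟨a, specializes_iff_mem_closure.mp
          (j.isEmbedding.isInducing.specializes_iff.mp (specializes_iff_mem_closure.mpr hv))⟩, rfl⟩
    have hγy : h γ = y := (h.range_fiberι y).le ⟨c, rfl⟩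
    have : QuasiSober ↥(closure ({c} : Set ↥(h.fiber y))) :=
      isClosed_closure.isClosedEmbedding_subtypeVal.quasiSober
    have hemb := j.isEmbedding.comp
      (Topology.IsEmbedding.subtypeVal (p := (· ∈ closure ({c} : Set ↥(h.fiber y)))))
    refine le_antisymm ((topologicalKrullDim_le_iff h hemb hjr).mpr fun k a ha ha' ↦ ?_)
      ((natCast_le_topologicalKrullDim_iff h hemb hjr).mpr ?_)
    · exact hU (g (U.ι γ)) k (fun i ↦ U.ι (a i)) (fun i ↦ ⟨(a i).2, by
        rw [← Scheme.Hom.comp_apply, ← Scheme.Hom.comp_apply]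
        exact (ha i).2.trans hγy.symm⟩)
        fun i ↦ ⟨(ha' i).1.map U.ι.continuous, fun e ↦ (ha' i).2 (U.ι.isEmbedding.injective e)⟩
    · obtain ⟨O, hγO, hOU, hO⟩ := exists_opens_maximal g (U := U) (x := U.ι γ) γ.2 (g (U.ι γ))
      obtain ⟨a, ha, ha'⟩ := HasChain.of_specializes (U := O) hge (hgen (U.ι γ)) hγO
      refine ⟨fun i ↦ ⟨a i, hOU (ha i).1.1⟩, fun i ↦ ⟨?_, ?_⟩, fun i ↦
        ⟨(subtype_specializes_iff _ _).mpr (ha' i).1, fun e ↦ (ha' i).2 (congrArg Subtype.val e)⟩⟩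
      · obtain ⟨m, hmγ, hma, hmy, hmO, -⟩ := hO _ (ha i).1.1 (ha i).2
        obtain ⟨b, hb⟩ := (h.range_fiberι y).ge (show h ⟨m, hOU hmO⟩ = y by
          refine (Scheme.Hom.comp_apply _ _ _).trans (hmy.trans ?_)
          exact (Scheme.Hom.comp_apply _ _ _).symm.trans hγy)
        have hbc : b ⤳ c := j.isEmbedding.isInducing.specializes_iff.mp (by
          rw [show j b = ⟨m, hOU hmO⟩ from hb]
          exact (subtype_specializes_iff _ _).mpr hmγ)
        rw [hcmax b hbc] at hb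
        exact specializes_iff_mem_closure.mp
          ((specializes_of_eq (show γ = ⟨m, hOU hmO⟩ from hb)).trans ((subtype_specializes_iff _ _).mpr hma))
      · exact (Scheme.Hom.comp_apply _ _ _).trans ((ha i).2.trans
          ((Scheme.Hom.comp_apply _ _ _).symm.trans hγy))

end Groth.Agent.S14075
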