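import Groth.Statements.S14076
import Groth.Agent.EquidimPt.Component

set_option autoImplicit false
open CategoryTheory AlgebraicGeometry
universe u
open FamCyc

namespace Groth.Agent.S14076
open Groth.Agent.Unibranch Groth.Agent.EquidimPt TopologicalSpace

/-- Let f : X ⟶ S be locally of finite type and equidimensional at every point of X. Then every point x
of X lies on an irreducible component W of X, given its reduced subscheme structure, such that W ⟶ S
is equidimensional at x. -/
theorem result {X S : Scheme.{u}} (f : X ⟶ S) [LocallyOfFiniteType f]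
    (h : ∀ x : X, EGA43.IsEquidimAt f x) (x : X) :
    ∃ W : TopologicalSpace.Closeds X, (W : Set X) ∈ irreducibleComponents (X : Type u) ∧
      ∃ w : ↥((Scheme.IdealSheafData.vanishingIdeal W).subscheme),
        (Scheme.IdealSheafData.vanishingIdeal W).subschemeι.base w = x ∧
        EGA43.IsEquidimAt ((Scheme.IdealSheafData.vanishingIdeal W).subschemeι ≫ f) w := by
  obtain ⟨ζ, hζ, hζx⟩ := exists_isMaxPt_specializes x
  obtain ⟨e, U, hxU, -, hmax, hgen, hle, -⟩ := exists_fibreDimAt_data f x (h x)
  have hζU := hζx.mem_open U.2 hxU
  exact ⟨Closeds.closure {ζ}, hζ.mem_irreducibleComponents,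
    isEquidimAt_component f hζx (hmax ζ hζU hζ) (hgen ζ hζU hζ)
      ⟨U, hxU, (hle _).mono Set.inter_subset_left⟩⟩

end Groth.Agent.S14076
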