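import Groth.Statements.S14079
import Groth.Agent.EquidimPt.Component

set_option autoImplicit false
open CategoryTheory AlgebraicGeometry
universe u
open FamCyc

namespace Groth.Agent.S14079
open Groth.Agent.Unibranch Groth.Agent.EquidimPt TopologicalSpace

/-- (iv) ⇒ (iii): let f : X ⟶ S be locally of finite type. Suppose that every point x of X which is a
maximal point of its fibre (no other point of the fibre over f x specializes to x) lies on an
irreducible component W of X, given its reduced subscheme structure, with W ⟶ S equidimensional at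
x. Then every point of X lies on such an irreducible component. -/
theorem result {X S : Scheme.{u}} (f : X ⟶ S) [LocallyOfFiniteType f]
    (h : ∀ x : X, (∀ x' : X, f.base x' = f.base x → x ∈ closure ({x'} : Set X) → x' = x) →
      ∃ W : TopologicalSpace.Closeds X, (W : Set X) ∈ irreducibleComponents (X : Type u) ∧
      ∃ w : ↥((Scheme.IdealSheafData.vanishingIdeal W).subscheme),
        (Scheme.IdealSheafData.vanishingIdeal W).subschemeι.base w = x ∧
        EGA43.IsEquidimAt ((Scheme.IdealSheafData.vanishingIdeal W).subschemeι ≫ f) w)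
    (x : X) :
    ∃ W : TopologicalSpace.Closeds X, (W : Set X) ∈ irreducibleComponents (X : Type u) ∧
      ∃ w : ↥((Scheme.IdealSheafData.vanishingIdeal W).subscheme),
        (Scheme.IdealSheafData.vanishingIdeal W).subschemeι.base w = x ∧
        EGA43.IsEquidimAt ((Scheme.IdealSheafData.vanishingIdeal W).subschemeι ≫ f) w := by
  obtain ⟨d, hd⟩ := exists_fibreDimAt_eq f x
  obtain ⟨m, hmx, hfm, hm, hch⟩ := exists_max_hasChain f x hd.ge
  obtain ⟨W, hW, w, hwm, hw⟩ := h m fun x' hf hx' =>
    hm x' (hf.trans hfm) (specializes_iff_mem_closure.mpr hx')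
  obtain ⟨ζ, e, hζ, -, hζm, hmax, hgen, U, hmU, hU⟩ := exists_component_data f hW w hwm hw
  rw [← hfm] at hch
  have hde : d ≤ e := ((hch.of_specializes specializes_rfl hmU).mono
    (Set.inter_subset_inter_right _ (closure_minimal
      (Set.singleton_subset_iff.mpr hζm.mem_closure) isClosed_closure))).le hU
  obtain ⟨U', hxU', hU'⟩ := (fibreDimAt_le_iff f x).mp hd.le
  exact ⟨Closeds.closure {ζ}, hζ.mem_irreducibleComponents,
    isEquidimAt_component f (hζm.trans hmx) hmax hgen
      ⟨U', hxU', fun k c hc hc' => (hU' k c (fun i => ⟨(hc i).1.1, (hc i).2⟩) hc').trans hde⟩⟩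

end Groth.Agent.S14079
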