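import Groth.Statements.S14081
import Groth.Agent.ArNF.Cusp
-- import your own Groth.Agent.* helpers here

set_option autoImplicit false
universe u
open ArSing

namespace Groth.Agent.S14081

/-- Over an algebraically closed field k of characteristic prime to 2 and to r+1, with r even, every
non-trivial k-algebra involution σ of A_r = k[[x,y]]/(y^2 - x^(r+1)) is conjugate, by a k-algebra
automorphism φ of A_r, to the involution x ↦ x, y ↦ -y (that is, φ⁻¹σφ fixes the class of x and
negates the class of y). -/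
theorem result (k : Type u) [Field k] [IsAlgClosed k] (r : ℕ)
    (h2 : (2 : k) ≠ 0) (hr : ((r + 1 : ℕ) : k) ≠ 0) (hev : Even r)
    (σ : ArSing.ring k r ≃ₐ[k] ArSing.ring k r) (hσ : ∀ a, σ (σ a) = a) (hne : σ ≠ AlgEquiv.refl) :
    ∃ φ : ArSing.ring k r ≃ₐ[k] ArSing.ring k r,
      φ.symm (σ (φ (ArSing.x k r))) = ArSing.x k r ∧
      φ.symm (σ (φ (ArSing.y k r))) = -ArSing.y k r := by
  obtain ⟨q, rfl⟩ := hev
  obtain ⟨φ, hx, hy⟩ : ∃ φ : ArSing.ring k (q + q) ≃ₐ[k] ArSing.ring k (q + q),
      σ (φ (ArSing.x k (q + q))) = φ (ArSing.x k (q + q)) ∧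
      σ (φ (ArSing.y k (q + q))) = -φ (ArSing.y k (q + q)) := by
    have e : q + q = 2 * q := (two_mul q).symm
    revert σ
    rw [e]
    intro σ hσ hne
    exact Groth.Agent.ArNF.involution_nf_even q h2 σ hσ hne
  exact ⟨φ, by rw [hx, AlgEquiv.symm_apply_apply], by rw [hy, map_neg, AlgEquiv.symm_apply_apply]⟩

end Groth.Agent.S14081
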