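import Groth.Statements.S14082
import Groth.Agent.ArNF.Branches
-- import your own Groth.Agent.* helpers here

set_option autoImplicit false
universe u
open ArSing

namespace Groth.Agent.S14082

/-- Over an algebraically closed field k of characteristic prime to 2 and to r+1, with r odd and r ≥ 3,
every non-trivial k-algebra involution σ of A_r = k[[x,y]]/(y^2 - x^(r+1)) is conjugate, by a
k-algebra automorphism φ of A_r, to one of the three involutions (x, y) ↦ (x, -y), (x, y) ↦ (-x, y),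
(x, y) ↦ (-x, -y). -/
theorem result (k : Type u) [Field k] [IsAlgClosed k] (r : ℕ)
    (h2 : (2 : k) ≠ 0) (hr : ((r + 1 : ℕ) : k) ≠ 0) (hodd : Odd r) (h3 : 3 ≤ r)
    (σ : ArSing.ring k r ≃ₐ[k] ArSing.ring k r) (hσ : ∀ a, σ (σ a) = a) (hne : σ ≠ AlgEquiv.refl) :
    ∃ φ : ArSing.ring k r ≃ₐ[k] ArSing.ring k r,
      (φ.symm (σ (φ (ArSing.x k r))) = ArSing.x k r ∧ φ.symm (σ (φ (ArSing.y k r))) = -ArSing.y k r) ∨
      (φ.symm (σ (φ (ArSing.x k r))) = -ArSing.x k r ∧ φ.symm (σ (φ (ArSing.y k r))) = ArSing.y k r) ∨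
      (φ.symm (σ (φ (ArSing.x k r))) = -ArSing.x k r ∧ φ.symm (σ (φ (ArSing.y k r))) = -ArSing.y k r) := by
  obtain ⟨q, hq⟩ := hodd
  obtain ⟨φ, ⟨s, rfl | rfl, hx, hy⟩ | ⟨hx, hy⟩ | ⟨h1, -⟩⟩ :=
    Groth.Agent.ArNF.involution_nf (q := q + 1) (by omega : r + 1 = 2 * (q + 1)) h2 σ hσ hne
  · exact ⟨φ, Or.inl ⟨φ.injective (by simp [hx]), φ.injective (by simp [hy])⟩⟩
  · rcases neg_one_pow_eq_or k (q + 1) with h | h
    · exact ⟨φ, Or.inr (Or.inr ⟨φ.injective (by simp [hx]), φ.injective (by simp [hy, h])⟩)⟩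
    · exact ⟨φ, Or.inr (Or.inl ⟨φ.injective (by simp [hx]), φ.injective (by simp [hy, h])⟩)⟩
  · rcases neg_one_pow_eq_or k (q + 1) with h | h
    · exact ⟨φ, Or.inr (Or.inl ⟨φ.injective (by simp [hx]), φ.injective (by simp [hy, h])⟩)⟩
    · exact ⟨φ, Or.inr (Or.inr ⟨φ.injective (by simp [hx]), φ.injective (by simp [hy, h])⟩)⟩
  · omega

end Groth.Agent.S14082
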