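import Groth.Statements.S14083
import Groth.Agent.ArNF.Branches
-- import your own Groth.Agent.* helpers here

set_option autoImplicit false
universe u
open ArSing

namespace Groth.Agent.S14083

/-- Over an algebraically closed field k of characteristic different from 2, every non-trivial k-algebra
involution σ of the node algebra A_1 = k[[x,y]]/(y^2 - x^2) is conjugate, by a k-algebra
automorphism φ of A_1, to one of the three involutions (x, y) ↦ (x, -y), (x, y) ↦ (-x, -y), (x, y) ↦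
(y, x). -/
theorem result (k : Type u) [Field k] [IsAlgClosed k]
    (h2 : (2 : k) ≠ 0)
    (σ : ArSing.ring k 1 ≃ₐ[k] ArSing.ring k 1) (hσ : ∀ a, σ (σ a) = a) (hne : σ ≠ AlgEquiv.refl) :
    ∃ φ : ArSing.ring k 1 ≃ₐ[k] ArSing.ring k 1,
      (φ.symm (σ (φ (ArSing.x k 1))) = ArSing.x k 1 ∧ φ.symm (σ (φ (ArSing.y k 1))) = -ArSing.y k 1) ∨
      (φ.symm (σ (φ (ArSing.x k 1))) = -ArSing.x k 1 ∧ φ.symm (σ (φ (ArSing.y k 1))) = -ArSing.y k 1) ∨
      (φ.symm (σ (φ (ArSing.x k 1))) = ArSing.y k 1 ∧ φ.symm (σ (φ (ArSing.y k 1))) = ArSing.x k 1) := by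
  obtain ⟨φ, ⟨s, rfl | rfl, hx, hy⟩ | ⟨hx, hy⟩ | ⟨-, hx, hy⟩⟩ :=
    Groth.Agent.ArNF.involution_nf (q := 1) (by norm_num : 1 + 1 = 2 * 1) h2 σ hσ hne
  · exact ⟨φ, Or.inl ⟨φ.injective (by simp [hx]), φ.injective (by simp [hy])⟩⟩
  · obtain ⟨θ, tx, ty⟩ := Groth.Agent.ArNF.exists_aut (q := 1) (by norm_num : 1 + 1 = 2 * 1) h2
      (1 : k) (Or.inl rfl) (ArSing.y k 1) (ArSing.x k 1) PowerSeries.X (-PowerSeries.X)
      (by simp) (by simp) (by simp) (by simp) (by simp) (by simp) (by simp) (by simp)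
    refine ⟨θ.trans φ, Or.inl ⟨(θ.trans φ).injective ?_, (θ.trans φ).injective ?_⟩⟩
    · simp [tx, hy]
    · simp [ty, hx]
  · exact ⟨φ, Or.inr (Or.inl ⟨φ.injective (by simp [hx]), φ.injective (by simp [hy])⟩)⟩
  · exact ⟨φ, Or.inr (Or.inr ⟨φ.injective (by simp [hx]), φ.injective (by simp [hy])⟩)⟩

end Groth.Agent.S14083
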