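import Groth.Statements.S14091
import Mathlib.RingTheory.Artinian.Algebra
import Mathlib.RingTheory.PrincipalIdealDomain
import Mathlib.FieldTheory.IsAlgClosed.AlgebraicClosure
import Mathlib

set_option autoImplicit false
set_option linter.style.haveILetI false

universe u
open ArSing

namespace Groth.Agent.S14091

open Polynomial in
/-- Over an algebraically closed field k, a finite local k-algebra B whose cotangent space m/m^2 has
dimension at most one over the residue field is isomorphic, as a k-algebra, to k[t]/(t^n) with n =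
dim_k B (curvilinear pointed algebras of degree n have a single isomorphism class). -/
theorem result (k B : Type u) [Field k] [IsAlgClosed k]
    [CommRing B] [IsLocalRing B] [Algebra k B] [Module.Finite k B]
    (hcurv : Module.finrank (IsLocalRing.ResidueField B) (IsLocalRing.CotangentSpace B) ≤ 1) :
    Nonempty (B ≃ₐ[k] (Polynomial k ⧸ Ideal.span {(X : Polynomial k) ^ Module.finrank k B})) := by
  haveI : IsNoetherianRing B := IsNoetherianRing.of_finite k B
  haveI : IsArtinianRing B := IsArtinianRing.of_finite k B
  haveI : (IsLocalRing.maximalIdeal B).IsPrincipal := IsLocalRing.finrank_cotangentSpace_le_one_iff.mp hcurv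
  obtain ⟨t, ht⟩ := Submodule.IsPrincipal.principal (IsLocalRing.maximalIdeal B)
  rw [Ideal.submodule_span_eq] at ht
  obtain ⟨N, hN⟩ := IsArtinianRing.isNilpotent_jacobson_bot (R := B)
  rw [IsLocalRing.jacobson_eq_maximalIdeal _ bot_ne_top, ht, Ideal.span_singleton_pow,
    Ideal.zero_eq_bot, Ideal.span_singleton_eq_bot] at hN
  haveI : Module.Finite k (IsLocalRing.ResidueField B) :=
    Module.Finite.of_surjective (Algebra.linearMap B (IsLocalRing.ResidueField B) |>.restrictScalars k)
      IsLocalRing.residue_surjective
  have hres : Function.Surjective (algebraMap k (IsLocalRing.ResidueField B)) :=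
    IsAlgClosed.algebraMap_bijective_of_isIntegral.2
  let φ : k[X] →ₐ[k] B := aeval t
  have hdec : ∀ b : B, ∀ i : ℕ, ∃ (f : k[X]) (c : B), b = φ f + t ^ i * c := by
    intro b i
    induction i with
    | zero => exact ⟨0, b, by simp⟩
    | succ i ih =>
      obtain ⟨f, c, rfl⟩ := ih
      obtain ⟨α, hα⟩ := hres (IsLocalRing.residue B c)
      rw [IsScalarTower.algebraMap_apply k B (IsLocalRing.ResidueField B), IsLocalRing.ResidueField.algebraMap_eq] at hα
      have : c - algebraMap k B α ∈ IsLocalRing.maximalIdeal B := by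
        rw [← IsLocalRing.residue_eq_zero_iff, map_sub, hα, sub_self]
      rw [ht, Ideal.mem_span_singleton'] at this
      obtain ⟨d, hd⟩ := this
      refine ⟨f + X ^ i * Polynomial.C α, d, ?_⟩
      simp only [φ, map_add, map_mul, map_pow, aeval_X, aeval_C]
      linear_combination (-(t ^ i)) * hd
  have hsurj : Function.Surjective φ := fun b => by
    obtain ⟨f, c, h⟩ := hdec b N
    exact ⟨f, by rw [h, hN, zero_mul, add_zero]⟩
  obtain ⟨g, hg⟩ := (IsPrincipalIdealRing.principal (RingHom.ker φ)).principal
  rw [Ideal.submodule_span_eq] at hg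
  have hXN : (X : k[X]) ^ N ∈ RingHom.ker φ := by
    rw [RingHom.mem_ker, map_pow]
    simp only [φ, aeval_X, hN]
  rw [hg, Ideal.mem_span_singleton] at hXN
  obtain ⟨j, -, hj⟩ := (dvd_prime_pow Polynomial.prime_X N).mp hXN
  rw [Ideal.span_singleton_eq_span_singleton.mpr hj] at hg
  let e : (k[X] ⧸ Ideal.span {(X : k[X]) ^ j}) ≃ₐ[k] B :=
    (Ideal.quotientEquivAlgOfEq k hg.symm).trans (Ideal.quotientKerAlgEquivOfSurjective hsurj)
  have hjn : Module.finrank k B = j := by
    rw [← e.toLinearEquiv.finrank_eq, finrank_quotient_span_eq_natDegree, Polynomial.natDegree_X_pow]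
  rw [hjn]
  exact ⟨e.symm⟩

end Groth.Agent.S14091
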