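import Groth.Statements.S14087
import Groth.Agent.S14091

set_option autoImplicit false
set_option linter.style.haveILetI false

universe u
open ArSing

namespace Groth.Agent.S14087

open Polynomial in
/-- Over an algebraically closed field k, if B = k[t]/(t^n) with n ≥ 1 is flat over a k-subalgebra A ⊆ B
(a finite flat extension of pointed finite algebras with curvilinear top), then A is curvilinear
too: A is isomorphic as a k-algebra to k[t]/(t^m) for some m. -/
theorem result (k : Type u) [Field k] [IsAlgClosed k]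
    (n : ℕ) (hn : 0 < n)
    (A : Subalgebra k (Polynomial k ⧸ Ideal.span {(X : Polynomial k) ^ n}))
    [Module.Flat A (Polynomial k ⧸ Ideal.span {(X : Polynomial k) ^ n})] :
    ∃ m : ℕ, Nonempty (A ≃ₐ[k] (Polynomial k ⧸ Ideal.span {(X : Polynomial k) ^ m})) := by
  classical
  set B := k[X] ⧸ Ideal.span {(X : k[X]) ^ n} with hB
  set x : B := Ideal.Quotient.mk _ X with hx
  have hxn : x ^ n = 0 := by
    rw [hx, ← map_pow, Ideal.Quotient.eq_zero_iff_mem]
    exact Ideal.subset_span rfl
  haveI : Nontrivial B := by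
    refine Ideal.Quotient.nontrivial_iff.mpr ?_
    rw [ne_eq, Ideal.span_singleton_eq_top, isUnit_pow_iff hn.ne']
    exact Polynomial.not_isUnit_X
  haveI : Module.Finite k B := (Polynomial.monic_X_pow n).finite_quotient
  have hform : ∀ b : B, b ≠ 0 → ∃ (i : ℕ) (v : B), IsUnit v ∧ b = x ^ i * v := by
    intro b hb
    obtain ⟨f, rfl⟩ := Ideal.Quotient.mk_surjective b
    have hf : f ≠ 0 := fun h => hb (by simp [h])
    obtain ⟨g, hfg, hg⟩ := Polynomial.exists_eq_pow_rootMultiplicity_mul_and_not_dvd f hf 0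
    rw [map_zero, sub_zero] at hfg hg
    refine ⟨f.rootMultiplicity 0, Ideal.Quotient.mk _ g, ?_, by conv_lhs => rw [hfg, map_mul, map_pow]⟩
    have hc : g.coeff 0 ≠ 0 := fun h => hg (Polynomial.X_dvd_iff.mpr h)
    rw [← Polynomial.X_mul_divX_add g, map_add, map_mul]
    refine IsNilpotent.isUnit_add_right_of_commute ⟨n, ?_⟩ ?_ (Commute.all _ _)
    · rw [mul_pow, ← hx, hxn, zero_mul]
    · exact ((isUnit_iff_ne_zero.mpr hc).map Polynomial.C).map (Ideal.Quotient.mk _)
  haveI : IsLocalRing B := by
    refine IsLocalRing.of_nonunits_add fun a b ha hb => ?_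
    have hnil : ∀ c : B, c ∈ nonunits B → IsNilpotent c := fun c hc => by
      by_cases h0 : c = 0
      · subst h0; exact IsNilpotent.zero
      obtain ⟨i, v, hv, rfl⟩ := hform c h0
      rcases i with _ | i
      · exact absurd (by simpa using hv) hc
      · exact ⟨n, by rw [mul_pow, ← pow_mul, mul_comm (i + 1), pow_mul, hxn, zero_pow (by omega), zero_mul]⟩
    exact fun h => IsNilpotent.not_isUnit ((Commute.all a b).isNilpotent_add (hnil a ha) (hnil b hb)) h
  haveI : Module.Finite k A := Module.Finite.of_injective A.val.toLinearMap Subtype.val_injective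
  haveI : IsLocalHom A.val.toRingHom := RingHom.IsIntegral.isLocalHom
    (RingHom.Finite.to_isIntegral (Module.Finite.of_restrictScalars_finite k A B : Module.Finite A B))
    Subtype.val_injective
  haveI : IsLocalRing A := IsLocalRing.of_nonunits_add fun a b ha hb h => by
    have h1 : ¬ IsUnit (a : B) := fun h' => ha (IsUnit.of_map A.val.toRingHom a h')
    have h2 : ¬ IsUnit (b : B) := fun h' => hb (IsUnit.of_map A.val.toRingHom b h')
    exact IsLocalRing.nonunits_add h1 h2 (h.map A.val.toRingHom)
  haveI : IsLocalHom (algebraMap A B) := ‹IsLocalHom A.val.toRingHom›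
  haveI hff : Module.FaithfullyFlat A B :=
    @Module.FaithfullyFlat.of_flat_of_isLocalHom A B _ _ _ _ _ ‹Module.Flat A B› _
  have hprin : (IsLocalRing.maximalIdeal A).IsPrincipal := by
    by_cases hex : ∃ i : ℕ, ∃ s ∈ IsLocalRing.maximalIdeal A, ∃ v : B, IsUnit v ∧ (s : B) = x ^ i * v
    · obtain ⟨s, hs, v, hv, hsv⟩ := Nat.find_spec hex
      refine ⟨s, le_antisymm ?_ ((Ideal.span_singleton_le_iff_mem _).mpr hs)⟩
      rw [Ideal.submodule_span_eq, ← Ideal.comap_map_eq_self_of_faithfullyFlat (B := B) (Ideal.span {s}),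
        Ideal.map_span, Set.image_singleton]
      intro y hy
      rw [Ideal.mem_comap, Ideal.mem_span_singleton]
      change (s : B) ∣ (y : B)
      by_cases hy0 : (y : B) = 0
      · rw [hy0]; exact dvd_zero _
      obtain ⟨i, w, hw, hyw⟩ := hform _ hy0
      have hle : Nat.find hex ≤ i := Nat.find_le ⟨y, hy, w, hw, hyw⟩
      rw [hsv, hyw, hv.mul_right_dvd]
      exact (pow_dvd_pow x hle).mul_right w
    · refine ⟨0, le_antisymm (fun y hy => ?_) (by simp)⟩
      by_cases hy0 : (y : B) = 0
      · exact Submodule.mem_span_singleton.mpr ⟨0, Subtype.ext (by simp [hy0])⟩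
      · obtain ⟨i, w, hw, hyw⟩ := hform _ hy0
        exact absurd ⟨i, y, hy, w, hw, hyw⟩ hex
  haveI : IsNoetherianRing A := IsNoetherianRing.of_finite k A
  exact ⟨_, S14091.result k A (IsLocalRing.finrank_cotangentSpace_le_one_iff.mpr hprin)⟩

end Groth.Agent.S14087
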