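import Groth.Statements.S14088
import Mathlib.Tactic

set_option autoImplicit false
set_option linter.style.haveILetI false

universe u
open ArSing

namespace Groth.Agent.S14088

/-- The identity behind the torus-equivariant classes h_i = h_0 + i τ of the coordinate hyperplanes of a
projective space of binary forms, stated in an arbitrary commutative ring: for n ≤ m, (h_0 ⋯
h_(n-1))^2 · h_n ⋯ h_(m-1) equals the sum over s = 0, …, n of (-1)^s s! (n choose s) (m choose s)
τ^s h_0 ⋯ h_(m+n-s-1), where h_i = h + i τ. (The published statement is in the equivariant Chow ring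
of that projective space; only the relations h_i = h_j + (j - i) τ are used, so it holds in any
commutative ring.) -/
theorem result (A : Type u) [CommRing A] (h τ : A) (n m : ℕ) (hnm : n ≤ m) :
    (∏ i ∈ Finset.range n, (h + (i : A) * τ) ^ 2) * ∏ i ∈ Finset.Ico n m, (h + (i : A) * τ) =
      ∑ s ∈ Finset.range (n + 1), (-1 : A) ^ s * (Nat.factorial s : A) * (Nat.choose n s : A) *
        (Nat.choose m s : A) * τ ^ s * ∏ i ∈ Finset.range (m + n - s), (h + (i : A) * τ) := by
  induction n with
  | zero => simp [← Finset.range_eq_Ico]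
  | succ n ih =>
    have hn : n < m := hnm
    specialize ih hn.le
    let H : ℕ → A := fun i => h + (i : A) * τ
    let P : ℕ → A := fun N => ∏ i ∈ Finset.range N, H i
    let c : ℕ → ℕ → A := fun n s => (-1 : A) ^ s * (Nat.factorial s : A) * (Nat.choose n s : A) *
        (Nat.choose m s : A) * τ ^ s
    change (∏ i ∈ Finset.range n, H i ^ 2) * ∏ i ∈ Finset.Ico n m, H i =
      ∑ s ∈ Finset.range (n + 1), c n s * P (m + n - s) at ih
    change (∏ i ∈ Finset.range (n + 1), H i ^ 2) * ∏ i ∈ Finset.Ico (n + 1) m, H i =
      ∑ s ∈ Finset.range (n + 1 + 1), c (n + 1) s * P (m + (n + 1) - s)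
    have hlhs : (∏ i ∈ Finset.range (n + 1), H i ^ 2) * ∏ i ∈ Finset.Ico (n + 1) m, H i =
        H n * ((∏ i ∈ Finset.range n, H i ^ 2) * ∏ i ∈ Finset.Ico n m, H i) := by
      rw [Finset.prod_range_succ, Finset.prod_eq_prod_Ico_succ_bot hn]
      ring
    have hstep : ∀ s ≤ n, H n * P (m + n - s) =
        P (m + n - s + 1) - ((m - s : ℕ) : A) * τ * P (m + n - s) := by
      intro s hs
      simp only [P, Finset.prod_range_succ, H]
      rw [show m + n - s = (m - s) + n by omega]
      push_cast
      ring
    have hc : ∀ s, c (n + 1) (s + 1) = c n (s + 1) - ((m - s : ℕ) : A) * τ * c n s := by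
      intro s
      have h1 : ((m - s : ℕ) : A) * (Nat.choose m s : A) = ((s + 1 : ℕ) : A) * (Nat.choose m (s + 1) : A) := by
        rw [← Nat.cast_mul, ← Nat.cast_mul, mul_comm (s + 1), Nat.choose_succ_right_eq, mul_comm]
      simp only [c, Nat.factorial_succ, Nat.choose_succ_succ, pow_succ]
      push_cast at h1 ⊢
      linear_combination ((-1 : A) ^ s * (Nat.factorial s : A) * (Nat.choose n s : A) * τ ^ s * τ) * h1
    rw [hlhs, ih, Finset.mul_sum, Finset.sum_range_succ' (fun s => c (n + 1) s * P (m + (n + 1) - s))]
    have e1 : ∀ s ∈ Finset.range (n + 1), H n * (c n s * P (m + n - s)) =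
        c n s * P (m + (n + 1) - s) + (-(((m - s : ℕ) : A) * τ * c n s) * P (m + n - s)) := by
      intro s hs
      rw [Finset.mem_range] at hs
      rw [mul_left_comm, hstep s (by omega), show m + n - s + 1 = m + (n + 1) - s by omega]
      ring
    rw [Finset.sum_congr rfl e1, Finset.sum_add_distrib,
      Finset.sum_range_succ' (fun s => c n s * P (m + (n + 1) - s))]
    have e2 : ∀ s ∈ Finset.range (n + 1), c (n + 1) (s + 1) * P (m + (n + 1) - (s + 1)) =
        c n (s + 1) * P (m + (n + 1) - (s + 1)) + (-(((m - s : ℕ) : A) * τ * c n s) * P (m + n - s)) := by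
      intro s hs
      rw [hc, show m + (n + 1) - (s + 1) = m + n - s by omega]
      ring
    rw [Finset.sum_congr rfl e2, Finset.sum_add_distrib,
      Finset.sum_range_succ (fun s => c n (s + 1) * P (m + (n + 1) - (s + 1))) n]
    simp [c]
    ring

end Groth.Agent.S14088
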