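import Groth.Statements.S14089
import Groth.Agent.BlowBC.Scheme

set_option linter.style.haveILetI false
set_option backward.isDefEq.respectTransparency false
-- import your own Groth.Agent.* helpers here

set_option autoImplicit false
universe u
open CategoryTheory AlgebraicGeometry
open BlowUp

namespace Groth.Agent.S14089

open CategoryTheory.Limits in
/-- Let f : X → S be flat, proper and of finite presentation, 𝓘 a quasi-coherent ideal of finite type on
X with V(𝓘^m) flat over S for all m ≥ 1, and b : X' → X a blowing up of X in 𝓘. Then X' is flat and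
proper over S, and blowing up commutes with every base change T → S: if X_T = X ×_S T and X'_T = X'
×_X X_T, the projection X'_T → X_T is a blowing up of X_T in the inverse image of 𝓘. (The published
statement puts no finiteness condition on the ideal; for S = X the spectrum of an infinite product
of fields and 𝓘 the ideal of finitely supported sequences every V(𝓘^m) is flat, yet the blow-up is a
non-quasi-compact open subscheme, not proper — so the ideal is taken of finite type here, and finite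
presentation of X' over S is not asserted.) -/
theorem result {X X' S T XT XT' : Scheme.{u}}
    (f : X ⟶ S) [Flat f] [IsProper f] [LocallyOfFinitePresentation f]
    (𝓘 : X.IdealSheafData) (hft : BlowUp.IsFiniteTypeIdeal 𝓘)
    (hfl : ∀ m : ℕ, 1 ≤ m → Flat ((𝓘 ^ m).subschemeι ≫ f))
    (b : X' ⟶ X) (hb : BlowUp.IsBlowUp b 𝓘)
    (g : T ⟶ S) (pX : XT ⟶ X) (fT : XT ⟶ T) (hX : IsPullback pX fT f g)
    (pX' : XT' ⟶ X') (bT : XT' ⟶ XT) (hX' : IsPullback pX' bT b pX) :
    Flat (b ≫ f) ∧ IsProper (b ≫ f) ∧ BlowUp.IsBlowUp bT (𝓘.comap pX) := by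
  haveI := Groth.Agent.BlowUpExist.isProper_of_isFiniteType hb hft
  refine ⟨Groth.Agent.BlowBC.flat_blowUp f 𝓘 hft (fun n => hfl (n + 1) (Nat.succ_pos n)) b hb, inferInstance,
    Groth.Agent.BlowBC.isBlowUp_baseChange 𝓘 hX'.flip hb fun x => ?_⟩
  obtain ⟨W, hW, hxW, -⟩ := exists_isAffineOpen_mem_and_subset (X := S) (U := ⊤)
    (trivial : f (pX x) ∈ (⊤ : S.Opens))
  obtain ⟨U, hU, hxU, eU⟩ := exists_isAffineOpen_mem_and_subset (X := X) (U := f ⁻¹ᵁ W)
    (show pX x ∈ f ⁻¹ᵁ W from hxW)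
  obtain ⟨W', hW', hxW', eW'⟩ := exists_isAffineOpen_mem_and_subset (X := T) (U := g ⁻¹ᵁ W)
    (show fT x ∈ g ⁻¹ᵁ W by
      show g (fT x) ∈ W
      rw [← Scheme.Hom.comp_apply, ← hX.w, Scheme.Hom.comp_apply]; exact hxW)
  letI : Algebra Γ(S, W) Γ(X, U) := (f.appLE W U eU).hom.toAlgebra
  letI : Algebra Γ(S, W) Γ(T, W') := (g.appLE W W' eW').hom.toAlgebra
  let s₁ : Spec Γ(X, U) ⟶ Spec Γ(S, W) := Spec.map (CommRingCat.ofHom (algebraMap Γ(S, W) Γ(X, U)))
  let s₂ : Spec Γ(T, W') ⟶ Spec Γ(S, W) := Spec.map (CommRingCat.ofHom (algebraMap Γ(S, W) Γ(T, W')))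
  have e₁ : s₁ ≫ hW.fromSpec = hU.fromSpec ≫ f := hW.SpecMap_appLE_fromSpec f hU eU
  have e₂ : s₂ ≫ hW.fromSpec = hW'.fromSpec ≫ g := hW.SpecMap_appLE_fromSpec g hW' eW'
  let N := pullback.map s₁ s₂ f g hU.fromSpec hW'.fromSpec hW.fromSpec e₁ e₂
  let e := (pullbackSpecIso Γ(S, W) Γ(X, U) Γ(T, W')).inv
  obtain ⟨m, a, hI⟩ := Submodule.fg_iff_exists_fin_generating_family.1 (hft ⟨U, hU⟩)
  refine ⟨⟨U, hU⟩, TensorProduct Γ(S, W) Γ(X, U) Γ(T, W'), inferInstance,
    Algebra.TensorProduct.includeLeftRingHom, e ≫ N ≫ hX.isoPullback.inv, m, a, inferInstance, ?_, ?_, hI.symm,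
    fun i h => Groth.Agent.BlowBC.good_of_flat_quot (R := Γ(S, W)) _ _ h fun n => ?_⟩
  · have hN : hX.isoPullback.hom x ∈ Set.range N := by
      rw [Scheme.Pullback.range_map]
      refine ⟨?_, ?_⟩
      · rw [Set.mem_preimage, ← Scheme.Hom.comp_apply, hX.isoPullback_hom_fst]
        exact hU.range_fromSpec.ge hxU
      · rw [Set.mem_preimage, ← Scheme.Hom.comp_apply, hX.isoPullback_hom_snd]
        exact hW'.range_fromSpec.ge hxW'
    obtain ⟨w, hw⟩ := hN
    refine ⟨(pullbackSpecIso Γ(S, W) Γ(X, U) Γ(T, W')).hom w, ?_⟩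
    rw [Scheme.Hom.comp_apply, Scheme.Hom.comp_apply]
    have h1 : e ((pullbackSpecIso Γ(S, W) Γ(X, U) Γ(T, W')).hom w) = w := by
      simp only [e, ← Scheme.Hom.comp_apply, Iso.hom_inv_id]; rfl
    rw [h1, hw, ← Scheme.Hom.comp_apply, Iso.hom_inv_id]
    rfl
  · simp only [Category.assoc, hX.isoPullback_inv_fst]
    simp only [N, pullback.lift_fst, e, s₁, s₂]
    rw [pullbackSpecIso_inv_fst_assoc]
  · haveI := hfl (n + 1) (Nat.succ_pos n)
    have h2 := Groth.Agent.BlowExc.flat_ringHom_of_flat f (𝓘 ^ (n + 1)) ⟨W, hW⟩ ⟨U, hU⟩ eU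
    rw [Scheme.IdealSheafData.ideal_pow] at h2
    exact RingHom.flat_algebraMap_iff.1 h2

end Groth.Agent.S14089
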