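import Groth.Statements.S1409
import Mathlib

set_option autoImplicit false
set_option linter.style.haveILetI false
universe u
open FlatMor

namespace Groth.Agent.S1409
variable {ι : Type u} [Preorder ι] [IsDirected ι (· ≤ ·)] [Nonempty ι] {G : ι → Type u} [∀ i, CommRing (G i)]

theorem exists_ann_pow {R : Type u} [CommRing R] {Q : Ideal R} (hQ : Q ∈ minimalPrimes R) {x : R} (hx : x ∈ Q) :
    ∃ s ∉ Q, ∃ n : ℕ, s * x ^ n = 0 := by
  have := hQ.1.1
  by_contra h
  push Not at h
  have hd : Disjoint ((⊥ : Ideal R) : Set R) ↑(Q.primeCompl ⊔ Submonoid.powers x) := by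
    rw [Set.disjoint_left]
    intro y hy hy'
    obtain ⟨s, hs, z, ⟨n, rfl⟩, rfl⟩ := Submonoid.mem_sup.mp hy'
    exact h s hs n (by simpa using hy)
  obtain ⟨P, hP, -, hPd⟩ := Ideal.exists_le_prime_disjoint ⊥ _ hd
  have hle : P ≤ Q := fun y hy => by
    by_contra hyQ
    exact Set.disjoint_left.mp hPd hy (Submonoid.mem_sup_left hyQ)
  exact Set.disjoint_left.mp hPd (hQ.2 ⟨hP, bot_le⟩ hle hx)
    (Submonoid.mem_sup_right (Submonoid.mem_powers x))

theorem comap_of_mem_minimalPrimes (f : ∀ i j, i ≤ j → G i →+* G j) [DirectedSystem G fun i j h => f i j h]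
    (hgd : ∀ i j (h : i ≤ j), letI := (f i j h).toAlgebra
      Algebra.HasGoingDown (G i) (G j))
    {Q : Ideal (Ring.DirectLimit G fun i j h => ⇑(f i j h))} (hQ : Q ∈ minimalPrimes _) (j : ι) :
    Q.comap (Ring.DirectLimit.of G (fun i j h => ⇑(f i j h)) j) ∈ minimalPrimes (G j) := by
  have := hQ.1.1
  refine ⟨⟨inferInstance, bot_le⟩, ?_⟩
  rintro p ⟨hp, -⟩ hle x hx
  obtain ⟨s, hs, n, hsn⟩ := exists_ann_pow hQ (Ideal.mem_comap.mp hx)
  obtain ⟨i, s, rfl⟩ := Ring.DirectLimit.exists_of s
  obtain ⟨k, hjk, hik⟩ := exists_ge_ge j i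
  rw [← Ring.DirectLimit.of_f (f := fun i j h => ⇑(f i j h)) hik s,
    ← Ring.DirectLimit.of_f (f := fun i j h => ⇑(f i j h)) hjk x, ← map_pow, ← map_mul] at hsn
  obtain ⟨l, hkl, hl⟩ := Ring.DirectLimit.of.zero_exact hsn
  letI := (f j l (hjk.trans hkl)).toAlgebra
  haveI := hgd j l (hjk.trans hkl)
  set Ql := Q.comap (Ring.DirectLimit.of G (fun i j h => ⇑(f i j h)) l) with hQl
  haveI : Ql.LiesOver (Q.comap (Ring.DirectLimit.of G (fun i j h => ⇑(f i j h)) j)) := ⟨by
    ext z
    simp [hQl, Ideal.under, RingHom.algebraMap_toAlgebra]⟩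
  obtain ⟨P, hPQ, hP, hPp⟩ := Ideal.exists_ideal_le_liesOver_of_le (p := p)
    (q := Q.comap (Ring.DirectLimit.of G (fun i j h => ⇑(f i j h)) j)) Ql hle
  rw [map_mul, map_pow, DirectedSystem.map_map' (fun i j h => f i j h) hik hkl s,
    DirectedSystem.map_map' (fun i j h => f i j h) hjk hkl x] at hl
  have h0 : f i l (hik.trans hkl) s * (f j l (hjk.trans hkl) x) ^ n ∈ P := by
    rw [hl]; exact P.zero_mem
  have hsP : f i l (hik.trans hkl) s ∉ P := fun h => hs (by simpa [hQl] using hPQ h)
  have hxP := hP.mem_of_pow_mem n ((hP.mem_or_mem h0).resolve_left hsP)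
  rw [hPp.over]
  exact hxP


/-- Let (R_i) be a directed system of commutative rings whose transition maps are faithfully flat, with
colimit R. Then, counting in the extended natural numbers, the minimal primes of R are exactly as
numerous as the supremum over i of the count of minimal primes of R_i. -/
theorem result {ι : Type u} [Preorder ι] [IsDirected ι (· ≤ ·)] [Nonempty ι] (G : ι → Type u) [∀ i, CommRing (G i)]
    (f : ∀ i j, i ≤ j → G i →+* G j) [DirectedSystem G fun i j h => f i j h]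
    (hf : ∀ i j (h : i ≤ j), letI := (f i j h).toAlgebra
      Module.FaithfullyFlat (G i) (G j)) :
    (minimalPrimes (Ring.DirectLimit G fun i j h => ⇑(f i j h))).encard = ⨆ i, (minimalPrimes (G i)).encard := by
  let R := Ring.DirectLimit G fun i j h => ⇑(f i j h)
  let o : ∀ i, G i →+* R := fun i => Ring.DirectLimit.of G (fun i j h => ⇑(f i j h)) i
  have hgd : ∀ i j (h : i ≤ j), letI := (f i j h).toAlgebra
      Algebra.HasGoingDown (G i) (G j) := by
    intro i j h
    letI := (f i j h).toAlgebra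
    haveI := hf i j h
    infer_instance
  have hinj : ∀ i j (h : i ≤ j), Function.Injective (f i j h) := by
    intro i j h
    letI := (f i j h).toAlgebra
    haveI := hf i j h
    exact FaithfulSMul.algebraMap_injective (G i) (G j)
  have hoi : ∀ i, Function.Injective (o i) := Ring.DirectLimit.of_injective f hinj
  have hsurj : ∀ i, minimalPrimes (G i) ⊆ Ideal.comap (o i) '' minimalPrimes R := by
    intro i p hp
    obtain ⟨q, hq, hqe⟩ := Ideal.exists_minimalPrimes_comap_eq (I := (⊥ : Ideal R)) (o i) p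
      (by rw [Ideal.comap_bot_of_injective _ (hoi i)]; exact hp)
    exact ⟨q, hq, hqe⟩
  have hmaps : ∀ i, Set.MapsTo (Ideal.comap (o i)) (minimalPrimes R) (minimalPrimes (G i)) :=
    fun i Q hQ => comap_of_mem_minimalPrimes f hgd hQ i
  refine le_antisymm ?_ (iSup_le fun i => (Set.encard_le_encard (hsurj i)).trans (Set.encard_image_le _ _))
  by_cases htop : (⨆ i, (minimalPrimes (G i)).encard) = ⊤
  · rw [htop]; exact le_top
  obtain ⟨i0, hi0⟩ := ENat.exists_eq_iSup_of_lt_top (lt_top_iff_ne_top.mpr htop)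
  rw [← hi0]
  refine Set.encard_le_encard_of_injOn (hmaps i0) ?_
  intro Q hQ Q' hQ' he
  have key : ∀ i, Q.comap (o i) = Q'.comap (o i) := by
    intro i
    obtain ⟨j, hi0j, hij⟩ := exists_ge_ge i0 i
    have hcomp : ∀ {a b : ι} (hab : a ≤ b) (P : Ideal R),
        (P.comap (o b)).comap (f a b hab) = P.comap (o a) := by
      intro a b hab P
      rw [Ideal.comap_comap]
      congr 1
      exact RingHom.ext fun x => Ring.DirectLimit.of_f (f := fun i j h => ⇑(f i j h)) hab x
    have himg : minimalPrimes (G i0) ⊆ Ideal.comap (f i0 j hi0j) '' minimalPrimes (G j) := by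
      intro p hp
      obtain ⟨q, hq, hqe⟩ := hsurj i0 hp
      exact ⟨q.comap (o j), hmaps j hq, by rw [hcomp, hqe]⟩
    have hle : (minimalPrimes (G j)).encard ≤ (minimalPrimes (G i0)).encard :=
      hi0 ▸ le_iSup (fun k => (minimalPrimes (G k)).encard) j
    have hfin : (minimalPrimes (G j)).Finite :=
      Set.finite_of_encard_le_coe (k := ((minimalPrimes (G i0)).encard).toNat)
        (by rw [ENat.coe_toNat (hi0 ▸ htop)]; exact hle)
    have hinjOn : Set.InjOn (Ideal.comap (f i0 j hi0j)) (minimalPrimes (G j)) :=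
      hfin.injOn_of_encard_image_eq
        (le_antisymm (Set.encard_image_le _ _) (hle.trans (Set.encard_le_encard himg)))
    have := hinjOn (hmaps j hQ) (hmaps j hQ') (by rw [hcomp, hcomp]; exact he)
    rw [← hcomp hij Q, ← hcomp hij Q', this]
  ext x
  obtain ⟨i, x, rfl⟩ := Ring.DirectLimit.exists_of x
  exact SetLike.ext_iff.mp (key i) x

end Groth.Agent.S1409
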