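import Groth.Statements.S14090
import Groth.Agent.BlowUpExist.Affine

set_option autoImplicit false
set_option backward.isDefEq.respectTransparency false
set_option linter.style.haveILetI false
universe u
open CategoryTheory AlgebraicGeometry
open BlowUp

namespace Groth.Agent.S14090

open Groth.Agent Limits

theorem lift_alg (A B : Type u) [CommRing A] [CommRing B] [Algebra A B]
    (hinj : Function.Injective (algebraMap A B)) (I : Ideal A)
    (hIB : (Ideal.map (algebraMap A B) I : Set B) ⊆ algebraMap A B '' (I : Set A))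
    (f : B) (hf : f ∈ nonZeroDivisors B) (hgen : Ideal.map (algebraMap A B) I = Ideal.span {f})
    {R : Type u} [CommRing R] (ψ : A →+* R) (u : R) (hu : u ∈ nonZeroDivisors R) (hI : I.map ψ = Ideal.span {u}) :
    ∃! χ : B →+* R, χ.comp (algebraMap A B) = ψ := by
  have hfmem : f ∈ Ideal.map (algebraMap A B) I := by rw [hgen]; exact Ideal.mem_span_singleton_self f
  obtain ⟨i0, hi0, hi0f⟩ := hIB hfmem
  choose σ hσI hσ using fun b : B => hIB (Ideal.mul_mem_left _ b hfmem)
  have hsq : I * I ≤ Ideal.span {i0} * I := by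
    refine Ideal.mul_le.mpr fun a ha a' ha' => ?_
    obtain ⟨b, hb⟩ := Ideal.mem_span_singleton'.mp (hgen ▸ Ideal.mem_map_of_mem (algebraMap A B) ha)
    have : b * algebraMap A B a' ∈ Ideal.map (algebraMap A B) I := Ideal.mul_mem_left _ _ (Ideal.mem_map_of_mem _ ha')
    obtain ⟨a'', ha'', hb''⟩ := hIB this
    rw [show a * a' = i0 * a'' from hinj (by rw [map_mul, map_mul, hb'', hi0f, ← hb]; ring)]
    exact Ideal.mul_mem_mul (Ideal.mem_span_singleton_self _) ha''
  have h2 := Ideal.map_mono (f := ψ) hsq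
  rw [Ideal.map_mul, Ideal.map_mul, hI, Ideal.map_span, Set.image_singleton, Ideal.span_singleton_mul_span_singleton,
    Ideal.span_singleton_mul_span_singleton, Ideal.span_singleton_le_span_singleton] at h2
  obtain ⟨w, hw⟩ := h2
  have huw : u = ψ i0 * w := (mul_cancel_right_mem_nonZeroDivisors hu).mp (hw.trans (by ring))
  obtain ⟨v, hv⟩ := Ideal.mem_span_singleton'.mp (hI ▸ Ideal.mem_map_of_mem ψ hi0)
  have hvw : v * w = 1 := (mul_cancel_right_mem_nonZeroDivisors hu).mp (by rw [one_mul]; linear_combination w * hv - huw)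
  have ht : ψ i0 ∈ nonZeroDivisors R := by
    rw [← hv]
    exact mul_mem (IsUnit.of_mul_eq_one _ hvw).mem_nonZeroDivisors hu
  have hdiv : ∀ b, ∃ c, c * ψ i0 = ψ (σ b) := by
    intro b
    obtain ⟨e, he⟩ := Ideal.mem_span_singleton'.mp (hI ▸ Ideal.mem_map_of_mem ψ (hσI b))
    exact ⟨e * w, by linear_combination he - e * huw⟩
  choose c hc using hdiv
  have canc : ∀ {x y : R}, x * ψ i0 = y * ψ i0 → x = y := fun h => (mul_cancel_right_mem_nonZeroDivisors ht).mp h
  have σA : ∀ x, σ (algebraMap A B x) = x * i0 := fun x => hinj (by rw [hσ, map_mul, hi0f])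
  let χ : B →+* R :=
    { toFun := c
      map_one' := canc (by
        rw [hc, one_mul, show σ 1 = i0 from hinj (by rw [hσ, one_mul, hi0f])])
      map_zero' := canc (by
        rw [hc, zero_mul, show σ 0 = 0 from hinj (by rw [hσ, zero_mul, map_zero]), map_zero])
      map_add' := fun x y => canc (by
        rw [hc, add_mul, hc, hc, ← map_add, show σ (x + y) = σ x + σ y from hinj (by rw [hσ, map_add, hσ, hσ, add_mul])])
      map_mul' := fun x y => canc (canc (by
        rw [hc, mul_assoc (c x), mul_comm (c y), ← mul_assoc (c x), hc, mul_assoc, hc, ← map_mul, ← map_mul,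
          show σ (x * y) * i0 = σ x * σ y from hinj (by rw [map_mul, map_mul, hσ, hσ, hσ, hi0f]; ring)])) }
  refine ⟨χ, RingHom.ext fun x => canc ?_, fun χ' hχ' => RingHom.ext fun b => canc ?_⟩
  · show c (algebraMap A B x) * ψ i0 = _
    rw [hc, σA, map_mul]
  · show χ' b * ψ i0 = c b * ψ i0
    rw [hc, ← hχ', RingHom.comp_apply, RingHom.comp_apply, ← map_mul, hi0f, hσ]

/-- Let A → B be an injective ring homomorphism and I an ideal of A such that the ideal I·B of B is
contained in the image of I (so I is an ideal of B as well) and I·B is generated by one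
nonzerodivisor of B (I is free of rank one over B). Then Spec B → Spec A is a blowing up of Spec A
in I. (This is the affine statement behind recovering a pair (X̃, D̃), D̃ an effective Cartier
divisor finite flat over D, as the blow-up of the pushout X̃ ⨿_D̃ D along D.) -/
theorem result (A B : Type u) [CommRing A] [CommRing B] [Algebra A B]
    (hinj : Function.Injective (algebraMap A B)) (I : Ideal A)
    (hIB : (Ideal.map (algebraMap A B) I : Set B) ⊆ algebraMap A B '' (I : Set A))
    (f : B) (hf : f ∈ nonZeroDivisors B) (hgen : Ideal.map (algebraMap A B) I = Ideal.span {f}) :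
    BlowUp.IsBlowUp (Spec.map (CommRingCat.ofHom (algebraMap A B))) (Curv2.idealSheaf A I) := by
  change BlowUp.IsBlowUp _ (BlowUpExist.sheafOf I)
  refine ⟨BlowUpExist.cartier_specMap I _ f hf hgen, fun W g hg => ?_⟩
  obtain ⟨i0, hi0, hi0f⟩ := hIB (show f ∈ Ideal.map (algebraMap A B) I by rw [hgen]; exact Ideal.mem_span_singleton_self f)
  have hσ : ∀ b : B, ∃ a ∈ I, algebraMap A B a = b * f := fun b =>
    hIB (Ideal.mul_mem_left _ _ (show f ∈ Ideal.map (algebraMap A B) I by rw [hgen]; exact Ideal.mem_span_singleton_self f))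
  have key : ∀ {R : Type u} [CommRing R] (ψ : A →+* R) (u : R), u ∈ nonZeroDivisors R → I.map ψ = Ideal.span {u} →
      ∃! χ : B →+* R, χ.comp (algebraMap A B) = ψ := fun ψ u hu hI => lift_alg A B hinj I hIB f hf hgen ψ u hu hI
  let 𝒰 := BlowUpExist.goodCover I g hg
  let c : ∀ _ : W, _ := fun w => (BlowUpExist.exists_goodChart I g hg w).choose
  have uniqU : ∀ w (h h' : Spec (CommRingCat.of (c w).R) ⟶ Spec (CommRingCat.of B)),
      h ≫ Spec.map (CommRingCat.ofHom (algebraMap A B)) = (c w).j ≫ g →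
      h' ≫ Spec.map (CommRingCat.ofHom (algebraMap A B)) = (c w).j ≫ g → h = h' := by
    intro w h h' e e'
    obtain ⟨x, rfl⟩ := Spec.map_surjective h
    obtain ⟨x', rfl⟩ := Spec.map_surjective h'
    rw [(c w).comp, ← Spec.map_comp] at e e'
    have h1 := congrArg CommRingCat.Hom.hom (Spec.map_injective e)
    have h2 := congrArg CommRingCat.Hom.hom (Spec.map_injective e')
    exact congrArg Spec.map (CommRingCat.hom_ext ((key (c w).ψ _ (c w).hnzd (c w).hgen).unique h1 h2))
  have hex : ∀ w, ∃ h : Spec (CommRingCat.of (c w).R) ⟶ Spec (CommRingCat.of B),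
      h ≫ Spec.map (CommRingCat.ofHom (algebraMap A B)) = (c w).j ≫ g := by
    intro w
    obtain ⟨χ, hχ, -⟩ := key (c w).ψ _ (c w).hnzd (c w).hgen
    refine ⟨Spec.map (CommRingCat.ofHom χ), ?_⟩
    rw [← Spec.map_comp, (c w).comp, ← CommRingCat.ofHom_comp, hχ]
  have uniq : ∀ (V : Scheme.{u}) (k : V ⟶ Spec (CommRingCat.of A)), BlowUp.IsEffCartierIdeal ((BlowUpExist.sheafOf I).comap k) →
      ∀ h h' : V ⟶ Spec (CommRingCat.of B), h ≫ Spec.map (CommRingCat.ofHom (algebraMap A B)) = k →
      h' ≫ Spec.map (CommRingCat.ofHom (algebraMap A B)) = k → h = h' := by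
    intro V k hk h h' e e'
    refine (BlowUpExist.goodCover I k hk).hom_ext _ _ fun v => ?_
    let cv := (BlowUpExist.exists_goodChart I k hk v).choose
    show cv.j ≫ h = cv.j ≫ h'
    obtain ⟨x, hx⟩ := Spec.map_surjective (cv.j ≫ h)
    obtain ⟨x', hx'⟩ := Spec.map_surjective (cv.j ≫ h')
    have e1 : Spec.map x ≫ Spec.map (CommRingCat.ofHom (algebraMap A B)) = Spec.map (CommRingCat.ofHom cv.ψ) := by
      rw [hx, Category.assoc, e, cv.comp]
    have e2 : Spec.map x' ≫ Spec.map (CommRingCat.ofHom (algebraMap A B)) = Spec.map (CommRingCat.ofHom cv.ψ) := by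
      rw [hx', Category.assoc, e', cv.comp]
    rw [← Spec.map_comp] at e1 e2
    have h1 := congrArg CommRingCat.Hom.hom (Spec.map_injective e1)
    have h2 := congrArg CommRingCat.Hom.hom (Spec.map_injective e2)
    rw [← hx, ← hx', CommRingCat.hom_ext ((key cv.ψ _ cv.hnzd cv.hgen).unique h1 h2)]
  choose l hl using hex
  refine ⟨𝒰.glueMorphisms l fun i k => ?_, 𝒰.hom_ext _ _ fun i => ?_, fun h hh => ?_⟩
  · refine uniq _ (pullback.fst (𝒰.f i) (𝒰.f k) ≫ 𝒰.f i ≫ g) ?_ _ _ ?_ ?_
    · rw [Scheme.IdealSheafData.comap_comp, Scheme.IdealSheafData.comap_comp]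
      exact BlowUpLib.cartier_comap_flat (BlowUpLib.cartier_comap_flat hg _) _
    · rw [Category.assoc]; exact congrArg _ (hl i)
    · rw [Category.assoc, pullback.condition_assoc]; exact congrArg _ (hl k)
  · rw [Scheme.Cover.ι_glueMorphisms_assoc]; exact hl i
  · refine 𝒰.hom_ext _ _ fun i => ?_
    rw [Scheme.Cover.ι_glueMorphisms]
    exact uniqU i _ _ (by rw [Category.assoc, hh]; rfl) (hl i)

end Groth.Agent.S14090
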