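import Groth.Statements.S1606
import Groth.Agent.DualGeneric.SubG
import Groth.Agent.CurveRR.GlobGen
-- import your own Groth.Agent.* helpers here

set_option autoImplicit false
set_option backward.isDefEq.respectTransparency false
set_option backward.isDefEq.respectTransparency.types false
set_option maxHeartbeats 1000000
universe u
open CategoryTheory CategoryTheory.Limits AlgebraicGeometry
open Curves

namespace Groth.Agent.S1606

/-- Let X be proper over k, reduced, connected, of dimension one, and L an invertible module whose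
restriction to each reduced connected one-dimensional closed subscheme Y of X has degree at least
twice the k-dimension of H^1(Y, O_Y). Then L is globally generated. -/
theorem result (k : Type u) [Field k] (X : Scheme.{u}) [X.Over (Spec (CommRingCat.of k))] [IsProper (X ↘ (Spec (CommRingCat.of k)))] [IsReduced X] [ConnectedSpace X]
    (hdim : topologicalKrullDim X = 1) (L : X.Modules) (hL : PicF.IsInvertible L)
    (h : ∀ J : X.IdealSheafData, IsReduced J.subscheme → ConnectedSpace J.subscheme → topologicalKrullDim J.subscheme = 1 →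
      2 * (@Curv2.genus k _ J.subscheme ⟨J.subschemeι ≫ (X ↘ (Spec (CommRingCat.of k)))⟩ : ℤ) ≤
        @Curv2.deg k _ J.subscheme ⟨J.subschemeι ≫ (X ↘ (Spec (CommRingCat.of k)))⟩ ((Scheme.Modules.pullback J.subschemeι).obj L) 1) :
    Curv2.IsGloballyGenerated L := by
  classical
  haveI := CurveRR.isNoetherian_of_proper k X
  refine CurveRR.isGloballyGenerated_of_closed hL fun P hP => ?_
  by_contra! hno
  let Z := Scheme.IdealSheafData.vanishingIdeal (⟨{P}, hP⟩ : TopologicalSpace.Closeds X)
  obtain ⟨S, hS, hcl, hcomp⟩ := DualGeneric.Sub.exists_gens k (X := X)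
  have hsupp : (Z.support : Set X) = {P} := by simp [Z]
  have hZ : topologicalKrullDim (Z.support : Set X) ≤ 0 := CurveRR.point_dim hP
  let d := CurveRR.h k (ClSub.quotMod Z) 0
  have hd : 0 < d := CurveRR.h0_quotMod_pos Z (by rw [hsupp]; exact ⟨P, rfl⟩)
  have hin : ∀ D : TopologicalSpace.Closeds X, P ∈ (D : Set X) → Z ⊔ DualGeneric.Sub.vI D = Z := fun D hPD =>
    sup_eq_left.2 (Scheme.IdealSheafData.vanishingIdeal_antimono
      (T := D) (Set.singleton_subset_iff.2 hPD))
  have hout : ∀ D : TopologicalSpace.Closeds X, P ∉ (D : Set X) →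
      CurveRR.h k (ClSub.quotMod (Z ⊔ DualGeneric.Sub.vI D)) 0 = 0 := fun D hPD => by
    have h1 : Z ⊔ DualGeneric.Sub.vI D = ⊤ ⊔ DualGeneric.Sub.vI D := by
      rw [top_sup_eq, ← Scheme.IdealSheafData.support_eq_bot_iff, Scheme.IdealSheafData.support_sup]
      refine TopologicalSpace.Closeds.ext (Set.eq_empty_of_forall_notMem fun x hx => hPD ?_)
      obtain ⟨h1, h2⟩ := hx
      rw [SetLike.mem_coe, ← SetLike.mem_coe, Scheme.IdealSheafData.coe_support_vanishingIdeal] at h2
      rw [hsupp] at h1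
      obtain rfl : x = P := h1
      exact h2
    rw [h1]
    exact DualGeneric.Sub.h0_quot_top k D
  have hdg : ∀ T : Finset X, T ⊆ S → T.Nonempty → _root_.IsConnected (DualGeneric.Sub.clo T : Set X) →
      2 * (CurveRR.h k (DualGeneric.Sub.A (DualGeneric.Sub.clo T)) 1 : ℤ) ≤ DualGeneric.Sub.degC k L T ∧
        0 < CurveRR.h k (DualGeneric.Sub.A (DualGeneric.Sub.clo T)) 0 := by
    intro T hTS hT hc
    letI : (DualGeneric.Sub.vI (DualGeneric.Sub.clo T)).subscheme.Over (Spec (CommRingCat.of k)) :=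
      ⟨(DualGeneric.Sub.vI (DualGeneric.Sub.clo T)).subschemeι ≫ (X ↘ Spec (CommRingCat.of k))⟩
    refine ⟨?_, DualGeneric.Sub.h0A_pos k hT⟩
    haveI := DualGeneric.Sub.connected_subscheme _ hc
    have hh := h (DualGeneric.Sub.vI (DualGeneric.Sub.clo T)) (DvrDom.isReduced_vanishingIdeal_subscheme _) ‹_›
      (DualGeneric.Sub.dim_sub k hdim hT fun ξ hξ => hcomp ξ (hTS hξ))
    rw [DualGeneric.Sub.genus_sub k] at hh
    exact hh
  have hlt := DualGeneric.Sub.h1G_lt (d := d) k Z hL hdg hdim.le hZ hd ?_ ?_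
  rotate_left
  · intro D
    by_cases hPD : P ∈ (D : Set X)
    · exact Or.inr (by rw [hin D hPD])
    · exact Or.inl (hout D hPD)
  · intro D₁ D₂ hdis
    by_cases hPD : P ∈ (D₁ : Set X)
    · exact Or.inr (hout D₂ (hdis P hPD))
    · exact Or.inl (hout D₁ hPD)
  obtain ⟨e⟩ := DualGeneric.Sub.nonempty_iso_G Z hL hcl
  obtain ⟨e'⟩ := DualGeneric.Sub.nonempty_iso_M hL hcl
  have h1 := hlt S hS subset_rfl
  rw [← CurveRR.h_eq_of_iso e 1] at h1
  have he := CurveRR.euler_ideal_tensor (k := k) hL Z hZ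
  rw [CurveRR.euler_eq hdim.le, CurveRR.euler_eq hdim.le] at he
  haveI := CurveRR.mono_idealIncl hL Z
  haveI := CohFinite.finite_proper k X _ (CurveRR.isCoh_tensor' (CurveRR.isCoh_idealMod Z).1 (CurveRR.isCoh_of_inv hL)) 0
  have hle : CurveRR.h k L 0 ≤ CurveRR.h k (CohB1.tensorMod (ClSub.idealMod Z) L) 0 := by
    have hs : Function.Surjective (CohFinite.hhMap k (CurveRR.idealIncl Z L) 0) :=
      (CurveRR.surjective_hh0_iff (CurveRR.idealIncl Z L)).2 fun t =>
        CurveRR.mem_range_idealIncl hL ⟨{P}, hP⟩ t fun z hz => by rw [Set.mem_singleton_iff.mp hz]; exact hno t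
    exact LinearMap.finrank_le_finrank_of_surjective hs
  have hL0 : CurveRR.h k L 1 = 0 := by
    rw [CurveRR.h_eq_of_iso e' 1]
    exact DualGeneric.Sub.h1M_eq_zero k hL hdg hdim.le S hS subset_rfl
  omega


end Groth.Agent.S1606
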