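import Groth.Statements.S14092
import Groth.Agent.DualGeneric.SubG
import Groth.Agent.S1606
import Groth.Agent.DualGeneric.SubNef
-- import your own Groth.Agent.* helpers here

set_option autoImplicit false
set_option backward.isDefEq.respectTransparency false
set_option backward.isDefEq.respectTransparency.types false
set_option maxHeartbeats 1000000
universe u
open CategoryTheory CategoryTheory.Limits AlgebraicGeometry TopologicalSpace
open Curv2

namespace Groth.Agent.S14092

/-- Fix an algebraically closed field k and a genus-0 nodal curve Z over k (connected, reduced, proper,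
one-dimensional, at-worst-nodal singularities, h^1(O_Z) = 0) and L an invertible O_Z-module whose
pullback to every irreducible component (integral closed subscheme of dimension one) has
non-negative degree. Then L is generated by global sections and H^1(Z, L) = 0. (The published
statement also includes converse and weaker implications — a section vanishing identically on no
component forces non-negative degrees, and global generation is equivalent to non-negative degrees;
only the two implications from non-negative degrees are asserted here.) -/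
theorem result (k : Type u) [Field k] [IsAlgClosed k]
    (Z : Scheme.{u}) [Z.Over (Spec (CommRingCat.of k))] [IsProper (Z ↘ (Spec (CommRingCat.of k)))] [IsReduced Z]
    [ConnectedSpace Z] (hdim : topologicalKrullDim Z = 1) (hnod : Curv2.AtWorstNodal k Z)
    (hg : Curv2.genus k Z = 0) (L : Z.Modules) (hL : PicF.IsInvertible L)
    (hdeg : ∀ C : Z.IdealSheafData, IsIntegral C.subscheme → topologicalKrullDim (C.support : Set Z) = 1 →
      0 ≤ @Curv2.deg k _ C.subscheme ⟨C.subschemeι ≫ (Z ↘ Spec (CommRingCat.of k))⟩
        ((Scheme.Modules.pullback C.subschemeι).obj L) 1) :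
    Curv2.IsGloballyGenerated L ∧ Subsingleton (Coh.HH Z L 1) := by
  classical
  haveI := CurveRR.isNoetherian_of_proper k Z
  have key : ∀ J : Z.IdealSheafData, AlgebraicGeometry.IsReduced J.subscheme → ConnectedSpace J.subscheme →
      topologicalKrullDim J.subscheme = 1 →
      2 * (@Curv2.genus k _ J.subscheme ⟨J.subschemeι ≫ (Z ↘ (Spec (CommRingCat.of k)))⟩ : ℤ) ≤
        @Curv2.deg k _ J.subscheme ⟨J.subschemeι ≫ (Z ↘ (Spec (CommRingCat.of k)))⟩ ((Scheme.Modules.pullback J.subschemeι).obj L) 1 := by
    intro J _ _ hJ
    letI : J.subscheme.Over (Spec (CommRingCat.of k)) := ⟨J.subschemeι ≫ (Z ↘ (Spec (CommRingCat.of k)))⟩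
    haveI : IsProper (J.subscheme ↘ Spec (CommRingCat.of k)) :=
      inferInstanceAs (IsProper (J.subschemeι ≫ (Z ↘ (Spec (CommRingCat.of k)))))
    have hg0 : Curv2.genus k J.subscheme = 0 := by
      have hs := CurveRR.surjective_h1 (k := k) hdim.le (CurveRR.ideal_shortExact J)
      haveI := CohFinite.finite_proper k Z _ (CurveRR.isCoh_of_inv (TMul.isInvertible_structureModule (X := Z))) 1
      have hle := LinearMap.finrank_le_finrank_of_surjective hs
      have hq : Curv2.genus k J.subscheme = Module.finrank k (Coh.HH Z (ClSub.quotMod J) 1) := by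
        haveI : (Coh.structureModule J.subscheme).IsQuasicoherent := Groth.Agent.QC.isQCoh_unit _
        obtain ⟨e⟩ := CohFinite.hh_push_linear k J.subschemeι rfl (Coh.structureModule J.subscheme)
          (CohQC.directAcyclic_of_isAffineHom _ _) 1
        exact e.finrank_eq
      have : Module.finrank k (Coh.HH Z (Coh.structureModule Z) 1) = 0 := hg
      dsimp only at hle
      change Module.finrank k (Coh.HH Z (ClSub.quotMod J) 1) ≤ _ at hle
      omega
    rw [hg0, Nat.cast_zero, mul_zero]
    exact DualGeneric.Sub.deg_nonneg_of_nef k hL hdeg J hJ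
  refine ⟨Groth.Agent.S1606.result k Z hdim L hL key, ?_⟩
  obtain ⟨S, hS, hcl, hcomp⟩ := DualGeneric.Sub.exists_gens k (X := Z)
  obtain ⟨e⟩ := DualGeneric.Sub.nonempty_iso_M hL hcl
  haveI := CohFinite.finite_proper k Z _ (CurveRR.isCoh_of_inv hL) 1
  refine Module.finrank_zero_iff.1 (show CurveRR.h k L 1 = 0 from ?_)
  rw [CurveRR.h_eq_of_iso e 1]
  refine DualGeneric.Sub.h1M_eq_zero k hL (S₀ := S) (fun T hTS hT hc => ?_) hdim.le S hS subset_rfl
  refine ⟨?_, DualGeneric.Sub.h0A_pos k hT⟩
  have hh := key (DualGeneric.Sub.vI (DualGeneric.Sub.clo T)) (DvrDom.isReduced_vanishingIdeal_subscheme _)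
    (DualGeneric.Sub.connected_subscheme _ hc) (DualGeneric.Sub.dim_sub k hdim hT fun ξ hξ => hcomp ξ (hTS hξ))
  rw [DualGeneric.Sub.genus_sub k] at hh
  exact hh


end Groth.Agent.S14092
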