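import Groth.Statements.S1410
import Groth.Agent.TopH1.Surj
import Groth.Agent.TwistOverVan.Basic
-- import your own Groth.Agent.* helpers here

set_option autoImplicit false
universe u
open FlatMor

set_option linter.style.haveILetI false
set_option backward.isDefEq.respectTransparency false
set_option backward.isDefEq.respectTransparency.types false
set_option maxHeartbeats 1000000

namespace Groth.Agent.S1410

open AlgebraicGeometry CategoryTheory Limits in
theorem surjective_app_of_le {X Y : Scheme.{u}} (f : X ⟶ Y) [IsProper f]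
    (hdim : ∀ y : Y, topologicalKrullDim ↑(f.fiber y) ≤ 1) (hH1 : ∀ y : Y, Subsingleton (Coh.HH (f.fiber y) (Coh.structureModule (f.fiber y)) 1))
    {V : Y.Opens} (hV : IsAffineOpen V) (hsurj : Function.Surjective (f.app V))
    {X' Y' : Scheme.{u}} {f' : X' ⟶ Y'} {g' : X' ⟶ X} {g : Y' ⟶ Y} (hc : IsPullback g' f' f g)
    {U : Y'.Opens} (hU : IsAffineOpen U) (hle : U ≤ g ⁻¹ᵁ V) : Function.Surjective (f'.app U) := by
  let W := f' ⁻¹ᵁ U
  let r : U.toScheme ⟶ V.toScheme := g.resLE V U hle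
  have big : IsPullback (W.ι ≫ g') (f' ∣_ U) f (r ≫ V.ι) := by
    rw [g.resLE_comp_ι hle]
    exact (isPullback_morphismRestrict f' U).flip.paste_horiz hc
  have hXV := (isPullback_morphismRestrict f V).flip
  let j : W.toScheme ⟶ (f ⁻¹ᵁ V).toScheme := hXV.lift (W.ι ≫ g') ((f' ∣_ U) ≫ r) (by rw [Category.assoc]; exact big.w)
  have hj : j ≫ (f ⁻¹ᵁ V).ι = W.ι ≫ g' := hXV.lift_fst _ _ _
  have sq₀ : IsPullback j (f' ∣_ U) (f ∣_ V) r := IsPullback.of_right (hj ▸ big) (hXV.lift_snd _ _ _) hXV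
  letI : (f ⁻¹ᵁ V).toScheme.Over (Spec (CommRingCat.of Γ(Y, V))) := ⟨(f ∣_ V) ≫ hV.isoSpec.hom⟩
  letI : W.toScheme.Over (Spec (CommRingCat.of Γ(Y', U))) := ⟨(f' ∣_ U) ≫ hU.isoSpec.hom⟩
  haveI : IsProper ((f ⁻¹ᵁ V).toScheme ↘ Spec (CommRingCat.of Γ(Y, V))) :=
    inferInstanceAs (IsProper ((f ∣_ V) ≫ hV.isoSpec.hom))
  let φ := hU.isoSpec.inv ≫ r ≫ hV.isoSpec.hom
  letI : Algebra Γ(Y, V) Γ(Y', U) := (Spec.preimage φ).hom.toAlgebra
  have hφ : Spec.map (CommRingCat.ofHom (algebraMap Γ(Y, V) Γ(Y', U))) = φ := Spec.map_preimage φ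
  have sq : IsPullback j (W.toScheme ↘ Spec (CommRingCat.of Γ(Y', U)))
      ((f ⁻¹ᵁ V).toScheme ↘ Spec (CommRingCat.of Γ(Y, V)))
      (Spec.map (CommRingCat.ofHom (algebraMap Γ(Y, V) Γ(Y', U)))) := by
    rw [hφ]
    exact sq₀.of_iso (Iso.refl _) (Iso.refl _) hU.isoSpec hV.isoSpec
      ((Category.comp_id _).trans (Category.id_comp _).symm) (Category.id_comp _).symm (Category.id_comp _).symm
      (by simp [φ])
  have hd : ∀ b, topologicalKrullDim ↥(((f ⁻¹ᵁ V).toScheme ↘ Spec (CommRingCat.of Γ(Y, V))).fiber b) ≤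
      ((1 : ℕ) : WithBot ℕ∞) := fun b => by
    have hW : IsPullback (f ⁻¹ᵁ V).ι ((f ⁻¹ᵁ V).toScheme ↘ Spec (CommRingCat.of Γ(Y, V))) f hV.fromSpec :=
      IsPullback.of_iso hXV (Iso.refl _) (Iso.refl _) hV.isoSpec (Iso.refl _)
        ((Category.comp_id _).trans (Category.id_comp _).symm) ((Category.id_comp _).symm) (by simp) (by simp)
    rw [Groth.Agent.DimField.dim_fiber_eq_of_isPullback hW b]
    exact hdim _
  have hvan : ∀ M : (f ⁻¹ᵁ V).toScheme.Modules, Coh.IsQCoh M → Subsingleton (Coh.HH (f ⁻¹ᵁ V).toScheme M 2) :=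
    fun M hM => Groth.Agent.FibVan.subsingleton_hh_affine
      ((f ⁻¹ᵁ V).toScheme ↘ Spec (CommRingCat.of Γ(Y, V))) 1 hd M hM 2 (by norm_num)
  have h : Subsingleton (Coh.HH (f ⁻¹ᵁ V).toScheme (Coh.structureModule (f ⁻¹ᵁ V).toScheme) 1) := by
    refine Groth.Agent.TopH1.subsingleton_hh_unit (f ∣_ V) hV.isoSpec rfl 1 hd fun v _ => ?_
    have hb := (IsPullback.of_hasPullback (f ∣_ V) (V.toScheme.fromSpecResidueField v)).paste_horiz hXV
    rw [← Scheme.Hom.SpecMap_residueFieldMap_fromSpecResidueField V.ι v] at hb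
    have e := hb.flip.of_iso (e₁ := Iso.refl _) (e₂ := asIso (Spec.map (V.ι.residueFieldMap v)))
      (e₃ := Iso.refl _) (e₄ := Iso.refl _)
      (fst' := (f ∣_ V).fiberToSpecResidueField v ≫ Spec.map (V.ι.residueFieldMap v))
      (f' := Y.fromSpecResidueField (V.ι v)) (snd' := (f ∣_ V).fiberι v ≫ (f ⁻¹ᵁ V).ι) (g' := f)
      (by simp [Scheme.Hom.fiberToSpecResidueField]) (by simp [Scheme.Hom.fiberι]) (by simp) (by simp)
    let θ := e.flip.isoPullback
    refine Groth.Agent.CohQC.hh_subsingleton_of_iso (PicLoc.pullbackStructureIso θ.hom) 1 ?_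
    exact Groth.Agent.TwistOverVan.subsingleton_hh_pullback_iso θ.hom _ (Groth.Agent.QC.isQCoh_unit _) 1 (hH1 (V.ι v))
  have e₁ : ∀ (Z S : Scheme.{u}) (k : Z ⟶ S) (O : S.Opens),
      Function.Surjective ((k ∣_ O).appTop) ↔ Function.Surjective (k.app O) := fun Z S k O => by
    rw [morphismRestrict_appTop]
    refine (Function.Surjective.of_comp_iff' (ConcreteCategory.bijective_of_isIso
      (Z.presheaf.map (eqToHom (image_morphismRestrict_preimage k O ⊤)).op)) (k.app (O.ι ''ᵁ ⊤))).trans ?_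
    have : ∀ (O' : S.Opens), O' = O → (Function.Surjective (k.app O') ↔ Function.Surjective (k.app O)) :=
      fun O' e => e ▸ Iff.rfl
    exact this _ O.ι_image_top
  have hA : Function.Surjective (Groth.Agent.W7Cech.secRing Γ(Y, V) (⊤ : (f ⁻¹ᵁ V).toScheme.Opens)) := fun x => by
    obtain ⟨s, hs⟩ := (e₁ _ _ f V).2 hsurj x
    obtain ⟨t, rfl⟩ := (ConcreteCategory.bijective_of_isIso (hV.isoSpec.hom.appTop)).2 s
    obtain ⟨a, rfl⟩ := (ConcreteCategory.bijective_of_isIso (Scheme.ΓSpecIso (CommRingCat.of Γ(Y, V))).inv).2 t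
    refine ⟨a, ?_⟩
    rw [← hs]
    exact Groth.Agent.QC.resO_self _ _
  have hB := Groth.Agent.TopH1.surjective_secRing_bc Γ(Y, V) Γ(Y', U) j sq hvan h hA
  refine (e₁ _ _ f' U).1 fun x => ?_
  obtain ⟨b, hb⟩ := hB x
  refine ⟨hU.isoSpec.hom.appTop ((Scheme.ΓSpecIso (CommRingCat.of Γ(Y', U))).inv b), ?_⟩
  rw [← hb]
  exact (Groth.Agent.QC.resO_self _ _).symm


open AlgebraicGeometry CategoryTheory Limits in
/-- Let f : X → Y be proper with every fibre of dimension at most 1 and with H^1(X_y, O) = 0 for all y,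
and assume O_Y → f_* O_X is surjective (checked on affine opens). Then for every base change f' : X'
→ Y' of f, O_{Y'} → f'_* O_{X'} is surjective on every affine open of Y'. -/
theorem result {X Y : Scheme.{u}} (f : X ⟶ Y) [IsProper f]
    (hdim : ∀ y : Y, topologicalKrullDim ↑(f.fiber y) ≤ 1) (hH1 : ∀ y : Y, Subsingleton (Coh.HH (f.fiber y) (Coh.structureModule (f.fiber y)) 1))
    (hsurj : ∀ U : Y.Opens, IsAffineOpen U → Function.Surjective (f.app U))
    {X' Y' : Scheme.{u}} (f' : X' ⟶ Y') (g' : X' ⟶ X) (g : Y' ⟶ Y) (hc : IsPullback g' f' f g) :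
    ∀ U' : Y'.Opens, IsAffineOpen U' → Function.Surjective (f'.app U') := by
  intro U₀ hU₀
  haveI : IsProper f' := MorphismProperty.of_isPullback (P := @IsProper) hc inferInstance
  haveI : Coh.IsQCoh ((Scheme.Modules.pushforward f').obj (Coh.structureModule X')) :=
    haveI := Groth.Agent.QC.isQCoh_unit X'
    Groth.Agent.QC.isQCoh_pushforward f'
  have hex : ∀ y' : Y', ∃ U : Y'.Opens, y' ∈ U ∧ IsAffineOpen U ∧ Function.Surjective (f'.app U) := fun y' => by
    obtain ⟨V, hV, hyV, -⟩ := exists_isAffineOpen_mem_and_subset (X := Y) (x := g y') (U := ⊤) trivial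
    obtain ⟨U, hU, hyU, hUV⟩ := exists_isAffineOpen_mem_and_subset (X := Y') (x := y') (U := g ⁻¹ᵁ V) hyV
    exact ⟨U, hyU, hU, surjective_app_of_le f hdim hH1 hV (hsurj V hV) hc hU hUV⟩
  choose U hyU hU hs using hex
  haveI : Epi (ClSub.unitToPush f') :=
    Groth.Agent.ModDesc.epi_of_affine_cover (ClSub.unitToPush f') U hU (fun y' => ⟨y', hyU y'⟩) hs
  exact Groth.Agent.QC.app_surjective_of_epi hU₀ (Groth.Agent.QC.isQCoh_unit Y') inferInstance (ClSub.unitToPush f')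

end Groth.Agent.S1410
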