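import Groth.Statements.S14100
import Mathlib.Algebra.Homology.DerivedCategory.HomologySequence
import Mathlib.Algebra.Homology.DerivedCategory.FullyFaithful
import Mathlib.CategoryTheory.Triangulated.TStructure.TruncLTGE

set_option autoImplicit false
universe w v u
open DCoh

namespace Groth.Agent.S14100

open CategoryTheory DerivedCategory Limits Pretriangulated

variable {C : Type u} [Category.{v} C] [Abelian C] [HasDerivedCategory.{w} C]

lemma eq_zero_of_concentrated {X Y : DerivedCategory C} (b : ℤ) [X.IsGE b] [X.IsLE b] [Y.IsGE b] [Y.IsLE b]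
    (f : X ⟶ Y) (hf : (homologyFunctor C b).map f = 0) : f = 0 := by
  obtain ⟨A, ⟨eA⟩⟩ := exists_iso_singleFunctor_obj_of_isGE_of_isLE X b
  obtain ⟨B, ⟨eB⟩⟩ := exists_iso_singleFunctor_obj_of_isGE_of_isLE Y b
  obtain ⟨g, hg⟩ := (singleFunctor C b).map_surjective (eA.inv ≫ f ≫ eB.hom)
  have h : g = 0 := by
    have h := NatIso.naturality_1 (singleFunctorCompHomologyFunctorIso C b) g
    refine (h.symm : g = _).trans ?_
    change _ ≫ (homologyFunctor C b).map ((singleFunctor C b).map g) ≫ _ = 0
    simp [hg, hf]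
  rw [h, Functor.map_zero] at hg
  rw [← cancel_epi eA.inv, ← cancel_mono eB.hom, Category.assoc, ← hg, comp_zero, zero_comp]

lemma mono_homology_truncLTι (X : DerivedCategory C) (b q : ℤ) :
    Mono ((homologyFunctor C q).map ((TStructure.t.truncLTι b).app X)) := by
  by_cases hq : q ≤ b
  · refine (HomologySequence.mono_homologyMap_mor₁_iff _ (TStructure.t.triangleLTGE_distinguished b X) (q - 1) q).2
      (IsZero.eq_of_src ?_ _ _)
    exact isZero_of_isGE ((TStructure.t.truncGE b).obj X) b (q - 1) (by omega)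
  · exact ⟨fun _ _ _ => (isZero_of_isLE (hX := TStructure.t.isLE_truncLT_obj X b (b - 1)) _ (b - 1) q (by omega)).eq_of_tgt _ _⟩

lemma isGE_truncLT (X : DerivedCategory C) (a b : ℤ) [X.IsGE a] :
    DerivedCategory.IsGE ((TStructure.t.truncLT b).obj X) a := by
  refine (isGE_iff _ _).2 fun q hq => ?_
  have := mono_homology_truncLTι X b q
  exact IsZero.of_mono ((homologyFunctor C q).map ((TStructure.t.truncLTι b).app X)) (isZero_of_isGE X a q hq)

lemma isLE_truncGE (X : DerivedCategory C) (b : ℤ) [X.IsLE b] :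
    DerivedCategory.IsLE ((TStructure.t.truncGE b).obj X) b := by
  refine (isLE_iff _ _).2 fun q hq => ?_
  refine (HomologySequence.exact₃ _ (TStructure.t.triangleLTGE_distinguished b X) q (q + 1)).isZero_of_both_zeros
    ((isZero_of_isLE X b q hq).eq_of_src _ _) (IsZero.eq_of_tgt ?_ _ _)
  exact isZero_of_isLE (hX := TStructure.t.isLE_truncLT_obj X b (b - 1)) _ (b - 1) _ (by omega)

lemma truncGE_map_eq_zero {X Y : DerivedCategory C} (f : X ⟶ Y) (b : ℤ) [X.IsLE b] [Y.IsLE b]
    (hf : (homologyFunctor C b).map f = 0) : (TStructure.t.truncGE b).map f = 0 := by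
  have := isLE_truncGE X b
  have := isLE_truncGE Y b
  refine eq_zero_of_concentrated b _ ?_
  have : Epi ((homologyFunctor C b).map ((TStructure.t.truncGEπ b).app X)) :=
    (HomologySequence.epi_homologyMap_mor₂_iff _ (TStructure.t.triangleLTGE_distinguished b X) b (b + 1)).2
      (IsZero.eq_of_tgt (isZero_of_isLE (hX := TStructure.t.isLE_truncLT_obj X b (b - 1)) _ (b - 1) _ (by omega)) _ _)
  rw [← cancel_epi ((homologyFunctor C b).map ((TStructure.t.truncGEπ b).app X)), comp_zero, ← Functor.map_comp,
    ← (TStructure.t.truncGEπ b).naturality f, Functor.map_comp, Functor.id_map, hf, zero_comp]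

theorem composite_eq_zero (a : ℤ) (n : ℕ) : ∀ (K : ℕ ⥤ DerivedCategory C),
    (∀ i : ℕ, i ≤ n + 1 → (K.obj i).IsGE a) → (∀ i : ℕ, i ≤ n + 1 → (K.obj i).IsLE (a + n)) →
    (∀ i : ℕ, i ≤ n → ∀ q : ℤ, (homologyFunctor C q).map (K.map (homOfLE (Nat.le_succ i))) = 0) →
    K.map (homOfLE (Nat.zero_le (n + 1))) = 0 := by
  induction n with
  | zero =>
    intro K hGE hLE hzero
    have := hGE 0 (by omega); have := hGE 1 (by omega)
    have : (K.obj 0).IsLE a := by simpa using hLE 0 (by omega)
    have : (K.obj 1).IsLE a := by simpa using hLE 1 (by omega)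
    exact eq_zero_of_concentrated a _ (hzero 0 le_rfl a)
  | succ n ih =>
    intro K hGE hLE hzero
    let b : ℤ := a + (n : ℤ) + 1
    let T := TStructure.t (C := C)
    have hb : ∀ i, i ≤ n + 2 → (K.obj i).IsLE b := fun i hi => by
      have := hLE i hi
      have hb : b = a + ((n + 1 : ℕ) : ℤ) := by omega
      rwa [hb]
    have := hb 0 (by omega); have := hb 1 (by omega)
    have htop : K.map (homOfLE (Nat.le_succ 0)) ≫ (T.truncGEπ b).app (K.obj 1) = 0 := by
      refine ((T.truncGEπ b).naturality (K.map (homOfLE (Nat.le_succ 0)))).trans ?_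
      rw [truncGE_map_eq_zero _ b (hzero 0 (by omega) b), comp_zero]
    obtain ⟨g, hg⟩ := Triangle.coyoneda_exact₂ _ (T.triangleLTGE_distinguished b (K.obj 1)) _ htop
    let s : ℕ ⥤ ℕ := Monotone.functor (f := fun i => i + 1) (fun i j h => Nat.succ_le_succ h)
    have hih := ih (s ⋙ K ⋙ T.truncLT b)
      (fun i hi => @isGE_truncLT _ _ _ _ (K.obj (i + 1)) a b (hGE (i + 1) (by omega)))
      (fun i _ => T.isLE_truncLT_obj _ b (a + (n : ℤ)))
      (fun i hi q => by
        change (homologyFunctor C q).map ((T.truncLT b).map (K.map (homOfLE (Nat.le_succ (i + 1))))) = 0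
        have := mono_homology_truncLTι (K.obj (i + 1 + 1)) b q
        rw [← cancel_mono ((homologyFunctor C q).map ((T.truncLTι b).app (K.obj (i + 1 + 1)))), zero_comp,
          ← Functor.map_comp]
        refine (congrArg _ ((T.truncLTι b).naturality (K.map (homOfLE (Nat.le_succ (i + 1)))))).trans ?_
        rw [Functor.map_comp, Functor.id_map, hzero (i + 1) (by omega) q, comp_zero])
    have hnat : (T.truncLTι b).app (K.obj 1) ≫ K.map (homOfLE (Nat.succ_le_succ (Nat.zero_le (n + 1)))) = 0 := by
      refine ((T.truncLTι b).naturality _).symm.trans ?_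
      exact (congrArg (· ≫ _) hih).trans zero_comp
    rw [← homOfLE_comp (Nat.le_succ 0) (Nat.succ_le_succ (Nat.zero_le (n + 1))), Functor.map_comp, hg]
    exact (Category.assoc _ _ _).trans ((congrArg (g ≫ ·) hnat).trans comp_zero)

open CategoryTheory in
/-- Let C be an abelian category, a an integer and n a natural number, and let K_0 → K_1 → ⋯ → K_{n+1}
be composable morphisms in the derived category of C such that each K_i has cohomology concentrated
in degrees a, …, a+n and each map K_i → K_{i+1} induces zero on every cohomology object. Then the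
composite K_0 → K_{n+1} is zero. (The chain is given as a functor from the ordered set of natural
numbers; only its values on 0, …, n+1 matter.) -/
theorem result
    (C : Type u) [Category.{v} C] [Abelian C] [HasDerivedCategory.{w} C]
    (a : ℤ) (n : ℕ) (K : ℕ ⥤ DerivedCategory C)
    (hGE : ∀ i : ℕ, i ≤ n + 1 → (K.obj i).IsGE a)
    (hLE : ∀ i : ℕ, i ≤ n + 1 → (K.obj i).IsLE (a + n))
    (hzero : ∀ i : ℕ, i ≤ n → ∀ q : ℤ,
      (DerivedCategory.homologyFunctor C q).map (K.map (homOfLE (Nat.le_succ i))) = 0) :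
    K.map (homOfLE (Nat.zero_le (n + 1))) = 0 := by
  exact composite_eq_zero a n K hGE hLE hzero

end Groth.Agent.S14100
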