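import Groth.Statements.S14101
import Groth.Agent.SmoothRed.Basic
import Groth.Agent.FSField.Basic

set_option autoImplicit false
universe u
open CAlg

namespace Groth.Agent.S14101

/-- Only finitely many primes are zero divisors on a finite module over a Noetherian ring. -/
theorem finite_torsion (A : Type u) [CommRing A] [IsNoetherianRing A] (C : Type u) [AddCommGroup C] [Module A C]
    [Module.Finite A C] : {p : ℕ | p.Prime ∧ ∃ c : C, (p : A) • c = 0 ∧ c ≠ 0}.Finite := by
  refine ((associatedPrimes.finite A C).biUnion (t := fun P => {p : ℕ | p.Prime ∧ (p : A) ∈ P}) fun P hP => ?_).subset ?_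
  · refine Set.Subsingleton.finite fun p hp q hq => ?_
    by_contra hne
    obtain ⟨a, b, hab⟩ := (Int.isCoprime_iff_nat_coprime (a := (p : ℤ)) (b := (q : ℤ))).2
      (by simpa using (Nat.coprime_primes hp.1 hq.1).2 hne)
    have h1 := congrArg (fun t : ℤ => (t : A)) hab
    push_cast at h1
    exact hP.1.ne_top ((Ideal.eq_top_iff_one _).2 (h1 ▸ add_mem (P.mul_mem_left _ hp.2) (P.mul_mem_left _ hq.2)))
  · rintro p ⟨hp, c, hc, hc0⟩
    have hmem : (p : A) ∈ ⋃ P ∈ associatedPrimes A C, (P : Set A) := by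
      rw [biUnion_associatedPrimes_eq_zero_divisors A C]
      exact ⟨c, hc0, hc⟩
    obtain ⟨P, hP, hpP⟩ := Set.mem_iUnion₂.1 hmem
    exact Set.mem_iUnion₂.2 ⟨P, hP, hp, hpP⟩

open scoped TensorProduct in
/-- In a domain of finite type over `ℤ` all but finitely many primes generate a radical ideal. -/
theorem finite_bad_domain (D : Type u) [CommRing D] [IsDomain D] (hft : (Int.castRingHom D).FiniteType) :
    {p : ℕ | p.Prime ∧ ¬ ∀ x : D, ∀ k : ℕ, (p : D) ∣ x ^ k → (p : D) ∣ x}.Finite := by
  classical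
  haveI : Algebra.FiniteType ℤ D := RingHom.finiteType_algebraMap.1 (by
    convert hft using 1
    exact RingHom.ext_int _ _)
  obtain ⟨q, hq⟩ := CharP.exists D
  rcases CharP.char_is_prime_or_zero D q with hqp | rfl
  · refine Set.finite_empty.subset fun p ⟨hp, hbad⟩ => hbad fun x k hk => ?_
    by_cases hpq : p = q
    · subst hpq
      rw [CharP.cast_eq_zero D p] at hk ⊢
      exact zero_dvd_iff.2 (eq_zero_of_pow_eq_zero (zero_dvd_iff.1 hk))
    · haveI := Fact.mk hqp
      refine IsUnit.dvd ?_
      obtain ⟨a, b, hab⟩ := (Int.isCoprime_iff_nat_coprime (a := (p : ℤ)) (b := (q : ℤ))).2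
        (by simpa using (Nat.coprime_primes hp hqp).2 hpq)
      have h1 := congrArg (fun t : ℤ => (t : D)) hab
      push_cast at h1
      rw [CharP.cast_eq_zero D q, mul_zero, add_zero, mul_comm] at h1
      exact IsUnit.of_mul_eq_one _ h1
  haveI : CharZero D := CharP.charP_to_charZero D
  haveI : IsNoetherianRing D := Algebra.FiniteType.isNoetherianRing ℤ D
  let Z := MvPolynomial PEmpty.{u + 1} ℤ
  let e : Z ≃+* ℤ := MvPolynomial.isEmptyRingEquiv ℤ PEmpty.{u + 1}
  letI : Algebra Z D := ((Int.castRingHom D).comp e.toRingHom).toAlgebra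
  haveI : FaithfulSMul Z D := (faithfulSMul_iff_algebraMap_injective Z D).2
    ((Int.cast_injective).comp e.injective)
  haveI : IsScalarTower ℤ Z D := IsScalarTower.of_algebraMap_eq' (RingHom.ext_int _ _)
  haveI : Algebra.FiniteType Z D := Algebra.FiniteType.of_restrictScalars_finiteType ℤ Z D
  haveI : Algebra.FinitePresentation Z D := Algebra.FinitePresentation.of_finiteType.1 inferInstance
  haveI : CharZero Z := charZero_of_injective_algebraMap (R := ℤ) (A := Z) (FaithfulSMul.algebraMap_injective ℤ Z)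
  let Q := FractionRing Z
  haveI : CharZero Q := charZero_of_injective_algebraMap (R := Z) (A := Q) (IsFractionRing.injective Z Q)
  let L := Localization.AtPrime (⊥ : Ideal D)
  haveI : IsFractionRing D L := by
    have h : (⊥ : Ideal D).primeCompl = nonZeroDivisors D := by
      ext x; simp [Ideal.primeCompl]
    show IsLocalization (nonZeroDivisors D) L
    rw [← h]; infer_instance
  letI : Field L := IsFractionRing.toField D
  haveI : FaithfulSMul Z L := (faithfulSMul_iff_algebraMap_injective Z L).2 (by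
    rw [IsScalarTower.algebraMap_eq Z D L]
    exact (IsFractionRing.injective D L).comp (FaithfulSMul.algebraMap_injective Z D))
  letI : Algebra Q L := FractionRing.liftAlgebra Z L
  haveI : Algebra.FormallySmooth Z Q := Algebra.FormallySmooth.of_isLocalization (nonZeroDivisors Z)
  haveI : Algebra.FormallySmooth Q L := Groth.Agent.FSField.formallySmooth_of_perfectField Q L
  haveI : Algebra.IsSmoothAt Z (⊥ : Ideal D) := Algebra.FormallySmooth.comp Z Q L
  obtain ⟨g, hg, hsm⟩ := Algebra.IsSmoothAt.exists_notMem_smooth Z (⊥ : Ideal D)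
  haveI := hsm
  let Dg := Localization.Away g
  have hg0 : g ≠ 0 := fun h => hg (h ▸ Ideal.zero_mem _)
  refine (finite_torsion D (D ⧸ Ideal.span {g})).subset fun p ⟨hp, hbad⟩ => ?_
  by_contra hcon
  simp only [Set.mem_setOf_eq, not_and, not_exists, not_not] at hcon
  refine hbad fun x k hk => ?_
  let J : Ideal Z := Ideal.span {(p : Z)}
  haveI : IsPrincipalIdealRing Z := IsPrincipalIdealRing.of_surjective e.symm.toRingHom e.symm.surjective
  haveI : J.IsMaximal := by
    refine PrincipalIdealRing.isMaximal_of_irreducible ?_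
    have := (MulEquiv.irreducible_iff e.symm.toMulEquiv).2 (Nat.prime_iff_prime_int.1 hp).irreducible
    rwa [show e.symm.toMulEquiv (p : ℤ) = (p : Z) from map_natCast e.symm p] at this
  letI : Field (Z ⧸ J) := Ideal.Quotient.field J
  haveI : IsReduced ((Z ⧸ J) ⊗[Z] Dg) := Groth.Agent.SmoothRed.isReduced_of_field (Z ⧸ J) _
  have hJ : J.map (algebraMap Z Dg) = Ideal.span {(p : Dg)} := by
    rw [Ideal.map_span, Set.image_singleton, map_natCast]
  let θ : Dg →+* (Z ⧸ J) ⊗[Z] Dg := Algebra.TensorProduct.includeRight.toRingHom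
  have hker : ∀ y : Dg, θ y = 0 → (p : Dg) ∣ y := fun y hy => by
    let ε := Algebra.TensorProduct.quotIdealMapEquivQuotTensor Dg J
    have h1 : Ideal.Quotient.mk (J.map (algebraMap Z Dg)) y = 0 := ε.injective (by
      rw [map_zero, Algebra.TensorProduct.quotIdealMapEquivQuotTensor_mk]
      exact hy)
    rw [Ideal.Quotient.eq_zero_iff_mem, hJ, Ideal.mem_span_singleton] at h1
    exact h1
  have hθ : θ (algebraMap D Dg x) = 0 := by
    refine eq_zero_of_pow_eq_zero (n := k) ?_
    obtain ⟨c, hc⟩ := hk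
    rw [← map_pow, ← map_pow, hc, map_mul, map_mul, map_natCast, map_natCast]
    have : (p : (Z ⧸ J) ⊗[Z] Dg) = 0 := by
      rw [← map_natCast (algebraMap (Z ⧸ J) ((Z ⧸ J) ⊗[Z] Dg)), ← map_natCast (Ideal.Quotient.mk J),
        Ideal.Quotient.eq_zero_iff_mem.2 (Ideal.subset_span rfl : (p : Z) ∈ J), map_zero]
    rw [this, zero_mul]
  obtain ⟨y, hy⟩ := hker _ hθ
  obtain ⟨⟨y₀, s⟩, hs⟩ := IsLocalization.surj (Submonoid.powers g) y
  obtain ⟨m, hm⟩ := s.2
  have hmain : g ^ m * x = p * y₀ := by
    apply IsLocalization.injective Dg (powers_le_nonZeroDivisors_of_noZeroDivisors hg0)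
    simp only [] at hs
    rw [map_mul, map_mul, hy, map_natCast, show g ^ m = (s : D) from hm, ← hs]
    ring
  clear hs hm hy
  induction m generalizing y₀ with
  | zero => exact ⟨y₀, by simpa using hmain⟩
  | succ m ih =>
    have h0 : (Ideal.Quotient.mk (Ideal.span {g}) y₀ : D ⧸ Ideal.span {g}) = 0 := hcon hp _ (by
      rw [Algebra.smul_def, Ideal.Quotient.algebraMap_eq, ← map_mul, ← hmain, Ideal.Quotient.eq_zero_iff_mem]
      exact Ideal.mem_span_singleton.2 (Dvd.intro (g ^ m * x) (by ring)))
    obtain ⟨y₁, rfl⟩ := Ideal.mem_span_singleton.1 (Ideal.Quotient.eq_zero_iff_mem.1 h0)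
    exact ih y₁ (mul_left_cancel₀ hg0 (by linear_combination hmain))

/-- Affine form — let A be a reduced commutative ring of finite type over ℤ. Then for all but finitely
many prime numbers p the reduction A/pA is reduced. (The published statement is for a reduced scheme
of finite type over ℤ; such a scheme has a finite affine open cover, so the affine form carries the
same content.) -/
theorem result
    (A : Type u) [CommRing A] [Algebra.FiniteType ℤ A] [IsReduced A] :
    {p : ℕ | p.Prime ∧ ¬ IsReduced (A ⧸ Ideal.span {(p : A)})}.Finite := by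
  classical
  haveI : IsNoetherianRing A := Algebra.FiniteType.isNoetherianRing ℤ A
  let D : minimalPrimes A → Type u := fun P => A ⧸ (P : Ideal A)
  have hP : ∀ P : minimalPrimes A, (P : Ideal A).IsPrime := fun P => P.2.1.1
  haveI : Finite (minimalPrimes A) := (minimalPrimes.finite_of_isNoetherianRing A).to_subtype
  let φ : A →ₗ[A] ((P : minimalPrimes A) → A ⧸ (P : Ideal A)) := LinearMap.pi fun P => (P : Ideal A).mkQ
  have hφ : Function.Injective φ := by
    refine (injective_iff_map_eq_zero φ).2 fun x hx => ?_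
    have : x ∈ sInf (minimalPrimes A) := Ideal.mem_sInf.2 fun {P} hP' =>
      Ideal.Quotient.eq_zero_iff_mem.1 (congrFun hx ⟨P, hP'⟩)
    rw [show sInf (minimalPrimes A) = (⊥ : Ideal A) from
      (Ideal.sInf_minimalPrimes (I := (⊥ : Ideal A))).trans (nilradical_eq_zero A)] at this
    exact this
  let C := ((P : minimalPrimes A) → A ⧸ (P : Ideal A)) ⧸ LinearMap.range φ
  haveI : Module.Finite A C := inferInstance
  refine ((finite_torsion A C).union (Set.finite_iUnion fun P : minimalPrimes A => ?_)).subset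
    (t := {p : ℕ | p.Prime ∧ ¬ IsReduced (A ⧸ Ideal.span {(p : A)})})
    (s := {p : ℕ | p.Prime ∧ ∃ c : C, (p : A) • c = 0 ∧ c ≠ 0} ∪
      ⋃ P : minimalPrimes A, {p : ℕ | p.Prime ∧ ¬ ∀ x : A ⧸ (P : Ideal A), ∀ k : ℕ,
        (p : A ⧸ (P : Ideal A)) ∣ x ^ k → (p : A ⧸ (P : Ideal A)) ∣ x}) ?_
  · haveI := hP P
    refine finite_bad_domain (A ⧸ (P : Ideal A)) ?_
    have h := RingHom.FiniteType.comp_surjective (f := algebraMap ℤ A) (g := Ideal.Quotient.mk (P : Ideal A))
      (RingHom.finiteType_algebraMap.2 inferInstance) Ideal.Quotient.mk_surjective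
    convert h using 1
    exact RingHom.ext_int _ _
  · rintro p ⟨hp, hred⟩
    by_contra hcon
    simp only [Set.mem_union, Set.mem_iUnion, Set.mem_setOf_eq, not_or, not_exists, not_and, not_not] at hcon
    obtain ⟨hC, hD⟩ := hcon
    refine hred ⟨fun z hz => ?_⟩
    obtain ⟨x, rfl⟩ := Ideal.Quotient.mk_surjective z
    obtain ⟨k, hk⟩ := hz
    rw [← map_pow, Ideal.Quotient.eq_zero_iff_mem, Ideal.mem_span_singleton] at hk
    have hx : ∀ P : minimalPrimes A, ∃ d : A ⧸ (P : Ideal A), Ideal.Quotient.mk (P : Ideal A) x = p * d := fun P =>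
      hD P hp (Ideal.Quotient.mk _ x) k (by
        have := map_dvd (Ideal.Quotient.mk (P : Ideal A)) hk
        rwa [map_pow, map_natCast] at this)
    choose d hd using hx
    have hpd : φ x = (p : A) • d := funext fun P => (hd P).trans (by
      rw [Pi.smul_apply, Algebra.smul_def, Ideal.Quotient.algebraMap_eq, map_natCast])
    have h0 : (Submodule.Quotient.mk d : C) = 0 := hC hp _ (by
      rw [← Submodule.Quotient.mk_smul, ← hpd]
      exact (Submodule.Quotient.mk_eq_zero _).2 ⟨x, rfl⟩)
    obtain ⟨a, ha⟩ := (Submodule.Quotient.mk_eq_zero _).1 h0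
    rw [Ideal.Quotient.eq_zero_iff_mem, Ideal.mem_span_singleton]
    exact ⟨a, hφ (by rw [hpd, ← smul_eq_mul, map_smul, ha])⟩

end Groth.Agent.S14101
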