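import Groth.Statements.S14106
import Groth.Agent.CInt.Codim
import Groth.Agent.SpRelDim.Trdeg
import Groth.Agent.SpRelDim.LocalDim

set_option autoImplicit false
set_option linter.style.haveILetI false
set_option backward.isDefEq.respectTransparency false
open Groth.Agent
universe u
open CategoryTheory CategoryTheory.Limits AlgebraicGeometry Opposite TopologicalSpace
open CInt

namespace Groth.Agent.S14106

/-- Let S be a locally Noetherian scheme, f : X → S a smooth morphism and i : Y → X a closed immersion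
whose composite with f is smooth. Then the codimension of the image of i relative to f (the infimum
over its points y of the Krull dimension of the local ring at y of the fibre of f through y) equals
its codimension in X (the infimum over the same points of the Krull dimension of O_{X,y}). -/
theorem result {X Y S : Scheme.{u}} [IsLocallyNoetherian X]
    [IsLocallyNoetherian S] (f : X ⟶ S) [Smooth f] (i : Y ⟶ X) [IsClosedImmersion i] [Smooth (i ≫ f)] :
    (⨅ y : Set.range i.base, ringKrullDim ↑(CInt.fiberStalk f y.1)) =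
      ⨅ y : Set.range i.base, ringKrullDim ↑(X.presheaf.stalk y.1) := by
  refine le_antisymm (le_iInf fun y => iInf_le_of_le y (Groth.Agent.CInt.ringKrullDim_fiberStalk_le f y.1))
    (le_iInf fun y => ?_)
  obtain ⟨_, z, rfl⟩ := y
  haveI : IsLocallyNoetherian Y := LocallyOfFiniteType.isLocallyNoetherian i
  obtain ⟨η, hη, hηm⟩ := Groth.Agent.SpQS.exists_isMaxPt_specializes z
  refine iInf_le_of_le ⟨i η, η, rfl⟩ ?_
  -- the relative dimensions of `X` and of `Y` are constant near the point
  obtain ⟨W, j, w, n, hj, hw, hn⟩ := Groth.Agent.SpRelDim.exists_constant_fibreDim_of_smooth f (i z)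
  obtain ⟨W', j', w', m, hj', hw', hm⟩ := Groth.Agent.SpRelDim.exists_constant_fibreDim_of_smooth (i ≫ f) z
  have key : ∀ a : Y, a ⤳ z → ∃ b δ c : ℕ, ringKrullDim ↑(CInt.fiberStalk f (i a)) = (b : WithBot ℕ∞) ∧
      ringKrullDim ↑(CInt.fiberStalk (i ≫ f) a) = (c : WithBot ℕ∞) ∧ b + δ = n ∧ c + δ = m := by
    intro a ha
    obtain ⟨wa, hwa⟩ : i a ∈ Set.range j :=
      (ha.map i.continuous).mem_open j.isOpenEmbedding.isOpen_range ⟨w, hw⟩
    obtain ⟨wa', hwa'⟩ : a ∈ Set.range j' := ha.mem_open j'.isOpenEmbedding.isOpen_range ⟨w', hw'⟩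
    obtain ⟨b, δ, hb, hδ, hbd⟩ := Groth.Agent.SpRelDim.fibreDimAt_eq_add_resTrdeg f (i a)
    obtain ⟨c, ε, hc, hε, hce⟩ := Groth.Agent.SpRelDim.fibreDimAt_eq_add_resTrdeg (i ≫ f) a
    have hεδ : ε = δ := by
      have h := Groth.Agent.SpQS.resTrdeg_precomp i f
        (Groth.Agent.SpRelDim.quasiFiniteAt_of_isPreimmersion i a)
      rw [hε, hδ] at h
      exact_mod_cast h
    have h1 := hn wa
    rw [Groth.Agent.LocalDimBC.fibreDimAt_openImmersion_comp, hwa, hbd] at h1
    have h2 := hm wa'
    rw [Groth.Agent.LocalDimBC.fibreDimAt_openImmersion_comp, hwa', hce] at h2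
    exact ⟨b, δ, c, hb, hc, by exact_mod_cast h1, by subst hεδ; exact_mod_cast h2⟩
  obtain ⟨b, δ, c, hb, -, hbn, hcm⟩ := key z specializes_rfl
  obtain ⟨b', δ', c', hb', hc', hbn', hcm'⟩ := key η hη
  -- at a maximal point of `Y`
  have hY := Groth.Agent.CInt.ringKrullDim_stalk_eq_add (i ≫ f) η
  rw [(Groth.Agent.SpQS.stalk_dim_zero_iff η).mpr hηm, hc'] at hY
  obtain ⟨e, he, -⟩ := Groth.Agent.DimFormula.exists_ringKrullDim_stalk ((i ≫ f) η)
  rw [he] at hY
  have hz0 : (0 : ℕ) = e + c' := by exact_mod_cast hY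
  have hX := Groth.Agent.CInt.ringKrullDim_stalk_eq_add f (i η)
  have he' : ringKrullDim ↑(S.presheaf.stalk (f (i η))) = (e : WithBot ℕ∞) := he
  rw [he', hb'] at hX
  rw [hX, hb, ← Nat.cast_add, Nat.cast_le]
  omega

end Groth.Agent.S14106
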