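import Groth.Statements.S14109
import Groth.Agent.CInt.Codim

set_option autoImplicit false
set_option linter.style.haveILetI false
set_option backward.isDefEq.respectTransparency false
open Groth.Agent
universe u
open CategoryTheory CategoryTheory.Limits AlgebraicGeometry Opposite TopologicalSpace
open CInt

namespace Groth.Agent.S14109

/-- Let f : X → S and g : X' → X be morphisms of locally Noetherian schemes with g surjective, Y a
closed subset of X and Y' its preimage under g. Then the codimension of Y' relative to the composite
X' → S (the infimum over y' ∈ Y' of the Krull dimension of the local ring at y' of the fibre of that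
composite through y') is at most the codimension of Y relative to f (the same infimum over y ∈ Y for
the fibres of f). -/
theorem result {X X' S : Scheme.{u}} [IsLocallyNoetherian X]
    [IsLocallyNoetherian X'] [IsLocallyNoetherian S] (f : X ⟶ S) (g : X' ⟶ X) [Surjective g]
    (Y : Set ↥X) (hY : IsClosed Y) :
    (⨅ y' : (fun x' => g x') ⁻¹' Y, ringKrullDim ↑(CInt.fiberStalk (g ≫ f) y'.1)) ≤
      ⨅ y : Y, ringKrullDim ↑(CInt.fiberStalk f y.1) := by
  refine le_iInf fun y => ?_
  obtain ⟨z, hz⟩ := g.surjective y.1
  obtain ⟨z', hz', -, h0⟩ := Groth.Agent.CInt.exists_fiberStalk_dim_zero g z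
  have hgy : g z' = y.1 := hz'.trans hz
  refine iInf_le_of_le ⟨z', show g z' ∈ Y by rw [hgy]; exact y.2⟩ ?_
  have h := Groth.Agent.CInt.ringKrullDim_fiberStalk_comp_le g f z'
  rw [h0, add_zero, hgy] at h
  exact h

end Groth.Agent.S14109
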