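import Groth.Statements.S14113
import Groth.Agent.DCohAffKP.Basic
import Mathlib

set_option autoImplicit false
set_option backward.isDefEq.respectTransparency false
set_option backward.isDefEq.respectTransparency.types false
universe u
open CategoryTheory CategoryTheory.Limits AlgebraicGeometry Opposite TopologicalSpace
attribute [local instance] HasDerivedCategory.standard
open DCoh CategoryTheory.Limits AlgebraicGeometry

namespace Groth.Agent.S14113

/-- Let X be an affine scheme and E a bounded above cochain complex of finite locally free O_X-modules
(a strictly pseudo-coherent complex). Then E is acyclic if and only if the identity of E is null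
homotopic. -/
theorem result {X : Scheme.{u}} [IsAffine X]
    (E : CochainComplex X.Modules ℤ) (b : ℤ) (hEb : ∀ i : ℤ, b < i → IsZero (E.X i))
    (hE : ∀ i : ℤ, FlatMod.IsFinLocFree (E.X i)) :
    E.Acyclic ↔ Nonempty (Homotopy (𝟙 E) 0) := by
  have hq : ∀ i, Coh.IsQCoh (E.X i) := fun i => DQCoh.isQCoh_of_isFinLocFree (hE i)
  have hb := DCohAffKP.bijective E E b hEb hE hq
  constructor
  · intro hA
    let q := HomotopyCategory.quotient X.Modules (ComplexShape.up ℤ)
    have h0 : IsZero (DerivedCategory.Q.obj E) := by
      rw [IsZero.iff_id_eq_zero]
      haveI : IsIso (0 : DerivedCategory.Q.obj E ⟶ DerivedCategory.Q.obj E) := by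
        rw [DerivedCategory.isIso_iff]
        intro i
        have hh : IsZero ((DerivedCategory.homologyFunctor X.Modules i).obj (DerivedCategory.Q.obj E)) :=
          ((HomologicalComplex.exactAt_iff_isZero_homology _ _).1 (hA i)).of_iso
            ((DerivedCategory.homologyFunctorFactors X.Modules i).app E)
        exact hh.isIso hh _
      have h1 := IsIso.hom_inv_id (0 : DerivedCategory.Q.obj E ⟶ DerivedCategory.Q.obj E)
      rw [zero_comp] at h1
      exact h1.symm
    refine ⟨HomotopyCategory.homotopyOfEq _ _ (hb.1 ?_)⟩
    exact (h0.of_iso ((DerivedCategory.quotientCompQhIso X.Modules).app E)).eq_of_src _ _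
  · rintro ⟨h⟩ i
    rw [HomologicalComplex.exactAt_iff_isZero_homology, IsZero.iff_id_eq_zero, ← HomologicalComplex.homologyMap_id,
      h.homologyMap_eq i, HomologicalComplex.homologyMap_zero]

end Groth.Agent.S14113
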