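import Groth.Statements.S14116
import Groth.Agent.LCZ.Scheme
import Groth.Agent.FreeLite.Basic
import Groth.Agent.SiteCoh.Cover

set_option autoImplicit false
universe u
open CategoryTheory CategoryTheory.Limits AlgebraicGeometry Opposite TopologicalSpace
open LocCohZ

namespace Groth.Agent.S14116.Aux

open CategoryTheory.Abelian Groth.Agent.LCZ Groth.Agent.SiteCoh

theorem le_depth_stalk {X : Scheme.{u}} [IsLocallyNoetherian X] {M : X.Modules} (hM : FlatMod.IsFinLocFree M)
    (x : X) (d : ℕ) (h : (d : ℕ∞) ≤ LocCoh.depth (X.presheaf.stalk x) (X.presheaf.stalk x)) :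
    (d : ℕ∞) ≤ LocCoh.depth (X.presheaf.stalk x) (M.presheaf.stalk x) := by
  obtain ⟨D, n, hD, hx, ⟨l⟩⟩ := Groth.Agent.FreeLite.exists_affine_free hM x
  have hxr : x ∈ Set.range hD.fromSpec := by rw [hD.range_fromSpec]; exact hx
  obtain ⟨p, rfl⟩ := hxr
  rw [depth_stalk_eq M (Groth.Agent.FreeLite.isCoh hM) hD p]
  let A := X.presheaf.stalk (hD.fromSpec p)
  let := TopCat.Presheaf.algebra_section_stalk X.presheaf ⟨hD.fromSpec p, hx⟩
  have hS : IsLocalization.AtPrime A p.asIdeal := hD.isLocalization_stalk' p hx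
  haveI : IsNoetherianRing Γ(X, D) := IsLocallyNoetherian.component_noetherian ⟨D, hD⟩
  haveI : IsNoetherianRing A := IsLocalization.isNoetherianRing p.asIdeal.primeCompl _ inferInstance
  haveI : Module.Finite Γ(X, D) Γ(M, D) := Module.Finite.equiv l.symm
  let L : (Fin n → Γ(X, D)) →ₗ[Γ(X, D)] (Fin n → A) :=
    LinearMap.pi fun i => (Algebra.linearMap Γ(X, D) A).comp (LinearMap.proj i)
  haveI : IsLocalizedModule p.asIdeal.primeCompl L :=
    IsLocalizedModule.pi p.asIdeal.primeCompl fun _ => Algebra.linearMap Γ(X, D) A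
  haveI : IsLocalizedModule p.asIdeal.primeCompl (L ∘ₗ l.toLinearMap) :=
    IsLocalizedModule.of_linearEquiv_right _ _ _
  rw [← Groth.Agent.LocH.depth_eq_of_isLocalizedModule Γ(M, D) p.asIdeal A
    (fun r => IsLocalization.map_units _ r)
    (fun a => let ⟨⟨r, s⟩, e⟩ := IsLocalization.surj p.asIdeal.primeCompl a; ⟨r, s, e⟩) _ (L ∘ₗ l.toLinearMap)]
  change (d : ℕ∞) ≤ LocCoh.idealDepth (IsLocalRing.maximalIdeal A) (Fin n → A)
  rw [Groth.Agent.LocH.le_idealDepth_iff]
  rw [LocCoh.depth, Groth.Agent.LocH.le_idealDepth_iff] at h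
  exact fun i hi => Groth.Agent.LocH.subsingleton_pi (h i hi) _

theorem isZero_HZsh {X : Scheme.{u}} [IsLocallyNoetherian X] {M : X.Modules} (hM : FlatMod.IsFinLocFree M)
    (U : X.Opens) (d : ℕ)
    (hdepth : ∀ x : X, x ∉ U → (d : ℕ∞) ≤ LocCoh.depth (X.presheaf.stalk x) (X.presheaf.stalk x))
    {i : ℕ} (hi : i < d) : IsZero ((LocCohZ.HZsh (X := X.carrier) U i).obj (Coh.toAb M)) :=
  isZero_HZsh_of_subsingleton (X := X.carrier) U fun V x hx => by
    obtain ⟨W, hW, hxW, hWV⟩ :=
      (Opens.isBasis_iff_nbhd.mp X.isBasis_affineOpens) (show x ∈ (V : X.Opens) from hx)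
    exact ⟨W, hxW, hWV, (forall_subsingleton_HZ_iff M (Groth.Agent.FreeLite.isCoh hM) hW U d).2
      (fun y _ hy => le_depth_stalk hM y d (hdepth y hy)) i hi⟩

variable {X : TopCat.{u}} (U : Opens X) {F : CohTop.Ab X} (R : InjectiveResolution F)

/-- The section of the resolution underlying a cycle with supports. -/
noncomputable def sec (n : ℕ) :
    ((suppCx U R).cycles n).obj.obj (op ⊤) →+ (R.cocomplex.X n).obj.obj (op ⊤) :=
  ((suppι U (R.cocomplex.X n)).hom.app (op ⊤)).hom.comp (((suppCx U R).iCycles n).hom.app (op ⊤)).hom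

theorem res_sec (n : ℕ) (z : ((suppCx U R).cycles n).obj.obj (op ⊤)) :
    res _ (le_top : U ≤ ⊤) (sec U R n z) = 0 := by
  have h := res_suppι U (R.cocomplex.X n) ((((suppCx U R).iCycles n).hom.app (op ⊤)) z)
  rw [← res_res _ (inf_le_left : ⊤ ⊓ U ≤ ⊤) (le_inf le_top le_rfl : U ≤ ⊤ ⊓ U)]
  exact (congrArg _ h).trans (map_zero _)

theorem d_sec (n : ℕ) (z : ((suppCx U R).cycles n).obj.obj (op ⊤)) :
    dsec R n (n + 1) ⊤ (sec U R n z) = 0 :=
  (suppι_d U R n (n + 1) ⊤ _).symm.trans ((congrArg _ (d_iCycles_apply (suppCx U R) n ⊤ z)).trans (map_zero _))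

/-- The class of a cycle with supports. -/
noncomputable def cls (n : ℕ) : ((suppCx U R).cycles n).obj.obj (op ⊤) →+ LocCohZ.HZc F n U :=
  AddMonoidHom.mk' (fun z => clZ (le_top : U ≤ ⊤) R n (sec U R n z) (res_sec U R n z) (d_sec U R n z))
    fun a b => by
      refine (SiteCoh.extMk_congr R _ _ _ ?_ ?_).trans (R.add_extMk _ _ _ _ _ _).symm
      · rw [Preadditive.add_comp, zqHom_d _ R _ _ (d_sec U R n a), zqHom_d _ R _ _ (d_sec U R n b), add_zero]
      · apply zqSec_injective
        rw [zqSec_zqHom, zqSec, Preadditive.comp_add, map_add]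
        exact congrArg₂ (· + ·) (zqSec_zqHom _ _ (res_sec U R n a)).symm (zqSec_zqHom _ _ (res_sec U R n b)).symm

theorem cls_surjective (n : ℕ) : Function.Surjective (cls U R n) := fun x => by
  obtain ⟨s, hs, hd, rfl⟩ := exists_clZ (le_top : U ≤ ⊤) R x
  obtain ⟨t, ht⟩ := exists_suppι U (V := ⊤) (s := s) (by
    rw [← res_res _ (le_top : U ≤ ⊤) (inf_le_right : ⊤ ⊓ U ≤ U), hs, map_zero])
  obtain ⟨z, hz⟩ := exists_cycle_section (U := ⊤) (suppCx U R) n t (suppι_injective U _ ⊤
    ((suppι_d U R n (n + 1) ⊤ t).trans ((congrArg _ ht).trans (hd.trans (map_zero _).symm))))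
  refine ⟨z, SiteCoh.extMk_congr R (n + 1) rfl (zqHom_d _ R _ (res_sec U R n z) (d_sec U R n z))
    (zqHom_d _ R _ hs hd) (zqSec_injective _ ?_)⟩
  rw [zqSec_zqHom, zqSec_zqHom, ← ht, ← hz]
  rfl

theorem cls_zero_eq_zero_iff (z : ((suppCx U R).cycles 0).obj.obj (op ⊤)) :
    cls U R 0 z = 0 ↔ z = 0 := by
  refine ⟨fun h => ?_, fun h => h ▸ map_zero _⟩
  have h0 : sec U R 0 z = sec U R 0 0 :=
    ((clZ_zero_eq_zero_iff _ R _ (res_sec U R 0 z) (d_sec U R 0 z)).1 h).trans (map_zero _).symm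
  exact iCycles_injective (suppCx U R) 0 ⊤ (suppι_injective U _ ⊤ h0)

theorem cls_succ_eq_zero_iff (p : ℕ) (z : ((suppCx U R).cycles (p + 1)).obj.obj (op ⊤)) :
    cls U R (p + 1) z = 0 ↔ ∃ k, ((suppCx U R).toCycles p (p + 1)).hom.app (op ⊤) k = z := by
  refine (clZ_eq_zero_iff _ R _ (res_sec U R _ z) (d_sec U R _ z)).trans ⟨?_, ?_⟩
  · rintro ⟨t, ht, htd⟩
    obtain ⟨t', rfl⟩ := exists_suppι U (V := ⊤) (s := t) (by
      rw [← res_res _ (le_top : U ≤ ⊤) (inf_le_right : ⊤ ⊓ U ≤ U), ht, map_zero])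
    refine ⟨t', iCycles_injective (suppCx U R) (p + 1) ⊤ ?_⟩
    rw [toCycles_iCycles_apply]
    exact suppι_injective U _ ⊤ ((suppι_d U R p (p + 1) ⊤ t').trans htd)
  · rintro ⟨k, rfl⟩
    refine ⟨(suppι U (R.cocomplex.X p)).hom.app (op ⊤) k, ?_, ?_⟩
    · rw [← res_res _ (inf_le_left : ⊤ ⊓ U ≤ ⊤) (le_inf le_top le_rfl : U ≤ ⊤ ⊓ U)]
      exact (congrArg _ (res_suppι U _ k)).trans (map_zero _)
    · refine (suppι_d U R p (p + 1) ⊤ k).symm.trans ?_
      exact congrArg _ (toCycles_iCycles_apply (suppCx U R) p (p + 1) ⊤ k).symm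

theorem addEquiv_of_kers {A B C : Type u} [AddCommGroup A] [AddCommGroup B] [AddCommGroup C]
    (f : A →+ B) (g : A →+ C) (hf : Function.Surjective f) (hg : Function.Surjective g)
    (h : ∀ a, f a = 0 ↔ g a = 0) : Nonempty (B ≃+ C) :=
  ⟨(QuotientAddGroup.quotientKerEquivOfSurjective f hf).symm.trans
    ((QuotientAddGroup.quotientAddEquivOfEq (show f.ker = g.ker from AddSubgroup.ext h)).trans
      (QuotientAddGroup.quotientKerEquivOfSurjective g hg))⟩

/-- The global sections of `ℋ^d_Z` are `H^d_Z` when the lower sheaves vanish. -/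
theorem nonempty_sections_addEquiv (d : ℕ) (hH : ∀ i, i < d → IsZero ((LocCohZ.HZsh U i).obj F)) :
    Nonempty (↑(((LocCohZ.HZsh U d).obj F).obj.obj (op ⊤)) ≃+ LocCohZ.HZc F d U) := by
  obtain ⟨R⟩ : Nonempty (InjectiveResolution F) := ⟨injectiveResolution F⟩
  let e : ↑(((LocCohZ.HZsh U d).obj F).obj.obj (op ⊤)) ≃+ ↑(((suppCx U R).homology d).obj.obj (op ⊤)) :=
    (((sheafToPresheaf _ AddCommGrpCat.{u}).mapIso (hzshIso U R d)).app (op ⊤)).addCommGroupIsoToAddEquiv
  suffices Nonempty (↑(((suppCx U R).homology d).obj.obj (op ⊤)) ≃+ LocCohZ.HZc F d U) from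
    this.map e.trans
  have hH' : ∀ j, j < d → IsZero ((suppCx U R).homology j) :=
    fun j hj => (hH j hj).of_iso (hzshIso U R j).symm
  rcases d with _ | p
  · have hb : Function.Bijective (((suppCx U R).homologyπ 0).hom.app (op ⊤)) :=
      (((sheafToPresheaf _ AddCommGrpCat.{u}).mapIso (asIso ((suppCx U R).homologyπ 0))).app
        (op ⊤)).addCommGroupIsoToAddEquiv.bijective
    refine addEquiv_of_kers (((suppCx U R).homologyπ 0).hom.app (op ⊤)).hom (cls U R 0) hb.2
      (cls_surjective U R 0) fun z => ?_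
    rw [cls_zero_eq_zero_iff]
    exact ⟨fun h => hb.1 (h.trans (map_zero _).symm), fun h => h ▸ map_zero _⟩
  · have hcyc := (cycles_flasque (suppCx U R) (isFlasque_suppCx U R) hH' p (Nat.lt_succ_self p)).1
    have := isFlasque_suppCx U R p
    have hbd : TopCat.Sheaf.IsFlasque (bdCoker (suppCx U R) p) := by
      have : TopCat.Sheaf.IsFlasque (seqZ (suppCx U R) p).X₁ := hcyc
      have : TopCat.Sheaf.IsFlasque (seqZ (suppCx U R) p).X₂ := isFlasque_suppCx U R p
      exact TopCat.Sheaf.IsFlasque.of_shortExact_of_isFlasque₁₂ (seqZ_shortExact (suppCx U R) p)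
    have hsurjC : Function.Surjective ((cokernel.π ((suppCx U R).iCycles p)).hom.app (op ⊤)) := by
      have : Subsingleton (CohSite.HU (seqZ (suppCx U R) p).X₁ 1 (⊤ : Opens X)) :=
        @flasque_acyclic X ((suppCx U R).cycles p) hcyc ⊤ 0
      exact sections_surjective (seqZ_shortExact (suppCx U R) p) ⊤
    have hsurjH : Function.Surjective (((suppCx U R).homologyπ (p + 1)).hom.app (op ⊤)) := by
      have : Subsingleton (CohSite.HU (seqH (suppCx U R) p).X₁ 1 (⊤ : Opens X)) :=
        @flasque_acyclic X (bdCoker (suppCx U R) p) hbd ⊤ 0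
      exact sections_surjective (seqH_shortExact (suppCx U R) p) ⊤
    refine addEquiv_of_kers (((suppCx U R).homologyπ (p + 1)).hom.app (op ⊤)).hom (cls U R (p + 1))
      hsurjH (cls_surjective U R _) fun z => ?_
    rw [cls_succ_eq_zero_iff]
    constructor
    · intro h
      obtain ⟨c, rfl⟩ := sections_exact (seqH_shortExact (suppCx U R) p) ⊤ z h
      obtain ⟨k, rfl⟩ := hsurjC c
      exact ⟨k, congrArg (fun m : (suppCx U R).X p ⟶ (suppCx U R).cycles (p + 1) => m.hom.app (op ⊤) k)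
        (cokernel.π_desc _ _ _).symm⟩
    · rintro ⟨k, rfl⟩
      exact congrArg (fun m : (suppCx U R).X p ⟶ (suppCx U R).homology (p + 1) => m.hom.app (op ⊤) k)
        ((suppCx U R).toCycles_comp_homologyπ p (p + 1))

end Groth.Agent.S14116.Aux

namespace Groth.Agent.S14116

/-- Let X be a locally Noetherian scheme, U ⊆ X open with closed complement Y, d a natural number such
that the depth of O_X along Y is at least d (every local ring O_{X,y}, y ∈ Y, has depth at least d),
and M a finite locally free O_X-module. Then Γ(X, ℋ^d_Y(M)) is isomorphic to H^d_Y(X, M), where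
ℋ^d_Y is the d-th right derived functor of the sheaf of sections with support in Y (applied to the
underlying abelian sheaf of M) and H^d_Y(X, M) is cohomology with support in Y. Existence of an
additive isomorphism only; the published statement asserts a canonical functorial isomorphism that
is linear over the global functions Γ(X, O_X) (obtained in its proof as the edge map of the
local-to-global spectral sequence), and adds that U ↦ H^d_{Y∩U}(U, M), U ⊆ X open, is a sheaf; none
of this is part of this row. (The published statement assumes a flat morphism X → S with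
Cohen–Macaulay fibres and relative codimension of Y at least d; these enter only through the depth
bound, which is the hypothesis of this row.) -/
theorem result (X : Scheme.{u}) [IsLocallyNoetherian X]
    (U : X.Opens) (d : ℕ)
    (hdepth : ∀ x : ↥X, x ∉ (U : Set ↥X) → (d : ℕ∞) ≤ LocCoh.depth ↑(X.presheaf.stalk x) ↑(X.presheaf.stalk x))
    (M : X.Modules) (hM : FlatMod.IsFinLocFree M) :
    Nonempty (↑(((LocCohZ.HZsh (X := X.carrier) U d).obj (Coh.toAb M)).obj.obj (op ⊤)) ≃+ LocCohZ.HZM X M d U) := by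
  exact Aux.nonempty_sections_addEquiv (X := X.carrier) U d fun i hi => Aux.isZero_HZsh hM U d hdepth hi

end Groth.Agent.S14116
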