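import Groth.Statements.S14118
import Mathlib.LinearAlgebra.Trace
import Mathlib.LinearAlgebra.Pi
import Mathlib.Algebra.Ring.Int.Units
import Mathlib.Tactic.LinearCombination

set_option autoImplicit false
set_option backward.isDefEq.respectTransparency false
set_option linter.style.haveILetI false
universe u v w
open SuperComm

namespace Groth.Agent.S14118

/-- Let R be a commutative ring and M a finitely ℤ-graded R-module with finitely many nonzero graded
pieces, each finite free, presented as a finite family of finite free R-modules M_i with integer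
degrees deg i (the piece of degree n being the product of the M_i with deg i = n); an endomorphism φ
of the total module Π_i M_i has degree a when its (i, j) block vanishes unless deg j = deg i + a;
the supertrace of an endomorphism is the trace of its composite with the grading involution ε = Σ_i
(-1)^{deg i} pr_i. If φ and ψ have degrees a and b, the supertrace of the supercommutator φψ -
(-1)^{ab} ψφ vanishes. (The published statement allows the graded pieces to be finitely generated
projective; this row takes them finite free, where the trace is the ordinary trace of a free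
module.) -/
theorem result {R : Type u} [CommRing R] {ι : Type v} [Fintype ι] [DecidableEq ι]
    (deg : ι → ℤ) (M : ι → Type w) [∀ i, AddCommGroup (M i)] [∀ i, Module R (M i)]
    [∀ i, Module.Free R (M i)] [∀ i, Module.Finite R (M i)]
    (a b : ℤ) (φ ψ : (Π k, M k) →ₗ[R] (Π k, M k))
    (hφ : ∀ i j : ι, deg j ≠ deg i + a → (LinearMap.proj j) ∘ₗ φ ∘ₗ (LinearMap.single R M i) = 0)
    (hψ : ∀ i j : ι, deg j ≠ deg i + b → (LinearMap.proj j) ∘ₗ ψ ∘ₗ (LinearMap.single R M i) = 0) :
    LinearMap.trace R (Π k, M k)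
      ((∑ i : ι, (LinearMap.single R M i) ∘ₗ (((-1 : R) ^ (deg i).natAbs) • (LinearMap.proj i : (Π k, M k) →ₗ[R] M i))) ∘ₗ (φ ∘ₗ ψ - ((-1 : R) ^ (a * b).natAbs) • (ψ ∘ₗ φ))) = 0 := by
  classical
  have T0 : ∀ T : (Π k, M k) →ₗ[R] (Π k, M k),
      (∀ i, LinearMap.proj i ∘ₗ T ∘ₗ LinearMap.single R M i = 0) → LinearMap.trace R _ T = 0 := by
    intro T hT
    have e : T = ∑ i, LinearMap.single R M i ∘ₗ (LinearMap.proj i ∘ₗ T) := by
      refine LinearMap.ext fun x => ?_
      rw [LinearMap.sum_apply]
      exact (Finset.univ_sum_single (T x)).symm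
    rw [e, map_sum]
    refine Finset.sum_eq_zero fun i _ => ?_
    rw [LinearMap.trace_comp_comm', LinearMap.comp_assoc, hT, map_zero]
  have sgn : ∀ m : ℤ, (-1 : R) ^ m.natAbs = ((((-1 : ℤˣ) ^ m : ℤˣ) : ℤ) : R) := by
    intro m
    obtain ⟨k, rfl | rfl⟩ := m.eq_nat_or_neg
    · simp
    · rw [zpow_neg, zpow_natCast, ← inv_pow, inv_neg, inv_one]
      simp
  let P : (Π k, M k) →ₗ[R] (Π k, M k) :=
    ∑ i : ι, (LinearMap.single R M i) ∘ₗ (((-1 : R) ^ (deg i).natAbs) • (LinearMap.proj i : (Π k, M k) →ₗ[R] M i))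
  have hP : ∀ (x : Π k, M k) (j : ι), P x j = ((-1 : R) ^ (deg j).natAbs) • x j := by
    intro x j
    simp [P, LinearMap.sum_apply, Finset.sum_apply, Pi.single_apply]
  have hent : ∀ (χ : (Π k, M k) →ₗ[R] (Π k, M k)) (c : ℤ),
      (∀ i j : ι, deg j ≠ deg i + c → (LinearMap.proj j) ∘ₗ χ ∘ₗ (LinearMap.single R M i) = 0) →
      ∀ (i j : ι) (m : M i), deg j ≠ deg i + c → χ (Pi.single i m) j = 0 :=
    fun χ c h i j m hij => LinearMap.congr_fun (h i j hij) m
  have hc : ψ ∘ₗ P = ((-1 : R) ^ b.natAbs) • (P ∘ₗ ψ) := by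
    refine LinearMap.pi_ext fun i m => funext fun j => ?_
    have h1 : P (Pi.single i m) = ((-1 : R) ^ (deg i).natAbs) • Pi.single i m := by
      funext l
      rw [hP, Pi.smul_apply]
      rcases eq_or_ne l i with rfl | hl
      · rfl
      · rw [Pi.single_eq_of_ne hl, smul_zero, smul_zero]
    simp only [LinearMap.comp_apply, LinearMap.smul_apply, Pi.smul_apply, h1, map_smul, hP]
    by_cases hij : deg j = deg i + b
    · rw [smul_smul]
      congr 1
      rw [sgn, sgn, sgn, hij, zpow_add]
      push_cast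
      have h2 : (((((-1 : ℤˣ) ^ b : ℤˣ) : ℤ) : R)) * (((((-1 : ℤˣ) ^ b : ℤˣ) : ℤ) : R)) = 1 := by
        rw [← Int.cast_mul, ← Units.val_mul, Int.units_mul_self]
        simp
      linear_combination (-((((-1 : ℤˣ) ^ deg i : ℤˣ) : ℤ) : R)) * h2
    · rw [hent ψ b hψ i j m hij, smul_zero, smul_zero, smul_zero]
  show LinearMap.trace R _ (P ∘ₗ _) = 0
  rw [LinearMap.comp_sub, LinearMap.comp_smul, map_sub, map_smul]
  have hcyc : LinearMap.trace R _ (P ∘ₗ φ ∘ₗ ψ) = ((-1 : R) ^ b.natAbs) • LinearMap.trace R _ (P ∘ₗ ψ ∘ₗ φ) := by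
    rw [← LinearMap.comp_assoc, LinearMap.trace_comp_comm', ← LinearMap.comp_assoc, hc, LinearMap.smul_comp, map_smul, LinearMap.comp_assoc]
  rw [hcyc, ← sub_smul]
  by_cases hab : a + b = 0
  · have ha : a = -b := by omega
    subst ha
    rw [neg_mul, Int.natAbs_neg, Int.natAbs_mul, sub_smul, sub_eq_zero]
    congr 1
    rcases Nat.even_or_odd b.natAbs with h | h
    · rw [h.neg_one_pow, (h.mul_right _).neg_one_pow]
    · rw [h.neg_one_pow, (h.mul h).neg_one_pow]
  · rw [T0 (P ∘ₗ ψ ∘ₗ φ) (fun i => LinearMap.ext fun m => ?_), smul_zero]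
    show P (ψ (φ (Pi.single i m))) i = 0
    rw [hP, ← Finset.univ_sum_single (φ (Pi.single i m)), map_sum, Finset.sum_apply, Finset.sum_eq_zero, smul_zero]
    intro k _
    by_cases h1 : deg k = deg i + a
    · exact hent ψ b hψ k i _ (by omega)
    · rw [hent φ a hφ i k m h1]
      simp

end Groth.Agent.S14118
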