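import Groth.Statements.S14121
import Groth.Agent.ValEssFt.Criterion

set_option autoImplicit false
universe u
open CategoryTheory AlgebraicGeometry
open ValCrit

namespace Groth.Agent.S14121

/-- For schemes, let every affine open of the base `S` have excellent coordinate ring, let `g : Y ⟶ S`
be locally of finite type and `f : X ⟶ Y` quasi-compact and locally of finite type. Then the
uniqueness part of the valuative criterion for `f` over discrete valuation rings (every commutative
square `Spec K ⟶ X`, `Spec R ⟶ Y` with `R` a discrete valuation ring and `K` its fraction field has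
at most one lift `Spec R ⟶ X`) holds as soon as it holds for the squares whose ring `R` is
essentially of finite type over `S`, i.e. `Spec R ⟶ Y ⟶ S` factors through some affine open `U` of
`S` by a ring map `Γ(S, U) ⟶ R` that is essentially of finite type; and conversely. (The published
statement is for algebraic spaces and treats existence and uniqueness together; this row is the
uniqueness half for schemes.) -/
theorem result (S : Scheme.{u})
    (hS : ∀ U : S.affineOpens, EGA4.IsExcellent Γ(S, U.1))
    {X Y : Scheme.{u}} (f : X ⟶ Y) (g : Y ⟶ S)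
    [QuasiCompact f] [LocallyOfFiniteType f] [LocallyOfFiniteType g] :
    (∀ sq : ValuativeCommSq f, IsDiscreteValuationRing sq.R → Subsingleton sq.commSq.LiftStruct) ↔
    (∀ sq : ValuativeCommSq f, IsDiscreteValuationRing sq.R →
      (∃ (U : S.affineOpens) (φ : Γ(S, U.1) ⟶ CommRingCat.of sq.R),
        Spec.map φ ≫ U.2.fromSpec = sq.i₂ ≫ g ∧ φ.hom.EssFiniteType) →
      Subsingleton sq.commSq.LiftStruct) := by
  refine ⟨fun h sq hd _ => h sq hd, fun h sq _ => ?_⟩
  haveI := Groth.Agent.ValEssFt.isLocallyNoetherian_of_excellent S hS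
  haveI : IsLocallyNoetherian Y := LocallyOfFiniteType.isLocallyNoetherian g
  haveI : IsLocallyNoetherian X := LocallyOfFiniteType.isLocallyNoetherian f
  haveI : IsLocallyNoetherian (Limits.pullback f f) := LocallyOfFiniteType.isLocallyNoetherian (Limits.pullback.fst f f)
  have hex : ValuativeCriterion.Existence (Limits.pullback.diagonal f) := by
    refine Groth.Agent.ValEssFt.existence_of_eft S hS (Limits.pullback.diagonal f) (Limits.pullback.fst f f ≫ f ≫ g) ?_
    intro sd hd ⟨U, φ, hU, hφ⟩
    have e1 : sd.i₁ = Spec.map (CommRingCat.ofHom (algebraMap sd.R sd.K)) ≫ sd.i₂ ≫ Limits.pullback.fst f f := by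
      rw [← sd.commSq.w_assoc]; simp
    have e2 : sd.i₁ = Spec.map (CommRingCat.ofHom (algebraMap sd.R sd.K)) ≫ sd.i₂ ≫ Limits.pullback.snd f f := by
      rw [← sd.commSq.w_assoc]; simp
    let sf : ValuativeCommSq f :=
      { R := sd.R, K := sd.K, i₁ := sd.i₁, i₂ := sd.i₂ ≫ Limits.pullback.fst f f ≫ f
        commSq := ⟨by conv_lhs => rw [e1, Category.assoc, Category.assoc]⟩ }
    haveI := h sf hd ⟨U, φ, by rw [hU]; simp [sf], hφ⟩
    let l1 : sf.commSq.LiftStruct :=
      { l := sd.i₂ ≫ Limits.pullback.fst f f, fac_left := e1.symm, fac_right := Category.assoc _ _ _ }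
    let l2 : sf.commSq.LiftStruct :=
      { l := sd.i₂ ≫ Limits.pullback.snd f f, fac_left := e2.symm
        fac_right := by rw [Category.assoc, ← Limits.pullback.condition] }
    have e : sd.i₂ ≫ Limits.pullback.fst f f = sd.i₂ ≫ Limits.pullback.snd f f :=
      congrArg CommSq.LiftStruct.l (Subsingleton.elim l1 l2)
    exact ⟨⟨⟨sd.i₂ ≫ Limits.pullback.fst f f, e1.symm, Limits.pullback.hom_ext (by simp) (by simp [e])⟩⟩⟩
  haveI := UniversallyClosed.of_valuativeCriterion (Limits.pullback.diagonal f) hex
  haveI : IsSeparated f := ⟨.of_isPreimmersion _ (Limits.pullback.diagonal f).isClosedMap.isClosed_range⟩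
  exact IsSeparated.valuativeCriterion f sq

end Groth.Agent.S14121
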