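import Groth.Statements.S14122
import Mathlib
-- import your own Groth.Agent.* helpers here

set_option autoImplicit false
universe u
open ValCrit

namespace Groth.Agent.S14122

/-- Let `R` be a discrete valuation ring with fraction field `K` and `g ∈ GL_N(K)` an element of finite
order. Then after passing to a finite extension `K'` of `K` and a discrete valuation ring `R'` of
`K'` dominating `R`, the element `g` becomes conjugate in `GL_N(K')` to an element of `GL_N(R')`.
(The published statement is that the classifying stack of `GL_N` over the integers satisfies a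
valuative condition, for discrete valuation rings essentially of finite type over the integers, on
extending finite-order generic automorphisms along nearby modifications; since vector bundles over a
discrete valuation ring are trivial, that condition is this conjugacy statement for such rings, and
this row states it for every discrete valuation ring, as the printed argument gives.) -/
theorem result
    (R : Type u) [CommRing R] [IsDomain R] [IsDiscreteValuationRing R]
    (K : Type u) [Field K] [Algebra R K] [IsFractionRing R K]
    (N : ℕ) (g : GL (Fin N) K) (hg : IsOfFinOrder g) :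
    ∃ (R' : Type u) (_ : CommRing R') (_ : IsDomain R') (_ : IsDiscreteValuationRing R')
      (K' : Type u) (_ : Field K') (_ : Algebra R' K') (_ : IsFractionRing R' K')
      (_ : Algebra R R') (_ : Algebra K K') (_ : Algebra R K')
      (_ : IsScalarTower R R' K') (_ : IsScalarTower R K K')
      (_ : Module.Finite K K') (_ : IsLocalHom (algebraMap R R'))
      (h : GL (Fin N) K') (g' : GL (Fin N) R'),
      h * Matrix.GeneralLinearGroup.map (algebraMap K K') g * h⁻¹ =
        Matrix.GeneralLinearGroup.map (algebraMap R' K') g' := by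
  classical
  let lin : GL (Fin N) K →* (Fin N → K) →ₗ[K] (Fin N → K) :=
    { toFun := fun x => Matrix.toLin' (x : Matrix (Fin N) (Fin N) K)
      map_one' := by simp [Module.End.one_eq_id]
      map_mul' := fun x y => by simp [Matrix.toLin'_mul, Module.End.mul_eq_comp] }
  obtain ⟨n, hn0, hn⟩ := isOfFinOrder_iff_pow_eq_one.mp hg
  let L : Submodule R (Fin N → K) :=
    Submodule.span R (Set.range fun p : Fin n × Fin N => lin (g ^ (p.1 : ℕ)) (Pi.single p.2 1))
  have hstab : ∀ m : ℕ, ∀ v ∈ L, lin (g ^ m) v ∈ L := by
    intro m v hv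
    induction hv using Submodule.span_induction with
    | mem x hx =>
      obtain ⟨p, rfl⟩ := hx
      refine Submodule.subset_span ⟨(⟨(m + p.1) % n, Nat.mod_lt _ hn0⟩, p.2), ?_⟩
      show lin (g ^ ((m + p.1) % n)) _ = lin (g ^ m) (lin (g ^ (p.1 : ℕ)) _)
      rw [← pow_mod_orderOf, Nat.mod_mod_of_dvd _ (orderOf_dvd_of_pow_eq_one hn), pow_mod_orderOf,
        pow_add, map_mul]
      rfl
    | zero => simp
    | add x y _ _ hx hy => rw [map_add]; exact add_mem hx hy
    | smul r x _ hx => rw [LinearMap.map_smul_of_tower]; exact L.smul_mem r hx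
  haveI : Module.Finite R L := Module.Finite.iff_fg.mpr (Submodule.fg_span (Set.finite_range _))
  haveI : Module.Free R L := Module.free_of_finite_type_torsion_free'
  let b0 := Module.Free.chooseBasis R L
  have hli : LinearIndependent K (fun j => (b0 j : Fin N → K)) :=
    (LinearIndependent.iff_fractionRing R K).mp (b0.linearIndependent.map' L.subtype L.ker_subtype)
  have hsp : ⊤ ≤ Submodule.span K (Set.range fun j => (b0 j : Fin N → K)) := by
    rw [← (Pi.basisFun K (Fin N)).span_eq, Submodule.span_le]
    rintro _ ⟨j, rfl⟩
    have hj : (Pi.basisFun K (Fin N) j) ∈ L :=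
      Submodule.subset_span ⟨(⟨0, hn0⟩, j), by simp [Pi.basisFun_apply]⟩
    have := congrArg (fun l : L => (l : Fin N → K)) (b0.sum_repr ⟨_, hj⟩)
    simp only [Submodule.coe_sum, Submodule.coe_smul_of_tower] at this
    rw [SetLike.mem_coe, ← this]
    refine Submodule.sum_mem _ fun i _ => ?_
    rw [← algebraMap_smul K (b0.repr _ i)]
    exact Submodule.smul_mem _ _ (Submodule.subset_span ⟨i, rfl⟩)
  let bK := Module.Basis.mk hli hsp
  let e : Module.Free.ChooseBasisIndex R L ≃ Fin N := bK.indexEquiv (Pi.basisFun K (Fin N))
  let b : Module.Basis (Fin N) K (Fin N → K) := bK.reindex e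
  have hb : ∀ j, b j = ((b0 (e.symm j) : L) : Fin N → K) := fun j => by simp [b, bK]
  let E : Matrix (Fin N) (Fin N) K := (Pi.basisFun K (Fin N)).toMatrix b
  let E' : Matrix (Fin N) (Fin N) K := b.toMatrix (Pi.basisFun K (Fin N))
  have hint : ∀ m : ℕ, ∃ M : Matrix (Fin N) (Fin N) R,
      M.map (algebraMap R K) = LinearMap.toMatrix b b (lin (g ^ m)) := by
    intro m
    refine ⟨Matrix.of fun i j =>
      b0.repr ⟨lin (g ^ m) (b j), hstab m _ (by rw [hb]; exact (b0 _).2)⟩ (e.symm i), ?_⟩
    ext i j
    set l : L := ⟨lin (g ^ m) (b j), hstab m _ (by rw [hb]; exact (b0 _).2)⟩ with hl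
    rw [LinearMap.toMatrix_apply, Matrix.map_apply, Matrix.of_apply]
    have h1 : lin (g ^ m) (b j) = ∑ i, algebraMap R K (b0.repr l (e.symm i)) • b i := by
      have := congrArg (fun l : L => (l : Fin N → K)) (b0.sum_repr l)
      simp only [Submodule.coe_sum, Submodule.coe_smul_of_tower] at this
      refine this.symm.trans ?_
      refine Fintype.sum_equiv e _ _ fun i => ?_
      rw [hb, Equiv.symm_apply_apply, algebraMap_smul]
    conv_rhs => rw [h1, b.repr_sum_self]
  obtain ⟨M, hM⟩ := hint 1
  obtain ⟨M', hM'⟩ := hint (n - 1)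
  have hinj : Function.Injective (fun A : Matrix (Fin N) (Fin N) R => A.map (algebraMap R K)) :=
    Matrix.map_injective (IsFractionRing.injective R K)
  have hone : ∀ a c : ℕ, a + c = n →
      LinearMap.toMatrix b b (lin (g ^ a)) * LinearMap.toMatrix b b (lin (g ^ c)) = 1 := by
    intro a c hac
    rw [← LinearMap.toMatrix_comp, ← Module.End.mul_eq_comp, ← map_mul, ← pow_add, hac, hn, map_one,
      Module.End.one_eq_id, LinearMap.toMatrix_id]
  refine ⟨R, inferInstance, inferInstance, inferInstance, K, inferInstance, inferInstance, inferInstance,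
    Algebra.id R, Algebra.id K, inferInstance, inferInstance, inferInstance, inferInstance,
    ⟨fun a ha => by simpa using ha⟩,
    ⟨E', E, b.toMatrix_mul_toMatrix_flip _, (Pi.basisFun K (Fin N)).toMatrix_mul_toMatrix_flip b⟩,
    ⟨M, M', hinj ?_, hinj ?_⟩, ?_⟩
  · show (M * M').map (algebraMap R K) = (1 : Matrix (Fin N) (Fin N) R).map (algebraMap R K)
    rw [Matrix.map_mul, hM, hM', Matrix.map_one _ (map_zero _) (map_one _)]
    exact hone 1 (n - 1) (by omega)
  · show (M' * M).map (algebraMap R K) = (1 : Matrix (Fin N) (Fin N) R).map (algebraMap R K)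
    rw [Matrix.map_mul, hM, hM', Matrix.map_one _ (map_zero _) (map_one _)]
    exact hone (n - 1) 1 (by omega)
  · apply Units.ext
    show E' * (g : Matrix (Fin N) (Fin N) K).map (algebraMap K K) * E = M.map (algebraMap R K)
    rw [hM, pow_one, Algebra.algebraMap_self, RingHom.coe_id, Matrix.map_id]
    have := basis_toMatrix_mul_linearMap_toMatrix_mul_basis_toMatrix (b := b)
      (b' := Pi.basisFun K (Fin N)) (c := b) (c' := Pi.basisFun K (Fin N)) (lin g)
    rw [← this]
    congr 2
    show _ = LinearMap.toMatrix (Pi.basisFun K (Fin N)) (Pi.basisFun K (Fin N))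
      (Matrix.toLin' (g : Matrix (Fin N) (Fin N) K))
    rw [LinearMap.toMatrix_eq_toMatrix', LinearMap.toMatrix'_toLin']

end Groth.Agent.S14122
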